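import Groth.Statements.S18128
import Mathlib
import Groth.Agent.Lib.BEExact.Basic
-- import your own Groth.Agent.* helpers here

set_option autoImplicit false
universe u
open CAlg

namespace Groth.Agent.S18128

/-- Local step of Buchsbaum–Eisenbud: let R be a Noetherian local ring with maximal ideal m, and 0 →
R^(n_e) → ⋯ → R^(n_1) → R^(n_0) a complex of finite free modules, the map R^(n_(i+1)) → R^(n_i)
being given by the matrix A i, with 1 ≤ e and e at most the depth of R (there is an R-regular
sequence of length e inside m). If for every prime ideal p ≠ m the complex of matrices over R_p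
obtained by localization is exact at R_p^(n_e), …, R_p^(n_1), then the complex is exact at R^(n_e),
…, R^(n_1). -/
theorem result
    {R : Type u} [CommRing R] [IsLocalRing R] [IsNoetherianRing R]
    (e : ℕ) (he : 1 ≤ e) (n : ℕ → ℕ) (A : (i : ℕ) → Matrix (Fin (n i)) (Fin (n (i + 1))) R)
    (hA : ∀ i, i + 2 ≤ e → A i * A (i + 1) = 0)
    (rs : List R) (hlen : rs.length = e) (hmem : ∀ x ∈ rs, x ∈ IsLocalRing.maximalIdeal R)
    (hreg : RingTheory.Sequence.IsRegular R rs)
    (hloc : ∀ (p : Ideal R) [p.IsPrime], p ≠ IsLocalRing.maximalIdeal R →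
      LinearMap.ker ((A (e - 1)).map (algebraMap R (Localization.AtPrime p))).mulVecLin = ⊥ ∧
        ∀ i, i + 2 ≤ e →
          LinearMap.ker ((A i).map (algebraMap R (Localization.AtPrime p))).mulVecLin =
            LinearMap.range ((A (i + 1)).map (algebraMap R (Localization.AtPrime p))).mulVecLin) :
    LinearMap.ker (A (e - 1)).mulVecLin = ⊥ ∧
      ∀ i, i + 2 ≤ e → LinearMap.ker (A i).mulVecLin = LinearMap.range (A (i + 1)).mulVecLin := by
  have hne : ∀ p : Ideal R, p.IsPrime → ¬ IsLocalRing.maximalIdeal R ≤ p → p ≠ IsLocalRing.maximalIdeal R :=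
    fun p _ h he => h he.ge
  have hdepth : ∀ j, j ≤ e → (j : ℕ∞) ≤ LocCoh.idealDepth (IsLocalRing.maximalIdeal R) (Fin (n j) → R) := fun j hj =>
    le_trans (by exact_mod_cast hj) (GrothLib.BEExact.le_idealDepth_free _ e rs hlen hmem hreg.toIsWeaklyRegular (n j))
  have hinj : Function.Injective (A (e - 1)).mulVecLin := by
    rw [← LinearMap.ker_eq_bot, LinearMap.ker_eq_bot']
    intro x hx
    refine GrothLib.FlatOff.tf_of_idealDepth (le_trans (by exact_mod_cast (by omega : 1 ≤ e - 1 + 1))
      (hdepth (e - 1 + 1) (by omega))) x fun a ha => ?_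
    have := GrothLib.BEExact.exists_pow_smul_mem (IsLocalRing.maximalIdeal R) ⊥ x (fun p hp hmp => ?_) a ha
    · exact this.imp fun n hn => (Submodule.mem_bot R).1 hn
    · obtain ⟨s, hs, hsx⟩ := GrothLib.BEExact.exists_smul_eq_zero_of_injective_map (A (e - 1))
        p.primeCompl (hloc p (hne p hp hmp)).1 x hx
      exact ⟨s, hs, (Submodule.mem_bot R).2 hsx⟩
  refine ⟨LinearMap.ker_eq_bot.2 hinj, fun i hi => ?_⟩
  obtain ⟨k, hk⟩ : ∃ k, e = i + 2 + k := ⟨e - (i + 2), by omega⟩
  induction k using Nat.strong_induction_on generalizing i with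
  | _ k ih =>
    refine le_antisymm (fun x hx => ?_) ?_
    · refine GrothLib.BEExact.mem_range_of_torsion (IsLocalRing.maximalIdeal R)
        (fun j => (A j).mulVecLin) e hinj hdepth i hi
        (fun j hj hj' => ih (e - (j + 2)) (by omega) j hj' (by omega)) x fun a ha => ?_
      refine GrothLib.BEExact.exists_pow_smul_mem (IsLocalRing.maximalIdeal R) _ x (fun p hp hmp => ?_) a ha
      obtain ⟨s, hs, hsx⟩ := GrothLib.BEExact.exists_smul_mem_range_of_map (A (i + 1))
        p.primeCompl (S := Localization.AtPrime p) x (by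
          rw [← (hloc p (hne p hp hmp)).2 i hi, LinearMap.mem_ker]
          refine funext fun k => ?_
          have h1 : algebraMap R (Localization.AtPrime p) ((A i).mulVec x k) = _ := RingHom.map_mulVec _ _ _ _
          rw [LinearMap.mem_ker, Matrix.mulVecLin_apply] at hx
          rw [hx, Pi.zero_apply, map_zero] at h1
          exact h1.symm)
      exact ⟨s, hs, hsx⟩
    · rintro _ ⟨y, rfl⟩
      rw [LinearMap.mem_ker, Matrix.mulVecLin_apply, Matrix.mulVecLin_apply, Matrix.mulVec_mulVec, hA i hi,
        Matrix.zero_mulVec]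

end Groth.Agent.S18128
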