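import Groth.Statements.S18129
import Groth.Agent.Lib.SurfRR28.Effective

set_option autoImplicit false
universe u
open CategoryTheory CategoryTheory.Limits AlgebraicGeometry
open Surf

namespace Groth.Agent.S18129

/-- Let X be a K3 surface over an algebraically closed field k of characteristic zero — an integral
scheme, smooth and proper over k, of dimension two, carrying an ample invertible module, whose
structure sheaf is a second exterior power of its sheaf of differentials (trivial canonical sheaf)
and with H^1(X, O_X) = 0. If L is an invertible O_X-module which is numerically trivial — the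
intersection number (L·M), the alternating sum χ(O_X) − χ(L) − χ(M) + χ(L ⊗ M) of Euler
characteristics, vanishes for every invertible O_X-module M — then L ≅ O_X. Consequently the natural
surjections from Pic(X) to the Néron–Severi group and to the group of numerical equivalence classes
are bijective. -/
theorem result (k : Type u) [Field k] [IsAlgClosed k] [CharZero k]
    (X : Scheme.{u}) [X.Over (Spec (CommRingCat.of k))] [IsIntegral X]
    [Smooth (X ↘ Spec (CommRingCat.of k))] (hdim : topologicalKrullDim X = 2)
    [IsProper (X ↘ Spec (CommRingCat.of k))]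
    (H : X.Modules) (hHa : CohB1.IsAmple H)
    (hK : Canon.IsTopDiff (X ↘ Spec (CommRingCat.of k)) 2 (Coh.structureModule X))
    (hq : Module.finrank k (Coh.HH X (Coh.structureModule X) 1) = 0)
    (L : X.Modules) (hL : PicF.IsInvertible L)
    (hnum : ∀ M : X.Modules, PicF.IsInvertible M →
      FGA.intNum k X 2 ![L, M] (Coh.structureModule X) = 0) :
    Nonempty (L ≅ Coh.structureModule X) := by
  obtain ⟨hs2, n, ι, hι, hιc⟩ := GrothLib.SurfRR28.exists_embedding k X hdim
  haveI := hs2
  haveI := hι
  have hd : topologicalKrullDim X = ((2 : ℕ) : WithBot ℕ∞) := hdim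
  have hO := GrothLib.Euler.isInvertible_structure (X := X)
  have hW1 : GrothLib.Cube.clsMod hO = 1 := GrothLib.SurfRR28.clsMod_structure
  obtain ⟨z, hz⟩ : ∃ z, z = GrothLib.Cube.clsMod hL := ⟨_, rfl⟩
  have hzero : ∀ M : X.Modules, ∀ hM : PicF.IsInvertible M,
      GrothLib.HodgeIndex.isect k z (GrothLib.Cube.clsMod hM) = 0 := fun M hM => by
    rw [hz, ← GrothLib.HodgeIndex.intNum_eq_isect k hd.le hHa hL hM, hnum M hM]
  have hRR := GrothLib.SurfRR28.riemann_roch k ι hιc _ hK hL
  rw [hnum L hL, hnum _ hO] at hRR
  have hh := fun (A : X.Modules) (B : X.Modules) (hA : PicF.IsInvertible A) (hB : PicF.IsInvertible B) =>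
    GrothLib.SurfRR28.hh_serre k ι hιc _ hK hO hA hB
  let L' := GrothLib.HodgeIndex.rep z⁻¹
  have hL' : PicF.IsInvertible L' := GrothLib.HodgeIndex.isInv_rep _
  have eL : Module.finrank k (Coh.HH X L 2) = Module.finrank k (Coh.HH X L' 0) :=
    hh L L' hL hL' (by rw [GrothLib.HodgeIndex.cls_rep, hW1, one_mul, hz]) (p := 2) le_rfl
  have eO : Module.finrank k (Coh.HH X (Coh.structureModule X) 2) = Module.finrank k (Coh.HH X (Coh.structureModule X) 0) :=
    hh _ _ hO hO (by rw [hW1, inv_one, mul_one]) (p := 2) le_rfl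
  rw [GrothLib.SurfRR28.euler_eq_three_terms k (hd := hd.le) hHa (GrothLib.Euler.isCoh_of_isInvertible hL),
    GrothLib.SurfRR28.euler_eq_three_terms k (hd := hd.le) hHa (GrothLib.Euler.isCoh_of_isInvertible hO), eL, eO,
    hq, GrothLib.ConnH0.finrank_H0_eq_one k] at hRR
  have key : GrothLib.Kodaira.PLe (1 : GrothLib.Cube.Pic X) z ∨ GrothLib.Kodaira.PLe (1 : GrothLib.Cube.Pic X) z⁻¹ := by
    by_cases h0 : Module.finrank k (Coh.HH X L 0) = 0
    · refine Or.inr ?_
      rw [← GrothLib.HodgeIndex.cls_rep z⁻¹]
      exact GrothLib.SurfRR28.pLe_one_of_nontrivial hL' (Module.nontrivial_of_finrank_pos (R := k) (by omega))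
    · exact Or.inl (hz ▸ GrothLib.SurfRR28.pLe_one_of_nontrivial hL
        (Module.nontrivial_of_finrank_pos (R := k) (Nat.pos_of_ne_zero h0)))
  have hz1 : z = 1 := by
    rcases key with h | h
    · exact GrothLib.Goodman.eq_one_of_pLe_of_degree_zero k hd hHa h (hzero H hHa.1)
    · refine inv_eq_one.1 (GrothLib.Goodman.eq_one_of_pLe_of_degree_zero k hd hHa h ?_)
      rw [GrothLib.HodgeIndex.isect_inv_left k hd.le, hzero H hHa.1, neg_zero]
  exact (GrothLib.Cube.clsMod_eq_one_iff hL).1 (hz ▸ hz1)

end Groth.Agent.S18129
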