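import Groth.Statements.S18133
import Groth.Agent.Lib.DecSh20.MuKernel

set_option autoImplicit false
set_option maxHeartbeats 2000000
set_option linter.style.haveILetI false
set_option backward.isDefEq.respectTransparency.types false
attribute [local irreducible] Curv2.euler
universe u
open CategoryTheory CategoryTheory.Limits AlgebraicGeometry
open ShStab

namespace Groth.Agent.S18133

/-- Let X be a K3 surface over an algebraically closed field k of characteristic zero — an integral
scheme, smooth and proper over k, of dimension two, carrying an ample invertible module, whose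
structure sheaf is a second exterior power of its sheaf of differentials (trivial canonical sheaf)
and with H^1(X, O_X) = 0. Let i : C → X be a closed immersion over k with C integral, smooth over k
and of dimension one, whose ideal sheaf I_C is invertible with the Picard group of X infinite cyclic
generated by its class, and let H be an ample O_X-module which is a tensor inverse of I_C (the
module O_X(C)). Let A be an invertible O_C-module and lam : O_X^e → i_*A an epimorphism inducing a
bijection H^0(X, O_X^e) → H^0(X, i_*A), with kernel F (the Lazarsfeld–Mukai bundle). Then F is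
coherent with torsion-free stalks and is slope-stable of dimension 2 with respect to H: it has no
coherent submodule with one-dimensional support, and every coherent submodule whose multiplicity
lies strictly between 0 and that of F has strictly smaller slope. -/
theorem result (k : Type u) [Field k] [IsAlgClosed k] [CharZero k]
    (X : Scheme.{u}) [X.Over (Spec (CommRingCat.of k))] [IsIntegral X]
    [Smooth (X ↘ Spec (CommRingCat.of k))] (hdim : topologicalKrullDim X = 2)
    [IsProper (X ↘ Spec (CommRingCat.of k))]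
    (H : X.Modules) (hHa : CohB1.IsAmple H)
    (hK : Canon.IsTopDiff (X ↘ Spec (CommRingCat.of k)) 2 (Coh.structureModule X))
    (hq : Module.finrank k (Coh.HH X (Coh.structureModule X) 1) = 0)
    [PicGrp.Law X]
    (C : Scheme.{u}) [C.Over (Spec (CommRingCat.of k))] [IsIntegral C]
    [Smooth (C ↘ Spec (CommRingCat.of k))] (hC : topologicalKrullDim C = 1)
    (i : C ⟶ X) [IsClosedImmersion i] (hi : i ≫ (X ↘ Spec (CommRingCat.of k)) = C ↘ Spec (CommRingCat.of k))
    (hI : PicF.IsInvertible (ClSub.idealMod i.ker))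
    (hgen : ∀ c : PicLoc.PicSet X, ∃ n : ℤ, c = PicGrp.cls (ClSub.idealMod i.ker) hI ^ n)
    (hfree : ∀ n : ℤ, PicGrp.cls (ClSub.idealMod i.ker) hI ^ n = 1 → n = 0)
    (Hc : X.Modules) (hHc : ClSub.IsInverseOf Hc (ClSub.idealMod i.ker)) (hHca : CohB1.IsAmple Hc)
    (A : C.Modules) (hA : PicF.IsInvertible A) (e : ℕ)
    (lam : FlatMod.freeMod X e ⟶ (Coh.push i).obj A) [Epi lam]
    (hlam : Function.Bijective (Sheaf.H.map ((SheafOfModules.toSheaf _).map lam) 0)) :
    Coh.IsCoh (kernel lam) ∧ TorSh.IsTorsionFree (kernel lam) ∧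
      ShStab.IsMuStable k X Hc (kernel lam) 2 := by
  open GrothLib GrothLib.Snapper in
  · haveI := Euler.isNoetherian_of_proper (X := X) k
    haveI : IsProper (C ↘ Spec (CommRingCat.of k)) := hi ▸ inferInstance
    haveI := Euler.isNoetherian_of_proper (X := C) k
    have hN := Hilb20.isNormalScheme_of_smooth (X := X) k
    have hNC := Hilb20.isNormalScheme_of_smooth (X := C) k
    have hdim' : topologicalKrullDim X = ((2 : ℕ) : WithBot ℕ∞) := hdim
    have hdimC : topologicalKrullDim C = ((1 : ℕ) : WithBot ℕ∞) := by exact_mod_cast hC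
    have hu : DimLT (Set.univ : Set X) 3 := Kleiman.dimLT_univ hdim'.le
    have hLi : PicF.IsInvertible Hc := hHca.1
    have hOi : PicF.IsInvertible (Coh.structureModule X) := Euler.isInvertible_structure
    have hOc : Coh.IsCoh (Coh.structureModule X) := Kleiman.isCoh_O k
    have hinv := inv_eq_of_mul_eq_one_right ((PicGrp.cls_mul_cls_eq_one_iff hLi hI).mpr hHc)
    have hgen' : ∀ c : PicLoc.PicSet X, ∃ n : ℤ, c = PicGrp.cls Hc hLi ^ n := fun c => by
      obtain ⟨n, hn⟩ := hgen c
      exact ⟨-n, by rw [hn, ← hinv, inv_zpow, ← zpow_neg]⟩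
    have hAc := Euler.isCoh_of_isInvertible hA
    let P : X.Modules := (Coh.push i).obj A
    have hPc : Coh.IsCoh P := K0Sub.isCoh_push i hAc
    have hEc : Coh.IsCoh (FlatMod.freeMod X e) := DegDet.isCoh_freeMod X e
    have hF : Coh.IsCoh (kernel lam) := QCoh.isCoh_kernel lam hEc hPc
    have hEtf : TorSh.IsTorsionFree (FlatMod.freeMod X e) :=
      DecSh20.isTorsionFree_of_locFree (K0Sub.isFinLocFreeOfRank_freeMod e)
    have hFtf := DecSh20.isTorsionFree_of_mono (kernel.ι lam) hEtf
    have hpF := DecSh20.isPure_of_torsionFree_surface (k := k) hdim' hF hFtf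
    obtain ⟨pO, hpO⟩ := Hilb20.exists_isHilbPoly (k := k) hHca hOc (hu.mono (Set.subset_univ _))
    have hAp : 0 < StabCat.alpha 2 pO := Hilb20.alpha_pos_self hHca hOc
      (fun h => (Hilb20.support_eq_empty_of_isZero h ▸ Kleiman.mem_support_structure (genericPoint X) :))
      (DecSh20.isPure_of_isInvertible (k := k) hN hdim' hOi) hpO
    have hpA : ShStab.IsPure C A 1 :=
      Hilb20.isPure_of_sp_injective (Ref1.injective_sp_of_isRef1 hNC (FacDiv.isRef1_of_isInvertible hA)) hdimC
    -- some basis section is nonzero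
    obtain ⟨j, hj⟩ : ∃ j, Sigma.ι (fun _ : Fin e => Coh.structureModule X) j ≫ lam ≠ 0 := by
      by_contra hall
      push Not at hall
      have h0 : lam = 0 := Sigma.hom_ext _ _ fun j => by rw [hall j, Limits.comp_zero]
      have hz : IsZero P := IsZero.of_epi_eq_zero lam h0
      obtain ⟨t, ht⟩ := Ref1.exists_gen_of_isInvertible hA (genericPoint C)
      obtain ⟨w, hw⟩ := (QCoh.pushStalkHom_bijective i (genericPoint C) A i.isClosedEmbedding.isInducing).2 t
      haveI : Subsingleton (P.presheaf.stalk (i (genericPoint C))) :=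
        QCoh.stalk_subsingleton_of_notMem (by rw [Hilb20.support_eq_empty_of_isZero hz]; exact id)
      refine ht.ne_zero ?_
      rw [← hw, @Subsingleton.elim _ ‹Subsingleton (P.presheaf.stalk (i (genericPoint C)))› w 0]
      exact map_zero _
    let g : Coh.structureModule X ⟶ P := Sigma.ι (fun _ : Fin e => Coh.structureModule X) j ≫ lam
    have he : 0 < e := Fin.pos j
    have hd := DecSh20.dimLT_cokernel_push (k := k) i hdimC hNC hA g hj
    -- the multiplicity of the direct image
    obtain ⟨pP, hpP⟩ := Hilb20.exists_isHilbPoly (k := k) hHca hPc (hu.mono (Set.subset_univ _))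
    have hrange : DimLT (CohB1.support P) 2 :=
      (Hilb20.dimLT_range_of_univ i (Kleiman.dimLT_univ hdimC.le)).mono (QCoh.support_pushforward_subset_range i A)
    have hP2 : StabCat.alpha 2 pP = 0 := Hilb20.alpha_eq_zero hHca hPc hrange hpP
    have hP1 : StabCat.alpha 1 pP ≤ StabCat.alpha 2 pO := by
      have hIm := Hilb20.isCoh_image (k := k) g hOc hPc
      have hK := QCoh.isCoh_kernel g hOc hPc
      obtain ⟨w, hS⟩ := QCoh.shortExact_kernel_image g
      obtain ⟨pK, hpK⟩ := Hilb20.exists_isHilbPoly (k := k) hHca hK (hu.mono (Set.subset_univ _))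
      obtain ⟨pI, hpI⟩ := Hilb20.exists_isHilbPoly (k := k) hHca hIm (hu.mono (Set.subset_univ _))
      have e1 := Hilb20.eq_add_of_shortExact hLi hS hK hOc hIm hpK hpO hpI
      obtain ⟨hCo, -, pC, hpC, e2⟩ := Hilb20.exists_quotient_poly hHca hIm hPc (Abelian.image.ι g) hpI hpP
      have hz : g ≫ cokernel.π (Abelian.image.ι g) = 0 := by
        rw [← reassoc_of% (Abelian.image.fac g), cokernel.condition, Limits.comp_zero]
      haveI : Epi (cokernel.desc g (cokernel.π (Abelian.image.ι g)) hz) := by
        haveI : Epi (cokernel.π g ≫ cokernel.desc g (cokernel.π (Abelian.image.ι g)) hz) := by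
          rw [cokernel.π_desc]; infer_instance
        exact epi_of_epi (cokernel.π g) _
      have hC1 := Hilb20.alpha_eq_zero (d := 1) hHca hCo
        (hd.mono (QCoh.support_subset_of_epi (cokernel.desc g (cokernel.π (Abelian.image.ι g)) hz))) hpC
      have hII : Coh.IsCoh (ClSub.idealMod i.ker) := Euler.isCoh_of_isInvertible hI
      obtain ⟨pJ, hpJ⟩ := Hilb20.exists_isHilbPoly (k := k) hHca hII (hu.mono (Set.subset_univ _))
      obtain ⟨⟨eJ⟩⟩ : Nonempty (Nonempty (ShStab.twist X Hc (ClSub.idealMod i.ker) 1 ≅ Coh.structureModule X)) :=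
        ⟨⟨(DecSh20.nonempty_twist_one Hc _).some ≪≫ GrTilde.tensorModComm _ _ ≪≫ hHc.some⟩⟩
      have hpJ' := Hilb20.isHilbPoly_congr eJ (DecSh20.isHilbPoly_twist hpJ 1)
      obtain ⟨a2, a1⟩ := DecSh20.alpha_comp_shift
        (Hilb20.degree_lt_of_dimLT hLi hII (hu.mono (Set.subset_univ _)) hpJ) ((1 : ℕ) : ℚ)
      rw [← Hilb20.isHilbPoly_unique hpO hpJ'] at a1 a2
      let incl : ClSub.idealMod i.ker ⟶ kernel g :=
        kernel.lift g (ClSub.idealModι i.ker) (DecSh20.idealModι_comp_push i g)
      haveI : Mono incl := by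
        haveI : Mono (incl ≫ kernel.ι g) := by
          rw [kernel.lift_ι]
          exact inferInstanceAs (Mono (kernel.ι (ClSub.toSubscheme i.ker)))
        exact mono_of_mono incl (kernel.ι g)
      have hKz : ¬ IsZero (kernel g) := fun h => by
        have := Hilb20.alpha_le_of_mono hHca hII hK (hu.mono (Set.subset_univ _)) incl hpJ hpK
        rw [Hilb20.isHilbPoly_unique hpK (Hilb20.isHilbPoly_of_isZero h), ← a2] at this
        simp [StabCat.alpha] at this
        have := hAp
        simp [StabCat.alpha] at this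
        linarith
      obtain ⟨k2, -, -⟩ := DecSh20.alpha_rankOne hN hdim' hHca hOi (kernel.ι g) hK hKz hpK hpO
      have k1 := Hilb20.alpha_pred_le_of_alpha_eq (d := 2) (by norm_num) hHca hII hK (hu.mono (Set.subset_univ _))
        incl hpJ hpK (by rw [k2, a2])
      simp only [show (2 : ℕ) - 1 = 1 from rfl] at k1
      have e1' := congrArg (StabCat.alpha 1) e1
      rw [Hilb20.alpha_add] at e1'
      rw [e2, Hilb20.alpha_add, hC1, add_zero]
      rw [← a2] at a1
      push_cast at a1
      linarith
    -- the kernel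
    obtain ⟨pF, hpF'⟩ := Hilb20.exists_isHilbPoly (k := k) hHca hF (hu.mono (Set.subset_univ _))
    have eE := Hilb20.eq_add_of_shortExact hLi
      (S := ShortComplex.mk (kernel.ι lam) lam (kernel.condition lam))
      (ShortComplex.ShortExact.mk' (ShortComplex.exact_of_f_is_kernel _ (kernelIsKernel lam)) inferInstance inferInstance)
      hF hEc hPc hpF' (DecSh20.isHilbPoly_freeMod hLi hpO e) hpP
    have hF2 : StabCat.alpha 2 pF = (e : ℚ) * StabCat.alpha 2 pO := by
      have := congrArg (StabCat.alpha 2) eE
      rw [Hilb20.alpha_add, hP2, add_zero] at this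
      rw [← this]
      simp [StabCat.alpha]; ring
    have hF1 : StabCat.alpha 1 pF = (e : ℚ) * StabCat.alpha 1 pO - StabCat.alpha 1 pP := by
      have := congrArg (StabCat.alpha 1) eE
      rw [Hilb20.alpha_add] at this
      have h' : StabCat.alpha 1 (Polynomial.C (e : ℚ) * pO) = (e : ℚ) * StabCat.alpha 1 pO := by simp [StabCat.alpha]
      linarith
    have he' : (0 : ℚ) < e := by exact_mod_cast he
    have hFz : ¬ IsZero (kernel lam) := fun h => by
      rw [Hilb20.isHilbPoly_unique hpF' (Hilb20.isHilbPoly_of_isZero h)] at hF2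
      have : (e : ℚ) * StabCat.alpha 2 pO = 0 := by rw [← hF2]; simp [StabCat.alpha]
      nlinarith [mul_pos he' hAp]
    refine ⟨hF, hFtf, hF, hFz, hpF _ (𝟙 _) inferInstance hF hFz, fun G u hu' hG => ?_,
      fun G u hu' hG pG pE hpG hpE hpos hlt => ?_⟩
    · haveI := hu'
      by_cases h0 : IsZero G
      · rw [Hilb20.support_eq_empty_of_isZero h0]
        haveI : IsEmpty (TopologicalSpace.IrreducibleCloseds (∅ : Set X)) :=
          ⟨fun Z => Z.isIrreducible.nonempty.choose.2⟩
        rw [topologicalKrullDim, Order.krullDim_eq_bot]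
        simp
      · rw [hpF G u hu' hG h0]
        decide
    haveI := hu'
    obtain rfl := Hilb20.isHilbPoly_unique hpE hpF'
    obtain ⟨r, hre, r2, m, hm, r1, hw⟩ := DecSh20.alpha_sub_free hdim' hHca hLi hgen' hpO e G
      (fun j => (u ≫ kernel.ι lam) ≫ FinCov.proj X e j)
      (fun W q hq => by
        rw [← cancel_mono (u ≫ kernel.ι lam), Limits.zero_comp]
        exact DecSh20.proj_jointly_mono _ fun j => by rw [Category.assoc]; exact hq j) hG pG hpG
    have hr0 : (0 : ℚ) < r := by
      by_contra h
      have : (r : ℚ) = 0 := le_antisymm (le_of_not_gt h) (Nat.cast_nonneg r)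
      rw [r2, this, zero_mul] at hpos
      exact lt_irrefl 0 hpos
    have hre' : (r : ℚ) < e := by
      rw [r2, hF2] at hlt
      exact lt_of_mul_lt_mul_right hlt hAp.le
    rcases lt_or_eq_of_le hm with hm' | hm'
    · show StabCat.alpha 1 pG / StabCat.alpha 2 pG < StabCat.alpha 1 pE / StabCat.alpha 2 pE
      rw [r2, r1, hF2, hF1, div_lt_div_iff₀ (mul_pos hr0 hAp) (mul_pos he' hAp)]
      have hm1 : (m : ℚ) ≤ -1 := by exact_mod_cast (show m ≤ -1 by omega)
      have h1 := mul_le_mul_of_nonneg_left hP1 hr0.le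
      have h2 := mul_lt_mul_of_pos_right hre' hAp
      have h3 := mul_le_mul_of_nonneg_left hm1 (mul_pos he' hAp).le
      have h4 : (r : ℚ) * StabCat.alpha 1 pP + (e : ℚ) * StabCat.alpha 2 pO * m < 0 := by nlinarith
      nlinarith [mul_neg_of_neg_of_pos h4 hAp]
    exfalso
    have hG0 : ¬ IsZero G := fun h => by
      rw [Hilb20.isHilbPoly_unique hpG (Hilb20.isHilbPoly_of_isZero h)] at hpos
      simp [StabCat.alpha] at hpos
    obtain ⟨K, v, q, hv, hq, hK, hK0, hdq⟩ := hw hm' hG0
    haveI := hv
    haveI := hq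
    obtain ⟨ψ, hψ0, hψ⟩ := DecSh20.exists_section_of_sub (k := k) hdim' (v ≫ u ≫ kernel.ι lam) q hK hK0 hdq
    have hzero : ψ ≫ lam = 0 := by
      have h1 := hψ lam (by simp [kernel.condition]) hPc
      rw [← Abelian.image.fac (ψ ≫ lam), DecSh20.hom_push_eq_zero' (k := k) i hAc hpA
        (Hilb20.isCoh_image (k := k) (ψ ≫ lam) hOc hPc) h1 (Abelian.image.ι (ψ ≫ lam)), Limits.comp_zero]
    refine hψ0 (CurveMult.hom_ext_one _ _ ?_)
    let x := (ProjCoh.H0top (FlatMod.freeMod X e)).symm (ψ.app ⊤ (FinCov.one X ⊤))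
    have hx : x = 0 := by
      refine hlam.1 ((ProjCoh.H0top ((Coh.push i).obj A)).injective ?_)
      rw [map_zero, map_zero]
      refine (ProjCoh.H0top_map _ x).trans ?_
      show lam.app ⊤ ((ProjCoh.H0top (FlatMod.freeMod X e)) x) = 0
      rw [AddEquiv.apply_symm_apply]
      show (ψ ≫ lam).app ⊤ (FinCov.one X ⊤) = 0
      rw [hzero]
      rfl
    have := congrArg (ProjCoh.H0top (FlatMod.freeMod X e)) hx
    rw [AddEquiv.apply_symm_apply, map_zero] at this
    rw [this]
    rfl

end Groth.Agent.S18133
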