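import Groth.Statements.S18132
import Groth.Agent.S18133
import Groth.Agent.Lib.ParHilb.KerIm
import Groth.Agent.Lib.HodgeIndex.NegCurves
import Groth.Agent.Lib.VA.Powers
import Groth.Agent.Lib.Hilb20.Simple

set_option autoImplicit false
universe u
open CategoryTheory CategoryTheory.Limits AlgebraicGeometry
open Surf

namespace Groth.Agent.S18132

set_option maxHeartbeats 1000000
set_option backward.isDefEq.respectTransparency false
open GrothLib in
open GrothLib.Cube (clsMod) in
open GrothLib.HodgeIndex (isect cCl) in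
/-- If `Pic X` is generated by the ideal of a curve, the dual of that ideal is ample. -/
theorem exists_ample_inverse {k : Type u} [Field k] [IsAlgClosed k]
    {X : Scheme.{u}} [X.Over (Spec (CommRingCat.of k))] [IsIntegral X]
    [Smooth (X ↘ Spec (CommRingCat.of k))] (hdim : topologicalKrullDim X = 2)
    [IsProper (X ↘ Spec (CommRingCat.of k))]
    {H : X.Modules} (hHa : CohB1.IsAmple H) [PicGrp.Law X]
    {C : Scheme.{u}} [IsIntegral C] (hC : topologicalKrullDim C = 1) (i : C ⟶ X) [IsClosedImmersion i]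
    (hI : PicF.IsInvertible (ClSub.idealMod i.ker))
    (hgen : ∀ c : PicLoc.PicSet X, ∃ n : ℤ, c = PicGrp.cls (ClSub.idealMod i.ker) hI ^ n) :
    ∃ Hc : X.Modules, ClSub.IsInverseOf Hc (ClSub.idealMod i.ker) ∧ CohB1.IsAmple Hc := by
  haveI := Euler.isNoetherian_of_proper (X := X) k
  have hdim' : topologicalKrullDim X = ((2 : ℕ) : WithBot ℕ∞) := hdim
  haveI : IsIntegral i.ker.subscheme := IsIntegral.of_isIso i.toImage
  have hCd : topologicalKrullDim (i.ker.support : Set X) = 1 := by
    rw [← i.ker.range_subschemeι,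
      ← i.ker.subschemeι.isClosedEmbedding.isEmbedding.toHomeomorph.isHomeomorph.topologicalKrullDim_eq,
      ← i.toImage.homeomorph.isHomeomorph.topologicalKrullDim_eq, hC]
  obtain ⟨K, hK, eK⟩ := VA.exists_inverse hI
  have hKI := Ample.isInvertible_tensorMod hK hI
  have hinv : Nonempty (CohB1.tensorMod K (ClSub.idealMod i.ker) ≅ Coh.structureModule X) :=
    (Cube.clsMod_eq_one_iff hKI).1 (by rw [Cube.clsMod_tensorMod hK hI, eK, inv_mul_cancel])
  have hpos := HodgeIndex.isect_ample_curve_pos k hdim' (inferInstance : IsIntegral i.ker.subscheme) hCd hHa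
  have hc : cCl i.ker = (clsMod hI)⁻¹ := by rw [cCl, dif_pos hI]
  obtain ⟨n, hn⟩ := hgen (PicGrp.cls H hHa.1)
  rcases n with j | j
  · exfalso
    have h : PicGrp.cls H hHa.1 =
        PicGrp.cls (CohB1.tensorPow (ClSub.idealMod i.ker) j) (Ample.isInvertible_tensorPow hI j) := by
      rw [Kodaira.cls_pow hI, hn, Int.ofNat_eq_natCast, zpow_natCast]
    obtain ⟨e⟩ := (PicGrp.cls_eq_cls_iff _ _).1 h
    have e' := (Cube.clsMod_eq_iff hHa.1 (Ample.isInvertible_tensorPow hI j)).2 ⟨e⟩
    rw [Cube.clsMod_tensorPow hI] at e'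
    have hself := HodgeIndex.isect_self_pos k hdim'.le hdim' hHa
    rw [hc, HodgeIndex.isect_inv_right k hdim'.le] at hpos
    conv at hself => arg 2; arg 3; rw [e']
    rw [HodgeIndex.isect_pow_right k hdim'.le] at hself
    have := mul_nonpos_of_nonneg_of_nonpos (Int.natCast_nonneg j) (show isect k (clsMod hHa.1) (clsMod hI) ≤ 0 by omega)
    omega
  · have hT := Ample.isInvertible_tensorPow hI (j + 1)
    have h : PicGrp.cls H hHa.1 * PicGrp.cls (CohB1.tensorPow (ClSub.idealMod i.ker) (j + 1)) hT = 1 := by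
      rw [Kodaira.cls_pow hI, hn, zpow_negSucc, inv_mul_cancel]
    obtain ⟨e⟩ := (PicGrp.cls_mul_cls_eq_one_iff hHa.1 hT).1 h
    have e' := (Cube.clsMod_eq_one_iff (Ample.isInvertible_tensorMod hHa.1 hT)).2 ⟨e⟩
    rw [Cube.clsMod_tensorMod hHa.1 hT, Cube.clsMod_tensorPow hI] at e'
    obtain ⟨e''⟩ := (Cube.clsMod_eq_iff hHa.1 (Ample.isInvertible_tensorPow hK (j + 1))).1 (by
      rw [Cube.clsMod_tensorPow hK, eK, inv_pow]; exact eq_inv_of_mul_eq_one_left e')
    exact ⟨K, hinv, (Ample.isAmple_tensorPow_iff hK j.succ_pos).2 ((Ample.isAmple_iff_of_iso e'').1 hHa)⟩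


/-- Simplicity of Lazarsfeld–Mukai bundles: let X be a K3 surface over an algebraically closed field k
of characteristic zero — an integral scheme, smooth and proper over k, of dimension two, carrying an
ample invertible module, whose structure sheaf is a second exterior power of its sheaf of
differentials (trivial canonical sheaf) and with H^1(X, O_X) = 0. Let i : C → X be a closed
immersion over k with C integral, smooth over k and of dimension one, whose ideal sheaf I_C is
invertible with the Picard group of X infinite cyclic generated by its class. Let A be an invertible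
O_C-module and lam : O_X^e → i_*A an epimorphism from the free module of rank e inducing a bijection
H^0(X, O_X^e) → H^0(X, i_*A), with kernel F (the Lazarsfeld–Mukai bundle of (C, A)). Then F is
simple: for every endomorphism φ of F there is c ∈ k with φ(s) = c·s for every local section s of F.
(The published proof passes through the slope-stability of F with respect to O_X(C): a nonzero
endomorphism of a slope-stable torsion-free module is an isomorphism, and subtracting an eigenvalue
of φ at a closed point then forces φ to be a scalar.) -/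
theorem result (k : Type u) [Field k] [IsAlgClosed k] [CharZero k]
    (X : Scheme.{u}) [X.Over (Spec (CommRingCat.of k))] [IsIntegral X]
    [Smooth (X ↘ Spec (CommRingCat.of k))] (hdim : topologicalKrullDim X = 2)
    [IsProper (X ↘ Spec (CommRingCat.of k))]
    (H : X.Modules) (hHa : CohB1.IsAmple H)
    (hK : Canon.IsTopDiff (X ↘ Spec (CommRingCat.of k)) 2 (Coh.structureModule X))
    (hq : Module.finrank k (Coh.HH X (Coh.structureModule X) 1) = 0)
    [PicGrp.Law X]
    (C : Scheme.{u}) [C.Over (Spec (CommRingCat.of k))] [IsIntegral C]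
    [Smooth (C ↘ Spec (CommRingCat.of k))] (hC : topologicalKrullDim C = 1)
    (i : C ⟶ X) [IsClosedImmersion i] (hi : i ≫ (X ↘ Spec (CommRingCat.of k)) = C ↘ Spec (CommRingCat.of k))
    (hI : PicF.IsInvertible (ClSub.idealMod i.ker))
    (hgen : ∀ c : PicLoc.PicSet X, ∃ n : ℤ, c = PicGrp.cls (ClSub.idealMod i.ker) hI ^ n)
    (hfree : ∀ n : ℤ, PicGrp.cls (ClSub.idealMod i.ker) hI ^ n = 1 → n = 0)
    (A : C.Modules) (hA : PicF.IsInvertible A) (e : ℕ)
    (lam : FlatMod.freeMod X e ⟶ (Coh.push i).obj A) [Epi lam]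
    (hlam : Function.Bijective (Sheaf.H.map ((SheafOfModules.toSheaf _).map lam) 0))
    (φ : kernel lam ⟶ kernel lam) :
    ∃ c : k, ∀ (V : X.Opens) (s : (kernel lam).val.obj (Opposite.op V)),
        (φ.val.app (Opposite.op V)) s =
          (X.ringCatSheaf.obj.map (homOfLE (le_top : V ≤ ⊤)).op
            (Coh.toGlobal (X ↘ Spec (CommRingCat.of k)) c : X.ringCatSheaf.obj.obj (Opposite.op ⊤))) • s := by
  haveI := GrothLib.Euler.isNoetherian_of_proper (X := X) k
  have hdim' : topologicalKrullDim X = ((2 : ℕ) : WithBot ℕ∞) := hdim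
  obtain ⟨Hc, hHc, hHca⟩ := exists_ample_inverse (k := k) hdim hHa hC i hI hgen
  obtain ⟨hF, hFtf, hst⟩ :=
    S18133.result k X hdim H hHa hK hq C hC i hi hI hgen hfree Hc hHc hHca A hA e lam hlam
  have hpF := GrothLib.DecSh20.isPure_of_torsionFree_surface (k := k) hdim' hF hFtf
  obtain ⟨c, hc⟩ := GrothLib.Hilb20.exists_not_isIso_smulMod_sub (X ↘ Spec (CommRingCat.of k)) hF hst.2.1 φ
  have e : φ = GrothLib.Euler.smulMod (kernel lam) (Coh.toGlobal (X ↘ Spec (CommRingCat.of k)) c) := by
    refine (sub_eq_zero.1 (by_contra fun h => hc ?_)).symm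
    obtain ⟨P, hP⟩ := GrothLib.Hilb20.exists_isHilbPoly (k := k) hHca hF
      (GrothLib.Hilb20.isPure_self_dimLT hF hpF)
    haveI := (GrothLib.Hilb20.mono_and_dimLT_of_isMuStable k (X := X) (n := 2) (by norm_num) hHca hpF hpF hst hst hP hP
      le_rfl h).1
    exact GrothLib.ParHilb.isIso_of_hilbPoly_eq (k := k) hHca hF hF _ hP hP
  refine ⟨c, fun V s => ?_⟩
  rw [e]
  exact GrothLib.Euler.smulMod_app (kernel lam) (Coh.toGlobal (X ↘ Spec (CommRingCat.of k)) c) V s

end Groth.Agent.S18132
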