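import Groth.Statements.S18130
import Groth.Agent.S18132
import Groth.Agent.Lib.LM28.End

set_option autoImplicit false
universe u
open CategoryTheory CategoryTheory.Limits AlgebraicGeometry
open Surf

namespace Groth.Agent.S18130

/-- Let X be a K3 surface over an algebraically closed field k of characteristic zero — an integral
scheme, smooth and proper over k, of dimension two, carrying an ample invertible module, whose
structure sheaf is a second exterior power of its sheaf of differentials (trivial canonical sheaf)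
and with H^1(X, O_X) = 0. Let i : C → X be a closed immersion over k with C integral, smooth over k
and of dimension one, whose ideal sheaf I_C is invertible and such that the Picard group of X is
infinite cyclic, generated by the class of I_C (equivalently of O_X(C)). Then for every invertible
O_C-module A the Brill–Noether number is non-negative: h^0(C, A) · h^1(C, A) ≤ g(C), where g(C) =
dim_k H^1(C, O_C). -/
theorem result (k : Type u) [Field k] [IsAlgClosed k] [CharZero k]
    (X : Scheme.{u}) [X.Over (Spec (CommRingCat.of k))] [IsIntegral X]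
    [Smooth (X ↘ Spec (CommRingCat.of k))] (hdim : topologicalKrullDim X = 2)
    [IsProper (X ↘ Spec (CommRingCat.of k))]
    (H : X.Modules) (hHa : CohB1.IsAmple H)
    (hK : Canon.IsTopDiff (X ↘ Spec (CommRingCat.of k)) 2 (Coh.structureModule X))
    (hq : Module.finrank k (Coh.HH X (Coh.structureModule X) 1) = 0)
    [PicGrp.Law X]
    (C : Scheme.{u}) [C.Over (Spec (CommRingCat.of k))] [IsIntegral C]
    [Smooth (C ↘ Spec (CommRingCat.of k))] (hC : topologicalKrullDim C = 1)
    (i : C ⟶ X) [IsClosedImmersion i] (hi : i ≫ (X ↘ Spec (CommRingCat.of k)) = C ↘ Spec (CommRingCat.of k))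
    (hI : PicF.IsInvertible (ClSub.idealMod i.ker))
    (hgen : ∀ c : PicLoc.PicSet X, ∃ n : ℤ, c = PicGrp.cls (ClSub.idealMod i.ker) hI ^ n)
    (hfree : ∀ n : ℤ, PicGrp.cls (ClSub.idealMod i.ker) hI ^ n = 1 → n = 0)
    (A : C.Modules) (hA : PicF.IsInvertible A) :
    Module.finrank k (Coh.HH C A 0) * Module.finrank k (Coh.HH C A 1) ≤ Curv2.genus k C := by
  rcases Nat.eq_zero_or_pos (Module.finrank k (Coh.HH C A 0)) with h | h
  · rw [h]; simp
  haveI := GrothLib.Euler.isNoetherian_of_proper (X := X) k
  haveI : IsProper (C ↘ Spec (CommRingCat.of k)) := hi ▸ inferInstance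
  haveI : GrothLib.CurveRR.RegCurve C := GrothLib.CurveRR.regCurve_of_smooth (C ↘ Spec (CommRingCat.of k)) hC
  haveI := GrothLib.LocFreeHom.hasSheafHom (X := X)
  obtain ⟨I, hIinv, e, p, hp, hI0, hA0, hA1, key⟩ := GrothLib.LM28.exists_generated k hA h
  obtain ⟨lam, hlam, hbij⟩ := GrothLib.LM28.exists_lam k i hi (GrothLib.Euler.isCoh_of_isInvertible hIinv) p hI0 key
  have h1 := GrothLib.LM28.finrank_H0_homSh_le_one k (kernel lam) fun φ =>
    S18132.result k X hdim H hHa hK hq C hC i hi hI hgen hfree I hIinv e lam hbij φ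
  have hF := GrothLib.FinCov.isFinLocFree_of_rank (GrothLib.LM28.kernel_bundle k X hdim C hC i I e lam hIinv)
  obtain ⟨θ⟩ := GrothLib.LM28.nonempty_homSh_iso (kernel lam) (kernel lam) hF (GrothLib.Euler.isCoh_of_isFinLocFree hF)
  rw [(GrothLib.Euler.hhEquiv (A := k) θ 0).finrank_eq] at h1
  have h2 := GrothLib.LM28.hh2_end k hdim hK hF
  have h3 := GrothLib.LM28.euler_end k X hdim hK hq C hC i hi I hIinv e lam hI0
  rw [GrothLib.LM28.euler_three k hdim (GrothLib.Euler.isCoh_of_isFinLocFree
    (GrothLib.LocFreeHom.isFinLocFree_iHom hF hF)), hI0] at h3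
  have h4 : (e : ℤ) * (Module.finrank k (Coh.HH C I 1) : ℤ) ≤ (Curv2.genus k C : ℤ) := by omega
  have h5 : e * Module.finrank k (Coh.HH C I 1) ≤ Curv2.genus k C := by exact_mod_cast h4
  rw [hA0]
  exact le_trans (Nat.mul_le_mul_left e hA1) h5

end Groth.Agent.S18130
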