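import Groth.Statements.S18134
import Groth.Agent.Lib.LM28.Simple

set_option autoImplicit false
universe u
open CategoryTheory CategoryTheory.Limits AlgebraicGeometry
open Surf

namespace Groth.Agent.S18134

/-- The step h^1 = 1: let X be a K3 surface over an algebraically closed field k of characteristic zero
— an integral scheme, smooth and proper over k, of dimension two, carrying an ample invertible
module, whose structure sheaf is a second exterior power of its sheaf of differentials (trivial
canonical sheaf) and with H^1(X, O_X) = 0. Let i : C → X be a closed immersion over k with C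
integral, smooth over k and of dimension one, A an invertible O_C-module and lam : O_X^e → i_*A an
epimorphism from the free module of rank e inducing a bijection H^0(X, O_X^e) → H^0(X, i_*A), with
kernel F (the Lazarsfeld–Mukai bundle). If F is simple, in the sense that H^0(X, Hom(F, F)) is
one-dimensional, then H^1(X, F^∨ ⊗ i_*A) is one-dimensional, F^∨ = Hom(F, O_X) being the dual. (The
published lemma, for a K3 surface whose Picard group is generated by the class of C, asserts that
H^1 of the normal-bundle map of C in X × P(V), V = H^0(C, A), is an isomorphism; this row assumes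
the simplicity that the Picard hypothesis supplies and states the cohomological equality that
assertion reduces to.) -/
theorem result (k : Type u) [Field k] [IsAlgClosed k] [CharZero k]
    (X : Scheme.{u}) [X.Over (Spec (CommRingCat.of k))] [IsIntegral X]
    [Smooth (X ↘ Spec (CommRingCat.of k))] (hdim : topologicalKrullDim X = 2)
    [IsProper (X ↘ Spec (CommRingCat.of k))]
    (H : X.Modules) (hHa : CohB1.IsAmple H)
    (hK : Canon.IsTopDiff (X ↘ Spec (CommRingCat.of k)) 2 (Coh.structureModule X))
    (hq : Module.finrank k (Coh.HH X (Coh.structureModule X) 1) = 0)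
    (C : Scheme.{u}) [C.Over (Spec (CommRingCat.of k))] [IsIntegral C]
    [Smooth (C ↘ Spec (CommRingCat.of k))] (hC : topologicalKrullDim C = 1)
    (i : C ⟶ X) [IsClosedImmersion i] (hi : i ≫ (X ↘ Spec (CommRingCat.of k)) = C ↘ Spec (CommRingCat.of k))
    (A : C.Modules) (hA : PicF.IsInvertible A) (e : ℕ)
    (lam : FlatMod.freeMod X e ⟶ (Coh.push i).obj A) [Epi lam]
    (hlam : Function.Bijective (Sheaf.H.map ((SheafOfModules.toSheaf _).map lam) 0))
    (hsimple : Module.finrank k (Coh.HH X (RefHull.homSh (kernel lam) (kernel lam)) 0) = 1) :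
    Module.finrank k (Coh.HH X (CohB1.tensorMod (RefHull.dual (kernel lam)) ((Coh.push i).obj A)) 1) = 1 := by
  haveI := GrothLib.Euler.isNoetherian_of_proper (X := X) k
  haveI := GrothLib.LocFreeHom.hasSheafHom (X := X)
  have hF := GrothLib.FinCov.isFinLocFree_of_rank (GrothLib.LM28.kernel_bundle k X hdim C hC i A e lam hA)
  have hFc := GrothLib.Euler.isCoh_of_isFinLocFree hF
  obtain ⟨θ⟩ := GrothLib.LM28.nonempty_homSh_iso (kernel lam) (kernel lam) hF hFc
  obtain ⟨δ⟩ := GrothLib.LM28.nonempty_homSh_iso (kernel lam) (Coh.structureModule X) hF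
    (GrothLib.Euler.isCoh_of_isInvertible GrothLib.Euler.isInvertible_structure)
  let ι : CohB1.tensorMod (RefHull.dual (kernel lam)) ((Coh.push i).obj A) ≅
      (GrothLib.Euler.tF (GrothLib.LocFreeDual20.dual (kernel lam))).obj ((Coh.push i).obj A) :=
    ((DCoh.tensorBi (X := X)).flip.obj ((Coh.push i).obj A)).mapIso δ ≪≫
      GrothLib.LocFreeDual20.br (GrothLib.LocFreeDual20.dual (kernel lam)) ((Coh.push i).obj A)
  rw [(GrothLib.Euler.hhEquiv (A := k) ι 1).finrank_eq,
    GrothLib.LM28.finrank_H1_dual_tensor k X hdim hK hq C hC i A hA e lam hlam,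
    ← (GrothLib.Euler.hhEquiv (A := k) θ 0).finrank_eq]
  exact hsimple

end Groth.Agent.S18134
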