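import Groth.Statements.S18135
import Groth.Agent.S18129

set_option autoImplicit false
universe u
open CategoryTheory CategoryTheory.Limits AlgebraicGeometry
open Surf

namespace Groth.Agent.S18135

/-- Torsion-freeness of Pic: let X be a K3 surface over an algebraically closed field k of
characteristic zero — an integral scheme, smooth and proper over k, of dimension two, carrying an
ample invertible module, whose structure sheaf is a second exterior power of its sheaf of
differentials (trivial canonical sheaf) and with H^1(X, O_X) = 0. If L is an invertible O_X-module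
some positive tensor power of which is isomorphic to O_X, then L ≅ O_X; that is, the Picard group of
X has no torsion (the published statement adds that it is free of finite rank, by finite generation
of the Néron–Severi group). -/
theorem result (k : Type u) [Field k] [IsAlgClosed k] [CharZero k]
    (X : Scheme.{u}) [X.Over (Spec (CommRingCat.of k))] [IsIntegral X]
    [Smooth (X ↘ Spec (CommRingCat.of k))] (hdim : topologicalKrullDim X = 2)
    [IsProper (X ↘ Spec (CommRingCat.of k))]
    (H : X.Modules) (hHa : CohB1.IsAmple H)
    (hK : Canon.IsTopDiff (X ↘ Spec (CommRingCat.of k)) 2 (Coh.structureModule X))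
    (hq : Module.finrank k (Coh.HH X (Coh.structureModule X) 1) = 0)
    (L : X.Modules) (hL : PicF.IsInvertible L) (n : ℕ) (hn : 1 ≤ n)
    (htors : Nonempty (CohB1.tensorPow L n ≅ Coh.structureModule X)) :
    Nonempty (L ≅ Coh.structureModule X) := by
  refine Groth.Agent.S18129.result k X hdim H hHa hK hq L hL fun M hM => ?_
  have hd : topologicalKrullDim X ≤ ((2 : ℕ) : WithBot ℕ∞) := hdim.le
  have hz : GrothLib.Cube.clsMod hL ^ n = 1 := by
    rw [← GrothLib.Cube.clsMod_tensorPow hL n]
    exact (GrothLib.Cube.clsMod_eq_one_iff _).2 htors
  have h1 := GrothLib.HodgeIndex.isect_pow_left k hd (GrothLib.Cube.clsMod hL) (GrothLib.Cube.clsMod hM) n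
  rw [hz, GrothLib.HodgeIndex.isect_one_left k hd] at h1
  rw [GrothLib.HodgeIndex.intNum_eq_isect k hd hHa hL hM]
  exact (mul_eq_zero.1 h1.symm).resolve_left (by exact_mod_cast (show n ≠ 0 by omega))

end Groth.Agent.S18135
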