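import Groth.Statements.S18136
import Mathlib
-- import your own Groth.Agent.* helpers here

set_option autoImplicit false
universe u v
open IsLocalRing
open CAlg

namespace Groth.Agent.S18136

/-- Let A be a regular local ring with maximal ideal m and residue field k, written as a directed
colimit of regular local rings A_j with local transition maps (compatible maps ψ_j : A_j → A that
are jointly surjective, an element dying in A dying at some later stage). Let f_1, …, f_c, g_1, …,
g_d ∈ m have linearly independent classes in m/m^2 over k, and put I = (f_1, …, f_c) ⊆ I' = (f_1, …,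
f_c, g_1, …, g_d) (so I is generated by part of a regular system of parameters of A and I'/I by part
of a regular system of parameters of A/I; for a regular local ring the condition on I ⊆ I' is stated
through such a joint family). Then there are an index j_0 and ideals I_j ⊆ I'_j ⊆ A_j for j ≥ j_0
such that: each I_j is generated by c elements and I'_j by these together with d further elements of
the maximal ideal m_j, the c + d classes in m_j/m_j^2 being linearly independent over the residue
field of A_j; the transition maps carry I_i, I'_i onto generators of I_j, I'_j for j_0 ≤ i ≤ j; and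
I_j, I'_j generate I, I' in A. -/
theorem result
    {A : Type u} [CommRing A] [IsRegularLocalRing A]
    {ι : Type v} [Preorder ι] [Nonempty ι] [IsDirected ι (· ≤ ·)]
    (B : ι → Type u) [∀ j, CommRing (B j)] [∀ j, IsRegularLocalRing (B j)]
    (φ : ∀ i j, i ≤ j → (B i →+* B j)) (hφloc : ∀ i j (h : i ≤ j), IsLocalHom (φ i j h))
    (hφ : ∀ i j l (hij : i ≤ j) (hjl : j ≤ l), (φ j l hjl).comp (φ i j hij) = φ i l (hij.trans hjl))
    (ψ : ∀ j, B j →+* A) (hψ : ∀ i j (h : i ≤ j), (ψ j).comp (φ i j h) = ψ i)
    (hsurj : ∀ a : A, ∃ j, ∃ x : B j, ψ j x = a)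
    (hker : ∀ j (x : B j), ψ j x = 0 → ∃ l, ∃ h : j ≤ l, φ j l h x = 0)
    (c d : ℕ) (f : Fin c → maximalIdeal A) (g : Fin d → maximalIdeal A)
    (hind : LinearIndependent (ResidueField A) (⇑(maximalIdeal A).toCotangent ∘ Sum.elim f g)) :
    ∃ j₀ : ι, ∃ (P : ∀ j, j₀ ≤ j → Ideal (B j)) (Q : ∀ j, j₀ ≤ j → Ideal (B j)),
      (∀ j (hj : j₀ ≤ j), ∃ (F : Fin c → maximalIdeal (B j)) (E : Fin d → maximalIdeal (B j)),
        LinearIndependent (ResidueField (B j)) (⇑(maximalIdeal (B j)).toCotangent ∘ Sum.elim F E) ∧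
        P j hj = Ideal.span (Set.range (fun s => (F s : B j))) ∧
        Q j hj = P j hj ⊔ Ideal.span (Set.range (fun t => (E t : B j)))) ∧
      (∀ i j (hi : j₀ ≤ i) (hij : i ≤ j),
        (P i hi).map (φ i j hij) = P j (le_trans hi hij) ∧ (Q i hi).map (φ i j hij) = Q j (le_trans hi hij)) ∧
      (∀ j (hj : j₀ ≤ j),
        (P j hj).map (ψ j) = Ideal.span (Set.range (fun s => (f s : A))) ∧
        (Q j hj).map (ψ j) = Ideal.span (Set.range (fun s => (f s : A))) ⊔ Ideal.span (Set.range (fun t => (g t : A)))) := by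
  classical
  have hlift : ∀ a : A, ∃ j, ∀ l, j ≤ l → ∃ x : B l, ψ l x = a := by
    intro a
    obtain ⟨j, x, rfl⟩ := hsurj a
    exact ⟨j, fun l hl => ⟨φ j l hl x, RingHom.congr_fun (hψ j l hl) x⟩⟩
  have hloc : ∀ j (x : B j), IsUnit (ψ j x) → IsUnit x := by
    intro j x hx
    obtain ⟨v, hv⟩ := hx.exists_right_inv
    obtain ⟨j₁, h1⟩ := hlift v
    obtain ⟨l, hjl, hj1l⟩ := directed_of (· ≤ ·) j j₁
    obtain ⟨y, hy⟩ := h1 l hj1l
    have h0 : ψ l (φ j l hjl x * y - 1) = 0 := by
      rw [map_sub, map_mul, map_one, hy, ← RingHom.comp_apply, hψ, hv, sub_self]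
    obtain ⟨l', hl', h0⟩ := hker l _ h0
    rw [map_sub, map_mul, map_one, ← RingHom.comp_apply, hφ, sub_eq_zero] at h0
    haveI := hφloc j l' (hjl.trans hl')
    exact isUnit_of_map_unit (φ j l' (hjl.trans hl')) x (IsUnit.of_mul_eq_one _ h0)
  choose jf hjf using fun s : Fin c ⊕ Fin d => hlift ((Sum.elim f g s : maximalIdeal A) : A)
  obtain ⟨j₀, hj₀⟩ := Finite.exists_le jf
  choose z hz using fun s => hjf s j₀ (hj₀ s)
  have hmemψ : ∀ j (x : B j), x ∈ maximalIdeal (B j) ↔ ψ j x ∈ maximalIdeal A := by
    intro j x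
    simp only [IsLocalRing.mem_maximalIdeal, mem_nonunits_iff]
    exact not_congr ⟨fun h => h.map _, hloc j x⟩
  let lift : ∀ j, j₀ ≤ j → (Fin c ⊕ Fin d) → maximalIdeal (B j) := fun j hj s =>
    ⟨φ j₀ j hj (z s), (hmemψ j _).mpr (by
      rw [← RingHom.comp_apply, hψ, hz]; exact (Sum.elim f g s).2)⟩
  have hval : ∀ j hj s, ψ j (lift j hj s : B j) = ((Sum.elim f g s : maximalIdeal A) : A) := fun j hj s => by
    change ψ j (φ j₀ j hj (z s)) = _
    rw [← RingHom.comp_apply, hψ, hz]
  refine ⟨j₀, fun j hj => Ideal.span (Set.range fun s => (lift j hj (Sum.inl s) : B j)),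
    fun j hj => Ideal.span (Set.range fun s => (lift j hj (Sum.inl s) : B j)) ⊔
      Ideal.span (Set.range fun t => (lift j hj (Sum.inr t) : B j)), ?_, ?_, ?_⟩
  · intro j hj
    refine ⟨fun s => lift j hj (Sum.inl s), fun t => lift j hj (Sum.inr t), ?_, rfl, rfl⟩
    have he : Sum.elim (fun s => lift j hj (Sum.inl s)) (fun t => lift j hj (Sum.inr t)) = lift j hj := by
      funext s; cases s <;> rfl
    rw [he, Fintype.linearIndependent_iff]
    intro r hr s
    choose r' hr' using fun s => IsLocalRing.residue_surjective (r s)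
    have h1 : (maximalIdeal (B j)).toCotangent (∑ s, r' s • lift j hj s) = 0 := by
      rw [map_sum, ← hr]
      refine Finset.sum_congr rfl fun s _ => ?_
      rw [map_smul, ← hr' s]
      rfl
    rw [Ideal.toCotangent_eq_zero] at h1
    have h2 : (maximalIdeal A).toCotangent (∑ s, ψ j (r' s) • Sum.elim f g s) = 0 := by
      rw [Ideal.toCotangent_eq_zero]
      have h3 := Ideal.mem_map_of_mem (ψ j) h1
      rw [Ideal.map_pow] at h3
      have hle : (maximalIdeal (B j)).map (ψ j) ≤ maximalIdeal A :=
        Ideal.map_le_iff_le_comap.mpr fun x hx => (hmemψ j x).mp hx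
      have h4 := Ideal.pow_right_mono hle 2 h3
      simpa [Submodule.coe_sum, map_sum, hval] using h4
    rw [map_sum] at h2
    have h5 := Fintype.linearIndependent_iff.mp hind (fun s => IsLocalRing.residue A (ψ j (r' s))) (by
      rw [← h2]
      refine Finset.sum_congr rfl fun s _ => ?_
      rw [map_smul]
      rfl) s
    rw [IsLocalRing.residue_eq_zero_iff, ← hmemψ] at h5
    rw [← hr' s, IsLocalRing.residue_eq_zero_iff]
    exact h5
  · intro i j hi hij
    constructor
    all_goals
      simp only [Ideal.map_sup, Ideal.map_span, ← Set.range_comp, Function.comp_def, lift]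
      simp only [← RingHom.comp_apply, hφ]
  · intro j hj
    constructor
    all_goals
      simp only [Ideal.map_sup, Ideal.map_span, ← Set.range_comp, Function.comp_def, hval,
        Sum.elim_inl, Sum.elim_inr]

end Groth.Agent.S18136
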