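import Groth.Statements.S18150
import Groth.Agent.S18151
import Groth.Agent.Lib.LocZ25.Sections
import Groth.Agent.Lib.HodgeIndex.Curves
import Groth.Agent.Lib.NegVan7.Main
import Groth.Agent.Lib.CMFree.FiniteFlat
import Groth.Agent.Lib.GrpSchField.DimStalk
import Groth.Agent.Lib.SerrePn27.CMVanish
import Groth.Agent.Lib.LefAmp7.Points

set_option autoImplicit false
universe u
open CategoryTheory AlgebraicGeometry Opposite TopologicalSpace
open FrobSch

open GrothLib

namespace Groth.Agent.S18150

/-- Let p be a prime, k a perfect field of characteristic p, and X an irreducible smooth proper k-scheme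
of dimension n. Let φ be the p-th power map on the sheaf of additive groups underlying O_X and
suppose X is Frobenius split: φ admits a retraction s, an additive endomorphism of O_X with s ∘ φ
the identity and s(a^p·b) = a·s(b) on every open. Then Kodaira vanishing holds on X: for every ample
invertible module L with tensor inverse L⁻¹ and every i < n, the cohomology group H^i(X, L⁻¹)
vanishes. (The source allows X Gorenstein projective; X is taken smooth, proper with an ample
invertible module, and irreducible so that n is the dimension of every component.) -/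
theorem result (p : ℕ) [Fact p.Prime]
    (k : Type u) [Field k] [CharP k p] [PerfectRing k p]
    (X : Scheme.{u}) [X.Over (Spec (CommRingCat.of k))] [IsProper (X ↘ Spec (CommRingCat.of k))]
    [Smooth (X ↘ Spec (CommRingCat.of k))] [IrreducibleSpace X] (n : ℕ) (hn : topologicalKrullDim X = n)
    (φ : Coh.toAb (Coh.structureModule X) ⟶ Coh.toAb (Coh.structureModule X))
    (hφ : ∀ (U : X.Opens) (t : Γ(X, U)), φ.hom.app (op U) t = t ^ p)
    (s : Coh.toAb (Coh.structureModule X) ⟶ Coh.toAb (Coh.structureModule X))
    (hs : φ ≫ s = 𝟙 _)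
    (hlin : ∀ (U : X.Opens) (a b : Γ(X, U)),
      s.hom.app (op U) (a ^ p * b) = a * @id Γ(X, U) (s.hom.app (op U) b))
    (L Linv : X.Modules) (hL : CohB1.IsAmple L) (hLinv : ClSub.IsInverseOf Linv L)
    (i : ℕ) (hi : i < n) :
    Subsingleton (Coh.HH X Linv i) := by
  classical
  let f := X ↘ Spec (CommRingCat.of k)
  haveI := Euler.isNoetherian_of_proper (X := X) k
  have hbraid : ClSub.IsInverseOf L Linv := by
    obtain ⟨e⟩ := hLinv
    exact ⟨(((OX.tensorBraiding (X := X)).app L).app Linv).symm ≪≫ e⟩
  have hI : PicF.IsInvertible Linv := NegVan7.isInvertible_of_inverse k hL.1 hbraid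
  have hO := Euler.isInvertible_structure (X := X)
  have hOl : FlatMod.IsFinLocFree (Coh.structureModule X) :=
    FinCov.isFinLocFree_of_rank (Euler.isFinLocFreeOfRank_one' hO)
  have hdepth : ∀ x : X, IsClosed ({x} : Set X) →
      (i : ℕ∞) < LocCoh.depth (X.presheaf.stalk x) ((Coh.structureModule X).presheaf.stalk x) := by
    intro x hx
    haveI := HodgeIndex.regular_of_smooth k x
    obtain ⟨rs, h1, h2, h3⟩ := CMFree.exists_weaklyRegular_of_isRegularLocalRing (X.presheaf.stalk x)
    haveI := CMFree.isCohenMacaulayLocalRing_of_weaklyRegular (X.presheaf.stalk x) rs h1 h2 h3.ge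
    have hd : ringKrullDim (X.presheaf.stalk x) = n := by
      rw [GrpSchField.ringKrullDim_stalk_eq_of_isClosed f isClosed_univ isOpen_univ
        (irreducibleSpace_def _ |>.1 inferInstance) (Set.mem_univ x) hx, ← hn]
      exact (Homeomorph.Set.univ X).isHomeomorph.topologicalKrullDim_eq
    exact (Nat.cast_lt.2 hi).trans_le ((SerrePn27.le_depth_of_isCohenMacaulay hd).trans
      (LocZ25.depth_ge_of_isFinLocFree hOl x))
  obtain ⟨m₀, hm₀⟩ := NegVan7.eventually_vanish k hL hbraid (Euler.isCoh_of_isInvertible hO) i hdepth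
  have hle : ∀ e : ℕ, Module.finrank k (Coh.HH X Linv i) ≤
      Module.finrank k (Coh.HH X (CohB1.tensorPow Linv (p ^ e)) i) := by
    intro e
    induction e with
    | zero =>
      obtain ⟨u⟩ := (Cube.clsMod_eq_iff hI (Ample.isInvertible_tensorPow hI (p ^ 0))).1
        (by rw [Cube.clsMod_tensorPow hI, pow_zero, pow_one])
      exact (Euler.hhEquiv (A := k) u i).finrank_eq.le
    | succ e ih =>
      have hP := Ample.isInvertible_tensorPow hI (p ^ e)
      obtain ⟨u⟩ := (Cube.clsMod_eq_iff (Ample.isInvertible_tensorPow hP p)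
        (Ample.isInvertible_tensorPow hI (p ^ (e + 1)))).1
        (by rw [Cube.clsMod_tensorPow hP, Cube.clsMod_tensorPow hI, Cube.clsMod_tensorPow hI,
          pow_succ p e, pow_mul])
      exact ih.trans ((Groth.Agent.S18151.result p k X φ hφ s hs hlin _ hP i).trans
        (Euler.hhEquiv (A := k) u i).finrank_eq.le)
  obtain ⟨e, he⟩ := pow_unbounded_of_one_lt m₀ (Fact.out : p.Prime).one_lt
  haveI : FiniteDimensional k (Coh.HH X Linv i) := Euler.finiteDimensional_HH k (Euler.isCoh_of_isInvertible hI) i
  haveI : Subsingleton (Coh.HH X ((DCoh.tensorBi.obj (Coh.structureModule X)).obj (CohB1.tensorPow Linv (p ^ e))) i) :=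
    hm₀ (p ^ e) he.le i le_rfl
  haveI : Subsingleton (Coh.HH X (CohB1.tensorPow Linv (p ^ e)) i) :=
    (Euler.hhEquiv (A := k) (OX.tensorUnitLeftIso (CohB1.tensorPow Linv (p ^ e))) i).toEquiv.symm.subsingleton
  have h := hle e
  rw [Module.finrank_zero_of_subsingleton (M := Coh.HH X (CohB1.tensorPow Linv (p ^ e)) i)] at h
  exact Module.finrank_zero_iff.1 (Nat.le_zero.1 h)

end Groth.Agent.S18150
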