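import Groth.Statements.S18153
import Mathlib

set_option autoImplicit false
universe u w
open FrobAlg

namespace Groth.Agent.S18153

/-- Let R be a commutative ring of prime characteristic p and f_1, …, f_m (m ≥ 1) polynomials over R in
the variables t_1, …, t_m and a further, possibly empty, family of variables s_a. Then in the m × m
Jacobian determinant det(∂f_i/∂t_j) with respect to the t-variables, the coefficient of the monomial
t_1^{p-1} ⋯ t_m^{p-1} (all s-exponents zero) vanishes. (In the source this is the claim, for formal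
power series in n ≥ m variables over the base field, to which the proof of the proposition reduces;
the coefficient in question only involves truncations of the f_i, so the polynomial form over any
ring of characteristic p is the same assertion.) -/
theorem result
    (p : ℕ) [Fact p.Prime] (R : Type u) [CommRing R] [CharP R p]
    {m : ℕ} (hm : 0 < m) (σ : Type w) (f : Fin m → MvPolynomial (Fin m ⊕ σ) R) :
    MvPolynomial.coeff
        (Finsupp.sumElim (Finsupp.equivFunOnFinite.symm fun _ : Fin m => p - 1) (0 : σ →₀ ℕ))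
        (Matrix.of fun i j : Fin m => MvPolynomial.pderiv (Sum.inl j) (f i)).det = 0 := by
  classical
  set δ : Fin m ⊕ σ →₀ ℕ := Finsupp.sumElim (Finsupp.equivFunOnFinite.symm fun _ : Fin m => p - 1) (0 : σ →₀ ℕ) with hδ
  have hrow : (Matrix.of fun i j : Fin m => MvPolynomial.pderiv (Sum.inl j) (f i)) =
      fun i => ∑ e ∈ (f i).support, fun j : Fin m => MvPolynomial.pderiv (Sum.inl j) (MvPolynomial.monomial e (MvPolynomial.coeff e (f i))) := by
    funext i j
    rw [Finset.sum_apply, ← map_sum, MvPolynomial.support_sum_monomial_coeff]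
    rfl
  rw [hrow]
  rw [show Matrix.det (fun i => ∑ e ∈ (f i).support, fun j : Fin m => MvPolynomial.pderiv (Sum.inl j) (MvPolynomial.monomial e (MvPolynomial.coeff e (f i)))) =
    _ from (Matrix.detRowAlternating : (Fin m → MvPolynomial (Fin m ⊕ σ) R) [⋀^Fin m]→ₗ[MvPolynomial (Fin m ⊕ σ) R] MvPolynomial (Fin m ⊕ σ) R).toMultilinearMap.map_sum_finset
      (g := fun i e => fun j : Fin m => MvPolynomial.pderiv (Sum.inl j) (MvPolynomial.monomial e (MvPolynomial.coeff e (f i)))) (A := fun i => (f i).support),
    MvPolynomial.coeff_sum]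
  refine Finset.sum_eq_zero fun e _ => ?_
  show MvPolynomial.coeff δ (Matrix.det (Matrix.of fun i j : Fin m =>
    MvPolynomial.pderiv (Sum.inl j) (MvPolynomial.monomial (e i) (MvPolynomial.coeff (e i) (f i))))) = 0
  set M : Matrix (Fin m) (Fin m) (MvPolynomial (Fin m ⊕ σ) R) := Matrix.of fun i j : Fin m =>
    MvPolynomial.pderiv (Sum.inl j) (MvPolynomial.monomial (e i) (MvPolynomial.coeff (e i) (f i))) with hM
  set E : Matrix (Fin m) (Fin m) R := Matrix.of fun i j : Fin m => ((e i (Sum.inl j) : ℕ) : R) with hE
  set v : Fin m → MvPolynomial (Fin m ⊕ σ) R := fun i => MvPolynomial.monomial (e i) (MvPolynomial.coeff (e i) (f i)) with hv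
  have hkey : M.det * ∏ j : Fin m, MvPolynomial.X (Sum.inl j) = (∏ i, v i) * MvPolynomial.C E.det := by
    rw [RingHom.map_det, mul_comm M.det, ← Matrix.det_mul_row, ← Matrix.det_mul_column]
    congr 1
    ext i j : 2
    simp only [Matrix.of_apply, RingHom.mapMatrix_apply, Matrix.map_apply, hM, hE, hv]
    rw [MvPolynomial.pderiv_monomial, mul_comm (MvPolynomial.monomial (e i) _) (MvPolynomial.C _), MvPolynomial.C_mul_monomial,
      MvPolynomial.X, MvPolynomial.monomial_mul, one_mul, mul_comm (MvPolynomial.coeff (e i) (f i))]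
    rcases Nat.eq_zero_or_pos (e i (Sum.inl j)) with h0 | h0
    · simp [h0]
    · rw [add_tsub_cancel_of_le (Finsupp.single_le_iff.2 h0)]
  have hprodX : (∏ j : Fin m, (MvPolynomial.X (Sum.inl j) : MvPolynomial (Fin m ⊕ σ) R)) =
      MvPolynomial.monomial (∑ j : Fin m, Finsupp.single (Sum.inl j) 1) 1 := by
    rw [MvPolynomial.monomial_sum_one]; rfl
  have h1 := congrArg (MvPolynomial.coeff (δ + ∑ j : Fin m, Finsupp.single (Sum.inl j) 1)) hkey
  rw [hprodX, MvPolynomial.coeff_mul_monomial, mul_one] at h1
  rw [h1]
  by_cases hsum : ∀ j : Fin m, (∑ i, e i) (Sum.inl j) = p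
  · have hdet : E.det = 0 := by
      obtain ⟨m', rfl⟩ : ∃ m', m = m' + 1 := ⟨m - 1, by omega⟩
      rw [← Matrix.det_updateRow_sum E 0 (fun _ => 1) |>.trans (one_mul _)]
      refine Matrix.det_eq_zero_of_row_eq_zero 0 fun j => ?_
      rw [Matrix.updateRow_self, Finset.sum_apply]
      simp only [one_smul, hE, Matrix.of_apply]
      rw [← Nat.cast_sum, show ∑ x, e x (Sum.inl j) = p by rw [← Finsupp.finsetSum_apply]; exact hsum j, CharP.cast_eq_zero]
    rw [hdet, map_zero, mul_zero, MvPolynomial.coeff_zero]
  · rw [mul_comm, MvPolynomial.coeff_C_mul]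
    have : MvPolynomial.coeff (δ + ∑ j : Fin m, Finsupp.single (Sum.inl j) 1) (∏ i, v i) = 0 := by
      rw [hv]
      rw [← MvPolynomial.notMem_support_iff]
      intro hmem
      refine hsum fun j => ?_
      have hprod : (∏ i, v i) = MvPolynomial.monomial (∑ i, e i) (∏ i, MvPolynomial.coeff (e i) (f i)) :=
        (MvPolynomial.monomial_sum_prod Finset.univ e _).symm
      rw [hv] at hprod
      rw [hprod] at hmem
      have := Finset.mem_singleton.1 (MvPolynomial.support_monomial_subset hmem)
      rw [← this, hδ, Finsupp.add_apply, Finsupp.sumElim_inl, Finsupp.finsetSum_apply]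
      simp [Finsupp.single_apply]
      have := (Fact.out : p.Prime).two_le
      omega
    rw [this, mul_zero]

end Groth.Agent.S18153
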