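import Groth.Statements.S18156
import Mathlib
-- import your own Groth.Agent.* helpers here

set_option autoImplicit false
universe u v
open CAlg

namespace Groth.Agent.S18156

/-- Let k be a field and A a regular local ring that is a k-algebra, with maximal ideal m and m-adic
completion Â. Then every k-derivation D of A into itself extends to a k-derivation D̂ of Â into
itself along the canonical map ρ : A → Â, in the sense that D̂(ρ(a)) = ρ(D(a)) for every a ∈ A. (The
source works throughout over an algebraically closed field of characteristic p; neither assumption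
enters this statement.) -/
theorem result
    (k : Type u) [Field k] (A : Type v) [CommRing A] [Algebra k A] [IsRegularLocalRing A]
    (D : Derivation k A A) :
    ∃ Dhat : Derivation k (AdicCompletion (IsLocalRing.maximalIdeal A) A)
        (AdicCompletion (IsLocalRing.maximalIdeal A) A),
      ∀ a : A, Dhat (algebraMap A (AdicCompletion (IsLocalRing.maximalIdeal A) A) a) =
        algebraMap A (AdicCompletion (IsLocalRing.maximalIdeal A) A) (D a) := by
  let m := IsLocalRing.maximalIdeal A
  have hpow : ∀ n, ∀ a ∈ m ^ (n + 1), D a ∈ m ^ n := by
    intro n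
    induction n with
    | zero => intro a _; simp
    | succ n ih =>
      intro a ha
      rw [pow_succ] at ha
      refine Submodule.mul_induction_on ha (fun x hx y hy => ?_) (fun x y hx hy => ?_)
      · rw [D.leibniz, smul_eq_mul, smul_eq_mul]
        refine add_mem (Ideal.mul_mem_right _ _ hx) ?_
        rw [pow_succ']
        exact Ideal.mul_mem_mul hy (ih x hx)
      · rw [map_add]; exact add_mem hx hy
  let q : ∀ n, A → A ⧸ (m ^ n • ⊤ : Submodule A A) := fun n a => Submodule.Quotient.mk a
  have key : ∀ n a b, q (n + 1) a = q (n + 1) b → q n (D a) = q n (D b) := by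
    intro n a b h
    rw [Submodule.Quotient.eq, smul_eq_mul, Ideal.mul_top] at h ⊢
    rw [← map_sub]
    exact hpow n _ h
  have hsur : ∀ n (z : A ⧸ (m ^ n • ⊤ : Submodule A A)), ∃ a, q n a = z := fun n z =>
    Submodule.Quotient.mk_surjective _ z
  choose rep hrep using fun (x : AdicCompletion m A) n => hsur (n + 1) (x.val (n + 1))
  let F : AdicCompletion m A → AdicCompletion m A := fun x =>
    ⟨fun n => q n (D (rep x n)), fun {i j} hij => by
      show AdicCompletion.transitionMap m A hij (q j (D (rep x j))) = q i (D (rep x i))
      refine (key i (rep x j) (rep x i) ?_)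
      rw [hrep x i, ← x.property (Nat.succ_le_succ hij)]
      exact congrArg (AdicCompletion.transitionMap m A (Nat.succ_le_succ hij)) (hrep x j)⟩
  have hF : ∀ x n a, q (n + 1) a = x.val (n + 1) → (F x).val n = q n (D a) := fun x n a ha =>
    key n _ a ((hrep x n).trans ha.symm)
  have hone : ∀ a : A, ∀ n, (algebraMap A (AdicCompletion m A) a).val n = q n a := fun a n => by
    simp only [AdicCompletion.algebraMap_apply, Algebra.algebraMap_self, RingHom.id_apply]
    rfl
  let L : AdicCompletion m A →ₗ[k] AdicCompletion m A :=
    { toFun := F
      map_add' := fun x y => AdicCompletion.ext fun {n} => by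
        rw [hF (x + y) n (rep x n + rep y n) (by
          show q (n + 1) (rep x n) + q (n + 1) (rep y n) = x.val (n + 1) + y.val (n + 1)
          rw [hrep, hrep]), map_add]
        rfl
      map_smul' := fun c x => AdicCompletion.ext fun {n} => by
        rw [hF (c • x) n (c • rep x n) (by
          show q (n + 1) (c • rep x n) = c • x.val (n + 1)
          rw [← hrep]; rfl), D.map_smul]
        rfl }
  refine ⟨Derivation.mk' L fun x y => AdicCompletion.ext fun {n} => ?_, fun a => AdicCompletion.ext fun {n} => ?_⟩
  · show (F (x * y)).val n = (x * F y + y * F x).val n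
    rw [hF (x * y) n (rep x n * rep y n) (by
      show q (n + 1) (rep x n) * q (n + 1) (rep y n) = x.val (n + 1) * y.val (n + 1)
      rw [hrep, hrep]), D.leibniz]
    have h1 : ∀ (z : AdicCompletion m A), z.val n = q n (rep z n) := fun z => by
      rw [← z.property (Nat.le_succ n), ← hrep z n]
      rfl
    show q n (rep x n * D (rep y n) + rep y n * D (rep x n)) =
      x.val n * (F y).val n + y.val n * (F x).val n
    rw [h1 x, h1 y]
    rfl
  · show (F (algebraMap A _ a)).val n = _
    rw [hF _ n a (hone a (n + 1)).symm, hone]

end Groth.Agent.S18156
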