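import Groth.Agent.Lib.EtaleThick26.Glue
import Groth.Agent.Lib.W2Lift.Basic
import Groth.Statements.S18158
-- import your own Groth.Agent.* helpers here

set_option autoImplicit false
universe u
open CategoryTheory CategoryTheory.Limits AlgebraicGeometry
open Lift

namespace Groth.Agent.S18158

/-- Let k be an algebraically closed field of characteristic p and q : Y → X an étale morphism to a
smooth k-scheme X. Suppose X has a W_2-lifting of its Frobenius: a scheme X~ flat over Spec W_2(k),
a morphism i : X → X~ making X the base change of X~ along Spec k → Spec W_2(k) (the residue map),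
and an endomorphism F~ of X~ with i ∘ F_X = F~ ∘ i, F_X the absolute Frobenius. Then Y has one as
well: there are a scheme Y~ flat over Spec W_2(k), a morphism j : Y → Y~ making Y the base change of
Y~ along the same map, and an endomorphism G~ of Y~ with j ∘ F_Y = G~ ∘ j. (The source speaks of an
étale cover Y → X of smooth varieties; its argument uses only that Y is étale over X and that X
lifts, so X is taken smooth over k and Y étale over X, with no integrality, separatedness or
quasi-compactness assumed.) -/
theorem result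
    (p : ℕ) [Fact p.Prime] (k : Type u) [Field k] [IsAlgClosed k] [CharP k p]
    (X Y : Scheme.{u}) (f : X ⟶ Spec (CommRingCat.of k)) [Smooth f]
    (q : Y ⟶ X) [AlgebraicGeometry.Etale q]
    [FrobSch.IsCharP X p] [FrobSch.IsCharP Y p]
    (Xl : Scheme.{u}) (g : Xl ⟶ Spec (CommRingCat.of (FrobAlg.W2 p k))) [Flat g]
    (i : X ⟶ Xl) (hsq : IsPullback i f g (Spec.map (CommRingCat.ofHom (FrobAlg.res p k))))
    (Fl : Xl ⟶ Xl) (hF : i ≫ Fl = FrobSch.frob X p ≫ i) :
    ∃ (Yl : Scheme.{u}) (gY : Yl ⟶ Spec (CommRingCat.of (FrobAlg.W2 p k))) (j : Y ⟶ Yl) (Gl : Yl ⟶ Yl),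
      Flat gY ∧ IsPullback j (q ≫ f) gY (Spec.map (CommRingCat.ofHom (FrobAlg.res p k))) ∧
        j ≫ Gl = FrobSch.frob Y p ≫ j := by
  haveI : IsClosedImmersion (Spec.map (CommRingCat.ofHom (FrobAlg.res p k))) :=
    IsClosedImmersion.spec_of_surjective _ GrothLib.W2Lift.res_surjective
  haveI : Surjective (Spec.map (CommRingCat.ofHom (FrobAlg.res p k))) := ⟨fun x => by
    have hle : RingHom.ker (FrobAlg.res p k) ≤ x.asIdeal := by
      rw [GrothLib.W2Lift.ker_res, Ideal.span_le, Set.singleton_subset_iff]
      rcases x.isPrime.mem_or_mem (x := (p : FrobAlg.W2 p k)) (y := (p : FrobAlg.W2 p k))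
        (by rw [GrothLib.W2Lift.p_mul_p]; exact zero_mem _) with h | h <;> exact h
    have : x ∈ Set.range (PrimeSpectrum.comap (FrobAlg.res p k)) := by
      rw [range_comap_of_surjective _ _ GrothLib.W2Lift.res_surjective]
      exact hle
    exact this⟩
  haveI : IsClosedImmersion i := MorphismProperty.of_isPullback hsq.flip inferInstance
  haveI : Surjective i := MorphismProperty.of_isPullback hsq.flip inferInstance
  obtain ⟨Yl, ql, j, hql, hpb⟩ := GrothLib.EtaleThick.exists_lift i q
  haveI : IsClosedImmersion j := MorphismProperty.of_isPullback hpb.flip inferInstance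
  haveI : Surjective j := MorphismProperty.of_isPullback hpb.flip inferInstance
  obtain ⟨Gl, ⟨hGl, -⟩, -⟩ := GrothLib.EtaleThick.existsUnique_lift j ql (FrobSch.frob Y p ≫ j) (ql ≫ Fl) (by
    rw [Category.assoc, hpb.w, ← Category.assoc (FrobSch.frob Y p), FrobSch.frob_comp, Category.assoc,
      ← hF, ← Category.assoc, hpb.w, Category.assoc])
  exact ⟨Yl, ql ≫ g, j, Gl, inferInstance, hpb.paste_vert hsq, hGl⟩

end Groth.Agent.S18158
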