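import Groth.Statements.S18159
-- import your own Groth.Agent.* helpers here
import Groth.Agent.Lib.FrobLiftDet26.Factor

set_option autoImplicit false
universe u
open CategoryTheory CategoryTheory.Limits AlgebraicGeometry TopologicalSpace
open Lift

set_option backward.isDefEq.respectTransparency false
set_option linter.style.haveILetI false

noncomputable section

open GrothLib

namespace Groth.Agent.S18159

/-- Let k be an algebraically closed field of characteristic p and X a smooth, proper, integral k-scheme
of dimension d whose canonical module ω, a d-th exterior power of Ω_{X/k}, is torsion: ω^{⊗m} ≅ O_X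
for some m ≥ 1. Suppose given a scheme X~ flat over Spec W_2(k), a morphism i : X → X~ making X the
base change of X~ along Spec k → Spec W_2(k) (the residue map), and an endomorphism F~ of X~ with i
∘ F_X = F~ ∘ i, F_X the absolute Frobenius. Then X contains no rational curves: every k-morphism
from the projective line over k to X factors through a k-rational point of X. (In the source X is a
surface; its argument is independent of the dimension, which is left free here. The source's
companion assertions — that the map F_X^*Ω_{X/k} → Ω_{X/k} attached to the lifting is an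
isomorphism, and that Ω_{X/k} becomes trivial on a finite étale cover — are not stated here.) -/
theorem result
    (p : ℕ) [Fact p.Prime] (k : Type u) [Field k] [IsAlgClosed k] [CharP k p]
    (X : Scheme.{u}) (f : X ⟶ Spec (CommRingCat.of k)) [IsProper f] [Smooth f]
    [AlgebraicGeometry.IsIntegral X] [FrobSch.IsCharP X p]
    (d : ℕ) (hd : topologicalKrullDim X = d)
    (W : X.Modules) (hW : ExtPow.IsExtPow d (Omega.sheaf f) W)
    (m : ℕ) (hm : 0 < m) (htors : Nonempty (CohB1.tensorPow W m ≅ Coh.structureModule X))
    (Xl : Scheme.{u}) (g : Xl ⟶ Spec (CommRingCat.of (FrobAlg.W2 p k))) [Flat g]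
    (i : X ⟶ Xl) (hsq : IsPullback i f g (Spec.map (CommRingCat.ofHom (FrobAlg.res p k))))
    (Fl : Xl ⟶ Xl) (hF : i ≫ Fl = FrobSch.frob X p ≫ i)
    (u : CohB1.ProjSpace 1 k ⟶ X) (hu : u ≫ f = CohB1.ProjSpace.toSpec 1 k) :
    ∃ x : Spec (CommRingCat.of k) ⟶ X, x ≫ f = 𝟙 _ ∧ u = CohB1.ProjSpace.toSpec 1 k ≫ x := by
  haveI : SmoothOfRelativeDimension d f := GrothLib.DimCut.smoothOfRelativeDimension f d hd
  haveI : IsLocallyNoetherian X := LocallyOfFiniteType.isLocallyNoetherian f
  let L : GrothLib.FrobLiftDet26.Lift p f := ⟨Xl, g, inferInstance, i, hsq, Fl, hF⟩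
  have hfree := GrothLib.CanonTriv.isFinLocFreeOfRank_sheaf f d
  exact GrothLib.FrobLiftDet26.exists_factor L
    (GrothLib.FrobLiftDet26.isUnit_cdet L W hW hfree hm htors)
    (GrothLib.FrobLiftDet26.exists_chart L hfree) u hu

end Groth.Agent.S18159
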