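import Groth.Statements.S18161
import Groth.Agent.Lib.EtSep10.Basic

set_option autoImplicit false
universe u
open BSB

namespace Groth.Agent.S18161

open AlgebraicGeometry CategoryTheory in
/-- Let f : T ⟶ S be an étale, quasi-compact, quasi-separated and universally closed morphism of
schemes, and suppose that for some natural number d the global functions of every scheme-theoretic
fibre of f form a d-dimensional vector space over the residue field of the corresponding point of S.
Then f is finite. (Separatedness of f is not assumed.) -/
theorem result {T S : Scheme.{u}} (f : T ⟶ S)
    [Etale f] [QuasiCompact f] [QuasiSeparated f] [UniversallyClosed f] (d : ℕ)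
    (hd : ∀ s : S, Module.finrank (S.residueField s) Γ(f.fiber s, ⊤) = d) :
    IsFinite f := by
  exact GrothLib.EtSep10.isFinite f d hd

end Groth.Agent.S18161
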