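import Groth.Statements.S18162
-- import your own Groth.Agent.* helpers here
import Groth.Agent.Lib.RelVanish28.Pair

set_option autoImplicit false
set_option maxHeartbeats 1600000
set_option linter.style.haveILetI false
set_option backward.isDefEq.respectTransparency false
universe u
open BSB

namespace Groth.Agent.S18162

open AlgebraicGeometry CategoryTheory CategoryTheory.Limits in
/-- Let S be a Noetherian scheme, π : X ⟶ S a proper morphism, L and M invertible O_X-modules each ample
relative to π, and F a coherent O_X-module. Then there is n such that R^i π_* (F ⊗ L^a ⊗ M^b) = 0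
for every i > 0 and all a, b ≥ 0 with max(a, b) ≥ n. (Projectivity of π in the source is rendered as
properness together with the given relatively ample invertible modules; the instance argument
recording injective resolutions of O_X-modules is true but not yet in Mathlib.) -/
theorem result {X S : Scheme.{u}} (π : X ⟶ S) [IsNoetherian S] [IsProper π]
    [HasInjectiveResolutions X.Modules]
    (L M : X.Modules) (hLi : PicF.IsInvertible L) (hMi : PicF.IsInvertible M)
    (hL : RelAmple.IsRelAmple π L) (hM : RelAmple.IsRelAmple π M)
    (F : X.Modules) (hF : Coh.IsCoh F) :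
    ∃ n : ℕ, ∀ (i a b : ℕ), 0 < i → n ≤ max a b →
      IsZero ((Coh.Rpush π i).obj (CohB1.tensorMod F (CohB1.tensorMod (CohB1.tensorPow L a) (CohB1.tensorPow M b)))) := by
  obtain ⟨N₁, h₁⟩ := GrothLib.RelVanish28.exists_isZero_Rpush_pair π hLi hMi hL hM hF
  obtain ⟨N₂, h₂⟩ := GrothLib.RelVanish28.exists_isZero_Rpush_pair π hMi hLi hM hL hF
  refine ⟨max N₁ N₂, fun i a b hi hab => ?_⟩
  rcases le_total a b with h | h
  · rw [max_eq_right h] at hab
    exact (h₂ b ((le_max_right _ _).trans hab) a i hi).of_iso
      ((Coh.Rpush π i).mapIso (GrothLib.OX.tensorAssoc F _ _).symm)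
  · rw [max_eq_left h] at hab
    exact (h₁ a ((le_max_left _ _).trans hab) b i hi).of_iso
      ((Coh.Rpush π i).mapIso ((GrothLib.OX.tensorAssoc F _ _).symm ≪≫ GrothLib.RelVanish28.tensorSwap F _ _))

end Groth.Agent.S18162
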