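import Groth.Statements.S18163
import Groth.Agent.Lib.PicDescend29.Main

set_option autoImplicit false
universe u
open BSB

namespace Groth.Agent.S18163

open AlgebraicGeometry CategoryTheory CategoryTheory.Limits in
/-- Let X and X' be proper over a field k, π : X ⟶ X' a k-morphism such that O_{X'} ⟶ π_* O_X is an
isomorphism, L an invertible O_X-module, M an ample invertible module on X' whose pullback along π
is isomorphic to L^m for some m > 0, and d > 0 such that for all large n the power L^n is globally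
generated exactly when d ∣ n (d is the exponent of the semiample module L, and X' with π is the
contraction L determines). Then for e > 0 the power L^e is isomorphic to the pullback of an
invertible module on X' if and only if d ∣ e. -/
theorem result (k : Type u) [Field k] (X X' : Scheme.{u})
    [X.Over (Spec (CommRingCat.of k))] [X'.Over (Spec (CommRingCat.of k))]
    [IsProper (X ↘ Spec (CommRingCat.of k))] [IsProper (X' ↘ Spec (CommRingCat.of k))]
    (π : X ⟶ X') (hover : π ≫ (X' ↘ Spec (CommRingCat.of k)) = X ↘ Spec (CommRingCat.of k))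
    (hπ : ∀ U : X'.Opens, IsIso (π.app U))
    (L : X.Modules) (hL : PicF.IsInvertible L) (M : X'.Modules) (hM : PicF.IsInvertible M) (hMa : CohB1.IsAmple M)
    (m : ℕ) (hm : 0 < m) (e0 : Nonempty ((Scheme.Modules.pullback π).obj M ≅ CohB1.tensorPow L m))
    (d : ℕ) (hd : 0 < d)
    (hexp : ∃ m0 : ℕ, ∀ n : ℕ, m0 ≤ n → (Curv2.IsGloballyGenerated (CohB1.tensorPow L n) ↔ d ∣ n)) :
    ∀ e : ℕ, 0 < e →
      ((∃ L' : X'.Modules, PicF.IsInvertible L' ∧ Nonempty ((Scheme.Modules.pullback π).obj L' ≅ CohB1.tensorPow L e)) ↔ d ∣ e) := by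
  intro e he
  haveI : IsSeparated (X' ↘ Spec (CommRingCat.of k)) := inferInstance
  haveI : IsProper π := by
    haveI : IsProper (π ≫ (X' ↘ Spec (CommRingCat.of k))) := by rw [hover]; infer_instance
    exact IsProper.of_comp π (X' ↘ Spec (CommRingCat.of k))
  open GrothLib.Cube in
  open GrothLib.Ample in
  have h0 : pull π (clsMod hM) = clsMod hL ^ m := by
    rw [← clsMod_pullback, ← clsMod_tensorPow hL, clsMod_eq_iff]
    exact e0
  obtain ⟨m0, hm0⟩ := hexp
  have key := GrothLib.PicDescend29.descends_iff π hπ hM hMa hm h0 hd (l := GrothLib.Cube.clsMod hL)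
    ⟨m0, fun n hn => by
      rw [← hm0 n hn, ← GrothLib.Cube.clsMod_tensorPow hL]
      exact ⟨GrothLib.PicDescend29.gg_of_gen _, GrothLib.PicDescend29.gen_of_gg _⟩⟩ e
  rw [← key]
  constructor
  · rintro ⟨L', hL', hiso⟩
    refine ⟨GrothLib.Cube.clsMod hL', ?_⟩
    rw [← GrothLib.Cube.clsMod_pullback, ← GrothLib.Cube.clsMod_tensorPow hL, GrothLib.Cube.clsMod_eq_iff]
    exact hiso
  · rintro ⟨⟨c⟩, hz⟩
    refine ⟨c.twist 1, c.isInvertible_twist 1, ?_⟩
    change GrothLib.Cube.pull π (GrothLib.Cube.cls c) = _ at hz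
    rw [← GrothLib.Cube.clsMod_eq (c.isInvertible_twist 1) (Iso.refl _), ← GrothLib.Cube.clsMod_pullback,
      ← GrothLib.Cube.clsMod_tensorPow hL, GrothLib.Cube.clsMod_eq_iff] at hz
    exact hz

end Groth.Agent.S18163
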