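import Groth.Statements.S18165
import Groth.Agent.Lib.InvSect4.Main
-- import your own Groth.Agent.* helpers here

set_option autoImplicit false
set_option linter.all false
set_option backward.isDefEq.respectTransparency false
universe u
open BSB

namespace Groth.Agent.S18165

open AlgebraicGeometry CategoryTheory in
/-- Let A be a Henselian local ring with residue field κ and f : X ⟶ Spec A a smooth morphism. Let a
finite group G, of order invertible in κ, act on A by ring automorphisms inducing the identity on κ,
and on X by morphisms σ_g with σ_1 = 𝟙 and σ_{gh} = σ_g ≫ σ_h, compatibly with f (σ_g ≫ f = f ≫ Spec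
of the action of g on A). If x is a κ-point of X over the closed point that is fixed by every σ_g,
then f has a section a : Spec A ⟶ X through x which is equivariant: Spec of the action of g,
followed by a, equals a followed by σ_g. -/
theorem result (A : Type u) [CommRing A] [HenselianLocalRing A]
    (X : Scheme.{u}) (f : X ⟶ Spec (CommRingCat.of A)) [Smooth f]
    (G : Type u) [Group G] [Finite G] [MulSemiringAction G A]
    (hG : IsUnit ((Nat.card G : ℕ) : IsLocalRing.ResidueField A))
    (htriv : ∀ (g : G) (a : A), g • a - a ∈ IsLocalRing.maximalIdeal A)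
    (σ : G → (X ⟶ X)) (hσ1 : σ 1 = 𝟙 X) (hσmul : ∀ g h : G, σ (g * h) = σ g ≫ σ h)
    (hσf : ∀ g : G, σ g ≫ f = f ≫ Spec.map (CommRingCat.ofHom (MulSemiringAction.toRingHom G A g)))
    (x : Spec (CommRingCat.of (IsLocalRing.ResidueField A)) ⟶ X)
    (hx : x ≫ f = Spec.map (CommRingCat.ofHom (IsLocalRing.residue A)))
    (hfix : ∀ g : G, x ≫ σ g = x) :
    ∃ a : Spec (CommRingCat.of A) ⟶ X, a ≫ f = 𝟙 _ ∧
      Spec.map (CommRingCat.ofHom (IsLocalRing.residue A)) ≫ a = x ∧
      ∀ g : G, Spec.map (CommRingCat.ofHom (MulSemiringAction.toRingHom G A g)) ≫ a = a ≫ σ g := by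
  exact GrothLib.InvSect4.exists_invariant A hG htriv f σ hσ1 hσmul hσf x hx hfix

end Groth.Agent.S18165
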