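import Groth.Statements.S18168
import Groth.Agent.Lib.FlatContr29.Main

set_option autoImplicit false
universe u
open BSB

namespace Groth.Agent.S18168

open AlgebraicGeometry CategoryTheory CategoryTheory.Limits in
/-- Let S be a Noetherian scheme, φ : X ⟶ S proper and flat, L an invertible O_X-module, q : X' ⟶ S
proper and ψ : X ⟶ X' an S-morphism with O_{X'} ⟶ ψ_* O_X an isomorphism, and N an invertible module
on X', ample relative to q, with ψ^* N ≅ L^m for some m > 0 (L is then relatively semiample and ψ is
the contraction it determines). If for some n > 0 the higher direct images R^i φ_* (L^(jn)) vanish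
for all i > 0 and j ≥ 1, then X' is flat over S. (The published statement also asserts that the
direct images φ_* (L^(jn)) are finite locally free and that their formation commutes with base
change; those clauses are not restated. The instance argument recording injective resolutions of
O_X-modules is true but not yet in Mathlib.) -/
theorem result {X X' S : Scheme.{u}} [IsNoetherian S]
    (φ : X ⟶ S) [IsProper φ] [Flat φ] [HasInjectiveResolutions X.Modules]
    (L : X.Modules) (hLi : PicF.IsInvertible L)
    (q : X' ⟶ S) [IsProper q] (ψ : X ⟶ X') (hψ : ψ ≫ q = φ) (hψO : ∀ U : X'.Opens, IsIso (ψ.app U))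
    (N : X'.Modules) (hNi : PicF.IsInvertible N) (hN : RelAmple.IsRelAmple q N)
    (m : ℕ) (hm : 0 < m) (eN : Nonempty ((Scheme.Modules.pullback ψ).obj N ≅ CohB1.tensorPow L m))
    (n : ℕ) (hn : 0 < n)
    (hvan : ∀ (i j : ℕ), 0 < i → 1 ≤ j → IsZero ((Coh.Rpush φ i).obj (CohB1.tensorPow L (j * n)))) :
    Flat q := by
  exact GrothLib.FlatContr29.flat_contraction φ q ψ hψ hψO hLi hNi hN hm eN hn hvan

end Groth.Agent.S18168
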