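import Groth.Statements.S18175
import Groth.Agent.Lib.FunFld.RationalChain

set_option autoImplicit false
open FunFld

namespace Groth.Agent.S18175

/-- Let `k` be an algebraically closed field of characteristic zero and `K/k` a function field of one
variable (the function field of a smooth projective curve over `k`). A `g^r_d` is a divisor `D` of
degree `d` with a subspace `V ⊆ L(D)` of dimension `r + 1`; for a place `P` and `n ≥ 0`, `V(-nP) = V
∩ L(D - nP)` is the space of members vanishing to order at least `n` at `P`, so `dim V(-nP)` counts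
the vanishing orders `m_0 < ⋯ < m_r` of `V` at `P` that are at least `n`, and the weight of `V` at
`P` is `∑_{n=1}^{d} dim V(-nP) - r(r+1)/2`. Assume `K` has genus `0` and the `g^r_d` `(D, V)` has at
least a cusp at the place `Q` (`dim V(-2Q) ≥ r`), and let `P, P'` be places other than `Q`. Then up
to a constant factor there is at most one member of `V` vanishing only at `P` and `P'`: if `f, g ∈
V` are nonzero and the divisors `div f + D`, `div g + D` are both supported on `{P, P'}`, then `g =
c f` for some `c ∈ k`. (In the source `Q` is the point where the rational component `Y` meets a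
chain of curves ending in a curve of positive genus, a situation that forces the cusp condition
assumed here.) (The source states this for curves over the complex numbers.) -/
theorem result
    (k : Type*) [Field k] [IsAlgClosed k] [CharZero k]
    (K : Type*) [Field K] [Algebra k K] (hK : FunFld.IsFunctionField k K) (hg0 : FunFld.genus k K = 0)
    (d r : ℕ) (D : FunFld.Divisor k K) (hD : D.deg = d)
    (V : Submodule k K) (hV : V ≤ FunFld.L D) (hVr : Module.finrank k ↥V = r + 1)
    (Q : FunFld.Place k K) (hcusp : r ≤ Module.finrank k ↥(V ⊓ FunFld.L (D - Finsupp.single Q ((2 : ℤ)))))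
    (P P' : FunFld.Place k K) (hP : P ≠ Q) (hP' : P' ≠ Q)
    (f g : K) (hf : f ∈ V) (hg : g ∈ V) (hf0 : f ≠ 0) (hg0' : g ≠ 0)
    (hfs : ∀ R : FunFld.Place k K, R ≠ P → R ≠ P' → (FunFld.div k f + D) R = 0)
    (hgs : ∀ R : FunFld.Place k K, R ≠ P → R ≠ P' → (FunFld.div k g + D) R = 0) :
    ∃ c : k, g = c • f := by
  classical
  have hfg : GrothLib.FunFld.IsFG k K := hK.1
  by_contra hcon
  push Not at hcon
  -- the pencil spanned by `f` and `g`
  set U : Submodule k K := Submodule.span k (Set.range ![f, g]) with hU
  have hli : LinearIndependent k ![f, g] := by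
    rw [LinearIndependent.pair_iff' hf0]
    exact fun a ha => hcon a ha.symm
  have hUr : Module.finrank k U = 1 + 1 := by
    rw [hU, finrank_span_eq_card hli]; simp
  have hUV : U ≤ V := by
    rw [hU, Submodule.span_le]
    rintro _ ⟨i, rfl⟩
    fin_cases i <;> simpa
  have hUD : U ≤ FunFld.L D := hUV.trans hV
  have hord : ∀ (u : K), u ≠ 0 → u ∈ V → ∀ R, 0 ≤ (FunFld.div k u + D) R := fun u hu hu' R => by
    have := (GrothLib.FunFld.mem_L_iff_ord hu).1 (hV hu') R
    rw [Finsupp.add_apply, hfg.div_apply]; exact this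
  have hdegu : ∀ u : K, (FunFld.div k u + D).deg = (d : ℤ) := fun u => by
    rw [GrothLib.FunFld.deg_add, hfg.deg_div, hD]; simp
  have hPP : P ≠ P' := by
    rintro rfl
    have hpt : ∀ u : K, (∀ R : FunFld.Place k K, R ≠ P → R ≠ P → (FunFld.div k u + D) R = 0) →
        FunFld.div k u + D = Finsupp.single P (d : ℤ) := by
      intro u hu
      have hs : FunFld.div k u + D = Finsupp.single P ((FunFld.div k u + D) P) := by
        ext R
        by_cases hR : P = R
        · subst hR; simp
        · rw [hu R (Ne.symm hR) (Ne.symm hR)]; simp [hR]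
      have h1 := hdegu u
      rw [hs, GrothLib.FunFld.deg_single, hfg.deg_eq_one P] at h1
      simp at h1
      rw [hs]
      congr 1
    have heq : ∀ R : FunFld.Place k K, R.ord g = R.ord f := fun R => by
      have := congrArg (fun E : FunFld.Divisor k K => E R) ((hpt g hgs).trans (hpt f hfs).symm)
      simpa [hfg.div_apply] using this
    have hz : g / f ∈ FunFld.L (0 : FunFld.Divisor k K) := by
      rw [GrothLib.FunFld.mem_L_iff_ord (div_ne_zero hg0' hf0)]
      intro R
      rw [div_eq_mul_inv, GrothLib.FunFld.ord_mul R hg0' (inv_ne_zero hf0),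
        GrothLib.FunFld.ord_inv, heq R]
      simp
    rw [GrothLib.FunFld.L_zero_eq_one hK, Submodule.mem_one] at hz
    obtain ⟨c, hc⟩ := hz
    exact hcon c (by rw [Algebra.smul_def, hc, div_mul_cancel₀ _ hf0])
  have hsplit : ∀ u : K, (∀ R : FunFld.Place k K, R ≠ P → R ≠ P' → (FunFld.div k u + D) R = 0) →
      (FunFld.div k u + D) P + (FunFld.div k u + D) P' = d := by
    intro u hu
    have hs : FunFld.div k u + D = Finsupp.single P ((FunFld.div k u + D) P) +
        Finsupp.single P' ((FunFld.div k u + D) P') := by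
      ext R
      by_cases hR : P = R
      · subst hR; simp [hPP]
      · by_cases hR' : P' = R
        · subst hR'; simp [hR]
        · rw [hu R (Ne.symm hR) (Ne.symm hR')]; simp [hR, hR']
    have h1 := hdegu u
    rw [hs, GrothLib.FunFld.deg_add, GrothLib.FunFld.deg_single, GrothLib.FunFld.deg_single,
      hfg.deg_eq_one P, hfg.deg_eq_one P'] at h1
    simpa using h1
  have hPf : 0 ≤ (FunFld.div k f + D) P := hord f hf0 hf P
  have hPg : 0 ≤ (FunFld.div k g + D) P := hord g hg0' hg P
  have hP'f : 0 ≤ (FunFld.div k f + D) P' := hord f hf0 hf P'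
  have hP'g : 0 ≤ (FunFld.div k g + D) P' := hord g hg0' hg P'
  -- weight of the pencil at a point is at least the sum of the orders of `f` and `g`
  have hne : (FunFld.div k f + D) P ≠ (FunFld.div k g + D) P := by
    intro he
    have h1 := hsplit f hfs
    have h2 := hsplit g hgs
    have heq : ∀ R, (FunFld.div k g + D) R = (FunFld.div k f + D) R := fun R => by
      by_cases hR : R = P
      · subst hR; exact he.symm
      · by_cases hR' : R = P'
        · subst hR'; omega
        · rw [hfs R hR hR', hgs R hR hR']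
    have hz : g / f ∈ FunFld.L (0 : FunFld.Divisor k K) := by
      rw [GrothLib.FunFld.mem_L_iff_ord (div_ne_zero hg0' hf0)]
      intro R
      have := heq R
      rw [Finsupp.add_apply, Finsupp.add_apply, hfg.div_apply, hfg.div_apply] at this
      rw [div_eq_mul_inv, GrothLib.FunFld.ord_mul R hg0' (inv_ne_zero hf0),
        GrothLib.FunFld.ord_inv]
      simp; omega
    rw [GrothLib.FunFld.L_zero_eq_one hK, Submodule.mem_one] at hz
    obtain ⟨c, hc⟩ := hz
    exact hcon c (by rw [Algebra.smul_def, hc, div_mul_cancel₀ _ hf0])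
  have hw : ∀ (R : FunFld.Place k K) (a b : ℕ), a < b → ∀ u v : K, u ≠ 0 → v ≠ 0 → u ∈ U → v ∈ U →
      (a : ℤ) = (FunFld.div k u + D) R → (b : ℤ) = (FunFld.div k v + D) R → b ≤ d →
      a + b ≤ GrothLib.FunFld.wsum U D R d := by
    intro R a b hab u v hu hv huU hvU ha hb hbd
    have hterm : ∀ n ∈ Finset.range d, (if n < a then 1 else 0) + (if n < b then 1 else 0) ≤
        GrothLib.FunFld.vdim U D R ((n : ℤ) + 1) := by
      intro n _
      have := GrothLib.FunFld.finite_inf_L hfg U (D - Finsupp.single R ((n : ℤ) + 1))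
      have hmem : ∀ (w : K) (e : ℕ), w ≠ 0 → w ∈ U → (e : ℤ) = (FunFld.div k w + D) R → n < e →
          w ∈ U ⊓ FunFld.L (D - Finsupp.single R ((n : ℤ) + 1)) := by
        intro w e hw hwU he hne'
        refine ⟨hwU, (GrothLib.FunFld.mem_L_iff_ord hw).2 fun S => ?_⟩
        rw [Finsupp.add_apply, hfg.div_apply] at he
        have := (GrothLib.FunFld.mem_L_iff_ord hw).1 (hUD hwU) S
        by_cases hS : R = S
        · subst hS; simp; omega
        · simp [hS]; exact this
      by_cases hna : n < a
      · have h2 : LinearIndependent k (![⟨u, hmem u a hu huU ha hna⟩,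
            ⟨v, hmem v b hv hvU hb (by omega)⟩] :
            Fin 2 → ↥(U ⊓ FunFld.L (D - Finsupp.single R ((n : ℤ) + 1)))) := by
          refine LinearIndependent.of_comp (Submodule.subtype _) ?_
          refine GrothLib.FunFld.linearIndependent_of_ord_injective R _ ?_ ?_
          · intro i j hij
            rw [Finsupp.add_apply, hfg.div_apply] at ha hb
            fin_cases i <;> fin_cases j <;> simp at hij ⊢ <;> omega
          · intro i; fin_cases i <;> simpa
        simpa [GrothLib.FunFld.vdim, hna, show n < b by omega] using h2.fintype_card_le_finrank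
      · by_cases hnb : n < b
        · simp only [hna, hnb, if_false, if_true, zero_add]
          rw [GrothLib.FunFld.vdim, Nat.one_le_iff_ne_zero, Ne, Submodule.finrank_eq_zero]
          exact fun h0 => hv ((Submodule.mem_bot k).1 (h0 ▸ hmem v b hv hvU hb hnb))
        · simp [hna, hnb]
    refine le_trans (le_of_eq ?_) (Finset.sum_le_sum hterm)
    rw [Finset.sum_add_distrib]
    have hc : ∀ e, e ≤ d → (∑ n ∈ Finset.range d, if n < e then 1 else 0) = e := fun e he => by
      rw [← Finset.card_filter]
      refine (congrArg Finset.card ?_).trans (Finset.card_range e)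
      ext n; simp; omega
    rw [hc a (by omega), hc b hbd]
  have hfU : f ∈ U := Submodule.subset_span ⟨0, rfl⟩
  have hgU : g ∈ U := Submodule.subset_span ⟨1, rfl⟩
  obtain ⟨aP, haP⟩ := Int.eq_ofNat_of_zero_le hPf
  obtain ⟨bP, hbP⟩ := Int.eq_ofNat_of_zero_le hPg
  have h1 := hsplit f hfs
  have h2 := hsplit g hgs
  have haP' : ((d - aP : ℕ) : ℤ) = (FunFld.div k f + D) P' := by omega
  have hbP' : ((d - bP : ℕ) : ℤ) = (FunFld.div k g + D) P' := by omega
  have hQ2 : (1 : ℕ) ≤ GrothLib.FunFld.vdim U D Q 2 := by
    have := GrothLib.FunFld.finite_of_le_L hfg hV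
    have := GrothLib.FunFld.finite_of_le_L hfg hUD
    have := GrothLib.FunFld.finite_inf_L hfg V (D - Finsupp.single Q (2 : ℤ))
    have h1 := Submodule.finrank_sup_add_finrank_inf_eq (V ⊓ FunFld.L (D - Finsupp.single Q (2 : ℤ))) U
    have h2 := Submodule.finrank_mono (sup_le inf_le_left hUV :
      (V ⊓ FunFld.L (D - Finsupp.single Q (2 : ℤ))) ⊔ U ≤ V)
    have := GrothLib.FunFld.finite_inf_L hfg U (D - Finsupp.single Q (2 : ℤ))
    have h3 := Submodule.finrank_mono (show (V ⊓ FunFld.L (D - Finsupp.single Q (2 : ℤ))) ⊓ U ≤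
      U ⊓ FunFld.L (D - Finsupp.single Q (2 : ℤ)) from fun x hx => ⟨hx.2, hx.1.2⟩)
    simp only [GrothLib.FunFld.vdim]
    omega
  have hwQ := GrothLib.FunFld.wsum_ge_of_cusp hfg hUD hD hUr (hfg.deg_eq_one Q) hQ2
  have h3 := GrothLib.FunFld.plucker_three hK hg0 hD hUD hUr hPP hP hP'
  rcases Nat.lt_or_gt_of_ne (show aP ≠ bP by omega) with hlt | hlt
  · have h4 := hw P aP bP hlt f g hf0 hg0' hfU hgU haP.symm hbP.symm (by omega)
    have h5 := hw P' (d - bP) (d - aP) (by omega) g f hg0' hf0 hgU hfU hbP' haP' (by omega)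
    omega
  · have h4 := hw P bP aP hlt g f hg0' hf0 hgU hfU hbP.symm haP.symm (by omega)
    have h5 := hw P' (d - aP) (d - bP) (by omega) f g hf0 hg0' hfU hgU haP' hbP' (by omega)
    omega

end Groth.Agent.S18175
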