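import Groth.Statements.S18177
import Groth.Agent.Lib.FunFld.LinSeries

set_option autoImplicit false
open FunFld

namespace Groth.Agent.S18177

/-- Let `k` be an algebraically closed field of characteristic zero and `K/k` a function field of one
variable (the function field of a smooth projective curve over `k`). A `g^r_d` is a divisor `D` of
degree `d` with a subspace `V ⊆ L(D)` of dimension `r + 1`; for a place `P` and `n ≥ 0`, `V(-nP) = V
∩ L(D - nP)` is the space of members vanishing to order at least `n` at `P`, so `dim V(-nP)` counts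
the vanishing orders `m_0 < ⋯ < m_r` of `V` at `P` that are at least `n`, and the weight of `V` at
`P` is `∑_{n=1}^{d} dim V(-nP) - r(r+1)/2`. Let `(D, V)` be a `g^r_d` with `r ≥ 1` and `P ≠ Q`
places at which the weights are large: `w(V, P) + w(V, Q) ≥ (r+1)(d-r) - (r-1)`, that is `(r+1)d + 1
≤ ∑_{n=1}^{d} dim V(-nP) + ∑_{n=1}^{d} dim V(-nQ) + r`. Then `V` contains members with divisors `m_i
Q + (d - m_i) P` for two different indices `i`, and hence `m(Q - P)` is a principal divisor for some
`1 ≤ m ≤ d`. (In the source `K` is an elliptic tail of a degenerate curve, `P` its node and `Q` the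
limit of the moving ramification point, the weight hypothesis coming from `ρ ≤ 0`; it concludes that
only finitely many `Q` are possible. The torsion assertion holds in any genus and is what is stated
here.) (The source states this for curves over the complex numbers.) -/
theorem result
    (k : Type*) [Field k] [IsAlgClosed k] [CharZero k]
    (K : Type*) [Field K] [Algebra k K] (hK : FunFld.IsFunctionField k K)
    (d r : ℕ) (hr : 1 ≤ r) (D : FunFld.Divisor k K) (hD : D.deg = d)
    (V : Submodule k K) (hV : V ≤ FunFld.L D) (hVr : Module.finrank k ↥V = r + 1)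
    (P Q : FunFld.Place k K) (hPQ : P ≠ Q)
    (hw : (r + 1) * d + 1 ≤
      (∑ n ∈ Finset.range d, Module.finrank k ↥(V ⊓ FunFld.L (D - Finsupp.single P ((n : ℤ) + 1)))) +
        (∑ n ∈ Finset.range d, Module.finrank k ↥(V ⊓ FunFld.L (D - Finsupp.single Q ((n : ℤ) + 1)))) + r) :
    ∃ m : ℕ, 1 ≤ m ∧ m ≤ d ∧ ∃ h : K, h ≠ 0 ∧
      FunFld.div k h = Finsupp.single Q (m : ℤ) - Finsupp.single P (m : ℤ) := by
  have hfg : GrothLib.FunFld.IsFG k K := hK.1
  have hP := hfg.deg_eq_one P
  have hQ := hfg.deg_eq_one Q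
  classical
  -- `X n = dim V(-nP) ∩ V(-(d-n)Q)`
  let X : ℕ → ℕ := fun n => Module.finrank k
    ↥(V ⊓ FunFld.L (D - Finsupp.single P (n : ℤ) - Finsupp.single Q ((d : ℤ) - n)))
  have hX : ∀ n ≤ d, GrothLib.FunFld.vdim V D P (n : ℤ) +
      GrothLib.FunFld.vdim V D Q ((d : ℤ) - n) ≤ r + 1 + X n := fun n hn => by
    have := GrothLib.FunFld.vdim_add_le_inf hfg hV hPQ (m := (n : ℤ)) (n := (d : ℤ) - n)
      (by omega) (by omega)
    rw [hVr] at this
    exact this
  have hX1 : ∀ n, X n ≤ 1 := fun n => by
    have := hfg.finite_L (D - Finsupp.single P (n : ℤ) - Finsupp.single Q ((d : ℤ) - n))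
    refine (Submodule.finrank_mono inf_le_right).trans ?_
    have h := GrothLib.FunFld.ell_le_deg_succ hK
      (D - Finsupp.single P (n : ℤ) - Finsupp.single Q ((d : ℤ) - n))
      (by simp [hP, hQ, hD])
    rw [GrothLib.FunFld.deg_sub, GrothLib.FunFld.deg_sub, GrothLib.FunFld.deg_single,
      GrothLib.FunFld.deg_single, hP, hQ, hD] at h
    push_cast at h
    simp only [FunFld.ell] at h
    omega
  have hsum : 2 ≤ ∑ n ∈ Finset.range (d + 1), X n := by
    have h1 : ∑ n ∈ Finset.range (d + 1), (GrothLib.FunFld.vdim V D P (n : ℤ) +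
        GrothLib.FunFld.vdim V D Q ((d : ℤ) - n)) ≤
          (d + 1) * (r + 1) + ∑ n ∈ Finset.range (d + 1), X n := by
      refine (Finset.sum_le_sum fun n hn => hX n (by
        rw [Finset.mem_range] at hn; omega)).trans_eq ?_
      rw [Finset.sum_add_distrib, Finset.sum_const, Finset.card_range, smul_eq_mul]
    rw [Finset.sum_add_distrib, Finset.sum_range_succ',
      Finset.sum_range_succ (f := fun n : ℕ => GrothLib.FunFld.vdim V D Q ((d : ℤ) - n)),
      GrothLib.FunFld.sum_reflect (GrothLib.FunFld.vdim V D Q),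
      GrothLib.FunFld.vdim_of_nonpos hV P (n := ((0 : ℕ) : ℤ)) (by simp),
      GrothLib.FunFld.vdim_of_nonpos hV Q (n := (d : ℤ) - d) (by simp), hVr] at h1
    simp only [GrothLib.FunFld.vdim] at h1
    push_cast at h1
    rw [Nat.succ_mul d (r + 1), mul_comm d (r + 1)] at h1
    omega
  obtain ⟨a, ha, b, hb, hab, hXa, hXb⟩ : ∃ a ∈ Finset.range (d + 1), ∃ b ∈ Finset.range (d + 1),
      a < b ∧ 0 < X a ∧ 0 < X b := by
    by_contra hc
    push Not at hc
    have hcard : ((Finset.range (d + 1)).filter fun n => 0 < X n).card ≤ 1 :=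
      Finset.card_le_one.2 fun a ha b hb => by
        simp only [Finset.mem_filter] at ha hb
        rcases lt_trichotomy a b with h | h | h
        · exact absurd (hc a ha.1 b hb.1 h ha.2) (by omega)
        · exact h
        · exact absurd (hc b hb.1 a ha.1 h hb.2) (by omega)
    set T := (Finset.range (d + 1)).filter fun n => 0 < X n with hT
    have h1 : ∑ n ∈ Finset.range (d + 1), X n = ∑ n ∈ T, X n :=
      (Finset.sum_filter_of_ne (p := fun n => 0 < X n)
        fun n _ h => Nat.pos_of_ne_zero h).symm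
    have h2 : ∑ n ∈ T, X n ≤ ∑ _n ∈ T, 1 := Finset.sum_le_sum fun n _ => hX1 n
    rw [Finset.sum_const, smul_eq_mul, mul_one] at h2
    omega
  rw [Finset.mem_range] at ha hb
  have hex : ∀ n, 0 < X n → ∃ f : K, f ≠ 0 ∧
      FunFld.div k f = Finsupp.single P (n : ℤ) + Finsupp.single Q ((d : ℤ) - n) - D := by
    intro n hn
    obtain ⟨f, hf, hf0⟩ := Submodule.exists_mem_ne_zero_of_ne_bot
      (p := V ⊓ FunFld.L (D - Finsupp.single P (n : ℤ) - Finsupp.single Q ((d : ℤ) - n))) (by
        intro hb
        have h0 : X n = 0 := (congrArg (fun W : Submodule k K => Module.finrank k W) hb).trans (finrank_bot k K)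
        omega)
    refine ⟨f, hf0, ?_⟩
    have hge : 0 ≤ D - Finsupp.single P (n : ℤ) - Finsupp.single Q ((d : ℤ) - n) +
        FunFld.div k f := fun R => by
      have := (GrothLib.FunFld.mem_L_iff_ord hf0).1 hf.2 R
      rw [Finsupp.add_apply, hfg.div_apply, Finsupp.zero_apply]; omega
    have hzero : D - Finsupp.single P (n : ℤ) - Finsupp.single Q ((d : ℤ) - n) +
        FunFld.div k f = 0 := by
      by_contra hne
      obtain ⟨R, hR⟩ := Finsupp.ne_iff.1 hne
      have hle : Finsupp.single R 1 ≤ D - Finsupp.single P (n : ℤ) -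
          Finsupp.single Q ((d : ℤ) - n) + FunFld.div k f := fun S => by
        have := hge S
        by_cases hS : R = S
        · subst hS; simp at this hR ⊢; omega
        · simp [hS] at this ⊢; omega
      have := GrothLib.FunFld.deg_mono hle
      simp [hP, hQ, hD, hfg.deg_div, hfg.deg_eq_one R] at this
    rw [← sub_eq_zero, ← hzero]; abel
  obtain ⟨f, hf0, hf⟩ := hex a hXa
  obtain ⟨g, hg0, hg⟩ := hex b hXb
  refine ⟨b - a, by omega, by omega, f * g⁻¹, mul_ne_zero hf0 (inv_ne_zero hg0), ?_⟩
  rw [hfg.div_mul hf0 (inv_ne_zero hg0), hfg.div_inv, hf, hg, Nat.cast_sub hab.le,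
    Finsupp.single_sub, Finsupp.single_sub, Finsupp.single_sub, Finsupp.single_sub]
  abel

end Groth.Agent.S18177
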