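import Groth.Statements.S18182
import Groth.Agent.Lib.FunFld.HighContact
import Groth.Agent.Lib.FunFld.LinSeries

set_option autoImplicit false
open FunFld

namespace Groth.Agent.S18182

/-- Let `k` be an algebraically closed field of characteristic zero and `K/k` a function field of one
variable (the function field of a smooth projective curve over `k`). A `g^r_d` is a divisor `D` of
degree `d` with a subspace `V ⊆ L(D)` of dimension `r + 1`; for a place `P` and `n ≥ 0`, `V(-nP) = V
∩ L(D - nP)` is the space of members vanishing to order at least `n` at `P`, so `dim V(-nP)` counts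
the vanishing orders `m_0 < ⋯ < m_r` of `V` at `P` that are at least `n`, and the weight of `V` at
`P` is `∑_{n=1}^{d} dim V(-nP) - r(r+1)/2`. Assume `K` has genus one, fix a place `P` and natural
numbers `d` and `r ≥ 1`. Then only finitely many places `Q ≠ P` admit a `g^r_d` `(D, V)` whose
weights at `P` and `Q` are large in the sense `w(V, P) + w(V, Q) ≥ (r+1)(d-r) - (r-1)`, that is
`(r+1)d + 1 ≤ ∑_{n=1}^{d} dim V(-nP) + ∑_{n=1}^{d} dim V(-nQ) + r`. (In the source `K` is an
elliptic tail of a flag curve degenerating a general curve of genus `g`, `P` its node, `Q` the limit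
of a moving ramification point, and the weight hypothesis is what `ρ ≤ 0` gives; the finiteness of
torsion points of bounded order on an elliptic curve is used.) (The source states this for curves
over the complex numbers.) -/
theorem result
    (k : Type*) [Field k] [IsAlgClosed k] [CharZero k]
    (K : Type*) [Field K] [Algebra k K] (hK : FunFld.IsFunctionField k K) (hg1 : FunFld.genus k K = 1)
    (P : FunFld.Place k K) (d r : ℕ) (hr : 1 ≤ r) :
    Set.Finite {Q : FunFld.Place k K | Q ≠ P ∧ ∃ (D : FunFld.Divisor k K) (V : Submodule k K),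
      D.deg = d ∧ V ≤ FunFld.L D ∧ Module.finrank k ↥V = r + 1 ∧
      (r + 1) * d + 1 ≤
        (∑ n ∈ Finset.range d, Module.finrank k ↥(V ⊓ FunFld.L (D - Finsupp.single P ((n : ℤ) + 1)))) +
          (∑ n ∈ Finset.range d, Module.finrank k ↥(V ⊓ FunFld.L (D - Finsupp.single Q ((n : ℤ) + 1)))) + r} := by
  classical
  refine ((Set.finite_Icc 1 d).biUnion fun n hn => GrothLib.FunFld.finite_torsion_translate hK
    (ringChar.eq k 0) hg1 P hn.1).subset ?_
  rintro Q ⟨hQP, D, V, hD, hV, hdim, hsum⟩
  have hfg := hK.1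
  have hP : P.deg = 1 := GrothLib.FunFld.IsFG.deg_eq_one hfg P
  have hQ : Q.deg = 1 := GrothLib.FunFld.IsFG.deg_eq_one hfg Q
  haveI := GrothLib.FunFld.finite_of_le_L hfg hV
  set E : ℕ → FunFld.Divisor k K := fun m => D - Finsupp.single P (m : ℤ) - Finsupp.single Q ((d : ℤ) - m) with hE
  set ι : ℕ → ℕ := fun m => if V ⊓ FunFld.L (E m) = ⊥ then 0 else 1 with hι
  have hEdeg : ∀ m, (E m).deg = 0 := fun m => by
    rw [hE, GrothLib.FunFld.deg_sub, GrothLib.FunFld.deg_sub, GrothLib.FunFld.deg_single,
      GrothLib.FunFld.deg_single, hP, hQ, hD]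
    push_cast; ring
  have hone : ∀ m, Module.finrank k ↥(V ⊓ FunFld.L (E m)) ≤ ι m := by
    intro m
    simp only [hι]
    split_ifs with h0
    · rw [h0, finrank_bot]
    · haveI := GrothLib.FunFld.finite_inf_L hfg V (E m)
      haveI := GrothLib.FunFld.IsFG.finite_L hfg (E m)
      obtain ⟨x, hx, hx0⟩ := Submodule.exists_mem_ne_zero_of_ne_bot h0
      refine (Submodule.finrank_mono (t := Submodule.span k {x}) fun z hz => ?_).trans
        (finrank_span_singleton hx0).le
      rcases eq_or_ne z 0 with rfl | hz0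
      · exact zero_mem _
      have h0 : z / x ∈ (1 : Submodule k K) := GrothLib.FunFld.L_zero_eq_one hK ▸
        (GrothLib.FunFld.mem_L_iff_ord (div_ne_zero hz0 hx0)).2 fun R => by
          rw [div_eq_mul_inv, GrothLib.FunFld.ord_mul R hz0 (inv_ne_zero hx0), GrothLib.FunFld.ord_inv,
            GrothLib.FunFld.ord_eq_neg_of_deg_zero hfg (hEdeg m) hz0 hz.2 R,
            GrothLib.FunFld.ord_eq_neg_of_deg_zero hfg (hEdeg m) hx0 hx.2 R]
          simp
      obtain ⟨c, hc⟩ := Submodule.mem_one.1 h0
      exact Submodule.mem_span_singleton.2 ⟨c, by rw [Algebra.smul_def, hc, div_mul_cancel₀ z hx0]⟩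
  set A : ℕ → ℕ := fun m => GrothLib.FunFld.vdim V D P m with hA
  set B : ℕ → ℕ := fun m => GrothLib.FunFld.vdim V D Q m with hB
  have hterm : ∀ m ∈ Finset.range (d + 1), A m + B (d - m) ≤ (r + 1) + ι m := by
    intro m hm
    rw [Finset.mem_range] at hm
    have h1 := GrothLib.FunFld.vdim_add_le_inf hfg hV (Ne.symm hQP) (m := (m : ℤ)) (n := (d : ℤ) - m)
      (by omega) (by omega)
    have h2 := hone m
    simp only [hA, hB]
    rw [Nat.cast_sub (by omega : m ≤ d)]
    exact h1.trans (by rw [hdim]; exact Nat.add_le_add_left h2 _)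
  have hzero : ∀ R : FunFld.Place k K, GrothLib.FunFld.vdim V D R 0 = r + 1 := fun R =>
    (GrothLib.FunFld.vdim_of_nonpos hV R le_rfl).trans hdim
  have hle := Finset.sum_le_sum hterm
  rw [Finset.sum_add_distrib, Finset.sum_add_distrib, Finset.sum_const, Finset.card_range, smul_eq_mul,
    show ∑ m ∈ Finset.range (d + 1), B (d - m) = ∑ m ∈ Finset.range (d + 1), B m by
      conv_rhs => rw [← Finset.sum_range_reflect]
      simp,
    Finset.sum_range_succ' A, Finset.sum_range_succ' B] at hle
  simp only [hA, hB, GrothLib.FunFld.vdim, Nat.cast_succ, Nat.cast_zero] at hle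
  push_cast at hle
  have hzP := hzero P
  have hzQ := hzero Q
  simp only [GrothLib.FunFld.vdim] at hzP hzQ
  rw [hzP, hzQ] at hle
  have hι2 : 2 ≤ ∑ m ∈ Finset.range (d + 1), ι m := by nlinarith [hle, hsum]
  have hcard : 1 < ((Finset.range (d + 1)).filter fun m => ¬ V ⊓ FunFld.L (E m) = ⊥).card := by
    simp only [hι, Finset.sum_ite, Finset.sum_const_zero, Finset.sum_const, smul_eq_mul, mul_one, zero_add] at hι2
    omega
  obtain ⟨a, ha, b, hb, hab⟩ := Finset.one_lt_card.1 hcard
  wlog hlt : a < b generalizing a b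
  · exact this b hb a ha hab.symm (by omega)
  rw [Finset.mem_filter, Finset.mem_range] at ha hb
  obtain ⟨x, hx, hx0⟩ := Submodule.exists_mem_ne_zero_of_ne_bot ha.2
  obtain ⟨y, hy, hy0⟩ := Submodule.exists_mem_ne_zero_of_ne_bot hb.2
  have hord : ∀ R : FunFld.Place k K, R.ord (x / y) = E b R - E a R := fun R => by
    rw [div_eq_mul_inv, GrothLib.FunFld.ord_mul R hx0 (inv_ne_zero hy0), GrothLib.FunFld.ord_inv,
      GrothLib.FunFld.ord_eq_neg_of_deg_zero hfg (hEdeg a) hx0 hx.2 R,
      GrothLib.FunFld.ord_eq_neg_of_deg_zero hfg (hEdeg b) hy0 hy.2 R]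
    ring
  simp only [Set.mem_iUnion, Set.mem_Icc, Set.mem_setOf_eq]
  refine ⟨b - a, ⟨by omega, by omega⟩, hQP, x / y, div_ne_zero hx0 hy0,
    (GrothLib.FunFld.mem_L_iff_ord (div_ne_zero hx0 hy0)).2 fun R => ?_, ?_⟩
  · rw [hord R, Nat.cast_sub hlt.le]
    simp only [hE, Finsupp.sub_apply]
    by_cases h1 : P = R
    · subst h1; simp [hQP]
    · by_cases h2 : Q = R
      · subst h2; simp [h1, Ne.symm hQP]; omega
      · simp [h1, h2]
  · rw [hord Q, Nat.cast_sub hlt.le]
    simp [hE, hQP, Ne.symm hQP]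

end Groth.Agent.S18182
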