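import Groth.Statements.S18189
import Mathlib
import Groth.Agent.Lib.Elem.CircleSums

set_option autoImplicit false
open OrbRR

namespace Groth.Agent.S18189

/-- Let N ≥ 1 be a natural number, let ζ ∈ ℂ be a primitive N-th root of unity, and put f(i) = i(i −
N)/2 + (N² − 1)/12 for 0 ≤ i < N. For every natural number m the complex number ε_m = (1/N)
∑_{i=0}^{N−1} f(i) ζ^{mi}, an eigenvalue of the symmetric circulant N × N matrix with (i, j) entry
f(j − i)/N, is real and nonnegative. -/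
theorem result (N : ℕ) (hN : 0 < N) (ζ : ℂ)
    (hζ : IsPrimitiveRoot ζ N) (m : ℕ) :
    (∑ i ∈ Finset.range N,
        ((i : ℂ) * ((i : ℂ) - (N : ℂ)) / 2 + ((N : ℂ) ^ 2 - 1) / 12) / (N : ℂ) * ζ ^ (m * i)).im = 0 ∧
    0 ≤ (∑ i ∈ Finset.range N,
        ((i : ℂ) * ((i : ℂ) - (N : ℂ)) / 2 + ((N : ℂ) ^ 2 - 1) / 12) / (N : ℂ) * ζ ^ (m * i)).re := by
  obtain ⟨w, hw, hexp⟩ := GrothLib.Elem.exists_weights N ζ hζ
  have key : ∀ s : ℕ, (∑ i ∈ Finset.range N, ζ ^ (s * i)) / (N : ℂ) =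
      if N ∣ s then 1 else 0 := by
    intro s
    split_ifs with h
    · obtain ⟨q, rfl⟩ := h
      rw [Finset.sum_congr rfl (g := fun _ => (1 : ℂ)) (fun i _ => by
        rw [mul_assoc, pow_mul, hζ.pow_eq_one, one_pow]), Finset.sum_const, Finset.card_range,
        nsmul_one, div_self (Nat.cast_ne_zero.2 hN.ne')]
    · rw [GrothLib.Elem.geom_sum_eq_zero' hζ h, zero_div]
  have hval : (∑ i ∈ Finset.range N,
      ((i : ℂ) * ((i : ℂ) - (N : ℂ)) / 2 + ((N : ℂ) ^ 2 - 1) / 12) / (N : ℂ) * ζ ^ (m * i)) =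
      ((∑ l ∈ Finset.Ioo 0 N, (if N ∣ l + m then w l else 0) : ℝ) : ℂ) := by
    calc _ = ∑ i ∈ Finset.range N, ∑ l ∈ Finset.Ioo 0 N, (w l : ℂ) * (ζ ^ ((l + m) * i) / (N : ℂ)) := by
          refine Finset.sum_congr rfl fun i hi => ?_
          rw [hexp i (Finset.mem_range.1 hi), Finset.sum_div, Finset.sum_mul]
          refine Finset.sum_congr rfl fun l _ => ?_
          rw [add_mul, pow_add]
          ring
      _ = _ := by
          rw [Finset.sum_comm, Complex.ofReal_sum]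
          refine Finset.sum_congr rfl fun l _ => ?_
          rw [← Finset.mul_sum, ← Finset.sum_div, key]
          split_ifs <;> simp
  rw [hval, Complex.ofReal_im, Complex.ofReal_re]
  exact ⟨rfl, Finset.sum_nonneg fun l _ => by split_ifs <;> simp [hw]⟩

end Groth.Agent.S18189
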