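import Groth.Statements.S1819
import Groth.Agent.Lib.DualCx22.DualRep

set_option autoImplicit false
universe u
open CategoryTheory
attribute [local instance] HasDerivedCategory.standard
open Dual

namespace Groth.Agent.S1819

/-- Let A be a Noetherian ring with a dualizing complex ω and K a complex of A-modules all of whose
cohomology modules are finite; assume RHom(K, −) exists. Then every cohomology module of RHom_A(K,
ω) is finite, and for every complex E representing RHom_A(K, ω) (with RHom(E, −) existing) there is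
an isomorphism RHom_A(E, ω) ≅ K in D(A). -/
theorem result (A : Type u) [CommRing A] [IsNoetherianRing A] (ω : Dual.D A) (hω : Dual.IsDualizing A ω) (K : DRing.Cx A) [DRing.HasRHomCx K] (hK : ∀ i : ℤ, Module.Finite A (Dual.HD A (DRing.toD K) i)) : (∀ i : ℤ, Module.Finite A (Dual.HD A ((DRing.RHomCx K).obj ω) i)) ∧ ∀ (E : DRing.Cx A) [DRing.HasRHomCx E], Nonempty (DRing.toD E ≅ (DRing.RHomCx K).obj ω) → Nonempty ((DRing.RHomCx E).obj ω ≅ DRing.toD K) := by
  obtain ⟨r⟩ := GrothLib.DualCx22.nonempty_injRep hω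
  have hfi : DRing.HasFiniteInjDim A ω := ⟨r.a, r.b, r.I, r.vanish, fun t => (Module.injective_iff_injective_object A (r.I.X t)).2 (r.inj t), ⟨r.iso⟩⟩
  obtain ⟨eK⟩ := r.nonempty_rHom_iso K
  refine ⟨fun i => ?_, fun E _ ⟨e⟩ => ?_⟩
  · haveI := GrothLib.DualCx22.finite_hom (DRing.toD K) ω hK hω.finite_cohomology hfi i
    obtain ⟨e₁⟩ := r.nonempty_HD_dual K i
    haveI : Module.Finite A (Dual.HD A (DRing.toD (r.dual K)) i) := Module.Finite.equiv e₁.symm
    exact Module.Finite.equiv ((DerivedCategory.homologyFunctor (ModuleCat.{u} A) i).mapIso eK.symm).toLinearEquiv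
  · obtain ⟨eE⟩ := r.nonempty_rHom_iso E
    obtain ⟨e₂⟩ := r.nonempty_dual_congr (e ≪≫ eK).symm
    obtain ⟨e₃⟩ := r.nonempty_bidual K hK
    exact ⟨eE ≪≫ e₂ ≪≫ e₃.symm⟩

end Groth.Agent.S1819
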