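import Groth.Statements.S18190
import Mathlib
import Groth.Agent.Lib.Elem.CircleSums

set_option autoImplicit false
open OrbRR

namespace Groth.Agent.S18190

/-- Let N ≥ 1 and let f : ℤ/Nℤ → ℚ be f(x) = x(x − N)/2 + (N² − 1)/12, where x is read as its
representative with 0 ≤ x < N. The real N × N matrix indexed by ℤ/Nℤ whose (i, j) entry is f(j −
i)/N, a symmetric circulant matrix, is positive semidefinite. -/
theorem result (N : ℕ) [NeZero N] :
    (Matrix.of fun i j : ZMod N =>
        ((((j - i).val : ℝ) * (((j - i).val : ℝ) - (N : ℝ))) / 2 + ((N : ℝ) ^ 2 - 1) / 12) / (N : ℝ)).PosSemidef := by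
  have hN := NeZero.ne N
  set ζ : ℂ := Complex.exp (2 * Real.pi * Complex.I / N)
  have hζ : IsPrimitiveRoot ζ N := Complex.isPrimitiveRoot_exp N hN
  obtain ⟨w, hw, hexp⟩ := GrothLib.Elem.exists_weights N ζ hζ
  set A := Matrix.of fun i j : ZMod N =>
        ((((j - i).val : ℝ) * (((j - i).val : ℝ) - (N : ℝ))) / 2 + ((N : ℝ) ^ 2 - 1) / 12) / (N : ℝ)
    with hA
  have hper : ∀ l a : ℕ, ζ ^ (l * (a % N)) = ζ ^ (l * a) := fun l a => by
    rw [pow_mul, pow_mul, ← pow_eq_pow_mod a (by rw [← pow_mul, mul_comm, pow_mul, hζ.pow_eq_one, one_pow])]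
  have hconj : ∀ l (i : ZMod N), (starRingEnd ℂ) (ζ ^ (l * i.val)) * ζ ^ (l * i.val) = 1 := fun l i => by
    rw [← Complex.normSq_eq_conj_mul_self, Complex.normSq_eq_norm_sq, norm_pow, hζ.norm'_eq_one hN]
    simp
  have hsub : ∀ l (i j : ZMod N), ζ ^ (l * (j - i).val) =
      (starRingEnd ℂ) (ζ ^ (l * i.val)) * ζ ^ (l * j.val) := by
    intro l i j
    have h1 : ((j - i).val + i.val) % N = j.val := by rw [← ZMod.val_add, sub_add_cancel]
    rw [← h1, hper, mul_add, pow_add, ← mul_assoc, mul_comm _ (ζ ^ (l * (j - i).val)), mul_assoc,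
      hconj, mul_one]
  refine Matrix.PosSemidef.of_dotProduct_mulVec_nonneg ?_ fun x => ?_
  · refine Matrix.IsHermitian.ext fun i j => ?_
    simp only [hA, Matrix.of_apply, star_trivial]
    by_cases hij : i - j = 0
    · rw [sub_eq_zero.1 hij]
    · have : (j - i).val = N - (i - j).val := by
        rw [← neg_sub, ZMod.neg_val, if_neg hij]
      rw [this, Nat.cast_sub (ZMod.val_lt _).le]
      ring
  · have hval : ((star x ⬝ᵥ A.mulVec x : ℝ) : ℂ) =
        ((∑ l ∈ Finset.Ioo 0 N, w l / N * Complex.normSq (∑ i, (x i : ℂ) * ζ ^ (l * i.val)) : ℝ) : ℂ) := by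
      simp only [dotProduct, Matrix.mulVec, star_trivial, Finset.mul_sum, Complex.ofReal_sum,
        Complex.ofReal_mul, Complex.normSq_eq_conj_mul_self, map_sum, map_mul, Complex.conj_ofReal,
        Finset.sum_mul, Finset.mul_sum]
      conv_rhs => rw [Finset.sum_comm]; arg 2; ext i; rw [Finset.sum_comm]
      rw [Finset.sum_comm]
      refine Finset.sum_congr rfl fun j _ => Finset.sum_congr rfl fun i _ => ?_
      simp only [hA, Matrix.of_apply]
      push_cast
      rw [hexp _ (ZMod.val_lt _), Finset.sum_div, Finset.sum_mul, Finset.mul_sum]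
      refine Finset.sum_congr rfl fun l _ => ?_
      rw [hsub]
      ring
    rw [Complex.ofReal_inj] at hval
    rw [hval]
    exact Finset.sum_nonneg fun l _ =>
      mul_nonneg (div_nonneg (hw l) (Nat.cast_nonneg N)) (Complex.normSq_nonneg _)

end Groth.Agent.S18190
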