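import Groth.Statements.S18191
import Groth.Agent.Lib.LocImm8.Factor
import Groth.Agent.Lib.LocImm8.Compose

set_option autoImplicit false
set_option backward.isDefEq.respectTransparency false
universe u
open LocImm

namespace Groth.Agent.S18191

open CategoryTheory AlgebraicGeometry in
/-- Let `f : X ⟶ S` be a separated morphism of Noetherian schemes that is essentially of finite type.
Then `f` factors as a localizing immersion `k : X ⟶ Y` (a localizing morphism injective on points)
followed by a separated morphism of finite type `p : Y ⟶ S`, with `Y` Noetherian. -/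
theorem result {X S : Scheme.{u}} [IsNoetherian X] [IsNoetherian S] (f : X ⟶ S) [IsSeparated f] [EssFT.EssFiniteType f] :
    ∃ (Y : Scheme.{u}) (k : X ⟶ Y) (p : Y ⟶ S), IsNoetherian Y ∧ LocImm.IsLocImmersion k ∧ IsSeparated p ∧ LocallyOfFiniteType p ∧ QuasiCompact p ∧ k ≫ p = f := by
  obtain ⟨Z, i, g, h1, h2, h3, h4, h5, -, h7⟩ := GrothLib.LocImm8.exists_factor f
  exact ⟨Z, i, g, h1, h2, h3, h4, h5, h7⟩

end Groth.Agent.S18191
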