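import Groth.Statements.S18192
import Groth.Agent.Lib.LocImm8.Factor
import Groth.Agent.Lib.LocImm8.Compose

set_option autoImplicit false
set_option backward.isDefEq.respectTransparency false
universe u
open LocImm

namespace Groth.Agent.S18192

open CategoryTheory AlgebraicGeometry in
/-- Let `f : X ⟶ S` be a separated morphism of Noetherian schemes and `U₁, U₂` two opens covering `X`
such that each restriction `U_i ⟶ S` of `f` factors as a localizing immersion `k_i : U_i ⟶ Y_i`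
(localizing and injective on points, `Y_i` Noetherian) followed by a separated morphism of finite
type `p_i : Y_i ⟶ S`. Then `f` factors as a localizing immersion `k : X ⟶ Y` with `Y` Noetherian
followed by a separated morphism of finite type `p : Y ⟶ S`. -/
theorem result {X S : Scheme.{u}} [IsNoetherian X] [IsNoetherian S] (f : X ⟶ S) [IsSeparated f]
    (U₁ U₂ : X.Opens) (hU : U₁ ⊔ U₂ = ⊤) (Y₁ Y₂ : Scheme.{u}) [IsNoetherian Y₁] [IsNoetherian Y₂]
    (k₁ : (U₁ : Scheme.{u}) ⟶ Y₁) (k₂ : (U₂ : Scheme.{u}) ⟶ Y₂) (p₁ : Y₁ ⟶ S) (p₂ : Y₂ ⟶ S)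
    (hk₁ : LocImm.IsLocImmersion k₁) (hk₂ : LocImm.IsLocImmersion k₂)
    [IsSeparated p₁] [IsSeparated p₂] [LocallyOfFiniteType p₁] [LocallyOfFiniteType p₂] [QuasiCompact p₁] [QuasiCompact p₂]
    (h₁ : k₁ ≫ p₁ = U₁.ι ≫ f) (h₂ : k₂ ≫ p₂ = U₂.ι ≫ f) :
    ∃ (Y : Scheme.{u}) (k : X ⟶ Y) (p : Y ⟶ S), IsNoetherian Y ∧ LocImm.IsLocImmersion k ∧ IsSeparated p ∧ LocallyOfFiniteType p ∧ QuasiCompact p ∧ k ≫ p = f := by
  haveI : EssFT.LocallyEssFiniteType f := by
    refine ⟨fun x => ?_⟩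
    have key : ∀ (U : X.Opens) {Y : Scheme.{u}} (k : (U : Scheme.{u}) ⟶ Y) (p : Y ⟶ S), IsLocImmersion k →
        LocallyOfFiniteType p → k ≫ p = U.ι ≫ f → x ∈ U → ∃ (V : S.affineOpens) (W : X.affineOpens) (_ : x ∈ W.1)
          (e : W.1 ≤ f ⁻¹ᵁ V.1), (f.appLE V W e).hom.EssFiniteType := by
      intro U Y k p hk hp hkp hx
      haveI := GrothLib.LocImm8.locallyEssFiniteType_of_isLocalizing hk.1
      haveI := GrothLib.LocImm8.locallyEssFiniteType_of_locallyOfFiniteType p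
      have := GrothLib.LocImm8.locallyEssFiniteType_comp k p
      rw [hkp] at this
      obtain ⟨V, W, hxW, e, hfin⟩ := this.exists_appLE_essFiniteType ⟨x, hx⟩
      refine ⟨V, ⟨U.ι ''ᵁ W.1, W.2.image_of_isOpenImmersion _⟩, ⟨⟨x, hx⟩, hxW, rfl⟩, ?_, ?_⟩
      · rintro _ ⟨y, hy, rfl⟩
        exact e hy
      · have h1 : (U.ι ≫ f).appLE V W e = f.appLE V (U.ι ''ᵁ W.1) (by rintro _ ⟨y, hy, rfl⟩; exact e hy) ≫
            (U.ι.appIso W.1).hom := by
          rw [Scheme.Hom.appIso_hom', Scheme.Hom.appLE_comp_appLE]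
        rw [h1] at hfin
        exact (RingHom.EssFiniteType.respectsIso.cancel_right_isIso _ _).1 hfin
    rcases (show x ∈ U₁ ⊔ U₂ by rw [hU]; trivial) with hx | hx
    · exact key U₁ k₁ p₁ hk₁ inferInstance h₁ hx
    · exact key U₂ k₂ p₂ hk₂ inferInstance h₂ hx
  obtain ⟨Z, i, g, e1, e2, e3, e4, e5, -, e7⟩ := GrothLib.LocImm8.exists_factor f
  exact ⟨Z, i, g, e1, e2, e3, e4, e5, e7⟩

end Groth.Agent.S18192
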