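import Groth.Statements.S18193
import Groth.Agent.Lib.LocImm8.Near
import Groth.Agent.S18195

set_option autoImplicit false
set_option backward.isDefEq.respectTransparency false
universe u
open LocImm

namespace Groth.Agent.S18193

open CategoryTheory AlgebraicGeometry in
/-- Let `X, Y₁, Y₂, S` be Noetherian schemes, `f_i : X ⟶ Y_i` separated localizing immersions
(localizing and injective on points) and `π_i : Y_i ⟶ S` separated morphisms of finite type with `f₁
≫ π₁ = f₂ ≫ π₂`. Then there are a scheme `W`, a localizing immersion `k : X ⟶ W` and open immersions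
`g_i : W ⟶ Y_i` compatible over `S` with `k ≫ g_i = f_i`; in particular `W` is of finite type over
`S`. -/
theorem result {X Y₁ Y₂ S : Scheme.{u}} [IsNoetherian X] [IsNoetherian Y₁] [IsNoetherian Y₂] [IsNoetherian S]
    (f₁ : X ⟶ Y₁) (f₂ : X ⟶ Y₂) (π₁ : Y₁ ⟶ S) (π₂ : Y₂ ⟶ S)
    (hf₁ : LocImm.IsLocImmersion f₁) (hf₂ : LocImm.IsLocImmersion f₂) [IsSeparated f₁] [IsSeparated f₂]
    [IsSeparated π₁] [IsSeparated π₂] [LocallyOfFiniteType π₁] [LocallyOfFiniteType π₂] (h : f₁ ≫ π₁ = f₂ ≫ π₂) :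
    ∃ (W : Scheme.{u}) (k : X ⟶ W) (g₁ : W ⟶ Y₁) (g₂ : W ⟶ Y₂), LocImm.IsLocImmersion k ∧ IsOpenImmersion g₁ ∧ IsOpenImmersion g₂ ∧ g₁ ≫ π₁ = g₂ ≫ π₂ ∧ k ≫ g₁ = f₁ ∧ k ≫ g₂ = f₂ := by
  let P := Limits.pullback π₁ π₂
  let γ : X ⟶ P := Limits.pullback.lift f₁ f₂ h
  let p₁ : P ⟶ Y₁ := Limits.pullback.fst π₁ π₂
  let p₂ : P ⟶ Y₂ := Limits.pullback.snd π₁ π₂
  haveI : LocallyOfFiniteType p₁ := inferInstanceAs (LocallyOfFiniteType (Limits.pullback.fst π₁ π₂))
  haveI : LocallyOfFiniteType p₂ := inferInstanceAs (LocallyOfFiniteType (Limits.pullback.snd π₁ π₂))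
  haveI : IsSeparated p₁ := inferInstanceAs (IsSeparated (Limits.pullback.fst π₁ π₂))
  haveI : IsSeparated p₂ := inferInstanceAs (IsSeparated (Limits.pullback.snd π₁ π₂))
  haveI : QuasiCompact p₁ := inferInstanceAs (QuasiCompact (Limits.pullback.fst π₁ π₂))
  haveI : IsLocallyNoetherian P := LocallyOfFiniteType.isLocallyNoetherian p₁
  haveI : CompactSpace P := QuasiCompact.compactSpace_of_compactSpace p₁
  haveI : AlgebraicGeometry.IsNoetherian P := ⟨⟩
  haveI : QuasiCompact γ := inferInstance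
  let G := γ.image
  haveI : IsLocallyNoetherian G := LocallyOfFiniteType.isLocallyNoetherian (γ.imageι ≫ p₁)
  haveI : CompactSpace G := QuasiCompact.compactSpace_of_compactSpace (γ.imageι ≫ p₁)
  haveI : AlgebraicGeometry.IsNoetherian G := ⟨⟩
  haveI := GrothLib.Misc6.isSchemeTheoreticallyDominant_toImage γ
  have e₁ : γ.toImage ≫ (γ.imageι ≫ p₁) = f₁ := by
    rw [Scheme.Hom.toImage_imageι_assoc]; exact Limits.pullback.lift_fst _ _ _
  have e₂ : γ.toImage ≫ (γ.imageι ≫ p₂) = f₂ := by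
    rw [Scheme.Hom.toImage_imageι_assoc]; exact Limits.pullback.lift_snd _ _ _
  have hk : IsLocImmersion γ.toImage := Groth.Agent.S18195.result γ.toImage (γ.imageι ≫ p₁) (by rw [e₁]; exact hf₁)
    (fun U => γ.toImage.app_injective U)
  obtain ⟨L₁, hL₁, hLo₁⟩ := GrothLib.LocImm8.exists_isOpenImmersion_near (γ.imageι ≫ p₁) hk (by rw [e₁]; exact hf₁)
  obtain ⟨L₂, hL₂, hLo₂⟩ := GrothLib.LocImm8.exists_isOpenImmersion_near (γ.imageι ≫ p₂) hk (by rw [e₂]; exact hf₂)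
  let L := L₁ ⊓ L₂
  have hr : Set.range γ.toImage ⊆ Set.range L.ι := by
    rw [Scheme.Opens.range_ι]
    exact Set.subset_inter hL₁ hL₂
  let k := IsOpenImmersion.lift L.ι γ.toImage hr
  have hkι : k ≫ L.ι = γ.toImage := IsOpenImmersion.lift_fac _ _ _
  refine ⟨L, k, L.ι ≫ γ.imageι ≫ p₁, L.ι ≫ γ.imageι ≫ p₂,
    GrothLib.LocImm8.isLocImmersion_of_comp_openImmersion L.ι (by rw [hkι]; exact hk), ?_, ?_, ?_, ?_, ?_⟩
  · rw [← Scheme.homOfLE_ι _ (inf_le_left : L ≤ L₁), Category.assoc]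
    infer_instance
  · rw [← Scheme.homOfLE_ι _ (inf_le_right : L ≤ L₂), Category.assoc]
    infer_instance
  · simp only [Category.assoc, p₁, p₂, Limits.pullback.condition]
  · rw [← Category.assoc, hkι, e₁]
  · rw [← Category.assoc, hkι, e₂]

end Groth.Agent.S18193
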