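import Groth.Statements.S18194
import Groth.Agent.Lib.LocImm8.Near

set_option autoImplicit false
set_option backward.isDefEq.respectTransparency false
universe u
open LocImm

namespace Groth.Agent.S18194

open CategoryTheory AlgebraicGeometry in
/-- Let `X, Y₁, Y₂` be Noetherian schemes, `f_i : X ⟶ Y_i` separated localizing immersions (localizing
and injective on points) and `g : Y₁ ⟶ Y₂` a separated morphism essentially of finite type with `f₁
≫ g = f₂`. Then there is an open `U ⊆ Y₁` containing the image of `f₁` such that the restriction `U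
⟶ Y₂` of `g` is a localizing immersion. -/
theorem result {X Y₁ Y₂ : Scheme.{u}} [IsNoetherian X] [IsNoetherian Y₁] [IsNoetherian Y₂]
    (f₁ : X ⟶ Y₁) (f₂ : X ⟶ Y₂) (g : Y₁ ⟶ Y₂) (hf₁ : LocImm.IsLocImmersion f₁) (hf₂ : LocImm.IsLocImmersion f₂)
    [IsSeparated f₁] [IsSeparated f₂] [IsSeparated g] [EssFT.EssFiniteType g] (h : f₁ ≫ g = f₂) :
    ∃ U : Y₁.Opens, Set.range (fun x => f₁ x) ⊆ (U : Set Y₁) ∧ LocImm.IsLocImmersion (U.ι ≫ g) := by
  obtain ⟨Z, i, q, hZ, hi, hqs, hqft, hqc, -, hiq⟩ := GrothLib.LocImm8.exists_factor g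
  haveI := hqs
  haveI := hqft
  have hk : IsLocImmersion (f₁ ≫ i) := GrothLib.LocImm8.isLocImmersion_comp hf₁ hi
  obtain ⟨L, hL, hLo⟩ := GrothLib.LocImm8.exists_isOpenImmersion_near q hk (by rw [Category.assoc, hiq, h]; exact hf₂)
  haveI : AlgebraicGeometry.IsNoetherian (i ⁻¹ᵁ L).toScheme := by
    haveI : IsLocallyNoetherian (i ⁻¹ᵁ L).toScheme := isLocallyNoetherian_of_isOpenImmersion (i ⁻¹ᵁ L).ι
    haveI : CompactSpace (i ⁻¹ᵁ L).toScheme := isCompact_iff_compactSpace.1 (TopologicalSpace.NoetherianSpace.isCompact _)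
    exact ⟨⟩
  refine ⟨i ⁻¹ᵁ L, ?_, ?_⟩
  · rintro _ ⟨u, rfl⟩
    exact hL ⟨u, rfl⟩
  have h1 : IsLocImmersion ((i ⁻¹ᵁ L).ι ≫ i) := GrothLib.LocImm8.isLocImmersion_comp
    (GrothLib.LocImm8.isLocImmersion_of_openImmersion _) hi
  have h2 : IsLocImmersion (i.resLE L (i ⁻¹ᵁ L) le_rfl) :=
    GrothLib.LocImm8.isLocImmersion_of_comp_openImmersion L.ι (by rw [Scheme.Hom.resLE_comp_ι]; exact h1)
  have h3 := GrothLib.LocImm8.isLocImmersion_comp_openImmersion h2 (L.ι ≫ q)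
  rwa [Scheme.Hom.resLE_comp_ι_assoc, hiq] at h3

end Groth.Agent.S18194
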