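import Groth.Statements.S18196
import Mathlib.AlgebraicGeometry.Morphisms.SurjectiveOnStalks

set_option autoImplicit false
universe u
open LocImm

namespace Groth.Agent.S18196

open CategoryTheory AlgebraicGeometry in
/-- Let `f : X ⟶ Y` and `g : Y ⟶ Z` be morphisms of Noetherian schemes with `g` separated and `f ≫ g` a
localizing immersion (localizing and injective on points). If `f` is proper then `f` is a closed
immersion. -/
theorem result {X Y Z : Scheme.{u}} [IsNoetherian X] [IsNoetherian Y] [IsNoetherian Z]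
    (f : X ⟶ Y) (g : Y ⟶ Z) (hfg : LocImm.IsLocImmersion (f ≫ g)) [IsSeparated g] [IsProper f] : IsClosedImmersion f := by
  obtain ⟨hloc, hinj⟩ := hfg
  have : SurjectiveOnStalks (f ≫ g) := by
    refine ⟨fun x ↦ ?_⟩
    obtain ⟨U, V, hxV, e, hQ⟩ := hloc x
    have h1 : RingHom.SurjectiveOnStalks ((f ≫ g).appLE U V e).hom := by
      let _ := ((f ≫ g).appLE U V e).hom.toAlgebra
      obtain ⟨M, hM⟩ := hQ
      exact RingHom.surjectiveOnStalks_of_isLocalization (M := M) Γ(X, V.1)
    have : SurjectiveOnStalks (Spec.map ((f ≫ g).appLE U V e)) := SurjectiveOnStalks.Spec_iff.mpr h1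
    have : IsIso V.2.isoSpec.hom := inferInstance
    have h2 : V.1.ι ≫ (f ≫ g) = V.2.isoSpec.hom ≫ Spec.map ((f ≫ g).appLE U V e) ≫ U.2.fromSpec := by
      rw [IsAffineOpen.SpecMap_appLE_fromSpec (f ≫ g) U.2 V.2 e, ← Category.assoc (V.2.isoSpec.hom),
        IsAffineOpen.fromSpec, Iso.hom_inv_id_assoc]
    have : SurjectiveOnStalks (V.1.ι ≫ (f ≫ g)) := by rw [h2]; infer_instance
    have h3 := (V.1.ι ≫ (f ≫ g)).stalkMap_surjective ⟨x, hxV⟩
    rw [Scheme.Hom.stalkMap_comp] at h3
    intro a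
    obtain ⟨b, hb⟩ := h3 ((V.1.ι.stalkMap ⟨x, hxV⟩).hom a)
    refine ⟨b, ?_⟩
    exact (ConcreteCategory.bijective_of_isIso (V.1.ι.stalkMap ⟨x, hxV⟩)).1 hb
  have hinj' : Function.Injective f.base := fun a b h ↦ hinj (by
    rw [Scheme.Hom.comp_apply, Scheme.Hom.comp_apply, h])
  have : SurjectiveOnStalks f := SurjectiveOnStalks.of_comp f g
  have : IsPreimmersion f :=
    ⟨(Topology.IsClosedEmbedding.of_continuous_injective_isClosedMap f.continuous hinj' f.isClosedMap).isEmbedding⟩
  exact IsClosedImmersion.of_isPreimmersion f f.isClosedMap.isClosed_range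

end Groth.Agent.S18196
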