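import Groth.Statements.S18197
import Groth.Agent.Lib.LocImm8.Affine
import Mathlib.AlgebraicGeometry.Morphisms.Separated
import Mathlib.AlgebraicGeometry.Morphisms.UniversallyInjective
import Mathlib.AlgebraicGeometry.PullbackCarrier

set_option autoImplicit false
set_option backward.isDefEq.respectTransparency false
universe u
open LocImm

namespace Groth.Agent.S18197

open CategoryTheory AlgebraicGeometry in
/-- Let `f : X ⟶ Y` be a localizing morphism of Noetherian schemes. Then `f` is injective on points if
and only if `f` is separated and injective on the set of maximal points of `X` (the generic points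
of its irreducible components, i.e. the points with no proper generization). -/
theorem result {X Y : Scheme.{u}} [IsNoetherian X] [IsNoetherian Y] (f : X ⟶ Y) (hf : LocImm.IsLocalizing f) :
    Function.Injective f.base ↔ (IsSeparated f ∧ Set.InjOn (fun x => f x) {x : X | ∀ x' : X, x' ⤳ x → x' = x}) := by
  constructor
  · intro h
    haveI := GrothLib.LocImm8.mono ⟨hf, h⟩
    exact ⟨inferInstance, fun a _ b _ e => h e⟩
  · rintro ⟨hs, hinj⟩ x x' hxx
    haveI := GrothLib.LocImm8.surjectiveOnStalks hf
    haveI := GrothLib.LocImm8.flat hf
    haveI : Flat (Limits.pullback.fst f f) := inferInstance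
    haveI : Flat (Limits.pullback.snd f f) := inferInstance
    obtain ⟨z, hz1, hz2⟩ := Scheme.Pullback.exists_preimage_pullback (f := f) (g := f) x x' hxx
    obtain ⟨η, hη⟩ := QuasiSober.sober isIrreducible_irreducibleComponent (isClosed_irreducibleComponent (x := z))
    have hmax : ∀ w, w ⤳ η → w = η := by
      intro w hw
      have hsub : irreducibleComponent z ⊆ closure {w} := by
        rw [← hη.def]
        exact closure_minimal (Set.singleton_subset_iff.2 (specializes_iff_mem_closure.1 hw)) isClosed_closure
      have he := (irreducibleComponent_mem_irreducibleComponents z).2 isIrreducible_singleton.closure hsub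
      exact (hw.antisymm (hη.specializes (he (subset_closure rfl)))).eq
    have key : ∀ (p : Limits.pullback f f ⟶ X) [Flat p], p η ∈ {x : X | ∀ x' : X, x' ⤳ x → x' = x} := by
      intro p _ a ha
      obtain ⟨w, hw, e⟩ := Flat.generalizingMap (f := p) ha
      rw [← e, hmax w hw]
    have hp : Limits.pullback.fst f f η = Limits.pullback.snd f f η := by
      refine hinj (key _) (key _) ?_
      show f (Limits.pullback.fst f f η) = f (Limits.pullback.snd f f η)
      rw [← Scheme.Hom.comp_apply, Limits.pullback.condition, Scheme.Hom.comp_apply]
    have hd : Limits.pullback.diagonal f (Limits.pullback.fst f f η) = η := by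
      apply (SurjectiveOnStalks.isEmbedding_pullback f f).injective
      show (Limits.pullback.fst f f _, Limits.pullback.snd f f _) = _
      rw [← Scheme.Hom.comp_apply (Limits.pullback.diagonal f), ← Scheme.Hom.comp_apply (Limits.pullback.diagonal f),
        Limits.pullback.diagonal_fst, Limits.pullback.diagonal_snd]
      exact congrArg (Prod.mk _) hp
    have hc : IsClosed (Set.range (Limits.pullback.diagonal f)) := (Limits.pullback.diagonal f).isClosedEmbedding.isClosed_range
    obtain ⟨a, ha⟩ := (hη.specializes mem_irreducibleComponent).mem_closed hc ⟨_, hd⟩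
    rw [← hz1, ← hz2, ← ha, ← Scheme.Hom.comp_apply, ← Scheme.Hom.comp_apply, Limits.pullback.diagonal_fst,
      Limits.pullback.diagonal_snd]

end Groth.Agent.S18197
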