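import Groth.Statements.S18199
import Groth.Agent.Lib.LocImm8.Factor
import Mathlib.AlgebraicGeometry.Morphisms.Proper

set_option autoImplicit false
set_option backward.isDefEq.respectTransparency false
universe u
open LocImm

namespace Groth.Agent.S18199

open CategoryTheory AlgebraicGeometry in
/-- A separated, universally closed morphism of Noetherian schemes that is essentially of finite type is
proper; thus no new class of proper-like morphisms arises among essentially finite-type ones. -/
theorem result {X S : Scheme.{u}} [IsNoetherian X] [IsNoetherian S] (f : X ⟶ S) [IsSeparated f] [EssFT.EssFiniteType f] [UniversallyClosed f] : IsProper f := by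
  obtain ⟨Z, i, g, hZ, hi, hgs, hgft, hgc, -, hig⟩ := GrothLib.LocImm8.exists_factor f
  haveI := hgs
  haveI : UniversallyClosed (i ≫ g) := by rw [hig]; infer_instance
  haveI : UniversallyClosed i := UniversallyClosed.of_comp_of_isSeparated i g
  haveI : IsOpenImmersion i := GrothLib.LocImm8.isOpenImmersion_of_isOpen_range hi
    (GrothLib.LocImm8.isOpen_of_isClosed_stableUnderGeneralization i.isClosedMap.isClosed_range
      (GrothLib.LocImm8.range_stableUnderGeneralization hi.1))
  haveI : LocallyOfFiniteType f := by rw [← hig]; infer_instance
  exact { }

end Groth.Agent.S18199
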