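import Groth.Statements.S18200
import Groth.Agent.Lib.LocImm8.Factor
import Groth.Agent.Lib.LocImm8.Compose
import Groth.Agent.Lib.AbsApprox.FiniteApprox
import Mathlib.AlgebraicGeometry.ZariskisMainTheorem
import Mathlib.AlgebraicGeometry.Morphisms.FinitePresentation

set_option autoImplicit false
set_option backward.isDefEq.respectTransparency false
universe u
open LocImm

namespace Groth.Agent.S18200

open CategoryTheory AlgebraicGeometry in
/-- Let `f : X ⟶ Y` be a separated morphism of Noetherian schemes that is essentially quasi-finite: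
essentially of finite type with every fibre the spectrum of a finite algebra over the residue field
(equivalently, `f` locally quasi-finite in the fibrewise sense, which carries no finite-type
condition). Then `f` factors as a localizing immersion `i : X ⟶ Z` (localizing and injective on
points, `Z` Noetherian) followed by a finite morphism `h : Z ⟶ Y`. -/
theorem result {X Y : Scheme.{u}} [IsNoetherian X] [IsNoetherian Y] (f : X ⟶ Y) [IsSeparated f] [EssFT.EssFiniteType f] [LocallyQuasiFinite f] :
    ∃ (Z : Scheme.{u}) (i : X ⟶ Z) (h : Z ⟶ Y), IsNoetherian Z ∧ LocImm.IsLocImmersion i ∧ IsFinite h ∧ i ≫ h = f := by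
  obtain ⟨Z, i, g, h1, h2, h3, h4, h5, -, h7⟩ := GrothLib.LocImm8.exists_factor f
  let U := g.quasiFiniteLocus
  have hr : Set.range i ⊆ Set.range U.ι := by
    rw [Scheme.Opens.range_ι]
    rintro _ ⟨x, rfl⟩
    have hq : (i ≫ g).QuasiFiniteAt x := by rw [h7]; exact f.quasiFiniteAt x
    haveI := GrothLib.LocImm8.isIso_stalkMap h2.1 x
    unfold Scheme.Hom.QuasiFiniteAt at hq
    rw [Scheme.Hom.stalkMap_comp] at hq
    exact (RingHom.QuasiFinite.respectsIso.cancel_right_isIso _ _).1 hq
  let i' := IsOpenImmersion.lift U.ι i hr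
  have hi' : i' ≫ U.ι = i := IsOpenImmersion.lift_fac _ _ _
  have hloc : IsLocImmersion i' := GrothLib.LocImm8.isLocImmersion_of_comp_openImmersion U.ι (by rw [hi']; exact h2)
  haveI : IsLocallyNoetherian U.toScheme := isLocallyNoetherian_of_isOpenImmersion U.ι
  haveI : CompactSpace U.toScheme := isCompact_iff_compactSpace.1 (TopologicalSpace.NoetherianSpace.isCompact _)
  let g' := U.ι ≫ g
  haveI : LocallyQuasiFinite g' := inferInstanceAs (LocallyQuasiFinite (g.quasiFiniteLocus.ι ≫ g))
  haveI : QuasiCompact g' := inferInstance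
  let k := g'.toNormalization
  obtain ⟨J, _, _, _, D, π, hl, hfin, haff⟩ := GrothLib.AbsApprox.exists_finite_system_of_integral g'.fromNormalization
  let D' := D ⋙ Over.forget Y
  let c : Limits.Cone D' := (Over.forget Y).mapCone (Limits.Cone.mk (Over.mk g'.fromNormalization) π)
  have hc : Limits.IsLimit c := Limits.isLimitOfPreserves (Over.forget Y) hl
  haveI : ∀ (i j : Jᵒᵖ) (a : i ⟶ j), IsAffineHom (D'.map a) := fun i j a => haff i j a
  let h : ∀ j, D'.obj j ⟶ Y := fun j => (D.obj j).hom
  haveI : ∀ j, IsFinite (h j) := fun j => (hfin j).1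
  haveI : ∀ i, CompactSpace (D'.obj i) := fun i => QuasiCompact.compactSpace_of_compactSpace (h i)
  haveI : ∀ i, QuasiSeparatedSpace (D'.obj i) := fun i => quasiSeparatedSpace_of_quasiSeparated (h i)
  haveI : ∀ {i j : Jᵒᵖ} (a : i ⟶ j), IsAffineHom (D'.map a) := fun a => inferInstance
  haveI : ∀ i, IsAffineHom (c.π.app i) := fun i => isAffineHom_π_app D' c hc i
  have hh : ∀ {i j : Jᵒᵖ} (a : i ⟶ j), D'.map a ≫ h j = h i := fun a => Over.w (D.map a)
  have hf : ∀ j, c.π.app j ≫ h j = g'.fromNormalization := fun j => Over.w (π.app j)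
  let k' : U.toScheme ⟶ c.pt := k
  haveI : IsOpenImmersion k' := inferInstanceAs (IsOpenImmersion g'.toNormalization)
  haveI : EssFT.LocallyEssFiniteType (k' ≫ g'.fromNormalization) := by
    show EssFT.LocallyEssFiniteType (g'.toNormalization ≫ g'.fromNormalization)
    rw [Scheme.Hom.toNormalization_fromNormalization]
    exact GrothLib.LocImm8.locallyEssFiniteType_of_locallyOfFiniteType g'
  obtain ⟨j₀⟩ : Nonempty Jᵒᵖ := inferInstance
  obtain ⟨m, a, hm⟩ := GrothLib.LocImm8.exists_stage_isLocImmersion (S := Y) (h := h) hc hh hf k' j₀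
  let p := c.π.app m
  let t : U.toScheme ⟶ p.image := k' ≫ p.toImage
  let q : p.image ⟶ Y := p.imageι ≫ h m
  have htq : t ≫ q = g' := by
    show (k' ≫ p.toImage) ≫ p.imageι ≫ h m = g'
    rw [Category.assoc, Scheme.Hom.toImage_imageι_assoc]
    show g'.toNormalization ≫ p ≫ h m = g'
    rw [show p ≫ h m = g'.fromNormalization from hf m, Scheme.Hom.toNormalization_fromNormalization]
  haveI : IsLocallyNoetherian p.image := LocallyOfFiniteType.isLocallyNoetherian q
  haveI : CompactSpace p.image := QuasiCompact.compactSpace_of_compactSpace q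
  haveI : AlgebraicGeometry.IsNoetherian p.image := ⟨⟩
  haveI : AlgebraicGeometry.IsNoetherian U.toScheme := ⟨⟩
  haveI : LocallyOfFiniteType t := by
    haveI : LocallyOfFiniteType (t ≫ q) := by rw [htq]; infer_instance
    exact locallyOfFiniteType_of_comp t q
  haveI := GrothLib.LocImm8.flat (show IsLocImmersion t from hm).1
  haveI : IsOpenImmersion t := GrothLib.LocImm8.isOpenImmersion_of_isOpen_range hm t.isOpenMap.isOpen_range
  exact ⟨p.image, i' ≫ t, q, inferInstance, GrothLib.LocImm8.isLocImmersion_comp_openImmersion hloc t, inferInstance,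
    by rw [Category.assoc, htq, ← h7, ← hi', Category.assoc]⟩

end Groth.Agent.S18200
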