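import Groth.Statements.S18206
import Groth.Agent.Lib.LocImm8.Affine
import Mathlib.AlgebraicGeometry.Morphisms.UniversallyInjective
import Mathlib.AlgebraicGeometry.Morphisms.FinitePresentation
import Groth.Agent.Lib.BlowUp.IdealComap

set_option autoImplicit false
set_option backward.isDefEq.respectTransparency false
universe u
open LocImm

namespace Groth.Agent.S18206

open CategoryTheory AlgebraicGeometry in
/-- Let `f : X ⟶ Y` be a localizing immersion (localizing and injective on points) of Noetherian
schemes. Then every quasi-coherent ideal sheaf `I` on `X` is the inverse image ideal `J·O_X` of some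
quasi-coherent ideal sheaf `J` on `Y` (all such ideals are coherent, the schemes being Noetherian). -/
theorem result {X Y : Scheme.{u}} [IsNoetherian X] [IsNoetherian Y]
    (f : X ⟶ Y) (hf : LocImm.IsLocImmersion f) (I : X.IdealSheafData) : ∃ J : Y.IdealSheafData, J.comap f = I := by
  haveI : QuasiCompact f := inferInstance
  refine ⟨I.map f, ?_⟩
  choose V hxV hV hW hQ using GrothLib.LocImm8.exists_affine_nhd hf
  refine Scheme.IdealSheafData.ext_of_iSup_eq_top (fun x => ⟨f ⁻¹ᵁ V x, hW x⟩) ?_ fun x => ?_
  · exact top_le_iff.1 fun x _ => TopologicalSpace.Opens.mem_iSup.2 ⟨x, hxV x⟩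
  · rw [GrothLib.BlowUp.ideal_comap_eq_map (I.map f) f ⟨V x, hV x⟩ ⟨_, hW x⟩ le_rfl,
      Scheme.IdealSheafData.ideal_map I f ⟨V x, hV x⟩ (hW x), ← Scheme.Hom.app_eq_appLE]
    have h := hQ x
    algebraize [(f.app (V x)).hom]
    obtain ⟨M, hM⟩ := h
    exact IsLocalization.map_under M _ _

end Groth.Agent.S18206
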