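import Groth.Statements.S18209
import Groth.Agent.Lib.LocImm8.BlowUp

set_option autoImplicit false
universe u
open LocImm

namespace Groth.Agent.S18209

open CategoryTheory AlgebraicGeometry Limits in
/-- Let `f : X ⟶ Y` and `g : Y ⟶ Z` be separated morphisms of Noetherian schemes, essentially of finite
type, such that `f` and `f ≫ g` are localizing immersions (localizing and injective on points). Then
there are blow-ups `b : Ỹ ⟶ Y` and `c : Z̃ ⟶ Z` in quasi-coherent (hence coherent) ideals whose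
closed subschemes are disjoint from the image of `X`, and a localizing immersion `g' : Ỹ ⟶ Z̃`
lifting `g`, i.e. `g' ≫ c = b ≫ g`. -/
theorem result {X Y Z : Scheme.{u}} [IsNoetherian X] [IsNoetherian Y] [IsNoetherian Z]
    (f : X ⟶ Y) (g : Y ⟶ Z) [IsSeparated f] [IsSeparated g] [EssFT.EssFiniteType f] [EssFT.EssFiniteType g]
    (hf : LocImm.IsLocImmersion f) (hfg : LocImm.IsLocImmersion (f ≫ g)) :
    ∃ (𝓘 : Y.IdealSheafData) (𝓙 : Z.IdealSheafData) (Yt Zt : Scheme.{u}) (b : Yt ⟶ Y) (c : Zt ⟶ Z) (g' : Yt ⟶ Zt),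
      BlowUp.IsBlowUp b 𝓘 ∧ Disjoint (𝓘.support : Set Y) (Set.range (fun x => f x)) ∧
      BlowUp.IsBlowUp c 𝓙 ∧ Disjoint (𝓙.support : Set Z) (Set.range (fun x => g (f x))) ∧
      LocImm.IsLocImmersion g' ∧ g' ≫ c = b ≫ g := by
    obtain ⟨Y₁, i, g₀, hY₁, hi, hgs, hgft, -, -, hig⟩ := GrothLib.LocImm8.exists_factor g
    subst hig
    haveI := GrothLib.LocImm8.flat hi.1
    obtain ⟨P, J, Zt, c, W, b, hb, hdP, hc, hdJ, hbc, -⟩ :=
      GrothLib.LocImm8.exists_lift_ft (f ≫ i) g₀ (GrothLib.LocImm8.isLocImmersion_comp hf hi)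
        (by rw [Category.assoc]; exact hfg)
    refine ⟨P.comap i, J, _, Zt, Limits.pullback.fst i b, c, Limits.pullback.snd i b ≫ W.ι,
      GrothLib.BlowUp.isBlowUp_flat_baseChange i hb, ?_, hc, ?_, ?_, ?_⟩
    · rw [Scheme.IdealSheafData.support_comap]
      refine Set.disjoint_left.2 ?_
      rintro _ hy ⟨x, rfl⟩
      exact Set.disjoint_left.1 hdP hy ⟨x, Scheme.Hom.comp_apply _ _ _⟩
    · simpa only [Scheme.Hom.comp_apply] using hdJ
    · haveI := GrothLib.LocImm8.mono hi
      exact ⟨GrothLib.LocImm8.isLocalizing_comp_openImmersion (GrothLib.LocImm8.isLocalizing_pullback_snd hi.1 b) _,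
        (Limits.pullback.snd i b ≫ W.ι).injective⟩
    · rw [Category.assoc, ← hbc, Limits.pullback.condition_assoc]

end Groth.Agent.S18209
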