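import Groth.Statements.S1821
import Groth.Agent.Lib.RelDual22.Rows

set_option autoImplicit false
universe u
open CategoryTheory
open scoped TensorProduct
attribute [local instance] HasDerivedCategory.standard
attribute [local instance] GrothLib.DualRing.Shriek.pfl_of_flat
open Dual2

namespace Groth.Agent.S1821

/-- Let R → A and A → B be flat ring maps of finite presentation, K a relative dualizing complex for R →
A and L a complex of B-modules whose class is a relative dualizing complex for A → B (relative
dualizing in the sense: R-perfect with RHom_{S⊗S}(S, − ⊗^L (S ⊗ S)) ≅ S, the base change and RHom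
functors being the assumed ones). Assuming the derived base change D(A) → D(B) and − ⊗^L_B L exist,
(K ⊗^L_A B) ⊗^L_B L is a relative dualizing complex for R → B. -/
theorem result (R A B : Type u) [CommRing R] [CommRing A] [CommRing B] [Algebra R A] [Algebra A B] [Algebra R B] [IsScalarTower R A B] [Module.Flat R A] [Algebra.FinitePresentation R A] [Module.Flat A B] [Algebra.FinitePresentation A B] [DRing.HasLBaseChange (Algebra.TensorProduct.includeLeftRingHom : A →+* TensorProduct R A A)] (RμA : Dual.D (TensorProduct R A A) ⥤ Dual.D A) (adjA : DRing.restrictD (Algebra.TensorProduct.lmul' R (S := A)).toRingHom ⊣ RμA) [DRing.HasLBaseChange (Algebra.TensorProduct.includeLeftRingHom : B →+* TensorProduct A B B)] (RμBA : Dual.D (TensorProduct A B B) ⥤ Dual.D B) (adjBA : DRing.restrictD (Algebra.TensorProduct.lmul' A (S := B)).toRingHom ⊣ RμBA) [DRing.HasLBaseChange (Algebra.TensorProduct.includeLeftRingHom : B →+* TensorProduct R B B)] (RμB : Dual.D (TensorProduct R B B) ⥤ Dual.D B) (adjB : DRing.restrictD (Algebra.TensorProduct.lmul'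 R (S := B)).toRingHom ⊣ RμB) (K : Dual.D A) (hK : Dual2.IsRelDualizing R A RμA K) (L : DRing.Cx B) (hL : Dual2.IsRelDualizing A B RμBA (DRing.toD L)) [DRing.HasLBaseChange (algebraMap A B)] [DRing.HasLTensorCx B L] : Dual2.IsRelDualizing R B RμB ((DRing.LTensorCx B L).obj ((DRing.LBaseChange (algebraMap A B)).obj K)) := by
  obtain ⟨n, ψA, hA⟩ := GrothLib.RelDual22.exists_presentation R A
  obtain ⟨m, ψB, hB⟩ := GrothLib.RelDual22.exists_presentation A B
  obtain ⟨eK⟩ := GrothLib.RelDual22.iso_GP_of_isRelDualizing RμA adjA ψA hA hK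
  obtain ⟨eL⟩ := GrothLib.RelDual22.iso_GP_of_isRelDualizing RμBA adjBA ψB hB hL
  haveI : Module.Flat R B := Module.Flat.trans R A B
  haveI : Algebra.FinitePresentation R B := Algebra.FinitePresentation.trans R A B
  obtain ⟨χ, hχ, ⟨ec⟩⟩ := GrothLib.RelDual22.exists_GP_comp ψA hA ψB hB
  obtain ⟨et⟩ := GrothLib.RelDual22.nonempty_GP_iso_LTensor ψB hB L eL
    (GrothLib.DualRing.Shriek.GP ψA (Dual.inD R R))
  exact GrothLib.RelDual22.isRelDualizing_of_iso RμB
    (ec ≪≫ et ≪≫ (DRing.LTensorCx B L).mapIso ((DRing.LBaseChange (algebraMap A B)).mapIso eK.symm))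
    (GrothLib.RelDual22.isRelDualizing_GP RμB adjB χ hχ)

end Groth.Agent.S1821
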