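import Groth.Statements.S18210
import Groth.Agent.Lib.LocImm8.Common

set_option autoImplicit false
universe u
open LocImm

namespace Groth.Agent.S18210

open CategoryTheory AlgebraicGeometry Limits in
/-- Let `S` be a Noetherian scheme, `U` and `Y_1, …, Y_n` Noetherian schemes separated and essentially
of finite type over `S`, and `f_i : U ⟶ Y_i` localizing immersions over `S` (localizing and
injective on points). Then there are blow-ups `b_i : Ỹ_i ⟶ Y_i` in quasi-coherent ideals whose
closed subschemes miss `f_i(U)`, a separated `S`-scheme `Z` of finite type, lifts `u_i : U ⟶ Ỹ_i` of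
the `f_i`, and localizing immersions `g_i : Ỹ_i ⟶ Z` over `S` with dense image such that all
composites `u_i ≫ g_i` coincide. (The published statement does not require the `Y_i` to be separated
over `S`; its proof factors each `Y_i ⟶ S` through the main factorization result, which needs it,
and without it the line with a doubled point over a field, with `U` the complement of the doubled
point, is a counterexample, since a scheme admitting a localizing immersion into a separated
`S`-scheme is separated over `S`.) -/
theorem result {S U : Scheme.{u}} [IsNoetherian S] [IsNoetherian U] {n : ℕ}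
    (gU : U ⟶ S) (Y : Fin n → Scheme.{u}) [∀ i, IsNoetherian (Y i)] (q : ∀ i, Y i ⟶ S)
    [∀ i, IsSeparated (q i)] [∀ i, EssFT.EssFiniteType (q i)]
    (f : ∀ i, U ⟶ Y i) (hf : ∀ i, LocImm.IsLocImmersion (f i)) (hfq : ∀ i, f i ≫ q i = gU) :
    ∃ (Z : Scheme.{u}) (r : Z ⟶ S) (_ : IsSeparated r) (_ : LocallyOfFiniteType r) (_ : QuasiCompact r)
      (𝓘 : ∀ i, (Y i).IdealSheafData) (Yt : Fin n → Scheme.{u}) (b : ∀ i, Yt i ⟶ Y i) (u : ∀ i, U ⟶ Yt i) (g : ∀ i, Yt i ⟶ Z),
      (∀ i, BlowUp.IsBlowUp (b i) (𝓘 i) ∧ Disjoint ((𝓘 i).support : Set (Y i)) (Set.range (fun x => f i x)) ∧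
        u i ≫ b i = f i ∧ LocImm.IsLocImmersion (g i) ∧ Dense (Set.range (fun x => g i x)) ∧ g i ≫ r = b i ≫ q i) ∧
      (∀ i i', u i ≫ g i = u i' ≫ g i') := by
    classical
    choose X ι p hX hι hps hpft _hpqc _hdom hip using fun i => GrothLib.LocImm8.exists_factor (q i)
    have hk : ∀ i, LocImm.IsLocImmersion (f i ≫ ι i) := fun i => GrothLib.LocImm8.isLocImmersion_comp (hf i) (hι i)
    have hkp : ∀ i, (f i ≫ ι i) ≫ p i = gU := fun i => by rw [Category.assoc, hip i]; exact hfq i
    cases n with
    | zero =>
      exact ⟨S, 𝟙 S, inferInstance, inferInstance, inferInstance, fun i => i.elim0, fun i => i.elim0,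
        fun i => i.elim0, fun i => i.elim0, fun i => i.elim0, fun i => i.elim0, fun i => i.elim0⟩
    | succ n =>
      haveI := hX
      haveI := hps
      haveI := hpft
      obtain ⟨Z, r, hr, hrl, hrq, u, P, Xt, c, v, o, -, hud, -, H⟩ :=
        GrothLib.LocImm8.exists_common gU X p (fun i => f i ≫ ι i) hk hkp
      haveI := fun i => GrothLib.LocImm8.flat (hι i).1
      let u' : ∀ i, U ⟶ Limits.pullback (ι i) (c i) := fun i => Limits.pullback.lift (f i) (v i) (H i).2.2.1.symm
      let g' : ∀ i, Limits.pullback (ι i) (c i) ⟶ Z := fun i => Limits.pullback.snd (ι i) (c i) ≫ o i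
      have hug : ∀ i, u' i ≫ g' i = u := fun i => by
        simp only [u', g', Limits.pullback.lift_snd_assoc]; exact (H i).2.2.2.2.2
      refine ⟨Z, r, hr, hrl, hrq, fun i => (P i).comap (ι i), _, fun i => Limits.pullback.fst (ι i) (c i), u', g',
        fun i => ⟨GrothLib.BlowUp.isBlowUp_flat_baseChange (ι i) (H i).1, ?_, Limits.pullback.lift_fst _ _ _, ?_, ?_, ?_⟩,
        fun i i' => (hug i).trans (hug i').symm⟩
      · rw [Scheme.IdealSheafData.support_comap]
        refine Set.disjoint_left.2 ?_
        rintro _ hy ⟨x, rfl⟩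
        exact Set.disjoint_left.1 (H i).2.1 hy ⟨x, Scheme.Hom.comp_apply _ _ _⟩
      · haveI := (H i).2.2.2.1
        haveI := GrothLib.LocImm8.mono (hι i)
        exact ⟨GrothLib.LocImm8.isLocalizing_comp_openImmersion
          (GrothLib.LocImm8.isLocalizing_pullback_snd (hι i).1 (c i)) _, (g' i).injective⟩
      · refine hud.mono ?_
        rintro _ ⟨x, rfl⟩
        exact ⟨u' i x, by show g' i (u' i x) = u x; rw [← Scheme.Hom.comp_apply, hug]⟩
      · simp only [g', Category.assoc]
        rw [(H i).2.2.2.2.1, ← Limits.pullback.condition_assoc, hip i]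

end Groth.Agent.S18210
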