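import Groth.Statements.S18213
import Groth.Agent.Lib.LocImm8.Localizable
import Groth.Agent.Lib.FibreFlat.OpenScheme

set_option autoImplicit false
set_option backward.isDefEq.respectTransparency false
universe u
open LocImm

namespace Groth.Agent.S18213

open CategoryTheory AlgebraicGeometry in
/-- Let `f : X ⟶ Y` be a separated morphism of Noetherian schemes, essentially of finite type. Then the
set of points `x` for which the composite `Spec O_{X,x} ⟶ X ⟶ Y` is flat is open, and if `f` is flat
it factors as a localizing immersion `i : X ⟶ Z` (localizing and injective on points, `Z`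
Noetherian) followed by a separated flat morphism of finite type `h : Z ⟶ Y`. -/
theorem result {X Y : Scheme.{u}} [IsNoetherian X] [IsNoetherian Y] (f : X ⟶ Y) [IsSeparated f] [EssFT.EssFiniteType f] :
    IsOpen {x : X | Flat (X.fromSpecStalk x ≫ f)} ∧
      (Flat f → ∃ (Z : Scheme.{u}) (i : X ⟶ Z) (h : Z ⟶ Y), IsNoetherian Z ∧ LocImm.IsLocImmersion i ∧ IsSeparated h ∧ LocallyOfFiniteType h ∧ QuasiCompact h ∧ Flat h ∧ i ≫ h = f) := by
  have hst : ∀ {A B : Scheme.{u}} (g : A ⟶ B) (a : A), Flat (A.fromSpecStalk a ≫ g) ↔ (g.stalkMap a).hom.Flat := by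
    intro A B g a
    haveI := GrothLib.LocImm8.flat (GrothLib.LocImm8.isLocImmersion_fromSpecStalk A a).1
    constructor
    · intro h
      have h2 := Flat.stalkMap (A.fromSpecStalk a ≫ g) (IsLocalRing.closedPoint _)
      rw [Scheme.Hom.stalkMap_comp] at h2
      haveI := GrothLib.LocImm8.isIso_stalkMap (GrothLib.LocImm8.isLocImmersion_fromSpecStalk A a).1 (IsLocalRing.closedPoint _)
      have h3 := (RingHom.Flat.respectsIso.cancel_right_isIso _ _).1 h2
      rwa [Scheme.fromSpecStalk_closedPoint] at h3
    · intro h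
      rw [← Scheme.SpecMap_stalkMap_fromSpecStalk]
      haveI := GrothLib.LocImm8.flat (GrothLib.LocImm8.isLocImmersion_fromSpecStalk B (g a)).1
      haveI : Flat (Spec.map (g.stalkMap a)) := Flat.SpecMap_iff.mpr h
      infer_instance
  obtain ⟨-, h2, h3⟩ := GrothLib.LocImm8.localizable (@Flat)
    (fun {W X' Y'} _ _ _ i g _ _ hi hg => by
      haveI := hg
      haveI := GrothLib.LocImm8.flat hi.1
      exact inferInstanceAs (Flat (i ≫ g)))
    (fun {X' Y'} _ _ g _ _ h => Flat.of_stalkMap g fun x => (hst g x).1 (h x))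
    (fun {X' Y'} _ _ g _ _ => by
      haveI : LocallyOfFinitePresentation g := inferInstance
      rw [show {x : X' | Flat (X'.fromSpecStalk x ≫ g)} = {x : X' | (g.stalkMap x).hom.Flat} from Set.ext (hst g)]
      exact GrothLib.FibreFlat.isOpen_flat_stalkMap g) f
  exact ⟨h2, h3⟩

end Groth.Agent.S18213
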