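import Groth.Statements.S18214
import Groth.Agent.Lib.LocImm8.BlowUp

set_option autoImplicit false
universe u
open LocImm

namespace Groth.Agent.S18214

open CategoryTheory AlgebraicGeometry Limits in
/-- Let `f : X ⟶ Y` and `g : Y ⟶ Z` be separated morphisms of Noetherian schemes, essentially of finite
type, with `f` and `f ≫ g` localizing immersions (localizing and injective on points), `g` proper
and `X` dense in `Z`. Then there are blow-ups `b : Ỹ ⟶ Y` and `c : Z̃ ⟶ Z` in quasi-coherent ideals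
whose closed subschemes miss the image of `X`, and an ISOMORPHISM `g' : Ỹ ⟶ Z̃` lifting `g` (`g' ≫ c
= b ≫ g`). -/
theorem result {X Y Z : Scheme.{u}} [IsNoetherian X] [IsNoetherian Y] [IsNoetherian Z]
    (f : X ⟶ Y) (g : Y ⟶ Z) [IsSeparated f] [EssFT.EssFiniteType f] [IsProper g]
    (hf : LocImm.IsLocImmersion f) (hfg : LocImm.IsLocImmersion (f ≫ g)) (hd : Dense (Set.range (fun x => g (f x)))) :
    ∃ (𝓘 : Y.IdealSheafData) (𝓙 : Z.IdealSheafData) (Yt Zt : Scheme.{u}) (b : Yt ⟶ Y) (c : Zt ⟶ Z) (g' : Yt ⟶ Zt),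
      BlowUp.IsBlowUp b 𝓘 ∧ Disjoint (𝓘.support : Set Y) (Set.range (fun x => f x)) ∧
      BlowUp.IsBlowUp c 𝓙 ∧ Disjoint (𝓙.support : Set Z) (Set.range (fun x => g (f x))) ∧
      IsIso g' ∧ g' ≫ c = b ≫ g := by
    obtain ⟨P, J, Zt, c, W, b, hb, hdP, hc, hdJ, hbc, htop⟩ := GrothLib.LocImm8.exists_lift_ft f g hf hfg
    obtain rfl := htop inferInstance
    exact ⟨P, J, _, Zt, b, c, (⊤ : Zt.Opens).ι, hb, hdP, hc, hdJ, GrothLib.Nagata6.isIso_ι_top Zt, hbc.symm⟩

end Groth.Agent.S18214
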