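import Groth.Statements.S18215
import Groth.Agent.Lib.LocImm8.BlowUp
import Mathlib.AlgebraicGeometry.Morphisms.Proper

set_option autoImplicit false
universe u
open LocImm

namespace Groth.Agent.S18215

open CategoryTheory AlgebraicGeometry Limits in
/-- Let `S` be a Noetherian scheme, `a : X ⟶ S` separated and essentially of finite type, `b : Y ⟶ S`
proper, with `X, Y` Noetherian, `Z` a Noetherian scheme with a localizing immersion `j : Z ⟶ X`
(localizing and injective on points) whose image is dense, and `f : Z ⟶ Y` a morphism over `S`. Then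
there are a blow-up `c : X̃ ⟶ X` in a quasi-coherent ideal whose closed subscheme misses `j(Z)`, the
lift `e : Z ⟶ X̃` of `j` (`e ≫ c = j`) and a morphism `f' : X̃ ⟶ Y` over `S` extending `f` (`e ≫ f'
= f`): after an admissible blow-up the rational map `f` is defined everywhere. -/
theorem result {S X Y Z : Scheme.{u}} [IsNoetherian S] [IsNoetherian X] [IsNoetherian Y] [IsNoetherian Z]
    (a : X ⟶ S) (b : Y ⟶ S) [IsSeparated a] [EssFT.EssFiniteType a] [IsProper b]
    (j : Z ⟶ X) (hj : LocImm.IsLocImmersion j) (hjd : Dense (Set.range (fun x => j x))) (f : Z ⟶ Y) (hjf : j ≫ a = f ≫ b) :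
    ∃ (𝓘 : X.IdealSheafData) (Xt : Scheme.{u}) (c : Xt ⟶ X) (e : Z ⟶ Xt) (f' : Xt ⟶ Y),
      BlowUp.IsBlowUp c 𝓘 ∧ Disjoint (𝓘.support : Set X) (Set.range (fun x => j x)) ∧
      e ≫ c = j ∧ e ≫ f' = f ∧ c ≫ a = f' ≫ b := by
    obtain ⟨X₀, iX, a₀, hX₀, hiX, ha, haft, -, -, hia⟩ := GrothLib.LocImm8.exists_factor a
    subst hia
    haveI := GrothLib.LocImm8.flat hiX.1
    obtain ⟨I, X1, q, W, ft, u, hft, hq, hdis, hd, hcl, hu, huf⟩ :=
      GrothLib.LocImm8.exists_extension_ft a₀ b (j ≫ iX) (GrothLib.LocImm8.isLocImmersion_comp hj hiX) f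
        (by rw [Category.assoc]; exact hjf)
    haveI := hcl
    have hWtop : W = ⊤ := by
      have hc : IsClosed (W : Set X1) := by
        rw [← Scheme.Opens.range_ι W, ← Limits.pullback.lift_fst W.ι ft hft]
        exact (Limits.pullback.lift W.ι ft hft ≫ Limits.pullback.fst _ _).isClosedMap.isClosed_range
      exact TopologicalSpace.Opens.ext (by rw [TopologicalSpace.Opens.coe_top, ← hd.closure_eq, hc.closure_eq])
    subst hWtop
    haveI := GrothLib.Nagata6.isIso_ι_top X1
    let g : X1 ⟶ Y := inv (⊤ : X1.Opens).ι ≫ ft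
    refine ⟨I.comap iX, _, Limits.pullback.fst iX q,
      Limits.pullback.lift j (u ≫ (⊤ : X1.Opens).ι) (by rw [Category.assoc]; exact hu.symm),
      Limits.pullback.snd iX q ≫ g, GrothLib.BlowUp.isBlowUp_flat_baseChange iX hq, ?_, Limits.pullback.lift_fst _ _ _, ?_, ?_⟩
    · rw [Scheme.IdealSheafData.support_comap]
      refine Set.disjoint_left.2 ?_
      rintro _ hx ⟨z, rfl⟩
      exact Set.disjoint_left.1 hdis hx ⟨z, Scheme.Hom.comp_apply _ _ _⟩
    · rw [Limits.pullback.lift_snd_assoc, Category.assoc, IsIso.hom_inv_id_assoc, huf]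
    · rw [Limits.pullback.condition_assoc (f := iX), Category.assoc]
      simp only [g, Category.assoc, ← hft, IsIso.inv_hom_id_assoc]

end Groth.Agent.S18215
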