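import Groth.Statements.S18229
-- import your own Groth.Agent.* helpers here
import Groth.Agent.Lib.Cube.AmpleCrit
import Groth.Agent.Lib.FinCov.FrameFree
import Groth.Agent.Lib.Rigidity.SmoothGroup
import Groth.Agent.Lib.ProjCoh.Generic

set_option autoImplicit false
universe u
open CategoryTheory CategoryTheory.Limits MonoidalCategory CartesianMonoidalCategory MonObj GrpObj AlgebraicGeometry
open AbVar

namespace Groth.Agent.S18229

set_option backward.isDefEq.respectTransparency false in
open TopologicalSpace GrothLib.Cube GrothLib in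
/-- On a simple abelian variety a nontrivial effective class is fixed by finitely many translations. -/
theorem finite_stab_of_simple {K : Type u} [Field K] [IsAlgClosed K] {A : Over (Spec (CommRingCat.of K))}
    [GrpObj A] [IsProper A.hom] [GeometricallyIntegral A.hom]
    (hsimple : ∀ (B : Over (Spec (CommRingCat.of K))) [GrpObj B] [GeometricallyIntegral B.hom] (i : B ⟶ A) [IsMonHom i]
      [IsClosedImmersion i.left], Subsingleton ↥B.left ∨ IsIso i)
    (x : GrothLib.Cube.Pic A.left) {U : A.left.Opens} (hU : GrothLib.Cube.HasSec x U) (hUne : U ≠ ⊥) (hx1 : x ≠ 1) :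
    (GrothLib.Cube.stab x : Set (𝟙_ (Over (Spec (CommRingCat.of K))) ⟶ A)).Finite := by
  haveI : IsIntegral A.left := GeometricallyIntegral.isIntegral_of_subsingleton A.hom
  haveI : IsLocallyNoetherian A.left := LocallyOfFiniteType.isLocallyNoetherian A.hom
  haveI : CompactSpace A.left := QuasiCompact.compactSpace_of_compactSpace A.hom
  haveI : IsNoetherian A.left := {}
  let φ : (𝟙_ (Over (Spec (CommRingCat.of K))) ⟶ A) → A.left := fun b => b.left (IsLocalRing.closedPoint K)
  have hφ : Function.Injective φ := fun a b h =>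
    Over.OverMorphism.ext (ext_of_apply_closedPoint_eq A.hom (Over.w a) (Over.w b) h)
  set S := φ '' (stab x : Set (𝟙_ (Over (Spec (CommRingCat.of K))) ⟶ A))
  suffices hS : S.Finite from hS.of_finite_image hφ.injOn
  by_contra hinf
  -- a minimal closed set meeting `S` infinitely
  obtain ⟨M, hM, hmin⟩ := (wellFounded_lt (α := Closeds A.left)).has_min {M | (S ∩ (M : Set A.left)).Infinite}
    ⟨⊤, by show (S ∩ Set.univ).Infinite; rw [Set.inter_univ]; exact hinf⟩
  have hirr : IsIrreducible (M : Set A.left) := by
    refine ⟨(Set.Infinite.nonempty hM).mono Set.inter_subset_right, ?_⟩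
    rw [isPreirreducible_iff_isClosed_union_isClosed]
    intro z₁ z₂ h₁ h₂ hsub
    by_contra hne
    push_neg at hne
    have key : ∀ z : Set A.left, IsClosed z → ¬(M : Set A.left) ⊆ z → (S ∩ ((M : Set A.left) ∩ z)).Finite := by
      intro z hz hnsub
      by_contra hzinf
      refine hmin ⟨(M : Set A.left) ∩ z, M.isClosed.inter hz⟩ hzinf (lt_of_le_of_ne Set.inter_subset_left fun he => hnsub ?_)
      exact (congrArg (fun C : Closeds A.left => (C : Set A.left)) he).ge.trans Set.inter_subset_right
    refine hM (((key z₁ h₁ hne.1).union (key z₂ h₂ hne.2)).subset ?_)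
    rintro q ⟨hqS, hqM⟩
    exact (hsub hqM).imp (fun h => ⟨hqS, hqM, h⟩) (fun h => ⟨hqS, hqM, h⟩)
  obtain ⟨_, ⟨h, hh, rfl⟩, hhM⟩ := Set.Infinite.nonempty hM
  -- translate it to the origin
  let τ : A.left ⟶ A.left := (transl h).left
  have hτ : ∀ b, τ (φ b) = φ (b * h) := fun b => by
    show (transl h).left (b.left (IsLocalRing.closedPoint K)) = _
    rw [← Scheme.Hom.comp_apply, ← Over.comp_left]
    congr 2
    simp only [transl, MonObj.comp_mul, Category.comp_id, ← Category.assoc,
      Subsingleton.elim (b ≫ toUnit A) (𝟙 _), Category.id_comp]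
  haveI : IsIso τ := ⟨(transl h⁻¹).left, by
    rw [← Over.comp_left, transl_comp, mul_inv_cancel, transl_one, Over.id_left], by
    rw [← Over.comp_left, transl_comp, inv_mul_cancel, transl_one, Over.id_left]⟩
  let V : Set A.left := τ ⁻¹' (M : Set A.left)
  have hVc : IsClosed V := M.isClosed.preimage τ.continuous
  have hVirr : IsIrreducible V := by
    have : V = (TopCat.homeoOfIso (Scheme.forgetToTop.mapIso (asIso τ))).symm '' (M : Set A.left) :=
      (congrFun (TopCat.homeoOfIso (Scheme.forgetToTop.mapIso (asIso τ))).image_symm _).symm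
    rw [this]
    exact hirr.image _ (Homeomorph.continuous _).continuousOn
  have hclo : (M : Set A.left) ⊆ closure S := by
    let M' : Closeds A.left := ⟨closure (S ∩ (M : Set A.left)), isClosed_closure⟩
    have hle : M' ≤ M := closure_minimal Set.inter_subset_right M.isClosed
    have he : M' = M := hle.antisymm (not_lt_iff_le_imp_ge.1 (hmin M'
      (hM.mono fun q hq => ⟨hq.1, subset_closure hq⟩)) hle)
    intro q hq
    exact closure_mono Set.inter_subset_left (show q ∈ (M' : Set A.left) from he.symm ▸ hq)
  have hmem : ∀ b : 𝟙_ (Over (Spec (CommRingCat.of K))) ⟶ A, φ b ∈ V → b ∈ stab x := fun b hb => by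
    have := mem_stab_of_mem_closure x (b * h) (hclo (show φ (b * h) ∈ (M : Set A.left) from hτ b ▸ hb))
    exact ((stab x).mul_mem_cancel_right hh).1 this
  haveI := isCommMonObj_abVar (A := A)
  haveI : (stab x).Normal := ⟨fun n hn g => by rwa [mul_comm g n, mul_inv_cancel_right]⟩
  obtain ⟨B, _, i, hi, hic, hBi, hVB, hker⟩ :=
    Rigidity.exists_subgroup_of_irreducible A (QuotientGroup.mk' (stab x)) V hVc hVirr (by
      rintro _ ⟨s, rfl⟩
      rw [Subsingleton.elim (α := ↥(Spec (CommRingCat.of K))) s (IsLocalRing.closedPoint K)]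
      show τ (φ η[A]) ∈ (M : Set A.left)
      rw [hτ, MonObj.one_eq_one, _root_.one_mul]
      exact hhM)
    (fun a ha => (QuotientGroup.eq_one_iff a).2 (hmem a (ha ⟨_, rfl⟩)))
  haveI : IsProper B.hom := by rw [← Over.w i]; infer_instance
  haveI := geometricallyIntegral_of_isAlgClosed B
  -- `V` has at least two points
  have hVinf : ¬ V.Subsingleton := fun hV => by
    have hMsub : (M : Set A.left).Subsingleton := fun p hp q hq => by
      obtain ⟨p', rfl⟩ := τ.surjective p
      obtain ⟨q', rfl⟩ := τ.surjective q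
      rw [hV (show p' ∈ V from hp) (show q' ∈ V from hq)]
    exact hM (hMsub.finite.subset Set.inter_subset_right)
  rcases hsimple B i with hB | hB
  · exact hVinf fun p hp q hq => by
      obtain ⟨p', rfl⟩ := hVB hp
      obtain ⟨q', rfl⟩ := hVB hq
      rw [Subsingleton.elim p' q']
  · have hall : ∀ a : 𝟙_ (Over (Spec (CommRingCat.of K))) ⟶ A, GrothLib.Cube.pull (GrothLib.Cube.transl a).left x = x := fun a => by
      have := (QuotientGroup.eq_one_iff _).1 (hker (a ≫ CategoryTheory.inv i))
      rwa [Category.assoc, IsIso.inv_hom_id, Category.comp_id] at this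
    have hadd : addClass (𝟙 A) ((𝟙 A)⁻¹) x = 1 :=
      addClass_eq_one_of_dense _ (dense_closedPoints A) subset_rfl (fun b _ => hall b) _ _
    let ι' : A ⟶ A := (𝟙 A)⁻¹
    have hinv : ι' ≫ ι' = 𝟙 A := by
      show (𝟙 A)⁻¹ ≫ (𝟙 A)⁻¹ = 𝟙 A
      rw [GrpObj.comp_inv, Category.comp_id, _root_.inv_inv]
    have hxi : x * GrothLib.Cube.pull ι'.left x = 1 := by
      rw [addClass, mul_inv_cancel, pull_one_hom, _root_.one_mul, inv_eq_one, pull_over_id] at hadd
      exact hadd
    have hsec := hasSec_mul hU (hasSec_pull ι'.left hU)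
    rw [hxi] at hsec
    rcases locus_eq_bot_or_top (isAntiAffine_of_proper (X := A) η[A]) hsec with h0 | h0
    · have hne' : (U : Set A.left).Nonempty := (Opens.ne_bot_iff_nonempty _).1 hUne
      obtain ⟨q, hq⟩ := nonempty_preirreducible_inter U.isOpen (ι'.left ⁻¹ᵁ U).isOpen hne' (by
        obtain ⟨q, hq⟩ := hne'
        refine ⟨ι'.left q, ?_⟩
        show ι'.left (ι'.left q) ∈ U
        rw [← Scheme.Hom.comp_apply, ← Over.comp_left, hinv]
        exact hq)
      exact absurd (show q ∈ U ⊓ ι'.left ⁻¹ᵁ U from hq) (by rw [h0]; exact id)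
    · have htop : U = ⊤ := top_le_iff.1 (h0.ge.trans inf_le_left)
      subst htop
      exact hx1 (eq_one_of_hasSec_top hU)

/-- Let k be an algebraically closed field (any characteristic) and X a simple abelian variety over k: a
proper smooth k-group scheme with geometrically connected fibres whose only geometrically integral
closed k-subgroup schemes are the trivial subgroup and X itself. Let G be an invertible O_X-module
which is effective and non-trivial: H^0(X, G) ≠ 0 and G is not isomorphic to O_X. Then G is ample.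
(In other words, when the abelian variety is simple, any line bundle that is effective and not
trivial must be ample.) -/
theorem result (k : Type u) [Field k] [IsAlgClosed k]
    (X : Over (Spec (CommRingCat.of k))) [GrpObj X] [IsProper X.hom] [Smooth X.hom] [GeometricallyConnected X.hom]
    (hsimple : ∀ (B : Over (Spec (CommRingCat.of k))) [GrpObj B] [GeometricallyIntegral B.hom] (i : B ⟶ X) [IsMonHom i]
      [IsClosedImmersion i.left], Subsingleton ↥B.left ∨ IsIso i)
    (G : X.left.Modules) (hG : PicF.IsInvertible G)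
    (hsec : Nontrivial (Coh.HH X.left G 0)) (hne : ¬ Nonempty (G ≅ Coh.structureModule X.left)) :
    CohB1.IsAmple G := by
  haveI hGI : GeometricallyIntegral X.hom := GrothLib.Rigidity.geometricallyIntegral_of_smooth X
  haveI : IsIntegral X.left := GeometricallyIntegral.isIntegral_of_subsingleton X.hom
  obtain ⟨z, hz⟩ := exists_ne (0 : Coh.HH X.left G 0)
  let σ : Γ(G, (⊤ : X.left.Opens)) := GrothLib.ProjCoh.H0top G z
  have hσ : GrothLib.FinCov.homOfSection σ ≠ 0 := by
    intro h
    refine hz ((GrothLib.ProjCoh.H0top G).injective ?_)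
    rw [map_zero]
    have h1 := GrothLib.FinCov.homOfSection_one σ ⊤
    rw [h] at h1
    have h2 : σ = G.presheaf.map (homOfLE (le_refl (⊤ : X.left.Opens))).op σ := by simp
    refine h2.trans ?_
    refine h1.symm.trans ?_
    simp
  refine GrothLib.Cube.isAmple_of_finite_stab hG (GrothLib.Cube.exists_hasSec_genLocus hG (GrothLib.FinCov.homOfSection σ)) ?_ ?_
  · rw [Set.nonempty_iff_ne_empty]
    exact fun h => GrothLib.Cube.genLocus_ne_bot hG _ hσ (TopologicalSpace.Opens.ext h)
  refine finite_stab_of_simple hsimple _ (GrothLib.Cube.exists_hasSec_genLocus hG (GrothLib.FinCov.homOfSection σ))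
    (fun h => GrothLib.Cube.genLocus_ne_bot hG _ hσ h) (fun h1 => hne ?_)
  exact (GrothLib.Cube.clsMod_eq_one_iff hG).1 h1

end Groth.Agent.S18229
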