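import Groth.Statements.S18233
import Groth.Agent.Lib.MagnetGr25.SmoothLift
import Groth.Agent.Lib.MagnetGr25.LimitPres
import Groth.Agent.Lib.FPCrit.Basic
-- import your own Groth.Agent.* helpers here

set_option autoImplicit false
universe u
open CategoryTheory MonoidalCategory CartesianMonoidalCategory AlgebraicGeometry Opposite
open Magnet

namespace Groth.Agent.S18233
open GrothLib.MagnetGr GrothLib.MagnetPts

/-- Let S be a scheme, M a finitely generated abelian group, N a submonoid of M, X and Y schemes over S
with actions of the diagonalizable group scheme D(M)_S, and f : X → Y a smooth equivariant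
S-morphism. If the attractors X^N and Y^N are represented by S-schemes Z_X and Z_Y, and j : Z_X →
Z_Y is the S-morphism that corresponds to f^N : X^N → Y^N under the two representing bijections,
then j is smooth. (Stated for schemes; the published statement is for algebraic spaces over S and
representability by algebraic spaces.) -/
theorem result (S : Scheme.{u}) (M : Type) [AddCommGroup M] [AddGroup.FG M]
    (N : AddSubmonoid M) {X Y : Over S} (aX : Magnet.MonAct (Magnet.AMonS S M) X)
    (aY : Magnet.MonAct (Magnet.AMonS S M) Y) (f : X ⟶ Y) (hf : Magnet.MonAct.IsEquivariant aX aY f)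
    [Smooth f.left] {ZX ZY : Over S} (eX : (Magnet.attr aX N).RepresentableBy ZX) (eY : (Magnet.attr aY N).RepresentableBy ZY)
    (j : ZX ⟶ ZY) (hj : ∀ (T : Over S) (z : T ⟶ ZX),
      eY.homEquiv (z ≫ j) = (Magnet.MonAct.eqvHom.postcomp (Magnet.subAct S M N) f hf).app (op T) (eX.homEquiv z)) :
    Smooth j.left := by
  haveI : LocallyOfFinitePresentation f.left := inferInstance
  refine (Groth.Agent.S1488.result _).2 ⟨?_, ?_⟩
  · refine GrothLib.FPCrit.locallyOfFinitePresentation_of_lifts _ fun U hU J _ _ _ F c hc G hG => ?_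
    let F' : J ⥤ CommRingCat.{u} := F ⋙ Under.forget _
    let c' : CategoryTheory.Limits.Cocone F' := (Under.forget _).mapCocone c
    let uY : ∀ i : J, Spec (F'.obj i) ⟶ ZY.left := fun i => Spec.map (F.obj i).hom ≫ hU.fromSpec
    let sF : ∀ i : J, Spec (F'.obj i) ⟶ S := fun i => uY i ≫ ZY.hom
    let y : ∀ i : J, (attr aY N).obj (op (Over.mk (sF i))) := fun i => eY.homEquiv (Over.homMk (uY i) rfl)
    let x : (attr aX N).obj (op (Over.mk (G ≫ ZX.hom))) := eX.homEquiv (Over.homMk G rfl)
    have hy : ∀ (i : J) {E : Type u} [CommRing E] (φ : (F'.obj i) →+* E) (v : Over.mk (str (sF i) φ) ⟶ ZY),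
        v.left = Spec.map (CommRingCat.ofHom φ) ≫ uY i → eY.homEquiv v =
          (attr aY N).map (toT (sF i) φ).op (y i) := by
      intro i E _ φ v hv
      exact (congrArg (fun w => eY.homEquiv w) (show v = toT (sF i) φ ≫ Over.homMk (uY i) rfl from
        Over.OverMorphism.ext hv)).trans (eY.homEquiv_comp _ _)
    have hst := exists_stage (N := N) aX f.left hc sF x
      (fun i => ev (y i).1 (cst) uni)
    refine Exists.elim (hst (fun {i k} h => ?_) (fun i => ?_) (fun i g hg => ?_) (fun i g hg => ?_)) ?_
    · have hs : Spec.map (F'.map h) ≫ uY i = uY k := by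
        change Spec.map (F.map h).right ≫ Spec.map (F.obj i).hom ≫ hU.fromSpec = _
        rw [← Spec.map_comp_assoc]
        exact congrArg (fun φ => Spec.map φ ≫ hU.fromSpec) (Under.w (F.map h))
      have key : ∀ (s' : Spec (F'.obj k) ⟶ S) (u' : Spec (F'.obj k) ⟶ ZY.left) (hu : u' ≫ ZY.hom = s'),
          Spec.map (F'.map h) ≫ uY i = u' →
          Spec.map (CommRingCat.ofHom (MonoidAlgebra.mapRingHom (Multiplicative N) (F'.map h).hom)) ≫
              ev (y i).1 cst uni =
            ev (eY.homEquiv (Over.homMk u' hu : Over.mk s' ⟶ ZY)).1 cst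
              uni := by
        intro s' u' hu hu'
        subst hu'
        obtain rfl : s' = str (sF i) (F'.map h).hom := by rw [← hu, Category.assoc]; rfl
        rw [hy i (F'.map h).hom (Over.homMk (Spec.map (F'.map h) ≫ uY i) hu) rfl]
        exact (ev_restrict_cst _ _).symm
      exact key _ _ rfl hs
    · have hs : Spec.map (c'.ι.app i) ≫ uY i = G ≫ j.left := by
        change Spec.map (c.ι.app i).right ≫ Spec.map (F.obj i).hom ≫ hU.fromSpec = _
        rw [← Spec.map_comp_assoc, hG]
        exact congrArg (fun φ => Spec.map φ ≫ hU.fromSpec) (Under.w (c.ι.app i))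
      have key : ∀ (s' : Spec (CommRingCat.of c'.pt) ⟶ S) (v : Over.mk s' ⟶ ZY),
          v.left = Spec.map (c'.ι.app i) ≫ uY i →
          Spec.map (CommRingCat.ofHom (MonoidAlgebra.mapRingHom (Multiplicative N) (c'.ι.app i).hom)) ≫
              ev (y i).1 cst uni =
            ev (eY.homEquiv v).1 cst uni := by
        intro s' v hv
        obtain rfl : s' = str (sF i) (c'.ι.app i).hom := by
          refine (Over.w v).symm.trans ?_
          rw [hv, Category.assoc]
          rfl
        rw [hy i (c'.ι.app i).hom v hv]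
        exact (ev_restrict_cst _ _).symm
      have key' : ∀ (s' : Spec (CommRingCat.of c'.pt) ⟶ S) (z : Over.mk s' ⟶ ZX),
          (z ≫ j).left = Spec.map (c'.ι.app i) ≫ uY i →
          Spec.map (CommRingCat.ofHom (MonoidAlgebra.mapRingHom (Multiplicative N) (c'.ι.app i).hom)) ≫
              ev (y i).1 cst uni = ev (eX.homEquiv z).1 cst uni ≫ f.left := by
        intro s' z hz
        rw [key s' (z ≫ j) hz, hj, ← ev_comp]
        rfl
      exact key' _ (Over.homMk G rfl) hs.symm
    · rw [← Over.w f, ← Category.assoc, hg]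
      exact ev_hom _ _ _
    · rw [orb_comp_equivariant aX hf, Category.assoc, hg]
      refine ((congrArg (fun w => orb aY w uni) (comp_ev (y i).1 _ _ _)).trans (orb_ev aY (y i).2 _ _ _)).trans
        (Eq.trans ?_ (comp_ev (y i).1 _ _ _).symm)
      congr 1
      · exact (evC_comp_cst _ _).symm
      · exact (evC_comp_uni _ _).symm
    · rintro i ⟨l, hl₁, hl₂⟩
      refine ⟨i, (eX.homEquiv.symm l).left, ?_, ?_⟩
      · have e : eY.homEquiv (eX.homEquiv.symm l ≫ j) = y i := by
          rw [hj, Equiv.apply_symm_apply]
          refine Subtype.ext (hom_ext_univ ?_)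
          exact (ev_comp _ _ _ _).trans hl₁
        exact congrArg CommaMorphism.left (eY.homEquiv.injective e)
      · have hw : Spec.map (c.ι.app i).right ≫ sF i = G ≫ ZX.hom := by
          change Spec.map (c'.ι.app i) ≫ _ = _
          rw [← Over.w j, reassoc_of% hG]
          change Spec.map (c.ι.app i).right ≫ (Spec.map (F.obj i).hom ≫ hU.fromSpec) ≫ ZY.hom = _
          rw [Category.assoc, ← Spec.map_comp_assoc]
          exact congrArg (fun φ => Spec.map φ ≫ hU.fromSpec ≫ ZY.hom) (Under.w (c.ι.app i))
        let v : Over.mk (G ≫ ZX.hom) ⟶ Over.mk (sF i) := Over.homMk (Spec.map (c.ι.app i).right) hw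
        have e : eX.homEquiv (v ≫ eX.homEquiv.symm l) = x := by
          rw [eX.homEquiv_comp, Equiv.apply_symm_apply]
          refine Subtype.ext (hom_ext_univ ?_)
          refine Eq.trans ?_ hl₂
          have key : ∀ (s' : Spec (CommRingCat.of c'.pt) ⟶ S)
              (hs' : Spec.map (c.ι.app i).right ≫ sF i = s'),
              ev ((AMonS S N ◁ (Over.homMk (Spec.map (c.ι.app i).right) hs' :
                  Over.mk s' ⟶ Over.mk (sF i))) ≫ l.1) cst uni =
                Spec.map (CommRingCat.ofHom (MonoidAlgebra.mapRingHom (Multiplicative N) (c.ι.app i).right.hom)) ≫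
                  ev l.1 cst uni := by
            intro s' hs'
            subst hs'
            exact ev_restrict_cst _ _
          exact key _ hw
        exact congrArg CommaMorphism.left (eX.homEquiv.injective e)
  · intro A _ I hI a b h
    let str : Spec (CommRingCat.of A) ⟶ S := b ≫ ZY.hom
    let za : Over.mk (Spec.map (CommRingCat.ofHom (Ideal.Quotient.mk I)) ≫ str) ⟶ ZX :=
      Over.homMk a (by rw [← Over.w j, ← reassoc_of% h]; rfl)
    let zb : Over.mk str ⟶ ZY := Over.homMk b rfl
    let t : Over.mk (Spec.map (CommRingCat.ofHom (Ideal.Quotient.mk I)) ≫ str) ⟶ Over.mk str :=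
      Over.homMk (Spec.map (CommRingCat.ofHom (Ideal.Quotient.mk I))) rfl
    have hab : za ≫ j = t ≫ zb := Over.OverMorphism.ext h.symm
    obtain ⟨l, hl₁, hl₂⟩ := exists_lift_postcomp hI hf (eX.homEquiv za) (eY.homEquiv zb)
      (congrArg Subtype.val (((hj _ za).symm.trans (congrArg (fun w => eY.homEquiv w) hab)).trans
        (eY.homEquiv_comp t zb)))
    refine ⟨(eX.homEquiv.symm l).left, ?_, ?_⟩
    · have e : eX.homEquiv (t ≫ eX.homEquiv.symm l) = eX.homEquiv za := by
        rw [eX.homEquiv_comp, Equiv.apply_symm_apply]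
        exact Subtype.ext hl₁
      exact congrArg CommaMorphism.left (eX.homEquiv.injective e)
    · have e : eY.homEquiv (eX.homEquiv.symm l ≫ j) = eY.homEquiv zb := by
        rw [hj, Equiv.apply_symm_apply]
        exact Subtype.ext hl₂
      exact congrArg CommaMorphism.left (eY.homEquiv.injective e)

end Groth.Agent.S18233
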