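import Groth.Statements.S18234
import Groth.Agent.Lib.MagnetGr25.Unram
import Mathlib.RingTheory.Ideal.Quotient.Operations
-- import your own Groth.Agent.* helpers here

set_option autoImplicit false
universe u
open CategoryTheory MonoidalCategory CartesianMonoidalCategory AlgebraicGeometry Opposite
open Magnet

namespace Groth.Agent.S18234

/-- Let S be a scheme, M a finitely generated abelian group, N a submonoid of M, X and Y schemes over S
with actions of the diagonalizable group scheme D(M)_S, and f : X → Y a formally unramified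
equivariant S-morphism. If the attractors X^N and Y^N are represented by S-schemes Z_X and Z_Y, and
j : Z_X → Z_Y is the S-morphism that corresponds to f^N under the two representing bijections, then
j is formally unramified. (Stated for schemes; the published statement is for algebraic spaces over
S.) -/
theorem result (S : Scheme.{u}) (M : Type) [AddCommGroup M]
    [AddGroup.FG M] (N : AddSubmonoid M) {X Y : Over S} (aX : Magnet.MonAct (Magnet.AMonS S M) X)
    (aY : Magnet.MonAct (Magnet.AMonS S M) Y) (f : X ⟶ Y) (hf : Magnet.MonAct.IsEquivariant aX aY f)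
    [FormallyUnramified f.left] {ZX ZY : Over S} (eX : (Magnet.attr aX N).RepresentableBy ZX) (eY : (Magnet.attr aY N).RepresentableBy ZY)
    (j : ZX ⟶ ZY) (hj : ∀ (T : Over S) (z : T ⟶ ZX),
      eY.homEquiv (z ≫ j) = (Magnet.MonAct.eqvHom.postcomp (Magnet.subAct S M N) f hf).app (op T) (eX.homEquiv z)) :
    FormallyUnramified j.left := by
  refine FormallyUnramified.of_hom_ext j.left fun R R' φ hφ hsq g₁ g₂ hg hgj => ?_
  let I : Ideal R := RingHom.ker φ.hom
  let e := RingHom.quotientKerEquivOfSurjective hφ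
  have hs : g₂ ≫ ZX.hom = g₁ ≫ ZX.hom := by rw [← Over.w j, reassoc_of% hgj]
  let z₁ : Over.mk (g₁ ≫ ZX.hom) ⟶ ZX := Over.homMk g₁ rfl
  let z₂ : Over.mk (g₁ ≫ ZX.hom) ⟶ ZX := Over.homMk g₂ hs
  let t : Over.mk (Spec.map (CommRingCat.ofHom (Ideal.Quotient.mk I)) ≫ g₁ ≫ ZX.hom) ⟶ Over.mk (g₁ ≫ ZX.hom) :=
    Over.homMk (Spec.map (CommRingCat.ofHom (Ideal.Quotient.mk I))) rfl
  have hq : φ ≫ CommRingCat.ofHom e.symm.toRingHom = CommRingCat.ofHom (Ideal.Quotient.mk I) :=
    CommRingCat.hom_ext (RingHom.ext fun x => e.symm_apply_eq.2 rfl)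
  have ht : t ≫ z₁ = t ≫ z₂ := by
    apply Over.OverMorphism.ext
    change Spec.map _ ≫ g₁ = Spec.map _ ≫ g₂
    rw [← hq, Spec.map_comp, Category.assoc, Category.assoc, hg]
  have hl : eX.homEquiv z₁ = eX.homEquiv z₂ := by
    refine Subtype.ext (GrothLib.MagnetGr.eq_of_unramified (s := g₁ ≫ ZX.hom) f I hsq
      (congrArg Subtype.val (((eX.homEquiv_comp t z₁).symm.trans
        (congrArg (fun w => eX.homEquiv w) ht)).trans (eX.homEquiv_comp t z₂))) ?_)
    have hz : z₁ ≫ j = z₂ ≫ j := Over.OverMorphism.ext hgj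
    exact congrArg Subtype.val (((hj _ z₁).symm.trans (congrArg (fun w => eY.homEquiv w) hz)).trans (hj _ z₂))
  exact congrArg CommaMorphism.left (eX.homEquiv.injective hl)


end Groth.Agent.S18234
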