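import Groth.Statements.S18235
import Groth.Agent.Lib.MagnetGr25.StableOpen
-- import your own Groth.Agent.* helpers here

set_option autoImplicit false
universe u
open CategoryTheory MonoidalCategory CartesianMonoidalCategory AlgebraicGeometry Opposite
open Magnet

namespace Groth.Agent.S18235

/-- Let S be a scheme, M a finitely generated abelian group, N a submonoid of M, X and Y schemes locally
of finite presentation over S with actions of the diagonalizable group scheme D(M)_S, and f : X → Y
an equivariant S-morphism which is an open immersion. If the attractors X^N and Y^N are represented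
by S-schemes Z_X and Z_Y, and j : Z_X → Z_Y is the S-morphism that corresponds to f^N under the two
representing bijections, then j is an open immersion. (Stated for schemes; the published statement
is for algebraic spaces over S.) -/
theorem result (S : Scheme.{u}) (M : Type) [AddCommGroup M]
    [AddGroup.FG M] (N : AddSubmonoid M) {X Y : Over S} [LocallyOfFinitePresentation X.hom]
    [LocallyOfFinitePresentation Y.hom] (aX : Magnet.MonAct (Magnet.AMonS S M) X)
    (aY : Magnet.MonAct (Magnet.AMonS S M) Y) (f : X ⟶ Y) (hf : Magnet.MonAct.IsEquivariant aX aY f)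
    [IsOpenImmersion f.left] {ZX ZY : Over S} (eX : (Magnet.attr aX N).RepresentableBy ZX) (eY : (Magnet.attr aY N).RepresentableBy ZY)
    (j : ZX ⟶ ZY) (hj : ∀ (T : Over S) (z : T ⟶ ZX),
      eY.homEquiv (z ≫ j) = (Magnet.MonAct.eqvHom.postcomp (Magnet.subAct S M N) f hf).app (op T) (eX.homEquiv z)) :
    IsOpenImmersion j.left := by
  have hmonof : Mono f := ⟨fun {T} g h e => Over.OverMorphism.ext ((cancel_mono f.left).1 (congrArg CommaMorphism.left e))⟩
  have hinj : ∀ (T : Over S) (z₁ z₂ : T ⟶ ZX), z₁ ≫ j = z₂ ≫ j → z₁ = z₂ := by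
    intro T z₁ z₂ e
    apply eX.homEquiv.injective
    refine Subtype.ext ((cancel_mono f).1 ?_)
    exact congrArg Subtype.val (((hj T z₁).symm.trans (congrArg (fun w => eY.homEquiv w) e)).trans (hj T z₂))
  let w : ZY ⟶ Y := (Magnet.attrToX aY (Magnet.unitFace N)).app (op ZY)
    ((Magnet.attrFace aY (Magnet.isFace_unitFace N)).app (op ZY) (eY.homEquiv (𝟙 ZY)))
  have hw : ∀ (T : Over S) (z : T ⟶ ZY), z ≫ w = (Magnet.attrToX aY (Magnet.unitFace N)).app (op T)
      ((Magnet.attrFace aY (Magnet.isFace_unitFace N)).app (op T) (eY.homEquiv z)) := by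
    intro T z
    have e : eY.homEquiv z = (Magnet.attr aY N).map z.op (eY.homEquiv (𝟙 ZY)) := by
      rw [← eY.homEquiv_comp, Category.comp_id]
    rw [e, NatTrans.naturality_apply (Magnet.attrFace aY (Magnet.isFace_unitFace N)) z.op]
    exact (GrothLib.MagnetGr.attrToX_map z _).symm
  let U : ZY.left.Opens := w.left ⁻¹ᵁ f.left.opensRange
  have hjU : Set.range j.left ⊆ Set.range U.ι := by
    rw [Scheme.Opens.range_ι]
    rintro _ ⟨p, rfl⟩
    have e : j ≫ w = (Magnet.attrToX aX (Magnet.unitFace N)).app (op ZX)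
        ((Magnet.attrFace aX (Magnet.isFace_unitFace N)).app (op ZX) (eX.homEquiv (𝟙 ZX))) ≫ f := by
      rw [hw, show eY.homEquiv j = eY.homEquiv (𝟙 ZX ≫ j) by rw [Category.id_comp], hj]
      change lift _ _ ≫ _ ≫ _ ≫ f = (lift _ _ ≫ _ ≫ _) ≫ f
      simp only [Category.assoc]
    change (j ≫ w).left p ∈ Set.range f.left
    rw [e]
    exact ⟨_, rfl⟩
  let T₀ : Over S := Over.mk (U.ι ≫ ZY.hom)
  let iU : T₀ ⟶ ZY := Over.homMk U.ι rfl
  let y := eY.homEquiv iU
  have hy : Set.range y.1.left ⊆ Set.range f.left := by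
    refine GrothLib.MagnetGr.range_subset_of_limit hf y ?_
    rw [← hw T₀ iU]
    rintro _ ⟨p, rfl⟩
    exact p.2
  let g : Magnet.AMonS S N ⊗ T₀ ⟶ X := Over.homMk (IsOpenImmersion.lift f.left y.1.left hy)
    (by rw [← Over.w f, ← Category.assoc, IsOpenImmersion.lift_fac]; exact Over.w y.1)
  have hgf : g ≫ f = y.1 := Over.OverMorphism.ext (IsOpenImmersion.lift_fac f.left y.1.left hy)
  have hg : Magnet.MonAct.IsEquivariant ((Magnet.subAct S M N).prod (Magnet.MonAct.trivial (Magnet.AMonS S M) T₀)) aX g := by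
    have h := y.2
    unfold Magnet.MonAct.IsEquivariant at hf ⊢
    rw [← cancel_mono f, Category.assoc, hgf]
    refine h.trans ?_
    rw [← hgf, whiskerLeft_comp, Category.assoc, ← hf, Category.assoc]
  let z : T₀ ⟶ ZX := eX.homEquiv.symm ⟨g, hg⟩
  have hz : z ≫ j = iU := by
    apply eY.homEquiv.injective
    rw [hj, Equiv.apply_symm_apply]
    exact Subtype.ext hgf
  let j' : ZX ⟶ T₀ := Over.homMk (IsOpenImmersion.lift U.ι j.left hjU)
    (by change _ ≫ U.ι ≫ ZY.hom = _; rw [IsOpenImmersion.lift_fac_assoc]; exact Over.w j)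
  have hj' : j' ≫ iU = j := Over.OverMorphism.ext (IsOpenImmersion.lift_fac U.ι j.left hjU)
  have h2 : j' ≫ z = 𝟙 ZX := hinj ZX _ _ (by rw [Category.assoc, hz, hj', Category.id_comp])
  have h3 : z.left ≫ j'.left = 𝟙 T₀.left := by
    apply (cancel_mono (U.ι : (U : Scheme.{u}) ⟶ ZY.left)).1
    exact ((Category.assoc _ _ _).trans ((congrArg (z.left ≫ ·) (congrArg CommaMorphism.left hj')).trans
      (congrArg CommaMorphism.left hz))).trans (Category.id_comp _).symm
  haveI : IsIso j'.left := ⟨z.left, congrArg CommaMorphism.left h2, h3⟩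
  have e : j.left = j'.left ≫ U.ι := (congrArg CommaMorphism.left hj').symm
  rw [e]
  infer_instance


end Groth.Agent.S18235
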