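import Groth.Statements.S18237
import Groth.Agent.Lib.MagnetGr25.AtlasLocal
-- import your own Groth.Agent.* helpers here

set_option autoImplicit false
universe u
open CategoryTheory MonoidalCategory CartesianMonoidalCategory AlgebraicGeometry Opposite
open Magnet

namespace Groth.Agent.S18237

/-- Let S be a quasi-compact scheme, M a finitely generated abelian group, X a scheme which is
quasi-compact, separated and locally of finite presentation over S with an action of the
diagonalizable group scheme D(M)_S, and N a submonoid of M with subgroup of invertible elements Z =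
N*. Assume X admits an S-affine N*-FPR atlas: an equivariant, étale and surjective g : U → X with U
affine over S such that, for the actions restricted along D(M/Z)_S → D(M)_S, the square of
fixed-point subfunctors U^{D(M/Z)} → X^{D(M/Z)} over U → X is cartesian. Then there is a finitely
generated submonoid N_c of N with the same invertible elements as N such that the canonical map of
attractors X^{N_c} → X^N is an isomorphism of functors. (Stated for schemes, the published statement
being for algebraic spaces. The published statement assumes only M finitely generated and X → S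
quasi-compact and separated; it fails without X locally of finite presentation over S or without S
quasi-compact, so this row assumes both, and it assumes an S-affine N*-FPR atlas, which the
published argument obtains from a general existence result.) -/
theorem result (S : Scheme.{u}) [CompactSpace S] (M : Type)
    [AddCommGroup M] [AddGroup.FG M] {X : Over S} [QuasiCompact X.hom] [IsSeparated X.hom]
    [LocallyOfFinitePresentation X.hom] (a : Magnet.MonAct (Magnet.AMonS S M) X) (N : AddSubmonoid M)
    (Z : AddSubgroup M) (hZ : ∀ m : M, m ∈ Z ↔ (m ∈ N ∧ -m ∈ N)) (U : Over S) [IsAffineHom U.hom]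
    (aU : Magnet.MonAct (Magnet.AMonS S M) U) (g : U ⟶ X) (hg : Magnet.MonAct.IsEquivariant aU a g)
    [Etale g.left] [Surjective g.left]
    (hgZ : Magnet.MonAct.IsEquivariant (aU.restrict (Magnet.AMonS.map S (QuotientAddGroup.mk' Z))) (a.restrict (Magnet.AMonS.map S (QuotientAddGroup.mk' Z))) g)
    (hfpr : IsPullback (Magnet.MonAct.fixedPsh.map g hgZ)
      (Magnet.MonAct.fixedPshι (aU.restrict (Magnet.AMonS.map S (QuotientAddGroup.mk' Z))))
      (Magnet.MonAct.fixedPshι (a.restrict (Magnet.AMonS.map S (QuotientAddGroup.mk' Z)))) (yoneda.map g)) :
    ∃ (Nc : AddSubmonoid M) (h : Nc ≤ N), Nc.FG ∧ (∀ m : M, (m ∈ Nc ∧ -m ∈ Nc) ↔ (m ∈ N ∧ -m ∈ N)) ∧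
      IsIso (Magnet.attrMap a h) := GrothLib.MagnetGr.exists_fg_attrMap_iso hg N Z
    (AddSubmonoid.ext fun m => (hZ m).trans ⟨fun h => ⟨h.1, -m, h.2, add_neg_cancel m⟩,
      fun h => by
        obtain ⟨h1, y, hy, e⟩ := h
        exact ⟨h1, by rwa [neg_eq_of_add_eq_zero_right e]⟩⟩) hfpr

end Groth.Agent.S18237
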