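import Groth.Statements.S1824
import Groth.Agent.Lib.RightAdj22.ProjDual

set_option autoImplicit false
universe u
open CategoryTheory CategoryTheory.Limits AlgebraicGeometry
attribute [local instance] HasDerivedCategory.standard
open Dual

namespace Groth.Agent.S1824

/-- Let R be a ring and f : P^n_R → Spec R the structure morphism of projective n-space over R. Assume
the derived direct image Rf_* exists and preserves quasi-coherence of cohomology sheaves (both known
results), so that it restricts to a functor D_QCoh(O_{P^n_R}) → D_QCoh(O_{Spec R}), and let a :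
D_QCoh(O_{Spec R}) → D_QCoh(O_{P^n_R}) be a right adjoint of this restricted functor. Let O be an
object of D_QCoh(O_{Spec R}) isomorphic to the structure sheaf placed in degree 0. Then a(O) is
isomorphic in D(O_{P^n_R}) to the twisting sheaf O(−n−1) placed in degree −n, that is to O(−n−1)[n].
(The published statement is more general; it is stated here for the trivial projective bundle over
an affine base.) -/
theorem result (n : ℕ) (R : Type u) [CommRing R] [DCoh.HasRpush (CohB1.ProjSpace.toSpec n R)] (h : ∀ K : DCoh.D (CohB1.ProjSpace n R), DCoh.IsQCohD K → DCoh.IsQCohD ((DCoh.Rpush (CohB1.ProjSpace.toSpec n R)).obj K)) (a : DCoh.DQCoh (Spec (CommRingCat.of R)) ⥤ DCoh.DQCoh (CohB1.ProjSpace n R)) (adj : (ObjectProperty.lift DCoh.IsQCohD (ObjectProperty.ι DCoh.IsQCohD ⋙ DCoh.Rpush (CohB1.ProjSpace.toSpec n R)) (fun K => h K.obj K.property)) ⊣ a) (O : DCoh.DQCoh (Spec (CommRingCat.of R))) (hO : Nonempty (O.obj ≅ DCoh.inD (Spec (CommRingCat.of R)) (Coh.structureModule (Spec (CommRingCat.of R))))) : Nonempty ((a.obj O).obj ≅ (DCoh.inD (CohB1.ProjSpace n R) (Twist.twistProjSpace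 n R (-((n : ℤ) + 1))))⟦(n : ℤ)⟧) := by
  exact GrothLib.RightAdj22.nonempty_adjoint_projSpace n R h adj O hO

end Groth.Agent.S1824
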