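import Groth.Statements.S18240
import Groth.Agent.Lib.MagnetGr25.SmoothLift
-- import your own Groth.Agent.* helpers here

set_option autoImplicit false
universe u
open CategoryTheory MonoidalCategory CartesianMonoidalCategory AlgebraicGeometry Opposite
open Magnet

namespace Groth.Agent.S18240

/-- Let S be a scheme, M a finitely generated abelian group, N a submonoid of M and F a face of N (x + y
∈ F iff x ∈ F and y ∈ F), and X an S-scheme with an action of the diagonalizable group scheme D(M)_S
such that X → S is smooth. Then the canonical map X^N → X^F (restriction along the closed immersion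
A(F) → A(N) of the face) is formally smooth as a transformation of functors on S-schemes: for every
ring A, ideal I with I² = 0 and Spec A → S, writing T = Spec (A/I) ⊂ T' = Spec A, every x in X^N(T)
and y in X^F(T') with the same image in X^F(T) admit some l in X^N(T') with l|_T = x mapping to y.
(Stated for schemes; the published statement is for algebraic spaces over S.) -/
theorem result (S : Scheme.{u}) (M : Type) [AddCommGroup M] [AddGroup.FG M]
    {N F : AddSubmonoid M} (hF : Magnet.IsFace N F) {X : Over S} [Smooth X.hom]
    (a : Magnet.MonAct (Magnet.AMonS S M) X) (A : Type u) [CommRing A] (I : Ideal A) (hI : I ^ 2 = ⊥)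
    (str : Spec (CommRingCat.of A) ⟶ S)
    (x : (Magnet.attr a N).obj (op (Over.mk (Spec.map (CommRingCat.ofHom (Ideal.Quotient.mk I)) ≫ str))))
    (y : (Magnet.attr a F).obj (op (Over.mk str)))
    (h : (Magnet.attrFace a hF).app _ x = (Magnet.attr a F).map (Over.homMk (Spec.map (CommRingCat.ofHom (Ideal.Quotient.mk I))) rfl :
        Over.mk (Spec.map (CommRingCat.ofHom (Ideal.Quotient.mk I)) ≫ str) ⟶ Over.mk str).op y) :
    ∃ l : (Magnet.attr a N).obj (op (Over.mk str)),
      (Magnet.attr a N).map (Over.homMk (Spec.map (CommRingCat.ofHom (Ideal.Quotient.mk I))) rfl :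
        Over.mk (Spec.map (CommRingCat.ofHom (Ideal.Quotient.mk I)) ≫ str) ⟶ Over.mk str).op l = x ∧ (Magnet.attrFace a hF).app _ l = y := by
  obtain ⟨l, h₁, h₂⟩ := GrothLib.MagnetGr.exists_lift_face hI hF x y (congrArg Subtype.val h)
  exact ⟨l, Subtype.ext h₁, Subtype.ext h₂⟩

end Groth.Agent.S18240
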