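import Groth.Statements.S18241
import Groth.Agent.Lib.MagnetGr25.SmoothLift
import Groth.Agent.Lib.MagnetGr25.RepLfp
import Groth.Agent.Lib.DiagGrp.KernelFP
-- import your own Groth.Agent.* helpers here

set_option autoImplicit false
universe u
open CategoryTheory MonoidalCategory CartesianMonoidalCategory AlgebraicGeometry Opposite
open Magnet

namespace Groth.Agent.S18241

/-- Let S be a scheme, M a finitely generated abelian group, N a submonoid of M and F a face of N, and X
an S-scheme smooth over S with an action of the diagonalizable group scheme D(M)_S. If the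
attractors X^N and X^F are represented by S-schemes Z_N and Z_F, and j : Z_N → Z_F is the S-morphism
that corresponds to the canonical map X^N → X^F under the two representing bijections, then j is
smooth. (Stated for schemes; the published statement is for algebraic spaces over S.) -/
theorem result (S : Scheme.{u}) (M : Type) [AddCommGroup M] [AddGroup.FG M]
    {N F : AddSubmonoid M} (hF : Magnet.IsFace N F) {X : Over S} [Smooth X.hom]
    (a : Magnet.MonAct (Magnet.AMonS S M) X) {ZN ZF : Over S} (eN : (Magnet.attr a N).RepresentableBy ZN)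
    (eF : (Magnet.attr a F).RepresentableBy ZF) (j : ZN ⟶ ZF)
    (hj : ∀ (T : Over S) (z : T ⟶ ZN), eF.homEquiv (z ≫ j) = (Magnet.attrFace a hF).app (op T) (eN.homEquiv z)) :
    Smooth j.left := by
  haveI : LocallyOfFinitePresentation X.hom := inferInstance
  refine (Groth.Agent.S1488.result _).2 ⟨?_, ?_⟩
  · have hN := GrothLib.MagnetGr.lfp_of_representsAttr a eN
    have hF' := GrothLib.MagnetGr.lfp_of_representsAttr a eF
    refine GrothLib.DiagGrp.lfp_of_comp_of_lft j.left ZF.hom ?_ inferInstance
    rw [Over.w j]
    exact hN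
  · intro A _ I hI p b h
    let str : Spec (CommRingCat.of A) ⟶ S := b ≫ ZF.hom
    let za : Over.mk (Spec.map (CommRingCat.ofHom (Ideal.Quotient.mk I)) ≫ str) ⟶ ZN :=
      Over.homMk p (by rw [← Over.w j, ← reassoc_of% h]; rfl)
    let zb : Over.mk str ⟶ ZF := Over.homMk b rfl
    let t : Over.mk (Spec.map (CommRingCat.ofHom (Ideal.Quotient.mk I)) ≫ str) ⟶ Over.mk str :=
      Over.homMk (Spec.map (CommRingCat.ofHom (Ideal.Quotient.mk I))) rfl
    have hab : za ≫ j = t ≫ zb := Over.OverMorphism.ext h.symm
    obtain ⟨l, hl₁, hl₂⟩ := GrothLib.MagnetGr.exists_lift_face hI hF (eN.homEquiv za) (eF.homEquiv zb)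
      (congrArg Subtype.val (((hj _ za).symm.trans (congrArg (fun w => eF.homEquiv w) hab)).trans
        (eF.homEquiv_comp t zb)))
    refine ⟨(eN.homEquiv.symm l).left, ?_, ?_⟩
    · have e : eN.homEquiv (t ≫ eN.homEquiv.symm l) = eN.homEquiv za := by
        rw [eN.homEquiv_comp, Equiv.apply_symm_apply]
        exact Subtype.ext hl₁
      exact congrArg CommaMorphism.left (eN.homEquiv.injective e)
    · have e : eF.homEquiv (eN.homEquiv.symm l ≫ j) = eF.homEquiv zb := by
        rw [hj, Equiv.apply_symm_apply]
        exact Subtype.ext hl₂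
      exact congrArg CommaMorphism.left (eF.homEquiv.injective e)

end Groth.Agent.S18241
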