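import Groth.Statements.S18243
import Groth.Agent.Lib.MagnetGr25.GluedAction
import Groth.Agent.Lib.MagnetGr25.FaceGlue
import Groth.Agent.Lib.MagnetGr25.LimitPres
-- import your own Groth.Agent.* helpers here

set_option autoImplicit false
universe u
open CategoryTheory MonoidalCategory CartesianMonoidalCategory AlgebraicGeometry Opposite
open Magnet

namespace Groth.Agent.S18243
open GrothLib.MagnetGr GrothLib.MagnetPts


/-- Let T be an affine scheme and T̄ → T a first-order thickening, M a finitely generated abelian group,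
N a submonoid of M and F a face of N. Consider the span A(F)_T ← A(F)_T ×_T T̄ → A(N)_T ×_T T̄
formed by the first projection and by the face closed immersion A(F) → A(N) times T̄, everything
with its action of the diagonalizable group scheme D(M)_T (acting trivially on T̄). Then there are a
T-scheme P, affine, with morphisms ν₁ : A(F)_T → P and ν₂ : A(N)_T ×_T T̄ → P forming a push-out
square in T-schemes, and an action of D(M)_T on P for which ν₁ and ν₂ are equivariant, such that P
is also a push-out for equivariant morphisms: for every T-scheme X with an action of D(M)_T and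
equivariant f₁ : A(F)_T → X, f₂ : A(N)_T ×_T T̄ → X agreeing on A(F)_T ×_T T̄, the induced morphism
P → X is equivariant. (Stated for schemes over T; the published statement is in algebraic spaces
over T.) -/
theorem result (T : Scheme.{u}) [IsAffine T] (M : Type) [AddCommGroup M]
    [AddGroup.FG M] {N F : AddSubmonoid M} (hF : Magnet.IsFace N F) (Tb : Over T)
    (hTb : MoreMor.IsFirstOrderThickening Tb.hom) :
    ∃ (P : Over T) (ν₁ : Magnet.AMonS T F ⟶ P) (ν₂ : Magnet.AMonS T N ⊗ Tb ⟶ P)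
      (hP : IsPushout (CartesianMonoidalCategory.fst (Magnet.AMonS T F) Tb) (Magnet.AMonS.faceMap T hF ▷ Tb) ν₁ ν₂)
      (aP : Magnet.MonAct (Magnet.AMonS T M) P),
      IsAffine P.left ∧ Magnet.MonAct.IsEquivariant (Magnet.subAct T M F) aP ν₁ ∧
      Magnet.MonAct.IsEquivariant ((Magnet.subAct T M N).prod (Magnet.MonAct.trivial (Magnet.AMonS T M) Tb)) aP ν₂ ∧
      ∀ (X : Over T) (aX : Magnet.MonAct (Magnet.AMonS T M) X) (f₁ : Magnet.AMonS T F ⟶ X)
        (f₂ : Magnet.AMonS T N ⊗ Tb ⟶ X)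
        (w : CartesianMonoidalCategory.fst (Magnet.AMonS T F) Tb ≫ f₁ = (Magnet.AMonS.faceMap T hF ▷ Tb) ≫ f₂),
        Magnet.MonAct.IsEquivariant (Magnet.subAct T M F) aX f₁ →
        Magnet.MonAct.IsEquivariant ((Magnet.subAct T M N).prod (Magnet.MonAct.trivial (Magnet.AMonS T M) Tb)) aX f₂ →
        Magnet.MonAct.IsEquivariant aP aX (hP.desc f₁ f₂ w) := by
  haveI := hTb.1.1
  haveI : IsAffine Tb.left := isAffine_of_isAffineHom Tb.hom
  let R : Type u := Γ(T, ⊤)
  let R' : Type u := Γ(Tb.left, ⊤)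
  let π : R →+* R' := Tb.hom.appTop.hom
  have hπ : Function.Surjective π := (IsClosedImmersion.isAffine_surjective_of_isAffine Tb.hom).2
  let t₀ : Spec (CommRingCat.of R) ⟶ T := T.isoSpec.inv
  let tb : Spec (CommRingCat.of R') ⟶ T := Spec.map (CommRingCat.ofHom π) ≫ t₀
  let eTb : Over.mk tb ≅ Tb := Over.isoMk Tb.left.isoSpec.symm (Scheme.isoSpec_inv_naturality Tb.hom).symm
  let e₀ : Over.mk t₀ ≅ 𝟙_ (Over T) := Over.isoMk T.isoSpec.symm (Category.comp_id _)
  let rK : MA R F →+* MA R' F := MonoidAlgebra.mapRingHom (Multiplicative F) π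
  let pF : MA R' N →+* MA R' F := projF R' hF
  let B : Subring (MA R' N × MA R F) := (pF.comp (RingHom.fst _ _)).eqLocus (rK.comp (RingHom.snd _ _))
  let p₁ : B →+* MA R' N := (RingHom.fst _ _).comp B.subtype
  let p₂ : B →+* MA R F := (RingHom.snd _ _).comp B.subtype
  have hsq : GrothLib.Misc6.FibreSquare p₁ p₂ pF rK := by
    refine ⟨RingHom.ext fun x => x.2, fun x h₁ h₂ => Subtype.ext (Prod.ext h₁ h₂), fun b a e => ?_, fun z => ?_⟩
    · exact ⟨⟨(b, a), e⟩, rfl, rfl⟩
    · induction z using MonoidAlgebra.induction_linear with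
      | zero => exact ⟨0, map_zero _⟩
      | add a b ha hb =>
        obtain ⟨a', rfl⟩ := ha
        obtain ⟨b', rfl⟩ := hb
        exact ⟨a' + b', map_add _ _ _⟩
      | single m r =>
        obtain ⟨r', rfl⟩ := hπ r
        exact ⟨MonoidAlgebra.single m r', MonoidAlgebra.mapRingHom_single _ _ _⟩
  let sB : Spec (CommRingCat.of B) ⟶ T := str t₀
    ((((cst : R' →+* MA R' N).comp π).prod (cst : R →+* MA R F)).codRestrict B fun r => by
      change projF R' hF (cst (π r)) = rK (cst r)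
      simp [rK, projF, MonoidAlgebra.singleOneRingHom])
  have hg : Spec.map (CommRingCat.ofHom p₂) ≫ sB = str t₀ (cst : R →+* MA R F) := by
    simp only [sB, str]
    rw [specMap_comp]
    rfl
  have hf : Spec.map (CommRingCat.ofHom p₁) ≫ sB = str tb (cst : R' →+* MA R' N) := by
    simp only [sB, str, tb]
    rw [specMap_comp, specMap_comp]
    rfl
  have hpK : Spec.map (CommRingCat.ofHom rK) ≫ str t₀ (cst : R →+* MA R F) = str tb (cst : R' →+* MA R' F) := by
    simp only [str, tb]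
    rw [specMap_comp, specMap_comp, mapRingHom_cst]
  have hqK : Spec.map (CommRingCat.ofHom pF) ≫ str tb (cst : R' →+* MA R' N) = str tb (cst : R' →+* MA R' F) := by
    simp only [str]
    rw [specMap_comp]
    congr 3
    exact evC_comp_cst _ _
  let eK : Over.mk (str tb (cst : R' →+* MA R' F)) ≅ AMonS T F ⊗ Tb := isoUniv ↥F tb ≪≫ whiskerLeftIso _ eTb
  let eA : Over.mk (str t₀ (cst : R →+* MA R F)) ≅ AMonS T F := isoUniv ↥F t₀ ≪≫ whiskerLeftIso _ e₀ ≪≫ ρ_ _
  let eL : Over.mk (str tb (cst : R' →+* MA R' N)) ≅ AMonS T N ⊗ Tb := isoUniv ↥N tb ≪≫ whiskerLeftIso _ eTb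
  let ν₁ : AMonS T F ⟶ Over.mk sB := eA.inv ≫ ov p₂ hg
  let ν₂ : AMonS T N ⊗ Tb ⟶ Over.mk sB := eL.inv ≫ ov p₁ hf
  have c₁ : ov rK hpK ≫ eA.hom = eK.hom ≫ CartesianMonoidalCategory.fst (AMonS T F) Tb := by
    have hπ' : Spec.map (CommRingCat.ofHom π) ≫ t₀ = tb := rfl
    simp only [eA, eK, Iso.trans_hom, whiskerLeftIso_hom, rightUnitor_hom, whiskerLeft_fst, Category.assoc]
    rw [← Category.assoc, isoUniv_naturality ↥F π hπ', Category.assoc, whiskerLeft_fst]
  have c₂ : ov pF hqK ≫ eL.hom = eK.hom ≫ (AMonS.faceMap T hF ▷ Tb) := by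
    simp only [eL, eK, Iso.trans_hom, whiskerLeftIso_hom, Category.assoc]
    rw [whisker_exchange, ← Category.assoc (isoUniv ↥F tb).hom, ← Category.assoc (ov pF hqK)]
    congr 1
    apply Over.OverMorphism.ext
    rw [isoUniv_hom, isoUniv_hom, Over.comp_left, Over.comp_left]
    change Spec.map _ ≫ _ = _
    rw [pt_comp tb (cst : R' →+* MA R' N) uni (projF R' hF) _ (evC_comp_cst _ _), ← Over.comp_left]
    congr 1
    rw [pt, univ, pt, lift_whiskerRight, amsPoint_faceMap]
    congr 2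
    exact evC_comp_uni _ _
  have hP : IsPushout (CartesianMonoidalCategory.fst (AMonS T F) Tb) (AMonS.faceMap T hF ▷ Tb) ν₁ ν₂ :=
    (isPushout_ov hsq hpK hqK hg hf).of_iso eK eA eL (Iso.refl _) c₁ c₂ (by simp [ν₁]) (by simp [ν₂])
  obtain ⟨hG, hGG⟩ := isPushout_whisker M hsq hpK hqK hg hf
  have hG' : IsPushout (AMonS T M ◁ CartesianMonoidalCategory.fst (AMonS T F) Tb)
      (AMonS T M ◁ (AMonS.faceMap T hF ▷ Tb)) (AMonS T M ◁ ν₁) (AMonS T M ◁ ν₂) :=
    hG.of_iso (whiskerLeftIso _ eK) (whiskerLeftIso _ eA) (whiskerLeftIso _ eL) (Iso.refl _)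
      (by simp only [whiskerLeftIso_hom, ← MonoidalCategory.whiskerLeft_comp, c₁])
      (by simp only [whiskerLeftIso_hom, ← MonoidalCategory.whiskerLeft_comp, c₂])
      (by simp [ν₁]) (by simp [ν₂])
  have hGG' : IsPushout (AMonS T M ◁ AMonS T M ◁ CartesianMonoidalCategory.fst (AMonS T F) Tb)
      (AMonS T M ◁ AMonS T M ◁ (AMonS.faceMap T hF ▷ Tb)) (AMonS T M ◁ AMonS T M ◁ ν₁)
      (AMonS T M ◁ AMonS T M ◁ ν₂) :=
    hGG.of_iso (whiskerLeftIso _ (whiskerLeftIso _ eK)) (whiskerLeftIso _ (whiskerLeftIso _ eA))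
      (whiskerLeftIso _ (whiskerLeftIso _ eL)) (Iso.refl _)
      (by simp only [whiskerLeftIso_hom, ← MonoidalCategory.whiskerLeft_comp, c₁])
      (by simp only [whiskerLeftIso_hom, ← MonoidalCategory.whiskerLeft_comp, c₂])
      (by simp [ν₁]) (by simp [ν₂])
  have hi : MonAct.IsEquivariant ((subAct T M F).prod (MonAct.trivial (AMonS T M) Tb)) (subAct T M F)
      (CartesianMonoidalCategory.fst (AMonS T F) Tb) := by
    rw [MonAct.isEquivariant_iff]
    intro T' g z
    rw [← lift_comp_fst_snd z, MonAct.lift_prod_act_assoc, lift_fst, lift_fst]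
  obtain ⟨aP, h₁, h₂, h₃⟩ := exists_act_pushout hP hG' hGG' _ (subAct T M F) _ hi
    (act_commute Tb _ (isEquivariant_faceMapS T hF))
  exact ⟨Over.mk sB, ν₁, ν₂, hP, aP, inferInstanceAs (IsAffine (Spec (CommRingCat.of B))), h₁, h₂, h₃⟩

end Groth.Agent.S18243
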