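import Groth.Statements.S18248
import Groth.Agent.Lib.CurveU16.UIso
import Mathlib.Algebra.TrivSqZeroExt.Basic
import Mathlib.RingTheory.Ideal.Cotangent

set_option autoImplicit false
universe u
open W4c5m1nsnscurves
open Curves

namespace Groth.Agent.S18248

open W4c5m1nsnscurves

/-- index of the minimal generators -/
abbrev GIdx (m : ℕ) : Type := Unit ⊕ Fin m ⊕ Fin m ⊕ {q : Fin m × Fin m // q.1 < q.2}

/-- the minimal generators -/
def gidx (m : ℕ) : GIdx m → UGen m
  | .inl _ => .a
  | .inr (.inl i) => .ci i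
  | .inr (.inr (.inl i)) => .cbi i
  | .inr (.inr (.inr q)) => .cij q.1.1 q.1.2 (ne_of_lt q.2)

lemma card_gidx (m : ℕ) : Fintype.card (GIdx m) = (m + 2) * (m + 1) / 2 := by
  have hq : Fintype.card {q : Fin m × Fin m // q.1 < q.2} = ∑ j : Fin m, (j : ℕ) := by
    rw [Fintype.card_congr (β := Σ j : Fin m, Fin (j : ℕ))
      { toFun := fun q => ⟨q.1.2, ⟨q.1.1, q.2⟩⟩
        invFun := fun p => ⟨(⟨p.2, lt_trans p.2.2 p.1.2⟩, p.1), p.2.2⟩
        left_inv := fun q => rfl
        right_inv := fun p => rfl }, Fintype.card_sigma]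
    simp
  simp only [Fintype.card_sum, Fintype.card_unit, Fintype.card_fin, hq]
  rw [Fin.sum_univ_eq_sum_range fun i => i]
  have h2 := Finset.sum_range_id_mul_two m
  have h3 : (m + 2) * (m + 1) = 2 + 3 * m + m * m := by ring
  rcases m with _ | n
  · simp
  · simp only [Nat.add_sub_cancel] at h2
    have h4 : (n + 1) * n = n * n + n := by ring
    have h5 : (n + 1) * (n + 1) = n * n + 2 * n + 1 := by ring
    rw [h3, h5]
    omega

lemma adjoin_top (m : ℕ) (hm : 2 ≤ m) : ∀ g : UGen m, ugen ℤ m g ∈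
    Algebra.adjoin ℤ ({ugen ℤ m .a} ∪ Set.range (fun i : Fin m => ugen ℤ m (.ci i)) ∪
        Set.range (fun i : Fin m => ugen ℤ m (.cbi i)) ∪
        Set.range (fun q : {q : Fin m × Fin m // q.1 < q.2} => ugen ℤ m (.cij q.1.1 q.1.2 (ne_of_lt q.2)))) := by
  intro g
  have U := Groth.Agent.Lib.CurveU16.rels_ugen ℤ m
  set S := Algebra.adjoin ℤ ({ugen ℤ m .a} ∪ Set.range (fun i : Fin m => ugen ℤ m (.ci i)) ∪
        Set.range (fun i : Fin m => ugen ℤ m (.cbi i)) ∪
        Set.range (fun q : {q : Fin m × Fin m // q.1 < q.2} => ugen ℤ m (.cij q.1.1 q.1.2 (ne_of_lt q.2)))) with hS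
  have ha : ugen ℤ m .a ∈ S := Algebra.subset_adjoin (Or.inl (Or.inl (Or.inl rfl)))
  have hi : ∀ i, ugen ℤ m (.ci i) ∈ S := fun i => Algebra.subset_adjoin (Or.inl (Or.inl (Or.inr ⟨i, rfl⟩)))
  have hb : ∀ i, ugen ℤ m (.cbi i) ∈ S := fun i => Algebra.subset_adjoin (Or.inl (Or.inr ⟨i, rfl⟩))
  have hlt : ∀ i j (h : i < j), ugen ℤ m (.cij i j (ne_of_lt h)) ∈ S := fun i j h =>
    Algebra.subset_adjoin (Or.inr ⟨⟨(i, j), h⟩, rfl⟩)
  have hij : ∀ i j (h : i ≠ j), ugen ℤ m (.cij i j h) ∈ S := by
    intro i j h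
    rcases lt_or_gt_of_ne h with h' | h'
    · exact hlt i j h'
    · rw [show ugen ℤ m (.cij i j h) = ugen ℤ m .a + ugen ℤ m (.ci i) + ugen ℤ m (.cbi i) + ugen ℤ m (.ci j) +
        ugen ℤ m (.cbi j) - ugen ℤ m (.cij j i (ne_of_lt h')) by linear_combination U.r1 i j h]
      exact sub_mem (add_mem (add_mem (add_mem (add_mem ha (hi i)) (hb i)) (hi j)) (hb j)) (hlt j i h')
  let p : Fin m := ⟨0, by omega⟩
  let q : Fin m := ⟨1, by omega⟩
  have hpq : p ≠ q := by simp [p, q, Fin.ext_iff]
  cases g with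
  | a => exact ha
  | ci i => exact hi i
  | cbi i => exact hb i
  | cij i j h => exact hij i j h
  | c =>
    rw [U.r2 p q hpq]
    exact sub_mem (add_mem (mul_mem (hij _ _ _) (hi _)) (mul_mem (hij _ _ _) (hi _))) (mul_mem (hi _) (hi _))
  | cb =>
    rw [U.r3 p q hpq]
    exact sub_mem (add_mem (mul_mem (hij _ _ _) (hb _)) (mul_mem (hij _ _ _) (hb _))) (mul_mem (hb _) (hb _))

lemma finrank_cot (m : ℕ) (hm : 2 ≤ m) (k : Type u) [Field k] :
    Module.finrank k (uorigin k m).Cotangent = (m + 2) * (m + 1) / 2 := by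
  classical
  set I := uorigin k m with hI
  have U := Groth.Agent.Lib.CurveU16.rels_ugen k m
  have hmem : ∀ g, ugen k m g ∈ I := fun g => Ideal.subset_span ⟨g, rfl⟩
  have hsm : ∀ (c : k) (x : I), I.toCotangent (c • x) = c • I.toCotangent x := fun c x => rfl
  let t : GIdx m → I.Cotangent := fun i => I.toCotangent ⟨_, hmem (gidx m i)⟩
  -- the linearization
  let e : GIdx m → (GIdx m → k) := fun i => Pi.single i 1
  let S : Fin m → Fin m → (GIdx m → k) := fun i j =>
    e (.inl ()) + e (.inr (.inl i)) + e (.inr (.inr (.inl i))) + e (.inr (.inl j)) + e (.inr (.inr (.inl j)))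
  let lin : UGen m → (GIdx m → k) := fun
    | .a => e (.inl ())
    | .c => 0
    | .cb => 0
    | .ci i => e (.inr (.inl i))
    | .cbi i => e (.inr (.inr (.inl i)))
    | .cij i j _ => if h : i < j then e (.inr (.inr (.inr ⟨(i, j), h⟩)))
        else if h' : j < i then S i j - e (.inr (.inr (.inr ⟨(j, i), h'⟩))) else 0
  let G₀ : MvPolynomial (UGen m) k →ₐ[k] TrivSqZeroExt k (GIdx m → k) :=
    MvPolynomial.aeval fun g => TrivSqZeroExt.inr (lin g)
  have hG₀ : Ideal.span (URel k m) ≤ RingHom.ker G₀ := by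
    refine Ideal.span_le.2 ?_
    intro p hp
    show G₀ p = 0
    rcases hp with ((⟨⟨⟨i, j⟩, hij⟩, rfl⟩ | ⟨q, rfl⟩) | ⟨q, rfl⟩) | ⟨q, rfl⟩
    · simp only [G₀, map_add, map_sub, MvPolynomial.aeval_X, ← TrivSqZeroExt.inr_add, ← TrivSqZeroExt.inr_sub]
      rw [← TrivSqZeroExt.inr_zero]
      congr 1
      rcases lt_or_gt_of_ne hij with h | h
      · simp only [lin, dif_pos h, dif_neg (lt_asymm h), S]; abel
      · simp only [lin, dif_pos h, dif_neg (lt_asymm h), S]; abel
    all_goals simp [G₀, lin, add_mul, TrivSqZeroExt.inr_mul_inr]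
  let G : URing k m →ₐ[k] TrivSqZeroExt k (GIdx m → k) := Ideal.Quotient.liftₐ _ G₀ fun p hp => hG₀ hp
  have hGX : ∀ g, G (ugen k m g) = TrivSqZeroExt.inr (lin g) := fun g => MvPolynomial.aeval_X _ g
  have hfst : ∀ x ∈ I, (G x).fst = 0 := by
    intro x hx
    induction hx using Submodule.span_induction with
    | mem y hy => obtain ⟨g, rfl⟩ := hy; rw [hGX]; rfl
    | zero => simp
    | add x y _ _ hx hy => simp [hx, hy]
    | smul r x _ hx => simp [hx]
  have hsq : ∀ x ∈ I ^ 2, G x = 0 := by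
    intro x hx
    rw [pow_two] at hx
    refine Submodule.mul_induction_on hx (fun a ha b hb => ?_) (fun a b ha hb => by rw [map_add, ha, hb, add_zero])
    rw [map_mul]
    ext <;> simp [hfst a ha, hfst b hb]
  have hgid : ∀ i, lin (gidx m i) = e i := by
    rintro (_ | i | i | q)
    · rfl
    · rfl
    · rfl
    · exact dif_pos q.2
  have hind : LinearIndependent k t := by
    rw [Fintype.linearIndependent_iff]
    intro c hc i
    have h0 : I.toCotangent ⟨∑ j, c j • ugen k m (gidx m j),
        sum_mem fun j _ => Submodule.smul_of_tower_mem I (c j) (hmem _)⟩ = 0 := by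
      refine Eq.trans ?_ hc
      rw [show (⟨∑ j, c j • ugen k m (gidx m j), sum_mem fun j _ => Submodule.smul_of_tower_mem I (c j) (hmem _)⟩ : I) =
        ∑ j, c j • (⟨_, hmem (gidx m j)⟩ : I) by ext; simp, map_sum]
      refine Finset.sum_congr rfl fun j _ => ?_
      exact hsm (c j) _
    have h1 := hsq _ (I.toCotangent_eq_zero _ |>.1 h0)
    have h2 := congrArg TrivSqZeroExt.snd h1
    simp only [map_sum, map_smul, hGX, hgid, TrivSqZeroExt.snd_zero] at h2
    rw [show TrivSqZeroExt.snd (∑ j, c j • (TrivSqZeroExt.inr (e j) : TrivSqZeroExt k (GIdx m → k))) =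
      ∑ j, c j • e j from (map_sum (TrivSqZeroExt.sndHom k (GIdx m → k)) _ _).trans (by simp)] at h2
    have h3 := congrFun h2 i
    simpa [e, Finset.sum_apply, Pi.single_apply] using h3
  have hone : ∀ (r : URing k m), ∃ c : k, r - algebraMap k (URing k m) c ∈ I := by
    intro r
    obtain ⟨p, rfl⟩ := Ideal.Quotient.mk_surjective r
    induction p using MvPolynomial.induction_on with
    | C c => exact ⟨c, by simp [show (Ideal.Quotient.mk _ (MvPolynomial.C c) : URing k m) = algebraMap k _ c from rfl]⟩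
    | add p q hp hq =>
      obtain ⟨a, ha⟩ := hp
      obtain ⟨b, hb⟩ := hq
      refine ⟨a + b, ?_⟩
      have := add_mem ha hb
      rw [map_add, map_add]
      convert this using 1
      ring
    | mul_X p g _ =>
      refine ⟨0, ?_⟩
      rw [map_zero, sub_zero, map_mul]
      exact I.mul_mem_left _ (hmem g)
  have hspan : ⊤ ≤ Submodule.span k (Set.range t) := by
    intro z _
    obtain ⟨⟨x, hx⟩, rfl⟩ := I.toCotangent_surjective z
    have hg : ∀ g, I.toCotangent ⟨ugen k m g, hmem g⟩ ∈ Submodule.span k (Set.range t) := by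
      have hsub : ∀ (x y : I), (x : URing k m) - y ∈ I ^ 2 → I.toCotangent x = I.toCotangent y :=
        fun x y h => (I.toCotangent_eq).2 h
      have h0 : ∀ (x : I), (x : URing k m) ∈ I ^ 2 → I.toCotangent x ∈ Submodule.span k (Set.range t) :=
        fun x h => by rw [(I.toCotangent_eq_zero x).2 h]; exact zero_mem _
      have hmin : ∀ i, I.toCotangent ⟨_, hmem (gidx m i)⟩ ∈ Submodule.span k (Set.range t) :=
        fun i => Submodule.subset_span ⟨i, rfl⟩
      have hprod : ∀ g g', ugen k m g * ugen k m g' ∈ I ^ 2 := fun g g' => by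
        rw [pow_two]; exact Ideal.mul_mem_mul (hmem g) (hmem g')
      let p : Fin m := ⟨0, by omega⟩
      let q : Fin m := ⟨1, by omega⟩
      have hpq : p ≠ q := by simp [p, q, Fin.ext_iff]
      intro g
      cases g with
      | a => exact hmin (.inl ())
      | ci i => exact hmin (.inr (.inl i))
      | cbi i => exact hmin (.inr (.inr (.inl i)))
      | c =>
        refine h0 _ ?_
        show ugen k m .c ∈ I ^ 2
        rw [U.r2 p q hpq]
        exact sub_mem (add_mem (hprod _ _) (hprod _ _)) (hprod _ _)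
      | cb =>
        refine h0 _ ?_
        show ugen k m .cb ∈ I ^ 2
        rw [U.r3 p q hpq]
        exact sub_mem (add_mem (hprod _ _) (hprod _ _)) (hprod _ _)
      | cij i j h =>
        rcases lt_or_gt_of_ne h with h' | h'
        · exact hmin (.inr (.inr (.inr ⟨(i, j), h'⟩)))
        · have e : (⟨ugen k m (.cij i j h), hmem _⟩ : I) = ⟨_, hmem (gidx m (.inl ()))⟩ + ⟨_, hmem (gidx m (.inr (.inl i)))⟩ +
              ⟨_, hmem (gidx m (.inr (.inr (.inl i))))⟩ + ⟨_, hmem (gidx m (.inr (.inl j)))⟩ +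
              ⟨_, hmem (gidx m (.inr (.inr (.inl j))))⟩ - ⟨_, hmem (gidx m (.inr (.inr (.inr ⟨(j, i), h'⟩))))⟩ := by
            ext
            simp only [Submodule.coe_add, AddSubgroupClass.coe_sub, gidx]
            linear_combination U.r1 i j h
          rw [e, map_sub, map_add, map_add, map_add, map_add]
          exact sub_mem (add_mem (add_mem (add_mem (add_mem (hmin _) (hmin _)) (hmin _)) (hmin _)) (hmin _)) (hmin _)
    suffices ∀ x (hx : x ∈ I), I.toCotangent ⟨x, hx⟩ ∈ Submodule.span k (Set.range t) from this x hx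
    intro x hx
    induction hx using Submodule.span_induction with
    | mem y hy => obtain ⟨g, rfl⟩ := hy; exact hg g
    | zero =>
      rw [show (⟨0, zero_mem I⟩ : I) = 0 from rfl, map_zero]; exact zero_mem _
    | add x y hx hy hx' hy' =>
      rw [show (⟨x + y, add_mem hx hy⟩ : I) = ⟨x, hx⟩ + ⟨y, hy⟩ from rfl, map_add]; exact add_mem hx' hy'
    | smul r x hx hx' =>
      obtain ⟨c, hc⟩ := hone r
      have e : I.toCotangent ⟨r • x, I.smul_mem r hx⟩ = c • I.toCotangent ⟨x, hx⟩ := by
        rw [← hsm c (⟨x, hx⟩ : I)]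
        refine (I.toCotangent_eq).2 ?_
        have : (r - algebraMap k (URing k m) c) * x ∈ I ^ 2 := by
          rw [pow_two]; exact Ideal.mul_mem_mul hc hx
        convert this using 1
        show r * x - c • x = _
        rw [show c • x = algebraMap k (URing k m) c * x from Algebra.smul_def (R := k) (A := URing k m) c x]
        ring
      rw [e]
      exact Submodule.smul_mem _ _ hx'
  rw [Module.finrank_eq_card_basis (Module.Basis.mk hind hspan), card_gidx]


/-- Let m ≥ 2, so that n = m + 3 ≥ 5 points are marked. For every field k, the Zariski cotangent space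
of U_n over k at the origin, that is I/I² for the ideal I of the coordinate ring of U_n over k
generated by the classes of all the generators a, c, c̄, c_i, c̄_i, c_{ij}, has dimension (n − 1)(n
− 2)/2 = (m + 2)(m + 1)/2 over k; and the weight-one classes a, c_i, c̄_i (all indices i) and c_{ij}
(i < j) generate the coordinate ring of U_n over ℤ as a ℤ-algebra (so they form a minimal generating
set). -/
theorem result (m : ℕ) (hm : 2 ≤ m) :
    (∀ (k : Type u) [Field k], Module.finrank k (uorigin k m).Cotangent = (m + 2) * (m + 1) / 2) ∧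
    Algebra.adjoin ℤ ({ugen ℤ m .a} ∪ Set.range (fun i : Fin m => ugen ℤ m (.ci i)) ∪
        Set.range (fun i : Fin m => ugen ℤ m (.cbi i)) ∪
        Set.range (fun q : {q : Fin m × Fin m // q.1 < q.2} => ugen ℤ m (.cij q.1.1 q.1.2 (ne_of_lt q.2)))) = ⊤ := by
  refine ⟨fun k _ => finrank_cot m hm k, ?_⟩
  rw [eq_top_iff]
  intro x _
  obtain ⟨p, rfl⟩ := Ideal.Quotient.mk_surjective x
  induction p using MvPolynomial.induction_on with
  | C r =>
    rw [show (Ideal.Quotient.mk (Ideal.span (W4c5m1nsnscurves.URel ℤ m)) (MvPolynomial.C r) : W4c5m1nsnscurves.URing ℤ m) = algebraMap ℤ _ r from rfl]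
    exact Subalgebra.algebraMap_mem _ r
  | add p q hp hq => rw [map_add]; exact add_mem (hp trivial) (hq trivial)
  | mul_X p g hp => rw [map_mul]; exact mul_mem (hp trivial) (adjoin_top m hm g)


end Groth.Agent.S18248
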