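import Groth.Statements.S1825
import Groth.Agent.Lib.DualCx22.Transfer
import Groth.Agent.Lib.Hensel.Henselization
import Groth.Agent.S0507

set_option autoImplicit false
universe u
open CategoryTheory
attribute [local instance] HasDerivedCategory.standard
open Dual

namespace Groth.Agent.S1825

/-- Let A be a Noetherian local ring, B a henselization of A (a Noetherian local ring with a local
homomorphism A → B exhibiting it as such) and ω a dualizing complex for A. Assuming the derived base
change functor D(A) → D(B) along A → B exists (carried as an instance binder), the base change of ω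
to B is a dualizing complex for B. -/
theorem result (A B : Type u) [CommRing A] [IsLocalRing A] [IsNoetherianRing A] [CommRing B] [IsLocalRing B] [IsNoetherianRing B] [Algebra A B] [IsLocalHom (algebraMap A B)] [Hensel.IsHenselization A B] [DRing.HasLBaseChange (algebraMap A B)] (ω : Dual.D A) (hω : Dual.IsDualizing A ω) : Dual.IsDualizing B ((DRing.LBaseChange (algebraMap A B)).obj ω) := by
  haveI := hω.isNoetherianRing
  haveI : Module.Flat A B := GrothLib.Hensel.IsHenselization.flat (R := A) (S := B)
  haveI := GrothLib.DR.preservesFiniteLimits_extendScalars (algebraMap A B) GrothLib.DR.flat_algebraMap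
  obtain ⟨e⟩ := GrothLib.DualCx22.nonempty_lBase_iso_bcD (A := A) B
  obtain ⟨a, b, hab⟩ := hω.finite_injective_dimension
  refine GrothLib.DualCx22.isDualizing_of_iso (e.app ω).symm (GrothLib.DualCx22.isDualizing_bcD B hω b fun m hm i hi => ?_)
  obtain rfl := IsLocalRing.eq_maximalIdeal hm
  exact GrothLib.DualCx22.subsingleton_residue_bcD B hω a b hab (IsLocalRing.maximalIdeal A) _
    (Groth.Agent.S0507.result A B) i (hab _ i (Or.inr hi))

end Groth.Agent.S1825
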