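import Groth.Agent.Lib.ArtFun.FreeCrit
import Groth.Statements.S18256
-- import your own Groth.Agent.* helpers here

set_option autoImplicit false
universe u
open ArtFun

namespace Groth.Agent.S18256

open CategoryTheory TensorProduct in
/-- Let R be an Artinian local ring with residue field k and M a finitely generated R-module. Suppose
that for every small extension p : A' → A of local Artinian R-algebras with residue field k (p
surjective, its kernel I a nonzero principal ideal killed by the maximal ideal of A'), the map M ⊗_R
I → M ⊗_R A' induced by the inclusion I ⊆ A' is injective (equivalently, the sequence 0 → M ⊗_R I →
M ⊗_R A' → M ⊗_R A → 0 is exact). Then M is a free R-module. (The printed conclusion reads free over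
the residue field; the proof establishes freeness over R, which is what is stated here.) -/
theorem result
    (R : Type u) [CommRing R] [IsArtinianRing R] [IsLocalRing R]
    (k : Type u) [Field k] [Algebra R k] (hk : Function.Surjective (algebraMap R k))
    (M : Type u) [AddCommGroup M] [Module R M] [Module.Finite R M]
    (h : ∀ (A' A : ArtFun.Art R k) (p : A' ⟶ A), ArtFun.Art.IsSmallExt p →
      Function.Injective
        (LinearMap.lTensor M (((RingHom.ker p.toAlgHom).restrictScalars R).subtype))) :
    Module.Free R M := by
  exact GrothLib.ArtFun.free_of_lTensor_smallExt R k hk M h

end Groth.Agent.S18256
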