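import Groth.Statements.S18257
import Groth.Agent.Lib.UnitsThick26.Vanish

set_option autoImplicit false
universe u
open UnitsSh

namespace Groth.Agent.S18257

open CategoryTheory CategoryTheory.Limits AlgebraicGeometry in
/-- In the case of the multiplicative group, for schemes and with Zariski cohomology of the sheaf of
units. Let A be a local ring with maximal ideal m, t a nonzero element of m with m·t = 0, and X' a
scheme flat over Spec A; let i : X ⟶ X' be the closed subscheme cut out by t (base change to A/(t))
and X₀ the closed fibre (base change to the residue field). If H^{q+1}(X₀, O_{X₀}) = 0, then the map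
H^q(X', O_{X'}^×) → H^q(X', i_* O_X^×) induced by the units map of i is surjective. (The published
statement covers any smooth commutative group scheme in place of the multiplicative group, with the
Lie algebra of its closed fibre in place of O_{X₀}, uses étale cohomology, and takes A Artinian;
this row allows any local ring A with t as stated.) -/
theorem result
    (A : Type u) [CommRing A] [IsLocalRing A]
    (t : A) (ht0 : t ≠ 0) (ht : t ∈ IsLocalRing.maximalIdeal A)
    (hmt : ∀ x ∈ IsLocalRing.maximalIdeal A, x * t = 0)
    (X' : Scheme.{u}) [X'.Over (Spec (CommRingCat.of A))] [Flat (X' ↘ Spec (CommRingCat.of A))]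
    (q : ℕ)
    (hvan : Subsingleton (Coh.HH
      (pullback (X' ↘ Spec (CommRingCat.of A)) (Spec.map (CommRingCat.ofHom (IsLocalRing.residue A))))
      (Coh.structureModule _) (q + 1))) :
    Function.Surjective (Sheaf.H.map (UnitsSh.comap
      (pullback.fst (X' ↘ Spec (CommRingCat.of A))
        (Spec.map (CommRingCat.ofHom (Ideal.Quotient.mk (Ideal.span ({t} : Set A))))))) q) := by
  let g := X' ↘ Spec (CommRingCat.of A)
  let φ := Ideal.Quotient.mk (Ideal.span ({t} : Set A))
  let ψ := IsLocalRing.residue A
  have H : IsPullback (pullback.fst g (Spec.map (CommRingCat.ofHom φ))) (pullback.snd _ _) g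
      (Spec.map (CommRingCat.ofHom φ)) := IsPullback.of_hasPullback _ _
  have hφ : Function.Surjective φ := Ideal.Quotient.mk_surjective
  haveI : IsClosedImmersion (pullback.fst g (Spec.map (CommRingCat.ofHom φ))) :=
    MorphismProperty.of_isPullback H.flip (IsClosedImmersion.spec_of_surjective _ hφ)
  have hker : RingHom.ker φ = Ideal.span {t} := Ideal.mk_ker
  have hsq := GrothLib.UnitsThick26.isSqZero_of_isPullback H hφ hker (hmt t ht)
  have hann : ∀ a, a ∈ RingHom.ker ψ ↔ a * t = 0 := fun a => by
    rw [IsLocalRing.ker_residue]
    refine ⟨hmt a, fun h => ?_⟩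
    by_contra ha
    rw [IsLocalRing.mem_maximalIdeal, mem_nonunits_iff, not_not] at ha
    exact ht0 (ha.mul_right_eq_zero.1 h)
  obtain ⟨e⟩ := GrothLib.UnitsThick26.nonempty_H_kerMod_equiv H hφ hker
    (IsPullback.of_hasPullback g (Spec.map (CommRingCat.ofHom ψ))) IsLocalRing.residue_surjective hann (q + 1)
  exact GrothLib.UnitsThick26.surjective_map_g (GrothLib.UnitsThick26.unitsSeq_shortExact hsq (𝟙 X')) q
    e.toEquiv.subsingleton

end Groth.Agent.S18257
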