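import Groth.Statements.S18258
import Groth.Agent.Lib.UnitsThick26.Split

set_option autoImplicit false
universe u
open UnitsSh

namespace Groth.Agent.S18258

open CategoryTheory CategoryTheory.Limits AlgebraicGeometry in
/-- In the case of the multiplicative group, for schemes and with Zariski cohomology of the sheaf of
units. Let k be a field, X₀ a k-scheme, X' = X₀ ×_k Spec k[ε] (k[ε] the dual numbers) and i : X ⟶ X'
the closed subscheme ε = 0 (base change of X' along k[ε] → k, a copy of X₀). Then for every q the
kernel of the map H^q(X', O_{X'}^×) → H^q(X', i_* O_X^×) induced by the units map of i — the tangent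
space at the origin of the functor A ↦ H^q(X₀ ⊗_k A, O^×) on local Artinian k-algebras — is
isomorphic, as an additive group, to H^q(X, O_X). (Existence of an isomorphism only. The published
statement covers any smooth commutative group scheme in place of the multiplicative group, with the
Lie algebra of its closed fibre in place of the structure sheaf, and uses étale cohomology.) -/
theorem result
    (k : Type u) [Field k] (X₀ : Scheme.{u}) [X₀.Over (Spec (CommRingCat.of k))] (q : ℕ) :
    Nonempty ((Sheaf.H.map (UnitsSh.comap (pullback.fst (pullback.snd (X₀ ↘ Spec (CommRingCat.of k)) (Spec.map (CommRingCat.ofHom (algebraMap k (DualNumber k))))) (Spec.map (CommRingCat.ofHom (TrivSqZeroExt.fstHom k k k).toRingHom)))) q).ker ≃+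
      Coh.HH (pullback (pullback.snd (X₀ ↘ Spec (CommRingCat.of k)) (Spec.map (CommRingCat.ofHom (algebraMap k (DualNumber k))))) (Spec.map (CommRingCat.ofHom (TrivSqZeroExt.fstHom k k k).toRingHom))) (Coh.structureModule (pullback (pullback.snd (X₀ ↘ Spec (CommRingCat.of k)) (Spec.map (CommRingCat.ofHom (algebraMap k (DualNumber k))))) (Spec.map (CommRingCat.ofHom (TrivSqZeroExt.fstHom k k k).toRingHom)))) q) := by
  let f := X₀ ↘ Spec (CommRingCat.of k)
  let s := Spec.map (CommRingCat.ofHom (algebraMap k (DualNumber k)))
  let φ : DualNumber k →+* k := (TrivSqZeroExt.fstHom k k k).toRingHom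
  let e := Spec.map (CommRingCat.ofHom φ)
  let g := pullback.snd f s
  let j := pullback.fst g e
  have hes : e ≫ s = 𝟙 _ := by
    rw [← Spec.map_comp, ← CommRingCat.ofHom_comp, ← Spec.map_id]
    congr 2
  have H : IsPullback j (pullback.snd g e) g e := IsPullback.of_hasPullback _ _
  have hφ : Function.Surjective φ := fun a => ⟨TrivSqZeroExt.inl a, TrivSqZeroExt.fst_inl k a⟩
  have hmem : ∀ a : DualNumber k, φ a = 0 ↔ ∃ b, b * DualNumber.eps = a := fun a => by
    constructor
    · intro h
      refine ⟨TrivSqZeroExt.inl (TrivSqZeroExt.snd a), TrivSqZeroExt.ext ?_ ?_⟩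
      · simpa [φ] using h.symm
      · simp
    · rintro ⟨b, rfl⟩
      simp [φ]
  have hker : RingHom.ker φ = Ideal.span {DualNumber.eps} := by
    ext a
    rw [RingHom.mem_ker, Ideal.mem_span_singleton', hmem]
  have hann : ∀ a : DualNumber k, a ∈ RingHom.ker φ ↔ a * DualNumber.eps = 0 := fun a => by
    rw [RingHom.mem_ker]
    constructor
    · intro h
      obtain ⟨b, rfl⟩ := (hmem a).1 h
      rw [mul_assoc, DualNumber.eps_mul_eps, mul_zero]
    · intro h
      have := congrArg TrivSqZeroExt.snd h
      simpa [φ] using this
  haveI : Flat s := by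
    rw [HasRingHomProperty.Spec_iff (P := @Flat)]
    exact RingHom.flat_algebraMap_iff.2 inferInstance
  haveI : Flat g := inferInstanceAs (Flat (pullback.snd f s))
  haveI : IsClosedImmersion j := MorphismProperty.of_isPullback H.flip (IsClosedImmersion.spec_of_surjective _ hφ)
  haveI : Surjective e := by
    haveI : Subsingleton (PrimeSpectrum (DualNumber k)) := by
      have key : ∀ P : PrimeSpectrum (DualNumber k), P.asIdeal = RingHom.ker φ := fun P => by
        refine le_antisymm (fun a ha => ?_) fun a ha => ?_
        · rw [RingHom.mem_ker]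
          by_contra h0
          exact P.isPrime.ne_top (Ideal.eq_top_of_isUnit_mem _ ha
            (TrivSqZeroExt.isUnit_iff_isUnit_fst.2 (isUnit_iff_ne_zero.2 h0)))
        · obtain ⟨b, rfl⟩ := (hmem a).1 ha
          exact Ideal.mul_mem_left _ b (P.isPrime.mem_of_pow_mem 2
            (by rw [pow_two, DualNumber.eps_mul_eps]; exact zero_mem _))
      exact ⟨fun P Q => PrimeSpectrum.ext ((key P).trans (key Q).symm)⟩
    exact ⟨fun p => ⟨(default : PrimeSpectrum k), Subsingleton.elim (α := PrimeSpectrum (DualNumber k)) _ _⟩⟩
  haveI : Surjective j := MorphismProperty.of_isPullback H.flip inferInstance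
  let r : X₀ ⟶ pullback g e :=
    pullback.lift (pullback.lift (𝟙 X₀) (f ≫ e) (by rw [Category.id_comp, Category.assoc, hes, Category.comp_id])) f
      (pullback.lift_snd _ _ _)
  have hπ : j ≫ pullback.fst f s ≫ r = 𝟙 _ := by
    have hw : j ≫ g = pullback.snd g e ≫ e := pullback.condition
    have hf : j ≫ pullback.fst f s ≫ f = pullback.snd g e := by
      rw [pullback.condition, ← Category.assoc]
      erw [hw]
      rw [Category.assoc, hes, Category.comp_id]
    refine pullback.hom_ext ?_ ?_
    · refine pullback.hom_ext ?_ ?_
      · simp only [r, j, Category.assoc, Category.id_comp]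
        erw [pullback.lift_fst_assoc, pullback.lift_fst, Category.comp_id]
      · simp only [r, Category.assoc, Category.id_comp, pullback.lift_fst, pullback.lift_snd]
        rw [← Category.assoc (pullback.fst f s), ← Category.assoc j, hf]
        exact hw.symm
    · simp only [r, Category.assoc, Category.id_comp, pullback.lift_snd]
      exact hf
  have hsq := GrothLib.UnitsThick26.isSqZero_of_isPullback H hφ hker DualNumber.eps_mul_eps
  obtain ⟨a⟩ := GrothLib.UnitsThick26.nonempty_ker_map_g_equiv
    (GrothLib.UnitsThick26.unitsSeq_shortExact hsq (𝟙 _)) (GrothLib.UnitsThick26.unitsSection j _ hπ)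
    (GrothLib.UnitsThick26.unitsSection_comap j _ hπ) q
  obtain ⟨b⟩ := GrothLib.UnitsThick26.nonempty_H_kerMod_equiv H hφ hker H hφ hann q
  exact ⟨a.trans b⟩

end Groth.Agent.S18258
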