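import Groth.Statements.S18262
import Groth.Agent.Lib.HM.PointsDestab

set_option autoImplicit false
universe u
open InvQ

namespace Groth.Agent.S18262

/-- Let k be an algebraically closed field in which m! is non-zero, n and m natural numbers, and p_1, …,
p_m non-zero vectors of k^(n+1), an ordered configuration of m points of projective n-space. Encode
the configuration by the product π = ∏_i (Σ_j p_i,j x_j) of its m linear forms, on which the special
linear group SL(n+1) acts by substitution, and let a be the point of the affine space of degree-m
forms in n + 1 variables whose form is π. If a is stable for SL(n+1) — closed orbit and finite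
stabiliser — then for every linear subspace W of k^(n+1) with 0 ≠ W ≠ k^(n+1) the number of indices
i with p_i ∈ W, multiplied by n + 1, is less than m times the dimension of W. (Affine-cone form,
with the configuration carried by the product of its linear forms; only the necessity of the strict
criterion is given; its sufficiency is not stated here. The published statement asks the strict
inequality of proper subsets of the points, through the dimension of their span; that version agrees
with this one when m ≥ n + 2 but not for m ≤ n + 1. The published statement allows any
characteristic; this row assumes m! non-zero in k, as the space of forms used here requires.) -/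
theorem result (k : Type u) [Field k] [IsAlgClosed k] (n m : ℕ)
    (hm : (Nat.factorial m : k) ≠ 0) (p : Fin m → Fin (n + 1) → k) (hp : ∀ i, p i ≠ 0)
    (a : CoordGrp.FormIdx (n + 1) m → k)
    (ha : CoordGrp.formPoly a = ∏ i, ∑ j, MvPolynomial.C (p i j) * MvPolynomial.X j)
    (hst : @GLin.IsStableVec k _ (CoordGrp.SLn (n + 1) k) _ _ (CoordGrp.FormIdx (n + 1) m)
      (GLin.comodAlong ((CoordGrp.SLn.mkHom (n + 1) k).comp (CoordGrp.Mat.toGLn (n + 1) k)) (CoordGrp.formsCoact k (n + 1) m))
      (GLin.isCoactAlg_comodAlong ((CoordGrp.SLn.mkHom (n + 1) k).comp (CoordGrp.Mat.toGLn (n + 1) k)) (CoordGrp.formsCoact k (n + 1) m) (CoordGrp.formsCoact_isCoactAlg k (n + 1) m)) a)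
    (W : Submodule k (Fin (n + 1) → k)) (hW : W ≠ ⊥) (hW' : W ≠ ⊤) :
    Nat.card {i : Fin m // p i ∈ W} * (n + 1) < m * Module.finrank k W := by
  by_contra hle
  push Not at hle
  obtain ⟨b, hb, hbW⟩ := GrothLib.HM.exists_adapted W
  let D := Module.finrank k W
  have hD0 : 0 < D := Nat.pos_of_ne_zero fun h => hW (Submodule.finrank_eq_zero.1 h)
  have hDn : D < n + 1 := by
    refine lt_of_le_of_ne ?_ fun h => hW' (Submodule.eq_top_of_finrank_eq (by rw [Module.finrank_fin_fun]; exact h))
    simpa using Submodule.finrank_le W
  exact GrothLib.HM.not_isStableVec_of_subspace hm p a ha b hb D hD0 hDn W hbW hle hst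

end Groth.Agent.S18262
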