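import Groth.Statements.S18265
import Groth.Agent.Lib.SubNormal.Basic
import Mathlib.RingTheory.Polynomial.UniqueFactorization
import Mathlib.RingTheory.Polynomial.RationalRoot
-- import your own Groth.Agent.* helpers here

set_option autoImplicit false
universe u
open InvQ

namespace Groth.Agent.S18265

/-- Let k be an algebraically closed field and n, m natural numbers, and let R be the ring of polynomial
functions of m vectors of k^(n+1) invariant under the special linear group SL(n+1, k) acting on all
the vectors at once and under the rescalings of the individual vectors by units with product 1
(equivalently: invariant and homogeneous of one and the same degree in each vector) — the graded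
ring of invariant sections whose Proj is the quotient variety of ordered m-point sets in projective
n-space. Then R is integrally closed in its field of fractions; hence that quotient variety is
normal. (Only the normality assertion of the source's statement is given here; its dimension,
rationality and singular-locus assertions are not.) -/
theorem result (k : Type u) [Field k] [IsAlgClosed k] (n m : ℕ) :
    IsIntegrallyClosed (W4c5pointsetsdelpezzo.invRing k n m) := by
  refine GrothLib.SubNormal.isIntegrallyClosed_of_saturated _ fun p b hb hb0 hpb => ?_
  simp only [W4c5pointsetsdelpezzo.invRing, Algebra.mem_inf, Algebra.mem_iInf, AlgHom.mem_equalizer, AlgHom.id_apply] at hb hpb ⊢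
  refine ⟨fun g => mul_right_cancel₀ hb0 ?_, fun s => mul_right_cancel₀ hb0 ?_⟩
  · conv_lhs => rw [← hb.1 g, ← map_mul]
    exact hpb.1 g
  · conv_lhs => rw [← hb.2 s, ← map_mul]
    exact hpb.2 s

end Groth.Agent.S18265
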