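import Groth.Statements.S18266
import Groth.Agent.Lib.DvrClosure.Basic

set_option autoImplicit false
universe u
open CategoryTheory AlgebraicGeometry
open FDesc

namespace Groth.Agent.S18266

/-- Let A be a discrete valuation ring, η the generic point of Spec A, and f : X → Spec A a morphism
from an arbitrary scheme X. The scheme-theoretic closure of the generic fibre X_η in X (the flat
completion) is flat over Spec A, and it is the largest closed subscheme of X flat over Spec A: for
every closed immersion i : Z → X with Z flat over Spec A, the ideal sheaf of the flat completion is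
contained in the ideal sheaf of i. -/
theorem result (A : Type u) [CommRing A] [IsDomain A]
    [IsDiscreteValuationRing A] {X : Scheme.{u}} (f : X ⟶ Spec (CommRingCat.of A))
    (η : ↥(Spec (CommRingCat.of A))) (hη : η.asIdeal = ⊥) :
    Flat ((f.fiberι η).imageι ≫ f) ∧
      ∀ (Z : Scheme.{u}) (i : Z ⟶ X), IsClosedImmersion i → Flat (i ≫ f) → (f.fiberι η).ker ≤ i.ker := by
  exact ⟨GrothLib.DvrClosure.flat_imageι f η hη, fun Z i hi hZ => by
    haveI := hi
    exact GrothLib.DvrClosure.ker_le_of_flat f η hη i hZ⟩

end Groth.Agent.S18266
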