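import Groth.Statements.S18267
-- import your own Groth.Agent.* helpers here
import Groth.Agent.Lib.CurvePoints.Basic
import Groth.Agent.Lib.ProjQ9.Basic
import Groth.Agent.Lib.Hilb20.Reflexive


set_option autoImplicit false
open CategoryTheory CategoryTheory.Limits AlgebraicGeometry
open ZCorr

namespace Groth.Agent.S18267

/-- Over the complex numbers, suppose C is a quasi-projective curve that is smooth and irreducible and X
is a projective variety that is smooth and irreducible; take Z to be an integral closed subscheme of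
C × X of dimension one whose projection to C is surjective (a non-vertical irreducible component of
a correspondence from C to X). Then the projection Z → C is finite and flat. -/
theorem result
    (C X : Scheme.{0}) [C.Over (Spec (CommRingCat.of ℂ))] [X.Over (Spec (CommRingCat.of ℂ))]
    [AlgebraicGeometry.IsIntegral C] [Smooth (C ↘ Spec (CommRingCat.of ℂ))] (hC : RelProj.IsHQuasiProjective (C ↘ Spec (CommRingCat.of ℂ)))
    (hdimC : topologicalKrullDim C = 1)
    [AlgebraicGeometry.IsIntegral X] [Smooth (X ↘ Spec (CommRingCat.of ℂ))] (hX : RelProj.IsHProjective (X ↘ Spec (CommRingCat.of ℂ)))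
    {Z : Scheme.{0}} (i : Z ⟶ pullback (C ↘ Spec (CommRingCat.of ℂ)) (X ↘ Spec (CommRingCat.of ℂ))) [IsClosedImmersion i]
    [AlgebraicGeometry.IsIntegral Z] (hdimZ : topologicalKrullDim Z = 1)
    (hsurj : Function.Surjective ⇑(i ≫ pullback.fst (C ↘ Spec (CommRingCat.of ℂ)) (X ↘ Spec (CommRingCat.of ℂ)))) :
    IsFinite (i ≫ pullback.fst (C ↘ Spec (CommRingCat.of ℂ)) (X ↘ Spec (CommRingCat.of ℂ))) ∧
      Flat (i ≫ pullback.fst (C ↘ Spec (CommRingCat.of ℂ)) (X ↘ Spec (CommRingCat.of ℂ))) := by
  open GrothLib CategoryTheory.Limits in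
  classical
  haveI := (ProjQ9.isHQuasiProjective_of_isHProjective hX).2
  let p := i ≫ pullback.fst (C ↘ Spec (CommRingCat.of ℂ)) (X ↘ Spec (CommRingCat.of ℂ))
  haveI : IsProper p := inferInstance
  haveI : IsLocallyNoetherian C := LocallyOfFiniteType.isLocallyNoetherian (C ↘ Spec (CommRingCat.of ℂ))
  haveI : IsLocallyNoetherian Z := LocallyOfFiniteType.isLocallyNoetherian p
  haveI : QuasiCompact (C ↘ Spec (CommRingCat.of ℂ)) := by
    obtain ⟨n, j, hj, hjq, hjf⟩ := hC
    haveI := hj
    haveI := hjq
    haveI := Chow.isProper_toBase n (Spec (CommRingCat.of ℂ))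
    exact hjf ▸ inferInstance
  haveI : CompactSpace C := QuasiCompact.compactSpace_of_compactSpace (C ↘ Spec (CommRingCat.of ℂ))
  haveI : CompactSpace Z := QuasiCompact.compactSpace_of_compactSpace p
  haveI : AlgebraicGeometry.IsNoetherian Z := {}
  have hnt : (Set.range p).Nontrivial := by
    rw [Set.range_eq_univ.2 hsurj]
    by_contra h
    rw [Set.not_nontrivial_iff] at h
    have : Subsingleton C := Set.subsingleton_univ_iff.1 h
    have h0 : topologicalKrullDim C = 0 := by
      haveI : Nonempty C := ⟨genericPoint C⟩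
      rw [← CurvePoints.krullDim_points_eq C]
      exact Order.krullDim_eq_zero
    rw [h0] at hdimC
    exact zero_ne_one hdimC
  have e := CurvePoints.map_genericPoint_of_nontrivial hdimC.le p hnt
  haveI : LocallyQuasiFinite p := LocallyQuasiFinite.of_finite_preimage_singleton p fun y => by
    have := CurvePoints.finite_fibre_inter hdimZ.le p (Z := Set.univ)
      (by rw [irreducibleComponents_eq_singleton]; rfl) (fun _ => by rwa [Set.image_univ]) y
    rwa [Set.inter_univ] at this
  refine ⟨IsFinite.of_isProper_of_locallyQuasiFinite p, CurvePoints.flat_of_dominant hdimC.le (fun y => ?_) p e⟩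
  haveI := WeilExt.isRegularLocalRing_stalk_of_smooth (C ↘ Spec (CommRingCat.of ℂ))
    (WeilExt.isRegularLocalRing_stalk_spec ℂ) y
  exact RegLoc.isIntegrallyClosed_of_isRegularLocalRing _

end Groth.Agent.S18267
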