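import Groth.Statements.S18268
-- import your own Groth.Agent.* helpers here
import Groth.Agent.Lib.ProjQ9.Basic
import Groth.Agent.Lib.GrpSchField.Pts
import Groth.Agent.Lib.CycBasic.SubLength
import Groth.Agent.Lib.CycBasic.DimFun

set_option autoImplicit false
open CategoryTheory CategoryTheory.Limits AlgebraicGeometry
open ZCorr

namespace GrothAux.S18268

open AlgebraicGeometry CategoryTheory IsLocalRing

theorem finite_closed_discrete {F : Type*} [TopologicalSpace F] [JacobsonSpace F] {S : Set F} (hS : IsClosed S)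
    (hfin : S.Finite) {a b : F} (ha : a ∈ S) (h : a ⤳ b) : a = b := by
  haveI : Finite S := hfin.to_subtype
  haveI : JacobsonSpace S := JacobsonSpace.of_isClosedEmbedding hS.isClosedEmbedding_subtypeVal
  have h' : (⟨a, ha⟩ : S) ⤳ ⟨b, h.mem_closed hS ha⟩ := (subtype_specializes_iff _ _).2 h
  exact congrArg Subtype.val (specializes_iff_eq.1 h')

theorem eq_of_fibre_finite {P C : Scheme.{0}} (g : P ⟶ C) [LocallyOfFiniteType g] {ξ a b : P}
    (ha : ξ ⤳ a) (hab : a ⤳ b) (hg : g a = g b) (hfin : (closure {ξ} ∩ g ⁻¹' {g b}).Finite) : a = b := by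
  haveI : LocallyOfFiniteType (g.fiberToSpecResidueField (g b)) := inferInstanceAs (LocallyOfFiniteType (Limits.pullback.snd g _))
  haveI : JacobsonSpace ↥(g.fiber (g b)) := LocallyOfFiniteType.jacobsonSpace (g.fiberToSpecResidueField (g b))
  obtain ⟨a', rfl⟩ : a ∈ Set.range (g.fiberι (g b)) := by rw [g.range_fiberι]; exact hg
  obtain ⟨b', hb'⟩ : b ∈ Set.range (g.fiberι (g b)) := by rw [g.range_fiberι]; rfl
  refine (congrArg _ (finite_closed_discrete (S := g.fiberι (g b) ⁻¹' closure {ξ}) (isClosed_closure.preimage (g.fiberι _).continuous) ?_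
    (specializes_iff_mem_closure.1 ha) ((g.fiberι _).isEmbedding.isInducing.specializes_iff.1 (hb'.symm ▸ hab)))).trans hb'
  refine (hfin.preimage (g.fiberι (g b)).isEmbedding.injective.injOn).subset fun z hz => ⟨hz, ?_⟩
  have : g.fiberι (g b) z ∈ Set.range (g.fiberι (g b)) := ⟨z, rfl⟩
  rwa [g.range_fiberι] at this

theorem fibreMult_ne_zero {P C : Scheme.{0}} [IsLocallyNoetherian P] (g : P ⟶ C) [LocallyOfFiniteType g]
    (v w : P) (h : w ⤳ v) (hv : IsClosed ({g v} : Set C)) (hfin : (closure {w} ∩ g ⁻¹' {g v}).Finite) :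
    AlgEqCyc.fibreMult g v w h ≠ 0 := by
  let R := Cyc.LocQuot v w h
  let φ : C.presheaf.stalk (g v) →+* R :=
    (Ideal.Quotient.mk (RingHom.ker (Cyc.specMap v w h))).comp (g.stalkMap v).hom
  let J : Ideal R := (maximalIdeal (C.presheaf.stalk (g v))).map φ
  show (Module.length (P.presheaf.stalk v) (R ⧸ J)).toNat ≠ 0
  have hK : RingHom.ker (Cyc.specMap v w h) ≤ maximalIdeal (P.presheaf.stalk v) :=
    le_maximalIdeal (RingHom.ker_ne_top _)
  have hJtop : J ≠ ⊤ := by
    intro hJ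
    have h2 : J ≤ (maximalIdeal (P.presheaf.stalk v)).map (Ideal.Quotient.mk _) := by
      rw [Ideal.map_le_iff_le_comap]
      intro c hc
      exact Ideal.mem_map_of_mem _ ((mem_maximalIdeal _).2 fun hu => (mem_maximalIdeal c).1 hc (isUnit_of_map_unit (g.stalkMap v).hom c hu))
    rw [hJ, top_le_iff] at h2
    have h3 := congrArg (Ideal.comap (Ideal.Quotient.mk (RingHom.ker (Cyc.specMap v w h)))) h2
    rw [Ideal.comap_map_of_surjective _ Ideal.Quotient.mk_surjective, Ideal.comap_top, ← RingHom.ker_eq_comap_bot,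
      Ideal.mk_ker, sup_eq_left.2 hK] at h3
    exact (maximalIdeal.isMaximal _).ne_top h3
  haveI : Nontrivial (R ⧸ J) := Ideal.Quotient.nontrivial_iff.2 hJtop
  let q : P.presheaf.stalk v →+* R ⧸ J := (Ideal.Quotient.mk J).comp (Ideal.Quotient.mk _)
  have hq : Function.Surjective q := Ideal.Quotient.mk_surjective.comp Ideal.Quotient.mk_surjective
  haveI : IsNoetherianRing (R ⧸ J) := isNoetherianRing_of_surjective _ _ q hq
  haveI : Ring.KrullDimLE 0 (R ⧸ J) := Ring.krullDimLE_zero_iff.2 fun 𝔭 h𝔭 => by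
    haveI := h𝔭
    let Q : PrimeSpectrum (P.presheaf.stalk v) := ⟨𝔭.comap q, inferInstance⟩
    have hQv : P.fromSpecStalk v Q = v := by
      refine eq_of_fibre_finite g (ξ := w) ?_ (GrothLib.CycBasic.specializes_fromSpecStalk Q) ?_ hfin
      · have hle : PrimeSpectrum.comap (P.presheaf.stalkSpecializes h).hom (closedPoint (P.presheaf.stalk w)) ≤ Q := by
          show _ ≤ 𝔭.comap q
          rw [← GrothLib.CycBasic.ker_specMap h]
          intro a ha
          rw [Ideal.mem_comap, show q a = 0 from by simp [q, Ideal.Quotient.eq_zero_iff_mem.2 ha]]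
          exact zero_mem _
        have := GrothLib.CycBasic.le_iff_specializes.1 hle
        rwa [GrothLib.CycBasic.fromSpecStalk_comap_closedPoint h] at this
      · have hclosed : PrimeSpectrum.comap (g.stalkMap v).hom Q = closedPoint (C.presheaf.stalk (g v)) := by
          refine PrimeSpectrum.ext ?_
          refine le_antisymm (le_maximalIdeal (Ideal.IsPrime.ne_top inferInstance)) fun c hc => ?_
          show q ((g.stalkMap v).hom c) ∈ 𝔭
          have : q ((g.stalkMap v).hom c) = 0 := Ideal.Quotient.eq_zero_iff_mem.2 (Ideal.mem_map_of_mem φ hc)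
          rw [this]; exact zero_mem _
        refine (congrArg (fun f : Spec (P.presheaf.stalk v) ⟶ C => f Q) (Scheme.SpecMap_stalkMap_fromSpecStalk (f := g) (x := v))).symm.trans ?_
        exact (congrArg (C.fromSpecStalk (g v)) hclosed).trans Scheme.fromSpecStalk_closedPoint
    have hQ : Q = closedPoint (P.presheaf.stalk v) :=
      (P.fromSpecStalk v).isEmbedding.injective (hQv.trans Scheme.fromSpecStalk_closedPoint.symm)
    have hmax : (𝔭.comap q).IsMaximal := by
      rw [show 𝔭.comap q = maximalIdeal (P.presheaf.stalk v) from congrArg PrimeSpectrum.asIdeal hQ]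
      exact maximalIdeal.isMaximal _
    haveI := hmax
    have := Ideal.map_eq_top_or_isMaximal_of_surjective q hq hmax
    rw [Ideal.map_comap_of_surjective q hq] at this
    exact this.resolve_left h𝔭.ne_top
  haveI : IsArtinianRing (R ⧸ J) := isArtinianRing_iff_isNoetherianRing_krullDimLE_zero.2 ⟨inferInstance, inferInstance⟩
  rw [GrothLib.CycBasic.length_eq_of_surjective q hq (R ⧸ J) fun r m => ?_]
  · intro h0
    have hne : Module.length (R ⧸ J) (R ⧸ J) ≠ ⊤ := Module.length_ne_top_iff.2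
      (isFiniteLength_iff_isNoetherian_isArtinian.2 ⟨inferInstance, inferInstance⟩)
    rcases ENat.toNat_eq_zero.1 h0 with h1 | h1
    · exact not_subsingleton (R ⧸ J) (Module.length_eq_zero_iff.1 h1)
    · exact hne h1
  · obtain ⟨m, rfl⟩ := Ideal.Quotient.mk_surjective m
    obtain ⟨m, rfl⟩ := Ideal.Quotient.mk_surjective m
    rfl

end GrothAux.S18268

namespace Groth.Agent.S18268

/-- Over the complex numbers let W be a smooth irreducible quasi-projective variety of dimension n, X a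
smooth irreducible projective variety and Γ an n-cycle on X × W, viewed as a correspondence from W
to X, with no vertical component (every point of the support of Γ maps to the generic point of W).
If there is a nonempty open U ⊂ W over whose points the closures of the support points of Γ have
finite fibres, and such that for every complex point u of U the fibre cycle Γ_u on X vanishes, then
Γ = 0. Here Γ_u is the sum, over the support points ξ of Γ with coefficient Γ(ξ), of the fundamental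
cycles of the scheme-theoretic fibres over u of the closures of ξ, read on X (the cycle-level fibre
of the family at u; it agrees with the refined intersection of Γ with X × {u} where the components
are flat over u and has the same support wherever they are finite over u). -/
theorem result
    (W X : Scheme.{0}) [W.Over (Spec (CommRingCat.of ℂ))] [X.Over (Spec (CommRingCat.of ℂ))]
    [AlgebraicGeometry.IsIntegral W] [Smooth (W ↘ Spec (CommRingCat.of ℂ))] (hW : RelProj.IsHQuasiProjective (W ↘ Spec (CommRingCat.of ℂ)))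
    (n : ℕ) (hdimW : topologicalKrullDim W = n)
    [AlgebraicGeometry.IsIntegral X] [Smooth (X ↘ Spec (CommRingCat.of ℂ))] (hX : RelProj.IsHProjective (X ↘ Spec (CommRingCat.of ℂ)))
    (δ : ↥(pullback (X ↘ Spec (CommRingCat.of ℂ)) (W ↘ Spec (CommRingCat.of ℂ))) → ℤ)
    (hδ : Cyc.DeltaCompat (pullback.fst (X ↘ Spec (CommRingCat.of ℂ)) (W ↘ Spec (CommRingCat.of ℂ)) ≫ (X ↘ Spec (CommRingCat.of ℂ))) δ (fun _ => 0))
    (Γ : AlgebraicCycle (pullback (X ↘ Spec (CommRingCat.of ℂ)) (W ↘ Spec (CommRingCat.of ℂ))) ℤ)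
    (hΓ : Γ ∈ Cyc.Zk (pullback (X ↘ Spec (CommRingCat.of ℂ)) (W ↘ Spec (CommRingCat.of ℂ))) δ n)
    (hvert : ∀ ξ, Γ ξ ≠ 0 → pullback.snd (X ↘ Spec (CommRingCat.of ℂ)) (W ↘ Spec (CommRingCat.of ℂ)) ξ = genericPoint W)
    (U : W.Opens) (hU : (U : Set W).Nonempty)
    (hfin : ∀ ξ, Γ ξ ≠ 0 → ∀ w ∈ U,
      (closure {ξ} ∩ pullback.snd (X ↘ Spec (CommRingCat.of ℂ)) (W ↘ Spec (CommRingCat.of ℂ)) ⁻¹' {w}).Finite)
    (hzero : ∀ (u : Spec (CommRingCat.of ℂ) ⟶ W) (hu : u ≫ (W ↘ Spec (CommRingCat.of ℂ)) = 𝟙 _),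
      u (IsLocalRing.closedPoint ℂ) ∈ U →
        ∀ x : X, AlgEqCyc.fibreFun (X ↘ Spec (CommRingCat.of ℂ)) (W ↘ Spec (CommRingCat.of ℂ)) Γ u hu x = 0) :
    Γ = 0 := by
  open Limits in
  classical
  haveI : IsProper (X ↘ Spec (CommRingCat.of ℂ)) := (GrothLib.ProjQ9.isHQuasiProjective_of_isHProjective hX).2
  haveI : CompactSpace W := by
    obtain ⟨m, j, -, hqc, hj⟩ := hW
    haveI := hqc
    haveI := GrothLib.Chow.isProper_toBase m (Spec (CommRingCat.of ℂ))
    haveI : QuasiCompact (W ↘ Spec (CommRingCat.of ℂ)) := hj ▸ inferInstance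
    exact QuasiCompact.compactSpace_of_compactSpace (W ↘ Spec (CommRingCat.of ℂ))
  set p := pullback.snd (X ↘ Spec (CommRingCat.of ℂ)) (W ↘ Spec (CommRingCat.of ℂ)) with hp
  haveI : IsLocallyNoetherian W := LocallyOfFiniteType.isLocallyNoetherian (W ↘ Spec (CommRingCat.of ℂ))
  haveI : CompactSpace ↥(pullback (X ↘ Spec (CommRingCat.of ℂ)) (W ↘ Spec (CommRingCat.of ℂ))) :=
    QuasiCompact.compactSpace_of_compactSpace p
  haveI : IsLocallyNoetherian (pullback (X ↘ Spec (CommRingCat.of ℂ)) (W ↘ Spec (CommRingCat.of ℂ))) :=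
    LocallyOfFiniteType.isLocallyNoetherian p
  by_contra hne
  obtain ⟨ξ₀, hξ₀⟩ : ∃ ξ, Γ ξ ≠ 0 := by
    by_contra! h
    exact hne (Function.locallyFinsuppWithin.ext h)
  have hηU : genericPoint W ∈ U := (genericPoint_spec W).mem_open_set_iff U.2 |>.2 (by simpa using hU)
  have huniq : ∀ ξ, Γ ξ ≠ 0 → ξ ≠ ξ₀ → genericPoint W ∉ p '' (closure {ξ₀} ∩ closure {ξ}) := by
    rintro ξ hξ hne' ⟨b, ⟨hb0, hb⟩, hpb⟩
    have h1 : ξ₀ = b := GrothAux.S18268.eq_of_fibre_finite p (specializes_refl ξ₀) (specializes_iff_mem_closure.2 hb0)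
      ((hvert ξ₀ hξ₀).trans hpb.symm) (by rw [hpb]; exact hfin ξ₀ hξ₀ _ hηU)
    have h2 : ξ = b := GrothAux.S18268.eq_of_fibre_finite p (specializes_refl ξ) (specializes_iff_mem_closure.2 hb)
      ((hvert ξ hξ).trans hpb.symm) (by rw [hpb]; exact hfin ξ hξ _ hηU)
    exact hne' (h2.trans h1.symm)
  have hsupp : {ξ | Γ ξ ≠ 0}.Finite := by
    choose N hN hNf using fun x => Γ.supportLocallyFiniteWithinDomain x (Set.mem_univ x)
    obtain ⟨t, -, ht⟩ := (isCompact_univ (X := ↥(pullback (X ↘ Spec (CommRingCat.of ℂ)) (W ↘ Spec (CommRingCat.of ℂ))))).elim_nhds_subcover N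
      fun x _ => hN x
    refine (t.finite_toSet.biUnion fun x _ => hNf x).subset fun ξ hξ => ?_
    obtain ⟨x, hxt, hξx⟩ := Set.mem_iUnion₂.1 (ht (Set.mem_univ ξ))
    exact Set.mem_biUnion hxt ⟨hξx, hξ⟩
  let bad : Set W := ⋃ ξ ∈ {ξ | Γ ξ ≠ 0 ∧ ξ ≠ ξ₀}, p '' (closure {ξ₀} ∩ closure {ξ})
  have hbad : IsClosed bad := (hsupp.subset fun ξ hξ => hξ.1).isClosed_biUnion fun ξ _ =>
    p.isClosedMap _ (isClosed_closure.inter isClosed_closure)
  have hηbad : genericPoint W ∉ bad := fun h => by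
    obtain ⟨ξ, hξ, h'⟩ := Set.mem_iUnion₂.1 h
    exact huniq ξ hξ.1 hξ.2 h'
  haveI : JacobsonSpace W := LocallyOfFiniteType.jacobsonSpace (W ↘ Spec (CommRingCat.of ℂ))
  obtain ⟨w, ⟨hwU, hwb⟩, hwc⟩ := nonempty_inter_closedPoints (Z := (U : Set W) ∩ badᶜ) ⟨_, hηU, hηbad⟩
    (U.2.inter hbad.isOpen_compl).isLocallyClosed
  rw [mem_closedPoints_iff] at hwc
  haveI : LocallyOfFiniteType (Over.mk (W ↘ Spec (CommRingCat.of ℂ))).hom :=
    inferInstanceAs (LocallyOfFiniteType (W ↘ Spec (CommRingCat.of ℂ)))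
  obtain ⟨a, ha⟩ := GrothLib.GrpSchField.exists_point_of_isClosed (k := ℂ) ℂ (X := Over.mk (W ↘ Spec (CommRingCat.of ℂ))) (x := w) hwc
  let u : Spec (CommRingCat.of ℂ) ⟶ W := a.left
  have hu : u ≫ (W ↘ Spec (CommRingCat.of ℂ)) = 𝟙 _ := by
    have := Over.w a
    simpa [u] using this
  have huw : u (IsLocalRing.closedPoint ℂ) = w := ha
  -- a point of the closure of `ξ₀` over `w`
  obtain ⟨v, hv0, hvw⟩ : w ∈ p '' closure {ξ₀} := by
    have hcl : IsClosed (p '' closure {ξ₀}) := p.isClosedMap _ isClosed_closure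
    exact ((genericPoint_spec W).specializes trivial : genericPoint W ⤳ w).mem_closed hcl
      ⟨ξ₀, subset_closure rfl, hvert ξ₀ hξ₀⟩
  let sl := AlgEqCyc.slice (X ↘ Spec (CommRingCat.of ℂ)) (W ↘ Spec (CommRingCat.of ℂ)) u hu
  have hpb : IsPullback sl (X ↘ Spec (CommRingCat.of ℂ)) p u :=
    IsPullback.of_right (by
      rw [show sl ≫ pullback.fst _ _ = 𝟙 X from pullback.lift_fst _ _ _, hu]
      exact IsPullback.of_horiz_isIso ⟨by simp⟩) (pullback.lift_snd _ _ _)
      (IsPullback.of_hasPullback (X ↘ Spec (CommRingCat.of ℂ)) (W ↘ Spec (CommRingCat.of ℂ)))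
  obtain ⟨x, hx, -⟩ := Scheme.exists_preimage_of_isPullback hpb v (IsLocalRing.closedPoint ℂ) (hvw.trans huw.symm)
  have h0 := hzero u hu (huw ▸ hwU) x
  have hξv : ξ₀ ⤳ sl x := hx.symm ▸ specializes_iff_mem_closure.2 hv0
  unfold AlgEqCyc.fibreFun at h0
  rw [finsum_eq_single _ ⟨ξ₀, hξ₀, hξv⟩ fun b hb => absurd ?_ hb] at h0
  · have hw' : p (sl x) = w := by rw [hx, hvw]
    exact mul_ne_zero hξ₀ (Int.natCast_ne_zero.2 (GrothAux.S18268.fibreMult_ne_zero p (sl x) ξ₀ hξv
      (by rw [hw']; exact hwc) (by rw [hw']; exact hfin ξ₀ hξ₀ w hwU))) h0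
  · obtain ⟨b, hb1, hb2⟩ := b
    refine Subtype.ext (by_contra fun hne' => hwb ?_)
    exact Set.mem_biUnion (show b ∈ {ξ | Γ ξ ≠ 0 ∧ ξ ≠ ξ₀} from ⟨hb1, hne'⟩)
      ⟨sl x, ⟨specializes_iff_mem_closure.1 hξv, specializes_iff_mem_closure.1 hb2⟩, by rw [hx, hvw]⟩


end Groth.Agent.S18268
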