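import Groth.Statements.S1827
import Groth.Agent.Lib.GorFlat.Rings

set_option autoImplicit false
universe u
open CategoryTheory
attribute [local instance] HasDerivedCategory.standard
open Goren

namespace Groth.Agent.S1827

/-- Let A be a Noetherian Gorenstein ring and A → B a local complete intersection homomorphism (finite
type, with a presentation whose kernel is Koszul-regular). Then B is a Gorenstein ring. -/
theorem result (A B : Type u) [CommRing A] [CommRing B] [Algebra A B] (hA : LocCoh.IsGorensteinRing A) (h : LCI.IsLCI A B) : LocCoh.IsGorensteinRing B := by
  exact GrothLib.GorFlat.isGorensteinRing_of_isLCI hA h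

end Groth.Agent.S1827
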