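import Groth.Statements.S18275
import Groth.Agent.Lib.MoveZero4.Curve
import Groth.Agent.Lib.SchEffective.AmpleFibres
import Groth.Agent.Lib.Ample.ProjAmple
import Groth.Agent.Lib.Ample.RelAmple
import Groth.Agent.Lib.CotTangent.Scheme
import Groth.Agent.Lib.PBDeg17.Split
import Groth.Agent.Lib.ChowStrata17.Basic
import Groth.Agent.Lib.Chow.Prod
-- import your own Groth.Agent.* helpers here

set_option autoImplicit false
set_option linter.all false
set_option backward.isDefEq.respectTransparency false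
open CategoryTheory CategoryTheory.Limits AlgebraicGeometry
open ZCorr

namespace Groth.Agent.S18275

/-- Over the complex numbers let W be a smooth irreducible projective variety, U ⊂ W a nonempty open
subset and z a 0-cycle on W (dimension function induced from the base). Then z is rationally
equivalent to a 0-cycle supported in U. -/
theorem result
    (W : Scheme.{0}) [W.Over (Spec (CommRingCat.of ℂ))]
    [AlgebraicGeometry.IsIntegral W] [Smooth (W ↘ Spec (CommRingCat.of ℂ))] (hW : RelProj.IsHProjective (W ↘ Spec (CommRingCat.of ℂ)))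
    (δ : W → ℤ) (hδ : Cyc.DeltaCompat (W ↘ Spec (CommRingCat.of ℂ)) δ (fun _ => 0))
    (U : W.Opens) (hU : (U : Set W).Nonempty)
    (z : AlgebraicCycle W ℤ) (hz : z ∈ Cyc.Zk W δ 0) :
    ∃ z' : AlgebraicCycle W ℤ, z' ∈ Cyc.Zk W δ 0 ∧ (∀ w, z' w ≠ 0 → w ∈ U) ∧ Cyc.RatEquiv δ 0 z z' := by
  classical
  haveI : IsLocallyNoetherian W := LocallyOfFiniteType.isLocallyNoetherian (W ↘ Spec (CommRingCat.of ℂ))
  obtain ⟨n, i, hi, hiw⟩ := hW
  haveI := hi
  haveI := GrothLib.Chow.isProper_toBase n (Spec (CommRingCat.of ℂ))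
  haveI : IsProper (W ↘ Spec (CommRingCat.of ℂ)) := hiw ▸ inferInstance
  haveI : CompactSpace W := QuasiCompact.compactSpace_of_compactSpace (W ↘ Spec (CommRingCat.of ℂ))
  haveI : IsNoetherian W := {}
  have hdim : Cyc.IsDimFun W δ :=
    (GrothLib.PBDeg.isSetup_of_lft (GrothLib.ChowStrata17.isSetup_point ℂ) _ hδ).2.2
  have hpos : ∀ x, 0 ≤ δ x := fun x => by
    obtain ⟨m, -, hm⟩ := hδ x
    rw [hm]
    simp
  have hreg : ∀ x : W, IsRegularLocalRing (W.presheaf.stalk x) :=
    GrothLib.CotTangent.isRegularLocalRing_stalk (W ↘ Spec (CommRingCat.of ℂ))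
  let p : CohB1.ProjSpaceOver n (Spec (CommRingCat.of ℂ)) ⟶ CohB1.ProjSpace n (ULift.{0} ℤ) := pullback.fst _ _
  haveI : IsAffineHom p := MorphismProperty.pullback_fst _ _ (isAffineHom_of_isAffine _)
  have hamp := GrothLib.Ample.isAmple_pullback_of_isAffineHom (i ≫ p)
    (GrothLib.Ample.isAmple_twistProjSpace_one n (ULift.{0} ℤ))
  have haff := fun s => GrothLib.SchEffective.exists_affineOpen_finset hamp s
  -- the points to be moved
  have hzfin : (Function.support ⇑z).Finite := by
    simpa using z.locallyFiniteSupport.finite_inter_support_of_isCompact isCompact_univ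
  let B : Finset W := hzfin.toFinset.filter fun x => x ∉ U
  have hB : ∀ w ∈ B, δ w = 0 ∧ w ∉ U := fun w hw => by
    obtain ⟨h1, h2⟩ := Finset.mem_filter.1 hw
    exact ⟨not_not.1 fun h => (hzfin.mem_toFinset.1 h1) (hz w h), h2⟩
  have hmove : ∀ w : W, ∃ a ∈ GrothLib.CycAff.Span δ 0,
      w ∈ B → a w = 1 ∧ ∀ v, v ∉ U → v ≠ w → a v = 0 := fun w => by
    by_cases hw : w ∈ B
    · obtain ⟨a, ha, h1, h2⟩ :=
        GrothLib.MoveZero4.exists_move hdim hpos hreg haff U hU (hB w hw).1 (hB w hw).2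
      exact ⟨a, ha, fun _ => ⟨h1, h2⟩⟩
    · exact ⟨0, zero_mem _, fun h => absurd h hw⟩
  choose a haS ha using hmove
  let T : W → ℤ := ∑ w ∈ B, z w • a w
  have hT : T ∈ GrothLib.CycAff.Span δ 0 :=
    AddSubgroup.sum_mem _ fun w _ => AddSubgroup.zsmul_mem _ (haS w) _
  obtain ⟨ι, _, ξ, g, h1, h2, h3⟩ := GrothLib.CycAff.exists_list hdim hT
  have hTfin : {x | T x ≠ 0}.Finite := by
    refine (Set.finite_iUnion fun j : ι => GrothLib.CycDiv.finite_support_divFun hdim (ξ j) (h2 j)).subset fun x hx => ?_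
    by_contra hc
    simp only [Set.mem_iUnion, Set.mem_setOf_eq, not_exists, not_not] at hc
    exact hx ((h3 x).trans (Finset.sum_eq_zero fun j _ => hc j))
  have hT0 : ∀ x, δ x ≠ 0 → T x = 0 := fun x hx => by
    rw [h3]
    refine Finset.sum_eq_zero fun j _ => ?_
    rw [Cyc.divFun]
    split_ifs with h
    · exact absurd (by have := h1 j; have := h.2; omega) hx
    · rfl
  refine ⟨z - GrothLib.CycDiv.mkCycle T hTfin, fun x hx => ?_, fun v hv => ?_, ι, ξ, g, h1, h2,
    fun x => ⟨Set.univ, isOpen_univ, trivial, Set.toFinite _⟩, fun x => ?_⟩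
  · show z x - T x = 0
    rw [hz x hx, hT0 x hx, sub_zero]
  · by_contra hvU
    refine hv ?_
    show z v - T v = 0
    have hTv : T v = ∑ w ∈ B, z w * a w v := by simp [T, Finset.sum_apply]
    rw [hTv]
    by_cases hvB : v ∈ B
    · rw [Finset.sum_eq_single_of_mem v hvB fun w hw hne => by rw [(ha w hw).2 v hvU (Ne.symm hne), mul_zero],
        (ha v hvB).1, mul_one, sub_self]
    · have hz0 : z v = 0 := by
        by_contra h
        exact hvB (Finset.mem_filter.2 ⟨hzfin.mem_toFinset.2 h, hvU⟩)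
      rw [hz0, Finset.sum_eq_zero fun w hw => by
        rw [(ha w hw).2 v hvU (fun e => hvB (e ▸ hw)), mul_zero], sub_zero]
  · show z x - (z x - T x) = _
    rw [sub_sub_cancel, h3 x, finsum_eq_sum_of_fintype]

end Groth.Agent.S18275
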