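import Groth.Statements.S18281
-- import your own Groth.Agent.* helpers here
import Groth.Agent.Lib.FibreFlat.OpenScheme
import Groth.Agent.Lib.WellInter17.Preimage
import Groth.Agent.Lib.AffDom.FibreDim
import Groth.Agent.Lib.ProjQ9.Basic
import Mathlib.AlgebraicGeometry.ZariskisMainTheorem

set_option autoImplicit false
open CategoryTheory CategoryTheory.Limits AlgebraicGeometry
open ZCorr

namespace GrothAux.S18281

open AlgebraicGeometry

theorem finite_of_isClosed_singleton {F : Type*} [TopologicalSpace F] [TopologicalSpace.NoetherianSpace F] [QuasiSober F]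
    (h : ∀ x : F, IsClosed ({x} : Set F)) : Finite F := by
  haveI : T1Space F := ⟨h⟩
  have hcomp : ∀ x : F, ({x} : Set F) ∈ irreducibleComponents F := fun x => by
    refine ⟨isIrreducible_singleton, fun S hS hxS => ?_⟩
    obtain ⟨g, hg⟩ := QuasiSober.sober (hS.closure) isClosed_closure
    intro y hy
    have hgy : g ⤳ y := hg.specializes (subset_closure hy)
    have hgx : g ⤳ x := hg.specializes (subset_closure (hxS rfl))
    exact (specializes_iff_eq.1 hgy).symm.trans (specializes_iff_eq.1 hgx)
  haveI := TopologicalSpace.NoetherianSpace.finite_irreducibleComponents (α := F).to_subtype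
  exact Finite.of_injective (fun x => (⟨{x}, hcomp x⟩ : irreducibleComponents F))
    fun a b e => Set.singleton_injective (congrArg Subtype.val e)

end GrothAux.S18281

namespace Groth.Agent.S18281

/-- Over the complex numbers let W be a smooth irreducible quasi-projective variety of dimension n, X a
smooth irreducible projective variety, and Z an integral closed subscheme of X × W of dimension n
(an irreducible component of a correspondence from W to X), with projection π : Z → W. (a) The set
of points of W over which π is flat (flat at every point of the fibre) is open and nonempty. (b) The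
set U of points of W with finite fibre is open and nonempty, and π restricted over U is finite. -/
theorem result
    (W X : Scheme.{0}) [W.Over (Spec (CommRingCat.of ℂ))] [X.Over (Spec (CommRingCat.of ℂ))]
    [AlgebraicGeometry.IsIntegral W] [Smooth (W ↘ Spec (CommRingCat.of ℂ))] (hW : RelProj.IsHQuasiProjective (W ↘ Spec (CommRingCat.of ℂ)))
    (n : ℕ) (hdimW : topologicalKrullDim W = n)
    [AlgebraicGeometry.IsIntegral X] [Smooth (X ↘ Spec (CommRingCat.of ℂ))] (hX : RelProj.IsHProjective (X ↘ Spec (CommRingCat.of ℂ)))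
    {Z : Scheme.{0}} (i : Z ⟶ pullback (X ↘ Spec (CommRingCat.of ℂ)) (W ↘ Spec (CommRingCat.of ℂ))) [IsClosedImmersion i]
    [AlgebraicGeometry.IsIntegral Z] (hdimZ : topologicalKrullDim Z = n) :
    (IsOpen {w : W | ∀ z : Z, (i ≫ pullback.snd (X ↘ Spec (CommRingCat.of ℂ)) (W ↘ Spec (CommRingCat.of ℂ))) z = w →
        ((i ≫ pullback.snd (X ↘ Spec (CommRingCat.of ℂ)) (W ↘ Spec (CommRingCat.of ℂ))).stalkMap z).hom.Flat} ∧
      {w : W | ∀ z : Z, (i ≫ pullback.snd (X ↘ Spec (CommRingCat.of ℂ)) (W ↘ Spec (CommRingCat.of ℂ))) z = w →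
        ((i ≫ pullback.snd (X ↘ Spec (CommRingCat.of ℂ)) (W ↘ Spec (CommRingCat.of ℂ))).stalkMap z).hom.Flat}.Nonempty) ∧
    ∃ U : W.Opens, (U : Set W) = {w : W | ((i ≫ pullback.snd (X ↘ Spec (CommRingCat.of ℂ)) (W ↘ Spec (CommRingCat.of ℂ))) ⁻¹' {w}).Finite} ∧
      (U : Set W).Nonempty ∧ IsFinite ((i ≫ pullback.snd (X ↘ Spec (CommRingCat.of ℂ)) (W ↘ Spec (CommRingCat.of ℂ))) ∣_ U) := by
  open GrothLib.AffDom Limits in
  classical
  haveI : IsProper (X ↘ Spec (CommRingCat.of ℂ)) := (GrothLib.ProjQ9.isHQuasiProjective_of_isHProjective hX).2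
  obtain ⟨p, hp⟩ : ∃ p, p = i ≫ pullback.snd (X ↘ Spec (CommRingCat.of ℂ)) (W ↘ Spec (CommRingCat.of ℂ)) := ⟨_, rfl⟩
  rw [← hp]
  haveI : IsProper p := hp ▸ inferInstance
  haveI : IsLocallyNoetherian W := LocallyOfFiniteType.isLocallyNoetherian (W ↘ Spec (CommRingCat.of ℂ))
  haveI : IsLocallyNoetherian Z := LocallyOfFiniteType.isLocallyNoetherian p
  haveI : CompactSpace W := by
    obtain ⟨m, j, -, hqc, hj⟩ := hW
    haveI := hqc
    haveI := GrothLib.Chow.isProper_toBase m (Spec (CommRingCat.of ℂ))
    haveI : QuasiCompact (W ↘ Spec (CommRingCat.of ℂ)) := hj ▸ inferInstance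
    exact QuasiCompact.compactSpace_of_compactSpace (W ↘ Spec (CommRingCat.of ℂ))
  haveI : CompactSpace Z := QuasiCompact.compactSpace_of_compactSpace p
  refine ⟨⟨?_, genericPoint W, fun z hz => ?_⟩, ?_⟩
  · have hN : IsClosed (p '' {z | (p.stalkMap z).hom.Flat}ᶜ) :=
      p.isClosedMap _ (GrothLib.FibreFlat.isOpen_flat_stalkMap p).isClosed_compl
    convert hN.isOpen_compl using 1
    ext w
    refine ⟨fun h ⟨z, hz, hzw⟩ => hz (h z hzw), fun h z hz => by_contra fun hne => h ⟨z, hne, hz⟩⟩
  · letI := (p.stalkMap z).hom.toAlgebra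
    show Module.Flat (W.presheaf.stalk (p z)) (Z.presheaf.stalk z)
    have hfield : IsField (W.presheaf.stalk (p z)) := hz ▸ Field.toIsField W.functionField
    letI := hfield.toField
    exact Module.Flat.of_free
  let Q : Z.Opens := p.quasiFiniteLocus
  let U : W.Opens := ⟨(p '' (Q : Set Z)ᶜ)ᶜ, (p.isClosedMap _ Q.2.isClosed_compl).isOpen_compl⟩
  have hU : (U : Set W) = {w : W | (p ⁻¹' {w}).Finite} := by
    ext w
    constructor
    · intro hw
      haveI : AlgebraicGeometry.IsNoetherian Z := {}
      haveI : CompactSpace (Q : Scheme.{0}) := isCompact_iff_compactSpace.1 (TopologicalSpace.NoetherianSpace.isCompact _)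
      haveI : QuasiSeparatedSpace W := inferInstance
      have hfin := (Q.ι ≫ p).finite_preimage_singleton w
      refine (hfin.image Q.ι).subset fun z hz => ?_
      have hzQ : z ∈ Q := by_contra fun h => hw ⟨z, h, hz⟩
      exact ⟨⟨z, hzQ⟩, hz, rfl⟩
    · intro hfin hw
      obtain ⟨z, hz, rfl⟩ := hw
      refine hz ?_
      haveI : Finite ↥(p ⁻¹' {p z}) := hfin.to_subtype
      haveI : Finite (p.fiber (p z)) := Finite.of_equiv _ (p.fiberHomeo (p z)).toEquiv.symm
      haveI : LocallyOfFiniteType (p.fiberToSpecResidueField (p z)) := inferInstanceAs (LocallyOfFiniteType (pullback.snd p _))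
      haveI : JacobsonSpace (p.fiber (p z)) := LocallyOfFiniteType.jacobsonSpace (p.fiberToSpecResidueField (p z))
      exact (p.quasiFiniteAt_iff_isOpen_singleton_asFiber).2 (isOpen_discrete _)
  refine ⟨U, hU, ?_, ?_⟩
  · by_cases hdom : genericPoint W ∈ Set.range p
    swap
    · exact ⟨genericPoint W, fun ⟨z, _, hz⟩ => hdom ⟨z, hz⟩⟩
    refine ⟨genericPoint W, ?_⟩
    rw [hU]
    show (p ⁻¹' {genericPoint W}).Finite
    have hη : ptDim (genericPoint W) = (n : WithBot ℕ∞) := by
      rw [← hdimW, ptDim, genericPoint_closure, IsHomeomorph.topologicalKrullDim_eq _ (Homeomorph.Set.univ W).isHomeomorph]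
    haveI : LocallyOfFiniteType (p.fiberToSpecResidueField (genericPoint W)) := inferInstanceAs (LocallyOfFiniteType (pullback.snd p _))
    have hclosed : ∀ z : p.fiber (genericPoint W), IsClosed ({z} : Set (p.fiber (genericPoint W))) := fun z => by
      apply isClosed_of_ptDim_eq_zero
      have h1 := ptDim_fiberι p (W ↘ Spec (CommRingCat.of ℂ)) (genericPoint W) z
      have h2 := ptDim_le (p.fiberι (genericPoint W) z)
      rw [h1, hη, hdimZ] at h2
      refine le_antisymm ?_ (ptDim_nonneg z)
      exact (GrothLib.WellInter17.add_natCast_le_iff n).1 (by rw [zero_add, add_comm]; exact h2)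
    haveI : IsLocallyNoetherian (p.fiber (genericPoint W)) :=
      LocallyOfFiniteType.isLocallyNoetherian (p.fiberToSpecResidueField (genericPoint W))
    haveI : AlgebraicGeometry.IsNoetherian (p.fiber (genericPoint W)) := {}
    haveI := GrothAux.S18281.finite_of_isClosed_singleton hclosed
    rw [← p.range_fiberι]
    exact Set.finite_range _
  · haveI : LocallyQuasiFinite (p ∣_ U) := by
      refine LocallyQuasiFinite.of_finite_preimage_singleton (p ∣_ U) fun w => ?_
      have hfin : (p ⁻¹' {U.ι w}).Finite := by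
        have : U.ι w ∈ (U : Set W) := w.2
        rwa [hU] at this
      refine (hfin.preimage (p ⁻¹ᵁ U).ι.isEmbedding.injective.injOn).subset fun z hz => ?_
      show p ((p ⁻¹ᵁ U).ι z) = U.ι w
      rw [← Scheme.Hom.comp_apply, ← morphismRestrict_ι, Scheme.Hom.comp_apply, hz]
    haveI : IsProper (p ∣_ U) := IsZariskiLocalAtTarget.restrict ‹IsProper p› U
    exact IsFinite.of_isProper_of_locallyQuasiFinite (p ∣_ U)


end Groth.Agent.S18281
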