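import Groth.Statements.S18283
import Mathlib

set_option autoImplicit false
universe u v
open CAlgX

namespace Groth.Agent.S18283

/-- Let A be a commutative ring, ι a finite index type, H a finite set of indices (the head indices) and
c : ι → ι → A a table of coefficients; for j ∈ H put f_j = e_j − Σ_{i ∉ H} c_{ji} e_i in the free
module A^ι, so that each f_j has head e_j with coefficient 1 and tail supported outside H. If a
submodule M of A^ι contains every f_j with j ∈ H, then M is the A-span of these f_j if and only if
every wedge product of |H|+1 elements of M vanishes in the (|H|+1)-st exterior power of A^ι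
(equivalently, every (|H|+1)-minor of every matrix whose rows lie in M vanishes). The published
statement is the case where A is a Noetherian algebra over a field of characteristic zero, A^ι is
the degree-(m+1) part of the polynomial ring over A with its basis of terms, H is the set of
degree-(m+1) terms of a strongly stable monomial ideal generated in degree m, and M is the
degree-(m+1) part of an ideal generated by a marked set on that monomial ideal; this row allows any
commutative ring and any submodule containing the marked polynomials. -/
theorem result
    {A : Type u} [CommRing A] {ι : Type v} [Fintype ι] [DecidableEq ι]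
    (H : Finset ι) (c : ι → ι → A) (M : Submodule A (ι → A))
    (hf : ∀ j ∈ H, (Pi.single j (1 : A) - ∑ i ∈ Hᶜ, c j i • Pi.single i (1 : A)) ∈ M) :
    M = Submodule.span A ((fun j => Pi.single j (1 : A) - ∑ i ∈ Hᶜ, c j i • Pi.single i (1 : A)) '' ↑H)
      ↔ ∀ v : Fin (H.card + 1) → ι → A, (∀ k, v k ∈ M) →
          exteriorPower.ιMulti A (H.card + 1) v = 0 := by
  classical
  let f := fun j => Pi.single j (1 : A) - ∑ i ∈ Hᶜ, c j i • Pi.single i (1 : A)
  have hfH : ∀ j, ∀ i ∈ H, f j i = (Pi.single j (1 : A) : ι → A) i := fun j i hi => by
    simp [f, Finset.sum_apply, Pi.single_apply, hi]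
  constructor
  · intro hM v hv
    rw [hM] at hv
    obtain ⟨g, hg⟩ : ∃ g : Fin (H.card + 1) → H → A, ∀ k, v k = ∑ j, g k j • f j := by
      have : ∀ k, ∃ g : H → A, v k = ∑ j, g j • f j := fun k => by
        have h := hv k
        rw [Set.image_eq_range] at h
        obtain ⟨g, hg⟩ := (Submodule.mem_span_range_iff_exists_fun A).1 h
        exact ⟨g, hg.symm⟩
      choose g hg using this
      exact ⟨g, hg⟩
    obtain rfl : v = fun k => ∑ j, g k j • f j := funext hg
    rw [show (exteriorPower.ιMulti A (H.card + 1)) (fun k => ∑ j, g k j • f j) =
      (exteriorPower.ιMulti A (H.card + 1)).toMultilinearMap (fun k => ∑ j, g k j • f j) from rfl,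
      MultilinearMap.map_sum]
    refine Finset.sum_eq_zero fun r _ => ?_
    rw [MultilinearMap.map_smul_univ]
    have hni : ¬ Function.Injective r := fun h => by
      have := Fintype.card_le_of_injective r h
      simp at this
    obtain ⟨a, b, hab, hne⟩ := Function.not_injective_iff.1 hni
    rw [AlternatingMap.coe_multilinearMap,
      AlternatingMap.map_eq_zero_of_eq (exteriorPower.ιMulti A (H.card + 1)) (fun x => f (r x : ι)) (congrArg (fun j : H => f j) hab) hne, smul_zero]
  · intro hw
    apply le_antisymm
    · intro m hm
      let m' := m - ∑ j ∈ H, m j • f j
      have hm' : m' ∈ M := M.sub_mem hm (M.sum_mem fun j hj => M.smul_mem _ (hf j hj))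
      have hH : ∀ i ∈ H, m' i = 0 := fun i hi => by
        simp [m', Finset.sum_apply, hfH _ _ hi, Pi.single_apply, hi]
      have hz : m' = 0 := by
        funext i
        by_cases hi : i ∈ H
        · exact hH i hi
        · have he : Fintype.card (Option H) = H.card + 1 := by simp
          let e := Fintype.equivFinOfCardEq he
          let idx : Option H → ι := fun o => o.elim i Subtype.val
          let row : Option H → ι → A := fun o => o.elim m' fun j => f j
          let D : (ι → A) [⋀^Fin (H.card + 1)]→ₗ[A] A :=
            (Matrix.detRowAlternating).compLinearMap (LinearMap.funLeft A A (idx ∘ e.symm))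
          have h0 := hw (row ∘ e.symm) fun k => by
            show row (e.symm k) ∈ M
            rcases e.symm k with _ | j
            · exact hm'
            · exact hf j j.2
          have h1 : D (row ∘ e.symm) = 0 := by
            rw [← exteriorPower.alternatingMapLinearEquiv_apply_ιMulti D (row ∘ e.symm), h0, map_zero]
          let Q : Matrix (Option H) (Option H) A := Matrix.of fun a b => row a (idx b)
          have h2 : D (row ∘ e.symm) = (Q.submatrix e.symm e.symm).det := rfl
          rw [h2, Matrix.det_submatrix_equiv_self] at h1
          have h3 : Q.det = m' i := by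
            let e' : Option H ≃ H ⊕ PUnit.{1} := Equiv.optionEquivSumPUnit H
            rw [← Matrix.det_submatrix_equiv_self e'.symm Q, ← Matrix.fromBlocks_toBlocks (Q.submatrix _ _)]
            have z : (Q.submatrix e'.symm e'.symm).toBlocks₂₁ = 0 := by
              ext a b
              exact hH b b.2
            have o : (Q.submatrix e'.symm e'.symm).toBlocks₁₁ = 1 := by
              ext a b
              show f a b = _
              rw [hfH _ _ b.2]
              by_cases hab : a = b
              · subst hab; simp
              · simp [Matrix.one_apply, hab, Subtype.coe_injective.ne (Ne.symm hab)]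
            rw [z, o, Matrix.det_fromBlocks_zero₂₁, Matrix.det_one, one_mul, Matrix.det_unique]
            rfl
          rw [h3] at h1
          exact h1
      have : m = ∑ j ∈ H, m j • f j := sub_eq_zero.1 hz
      rw [this]
      exact Submodule.sum_mem _ fun j hj =>
        Submodule.smul_mem _ _ (Submodule.subset_span ⟨j, hj, rfl⟩)
    · rw [Submodule.span_le]
      rintro _ ⟨j, hj, rfl⟩
      exact hf j hj

end Groth.Agent.S18283
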