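import Groth.Statements.S18287
import Groth.Agent.Lib.MagnetGr25.Comap
-- import your own Groth.Agent.* helpers here

set_option autoImplicit false
universe u
open CategoryTheory MonoidalCategory CartesianMonoidalCategory MonObj AlgebraicGeometry Opposite
open Magnet

namespace Groth.Agent.S18287

/-- Let f : M → Z be a homomorphism of commutative monoids, Y a submonoid of Z and N its preimage in M,
and let X be an S-scheme affine over S with an action of the diagonalizable monoid scheme A(M)_S.
Regard X as an A(Z)_S-scheme through A(Z)_S → A(M)_S. Then the canonical map of attractors X^{N ⊂ M}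
→ X^{Y ⊂ Z} (precomposition with A(Y)_S → A(N)_S) is an isomorphism. -/
theorem result (S : Scheme.{u}) (M Z : Type) [AddCommMonoid M] [AddCommMonoid Z]
    (f : M →+ Z) (Y : AddSubmonoid Z) (X : Over S) [IsAffineHom X.hom] (a : Magnet.MonAct (Magnet.AMonS S M) X) :
    IsIso (Magnet.attrComap a f Y) := by
  refine (NatTrans.isIso_iff_isIso_app _).2 fun T => (isIso_iff_bijective _).2 ⟨fun φ ψ e => ?_, fun ψ => ?_⟩
  · refine Groth.Agent.S18285.result S M X a (Y.comap f) (unop T) ?_
    change (Magnet.attrToX a _).app (op (unop T)) φ = (Magnet.attrToX a _).app (op (unop T)) ψ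
    rw [← GrothLib.MagnetGr.attrComap_attrToX f Y φ, ← GrothLib.MagnetGr.attrComap_attrToX f Y ψ]
    exact congrArg _ e
  · obtain ⟨φ, hφ⟩ := GrothLib.MagnetGr.inAttr_restrict_iff f Y
      ((Magnet.attrToX (a.restrict (Magnet.AMonS.map S f)) Y).app (op (unop T)) ψ) ⟨ψ, rfl⟩
    refine ⟨φ, Groth.Agent.S18285.result S Z X (a.restrict (Magnet.AMonS.map S f)) Y (unop T) ?_⟩
    exact (GrothLib.MagnetGr.attrComap_attrToX f Y φ).trans hφ

end Groth.Agent.S18287
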