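import Groth.Statements.S18288
import Groth.Agent.Lib.MagnetSep25.Basic
-- import your own Groth.Agent.* helpers here

set_option autoImplicit false
universe u
open CategoryTheory MonoidalCategory CartesianMonoidalCategory MonObj AlgebraicGeometry Opposite
open Magnet

namespace Groth.Agent.S18288
open CategoryTheory CategoryTheory.Limits MonoidalCategory CartesianMonoidalCategory Magnet Magnet.MonAct
open scoped MonObj


/-- Let M be a commutative monoid with an injective homomorphism f : M → Z into a commutative group Z
(so M is cancellative; the published statement takes Z to be the group completion of M, and the same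
argument applies to any such Z), let Y be a submonoid of Z contained in the image of M, and let X be
an S-scheme separated over S with an action of the diagonalizable monoid scheme A(M)_S. Regard X as
a D(Z)_S-scheme through D(Z)_S → A(M)_S. Then the canonical map of attractors X^{f⁻¹Y ⊂ M} → X^{Y ⊂
Z} is an isomorphism: a D(Z)_S-equivariant family out of A(Y)_S is automatically A(M)_S-equivariant.
(The published statement allows X to be an algebraic space; here X is a scheme.) -/
theorem result (S : Scheme.{u}) (M Z : Type) [AddCommMonoid M]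
    [AddCommGroup Z] (f : M →+ Z) (hf : Function.Injective f) (Y : AddSubmonoid Z)
    (hY : Y ≤ AddMonoidHom.mrange f) (X : Over S) [IsSeparated X.hom]
    (a : Magnet.MonAct (Magnet.AMonS S M) X) :
    IsIso (Magnet.attrComap a f Y) := by
  let fN : (Y.comap f) →+ Y := (f.comp (Y.comap f).subtype).codRestrict Y (fun x => x.2)
  have hbij : Function.Bijective fN := by
    constructor
    · intro x y e
      exact Subtype.ext (hf (congrArg Subtype.val e))
    · rintro ⟨y, hy⟩
      obtain ⟨m, rfl⟩ := hY hy
      exact ⟨⟨m, hy⟩, rfl⟩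
  let ef : (Y.comap f) ≃+ Y := AddEquiv.ofBijective fN hbij
  have e₁ : AMonS.map S fN ≫ AMonS.map S ef.symm.toAddMonoidHom = AMonS.map S (AddMonoidHom.id Y) := by
    rw [← AMonS.map_comp]
    congr 1
    first
    | (ext x; exact congrArg Subtype.val (ef.symm_apply_apply x))
    | (ext x; exact congrArg Subtype.val (ef.apply_symm_apply x))
  have e₂ : AMonS.map S ef.symm.toAddMonoidHom ≫ AMonS.map S fN = AMonS.map S (AddMonoidHom.id (Y.comap f)) := by
    rw [← AMonS.map_comp]
    congr 1
    first
    | (ext x; exact congrArg Subtype.val (ef.symm_apply_apply x))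
    | (ext x; exact congrArg Subtype.val (ef.apply_symm_apply x))
  have hid : ∀ (P : Type) [AddCommMonoid P], AMonS.map S (AddMonoidHom.id P) = 𝟙 (AMonS S P) := by
    intro P _
    have : AMon.map (ULift.{u} ℤ) (AddMonoidHom.id P) = 𝟙 _ := by
      ext : 1
      rw [AMon.map_left]
      change Spec.map _ = 𝟙 _
      rw [← Spec.map_id]
      congr 1
      apply CommRingCat.hom_ext
      apply MonoidAlgebra.ringHom_ext <;> intro m <;> simp
    rw [AMonS.map, this, CategoryTheory.Functor.map_id]
  have hiso : IsIso (AMonS.map S fN) :=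
    ⟨AMonS.map S ef.symm.toAddMonoidHom, e₁.trans (hid _), e₂.trans (hid _)⟩
  refine (NatTrans.isIso_iff_isIso_app _).2 fun T => (isIso_iff_bijective _).2 ⟨fun φ ψ e => ?_, fun ψ => ?_⟩
  · apply Subtype.ext
    exact (cancel_epi (AMonS.map S fN ▷ T.unop)).1 (congrArg Subtype.val e)
  · let φ : AMonS S (Y.comap f) ⊗ T.unop ⟶ X := inv (AMonS.map S fN ▷ T.unop) ≫ ψ.1
    have hφ : (AMonS.map S fN ▷ T.unop) ≫ φ = ψ.1 := IsIso.hom_inv_id_assoc _ _
    refine ⟨⟨φ, ?_⟩, Subtype.ext hφ⟩
    refine GrothLib.MagnetSep.ext_map (S := S) f hf _ _ ?_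
    rw [← cancel_epi (AMonS S Z ◁ (AMonS.map S fN ▷ T.unop))]
    apply hom_ext_lift₂
    intro T' g z
    rw [← lift_comp_fst_snd z]
    have h := (mem_eqvHom_iff ψ.1).1 ψ.2 T' g (z ≫ fst _ _) (z ≫ snd _ _)
    rw [← hφ, lift_whiskerRight_assoc, lift_whiskerRight_assoc, subAct, lift_restrict_act, lift_regular_act,
      lift_restrict_act, MonObj.mul_comp, Category.assoc g, ← AMonS.map_comp] at h
    simp only [lift_whiskerLeft_assoc, lift_whiskerRight, lift_whiskerRight_assoc, lift_prod_act_assoc, lift_trivial_act]
    rw [subAct, lift_restrict_act, lift_regular_act, Category.assoc g, ← AMonS.map_comp]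
    exact h

end Groth.Agent.S18288
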