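import Groth.Statements.S18289
import Groth.Agent.Lib.MagnetGr25.Fixed
-- import your own Groth.Agent.* helpers here

set_option autoImplicit false
universe u
open CategoryTheory MonoidalCategory CartesianMonoidalCategory MonObj AlgebraicGeometry Opposite
open Magnet

namespace Groth.Agent.S18289

/-- Let M be a finitely generated commutative group, Z a subgroup of M and X an S-scheme with an action
of the diagonalizable group scheme D(M)_S. Then the attractor X^Z, for Z regarded as a magnet of M,
is identified with the fixed-point functor of X under the subgroup D(M/Z)_S (acting through D(M/Z)_S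
→ D(M)_S): there is an isomorphism of functors on S-schemes from X^Z to the fixed points whose
composite with the inclusion of the fixed points into X is the canonical map X^Z → X. (The published
statement allows X to be an algebraic space; here X is a scheme.) -/
theorem result (S : Scheme.{u}) (M : Type) [AddCommGroup M] [AddGroup.FG M]
    (Z : AddSubgroup M) (X : Over S) (a : AlgGrp.Action (Red.DS S M) X) :
    ∃ e : Magnet.attr (Magnet.MonAct.ofAction a) Z.toAddSubmonoid ≅
        Magnet.MonAct.fixedPsh ((Magnet.MonAct.ofAction a).restrict (Magnet.AMonS.map S (QuotientAddGroup.mk' Z))),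
      e.hom ≫ Magnet.MonAct.fixedPshι _ = Magnet.attrToX (Magnet.MonAct.ofAction a) Z.toAddSubmonoid := GrothLib.MagnetGr.exists_attr_iso_fixed (Magnet.MonAct.ofAction a) (QuotientAddGroup.mk' Z) Z.toAddSubmonoid
    (by ext m; simp)

end Groth.Agent.S18289
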