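import Groth.Statements.S1829
import Groth.Agent.Lib.DualRing.GorGlobal
import Groth.Agent.Lib.DualRing.Local
import Groth.Agent.Lib.GorFlat.Rings
-- import your own Groth.Agent.* helpers here

set_option autoImplicit false
universe u
open CategoryTheory
attribute [local instance] HasDerivedCategory.standard
open Dual

namespace Groth.Agent.S1829

/-- Let A → B be a faithfully flat local complete intersection homomorphism of Noetherian rings and K an
object of D(A); assume the derived base change functor D(A) → D(B) exists. Then K is a dualizing
complex for A if and only if its base change is a dualizing complex for B. -/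
theorem result (A B : Type u) [CommRing A] [CommRing B] [Algebra A B] [IsNoetherianRing A] [IsNoetherianRing B] [Module.FaithfullyFlat A B] (hl : LCI.IsLCI A B) [DRing.HasLBaseChange (algebraMap A B)] (K : Dual.D A) : Dual.IsDualizing A K ↔ Dual.IsDualizing B ((DRing.LBaseChange (algebraMap A B)).obj K) := by
  haveI := GrothLib.DR.preservesFiniteLimits_extendScalars (algebraMap A B) GrothLib.DR.flat_algebraMap
  obtain ⟨e⟩ := GrothLib.DualCx22.nonempty_lBase_iso_bcD (A := A) B
  haveI : Algebra.FiniteType A B := hl.1
  constructor
  · intro hK
    obtain ⟨D, hD⟩ := GrothLib.DualRing.exists_dim_bound_finiteType (GrothLib.DualRing.ringKrullDim_lt_top hK) B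
    refine GrothLib.DualCx22.isDualizing_of_iso (e.app K).symm
      (GrothLib.DualRing.isDualizing_bcD_gorenstein B hK D hD fun m _ => ?_)
    obtain ⟨Q, ⟨f⟩⟩ := GrothLib.Excellent.exists_fibre_point (A := A) m
    haveI := (GrothLib.GorFlat.isGorensteinRing_fiber_of_flat_isLCI hl
      ⟨m.comap (algebraMap A B), inferInstance⟩).isGorensteinLocalRing_localization Q.asIdeal
    exact (GrothLib.GorFlat.gorenstein_congr (R := Localization.AtPrime Q.asIdeal) (S := EGA4.FibLocRing A B m) f).1 inferInstance
  · intro h
    exact GrothLib.DualCx22.isDualizing_of_bcD B (GrothLib.DualCx22.isDualizing_of_iso (e.app K) h)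

end Groth.Agent.S1829
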