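import Groth.Statements.S18293
-- import your own Groth.Agent.* helpers here

set_option autoImplicit false
universe v₁ u₁
open CategoryTheory MonoidalCategory CartesianMonoidalCategory MonObj Opposite
open Magnet Magnet.MonAct

namespace Groth.Agent.S18293
open CategoryTheory CategoryTheory.Limits MonoidalCategory CartesianMonoidalCategory Magnet Magnet.MonAct
open scoped MonObj


/-- Let A be a monoid object of a cartesian monoidal category acting on X₁, X₂ and X₃, let f₁ : X₁ → X₂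
and f₃ : X₃ → X₂ be equivariant, and let p₁ : P → X₁, p₃ : P → X₃ make P the fibre product X₁ ×_{X₂}
X₃ (in the source A = A(M)_S acts on S-spaces). Then P carries exactly one action of A for which p₁
and p₃ are equivariant (the canonical action g • (x₁, x₃) = (g • x₁, g • x₃)); with it the square is
cartesian among objects with A-action. -/
theorem result {C : Type u₁} [Category.{v₁} C] [CartesianMonoidalCategory C]
    {A X₁ X₂ X₃ P : C} [MonObj A] (a₁ : Magnet.MonAct A X₁) (a₂ : Magnet.MonAct A X₂) (a₃ : Magnet.MonAct A X₃)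
    (f₁ : X₁ ⟶ X₂) (f₃ : X₃ ⟶ X₂) (p₁ : P ⟶ X₁) (p₃ : P ⟶ X₃) (hsq : IsPullback p₁ p₃ f₁ f₃)
    (hf₁ : Magnet.MonAct.IsEquivariant a₁ a₂ f₁) (hf₃ : Magnet.MonAct.IsEquivariant a₃ a₂ f₃) :
    ∃! aP : Magnet.MonAct A P, Magnet.MonAct.IsEquivariant aP a₁ p₁ ∧ Magnet.MonAct.IsEquivariant aP a₃ p₃ := by
  have hw : ((A ◁ p₁) ≫ a₁.act) ≫ f₁ = ((A ◁ p₃) ≫ a₃.act) ≫ f₃ := by
    unfold MonAct.IsEquivariant at hf₁ hf₃
    rw [Category.assoc, hf₁, Category.assoc, hf₃, ← whiskerLeft_comp_assoc, hsq.w, whiskerLeft_comp_assoc]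
  let act := hsq.lift _ _ hw
  have k₁ : ∀ {T : C} (g : T ⟶ A) (x : T ⟶ P), (lift g x ≫ act) ≫ p₁ = lift g (x ≫ p₁) ≫ a₁.act := by
    intro T g x
    rw [Category.assoc, hsq.lift_fst, lift_whiskerLeft_assoc]
  have k₃ : ∀ {T : C} (g : T ⟶ A) (x : T ⟶ P), (lift g x ≫ act) ≫ p₃ = lift g (x ≫ p₃) ≫ a₃.act := by
    intro T g x
    rw [Category.assoc, hsq.lift_snd, lift_whiskerLeft_assoc]
  refine ⟨MonAct.mk' act (fun T x => ?_) (fun T g h x => ?_), ⟨hsq.lift_fst _ _ _, hsq.lift_snd _ _ _⟩, ?_⟩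
  · apply hsq.hom_ext
    · rw [k₁, lift_one_act]
    · rw [k₃, lift_one_act]
  · apply hsq.hom_ext
    · rw [k₁, k₁, k₁, lift_mul_act]
    · rw [k₃, k₃, k₃, lift_mul_act]
  · rintro b ⟨hb₁, hb₃⟩
    have e : b.act = act := hsq.hom_ext (hb₁.trans (hsq.lift_fst _ _ _).symm) (hb₃.trans (hsq.lift_snd _ _ _).symm)
    cases b
    simp only [MonAct.mk', MonAct.mk.injEq]
    exact e

end Groth.Agent.S18293
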