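import Groth.Statements.S18300
import Groth.Prelude.Def_ActBC
-- import your own Groth.Agent.* helpers here

set_option autoImplicit false
universe u
open CategoryTheory MonoidalCategory CartesianMonoidalCategory MonObj AlgebraicGeometry Opposite
open Magnet

namespace Groth.Agent.S18300

/-- Let X be an S-scheme with an action of the diagonalizable monoid scheme A(M)_S of a commutative
monoid M, N a submonoid of M, and T an S-scheme; X_T = X ×_S T carries the base-changed action of
A(M)_T. Then X^N ×_S T = (X_T)^N objectwise: for every scheme T'' over T, the value of the attractor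
X^N at T'' (regarded over S) is in bijection with the value at T'' of the attractor of X_T, namely
the maps A(N)_T ×_T T'' → X_T equivariant for the base-changed actions; the bijection is pinned by
requiring that, under the identifications of both sides with equivariant morphisms between base
changes to T'', it is conjugation by the canonical isomorphisms (Y ×_S T) ×_T T'' ≅ Y ×_S T'' for Y
= A(N)_S and Y = X. (Naturality in T'' is not part of this statement; X may be an algebraic space in
the source, here it is a scheme.) -/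
theorem result (S : Scheme.{u}) (M : Type) [AddCommMonoid M] (N : AddSubmonoid M)
    (X : Over S) (a : Magnet.MonAct (Magnet.AMonS S M) X) (T : Over S) (T'' : Over T.left) :
    ∃ Φ : (Magnet.attr a N).obj (op ((Over.map T.hom).obj T'')) ≃
        (Magnet.MonAct.eqvHom ((Magnet.subAct S M N).bc T.hom) (a.bc T.hom)).obj (op T''),
      ∀ φ, (Magnet.eqvHomEquivBc T'' ((Magnet.subAct S M N).bc T.hom) (a.bc T.hom) (Φ φ)).1 ≫
          (ActBC.bcCompIso T''.hom T.hom X rfl).hom =
        (ActBC.bcCompIso T''.hom T.hom (Magnet.AMonS S N) rfl).hom ≫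
          (Magnet.eqvHomEquivBc ((Over.map T.hom).obj T'') (Magnet.subAct S M N) a φ).1 := by
  let ρ := Magnet.subAct S M N
  let B := Magnet.AMonS S N
  let g := T.hom
  let T' : Over S := (Over.map g).obj T''
  let adj := Over.mapPullbackAdj g
  let κ : (Over.map g).obj (Red.bc g B ⊗ T'') ≅ B ⊗ T' :=
    Over.isoMk (Limits.pullbackLeftPullbackSndIso B.hom g T''.hom) (by
      change (Limits.pullbackLeftPullbackSndIso B.hom g T''.hom).hom ≫ Limits.pullback.fst B.hom (T''.hom ≫ g) ≫ B.hom =
        (Limits.pullback.fst (Limits.pullback.snd B.hom g) T''.hom ≫ Limits.pullback.snd B.hom g) ≫ g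
      rw [Limits.pullbackLeftPullbackSndIso_hom_fst_assoc, Limits.pullback.condition, Category.assoc])
  have hsymm : ∀ (P : Over T.left) (Y : Over S) (z : P ⟶ Red.bc g Y),
      ((adj.homEquiv P Y).symm z).left = z.left ≫ Limits.pullback.fst Y.hom g := fun P Y z => by
    simp [adj, Adjunction.homEquiv_counit]
  have hadj : ∀ (P : Over T.left) (Y : Over S) (b : (Over.map g).obj P ⟶ Y),
      (adj.homEquiv P Y b).left ≫ Limits.pullback.fst Y.hom g = b.left := fun P Y b =>
    (hsymm P Y _).symm.trans (congrArg CommaMorphism.left ((adj.homEquiv P Y).symm_apply_apply b))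
  have hκ : ∀ (P : Over T.left) (b : (Over.map g).obj P ⟶ B) (t : P ⟶ T''),
      (Over.map g).map (lift (adj.homEquiv P B b) t) ≫ κ.hom = lift b ((Over.map g).map t) := by
    intro P b t
    apply Over.OverMorphism.ext
    apply Limits.pullback.hom_ext
    · refine ((Category.assoc _ _ _).trans ?_).trans (congrArg CommaMorphism.left (lift_fst b ((Over.map g).map t))).symm
      change (lift (adj.homEquiv P B b) t).left ≫ (Limits.pullbackLeftPullbackSndIso B.hom g T''.hom).hom ≫ _ = _
      erw [Limits.pullbackLeftPullbackSndIso_hom_fst]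
      refine ((Category.assoc _ _ _).symm.trans (congrArg (· ≫ Limits.pullback.fst B.hom g)
        (congrArg CommaMorphism.left (lift_fst (adj.homEquiv P B b) t)))).trans ?_
      exact hadj P B b
    · refine ((Category.assoc _ _ _).trans ?_).trans (congrArg CommaMorphism.left (lift_snd b ((Over.map g).map t))).symm
      change (lift (adj.homEquiv P B b) t).left ≫ (Limits.pullbackLeftPullbackSndIso B.hom g T''.hom).hom ≫ _ = _
      erw [Limits.pullbackLeftPullbackSndIso_hom_snd]
      exact congrArg CommaMorphism.left (lift_snd (adj.homEquiv P B b) t)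
  have hpt : ∀ (φ : B ⊗ T' ⟶ X) (P : Over T.left) (b : (Over.map g).obj P ⟶ B) (t : P ⟶ T''),
      lift (adj.homEquiv P B b) t ≫ adj.homEquiv _ X (κ.hom ≫ φ) =
        adj.homEquiv P X (lift b ((Over.map g).map t) ≫ φ) := by
    intro φ P b t
    rw [← Adjunction.homEquiv_naturality_left, ← Category.assoc, hκ]
  have hiff : ∀ φ : B ⊗ T' ⟶ X,
      Magnet.MonAct.IsEquivariant (ρ.prod (Magnet.MonAct.trivial (Magnet.AMonS S M) T')) a φ ↔
        Magnet.MonAct.IsEquivariant ((ρ.bc g).prod (Magnet.MonAct.trivial _ T'')) (a.bc g) (adj.homEquiv _ X (κ.hom ≫ φ)) := by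
    intro φ
    rw [Magnet.MonAct.mem_eqvHom_iff, Magnet.MonAct.mem_eqvHom_iff]
    constructor
    · intro h P g' b' t
      obtain ⟨γ, rfl⟩ := (adj.homEquiv P (Magnet.AMonS S M)).surjective g'
      obtain ⟨b, rfl⟩ := (adj.homEquiv P B).surjective b'
      rw [Magnet.MonAct.lift_homEquiv_bc_act, hpt, hpt, Magnet.MonAct.lift_homEquiv_bc_act, h]
    · intro h Q γ b t
      let P : Over T.left := Over.mk (t.left ≫ T''.hom)
      let e : (Over.map g).obj P ≅ Q := Over.isoMk (Iso.refl _) (by
        change 𝟙 _ ≫ Q.hom = (t.left ≫ T''.hom) ≫ g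
        rw [Category.id_comp, Category.assoc]
        exact (Over.w t).symm)
      let t' : P ⟶ T'' := Over.homMk t.left rfl
      have ht : (Over.map g).map t' = e.hom ≫ t := Over.OverMorphism.ext (Category.id_comp _).symm
      have h1 := h P (adj.homEquiv _ _ (e.hom ≫ γ)) (adj.homEquiv _ _ (e.hom ≫ b)) t'
      rw [Magnet.MonAct.lift_homEquiv_bc_act, hpt, hpt, Magnet.MonAct.lift_homEquiv_bc_act, ht] at h1
      have h2 := (adj.homEquiv P X).injective h1
      rw [← comp_lift, Category.assoc, ← comp_lift, Category.assoc, ← comp_lift, Category.assoc, ← comp_lift,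
        Category.assoc] at h2
      exact (cancel_epi e.hom).1 h2
  refine ⟨⟨fun φ => ⟨adj.homEquiv _ X (κ.hom ≫ φ.1), (hiff φ.1).1 φ.2⟩,
    fun ψ => ⟨κ.inv ≫ (adj.homEquiv _ X).symm ψ.1, (hiff _).2 (by
      rw [Iso.hom_inv_id_assoc, Equiv.apply_symm_apply]; exact ψ.2)⟩,
    fun φ => Subtype.ext ((congrArg (κ.inv ≫ ·) ((adj.homEquiv _ X).symm_apply_apply _)).trans (Iso.inv_hom_id_assoc κ _)),
    fun ψ => Subtype.ext ((congrArg (adj.homEquiv _ X) (Iso.hom_inv_id_assoc κ _)).trans ((adj.homEquiv _ X).apply_symm_apply _))⟩, fun φ => ?_⟩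
  apply Over.OverMorphism.ext
  apply Limits.pullback.hom_ext
  · change ((Magnet.toBc T'' (adj.homEquiv _ X (κ.hom ≫ φ.1))).left ≫ (ActBC.bcCompIso T''.hom g X rfl).hom.left) ≫ _ =
      ((ActBC.bcCompIso T''.hom g B rfl).hom.left ≫ (Magnet.toBc T' φ.1).left) ≫ Limits.pullback.fst X.hom T'.hom
    rw [Category.assoc, Category.assoc, Magnet.toBc_left_fst]
    erw [ActBC.bcCompIso_hom_left_fst]
    rw [← Category.assoc, Magnet.toBc_left_fst]
    exact hadj _ X _
  · exact (Over.w _).trans (Over.w _).symm


end Groth.Agent.S18300
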