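import Groth.Statements.S18309
import Groth.Agent.Lib.AlgSp.HenselPoint
-- import your own Groth.Agent.* helpers here

set_option autoImplicit false
universe u
open CategoryTheory CategoryTheory.Limits AlgebraicGeometry
open AlgSp

namespace Groth.Agent.S18309

/-- Let S be a scheme, f : Z → X a morphism of algebraic spaces over S which is smooth (étale locally on
source and target), R a Henselian local ring with residue field k = R/m and structure morphism Spec
R → S, z : h_{Spec R} → X an R-point of X, and z₀' : h_{Spec k} → Z a k-point of Z whose composite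
with f is the restriction of z to Spec k. Then there is an R-point z' : h_{Spec R} → Z with z'
followed by f equal to z and whose restriction to Spec k is z₀'. The source states this for X an
algebraic stack (lifting up to isomorphism); the algebraic-space case is stated here. -/
theorem result {S : Scheme.{u}} {Z X : AlgSp.Space S}
    (f : Z ⟶ X) (hf : AlgSp.LocP @Smooth f.hom)
    (R : Type u) [CommRing R] [HenselianLocalRing R] (str : Spec (CommRingCat.of R) ⟶ S)
    (z : (AlgSp.yon S).obj (Over.mk str) ⟶ X.obj)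
    (z₀ : (AlgSp.yon S).obj (Over.mk (Spec.map (CommRingCat.ofHom (IsLocalRing.residue R)) ≫ str)) ⟶ Z.obj)
    (w : z₀ ≫ f.hom = (AlgSp.yon S).map (Over.homMk (Spec.map (CommRingCat.ofHom (IsLocalRing.residue R))) rfl :
        Over.mk (Spec.map (CommRingCat.ofHom (IsLocalRing.residue R)) ≫ str) ⟶ Over.mk str) ≫ z) :
    ∃ z' : (AlgSp.yon S).obj (Over.mk str) ⟶ Z.obj, z' ≫ f.hom = z ∧
      (AlgSp.yon S).map (Over.homMk (Spec.map (CommRingCat.ofHom (IsLocalRing.residue R))) rfl :
        Over.mk (Spec.map (CommRingCat.ofHom (IsLocalRing.residue R)) ≫ str) ⟶ Over.mk str) ≫ z' = z₀ := by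
  let ρ : Over.mk (Spec.map (CommRingCat.ofHom (IsLocalRing.residue R)) ≫ str) ⟶ Over.mk str :=
    Over.homMk (Spec.map (CommRingCat.ofHom (IsLocalRing.residue R))) rfl
  have hP := GrothLib.AlgSp.isAlgSpace_pullback' X.property Z.property (AlgSp.IsAlgSpace.yon_obj (Over.mk str)) f.hom z
  obtain ⟨M, b, -, hb, hM⟩ := GrothLib.AlgSp.exists_sep_chart_lifting_field_points hP
  obtain ⟨l, hl⟩ := GrothLib.AlgSp.exists_residue_lift hM R str (pullback.lift z₀ ((AlgSp.yon S).map ρ) w)
  obtain ⟨α, hα⟩ := (AlgSp.yon S).map_surjective (b ≫ pullback.snd f.hom z)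
  have hα' : AlgSp.LocP @Smooth (b ≫ pullback.snd f.hom z) :=
    GrothLib.AlgSp.EtLocal.smooth.locP_comp (AlgSp.IsAlgSpace.yon_obj _) hP (AlgSp.IsAlgSpace.yon_obj _)
      (GrothLib.AlgSp.EtLocal.smooth.locP_of_repWith hP (GrothLib.AlgSp.repWith_mono hb fun _ _ g (_ : Etale g) => inferInstance))
      (GrothLib.AlgSp.EtLocal.smooth.locP_of_isPullback Z.property X.property (AlgSp.IsAlgSpace.yon_obj _)
        (IsPullback.of_hasPullback f.hom z) hf)
  have hαs : Smooth α.left := AlgSp.locP_yon_map (P := @Smooth) (hα ▸ hα')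
  have hlα : l ≫ α = ρ := (AlgSp.yon S).map_injective (by
    rw [Functor.map_comp, hα, ← Category.assoc, hl, pullback.lift_snd])
  obtain ⟨x, hx, hx'⟩ := GrothLib.Hensel.exists_section_extending α.left l.left
    (congrArg (fun e => Over.Hom.left e) hlα)
  let ξ : Over.mk str ⟶ M := Over.homMk x (by
    have e : x ≫ α.left ≫ (Over.mk str).hom = 𝟙 _ ≫ (Over.mk str).hom := by rw [← Category.assoc, hx]; rfl
    rw [Over.w α] at e
    exact e.trans (Category.id_comp _))
  have hξα : ξ ≫ α = 𝟙 _ := Over.OverMorphism.ext hx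
  have hρξ : ρ ≫ ξ = l := Over.OverMorphism.ext hx'
  refine ⟨(AlgSp.yon S).map ξ ≫ b ≫ pullback.fst f.hom z, ?_, ?_⟩
  · rw [Category.assoc, Category.assoc, pullback.condition, ← Category.assoc b, ← hα, ← Category.assoc,
      ← Functor.map_comp, hξα, CategoryTheory.Functor.map_id, Category.id_comp]
  · change (AlgSp.yon S).map ρ ≫ _ = z₀
    rw [← Category.assoc, ← Functor.map_comp, hρξ, ← Category.assoc, hl, pullback.lift_fst]

end Groth.Agent.S18309
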