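import Groth.Statements.S1831
-- import your own Groth.Agent.* helpers here
import Groth.Agent.Lib.Herbrand


set_option autoImplicit false
universe u v
open CycAlg

namespace Groth.Agent.S1831

/-- If φ is an endomorphism of M with φ^n = 0 (n > 0) and ker φ / im φ^(n-1) has finite length, then for
each 0 ≤ i ≤ n the (2,1)-periodic complex (M, φ^i, φ^(n-i)) has finite-length cohomology modules and
its Herbrand quotient vanishes. -/
theorem result {R : Type u} [CommRing R] {M : Type v} [AddCommGroup M] [Module R M] (φ : M →ₗ[R] M) (n : ℕ) (hn : 0 < n) (hφ : φ ^ n = 0) (hfin : Module.length R (CycAlg.perH φ (φ ^ (n - 1))) < ⊤) (i : ℕ) (hi : i ≤ n) : CycAlg.FinCoh R (φ ^ i) (φ ^ (n - i)) ∧ CycAlg.herbrand R (φ ^ i) (φ ^ (n - i)) = 0 := by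
  open GrothLib.Herbrand LinearMap in
  have hc : ∀ a b : ℕ, φ ^ a * φ ^ b = φ ^ b * φ ^ a := fun a b => by rw [← pow_add, ← pow_add, add_comm]
  have hfinH : ∀ j, j ≤ n → Module.length R (CycAlg.perH (φ ^ j) (φ ^ (n - j))) < ⊤ := by
    intro j
    induction j with
    | zero =>
      intro _
      have : Subsingleton (CycAlg.perH (φ ^ 0) (φ ^ (n - 0))) := subsingleton_of_forall_eq 0 fun q => by
        obtain ⟨x, hx, rfl⟩ := GrothLib.Herbrand.perH_cases q
        rw [pow_zero, Module.End.one_apply] at hx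
        rw [GrothLib.Herbrand.cls_eq_zero_iff]
        show x ∈ LinearMap.range _
        rw [hx]; exact Submodule.zero_mem _
      rw [Module.length_eq_zero]
      exact ENat.coe_lt_top 0
    | succ j ih =>
      intro hj
      -- ker φ^j ∕ im → ker φ^(j+1) ∕ im → ker φ ∕ im
      let a := GrothLib.Herbrand.hmap (φ ^ j) (φ ^ (n - j)) (φ ^ (j + 1)) (φ ^ (n - (j + 1))) LinearMap.id
        (fun x hx => by
          show (φ ^ (j + 1)) x = 0
          rw [pow_succ', Module.End.mul_apply, hx, map_zero])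
        (fun y _ => ⟨φ y, by
          show (φ ^ (n - (j + 1))) (φ y) = (φ ^ (n - j)) y
          rw [← Module.End.mul_apply, ← pow_succ, show n - (j + 1) + 1 = n - j by omega]⟩)
      let b := GrothLib.Herbrand.hmap (φ ^ (j + 1)) (φ ^ (n - (j + 1))) φ (φ ^ (n - 1)) (φ ^ j)
        (fun x hx => by rw [← Module.End.mul_apply, ← pow_succ']; exact hx)
        (fun y _ => ⟨y, by rw [← Module.End.mul_apply, ← pow_add, show j + (n - (j + 1)) = n - 1 by omega]⟩)
      have hex : Function.Exact a b := by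
        intro q
        obtain ⟨x, hx, rfl⟩ := GrothLib.Herbrand.perH_cases q
        rw [GrothLib.Herbrand.hmap_cls, GrothLib.Herbrand.cls_eq_zero_iff]
        have ecomb : ∀ y, (φ ^ j) ((φ ^ (n - (j + 1))) y) = (φ ^ (n - 1)) y := fun y => by
          rw [← Module.End.mul_apply, ← pow_add, show j + (n - (j + 1)) = n - 1 by omega]
        constructor
        · rintro ⟨y, (hy : (φ ^ (n - 1)) y = (φ ^ j) x)⟩
          refine ⟨GrothLib.Herbrand.cls (φ ^ j) (φ ^ (n - j)) ⟨x - (φ ^ (n - (j + 1))) y, by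
            rw [LinearMap.mem_ker, map_sub, ecomb, hy, sub_self]⟩, ?_⟩
          rw [GrothLib.Herbrand.hmap_cls, ← sub_eq_zero, ← map_sub, GrothLib.Herbrand.cls_eq_zero_iff]
          exact ⟨-y, by simp⟩
        · rintro ⟨p, hp⟩
          obtain ⟨w, hw, rfl⟩ := GrothLib.Herbrand.perH_cases p
          rw [GrothLib.Herbrand.hmap_cls, ← sub_eq_zero, ← map_sub, GrothLib.Herbrand.cls_eq_zero_iff] at hp
          obtain ⟨y, hy⟩ := hp
          refine ⟨-y, ?_⟩
          show (φ ^ (n - 1)) (-y) = (φ ^ j) x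
          rw [← ecomb, map_neg, map_neg, hy]
          simp [map_sub, hw]
      exact GrothLib.Herbrand.lt_top_middle a b hex (ih (by omega)) hfin
  have hfc : ∀ j, j ≤ n → CycAlg.FinCoh R (φ ^ j) (φ ^ (n - j)) := fun j hj => ⟨hfinH j hj, by
    have := hfinH (n - j) (Nat.sub_le n j)
    rwa [show n - (n - j) = j by omega] at this⟩
  have he0 : CycAlg.herbrand R (φ ^ 0) (φ ^ (n - 0)) = 0 := by
    have h1 : Subsingleton (CycAlg.perH (φ ^ 0) (φ ^ (n - 0))) := subsingleton_of_forall_eq 0 fun q => by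
      obtain ⟨x, hx, rfl⟩ := GrothLib.Herbrand.perH_cases q
      rw [pow_zero, Module.End.one_apply] at hx
      rw [GrothLib.Herbrand.cls_eq_zero_iff]
      show x ∈ LinearMap.range _
      rw [hx]; exact Submodule.zero_mem _
    have h2 : Subsingleton (CycAlg.perH (φ ^ (n - 0)) (φ ^ 0)) := subsingleton_of_forall_eq 0 fun q => by
      obtain ⟨x, hx, rfl⟩ := GrothLib.Herbrand.perH_cases q
      rw [GrothLib.Herbrand.cls_eq_zero_iff]
      exact ⟨x, by simp⟩
    simp [CycAlg.herbrand, Module.length_eq_zero]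
  have hlin : ∀ j : ℕ, j ≤ n → CycAlg.herbrand R (φ ^ j) (φ ^ (n - j)) = (j : ℤ) * CycAlg.herbrand R φ (φ ^ (n - 1)) := by
    intro j
    induction j with
    | zero => intro _; rw [he0]; simp
    | succ j ih =>
      intro hj
      have e1 : φ ^ j * φ ^ (n - (j + 1)) = φ ^ (n - 1) := by rw [← pow_add]; congr 1; omega
      have e2 : φ * φ ^ (n - (j + 1)) = φ ^ (n - j) := by rw [← pow_succ']; congr 1; omega
      have h1 : CycAlg.FinCoh R φ (φ ^ j * φ ^ (n - (j + 1))) := by
        rw [e1]; simpa using hfc 1 hn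
      obtain ⟨-, h⟩ := GrothLib.Herbrand.herbrand_mul φ (φ ^ j) (φ ^ (n - (j + 1)))
        (Commute.self_pow φ j).eq (Commute.self_pow φ _).eq (hc _ _)
        (by rw [mul_assoc, e1, ← pow_succ', show n - 1 + 1 = n by omega, hφ]) h1 (by rw [e2]; exact hfc j (by omega))
      rw [← pow_succ', e1, e2, ih (by omega)] at h
      rw [h]
      push_cast
      ring
  have hn0 : CycAlg.herbrand R φ (φ ^ (n - 1)) = 0 := by
    have h := hlin n le_rfl
    have swap : ∀ a b : M →ₗ[R] M, CycAlg.herbrand R a b = -CycAlg.herbrand R b a := fun a b => by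
      simp only [CycAlg.herbrand]; ring
    rw [Nat.sub_zero] at he0
    rw [Nat.sub_self, swap, he0, neg_zero] at h
    exact (mul_eq_zero.mp h.symm).resolve_left (by exact_mod_cast hn.ne')
  exact ⟨hfc i hi, by rw [hlin i hi, hn0, mul_zero]⟩


end Groth.Agent.S1831
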