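import Groth.Statements.S18312
import Groth.Agent.Lib.AlgSp.HenselLift

set_option autoImplicit false
universe u
open CategoryTheory CategoryTheory.Limits AlgebraicGeometry
open AlgSp

namespace Groth.Agent.S18312

/-- Let S be a scheme, X an algebraic space over S, and R a Henselian local ring with residue field k =
R/m and a structure morphism Spec R → S, and suppose that the set of k-points h_{Spec k} → X over S
is finite. Then there are an affine scheme Z over S and a representable étale morphism p : h_Z → X
such that, for every ideal a of R, every point h_{Spec (R/a)} → X over S is h_g followed by p for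
some S-morphism g : Spec (R/a) → Z. The source states this for algebraic stacks whose diagonal has a
separated S-fibre over the image of the closed point, with Z smooth over the stack in general, Z
étale over it when the stack is an algebraic space (a clause of the same statement; no
quasi-separatedness assumed), finitely many isomorphism classes over k, and essential surjectivity;
only the algebraic-space case is stated here. -/
theorem result {S : Scheme.{u}} (X : AlgSp.Space S)
    (R : Type u) [CommRing R] [HenselianLocalRing R] (str : Spec (CommRingCat.of R) ⟶ S)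
    (hfin : Finite ((AlgSp.yon S).obj (Over.mk (Spec.map (CommRingCat.ofHom (IsLocalRing.residue R)) ≫ str)) ⟶ X.obj)) :
    ∃ (Z : Over S) (p : (AlgSp.yon S).obj Z ⟶ X.obj), IsAffine Z.left ∧ AlgSp.RepWith @Etale p ∧
      ∀ (a : Ideal R) (x : (AlgSp.yon S).obj (Over.mk (Spec.map (CommRingCat.ofHom (Ideal.Quotient.mk a)) ≫ str)) ⟶ X.obj),
        ∃ g : Over.mk (Spec.map (CommRingCat.ofHom (Ideal.Quotient.mk a)) ≫ str) ⟶ Z, (AlgSp.yon S).map g ≫ p = x := by
  obtain ⟨M, b, -, hb, hlift⟩ := GrothLib.AlgSp.exists_sep_chart_lifting_field_points X.property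
  obtain ⟨n, ⟨e⟩⟩ := Finite.exists_equiv_fin
    ((AlgSp.yon S).obj (Over.mk (Spec.map (CommRingCat.ofHom (IsLocalRing.residue R)) ≫ str)) ⟶ X.obj)
  have hl : ∀ x₀ : (AlgSp.yon S).obj (Over.mk (Spec.map (CommRingCat.ofHom (IsLocalRing.residue R)) ≫ str)) ⟶ X.obj,
      ∃ l, (AlgSp.yon S).map l ≫ b = x₀ := fun x₀ => by
    let q : FieldPt X.obj := ⟨IsLocalRing.ResidueField R,
      Spec.map (CommRingCat.ofHom (IsLocalRing.residue R)) ≫ str, (J S).uliftYonedaEquiv.{u + 1} x₀⟩
    obtain ⟨l, hl⟩ := hlift q
    exact ⟨l, hl.trans (Equiv.symm_apply_apply _ _)⟩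
  choose l hl using hl
  have hA : ∀ i : ULift.{u} (Fin n), ∃ A : M.left.Opens, IsAffineOpen A ∧
      (l (e.symm i.down)).left (IsLocalRing.closedPoint (IsLocalRing.ResidueField R)) ∈ A := fun i => by
    obtain ⟨A, h1, h2, -⟩ := exists_isAffineOpen_mem_and_subset (U := (⊤ : M.left.Opens))
      (x := (l (e.symm i.down)).left (IsLocalRing.closedPoint (IsLocalRing.ResidueField R))) trivial
    exact ⟨A, h1, h2⟩
  choose A hA hmem using hA
  let V : ULift.{u} (Fin n) → Over S := fun i => Over.mk ((A i).ι ≫ M.hom)
  let j : ∀ i, V i ⟶ M := fun i => Over.homMk (A i).ι rfl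
  haveI : ∀ i, IsAffine (V i).left := fun i => hA i
  obtain ⟨P, hP, -⟩ := GrothLib.AlgSp.exists_hom_of_sigma V (fun i => (AlgSp.yon S).map (j i) ≫ b)
  have hPet : RepWith @Etale P := GrothLib.AlgSp.repWith_sigma X.property.diag V _ P hP @Etale fun i =>
    GrothLib.AlgSp.repWith_comp ((AlgSp.repWith_yon_map_iff _ _).2
      (inferInstanceAs (Etale (A i).ι))) hb
  refine ⟨GrothLib.AlgSp.sigmaOver V, P, inferInstanceAs (IsAffine (∐ fun i => (V i).left)), hPet,
    fun a x => GrothLib.AlgSp.exists_lift_quotient_point X.property hPet R str (fun x₀ => ?_) a x⟩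
  let i : ULift.{u} (Fin n) := ⟨e x₀⟩
  have hi : e.symm i.down = x₀ := e.symm_apply_apply x₀
  have hr : Set.range (l (e.symm i.down)).left ⊆ Set.range (j i).left := by
    rintro _ ⟨t, rfl⟩
    refine ⟨⟨_, hmem i⟩, ?_⟩
    haveI : Subsingleton ↥(Over.mk (Spec.map (CommRingCat.ofHom (IsLocalRing.residue R)) ≫ str)).left :=
      inferInstanceAs (Subsingleton (PrimeSpectrum (IsLocalRing.ResidueField R)))
    rw [Subsingleton.elim t (IsLocalRing.closedPoint (IsLocalRing.ResidueField R))]
    rfl
  haveI : IsOpenImmersion (j i).left := inferInstanceAs (IsOpenImmersion (A i).ι)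
  let g := IsOpenImmersion.lift (j i).left (l (e.symm i.down)).left hr
  let g' : Over.mk (Spec.map (CommRingCat.ofHom (IsLocalRing.residue R)) ≫ str) ⟶ V i :=
    Over.homMk g (by
      rw [← Over.w (j i), ← Category.assoc, IsOpenImmersion.lift_fac]
      exact Over.w _)
  have hg : g' ≫ j i = l (e.symm i.down) := Over.OverMorphism.ext (IsOpenImmersion.lift_fac _ _ _)
  refine ⟨g' ≫ GrothLib.AlgSp.sigmaι V i, ?_⟩
  rw [Functor.map_comp, Category.assoc, hP, ← Category.assoc, ← Functor.map_comp, hg, hl, hi]

end Groth.Agent.S18312
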