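import Groth.Statements.S18319
import Groth.Agent.Lib.Torsor21.Infinitesimal
import Mathlib.AlgebraicGeometry.Sites.Fpqc
import Mathlib.FieldTheory.Perfect

set_option autoImplicit false
universe u
open CategoryTheory AlgebraicGeometry
open NonAbH1

namespace Groth.Agent.S18319

/-- Let K be a perfect field and G a finite connected K-group scheme (G → Spec K finite, G connected).
Then every G-torsor X over Spec K for the fppf topology (simply transitive action, a section over
the members of some fppf covering of Spec K) is trivial: X has a K-point. -/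
theorem result (K : Type u) [Field K]
    [PerfectField K] (G X : Over (Spec (CommRingCat.of K))) [GrpObj G] [IsFinite G.hom] [ConnectedSpace G.left]
    (a : AlgGrp.Action G X) (h : NonAbH1.IsTorsorFor Scheme.fppfPrecoverage a) :
    NonAbH1.HasSectionOver X (𝟙 (Spec (CommRingCat.of K))) := by
  obtain ⟨hps, R, hR, hsec⟩ := h
  obtain ⟨U, f, hf, hU⟩ : ∃ (U : Scheme.{u}) (f : U ⟶ Spec (CommRingCat.of K)), R f ∧ Nonempty U := by
    obtain ⟨_, g, hg, y, -⟩ := hR.1 (default : (Spec (CommRingCat.of K)))
    cases hg with
    | of hf => exact ⟨_, _, hf, ⟨y⟩⟩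
  obtain ⟨s, hs⟩ := hsec f hf
  have hfp : LocallyOfFinitePresentation f := (hR.2 hf).2
  obtain ⟨L, _, _, _, t, ht, -⟩ := GrothLib.Torsor21.exists_finite_point f
  exact GrothLib.Torsor21.hasSection_of_separable G X a hps L (t ≫ s) (by rw [Category.assoc, hs, ht])

end Groth.Agent.S18319
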