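import Groth.Statements.S1832
-- import your own Groth.Agent.* helpers here
import Groth.Agent.Lib.Herbrand
import Groth.Agent.Lib.FiniteLengthSupp
import Mathlib.RingTheory.Support


set_option autoImplicit false
universe u v
open Pointwise
open CycAlg

namespace Groth.Agent.S1832

/-- Over a Noetherian local ring, let (M, φ, ψ) be a (2,1)-periodic complex with M finite and cohomology
of finite length, and let x be a ring element with M/xM supported in dimension ≤ 0. Then (M, xφ, ψ)
and (M, φ, xψ) again have finite-length cohomology, and their Herbrand quotients differ from that of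
(M, φ, ψ) by the Herbrand quotient of (im φ, 0, x), respectively (im ψ, 0, x). -/
theorem result {R : Type u} [CommRing R] [IsNoetherianRing R] [IsLocalRing R] {M : Type v} [AddCommGroup M] [Module R M] [Module.Finite R M] (φ ψ : M →ₗ[R] M) (hper : CycAlg.IsPeriodic φ ψ) (hfin : CycAlg.FinCoh R φ ψ) (x : R) (hx : Module.supportDim R (M ⧸ x • (⊤ : Submodule R M)) ≤ 0) : (CycAlg.FinCoh R (x • φ) ψ ∧ CycAlg.herbrand R (x • φ) ψ = CycAlg.herbrand R φ ψ - CycAlg.herbrand R (0 : ↥(LinearMap.range φ) →ₗ[R] ↥(LinearMap.range φ)) (x • LinearMap.id)) ∧ (CycAlg.FinCoh R φ (x • ψ) ∧ CycAlg.herbrand R φ (x • ψ) = CycAlg.herbrand R φ ψ + CycAlg.herbrand R (0 : ↥(LinearMap.range ψ) →ₗ[R] ↥(LinearMap.range ψ)) (x • LinearMap.id)) := by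
  open GrothLib.Herbrand LinearMap in
  have fin : ∀ (P : Submodule R M) (q : Submodule R ↥P), (∀ z : ↥P ⧸ q, x • z = 0) →
      Module.length R (↥P ⧸ q) < ⊤ := by
    intro P q hkill
    refine GrothLib.FiniteLengthSupp.length_lt_top_of_support_subset (N := M ⧸ x • (⊤ : Submodule R M)) ?_ hx
    rw [Module.support_quotSMulTop, Set.subset_inter_iff]
    refine ⟨(Module.support_subset_of_surjective q.mkQ q.mkQ_surjective).trans
      (Module.support_subset_of_injective P.subtype P.injective_subtype), ?_⟩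
    rw [Module.support_eq_zeroLocus]
    refine PrimeSpectrum.zeroLocus_anti_mono ?_
    rw [Set.singleton_subset_iff, SetLike.mem_coe, Module.mem_annihilator]
    exact hkill
  have main : ∀ φ ψ : M →ₗ[R] M, CycAlg.IsPeriodic φ ψ → CycAlg.FinCoh R φ ψ →
      CycAlg.FinCoh R (x • φ) ψ ∧ CycAlg.herbrand R (x • φ) ψ = CycAlg.herbrand R φ ψ -
        CycAlg.herbrand R (0 : ↥(LinearMap.range φ) →ₗ[R] ↥(LinearMap.range φ)) (x • LinearMap.id) := by
    intro φ ψ hper hfin
    set Z : ↥(LinearMap.range φ) →ₗ[R] ↥(LinearMap.range φ) := 0 with hZ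
    set X : ↥(LinearMap.range φ) →ₗ[R] ↥(LinearMap.range φ) := x • LinearMap.id with hX
    have hψφ : ∀ z, ψ (φ z) = 0 := LinearMap.congr_fun hper.2
    have f1 : Module.length R (CycAlg.perH Z X) < ⊤ := by
      let e : CycAlg.perH Z X ≃ₗ[R] (↥(LinearMap.range φ) ⧸ LinearMap.range X) :=
        Submodule.Quotient.equiv _ _ (LinearEquiv.ofTop _ (LinearMap.ker_zero)) (by
          ext z
          simp only [Submodule.mem_map]
          constructor
          · rintro ⟨w, hw, rfl⟩; exact hw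
          · intro hz; exact ⟨⟨z, rfl⟩, hz, rfl⟩)
      rw [e.length_eq]
      refine fin _ _ fun z => ?_
      obtain ⟨z, rfl⟩ := Submodule.mkQ_surjective _ z
      rw [← map_smul, Submodule.mkQ_apply, Submodule.Quotient.mk_eq_zero]
      exact ⟨z, rfl⟩
    have f2 : Module.length R (CycAlg.perH X Z) < ⊤ := by
      refine lt_of_le_of_lt (Module.length_le_of_surjective _ (Submodule.mkQ_surjective _)) ?_
      let P : Submodule R M := (LinearMap.ker X).map (LinearMap.range φ).subtype
      rw [(Submodule.equivMapOfInjective (LinearMap.range φ).subtype Subtype.val_injective (LinearMap.ker X)).length_eq,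
        ← (Submodule.quotEquivOfEqBot (⊥ : Submodule R ↥P) rfl).length_eq]
      refine fin P ⊥ fun z => ?_
      obtain ⟨⟨_, w, hw, rfl⟩, rfl⟩ := Submodule.mkQ_surjective _ z
      rw [← map_smul, Submodule.mkQ_apply, Submodule.Quotient.mk_eq_zero]
      refine (Submodule.mem_bot R).mpr (Subtype.ext ?_)
      show x • (w : M) = 0
      exact congrArg Subtype.val (LinearMap.mem_ker.mp hw)
    have hxφ : ∀ z, (x • φ) z = x • φ z := fun z => rfl
    let a := GrothLib.Herbrand.hmap φ ψ (x • φ) ψ LinearMap.id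
      (fun z hz => by show x • φ z = 0; rw [hz, smul_zero]) (fun y _ => ⟨y, rfl⟩)
    let b := GrothLib.Herbrand.hmap (x • φ) ψ X Z φ.rangeRestrict
      (fun z hz => Subtype.ext hz)
      (fun y _ => ⟨0, Subtype.ext (by rw [LinearMap.zero_apply]; exact (LinearMap.congr_fun hper.1 y).symm)⟩)
    have ha : Function.Injective a := by
      rw [injective_iff_map_eq_zero]
      intro q hq
      obtain ⟨z, hz, rfl⟩ := GrothLib.Herbrand.perH_cases q
      rw [GrothLib.Herbrand.hmap_cls, GrothLib.Herbrand.cls_eq_zero_iff] at hq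
      rw [GrothLib.Herbrand.cls_eq_zero_iff]
      exact hq
    have hb : Function.Surjective b := by
      intro q
      obtain ⟨⟨_, w, rfl⟩, hz, rfl⟩ := GrothLib.Herbrand.perH_cases q
      exact ⟨GrothLib.Herbrand.cls (x • φ) ψ ⟨w, congrArg Subtype.val hz⟩, rfl⟩
    have hab : Function.Exact a b := by
      intro q
      obtain ⟨z, hz, rfl⟩ := GrothLib.Herbrand.perH_cases q
      rw [GrothLib.Herbrand.hmap_cls, GrothLib.Herbrand.cls_eq_zero_iff]
      constructor
      · rintro ⟨w, hw⟩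
        have h0 : φ z = 0 := by
          have := congrArg Subtype.val hw
          simpa [hZ] using this.symm
        exact ⟨GrothLib.Herbrand.cls φ ψ ⟨z, h0⟩, rfl⟩
      · rintro ⟨p, hp⟩
        obtain ⟨w, hw, rfl⟩ := GrothLib.Herbrand.perH_cases p
        rw [GrothLib.Herbrand.hmap_cls, ← sub_eq_zero, ← map_sub, GrothLib.Herbrand.cls_eq_zero_iff] at hp
        obtain ⟨y, (hy : ψ y = w - z)⟩ := hp
        refine ⟨0, Subtype.ext ?_⟩
        show (0 : M) = φ z
        rw [show z = w - ψ y by rw [hy]; abel, map_sub, hw, show φ (ψ y) = 0 from LinearMap.congr_fun hper.1 y, sub_zero]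
    let c := GrothLib.Herbrand.hmap Z X ψ (x • φ) (LinearMap.range φ).subtype
      (fun z _ => by obtain ⟨_, w, rfl⟩ := z; exact hψφ w)
      (fun y _ => by obtain ⟨_, w, rfl⟩ := y; exact ⟨w, rfl⟩)
    let d := GrothLib.Herbrand.hmap ψ (x • φ) ψ φ LinearMap.id (fun z hz => hz)
      (fun y _ => ⟨x • y, map_smul φ x y⟩)
    have hc : Function.Injective c := by
      rw [injective_iff_map_eq_zero]
      intro q hq
      obtain ⟨z, hz, rfl⟩ := GrothLib.Herbrand.perH_cases q
      rw [GrothLib.Herbrand.hmap_cls, GrothLib.Herbrand.cls_eq_zero_iff] at hq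
      rw [GrothLib.Herbrand.cls_eq_zero_iff]
      obtain ⟨w, hw⟩ := hq
      exact ⟨⟨φ w, w, rfl⟩, Subtype.ext hw⟩
    have hd : Function.Surjective d := by
      intro q
      obtain ⟨z, hz, rfl⟩ := GrothLib.Herbrand.perH_cases q
      exact ⟨GrothLib.Herbrand.cls ψ (x • φ) ⟨z, hz⟩, rfl⟩
    have hcd : Function.Exact c d := by
      intro q
      obtain ⟨z, hz, rfl⟩ := GrothLib.Herbrand.perH_cases q
      rw [GrothLib.Herbrand.hmap_cls, GrothLib.Herbrand.cls_eq_zero_iff]
      constructor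
      · rintro ⟨w, hw⟩
        exact ⟨GrothLib.Herbrand.cls Z X ⟨⟨z, w, hw⟩, rfl⟩, rfl⟩
      · rintro ⟨p, hp⟩
        obtain ⟨⟨_, w, rfl⟩, hw, rfl⟩ := GrothLib.Herbrand.perH_cases p
        rw [GrothLib.Herbrand.hmap_cls, ← sub_eq_zero, ← map_sub, GrothLib.Herbrand.cls_eq_zero_iff] at hp
        obtain ⟨y, (hy : x • φ y = φ w - z)⟩ := hp
        exact ⟨w - x • y, by show φ (w - x • y) = z; rw [map_sub, map_smul, hy, sub_sub_cancel]⟩
    have l0 := Module.length_eq_add_of_exact a b ha hb hab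
    have l1 := Module.length_eq_add_of_exact c d hc hd hcd
    have g0 : Module.length R (CycAlg.perH (x • φ) ψ) < ⊤ := by rw [l0]; exact ENat.add_lt_top.mpr ⟨hfin.1, f2⟩
    have g1 : Module.length R (CycAlg.perH ψ (x • φ)) < ⊤ := by rw [l1]; exact ENat.add_lt_top.mpr ⟨f1, hfin.2⟩
    refine ⟨⟨g0, g1⟩, ?_⟩
    simp only [CycAlg.herbrand]
    rw [l0, l1, ENat.toNat_add hfin.1.ne f2.ne, ENat.toNat_add f1.ne hfin.2.ne]
    push_cast
    ring
  obtain ⟨hA, eA⟩ := main φ ψ hper hfin
  obtain ⟨hB, eB⟩ := main ψ φ ⟨hper.2, hper.1⟩ ⟨hfin.2, hfin.1⟩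
  refine ⟨⟨hA, eA⟩, ⟨hB.2, hB.1⟩, ?_⟩
  have s1 : CycAlg.herbrand R φ (x • ψ) = -CycAlg.herbrand R (x • ψ) φ := by simp only [CycAlg.herbrand]; ring
  have s2 : CycAlg.herbrand R φ ψ = -CycAlg.herbrand R ψ φ := by simp only [CycAlg.herbrand]; ring
  rw [s1, s2, eB]
  ring


end Groth.Agent.S1832
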