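import Groth.Statements.S18320
import Groth.Agent.Lib.FrobImg2.Quot
import Groth.Agent.Lib.GrpDeligne.Factor


set_option autoImplicit false
set_option linter.all false
set_option backward.isDefEq.respectTransparency false
universe u
open CategoryTheory AlgebraicGeometry
open AlgGrp

namespace Groth.Agent.S18320
open CategoryTheory.Limits MonoidalCategory CartesianMonoidalCategory MonObj GrpObj in

/-- Let K be a field and G a K-group scheme whose structure morphism is locally of finite type. Then G
is an extension of a smooth K-group scheme by a finite connected one: there are a K-group scheme H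
with H → Spec K finite and H connected, a K-group scheme Q with Q → Spec K smooth, and homomorphisms
i : H → G and v : G → Q with i a closed immersion, such that 1 → H → G → Q → 1 is exact for the fppf
topology (i followed by v is trivial, G with H acting through i is a pseudo-torsor over Q, and v
acquires sections over the members of some fppf covering of Q). -/
theorem result (K : Type u) [Field K]
    (G : Over (Spec (CommRingCat.of K))) [GrpObj G] [LocallyOfFiniteType G.hom] :
    ∃ (H Q : Over (Spec (CommRingCat.of K))) (_ : GrpObj H) (_ : GrpObj Q) (i : H ⟶ G) (v : G ⟶ Q),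
      IsFinite H.hom ∧ ConnectedSpace H.left ∧ Smooth Q.hom ∧ IsClosedImmersion i.left ∧
        NonAbH1.IsExactSeq Scheme.fppfPrecoverage i v := by
  obtain ⟨H, _, i, Q, _, q, hi, hic, hHf, hHc, hq, hqf, hqs, hker, hQs, hqc, -⟩ :=
    GrothLib.FrobImg2.exists_smooth_quot G
  haveI := hi; haveI := hq; haveI := hqf; haveI := hqs; haveI := hQs
  refine ⟨H, Q, inferInstance, inferInstance, i, q, hHf, hHc, hQs, hic, hi, hq,
    GrothLib.GrpDeligne.ker_comp_eq_one hker, ?_, ?_⟩
  · have he : (G ◁ i) ≫ μ[G] = fst G H * (snd G H ≫ i) := by
      rw [Hom.mul_def]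
      congr 1
    rw [he]
    have w : fst G H ≫ q = (fst G H * (snd G H ≫ i)) ≫ q := by
      rw [MonObj.mul_comp, Category.assoc (snd G H), GrothLib.GrpDeligne.ker_comp_eq_one hker, MonObj.comp_one,
        _root_.mul_one]
    have hz : ∀ z : PullbackCone q q, (z.fst⁻¹ * z.snd) ≫ q = 1 := fun z => by
      rw [MonObj.mul_comp, GrpObj.inv_comp, ← z.condition, inv_mul_cancel]
    haveI : Mono i := GrothLib.GrpDeligne.mono_of_isKernel hker
    refine ⟨⟨w⟩, ⟨PullbackCone.IsLimit.mk w
      (fun z => lift z.fst (GrothLib.GrpSchField.exists_lift_of_comp_eq_one hker _ (hz z)).choose)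
      (fun z => lift_fst _ _) (fun z => ?_) (fun z m h1 h2 => ?_)⟩⟩
    · rw [MonObj.comp_mul, lift_snd_assoc, lift_fst,
        (GrothLib.GrpSchField.exists_lift_of_comp_eq_one hker _ (hz z)).choose_spec, mul_inv_cancel_left]
    · refine CartesianMonoidalCategory.hom_ext _ _ (by rw [lift_fst]; exact h1) ?_
      rw [lift_snd, ← cancel_mono i,
        (GrothLib.GrpSchField.exists_lift_of_comp_eq_one hker _ (hz z)).choose_spec, ← h2, ← h1, MonObj.comp_mul,
        inv_mul_cancel_left, Category.assoc]
  · haveI : LocallyOfFinitePresentation q.left := by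
      haveI : IsLocallyNoetherian Q.left := LocallyOfFiniteType.isLocallyNoetherian Q.hom
      haveI : LocallyOfFiniteType q.left := by
        haveI : LocallyOfFiniteType (q.left ≫ Q.hom) := by rw [Over.w q]; infer_instance
        exact locallyOfFiniteType_of_comp q.left Q.hom
      infer_instance
    refine ⟨Presieve.ofArrows (fun _ : PUnit.{u + 1} => G.left) (fun _ => q.left), ?_, ?_⟩
    · exact (Scheme.ofArrows_mem_precoverage_iff _).2
        ⟨fun x => ⟨PUnit.unit, q.left.surjective x⟩, fun _ => ⟨‹Flat q.left›, ‹_›⟩⟩
    · rintro S' f ⟨⟩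
      exact ⟨𝟙 _, Category.id_comp _⟩


end Groth.Agent.S18320
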