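import Groth.Statements.S18331
import Groth.Agent.Lib.LatticeForms2.Basic

set_option autoImplicit false
set_option linter.all false
open CAlg

namespace Groth.Agent.S18331

/-- Let r ≥ 1, let δ ≥ 1 and g be integers with δ dividing 2(g - 1), and let d be a vector of ℤ^r whose
coordinates have non-negative gcd D. Let H be the subgroup of Hom(ℤ^r, ℤ/δℤ) generated by the
additive maps x ↦ b(d, x) + (1 - g) b(x, x) modulo δ, for b a symmetric bilinear form on ℤ^r. Then H
is isomorphic to ℤ/(δ/gcd(δ, D + 1 - g)) × (ℤ/(δ/gcd(δ, g - 1, D)))^(r-1) (existence of an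
isomorphism of abelian groups). (The published corollary states this as the structure of the
cokernel of the class map to the Neron-Severi lattice for the rigidified stack of T-bundles of
degree d on a family of curves of genus g with invariant δ > 0; this row is the lattice computation
that its printed proof carries out.) -/
theorem result
    (r : ℕ) (hr : 0 < r) (δ : ℕ) (hδ0 : 0 < δ) (g : ℤ) (hδ : (δ : ℤ) ∣ 2 * (g - 1))
    (d : Fin r → ℤ) :
    Nonempty (AddSubgroup.closure
      {φ : (Fin r → ℤ) →+ ZMod δ | ∃ b : LinearMap.BilinForm ℤ (Fin r → ℤ), b.IsSymm ∧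
      ∀ x, φ x = ((b d x + (1 - g) * b x x : ℤ) : ZMod δ)} ≃+
      (ZMod (δ / Int.gcd δ (Finset.univ.gcd d + 1 - g)) ×
        (Fin (r - 1) → ZMod (δ / Int.gcd δ (Int.gcd (g - 1) (Finset.univ.gcd d)))))) := by
  obtain ⟨n, rfl⟩ : ∃ n, r = n + 1 := ⟨r - 1, by omega⟩
  exact GrothLib.LatticeForms2.forms_equiv n δ hδ0 g hδ d

end Groth.Agent.S18331
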