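import Groth.Statements.S18334
import Groth.Agent.Lib.AlgSt.ReducedModuli


set_option autoImplicit false
set_option backward.isDefEq.respectTransparency false
set_option backward.isDefEq.respectTransparency.types false
universe u
open AlgSt

namespace Groth.Agent.S18334

open AlgSt

open CategoryTheory AlgebraicGeometry in
/-- Let S be a locally Noetherian scheme and 𝒳 an algebraic stack of finite type over S with finite
diagonal over S, and let π : 𝒳 → M be its coarse moduli space (here: a categorical moduli space in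
algebraic spaces, which for finite inertia is the Keel–Mori one). If 𝒳 is reduced then the algebraic
space M is reduced. -/
theorem result (S : Scheme.{u}) [IsLocallyNoetherian S]
    (𝒳 : AlgSt.Cat S) (h𝒳 : AlgSt.IsAlgStack Scheme.fppfPrecoverage 𝒳)
    (hft : AlgSt.LocQ (AlgSp.LocP @LocallyOfFiniteType) (FibCat.toSelf 𝒳)) (hqc : AlgSt.IsQuasiCompact 𝒳)
    (hΔ : AlgSt.RepByAlgSpWith AlgSp.IsFiniteMor (FibCat.diag (FibCat.toSelf 𝒳)))
    (hI : AlgSt.RepByAlgSpWith AlgSp.IsFiniteMor (FibCat.inertiaToBase (FibCat.toSelf 𝒳)))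
    (hred : AlgSt.SmoothLocally (fun X => AlgebraicGeometry.IsReduced X) 𝒳)
    (M : AlgSp.Sp S) (π : 𝒳 ⥤ᵇ AlgSt.ofSp M) (hπ : AlgSt.IsCatModuli π) :
    AlgSp.EtaleLocally (fun U => AlgebraicGeometry.IsReduced U) M := by
  exact GrothLib.AlgSt.CatLocal.isReduced_moduli h𝒳 hred π hπ

end Groth.Agent.S18334
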