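import Groth.Statements.S1834
-- import your own Groth.Agent.* helpers here
import Groth.Agent.Lib.Tame.Laws


set_option autoImplicit false
universe u
open CycAlg

namespace Groth.Agent.S1834

/-- Let R be a Noetherian local ring of dimension 1 and a, b nonzerodivisors. There is a finite
extension ring R ⊆ R' with R'/R killed by a power of the maximal ideal, and nonzerodivisors t, a',
b' of R' with a = t a', b = t b' and (a', b') the unit ideal of R'. -/
theorem result (R : Type u) [CommRing R] [IsNoetherianRing R] [IsLocalRing R] (hR : ringKrullDim R = 1) (a b : R) (ha : a ∈ nonZeroDivisors R) (hb : b ∈ nonZeroDivisors R) : ∃ (R' : Type u) (_ : CommRing R') (_ : Algebra R R'), CycAlg.IsFinExt R R' (IsLocalRing.maximalIdeal R) ∧ ∃ t a' b' : R', t ∈ nonZeroDivisors R' ∧ a' ∈ nonZeroDivisors R' ∧ b' ∈ nonZeroDivisors R' ∧ algebraMap R R' a = t * a' ∧ algebraMap R R' b = t * b' ∧ Ideal.span {a', b'} = ⊤ := by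
  classical
  haveI : Ring.KrullDimLE 1 R := Ring.krullDimLE_iff.2 (by rw [hR]; rfl)
  obtain ⟨B, _, _, _, hB, hπ⟩ := GrothLib.Tame.exists_common ({a, b} : Finset R) (by simp [ha, hb])
  haveI := GrothLib.Tame.finite_maximalSpectrum R B
  let A' := algebraMap R B a
  let B' := algebraMap R B b
  have hI : ∀ q : MaximalSpectrum B, ∃ x ∈ Ideal.span {A', B'}, ∀ y ∈ Ideal.span {A', B'},
      ∃ s, s ∉ q.asIdeal ∧ s * y ∈ Ideal.span {x} := by
    intro q
    obtain ⟨π, -, hfac⟩ := hπ q
    obtain ⟨e, sa, ca, hsa, hca, hea⟩ := hfac a (by simp)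
    obtain ⟨f, sb, cb, hsb, hcb, heb⟩ := hfac b (by simp)
    rcases le_total e f with hef | hef
    · refine ⟨A', Ideal.subset_span (by simp), fun y hy => ⟨ca * sb, fun h => (q.asIdeal.primeCompl.mul_mem hca hsb) h, ?_⟩⟩
      obtain ⟨u, v, rfl⟩ := Ideal.mem_span_pair.1 hy
      obtain ⟨d, rfl⟩ := Nat.exists_eq_add_of_le hef
      refine Ideal.mem_span_singleton.2 ⟨ca * sb * u + v * cb * π ^ d * sa, ?_⟩
      rw [pow_add] at heb
      simp only [A', B']
      linear_combination (v * ca) * heb - (v * cb * π ^ d) * hea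
    · refine ⟨B', Ideal.subset_span (by simp), fun y hy => ⟨cb * sa, fun h => (q.asIdeal.primeCompl.mul_mem hcb hsa) h, ?_⟩⟩
      obtain ⟨u, v, rfl⟩ := Ideal.mem_span_pair.1 hy
      obtain ⟨d, rfl⟩ := Nat.exists_eq_add_of_le hef
      refine Ideal.mem_span_singleton.2 ⟨cb * sa * v + u * ca * π ^ d * sb, ?_⟩
      rw [pow_add] at hea
      simp only [A', B']
      linear_combination (u * cb) * hea - (u * ca * π ^ d) * heb
  obtain ⟨t, htI, hspan⟩ := GrothLib.Tame.exists_generator (Ideal.span {A', B'}) hI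
  obtain ⟨a', ha'⟩ := Ideal.mem_span_singleton.1 (show A' ∈ Ideal.span {t} from hspan ▸ Ideal.subset_span (by simp))
  obtain ⟨b', hb'⟩ := Ideal.mem_span_singleton.1 (show B' ∈ Ideal.span {t} from hspan ▸ Ideal.subset_span (by simp))
  have hreg : ∀ c ∈ ({a, b} : Finset R), algebraMap R B c ∈ nonZeroDivisors B := fun c hc =>
    GrothLib.Tame.mem_nonZeroDivisors_of_local fun m hm => by
      obtain ⟨π, hreg, hfac⟩ := hπ ⟨m, hm⟩
      obtain ⟨e, he⟩ := hfac c hc
      obtain ⟨v, hv⟩ := he.image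
      rw [hv]
      exact mul_mem v.isUnit.mem_nonZeroDivisors (pow_mem hreg e)
  have hA' : t * a' ∈ nonZeroDivisors B := ha' ▸ hreg a (by simp)
  have hB' : t * b' ∈ nonZeroDivisors B := hb' ▸ hreg b (by simp)
  obtain ⟨ht, ha''⟩ := mul_mem_nonZeroDivisors.1 hA'
  refine ⟨B, inferInstance, inferInstance, hB, t, a', b', ht, ha'', (mul_mem_nonZeroDivisors.1 hB').2, ha', hb',
    (Ideal.eq_top_iff_one _).2 ?_⟩
  obtain ⟨u, v, huv⟩ := Ideal.mem_span_pair.1 htI
  rw [ha', hb'] at huv
  refine Ideal.mem_span_pair.2 ⟨u, v, ?_⟩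
  exact (mul_cancel_left_mem_nonZeroDivisors ht).1 (by linear_combination huv)

end Groth.Agent.S1834
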