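import Groth.Statements.S18341
import Groth.Agent.Lib.AlgSt.LocalInertia


set_option autoImplicit false
set_option backward.isDefEq.respectTransparency false
set_option backward.isDefEq.respectTransparency.types false
universe u
open AlgSt

namespace Groth.Agent.S18341

set_option backward.isDefEq.respectTransparency false
set_option backward.isDefEq.respectTransparency.types false

open CategoryTheory AlgebraicGeometry in
/-- Let 𝒳 be an algebraic stack over a scheme S, locally of finite presentation over S, whose diagonal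
over S is quasi-compact, separated and locally quasi-finite. Suppose that every point of 𝒳 is in the
image of a representable, quasi-compact, étale morphism h : 𝒰 → 𝒳 from an S-separated algebraic
stack 𝒰 which admits a finite locally free surjection from a scheme, such that for every
algebraically closed field Ω and every object u of 𝒰 over Spec Ω the injective map from the
automorphism group of u to that of h(u) is surjective. Then the inertia of 𝒳 over S is finite over
𝒳. (The remark states this as a criterion, an equivalence; only this implication is stated here.) -/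
theorem result (S : Scheme.{u}) (𝒳 : AlgSt.Cat S)
    (h𝒳 : AlgSt.IsAlgStack Scheme.fppfPrecoverage 𝒳)
    (hΔ : AlgSt.RepByAlgSpWith (AlgSp.IsSeparatedMor ⊓ AlgSp.IsQuasiCompactMor) (FibCat.diag (FibCat.toSelf 𝒳)))
    (hqf : AlgSt.IsQuasiDMOver 𝒳)
    (hfp : AlgSt.LocQ (AlgSp.LocP @LocallyOfFinitePresentation) (FibCat.toSelf 𝒳))
    (hloc : ∀ x : AlgSt.Points 𝒳, ∃ (𝒰 : AlgSt.Cat S) (h : 𝒰 ⥤ᵇ 𝒳),
      AlgSt.IsAlgStack Scheme.fppfPrecoverage 𝒰 ∧ x ∈ Set.range (AlgSt.Points.map h) ∧
      AlgSt.RepByAlgSpWith (AlgSp.IsEtaleMor ⊓ AlgSp.IsQuasiCompactMor) h ∧ AlgSt.IsSeparatedOver 𝒰 ∧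
      (∃ (Z : Over S) (z : FibCat.overCat Z ⥤ᵇ 𝒰), AlgSt.RepByAlgSpWith
        (AlgSp.IsFiniteMor ⊓ AlgSp.LocP (@Flat ⊓ @LocallyOfFinitePresentation) ⊓ AlgSp.IsSurjectiveMor) z) ∧
      ∀ (Ω : Type u) [Field Ω] [IsAlgClosed Ω] (t : Spec (CommRingCat.of Ω) ⟶ S) (u : 𝒰.p.Fiber (Over.mk t)),
        Function.Surjective (Gerb.autMap h u.1)) :
    AlgSt.RepByAlgSpWith AlgSp.IsFiniteMor (FibCat.inertiaToBase (FibCat.toSelf 𝒳)) := by
  refine GrothLib.AlgSt.finite_inertia_of_smooth_local h𝒳 hΔ hqf fun x => ?_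
  obtain ⟨𝒰, h, h1, h2, h3, h4, -, h6⟩ := hloc x
  refine ⟨𝒰, h, h1, h2, GrothLib.AlgSt.repByAlgSpWith_mono (fun X Y a _ hY ha => ?_) h3, h4, h6⟩
  exact GrothLib.AlgSp.locP_mono (fun _ _ g (_ : Etale g) => (inferInstance : Smooth g))
    ((GrothLib.AlgSp.isEtaleMor_iff_locP hY).1 ha.1)

end Groth.Agent.S18341
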