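import Groth.Statements.S18342
import Groth.Agent.Lib.CurveMult.DualDeg

set_option autoImplicit false
universe u
open CategoryTheory CategoryTheory.Limits AlgebraicGeometry
open VBCurve

namespace Groth.Agent.S18342

set_option backward.isDefEq.respectTransparency false
attribute [local instance] GrothLib.LocFreeHom.hasSheafHom


/-- Let k be an algebraically closed field of characteristic zero and X a smooth proper geometrically
connected curve over k (topological dimension one) of genus g ≥ 2. Let E be a finite locally free
O_X-module of rank r ≥ 1 and degree 0, and F a finite locally free O_X-module of rank n ≥ 1 and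
degree n(g − 1), degrees being χ − rank · χ(O_X). If every morphism E → F is zero, then E is
slope-semistable: deg G · r ≤ 0 for every finite locally free submodule G of E of positive rank. The
published statement concerns quasi-parabolic bundles of rank r with trivial determinant and flags at
a finite set of points, and says that for n ≥ ⌈r²/4⌉ the closed substack of bundles that are not
semistable for a given system of weights is the base locus of the parabolic theta functions of order
n, these being attached to semistable F; this row is one inclusion of it (a bundle at which the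
theta function of some F does not vanish is semistable) for a single bundle with no parabolic
points, for every n ≥ 1 and every F of the stated rank and degree, with degree 0 in place of trivial
determinant, and with the vanishing of Hom(E, F) in place of the vanishing of both Hom(E, F) and
Ext^1(E, F). -/
theorem result (k : Type u) [Field k] [IsAlgClosed k] [CharZero k]
    (X : Scheme.{u}) [X.Over (Spec (CommRingCat.of k))]
    [IsProper (X ↘ Spec (CommRingCat.of k))] [Smooth (X ↘ Spec (CommRingCat.of k))]
    [GeometricallyConnected (X ↘ Spec (CommRingCat.of k))] (hdim : topologicalKrullDim ↥X = 1)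
    (g : ℕ) (hg : Curv2.genus k X = g) (hg2 : 2 ≤ g)
    (E : X.Modules) (r : ℕ) (hr : 0 < r) (hE : FlatMod.IsFinLocFreeOfRank r E)
    (hEdeg : Curv2.deg k X E r = 0)
    (F : X.Modules) (n : ℕ) (hn : 0 < n) (hF : FlatMod.IsFinLocFreeOfRank n F)
    (hFdeg : Curv2.deg k X F n = (n : ℤ) * ((g : ℤ) - 1))
    (hhom : ∀ φ : E ⟶ F, φ = 0) :
    ModFun.IsSlopeSemistable k X E r := by
  haveI : ConnectedSpace X :=
    GeometricallyConnected.connectedSpace_of_subsingleton (X ↘ Spec (CommRingCat.of k))
  haveI := GrothLib.Euler.isIntegral_of_smooth_connected k (X ↘ Spec (CommRingCat.of k))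
  haveI := GrothLib.CurveRR.regCurve_of_smooth (X ↘ Spec (CommRingCat.of k)) hdim
  haveI := GrothLib.Euler.isNoetherian_of_proper (X := X) k
  have h0 := GrothLib.CurveRR.finrank_H0_structure_eq_one k (X := X)
  refine ((GrothLib.Euler.quotient_iff_sub k hdim.le GrothLib.CurveRR.pid_stalk hr hE).1).1 fun Q q π hπ hq hQ => ?_
  rw [hEdeg, zero_mul]
  by_contra hneg
  have hQd : Curv2.deg k X Q q < 0 := by
    have hrZ : (0 : ℤ) < r := by exact_mod_cast hr
    nlinarith
  obtain ⟨hN, hNd⟩ := GrothLib.CurveMult.iHom_data k hQ hF
  have hNc := GrothLib.Euler.isCoh_of_isFinLocFree (GrothLib.FinCov.isFinLocFree_of_rank hN)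
  have hχ : 0 < Curv2.euler k X (GrothLib.LocFreeHom.iHom Q F) := by
    rw [hFdeg] at hNd
    simp only [Curv2.deg] at hNd hQd
    rw [GrothLib.Euler.euler_structure k hdim.le, h0, hg] at hNd hQd
    push_cast at hNd hQd
    have hnZ : (0 : ℤ) < n := by exact_mod_cast hn
    nlinarith
  obtain ⟨s, hs⟩ := GrothLib.Euler.exists_ne_zero_section
    (GrothLib.Euler.nontrivial_H0_of_euler_pos k hdim.le hNc hχ)
  let f : Coh.structureModule X ⟶ GrothLib.LocFreeHom.iHom Q F := GrothLib.FinCov.homOfSection s
  haveI := hπ
  have h1 : (GrothLib.LocFreeDual20.unitR Q).inv ≫ GrothLib.LocFreeHom.uncurry f = 0 := by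
    rw [← cancel_epi π, comp_zero]
    exact hhom _
  have h2 : GrothLib.LocFreeHom.uncurry f = 0 := by
    rw [← cancel_epi (GrothLib.LocFreeDual20.unitR Q).inv, h1, comp_zero]
  have h3 : f = 0 := GrothLib.LocFreeHom.hom_ext (h2.trans (by
    show _ = (GrothLib.LocFreeHom.T Q).map 0 ≫ _
    rw [Functor.map_zero, zero_comp]))
  have h4 := GrothLib.FinCov.homOfSection_one s ⊤
  rw [show GrothLib.FinCov.homOfSection s = 0 from h3,
    show (homOfLE (le_top : (⊤ : X.Opens) ≤ ⊤)).op = 𝟙 _ from Subsingleton.elim _ _,
    CategoryTheory.Functor.map_id] at h4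
  exact hs h4.symm

end Groth.Agent.S18342
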