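import Groth.Statements.S18343
import Groth.Agent.S0440
import Groth.Agent.Lib.CycNorm12.Local

set_option autoImplicit false
universe u
open CategoryTheory CategoryTheory.Limits AlgebraicGeometry
open MultCurve

namespace Groth.Agent.S18343

set_option backward.isDefEq.respectTransparency false


/-- Suppose C is a ribbon on the reduced scheme D via the closed immersion i : D ⟶ C (meaning the ideal
of D squares to zero and is locally generated by a single section z whose annihilator lies in (z)),
and consider an arbitrary morphism of schemes f : C ⟶ X. The morphism f is a closed immersion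
exactly when two things hold: the composite i ≫ f, i.e. f restricted to D, is a closed immersion,
and pulling back along f the ideal of the scheme-theoretic image of D in X yields the entire ideal
of D in C. This second requirement amounts to surjectivity of the map α_f that sends the pullback of
the conormal sheaf of the image of D in X onto the conormal bundle of D in C. (The statement is
given for arbitrary schemes and any morphism f; the published version assumes all schemes are of
finite type over a field and D is connected, but the proof relies on neither assumption.) -/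
theorem result (D C X : Scheme.{u}) (i : D ⟶ C)
    (hR : MultCurve.IsRibbon i) (f : C ⟶ X) :
    IsClosedImmersion f ↔ (IsClosedImmersion (i ≫ f) ∧ (i ≫ f).ker.comap f = i.ker) := by
  obtain ⟨⟨hi, hsq, -⟩, -⟩ := hR
  haveI := hi
  constructor
  · intro hf
    refine ⟨inferInstance, ?_⟩
    have hP : IsPullback i (𝟙 D) f (i ≫ f) := IsPullback.of_isLimit' ⟨by simp⟩
      (PullbackCone.IsLimit.mk _ (fun s => s.snd)
        (fun s => by rw [← cancel_mono f, Category.assoc]; exact s.condition.symm)
        (fun s => Category.comp_id _) (fun s m _ h2 => by rw [← h2]; simp))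
    calc (i ≫ f).ker.comap f = (pullback.fst f (i ≫ f)).ker :=
          (Scheme.IdealSheafData.ker_fst_of_isClosedImmersion (i ≫ f) f).symm
      _ = (hP.isoPullback.hom ≫ pullback.fst f (i ≫ f)).ker := (Scheme.Hom.ker_comp_of_isIso _ _).symm
      _ = i.ker := congrArg Scheme.Hom.ker hP.isoPullback_hom_fst
  · rintro ⟨hg, hker⟩
    haveI := hg
    have hsurj : Function.Surjective i := fun c => by
      have h1 : (i.ker ^ 2).support = i.ker.support := Scheme.IdealSheafData.support_pow _ 2 two_ne_zero
      rw [hsq, Scheme.IdealSheafData.support_bot] at h1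
      have h2 : c ∈ (i.ker.support : Set C) := by rw [← h1]; trivial
      rw [Scheme.Hom.support_ker] at h2
      have h3 : c ∈ closure (Set.range i.base) := h2
      rwa [i.isClosedEmbedding.isClosed_range.closure_eq] at h3
    have haff : ∀ U : X.Opens, IsAffineOpen U → IsAffineOpen (f ⁻¹ᵁ U) := fun U hU => by
      haveI : IsAffine (i ⁻¹ᵁ (f ⁻¹ᵁ U) : Scheme.{u}) := hU.preimage (i ≫ f)
      exact Groth.Agent.S0440.result (i ∣_ (f ⁻¹ᵁ U)) (fun c => by
        obtain ⟨d, hd⟩ := hsurj c.1
        refine ⟨⟨d, show i d ∈ f ⁻¹ᵁ U by rw [hd]; exact c.2⟩, Subtype.ext ?_⟩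
        exact (morphismRestrict_base_coe i (f ⁻¹ᵁ U) _).trans hd)
    haveI : IsAffineHom f := ⟨haff⟩
    refine isClosedImmersion_iff_isAffineHom.2 ⟨inferInstance, fun U hU b => ?_⟩
    let V : C.affineOpens := ⟨f ⁻¹ᵁ U, haff U hU⟩
    let I := i.ker.ideal V
    have hI : I = RingHom.ker (i.app V.1).hom := i.ker_apply V
    have hIJ : I = ((i ≫ f).ker.ideal ⟨U, hU⟩).map (f.app U).hom := by
      show i.ker.ideal V = _
      rw [← hker]
      exact GrothLib.CycNorm12.comap_ideal_preimage f _ ⟨U, hU⟩
    have h0 : ∀ x ∈ I, ∀ y ∈ I, x * y = 0 := fun x hx y hy => by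
      have h : x * y ∈ (i.ker ^ 2).ideal V := by
        rw [GrothLib.FormalExist7.ideal_pow_apply, pow_two]
        exact Ideal.mul_mem_mul hx hy
      rw [hsq, Scheme.IdealSheafData.ideal_bot] at h
      simpa using h
    have hlift : ∀ r : Γ(C, V.1), ∃ a : Γ(X, U), r - f.app U a ∈ I := fun r => by
      obtain ⟨a, ha⟩ := (i ≫ f).app_surjective U hU (i.app V.1 r)
      refine ⟨a, ?_⟩
      rw [hI, RingHom.mem_ker, map_sub, sub_eq_zero]
      exact ha.symm
    obtain ⟨a, ha⟩ := hlift b
    suffices h : ∀ x ∈ I, x ∈ I ∧ ∃ a : Γ(X, U), f.app U a = x by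
      obtain ⟨-, a', ha'⟩ := h _ ha
      exact ⟨a + a', by rw [map_add, ha', add_sub_cancel]⟩
    intro x hx
    rw [hIJ] at hx
    induction hx using Submodule.span_induction with
    | mem y hy =>
      obtain ⟨j, hj, rfl⟩ := hy
      exact ⟨hIJ.ge (Ideal.mem_map_of_mem _ hj), j, rfl⟩
    | zero => exact ⟨zero_mem _, 0, map_zero _⟩
    | add y z _ _ hy hz =>
      obtain ⟨hy1, c, rfl⟩ := hy
      obtain ⟨hz1, d, rfl⟩ := hz
      exact ⟨add_mem hy1 hz1, c + d, map_add _ _ _⟩
    | smul r y _ hy =>
      obtain ⟨hy1, c, rfl⟩ := hy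
      obtain ⟨a', ha'⟩ := hlift r
      refine ⟨Ideal.mul_mem_left _ _ hy1, a' * c, ?_⟩
      have h := h0 _ ha' _ hy1
      rw [sub_mul, sub_eq_zero] at h
      rw [map_mul, smul_eq_mul, h]

end Groth.Agent.S18343
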