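import Groth.Statements.S18346
import Groth.Agent.Lib.SqZero11.Split

set_option autoImplicit false
universe u
open CategoryTheory CategoryTheory.Limits AlgebraicGeometry
open MultCurve

namespace Groth.Agent.S18346

set_option backward.isDefEq.respectTransparency false


/-- Let k be a field and C a ribbon, locally of finite type over k, on the reduced connected scheme D
along i : D ⟶ C, with its restricted cotangent sequence 0 → L → Ω_C|_D → Ω_D → 0 presented by a
universal k-derivation d₁ : O_C → Ω₁, a universal k-derivation d₂ : O_D → Ω₂, the map φ from the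
conormal bundle L of D in C to i^*Ω₁ induced by d₁ and the map c : i^*Ω₁ → Ω₂ compatible with d₁ and
d₂, assumed short exact, that is, with φ injective. Let X be a scheme over k with a universal
k-derivation d₃ : O_X → Ω₃, let f : D ⟶ X be a morphism over k and let df : f^*Ω₃ → Ω₂ be the map
compatible with d₃ and d₂. Then f extends to a morphism C ⟶ X over k restricting to f on D if and
only if the pulled-back sequence splits, i.e. there is an O_D-linear g : f^*Ω₃ → i^*Ω₁ with g
followed by c equal to df. (The published text treats the restricted cotangent sequence as short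
exact for every ribbon and puts the extensions in bijection with such maps g. Short exactness holds
over a perfect field but not in general: for k of characteristic p and a ∈ k not a p-th power, the
ribbon Spec k[x]/((x^p − a)²) on D = Spec k(a^{1/p}) has φ = 0 and c an isomorphism, so for X = D
and f the identity the inverse of c is such a map g, while the ribbon admits no retraction. So short
exactness is assumed here, and this row states the existence part of the bijection. X may be any
k-scheme.) -/
theorem result (k : Type u) [Field k] (D C : Scheme.{u}) (i : D ⟶ C)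
    (pC : C ⟶ Spec (CommRingCat.of k)) [LocallyOfFiniteType pC] [ConnectedSpace D] (hR : MultCurve.IsRibbon i)
    (Ω₁ : C.Modules) (d₁ : OmegaSh.Der pC Ω₁) (hd₁ : OmegaSh.IsUniversal d₁)
    (Ω₂ : D.Modules) (d₂ : OmegaSh.Der (i ≫ pC) Ω₂) (hd₂ : OmegaSh.IsUniversal d₂)
    (φ : Omega.conormal i ⟶ (Scheme.Modules.pullback i).obj Ω₁) (hφ : OmegaSh.IsConormalDiff i d₁ φ)
    (c : (Scheme.Modules.pullback i).obj Ω₁ ⟶ Ω₂) (hc : OmegaSh.IsDiffCompat i d₁ d₂ c)
    (hw : φ ≫ c = 0) (hS : (ShortComplex.mk φ c hw).ShortExact)
    (X : Scheme.{u}) (pX : X ⟶ Spec (CommRingCat.of k)) (f : D ⟶ X) (hf : f ≫ pX = i ≫ pC)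
    (Ω₃ : X.Modules) (d₃ : OmegaSh.Der pX Ω₃) (hd₃ : OmegaSh.IsUniversal d₃)
    (df : (Scheme.Modules.pullback f).obj Ω₃ ⟶ Ω₂) (hdf : OmegaSh.IsDiffCompat f d₃ d₂ df) :
    (∃ g : C ⟶ X, i ≫ g = f ∧ g ≫ pX = pC) ↔
      ∃ s : (Scheme.Modules.pullback f).obj Ω₃ ⟶ (Scheme.Modules.pullback i).obj Ω₁, s ≫ c = df := by
  haveI : IsClosedImmersion i := hR.1.1
  exact GrothLib.SqZero11.exists_hom_iff i hR.1.2.1 pC d₁ hφ hc hS pX f hf d₃ hd₃ hdf

end Groth.Agent.S18346
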