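import Groth.Statements.S18347
import Groth.Agent.Lib.RibExt10.Ribbon
import Groth.Agent.Lib.ExtHull28.Classes
import Groth.Agent.Lib.OmegaLocal4.Affine
import Groth.Agent.Lib.OmegaExist4.Basic
import Groth.Agent.Lib.QCoh.Extension

set_option linter.all false
set_option backward.isDefEq.respectTransparency false

set_option autoImplicit false
universe w u
open CategoryTheory CategoryTheory.Limits AlgebraicGeometry
open MultCurve

namespace Groth.Agent.S18347

/-- Let k be a field, D a reduced connected scheme locally of finite type over k with structure morphism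
pD and a universal k-derivation d₂ : O_D → Ω₂, let L be an invertible O_D-module and e ∈ Ext¹(Ω₂,
L). Then there is a ribbon C on D over k with class e: a k-scheme C locally of finite type with a
closed immersion i : D ⟶ C over k making C a ribbon on D, a universal k-derivation d₁ : O_C → Ω₁
with the map φ from the conormal bundle of D in C to i^*Ω₁ induced by d₁ and the map c : i^*Ω₁ → Ω₂
compatible with d₁ and d₂, such that φ followed by c is zero and the resulting sequence is short
exact, and an isomorphism θ from the conormal bundle to L along which the class of that short exact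
sequence becomes e. -/
theorem result (k : Type u) [Field k] (D : Scheme.{u}) (pD : D ⟶ Spec (CommRingCat.of k))
    [LocallyOfFiniteType pD] [AlgebraicGeometry.IsReduced D] [ConnectedSpace D]
    (L : D.Modules) (hL : PicF.IsInvertible L)
    (Ω₂ : D.Modules) (d₂ : OmegaSh.Der pD Ω₂) (hd₂ : OmegaSh.IsUniversal d₂) [HasExt.{w} D.Modules]
    (e : Abelian.Ext Ω₂ L 1) :
    ∃ (C : Scheme.{u}) (i : D ⟶ C) (pC : C ⟶ Spec (CommRingCat.of k)), i ≫ pC = pD ∧ MultCurve.IsRibbon i ∧
      LocallyOfFiniteType pC ∧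
      ∃ (Ω₁ : C.Modules) (d₁ : OmegaSh.Der pC Ω₁) (hd₁ : OmegaSh.IsUniversal d₁)
        (φ : Omega.conormal i ⟶ (Scheme.Modules.pullback i).obj Ω₁) (hφ : OmegaSh.IsConormalDiff i d₁ φ)
        (c : (Scheme.Modules.pullback i).obj Ω₁ ⟶ Ω₂) (hc : OmegaSh.IsDiffCompat i d₁ d₂ c)
        (hw : φ ≫ c = 0) (hS : (ShortComplex.mk φ c hw).ShortExact) (θ : Omega.conormal i ≅ L),
        hS.extClass.comp (Abelian.Ext.mk₀ θ.hom) (add_zero 1) = e := by
  haveI : EnoughInjectives D.Modules := GrothLib.SheafCoh.enoughInjectives_sheafOfModules D.ringCatSheaf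
  obtain ⟨E, a, b, w, hE, rfl⟩ := GrothLib.ExtHull28.exists_seq_of_class e
  have qL := GrothLib.InvExt.isQuasicoherent_of_isInvertible hL
  have qΩ := GrothLib.OmegaLocal4.isQuasicoherent hd₂
  haveI : (ShortComplex.mk a b w).X₁.IsQuasicoherent := qL
  haveI : (ShortComplex.mk a b w).X₃.IsQuasicoherent := qΩ
  have qE : E.IsQuasicoherent := GrothLib.QCoh.isQuasicoherent_X₂ hE
  let P : GrothLib.RibExt10.Data D (Spec (CommRingCat.of k)) pD :=
    ⟨a, b, w, hE, qL, qE, qΩ, d₂⟩
  obtain ⟨Ω₁, d₁, hd₁⟩ := GrothLib.OmegaExist4.exists_universal P.str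
  obtain ⟨φ, hφ, c, hc, hw, hS, θ, hθ⟩ := P.exists_seq hd₁ hd₂
  have hP := GrothLib.RibExt10.isPrincipalOfOrder_of_conormal P.emb P.ker_sq
    (GrothLib.RelProjK.isInvertible_of_iso θ hL)
  haveI : LocallyOfFiniteType (P.emb ≫ P.str) := by rw [P.emb_str]; infer_instance
  exact ⟨P.obj, P.emb, P.str, P.emb_str, ⟨⟨inferInstance, P.ker_sq, hP⟩, inferInstance⟩,
    GrothLib.RibExt10.locallyOfFiniteType_of_isPrincipal P.emb P.ker_sq hP P.str,
    Ω₁, d₁, hd₁, φ, hφ, c, hc, hw, hS, θ, hθ⟩

end Groth.Agent.S18347
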