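import Groth.Statements.S18348
import Groth.Agent.Lib.SqZero11.Iso

set_option autoImplicit false
universe w u
open CategoryTheory CategoryTheory.Limits AlgebraicGeometry
open MultCurve

namespace Groth.Agent.S18348

set_option backward.isDefEq.respectTransparency false


/-- Let k be a field and D a reduced connected scheme locally of finite type over k, with structure
morphism pD and a universal k-derivation d₂ : O_D → Ω₂. Let C and C′ be ribbons on D over k
(k-schemes locally of finite type with closed immersions i, i′ of D over k making them ribbons),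
each with its restricted cotangent sequence 0 → L → Ω_C|_D → Ω_D → 0 presented by a universal
k-derivation d₁ : O_C → Ω₁, the fixed universal k-derivation d₂ of D, the map φ from the conormal
bundle L of D in C to i^*Ω₁ induced by d₁ and the map c : i^*Ω₁ → Ω₂ compatible with d₁ and d₂,
assumed short exact, that is, with φ and φ′ injective, with classes e ∈ Ext¹(Ω₂, L) and e′ ∈
Ext¹(Ω₂, L′). Then C and C′ are isomorphic over D (by an isomorphism under D that is a k-morphism)
if and only if there is an isomorphism of O_D-modules α : L ≅ L′ carrying e to e′. In particular a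
ribbon with short exact restricted cotangent sequence is determined up to isomorphism over D by its
conormal bundle together with its class. (The published statement asserts the uniqueness for all
ribbons, treating the restricted cotangent sequence as short exact for every ribbon; it is so over a
perfect field but not in general: for k of characteristic p and a ∈ k not a p-th power, D = Spec
k(a^{1/p}) has Ext¹(Ω_D, L) = 0 for every L, yet the split ribbon with conormal bundle O_D and Spec
k[x]/((x^p − a)²) are ribbons on D with conormal bundle O_D that are not isomorphic over D, the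
second having φ = 0; so short exactness is assumed here for both ribbons. The published statement
also, for D proper over k, phrases the criterion as e = a·e′ with a a nonzero scalar, identifying
the automorphisms of the line bundle L with the nonzero constants; that identification needs Γ(D,
O_D) = k and fails, for example, for the projective line over a quadratic extension of k regarded as
a k-scheme, so the criterion is stated here with an arbitrary automorphism of the conormal bundle,
in which form it holds for every reduced connected D.) -/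
theorem result (k : Type u) [Field k] (D : Scheme.{u})
    (pD : D ⟶ Spec (CommRingCat.of k)) [LocallyOfFiniteType pD] [ConnectedSpace D]
    (Ω₂ : D.Modules) (d₂ : OmegaSh.Der pD Ω₂) (hd₂ : OmegaSh.IsUniversal d₂) [HasExt.{w} D.Modules]
    (C : Scheme.{u}) (i : D ⟶ C) (pC : C ⟶ Spec (CommRingCat.of k)) [LocallyOfFiniteType pC]
    (hp : i ≫ pC = pD) (hR : MultCurve.IsRibbon i)
    (Ω₁ : C.Modules) (d₁ : OmegaSh.Der pC Ω₁) (hd₁ : OmegaSh.IsUniversal d₁)
    (φ : Omega.conormal i ⟶ (Scheme.Modules.pullback i).obj Ω₁) (hφ : OmegaSh.IsConormalDiff i d₁ φ)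
    (c : (Scheme.Modules.pullback i).obj Ω₁ ⟶ Ω₂) (hc : OmegaSh.IsDiffCompat i d₁ d₂ c)
    (hw : φ ≫ c = 0) (hS : (ShortComplex.mk φ c hw).ShortExact)
    (C' : Scheme.{u}) (i' : D ⟶ C') (pC' : C' ⟶ Spec (CommRingCat.of k)) [LocallyOfFiniteType pC']
    (hp' : i' ≫ pC' = pD) (hR' : MultCurve.IsRibbon i')
    (Ω₁' : C'.Modules) (d₁' : OmegaSh.Der pC' Ω₁') (hd₁' : OmegaSh.IsUniversal d₁')
    (φ' : Omega.conormal i' ⟶ (Scheme.Modules.pullback i').obj Ω₁') (hφ' : OmegaSh.IsConormalDiff i' d₁' φ')
    (c' : (Scheme.Modules.pullback i').obj Ω₁' ⟶ Ω₂) (hc' : OmegaSh.IsDiffCompat i' d₁' d₂ c')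
    (hw' : φ' ≫ c' = 0) (hS' : (ShortComplex.mk φ' c' hw').ShortExact) :
    (∃ ψ : C ≅ C', i ≫ ψ.hom = i' ∧ ψ.hom ≫ pC' = pC) ↔
      ∃ α : Omega.conormal i ≅ Omega.conormal i',
        hS.extClass.comp (Abelian.Ext.mk₀ α.hom) (add_zero 1) = hS'.extClass := by
  haveI : IsClosedImmersion i := hR.1.1
  haveI : IsClosedImmersion i' := hR'.1.1
  constructor
  · rintro ⟨ψ, h1, h2⟩
    exact GrothLib.SqZero11.exists_conormal_iso pD d₂ i hR.1.2.1 pC d₁ hφ hc hS i' hR'.1.2.1 pC' hd₁' hφ' hc' hS'
      ψ.hom h1 h2
  · rintro ⟨α, h⟩
    exact GrothLib.SqZero11.exists_scheme_iso pD d₂ i hR.1.2.1 pC d₁ hφ hc hS i' hR'.1.2.1 pC' hφ' hc' hS'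
      (hp'.trans hp.symm) α h

end Groth.Agent.S18348
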