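import Groth.Statements.S18349
import Groth.Agent.Lib.SqLift10.Chain
import Groth.Agent.Lib.CohAmple24.Top

set_option autoImplicit false
set_option linter.all false
set_option backward.isDefEq.respectTransparency false
set_option maxHeartbeats 1000000
universe u
open CategoryTheory CategoryTheory.Limits AlgebraicGeometry
open MultCurve

namespace Groth.Agent.S18349

/-- Let k be a field and X a primitive multiple curve of multiplicity n over k — a separated
quasi-compact k-scheme with a closed immersion i : C ⟶ X of a smooth integral curve C whose ideal I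
satisfies Iⁿ = 0 and is locally generated by one section z with the annihilator of z^(n-1) inside
(z) — with canonical filtration C = C_1 ⊂ C_2 ⊂ ⋯ ⊂ C_n = X, C_j being cut out by I^j. Let A be a
finitely generated k-algebra that is an integral domain, P = Spec A ×_k X, and 1 ≤ j < n. Let Y ⊂ P
be a closed subscheme containing Spec A ×_k C_j, i.e. defined by a quasi-coherent ideal contained in
the pullback to P of I^j. Then every finite locally free O_Y-module is isomorphic to the restriction
to Y of a finite locally free O_P-module. (Stated over an arbitrary field; the published setting is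
the complex numbers, which the argument does not use.) -/
theorem result (k : Type u) [Field k] (C X : Scheme.{u}) (i : C ⟶ X)
    (f : X ⟶ Spec (CommRingCat.of k)) [IsSeparated f] [QuasiCompact f]
    (n : ℕ) (h : MultCurve.IsPrimitive k i f n)
    (A : Type u) [CommRing A] [IsDomain A] [Algebra k A] [Algebra.FiniteType k A]
    (j : ℕ) (hj : 1 ≤ j) (hjn : j < n)
    (IY : (pullback (Spec.map (CommRingCat.ofHom (algebraMap k A))) f).IdealSheafData)
    (hY : IY ≤ (i.ker ^ j).comap (pullback.snd (Spec.map (CommRingCat.ofHom (algebraMap k A))) f))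
    (E : IY.subscheme.Modules) (hE : FlatMod.IsFinLocFree E) :
    ∃ E' : (pullback (Spec.map (CommRingCat.ofHom (algebraMap k A))) f).Modules,
      FlatMod.IsFinLocFree E' ∧ Nonempty ((Scheme.Modules.pullback IY.subschemeι).obj E' ≅ E) := by
  obtain ⟨⟨hi, hpow, -⟩, hint, hsm, hdim⟩ := h
  haveI := hi
  haveI := hsm
  have hn : n ≠ 0 := by omega
  have hsurj : Function.Surjective i := by
    rw [← Set.range_eq_univ]
    have h1 : (i.ker ^ n).support = i.ker.support := Scheme.IdealSheafData.support_pow i.ker n hn
    rw [hpow, Scheme.IdealSheafData.support_bot] at h1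
    have h2 : (i.ker.support : Set X) = closure (Set.range i) := Scheme.Hom.support_ker i
    rw [← h1, i.isClosedEmbedding.isClosed_range.closure_eq] at h2
    exact h2.symm
  haveI : CompactSpace X := QuasiCompact.compactSpace_of_compactSpace f
  haveI : CompactSpace C := QuasiCompact.compactSpace_of_compactSpace (i ≫ f)
  haveI : IsLocallyNoetherian C := LocallyOfFiniteType.isLocallyNoetherian (i ≫ f)
  haveI : IsNoetherian C := {}
  haveI : TopologicalSpace.NoetherianSpace X := TopologicalSpace.noetherianSpace_of_surjective i i.continuous hsurj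
  have hhom : IsHomeomorph i := isHomeomorph_iff_isEmbedding_surjective.2 ⟨i.isClosedEmbedding.toIsEmbedding, hsurj⟩
  have hdX : topologicalKrullDim X ≤ ((1 : ℕ) : WithBot ℕ∞) :=
    le_of_eq ((IsHomeomorph.topologicalKrullDim_eq _ hhom).symm.trans hdim)
  have hX : GrothLib.SqLift10.HV X := fun M _ =>
    GrothLib.GVanish.subsingleton_H_of_krullDim_le 1 hdX _ 2 one_lt_two
  let pr := pullback.snd (Spec.map (CommRingCat.ofHom (algebraMap k A))) f
  haveI : IsAffineHom (Spec.map (CommRingCat.ofHom (algebraMap k A))) := inferInstance
  haveI : IsAffineHom pr := MorphismProperty.pullback_snd _ _ inferInstance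
  have hP := GrothLib.SqLift10.hv_of_affineHom pr hX
  refine GrothLib.SqLift10.exists_lift_nilpotent hP IY (n := n) ?_ E hE
  have hle : IY ≤ i.ker.comap pr := hY.trans (Scheme.IdealSheafData.comap_mono _ fun U => by
    rw [Scheme.IdealSheafData.ideal_pow]
    exact Ideal.pow_le_self (by omega))
  have hc : ∀ m : ℕ, (i.ker.comap pr) ^ (m + 1) = (i.ker ^ (m + 1)).comap pr := by
    intro m
    induction m with
    | zero => simp
    | succ m ih => rw [pow_succ _ (m + 1), ih, ← GrothLib.UnivThick.comap_mul, ← pow_succ]
  have h0 : (i.ker.comap pr) ^ n = ⊥ := by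
    obtain ⟨m, rfl⟩ := Nat.exists_eq_succ_of_ne_zero hn
    rw [Nat.succ_eq_add_one, hc, hpow, Scheme.IdealSheafData.comap_bot]
  refine eq_bot_iff.2 (le_trans (fun U => ?_) (le_of_eq h0))
  rw [Scheme.IdealSheafData.ideal_pow, Scheme.IdealSheafData.ideal_pow]
  exact Ideal.pow_right_mono (hle U) n

end Groth.Agent.S18349
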