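import Groth.Statements.S1835
-- import your own Groth.Agent.* helpers here
import Mathlib.RingTheory.OrderOfVanishing.Basic
import Mathlib.RingTheory.IntegralClosure.Algebra.Basic

set_option autoImplicit false
universe u
open CycAlg

namespace Groth.Agent.S1835

/-- Let R be a Noetherian local ring of dimension 1, a a nonzerodivisor in the maximal ideal and b a
nonzerodivisor. There is an integer n such that whenever b = a^m c in some finite extension ring R ⊆
R', one has m ≤ n. -/
theorem result (R : Type u) [CommRing R] [IsNoetherianRing R] [IsLocalRing R] (hR : ringKrullDim R = 1) (a b : R) (ha : a ∈ nonZeroDivisors R) (ham : a ∈ IsLocalRing.maximalIdeal R) (hb : b ∈ nonZeroDivisors R) : ∃ n : ℕ, ∀ (R' : Type u) [CommRing R'] [Algebra R R'], Function.Injective (algebraMap R R') → Module.Finite R R' → ∀ (m : ℕ) (c : R'), algebraMap R R' b = algebraMap R R' a ^ m * c → m ≤ n := by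
  haveI : Ring.KrullDimLE 1 R := Ring.krullDimLE_iff.2 (by rw [hR]; rfl)
  have hB : Ring.ord R b ≠ ⊤ := Ring.ord_ne_top hb
  obtain ⟨B, hB'⟩ := ENat.ne_top_iff_exists.1 hB
  refine ⟨B, fun R' _ _ hinj hfin m c hc => ?_⟩
  obtain ⟨P, hP, hPc⟩ := Algebra.IsIntegral.isIntegral (R := R) c
  set N := P.natDegree with hN
  have hrel : b ^ N + ∑ i ∈ Finset.range N, P.coeff i * a ^ (m * (N - i)) * b ^ i = 0 := by
    refine hinj ?_
    rw [map_zero, map_add, map_sum, map_pow, hc, mul_pow]
    simp only [map_mul, map_pow, hc, mul_pow]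
    have h := hPc
    rw [Polynomial.eval₂_eq_sum_range, Finset.sum_range_succ, hP.coeff_natDegree, map_one,
      one_mul] at h
    calc _ = (algebraMap R R' a ^ m) ^ N *
          (∑ i ∈ Finset.range N, algebraMap R R' (P.coeff i) * c ^ i + c ^ N) := by
          rw [mul_add, Finset.mul_sum, add_comm]
          congr 1
          refine Finset.sum_congr rfl fun i hi => ?_
          rw [Finset.mem_range] at hi
          rw [← pow_mul, ← pow_mul]
          rw [show m * N = m * (N - i) + m * i from by rw [← mul_add]; congr 1; omega, pow_add]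
          ring
      _ = 0 := by rw [hN, h, mul_zero]
  have key : ∀ t : ℕ, a ^ (m * (t - (N - 1))) ∣ b ^ t := by
    intro t
    induction t using Nat.strong_induction_on with
    | _ t ih =>
    rcases Nat.lt_or_ge t N with h | h
    · rw [show t - (N - 1) = 0 from by omega, mul_zero, pow_zero]
      exact one_dvd _
    · have he : b ^ t = -∑ i ∈ Finset.range N, P.coeff i * a ^ (m * (N - i)) * b ^ (t - N + i) := by
        rw [eq_neg_iff_add_eq_zero]
        calc _ = b ^ (t - N) * (b ^ N + ∑ i ∈ Finset.range N, P.coeff i * a ^ (m * (N - i)) * b ^ i) := by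
              rw [mul_add, ← pow_add, show t - N + N = t from by omega, Finset.mul_sum]
              congr 1
              exact Finset.sum_congr rfl fun i _ => by rw [pow_add]; ring
          _ = 0 := by rw [hrel, mul_zero]
      rw [he]
      refine dvd_neg.2 (Finset.dvd_sum fun i hi => ?_)
      rw [Finset.mem_range] at hi
      obtain ⟨q, hq⟩ := ih (t - N + i) (by omega)
      rw [hq]
      have hle : m * (t - (N - 1)) ≤ m * (N - i) + m * (t - N + i - (N - 1)) := by
        rw [← mul_add]
        exact Nat.mul_le_mul_left m (by omega)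
      refine (pow_dvd_pow a hle).trans ⟨P.coeff i * q, ?_⟩
      rw [pow_add]
      ring
  have ha1 : 1 ≤ Ring.ord R a := by
    rw [Order.one_le_iff_pos, pos_iff_ne_zero]
    intro h0
    rw [Ring.ord, Module.length_eq_zero_iff, Ideal.Quotient.subsingleton_iff,
      Ideal.span_singleton_eq_top] at h0
    exact ham h0
  have hineq : ∀ s : ℕ, m * s ≤ (N - 1 + s) * B := by
    intro s
    have h := key (N - 1 + s)
    rw [show N - 1 + s - (N - 1) = s from by omega] at h
    have h2 := Ring.ord_le_ord_of_dvd h
    rw [Ring.ord_pow ha, Ring.ord_pow hb, ← hB', nsmul_eq_mul, nsmul_eq_mul] at h2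
    have h3 : ((m * s : ℕ) : ℕ∞) * 1 ≤ ((m * s : ℕ) : ℕ∞) * Ring.ord R a := mul_le_mul_right ha1 _
    have h4 := h3.trans h2
    rw [mul_one, ← Nat.cast_mul] at h4
    exact_mod_cast h4
  have h := hineq ((N - 1) * B + 1)
  by_contra hlt
  push Not at hlt
  have h5 : (B + 1) * ((N - 1) * B + 1) ≤ m * ((N - 1) * B + 1) := Nat.mul_le_mul_right _ hlt
  have h6 := h5.trans h
  ring_nf at h6
  omega

end Groth.Agent.S1835
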