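import Groth.Statements.S18352
import Groth.Agent.Lib.NormFlat11.Scheme
import Groth.Agent.Lib.CurveStk.Smooth
import Groth.Agent.Lib.LocProp.SmoothRegularScheme

set_option autoImplicit false
universe u
open Curv2

namespace Groth.Agent.S18352

set_option backward.isDefEq.respectTransparency false


open CategoryTheory AlgebraicGeometry in
/-- Let S be an integral Noetherian scheme all of whose local rings are integrally closed domains, and
let f : C → S be a flat, proper, locally finitely presented morphism of schemes whose fibres are
geometrically reduced and geometrically connected, all of Krull dimension one, and whose fibre over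
the generic point of S is smooth over the residue field there. Then every local ring of C is an
integrally closed domain. The total space C is a scheme here; the source also allows an algebraic
space. -/
theorem result (S C : Scheme.{u}) [IsIntegral S] [IsNoetherian S]
    (hS : Pi1.IsNormalScheme S) (f : C ⟶ S) [Flat f] [IsProper f] [LocallyOfFinitePresentation f]
    [GeometricallyReduced f] [GeometricallyConnected f]
    (hdim : ∀ s : ↥S, topologicalKrullDim ↥(f.fiber s) = 1)
    (hsm : Smooth (f.fiberToSpecResidueField (genericPoint ↥S))) :
    Pi1.IsNormalScheme C := by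
  refine GrothLib.NormFlat11.isNormalScheme_of_flat f hS (fun x => inferInstance) fun x hF => ?_
  have hfx : f x = genericPoint ↥S := by
    letI := hF.toField
    have h1 : genericPoint ↥S ∈ Set.range (S.fromSpecStalk (f x)) := by
      rw [Scheme.range_fromSpecStalk]
      exact genericPoint_specializes _
    obtain ⟨p, hp⟩ := h1
    obtain rfl : p = IsLocalRing.closedPoint (S.presheaf.stalk (f x)) :=
      @Subsingleton.elim _ (inferInstanceAs (Subsingleton (PrimeSpectrum (S.presheaf.stalk (f x))))) _ _
    rw [← hp, Scheme.fromSpecStalk_closedPoint]
  haveI : Smooth (f.fiberToSpecResidueField (f x)) := hfx.symm ▸ hsm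
  obtain ⟨U, hxU, hU⟩ := GrothLib.AlgSt.mem_smoothOpen.1
    ((GrothLib.CurveStk.mem_smoothOpen_iff_fibre f x).2
      ((GrothLib.CurveStk.smooth_iff_forall_mem _).1 inferInstance _))
  have h1 : U.ι ⁻¹ᵁ f.smoothLocus = ⊤ := by
    rw [Scheme.Hom.preimage_smoothLocus_eq]; exact (U.ι ≫ f).smoothLocus_eq_top
  have hmem : x ∈ f.smoothLocus :=
    (h1.ge (show (⟨x, hxU⟩ : U) ∈ (⊤ : U.toScheme.Opens) from trivial) :)
  refine (GrothLib.LocProp.isRegularLocalRing_stalk_iff_of_mem_smoothLocus f x hmem).2 ?_
  letI := hF.toField
  infer_instance

end Groth.Agent.S18352
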