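import Groth.Statements.S18353
import Groth.Agent.S18352
import Groth.Agent.Lib.Ref1.Connected
import Groth.Agent.Lib.Stein.FibrationBase

set_option autoImplicit false
universe u
open Curv2

namespace Groth.Agent.S18353

set_option backward.isDefEq.respectTransparency false


open CategoryTheory AlgebraicGeometry in
/-- Let S be an integral Noetherian scheme all of whose local rings are integrally closed domains, and
let f₁ : C₁ → S and f₂ : C₂ → S be flat, proper, locally finitely presented morphisms of schemes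
whose fibres are geometrically reduced and geometrically connected, all of Krull dimension one, and
whose fibres over the generic point of S are smooth. Let φ : C₁ → C₂ be a morphism over S which is
birational, in the sense that it restricts to an isomorphism over some dense open subset of C₂. Then
the canonical map O_{C₂} → φ_* O_{C₁} is an isomorphism: for every open V of C₂ the pull-back map
from sections over V to sections over φ⁻¹(V) is an isomorphism of rings. The total spaces are
schemes here; the source also allows algebraic spaces. -/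
theorem result (S C₁ C₂ : Scheme.{u}) [IsIntegral S]
    [IsNoetherian S] (hS : Pi1.IsNormalScheme S) (f₁ : C₁ ⟶ S) (f₂ : C₂ ⟶ S)
    [Flat f₁] [IsProper f₁] [LocallyOfFinitePresentation f₁] [GeometricallyReduced f₁] [GeometricallyConnected f₁]
    [Flat f₂] [IsProper f₂] [LocallyOfFinitePresentation f₂] [GeometricallyReduced f₂] [GeometricallyConnected f₂]
    (hdim₁ : ∀ s : ↥S, topologicalKrullDim ↥(f₁.fiber s) = 1) (hdim₂ : ∀ s : ↥S, topologicalKrullDim ↥(f₂.fiber s) = 1)
    (hsm₁ : Smooth (f₁.fiberToSpecResidueField (genericPoint ↥S)))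
    (hsm₂ : Smooth (f₂.fiberToSpecResidueField (genericPoint ↥S)))
    (φ : C₁ ⟶ C₂) (hφ : φ ≫ f₂ = f₁) (hbir : ∃ U : C₂.Opens, Dense (U : Set ↥C₂) ∧ IsIso (φ ∣_ U)) :
    ∀ V : C₂.Opens, IsIso (φ.app V) := by
  have hN₁ := Groth.Agent.S18352.result S C₁ hS f₁ hdim₁ hsm₁
  have hN₂ := Groth.Agent.S18352.result S C₂ hS f₂ hdim₂ hsm₂
  have hint : ∀ {C : Scheme.{u}} (f : C ⟶ S) [Flat f] [IsProper f] [LocallyOfFinitePresentation f]
      [GeometricallyConnected f], Pi1.IsNormalScheme C → IsIntegral C := by
    intro C f _ _ _ _ hN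
    haveI : IsLocallyNoetherian C := LocallyOfFiniteType.isLocallyNoetherian f
    haveI : CompactSpace ↥C := QuasiCompact.compactSpace_of_compactSpace f
    haveI : IsNoetherian C := { }
    haveI : ConnectedSpace ↥S := inferInstance
    haveI : ConnectedSpace ↥C := GeometricallyConnected.connectedSpace f f.isOpenMap
    exact GrothLib.Ref1.isIntegral_of_connected fun x => (hN x).1
  haveI : IsIntegral C₁ := hint f₁ hN₁
  haveI : IsIntegral C₂ := hint f₂ hN₂
  haveI : IsProper φ := by
    haveI : IsProper (φ ≫ f₂) := hφ ▸ inferInstance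
    exact IsProper.of_comp φ f₂
  obtain ⟨U, hU, hiso⟩ := hbir
  have hη₂ : genericPoint ↥C₂ ∈ U := by
    obtain ⟨y, hy⟩ := hU.nonempty
    exact (genericPoint_specializes y).mem_open U.2 hy
  let e := (φ ∣_ U).homeomorph
  obtain ⟨⟨z, hz⟩, hze⟩ : ∃ z : ↥(φ ⁻¹ᵁ U), (φ ∣_ U) z = ⟨genericPoint ↥C₂, hη₂⟩ :=
    ⟨e.symm ⟨_, hη₂⟩, e.apply_symm_apply _⟩
  have hη₁ : genericPoint ↥C₁ ∈ φ ⁻¹ᵁ U := (genericPoint_specializes z).mem_open (φ ⁻¹ᵁ U).2 hz
  have hgen : φ.base (genericPoint ↥C₁) = genericPoint ↥C₂ := by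
    have h1 : φ z = genericPoint ↥C₂ := by
      have := congrArg U.ι hze
      rw [← Scheme.Hom.comp_apply, morphismRestrict_ι] at this
      exact this
    refine ((genericPoint_specializes (φ (genericPoint ↥C₁))).antisymm ?_).eq.symm
    exact h1 ▸ (genericPoint_specializes z).map φ.continuous
  have hst : IsIso (φ.stalkMap (genericPoint ↥C₁)) :=
    (MorphismProperty.isomorphisms CommRingCat.{u}).arrow_mk_iso_iff
      (morphismRestrictStalkMap φ U ⟨_, hη₁⟩) |>.1 (inferInstanceAs (IsIso ((φ ∣_ U).stalkMap ⟨_, hη₁⟩)))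
  refine GrothLib.Stein.isIso_app_of_normal φ (specializes_of_eq hgen) (fun y => (hN₂ y).2) fun x _ => ?_
  obtain ⟨c, hc⟩ := (ConcreteCategory.bijective_of_isIso (φ.stalkMap (genericPoint ↥C₁))).2 x
  refine ⟨C₂.presheaf.stalkSpecializes (specializes_of_eq hgen.symm) c, ?_⟩
  show φ.stalkMap (genericPoint ↥C₁) (C₂.presheaf.stalkSpecializes _ (C₂.presheaf.stalkSpecializes _ c)) = x
  rw [TopCat.Presheaf.stalkSpecializes_comp_apply, TopCat.Presheaf.stalkSpecializes_refl]
  exact hc

end Groth.Agent.S18353
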