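import Groth.Statements.S18354
import Groth.Agent.Lib.FMAdj25.UniformVA
-- import your own Groth.Agent.* helpers here

set_option autoImplicit false
set_option maxHeartbeats 1000000
set_option linter.style.haveILetI false
set_option backward.isDefEq.respectTransparency false
universe u
open Curves

namespace Groth.Agent.S18354

open CategoryTheory CategoryTheory.Limits AlgebraicGeometry in
/-- For all natural numbers g and e there is a natural number D with the following property. For every
algebraically closed field k and every reduced, connected scheme X proper over k, of Krull dimension
one, with finitely many and at most e irreducible components and with dim_k H^1(X, O_X) = g, there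
is an invertible O_X-module L of degree at most D with H^1(X, L) = 0, together with a closed
immersion i of X into some projective space P^m_k over k with i^* O(1) ≅ L. The source phrases the
conclusion as the existence of an embedding of degree at most D and reduces it to this form at the
start of its proof; its genus is the arithmetic genus 1 − χ(O_X), which equals dim_k H^1(X, O_X) for
X reduced, connected and proper over an algebraically closed field. -/
theorem result (g e : ℕ) :
    ∃ D : ℕ, ∀ (k : Type u) [Field k] [IsAlgClosed k] (X : Scheme.{u}) [X.Over (Spec (CommRingCat.of k))]
      [IsProper (X ↘ Spec (CommRingCat.of k))] [IsReduced X] [ConnectedSpace ↥X],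
      topologicalKrullDim ↥X = 1 → (irreducibleComponents (↥X : Type u)).Finite →
      (irreducibleComponents (↥X : Type u)).ncard ≤ e → Curv2.genus k X = g →
      ∃ L : X.Modules, PicF.IsInvertible L ∧ Curv2.deg k X L 1 ≤ (D : ℤ) ∧ Subsingleton (Coh.HH X L 1) ∧
        ∃ (m : ℕ) (i : X ⟶ CohB1.ProjSpace m k), IsClosedImmersion i ∧
          i ≫ CohB1.ProjSpace.toSpec m k = X ↘ Spec (CommRingCat.of k) ∧
          Nonempty ((Scheme.Modules.pullback i).obj (Twist.twistProjSpace m k 1) ≅ L) := by
  refine ⟨e * (2 * g + 1), fun k _ _ X _ _ _ _ hdim hfin hcard hg => ?_⟩
  exact GrothLib.FMAdj25.exists_veryAmple_bounded (k := k) hdim g e hfin hcard hg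

end Groth.Agent.S18354
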