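import Groth.Statements.S18359
import Groth.Agent.Lib.SmLift3.Local
-- import your own Groth.Agent.* helpers here

set_option autoImplicit false
open CategoryTheory AlgebraicGeometry
universe u
open BlochOgus

namespace Groth.Agent.S18359

set_option linter.all false
set_option backward.isDefEq.respectTransparency false
open AlgebraicGeometry TopologicalSpace Opposite GrothLib.SmLift3

/-- Let i₁ : Z₁ → X₁ and i₂ : Z₂ → X₂ be closed immersions, f : X₂ → X₁ smooth of relative dimension n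
and g : Z₂ → Z₁ smooth of relative dimension e with i₂ ≫ f = g ≫ i₁, and let T be a finite set of
points of X₂ contained in one affine open of X₂; assume that e < n or that T lies in the image of
i₂. Then there are an open U ⊇ T of X₂ and a closed subscheme W of U through which Z₂ ∩ U factors,
such that W → X₁ is smooth and Z₂ ∩ U is the fibre product of W and Z₁ over X₁. (The published
statement concerns schemes separated and of finite type over a field or an excellent Dedekind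
domain; this row assumes no base. The published statement also lets the finite set lie anywhere in
X₂ and asks only that f and g be smooth; both relaxations fail over the family xy = t on the plane
with the origin removed, whose fibre over t = 0 is two disjoint punctured lines: with Z₂ one of
these lines and T one point on each line (so e = n = 1 and T leaves Z₂), or with Z₂ one line
together with a single point of the other line and T those two points (so g has relative dimension 1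
on one part of Z₂ and 0 on the other), any such W would have to be the whole irreducible
neighbourhood U. The relative dimensions are therefore taken constant, and the finite set is taken
inside Z₂ unless e < n, in which case the first local equation cutting out W can also be chosen
non-vanishing at the points of T off Z₂.) -/
theorem result
    (X₁ X₂ Z₁ Z₂ : Scheme.{u}) (i₁ : Z₁ ⟶ X₁) (i₂ : Z₂ ⟶ X₂)
    [IsClosedImmersion i₁] [IsClosedImmersion i₂]
    (f : X₂ ⟶ X₁) (g : Z₂ ⟶ Z₁) (n e : ℕ)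
    [SmoothOfRelativeDimension n f] [SmoothOfRelativeDimension e g]
    (hsq : i₂ ≫ f = g ≫ i₁)
    (T : Set X₂) (hT : T.Finite) (hcase : e < n ∨ T ⊆ Set.range i₂.base)
    (V : X₂.Opens) (hV : IsAffineOpen V) (hTV : T ⊆ (V : Set X₂)) :
    ∃ U : X₂.Opens, T ⊆ (U : Set X₂) ∧
      ∃ (W : Scheme.{u}) (k : W ⟶ (U : Scheme.{u}))
        (m : ((i₂ ⁻¹ᵁ U : Z₂.Opens) : Scheme.{u}) ⟶ W),
        IsClosedImmersion k ∧ m ≫ k = i₂ ∣_ U ∧ AlgebraicGeometry.Smooth (k ≫ U.ι ≫ f) ∧
          IsPullback m ((i₂ ⁻¹ᵁ U).ι ≫ g) (k ≫ U.ι ≫ f) i₁ := by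
  classical
  let q : V → Ideal Γ(X₂, V) := fun x => (hV.primeIdealOf x).asIdeal
  let Q : Set (Ideal Γ(X₂, V)) := (fun t : T => q ⟨t.1, hTV t.2⟩) '' Set.univ
  haveI : Finite T := hT.to_subtype
  have hQ : Q.Finite := Set.finite_univ.image _
  have hspec : ∀ x y : V, q x ≤ q y → (x : X₂) ⤳ (y : X₂) := fun x y h => by
    have h1 : hV.primeIdealOf x ⤳ hV.primeIdealOf y := (PrimeSpectrum.le_iff_specializes _ _).1 h
    have h2 := h1.map hV.fromSpec.continuous
    simpa only [hV.fromSpec_primeIdealOf] using h2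
  let ι := {P : Ideal Γ(X₂, V) // Maximal (· ∈ Q) P}
  haveI : Finite ι := (hQ.subset fun P hP => hP.1).to_subtype
  haveI : Fintype ι := Fintype.ofFinite ι
  choose τ hτ hτq using fun P : ι => P.2.1
  have hloc := fun P : ι => exists_local i₁ i₂ f g n e hsq hV (τ P).1 (hTV (τ P).2)
    (hcase.imp id fun h => h (τ P).2)
  choose β hβ hgood using hloc
  have hx : ∀ P P' : ι, P' ≠ P → ∃ x, x ∈ P'.1 ∧ x ∉ P.1 := fun P P' hne => by
    by_contra hc
    push_neg at hc
    exact hne (Subtype.ext (le_antisymm hc (P'.2.2 P.2.1 hc)))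
  choose x hx1 hx2 using hx
  let c : ι → Γ(X₂, V) := fun P => ∏ P' ∈ Finset.univ.erase P,
    (if h : P' = P then 1 else x P P' h)
  have hprime : ∀ P : ι, P.1.IsPrime := fun P => by rw [← hτq P]; exact (hV.primeIdealOf _).isPrime
  have hcmem : ∀ P P' : ι, P' ≠ P → c P ∈ P'.1 := fun P P' hne =>
    P'.1.prod_mem (Finset.mem_erase.2 ⟨hne, Finset.mem_univ _⟩) (by rw [dif_neg hne]; exact hx1 P P' hne)
  have hcnot : ∀ P : ι, c P ∉ P.1 := fun P hc => by
    haveI := hprime P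
    obtain ⟨P', hP', hmem⟩ := (Ideal.IsPrime.prod_mem_iff (p := P.1)).1 hc
    rw [dif_neg (Finset.ne_of_mem_erase hP')] at hmem
    exact hx2 P P' _ hmem
  let s : Fin (n - e) → Γ(X₂, V) := fun i => ∑ P, c P * β P i
  have hsI : ∀ i, s i ∈ i₂.ker.ideal ⟨V, hV⟩ := fun i => sum_mem fun P _ => Ideal.mul_mem_left _ _ (hβ P i)
  have hD : ∀ P : ι, ∃ D : X₂.affineOpens, (τ P).1 ∈ D.1 ∧ Good i₁ i₂ f s D := fun P => by
    obtain ⟨D, hD, hG⟩ := hgood P (c P) (fun h => hcnot P (hτq P ▸ h))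
      (fun i => ∑ P' ∈ Finset.univ.erase P, c P' * β P' i) (fun i => sum_mem fun P' hP' =>
        Ideal.mul_mem_mul (by
          have h := hcmem P' P (Finset.ne_of_mem_erase hP').symm
          rwa [← hτq P] at h) (hβ P' i))
    have he : (fun i => c P * β P i + ∑ P' ∈ Finset.univ.erase P, c P' * β P' i) = s :=
      funext fun i => Finset.add_sum_erase Finset.univ (fun P' => c P' * β P' i) (Finset.mem_univ P)
    exact ⟨D, hD, he ▸ hG⟩
  choose D hτD hGood using hD
  let U : X₂.Opens := ⨆ P, (D P).1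
  have hUV : U ≤ V := iSup_le fun P => by obtain ⟨_, _, hDV, _⟩ := hGood P; exact hDV
  refine ⟨U, fun t ht => ?_, ?_⟩
  · obtain ⟨P, hle, hP⟩ := hQ.exists_le_maximal (a := q ⟨t, hTV ht⟩) ⟨⟨t, ht⟩, Set.mem_univ _, rfl⟩
    have h1 := hspec ⟨t, hTV ht⟩ ⟨(τ ⟨P, hP⟩).1, hTV (τ ⟨P, hP⟩).2⟩ (hle.trans (hτq ⟨P, hP⟩).ge)
    exact Opens.mem_iSup.2 ⟨⟨P, hP⟩, h1.mem_open (D ⟨P, hP⟩).1.isOpen (hτD ⟨P, hP⟩)⟩
  refine GrothLib.SmLift3.glue i₁ (i₂ ∣_ U) (U.ι ≫ f) ((i₂ ⁻¹ᵁ U).ι ≫ g)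
    (by rw [morphismRestrict_ι_assoc, Category.assoc, hsq])
    (fun i => U.topIso.inv.hom ((X₂.presheaf.map (homOfLE hUV).op).hom (s i))) ?_
  intro y
  obtain ⟨P, hyP⟩ := Opens.mem_iSup.1 y.2
  have hDU : (D P).1 ≤ U := le_iSup (fun P => (D P).1) P
  let D' : (U : Scheme.{u}).affineOpens := ⟨U.ι ⁻¹ᵁ (D P).1,
    (D P).2.preimage_of_isOpenImmersion U.ι (by rw [Scheme.Opens.opensRange_ι]; exact hDU)⟩
  have himg : (⟨U.ι ''ᵁ D'.1, D'.2.image_of_isOpenImmersion _⟩ : X₂.affineOpens) = D P :=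
    Subtype.ext (by
      show U.ι ''ᵁ (U.ι ⁻¹ᵁ (D P).1) = _
      rw [Scheme.Hom.image_preimage_eq_opensRange_inf, Scheme.Opens.opensRange_ι]
      exact inf_eq_right.2 hDU)
  obtain ⟨U₁, e₁, hDV, hsm, hgen⟩ : Good i₁ i₂ f s ⟨U.ι ''ᵁ D'.1, D'.2.image_of_isOpenImmersion _⟩ :=
    himg ▸ hGood P
  have eY : D'.1 ≤ (U.ι ≫ f) ⁻¹ᵁ U₁.1 := fun z hz => e₁ ⟨z, hz, rfl⟩
  refine ⟨U₁, D', eY, hyP, ?_⟩
  have h1 : (U.ι ≫ f).appLE U₁.1 D'.1 eY = f.appLE U₁.1 (U.ι ''ᵁ D'.1) e₁ := by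
    rw [Scheme.Hom.comp_appLE, Scheme.Opens.ι_appLE]
    rfl
  have h2 : resFam (fun i => U.topIso.inv.hom ((X₂.presheaf.map (homOfLE hUV).op).hom (s i))) D'.1 =
      fun i => (X₂.presheaf.map (homOfLE hDV).op).hom (s i) := funext fun i => by
    show (X₂.presheaf.map _).hom ((X₂.presheaf.map _).hom ((X₂.presheaf.map _).hom (s i))) = _
    simp only [← CommRingCat.comp_apply, ← Functor.map_comp]
    rfl
  have h3 : (i₂ ∣_ U).ker.ideal D' = i₂.ker.ideal ⟨U.ι ''ᵁ D'.1, D'.2.image_of_isOpenImmersion _⟩ :=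
    Scheme.ker_morphismRestrict_ideal i₂ U D'
  suffices H : ∀ (φ : Γ(X₁, U₁.1) ⟶ Γ((U : Scheme.{u}), D'.1)) (w : Fin (n - e) → Γ((U : Scheme.{u}), D'.1)),
      φ = f.appLE U₁.1 (U.ι ''ᵁ D'.1) e₁ → w = (fun i => (X₂.presheaf.map (homOfLE hDV).op).hom (s i)) →
      RingHom.Smooth ((Ideal.Quotient.mk (Ideal.span (Set.range w))).comp φ.hom) ∧
      Set.range w ⊆ ((i₂ ∣_ U).ker.ideal D' : Set Γ((U : Scheme.{u}), D'.1)) ∧
      (i₂ ∣_ U).ker.ideal D' ≤ Ideal.span (Set.range w) ⊔ (i₁.ker.ideal U₁).map φ.hom from H _ _ h1 h2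
  rintro φ w rfl rfl
  rw [h3]
  refine ⟨hsm, ?_, hgen⟩
  rintro _ ⟨i, rfl⟩
  exact (i₂.ker.ideal_le_comap_ideal (U := ⟨U.ι ''ᵁ D'.1, D'.2.image_of_isOpenImmersion _⟩) (V := ⟨V, hV⟩) hDV) (hsI i)

end Groth.Agent.S18359
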