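import Groth.Statements.S18360
import Groth.Agent.Lib.SplitLift10.Main


set_option autoImplicit false
universe u
open CategoryTheory CategoryTheory.Limits AlgebraicGeometry
open Alter

namespace Groth.Agent.S18360

/-- Let Y be a Noetherian scheme, i : F ⟶ Y a closed immersion and s : F' ⟶ F a finite surjective
morphism. Then there are a scheme Y' and a finite surjective morphism g : Y' ⟶ Y such that every
irreducible component of F ×_Y Y', with its reduced closed-subscheme structure, is the source of an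
F-morphism to F': for every reduced scheme G and every closed immersion ι : G ⟶ F ×_Y Y' whose image
is an irreducible component, there is φ : G ⟶ F' with φ ≫ s = ι ≫ pr₁. -/
theorem result {Y F F' : Scheme.{u}} [IsNoetherian Y]
    (i : F ⟶ Y) [IsClosedImmersion i] (s : F' ⟶ F) [IsFinite s] [Surjective s] :
    ∃ (Y' : Scheme.{u}) (g : Y' ⟶ Y), IsFinite g ∧ Surjective g ∧
      ∀ (G : Scheme.{u}) (ι : G ⟶ pullback i g) [IsClosedImmersion ι] [AlgebraicGeometry.IsReduced G],
        Set.range ι.base ∈ irreducibleComponents ↥(pullback i g) →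
          ∃ φ : G ⟶ F', φ ≫ s = ι ≫ pullback.fst i g := by
  obtain ⟨Y', g, hg, hgs, hl⟩ := GrothLib.SplitLift10.exists_finite_surjective_lift i s
  refine ⟨Y', g, hg, hgs, fun G ι _ _ hG => ?_⟩
  haveI hir : IrreducibleSpace ↥G := by
    rw [irreducibleSpace_def]
    have h : IsIrreducible (Set.range ι.base) := hG.1
    obtain ⟨⟨_, z, rfl⟩, hp⟩ := h
    refine ⟨⟨z, trivial⟩, fun u v hu hv hu' hv' => ?_⟩
    obtain ⟨U', hU', rfl⟩ := ι.isEmbedding.isInducing.isOpen_iff.1 hu
    obtain ⟨V', hV', rfl⟩ := ι.isEmbedding.isInducing.isOpen_iff.1 hv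
    obtain ⟨a, -, ha⟩ := hu'
    obtain ⟨b, -, hb⟩ := hv'
    obtain ⟨_, ⟨c, rfl⟩, hc1, hc2⟩ := hp U' V' hU' hV' ⟨ι.base a, ⟨a, rfl⟩, ha⟩ ⟨ι.base b, ⟨b, rfl⟩, hb⟩
    exact ⟨c, trivial, hc1, hc2⟩
  haveI : IsIntegral G := isIntegral_of_irreducibleSpace_of_isReduced G
  exact hl (ι ≫ pullback.fst i g) (ι ≫ pullback.snd i g) (by rw [Category.assoc, Category.assoc, pullback.condition])


end Groth.Agent.S18360
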