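import Groth.Statements.S18362
import Groth.Agent.Lib.TameAbh21.PthRoot

set_option autoImplicit false
universe u
open SGA1t

namespace Groth.Agent.S18362

open GrothLib.TameAbh21 TensorProduct IsLocalRing

/-- A one-variable Kummer algebra is `A[t]/(t^m - f)`. -/
theorem adjoinRootEquiv {A : Type u} [CommRing A] (f : A) (m : ℕ) :
    Nonempty (SGA1.kummerAlg A (fun _ : Fin 1 => f) (fun _ : Fin 1 => m) ≃ₐ[A]
      AdjoinRoot (Polynomial.X ^ m - Polynomial.C f)) := by
  let q := Polynomial.X ^ m - Polynomial.C f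
  have hr : AdjoinRoot.root q ^ m = algebraMap A (AdjoinRoot q) f := by
    have h := AdjoinRoot.eval₂_root q
    rw [Polynomial.eval₂_sub, Polynomial.eval₂_X_pow, Polynomial.eval₂_C, sub_eq_zero] at h
    exact h
  let a := GrothLib.Kummer21.lift (f := fun _ : Fin 1 => f) (n := fun _ : Fin 1 => m)
    (fun _ => AdjoinRoot.root q) (fun _ => hr)
  let b : AdjoinRoot q →ₐ[A] SGA1.kummerAlg A (fun _ : Fin 1 => f) (fun _ : Fin 1 => m) :=
    AdjoinRoot.liftAlgHom q (Algebra.ofId A _) (GrothLib.Kummer21.root (fun _ : Fin 1 => f) (fun _ : Fin 1 => m) 0) (by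
      rw [Polynomial.eval₂_sub, Polynomial.eval₂_X_pow, Polynomial.eval₂_C, sub_eq_zero]
      exact GrothLib.Kummer21.root_pow (fun _ : Fin 1 => f) (fun _ : Fin 1 => m) 0)
  have h1 : a.comp b = AlgHom.id A _ := AdjoinRoot.algHom_ext (by
    rw [AlgHom.comp_apply, AdjoinRoot.liftAlgHom_root, GrothLib.Kummer21.lift_root]; rfl)
  have h2 : b.comp a = AlgHom.id A _ := GrothLib.Kummer21.algHom_ext fun i => by
    rw [AlgHom.comp_apply, GrothLib.Kummer21.lift_root, AlgHom.id_apply, Subsingleton.elim i 0]
    simp [b, q]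
  exact ⟨AlgEquiv.ofAlgHom a b h1 h2⟩

/-- Let A be a regular local ring which is henselian with separably closed residue field of
characteristic p > 0, and let f be an element of A such that A/(f) is a regular local ring in which
p is nonzero. Write A₁ = A[t]/(t^p - f) and let B be a finite étale algebra over A[1/f]. If there is
a finite étale A₁-algebra C₁ with C₁[1/f] isomorphic to A₁ ⊗_A B as A₁-algebras, then there is a
finite étale A-algebra C with C[1/f] isomorphic to B as A-algebras. The published statement also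
assumes the cover connected and tamely ramified along f = 0; this row assumes neither, tameness
being automatic here because the generic point of the divisor f = 0 has residue characteristic zero. -/
theorem result {A : Type u} [CommRing A]
    [IsRegularLocalRing A] [HenselianLocalRing A] [IsSepClosed (IsLocalRing.ResidueField A)]
    (p : ℕ) [Fact p.Prime] [CharP (IsLocalRing.ResidueField A) p] (f : A)
    (hreg : IsRegularLocalRing (A ⧸ Ideal.span {f})) (hp : (p : A) ∉ Ideal.span {f})
    (B : Type u) [CommRing B] [Algebra A B] [Algebra (Localization.Away f) B]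
    [IsScalarTower A (Localization.Away f) B] [Module.Finite (Localization.Away f) B]
    [Algebra.Etale (Localization.Away f) B]
    (h : ∃ (C₁ : Type u) (_ : CommRing C₁) (_ : Algebra (AdjoinRoot (Polynomial.X ^ p - Polynomial.C f)) C₁),
      Module.Finite (AdjoinRoot (Polynomial.X ^ p - Polynomial.C f)) C₁ ∧
      Algebra.Etale (AdjoinRoot (Polynomial.X ^ p - Polynomial.C f)) C₁ ∧
      Nonempty (Localization.Away (algebraMap (AdjoinRoot (Polynomial.X ^ p - Polynomial.C f)) C₁
          (AdjoinRoot.of (Polynomial.X ^ p - Polynomial.C f) f))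
        ≃ₐ[AdjoinRoot (Polynomial.X ^ p - Polynomial.C f)]
          TensorProduct A (AdjoinRoot (Polynomial.X ^ p - Polynomial.C f)) B)) :
    ∃ (C : Type u) (_ : CommRing C) (_ : Algebra A C), Module.Finite A C ∧ Algebra.Etale A C ∧
      Nonempty (Localization.Away (algebraMap A C f) ≃ₐ[A] B) := by
  classical
  haveI := GrothLib.CMFree.isDomain_of_isRegularLocalRing A
  haveI : Algebra.Etale A (Localization.Away f) := Algebra.Etale.of_isLocalizationAway f
  by_cases hf0 : f = 0
  · haveI : Subsingleton (Localization.Away f) :=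
      IsLocalization.subsingleton (M := Submonoid.powers f) (hf0 ▸ Submonoid.mem_powers f)
    haveI : Subsingleton B := Module.subsingleton (Localization.Away f) B
    haveI : Subsingleton (Localization.Away (algebraMap A (Localization.Away f) f)) :=
      IsLocalization.subsingleton (M := Submonoid.powers (algebraMap A (Localization.Away f) f))
        (by subst hf0; rw [map_zero]; exact Submonoid.mem_powers _)
    refine ⟨Localization.Away f, inferInstance, inferInstance, Module.Finite.of_finite, inferInstance, ⟨?_⟩⟩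
    exact { toFun := fun _ => 0, invFun := fun _ => 0, left_inv := fun _ => Subsingleton.elim _ _,
            right_inv := fun _ => Subsingleton.elim _ _, map_mul' := fun _ _ => Subsingleton.elim _ _,
            map_add' := fun _ _ => Subsingleton.elim _ _, commutes' := fun _ => Subsingleton.elim _ _ }
  have hfm : f ∈ maximalIdeal A := fun hu => hp (by rw [Ideal.span_singleton_eq_top.mpr hu]; trivial)
  have hfsq := not_mem_sq_of_regular_quotient hf0 hfm hreg
  haveI := hreg
  haveI := GrothLib.CMFree.isDomain_of_isRegularLocalRing (A ⧸ Ideal.span {f})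
  haveI hprime : (Ideal.span {f}).IsPrime := (Ideal.Quotient.isDomain_iff_prime _).mp inferInstance
  have hfp : Prime f := (Ideal.span_singleton_prime hf0).mp hprime
  haveI := GrothLib.RegUFD.ufd_of_isRegularLocalRing A
  have hm : ∀ i : Fin 1, (fun _ : Fin 1 => f) i ∈ maximalIdeal A := fun _ => hfm
  have hf : LinearIndependent (ResidueField A)
      (fun i : Fin 1 => (maximalIdeal A).toCotangent ⟨(fun _ : Fin 1 => f) i, hm i⟩) := by
    rw [linearIndependent_unique_iff, Ne, Ideal.toCotangent_eq_zero]
    exact hfsq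
  haveI : ∀ i : Fin 1, (Ideal.span {(fun _ : Fin 1 => f) i}).IsPrime := fun _ => hprime
  haveI : Algebra.Etale A B := Algebra.Etale.comp A (Localization.Away f) B
  have hu : IsUnit (algebraMap A B f) := by
    rw [IsScalarTower.algebraMap_apply A (Localization.Away f) B]
    exact (IsLocalization.Away.algebraMap_isUnit f).map _
  have hint : ∀ b : B, ∃ k : ℕ, IsIntegral A (f ^ k • b) := fun b => by
    obtain ⟨⟨_, k, rfl⟩, hk⟩ := IsIntegral.exists_multiple_integral_of_isLocalization (R := A)
      (Rₘ := Localization.Away f) (Submonoid.powers f) b (Algebra.IsIntegral.isIntegral b)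
    exact ⟨k, hk⟩
  have hpm : (p : A) ∈ maximalIdeal A := by
    rw [← residue_eq_zero_iff, map_natCast]; exact CharP.cast_eq_zero _ p
  have hpp : p.Prime := Fact.out
  obtain ⟨n, hn, hnu, E₂, _, _, hE₂f, hE₂e, ρ₂, hρ₂⟩ := absolute hm hf B
    (by rw [Fin.prod_univ_one]; exact hu) (fun b => by rw [Fin.prod_univ_one]; exact hint b)
    (isTameAlong_of_charZero (fun _ => hf0) hpp hpm (fun _ => hp))
  rw [Fin.prod_univ_one] at hρ₂
  haveI := hE₂f
  haveI := hE₂e
  have hpn : ¬ p ∣ n 0 := fun ⟨k, hk⟩ => (hnu 0).ne_zero (by rw [hk, Nat.cast_mul, CharP.cast_eq_zero, zero_mul])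
  -- the Kummer algebra of degree `n`
  haveI := GrothLib.Kummer21.finite_alg (f := fun _ : Fin 1 => f) hn
  haveI := GrothLib.Kummer21.isRegularLocalRing_alg hm hf hn
  haveI := GrothLib.CMFree.isDomain_of_isRegularLocalRing (SGA1.kummerAlg A (fun _ : Fin 1 => f) n)
  haveI := GrothLib.RegUFD.ufd_of_isRegularLocalRing (SGA1.kummerAlg A (fun _ : Fin 1 => f) n)
  obtain ⟨_, _⟩ := GrothLib.WLocal.strictlyHenselian_of_finite A (SGA1.kummerAlg A (fun _ : Fin 1 => f) n)
  -- the algebra of degree `p`
  obtain ⟨e⟩ := adjoinRootEquiv f p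
  have hp1 : ∀ _ : Fin 1, 1 ≤ p := fun _ => hpp.one_le
  haveI := GrothLib.Kummer21.finite_alg (f := fun _ : Fin 1 => f) (n := fun _ : Fin 1 => p) hp1
  haveI : Module.Finite A (AdjoinRoot (Polynomial.X ^ p - Polynomial.C f)) := Module.Finite.equiv e.toLinearEquiv
  haveI : IsRegularLocalRing (AdjoinRoot (Polynomial.X ^ p - Polynomial.C f)) := by
    haveI := GrothLib.Kummer21.isRegularLocalRing_alg hm hf (n := fun _ : Fin 1 => p) hp1
    exact IsRegularLocalRing.of_ringEquiv e.toRingEquiv
  haveI := GrothLib.CMFree.isDomain_of_isRegularLocalRing (AdjoinRoot (Polynomial.X ^ p - Polynomial.C f))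
  obtain ⟨_, _⟩ := GrothLib.WLocal.strictlyHenselian_of_finite A (AdjoinRoot (Polynomial.X ^ p - Polynomial.C f))
  have hinjR : Function.Injective (algebraMap A (AdjoinRoot (Polynomial.X ^ p - Polynomial.C f))) := by
    intro a b hab
    refine GrothLib.Kummer21.injective_algebraMap (f := fun _ : Fin 1 => f) (n := fun _ : Fin 1 => p) hp1 ?_
    exact e.injective (by rw [e.commutes, e.commutes]; exact hab)
  obtain ⟨C₁, _, _, hC₁f, hC₁e, ⟨θ⟩⟩ := h
  haveI := hC₁f
  haveI := hC₁e
  let ρ₁ : C₁ →ₐ[AdjoinRoot (Polynomial.X ^ p - Polynomial.C f)] AdjoinRoot (Polynomial.X ^ p - Polynomial.C f) ⊗[A] B :=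
    θ.toAlgHom.comp (IsScalarTower.toAlgHom _ C₁ _)
  have hρ₁ : @IsLocalization.Away C₁ _ (algebraMap (AdjoinRoot (Polynomial.X ^ p - Polynomial.C f)) C₁
      (algebraMap A (AdjoinRoot (Polynomial.X ^ p - Polynomial.C f)) f))
      (AdjoinRoot (Polynomial.X ^ p - Polynomial.C f) ⊗[A] B) _ ρ₁.toRingHom.toAlgebra := by
    letI := ρ₁.toRingHom.toAlgebra
    rw [show algebraMap A (AdjoinRoot (Polynomial.X ^ p - Polynomial.C f)) f = AdjoinRoot.of _ f from rfl]
    exact IsLocalization.isLocalization_of_algEquiv (Submonoid.powers _)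
      (AlgEquiv.ofRingEquiv (f := θ.toRingEquiv) fun c => rfl : _ ≃ₐ[C₁] _)
  obtain ⟨C, _, _, hCf, hCe, ρ, hρ⟩ := exists_extension_of_two_roots hfp hu hint hpp (hn 0) hpn
    hinjR (y := AdjoinRoot.root _) (by
      have h := AdjoinRoot.eval₂_root (Polynomial.X ^ p - Polynomial.C f)
      rw [Polynomial.eval₂_sub, Polynomial.eval₂_X_pow, Polynomial.eval₂_C, sub_eq_zero] at h
      exact h)
    AdjoinRoot.adjoinRoot_eq_top
    (fun L _ _ z hz => ⟨AdjoinRoot.liftAlgHom _ (Algebra.ofId A L) z (by
      rw [Polynomial.eval₂_sub, Polynomial.eval₂_X_pow, Polynomial.eval₂_C, sub_eq_zero]; exact hz),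
      by simp⟩)
    ρ₁ hρ₁ (GrothLib.Kummer21.injective_algebraMap (f := fun _ : Fin 1 => f) hn)
    (prime_root hm hf n hn 0) (GrothLib.Kummer21.root_pow _ n 0)
    ((congrArg (Algebra.adjoin A) (Set.range_unique (f := GrothLib.Kummer21.root (fun _ : Fin 1 => f) n)).symm).trans (GrothLib.Kummer21.adjoin_root (fun _ : Fin 1 => f) n))
    (fun L _ _ w hw => ⟨GrothLib.Kummer21.lift (fun _ => w) (fun i => by rw [Subsingleton.elim i 0]; exact hw),
      GrothLib.Kummer21.lift_root _ _ 0⟩)
    ρ₂ hρ₂
  letI := ρ.toRingHom.toAlgebra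
  haveI := hρ
  haveI : IsScalarTower A C B := IsScalarTower.of_algebraMap_eq fun a => (ρ.commutes a).symm
  exact ⟨C, inferInstance, inferInstance, hCf, hCe,
    ⟨(IsLocalization.algEquiv (Submonoid.powers (algebraMap A C f)) (Localization.Away (algebraMap A C f)) B).restrictScalars A⟩⟩

end Groth.Agent.S18362
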