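import Groth.Statements.S18363
import Mathlib
-- import your own Groth.Agent.* helpers here

set_option autoImplicit false
universe u
open CategoryTheory
open CAlg

namespace Groth.Agent.S18363

/-- Let R be a Noetherian local ring with maximal ideal m, and P, Q ideals of R such that P + Q contains
a power of m while R/P and R/Q are both reduced of Krull dimension one. Let I and J be nonzero
finitely generated R-modules with P·I = 0 and Q·J = 0, such that every element of R whose class in
R/P is a non-zero-divisor acts injectively on I, and every element whose class in R/Q is a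
non-zero-divisor acts injectively on J. Then the group Ext¹_R(I, J) is nonzero. (This is the stalk
statement behind the existence of a non-split extension of a torsion-free rank-one sheaf on a
subcurve Y by one on a subcurve Z of a reduced projective curve, at a point where Y and Z meet
without sharing a component; in that situation the modules moreover have rank one at the generic
points of their supports and P ∩ Q = 0, two assumptions the argument does not use.) -/
theorem result
    (R : Type u) [CommRing R] [IsNoetherianRing R] [IsLocalRing R]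
    (P Q : Ideal R) (hPQ : ∃ n : ℕ, IsLocalRing.maximalIdeal R ^ n ≤ P ⊔ Q)
    [IsReduced (R ⧸ P)] [IsReduced (R ⧸ Q)]
    (hPdim : ringKrullDim (R ⧸ P) = 1) (hQdim : ringKrullDim (R ⧸ Q) = 1)
    (I J : Type u) [AddCommGroup I] [Module R I] [Module.Finite R I] [Nontrivial I]
    [AddCommGroup J] [Module R J] [Module.Finite R J] [Nontrivial J]
    (hPI : ∀ p ∈ P, ∀ x : I, p • x = 0) (hQJ : ∀ q ∈ Q, ∀ y : J, q • y = 0)
    (hItf : ∀ r : R, Ideal.Quotient.mk P r ∈ nonZeroDivisors (R ⧸ P) → ∀ x : I, r • x = 0 → x = 0)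
    (hJtf : ∀ r : R, Ideal.Quotient.mk Q r ∈ nonZeroDivisors (R ⧸ Q) → ∀ y : J, r • y = 0 → y = 0) :
    Nontrivial (Abelian.Ext (ModuleCat.of R I) (ModuleCat.of R J) 1) := by
  obtain ⟨n, hn⟩ := hPQ
  have hne : Nontrivial (R ⧸ Q) := by
    rcases subsingleton_or_nontrivial (R ⧸ Q) with h | h
    · rw [ringKrullDim_eq_bot_of_subsingleton] at hQdim; simp at hQdim
    · exact h
  have hQtop : Q ≠ ⊤ := Ideal.Quotient.nontrivial_iff.1 hne
  have hQm := IsLocalRing.le_maximalIdeal hQtop
  -- the quotient ring is local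
  haveI : IsLocalRing (R ⧸ Q) :=
    IsLocalRing.of_surjective' (Ideal.Quotient.mk Q) Ideal.Quotient.mk_surjective
  haveI : Ring.KrullDimLE 1 (R ⧸ Q) := (Ring.krullDimLE_iff).2 hQdim.le
  obtain ⟨x, hxm, hxQ⟩ : ∃ x ∈ IsLocalRing.maximalIdeal R, Ideal.Quotient.mk Q x ∈ nonZeroDivisors (R ⧸ Q) := by
    by_contra hcon
    push Not at hcon
    have hmem : ∀ y ∈ IsLocalRing.maximalIdeal (R ⧸ Q), y ∉ nonZeroDivisors (R ⧸ Q) := by
      intro y hy
      obtain ⟨r, rfl⟩ := Ideal.Quotient.mk_surjective y
      refine hcon r ?_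
      rw [IsLocalRing.mem_maximalIdeal, mem_nonunits_iff] at hy ⊢
      exact fun h => hy (h.map _)
    have hsub : (IsLocalRing.maximalIdeal (R ⧸ Q) : Set (R ⧸ Q)) ⊆
        ⋃ p ∈ associatedPrimes (R ⧸ Q) (R ⧸ Q), (p : Set (R ⧸ Q)) := by
      intro y hy
      rw [biUnion_associatedPrimes_eq_zero_divisors]
      have := hmem y hy
      rw [mem_nonZeroDivisors_iff_right] at this
      push Not at this
      obtain ⟨z, hz, hz0⟩ := this
      exact ⟨z, hz0, by rw [smul_eq_mul, mul_comm]; exact hz⟩
    obtain ⟨p, hp, hle⟩ := (Ideal.subset_union_prime_finite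
      (associatedPrimes.finite (R ⧸ Q) (R ⧸ Q)) (f := id) ⊥ ⊥
      (fun p hp _ _ => hp.isPrime)).1 hsub
    obtain ⟨hpp, f, hf⟩ := (isAssociatedPrime_iff_exists_injective_linearMap _ _).1 hp
    have hpe : p = IsLocalRing.maximalIdeal (R ⧸ Q) :=
      le_antisymm (IsLocalRing.le_maximalIdeal hpp.ne_top) hle
    set a := f 1 with ha
    have hann : ∀ y ∈ IsLocalRing.maximalIdeal (R ⧸ Q), y * a = 0 := by
      intro y hy
      rw [ha, ← smul_eq_mul, ← map_smul]
      have : y • (1 : (R ⧸ Q) ⧸ p) = 0 := by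
        rw [Algebra.smul_def, mul_one]; exact Ideal.Quotient.eq_zero_iff_mem.2 (hpe ▸ hy)
      rw [this, map_zero]
    have ha0 : a ≠ 0 := by
      intro h0
      haveI := hpp
      exact one_ne_zero (hf (show f 1 = f 0 by rw [map_zero]; exact h0))
    by_cases hau : IsUnit a
    · have hb : IsLocalRing.maximalIdeal (R ⧸ Q) = ⊥ :=
        eq_bot_iff.2 fun y hy => hau.mul_left_eq_zero.1 (hann y hy)
      have hF : IsField (R ⧸ Q) := IsLocalRing.isField_iff_maximalIdeal_eq.2 hb
      rw [ringKrullDim_eq_zero_of_isField hF] at hQdim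
      exact absurd hQdim (by decide)
    · exact ha0 (IsReduced.eq_zero _ ⟨2, by rw [pow_two]; exact hann a hau⟩)
  have hinj : ∀ y : J, x • y = 0 → y = 0 := hJtf x hxQ
  have hinjpow : ∀ (k : ℕ) (y : J), x ^ k • y = 0 → y = 0 := by
    intro k
    induction k with
    | zero => simp
    | succ k ih => intro y hy; exact hinj y (ih _ (by rwa [← mul_smul, ← pow_succ]))
  have hhom : ∀ f : I →ₗ[R] J, f = 0 := by
    intro f
    ext i
    refine hinjpow n (f i) ?_
    obtain ⟨a, ha, b, hb, hab⟩ := Submodule.mem_sup.1 (hn (Ideal.pow_mem_pow hxm n))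
    rw [← hab, add_smul, ← map_smul, hPI a ha, map_zero, hQJ b hb, add_zero]
  let mx : J →ₗ[R] J := LinearMap.lsmul R J x
  let C := J ⧸ LinearMap.range mx
  have hCn : Nontrivial C := by
    rw [Submodule.Quotient.nontrivial_iff]
    intro h
    refine bot_ne_top (α := Submodule R J) (Eq.symm ?_)
    refine Submodule.eq_bot_of_le_smul_of_le_jacobson_bot (IsLocalRing.maximalIdeal R) ⊤ Module.Finite.fg_top ?_
      (IsLocalRing.maximalIdeal_le_jacobson _)
    rw [← h]
    rintro _ ⟨y, rfl⟩
    exact Submodule.smul_mem_smul hxm (h ▸ Submodule.mem_top)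
  obtain ⟨p, hp⟩ := associatedPrimes.nonempty R C
  obtain ⟨hpp, g, hg⟩ := (isAssociatedPrime_iff_exists_injective_linearMap _ _).1 hp
  have hkill : ∀ r : R, (∀ y : C, r • y = 0) → r ∈ p := by
    intro r hr
    have h1 : g (r • 1) = g 0 := by rw [map_smul, hr, map_zero]
    have := hg h1
    rw [Algebra.smul_def, mul_one] at this
    exact Ideal.Quotient.eq_zero_iff_mem.1 this
  have hQp : Q ≤ p := fun q hq => hkill q fun y => by
    obtain ⟨y, rfl⟩ := Submodule.Quotient.mk_surjective _ y
    rw [← Submodule.Quotient.mk_smul, hQJ q hq, Submodule.Quotient.mk_zero]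
  have hxp : x ∈ p := hkill x fun y => by
    obtain ⟨y, rfl⟩ := Submodule.Quotient.mk_surjective _ y
    rw [← Submodule.Quotient.mk_smul, Submodule.Quotient.mk_eq_zero]
    exact ⟨y, rfl⟩
  have hpm : p = IsLocalRing.maximalIdeal R := by
    have hpb : (p.map (Ideal.Quotient.mk Q)).IsPrime :=
      Ideal.map_isPrime_of_surjective Ideal.Quotient.mk_surjective (by simpa using hQp)
    have hnot : p.map (Ideal.Quotient.mk Q) ∉ minimalPrimes (R ⧸ Q) := fun hmin =>
      (Set.disjoint_left.1 (Ideal.disjoint_nonZeroDivisors_of_mem_minimalPrimes hmin)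
        (Ideal.mem_map_of_mem _ hxp)) hxQ
    have hmax : (p.map (Ideal.Quotient.mk Q)).IsMaximal :=
      ((Ring.krullDimLE_one_iff.1 inferInstance) (p.map (Ideal.Quotient.mk Q)) hpb).resolve_left hnot
    have := Ideal.comap_isMaximal_of_surjective (Ideal.Quotient.mk Q) Ideal.Quotient.mk_surjective (K := p.map (Ideal.Quotient.mk Q))
    rw [Ideal.comap_map_of_surjective _ Ideal.Quotient.mk_surjective, ← RingHom.ker_eq_comap_bot,
      Ideal.mk_ker, sup_eq_left.2 hQp] at this
    exact IsLocalRing.eq_maximalIdeal this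
  -- a surjection of I onto R ⧸ p
  obtain ⟨φ, hφ⟩ : ∃ φ : I →ₗ[R] R ⧸ p, Function.Surjective φ := by
    haveI : IsCoatomic (Submodule R I) :=
      CompleteLattice.coatomic_of_top_compact ((Submodule.fg_iff_compact _).1 Module.Finite.fg_top)
    obtain ⟨N, hN, -⟩ := (eq_top_or_exists_le_coatom (⊥ : Submodule R I)).resolve_left bot_ne_top
    obtain ⟨M, hM, ⟨e⟩⟩ := isSimpleModule_iff_quot_maximal.1 (isSimpleModule_iff_isCoatom.2 hN)
    have hMp : M = p := by rw [hpm]; exact IsLocalRing.eq_maximalIdeal hM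
    subst hMp
    exact ⟨e.toLinearMap ∘ₗ N.mkQ, e.surjective.comp N.mkQ_surjective⟩
  by_contra hcon
  rw [not_nontrivial_iff_subsingleton] at hcon
  let S : ShortComplex (ModuleCat.{u} R) :=
    ShortComplex.mk (ModuleCat.ofHom mx) (ModuleCat.ofHom (LinearMap.range mx).mkQ) (by
      ext y
      exact (Submodule.Quotient.mk_eq_zero _).2 ⟨y, rfl⟩)
  have hS : S.ShortExact := by
    refine ShortComplex.ShortExact.mk' ?_ ?_ ?_
    · rw [ShortComplex.moduleCat_exact_iff]
      intro y hy
      exact (Submodule.Quotient.mk_eq_zero (LinearMap.range mx)).1 hy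
    · rw [ModuleCat.mono_iff_injective]
      exact (injective_iff_map_eq_zero _).2 fun y hy => hinj y hy
    · rw [ModuleCat.epi_iff_surjective]
      exact Submodule.mkQ_surjective _
  let ψ : ModuleCat.of R I ⟶ S.X₃ := ModuleCat.ofHom (g ∘ₗ φ)
  obtain ⟨χ, hχ⟩ := Abelian.Ext.covariant_sequence_exact₃ (ModuleCat.of R I) hS (Abelian.Ext.mk₀ ψ) (zero_add 1)
    (Subsingleton.elim (α := Abelian.Ext (ModuleCat.of R I) (ModuleCat.of R J) 1) _ _)
  have hz : χ = 0 := Abelian.Ext.addEquiv₀.injective (by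
    rw [map_zero]
    exact ModuleCat.hom_ext (hhom _))
  rw [hz, Abelian.Ext.zero_comp] at hχ
  have hψ : ψ = 0 := (Abelian.Ext.mk₀_eq_zero_iff ψ).1 hχ.symm
  obtain ⟨i, hi⟩ := hφ 1
  have h0 : g 1 = g 0 := by
    have := congrArg (fun f => f.hom i) hψ
    simp only [ψ, ModuleCat.hom_ofHom, LinearMap.comp_apply, hi] at this
    rw [map_zero]; simpa using this
  haveI := hpp
  exact one_ne_zero (hg h0)

end Groth.Agent.S18363
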