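import Groth.Statements.S18364
import Mathlib
-- import your own Groth.Agent.* helpers here

set_option autoImplicit false
universe u
open CAlg

namespace Groth.Agent.S18364

/-- Let A be a Noetherian ring, π an element of A, and (𝔓_i)_{i ∈ ι} an injective finite family listing
exactly the minimal prime ideals over (π). Let M be a finitely generated A-module and M̄ = M/πM. For
a subset T of ι let K(T) ⊆ M̄ be the submodule of elements whose image in the localisation of M̄ at
𝔓_i is zero for every i ∈ T, and N(T) ⊆ M its preimage in M. Assume K(ι) = 0, i.e. no nonzero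
element of M̄ vanishes at all the minimal primes (every associated prime of M̄ is one of the 𝔓_i).
Then for every subset Y of ι with complement Z one has N(Y) ∩ N(Z) = πM, and the same construction
applied to the module N(Y) instead of M — the preimage in N(Y) of the elements of N(Y)/πN(Y)
vanishing at every 𝔓_i with i ∈ Z — is, as a submodule of M, equal to N(Y) ∩ N(Z). (Geometric
meaning: A is the local ring of a flat family of curves over a discrete valuation ring with
uniformizer π at a point of the reduced special fibre, M the stalk of a torsion-free rank-one sheaf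
I, Y a set of components of the special fibre through the point, and N(Y) the stalk of the kernel
I^Y of I → I(s)_Y; the statement is (I^Y)^Z = I^Y ∩ I^Z = πI. Reducedness of A/πA, flatness and rank
one are not used.) -/
theorem result
    (A : Type u) [CommRing A] [IsNoetherianRing A] (π : A)
    (ι : Type) [Finite ι] (𝔓 : ι → Ideal A) [∀ i, (𝔓 i).IsPrime]
    (h𝔓 : ∀ i, 𝔓 i ∈ (Ideal.span {π}).minimalPrimes) (h𝔓inj : Function.Injective 𝔓)
    (h𝔓surj : ∀ 𝔔 ∈ (Ideal.span {π}).minimalPrimes, ∃ i, 𝔓 i = 𝔔)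
    (M : Type u) [AddCommGroup M] [Module A M] [Module.Finite A M]
    (K : Set ι → Submodule A (M ⧸ Ideal.span {π} • (⊤ : Submodule A M)))
    (hK : ∀ T : Set ι, K T = ⨅ i ∈ T, LinearMap.ker
      (LocalizedModule.mkLinearMap (𝔓 i).primeCompl (M ⧸ Ideal.span {π} • (⊤ : Submodule A M))))
    (htf : K Set.univ = ⊥)
    (N : Set ι → Submodule A M)
    (hN : ∀ T : Set ι, N T = (K T).comap (Submodule.mkQ (Ideal.span {π} • (⊤ : Submodule A M))))
    (Y : Set ι) :
    N Y ⊓ N Yᶜ = Ideal.span {π} • (⊤ : Submodule A M) ∧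
    Submodule.map (N Y).subtype
      ((⨅ i ∈ Yᶜ, LinearMap.ker (LocalizedModule.mkLinearMap (𝔓 i).primeCompl
          (↥(N Y) ⧸ Ideal.span {π} • (⊤ : Submodule A ↥(N Y))))).comap
        (Submodule.mkQ (Ideal.span {π} • (⊤ : Submodule A ↥(N Y)))))
      = N Y ⊓ N Yᶜ := by
  classical
  let P := Ideal.span {π} • (⊤ : Submodule A M)
  have hmemK : ∀ (T : Set ι) (z : M ⧸ P), z ∈ K T ↔ ∀ i ∈ T, ∃ s ∉ 𝔓 i, s • z = 0 := by
    intro T z
    rw [hK]
    simp only [Submodule.mem_iInf, LinearMap.mem_ker]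
    refine forall₂_congr fun i _ => ?_
    rw [IsLocalizedModule.eq_zero_iff (𝔓 i).primeCompl]
    exact ⟨fun ⟨s, hs⟩ => ⟨s.1, s.2, hs⟩, fun ⟨s, h, hs⟩ => ⟨⟨s, h⟩, hs⟩⟩
  have h1 : N Y ⊓ N Yᶜ = P := by
    rw [hN, hN, ← Submodule.comap_inf]
    have : K Y ⊓ K Yᶜ = ⊥ := by
      rw [eq_bot_iff, ← htf]
      rintro z ⟨hz, hz'⟩
      rw [SetLike.mem_coe, hmemK] at hz hz'
      rw [hmemK]
      exact fun i _ => (em (i ∈ Y)).elim (hz i) (hz' i)
    rw [this, Submodule.comap_bot, Submodule.ker_mkQ]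
  refine ⟨h1, le_antisymm ?_ ?_⟩
  · rintro _ ⟨m, hm, rfl⟩
    refine ⟨m.2, ?_⟩
    simp only [SetLike.mem_coe] at hm ⊢
    rw [hN, Submodule.mem_comap, hmemK]
    intro i hi
    simp only [Submodule.mem_comap, Submodule.mem_iInf] at hm
    obtain ⟨⟨s, hs⟩, hsm⟩ :=
      (IsLocalizedModule.eq_zero_iff (𝔓 i).primeCompl _).1 (LinearMap.mem_ker.1 (hm i hi))
    rw [Submonoid.mk_smul, Submodule.mkQ_apply] at hsm
    refine ⟨s, hs, ?_⟩
    rw [← map_smul]
    refine (Submodule.Quotient.mk_eq_zero _).2 ?_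
    rw [← Submodule.Quotient.mk_smul, Submodule.Quotient.mk_eq_zero,
      Submodule.ideal_span_singleton_smul] at hsm
    obtain ⟨n, -, hn⟩ := hsm
    exact Submodule.ideal_span_singleton_smul π (⊤ : Submodule A M) ▸
      ⟨n.1, trivial, congrArg Subtype.val hn⟩
  · intro m hm
    refine ⟨⟨m, hm.1⟩, ?_, rfl⟩
    have hm2 : m ∈ Ideal.span {π} • (⊤ : Submodule A M) := by rw [h1] at hm; exact hm
    rw [Submodule.ideal_span_singleton_smul] at hm2
    obtain ⟨m', -, rfl⟩ := hm2
    simp only [SetLike.mem_coe, Submodule.mem_comap, Submodule.mem_iInf]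
    intro i hi
    have hsep : ∀ j, ∃ s ∉ 𝔓 i, j ∈ Y → ∃ t ∉ 𝔓 j, t • s • (Submodule.mkQ P m') = 0 := by
      intro j
      by_cases hj : j ∈ Y
      swap
      · exact ⟨1, fun h => (‹∀ i, (𝔓 i).IsPrime› i).ne_top ((Ideal.eq_top_iff_one _).2 h),
          fun h => absurd h hj⟩
      have hne : ¬ 𝔓 j ≤ 𝔓 i := fun hle => by
        have := (h𝔓 i).2 (⟨(h𝔓 j).1.1, (h𝔓 j).1.2⟩) hle
        exact hi (h𝔓inj (le_antisymm hle this) ▸ hj)
      obtain ⟨x, hxj, hxi⟩ := SetLike.not_le_iff_exists.1 hne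
      obtain ⟨t, ht, n, hn⟩ : ∃ t ∉ 𝔓 j, ∃ n : ℕ, t * x ^ n ∈ Ideal.span {π} := by
        by_contra hc
        push Not at hc
        let S : Submonoid A :=
          { carrier := {a | ∃ t ∉ 𝔓 j, ∃ n : ℕ, a = t * x ^ n}
            one_mem' := ⟨1, fun h => (‹∀ i, (𝔓 i).IsPrime› j).ne_top
              ((Ideal.eq_top_iff_one _).2 h), 0, by simp⟩
            mul_mem' := by
              rintro _ _ ⟨t, ht, n, rfl⟩ ⟨t', ht', n', rfl⟩
              exact ⟨t * t', fun h => ((‹∀ i, (𝔓 i).IsPrime› j).mem_or_mem h).elim ht ht',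
                n + n', by ring⟩ }
        obtain ⟨q, hq, hIq, hqS⟩ := Ideal.exists_le_prime_disjoint (Ideal.span {π}) S
          (Set.disjoint_left.2 fun a ha ⟨t, ht, n, e⟩ => hc t ht n (e ▸ ha))
        have hqj : q ≤ 𝔓 j := fun a ha => by
          by_contra haj
          exact Set.disjoint_left.1 hqS ha ⟨a, haj, 0, by simp⟩
        exact Set.disjoint_left.1 hqS ((h𝔓 j).2 ⟨hq, hIq⟩ hqj hxj)
          ⟨1, fun h => (‹∀ i, (𝔓 i).IsPrime› j).ne_top ((Ideal.eq_top_iff_one _).2 h), 1, by simp⟩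
      refine ⟨x ^ n, fun h => hxi ((‹∀ i, (𝔓 i).IsPrime› i).mem_of_pow_mem n h),
        fun _ => ⟨t, ht, ?_⟩⟩
      rw [smul_smul, ← map_smul]
      exact (Submodule.Quotient.mk_eq_zero _).2 (Submodule.smul_mem_smul hn trivial)
    choose s hs hst using hsep
    have := Fintype.ofFinite ι
    let S := ∏ j, s j
    have hS : S ∉ 𝔓 i := fun h => by
      obtain ⟨j, -, hj⟩ := (‹∀ i, (𝔓 i).IsPrime› i).prod_mem_iff.1 h
      exact hs j hj
    have hmem : S • m' ∈ N Y := by
      rw [hN, Submodule.mem_comap, hmemK]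
      intro j hj
      obtain ⟨t, ht, hts⟩ := hst j hj
      refine ⟨t, ht, ?_⟩
      rw [map_smul, show S = (∏ k ∈ Finset.univ.erase j, s k) * s j from
        (Finset.prod_erase_mul _ _ (Finset.mem_univ j)).symm, mul_smul, smul_comm, hts, smul_zero]
    refine LinearMap.mem_ker.2 ?_
    rw [IsLocalizedModule.eq_zero_iff (𝔓 i).primeCompl]
    have hS2 : S ∈ (𝔓 i).primeCompl := hS
    refine ⟨⟨S, hS2⟩, ?_⟩
    rw [Submonoid.mk_smul, ← map_smul]
    refine (Submodule.Quotient.mk_eq_zero _).2 ?_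
    rw [Submodule.ideal_span_singleton_smul]
    exact ⟨⟨S • m', hmem⟩, trivial, Subtype.ext (smul_comm π S m')⟩

end Groth.Agent.S18364
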