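import Groth.Statements.S18365
import Mathlib
-- import your own Groth.Agent.* helpers here

set_option autoImplicit false
universe u
open CAlg

namespace Groth.Agent.S18365

/-- Let A be a Noetherian ring, π an element of A, (𝔓_i)_{i ∈ ι} an injective finite family listing
exactly the minimal prime ideals over (π), and M a finitely generated A-module on which π acts
injectively; put M̄ = M/πM. For T ⊆ ι let K(T) ⊆ M̄ be the submodule of elements whose image in the
localisation of M̄ at 𝔓_i vanishes for every i ∈ T, and N(T) ⊆ M its preimage; assume K(ι) = 0.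
Suppose that M̄ decomposes at Y, i.e. K(Y) + K(Yᶜ) = M̄, and that for a subset Z the module
N(Y)/πN(Y) decomposes at Z, i.e. its submodule of elements vanishing at every 𝔓_i (i ∈ Z) and its
submodule of elements vanishing at every 𝔓_i (i ∉ Z) together span it. Then M̄ decomposes at Z: K(Z)
+ K(Zᶜ) = M̄. (Geometric meaning: for a flat family of curves over a discrete valuation ring with
uniformizer π, I a torsion-free rank-one sheaf flat over the base, Y a subcurve of the special fibre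
X(s) at which I(s) decomposes and I^Y = ker(I → I(s)_Y): if I^Y(s) decomposes at a subcurve Z then
so does I(s); decomposition of a sheaf at Z is the surjectivity of I(s) → I(s)_Z ⊕ I(s)_{Z^c},
checked on stalks. Reducedness of the special fibre and rank one are not used.) -/
theorem result
    (A : Type u) [CommRing A] [IsNoetherianRing A] (π : A)
    (ι : Type) [Finite ι] (𝔓 : ι → Ideal A) [∀ i, (𝔓 i).IsPrime]
    (h𝔓 : ∀ i, 𝔓 i ∈ (Ideal.span {π}).minimalPrimes) (h𝔓inj : Function.Injective 𝔓)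
    (h𝔓surj : ∀ 𝔔 ∈ (Ideal.span {π}).minimalPrimes, ∃ i, 𝔓 i = 𝔔)
    (M : Type u) [AddCommGroup M] [Module A M] [Module.Finite A M]
    (hπ : ∀ m : M, π • m = 0 → m = 0)
    (K : Set ι → Submodule A (M ⧸ Ideal.span {π} • (⊤ : Submodule A M)))
    (hK : ∀ T : Set ι, K T = ⨅ i ∈ T, LinearMap.ker
      (LocalizedModule.mkLinearMap (𝔓 i).primeCompl (M ⧸ Ideal.span {π} • (⊤ : Submodule A M))))
    (htf : K Set.univ = ⊥)
    (N : Set ι → Submodule A M)
    (hN : ∀ T : Set ι, N T = (K T).comap (Submodule.mkQ (Ideal.span {π} • (⊤ : Submodule A M))))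
    (Y Z : Set ι) (hY : K Y ⊔ K Yᶜ = ⊤)
    (K' : Set ι → Submodule A (↥(N Y) ⧸ Ideal.span {π} • (⊤ : Submodule A ↥(N Y))))
    (hK' : ∀ T : Set ι, K' T = ⨅ i ∈ T, LinearMap.ker
      (LocalizedModule.mkLinearMap (𝔓 i).primeCompl (↥(N Y) ⧸ Ideal.span {π} • (⊤ : Submodule A ↥(N Y)))))
    (hZ : K' Z ⊔ K' Zᶜ = ⊤) :
    K Z ⊔ K Zᶜ = ⊤ := by
  classical
  have hπM : ∀ x : M, π • x ∈ Ideal.span {π} • (⊤ : Submodule A M) := fun x =>
    Submodule.smul_mem_smul (Ideal.mem_span_singleton_self π) trivial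
  have hmem : ∀ (T : Set ι) (x : M), x ∈ N T ↔
      ∀ i ∈ T, ∃ s ∉ 𝔓 i, s • x ∈ Ideal.span {π} • (⊤ : Submodule A M) := by
    intro T x
    rw [hN, hK]
    simp only [Submodule.mem_comap, Submodule.mem_iInf, LinearMap.mem_ker, Submodule.mkQ_apply]
    refine forall₂_congr fun i _ => ?_
    rw [IsLocalizedModule.eq_zero_iff (𝔓 i).primeCompl]
    refine ⟨fun ⟨s, hs⟩ => ⟨s.1, s.2, ?_⟩, fun ⟨s, h, hs⟩ => ?_⟩
    · rwa [Submonoid.smul_def, ← Submodule.Quotient.mk_smul, Submodule.Quotient.mk_eq_zero] at hs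
    · have h2 : s ∈ (𝔓 i).primeCompl := h
      refine ⟨⟨s, h2⟩, ?_⟩
      rw [Submonoid.mk_smul, ← Submodule.Quotient.mk_smul, Submodule.Quotient.mk_eq_zero]
      exact hs
  have hmem' : ∀ (T : Set ι) (x : ↥(N Y)), Submodule.Quotient.mk x ∈ K' T →
      ∀ i ∈ T, ∃ s ∉ 𝔓 i, ∃ n ∈ N Y, s • (x : M) = π • n := by
    intro T x hx i hi
    rw [hK'] at hx
    simp only [Submodule.mem_iInf, LinearMap.mem_ker] at hx
    obtain ⟨s, hs⟩ := (IsLocalizedModule.eq_zero_iff (𝔓 i).primeCompl _).1 (hx i hi)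
    rw [Submonoid.smul_def, ← Submodule.Quotient.mk_smul, Submodule.Quotient.mk_eq_zero,
      Submodule.ideal_span_singleton_smul] at hs
    obtain ⟨n, -, hn⟩ := hs
    exact ⟨s.1, s.2, n.1, n.2, (congrArg Subtype.val hn).symm⟩
  have hdec : ∀ x : M, ∃ a ∈ N Y, ∃ b ∈ N Yᶜ, x = a + b := by
    intro x
    have hx : Submodule.Quotient.mk x ∈ K Y ⊔ K Yᶜ := by rw [hY]; trivial
    obtain ⟨a', ha', b', hb', hab⟩ := Submodule.mem_sup.1 hx
    obtain ⟨a, rfl⟩ := Submodule.Quotient.mk_surjective _ a'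
    obtain ⟨b, rfl⟩ := Submodule.Quotient.mk_surjective _ b'
    rw [← Submodule.Quotient.mk_add, Submodule.Quotient.eq] at hab
    refine ⟨a, by rw [hN]; exact ha', x - a, ?_, (add_sub_cancel a x).symm⟩
    have e : x - a = b - (a + b - x) := by abel
    rw [e]
    refine sub_mem (by rw [hN]; exact hb') ?_
    rw [hN, Submodule.mem_comap, Submodule.mkQ_apply, (Submodule.Quotient.mk_eq_zero _).2 hab]
    exact zero_mem _
  have hdecY : ∀ x ∈ N Y, ∃ (u v w : ↥(N Y)), Submodule.Quotient.mk u ∈ K' Z ∧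
      Submodule.Quotient.mk v ∈ K' Zᶜ ∧ x = u + v + π • (w : M) := by
    intro x hx
    have hx' : Submodule.Quotient.mk (⟨x, hx⟩ : ↥(N Y)) ∈ K' Z ⊔ K' Zᶜ := by rw [hZ]; trivial
    obtain ⟨a', ha', b', hb', hab⟩ := Submodule.mem_sup.1 hx'
    obtain ⟨u, rfl⟩ := Submodule.Quotient.mk_surjective _ a'
    obtain ⟨v, rfl⟩ := Submodule.Quotient.mk_surjective _ b'
    rw [← Submodule.Quotient.mk_add, eq_comm, Submodule.Quotient.eq,
      Submodule.ideal_span_singleton_smul] at hab
    obtain ⟨w, -, hw⟩ := hab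
    refine ⟨u, v, w, ha', hb', ?_⟩
    have hw' : π • (w : M) = x - ((u : M) + v) := congrArg Subtype.val hw
    rw [hw']
    abel
  let S := N Z ⊔ N Zᶜ
  have hle : ∀ T, Ideal.span {π} • (⊤ : Submodule A M) ≤ N T := by
    intro T z hz
    rw [hN, Submodule.mem_comap, Submodule.mkQ_apply, (Submodule.Quotient.mk_eq_zero _).2 hz]
    exact zero_mem _
  have hNY : ∀ x ∈ N Y, x ∈ S := by
    intro x hx
    obtain ⟨u, v, w, hu, hv, rfl⟩ := hdecY x hx
    refine add_mem (add_mem (Submodule.mem_sup_left ?_) (Submodule.mem_sup_right ?_))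
      (Submodule.mem_sup_left (hle _ (hπM _)))
    all_goals rw [hmem]; intro i hi
    · obtain ⟨s, hs, n, -, hn⟩ := hmem' _ u hu i hi; exact ⟨s, hs, hn ▸ hπM _⟩
    · obtain ⟨s, hs, n, -, hn⟩ := hmem' _ v hv i hi; exact ⟨s, hs, hn ▸ hπM _⟩
  have hall : ∀ y : M, y ∈ S := by
    intro y
    obtain ⟨a, ha, b, hb, rfl⟩ := hdec y
    refine add_mem (hNY a ha) ?_
    obtain ⟨u, v, w, hu, hv, huv⟩ := hdecY (π • b) (hle _ (hπM _))
    -- `u` and `v` lie in `π M`
    have huP : ∀ i, ∃ s ∉ 𝔓 i, s • (u : M) ∈ Ideal.span {π} • (⊤ : Submodule A M) := by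
      intro i
      by_cases hi : i ∈ Z
      · obtain ⟨s, hs, n, -, hn⟩ := hmem' _ u hu i hi; exact ⟨s, hs, hn ▸ hπM _⟩
      · obtain ⟨s, hs, n, -, hn⟩ := hmem' _ v hv i hi
        refine ⟨s, hs, ?_⟩
        have e : s • (u : M) = s • (π • (b - (w : M))) - s • (v : M) := by
          rw [smul_sub π, huv, ← smul_sub]
          congr 1
          abel
        rw [e, hn]
        exact sub_mem (Submodule.smul_mem _ _ (hπM _)) (hπM _)
    have huniv : (u : M) ∈ Ideal.span {π} • (⊤ : Submodule A M) := by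
      have : (u : M) ∈ N Set.univ := (hmem _ _).2 fun i _ => huP i
      rw [hN, htf, Submodule.mem_comap, Submodule.mem_bot, Submodule.mkQ_apply,
        Submodule.Quotient.mk_eq_zero] at this
      exact this
    rw [Submodule.ideal_span_singleton_smul] at huniv
    obtain ⟨u', -, hu'⟩ := huniv
    have hu'e : π • u' = (u : M) := hu'
    have hbuv : b = u' + (b - u' - (w : M)) + (w : M) := by abel
    have hv' : π • (b - u' - (w : M)) = (v : M) := by
      rw [smul_sub, smul_sub, hu'e, huv]; abel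
    -- an element `z` with `π z` the lift of a class of `K' T` is in `N Y + N T`
    have key : ∀ (T : Set ι) (z : M) (t : ↥(N Y)), π • z = (t : M) →
        Submodule.Quotient.mk t ∈ K' T → (∀ x ∈ N T, x ∈ S) → z ∈ S := by
      intro T z t hzt ht hT
      obtain ⟨a', ha', b', hb', rfl⟩ := hdec z
      refine add_mem (hNY _ ha') (hT _ ((hmem _ _).2 fun i hi => ?_))
      by_cases hiY : i ∈ Y
      · obtain ⟨s, hs, n, hn, hsn⟩ := hmem' T t ht i hi
        obtain ⟨s₁, hs₁, hn₁⟩ := (hmem _ _).1 hn i hiY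
        obtain ⟨s₂, hs₂, hn₂⟩ := (hmem _ _).1 ha' i hiY
        refine ⟨s₂ * s₁ * s, fun h => ?_, ?_⟩
        · rcases (‹∀ i, (𝔓 i).IsPrime› i).mem_or_mem h with h | h
          · exact ((‹∀ i, (𝔓 i).IsPrime› i).mem_or_mem h).elim hs₂ hs₁
          · exact hs h
        have e : s • (a' + b') = n := by
          have h0 : π • (s • (a' + b') - n) = 0 := by
            rw [smul_sub, smul_comm, hzt, hsn, sub_self]
          exact sub_eq_zero.1 (hπ _ h0)
        have e2 : (s₂ * s₁ * s) • b' = s₂ • (s₁ • n) - (s₁ * s) • (s₂ • a') := by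
          rw [← e, smul_add, smul_add, smul_add]
          simp only [smul_smul]
          rw [show s₁ * s * s₂ = s₂ * (s₁ * s) by ring, show s₂ * s₁ * s = s₂ * (s₁ * s) by ring]
          abel
        rw [e2]
        exact sub_mem (Submodule.smul_mem _ _ hn₁) (Submodule.smul_mem _ _ hn₂)
      · exact (hmem _ _).1 hb' i hiY
    rw [hbuv]
    exact add_mem (add_mem (key Z u' u hu'e hu fun x hx => Submodule.mem_sup_left hx)
      (key Zᶜ _ v hv' hv fun x hx => Submodule.mem_sup_right hx)) (hNY _ w.2)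
  rw [eq_top_iff]
  intro z _
  obtain ⟨y, rfl⟩ := Submodule.Quotient.mk_surjective _ z
  obtain ⟨a, ha, b, hb, rfl⟩ := Submodule.mem_sup.1 (hall y)
  rw [hN] at ha hb
  rw [Submodule.Quotient.mk_add]
  exact Submodule.add_mem_sup ha hb

end Groth.Agent.S18365
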