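import Groth.Agent.S1550
import Groth.Agent.Lib.SepPts.SmoothDense
import Groth.Agent.Lib.GenericSmooth.Basic

set_option autoImplicit false
universe u
open CategoryTheory CategoryTheory.Limits AlgebraicGeometry
open TopologicalSpace
attribute [local instance] Curv2.resAlgebra

namespace Groth.Agent.S18366

/-- Let k be a separably closed field and X a non-empty k-scheme of finite type which is geometrically
reduced. Then X has a k-rational point, i.e. the structure morphism admits a section. (Non-emptiness
is part of the hypotheses: the empty scheme is geometrically reduced of finite type and has no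
point. The published statement does not assume X non-empty; this row does, since the empty scheme
has no rational point.) -/
theorem result (k : Type u) [Field k] [IsSepClosed k]
    {X : Scheme.{u}} (f : X ⟶ Spec (CommRingCat.of k)) [LocallyOfFiniteType f] [QuasiCompact f] [GeometricallyReduced f]
    [Nonempty X] :
    ∃ s : Spec (CommRingCat.of k) ⟶ X, s ≫ f = 𝟙 (Spec (CommRingCat.of k)) := by
  haveI : LocallyOfFinitePresentation f :=
    LocallyOfFinitePresentation.iff_locallyOfFiniteType.mpr inferInstance
  obtain ⟨x₀, hx₀⟩ : (f.smoothLocus : Set X).Nonempty := (GrothLib.SepPts.dense_smoothLocus f).nonempty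
  let W : Scheme.{u} := f.smoothLocus
  letI : W.Over (Spec (CommRingCat.of k)) := ⟨f.smoothLocus.ι ≫ f⟩
  haveI : Smooth (W ↘ Spec (CommRingCat.of k)) := GrothLib.GenericSmooth.smooth_smoothLocus_ι_comp f
  haveI : Nonempty W := ⟨⟨x₀, hx₀⟩⟩
  obtain ⟨x, -, hfin, hsep⟩ := (Groth.Agent.S1550.result k W).nonempty
  have hb : Function.Bijective (Curv2.resMap k W x) :=
    ⟨RingHom.injective _, IsSepClosed.algebraMap_surjective k (W.residueField x)⟩
  refine ⟨Spec.map (CommRingCat.ofHom (RingEquiv.ofBijective _ hb).symm.toRingHom) ≫
    W.fromSpecResidueField x ≫ f.smoothLocus.ι, ?_⟩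
  rw [Category.assoc, Category.assoc, show f.smoothLocus.ι ≫ f = W ↘ Spec (CommRingCat.of k) from rfl,
    ← GrothLib.AffDom.SpecMap_toRes (K := k), ← Groth.Agent.S1550.resMap_eq, ← Spec.map_comp, ← Spec.map_id]
  congr 1
  ext c
  exact (RingEquiv.ofBijective _ hb).symm_apply_apply c

end Groth.Agent.S18366
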