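import Groth.Statements.S18369
-- import your own Groth.Agent.* helpers here
import Groth.Agent.Lib.Cube.MulFinite
import Groth.Agent.Lib.Cube.Square
import Groth.Agent.Lib.Kodaira.Cones
import Groth.Agent.Lib.Ample25.FiniteSurjective
import Groth.Agent.Lib.Ample.RelAmple
import Groth.Agent.Lib.Rigidity.SmoothGroup

set_option autoImplicit false
universe u
open CategoryTheory CategoryTheory.Limits MonoidalCategory CartesianMonoidalCategory MonObj GrpObj AlgebraicGeometry
open AbVar

namespace Groth.Agent.S18369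

/-- Let k be a field, A an abelian variety over k (a proper smooth k-group scheme with geometrically
connected fibres) with group law m : A × A → A and projections p₁, p₂, L an ample invertible
O_A-module, and N an invertible O_A-module whose class lies in the dual abelian variety, expressed
as m^*N ≅ p₁^*N ⊗ p₂^*N. Then L ⊗ N is again ample; so ampleness of an invertible module on A
depends only on its class modulo Pic⁰. -/
theorem result (k : Type u) [Field k]
    (A : Over (Spec (CommRingCat.of k))) [GrpObj A] [IsProper A.hom] [Smooth A.hom] [GeometricallyConnected A.hom]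
    (L N : A.left.Modules) (hL : CohB1.IsAmple L) (hN : PicF.IsInvertible N)
    (hN0 : Nonempty ((Scheme.Modules.pullback μ[A].left).obj N ≅
      CohB1.tensorMod ((Scheme.Modules.pullback (fst A A).left).obj N) ((Scheme.Modules.pullback (snd A A).left).obj N))) :
    CohB1.IsAmple (CohB1.tensorMod L N) := by
  haveI : GeometricallyIntegral A.hom := GrothLib.Rigidity.geometricallyIntegral_of_smooth A
  haveI : CompactSpace A.left := QuasiCompact.compactSpace_of_compactSpace A.hom
  haveI := GrothLib.Cube.isCommMonObj_abVar (A := A)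
  set l := GrothLib.Cube.clsMod hL.1
  set ν := GrothLib.Cube.clsMod hN
  have hcl : GrothLib.Cube.HasCls L l := GrothLib.Cube.hasCls_clsMod hL.1
  have hcn : GrothLib.Cube.HasCls N ν := GrothLib.Cube.hasCls_clsMod hN
  have hμ : GrothLib.Cube.pull μ[A].left ν =
      GrothLib.Cube.pull (fst A A).left ν * GrothLib.Cube.pull (snd A A).left ν :=
    (hcn.pullback μ[A].left).eq ((hcn.pullback (fst A A).left).tensor (hcn.pullback (snd A A).left)) hN0
  have hadd : ∀ f g : A ⟶ A,
      GrothLib.Cube.pull (f * g).left ν = GrothLib.Cube.pull f.left ν * GrothLib.Cube.pull g.left ν := by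
    intro f g
    rw [Hom.mul_def, ← GrothLib.Cube.pull_pull_over, hμ, map_mul, GrothLib.Cube.pull_pull_over,
      GrothLib.Cube.pull_pull_over, lift_fst, lift_snd]
  have hνn : ∀ n : ℕ, GrothLib.Cube.pull (𝟙 A ^ n).left ν = ν ^ n := by
    intro n
    induction n with
    | zero => rw [pow_zero, GrothLib.Cube.pull_one_hom]; rfl
    | succ m ih => rw [pow_succ, hadd, ih, GrothLib.Cube.pull_over_id, pow_succ]
  obtain ⟨s, hsdef⟩ : ∃ s, s = l * GrothLib.Cube.pull (𝟙 A)⁻¹.left l := ⟨_, rfl⟩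
  have hrec : ∀ m : ℕ, GrothLib.Cube.pull (𝟙 A ^ (m + 1 + 1)).left l * GrothLib.Cube.pull (𝟙 A ^ m).left l =
      GrothLib.Cube.pull (𝟙 A ^ (m + 1)).left l ^ 2 * s := by
    intro m
    have h := GrothLib.Cube.cubeClass_eq_one (𝟙 A ^ (m + 1)) (𝟙 A) (𝟙 A)⁻¹ l
    rw [GrothLib.Cube.cubeClass, mul_inv_cancel_right, mul_inv_cancel, GrothLib.Cube.pull_one_hom, mul_inv_eq_one,
      ← pow_succ, show (𝟙 A : A ⟶ A) ^ (m + 1) * (𝟙 A)⁻¹ = 𝟙 A ^ m by rw [pow_succ, mul_inv_cancel_right],
      GrothLib.Cube.pull_over_id, _root_.mul_one] at h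
    rw [← h, pow_two, hsdef]
    simp only [_root_.mul_assoc]
  have htri : ∀ n, GrothLib.Cube.pull (𝟙 A ^ n).left l = l ^ n * s ^ (∑ i ∈ Finset.range n, i) := by
    intro n
    induction n using Nat.twoStepInduction with
    | zero => rw [pow_zero, GrothLib.Cube.pull_one_hom]; simp
    | one => rw [pow_one, GrothLib.Cube.pull_over_id]; simp
    | more m h0 h1 =>
      show GrothLib.Cube.pull (𝟙 A ^ (m + 1 + 1)).left l = l ^ (m + 1 + 1) * s ^ (∑ i ∈ Finset.range (m + 1 + 1), i)
      apply mul_right_cancel (b := GrothLib.Cube.pull (𝟙 A ^ m).left l)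
      rw [hrec, h1, h0, Finset.sum_range_succ, Finset.sum_range_succ, mul_pow, ← pow_mul, ← pow_mul,
        _root_.mul_assoc, ← pow_succ, _root_.mul_mul_mul_comm, ← pow_add, ← pow_add]
      congr 2 <;> (try simp only [Finset.sum_range_succ]) <;> ring
  haveI : IsIso ((𝟙 A : A ⟶ A)⁻¹).left := by
    have h2 : (𝟙 A : A ⟶ A)⁻¹ ≫ (𝟙 A)⁻¹ = 𝟙 A := by rw [GrpObj.comp_inv, Category.comp_id, _root_.inv_inv]
    refine ⟨⟨((𝟙 A : A ⟶ A)⁻¹).left, ?_, ?_⟩⟩ <;> rw [← Over.comp_left, h2, Over.id_left]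
  let L' := (Scheme.Modules.pullback ((𝟙 A : A ⟶ A)⁻¹).left).obj L
  have hS : CohB1.IsAmple (CohB1.tensorMod L L') :=
    GrothLib.Ample.isAmple_tensorMod hL (GrothLib.Ample.isAmple_pullback_of_isAffineHom _ hL)
  have hcs : GrothLib.Cube.HasCls (CohB1.tensorMod L L') s := hsdef ▸ hcl.tensor (hcl.pullback _)
  have hLN : PicF.IsInvertible (CohB1.tensorMod L N) := GrothLib.Ample.isInvertible_tensorMod hL.1 hN
  have hcLN : GrothLib.Cube.HasCls (CohB1.tensorMod L N) (l * ν) := hcl.tensor hcn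
  obtain ⟨j₀, hj₀⟩ := GrothLib.Kodaira.exists_isAmple_pow_tensor hS hLN
  have hM := hj₀ j₀ le_rfl
  have hcM := (hcs.tensorPow j₀).tensor hcLN
  let n := 2 * j₀ + 1
  have hn : n ≠ 0 := Nat.succ_ne_zero _
  have hsum : (∑ i ∈ Finset.range n, i) = j₀ * n := by
    have := Finset.sum_range_id_mul_two n
    rw [show n - 1 = 2 * j₀ from rfl] at this
    nlinarith
  have hamp := (GrothLib.Ample.isAmple_tensorPow_iff hM.1 (Nat.pos_of_ne_zero hn)).1 hM
  have key : GrothLib.Cube.pull (𝟙 A ^ n).left (l * ν) = (s ^ j₀ * (l * ν)) ^ n := by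
    rw [map_mul, htri, hνn, hsum, mul_pow, mul_pow, ← pow_mul, _root_.mul_assoc]
    exact mul_left_comm _ _ _
  obtain ⟨e⟩ := (hcLN.pullback ((𝟙 A : A ⟶ A) ^ n).left).iso (hcM.tensorPow n) key
  haveI := GrothLib.Cube.isFinite_pow A hn
  haveI := GrothLib.Cube.surjective_pow A hn
  letI : A.left.Over (Spec (CommRingCat.of k)) := ⟨A.hom⟩
  haveI : IsProper (A.left ↘ Spec (CommRingCat.of k)) := ‹IsProper A.hom›
  exact GrothLib.Ample25.isAmple_of_pullback_finite_surjective k _ hLN
    ((GrothLib.Ample.isAmple_iff_of_iso e).2 hamp)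

end Groth.Agent.S18369
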