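import Groth.Statements.S1837
-- import your own Groth.Agent.* helpers here
import Mathlib.RingTheory.Localization.BaseChange
import Mathlib.Tactic.LinearCombination
import Mathlib.RingTheory.Finiteness.Ideal
import Mathlib.RingTheory.Localization.Away.Basic
import Mathlib.RingTheory.Localization.Finiteness
import Mathlib.RingTheory.TensorProduct.Maps


set_option autoImplicit false
universe u
open TensorProduct
open CycAlg

namespace Groth.Agent.S1837

/-- Let A be Noetherian with pairwise distinct maximal ideals 𝔪₁, …, 𝔪_r, and for each i a ring map φ_i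
from A_{𝔪_i} to B_i whose kernel and cokernel are killed by a power of 𝔪_i. Then there is an
A-algebra B whose base change to each A_{𝔪_i} is isomorphic to B_i and whose structure map has
kernel and cokernel killed by a power of 𝔪₁ ∩ … ∩ 𝔪_r; if every φ_i is finite (resp. injective,
resp. surjective) B can be taken with the same property. -/
theorem result (A : Type u) [CommRing A] [IsNoetherianRing A] (r : ℕ) (m : Fin r → Ideal A) (hm : ∀ i, (m i).IsMaximal) (hinj : Function.Injective m) (B : Fin r → Type u) [∀ i, CommRing (B i)] [∀ i, Algebra (Localization.AtPrime (m i)) (B i)] (hker : ∀ i, ∃ n : ℕ, ∀ x ∈ RingHom.ker (algebraMap (Localization.AtPrime (m i)) (B i)), ∀ y ∈ Ideal.map (algebraMap A (Localization.AtPrime (m i))) (m i) ^ n, y * x = 0) (hcoker : ∀ i, ∃ n : ℕ, ∀ y ∈ Ideal.map (algebraMap A (Localization.AtPrime (m i))) (m i) ^ n, ∀ b : B i, y • b ∈ (algebraMap (Localization.AtPrime (m i)) (B i)).range) : ∃ (C : Type u) (_ : CommRing C) (_ : Algebra A C), (∀ i, Nonempty ((Localization.AtPrime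 (m i)) ⊗[A] C ≃ₐ[Localization.AtPrime (m i)] B i)) ∧ (∃ n : ℕ, (∀ x ∈ RingHom.ker (algebraMap A C), ∀ y ∈ (⨅ i, m i) ^ n, y * x = 0) ∧ (∀ y ∈ (⨅ i, m i) ^ n, ∀ c : C, y • c ∈ (algebraMap A C).range)) ∧ ((∀ i, (algebraMap (Localization.AtPrime (m i)) (B i)).Finite) → (algebraMap A C).Finite) ∧ ((∀ i, Function.Injective (algebraMap (Localization.AtPrime (m i)) (B i))) → Function.Injective (algebraMap A C)) ∧ ((∀ i, Function.Surjective (algebraMap (Localization.AtPrime (m i)) (B i))) → Function.Surjective (algebraMap A C)) := by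
  classical
  letI algA : ∀ i, Algebra A (B i) := fun i =>
    ((algebraMap (Localization.AtPrime (m i)) (B i)).comp (algebraMap A (Localization.AtPrime (m i)))).toAlgebra
  haveI towA : ∀ i, IsScalarTower A (Localization.AtPrime (m i)) (B i) := fun i => IsScalarTower.of_algebraMap_eq fun _ => rfl
  haveI hmp : ∀ i, (m i).IsPrime := fun i => (hm i).isPrime
  have hunit : ∀ i (u : A), u ∉ m i → IsUnit (algebraMap A (B i) u) := fun i u hu =>
    (IsLocalization.map_units (Localization.AtPrime (m i)) (⟨u, hu⟩ : (m i).primeCompl)).map (algebraMap (Localization.AtPrime (m i)) (B i))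
  have hcancel : ∀ i (u : A) (b : B i), u ∉ m i → u • b = 0 → b = 0 := fun i u b hu h => by
    rwa [Algebra.smul_def, (hunit i u hu).mul_right_eq_zero] at h
  choose nk hnk using hker
  choose nc hnc using hcoker
  set J : Ideal A := ⨅ i, m i with hJdef
  obtain ⟨s, g, hg⟩ := Submodule.fg_iff_exists_fin_generating_family.1 (IsNoetherian.noetherian J)
  have hgJ : ∀ j, g j ∈ J := fun j => hg ▸ Submodule.subset_span ⟨j, rfl⟩
  have hgm : ∀ j i, g j ∈ m i := fun j i => (iInf_le (fun i => m i) i : J ≤ m i) (hgJ j)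
  have hsep : ∀ i, ∃ u ∉ m i, (∀ l, l ≠ i → u ∈ m l) := fun i => by
    have h : ∀ l : Fin r, ∃ t ∉ m i, l ≠ i → t ∈ m l := fun l => by
      by_cases hl : l = i
      · exact ⟨1, fun h => (hm i).ne_top ((Ideal.eq_top_iff_one _).2 h), fun h => absurd hl h⟩
      · obtain ⟨t, htl, hti⟩ := SetLike.not_le_iff_exists.1 fun hle : m l ≤ m i =>
          hl (hinj ((hm l).eq_of_le (hm i).ne_top hle))
        exact ⟨t, hti, fun _ => htl⟩
    choose t hti htl using h
    refine ⟨∏ l, t l, fun h => ?_, fun l hl => Ideal.prod_mem (m l) (Finset.mem_univ l) (htl l hl)⟩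
    obtain ⟨l, -, hl⟩ := (hmp i).prod_mem_iff.1 h
    exact hti l hl
  choose e hei hel using hsep
  have hmJ : ∀ i (N : ℕ), ∀ y ∈ m i ^ N, ∃ u ∉ m i, u * y ∈ J ^ N := fun i N y hy => by
    refine ⟨e i ^ N, fun h => hei i ((hmp i).mem_of_pow_mem N h), ?_⟩
    have hle : Ideal.span {e i} * m i ≤ J := le_iInf fun l => Ideal.mul_le.2 fun a ha b hb => by
      by_cases hl : l = i
      · subst hl; exact Ideal.mul_mem_left _ _ hb
      · obtain ⟨c, rfl⟩ := Ideal.mem_span_singleton'.1 ha
        exact Ideal.mul_mem_right _ _ (Ideal.mul_mem_left _ _ (hel i l hl))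
    refine Ideal.pow_right_mono hle N ?_
    rw [mul_pow, Ideal.span_singleton_pow]
    exact Ideal.mul_mem_mul (Ideal.mem_span_singleton_self _) hy
  have hpow : ∀ M : Fin s → ℕ, ∃ L, J ^ L ≤ Ideal.span (Set.range fun j => g j ^ M j) := fun M => by
    refine Ideal.exists_pow_le_of_le_radical_of_fg ?_ (IsNoetherian.noetherian J)
    rw [← hg, Submodule.span_le]
    rintro _ ⟨j, rfl⟩
    exact ⟨M j, Ideal.subset_span ⟨j, rfl⟩⟩
  have htop : ∀ I : Ideal A, (∀ i, ∃ x ∈ I, x ∉ m i) → (∀ j, ∃ k, g j ^ k ∈ I) → I = ⊤ := fun I h1 h2 => by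
    by_contra hne
    obtain ⟨P, hP, hIP⟩ := Ideal.exists_le_maximal I hne
    have hJP : J ≤ P := by
      rw [← hg, Submodule.span_le]
      rintro _ ⟨j, rfl⟩
      obtain ⟨k, hk⟩ := h2 j
      exact hP.isPrime.mem_of_pow_mem k (hIP hk)
    have hinf : Finset.univ.inf m ≤ P := by rwa [Finset.inf_eq_iInf, iInf_congr fun i => iInf_pos (Finset.mem_univ i)]
    obtain ⟨i, -, hi⟩ := (Ideal.IsPrime.inf_le' hP.isPrime).1 hinf
    obtain ⟨x, hxI, hxm⟩ := h1 i
    exact hxm ((hm i).eq_of_le hP.ne_top hi ▸ hIP hxI)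
  have hkill : ∀ i (a : A), algebraMap A (B i) a = 0 → ∀ j, ∃ t ∉ m i, t * (g j ^ nk i * a) = 0 := fun i a ha j => by
    obtain ⟨⟨t, ht⟩, h⟩ := (IsLocalization.map_eq_zero_iff (m i).primeCompl (Localization.AtPrime (m i)) _).1
      (show algebraMap A (Localization.AtPrime (m i)) (g j ^ nk i * a) = 0 by
        rw [map_mul, map_pow]
        exact hnk i _ ha _ (Ideal.pow_mem_pow (Ideal.mem_map_of_mem _ (hgm j i)) _))
    exact ⟨t, ht, h⟩
  -- the glued algebra
  let X := (∀ i, B i) × (∀ j, Localization.Away (g j))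
  let C : Subalgebra A X :=
    { carrier := {c | ∀ j, ∃ k a, g j ^ k • c = algebraMap A X a}
      mul_mem' := fun {x y} hx hy j => by
        obtain ⟨k, a, h⟩ := hx j
        obtain ⟨k', a', h'⟩ := hy j
        exact ⟨k + k', a * a', by rw [pow_add, ← smul_mul_smul_comm, h, h', map_mul]⟩
      add_mem' := fun {x y} hx hy j => by
        obtain ⟨k, a, h⟩ := hx j
        obtain ⟨k', a', h'⟩ := hy j
        refine ⟨k + k', g j ^ k' * a + g j ^ k * a', ?_⟩
        rw [smul_add, map_add, pow_add, mul_comm (g j ^ k), mul_smul, h, mul_comm (g j ^ k'), mul_smul, h',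
          Algebra.smul_def, Algebra.smul_def, ← map_mul, ← map_mul]
      algebraMap_mem' := fun a j => ⟨0, a, by rw [pow_zero, one_smul]⟩ }
  let pr : ∀ i, C →ₐ[A] B i := fun i => ((Pi.evalAlgHom A B i).comp (AlgHom.fst A _ _)).comp C.val
  have h1 : ∀ i (c : C), pr i c = 0 → ∃ t ∉ m i, t • c = 0 := fun i c hc => by
    choose k a ha using c.2
    have hav : ∀ j, algebraMap A (B i) (a j) = 0 := fun j => by
      have h := congrArg (fun x : X => x.1 i) (ha j)
      change g j ^ k j • pr i c = algebraMap A (B i) (a j) at h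
      rw [← h, hc, smul_zero]
    choose t htm ht using fun j => hkill i (a j) (hav j) j
    have hann : ∀ j, g j ^ (nk i + k j) • ((∏ j, t j) • (c : X)) = 0 := fun j => by
      rw [smul_smul, ← Finset.mul_prod_erase _ _ (Finset.mem_univ j),
        show g j ^ (nk i + k j) * (t j * ∏ l ∈ Finset.univ.erase j, t l) =
          (∏ l ∈ Finset.univ.erase j, t l) * (t j * g j ^ nk i) * g j ^ k j by ring, mul_smul, ha j, Algebra.smul_def,
        ← map_mul, mul_assoc, mul_assoc, ht j, mul_zero, map_zero]
    obtain ⟨L, hL⟩ := hpow fun j => nk i + k j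
    refine ⟨e i ^ L * ∏ j, t j, fun h => ((hmp i).mem_or_mem h).elim (fun h => hei i ((hmp i).mem_of_pow_mem L h))
      (fun h => let ⟨j, _, hj⟩ := (hmp i).prod_mem_iff.1 h; htm j hj), ?_⟩
    refine Subtype.ext (Prod.ext (funext fun l => ?_) (funext fun j => ?_))
    · show (e i ^ L * ∏ j, t j) • (c : X).1 l = 0
      by_cases hl : l = i
      · subst hl
        rw [show (c : X).1 l = pr l c from rfl, hc, smul_zero]
      · obtain ⟨u, hu, huJ⟩ := hmJ l L (e i ^ L) (Ideal.pow_mem_pow (hel i l hl) L)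
        refine hcancel l u _ hu ?_
        obtain ⟨coef, hcoef⟩ := (Ideal.mem_span_range_iff_exists_fun).1 (hL huJ)
        rw [smul_smul, ← mul_assoc, ← hcoef, Finset.sum_mul, Finset.sum_smul]
        refine Finset.sum_eq_zero fun j _ => ?_
        rw [mul_assoc, mul_smul, mul_smul]
        have := congrArg (fun x : X => x.1 l) (hann j)
        change g j ^ (nk i + k j) • ((∏ j, t j) • (c : X).1 l) = 0 at this
        rw [this, smul_zero]
    · show (e i ^ L * ∏ j, t j) • (c : X).2 j = 0
      have := congrArg (fun x : X => x.2 j) (hann j)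
      change g j ^ (nk i + k j) • ((∏ j, t j) • (c : X).2 j) = 0 at this
      rw [Algebra.smul_def (g j ^ (nk i + k j)), map_pow,
        ((IsLocalization.Away.algebraMap_isUnit (g j)).pow _).mul_right_eq_zero] at this
      rw [mul_smul, this, smul_zero]
  have h2 : ∀ i (b : B i), ∃ c : C, ∃ t ∉ m i, pr i c = t • b := fun i b => by
    have hstep : ∀ j, ∃ t ∉ m i, ∃ a, t • g j ^ nc i • b = algebraMap A (B i) a := fun j => by
      obtain ⟨z, hz⟩ := hnc i _ (Ideal.pow_mem_pow (Ideal.mem_map_of_mem _ (hgm j i)) (nc i)) b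
      obtain ⟨⟨a, ⟨t, ht⟩⟩, h⟩ := IsLocalization.surj (m i).primeCompl z
      refine ⟨t, ht, a, ?_⟩
      have h' := congrArg (algebraMap (Localization.AtPrime (m i)) (B i)) h
      rw [map_mul, hz] at h'
      rw [← map_pow, algebraMap_smul, mul_comm, ← Algebra.smul_def] at h'
      rw [← algebraMap_smul (Localization.AtPrime (m i)) t (g j ^ nc i • b)]
      exact h'
    choose t ht a ha using hstep
    let n := nc i + nk i
    let a' : Fin s → A := fun j => (g j ^ nk i * ∏ l ∈ Finset.univ.erase j, t l) * a j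
    have hb : ∀ j, g j ^ n • ((∏ j, t j) • b) = algebraMap A (B i) (a' j) := fun j => by
      show _ = algebraMap A (B i) ((g j ^ nk i * ∏ l ∈ Finset.univ.erase j, t l) * a j)
      rw [map_mul, ← ha j, ← Algebra.smul_def, smul_smul, smul_smul, smul_smul,
        ← Finset.mul_prod_erase _ _ (Finset.mem_univ j)]
      congr 1
      ring
    have hd : ∀ j l, ∃ t ∉ m i, t * (g j ^ nk i * (g l ^ n * a' j - g j ^ n * a' l)) = 0 := fun j l => by
      refine hkill i _ ?_ j
      rw [map_sub, map_mul _ (g l ^ n) (a' j), map_mul _ (g j ^ n) (a' l), ← hb j, ← hb l]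
      simp only [Algebra.smul_def, map_pow]
      ring
    choose w hw hw0 using hd
    let W := (∏ j, ∏ l, w j l)
    have hW : W ∉ m i := fun h => by
      obtain ⟨j, -, h⟩ := (hmp i).prod_mem_iff.1 h
      obtain ⟨l, -, h⟩ := (hmp i).prod_mem_iff.1 h
      exact hw j l h
    let M := n + nk i
    let a'' : Fin s → A := fun j => W * (g j ^ nk i * a' j)
    have hsym : ∀ j l, g l ^ M * a'' j = g j ^ M * a'' l := fun j l => by
      rw [← sub_eq_zero]
      obtain ⟨d, hd⟩ : w j l ∣ W := (Finset.dvd_prod_of_mem _ (Finset.mem_univ l)).trans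
        (Finset.dvd_prod_of_mem (fun j => ∏ l, w j l) (Finset.mem_univ j))
      show g l ^ (n + nk i) * (W * _) - g j ^ (n + nk i) * (W * _) = 0
      rw [hd]
      linear_combination d * g l ^ nk i * hw0 j l
    have hb'' : ∀ j, g j ^ M • (W • (∏ j, t j) • b) = algebraMap A (B i) (a'' j) := fun j => by
      show g j ^ (n + nk i) • _ = algebraMap A (B i) (W * (g j ^ nk i * a' j))
      rw [map_mul, map_mul, ← hb j, ← Algebra.smul_def, ← Algebra.smul_def]
      simp only [smul_smul]
      congr 1
      ring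
    obtain ⟨L, hL⟩ := hpow fun _ => M
    have hco : ∀ l, l ≠ i → ∃ u, u ∉ m l ∧ ∃ coef : Fin s → A, ∑ j, coef j * g j ^ M = u * e i ^ L := fun l hl => by
      obtain ⟨u, hu, huJ⟩ := hmJ l L (e i ^ L) (Ideal.pow_mem_pow (hel i l hl) L)
      exact ⟨u, hu, Ideal.mem_span_range_iff_exists_fun.1 (hL huJ)⟩
    choose u hu coef hcoef using hco
    have hpb : ∀ l, ∃ x : B l, (∀ j, g j ^ M • x = algebraMap A (B l) (e i ^ L * a'' j)) ∧
        ∀ h : l = i, h ▸ x = e i ^ L • W • (∏ j, t j) • b := fun l => by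
      by_cases hl : l = i
      · subst hl
        refine ⟨e l ^ L • W • (∏ j, t j) • b, fun j => ?_, fun h => rfl⟩
        rw [smul_comm, hb'' j, Algebra.smul_def, ← map_mul]
      · refine ⟨↑(hunit l _ (hu l hl)).unit⁻¹ * algebraMap A (B l) (∑ k, coef l hl k * a'' k), fun j => ?_,
          fun h => absurd h hl⟩
        rw [Algebra.smul_def, mul_left_comm, ← map_mul, Units.inv_mul_eq_iff_eq_mul, IsUnit.unit_spec, ← map_mul]
        congr 1
        rw [Finset.mul_sum, ← mul_assoc, ← hcoef l hl, Finset.sum_mul]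
        exact Finset.sum_congr rfl fun k _ => by linear_combination coef l hl k * hsym k j
    choose x hx hxi using hpb
    let c : X := (x, fun j => IsLocalization.mk' (Localization.Away (g j)) (e i ^ L * a'' j)
      (⟨g j ^ M, M, rfl⟩ : Submonoid.powers (g j)))
    have hc : c ∈ C := fun j => ⟨M, e i ^ L * a'' j, Prod.ext (funext fun l => hx l j) (funext fun l => by
      show g j ^ M • IsLocalization.mk' (Localization.Away (g l)) (e i ^ L * a'' l) _ = algebraMap A _ (e i ^ L * a'' j)
      rw [Algebra.smul_def, IsLocalization.mul_mk'_eq_mk'_of_mul, IsLocalization.mk'_eq_iff_eq_mul, ← map_mul]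
      congr 1
      linear_combination e i ^ L * hsym l j)⟩
    refine ⟨⟨c, hc⟩, e i ^ L * W * ∏ j, t j, fun h => ?_, ?_⟩
    · rcases (hmp i).mem_or_mem h with h | h
      · rcases (hmp i).mem_or_mem h with h | h
        · exact hei i ((hmp i).mem_of_pow_mem L h)
        · exact hW h
      · obtain ⟨j, -, hj⟩ := (hmp i).prod_mem_iff.1 h
        exact ht j hj
    · rw [mul_smul, mul_smul]
      exact hxi i rfl
  refine ⟨C, inferInstance, inferInstance, fun i => ?_, ⟨∑ i, (nk i + nc i), fun x hx y hy => ?_, fun y hy c => ?_⟩,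
    fun hfin => ?_, fun hi => ?_, fun hs => ?_⟩
  · haveI : IsLocalizedModule (m i).primeCompl (pr i).toLinearMap :=
      { map_units := fun u => by
          rw [Module.End.isUnit_iff]
          obtain ⟨v, hv⟩ := hunit i u u.2
          refine Function.bijective_iff_has_inverse.2 ⟨fun b => ↑v⁻¹ * b, fun b => ?_, fun b => ?_⟩ <;>
            simp [Algebra.smul_def, ← hv]
        surj := fun b => by
          obtain ⟨c, t, ht, hc⟩ := h2 i b
          exact ⟨⟨c, ⟨t, ht⟩⟩, hc.symm⟩
        exists_of_eq := fun {x y} hxy => by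
          obtain ⟨t, ht, h⟩ := h1 i (x - y) (by rw [map_sub]; exact sub_eq_zero.2 hxy)
          exact ⟨⟨t, ht⟩, sub_eq_zero.1 ((smul_sub t x y).symm.trans h)⟩ }
    have hb := IsLocalizedModule.isBaseChange (m i).primeCompl (Localization.AtPrime (m i)) (pr i).toLinearMap
    let F : Localization.AtPrime (m i) ⊗[A] C →ₐ[Localization.AtPrime (m i)] B i :=
      Algebra.TensorProduct.lift (Algebra.ofId _ _) (pr i) (fun _ _ => Commute.all _ _)
    have hF : ∀ z, F z = hb.equiv z := fun z => by
      induction z using TensorProduct.induction_on with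
      | zero => simp
      | tmul a c =>
        rw [Algebra.TensorProduct.lift_tmul, IsBaseChange.equiv_tmul, Algebra.smul_def]
        rfl
      | add a b ha hb => rw [map_add, map_add, ha, hb]
    exact ⟨AlgEquiv.ofBijective F ((funext hF : ⇑F = ⇑hb.equiv) ▸ hb.equiv.bijective)⟩
  · let I : Ideal A := LinearMap.ker (LinearMap.toSpanSingleton A A (y * x))
    have hI : I = ⊤ := htop I (fun i => by
      have hxi : algebraMap A (B i) x = 0 := congrArg (pr i) hx |>.trans (map_zero _) |> ((pr i).commutes x).symm.trans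
      have hym : y ∈ m i ^ nk i := Ideal.pow_le_pow_right
        (le_trans (Nat.le_add_right _ (nc i)) (Finset.single_le_sum (f := fun i => nk i + nc i) (fun _ _ => Nat.zero_le _) (Finset.mem_univ i)))
        (Ideal.pow_right_mono (iInf_le (fun i => m i) i : J ≤ m i) _ hy)
      obtain ⟨⟨t, ht⟩, h⟩ := (IsLocalization.map_eq_zero_iff (m i).primeCompl (Localization.AtPrime (m i)) _).1
        (show algebraMap A (Localization.AtPrime (m i)) (y * x) = 0 by
          rw [map_mul]
          refine hnk i _ hxi _ ?_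
          rw [← Ideal.map_pow]
          exact Ideal.mem_map_of_mem _ hym)
      exact ⟨t, h, ht⟩) (fun j => by
      have hxj : algebraMap A (Localization.Away (g j)) x = 0 :=
        congrArg (fun c : C => (c : X).2 j) hx
      obtain ⟨⟨_, k, rfl⟩, h⟩ := (IsLocalization.map_eq_zero_iff (Submonoid.powers (g j)) _ _).1 hxj
      exact ⟨k, LinearMap.mem_ker.2 (by show g j ^ k * (y * x) = 0; linear_combination y * h)⟩)
    simpa [I] using (hI ▸ Submodule.mem_top : (1 : A) ∈ I)
  · let I : Ideal A := (LinearMap.range (Algebra.linearMap A C)).comap (LinearMap.toSpanSingleton A C (y • c))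
    have hI : I = ⊤ := htop I (fun i => by
      have hym : y ∈ m i ^ nc i := Ideal.pow_le_pow_right
        (le_trans (Nat.le_add_left _ (nk i)) (Finset.single_le_sum (f := fun i => nk i + nc i) (fun _ _ => Nat.zero_le _) (Finset.mem_univ i)))
        (Ideal.pow_right_mono (iInf_le (fun i => m i) i : J ≤ m i) _ hy)
      obtain ⟨z, hz⟩ := hnc i _ (by rw [← Ideal.map_pow]; exact Ideal.mem_map_of_mem _ hym) (pr i c)
      rw [algebraMap_smul] at hz
      obtain ⟨⟨a, ⟨t, ht⟩⟩, h⟩ := IsLocalization.surj (m i).primeCompl z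
      have h' := congrArg (algebraMap (Localization.AtPrime (m i)) (B i)) h
      rw [map_mul, hz, mul_comm, ← IsScalarTower.algebraMap_apply, ← IsScalarTower.algebraMap_apply, ← Algebra.smul_def,
        ← map_smul (pr i), ← map_smul (pr i), ← (pr i).commutes, ← sub_eq_zero, ← map_sub] at h'
      obtain ⟨w, hw, hw0⟩ := h1 i _ h'
      refine ⟨w * t, ?_, fun h => ((hmp i).mem_or_mem h).elim hw ht⟩
      rw [smul_sub, sub_eq_zero] at hw0
      exact ⟨w * a, by
        show algebraMap A C (w * a) = (w * t) • y • c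
        rw [mul_smul, hw0, Algebra.smul_def, ← map_mul]⟩) (fun j => by
      obtain ⟨k, a, h⟩ := c.2 j
      refine ⟨k, ⟨y * a, Subtype.ext ?_⟩⟩
      show algebraMap A X (y * a) = g j ^ k • y • (c : X)
      rw [smul_comm, h, Algebra.smul_def, ← map_mul])
    obtain ⟨a, ha⟩ := (hI ▸ Submodule.mem_top : (1 : A) ∈ I)
    exact ⟨a, by simpa using ha⟩
  · have hgen : ∀ i, ∃ T : Finset C, Submodule.span (Localization.AtPrime (m i)) ((pr i) '' T) = ⊤ := fun i => by
      haveI : Module.Finite (Localization.AtPrime (m i)) (B i) := RingHom.finite_algebraMap.1 (hfin i)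
      obtain ⟨T, hT⟩ := Module.finite_def.1 this
      choose c t ht hc using h2 i
      refine ⟨T.image c, eq_top_iff.2 (hT ▸ Submodule.span_le.2 fun b hb => ?_)⟩
      have hu := IsLocalization.map_units (Localization.AtPrime (m i)) (⟨t b, ht b⟩ : (m i).primeCompl)
      have : b = (↑hu.unit⁻¹ : Localization.AtPrime (m i)) • pr i (c b) := by
        rw [hc b, ← algebraMap_smul (Localization.AtPrime (m i)) (t b) b, smul_smul]
        simp
      rw [this]
      exact Submodule.smul_mem _ _ (Submodule.subset_span ⟨c b, by simp only [Finset.coe_image]; exact ⟨b, hb, rfl⟩, rfl⟩)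
    choose T hT using hgen
    let N : Submodule A C := Submodule.span A (insert (1 : C) (⋃ i, (T i : Set C)))
    refine RingHom.finite_algebraMap.2 ⟨?_⟩
    suffices hN : N = ⊤ by
      exact hN ▸ Submodule.fg_span (Set.Finite.insert _ (Set.finite_iUnion fun i => (T i).finite_toSet))
    refine eq_top_iff.2 fun c _ => ?_
    let I : Ideal A := N.comap (LinearMap.toSpanSingleton A C c)
    have hI : I = ⊤ := htop I (fun i => by
      obtain ⟨⟨t, ht⟩, h⟩ := multiple_mem_span_of_mem_localization_span (m i).primeCompl (Localization.AtPrime (m i))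
        ((pr i) '' T i) (pr i c) (hT i ▸ Submodule.mem_top)
      rw [show ((pr i) '' T i) = (pr i).toLinearMap '' (T i : Set C) from rfl, ← Submodule.map_span] at h
      obtain ⟨d, hd, hd'⟩ := h
      obtain ⟨w, hw, hw0⟩ := h1 i (t • c - d) (by
        rw [map_sub, map_smul, sub_eq_zero]; exact hd'.symm)
      refine ⟨w * t, ?_, fun h => ((hmp i).mem_or_mem h).elim hw ht⟩
      rw [smul_sub, sub_eq_zero] at hw0
      show (w * t) • c ∈ N
      rw [mul_smul, hw0]
      exact N.smul_mem _ (Submodule.span_mono ((Set.subset_iUnion (fun i => (T i : Set C)) i).trans (Set.subset_insert _ _)) hd))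
      (fun j => by
        obtain ⟨k, a, h⟩ := c.2 j
        refine ⟨k, ?_⟩
        show g j ^ k • c ∈ N
        rw [show g j ^ k • c = algebraMap A C a from Subtype.ext h, Algebra.algebraMap_eq_smul_one]
        exact N.smul_mem _ (Submodule.subset_span (Set.mem_insert _ _)))
    simpa [I] using (hI ▸ Submodule.mem_top : (1 : A) ∈ I)
  · refine (injective_iff_map_eq_zero _).2 fun x hx => ?_
    let I : Ideal A := LinearMap.ker (LinearMap.toSpanSingleton A A x)
    have hI : I = ⊤ := htop I (fun i => by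
      have hxi : algebraMap A (B i) x = 0 := ((pr i).commutes x).symm.trans ((congrArg (pr i) hx).trans (map_zero _))
      obtain ⟨⟨t, ht⟩, h⟩ := (IsLocalization.map_eq_zero_iff (m i).primeCompl (Localization.AtPrime (m i)) _).1
        ((injective_iff_map_eq_zero _).1 (hi i) _ hxi)
      exact ⟨t, h, ht⟩) (fun j => by
      have hxj : algebraMap A (Localization.Away (g j)) x = 0 := congrArg (fun c : C => (c : X).2 j) hx
      obtain ⟨⟨_, k, rfl⟩, h⟩ := (IsLocalization.map_eq_zero_iff (Submonoid.powers (g j)) _ _).1 hxj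
      exact ⟨k, h⟩)
    simpa [I] using (hI ▸ Submodule.mem_top : (1 : A) ∈ I)
  · intro c
    let I : Ideal A := (LinearMap.range (Algebra.linearMap A C)).comap (LinearMap.toSpanSingleton A C c)
    have hI : I = ⊤ := htop I (fun i => by
      obtain ⟨z, hz⟩ := hs i (pr i c)
      obtain ⟨⟨a, ⟨t, ht⟩⟩, h⟩ := IsLocalization.surj (m i).primeCompl z
      have h' := congrArg (algebraMap (Localization.AtPrime (m i)) (B i)) h
      rw [map_mul, hz, mul_comm, ← IsScalarTower.algebraMap_apply, ← IsScalarTower.algebraMap_apply, ← Algebra.smul_def,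
        ← map_smul (pr i), ← (pr i).commutes, ← sub_eq_zero, ← map_sub] at h'
      obtain ⟨w, hw, hw0⟩ := h1 i _ h'
      refine ⟨w * t, ?_, fun h => ((hmp i).mem_or_mem h).elim hw ht⟩
      rw [smul_sub, sub_eq_zero] at hw0
      exact ⟨w * a, by
        show algebraMap A C (w * a) = (w * t) • c
        rw [mul_smul, hw0, Algebra.smul_def, ← map_mul]⟩) (fun j => by
      obtain ⟨k, a, h⟩ := c.2 j
      exact ⟨k, ⟨a, Subtype.ext h.symm⟩⟩)
    obtain ⟨a, ha⟩ := (hI ▸ Submodule.mem_top : (1 : A) ∈ I)
    exact ⟨a, by simpa using ha⟩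

end Groth.Agent.S1837
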