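import Groth.Statements.S18370
import Groth.Agent.Lib.GrpSchField.Points

set_option autoImplicit false
universe u
open CategoryTheory CategoryTheory.Limits MonoidalCategory CartesianMonoidalCategory MonObj GrpObj AlgebraicGeometry
open GrpSch

namespace Groth.Agent.S18370

/-- Let S be a scheme and G a commutative S-group scheme which is killed by a natural number n, i.e. the
n-th power map of G is the trivial homomorphism, and let n = a·b with a and b coprime. If i_a : G_a
→ G and i_b : G_b → G are scheme-theoretic kernels of the a-th and b-th power maps of G, then the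
morphism G_a ×_S G_b → G sending (x, y) to i_a(x)·i_b(y) is an isomorphism of S-schemes. (The
published statement assumes n ≠ 0; the case n = 0, where {a, b} = {0, 1} and one kernel is all of G
while the other is trivial, is included here.) -/
theorem result {S : Scheme.{u}} (G Ga Gb : Over S)
    [GrpObj G] [IsCommMonObj G] (n a b : ℕ) (hn : n = a * b) (hab : Nat.Coprime a b)
    (hG : (𝟙 G) ^ n = 1)
    (ia : Ga ⟶ G) (hia : AlgGrp.IsKernel ia ((𝟙 G) ^ a))
    (ib : Gb ⟶ G) (hib : AlgGrp.IsKernel ib ((𝟙 G) ^ b)) :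
    IsIso ((fst Ga Gb ≫ ia) * (snd Ga Gb ≫ ib)) := by
  apply GrothLib.GrpSchField.isIso_of_points
  · intro T g
    have hgn : g ^ n = 1 := by
      have h := congrArg (g ≫ ·) hG
      simpa [MonObj.comp_pow, MonObj.comp_one] using h
    have hz : g ^ ((a : ℤ) * b) = 1 := by
      rw [← Int.natCast_mul, zpow_natCast, ← hn, hgn]
    obtain ⟨u, v, huv⟩ : ∃ u v : ℤ, (a : ℤ) * u + b * v = 1 :=
      ⟨Nat.gcdA a b, Nat.gcdB a b, by rw [← Nat.gcd_eq_gcd_ab, hab.gcd_eq_one]; rfl⟩
    obtain ⟨x, hx⟩ := GrothLib.GrpSchField.exists_lift_of_comp_eq_one hia (g ^ ((b : ℤ) * v)) (by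
      rw [MonObj.comp_pow, Category.comp_id, ← zpow_natCast, ← zpow_mul,
        show (b : ℤ) * v * a = (a * b) * v by ring, zpow_mul, hz, one_zpow])
    obtain ⟨y, hy⟩ := GrothLib.GrpSchField.exists_lift_of_comp_eq_one hib (g ^ ((a : ℤ) * u)) (by
      rw [MonObj.comp_pow, Category.comp_id, ← zpow_natCast, ← zpow_mul,
        show (a : ℤ) * u * b = (a * b) * u by ring, zpow_mul, hz, one_zpow])
    refine ⟨lift x y, ?_⟩
    rw [MonObj.comp_mul, lift_fst_assoc, lift_snd_assoc, hx, hy, ← zpow_add, add_comm, huv, zpow_one]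
  · intro T p p' h
    haveI := GrothLib.GrpSchField.mono_of_kernel hia
    haveI := GrothLib.GrpSchField.mono_of_kernel hib
    simp only [MonObj.comp_mul, ← Category.assoc] at h
    have ka : ∀ x : T ⟶ Ga, (x ≫ ia) ^ a = 1 := fun x => by
      have h := congrArg (x ≫ ·) (GrothLib.GrpSchField.comp_eq_one hia)
      simpa [MonObj.comp_pow, MonObj.comp_one] using h
    have kb : ∀ x : T ⟶ Gb, (x ≫ ib) ^ b = 1 := fun x => by
      have h := congrArg (x ≫ ·) (GrothLib.GrpSchField.comp_eq_one hib)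
      simpa [MonObj.comp_pow, MonObj.comp_one] using h
    set A := (p ≫ fst Ga Gb) ≫ ia with hA
    set A' := (p' ≫ fst Ga Gb) ≫ ia with hA'
    set B := (p ≫ snd Ga Gb) ≫ ib with hB
    set B' := (p' ≫ snd Ga Gb) ≫ ib with hB'
    have e1 : A * A'⁻¹ = B' * B⁻¹ := by
      rw [mul_inv_eq_iff_eq_mul, mul_right_comm, eq_mul_inv_iff_mul_eq, h, mul_comm]
    have e2 : A * A'⁻¹ = 1 := by
      rw [← pow_one (A * A'⁻¹), ← hab.gcd_eq_one]
      refine pow_gcd_eq_one.mpr ⟨?_, ?_⟩
      · rw [mul_pow, inv_pow, ka, ka, inv_one, _root_.mul_one]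
      · rw [e1, mul_pow, inv_pow, kb, kb, inv_one, _root_.mul_one]
    apply CartesianMonoidalCategory.hom_ext
    · exact (cancel_mono ia).mp (mul_inv_eq_one.mp e2)
    · rw [e2] at e1
      exact (cancel_mono ib).mp (mul_inv_eq_one.mp e1.symm).symm

end Groth.Agent.S18370
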