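import Groth.Statements.S18372
-- import your own Groth.Agent.* helpers here
import Groth.Agent.Lib.Cube.AmpleDescent
import Groth.Agent.Lib.SquareOpen.Chain
import Groth.Agent.Lib.Rigidity.SmoothGroup
import Groth.Agent.Lib.Cube.Square
import Groth.Agent.Lib.Cube.Nondegenerate

set_option autoImplicit false
universe u
open CategoryTheory CategoryTheory.Limits MonoidalCategory CartesianMonoidalCategory MonObj GrpObj AlgebraicGeometry
open AbVar

namespace Groth.Agent.S18372

/-- Let k be an algebraically closed field, A an abelian variety over k (a proper smooth k-group scheme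
with geometrically connected fibres), U an affine open subset of A containing the unit point and D =
A ∖ U. Then only finitely many k-rational points x of A have a translation t_x : z ↦ z + x (the
product of the identity and the constant map x in the group Hom(A, A)) with t_x⁻¹(D) = D as sets. -/
theorem result (k : Type u) [Field k] [IsAlgClosed k]
    (A : Over (Spec (CommRingCat.of k))) [GrpObj A] [IsProper A.hom] [Smooth A.hom] [GeometricallyConnected A.hom]
    (U : A.left.Opens) (hU : IsAffineOpen U) (he : Set.range η[A].left.base ⊆ (U : Set A.left)) :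
    Set.Finite {x : 𝟙_ (Over (Spec (CommRingCat.of k))) ⟶ A |
      (𝟙 A * (toUnit A ≫ x)).left.base ⁻¹' ((U : Set A.left)ᶜ) = (U : Set A.left)ᶜ} := by
  haveI := GrothLib.Rigidity.geometricallyIntegral_of_smooth A
  haveI : IsLocallyNoetherian A.left := LocallyOfFiniteType.isLocallyNoetherian A.hom
  haveI : CompactSpace A.left := QuasiCompact.compactSpace_of_compactSpace A.hom
  let D : Set A.left := (U : Set A.left)ᶜ
  let H := {x : 𝟙_ (Over (Spec (CommRingCat.of k))) ⟶ A |
    (GrothLib.Cube.transl x).left.base ⁻¹' D = D}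
  show H.Finite
  let σ : (𝟙_ (Over (Spec (CommRingCat.of k))) ⟶ A) → (A ⟶ A) := fun d => (𝟙 A)⁻¹ ≫ GrothLib.Cube.transl d
  let S : Set A.left := ⋂ d ∈ {d : 𝟙_ (Over (Spec (CommRingCat.of k))) ⟶ A | GrothLib.Cube.ptOf d ∈ D},
    (σ d).left ⁻¹' D
  have hS : IsClosed S := isClosed_biInter fun d _ => U.isOpen.isClosed_compl.preimage (σ d).left.continuous
  have hσ : ∀ x d : 𝟙_ (Over (Spec (CommRingCat.of k))) ⟶ A,
      (σ d).left (GrothLib.Cube.ptOf x) = GrothLib.Cube.ptOf (d * x⁻¹) := fun x d => by
    rw [GrothLib.Cube.apply_ptOf]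
    refine congrArg _ ?_
    show x ≫ (𝟙 A)⁻¹ ≫ GrothLib.Cube.transl d = _
    rw [← Category.assoc, GrpObj.comp_inv, Category.comp_id, GrothLib.Cube.comp_transl_point,
      GrothLib.Cube.hom_mul_comm]
  have hHS : ∀ x ∈ H, GrothLib.Cube.ptOf x ∈ S := fun x (hx : _ = D) => by
    refine Set.mem_iInter₂.2 fun d hd => ?_
    show (σ d).left (GrothLib.Cube.ptOf x) ∈ D
    rw [hσ, ← hx]
    show (GrothLib.Cube.transl x).left (GrothLib.Cube.ptOf (d * x⁻¹)) ∈ D
    rw [GrothLib.Cube.apply_ptOf, GrothLib.Cube.comp_transl_point, inv_mul_cancel_right]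
    exact hd
  have hone : GrothLib.Cube.ptOf (1 : 𝟙_ (Over (Spec (CommRingCat.of k))) ⟶ A) ∈ U := by
    refine he ⟨IsLocalRing.closedPoint k, ?_⟩
    show η[A].left (IsLocalRing.closedPoint k) = _
    rw [GrothLib.Cube.ptOf, MonObj.one_eq_one]
  have hSU : S ⊆ (U : Set A.left) := fun z hz => by
    obtain ⟨z', hz', hz'c⟩ := IsClosed.exists_closed_singleton (S := closure ({z} : Set A.left)) isClosed_closure
      ⟨z, subset_closure rfl⟩
    obtain ⟨x, hx, -⟩ := GrothLib.Cube.exists_point_factor z' hz'c
    have hxS : GrothLib.Cube.ptOf x ∈ S := by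
      rw [show GrothLib.Cube.ptOf x = z' from hx]
      exact closure_minimal (Set.singleton_subset_iff.2 hz) hS hz'
    by_contra hzU
    have hxD : GrothLib.Cube.ptOf x ∈ D := fun h => hzU ((specializes_iff_mem_closure.2 hz').mem_open U.2 (show z' ∈ (U : Set A.left) from (show GrothLib.Cube.ptOf x = z' from hx) ▸ h))
    have h1 : (σ x).left (GrothLib.Cube.ptOf x) ∈ D := Set.mem_iInter₂.1 hxS x hxD
    rw [hσ, mul_inv_cancel] at h1
    exact h1 hone
  let I := Scheme.IdealSheafData.vanishingIdeal (⟨S, hS⟩ : TopologicalSpace.Closeds A.left)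
  have hr : Set.range I.subschemeι = S := GrothLib.RedSub.range_subschemeι_vanishingIdeal _
  have hfinS : S.Finite := by
    let j : I.subscheme ⟶ (U : Scheme.{u}) := IsOpenImmersion.lift U.ι I.subschemeι (by
      rw [Scheme.Opens.range_ι, hr]; exact hSU)
    haveI : IsAffine (U : Scheme.{u}) := hU
    haveI : IsClosedImmersion j := by
      haveI : IsClosedImmersion (j ≫ U.ι) := by rw [IsOpenImmersion.lift_fac]; infer_instance
      exact IsClosedImmersion.of_comp j U.ι
    haveI : IsAffine I.subscheme := isAffine_of_isAffineHom j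
    haveI : Finite I.subscheme := GrothLib.Cube.finite_of_isQuasiAffine (I.subschemeι ≫ A.hom)
    rw [← hr]
    exact Set.finite_range _
  refine (hfinS.preimage (f := fun x : 𝟙_ (Over (Spec (CommRingCat.of k))) ⟶ A => GrothLib.Cube.ptOf x) ?_).subset hHS
  exact fun x _ y _ h => GrothLib.Cube.eq_of_ptOf_eq h

end Groth.Agent.S18372
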