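import Groth.Statements.S18373
-- import your own Groth.Agent.* helpers here
import Groth.Agent.S1684
import Groth.Agent.Lib.Cube.AmpleCrit
import Groth.Agent.Lib.Cube.DivisorSection
import Groth.Agent.Lib.BlowUp.Universal
import Groth.Agent.Lib.RedSub.Basic
import Groth.Agent.Lib.Euler.AmpleComponents
import Groth.Agent.Lib.Rigidity.SmoothGroup

set_option autoImplicit false
universe u
open CategoryTheory CategoryTheory.Limits MonoidalCategory CartesianMonoidalCategory MonObj GrpObj AlgebraicGeometry
open AbVar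

namespace Groth.Agent.S18373

/-- Let k be an algebraically closed field and A an abelian variety over k (a proper smooth k-group
scheme with geometrically connected fibres). Let Δ ⊆ A be an irreducible closed subset of
codimension one, with generic point ξ whose local ring O_{A,ξ} has Krull dimension 1 (an irreducible
effective divisor), and let C ⊆ A be an irreducible closed subset of dimension one (a curve)
disjoint from Δ. Then for all k-rational points x, y of A lying on C, translation by x − y (the map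
z ↦ z + x − y, written with the group Hom(A, A)) carries Δ onto itself: t_{x−y}⁻¹(Δ) = Δ. -/
theorem result (k : Type u) [Field k] [IsAlgClosed k]
    (A : Over (Spec (CommRingCat.of k))) [GrpObj A] [IsProper A.hom] [Smooth A.hom] [GeometricallyConnected A.hom]
    (Δ : Set A.left) (hΔ : IsClosed Δ) (ξ : A.left) (hξ : closure {ξ} = Δ)
    (hcodim : ringKrullDim (A.left.presheaf.stalk ξ) = 1)
    (C : Set A.left) (hC : IsClosed C) (hCirr : IsIrreducible C) (hCdim : topologicalKrullDim C = 1)
    (hdisj : Disjoint C Δ)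
    (x y : 𝟙_ (Over (Spec (CommRingCat.of k))) ⟶ A)
    (hx : Set.range x.left.base ⊆ C) (hy : Set.range y.left.base ⊆ C) :
    (𝟙 A * (toUnit A ≫ (x * y⁻¹))).left.base ⁻¹' Δ = Δ := by
  haveI : GeometricallyIntegral A.hom := GrothLib.Rigidity.geometricallyIntegral_of_smooth A
  haveI : IsIntegral A.left := GeometricallyIntegral.isIntegral_of_subsingleton A.hom
  haveI : IsLocallyNoetherian A.left := LocallyOfFiniteType.isLocallyNoetherian A.hom
  haveI : JacobsonSpace A.left := LocallyOfFiniteType.jacobsonSpace A.hom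
  haveI := GrothLib.Cube.isCommMonObj_abVar (A := A)
  -- the divisor as an effective Cartier ideal
  let D : TopologicalSpace.Closeds A.left := ⟨Δ, hΔ⟩
  let I := Scheme.IdealSheafData.vanishingIdeal D
  have hIr : Set.range I.subschemeι = Δ := GrothLib.RedSub.range_subschemeι_vanishingIdeal D
  haveI hIint : IsIntegral I.subscheme :=
    GrothLib.Euler.isIntegral_vanishingIdeal D (show IsIrreducible Δ from hξ ▸ isIrreducible_singleton.closure)
  have hgen : I.subschemeι (genericPoint I.subscheme) = ξ := by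
    have h := GrothLib.QCoh.closure_singleton_eq_range I.subschemeι
    rw [hIr, ← hξ] at h
    exact (inseparable_iff_closure_eq.2 h).eq
  have hI : _root_.BlowUp.IsEffCartierIdeal I := by
    refine Groth.Agent.S1684.result A.left I (hgen ▸ hcodim) fun q _ => ?_
    haveI := GrothLib.WeilExt.isRegularLocalRing_stalk_of_smooth A.hom
      (GrothLib.WeilExt.isRegularLocalRing_stalk_spec k) q
    exact ⟨inferInstance, GrothLib.RegUFD.ufd_of_isRegularLocalRing _⟩
  have hsupp : (I.support : Set A.left) = Δ := by rw [← hIr, Scheme.IdealSheafData.range_subschemeι]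
  let U : A.left.Opens := ⟨(I.support : Set A.left)ᶜ, I.support.isClosed.isOpen_compl⟩
  have hU : ∀ q : A.left, q ∈ U ↔ q ∉ Δ := fun q => by
    show q ∉ (I.support : Set A.left) ↔ _; rw [hsupp]
  obtain ⟨x₀, hs⟩ : ∃ x₀, GrothLib.Cube.HasSec x₀ U := ⟨_, GrothLib.Cube.hasSec_compl_support hI⟩
  have hne : (U : Set A.left).Nonempty := ⟨genericPoint A.left, GrothLib.BlowUp.notMem_support_of_maximal hI
    fun z hz => (hz.antisymm ((genericPoint_spec A.left).specializes trivial)).eq⟩
  -- the curve
  let E : TopologicalSpace.Closeds A.left := ⟨C, hC⟩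
  let J := Scheme.IdealSheafData.vanishingIdeal E
  have hJr : Set.range J.subschemeι = C := GrothLib.RedSub.range_subschemeι_vanishingIdeal E
  haveI : IsIntegral J.subscheme := GrothLib.Euler.isIntegral_vanishingIdeal E hCirr
  let T : Over (Spec (CommRingCat.of k)) := Over.mk (J.subschemeι ≫ A.hom)
  let i : T ⟶ A := Over.homMk J.subschemeι rfl
  haveI : IsIntegral T.left := ‹IsIntegral J.subscheme›
  haveI : IsProper T.hom := inferInstanceAs (IsProper (J.subschemeι ≫ A.hom))
  haveI : GeometricallyIntegral T.hom := GrothLib.Cube.geometricallyIntegral_of_isIntegral T.hom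
  have htop : i.left ⁻¹ᵁ U = ⊤ := by
    refine top_le_iff.1 fun q _ => (hU _).2 fun hq => ?_
    exact Set.disjoint_left.1 hdisj (hJr ▸ ⟨q, rfl⟩) hq
  have h1 : GrothLib.Cube.pull i.left (x₀ ^ 3) = 1 := by
    refine GrothLib.Cube.eq_one_of_hasSec_top ?_
    rw [← htop]
    exact GrothLib.Cube.hasSec_pull _ (GrothLib.Cube.hasSec_pow hs 2)
  have lift_pt : ∀ z : 𝟙_ (Over (Spec (CommRingCat.of k))) ⟶ A, Set.range z.left.base ⊆ C →
      ∃ t : 𝟙_ (Over (Spec (CommRingCat.of k))) ⟶ T, t ≫ i = z := by
    intro z hz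
    obtain ⟨q, hq⟩ : GrothLib.Cube.ptOf z ∈ Set.range J.subschemeι := by rw [hJr]; exact hz ⟨_, rfl⟩
    have hqc : IsClosed ({q} : Set T.left) := by
      haveI : IsClosedImmersion (z.left ≫ A.hom) := by
        rw [Over.w z]; exact inferInstanceAs (IsClosedImmersion (𝟙 (Spec (CommRingCat.of k))))
      haveI : IsClosedImmersion z.left := IsClosedImmersion.of_comp z.left A.hom
      have hzc : IsClosed ({GrothLib.Cube.ptOf z} : Set A.left) := by
        have h := z.left.isClosedEmbedding.isClosedMap _ (IsLocalRing.isClosed_singleton_closedPoint (CommRingCat.of k))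
        convert h using 1
        ext w
        constructor
        · rintro rfl; exact ⟨_, rfl, rfl⟩
        · rintro ⟨_, rfl, rfl⟩; rfl
      have e : ({q} : Set T.left) = J.subschemeι ⁻¹' {GrothLib.Cube.ptOf z} := by
        ext w; exact ⟨fun hw => (congrArg _ hw).trans hq, fun hw => J.subschemeι.injective (hw.trans hq.symm)⟩
      rw [e]
      exact hzc.preimage J.subschemeι.continuous
    obtain ⟨t, ht, -⟩ := GrothLib.Cube.exists_point_factor (T := T) (q : T.left) hqc
    refine ⟨t, GrothLib.Cube.eq_of_ptOf_eq ?_⟩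
    rw [← GrothLib.Cube.apply_ptOf, show GrothLib.Cube.ptOf t = q from ht]
    exact hq
  obtain ⟨tx, htx⟩ := lift_pt x hx
  obtain ⟨ty, hty⟩ := lift_pt y hy
  have key : ∀ (t t₀ : 𝟙_ (Over (Spec (CommRingCat.of k))) ⟶ T) (a : 𝟙_ (Over (Spec (CommRingCat.of k))) ⟶ A),
      GrothLib.Cube.ptOf (t₀ ≫ i * a) ∈ U → GrothLib.Cube.ptOf (t ≫ i * a) ∈ U := by
    intro t t₀ a ha
    obtain ⟨b, c, habc, hb, hc⟩ := GrothLib.Cube.exists_triple hne (t₀ ≫ i) a
    have hsec := GrothLib.Cube.hasSec_pull i.left (GrothLib.Cube.hasSec_triLocus hs habc)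
    rw [h1] at hsec
    rcases GrothLib.Cube.locus_eq_bot_or_top (GrothLib.Cube.isAntiAffine_of_proper (X := T) t₀) hsec with h | h
    · exfalso
      have : GrothLib.Cube.ptOf t₀ ∈ i.left ⁻¹ᵁ GrothLib.Cube.triLocus U a b c := by
        show i.left _ ∈ GrothLib.Cube.triLocus U a b c
        rw [GrothLib.Cube.apply_ptOf]
        exact GrothLib.Cube.ptOf_mem_triLocus ha hb hc
      rw [h] at this
      exact this
    · have : GrothLib.Cube.ptOf t ∈ i.left ⁻¹ᵁ GrothLib.Cube.triLocus U a b c := by rw [h]; trivial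
      have h' : (GrothLib.Cube.transl a).left (i.left (GrothLib.Cube.ptOf t)) ∈ U := this.1.1
      rw [GrothLib.Cube.apply_ptOf, GrothLib.Cube.apply_ptOf, GrothLib.Cube.comp_transl_point] at h'
      exact h'
  let τ : A ⟶ A := GrothLib.Cube.transl (x * y⁻¹)
  show τ.left.base ⁻¹' Δ = Δ
  have hiff : ∀ q ∈ closedPoints A.left, (q ∈ τ.left.base ⁻¹' Δ ↔ q ∈ Δ) := by
    intro q hq
    obtain ⟨p, hp, -⟩ := GrothLib.Cube.exists_point_factor q hq
    rw [← hp]
    show τ.left (GrothLib.Cube.ptOf p) ∈ Δ ↔ GrothLib.Cube.ptOf p ∈ Δ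
    rw [GrothLib.Cube.apply_ptOf, GrothLib.Cube.comp_transl_point]
    have ex : p * (x * y⁻¹) = tx ≫ i * (p * y⁻¹) := by rw [htx, mul_left_comm]
    have ey : ty ≫ i * (p * y⁻¹) = p := by
      rw [hty, mul_left_comm, mul_inv_cancel, _root_.mul_one]
    constructor
    · intro h
      by_contra hn
      have := key tx ty (p * y⁻¹) (by rw [ey]; exact (hU _).2 hn)
      rw [← ex] at this
      exact (hU _).1 this h
    · intro h
      by_contra hn
      have := key ty tx (p * y⁻¹) (by rw [← ex]; exact (hU _).2 hn)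
      rw [ey] at this
      exact (hU _).1 this h
  rw [← closure_inter_closedPoints (hΔ.preimage τ.left.continuous)]
  conv_rhs => rw [← closure_inter_closedPoints hΔ]
  congr 1
  ext q
  exact and_congr_left (hiff q)

end Groth.Agent.S18373
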