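import Groth.Statements.S18376
import Groth.Agent.Lib.PhiStab.SpanTree

set_option autoImplicit false
universe u
open PhiStab

namespace Groth.Agent.S18376

open PhiStab in
/-- Let (V, E, ends) be a connected finite multigraph, b an integer, and φ₁, φ₂ real weightings of the
vertices with Σ_v φ₁ v = Σ_v φ₂ v = b, φ₁ nondegenerate. Then every φ₁-stable sheaf datum (m, N) of
total degree b is φ₂-semistable if and only if φ₂ lies in the closed stability polytope of φ₁, that
is, for every elementary vertex set S and every integer d with d - Σ_{v ∈ S} φ₁ v + cut S / 2 > 0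
one has d - Σ_{v ∈ S} φ₂ v + cut S / 2 ≥ 0. Membership in the closure of the polytope is expressed
by this half-space condition, the form in which the source's proof uses it; the sheaves of degree g
- 1 = b on stable pointed curves with this dual graph enter through their combinatorial data. -/
theorem result {V E : Type u} [Fintype V] [Fintype E] [DecidableEq V] [DecidableEq E]
    (ends : E → V × V)
    (hconn : LabGraph.Connected ends) (b : ℤ) (φ₁ φ₂ : V → ℝ) (h₁ : (∑ v : V, φ₁ v) = (b : ℝ))
    (h₂ : (∑ v : V, φ₂ v) = (b : ℝ)) (hnd : Nondegenerate ends φ₁) :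
    (∀ (m : V → ℤ) (N : Finset E), totDeg m N = b → IsStable ends φ₁ m N → IsSemistable ends φ₂ m N) ↔
      InClosedPolytope ends φ₁ φ₂ := by
  constructor
  · intro h S hS d hd
    obtain ⟨T, hT, hcard⟩ := GrothLib.PhiStab.exists_tree hconn hS
    obtain ⟨m, htot, hss⟩ := GrothLib.PhiStab.exists_semistable (ends := ends) hT b φ₁ h₁
    have hs : IsStable ends φ₁ m Tᶜ := hnd m Tᶜ (by rw [htot, h₁]) hss
    obtain ⟨hne, hne'⟩ := GrothLib.PhiStab.ne_univ_of_elementary hS
    have hlt := (GrothLib.PhiStab.slack_lt_one (by rw [htot, h₁]) hs hne hne' hcard).2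
    have h2 := h m Tᶜ htot hs S hne hne'
    simp only [GrothLib.PhiStab.slack] at hlt
    simp only [ell] at hd ⊢
    have hle : degOn ends m Tᶜ S ≤ d := by
      have : (degOn ends m Tᶜ S : ℝ) < ((d + 1 : ℤ) : ℝ) := by push_cast; linarith
      exact Int.lt_add_one_iff.1 (by exact_mod_cast this)
    have hle' : (degOn ends m Tᶜ S : ℝ) ≤ (d : ℝ) := by exact_mod_cast hle
    linarith
  · intro h m N htot hs
    rw [GrothLib.PhiStab.semistable_iff]
    refine GrothLib.PhiStab.slack_of_elementary hconn (by rw [htot, h₂]) (fun x => 0 ≤ x)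
      (fun x y hx hy => add_nonneg hx hy) (fun S hS => ?_)
    obtain ⟨hne, hne'⟩ := GrothLib.PhiStab.ne_univ_of_elementary hS
    have h1 := hs S hne hne'
    have := h S hS (degOn ends m N S) (by simp only [ell]; linarith)
    simp only [ell] at this
    simp only [GrothLib.PhiStab.slack]
    linarith

end Groth.Agent.S18376
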