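import Groth.Statements.S18377
-- import your own Groth.Agent.* helpers here
import Groth.Agent.Lib.Verlinde.Schur
import Mathlib.Algebra.BigOperators.Field


set_option autoImplicit false
open Complex
open VerlindeComb

namespace Groth.Agent.S18377

/-- Let r, k ≥ 1 be integers and v_1 > v_2 > ⋯ > v_r ≥ 0 integers below r + k; put z_j = exp(2πi v_j /
(r + k)) and, for μ = (μ_1, …, μ_r), let S_μ(z) = det(z_j^{μ_i + r - i}) / det(z_j^{r - i}) be the
value of the Schur polynomial (the z_j are distinct, so the Vandermonde denominator is nonzero).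
Then, summing over all μ with k > μ_1 ≥ ⋯ ≥ μ_r ≥ 0 and writing μ* = (k - μ_r, …, k - μ_1), one has
Σ_μ S_μ(z) S_{μ*}(z) = exp(2πi k (v_1 + ⋯ + v_r) / (r + k)) · k (r + k)^{r-1} / ∏_{i<j} (2 sin(π
(v_i - v_j) / (r + k)))². Indices are 0-based below: μ i stands for μ_{i+1}. -/
theorem result (r k : ℕ) (hr : 1 ≤ r) (hk : 1 ≤ k)
    (v : Fin r → ℕ) (hv : StrictAnti v) (hvlt : ∀ i, v i < r + k)
    (z : Fin r → ℂ) (hz : ∀ j, z j = Complex.exp (2 * Real.pi * Complex.I * (v j : ℂ) / ((r : ℂ) + k)))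
    (S : (Fin r → ℕ) → ℂ)
    (hS : ∀ μ : Fin r → ℕ, S μ =
      (Matrix.of fun i j : Fin r => z j ^ (μ i + (r - 1 - (i : ℕ)))).det /
        (Matrix.of fun i j : Fin r => z j ^ (r - 1 - (i : ℕ))).det) :
    (∑ μ ∈ (Finset.univ : Finset (Fin r → Fin k)).filter (fun μ : Fin r → Fin k => Antitone μ),
        S (fun i => (μ i : ℕ)) * S (fun i => k - (μ (Fin.rev i) : ℕ))) =
      Complex.exp (2 * Real.pi * Complex.I * (k : ℂ) * ((∑ j, v j : ℕ) : ℂ) / ((r : ℂ) + k)) *
        ((k : ℂ) * ((r : ℂ) + k) ^ (r - 1)) /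
        (∏ p ∈ (Finset.univ : Finset (Fin r × Fin r)).filter (fun p => p.1 < p.2),
          (((2 : ℝ) * Real.sin (Real.pi * ((v p.1 : ℝ) - (v p.2 : ℝ)) / ((r : ℝ) + k))) ^ 2 : ℝ) : ℂ) := by
  classical
  have hN : 0 < r + k := by omega
  have hcast : ((r : ℂ) + k) = ((r + k : ℕ) : ℂ) := by push_cast; rfl
  have hze : ∀ j, z j = GrothLib.Verlinde.E r (r + k) ((r : ℤ) * v j) := fun j => by
    rw [hz j]; exact GrothLib.Verlinde.exp_eq_E (by omega) _ _ hcast
  have hinj : Function.Injective z := by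
    have := GrothLib.Verlinde.E_injective (N := r + k) (by omega) v hv.injective hvlt
    intro i j h
    exact this (by simpa [hze] using h)
  have hne : ∀ j, z j ≠ 0 := fun j => by rw [hze]; exact GrothLib.Verlinde.E_ne_zero _
  have hzN : ∀ j, z j ^ (r + k) = 1 := fun j => by
    rw [hze, GrothLib.Verlinde.E_pow, GrothLib.Verlinde.E_eq_one_iff (by omega) hN]
    exact ⟨v j, by push_cast; ring⟩
  set Δ := ∏ p ∈ GrothLib.Verlinde.pairs r, (z p.1 - z p.2) with hΔdef
  have hΔ : Δ ≠ 0 := GrothLib.Verlinde.prod_pairs_sub_ne_zero hinj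
  set s : ℂ := (-1) ^ (GrothLib.Verlinde.pairs r).card with hsdef
  have hs2 : s * s = 1 := by rw [hsdef, ← mul_pow]; norm_num
  have hterm : ∀ μ : Fin r → Fin k,
      S (fun i => (μ i : ℕ)) * S (fun i => k - (μ (Fin.rev i) : ℕ)) =
        s * (∏ j, (z j)⁻¹) / Δ ^ 2 *
          GrothLib.Verlinde.G z (fun j => (z j)⁻¹) (fun i => (μ i : ℕ) + (r - 1 - (i : ℕ))) := by
    intro μ
    have h2 : (Matrix.of fun i j : Fin r => z j ^ (k - (μ (Fin.rev i) : ℕ) + (r - 1 - (i : ℕ)))).det =
        s * ((∏ j, (z j)⁻¹) *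
          (Matrix.of fun i j : Fin r => (z j)⁻¹ ^ ((μ i : ℕ) + (r - 1 - (i : ℕ)))).det) := by
      rw [hsdef, ← GrothLib.Verlinde.sign_rev hinj, ← Matrix.det_mul_row, ← Matrix.det_permute]
      congr 1
      ext i j
      simp only [Matrix.submatrix_apply, Matrix.of_apply, id_eq, Fin.revPerm_apply, Fin.val_rev]
      have e : k - (μ (Fin.rev i) : ℕ) + (r - 1 - (i : ℕ)) +
          (((μ (Fin.rev i) : ℕ) + (r - 1 - (r - ((i : ℕ) + 1)))) + 1) = r + k := by
        have := (μ (Fin.rev i)).2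
        have := i.2
        omega
      generalize k - (μ (Fin.rev i) : ℕ) + (r - 1 - (i : ℕ)) = b at e ⊢
      generalize (μ (Fin.rev i) : ℕ) + (r - 1 - (r - ((i : ℕ) + 1))) = a at e ⊢
      have h3 : z j ^ b * z j ^ (a + 1) = 1 := by rw [← pow_add, e, hzN]
      rw [← pow_succ', inv_pow]
      exact eq_inv_of_mul_eq_one_left h3
    rw [hS, hS, h2, GrothLib.Verlinde.det_delta, ← hΔdef, GrothLib.Verlinde.G,
      ← Matrix.det_transpose (Matrix.of fun i j : Fin r => z i ^ ((μ j : ℕ) + (r - 1 - (j : ℕ)))),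
      ← Matrix.det_transpose (Matrix.of fun i j : Fin r => (z i)⁻¹ ^ ((μ j : ℕ) + (r - 1 - (j : ℕ))))]
    have et : ∀ f : Fin r → Fin r → ℂ, (Matrix.of f).transpose = Matrix.of fun i j => f j i := fun f => rfl
    rw [et, et]
    field_simp
  rw [Finset.sum_congr rfl fun μ _ => hterm μ, ← Finset.mul_sum]
  have hsum : (∑ μ ∈ (Finset.univ : Finset (Fin r → Fin k)).filter (fun μ : Fin r → Fin k => Antitone μ),
      GrothLib.Verlinde.G z (fun j => (z j)⁻¹) (fun i => (μ i : ℕ) + (r - 1 - (i : ℕ)))) =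
      ∑ w ∈ (Finset.univ : Finset (Fin r → Fin (r + k - 1))).filter StrictAnti,
        GrothLib.Verlinde.G z (fun j => (z j)⁻¹) (fun i => (w i : ℕ)) := by
    refine Finset.sum_bij (fun μ _ i => (⟨(μ i : ℕ) + (r - 1 - (i : ℕ)), by
        have := (μ i).2; omega⟩ : Fin (r + k - 1))) (fun μ hμ => ?_) (fun μ _ μ' _ h => ?_)
      (fun w hw => ?_) (fun μ _ => rfl)
    · refine Finset.mem_filter.mpr ⟨Finset.mem_univ _, fun i j hij => ?_⟩
      exact GrothLib.Verlinde.strictAnti_add_delta (μ := fun i => (μ i : ℕ))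
        (fun a b hab => (Finset.mem_filter.mp hμ).2 hab) hij
    · funext i
      have := congrArg Fin.val (congrFun h i)
      exact Fin.ext (by simpa using this)
    · have hanti := (Finset.mem_filter.mp hw).2
      obtain ⟨n, rfl⟩ : ∃ n, r = n + 1 := ⟨r - 1, by omega⟩
      have hge : ∀ i : Fin (n + 1), n + 1 - 1 - (i : ℕ) ≤ (w i : ℕ) ∧ (w i : ℕ) < k + (n + 1 - 1 - (i : ℕ)) := by
        intro i
        constructor
        · induction i using Fin.reverseInduction with
          | last => simp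
          | cast i ih =>
            have : (w i.succ : ℕ) < (w i.castSucc : ℕ) := hanti Fin.castSucc_lt_succ
            simp only [Fin.val_succ, Fin.val_castSucc] at ih ⊢
            omega
        · induction i using Fin.induction with
          | zero => have := (w 0).2; simp only [Fin.val_zero]; omega
          | succ i ih =>
            have : (w i.succ : ℕ) < (w i.castSucc : ℕ) := hanti Fin.castSucc_lt_succ
            simp only [Fin.val_succ, Fin.val_castSucc] at ih ⊢
            omega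
      refine ⟨fun i => ⟨(w i : ℕ) - (n + 1 - 1 - (i : ℕ)), by have := hge i; omega⟩,
        Finset.mem_filter.mpr ⟨Finset.mem_univ _, ?_⟩, funext fun i => Fin.ext ?_⟩
      · refine Fin.antitone_iff_succ_le.mpr fun i => ?_
        have : (w i.succ : ℕ) < (w i.castSucc : ℕ) := hanti Fin.castSucc_lt_succ
        show (w i.succ : ℕ) - _ ≤ (w i.castSucc : ℕ) - _
        have := (hge i.succ).1
        simp only [Fin.val_succ, Fin.val_castSucc] at *
        omega
      · exact Nat.sub_add_cancel (hge i).1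
  rw [hsum, GrothLib.Verlinde.sum_G_strictAnti]
  set Kc : ℂ := ((r + k : ℕ) : ℂ) with hKc
  have hK0 : Kc ≠ 0 := Nat.cast_ne_zero.mpr hN.ne'
  have hM : (Matrix.of fun i j => ∑ t : Fin (r + k - 1), (z i * (z j)⁻¹) ^ (t : ℕ)) =
      Kc • (1 + Matrix.replicateCol Unit (fun i => -(z i)⁻¹ / Kc) * Matrix.replicateRow Unit z) := by
    ext i j
    rw [Matrix.of_apply, Matrix.smul_apply, Matrix.add_apply, Matrix.mul_apply,
      Fin.sum_univ_eq_sum_range (fun t => (z i * (z j)⁻¹) ^ t) (r + k - 1), Fintype.sum_unique,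
      Matrix.replicateCol_apply, Matrix.replicateRow_apply, smul_eq_mul]
    rcases eq_or_ne i j with rfl | hij
    · simp only [Matrix.one_apply_eq, mul_inv_cancel₀ (hne i), one_pow, Finset.sum_const, Finset.card_range,
        nsmul_eq_mul, mul_one]
      rw [Nat.cast_sub (by omega), ← hKc]
      field_simp [hne i]
      push_cast
      ring
    · have h1 : z i * (z j)⁻¹ ≠ 1 := fun h => hij (hinj (by field_simp [hne j] at h; exact h))
      have h2 : (z i * (z j)⁻¹) ^ (r + k - 1) = (z i * (z j)⁻¹)⁻¹ := by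
        refine eq_inv_of_mul_eq_one_left ?_
        rw [← pow_succ, show r + k - 1 + 1 = r + k by omega, mul_pow, inv_pow, hzN, hzN]
        simp
      rw [geom_sum_eq h1, h2, Matrix.one_apply_ne hij, div_eq_iff (sub_ne_zero.mpr h1)]
      field_simp [hne i, hne j]
      ring
  rw [hM, Matrix.det_smul, Matrix.det_one_add_replicateCol_mul_replicateRow, Fintype.card_fin]
  have hdot : z ⬝ᵥ (fun i => -(z i)⁻¹ / Kc) = -(r : ℂ) / Kc := by
    simp only [dotProduct]
    rw [Finset.sum_congr rfl fun i _ => show z i * (-(z i)⁻¹ / Kc) = -1 / Kc by field_simp [hne i]]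
    rw [Finset.sum_const, Finset.card_univ, Fintype.card_fin, nsmul_eq_mul]
    ring
  rw [hdot]
  have hP := GrothLib.Verlinde.prod_two_sin_mul ((r : ℝ) + k) v z (fun j => by rw [hz j]; push_cast; rfl)
  rw [← hΔdef, ← hsdef] at hP
  rw [hcast]
  have hexp : Complex.exp (2 * Real.pi * Complex.I * (k : ℂ) * ((∑ j, v j : ℕ) : ℂ) / Kc) = ∏ j, z j ^ k := by
    rw [Finset.prod_congr rfl fun j _ => show z j ^ k =
        Complex.exp ((k : ℂ) * (2 * Real.pi * Complex.I * (v j : ℂ) / ((r : ℂ) + k))) by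
      rw [hz j, ← Complex.exp_nat_mul], ← Complex.exp_sum]
    congr 1
    rw [hcast]
    push_cast
    rw [Finset.mul_sum, Finset.sum_div]
    exact Finset.sum_congr rfl fun j _ => by ring
  rw [hexp]
  have hprod : (∏ j, (z j)⁻¹) = (∏ j, z j ^ k) * ∏ j, z j ^ (r - 1) := by
    rw [← Finset.prod_mul_distrib]
    refine Finset.prod_congr rfl fun j _ => ?_
    refine (eq_inv_of_mul_eq_one_left ?_).symm
    rw [← pow_add, ← pow_succ, show k + (r - 1) + 1 = r + k by omega, hzN]
  rw [hprod]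
  have hsne : s ≠ 0 := fun h => by simp [h] at hs2
  have hKr : Kc ^ r = Kc ^ (r - 1) * Kc := by rw [← pow_succ, show r - 1 + 1 = r by omega]
  have hk' : Kc - r = k := by rw [hKc]; push_cast; ring
  generalize hPdef : (((∏ p ∈ GrothLib.Verlinde.pairs r,
    (((2 : ℝ) * Real.sin (Real.pi * ((v p.1 : ℝ) - (v p.2 : ℝ)) / ((r : ℝ) + k))) ^ 2 : ℝ)) : ℝ) : ℂ) = P at hP ⊢
  have hzr : ∏ j, z j ^ (r - 1) ≠ 0 := Finset.prod_ne_zero_iff.mpr fun j _ => pow_ne_zero _ (hne j)
  have hPne : P ≠ 0 := fun h => by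
    rw [h, zero_mul] at hP
    exact (mul_ne_zero hsne (pow_ne_zero 2 hΔ)) hP.symm
  rw [Complex.ofReal_prod] at hPdef
  rw [hKr]
  generalize (∏ j, z j ^ k) = A
  generalize (∏ j, z j ^ (r - 1)) = B at hP hzr ⊢
  generalize Kc ^ (r - 1) = Q
  simp only [GrothLib.Verlinde.pairs] at hPdef
  rw [← hk', hPdef]
  field_simp
  linear_combination A * Q * (Kc - r) * s * hP + A * Q * (Kc - r) * Δ ^ 2 * hs2

end Groth.Agent.S18377
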