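import Groth.Statements.S18378
-- import your own Groth.Agent.* helpers here
import Groth.Agent.Lib.Verlinde.Schur

set_option autoImplicit false
open Complex
open VerlindeComb

namespace Groth.Agent.S18378

/-- Let r, k ≥ 1 be integers and v, v' two integer vectors with r + k > v_1 > ⋯ > v_r ≥ 0 and r + k >
v'_1 > ⋯ > v'_r ≥ 0 whose difference v - v' is not a constant vector (a, …, a). Put z_j = exp(2πi
v_j / (r + k)), z'_j = exp(2πi v'_j / (r + k)), let S_μ(w) = det(w_j^{μ_i + r - i}) / det(w_j^{r -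
i}) be the Schur value at w = z or z', and write |x| for the sum of the coordinates of a vector and
μ* = (k - μ_r, …, k - μ_1). Then the sum over all μ with k ≥ μ_1 ≥ ⋯ ≥ μ_{r-1} ≥ μ_r = 0 of exp(-2πi
|μ| |v| / (r (r + k))) · exp(-2πi |μ*| |v'| / (r (r + k))) · S_μ(z) · S_{μ*}(z') is zero. The
vanishing is the orthogonality of distinct characters and holds exactly for non-equivalent v, v';
for v - v' constant the sum is nonzero. Indices are 0-based below: μ i stands for μ_{i+1}. -/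
theorem result (r k : ℕ) (hr : 1 ≤ r)
    (hk : 1 ≤ k) (v v' : Fin r → ℕ) (hv : StrictAnti v) (hvlt : ∀ i, v i < r + k) (hv' : StrictAnti v')
    (hv'lt : ∀ i, v' i < r + k) (hne : ¬ ∃ a : ℤ, ∀ i, (v i : ℤ) - (v' i : ℤ) = a)
    (z z' : Fin r → ℂ) (hz : ∀ j, z j = Complex.exp (2 * Real.pi * Complex.I * (v j : ℂ) / ((r : ℂ) + k)))
    (hz' : ∀ j, z' j = Complex.exp (2 * Real.pi * Complex.I * (v' j : ℂ) / ((r : ℂ) + k)))
    (S S' : (Fin r → ℕ) → ℂ)
    (hS : ∀ μ : Fin r → ℕ, S μ =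
      (Matrix.of fun i j : Fin r => z j ^ (μ i + (r - 1 - (i : ℕ)))).det /
        (Matrix.of fun i j : Fin r => z j ^ (r - 1 - (i : ℕ))).det)
    (hS' : ∀ μ : Fin r → ℕ, S' μ =
      (Matrix.of fun i j : Fin r => z' j ^ (μ i + (r - 1 - (i : ℕ)))).det /
        (Matrix.of fun i j : Fin r => z' j ^ (r - 1 - (i : ℕ))).det) :
    (∑ μ ∈ (Finset.univ : Finset (Fin r → Fin (k + 1))).filter
        (fun μ : Fin r → Fin (k + 1) => Antitone μ ∧ ∀ i : Fin r, (i : ℕ) = r - 1 → (μ i : ℕ) = 0),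
      Complex.exp (-(2 * Real.pi * Complex.I * ((∑ i, (μ i : ℕ) : ℕ) : ℂ) * ((∑ j, v j : ℕ) : ℂ) /
          ((r : ℂ) * ((r : ℂ) + k)))) *
      Complex.exp (-(2 * Real.pi * Complex.I * ((∑ i, (k - (μ (Fin.rev i) : ℕ)) : ℕ) : ℂ) *
          ((∑ j, v' j : ℕ) : ℂ) / ((r : ℂ) * ((r : ℂ) + k)))) *
      S (fun i => (μ i : ℕ)) * S' (fun i => k - (μ (Fin.rev i) : ℕ))) = 0 := by
  classical
  obtain ⟨n, rfl⟩ : ∃ n, r = n + 1 := ⟨r - 1, by omega⟩
  have hN : 0 < n + 1 + k := by omega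
  have : NeZero (n + 1 + k) := ⟨hN.ne'⟩
  let d : Fin (n + 1) → ℕ := fun i => n + 1 - 1 - (i : ℕ)
  let p : Fin (n + 1) → ℤ := fun i => (v i : ℤ)
  let q : Fin (n + 1) → ℤ := fun i => -(v' i : ℤ)
  set Ef : ℤ → ℂ := GrothLib.Verlinde.E (n + 1) (n + 1 + k) with hEf
  have hzE : ∀ (u : Fin (n + 1) → ℕ) (ζ : Fin (n + 1) → ℂ),
      (∀ j, ζ j = Complex.exp (2 * Real.pi * Complex.I * (u j : ℂ) / (((n + 1 : ℕ) : ℂ) + k))) →
      ∀ j, ζ j = Ef (((n + 1 : ℕ) : ℤ) * u j) := fun u ζ hζ j => by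
    rw [hζ j]; exact GrothLib.Verlinde.exp_eq_E (Nat.succ_pos n) _ _ (by push_cast; ring)
  have hze := hzE v z hz
  have hze' := hzE v' z' hz'
  let Δ := (Matrix.of fun i j : Fin (n + 1) => z j ^ (n + 1 - 1 - (i : ℕ))).det
  let Δ' := (Matrix.of fun i j : Fin (n + 1) => z' j ^ (n + 1 - 1 - (i : ℕ))).det
  let D : ℤ := ∑ i, (d i : ℤ)
  let A : (Fin (n + 1) → ℕ) → ℤ := fun a => ∑ i, (a i : ℤ)
  let C : ℂ := ((Equiv.Perm.sign (Fin.revPerm : Equiv.Perm (Fin (n + 1))) : ℤ) : ℂ) * (∏ j, (z' j)⁻¹) *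
    Ef (D * (∑ j, (v j : ℤ)) - (((n + 1 : ℕ) : ℤ) * k + D) * (∑ j, (v' j : ℤ))) / (Δ * Δ')
  have hterm : ∀ μ ∈ (Finset.univ : Finset (Fin (n + 1) → Fin (k + 1))).filter
        (fun μ : Fin (n + 1) → Fin (k + 1) => Antitone μ ∧ ∀ i : Fin (n + 1), (i : ℕ) = n + 1 - 1 → (μ i : ℕ) = 0),
      Complex.exp (-(2 * Real.pi * Complex.I * ((∑ i, (μ i : ℕ) : ℕ) : ℂ) * ((∑ j, v j : ℕ) : ℂ) /
          (((n + 1 : ℕ) : ℂ) * (((n + 1 : ℕ) : ℂ) + k)))) *
      Complex.exp (-(2 * Real.pi * Complex.I * ((∑ i, (k - (μ (Fin.rev i) : ℕ)) : ℕ) : ℂ) *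
          ((∑ j, v' j : ℕ) : ℂ) / (((n + 1 : ℕ) : ℂ) * (((n + 1 : ℕ) : ℂ) + k)))) *
      S (fun i => (μ i : ℕ)) * S' (fun i => k - (μ (Fin.rev i) : ℕ)) =
      C * GrothLib.Verlinde.G (GrothLib.Verlinde.tw (n + 1 + k) p) (GrothLib.Verlinde.tw (n + 1 + k) q)
        (fun i => (μ i : ℕ) + d i) := by
    intro μ hμ
    set a : Fin (n + 1) → ℕ := fun i => (μ i : ℕ) + d i with ha
    have hA : A a = (∑ i, ((μ i : ℕ) : ℤ)) + D := by
      simp only [A, D, a, Nat.cast_add, Finset.sum_add_distrib]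
    have h1 : (Matrix.of fun i j : Fin (n + 1) => z j ^ a i).det = Ef ((∑ j, (v j : ℤ)) * A a) *
        (Matrix.of fun i j => GrothLib.Verlinde.tw (n + 1 + k) p i ^ a j).det := by
      rw [hEf, ← GrothLib.Verlinde.det_E_eq, ← Matrix.det_transpose]
      congr 1
      ext i j
      rw [Matrix.transpose_apply, Matrix.of_apply, Matrix.of_apply, hze, GrothLib.Verlinde.E_pow]
    have h2 : (Matrix.of fun i j : Fin (n + 1) => z' j ^ (k - (μ (Fin.rev i) : ℕ) + (n + 1 - 1 - (i : ℕ)))).det =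
        ((Equiv.Perm.sign (Fin.revPerm : Equiv.Perm (Fin (n + 1))) : ℤ) : ℂ) * ((∏ j, (z' j)⁻¹) *
          (Ef (-(∑ j, (v' j : ℤ)) * A a) *
            (Matrix.of fun i j => GrothLib.Verlinde.tw (n + 1 + k) q i ^ a j).det)) := by
      rw [show Ef (-(∑ j, (v' j : ℤ)) * A a) * (Matrix.of fun i j => GrothLib.Verlinde.tw (n + 1 + k) q i ^ a j).det =
          (Matrix.of fun i j => Ef (((n + 1 : ℕ) : ℤ) * q i * a j)).det by
        rw [hEf, GrothLib.Verlinde.det_E_eq]; simp [q, A],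
        ← Matrix.det_transpose (Matrix.of fun i j => Ef (((n + 1 : ℕ) : ℤ) * q i * a j)),
        ← Matrix.det_mul_row, ← Matrix.det_permute]
      congr 1
      ext i j
      rw [Matrix.submatrix_apply, Matrix.of_apply, Matrix.of_apply, id_eq, Matrix.transpose_apply, Matrix.of_apply,
        hze' j, hEf, GrothLib.Verlinde.E_pow]
      have hμk : (μ (Fin.rev i) : ℕ) ≤ k := Nat.lt_succ_iff.mp (μ _).2
      rw [show (GrothLib.Verlinde.E (n + 1) (n + 1 + k) (((n + 1 : ℕ) : ℤ) * v' j))⁻¹ =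
          GrothLib.Verlinde.E (n + 1) (n + 1 + k) (-(((n + 1 : ℕ) : ℤ) * v' j)) by
        refine inv_eq_of_mul_eq_one_right ?_
        rw [← GrothLib.Verlinde.E_add, add_neg_cancel, GrothLib.Verlinde.E_zero],
        ← GrothLib.Verlinde.E_add]
      have e : ((k - (μ (Fin.rev i) : ℕ) + (n + 1 - 1 - (i : ℕ)) : ℕ) : ℤ) =
          ((n + 1 + k : ℕ) : ℤ) - 1 - (a (Fin.revPerm i) : ℤ) := by
        simp only [a, d, Fin.revPerm_apply, Fin.val_rev]
        omega
      rw [e, show ((n + 1 : ℕ) : ℤ) * v' j * (((n + 1 + k : ℕ) : ℤ) - 1 - (a (Fin.revPerm i) : ℤ)) =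
        ((n + 1 : ℕ) : ℤ) * (n + 1 + k : ℕ) * v' j +
          (-(((n + 1 : ℕ) : ℤ) * v' j) + ((n + 1 : ℕ) : ℤ) * q j * a (Fin.revPerm i)) by simp only [q]; ring,
        GrothLib.Verlinde.E_add, (GrothLib.Verlinde.E_eq_one_iff (Nat.succ_pos n) hN _).mpr (dvd_mul_right _ _), one_mul]
    have hsum' : ((∑ i, (k - (μ (Fin.rev i) : ℕ)) : ℕ) : ℤ) = ((n + 1 : ℕ) : ℤ) * k - ∑ i, ((μ i : ℕ) : ℤ) := by
      rw [Nat.cast_sum, Finset.sum_congr rfl fun i _ =>
          (Nat.cast_sub (Nat.lt_succ_iff.mp (μ (Fin.rev i)).2) : ((k - (μ (Fin.rev i) : ℕ) : ℕ) : ℤ) = _),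
        Finset.sum_sub_distrib, Finset.sum_const, Finset.card_univ, Fintype.card_fin, nsmul_eq_mul]
      congr 1
      exact Equiv.sum_comp (Fin.revPerm : Equiv.Perm (Fin (n + 1))) fun i => ((μ i : ℕ) : ℤ)
    have hexp : ∀ L V : ℕ, Complex.exp (-(2 * Real.pi * Complex.I * (L : ℂ) * (V : ℂ) /
          (((n + 1 : ℕ) : ℂ) * (((n + 1 : ℕ) : ℂ) + k)))) = Ef (-((L : ℤ) * V)) := fun L V => by
      rw [hEf, GrothLib.Verlinde.E]; congr 1; push_cast; ring
    rw [hS (fun i => (μ i : ℕ)), hS' (fun i => k - (μ (Fin.rev i) : ℕ)), hexp, hexp, hsum', h1, h2,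
      GrothLib.Verlinde.G]
    push_cast
    have hE : Ef (-((∑ i, ((μ i : ℕ) : ℤ)) * ∑ j, (v j : ℤ))) *
        Ef (-((((n + 1 : ℕ) : ℤ) * k - ∑ i, ((μ i : ℕ) : ℤ)) * ∑ j, (v' j : ℤ))) *
        (Ef ((∑ j, (v j : ℤ)) * A a) * Ef (-(∑ j, (v' j : ℤ)) * A a)) =
        Ef (D * (∑ j, (v j : ℤ)) - (((n + 1 : ℕ) : ℤ) * k + D) * (∑ j, (v' j : ℤ))) := by
      rw [hEf, ← GrothLib.Verlinde.E_add, ← GrothLib.Verlinde.E_add, ← GrothLib.Verlinde.E_add, hA]
      congr 1
      ring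
    push_cast at hE
    simp only [C, Δ, Δ']
    push_cast
    rw [← hE]
    ring
  rw [Finset.sum_congr rfl hterm, ← Finset.mul_sum]
  refine mul_eq_zero_of_right _ ?_
  refine Eq.trans ?_ (GrothLib.Verlinde.sum_eq_zero (N := n + 1 + k) p q ?_)
  · refine Finset.sum_bij (fun μ _ i => (⟨(μ i : ℕ) + d i, by
        have := (μ i).2; simp only [d]; omega⟩ : Fin (n + 1 + k))) (fun μ hμ => ?_) (fun μ _ μ' _ h => ?_)
      (fun w hw => ?_) (fun μ _ => rfl)
    · obtain ⟨hanti, hlast⟩ := (Finset.mem_filter.mp hμ).2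
      refine Finset.mem_filter.mpr ⟨Finset.mem_univ _, fun i j hij => ?_, fun i hi => ?_⟩
      · exact GrothLib.Verlinde.strictAnti_add_delta (μ := fun i => (μ i : ℕ)) (fun a b hab => hanti hab) hij
      · show (μ i : ℕ) + d i = 0
        rw [hlast i hi]; simp only [d, hi]; omega
    · funext i
      have := congrArg Fin.val (congrFun h i)
      exact Fin.ext (by simpa using this)
    · obtain ⟨hanti, hlast⟩ := (Finset.mem_filter.mp hw).2
      have hw0 : (w (Fin.last n) : ℕ) = 0 := GrothLib.Verlinde.last_of_pinned hw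
      have hge : ∀ i, d i ≤ (w i : ℕ) ∧ (w i : ℕ) ≤ k + d i := by
        intro i
        constructor
        · induction i using Fin.reverseInduction with
          | last => simp [d]
          | cast i ih =>
            have : (w i.succ : ℕ) < (w i.castSucc : ℕ) := hanti Fin.castSucc_lt_succ
            simp only [d, Fin.val_succ, Fin.val_castSucc] at ih ⊢
            omega
        · induction i using Fin.induction with
          | zero => have := (w 0).2; simp only [d, Fin.val_zero]; omega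
          | succ i ih =>
            have : (w i.succ : ℕ) < (w i.castSucc : ℕ) := hanti Fin.castSucc_lt_succ
            simp only [d, Fin.val_succ, Fin.val_castSucc] at ih ⊢
            omega
      refine ⟨fun i => ⟨(w i : ℕ) - d i, by have := hge i; omega⟩, Finset.mem_filter.mpr
        ⟨Finset.mem_univ _, ?_, fun i hi => ?_⟩, funext fun i => Fin.ext ?_⟩
      · refine Fin.antitone_iff_succ_le.mpr fun i => ?_
        have : (w i.succ : ℕ) < (w i.castSucc : ℕ) := hanti Fin.castSucc_lt_succ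
        show (w i.succ : ℕ) - d i.succ ≤ (w i.castSucc : ℕ) - d i.castSucc
        simp only [d, Fin.val_succ, Fin.val_castSucc]
        have := (hge i.succ).1
        omega
      · show (w i : ℕ) - d i = 0
        rw [hlast i hi]; exact Nat.zero_sub _
      · show (w i : ℕ) - d i + d i = (w i : ℕ)
        exact Nat.sub_add_cancel (hge i).1
  · rintro ⟨π, hπ⟩
    apply hne
    let f : Fin (n + 1) → ℤ := fun i => p i + q (π i)
    have hsumf : ∑ j, f j = ∑ j, p j + ∑ j, q j := by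
      rw [Finset.sum_add_distrib, Equiv.sum_comp π q]
    have hconst := GrothLib.Verlinde.eq_of_dvd (n + 1 + k) (f := f) (fun i j => by
      have := hvlt i; have := hvlt j; have := hv'lt (π i); have := hv'lt (π j)
      simp only [f, p, q]; omega) (fun i => by rw [hsumf]; exact hπ i)
    have hanti : StrictAnti (v' ∘ π) := fun i j hij => by
      have h1 := hconst i j
      have h2 := hv hij
      simp only [f, p, q] at h1
      show v' (π j) < v' (π i)
      omega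
    have hπid : v' ∘ π = v' := (StrictAnti.range_inj hanti hv').mp (EquivLike.range_comp v' π)
    refine ⟨f 0, fun i => ?_⟩
    have h1 := hconst i 0
    have h2 := congrFun hπid i
    simp only [Function.comp_apply] at h2
    simp only [f, p, q] at h1 ⊢
    rw [h2] at h1
    omega

end Groth.Agent.S18378
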