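import Groth.Statements.S18379
-- import your own Groth.Agent.* helpers here
import Groth.Agent.Lib.Verlinde.Schur

set_option autoImplicit false
open VerlindeComb

namespace Groth.Agent.S18379

/-- Let r, k ≥ 1 be integers. Summing over all integer vectors v with r + k > v_1 > v_2 > ⋯ > v_{r-1} >
v_r = 0, one has Σ_v ∏_{i<j} (2 sin(π (v_i - v_j) / (r + k)))² = r (r + k)^{r-1}; that is, the
genus-zero Verlinde number of rank r and level k with no parabolic points, defined as (r (r +
k)^{r-1})⁻¹ times this sum, equals 1. Indices are 0-based below: v i stands for v_{i+1}. -/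
theorem result (r k : ℕ) (hr : 1 ≤ r) (hk : 1 ≤ k) :
    (∑ v ∈ (Finset.univ : Finset (Fin r → Fin (r + k))).filter
        (fun v : Fin r → Fin (r + k) => StrictAnti v ∧ ∀ i : Fin r, (i : ℕ) = r - 1 → (v i : ℕ) = 0),
      ∏ p ∈ (Finset.univ : Finset (Fin r × Fin r)).filter (fun p => p.1 < p.2),
        ((2 : ℝ) * Real.sin (Real.pi * ((v p.1 : ℕ) - (v p.2 : ℕ) : ℝ) / ((r : ℝ) + k))) ^ 2) =
      (r : ℝ) * ((r : ℝ) + k) ^ (r - 1) := by
  classical
  obtain ⟨n, rfl⟩ : ∃ n, r = n + 1 := ⟨r - 1, by omega⟩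
  have hN : 0 < n + 1 + k := by omega
  have : NeZero (n + 1 + k) := ⟨hN.ne'⟩
  let δ : Fin (n + 1) → ℤ := fun i => ((n + 1 - 1 - (i : ℕ) : ℕ) : ℤ)
  let x := GrothLib.Verlinde.tw (n + 1 + k) δ
  let y := GrothLib.Verlinde.tw (n + 1 + k) (fun i => -δ i)
  have hterm : ∀ v : Fin (n + 1) → Fin (n + 1 + k),
      ((∏ p ∈ GrothLib.Verlinde.pairs (n + 1),
        ((2 : ℝ) * Real.sin (Real.pi * ((v p.1 : ℕ) - (v p.2 : ℕ) : ℝ) / (((n + 1 : ℕ) : ℝ) + k))) ^ 2 : ℝ) : ℂ) =
      GrothLib.Verlinde.G x y (fun j => (v j : ℕ)) := by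
    intro v
    set w : Fin (n + 1) → ℕ := fun j => (v j : ℕ) with hw
    let z : Fin (n + 1) → ℂ := fun j => GrothLib.Verlinde.E (n + 1) (n + 1 + k) (((n + 1 : ℕ) : ℤ) * w j)
    have h := GrothLib.Verlinde.prod_two_sin_mul (((n + 1 : ℕ) : ℝ) + k) w z (fun j =>
      (GrothLib.Verlinde.exp_eq_E (N := n + 1 + k) (Nat.succ_pos n) (w j)
        (((((n + 1 : ℕ) : ℝ) + k : ℝ) : ℂ)) (by push_cast; ring)).symm)
    have hzne : ∀ j, z j ≠ 0 := fun j => GrothLib.Verlinde.E_ne_zero _
    have hG : GrothLib.Verlinde.G x y w =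
        (Matrix.of fun i j : Fin (n + 1) => z j ^ (n + 1 - 1 - (i : ℕ))).det *
          (Matrix.of fun i j : Fin (n + 1) => (z j)⁻¹ ^ (n + 1 - 1 - (i : ℕ))).det := by
      have e1 : (Matrix.of fun i j : Fin (n + 1) => z j ^ (n + 1 - 1 - (i : ℕ))) =
          Matrix.of fun i j => GrothLib.Verlinde.E (n + 1) (n + 1 + k) (((n + 1 : ℕ) : ℤ) * δ i * w j) :=
        Matrix.ext fun i j => by
          rw [Matrix.of_apply, Matrix.of_apply, GrothLib.Verlinde.E_pow]
          congr 1
          simp only [δ]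
          ring
      have e2 : (Matrix.of fun i j : Fin (n + 1) => (z j)⁻¹ ^ (n + 1 - 1 - (i : ℕ))) =
          Matrix.of fun i j => GrothLib.Verlinde.E (n + 1) (n + 1 + k) (((n + 1 : ℕ) : ℤ) * (-δ i) * w j) :=
        Matrix.ext fun i j => by
          rw [Matrix.of_apply, Matrix.of_apply, inv_pow]
          refine inv_eq_of_mul_eq_one_right ?_
          rw [GrothLib.Verlinde.E_pow, ← GrothLib.Verlinde.E_add]
          simp only [δ]
          rw [show ∀ a b c : ℤ, a * c * b + a * -b * c = 0 from fun a b c => by ring, GrothLib.Verlinde.E_zero]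
      rw [e1, e2, GrothLib.Verlinde.det_E_eq, GrothLib.Verlinde.det_E_eq, mul_mul_mul_comm,
        ← GrothLib.Verlinde.E_add, Finset.sum_neg_distrib, neg_mul, add_neg_cancel, GrothLib.Verlinde.E_zero, one_mul]
      rfl
    rw [hG, GrothLib.Verlinde.det_delta, GrothLib.Verlinde.det_delta, ← Finset.prod_mul_distrib]
    have hprod : ∏ j, z j ^ (n + 1 - 1) ≠ 0 := Finset.prod_ne_zero_iff.mpr fun j _ => pow_ne_zero _ (hzne j)
    refine mul_right_cancel₀ hprod ?_
    refine Eq.trans h ?_
    rw [← GrothLib.Verlinde.prod_pairs_mul, ← Finset.prod_mul_distrib, ← Finset.prod_pow, ← Finset.prod_const,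
      ← Finset.prod_mul_distrib]
    refine Finset.prod_congr rfl fun p _ => ?_
    have := hzne p.1; have := hzne p.2
    field_simp
    ring
  refine Complex.ofReal_injective ?_
  rw [Complex.ofReal_sum]
  rw [Finset.sum_congr rfl fun v _ => hterm v]
  refine mul_left_cancel₀ (Nat.cast_ne_zero.mpr n.factorial_ne_zero : (n.factorial : ℂ) ≠ 0) ?_
  rw [GrothLib.Verlinde.factorial_mul_sum_pinned, GrothLib.Verlinde.sum_G_snoc]
  have hgeo : ∀ a b : Fin (n + 1), ∑ t : Fin (n + 1 + k), (x a * y b) ^ (t : ℕ) =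
      if a = b then ((n + 1 + k : ℕ) : ℂ) else 0 := by
    intro a b
    have hxy : x a * y b = GrothLib.Verlinde.E (n + 1) (n + 1 + k) (((n + 1 : ℕ) : ℤ) * (δ a - δ b)) := by
      show GrothLib.Verlinde.tw (n + 1 + k) δ a * GrothLib.Verlinde.tw (n + 1 + k) (fun i => -δ i) b = _
      rw [GrothLib.Verlinde.tw, GrothLib.Verlinde.tw, ← GrothLib.Verlinde.E_add, Finset.sum_neg_distrib]
      congr 1
      ring
    split_ifs with hab
    · subst hab
      simp [hxy]
    · have hne : x a * y b ≠ 1 := by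
        rw [hxy, Ne, GrothLib.Verlinde.E_eq_one_iff (Nat.succ_pos n) hN]
        rintro ⟨t, ht⟩
        have h3 : δ a - δ b = ((n + 1 + k : ℕ) : ℤ) * t :=
          mul_left_cancel₀ (Nat.cast_ne_zero.mpr (Nat.succ_ne_zero n) : ((n + 1 : ℕ) : ℤ) ≠ 0)
            (by rw [← mul_assoc]; exact ht)
        have hb1 : -((n + 1 + k : ℕ) : ℤ) < δ a - δ b := by simp only [δ]; omega
        have hb2 : δ a - δ b < ((n + 1 + k : ℕ) : ℤ) := by simp only [δ]; omega
        rcases lt_trichotomy t 0 with ht' | rfl | ht'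
        · nlinarith
        · apply hab; ext; simp only [δ] at h3; omega
        · nlinarith
      rw [Fin.sum_univ_eq_sum_range (fun t => (x a * y b) ^ t) (n + 1 + k), geom_sum_eq hne,
        show (x a * y b) ^ (n + 1 + k) = 1 by
          rw [hxy, GrothLib.Verlinde.E_pow, GrothLib.Verlinde.E_eq_one_iff (Nat.succ_pos n) hN]
          exact ⟨δ a - δ b, by ring⟩, sub_self, zero_div]
  simp only [hgeo]
  rw [Finset.sum_congr rfl fun σ _ => Finset.sum_eq_single σ (fun τ _ hne => ?_) (by simp)]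
  · simp only [if_pos, Finset.prod_const, Finset.card_univ, Fintype.card_fin, ← Int.cast_mul,
      Int.units_coe_mul_self, Int.cast_one, one_mul, Finset.sum_const, Fintype.card_perm, nsmul_eq_mul]
    rw [Nat.factorial_succ, Nat.add_sub_cancel]
    push_cast
    ring
  · refine mul_eq_zero_of_right _ ?_
    by_contra hp
    refine hne (Equiv.ext fun i => ?_)
    have hall : ∀ j : Fin n, τ j.castSucc = σ j.castSucc := fun j => by
      by_contra hj
      exact hp (Finset.prod_eq_zero (Finset.mem_univ j) (if_neg (Ne.symm hj)))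
    induction i using Fin.lastCases with
    | cast j => exact hall j
    | last =>
      obtain ⟨l, hl⟩ := σ.surjective (τ (Fin.last n))
      induction l using Fin.lastCases with
      | last => exact hl.symm
      | cast j => exact absurd (τ.injective ((hall j).trans hl)) (Fin.castSucc_lt_last j).ne

end Groth.Agent.S18379
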