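import Groth.Statements.S18380
import Groth.Agent.Lib.HodgeIndex.IdealLe
import Groth.Agent.Lib.GlobalConst.Scheme
import Groth.Agent.Lib.InvTriv26.Basic
import Groth.Agent.Lib.Chow.Prod

set_option autoImplicit false
set_option backward.isDefEq.respectTransparency false
universe u
open Divisors

namespace Groth.Agent.S18380

open CategoryTheory CategoryTheory.Limits AlgebraicGeometry TopologicalSpace


theorem exists_smul_of_endo {X : Scheme.{u}} {M : X.Modules} (hM : PicF.IsInvertible M) (φ : M ⟶ M) :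
    ∃ g : Γ(X, ⊤), ∀ (W : X.Opens) (m : Γ(M, W)), φ.app W m = GrothLib.Ample.res (le_top : W ≤ ⊤) g • m := by
  choose V e hxV he using fun x : X => GrothLib.InvExt.exists_gen_nhd hM x
  have ha : ∀ x, ∃ a : Γ(X, V x), a • e x = φ.app (V x) (e x) := fun x => by
    obtain ⟨a, ha⟩ := (he x).exists_smul_eq le_rfl (φ.app (V x) (e x))
    exact ⟨a, by rw [ha, GrothLib.InvExt.mres_self]⟩
  choose a ha using ha
  have hkey : ∀ x (W : X.Opens) (h : W ≤ V x) (m : Γ(M, W)),
      φ.app W m = GrothLib.Ample.res h (a x) • m := by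
    intro x W h m
    obtain ⟨c, rfl⟩ := (he x).exists_smul_eq h m
    rw [GrothLib.Ample.app_smul, GrothLib.Ample.app_mres, ← ha x, GrothLib.Ample.mres_smul', smul_smul, smul_smul, mul_comm]
  have hcompat : TopCat.Presheaf.IsCompatible X.presheaf V a := fun x y => by
    refine ((he x).smul_left_injective (inf_le_left : V x ⊓ V y ≤ V x)) ?_
    show GrothLib.Ample.res inf_le_left (a x) • _ = GrothLib.Ample.res inf_le_right (a y) • _
    rw [← hkey x _ inf_le_left, ← hkey y _ inf_le_right]
  obtain ⟨g, hg, -⟩ := X.sheaf.existsUnique_gluing' V ⊤ (fun x => homOfLE le_top)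
    (fun x _ => Opens.mem_iSup.2 ⟨x, hxV x⟩) a hcompat
  refine ⟨g, fun W m => ?_⟩
  refine GrothLib.Ample.meq_of_cover M (fun x => W ⊓ V x) (fun x => inf_le_left)
    (fun x hx => Opens.mem_iSup.2 ⟨x, hx, hxV x⟩) fun x => ?_
  rw [← GrothLib.Ample.app_mres, hkey x _ inf_le_right, GrothLib.Ample.mres_smul', ← hg x]
  congr 1
  show GrothLib.Ample.res _ (GrothLib.Ample.res le_top g) = GrothLib.Ample.res _ (GrothLib.Ample.res le_top g)
  rw [GrothLib.Ample.res_res, GrothLib.Ample.res_res]


theorem isIso_of_mono_endo {k : Type u} [Field k] {X : Scheme.{u}} [X.Over (Spec (CommRingCat.of k))]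
    [IsProper (X ↘ Spec (CommRingCat.of k))] {M : X.Modules} (hM : PicF.IsInvertible M) (φ : M ⟶ M) [Mono φ] :
    IsIso φ := by
  obtain ⟨g, hg⟩ := exists_smul_of_endo hM φ
  letI := GrothLib.GlobalConst.algΓ k (X := X)
  haveI : Module.Finite k Γ(X, ⊤) := GrothLib.GlobalConst.finite_algΓ k
  have hinj : Function.Injective (LinearMap.mulLeft k g) := (injective_iff_map_eq_zero _).2 fun r hr => by
    change g * r = 0 at hr
    choose V e hxV he using fun x : X => GrothLib.InvExt.exists_gen_nhd hM x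
    refine X.sheaf.eq_of_locally_eq' V ⊤ (fun x => homOfLE le_top) (fun x _ => Opens.mem_iSup.2 ⟨x, hxV x⟩) r 0 fun x => ?_
    show GrothLib.Ample.res (le_top : V x ≤ ⊤) r = GrothLib.Ample.res (le_top : V x ≤ ⊤) 0
    rw [map_zero]
    refine (he x).smul_left_injective le_rfl ?_
    show GrothLib.Ample.res (le_top : V x ≤ ⊤) r • _ = (0 : Γ(X, V x)) • _
    rw [zero_smul]
    refine GrothLib.Cohom.app_injective_of_mono φ _ ?_
    rw [hg, map_zero, smul_smul, ← map_mul, hr, map_zero, zero_smul]
  obtain ⟨h, hh⟩ := LinearMap.injective_iff_surjective.1 hinj 1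
  change g * h = 1 at hh
  refine GrothLib.InvTriv26.isIso_of_app_bijective φ fun W => ⟨GrothLib.Cohom.app_injective_of_mono φ W, fun m => ?_⟩
  refine ⟨GrothLib.Ample.res (le_top : W ≤ ⊤) h • m, ?_⟩
  rw [hg, smul_smul, ← map_mul, hh, map_one, one_smul]

open CategoryTheory AlgebraicGeometry in
/-- Let k be an algebraically closed field of characteristic 0 and M a scheme, smooth and projective
over k. Let D₁ and D₂ be effective Cartier divisors on M, given by invertible ideal sheaves with
I_{D₂} ⊆ I_{D₁} (so D₁ is a closed subscheme of D₂). If I_{D₁} and I_{D₂} are isomorphic as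
O_M-modules, that is D₁ and D₂ are linearly equivalent, then D₁ = D₂. The published statement is an
equivalence, for effective divisors on a smooth proper Deligne–Mumford stack with equal divisor
classes; its proof reduces to a smooth projective scheme, the case stated here, and the other
direction is immediate. -/
theorem result (k : Type u) [Field k] [IsAlgClosed k] [CharZero k]
    (M : Scheme.{u}) (f : M ⟶ Spec (CommRingCat.of k)) [Smooth f]
    (hproj : Neron.IsProjectiveOver k (Over.mk f))
    (D₁ D₂ : M.IdealSheafData) (h₁ : BlowUp.IsEffCartierIdeal D₁) (h₂ : BlowUp.IsEffCartierIdeal D₂)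
    (hle : D₂ ≤ D₁) (hiso : Nonempty (ClSub.idealMod D₁ ≅ ClSub.idealMod D₂)) :
    D₁ = D₂ := by
  haveI : IsProper f := by
    obtain ⟨n, i, hi, hif⟩ := hproj
    haveI := hi
    haveI := GrothLib.Chow.isProper_toBase n (Spec (CommRingCat.of k))
    rw [show f = i ≫ CohB1.ProjSpaceOver.toBase n (Spec (CommRingCat.of k)) from hif.symm]
    infer_instance
  letI : M.Over (Spec (CommRingCat.of k)) := ⟨f⟩
  haveI : IsProper (M ↘ Spec (CommRingCat.of k)) := ‹IsProper f›
  obtain ⟨e⟩ := hiso
  let ψ := GrothLib.HodgeIndex.idealIncl hle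
  haveI := GrothLib.HodgeIndex.mono_idealIncl hle
  have hI := GrothLib.IdealModSec.isInvertible_of_isEffCartier h₁
  haveI : Mono (e.hom ≫ GrothLib.HodgeIndex.idealIncl hle) := mono_comp _ _
  haveI := isIso_of_mono_endo (k := k) hI (e.hom ≫ GrothLib.HodgeIndex.idealIncl hle)
  refine le_antisymm (fun U r hr => ?_) hle
  obtain ⟨m, rfl⟩ := GrothLib.IdealModSec.exists_val_eq D₁ U hr
  obtain ⟨m', rfl⟩ := (ConcreteCategory.bijective_of_isIso
    ((e.hom ≫ GrothLib.HodgeIndex.idealIncl hle).app U.1)).2 m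
  have hv : GrothLib.IdealModSec.val D₁ U.1 ((e.hom ≫ GrothLib.HodgeIndex.idealIncl hle).app U.1 m') =
      GrothLib.IdealModSec.val D₂ U.1 (e.hom.app U.1 m') := by
    show ((GrothLib.HodgeIndex.idealIncl hle) ≫ ClSub.idealModι D₁).app U.1 (e.hom.app U.1 m') = _
    exact congrArg (fun q : ClSub.idealMod D₂ ⟶ Coh.structureModule M => q.app U.1 (e.hom.app U.1 m'))
      (kernel.lift_ι _ _ _)
  rw [hv]
  exact GrothLib.IdealModSec.val_mem D₂ U _

end Groth.Agent.S18380
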