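import Groth.Statements.S18382
import Groth.Agent.Lib.PhiStab.SpanTree

set_option autoImplicit false
universe u
open PhiStab

namespace Groth.Agent.S18382

open PhiStab in
/-- Let (V, E, ends) be a finite tree, that is a connected multigraph without circuits. For every family
of real numbers c_e indexed by the edges and every real c₀ there is exactly one real weighting φ of
the vertices such that, for each edge e, the sum of φ over the side of e containing its first
endpoint (the vertices joined to that endpoint by a chain of edges other than e) equals c_e, and the
sum of φ over all vertices equals c₀. The lemma itself — a system of stability parameters on all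
treelike marked graphs compatible with contractions is determined by its components on the
two-vertex graphs — reduces to this square linear system being nondegenerate. -/
theorem result {V E : Type u} [Fintype V] [Fintype E] [DecidableEq V] [DecidableEq E]
    (ends : E → V × V) (hT : DualGr.IsTree ends)
    (c : E → ℝ) (c₀ : ℝ) :
    ∃! φ : V → ℝ, (∀ e : E, (∑ v ∈ side ends e, φ v) = c e) ∧ (∑ v : V, φ v) = c₀ := by
  obtain ⟨R, hR⟩ := GrothLib.PhiStab.exists_coordinates hT
  have hside : ∀ e, side ends e = R e := fun e => GrothLib.PhiStab.side_eq hT e (hR e).1 (hR e).2.1 (hR e).2.2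
  obtain ⟨root⟩ := hT.1.1
  obtain ⟨f, hf, hf₀⟩ := GrothLib.PhiStab.exists_sum_eq R hR root c c₀
  refine ⟨f, ⟨fun e => by rw [hside]; exact hf e, hf₀⟩, fun g hg => funext fun v => ?_⟩
  have h := GrothLib.PhiStab.sum_mul_eq hT R hR (fun v => g v - f v) (by rw [Finset.sum_sub_distrib, hg.2, hf₀, sub_self]) {v}
  have h0 : ∀ e, ∑ v ∈ R e, (g v - f v) = 0 := fun e => by
    rw [Finset.sum_sub_distrib, hf e, ← hside, hg.1 e, sub_self]
  simp only [h0, mul_zero, Finset.sum_const_zero, Finset.sum_singleton, sub_eq_zero] at h
  exact h

end Groth.Agent.S18382
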