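import Groth.Statements.S18383
import Groth.Agent.Lib.GrpSchField.Shear

set_option autoImplicit false
universe u
open CategoryTheory CategoryTheory.Limits MonoidalCategory CartesianMonoidalCategory MonObj GrpObj AlgebraicGeometry
open GrpSch

namespace Groth.Agent.S18383

/-- Let S be a scheme, H an S-group scheme and i : G → H a homomorphism of S-group schemes which is a
closed immersion (G a closed subgroup scheme of H). Then the left-translation action of G on H is
strictly free: the S-morphism G ×_S H → H ×_S H, (g, h) ↦ (i(g)·h, h), is a closed immersion. -/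
theorem result {S : Scheme.{u}} (G H : Over S)
    [GrpObj G] [GrpObj H] (i : G ⟶ H) [IsMonHom i] [IsClosedImmersion i.left] :
    IsClosedImmersion (CartesianMonoidalCategory.lift ((i ▷ H) ≫ μ[H]) (snd G H)).left := by
  have hl : lift ((i ▷ H) ≫ μ[H]) (snd G H) =
      (i ▷ H) ≫ (GrothLib.GrpSchField.shear (GrothLib.GrpSchField.mulAction H)).hom ≫
        lift (snd H H) (lift (fst H H)⁻¹ (snd H H) ≫ μ[H]) := by
    apply GrothLib.GrpSchField.hom_ext_points₂
    intro T g h
    simp [GrothLib.GrpSchField.shear, GrothLib.GrpSchField.mulAction, comp_lift, comp_lift_assoc,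
      GrpObj.comp_inv, lift_whiskerRight_assoc, ← Hom.mul_def, MonObj.comp_mul]
  have : IsIso (lift (snd H H) (lift (fst H H)⁻¹ (snd H H) ≫ μ[H])) := by
    refine ⟨lift (fst H H * (snd H H)⁻¹) (fst H H), ?_, ?_⟩ <;>
    · apply GrothLib.GrpSchField.hom_ext_points₂
      intro T a b
      simp only [comp_lift, comp_lift_assoc, GrpObj.comp_inv, MonObj.comp_mul, lift_fst, lift_snd,
        lift_fst_assoc, lift_snd_assoc, Category.comp_id, ← Hom.mul_def]
      simp
  have := GrothLib.GrpSchField.isIso_left
    ((GrothLib.GrpSchField.shear (GrothLib.GrpSchField.mulAction H)).hom ≫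
      lift (snd H H) (lift (fst H H)⁻¹ (snd H H) ≫ μ[H]))
  rw [hl, Over.comp_left, MorphismProperty.cancel_right_of_respectsIso @IsClosedImmersion]
  exact GrothLib.GrpSchField.whiskerRight_property @IsClosedImmersion i H ‹_›

end Groth.Agent.S18383
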