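import Groth.Statements.S18384
import Mathlib.RingTheory.Filtration


set_option autoImplicit false
set_option maxHeartbeats 1000000
set_option linter.style.haveILetI false
set_option backward.isDefEq.respectTransparency.types false
universe u
open CategoryTheory CategoryTheory.Limits AlgebraicGeometry
open Coherent

namespace Groth.Agent.S18384

/-- Let p : X → S be a morphism of locally Noetherian schemes, t a point of S, m the maximal ideal of
the local ring O_{S,t}, and Z the closed subscheme of X defined by a quasi-coherent ideal I. Suppose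
that for every n ≥ 1 the projection X ×_S Spec(O_{S,t}/m^n) → X factors through Z. Then there is an
open subscheme U of X containing every point of the fibre p⁻¹(t) such that the inclusion U → X
factors through Z. -/
theorem result {X S : Scheme.{u}}
    [IsLocallyNoetherian X] [IsLocallyNoetherian S] (p : X ⟶ S) (t : S) (I : X.IdealSheafData)
    (h : ∀ n : ℕ, ∃ g : pullback p (Spec.map (CommRingCat.ofHom (Ideal.Quotient.mk
        (IsLocalRing.maximalIdeal ↑(S.presheaf.stalk t) ^ (n + 1)))) ≫ S.fromSpecStalk t) ⟶ I.subscheme,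
        g ≫ I.subschemeι = pullback.fst p _) :
    ∃ U : X.Opens, (∀ x : X, p.base x = t → x ∈ U) ∧
      ∃ g : (U : Scheme.{u}) ⟶ I.subscheme, g ≫ I.subschemeι = U.ι := by
  classical
  -- germs of sections of `I` vanish along the fibre
  have key : ∀ (x : X), p.base x = t → ∀ (W : X.affineOpens) (hxW : x ∈ W.1) (f : Γ(X, W.1)),
      f ∈ I.ideal W → X.presheaf.germ W.1 x hxW f = 0 := by
    intro x hx W hxW f hf
    subst hx
    suffices hn : ∀ n : ℕ, X.presheaf.germ W.1 x hxW f ∈
        (IsLocalRing.maximalIdeal (X.presheaf.stalk x)) ^ (n + 1) by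
      have hbot := Ideal.iInf_pow_eq_bot_of_isLocalRing (IsLocalRing.maximalIdeal (X.presheaf.stalk x))
        (IsLocalRing.maximalIdeal.isMaximal _).ne_top
      rw [← Submodule.mem_bot (R := X.presheaf.stalk x), ← hbot, Submodule.mem_iInf]
      exact fun i => Ideal.pow_le_pow_right (Nat.le_succ i) (hn i)
    intro n
    let m := IsLocalRing.maximalIdeal ↑(S.presheaf.stalk (p.base x))
    let φ : ↑(S.presheaf.stalk (p.base x)) →+* ↑(X.presheaf.stalk x) := (p.stalkMap x).hom
    let J : Ideal ↑(X.presheaf.stalk x) := (m ^ (n + 1)).map φ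
    have hJ : J ≤ (IsLocalRing.maximalIdeal (X.presheaf.stalk x)) ^ (n + 1) := by
      rw [show J = (m ^ (n + 1)).map φ from rfl, Ideal.map_pow]
      refine Ideal.pow_right_mono ?_ _
      exact ((IsLocalRing.local_hom_TFAE φ).out 0 2).mp (inferInstance : IsLocalHom (p.stalkMap x).hom)
    refine hJ ?_
    obtain ⟨g, hg⟩ := h n
    let a : Spec (.of (↑(X.presheaf.stalk x) ⧸ J)) ⟶ X :=
      Spec.map (CommRingCat.ofHom (Ideal.Quotient.mk J)) ≫ X.fromSpecStalk x
    let b : Spec (.of (↑(X.presheaf.stalk x) ⧸ J)) ⟶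
        Spec (.of (↑(S.presheaf.stalk (p.base x)) ⧸ m ^ (n + 1))) :=
      Spec.map (CommRingCat.ofHom (Ideal.quotientMap J φ Ideal.le_comap_map))
    have hab : a ≫ p = b ≫ (Spec.map (CommRingCat.ofHom (Ideal.Quotient.mk (m ^ (n + 1)))) ≫
        S.fromSpecStalk (p.base x)) := by
      simp only [a, b, Category.assoc]
      rw [← Scheme.SpecMap_stalkMap_fromSpecStalk, ← Spec.map_comp_assoc, ← Spec.map_comp_assoc]
      rfl
    have ha : a = (pullback.lift a b hab ≫ g) ≫ I.subschemeι := by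
      rw [Category.assoc, hg, pullback.lift_fst]
    have h0 : (a.app W.1).hom f = 0 := by
      have hker : I ≤ a.ker := by
        rw [ha]
        exact I.ker_subschemeι.ge.trans (Scheme.Hom.le_ker_comp _ _)
      exact RingHom.mem_ker.mp (Scheme.Hom.ideal_ker_le a W (hker W hf))
    have htop : a ⁻¹ᵁ W.1 = ⊤ := by
      rw [eq_top_iff]
      rintro y -
      show a.base y ∈ W.1
      have hsp : a.base y ⤳ x := by
        have := Scheme.range_fromSpecStalk (X := X) (x := x)
        exact this.le ⟨_, rfl⟩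
      exact hsp.mem_open W.1.2 hxW
    have hcomp : a.app W.1 = X.presheaf.germ W.1 x hxW ≫ CommRingCat.ofHom (Ideal.Quotient.mk J) ≫
        (Scheme.ΓSpecIso (.of (↑(X.presheaf.stalk x) ⧸ J))).inv ≫
        (Spec (.of (↑(X.presheaf.stalk x) ⧸ J))).presheaf.map (homOfLE le_top).op := by
      simp only [a]
      rw [Scheme.Hom.comp_app, Scheme.fromSpecStalk_app hxW]
      simp only [Category.assoc, Scheme.Hom.naturality]
      exact congrArg (X.presheaf.germ W.1 x hxW ≫ ·)
        (Scheme.ΓSpecIso_inv_naturality_assoc (CommRingCat.ofHom (Ideal.Quotient.mk J)) _).symm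
    haveI : IsIso ((Spec (.of (↑(X.presheaf.stalk x) ⧸ J))).presheaf.map
        (homOfLE (le_top : a ⁻¹ᵁ W.1 ≤ ⊤)).op) := by
      have : homOfLE (le_top : a ⁻¹ᵁ W.1 ≤ ⊤) = eqToHom htop := Subsingleton.elim _ _
      rw [this]
      infer_instance
    rw [hcomp] at h0
    simp only [CommRingCat.hom_comp, RingHom.comp_apply] at h0
    rw [map_eq_zero_iff _ (ConcreteCategory.bijective_of_isIso _).1,
      map_eq_zero_iff _ (ConcreteCategory.bijective_of_isIso _).1] at h0
    exact Ideal.Quotient.eq_zero_iff_mem.mp h0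
  -- the open set where `I` vanishes
  let 𝒱 : Set X.affineOpens := {V | I.ideal V = ⊥}
  let U : X.Opens := ⨆ V : 𝒱, V.1.1
  refine ⟨U, fun x hx => ?_, IsClosedImmersion.lift I.subschemeι U.ι ?_,
    IsClosedImmersion.lift_fac _ _ _⟩
  · obtain ⟨_, ⟨W, hW, rfl⟩, hxW, -⟩ :=
      X.isBasis_affineOpens.exists_subset_of_mem_open (Set.mem_univ x) isOpen_univ
    haveI : IsNoetherianRing Γ(X, W) :=
      IsLocallyNoetherian.component_noetherian ⟨W, hW⟩
    obtain ⟨s, hs⟩ := (IsNoetherian.noetherian (I.ideal ⟨W, hW⟩) : (I.ideal ⟨W, hW⟩).FG)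
    have : ∀ f ∈ s, ∃ V : X.Opens, x ∈ V ∧ ∃ hle : V ≤ W,
        X.presheaf.map (homOfLE hle).op f = 0 := by
      intro f hfs
      have h0 := key x hx ⟨W, hW⟩ hxW f (hs ▸ Ideal.subset_span hfs)
      obtain ⟨V, hxV, i₁, i₂, he⟩ := X.presheaf.germ_eq x hxW hxW f 0 (h0.trans (map_zero _).symm)
      refine ⟨V, hxV, i₁.le, ?_⟩
      exact he.trans (map_zero _)
    choose! V hxV hle hV using this
    let V' : X.Opens := s.inf V ⊓ W
    have hxV' : x ∈ V' := by
      refine ⟨?_, hxW⟩
      exact Finset.inf_induction (p := fun O : X.Opens => x ∈ O) trivial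
        (fun _ ha _ hb => ⟨ha, hb⟩) hxV
    obtain ⟨r, hrle, hxr⟩ := hW.exists_basicOpen_le ⟨x, hxV'⟩ hxW
    refine TopologicalSpace.Opens.mem_iSup.mpr ⟨⟨X.affineBasicOpen (U := ⟨W, hW⟩) r, ?_⟩, hxr⟩
    show I.ideal (X.affineBasicOpen (U := ⟨W, hW⟩) r) = ⊥
    rw [← I.map_ideal (U := X.affineBasicOpen (U := ⟨W, hW⟩) r) (V := ⟨W, hW⟩) (X.basicOpen_le r),
      ← hs, Ideal.map_span, Ideal.span_eq_bot]
    rintro _ ⟨f, hfs, rfl⟩
    have h1 : X.basicOpen r ≤ V f := hrle.trans (inf_le_left.trans (Finset.inf_le hfs))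
    have h2 := congrArg (X.presheaf.map (homOfLE h1).op) (hV f hfs)
    rw [map_zero, ← CommRingCat.comp_apply, ← Functor.map_comp] at h2
    exact h2
  · rw [I.ker_subschemeι]
    refine Scheme.IdealSheafData.le_ofIdeals_iff.mpr fun W f hf => ?_
    rw [RingHom.mem_ker, Scheme.Opens.ι_app]
    refine TopCat.Presheaf.section_ext X.sheaf _ _ _ fun y hy => ?_
    refine Eq.trans ?_ (map_zero _).symm
    erw [TopCat.Presheaf.germ_res_apply]
    have hy2 : y ∈ U ∧ y ∈ W.1 := by
      obtain ⟨z, hz, rfl⟩ := hy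
      exact ⟨z.2, hz⟩
    obtain ⟨V, hyV⟩ := TopologicalSpace.Opens.mem_iSup.mp hy2.1
    obtain ⟨_, ⟨V', hV'a, rfl⟩, hyV', hV'le⟩ :=
      X.isBasis_affineOpens.exists_subset_of_mem_open (show y ∈ V.1.1 ⊓ W.1 from ⟨hyV, hy2.2⟩)
        (V.1.1 ⊓ W.1).2
    have hz : I.ideal ⟨V', hV'a⟩ = ⊥ := by
      rw [← I.map_ideal (U := ⟨V', hV'a⟩) (V := V.1) (fun z hz => (hV'le hz).1),
        (V.2 : I.ideal V.1 = ⊥), Ideal.map_bot]
    have := I.ideal_le_comap_ideal (U := ⟨V', hV'a⟩) (V := W) (fun z hz => (hV'le hz).2) hf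
    rw [hz, Ideal.mem_comap, Ideal.mem_bot] at this
    erw [← TopCat.Presheaf.germ_res_apply X.presheaf (homOfLE fun z hz => (hV'le hz).2) y hyV' f]
    exact (congrArg _ this).trans (map_zero _)

end Groth.Agent.S18384
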