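import Groth.Statements.S18385
-- import your own Groth.Agent.* helpers here
import Groth.Agent.Lib.Rigidity.Isogeny
import Groth.Agent.Lib.Dim.QuasiFinite
import Groth.Agent.Lib.Rigidity.Relative.AbScheme

set_option autoImplicit false
universe u
open CategoryTheory CategoryTheory.Limits MonoidalCategory CartesianMonoidalCategory MonObj GrpObj AlgebraicGeometry
open AbSch

namespace Groth.Agent.S18385

/-- (2) ⇔ (3): let S be a scheme, A and B abelian schemes over S (S-group schemes, smooth and proper
over S with geometrically connected fibres) whose fibres A_s and B_s have the same dimension for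
every point s of S, and f : A → B a homomorphism of S-group schemes. Then f is locally quasi-finite
if and only if f is surjective (and then f is an isogeny). -/
theorem result {S : Scheme.{u}} (A B : Over S)
    [GrpObj A] [Smooth A.hom] [IsProper A.hom] [GeometricallyConnected A.hom]
    [GrpObj B] [Smooth B.hom] [IsProper B.hom] [GeometricallyConnected B.hom]
    (f : A ⟶ B) [IsMonHom f]
    (hdim : ∀ s : S, topologicalKrullDim ↥(A.hom.fiber s) = topologicalKrullDim ↥(B.hom.fiber s)) :
    LocallyQuasiFinite f.left ↔ Surjective f.left := by
  have : GeometricallyReduced A.hom := GrothLib.Rigidity.geometricallyReduced_of_smooth' A.hom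
  haveI : IsProper (f.left ≫ B.hom) := by rw [Over.w]; infer_instance
  haveI : IsProper f.left := IsProper.of_comp f.left B.hom
  constructor
  · intro h
    refine ⟨fun b => ?_⟩
    let s := B.hom b
    let jj : Spec (CommRingCat.of (S.residueField s)) ⟶ S := S.fromSpecResidueField s
    let P := Over.pullback jj
    let X' : Over (Spec (CommRingCat.of (S.residueField s))) := P.obj A
    let Y' : Over (Spec (CommRingCat.of (S.residueField s))) := P.obj B
    let _ : GrpObj X' := Functor.grpObjObj
    let _ : GrpObj Y' := Functor.grpObjObj
    haveI : IsProper X'.hom := inferInstanceAs (IsProper (pullback.snd A.hom jj))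
    haveI : Smooth X'.hom := inferInstanceAs (Smooth (pullback.snd A.hom jj))
    haveI : GeometricallyConnected X'.hom := inferInstanceAs (GeometricallyConnected (pullback.snd A.hom jj))
    haveI : GeometricallyIntegral X'.hom := GrothLib.Rigidity.geometricallyIntegral_of_smooth X'
    haveI : IsIntegral X'.left := GeometricallyIntegral.isIntegral_of_subsingleton X'.hom
    haveI : IsProper Y'.hom := inferInstanceAs (IsProper (pullback.snd B.hom jj))
    haveI : Smooth Y'.hom := inferInstanceAs (Smooth (pullback.snd B.hom jj))
    haveI : GeometricallyConnected Y'.hom := inferInstanceAs (GeometricallyConnected (pullback.snd B.hom jj))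
    haveI : GeometricallyIntegral Y'.hom := GrothLib.Rigidity.geometricallyIntegral_of_smooth Y'
    haveI : IsIntegral Y'.left := GeometricallyIntegral.isIntegral_of_subsingleton Y'.hom
    let F : X' ⟶ Y' := P.map f
    haveI : IsMonHom F := inferInstanceAs (IsMonHom (P.map f))
    have sq : IsPullback (pullback.fst A.hom jj) F.left f.left (pullback.fst B.hom jj) := by
      refine IsPullback.of_bot ?_ ?_ (IsPullback.of_hasPullback B.hom jj)
      · have : F.left ≫ pullback.snd B.hom jj = pullback.snd A.hom jj := Over.w F
        rw [this, Over.w]
        exact IsPullback.of_hasPullback A.hom jj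
      · exact (pullback.lift_fst _ _ _).symm
    haveI : LocallyQuasiFinite F.left := MorphismProperty.of_isPullback (P := @LocallyQuasiFinite) sq h
    haveI : IsProper (F.left ≫ Y'.hom) := by rw [Over.w]; infer_instance
    haveI : IsProper F.left := IsProper.of_comp F.left Y'.hom
    obtain ⟨n, hn, hn'⟩ := GrothLib.Dim.dim_closure_range_eq F.left Y'.hom
    have hd : topologicalKrullDim Y'.left = n := ((hdim s).symm.trans hn : _)
    have h' := GrothLib.Dim.eq_univ_of_dim_le isClosed_closure (hd.trans hn'.symm).le hn'
    rw [F.left.isClosedMap.isClosed_range.closure_eq] at h'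
    obtain ⟨z, hz⟩ : b ∈ Set.range (B.hom.fiberι s) := by rw [Scheme.Hom.range_fiberι]; rfl
    obtain ⟨w, hw⟩ := h'.ge (Set.mem_univ z)
    refine ⟨(pullback.fst A.hom jj) w, ?_⟩
    rw [← hz, ← Scheme.Hom.comp_apply, sq.w, Scheme.Hom.comp_apply, hw]
    rfl
  · intro hsurj
    haveI : LocallyOfFiniteType f.left := inferInstance
    refine LocallyQuasiFinite.of_finite_preimage_singleton f.left fun b => ?_
    let s := B.hom b
    let jj : Spec (CommRingCat.of (S.residueField s)) ⟶ S := S.fromSpecResidueField s
    let P := Over.pullback jj
    let X' : Over (Spec (CommRingCat.of (S.residueField s))) := P.obj A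
    let Y' : Over (Spec (CommRingCat.of (S.residueField s))) := P.obj B
    let _ : GrpObj X' := Functor.grpObjObj
    let _ : GrpObj Y' := Functor.grpObjObj
    haveI : IsProper X'.hom := inferInstanceAs (IsProper (pullback.snd A.hom jj))
    haveI : Smooth X'.hom := inferInstanceAs (Smooth (pullback.snd A.hom jj))
    haveI : GeometricallyConnected X'.hom := inferInstanceAs (GeometricallyConnected (pullback.snd A.hom jj))
    haveI : GeometricallyIntegral X'.hom := GrothLib.Rigidity.geometricallyIntegral_of_smooth X'
    haveI : IsIntegral X'.left := GeometricallyIntegral.isIntegral_of_subsingleton X'.hom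
    haveI : IsProper Y'.hom := inferInstanceAs (IsProper (pullback.snd B.hom jj))
    haveI : Smooth Y'.hom := inferInstanceAs (Smooth (pullback.snd B.hom jj))
    haveI : GeometricallyConnected Y'.hom := inferInstanceAs (GeometricallyConnected (pullback.snd B.hom jj))
    haveI : GeometricallyIntegral Y'.hom := GrothLib.Rigidity.geometricallyIntegral_of_smooth Y'
    haveI : IsIntegral Y'.left := GeometricallyIntegral.isIntegral_of_subsingleton Y'.hom
    let F : X' ⟶ Y' := P.map f
    haveI : IsMonHom F := inferInstanceAs (IsMonHom (P.map f))
    have sq : IsPullback (pullback.fst A.hom jj) F.left f.left (pullback.fst B.hom jj) := by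
      refine IsPullback.of_bot ?_ ?_ (IsPullback.of_hasPullback B.hom jj)
      · have : F.left ≫ pullback.snd B.hom jj = pullback.snd A.hom jj := Over.w F
        rw [this, Over.w]
        exact IsPullback.of_hasPullback A.hom jj
      · exact (pullback.lift_fst _ _ _).symm
    haveI : Surjective F.left := MorphismProperty.of_isPullback (P := @Surjective) sq hsurj
    haveI : IsFinite F.left := GrothLib.Rigidity.isFinite_of_dim_eq X' Y' F (hdim s)
    obtain ⟨z, hz⟩ : b ∈ Set.range (B.hom.fiberι s) := by rw [Scheme.Hom.range_fiberι]; rfl
    refine ((F.left.finite_preimage_singleton z).image (pullback.fst A.hom jj)).subset ?_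
    intro a ha
    obtain ⟨w, hw₁, hw₂⟩ := Scheme.exists_preimage_of_isPullback sq a z (ha.trans hz.symm)
    exact ⟨w, hw₂, hw₁⟩

end Groth.Agent.S18385
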