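import Groth.Statements.S18386
import Mathlib.RingTheory.Finiteness.Nakayama
import Groth.Agent.Lib.AssPts.Points

set_option autoImplicit false
universe u
open LVCorr

namespace Groth.Agent.S18386

open GrothLib.WeakAss (primeAt notMem_primeAt_iff)

open AlgebraicGeometry in
/-- Let X be a connected Noetherian scheme and I a quasi-coherent sheaf of ideals on X, different from
the structure sheaf, such that I^k = I^(k+1) for some natural number k. Then I^k = 0. -/
theorem result (X : Scheme.{u}) [AlgebraicGeometry.IsNoetherian X]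
    [ConnectedSpace X] (I : X.IdealSheafData) (hI : I ≠ ⊤) (k : ℕ)
    (h : I ^ k = I ^ (k + 1)) : I ^ k = ⊥ := by
  rcases Nat.eq_zero_or_pos k with rfl | hk
  · exfalso
    refine hI (Scheme.IdealSheafData.ext ?_)
    have h' := congrArg Scheme.IdealSheafData.ideal h
    rw [Scheme.IdealSheafData.ideal_pow, Scheme.IdealSheafData.ideal_pow, pow_zero, pow_one] at h'
    rw [← h', Scheme.IdealSheafData.ideal_top]
    exact funext fun U => Ideal.one_eq_top
  have hloc : ∀ U : X.affineOpens, ∃ r : Γ(X, U.1), (∀ n ∈ I.ideal U ^ k, r * n = 0) ∧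
      (I.support : Set X) ∩ U.1 = X.basicOpen r := by
    intro U
    have := IsLocallyNoetherian.component_noetherian U
    have e : I.ideal U ^ k = I.ideal U ^ (k + 1) := by
      simpa using congrFun (congrArg Scheme.IdealSheafData.ideal h) U
    obtain ⟨r, hr, hr0⟩ := Submodule.exists_sub_one_mem_and_smul_eq_zero_of_fg_of_le_smul (I.ideal U)
      (I.ideal U ^ k) (IsNoetherian.noetherian _) (by rw [smul_eq_mul, ← pow_succ', ← e])
    refine ⟨r, hr0, Set.ext fun x => ⟨?_, fun hx => ?_⟩⟩
    · rintro ⟨hxI, hxU⟩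
      have h1 : ∀ f ∈ I.ideal U, f ∈ primeAt x hxU := fun f hf => by
        by_contra hn
        exact (Scheme.mem_zeroLocus_iff _ _ x).mp ((I.mem_support_iff_of_mem hxU).mp hxI) f hf (notMem_primeAt_iff.mp hn)
      refine (notMem_primeAt_iff (hx := hxU)).mp fun hrp => (inferInstance : (primeAt x hxU).IsPrime).one_notMem ?_
      have := sub_mem hrp (h1 _ hr)
      simpa using this
    · have hxU : x ∈ U.1 := X.basicOpen_le r hx
      refine ⟨(I.mem_support_iff_of_mem hxU).mpr ((Scheme.mem_zeroLocus_iff _ _ x).mpr fun f hf hxf => ?_), hxU⟩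
      refine notMem_primeAt_iff.mpr hxf ((inferInstance : (primeAt x hxU).IsPrime).mem_of_pow_mem k ?_)
      have h0 := hr0 (f ^ k) (Ideal.pow_mem_pow hf k)
      exact ((inferInstance : (primeAt x hxU).IsPrime).mem_or_mem (smul_eq_mul r (f ^ k) ▸ h0 ▸ Ideal.zero_mem _)).resolve_left
        (notMem_primeAt_iff.mpr hx)
  have hopen : IsOpen (I.support : Set X) := by
    rw [isOpen_iff_forall_mem_open]
    intro x hx
    obtain ⟨_, ⟨U, hU, rfl⟩, hxU, -⟩ := X.isBasis_affineOpens.exists_subset_of_mem_open (Set.mem_univ x) isOpen_univ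
    obtain ⟨r, -, hr⟩ := hloc ⟨U, hU⟩
    exact ⟨X.basicOpen r, fun y hy => (hr.ge hy).1, (X.basicOpen r).2, hr.le ⟨hx, hxU⟩⟩
  have huniv : (I.support : Set X) = Set.univ := by
    refine (isClopen_iff.mp ⟨I.support.isClosed, hopen⟩).resolve_left fun h0 => hI ?_
    rw [← Scheme.IdealSheafData.support_eq_bot_iff]
    exact TopologicalSpace.Closeds.ext h0
  refine Scheme.IdealSheafData.ext (funext fun U => ?_)
  obtain ⟨r, hr0, hr⟩ := hloc U
  have hu : IsUnit r := by
    rw [huniv, Set.univ_inter] at hr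
    refine RingedSpace.isUnit_of_isUnit_germ _ U.1 r fun x hx => ?_
    exact (Scheme.mem_basicOpen _ r x hx).mp (hr.le hx)
  simp only [Scheme.IdealSheafData.ideal_pow, Scheme.IdealSheafData.ideal_bot, Pi.pow_apply, Pi.bot_apply]
  refine (Submodule.eq_bot_iff _).mpr fun n hn => ?_
  exact hu.mul_right_eq_zero.mp (hr0 n hn)

end Groth.Agent.S18386
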