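import Groth.Statements.S18387
import Mathlib.RingTheory.Artinian.Ring
import Mathlib.LinearAlgebra.FiniteDimensional.Lemmas
import Mathlib.RingTheory.Noetherian.Nilpotent

set_option autoImplicit false
universe u
open LVCorr

namespace Groth.Agent.S18387

/-- In the affine form which its proof establishes. Let A be a commutative algebra over a field F which
is finite-dimensional of dimension d over F. Then the d-th power of the nilradical of A vanishes.
(Applied to the fibre algebra A = B/mB of a quasi-finite morphism over a closed point with maximal
ideal m, this says that the d-th power of the radical of mB lies in mB, i.e. the ramification of the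
morphism at that point is at most the degree d of the fibre.) -/
theorem result (F A : Type u) [Field F] [CommRing A] [Algebra F A]
    [FiniteDimensional F A] : nilradical A ^ Module.finrank F A = ⊥ := by
  classical
  have hno : IsNoetherianRing A := isNoetherian_of_tower F (inferInstance : IsNoetherian F A)
  obtain ⟨N, hN⟩ := IsNoetherianRing.isNilpotent_nilradical A
  let J := nilradical A
  have key : ∀ i : ℕ, J ^ i = ⊥ ∨ Module.finrank F ↥((J ^ i).restrictScalars F) + i ≤ Module.finrank F A := fun i => by
    induction i with
    | zero => exact Or.inr (by simpa using Submodule.finrank_le _)
    | succ i ih =>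
      by_cases h0 : J ^ i = ⊥
      · exact Or.inl (le_bot_iff.mp ((Ideal.pow_le_pow_right (Nat.le_succ i)).trans h0.le))
      refine Or.inr ?_
      have hlt : (J ^ (i + 1)).restrictScalars F < (J ^ i).restrictScalars F := by
        refine lt_of_le_of_ne (Ideal.pow_le_pow_right (Nat.le_succ i)) fun e => h0 ?_
        have e' : J ^ (i + 1) = J ^ i := Submodule.restrictScalars_injective F A A e
        have hall : ∀ m, J ^ (i + m) = J ^ i := fun m => by
          induction m with
          | zero => rfl
          | succ m ihm => rw [← add_assoc, pow_succ, ihm, ← pow_succ, e']
        rw [← hall N, pow_add, show J ^ N = 0 from hN, mul_zero]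
        rfl
      have := Submodule.finrank_lt_finrank_of_lt hlt
      have := ih.resolve_left h0
      omega
  rcases key (Module.finrank F A) with h | h
  · exact h
  · have : ((J ^ Module.finrank F A).restrictScalars F) = ⊥ := Submodule.finrank_eq_zero.mp (by omega)
    exact (Submodule.eq_bot_iff _).mpr fun x hx => (Submodule.eq_bot_iff _).mp this x hx

end Groth.Agent.S18387
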