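import Groth.Statements.S18389


set_option autoImplicit false
universe u
open LVCorr

namespace Groth.Agent.S18389

open AlgebraicGeometry CategoryTheory in
/-- Let j : C → C̄ be an open immersion with dense image and jX : X → X̄ an open immersion, and let c₁ :
C → X and c̄₁ : C̄ → X̄ satisfy j followed by c̄₁ equals c₁ followed by jX, with c̄₁ separated. Let
U be an open subset of X such that c₁⁻¹(U) is dense in C and the restriction c₁⁻¹(U) → U of c₁ is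
proper. Then c̄₁⁻¹(jX(U)) = j(c₁⁻¹(U)) as open subsets of C̄. (In the source all schemes are
separated of finite type over a field, C̄ and X̄ are compactifications of a correspondence and of X,
so that c̄₁ is automatically separated.) -/
theorem result {C Cb X Xb : Scheme.{u}}
    (j : C ⟶ Cb) [IsOpenImmersion j] (hj : DenseRange j.base)
    (jX : X ⟶ Xb) [IsOpenImmersion jX] (c₁ : C ⟶ X) (cb₁ : Cb ⟶ Xb) [IsSeparated cb₁]
    (h : j ≫ cb₁ = c₁ ≫ jX) (U : X.Opens) (hU : Dense ((c₁ ⁻¹ᵁ U : C.Opens) : Set C))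
    [IsProper (c₁ ∣_ U)] :
    cb₁ ⁻¹ᵁ (jX ''ᵁ U) = j ''ᵁ (c₁ ⁻¹ᵁ U) := by
  apply le_antisymm
  swap
  · intro y hy
    obtain ⟨c, hc, rfl⟩ := hy
    refine ⟨c₁ c, hc, ?_⟩
    exact (congrArg (fun g => g c) h).symm
  intro y hy
  let W : Cb.Opens := cb₁ ⁻¹ᵁ (jX ''ᵁ U)
  let i : ((c₁ ⁻¹ᵁ U : C.Opens) : Scheme.{u}) ⟶ (W : Scheme.{u}) :=
    IsOpenImmersion.lift W.ι ((c₁ ⁻¹ᵁ U).ι ≫ j) (by
      rintro _ ⟨c, rfl⟩
      rw [Scheme.Opens.range_ι]
      refine ⟨c₁ c.1, c.2, ?_⟩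
      exact (congrArg (fun g => g c.1) h).symm)
  have hi : i ≫ W.ι = (c₁ ⁻¹ᵁ U).ι ≫ j := IsOpenImmersion.lift_fac _ _ _
  have hU' : i ≫ (cb₁ ∣_ (jX ''ᵁ U)) = (c₁ ∣_ U) ≫ (jX.isoImage U).hom := by
    rw [← cancel_mono (jX ''ᵁ U).ι, Category.assoc, Category.assoc, morphismRestrict_ι, reassoc_of% hi, h,
      Scheme.Hom.isoImage_hom_ι, morphismRestrict_ι_assoc]
  haveI : IsSeparated (cb₁ ∣_ (jX ''ᵁ U)) := IsZariskiLocalAtTarget.restrict ‹_› _
  haveI : IsProper (i ≫ (cb₁ ∣_ (jX ''ᵁ U))) := by rw [hU']; infer_instance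
  haveI : IsProper i := IsProper.of_comp i (cb₁ ∣_ (jX ''ᵁ U))
  have hcl : IsClosed (Set.range i) := i.isClosedMap.isClosed_range
  have hdense : Dense (Set.range ((c₁ ⁻¹ᵁ U).ι ≫ j)) := by
    have e : Set.range ((c₁ ⁻¹ᵁ U).ι ≫ j) = j '' ((c₁ ⁻¹ᵁ U : C.Opens) : Set C) := by
      rw [← Scheme.Opens.range_ι (c₁ ⁻¹ᵁ U), ← Set.range_comp]
      rfl
    rw [e]
    exact hj.dense_image j.continuous hU
  let yW : (W : Scheme.{u}) := ⟨y, hy⟩
  have hyi : yW ∈ closure (Set.range i) := by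
    rw [W.ι.isOpenEmbedding.isInducing.closure_eq_preimage_closure_image, Set.mem_preimage]
    have h0 : y ∈ closure ((W : Set Cb) ∩ Set.range ((c₁ ⁻¹ᵁ U).ι ≫ j)) := W.2.inter_closure ⟨hy, hdense y⟩
    refine closure_mono ?_ h0
    rintro _ ⟨hz, c, rfl⟩
    exact ⟨i c, ⟨c, rfl⟩, congrArg (fun g => g c) hi⟩
  obtain ⟨c, hc⟩ := hcl.closure_subset hyi
  refine ⟨c.1, c.2, ?_⟩
  have := congrArg Subtype.val hc
  exact ((congrArg (fun g => g c) hi).symm).trans this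

end Groth.Agent.S18389
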