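import Groth.Statements.S18390
import Mathlib.RingTheory.Ideal.Operations
import Mathlib.Data.Nat.Choose.Sum

set_option autoImplicit false
universe u
open LVCorr

namespace Groth.Agent.S18390

/-- In the affine, ring-theoretic form which its proof establishes. Let φ : A' → A be a ring
homomorphism, I' a finitely generated ideal of A' and I an ideal of A containing the image of I'.
Then some power I'^k is mapped into I^(k+1) if and only if for every n ≥ 1 and every a ∈ I'^n there
is a k with φ(a)^k ∈ I^(nk+1). (Geometrically, for a morphism f : (X, Z) → (X', Z') of pairs with Z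
a closed subscheme of the preimage of Z', the normal cone of Z in X is the spectrum of the
associated graded algebra of I, and the second condition says that the induced map of normal cones
sends the normal cone of Z set-theoretically into the zero section Z'; the source states the
equivalence in that language.) -/
theorem result (A' A : Type u) [CommRing A'] [CommRing A]
    (φ : A' →+* A) (I' : Ideal A') (hI' : I'.FG) (I : Ideal A) (hle : I'.map φ ≤ I) :
    (∃ k : ℕ, (I' ^ k).map φ ≤ I ^ (k + 1)) ↔
      ∀ n : ℕ, 1 ≤ n → ∀ a ∈ I' ^ n, ∃ k : ℕ, 1 ≤ k ∧ φ a ^ k ∈ I ^ (n * k + 1) := by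
  classical
  constructor
  · rintro ⟨k, hk⟩ n hn a ha
    refine ⟨k + 1, by omega, ?_⟩
    have hk' : (I' ^ (k + 1)).map φ ≤ I ^ (k + 2) := by
      rw [pow_succ, Ideal.map_mul, pow_succ I (k + 1)]
      exact Ideal.mul_mono hk hle
    have h1 : φ a ^ (k + 1) ∈ ((I' ^ (k + 1)).map φ) ^ n := by
      rw [← Ideal.map_pow, ← map_pow, ← pow_mul, mul_comm (k + 1) n, pow_mul]
      exact Ideal.mem_map_of_mem φ (Ideal.pow_mem_pow ha _)
    refine Ideal.pow_le_pow_right ?_ (pow_mul I (k + 2) n ▸ Ideal.pow_right_mono hk' n h1)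
    nlinarith
  intro h
  obtain ⟨G, rfl⟩ := hI'
  suffices key : ∀ S : Finset A', S ⊆ G → ∃ K, (Ideal.span (S : Set A')).map φ ^ K ≤ I ^ (K + 1) by
    obtain ⟨K, hK⟩ := key G le_rfl
    exact ⟨K, by rw [Ideal.map_pow]; exact hK⟩
  intro S hS
  induction S using Finset.induction with
  | empty => exact ⟨1, by simp⟩
  | insert g S _ ih =>
    obtain ⟨hgG, hSG⟩ := Finset.insert_subset_iff.mp hS
    obtain ⟨K₂, hK₂⟩ := ih hSG
    obtain ⟨K₁, -, hK₁⟩ := h 1 le_rfl g (by rw [pow_one]; exact Ideal.subset_span hgG)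
    rw [one_mul] at hK₁
    let a := Ideal.span {φ g}
    let b := (Ideal.span (S : Set A')).map φ
    have ha : a ≤ I := (Ideal.span_singleton_le_iff_mem _).mpr (hle (Ideal.mem_map_of_mem φ (Ideal.subset_span hgG)))
    have hb : b ≤ I := (Ideal.map_mono (Ideal.span_mono hSG)).trans hle
    have haK : a ^ K₁ ≤ I ^ (K₁ + 1) := by
      rw [Ideal.span_singleton_pow]
      exact (Ideal.span_singleton_le_iff_mem _).mpr hK₁
    refine ⟨K₁ + K₂, ?_⟩
    rw [Finset.coe_insert, Ideal.span_insert, Ideal.map_sup, Ideal.map_span, Set.image_singleton]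
    show (a + b) ^ (K₁ + K₂) ≤ _
    rw [add_pow, Ideal.sum_eq_sup]
    refine Finset.sup_le fun i hi => Ideal.mul_le_left.trans ?_
    have hi' : i ≤ K₁ + K₂ := Nat.lt_succ_iff.mp (Finset.mem_range.mp hi)
    by_cases hik : K₁ ≤ i
    · calc a ^ i * b ^ (K₁ + K₂ - i) ≤ I ^ (i + 1) * I ^ (K₁ + K₂ - i) := by
            refine Ideal.mul_mono ?_ (Ideal.pow_right_mono hb _)
            rw [show i = K₁ + (i - K₁) by omega, pow_add, show K₁ + (i - K₁) + 1 = (K₁ + 1) + (i - K₁) by omega, pow_add]
            exact Ideal.mul_mono haK (Ideal.pow_right_mono ha _)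
        _ = _ := by rw [← pow_add]; congr 1; omega
    · calc a ^ i * b ^ (K₁ + K₂ - i) ≤ I ^ i * I ^ (K₁ + K₂ - i + 1) := by
            refine Ideal.mul_mono (Ideal.pow_right_mono ha _) ?_
            rw [show K₁ + K₂ - i = K₂ + (K₁ - i) by omega, pow_add, show K₂ + (K₁ - i) + 1 = (K₂ + 1) + (K₁ - i) by omega, pow_add]
            exact Ideal.mul_mono hK₂ (Ideal.pow_right_mono hb _)
        _ = _ := by rw [← pow_add]; congr 1; omega

end Groth.Agent.S18390
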