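import Groth.Statements.S18391
import Mathlib.RingTheory.Ideal.KrullsHeightTheorem
import Mathlib.RingTheory.DiscreteValuationRing.TFAE
import Mathlib.RingTheory.DedekindDomain.Dvr


set_option autoImplicit false
universe u
open LVCorr

namespace Groth.Agent.S18391

/-- Let A be a normal (integrally closed) Noetherian domain and z an element of A such that the radical
of the principal ideal (z) is prime. Then there exist elements w, t of A and a natural number r,
with w not in the radical of (z), such that in the localization A[1/w] the ideal generated by z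
equals the ideal generated by t^r and the ideal generated by t is prime. (The condition on w is the
one the printed proof produces and the later use of the lemma needs.) -/
theorem result (A : Type u) [CommRing A] [IsDomain A]
    [IsNoetherianRing A] [IsIntegrallyClosed A] (z : A) (hz : (Ideal.span {z}).radical.IsPrime) :
    ∃ (w t : A) (r : ℕ), w ∉ (Ideal.span {z}).radical ∧
      Ideal.span {algebraMap A (Localization.Away w) z} =
        Ideal.span {algebraMap A (Localization.Away w) t ^ r} ∧
      (Ideal.span {algebraMap A (Localization.Away w) t}).IsPrime := by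
  classical
  let P := (Ideal.span {z}).radical
  have : P.IsPrime := hz
  have hzP : z ∈ P := Ideal.le_radical (Ideal.mem_span_singleton_self z)
  rcases eq_or_ne z 0 with rfl | hz0
  · have h1 : (1 : A) ∉ P := fun h => hz.ne_top ((Ideal.eq_top_iff_one _).mpr h)
    refine ⟨1, 0, 1, h1, by rw [pow_one], ?_⟩
    have : IsDomain (Localization.Away (1 : A)) :=
      IsLocalization.isDomain_localization (M := Submonoid.powers (1 : A)) (by simp [Submonoid.powers_one])
    rw [map_zero, Ideal.span_singleton_zero]
    exact Ideal.isPrime_bot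
  have hmin : P ∈ (Ideal.span {z}).minimalPrimes :=
    ⟨⟨hz, Ideal.le_radical⟩, fun Q hQ _ => hQ.1.radical_le_iff.mpr hQ.2⟩
  have hP0 : P ≠ ⊥ := fun h => hz0 (by simpa [h] using hzP)
  have hmin1 := Ideal.height_le_one_of_isPrincipal_of_mem_minimalPrimes (Ideal.span {z}) P hmin
  let L := Localization.AtPrime P
  have hnf : ¬ IsField L := fun hf => hP0 (by
    have h1 := (IsLocalRing.isField_iff_maximalIdeal_eq.mp hf)
    rw [← Localization.AtPrime.map_eq_maximalIdeal,
      Ideal.map_eq_bot_iff_of_injective (IsLocalization.injective L P.primeCompl_le_nonZeroDivisors)] at h1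
    exact h1)
  have hune : ∀ Q : Ideal L, Q ≠ ⊥ ∧ Q.IsPrime → Q = IsLocalRing.maximalIdeal L := by
    rintro Q ⟨hQ0, hQ⟩
    have hle : Q.comap (algebraMap A L) ≤ P :=
      ((IsLocalization.isPrime_iff_isPrime_disjoint P.primeCompl L Q).mp hQ).2.subset_compl_left
        |>.trans (by intro x hx; simpa [Ideal.primeCompl] using hx)
    have hQ' : (Q.comap (algebraMap A L)).IsPrime := hQ.comap _
    rcases hle.eq_or_lt with h | h
    · rw [← IsLocalization.map_comap P.primeCompl L Q]
      exact (congrArg (Ideal.map (algebraMap A L)) h).trans Localization.AtPrime.map_eq_maximalIdeal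
    · exfalso
      have := (Ideal.height_strict_mono_of_isPrime h).trans_le hmin1
      rw [Order.lt_one_iff, Ideal.height_eq_zero_iff_eq_bot] at this
      apply hQ0
      rw [← IsLocalization.map_comap P.primeCompl L Q]
      exact (congrArg (Ideal.map (algebraMap A L)) this).trans Ideal.map_bot
  have : IsIntegrallyClosed L := isIntegrallyClosed_of_isLocalization L P.primeCompl P.primeCompl_le_nonZeroDivisors
  have : IsDiscreteValuationRing L := ((IsDiscreteValuationRing.TFAE L hnf).out 0 3
    (a := IsDiscreteValuationRing L) (b := IsIntegrallyClosed L ∧ ∃! P : Ideal L, P ≠ ⊥ ∧ P.IsPrime) rfl rfl).mpr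
    ⟨inferInstance, IsLocalRing.maximalIdeal L,
      ⟨fun h => hnf (IsLocalRing.isField_iff_maximalIdeal_eq.mpr h), inferInstance⟩, hune⟩
  obtain ⟨π, hπ⟩ := IsDiscreteValuationRing.exists_irreducible L
  obtain ⟨⟨t, b⟩, htb⟩ := IsLocalization.surj P.primeCompl π
  simp only at htb
  have hbu : IsUnit (algebraMap A L b) := IsLocalization.map_units L b
  have hmax : IsLocalRing.maximalIdeal L = Ideal.span {algebraMap A L t} := by
    rw [hπ.maximalIdeal_eq, ← htb, Ideal.span_singleton_mul_right_unit hbu]
  obtain ⟨r, v, hv⟩ := IsDiscreteValuationRing.eq_unit_mul_pow_irreducible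
    (show algebraMap A L z ≠ 0 from (map_ne_zero_iff _ (IsLocalization.injective L
      P.primeCompl_le_nonZeroDivisors)).mpr hz0) hπ
  have key : ∀ g ∈ P, ∃ s ∉ P, s * g ∈ Ideal.span {t} := by
    intro g hg
    have : algebraMap A L g ∈ IsLocalRing.maximalIdeal L := by
      rw [← Localization.AtPrime.map_eq_maximalIdeal]
      exact Ideal.mem_map_of_mem _ hg
    rw [hmax, ← Set.image_singleton, ← Ideal.map_span,
      IsLocalization.algebraMap_mem_map_algebraMap_iff P.primeCompl] at this
    obtain ⟨s, hs, hsg⟩ := this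
    exact ⟨s, hs, hsg⟩
  have htP : t ∈ P := by
    by_contra ht
    refine (IsLocalRing.maximalIdeal.isMaximal L).ne_top ?_
    rw [hmax, Ideal.span_singleton_eq_top]
    exact IsLocalization.map_units L (⟨t, ht⟩ : P.primeCompl)
  choose s hs hst using key
  obtain ⟨G, hG⟩ := IsNoetherian.noetherian P
  have hGP : ∀ g : G, (g : A) ∈ P := fun g => hG ▸ Submodule.subset_span g.2
  obtain ⟨⟨c, d⟩, hcd⟩ := IsLocalization.surj P.primeCompl (v : L)
  simp only at hcd
  have hcP : c ∉ P := fun h => by
    have : algebraMap A L c ∈ IsLocalRing.maximalIdeal L := by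
      rw [← Localization.AtPrime.map_eq_maximalIdeal]
      exact Ideal.mem_map_of_mem _ h
    exact this (hcd ▸ v.isUnit.mul (IsLocalization.map_units L d))
  have heq : algebraMap A L (z * (d * (b : A) ^ r)) = algebraMap A L (c * t ^ r) := by
    rw [map_mul, map_mul, map_mul, map_pow, map_pow, ← htb, ← hcd, hv, mul_pow]
    ring
  obtain ⟨e, he⟩ := IsLocalization.exists_of_eq (M := P.primeCompl) heq
  let w := e * (d * (b : A) ^ r) * c * ∏ g : G, s g (hGP g)
  have hdb : (d : A) * (b : A) ^ r ∉ P := P.primeCompl.mul_mem d.2 (P.primeCompl.pow_mem b.2 r)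
  have hwP : w ∉ P := P.primeCompl.mul_mem (P.primeCompl.mul_mem (P.primeCompl.mul_mem e.2 hdb) hcP)
    (P.primeCompl.prod_mem fun g _ => hs g (hGP g))
  let B := Localization.Away w
  have hwu : IsUnit (algebraMap A B w) := IsLocalization.Away.algebraMap_isUnit w
  have hu : ∀ x : A, x ∣ w → IsUnit (algebraMap A B x) := fun x ⟨y, hy⟩ =>
    isUnit_of_mul_isUnit_left (y := algebraMap A B y) (by rw [← map_mul, ← hy]; exact hwu)
  refine ⟨w, t, r, hwP, ?_, ?_⟩
  · have h1 := congrArg (algebraMap A B) he
    rw [← mul_assoc, mul_comm (e : A) z, mul_assoc, map_mul, ← mul_assoc (e : A) c, map_mul (algebraMap A B) ((e : A) * c)] at h1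
    rw [← map_pow, ← Ideal.span_singleton_mul_right_unit (x := algebraMap A B z)
      (hu (e * (d * (b : A) ^ r)) ((dvd_mul_right _ _).trans (dvd_mul_right _ _))), h1,
      Ideal.span_singleton_mul_left_unit]
    exact hu _ ((mul_dvd_mul_right (dvd_mul_right _ _) c).trans (dvd_mul_right _ _))
  · have hPt : P.map (algebraMap A B) = Ideal.span {algebraMap A B t} := by
      refine le_antisymm ?_ ((Ideal.span_singleton_le_iff_mem _).mpr (Ideal.mem_map_of_mem _ htP))
      conv_lhs => rw [← hG]
      show (Ideal.span (G : Set A)).map _ ≤ _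
      rw [Ideal.map_span, Ideal.span_le]
      rintro _ ⟨g, hg, rfl⟩
      obtain ⟨q, hq⟩ := Ideal.mem_span_singleton.mp (hst g (hGP ⟨g, hg⟩))
      obtain ⟨i, hi⟩ := hu (s g (hGP ⟨g, hg⟩))
        (dvd_mul_of_dvd_right (Finset.dvd_prod_of_mem (fun g : G => s g (hGP g)) (Finset.mem_univ ⟨g, hg⟩)) _)
      refine Ideal.mem_span_singleton.mpr ⟨↑i⁻¹ * algebraMap A B q, ?_⟩
      have h2 := congrArg (algebraMap A B) hq
      rw [map_mul, map_mul, ← hi] at h2
      calc algebraMap A B g = ↑i⁻¹ * (↑i * algebraMap A B g) := by simp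
        _ = _ := by rw [h2]; ring
    rw [← hPt]
    exact IsLocalization.isPrime_of_isPrime_disjoint (Submonoid.powers w) B P hz
      (Set.disjoint_left.mpr fun x hx hxP => by
        obtain ⟨n, rfl⟩ := hx
        exact hwP (hz.mem_of_pow_mem n hxP))

end Groth.Agent.S18391
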