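import Groth.Statements.S18392
import Mathlib.RingTheory.Ideal.KrullsHeightTheorem
import Mathlib.RingTheory.Noetherian.Orzech

set_option autoImplicit false
universe u
open LVCorr

namespace Groth.Agent.S18392

/-- Let A be a normal (integrally closed) Noetherian domain and z an element of A such that the radical
of (z) is prime. Then for every non-empty open subset V of Spec A contained in the basic open set
D(z) (that is, every non-empty open subset of Spec A[1/z]) there is an element x of A, not in the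
radical of (z), such that the basic open set D(xz) = Spec A[1/xz] is contained in V. -/
theorem result (A : Type u) [CommRing A]
    [IsDomain A] [IsNoetherianRing A] [IsIntegrallyClosed A] (z : A)
    (hz : (Ideal.span {z}).radical.IsPrime) (V : Set (PrimeSpectrum A)) (hV : IsOpen V)
    (hVz : V ⊆ (PrimeSpectrum.basicOpen z : Set (PrimeSpectrum A))) (hne : V.Nonempty) :
    ∃ x : A, x ∉ (Ideal.span {z}).radical ∧
      ((PrimeSpectrum.basicOpen (x * z) : TopologicalSpace.Opens (PrimeSpectrum A)) :
        Set (PrimeSpectrum A)) ⊆ V := by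
  classical
  obtain ⟨q, hq⟩ := hne
  obtain ⟨_, ⟨a, rfl⟩, hqa, haV⟩ := PrimeSpectrum.isTopologicalBasis_basic_opens.exists_subset_of_mem_open hq hV
  let P := (Ideal.span {z}).radical
  have : P.IsPrime := hz
  have hzq : z ∉ q.asIdeal := hVz hq
  have hz0 : z ≠ 0 := fun h => hzq (h ▸ q.asIdeal.zero_mem)
  have hmin : P ∈ (Ideal.span {z}).minimalPrimes :=
    ⟨⟨hz, Ideal.le_radical⟩, fun Q hQ _ => hQ.1.radical_le_iff.mpr hQ.2⟩
  have hht := Ideal.height_le_one_of_isPrincipal_of_mem_minimalPrimes (Ideal.span {z}) P hmin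
  have ha0 : a ≠ 0 := fun h => hqa (h ▸ q.asIdeal.zero_mem)
  have hfin := Ideal.finite_minimalPrimes_of_isNoetherianRing A (Ideal.span {a})
  let S := hfin.toFinset.filter fun Q => z ∉ Q
  have hSP : ¬ S.inf id ≤ P := fun h => by
    obtain ⟨Q, hQ, hQP⟩ := (hz.inf_le').mp h
    obtain ⟨hQm, hzQ⟩ := Finset.mem_filter.mp hQ
    have hQm := hfin.mem_toFinset.mp hQm
    have : Q.IsPrime := hQm.1.1
    rcases (show Q ≤ P from hQP).eq_or_lt with h' | h'
    · exact hzQ (h' ▸ Ideal.le_radical (Ideal.mem_span_singleton_self z))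
    · have h1 := (Ideal.height_strict_mono_of_isPrime h').trans_le hht
      rw [Order.lt_one_iff, Ideal.height_eq_zero_iff_eq_bot] at h1
      exact ha0 (by simpa [h1] using hQm.1.2 (Ideal.mem_span_singleton_self a))
  obtain ⟨x, hxS, hxP⟩ := SetLike.not_le_iff_exists.mp hSP
  refine ⟨x, hxP, fun p hp => haV ?_⟩
  intro hap
  obtain ⟨Q, hQ, hQp⟩ := Ideal.exists_minimalPrimes_le ((Ideal.span_singleton_le_iff_mem _).mpr hap)
  refine hp ?_
  by_cases hzQ : z ∈ Q
  · exact Ideal.mul_mem_left _ _ (hQp hzQ)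
  · exact Ideal.mul_mem_right _ _ (hQp ((Finset.inf_le (f := id) (Finset.mem_filter.mpr ⟨hfin.mem_toFinset.mpr hQ, hzQ⟩)) hxS))

end Groth.Agent.S18392
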