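import Groth.Statements.S18393


set_option autoImplicit false
universe u v
open LVCorr

namespace Groth.Agent.S18393

/-- Stated for the underlying continuous maps. Let c₁, c₂ : C → X be continuous maps with C a Noetherian
topological space, let Z be a closed subset of X and B the closure in C of c₂⁻¹(Z) ∖ c₁⁻¹(Z). Call Z
locally invariant when every point x of Z has an open neighbourhood U such that every y in C with
c₂(y) ∈ Z ∩ U and c₁(y) ∈ U satisfies c₁(y) ∈ Z. Then Z is locally invariant if and only if for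
every irreducible subset T of B the closures of c₁(T) and of c₂(T) in X are disjoint. (The source
states this for a correspondence c = (c₁, c₂) : C → X × X of separated schemes of finite type over
an algebraically closed field and for the irreducible components of B; the condition for all
irreducible subsets of B is the same condition.) -/
theorem result {C : Type u} {X : Type v}
    [TopologicalSpace C] [TopologicalSpace X] [TopologicalSpace.NoetherianSpace C]
    (c₁ c₂ : C → X) (hc₁ : Continuous c₁) (hc₂ : Continuous c₂) (Z : Set X) (hZ : IsClosed Z) :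
    (∀ x ∈ Z, ∃ U : Set X, IsOpen U ∧ x ∈ U ∧
        ∀ y : C, c₂ y ∈ Z → c₂ y ∈ U → c₁ y ∈ U → c₁ y ∈ Z) ↔
      ∀ T : Set C, T ⊆ closure (c₂ ⁻¹' Z \ c₁ ⁻¹' Z) → IsIrreducible T →
        closure (c₁ '' T) ∩ closure (c₂ '' T) = ∅ := by
  constructor
  · intro h T hT hirr
    rw [Set.eq_empty_iff_forall_notMem]
    rintro x ⟨hx1, hx2⟩
    have hTZ : c₂ '' T ⊆ Z := by
      rintro _ ⟨y, hy, rfl⟩
      exact (hZ.preimage hc₂).closure_subset (closure_mono Set.diff_subset (hT hy))
    obtain ⟨U, hU, hxU, hprop⟩ := h x (hZ.closure_subset (closure_mono hTZ hx2))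
    obtain ⟨_, h1U, y1, hy1, rfl⟩ := mem_closure_iff.mp hx1 U hU hxU
    obtain ⟨_, h2U, y2, hy2, rfl⟩ := mem_closure_iff.mp hx2 U hU hxU
    obtain ⟨y, hy, hyU⟩ := hirr.2 _ _ (hU.preimage hc₁) (hU.preimage hc₂) ⟨y1, hy1, h1U⟩ ⟨y2, hy2, h2U⟩
    obtain ⟨z, hzU, hz2, hz1⟩ := mem_closure_iff.mp (hT hy) _ ((hU.preimage hc₁).inter (hU.preimage hc₂)) hyU
    exact hz1 (hprop z hz2 hzU.2 hzU.1)
  · intro h x hx
    obtain ⟨S, hSfin, -, hSirr, hS⟩ := TopologicalSpace.NoetherianSpace.exists_finite_set_isClosed_irreducible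
      (isClosed_closure (s := c₂ ⁻¹' Z \ c₁ ⁻¹' Z))
    classical
    let K : Set X := (⋃ T ∈ {T ∈ S | x ∉ closure (c₁ '' T)}, closure (c₁ '' T)) ∪
      ⋃ T ∈ {T ∈ S | x ∉ closure (c₂ '' T)}, closure (c₂ '' T)
    have hK : IsClosed K := ((hSfin.subset fun T hT => hT.1).isClosed_biUnion fun _ _ => isClosed_closure).union
      ((hSfin.subset fun T hT => hT.1).isClosed_biUnion fun _ _ => isClosed_closure)
    refine ⟨Kᶜ, hK.isOpen_compl, ?_, fun y hy2 hy2U hy1U => ?_⟩
    · rintro (hxK | hxK) <;> obtain ⟨T, hT, hxT⟩ := Set.mem_iUnion₂.mp hxK <;> exact hT.2 hxT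
    · by_contra hy1
      have hyB : y ∈ ⋃₀ S := hS ▸ subset_closure ⟨hy2, hy1⟩
      obtain ⟨T, hTS, hyT⟩ := hyB
      have e1 : x ∈ closure (c₁ '' T) := by
        by_contra hc
        exact hy1U (Or.inl (Set.mem_iUnion₂.mpr ⟨T, ⟨hTS, hc⟩, subset_closure ⟨y, hyT, rfl⟩⟩))
      have e2 : x ∈ closure (c₂ '' T) := by
        by_contra hc
        exact hy2U (Or.inr (Set.mem_iUnion₂.mpr ⟨T, ⟨hTS, hc⟩, subset_closure ⟨y, hyT, rfl⟩⟩))
      exact Set.eq_empty_iff_forall_notMem.mp (h T (hS ▸ Set.subset_sUnion_of_mem hTS) (hSirr T hTS)) x ⟨e1, e2⟩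

end Groth.Agent.S18393
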