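import Groth.Statements.S18394
import Groth.Agent.Lib.Nagata6.Absolute
import Groth.Agent.Lib.Nagata6.UnionData
import Groth.Agent.Lib.FgSupport6.Separate

set_option autoImplicit false
universe u v
open LVCorr

namespace Groth.Agent.S18394

open AlgebraicGeometry CategoryTheory in
open AlgebraicGeometry CategoryTheory in
theorem exists_sep_finset {X : Scheme.{u}} {k : Type u} [Field k]
    (pX : X ⟶ Spec (CommRingCat.of k)) [IsSeparated pX] [QuasiCompact pX] [LocallyOfFiniteType pX]
    {ι : Type v} (C₁ C₂ : ι → Set X) (h₁ : ∀ i, IsClosed (C₁ i)) (h₂ : ∀ i, IsClosed (C₂ i))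
    (hd : ∀ i, C₁ i ∩ C₂ i = ∅) (s : Finset ι) :
    ∃ (Xb : Scheme.{u}) (j : X ⟶ Xb) (p : Xb ⟶ Spec (CommRingCat.of k)),
      IsProper p ∧ IsOpenImmersion j ∧ j ≫ p = pX ∧
      ∀ i ∈ s, Disjoint (closure (j.base '' C₁ i)) (closure (j.base '' C₂ i)) := by
  classical
  induction s using Finset.induction with
  | empty =>
    obtain ⟨Y, j, p, hj, -, hp, hjp⟩ := GrothLib.Nagata6.exists_compactification pX
    exact ⟨Y, j, p, hp, hj, hjp, by simp⟩
  | insert i s _ ih =>
    obtain ⟨Y, j, p, hp, hj, hjp, hdis⟩ := ih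
    haveI := LocallyOfFiniteType.isLocallyNoetherian p
    let I₁ := Scheme.IdealSheafData.vanishingIdeal (X := Y) ⟨closure (j.base '' C₁ i), isClosed_closure⟩
    let I₂ := Scheme.IdealSheafData.vanishingIdeal (X := Y) ⟨closure (j.base '' C₂ i), isClosed_closure⟩
    have hcl : ∀ C : Set X, IsClosed C → ∀ x, j.base x ∈ closure (j.base '' C) → x ∈ C := by
      intro C hC x hx
      have h : x ∈ closure C := by
        rw [j.isOpenEmbedding.isEmbedding.closure_eq_preimage_closure_image]; exact hx
      rwa [hC.closure_eq] at h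
    have hA : Disjoint ((I₁ ⊔ I₂).support : Set Y) (Set.range j.base) := by
      rw [Scheme.IdealSheafData.support_sup, Set.disjoint_left]
      rintro _ ⟨hy₁, hy₂⟩ ⟨x, rfl⟩
      rw [Scheme.IdealSheafData.coe_support_vanishingIdeal] at hy₁ hy₂
      have : x ∈ C₁ i ∩ C₂ i := ⟨hcl _ (h₁ i) x hy₁, hcl _ (h₂ i) x hy₂⟩
      rw [hd i] at this
      exact this
    obtain ⟨Y', c, hc⟩ := GrothLib.BlowUp.exists_isBlowUp Y (I₁ ⊔ I₂)
    haveI := GrothLib.Nagata6.isProper_of_isBlowUp (GrothLib.Nagata6.isFiniteTypeIdeal_of_noetherian _) hc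
    obtain ⟨u, hu, huc, -⟩ := GrothLib.Nagata6.exists_lift_off hc j hA
    have himg : ∀ s : Set X, u.base '' s ⊆ c.base ⁻¹' (j.base '' s) := by
      rintro s _ ⟨x, hx, rfl⟩
      refine ⟨x, hx, ?_⟩
      show j x = c (u x)
      rw [← Scheme.Hom.comp_apply, huc]
    refine ⟨Y', u, c ≫ p, inferInstance, hu, by rw [reassoc_of% huc, hjp], fun i' hi' => ?_⟩
    rcases Finset.mem_insert.mp hi' with rfl | hi'
    · have hoff : ∀ s : Set X, Disjoint (j.base '' s) ((I₁ ⊔ I₂).support : Set Y) := fun s =>
        hA.symm.mono_left (Set.image_subset_range _ _)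
      refine (GrothLib.FgSupport6.disjoint_closure c I₁ I₂ hc.1 _ _ ?_ ?_ (hoff _) (hoff _)).mono
        (closure_mono (himg _)) (closure_mono (himg _))
      · rw [Scheme.IdealSheafData.coe_support_vanishingIdeal]; exact subset_closure
      · rw [Scheme.IdealSheafData.coe_support_vanishingIdeal]; exact subset_closure
    · have key : ∀ s : Set X, closure (u.base '' s) ⊆ c.base ⁻¹' closure (j.base '' s) := fun s =>
        closure_minimal ((himg s).trans (Set.preimage_mono subset_closure))
          (isClosed_closure.preimage c.continuous)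
      exact ((hdis i' hi').preimage c.base).mono (key _) (key _)

open AlgebraicGeometry CategoryTheory in

/-- Let X be a scheme separated and of finite type over a field k, and let (C₁ᵢ, C₂ᵢ), i ranging over a
finite set, be pairs of closed subsets of X with C₁ᵢ and C₂ᵢ disjoint for every i. Then X admits a
compactification in which each pair stays disjoint: there are a scheme X̄ proper over k and an open
immersion j : X → X̄ over k with dense image such that for every i the closures of j(C₁ᵢ) and of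
j(C₂ᵢ) in X̄ do not meet. (The source has k algebraically closed.) -/
theorem result {X : Scheme.{u}} (k : Type u) [Field k]
    (pX : X ⟶ Spec (CommRingCat.of k)) [IsSeparated pX] [QuasiCompact pX] [LocallyOfFiniteType pX]
    {ι : Type v} [Finite ι] (C₁ C₂ : ι → Set X) (h₁ : ∀ i, IsClosed (C₁ i)) (h₂ : ∀ i, IsClosed (C₂ i))
    (hd : ∀ i, C₁ i ∩ C₂ i = ∅) :
    ∃ (Xb : Scheme.{u}) (j : X ⟶ Xb) (p : Xb ⟶ Spec (CommRingCat.of k)),
      IsProper p ∧ IsOpenImmersion j ∧ DenseRange j.base ∧ j ≫ p = pX ∧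
      ∀ i, closure (j.base '' C₁ i) ∩ closure (j.base '' C₂ i) = ∅ := by
  classical
  haveI := Fintype.ofFinite ι
  obtain ⟨Xb, j, p, hp, hj, hjp, hdis⟩ := exists_sep_finset pX C₁ C₂ h₁ h₂ hd Finset.univ
  haveI : QuasiCompact (j ≫ p) := hjp ▸ inferInstance
  haveI : QuasiCompact j := QuasiCompact.of_comp j p
  refine ⟨j.image, j.toImage, j.imageι ≫ p, inferInstance, inferInstance,
    IsDominant.denseRange (f := j.toImage), by rw [Scheme.Hom.toImage_imageι_assoc, hjp], fun i => ?_⟩
  rw [← Set.disjoint_iff_inter_eq_empty]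
  have h := fun s : Set X => show closure (j.toImage.base '' s) ⊆ j.imageι.base ⁻¹' closure (j.base '' s) by
    refine closure_minimal ?_ (isClosed_closure.preimage j.imageι.continuous)
    rintro _ ⟨x, hx, rfl⟩
    refine subset_closure ⟨x, hx, ?_⟩
    show j x = j.imageι (j.toImage x)
    rw [← Scheme.Hom.comp_apply, Scheme.Hom.toImage_imageι]
  exact ((hdis i (Finset.mem_univ i)).preimage j.imageι.base).mono (h _) (h _)

end Groth.Agent.S18394
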