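import Groth.Statements.S18395
import Groth.Agent.S18388
import Groth.Agent.S18394

set_option autoImplicit false
universe u
open LVCorr

namespace Groth.Agent.S18395

open AlgebraicGeometry CategoryTheory in
/-- Let X and C be schemes separated and of finite type over a field k, let c₁, c₂ : C → X be morphisms
over k (a correspondence C → X × X), and fix an open U ⊆ X whose preimage c₁⁻¹(U) forms a dense
subset of C, such that the restriction c₁⁻¹(U) → U of c₁ is proper, and the closed subset Z = X ∖ U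
is locally invariant: every point x of Z has an open neighbourhood U' such that every y in C with
c₂(y) ∈ Z ∩ U' and c₁(y) ∈ U' satisfies c₁(y) ∈ Z. Then the correspondence has a compactification
for which the complement of U is again locally invariant: there are schemes C̄ and X̄ proper over k,
open immersions j : C → C̄ and jX : X → X̄ over k with dense images, and morphisms c̄₁, c̄₂ : C̄ →
X̄ over k with j followed by c̄ᵢ equal to cᵢ followed by jX, such that X̄ ∖ jX(U) is locally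
invariant for (c̄₁, c̄₂) in the same sense. (The source has k algebraically closed.) -/
theorem result {C X : Scheme.{u}} (k : Type u) [Field k]
    (pC : C ⟶ Spec (CommRingCat.of k)) [IsSeparated pC] [QuasiCompact pC] [LocallyOfFiniteType pC]
    (pX : X ⟶ Spec (CommRingCat.of k)) [IsSeparated pX] [QuasiCompact pX] [LocallyOfFiniteType pX]
    (c₁ c₂ : C ⟶ X) (hc₁ : c₁ ≫ pX = pC) (hc₂ : c₂ ≫ pX = pC) (U : X.Opens)
    (hU : Dense ((c₁ ⁻¹ᵁ U : C.Opens) : Set C)) [IsProper (c₁ ∣_ U)]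
    (hZ : ∀ x ∈ ((U : Set X)ᶜ), ∃ U' : Set X, IsOpen U' ∧ x ∈ U' ∧
        ∀ y, c₂.base y ∈ ((U : Set X)ᶜ) → c₂.base y ∈ U' → c₁.base y ∈ U' → c₁.base y ∈ ((U : Set X)ᶜ)) :
    ∃ (Cb Xb : Scheme.{u}) (pCb : Cb ⟶ Spec (CommRingCat.of k)) (pXb : Xb ⟶ Spec (CommRingCat.of k))
      (j : C ⟶ Cb) (jX : X ⟶ Xb) (cb₁ cb₂ : Cb ⟶ Xb),
      IsProper pCb ∧ IsProper pXb ∧ IsOpenImmersion j ∧ IsOpenImmersion jX ∧
      DenseRange j.base ∧ DenseRange jX.base ∧ j ≫ pCb = pC ∧ jX ≫ pXb = pX ∧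
      cb₁ ≫ pXb = pCb ∧ cb₂ ≫ pXb = pCb ∧ j ≫ cb₁ = c₁ ≫ jX ∧ j ≫ cb₂ = c₂ ≫ jX ∧
      ∀ x ∈ ((jX.base '' (U : Set X))ᶜ), ∃ U' : Set Xb, IsOpen U' ∧ x ∈ U' ∧
        ∀ y, cb₂.base y ∈ ((jX.base '' (U : Set X))ᶜ) → cb₂.base y ∈ U' → cb₁.base y ∈ U' → cb₁.base y ∈ ((jX.base '' (U : Set X))ᶜ) := by
  classical
  haveI := LocallyOfFiniteType.isLocallyNoetherian pC
  haveI : CompactSpace C := QuasiCompact.compactSpace_of_compactSpace pC
  haveI : IsNoetherian C := ⟨⟩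
  let F : Set C := c₂.base ⁻¹' (U : Set X)ᶜ ∩ c₁.base ⁻¹' (U : Set X)
  let ι := ↥(irreducibleComponents ↥F)
  haveI : Finite ι := TopologicalSpace.NoetherianSpace.finite_irreducibleComponents.to_subtype
  let Γ : ι → Set C := fun i => Subtype.val '' (i.1 : Set ↥F)
  have hD : ∀ i, closure (c₁.base '' Γ i) ∩ closure (c₂.base '' Γ i) = ∅ := by
    intro i
    rw [Set.eq_empty_iff_forall_notMem]
    rintro x ⟨hx₁, hx₂⟩
    have hxZ : x ∈ (U : Set X)ᶜ := by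
      refine closure_minimal ?_ U.isOpen.isClosed_compl hx₂
      rintro _ ⟨_, ⟨y, -, rfl⟩, rfl⟩
      exact y.2.1
    obtain ⟨U', hU', hxU', hinv⟩ := hZ x hxZ
    obtain ⟨_, hm₁, y₁, hy₁, rfl⟩ := mem_closure_iff.mp hx₁ U' hU' hxU'
    obtain ⟨_, hm₂, y₂, hy₂, rfl⟩ := mem_closure_iff.mp hx₂ U' hU' hxU'
    have hirr : IsPreirreducible (Γ i) :=
      i.2.1.2.image _ continuous_subtype_val.continuousOn
    obtain ⟨y, hy, h₁, h₂⟩ := hirr _ _ (hU'.preimage c₁.continuous) (hU'.preimage c₂.continuous)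
      ⟨y₁, hy₁, hm₁⟩ ⟨y₂, hy₂, hm₂⟩
    obtain ⟨y, -, rfl⟩ := hy
    exact hinv _ y.2.1 h₂ h₁ y.2.2
  obtain ⟨Xb, jX, pXb, hpXb, hjX, hjXd, hjXp, hsep⟩ :=
    Groth.Agent.S18394.result k pX (fun i => closure (c₁.base '' Γ i)) (fun i => closure (c₂.base '' Γ i))
      (fun _ => isClosed_closure) (fun _ => isClosed_closure) hD
  obtain ⟨Cb, pCb, j, cb₁, cb₂, hpCb, hj, hjd, hjp, hcb₁, hcb₂, hj₁, hj₂⟩ :=
    Groth.Agent.S18388.result pC pX pX pXb pXb c₁ c₂ hc₁ hc₂ jX jX hjXp hjXp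
  have hfill : ∀ y, cb₁.base y ∈ jX.base '' (U : Set X) → ∃ c, j.base c = y ∧ c ∈ c₁ ⁻¹ᵁ U := by
    intro y hy
    let u : (U : Scheme.{u}) ⟶ Xb := U.ι ≫ jX
    let h : ((c₁ ⁻¹ᵁ U : C.Opens) : Scheme.{u}) ⟶ Limits.pullback cb₁ u :=
      Limits.pullback.lift ((c₁ ⁻¹ᵁ U).ι ≫ j) (c₁ ∣_ U)
        (by simp only [u, Category.assoc, hj₁, morphismRestrict_ι_assoc])
    haveI : IsSeparated cb₁ := by
      haveI : IsSeparated (cb₁ ≫ pXb) := hcb₁ ▸ inferInstance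
      exact IsSeparated.of_comp cb₁ pXb
    haveI : IsProper (h ≫ Limits.pullback.snd cb₁ u) := by
      rw [show h ≫ Limits.pullback.snd cb₁ u = c₁ ∣_ U from Limits.pullback.lift_snd _ _ _]
      infer_instance
    haveI : IsProper h := IsProper.of_comp h (Limits.pullback.snd cb₁ u)
    have hh : h ≫ Limits.pullback.fst cb₁ u = (c₁ ⁻¹ᵁ U).ι ≫ j := Limits.pullback.lift_fst _ _ _
    have hyr : y ∈ Set.range (Limits.pullback.fst cb₁ u).base := by
      rw [IsOpenImmersion.range_pullbackFst]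
      obtain ⟨x, hx, hxy⟩ := hy
      refine ⟨⟨x, hx⟩, ?_⟩
      exact hxy
    obtain ⟨p, rfl⟩ := hyr
    by_cases hp : p ∈ Set.range h.base
    · obtain ⟨c, rfl⟩ := hp
      refine ⟨c.1, ?_, c.2⟩
      rw [← Scheme.Hom.comp_apply, hh]
      rfl
    · exfalso
      have hO : IsOpen ((Limits.pullback.fst cb₁ u).base '' (Set.range h.base)ᶜ) :=
        (Limits.pullback.fst cb₁ u).isOpenEmbedding.isOpenMap _
          h.isClosedMap.isClosed_range.isOpen_compl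
      obtain ⟨_, ⟨p', hp', rfl⟩, c, hc, hcp⟩ := dense_iff_inter_open.mp
        (hjd.dense_image j.continuous hU) _ hO ⟨_, p, hp, rfl⟩
      refine hp' ⟨⟨c, hc⟩, (Limits.pullback.fst cb₁ u).isOpenEmbedding.injective ?_⟩
      rw [← Scheme.Hom.comp_apply, hh]
      exact hcp
  refine ⟨Cb, Xb, pCb, pXb, j, jX, cb₁, cb₂, hpCb, hpXb, hj, hjX, hjd, hjXd, hjp, hjXp,
    hcb₁, hcb₂, hj₁, hj₂, fun x _ => ?_⟩
  let B : ι → Set Xb := fun i =>
    if x ∈ closure (jX.base '' closure (c₁.base '' Γ i)) then closure (jX.base '' closure (c₂.base '' Γ i))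
    else closure (jX.base '' closure (c₁.base '' Γ i))
  refine ⟨(⋃ i, B i)ᶜ, (isClosed_iUnion_of_finite fun i => ?_).isOpen_compl, ?_, ?_⟩
  · dsimp only [B]; split_ifs <;> exact isClosed_closure
  · simp only [Set.mem_compl_iff, Set.mem_iUnion, not_exists]
    intro i hi
    dsimp only [B] at hi
    split_ifs at hi with h
    · exact Set.eq_empty_iff_forall_notMem.mp (hsep i) x ⟨h, hi⟩
    · exact h hi
  intro y hy₂ hy₂' hy₁'
  by_contra hy₁
  obtain ⟨c, rfl, hc⟩ := hfill y (not_not.mp hy₁)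
  have hj₁' : cb₁ (j c) = jX (c₁ c) := by
    rw [← Scheme.Hom.comp_apply, hj₁, Scheme.Hom.comp_apply]
  have hj₂' : cb₂ (j c) = jX (c₂ c) := by
    rw [← Scheme.Hom.comp_apply, hj₂, Scheme.Hom.comp_apply]
  have hcF : c ∈ F := ⟨fun h => hy₂ ⟨_, h, hj₂'.symm⟩, hc⟩
  have hcov := (sUnion_irreducibleComponents (X := ↥F)).ge (Set.mem_univ (⟨c, hcF⟩ : ↥F))
  obtain ⟨s, hs, hcs⟩ := hcov
  have hcΓ : c ∈ Γ ⟨s, hs⟩ := ⟨⟨c, hcF⟩, hcs, rfl⟩
  have m₁ : cb₁ (j c) ∈ closure (jX.base '' closure (c₁.base '' Γ ⟨s, hs⟩)) :=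
    subset_closure ⟨_, subset_closure ⟨c, hcΓ, rfl⟩, hj₁'.symm⟩
  have m₂ : cb₂ (j c) ∈ closure (jX.base '' closure (c₂.base '' Γ ⟨s, hs⟩)) :=
    subset_closure ⟨_, subset_closure ⟨c, hcΓ, rfl⟩, hj₂'.symm⟩
  by_cases h : x ∈ closure (jX.base '' closure (c₁.base '' Γ ⟨s, hs⟩))
  · refine hy₂' (Set.mem_iUnion.mpr ⟨⟨s, hs⟩, ?_⟩)
    simp only [B, if_pos h]; exact m₂
  · refine hy₁' (Set.mem_iUnion.mpr ⟨⟨s, hs⟩, ?_⟩)
    simp only [B, if_neg h]; exact m₁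

end Groth.Agent.S18395
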