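import Groth.Statements.S18396
import Groth.Agent.Lib.FrobContract10.Main

set_option autoImplicit false
set_option linter.all false
set_option backward.isDefEq.respectTransparency false
universe u
open LVCorr

namespace Groth.Agent.S18396

open AlgebraicGeometry CategoryTheory in
/-- A sufficiently Frobenius-twisted correspondence is contracting near an invariant closed subscheme.
Let k₀ be a finite field with p^e elements, K an algebraic closure of k₀, C₀ a scheme over k₀ and C
= C₀ ×_{k₀} Spec K with its two projections; let Fr : C → C be the n-th power of the geometric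
Frobenius of C, i.e. the endomorphism over K whose composite with the projection to C₀ is that
projection followed by the (e·n)-th power of the absolute p-Frobenius of C₀. Let c₁, c₂ : C → X be
morphisms to a scheme X, I a quasi-coherent sheaf of ideals on X with zero locus Z, J the inverse
image ideal sheaf of I under c₂, and d a natural number with (√J)^d ⊂ J and d < p^(e n). If c₁ ∘ Fr
maps c₂⁻¹(Z) into Z set-theoretically, then the inverse image ideal sheaf L of I under c₁ ∘ Fr
satisfies L ⊂ J and L^d ⊂ J^(d+1); that is, the twisted correspondence (c₁ ∘ Fr, c₂) stabilizes Z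
and is contracting near Z. (In the source the correspondence is defined over k₀, the twist is
written with the geometric Frobenius of X, which gives the same first component, and d is the
ramification of c₂ at Z, the least exponent with (√J)^d ⊂ J; only the k₀-structure of C and the
inequality (√J)^d ⊂ J are used.) -/
theorem result {C C₀ X : Scheme.{u}} (p : ℕ) [Fact p.Prime]
    (k₀ : Type u) [Field k₀] [Fintype k₀] [CharP k₀ p] (e : ℕ) (hq : Fintype.card k₀ = p ^ e)
    (K : Type u) [Field K] [Algebra k₀ K] [IsAlgClosure k₀ K]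
    (f₀ : C₀ ⟶ Spec (CommRingCat.of k₀)) [FrobSch.IsCharP C₀ p]
    (πC₀ : C ⟶ C₀) (πK : C ⟶ Spec (CommRingCat.of K))
    (hC : IsPullback πC₀ πK f₀ (Spec.map (CommRingCat.ofHom (algebraMap k₀ K))))
    (n : ℕ) (Fr : C ⟶ C)
    (hFr₀ : Fr ≫ πC₀ = πC₀ ≫ End.asHom (End.of (FrobSch.frob C₀ p) ^ (e * n)))
    (hFrK : Fr ≫ πK = πK)
    (c₁ c₂ : C ⟶ X) (I : X.IdealSheafData) (d : ℕ)
    (hd : (I.comap c₂).radical ^ d ≤ I.comap c₂) (hn : d < p ^ (e * n))
    (hinv : (Fr ≫ c₁).base '' (c₂.base ⁻¹' (I.support : Set X)) ⊆ (I.support : Set X)) :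
    I.comap (Fr ≫ c₁) ≤ I.comap c₂ ∧ I.comap (Fr ≫ c₁) ^ d ≤ I.comap c₂ ^ (d + 1) := by
  haveI : IsAlgClosed K := IsAlgClosure.isAlgClosed k₀
  rw [Scheme.IdealSheafData.comap_comp]
  refine GrothLib.FrobContract10.le_of_invariant p hC hFr₀ hFrK _ _ d hd hn fun z hz => ?_
  rw [Scheme.IdealSheafData.support_comap] at hz ⊢
  exact hinv ⟨z, hz, rfl⟩

end Groth.Agent.S18396
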