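import Groth.Statements.S18397
import Groth.Agent.Lib.FrobContract10.Main

set_option autoImplicit false
set_option linter.all false
set_option backward.isDefEq.respectTransparency false
universe u
open LVCorr

namespace Groth.Agent.S18397

open AlgebraicGeometry CategoryTheory CategoryTheory.Limits in
/-- Let k₀ be a finite field with p^e elements, K an algebraic closure of k₀, C₀ a scheme locally of
finite type over k₀, C = C₀ ×_{k₀} Spec K with its projections, and Fr : C → C the n-th power of the
geometric Frobenius (over K, compatible with the (e·n)-th power of the absolute p-Frobenius of C₀).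
Let X be locally of finite type over K and c₁, c₂ : C → X morphisms over K with c₂ quasi-finite, and
let d < p^(e n) be such that for every closed point x of X, with J_x the inverse image under c₂ of
the ideal sheaf of the reduced point x, one has (√J_x)^d ⊂ J_x (d bounds the ramification of c₂).
Then the twisted correspondence (c₁ ∘ Fr, c₂) is contracting near every closed point in a
neighbourhood of its fixed points: for every closed point x of X there is an open subset W of C
containing every point of C whose image under (c₁ ∘ Fr, c₂) : C → X ×_K X lies in the diagonal, such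
that, writing L and J for the inverse image ideal sheaves on W of the ideal of x under c₁ ∘ Fr and
under c₂, one has L ⊂ J and L^k ⊂ J^(k+1) for some k. (In the source the correspondence is defined
over k₀ and the twist is written with the geometric Frobenius of X.) -/
theorem result {C C₀ X : Scheme.{u}}
    (p : ℕ) [Fact p.Prime] (k₀ : Type u) [Field k₀] [Fintype k₀] [CharP k₀ p] (e : ℕ)
    (hq : Fintype.card k₀ = p ^ e) (K : Type u) [Field K] [Algebra k₀ K] [IsAlgClosure k₀ K]
    (f₀ : C₀ ⟶ Spec (CommRingCat.of k₀)) [LocallyOfFiniteType f₀] [FrobSch.IsCharP C₀ p]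
    (πC₀ : C ⟶ C₀) (πK : C ⟶ Spec (CommRingCat.of K))
    (hC : IsPullback πC₀ πK f₀ (Spec.map (CommRingCat.ofHom (algebraMap k₀ K))))
    (n : ℕ) (Fr : C ⟶ C)
    (hFr₀ : Fr ≫ πC₀ = πC₀ ≫ End.asHom (End.of (FrobSch.frob C₀ p) ^ (e * n)))
    (hFrK : Fr ≫ πK = πK)
    (pX : X ⟶ Spec (CommRingCat.of K)) [LocallyOfFiniteType pX]
    (c₁ c₂ : C ⟶ X) (hc₁ : c₁ ≫ pX = πK) (hc₂ : c₂ ≫ pX = πK)
    [LocallyQuasiFinite c₂] [LocallyOfFiniteType c₂]
    (hcomm : (Fr ≫ c₁) ≫ pX = c₂ ≫ pX) (d : ℕ) (hn : d < p ^ (e * n))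
    (hd : ∀ (x : X) (hx : IsClosed ({x} : Set X)),
      ((Scheme.IdealSheafData.vanishingIdeal ⟨{x}, hx⟩).comap c₂).radical ^ d ≤
        (Scheme.IdealSheafData.vanishingIdeal ⟨{x}, hx⟩).comap c₂)
    (x : X) (hx : IsClosed ({x} : Set X)) :
    ∃ W : C.Opens,
      (pullback.lift (Fr ≫ c₁) c₂ hcomm).base ⁻¹' Set.range (pullback.diagonal pX).base ⊆ (W : Set C) ∧
      (Scheme.IdealSheafData.vanishingIdeal ⟨{x}, hx⟩).comap (W.ι ≫ Fr ≫ c₁) ≤
        (Scheme.IdealSheafData.vanishingIdeal ⟨{x}, hx⟩).comap (W.ι ≫ c₂) ∧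
      ∃ k : ℕ, (Scheme.IdealSheafData.vanishingIdeal ⟨{x}, hx⟩).comap (W.ι ≫ Fr ≫ c₁) ^ k ≤
        (Scheme.IdealSheafData.vanishingIdeal ⟨{x}, hx⟩).comap (W.ι ≫ c₂) ^ (k + 1) := by
  haveI : IsAlgClosed K := IsAlgClosure.isAlgClosed k₀
  have hbad : IsClosed {y : C | c₂.base y = x ∧ (Fr ≫ c₁).base y ≠ x} :=
    isClosed_of_subset_discrete_closed (t := c₂.base ⁻¹' {x}) (fun y hy => hy.1)
      (c₂.isDiscrete_preimage_singleton x) (hx.preimage c₂.continuous)
  let W : C.Opens := ⟨_, hbad.isOpen_compl⟩
  let I := Scheme.IdealSheafData.vanishingIdeal (⟨{x}, hx⟩ : TopologicalSpace.Closeds X)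
  have hI : (I.support : Set X) = {x} := by
    show (((Scheme.IdealSheafData.vanishingIdeal (⟨{x}, hx⟩ : TopologicalSpace.Closeds X)).support) : Set X) = {x}
    simp
  have hinv : ∀ z ∈ W, z ∈ (I.comap c₂).support → Fr.base z ∈ (I.comap c₁).support := fun z hzW hz => by
    rw [Scheme.IdealSheafData.support_comap] at hz ⊢
    have h2 : c₂.base z = x := by
      have : c₂.base z ∈ (I.support : Set X) := hz
      rwa [hI] at this
    show c₁.base (Fr.base z) ∈ (I.support : Set X)
    rw [hI]
    by_contra hne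
    exact hzW ⟨h2, hne⟩
  have hW : (pullback.lift (Fr ≫ c₁) c₂ hcomm).base ⁻¹' Set.range (pullback.diagonal pX).base ⊆ (W : Set C) := by
    intro y hy hybad
    obtain ⟨w, hw⟩ := hy
    refine hybad.2 ?_
    have h1 := congrArg (pullback.fst pX pX).base hw
    have h2 := congrArg (pullback.snd pX pX).base hw
    simp only [← Scheme.Hom.comp_apply, pullback.diagonal_fst, pullback.diagonal_snd, pullback.lift_fst,
      pullback.lift_snd] at h1 h2
    exact (h1.symm.trans h2).trans hybad.1
  obtain ⟨ha, hb⟩ := GrothLib.FrobContract10.comap_le p hC hFr₀ hFrK (I.comap c₁) (I.comap c₂) d (hd x hx) hn W hinv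
  refine ⟨W, hW, ?_, d, ?_⟩
  · simpa only [Scheme.IdealSheafData.comap_comp] using ha
  · simpa only [Scheme.IdealSheafData.comap_comp] using hb

end Groth.Agent.S18397
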