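import Groth.Statements.S18399
import Groth.Agent.Lib.Serre.Partial
import Mathlib.Dynamics.PeriodicPts.Lemmas
-- import your own Groth.Agent.* helpers here

set_option autoImplicit false
universe u
open CAlg

namespace Groth.Agent.S18399

/-- Let k be a field and A a regular local k-algebra with residue field k (the structure map from k onto
the residue field of A is surjective), let σ be a k-algebra endomorphism of A of finite order n with
n invertible in k, and let I_σ be the ideal of A generated by the elements f - σ f. Then I_σ is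
generated by finitely many elements of the maximal ideal whose classes in the cotangent space m/m^2
are linearly independent over the residue field. (Such elements are part of a regular system of
parameters of A, hence part of a regular sequence, which is the printed conclusion; the generators
with independent classes are what the argument produces.) -/
theorem result {k : Type u} [Field k] {A : Type u} [CommRing A] [Algebra k A] [IsRegularLocalRing A] (hres : Function.Surjective ⇑(algebraMap k (IsLocalRing.ResidueField A))) (σ : A →ₐ[k] A) (n : ℕ) (hσ : ∀ a : A, (⇑σ)^[n] a = a) (hn : (n : k) ≠ 0) : ∃ (m : ℕ) (f : Fin m → ↥(IsLocalRing.maximalIdeal A)), Ideal.span (Set.range fun i : Fin m => (f i : A)) = Ideal.span (Set.range fun a : A => a - σ a) ∧ LinearIndependent (IsLocalRing.ResidueField A) (fun i : Fin m => (IsLocalRing.maximalIdeal A).toCotangent (f i)) := by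
  have hn0 : n ≠ 0 := fun h => hn (by simp [h])
  have : NeZero n := ⟨hn0⟩
  let φ : Fin n → A →ₐ[k] A := fun i => σ ^ (i : ℕ)
  have hφ : ∀ (j : ℕ) (a : A), (σ ^ j) a = σ^[j] a := fun j a => congrFun (AlgHom.coe_pow σ j) a
  have hloc1 : ∀ a ∈ IsLocalRing.maximalIdeal A, σ a ∈ IsLocalRing.maximalIdeal A := by
    intro a ha
    rw [IsLocalRing.mem_maximalIdeal, mem_nonunits_iff] at ha ⊢
    intro hu
    apply ha
    have := hu.map (σ ^ (n - 1))
    rwa [hφ, ← Function.iterate_succ_apply, Nat.succ_eq_add_one, Nat.sub_add_cancel (Nat.pos_of_ne_zero hn0), hσ] at this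
  have hloc : ∀ (j : ℕ), ∀ a ∈ IsLocalRing.maximalIdeal A, (σ ^ j) a ∈ IsLocalRing.maximalIdeal A := by
    intro j
    induction j with
    | zero => intro a ha; simpa [hφ] using ha
    | succ j ih => intro a ha; rw [hφ, Function.iterate_succ_apply']; exact hloc1 _ (by rw [← hφ]; exact ih a ha)
  set J := Ideal.span (Set.range fun a : A => a - σ a) with hJ
  have hJeq : J = Ideal.span {x | ∃ i a, x = φ i a - a} := by
    refine le_antisymm (Ideal.span_le.2 ?_) (Ideal.span_le.2 ?_)
    · rintro _ ⟨a, rfl⟩
      show a - σ a ∈ _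
      rw [← neg_sub]
      refine neg_mem (Ideal.subset_span ⟨(1 : Fin n), a, ?_⟩)
      show σ a - a = (σ ^ ((1 : Fin n) : ℕ)) a - a
      rw [hφ]
      rcases Nat.eq_or_lt_of_le (Nat.one_le_iff_ne_zero.2 hn0) with h1 | h1
      · subst h1
        have h1σ : σ a = a := hσ a
        simp [h1σ]
      · rw [Fin.val_one', Nat.mod_eq_of_lt h1, Function.iterate_one]
    · rintro _ ⟨i, a, rfl⟩
      show (σ ^ (i : ℕ)) a - a ∈ J
      generalize (i : ℕ) = j
      induction j with
      | zero => simp [hφ]
      | succ j ih =>
        rw [hφ, Function.iterate_succ_apply', ← sub_add_sub_cancel _ (σ^[j] a) a]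
        refine add_mem ?_ (hφ j a ▸ ih)
        rw [← neg_sub]
        exact neg_mem (Ideal.subset_span ⟨_, rfl⟩)
  have hJm : J ≤ IsLocalRing.maximalIdeal A := by
    rw [hJ, Ideal.span_le]
    rintro _ ⟨a, rfl⟩
    obtain ⟨c, hc⟩ := hres (IsLocalRing.residue A a)
    have ha : a - algebraMap k A c ∈ IsLocalRing.maximalIdeal A := by
      rw [← IsLocalRing.residue_eq_zero_iff, map_sub, sub_eq_zero]; exact hc.symm
    have := sub_mem ha (hloc1 _ ha)
    rwa [map_sub, AlgHom.commutes, sub_sub_sub_cancel_right] at this
  have hinter := GrothLib.Serre.fixedIdeal_inf_sq_le hres (by rwa [Fintype.card_fin]) φ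
    (fun i => hloc i) (fun j => ⟨Equiv.addRight j, fun i a => by
      show (σ ^ (i : ℕ)) ((σ ^ (j : ℕ)) a) = (σ ^ ((i + j : Fin n) : ℕ)) a
      rw [hφ, hφ, hφ, ← Function.iterate_add_apply, Fin.val_add]
      exact ((show Function.IsPeriodicPt σ n a from hσ a).iterate_mod_apply _).symm⟩) J hJeq hJm
  obtain ⟨m, f, hf, hind⟩ := GrothLib.Serre.exists_indepSq_generators J hinter
  have hfm : ∀ i, f i ∈ IsLocalRing.maximalIdeal A := fun i => hJm (hf ▸ Ideal.subset_span ⟨i, rfl⟩)
  refine ⟨m, fun i => ⟨f i, hfm i⟩, hf, Fintype.linearIndependent_iff.2 fun g hg i => ?_⟩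
  choose b hb using fun i => IsLocalRing.residue_surjective (g i)
  rw [← hb i, IsLocalRing.residue_eq_zero_iff]
  refine hind b ?_ i
  have hg' : (IsLocalRing.maximalIdeal A).toCotangent (∑ i, b i • (⟨f i, hfm i⟩ : IsLocalRing.maximalIdeal A)) = 0 := by
    rw [map_sum, ← hg]
    refine Finset.sum_congr rfl fun j _ => ?_
    rw [map_smul, ← hb j, ← IsLocalRing.ResidueField.algebraMap_eq, algebraMap_smul]
  rw [Ideal.toCotangent_eq_zero] at hg'
  simpa using hg'

end Groth.Agent.S18399
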