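import Groth.Statements.S1840
-- import your own Groth.Agent.* helpers here
import Groth.Agent.Lib.CycDetL.Functional
import Mathlib.LinearAlgebra.ExteriorPower.Basis
import Mathlib.LinearAlgebra.Dimension.Free
import Mathlib.LinearAlgebra.Determinant

set_option autoImplicit false
universe u v
open CycDet

namespace Groth.Agent.S1840

/-- Let M be a finite-dimensional vector space over the residue field κ of a local ring R, viewed as an
R-module. There is a κ-linear isomorphism from det_κ(M) to the top exterior power of M sending the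
symbol of an admissible tuple (e₁, …, e_l) to e₁ ∧ … ∧ e_l. -/
theorem result (R : Type u) [CommRing R] [IsLocalRing R] (M : Type v) [AddCommGroup M] [Module R M] [Module (IsLocalRing.ResidueField R) M] [IsScalarTower R (IsLocalRing.ResidueField R) M] [Module.Finite (IsLocalRing.ResidueField R) M] : ∃ Φ : CycDet.Det R M ≃ₗ[IsLocalRing.ResidueField R] (⋀[IsLocalRing.ResidueField R]^((Module.length R M).toNat) M), ∀ e : CycDet.Adm R M (Module.length R M).toNat, Φ (CycDet.symbol R M e) = exteriorPower.ιMulti (IsLocalRing.ResidueField R) ((Module.length R M).toNat) e.1 := by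
  classical
  set κ := IsLocalRing.ResidueField R
  have hsurj : Function.Surjective (algebraMap R κ) := IsLocalRing.residue_surjective
  have hspan : ∀ s : Set M, ∀ m ∈ Submodule.span R s, m ∈ Submodule.span κ s := fun s m hm =>
    Submodule.span_subset_span R κ s hm
  have hl : Module.length R M = (Module.finrank κ M : ℕ∞) := by
    rw [Module.length_eq_of_surjective (S := R) (R := κ) (M := M) hsurj, Module.length_eq_finrank]
  have hn : (Module.length R M).toNat = Module.finrank κ M := by rw [hl]; rfl
  set n := (Module.length R M).toNat with hn'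
  have hlen : Module.length R M = (n : ℕ∞) := by rw [hn]; exact hl
  let ι := exteriorPower.ιMulti κ n (M := M)
  let L : CycDet.Free R M n →ₗ[κ] ⋀[κ]^n M := Finsupp.linearCombination κ fun e => ι e.1
  have hsym : ∀ e, L (CycDet.sym R M e) = ι e.1 := fun e => by simp [L, CycDet.sym]
  have hzero : ∀ (f : Fin n → M) (a : Fin n), f a ∈ Submodule.span κ (f '' {j | (j : ℕ) < a}) → ι f = 0 := by
    intro f a ha
    refine AlternatingMap.map_linearDependent ι f fun hli => ?_
    exact hli.notMem_span_image (show a ∉ {j : Fin n | (j : ℕ) < a} by simp) ha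
  have hadd : ∀ (f : Fin n → M) (a : Fin n) (z : M), z ∈ Submodule.span κ (f '' {j | (j : ℕ) < a}) →
      ι (Function.update f a z) = 0 := by
    intro f a z hz
    refine hzero _ a ?_
    have h1 : Function.update f a z '' {j : Fin n | (j : ℕ) < a} = f '' {j : Fin n | (j : ℕ) < a} :=
      Set.image_congr fun j (hj : (j : ℕ) < a) => Function.update_of_ne (by rintro rfl; omega) _ _
    rwa [Function.update_self, h1]
  have hker : Submodule.span κ (CycDet.relSet R M n) ≤ LinearMap.ker L := by
    rw [Submodule.span_le]
    rintro _ ((⟨e, a, h, rfl⟩ | ⟨e, e', a, c, hne, h, rfl⟩) | ⟨e, e', a, b, hab, h, he', rfl⟩)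
    · simp only [SetLike.mem_coe, LinearMap.mem_ker, hsym]
      exact hzero _ a (hspan _ _ h)
    · simp only [SetLike.mem_coe, LinearMap.mem_ker, map_sub, map_smul, hsym]
      rw [sub_eq_zero]
      have h1 : e.1 = Function.update e.1 a ((IsLocalRing.residue R (c : R)) • e'.1 a +
          (e.1 a - (c : R) • e'.1 a)) := by
        rw [show (IsLocalRing.residue R (c : R)) • e'.1 a = (c : R) • e'.1 a from
          algebraMap_smul κ (c : R) (e'.1 a), add_sub_cancel, Function.update_eq_self]
      conv_lhs => rw [h1]
      rw [AlternatingMap.map_update_add, AlternatingMap.map_update_smul, hadd _ a _ (hspan _ _ h), add_zero]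
      congr 2
      funext j
      by_cases hj : j = a
      · subst hj; simp
      · rw [Function.update_of_ne hj]; exact hne j hj
    · simp only [SetLike.mem_coe, LinearMap.mem_ker, map_add, hsym]
      rw [he', AlternatingMap.map_swap ι e.1 (show a ≠ b by rintro rfl; omega)]
      exact add_neg_cancel _
  let Φ₀ : CycDet.Det R M →ₗ[κ] ⋀[κ]^n M := Submodule.liftQ _ L hker
  have hΦ : ∀ e, Φ₀ (CycDet.symbol R M e) = ι e.1 := fun e => hsym e
  let B : Module.Basis (Fin n) κ M := (Module.finBasis κ M).reindex (finCongr hn.symm)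
  have hadm : CycDet.IsAdmissible R M (B : Fin n → M) := fun i r hr => by
    rw [← algebraMap_smul κ r (B i), show algebraMap R κ r = 0 from (IsLocalRing.residue_eq_zero_iff r).2 hr,
      zero_smul]
    exact Submodule.zero_mem _
  have hne : ι (B : Fin n → M) ≠ 0 := by
    intro h0
    have := congrArg (exteriorPower.alternatingMapLinearEquiv B.det) h0
    simp [ι, exteriorPower.alternatingMapLinearEquiv_apply_ιMulti, B.det_self] at this
  have hgen : ∀ y : ⋀[κ]^n M, ∃ t : κ, t • ι (B : Fin n → M) = y := by
    intro y
    have h1 : Module.finrank κ (⋀[κ]^n M) = 1 := by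
      rw [exteriorPower.finrank_eq, ← hn, Nat.choose_self]
    exact (finrank_eq_one_iff_of_nonzero' _ hne).1 h1 y
  obtain ⟨v, hv⟩ := rank_le_one_iff.1 (GrothLib.CycDetL.rank_det_le_one hlen : Module.rank κ (CycDet.Det R M) ≤ 1)
  have hinj : Function.Injective Φ₀ := by
    rw [injective_iff_map_eq_zero]
    intro w hw
    obtain ⟨s, rfl⟩ := hv w
    obtain ⟨t, ht⟩ := hv (CycDet.symbol R M ⟨_, hadm⟩)
    have hB := hΦ ⟨_, hadm⟩
    rw [← ht, map_smul] at hB
    rw [map_smul] at hw
    rcases smul_eq_zero.1 hw with h | h
    · rw [h, zero_smul]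
    · exact absurd (by rw [← hB, h, smul_zero]) hne
  have hsur : Function.Surjective Φ₀ := fun y => by
    obtain ⟨t, ht⟩ := hgen y
    exact ⟨t • CycDet.symbol R M ⟨_, hadm⟩, by rw [map_smul, hΦ]; exact ht⟩
  exact ⟨LinearEquiv.ofBijective Φ₀ ⟨hinj, hsur⟩, hΦ⟩

end Groth.Agent.S1840
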