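import Groth.Statements.S18401
-- import your own Groth.Agent.* helpers here
import Groth.Agent.Lib.PBDeg17.AffBundle


set_option autoImplicit false
universe u
open CategoryTheory AlgebraicGeometry Limits
open Cyc

namespace Groth.Agent.S18401

/-- For an affine bundle φ : B → X of rank n, flat pullback φ^* : CH_k(X) → CH_{k+n}(B) is an
isomorphism; this row states its injectivity for a scheme X (the published statement has X an
algebraic stack of finite type over a field; surjectivity of φ^* holds for any flat morphism
Zariski-locally isomorphic to an affine space over the base and is a separate result). The affine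
bundle is presented through its structure group Aff(n) ⊂ GL(n+1), i.e. through a short exact
sequence 0 → O_X → ℰ → ℱ → 0 of quasi-coherent O_X-modules with ℰ finite locally free of rank n+1
and ℱ of rank n: E = Spec(Sym ℰ) is the associated vector bundle, t : E → A^1_X = Spec(Sym O_X) is
induced by O_X → ℰ, and B is the fibre of t over the section of A^1_X given by an invertible
function (the algebra map Sym O_X → O_X extending an automorphism u of the module O_X), so that B is
a torsor under Spec(Sym ℱ); here the structure sheaf appears both as Mathlib's unit module and as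
the unit quasi-coherent algebra regarded as a module, and u is any isomorphism between the two. The
symmetric algebras are given by their universal property among quasi-coherent algebras
(RelSpec.IsSymAlg) and the algebra maps by their restrictions to the generating modules; B is the
fibre product of the two morphisms of relative spectra and φ is its first projection followed by E →
X. A pair (X, δ) with Cyc.IsSetup plays the role of a scheme locally of finite type over a base with
a dimension function (the published statement takes X of finite type over a field; this row takes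
any such pair), Cyc.DeltaCompat records that the dimension function on B is the induced one, and φ^*
is Cyc.pullFun with relative dimension n. -/
theorem result (X : Scheme.{u}) (δ : X → ℤ) (hX : Cyc.IsSetup X δ) (S : ShortComplex X.Modules) (hS : S.ShortExact) (e : S.X₁ ≅ Coh.structureModule X) (n : ℕ) (hqE : Coh.IsQCoh S.X₂) (hE : FlatMod.IsFinLocFreeOfRank (n + 1) S.X₂) (hqF : Coh.IsQCoh S.X₃) (hF : FlatMod.IsFinLocFreeOfRank n S.X₃) (AE : RelSpec.QCAlg X) (jE : S.X₂ ⟶ AE.toModule) (hAE : RelSpec.IsSymAlg S.X₂ AE jE) (A1 : RelSpec.QCAlg X) (j1 : Coh.structureModule X ⟶ A1.toModule) (hA1 : RelSpec.IsSymAlg (Coh.structureModule X) A1 j1) (ψ : A1 ⟶ AE) (hψ : j1 ≫ RelSpec.QCAlg.Hom.toModuleMap ψ = e.inv ≫ S.f ≫ jE) (u : Coh.structureModule X ⟶ (RelSpec.QCAlg.unit X).toModule) [IsIso u] (ε : A1 ⟶ RelSpec.QCAlg.unit X) (hε : j1 ≫ RelSpec.QCAlg.Hom.toModuleMap ε = u) (δB : ↥(pullback (RelSpec.QCAlg.specMap ψ) (RelSpec.QCAlg.specMap ε)) → ℤ) (hBs : Cyc.IsSetup (pullback (RelSpec.QCAlg.specMap ψ) (RelSpec.QCAlg.specMap ε)) δB) (hδB : Cyc.DeltaCompat (pullback.fst (RelSpec.QCAlg.specMap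 ψ) (RelSpec.QCAlg.specMap ε) ≫ AE.π) δB δ) (k : ℤ) (α : AlgebraicCycle X ℤ) (hα : α ∈ Cyc.Zk X δ k) (γ : AlgebraicCycle (pullback (RelSpec.QCAlg.specMap ψ) (RelSpec.QCAlg.specMap ε)) ℤ) (hγ : ⇑γ = Cyc.pullFun (pullback.fst (RelSpec.QCAlg.specMap ψ) (RelSpec.QCAlg.specMap ε) ≫ AE.π) δB δ n ⇑α) (h0 : Cyc.RatEquivZero δB (k + n) γ) : Cyc.RatEquivZero δ k α := by
  exact GrothLib.PBDeg.ratEquivZero_of_affineBundle hX hS e hE hF hAE hA1 ψ hψ u ε hε hBs hδB hα hγ h0

end Groth.Agent.S18401
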