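import Groth.Statements.S18402
import Groth.Agent.Lib.FEt21.Clopen
import Mathlib.AlgebraicGeometry.Geometrically.Irreducible
import Mathlib.AlgebraicGeometry.Morphisms.QuasiFinite

set_option autoImplicit false
universe u
open Pi1

namespace Groth.Agent.S18402

open AlgebraicGeometry CategoryTheory CategoryTheory.Limits in
example : True := trivial

open CategoryTheory CategoryTheory.Limits AlgebraicGeometry

/-- A set closed under generalisation whose complement is too is clopen, for finitely many components. -/
theorem isClosed_of_stable {T : Type*} [TopologicalSpace T] [QuasiSober T]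
    (hfin : (irreducibleComponents T).Finite) {D : Set T} (h1 : StableUnderGeneralization D)
    (h2 : StableUnderGeneralization Dᶜ) : IsClosed D := by
  have heq : D = ⋃ C ∈ {C | C ∈ irreducibleComponents T ∧ (C ∩ D).Nonempty}, C := by
    ext z
    simp only [Set.mem_iUnion, Set.mem_ofPred_eq, exists_prop]
    constructor
    · intro hz
      exact ⟨irreducibleComponent z, ⟨irreducibleComponent_mem_irreducibleComponents z,
        z, mem_irreducibleComponent, hz⟩, mem_irreducibleComponent⟩
    · rintro ⟨C, ⟨hC, w, hwC, hwD⟩, hzC⟩
      obtain ⟨η, hη⟩ := QuasiSober.sober (hC.1) (isClosed_of_mem_irreducibleComponents C hC)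
      have hηD : η ∈ D := h1 (hη.specializes hwC) hwD
      by_contra hzD
      exact h2 (hη.specializes hzC) hzD hηD
  rw [heq]
  exact (hfin.subset fun _ h => h.1).isClosed_biUnion fun C hC =>
    isClosed_of_mem_irreducibleComponents C hC.1

theorem finite_components {T S : Scheme.{u}} (g : T ⟶ S) [Flat g] [IsFinite g] [IrreducibleSpace S] :
    (irreducibleComponents T).Finite := by
  let η : S := genericPoint S
  refine Set.Finite.subset ((g.finite_preimage_singleton η).image fun t => closure {t}) ?_
  intro C hC
  obtain ⟨t, ht⟩ := QuasiSober.sober hC.1 (isClosed_of_mem_irreducibleComponents C hC)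
  refine ⟨t, ?_, ht⟩
  obtain ⟨t', ht', htη⟩ := Flat.generalizingMap g (genericPoint_specializes (g t) : η ⤳ g t)
  have hsub : closure {t} ⊆ closure {t'} := specializes_iff_closure_subset.1 ht'
  have hC' : C ⊆ closure {t'} := ht.symm.subset.trans hsub
  have heq : closure {t} = closure {t'} := Set.Subset.antisymm hsub
    ((hC.2 isIrreducible_singleton.closure hC').trans ht.symm.subset)
  have : t = t' := ((isGenericPoint_closure (x := t)).eq (show IsGenericPoint t' (closure {t}) from heq.symm))
  rw [Set.mem_preimage, Set.mem_singleton_iff, this]
  exact htη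

/-- Let X be an irreducible scheme and π : W ⟶ X a flat morphism whose fibre over every field-valued
point of X is irreducible (so every fibre is geometrically irreducible and π is surjective). Then
for every finite étale cover Z of X with Z connected, the base change of Z along π is connected.
Ranging over all finite étale covers of X, this says that the monodromy group of each cover (the
image of the fundamental group in the permutations of a geometric fibre) is unchanged by pullback
along π. The published statement asserts that equality of monodromy groups, for generically finite,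
generically étale covers between irreducible algebraic stacks. -/
theorem result {X W : Scheme.{u}}
    [IrreducibleSpace X] (π : W ⟶ X) [Flat π] [GeometricallyIrreducible π]
    (Z : FEt.Cat X) [ConnectedSpace Z.left] :
    ConnectedSpace ↥(pullback Z.hom π) := by
  let ρ := pullback.fst Z.hom π
  haveI : Flat ρ := MorphismProperty.pullback_fst _ _ inferInstance
  haveI : GeometricallyIrreducible ρ := MorphismProperty.pullback_fst _ _ inferInstance
  haveI : IsFinite Z.hom := Z.prop.1
  haveI : Etale Z.hom := Z.prop.2
  haveI : IrreducibleSpace ↥((Functor.fromPUnit X).obj Z.right) := ‹IrreducibleSpace X›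
  have hfin := finite_components Z.hom
  have hsurj : Function.Surjective ρ := ρ.surjective
  haveI : Nonempty ↥(pullback Z.hom π) := ⟨(hsurj (Classical.arbitrary Z.left)).choose⟩
  have hfib : ∀ z, _root_.IsPreconnected (ρ ⁻¹' {z}) := fun z => by
    rw [← ρ.range_fiberι, ← Set.image_univ]
    exact isPreconnected_univ.image _ (ρ.fiberι z).continuous.continuousOn
  haveI : PreconnectedSpace ↥((𝟭 Scheme).obj Z.left) :=
    (inferInstance : ConnectedSpace Z.left).toPreconnectedSpace
  haveI : PreconnectedSpace ↥(pullback Z.hom π) := by
    refine preconnectedSpace_iff_clopen.2 fun C hC => ?_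
    have hsat : ∀ p q, ρ p = ρ q → p ∈ C → q ∈ C := fun p q hpq hp =>
      (hfib (ρ p)).subset_isClopen hC ⟨p, rfl, hp⟩ hpq.symm
    have gen : ∀ C' : Set ↥(pullback Z.hom π), IsOpen C' → StableUnderGeneralization (ρ '' C') := by
      rintro C' hC' z η hη ⟨p, hp, rfl⟩
      obtain ⟨p', hp', rfl⟩ := Flat.generalizingMap ρ hη
      exact ⟨p', hC'.stableUnderGeneralization hp' hp, rfl⟩
    have hcompl : (ρ '' C)ᶜ = ρ '' Cᶜ := by
      ext z
      obtain ⟨p, rfl⟩ := hsurj z
      constructor
      · exact fun hz => ⟨p, fun hp => hz ⟨p, hp, rfl⟩, rfl⟩
      · rintro ⟨q, hq, hqp⟩ ⟨r, hr, hrp⟩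
        exact hq (hsat r q (hrp.trans hqp.symm) hr)
    have hD : IsClopen (ρ '' C) := by
      have h1 := gen C hC.2
      have h2 : StableUnderGeneralization (ρ '' C)ᶜ := hcompl ▸ gen Cᶜ hC.compl.2
      refine ⟨isClosed_of_stable hfin h1 h2, ?_⟩
      rw [← isClosed_compl_iff]
      exact isClosed_of_stable hfin h2 (by rwa [compl_compl])
    have hC' : C = ρ ⁻¹' (ρ '' C) := Set.Subset.antisymm (Set.subset_preimage_image _ _)
      (fun q ⟨p, hp, hpq⟩ => hsat p q hpq hp)
    rcases isClopen_iff.1 hD with h | h
    · exact Or.inl (by rw [hC', h, Set.preimage_empty])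
    · exact Or.inr (by rw [hC', h, Set.preimage_univ])
  exact { toPreconnectedSpace := inferInstance, toNonempty := inferInstance }

end Groth.Agent.S18402
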