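import Groth.Statements.S18404
import Groth.Agent.Lib.CubicForm.HesseFlex
import Mathlib.Analysis.Complex.Polynomial.Basic

set_option autoImplicit false
universe u
open Cubic

namespace Groth.Agent.S18404

open MvPolynomial in
/-- Let k ∈ ℂ with k³ ≠ 1 and let h = X₀³ + X₁³ + X₂³ − 3k·X₀X₁X₂ be the Hesse cubic. For a nonzero
vector v with h(v) = 0, the corresponding point is a flex of the plane curve of h — some line
through it meets the curve there with multiplicity three, i.e. there is a vector w linearly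
independent from v with h(v + t·w) = t³·h(w) for every t — exactly when v is a scalar multiple of
one of the nine vectors (0, 1, −γ), (−γ, 0, 1), (1, −γ, 0) with γ³ = 1. -/
theorem result (k : ℂ) (hk : k ^ 3 ≠ 1) (v : Fin 3 → ℂ) (hv : v ≠ 0)
    (hCv : eval v (HesseCubic.form k) = 0) :
    (∃ w : Fin 3 → ℂ, LinearIndependent ℂ ![v, w] ∧
        ∀ t : ℂ, eval (v + t • w) (HesseCubic.form k) = t ^ 3 * eval w (HesseCubic.form k)) ↔
      ∃ γ c : ℂ, γ ^ 3 = 1 ∧ (v = c • ![0, 1, -γ] ∨ v = c • ![-γ, 0, 1] ∨ v = c • ![1, -γ, 0]) := by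
  rw [GrothLib.CubicForm.flex_iff_exists (GrothLib.CubicForm.isHomogeneous_hesse k) v hv hCv]
  exact GrothLib.CubicForm.hesse_flex_iff hk hv hCv

end Groth.Agent.S18404
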