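import Groth.Statements.S18405
import Groth.Agent.Lib.CubicForm.HesseFlex
import Mathlib.Analysis.Complex.Polynomial.Basic

set_option autoImplicit false
universe u
open Cubic

namespace Groth.Agent.S18405

open MvPolynomial in
/-- Let f be a nonzero homogeneous cubic in three variables over ℂ whose plane curve is smooth (at every
nonzero zero of f some partial derivative is nonzero), and let A be an invertible matrix whose
linear substitution X_i ↦ Σ_j A_ij X_j multiplies f by a constant, so that v ↦ A·v is a projective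
automorphism of the curve. If A·v is proportional to v for every flex v of the curve (every nonzero
zero v of f through which some line meets the curve with multiplicity three: there is w linearly
independent from v with f(v + t·w) = t³·f(w) for all t), then A is a scalar matrix: the projective
automorphisms of a smooth plane cubic act faithfully on its flexes. -/
theorem result (f : MvPolynomial (Fin 3) ℂ) (hf : f.IsHomogeneous 3)
    (hf0 : f ≠ 0) (hsm : ∀ v : Fin 3 → ℂ, v ≠ 0 → eval v f = 0 → ∃ i : Fin 3, eval v (pderiv i f) ≠ 0)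
    (A : Matrix (Fin 3) (Fin 3) ℂ) (hA : IsUnit A.det)
    (hAf : ∃ c : ℂ, aeval (fun i : Fin 3 => ∑ j : Fin 3, C (A i j) * X j) f = C c * f)
    (hfix : ∀ v : Fin 3 → ℂ, v ≠ 0 → eval v f = 0 →
      (∃ w : Fin 3 → ℂ, LinearIndependent ℂ ![v, w] ∧ ∀ t : ℂ, eval (v + t • w) f = t ^ 3 * eval w f) →
      ∃ d : ℂ, A.mulVec v = d • v) :
    ∃ c : ℂ, A = c • (1 : Matrix (Fin 3) (Fin 3) ℂ) := by
  obtain ⟨B, t, c, hB, ht, hc, h, hpol⟩ := GrothLib.CubicForm.exists_hesse_matrix hf hsm
  obtain ⟨ω, hω3, hω⟩ := GrothLib.CubicForm.exists_primitive_three (k := ℂ)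
  set g := B⁻¹ * A * B
  -- `g` fixes the nine flexes of the Hesse cubic
  have hgfix : ∀ γ : ℂ, γ ^ 3 = 1 → ∀ p : Fin 3 → ℂ,
      (p = ![0, 1, -γ] ∨ p = ![-γ, 0, 1] ∨ p = ![1, -γ, 0]) → ∃ d : ℂ, g.mulVec p = d • p := by
    intro γ hγ p hp
    have hp0 : p ≠ 0 := by rcases hp with rfl | rfl | rfl <;> simp
    have hpC : eval p (HesseCubic.form t) = 0 := by
      rcases hp with rfl | rfl | rfl <;> simp [GrothLib.CubicForm.eval_hesse] <;>
        linear_combination -hγ
    have hfl : (GrothLib.CubicForm.ofPoly (HesseCubic.form t)).Flex p :=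
      (GrothLib.CubicForm.hesse_flex_iff ht hp0 hpC).2 ⟨γ, 1, hγ, by simpa using hp⟩
    have hBp0 : B.mulVec p ≠ 0 := fun h0 => hp0 (by
      rw [← GrothLib.CubicForm.inv_mulVec_mulVec B hB p, h0, Matrix.mulVec_zero])
    have hfBp : eval (B.mulVec p) f = 0 := by rw [h, hpC, mul_zero]
    obtain ⟨d, hd⟩ := hfix _ hBp0 hfBp ((GrothLib.CubicForm.flex_iff_exists hf _ hBp0 hfBp).2
      ((GrothLib.CubicForm.flex_mulVec_iff _ _ B hB hc hpol p).1 hfl))
    refine ⟨d, ?_⟩
    rw [← Matrix.mulVec_mulVec, ← Matrix.mulVec_mulVec, hd, Matrix.mulVec_smul,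
      GrothLib.CubicForm.inv_mulVec_mulVec B hB]
  have hω1 : ω ≠ 1 := by rintro rfl; norm_num at hω
  have hω0 : ω ≠ 0 := by rintro rfl; norm_num at hω3
  -- three fixed points on a coordinate line
  have three : ∀ a b u v : ℂ, (∀ γ : ℂ, γ ^ 3 = 1 → v - γ * b = -γ * (u - γ * a)) →
      a = 0 ∧ v = 0 ∧ u = b := by
    intro a b u v H
    have h1 := H 1 (one_pow 3)
    have h2 := H ω hω3
    have h3 := H (ω ^ 2) (by linear_combination (ω ^ 3 + 1) * hω3)
    have hv : v = 0 := by
      linear_combination (h1 + h2 + h3 + (b - u) * hω + a * hω + a * ω * hω3) / 3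
    subst hv
    have h2' : (u - b) - ω * a = 0 := by
      have : ω * ((u - b) - ω * a) = 0 := by linear_combination h2
      simpa [hω0] using this
    have ha : (1 - ω) * a = 0 := by linear_combination h2' - h1
    have ha' : a = 0 := by simpa [sub_eq_zero, hω1.symm] using ha
    subst ha'
    exact ⟨rfl, rfl, by linear_combination h1⟩
  have L0 : ∀ γ : ℂ, γ ^ 3 = 1 → g 0 1 - γ * g 0 2 = 0 ∧
      (g 2 1 - γ * g 2 2 = -γ * (g 1 1 - γ * g 1 2)) := by
    intro γ hγ
    obtain ⟨d, hd⟩ := hgfix γ hγ ![0, 1, -γ] (Or.inl rfl)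
    have e0 := congrFun hd 0; have e1 := congrFun hd 1; have e2 := congrFun hd 2
    simp [Matrix.mulVec, dotProduct, Fin.sum_univ_three] at e0 e1 e2
    exact ⟨by linear_combination e0, by linear_combination e2 + γ * e1⟩
  have L1 : ∀ γ : ℂ, γ ^ 3 = 1 → g 1 2 - γ * g 1 0 = 0 ∧
      (g 0 2 - γ * g 0 0 = -γ * (g 2 2 - γ * g 2 0)) := by
    intro γ hγ
    obtain ⟨d, hd⟩ := hgfix γ hγ ![-γ, 0, 1] (Or.inr (Or.inl rfl))
    have e0 := congrFun hd 0; have e1 := congrFun hd 1; have e2 := congrFun hd 2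
    simp [Matrix.mulVec, dotProduct, Fin.sum_univ_three] at e0 e1 e2
    exact ⟨by linear_combination e1, by linear_combination e0 + γ * e2⟩
  have L2 : ∀ γ : ℂ, γ ^ 3 = 1 → g 2 0 - γ * g 2 1 = 0 ∧
      (g 1 0 - γ * g 1 1 = -γ * (g 0 0 - γ * g 0 1)) := by
    intro γ hγ
    obtain ⟨d, hd⟩ := hgfix γ hγ ![1, -γ, 0] (Or.inr (Or.inr rfl))
    have e0 := congrFun hd 0; have e1 := congrFun hd 1; have e2 := congrFun hd 2
    simp [Matrix.mulVec, dotProduct, Fin.sum_univ_three] at e0 e1 e2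
    exact ⟨by linear_combination e2, by linear_combination e1 + γ * e0⟩
  obtain ⟨a12, a21, a11⟩ := three _ _ _ _ fun γ hγ => (L0 γ hγ).2
  obtain ⟨a20, a02, a22⟩ := three _ _ _ _ fun γ hγ => (L1 γ hγ).2
  obtain ⟨a01, a10, -⟩ := three _ _ _ _ fun γ hγ => (L2 γ hγ).2
  refine ⟨g 0 0, ?_⟩
  have hg : g = g 0 0 • (1 : Matrix (Fin 3) (Fin 3) ℂ) := by
    ext i j
    fin_cases i <;> fin_cases j <;> simp [a12, a21, a20, a02, a01, a10, a22, a11]
  calc A = B * g * B⁻¹ := by
        simp only [g]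
        rw [← Matrix.mul_assoc, ← Matrix.mul_assoc, Matrix.mul_nonsing_inv B hB, Matrix.one_mul,
          Matrix.mul_assoc, Matrix.mul_nonsing_inv B hB, Matrix.mul_one]
    _ = _ := by
        conv_lhs => rw [hg]
        rw [Matrix.mul_smul, Matrix.mul_one, Matrix.smul_mul, Matrix.mul_nonsing_inv B hB]

end Groth.Agent.S18405
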