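import Groth.Statements.S18406
import Groth.Agent.Lib.CubicForm.HesseFlex
import Mathlib.Analysis.Complex.Polynomial.Basic

set_option autoImplicit false
universe u
open Cubic

namespace Groth.Agent.S18406

open MvPolynomial in
/-- Let f be a nonzero homogeneous cubic in three variables over ℂ whose plane curve is smooth (at every
nonzero zero of f some partial derivative is nonzero), and let v and v′ be flexes of the curve, that
is nonzero zeros of f through each of which some line meets the curve with multiplicity three (there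
is a vector w linearly independent from the point with f(point + t·w) = t³·f(w) for every t). Then a
projective automorphism of the curve carries the point of v to the point of v′: there are an
invertible matrix A whose substitution X_i ↦ Σ_j A_ij X_j multiplies f by a constant c, and a
constant d with A·v = d·v′. (The published statement gives more: a subgroup of the projective
automorphism group isomorphic to C₃ × C₃ acts simply transitively on the nine flexes; only
transitivity is stated here.) -/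
theorem result (f : MvPolynomial (Fin 3) ℂ) (hf : f.IsHomogeneous 3)
    (hf0 : f ≠ 0) (hsm : ∀ v : Fin 3 → ℂ, v ≠ 0 → eval v f = 0 → ∃ i : Fin 3, eval v (pderiv i f) ≠ 0)
    (v v' : Fin 3 → ℂ) (hv : v ≠ 0) (hv' : v' ≠ 0) (hfv : eval v f = 0) (hfv' : eval v' f = 0)
    (hflex : (∃ w : Fin 3 → ℂ, LinearIndependent ℂ ![v, w] ∧ ∀ t : ℂ, eval (v + t • w) f = t ^ 3 * eval w f))
    (hflex' : (∃ w : Fin 3 → ℂ, LinearIndependent ℂ ![v', w] ∧ ∀ t : ℂ, eval (v' + t • w) f = t ^ 3 * eval w f)) :
    ∃ (A : Matrix (Fin 3) (Fin 3) ℂ) (c d : ℂ), IsUnit A.det ∧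
      aeval (fun i : Fin 3 => ∑ j : Fin 3, C (A i j) * X j) f = C c * f ∧ A.mulVec v = d • v' := by
  obtain ⟨A, t, c, hA, ht, hc, h, hpol⟩ := GrothLib.CubicForm.exists_hesse_matrix hf hsm
  have step : ∀ p : Fin 3 → ℂ, p ≠ 0 → eval p f = 0 →
      (∃ w : Fin 3 → ℂ, LinearIndependent ℂ ![p, w] ∧ ∀ t : ℂ, eval (p + t • w) f = t ^ 3 * eval w f) →
      ∃ (M : Matrix (Fin 3) (Fin 3) ℂ) (d : ℂ), IsUnit M.det ∧ d ≠ 0 ∧
        (∀ x, eval (M.mulVec x) (HesseCubic.form t) = eval x (HesseCubic.form t)) ∧
        M.mulVec (A⁻¹.mulVec p) = d • ![0, 1, -1] := by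
    intro p hp hfp hfl
    have hAp := GrothLib.CubicForm.mulVec_inv_mulVec A hA p
    refine GrothLib.CubicForm.exists_translation ht (fun h0 => hp (by rw [← hAp, h0, Matrix.mulVec_zero]))
      ?_ ?_
    · have := h (A⁻¹.mulVec p)
      rw [hAp, hfp] at this
      simpa [hc] using this.symm
    · rw [GrothLib.CubicForm.flex_mulVec_iff _ _ A hA hc hpol, hAp]
      exact (GrothLib.CubicForm.flex_iff_exists hf p hp hfp).1 hfl
  obtain ⟨M, d, hM, hd, hMinv, hMv⟩ := step v hv hfv hflex
  obtain ⟨M', d', hM', hd', hM'inv, hMv'⟩ := step v' hv' hfv' hflex'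
  refine ⟨A * M'⁻¹ * M * A⁻¹, 1, d / d', ?_, MvPolynomial.funext fun x => ?_, ?_⟩
  · rw [Matrix.det_mul, Matrix.det_mul, Matrix.det_mul]
    exact ((hA.mul (Matrix.isUnit_nonsing_inv_det _ hM')).mul hM).mul
      (Matrix.isUnit_nonsing_inv_det _ hA)
  · rw [GrothLib.CubicForm.eval_aeval_linSubst, eval_mul, eval_C, one_mul,
      ← Matrix.mulVec_mulVec, ← Matrix.mulVec_mulVec, ← Matrix.mulVec_mulVec, h,
      ← hM'inv, GrothLib.CubicForm.mulVec_inv_mulVec M' hM', hMinv, ← h,
      GrothLib.CubicForm.mulVec_inv_mulVec A hA]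
  · rw [← Matrix.mulVec_mulVec, ← Matrix.mulVec_mulVec, ← Matrix.mulVec_mulVec, hMv,
      show d • ![0, 1, -1] = (d / d') • (d' • ![(0 : ℂ), 1, -1]) by
        rw [smul_smul, div_mul_cancel₀ d hd'],
      ← hMv', Matrix.mulVec_smul, Matrix.mulVec_smul,
      GrothLib.CubicForm.inv_mulVec_mulVec M' hM', GrothLib.CubicForm.mulVec_inv_mulVec A hA]

end Groth.Agent.S18406
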