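import Groth.Statements.S18407
import Groth.Agent.Lib.CubicForm.Involution
import Mathlib.Analysis.Complex.Polynomial.Basic

set_option autoImplicit false
universe u
open Cubic

namespace Groth.Agent.S18407

open MvPolynomial in
/-- Let f be a nonzero homogeneous cubic in four variables over ℂ whose surface S = V_+(f) ⊂ P³ is
smooth (at every nonzero zero of f some partial derivative is nonzero); a line on S is a
2-dimensional subspace of ℂ⁴ on which f vanishes, and an Eckardt point of S is a nonzero vector
lying on three distinct lines on S. If e is an Eckardt point of S, there is exactly one involutory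
matrix A (A² = 1) whose +1-eigenspace is a hyperplane and with A·e = −e, such that the substitution
X_i ↦ Σ_j A_ij X_j multiplies f by a constant — that is, a projective involution preserving S whose
fixed locus is the disjoint union of a plane and the point of e. (Normalising A² = 1 and A·e = −e
singles out one matrix in the class of the involution.) -/
theorem result (f : MvPolynomial (Fin 4) ℂ) (hf : f.IsHomogeneous 3)
    (hf0 : f ≠ 0) (hsm : ∀ v : Fin 4 → ℂ, v ≠ 0 → eval v f = 0 → ∃ i : Fin 4, eval v (pderiv i f) ≠ 0)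
    (e : Fin 4 → ℂ) (he : e ≠ 0)
    (hE : (∃ U : Fin 3 → Submodule ℂ (Fin 4 → ℂ), Function.Injective U ∧
        ∀ i : Fin 3, Module.finrank ℂ ↥(U i) = 2 ∧ e ∈ U i ∧ ∀ u ∈ U i, eval u f = 0)) :
    ∃! A : Matrix (Fin 4) (Fin 4) ℂ, A * A = 1 ∧ Module.finrank ℂ ↥(LinearMap.ker (Matrix.toLin' A - LinearMap.id)) = 3 ∧
        A.mulVec e = -e ∧ ∃ c : ℂ, aeval (fun i : Fin 4 => ∑ j : Fin 4, C (A i j) * X j) f = C c * f := by
  open MvPolynomial GrothLib.CubicForm in
  obtain ⟨φ, hφ⟩ := ((isEckardt_iff hf e).2 ⟨he, hE.choose, hE.choose_spec⟩).exists_harmonic (ofPoly f)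
    finrank_four (ofPoly_smooth hf hsm)
  have hfe : MvPolynomial.eval e f = 0 :=
    (GrothLib.CubicForm.ofPoly_cube_eq_zero_iff hf e).1 hφ.2.1
  set A : Matrix (Fin 4) (Fin 4) ℂ := LinearMap.toMatrix' (LinearMap.id - (2 : ℂ) • φ.smulRight e)
  have hA : ∀ x, A.mulVec x = x - (2 * φ x) • e := by
    intro x
    rw [← Matrix.toLin'_apply, Matrix.toLin'_toMatrix']
    simp [smul_smul]
  refine ⟨A, ⟨?_, ?_, ?_, 1, ?_⟩, ?_⟩
  · apply Matrix.toLin'.injective
    apply LinearMap.ext
    intro x
    rw [Matrix.toLin'_mul, Matrix.toLin'_one]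
    simp only [LinearMap.comp_apply, Matrix.toLin'_apply, LinearMap.id_apply]
    rw [hA, hA]
    exact hφ.refl_refl _ x
  · have hk : LinearMap.ker (Matrix.toLin' A - LinearMap.id) = LinearMap.ker φ := by
      ext x
      simp [hA, he]
    have hs : Function.Surjective φ := fun r => ⟨r • e, by simp [hφ.1]⟩
    have := LinearMap.finrank_range_add_finrank_ker φ
    rw [LinearMap.range_eq_top.2 hs, finrank_top, Module.finrank_self,
      Module.finrank_fin_fun] at this
    rw [hk]; omega
  · rw [hA, hφ.1]; module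
  · rw [GrothLib.CubicForm.linSubst_eq_iff]
    intro x
    have h := GrothLib.CubicForm.mulVec_polar_of_harmonic hφ hA x x x
    change GrothLib.CubicForm.Tri.cube _ (A.mulVec x) = GrothLib.CubicForm.Tri.cube _ x at h
    rw [GrothLib.CubicForm.ofPoly_cube hf, GrothLib.CubicForm.ofPoly_cube hf] at h
    simpa using h
  · rintro B ⟨-, hfix, hBe, hBf⟩
    obtain ⟨ψ, hψ, hB⟩ := GrothLib.CubicForm.harmonic_of_matrix hf hsm B e he hfe hfix hBe hBf
    have := GrothLib.CubicForm.Tri.Harmonic.unique _
      (GrothLib.CubicForm.ofPoly_smooth hf hsm) he hφ hψ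
    subst this
    apply Matrix.toLin'.injective
    apply LinearMap.ext
    intro x
    simp only [Matrix.toLin'_apply, hA, hB]

end Groth.Agent.S18407
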