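import Groth.Statements.S18409
import Groth.Agent.Lib.CubicForm.Involution
import Mathlib.Analysis.Complex.Polynomial.Basic

set_option autoImplicit false
universe u
open Cubic

namespace Groth.Agent.S18409

open MvPolynomial in
/-- Let f be a nonzero homogeneous cubic in four variables over ℂ whose surface S = V_+(f) ⊂ P³ is
smooth (at every nonzero zero of f some partial derivative is nonzero); a line on S is a
2-dimensional subspace of ℂ⁴ on which f vanishes, and an Eckardt point of S is a nonzero vector
lying on three distinct lines on S. Let e and e′ be Eckardt points of S that are not proportional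
and let L be their span, a plane in ℂ⁴, i.e. the line of P³ through the two points. Then exactly one
of the two cases occurs: either f vanishes identically on L (the line lies on S), or L contains a
third Eckardt point e″, proportional to neither e nor e′, and every zero of f in L is proportional
to e, e′ or e″ (the line meets S in exactly three points, all Eckardt points). -/
theorem result (f : MvPolynomial (Fin 4) ℂ) (hf : f.IsHomogeneous 3)
    (hf0 : f ≠ 0) (hsm : ∀ v : Fin 4 → ℂ, v ≠ 0 → eval v f = 0 → ∃ i : Fin 4, eval v (pderiv i f) ≠ 0)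
    (e e' : Fin 4 → ℂ) (he : e ≠ 0) (he' : e' ∉ Submodule.span ℂ {e})
    (hE : (∃ U : Fin 3 → Submodule ℂ (Fin 4 → ℂ), Function.Injective U ∧
        ∀ i : Fin 3, Module.finrank ℂ ↥(U i) = 2 ∧ e ∈ U i ∧ ∀ u ∈ U i, eval u f = 0))
    (hE' : (∃ U : Fin 3 → Submodule ℂ (Fin 4 → ℂ), Function.Injective U ∧
        ∀ i : Fin 3, Module.finrank ℂ ↥(U i) = 2 ∧ e' ∈ U i ∧ ∀ u ∈ U i, eval u f = 0)) :
    Xor (∀ u ∈ Submodule.span ℂ {e, e'}, eval u f = 0)
      (∃ e'' : Fin 4 → ℂ, e'' ∈ Submodule.span ℂ {e, e'} ∧ e'' ∉ Submodule.span ℂ {e} ∧ e'' ∉ Submodule.span ℂ {e'} ∧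
        (∃ U : Fin 3 → Submodule ℂ (Fin 4 → ℂ), Function.Injective U ∧
        ∀ i : Fin 3, Module.finrank ℂ ↥(U i) = 2 ∧ e'' ∈ U i ∧ ∀ u ∈ U i, eval u f = 0) ∧
        ∀ u ∈ Submodule.span ℂ {e, e'}, eval u f = 0 →
          u ∈ Submodule.span ℂ {e} ∨ u ∈ Submodule.span ℂ {e'} ∨ u ∈ Submodule.span ℂ {e''}) := by
  set T := GrothLib.CubicForm.ofPoly f with hTdef
  have hT : T.Smooth := GrothLib.CubicForm.ofPoly_smooth hf hsm
  have hc0 : ∀ v, T.cube v = 0 ↔ eval v f = 0 := GrothLib.CubicForm.ofPoly_cube_eq_zero_iff hf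
  have he'0 : e' ≠ 0 := fun h => he' (by rw [h]; exact zero_mem _)
  have hTe := (GrothLib.CubicForm.isEckardt_iff hf e).2 ⟨he, hE⟩
  have hTe' := (GrothLib.CubicForm.isEckardt_iff hf e').2 ⟨he'0, hE'⟩
  obtain ⟨φ, hφ⟩ := hTe.exists_harmonic T GrothLib.CubicForm.finrank_four hT
  obtain ⟨ψ, hψ⟩ := hTe'.exists_harmonic T GrothLib.CubicForm.finrank_four hT
  by_cases hl : T e e e' = 0
  · left
    have hle : ∀ u ∈ Submodule.span ℂ {e, e'}, eval u f = 0 := by
      intro u hu
      refine (hc0 u).1 (T.cube_eq_zero_on_span_pair hφ.2.1 hl ?_ hψ.2.1 u hu)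
      rw [hφ.2.2, hl]; ring
    refine ⟨hle, ?_⟩
    rintro ⟨e'', he''mem, he''e, he''e', -, h⟩
    obtain ⟨s, t, rfl⟩ := Submodule.mem_span_pair.1 he''mem
    have hs : s ≠ 0 := fun h => he''e' (by simp [h, Submodule.mem_span_singleton])
    have ht : t ≠ 0 := fun h => he''e (by simp [h, Submodule.mem_span_singleton])
    have hind : ∀ a b : ℂ, a • e + b • e' = 0 → a = 0 ∧ b = 0 := by
      intro a b hab
      have hb : b = 0 := by
        by_contra hb
        refine he' (Submodule.mem_span_singleton.2 ⟨-a / b, ?_⟩)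
        linear_combination (norm := (match_scalars <;> field_simp <;> ring)) -b⁻¹ • hab
      refine ⟨?_, hb⟩
      simpa [hb, he] using hab
    rcases h ((2 * s) • e + t • e')
      (Submodule.mem_span_pair.2 ⟨_, _, rfl⟩) (hle _ (Submodule.mem_span_pair.2 ⟨_, _, rfl⟩)) with
      h1 | h1 | h1 <;> obtain ⟨r, hr⟩ := Submodule.mem_span_singleton.1 h1
    · exact ht (neg_eq_zero.1 (hind (r - 2 * s) (-t) (by linear_combination (norm := module) hr)).2)
    · have := (hind (-(2 * s)) (r - t) (by linear_combination (norm := module) hr)).1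
      exact hs (by simpa using this)
    · obtain ⟨h2, h3⟩ := hind (r * s - 2 * s) (r * t - t) (by linear_combination (norm := module) hr)
      have hr1 : r = 1 := by
        have : (r - 1) * t = 0 := by linear_combination h3
        simpa [ht, sub_eq_zero] using this
      rw [hr1] at h2
      exact hs (by linear_combination -h2)
  · right
    have hb : T e e' e' = 2 * φ e' * T e e e' := by rw [hφ.2.2]; ring
    have hl' : T e' e' e ≠ 0 := by
      intro h
      refine hl ?_
      have := hψ.2.2 e e
      rw [h, T.rot e' e e] at this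
      linear_combination this
    have hφe' : φ e' ≠ 0 := fun h => hl' (by rw [← T.rot e e' e', hb, h]; ring)
    refine ⟨⟨e' - (2 * φ e') • e, ?_, ?_, ?_, ?_, ?_⟩, ?_⟩
    · exact Submodule.mem_span_pair.2 ⟨-(2 * φ e'), 1, by module⟩
    · intro h
      refine he' ?_
      simpa using Submodule.add_mem _ h
        (Submodule.smul_mem _ (2 * φ e') (Submodule.mem_span_singleton_self e))
    · intro h
      obtain ⟨r, hr⟩ := Submodule.mem_span_singleton.1 h
      have h1 : (1 - r) • e' = (2 * φ e') • e := by linear_combination (norm := module) -(1:ℂ) • hr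
      by_cases hr1 : r = 1
      · rw [hr1, sub_self, zero_smul] at h1
        exact smul_ne_zero (mul_ne_zero two_ne_zero hφe') he h1.symm
      · exact he' (Submodule.mem_span_singleton.2 ⟨2 * φ e' / (1 - r), by
          rw [div_eq_inv_mul, mul_smul, ← h1, smul_smul, inv_mul_cancel₀ (sub_ne_zero.2 (Ne.symm hr1)),
            one_smul]⟩)
    · let g : (Fin 4 → ℂ) ≃ₗ[ℂ] (Fin 4 → ℂ) :=
        LinearEquiv.ofInvolutive (LinearMap.id - (2 : ℂ) • φ.smulRight e) fun x => by
          simpa [smul_smul] using hφ.refl_refl T x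
      have hg : ∀ x, g x = x - (2 * φ x) • e := fun x => by simp [g, smul_smul]
      have := hTe'.map T g fun x y z => by simp only [hg]; exact hφ.refl_polar T x y z
      rw [hg] at this
      exact ((GrothLib.CubicForm.isEckardt_iff hf _).1 this).2
    · intro u hu hu0
      obtain ⟨s, t, rfl⟩ := Submodule.mem_span_pair.1 hu
      have := (hc0 _).2 hu0
      rw [T.cube_comb, show T.cube e = 0 from hφ.2.1, show T.cube e' = 0 from hψ.2.1, hb] at this
      have h3 : s * (t * (s + 2 * φ e' * t)) * T e e e' = 0 := by linear_combination this / 3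
      rcases mul_eq_zero.1 h3 with h4 | h4
      · rcases mul_eq_zero.1 h4 with h5 | h5
        · exact Or.inr (Or.inl (by simp [h5, Submodule.mem_span_singleton]))
        · rcases mul_eq_zero.1 h5 with h6 | h6
          · exact Or.inl (by simp [h6, Submodule.mem_span_singleton])
          · refine Or.inr (Or.inr (Submodule.mem_span_singleton.2 ⟨t, ?_⟩))
            rw [eq_neg_of_add_eq_zero_left h6]; module
      · exact absurd h4 hl
    · intro h
      refine hl (GrothLib.CubicForm.Tri.eq_zero_of_cube_eq_zero T (Submodule.span ℂ {e, e'})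
        (fun u hu => (hc0 u).2 (h u hu)) ?_ ?_ ?_) <;>
        exact Submodule.subset_span (by simp)

end Groth.Agent.S18409
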