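import Groth.Statements.S18410
import Groth.Agent.Lib.CubicForm.Involution
import Mathlib.Analysis.Complex.Polynomial.Basic

set_option autoImplicit false
universe u
open Cubic

namespace Groth.Agent.S18410

open MvPolynomial in
/-- Let f be a nonzero homogeneous cubic in four variables over ℂ whose surface S = V_+(f) ⊂ P³ is
smooth (at every nonzero zero of f some partial derivative is nonzero); a line on S is a
2-dimensional subspace of ℂ⁴ on which f vanishes, and an Eckardt point of S is a nonzero vector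
lying on three distinct lines on S. Let e, e′ be non-proportional Eckardt points of S such that f
vanishes on their span (the line joining them lies on S), and let A, A′ be their Eckardt
involutions: an involutory matrix A (A² = 1) whose +1-eigenspace is a hyperplane and with A·e = −e,
such that the substitution X_i ↦ Σ_j A_ij X_j multiplies f by a constant — that is, a projective
involution preserving S whose fixed locus is the disjoint union of a plane and the point of e, and
likewise A′ for e′. Then the two involutions commute as projective transformations (A·A′ is a scalar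
multiple of A′·A) and each fixes the other point (A·e′ is proportional to e′ and A′·e to e). -/
theorem result (f : MvPolynomial (Fin 4) ℂ) (hf : f.IsHomogeneous 3)
    (hf0 : f ≠ 0) (hsm : ∀ v : Fin 4 → ℂ, v ≠ 0 → eval v f = 0 → ∃ i : Fin 4, eval v (pderiv i f) ≠ 0)
    (e e' : Fin 4 → ℂ) (he : e ≠ 0) (he' : e' ∉ Submodule.span ℂ {e})
    (hE : (∃ U : Fin 3 → Submodule ℂ (Fin 4 → ℂ), Function.Injective U ∧
        ∀ i : Fin 3, Module.finrank ℂ ↥(U i) = 2 ∧ e ∈ U i ∧ ∀ u ∈ U i, eval u f = 0))
    (hE' : (∃ U : Fin 3 → Submodule ℂ (Fin 4 → ℂ), Function.Injective U ∧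
        ∀ i : Fin 3, Module.finrank ℂ ↥(U i) = 2 ∧ e' ∈ U i ∧ ∀ u ∈ U i, eval u f = 0))
    (hL : ∀ u ∈ Submodule.span ℂ {e, e'}, eval u f = 0)
    (A A' : Matrix (Fin 4) (Fin 4) ℂ)
    (hA : A * A = 1 ∧ Module.finrank ℂ ↥(LinearMap.ker (Matrix.toLin' A - LinearMap.id)) = 3 ∧
        A.mulVec e = -e ∧ ∃ c : ℂ, aeval (fun i : Fin 4 => ∑ j : Fin 4, C (A i j) * X j) f = C c * f)
    (hA' : A' * A' = 1 ∧ Module.finrank ℂ ↥(LinearMap.ker (Matrix.toLin' A' - LinearMap.id)) = 3 ∧
        A'.mulVec e' = -e' ∧ ∃ c : ℂ, aeval (fun i : Fin 4 => ∑ j : Fin 4, C (A' i j) * X j) f = C c * f) :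
    (∃ c : ℂ, A * A' = c • (A' * A)) ∧ (∃ d : ℂ, A.mulVec e' = d • e') ∧ (∃ d : ℂ, A'.mulVec e = d • e) := by
  set T := GrothLib.CubicForm.ofPoly f with hTdef
  have hT : T.Smooth := GrothLib.CubicForm.ofPoly_smooth hf hsm
  have hfe : ∀ {e : Fin 4 → ℂ}, (∃ U : Fin 3 → Submodule ℂ (Fin 4 → ℂ), Function.Injective U ∧
        ∀ i : Fin 3, Module.finrank ℂ ↥(U i) = 2 ∧ e ∈ U i ∧ ∀ u ∈ U i, eval u f = 0) →
      eval e f = 0 := by rintro e ⟨U, -, hU⟩; exact (hU 0).2.2 e (hU 0).2.1
  have he'0 : e' ≠ 0 := fun h => he' (by rw [h]; exact zero_mem _)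
  obtain ⟨φ, hφ, hA1⟩ :=
    GrothLib.CubicForm.harmonic_of_matrix hf hsm A e he (hfe hE) hA.2.1 hA.2.2.1 hA.2.2.2
  obtain ⟨ψ, hψ, hA2⟩ :=
    GrothLib.CubicForm.harmonic_of_matrix hf hsm A' e' he'0 (hfe hE') hA'.2.1 hA'.2.2.1 hA'.2.2.2
  have hline : ∀ {a b c}, a ∈ Submodule.span ℂ {e, e'} → b ∈ Submodule.span ℂ {e, e'} →
      c ∈ Submodule.span ℂ {e, e'} → T a b c = 0 :=
    T.eq_zero_of_cube_eq_zero _
      (fun u hu => (GrothLib.CubicForm.ofPoly_cube_eq_zero_iff hf u).2 (hL u hu))
  have m : e ∈ Submodule.span ℂ {e, e'} := Submodule.subset_span (by simp)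
  have m' : e' ∈ Submodule.span ℂ {e, e'} := Submodule.subset_span (by simp)
  -- the two gradients cannot be proportional
  have key : φ e' = 0 ∧ ψ e = 0 := by
    by_contra hne
    have h1 : ∀ x, T e e' x = φ e' * T e e x := fun x => by
      rw [hφ.2.2, hline m m m']; ring
    have h2 : ∀ x, T e e' x = ψ e * T e' e' x := fun x => by
      rw [T.symm₁ e e', hψ.2.2, hline m' m' m]; ring
    have ha : φ e' ≠ 0 ∧ ψ e ≠ 0 := by
      constructor
      · intro ha
        have hb : ψ e = 0 := by
          by_contra hb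
          refine he'0 (hT e' fun x => ?_)
          have := (h1 x).symm.trans (h2 x)
          rw [ha, zero_mul] at this
          simpa [hb] using this.symm
        exact hne ⟨ha, hb⟩
      · intro hb
        have ha : φ e' = 0 := by
          by_contra ha
          refine he (hT e fun x => ?_)
          have := (h1 x).symm.trans (h2 x)
          rw [hb, zero_mul] at this
          simpa [ha] using this
        exact hne ⟨ha, hb⟩
    obtain ⟨ha, hb⟩ := ha
    obtain ⟨t, ht⟩ := GrothLib.CubicForm.exists_quadratic_zero (k := ℂ) 1 (φ e') (φ e' / ψ e)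
      (div_ne_zero ha hb)
    have h0 := hT (e + t • e') fun x => by
      have hb' : T e' e' x = φ e' / ψ e * T e e x := by
        field_simp; linear_combination (h1 x) - (h2 x)
      rw [T.grad_add_smul, h1, hb']
      linear_combination T e e x * ht
    by_cases ht0 : t = 0
    · simp [ht0] at ht
    · refine he' (Submodule.mem_span_singleton.2 ⟨-t⁻¹, ?_⟩)
      rw [eq_neg_of_add_eq_zero_left h0, neg_smul, smul_neg, neg_neg, smul_smul,
        inv_mul_cancel₀ ht0, one_smul]
  obtain ⟨hφe', hψe⟩ := key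
  refine ⟨⟨1, ?_⟩, ⟨1, by simp [hA1, hφe']⟩, ⟨1, by simp [hA2, hψe]⟩⟩
  rw [one_smul]
  apply Matrix.toLin'.injective
  apply LinearMap.ext
  intro x
  simp only [Matrix.toLin'_mul, LinearMap.comp_apply, Matrix.toLin'_apply, hA1, hA2, map_sub,
    map_smul, hφe', hψe, smul_eq_mul, mul_zero, sub_zero]
  module

end Groth.Agent.S18410
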