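import Groth.Statements.S18411
import Groth.Agent.Lib.CubicForm.Involution
import Mathlib.Analysis.Complex.Polynomial.Basic

set_option autoImplicit false
universe u
open Cubic

namespace Groth.Agent.S18411

open MvPolynomial in
/-- Let f be a nonzero homogeneous cubic in four variables over ℂ whose surface S = V_+(f) ⊂ P³ is
smooth (at every nonzero zero of f some partial derivative is nonzero); a line on S is a
2-dimensional subspace of ℂ⁴ on which f vanishes, and an Eckardt point of S is a nonzero vector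
lying on three distinct lines on S. Let e, e′, e″ be pairwise non-proportional Eckardt points of S
spanning a single plane L = span(e, e′) of ℂ⁴ on which f does not vanish identically (three
collinear Eckardt points whose line is not on S), and let A, A′, A″ be their Eckardt involutions: an
involutory matrix A (A² = 1) whose +1-eigenspace is a hyperplane and with A·e = −e, such that the
substitution X_i ↦ Σ_j A_ij X_j multiplies f by a constant — that is, a projective involution
preserving S whose fixed locus is the disjoint union of a plane and the point of e, and likewise for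
e′ and e″. Then the three involutions generate, as projective transformations, a group isomorphic to
the symmetric group on three letters: the product A·A′ is not a scalar matrix, its cube is, and A″
is a scalar multiple of A·A′·A. -/
theorem result (f : MvPolynomial (Fin 4) ℂ) (hf : f.IsHomogeneous 3)
    (hf0 : f ≠ 0) (hsm : ∀ v : Fin 4 → ℂ, v ≠ 0 → eval v f = 0 → ∃ i : Fin 4, eval v (pderiv i f) ≠ 0)
    (e e' e'' : Fin 4 → ℂ) (he : e ≠ 0) (he' : e' ∉ Submodule.span ℂ {e})
    (he''1 : e'' ∉ Submodule.span ℂ {e}) (he''2 : e'' ∉ Submodule.span ℂ {e'}) (he''L : e'' ∈ Submodule.span ℂ {e, e'})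
    (hE : (∃ U : Fin 3 → Submodule ℂ (Fin 4 → ℂ), Function.Injective U ∧
        ∀ i : Fin 3, Module.finrank ℂ ↥(U i) = 2 ∧ e ∈ U i ∧ ∀ u ∈ U i, eval u f = 0))
    (hE' : (∃ U : Fin 3 → Submodule ℂ (Fin 4 → ℂ), Function.Injective U ∧
        ∀ i : Fin 3, Module.finrank ℂ ↥(U i) = 2 ∧ e' ∈ U i ∧ ∀ u ∈ U i, eval u f = 0))
    (hE'' : (∃ U : Fin 3 → Submodule ℂ (Fin 4 → ℂ), Function.Injective U ∧
        ∀ i : Fin 3, Module.finrank ℂ ↥(U i) = 2 ∧ e'' ∈ U i ∧ ∀ u ∈ U i, eval u f = 0))
    (hL : ¬ ∀ u ∈ Submodule.span ℂ {e, e'}, eval u f = 0)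
    (A A' A'' : Matrix (Fin 4) (Fin 4) ℂ)
    (hA : A * A = 1 ∧ Module.finrank ℂ ↥(LinearMap.ker (Matrix.toLin' A - LinearMap.id)) = 3 ∧
        A.mulVec e = -e ∧ ∃ c : ℂ, aeval (fun i : Fin 4 => ∑ j : Fin 4, C (A i j) * X j) f = C c * f)
    (hA' : A' * A' = 1 ∧ Module.finrank ℂ ↥(LinearMap.ker (Matrix.toLin' A' - LinearMap.id)) = 3 ∧
        A'.mulVec e' = -e' ∧ ∃ c : ℂ, aeval (fun i : Fin 4 => ∑ j : Fin 4, C (A' i j) * X j) f = C c * f)
    (hA'' : A'' * A'' = 1 ∧ Module.finrank ℂ ↥(LinearMap.ker (Matrix.toLin' A'' - LinearMap.id)) = 3 ∧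
        A''.mulVec e'' = -e'' ∧ ∃ c : ℂ, aeval (fun i : Fin 4 => ∑ j : Fin 4, C (A'' i j) * X j) f = C c * f) :
    (¬ ∃ c : ℂ, A * A' = c • (1 : Matrix (Fin 4) (Fin 4) ℂ)) ∧ (∃ c : ℂ, (A * A') ^ 3 = c • (1 : Matrix (Fin 4) (Fin 4) ℂ)) ∧
      ∃ c : ℂ, A'' = c • (A * A' * A) := by
  set T := GrothLib.CubicForm.ofPoly f with hTdef
  have hT : T.Smooth := GrothLib.CubicForm.ofPoly_smooth hf hsm
  have hc0 := GrothLib.CubicForm.ofPoly_cube_eq_zero_iff hf
  have hfe : ∀ {e : Fin 4 → ℂ}, (∃ U : Fin 3 → Submodule ℂ (Fin 4 → ℂ), Function.Injective U ∧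
        ∀ i : Fin 3, Module.finrank ℂ ↥(U i) = 2 ∧ e ∈ U i ∧ ∀ u ∈ U i, eval u f = 0) →
      eval e f = 0 := by rintro e ⟨U, -, hU⟩; exact (hU 0).2.2 e (hU 0).2.1
  have he'0 : e' ≠ 0 := fun h => he' (by rw [h]; exact zero_mem _)
  have he''0 : e'' ≠ 0 := fun h => he''1 (by rw [h]; exact zero_mem _)
  obtain ⟨φ, hφ, hA1⟩ :=
    GrothLib.CubicForm.harmonic_of_matrix hf hsm A e he (hfe hE) hA.2.1 hA.2.2.1 hA.2.2.2
  obtain ⟨ψ, hψ, hA2⟩ :=
    GrothLib.CubicForm.harmonic_of_matrix hf hsm A' e' he'0 (hfe hE') hA'.2.1 hA'.2.2.1 hA'.2.2.2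
  obtain ⟨χ, hχ, hA3⟩ :=
    GrothLib.CubicForm.harmonic_of_matrix hf hsm A'' e'' he''0 (hfe hE'') hA''.2.1 hA''.2.2.1
      hA''.2.2.2
  set a := φ e'
  set b := ψ e
  have hb1 : T e e' e' = 2 * a * T e e e' := by rw [hφ.2.2]; ring
  have hb2 : T e e e' = 2 * b * T e e' e' := by
    rw [T.rot e e' e', ← T.rot e' e e, hψ.2.2]; ring
  have hl : T e e e' ≠ 0 := by
    intro hl
    refine hL fun u hu => (hc0 u).1 ?_
    exact T.cube_eq_zero_on_span_pair hφ.2.1 hl (by rw [hb1, hl]; ring) hψ.2.1 u hu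
  have hab : 4 * a * b = 1 := by
    have h1 : (4 * a * b - 1) * T e e e' = 0 := by
      linear_combination (-1 : ℂ) * hb2 - 2 * b * hb1
    simpa [hl, sub_eq_zero] using h1
  have ha : a ≠ 0 := fun h => by rw [h] at hab; simp at hab
  refine ⟨?_, ⟨1, ?_⟩, 1, ?_⟩
  · rintro ⟨c, hc⟩
    have h1 := congrArg (fun M => Matrix.mulVec M e') hc
    simp only [← Matrix.mulVec_mulVec, hA'.2.2.1, Matrix.mulVec_neg, hA1, map_neg, Matrix.smul_mulVec,
      Matrix.one_mulVec] at h1
    by_cases hc1 : c = -1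
    · subst hc1
      have : (2 * a) • e = 0 := by linear_combination (norm := module) h1
      exact smul_ne_zero (mul_ne_zero two_ne_zero ha) he this
    · refine he' (Submodule.mem_span_singleton.2 ⟨2 * a / (c + 1), ?_⟩)
      have h2 : (c + 1) • e' = (2 * a) • e := by linear_combination (norm := module) -(1:ℂ) • h1
      rw [div_eq_inv_mul, mul_smul, ← h2, smul_smul,
        inv_mul_cancel₀ (fun h => hc1 (eq_neg_of_add_eq_zero_left h)), one_smul]
  · rw [one_smul]
    apply Matrix.toLin'.injective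
    apply LinearMap.ext
    intro x
    simp only [pow_succ, pow_zero, one_mul, Matrix.toLin'_mul, Matrix.toLin'_one, LinearMap.comp_apply,
      LinearMap.id_apply, Matrix.toLin'_apply, hA1, hA2, map_sub, map_smul, hφ.1, hψ.1,
      smul_eq_mul]
    have : b = (4 * a)⁻¹ := eq_inv_of_mul_eq_one_right (by linear_combination hab)
    rw [show φ e' = a from rfl, show ψ e = b from rfl, this]
    match_scalars <;> field_simp <;> ring
  · rw [one_smul]
    obtain ⟨s, t, hst⟩ := Submodule.mem_span_pair.1 he''L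
    have ht : t ≠ 0 := fun h => he''1 (by simp [← hst, h, Submodule.mem_span_singleton])
    have hs : s ≠ 0 := fun h => he''2 (by simp [← hst, h, Submodule.mem_span_singleton])
    have hcube := (hc0 _).2 (hfe hE'')
    rw [← hst, T.cube_comb, show T.cube e = 0 from hφ.2.1, show T.cube e' = 0 from hψ.2.1, hb1]
      at hcube
    have hs' : s = -(2 * a * t) := by
      have : s * (t * (s + 2 * a * t)) * T e e e' = 0 := by linear_combination hcube / 3
      simp [hs, ht, hl] at this
      linear_combination this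
    have hd : e'' = t • (e' - (2 * a) • e) := by rw [← hst, hs']; module
    have hpol := GrothLib.CubicForm.mulVec_polar_of_harmonic hφ hA1
    have hinv : ∀ x, A.mulVec (A.mulVec x) = x := fun x => by
      rw [hA1, hA1]; exact hφ.refl_refl _ x
    set w := e' - (2 * a) • e with hw
    have hw' : A.mulVec e' = w := hA1 e'
    -- the harmonic functional at `e''`
    let χ' : (Fin 4 → ℂ) →ₗ[ℂ] ℂ := t⁻¹ • (ψ ∘ₗ Matrix.toLin' A)
    have hχ' : T.Harmonic e'' χ' := by
      refine ⟨?_, ?_, fun x y => ?_⟩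
      · simp only [χ', LinearMap.smul_apply, LinearMap.comp_apply, Matrix.toLin'_apply, hd,
          Matrix.mulVec_smul, map_smul, smul_eq_mul]
        rw [← hw', hinv, hψ.1]
        field_simp
      · exact (hc0 _).2 (hfe hE'')
      · have e1 : ∀ u v, T w u v = T e' (A.mulVec u) (A.mulVec v) := fun u v => by
          rw [← hpol e' (A.mulVec u) (A.mulVec v), hw', hinv, hinv]
        have e2 : A.mulVec w = e' := by rw [← hw', hinv]
        simp only [χ', LinearMap.smul_apply, LinearMap.comp_apply, Matrix.toLin'_apply, hd,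
          T.smul₁, T.smul₂, T.smul₃, smul_eq_mul, e1, e2]
        rw [hψ.2.2]
        field_simp
        simp only [hTdef]
        ring
    have := hχ.unique _ hT he''0 hχ'
    subst this
    apply Matrix.toLin'.injective
    apply LinearMap.ext
    intro x
    simp only [Matrix.toLin'_mul, LinearMap.comp_apply, Matrix.toLin'_apply]
    rw [hA3, hA2, Matrix.mulVec_sub, Matrix.mulVec_smul, hinv, hw', hd]
    simp only [χ', LinearMap.smul_apply, LinearMap.comp_apply, Matrix.toLin'_apply, smul_eq_mul]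
    match_scalars <;> field_simp

end Groth.Agent.S18411
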