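import Groth.Statements.S18413
import Groth.Agent.Lib.EulerConst10.Main
import Groth.Agent.Lib.BCCrit.DimBound
import Groth.Agent.Lib.Seesaw26.Closed
import Groth.Agent.Lib.Seesaw26.LocalGood
import Groth.Agent.Lib.ConnH0.Basic
import Groth.Agent.Lib.Stein.Main
import Groth.Agent.Lib.Transversal10.Dims
import Groth.Agent.Lib.RatSing29.ModifDim
import Groth.Agent.Lib.CotTangent.Scheme

set_option backward.isDefEq.respectTransparency false

set_option autoImplicit false
universe u
open CategoryTheory AlgebraicGeometry
open Curves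

namespace Groth.Agent.S18413

theorem strictMono_fiberι {X S : Scheme.{u}} (π : X ⟶ S) (t : S) : StrictMono (π.fiberι t) := by
  intro a b hab
  refine lt_iff_le_not_ge.mpr ⟨Scheme.le_iff_specializes.mpr
    ((Scheme.le_iff_specializes.mp hab.le).map (π.fiberι _).continuous), fun e => hab.not_ge ?_⟩
  exact Scheme.le_iff_specializes.mpr
    ((π.fiberι _).isEmbedding.isInducing.specializes_iff.mp (Scheme.le_iff_specializes.mp e))

/-- A point with a proper generalization or specialization has fibres of smaller dimension. -/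
theorem dim_fiber_le_one {X S : Scheme.{u}} (π : X ⟶ S) [IsProper π] [Flat π]
    (hX : topologicalKrullDim ↥X ≤ ((2 : ℕ) : WithBot ℕ∞)) (t t' : S) (hne : t ≠ t') (h : t' ⤳ t ∨ t ⤳ t') :
    topologicalKrullDim ↥(π.fiber t) ≤ ((1 : ℕ) : WithBot ℕ∞) := by
  have hX' : Order.krullDim X ≤ ((2 : ℕ) : WithBot ℕ∞) := (GrothLib.CurvePoints.krullDim_points_eq X).trans_le hX
  refine (GrothLib.CurvePoints.krullDim_points_eq _).ge.trans ?_
  refine iSup_le fun p => ?_
  let p' := p.map _ (strictMono_fiberι π t)
  have hps : ∀ i, π (p' i) = t := fun i => (π.range_fiberι t).le ⟨p i, rfl⟩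
  suffices hq : ∃ q : LTSeries X, q.length = p.length + 1 by
    obtain ⟨q, hq⟩ := hq
    have h2 := (Order.LTSeries.length_le_krullDim q).trans hX'
    rw [hq] at h2
    have h3 : p.length + 1 ≤ 2 := by exact_mod_cast h2
    exact_mod_cast (show p.length ≤ 1 by omega)
  rcases h with h | h
  · obtain ⟨x', hx', hfx'⟩ := Flat.generalizingMap π (show t' ⤳ π p'.last from (hps _).symm ▸ h)
    refine ⟨p'.snoc x' (lt_iff_le_not_ge.mpr ⟨Scheme.le_iff_specializes.mpr hx', fun e => hne ?_⟩), rfl⟩
    have h1 := (Scheme.le_iff_specializes.mp e).map π.continuous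
    rw [hfx', show π p'.last = t from hps _] at h1
    exact (h1.antisymm h).eq
  · obtain ⟨x', hx', hfx'⟩ := π.isClosedMap.specializingMap
      (show π p'.head ⤳ t' from (hps 0).symm ▸ h)
    refine ⟨p'.cons x' (lt_iff_le_not_ge.mpr ⟨Scheme.le_iff_specializes.mpr hx', fun e => hne ?_⟩), by simp [p']⟩
    have h1 := (Scheme.le_iff_specializes.mp e).map π.continuous
    rw [hfx', show π p'.head = t from hps 0] at h1
    exact (h.antisymm h1).eq

theorem euler_eq_of_dim_le_one {X S : Scheme.{u}} (π : X ⟶ S) [IsProper π] [IsLocallyNoetherian S] (F : X.Modules) [Coh.IsQCoh F] (t : S)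
    (hd : topologicalKrullDim ↥(π.fiber t) ≤ ((1 : ℕ) : WithBot ℕ∞)) :
    GrothLib.EulerConst10.fibEuler π F t = (CohIII.fiberRank π F 0 t : ℤ) - CohIII.fiberRank π F 1 t := by
  show ∑ᶠ i : ℕ, (-1 : ℤ) ^ i * (CohIII.fiberRank π F i t : ℤ) = _
  rw [finsum_eq_sum_of_support_subset _ (s := Finset.range 2) fun i hi => ?_]
  · simp [Finset.sum_range_succ, sub_eq_add_neg]
  · rw [Finset.coe_range, Set.mem_Iio]
    by_contra hlt
    exact hi (by simp [GrothLib.BCCrit.fiberRank_eq_zero_of_dim_lt (f := π) (F := F) t 1 i hd (by omega)])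

/-- Let k be an algebraically closed field, X a k-scheme that is smooth of relative dimension 2 and
proper over k (a smooth proper surface), S an irreducible k-scheme smooth of relative dimension 1 (a
smooth curve), and π : X → S a proper flat k-morphism with O_S → π_* O_X bijective on every open
subset of S. For a closed point s of S whose scheme-theoretic fibre X_s is reduced: (a) H^0(X_s,
O_{X_s}) is one-dimensional over κ(s), and (b) the arithmetic genus dim H^1(X_s, O_{X_s}) equals
that of the generic fibre X_η over κ(η). -/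
theorem result
    {k : Type u} [Field k] [IsAlgClosed k] {X S : Scheme.{u}}
    (π : X ⟶ S) (g : S ⟶ Spec (CommRingCat.of k))
    [SmoothOfRelativeDimension 1 g] [IrreducibleSpace S]
    [SmoothOfRelativeDimension 2 (π ≫ g)] [IsProper (π ≫ g)]
    [IsProper π] [Flat π]
    (hO : ∀ U : S.Opens, Function.Bijective (π.app U))
    (s : S) (hs : IsClosed ({s} : Set S)) [AlgebraicGeometry.IsReduced (π.fiber s)] :
    PerfAux.betti π (Coh.structureModule X) s 0 = 1 ∧
      PerfAux.betti π (Coh.structureModule X) s 1 =
        PerfAux.betti π (Coh.structureModule X) (genericPoint S) 1 := by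
  classical
  haveI : Smooth g := SmoothOfRelativeDimension.smooth 1 g
  haveI : IsLocallyNoetherian S := LocallyOfFiniteType.isLocallyNoetherian g
  haveI hneX : Nonempty X := by
    obtain ⟨z⟩ := (GrothLib.Stein.connectedSpace_fiber π s fun V => (ConcreteCategory.isIso_iff_bijective _).2 (hO V)).toNonempty
    exact ⟨π.fiberι s z⟩
  have hconn : ∀ t : S, ConnectedSpace ↥(π.fiber t) := fun t =>
    GrothLib.Stein.connectedSpace_fiber π t fun V => (ConcreteCategory.isIso_iff_bijective _).2 (hO V)
  have hX2 : topologicalKrullDim ↥X ≤ ((2 : ℕ) : WithBot ℕ∞) :=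
    (GrothLib.Transversal.dim_eq_of_smooth (π ≫ g) 2).le
  let η := genericPoint S
  have hne : s ≠ η := by
    intro h
    haveI : Subsingleton S := ⟨fun a b => by
      have key : ∀ c : S, c = s := fun c =>
        Set.mem_singleton_iff.1 ((h ▸ genericPoint_specializes c : s ⤳ c).mem_closed hs rfl)
      rw [key a, key b]⟩
    have h1 := GrothLib.Transversal.dim_eq_of_smooth g 1
    haveI : Subsingleton (TopologicalSpace.IrreducibleCloseds ↥S) := ⟨fun a b => TopologicalSpace.IrreducibleCloseds.ext (by
      rw [Subsingleton.eq_univ_of_nonempty a.isIrreducible.nonempty, Subsingleton.eq_univ_of_nonempty b.isIrreducible.nonempty])⟩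
    have h0 : topologicalKrullDim ↥S ≤ 0 := Order.krullDim_nonpos_of_subsingleton
    rw [h1] at h0
    exact absurd h0 (by exact_mod_cast Nat.one_ne_zero ∘ Nat.le_zero.1)
  have hds := dim_fiber_le_one π hX2 s η hne (Or.inl (genericPoint_specializes s))
  have hdη := dim_fiber_le_one π hX2 η s hne.symm (Or.inr (genericPoint_specializes s))
  have h0s : CohIII.fiberRank π (Coh.structureModule X) 0 s = 1 := by
    rw [GrothLib.Seesaw26.fiberRank_structure' π s, ← GrothLib.Seesaw26.fiberRank_structure π s]
    haveI := hconn s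
    haveI : IsAlgClosed (S.residueField s) :=
      IsAlgClosed.of_ringEquiv k _ (residueFieldIsoBase g s hs).commRingCatIsoToRingEquiv.symm
    letI : (π.fiber s).Over (Spec (CommRingCat.of (S.residueField s))) := ⟨π.fiberToSpecResidueField s⟩
    haveI : IsProper ((π.fiber s) ↘ Spec (CommRingCat.of (S.residueField s))) :=
      MorphismProperty.pullback_snd (P := @IsProper) π (S.fromSpecResidueField s) inferInstance
    exact GrothLib.ConnH0.finrank_H0_eq_one (S.residueField s)
  have hpos : 1 ≤ CohIII.fiberRank π (Coh.structureModule X) 0 η := by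
    rw [GrothLib.Seesaw26.fiberRank_structure' π η, ← GrothLib.Seesaw26.fiberRank_structure π η]
    haveI := hconn η
    letI : (π.fiber η).Over (Spec (CommRingCat.of (S.residueField η))) := ⟨π.fiberToSpecResidueField η⟩
    haveI : IsProper ((π.fiber η) ↘ Spec (CommRingCat.of (S.residueField η))) :=
      MorphismProperty.pullback_snd (P := @IsProper) π (S.fromSpecResidueField η) inferInstance
    haveI := GrothLib.Euler.finiteDimensional_HH (S.residueField η)
      (GrothLib.Euler.isCoh_of_isInvertible (GrothLib.Euler.isInvertible_structure (X := π.fiber η))) 0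
    haveI : Nonempty (⊤ : (π.fiber η).Opens) := ⟨⟨Classical.arbitrary _, trivial⟩⟩
    haveI : Nontrivial Γ(π.fiber η, ⊤) := inferInstance
    haveI : Nontrivial Γ(Coh.structureModule (π.fiber η), ⊤) := inferInstanceAs (Nontrivial Γ(π.fiber η, ⊤))
    haveI : Nontrivial (Coh.HH (π.fiber η) (Coh.structureModule (π.fiber η)) 0) :=
      (GrothLib.ProjCoh.H0top (Coh.structureModule (π.fiber η))).toEquiv.nontrivial
    exact Module.finrank_pos
  have hle : CohIII.fiberRank π (Coh.structureModule X) 0 η ≤ 1 := by
    by_contra h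
    have := (genericPoint_specializes s).mem_closed (GrothLib.Seesaw26.isClosed_setOf_le_fiberRank π 2)
      (show 2 ≤ CohIII.fiberRank π (Coh.structureModule X) 0 η by omega)
    simp only [Set.mem_setOf_eq, h0s] at this
    omega
  haveI : (Coh.structureModule X).IsQuasicoherent :=
    GrothLib.InvExt.isQuasicoherent_of_isInvertible GrothLib.Euler.isInvertible_structure
  obtain ⟨U, hsU, hU⟩ := GrothLib.EulerConst10.exists_nhd_euler_eq π (Coh.structureModule X)
    (GrothLib.LocFree8.isFP_of_isFinLocFree _ (GrothLib.Euler.isFinLocFree_of_isInvertible GrothLib.Euler.isInvertible_structure))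
    (GrothLib.Seesaw26.isFlatOver_of_isInvertible π GrothLib.Euler.isInvertible_structure) s
  have he := hU η ((genericPoint_specializes s).mem_open U.2 hsU)
  rw [euler_eq_of_dim_le_one π _ s hds, euler_eq_of_dim_le_one π _ η hdη, h0s] at he
  refine ⟨h0s, ?_⟩
  show CohIII.fiberRank π (Coh.structureModule X) 1 s = CohIII.fiberRank π (Coh.structureModule X) 1 η
  omega

end Groth.Agent.S18413
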