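import Groth.Statements.S18416
import Groth.Agent.Lib.EtSection.Newton
import Mathlib.RingTheory.RingHom.Etale

set_option autoImplicit false
universe u v w
open CAlg

namespace Groth.Agent.S18416

/-- Let R → C and C → B be smooth ring homomorphisms, J an ideal of B and K the preimage of J in C, and
suppose that C surjects onto A = B/J (so that C/K = B/J = A). Then for every prime x of A there
exist f ∈ B whose image in A does not lie in x and an ideal J₀ of B_f contained in J B_f such that
the composite C → B_f → B_f/J₀ is étale. -/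
theorem result (R : Type u) (C : Type v) (B : Type w)
    [CommRing R] [CommRing C] [CommRing B] [Algebra R C] [Algebra C B] [Algebra R B] [IsScalarTower R C B]
    [Algebra.Smooth R C] [Algebra.Smooth C B] (J : Ideal B)
    (hsurj : Function.Surjective ((Ideal.Quotient.mk J).comp (algebraMap C B)))
    (x : PrimeSpectrum (B ⧸ J)) :
    ∃ f : B, Ideal.Quotient.mk J f ∉ x.asIdeal ∧
      ∃ J₀ : Ideal (Localization.Away f), J₀ ≤ J.map (algebraMap B (Localization.Away f)) ∧
        ((Ideal.Quotient.mk J₀).comp ((algebraMap B (Localization.Away f)).comp (algebraMap C B))).Etale := by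
  let K : Ideal C := J.comap (algebraMap C B)
  let q : (C ⧸ K) →ₐ[C] B ⧸ J := Ideal.Quotient.liftₐ K (Algebra.ofId C (B ⧸ J))
    fun c hc => Ideal.Quotient.eq_zero_iff_mem.2 hc
  have hq : Function.Bijective q := by
    constructor
    · rw [injective_iff_map_eq_zero]
      intro c hc
      obtain ⟨c, rfl⟩ := Ideal.Quotient.mk_surjective c
      have h0 : Ideal.Quotient.mk J (algebraMap C B c) = 0 := hc
      have h1 := Ideal.Quotient.eq_zero_iff_mem.1 h0
      exact Ideal.Quotient.eq_zero_iff_mem.2 h1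
    · intro b
      obtain ⟨c, hc⟩ := hsurj b
      exact ⟨Ideal.Quotient.mk K c, hc⟩
  let e := AlgEquiv.ofBijective q hq
  let σ : B →ₐ[C] C ⧸ K := (e.symm : (B ⧸ J) →ₐ[C] C ⧸ K).comp (Ideal.Quotient.mkₐ C J)
  have hσ : ∀ b, e (σ b) = Ideal.Quotient.mk J b := fun b => e.apply_symm_apply _
  obtain ⟨R', _, _, π, τ, K', hR', hπτ, -, -, -, -, f₀, hf₀, hu, hfr⟩ :=
    GrothLib.EtSection.exists_newton_system K σ
  have hf₀' : Ideal.Quotient.mk J f₀ = 1 := by rw [← hσ, hf₀, map_one]
  refine ⟨f₀, fun h => x.2.ne_top ((Ideal.eq_top_iff_one _).2 (hf₀' ▸ h)), ?_⟩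
  let ψ : Localization.Away f₀ →+* R' := IsLocalization.Away.lift f₀ (g := τ.toRingHom) hu
  have hψ : ∀ b, ψ (algebraMap B _ b) = τ b := fun b => IsLocalization.Away.lift_eq f₀ hu b
  refine ⟨RingHom.ker ψ, fun z hz => ?_, ?_⟩
  · obtain ⟨b, s, rfl⟩ := IsLocalization.exists_mk'_eq (Submonoid.powers f₀) z
    rw [IsLocalization.mk'_mem_map_algebraMap_iff (Submonoid.powers f₀)]
    refine ⟨1, one_mem _, ?_⟩
    rw [one_mul, ← Ideal.Quotient.eq_zero_iff_mem, ← hσ, ← hπτ, AlgHom.comp_apply]
    have h1 := congrArg ψ (IsLocalization.mk'_spec' (Localization.Away f₀) b s)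
    rw [map_mul, RingHom.mem_ker.1 hz, mul_zero, hψ] at h1
    rw [← h1, map_zero, map_zero]
  · have hsurjψ : Function.Surjective ψ := fun r => by
      obtain ⟨b, k, hb⟩ := hfr r
      refine ⟨IsLocalization.mk' _ b (⟨f₀ ^ k, k, rfl⟩ : Submonoid.powers f₀), ?_⟩
      refine (hu.pow k).mul_left_injective ?_
      show _ * τ f₀ ^ k = r * τ f₀ ^ k
      rw [hb, ← map_pow, ← hψ, ← map_mul, IsLocalization.mk'_spec, hψ]
    let Ψ := RingHom.quotientKerEquivOfSurjective hsurjψ
    let Φ : C →+* Localization.Away f₀ ⧸ RingHom.ker ψ :=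
      (Ideal.Quotient.mk (RingHom.ker ψ)).comp ((algebraMap B (Localization.Away f₀)).comp (algebraMap C B))
    show Φ.Etale
    letI := Φ.toAlgebra
    have hcomm : ∀ c : C, Ψ.symm (algebraMap C R' c) = Φ c := fun c => by
      apply Ψ.injective
      rw [RingEquiv.apply_symm_apply]
      show algebraMap C R' c = ψ (algebraMap B _ (algebraMap C B c))
      rw [hψ, τ.commutes]
    let E : R' ≃ₐ[C] Localization.Away f₀ ⧸ RingHom.ker ψ := AlgEquiv.ofRingEquiv (f := Ψ.symm) hcomm
    haveI := hR'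
    exact Algebra.Etale.of_equiv E

end Groth.Agent.S18416
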