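import Groth.Statements.S18417
import Mathlib
import Groth.Agent.S2103
import Groth.Agent.Lib.LciH1.Relative
-- import your own Groth.Agent.* helpers here

set_option autoImplicit false
universe u v
open CAlg

namespace Groth.Agent.S18417

/-- Let R → A be a ring homomorphism and x_1, …, x_d a weakly regular sequence in A generating an ideal
J such that B = A/J is formally smooth over R. Then for every N ≥ 1 there is an isomorphism of
R-algebras e : A/J^N ≅ B[T_1, …, T_d]/(T_1, …, T_d)^N which sends the class of x_i to the class of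
T_i and which is compatible with the projections to B: for every a ∈ A, e(a mod J^N) is congruent to
the constant a mod J modulo the ideal generated by the variables. (The source also assumes R → A
smooth, which its argument does not use, and a regular sequence; weak regularity is what the
argument uses.) -/
theorem result
    (R : Type u) (A : Type v) [CommRing R] [CommRing A] [Algebra R A] (d : ℕ) (x : Fin d → A)
    (hreg : RingTheory.Sequence.IsWeaklyRegular A (List.ofFn x))
    [Algebra.FormallySmooth R (A ⧸ Ideal.span (Set.range x))] (N : ℕ) (hN : 1 ≤ N) :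
    ∃ e : (A ⧸ Ideal.span (Set.range x) ^ N) ≃ₐ[R]
        (MvPolynomial (Fin d) (A ⧸ Ideal.span (Set.range x)) ⧸
          Ideal.span (Set.range (MvPolynomial.X : Fin d → MvPolynomial (Fin d) (A ⧸ Ideal.span (Set.range x)))) ^ N),
      (∀ i : Fin d, e (Ideal.Quotient.mk _ (x i)) = Ideal.Quotient.mk _ (MvPolynomial.X i)) ∧
      ∀ a : A, e (Ideal.Quotient.mk _ a) - Ideal.Quotient.mk _ (MvPolynomial.C (Ideal.Quotient.mk _ a)) ∈
        (Ideal.span (Set.range (MvPolynomial.X : Fin d → MvPolynomial (Fin d) (A ⧸ Ideal.span (Set.range x))))).map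
          (Ideal.Quotient.mk _) := by
  classical
  set J := Ideal.span (Set.range x) with hJ
  set T := Ideal.span (Set.range (MvPolynomial.X : Fin d → MvPolynomial (Fin d) (A ⧸ J))) with hT
  have hTv : T = MvPolynomial.idealOfVars (Fin d) (A ⧸ J) := rfl
  have hq := Groth.Agent.S2103.result x (GrothLib.LciH1.isH1Regular_of_isWeaklyRegular x hreg)
  let q := Ideal.Quotient.factorₐ R (Ideal.pow_le_self (I := J) (n := N) (by omega))
  have hqs : Function.Surjective q := Ideal.Quotient.factor_surjective (Ideal.pow_le_self (I := J) (n := N) (by omega))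
  have hker : IsNilpotent (RingHom.ker q) := by
    refine ⟨N, ?_⟩
    have h : RingHom.ker q = J.map (Ideal.Quotient.mk (J ^ N)) :=
      Ideal.Quotient.factor_ker (Ideal.pow_le_self (I := J) (n := N) (by omega))
    rw [h, ← Ideal.map_pow, Ideal.zero_eq_bot, Ideal.map_quotient_self]
  let σ : (A ⧸ J) →ₐ[R] A ⧸ J ^ N :=
    Algebra.FormallySmooth.liftOfSurjective (AlgHom.id R (A ⧸ J)) q hqs hker
  have hσ : ∀ b, q (σ b) = b := fun b =>
    AlgHom.congr_fun (Algebra.FormallySmooth.comp_liftOfSurjective (AlgHom.id R (A ⧸ J)) q hqs hker) b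
  have hσmk : ∀ a, σ (Ideal.Quotient.mk J a) - Ideal.Quotient.mk (J ^ N) a ∈
      J.map (Ideal.Quotient.mk (J ^ N)) := by
    intro a
    obtain ⟨c, hc⟩ := Ideal.Quotient.mk_surjective (σ (Ideal.Quotient.mk J a))
    have h := hσ (Ideal.Quotient.mk J a)
    rw [← hc] at h ⊢
    rw [← map_sub]
    refine Ideal.mem_map_of_mem _ ?_
    exact Ideal.Quotient.eq.mp h
  let ψ : MvPolynomial (Fin d) (A ⧸ J) →+* A ⧸ J ^ N :=
    MvPolynomial.eval₂Hom σ.toRingHom fun i => Ideal.Quotient.mk (J ^ N) (x i)
  have hTJ : ∀ k, ∀ P ∈ T ^ k, ψ P ∈ (J ^ k).map (Ideal.Quotient.mk (J ^ N)) := by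
    intro k P hP
    have h1 : T.map ψ ≤ J.map (Ideal.Quotient.mk (J ^ N)) := by
      rw [hT, Ideal.map_span, Ideal.span_le]
      rintro _ ⟨_, ⟨i, rfl⟩, rfl⟩
      simp only [ψ, MvPolynomial.eval₂Hom_X']
      exact Ideal.mem_map_of_mem _ (Ideal.subset_span ⟨i, rfl⟩)
    rw [Ideal.map_pow]
    exact Ideal.pow_right_mono h1 k (Ideal.map_pow ψ T k ▸ Ideal.mem_map_of_mem ψ hP)
  have hker0 : ∀ P ∈ T ^ N, ψ P = 0 := fun P hP => by
    have := hTJ N P hP
    rwa [Ideal.map_quotient_self, Ideal.mem_bot] at this
  let Φ := Ideal.Quotient.lift (T ^ N) ψ hker0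
  have hsurj : Function.Surjective Φ := by
    have key : ∀ k ≤ N, ∀ z : A ⧸ J ^ N, ∃ P, z - ψ P ∈ (J ^ k).map (Ideal.Quotient.mk (J ^ N)) := by
      intro k
      induction k with
      | zero =>
        intro _ z
        refine ⟨0, ?_⟩
        rw [pow_zero, Ideal.one_eq_top, Ideal.map_top]
        exact trivial
      | succ k ih =>
        intro hk z
        obtain ⟨P, hP⟩ := ih (by omega) z
        obtain ⟨a, ha, ha'⟩ := (Ideal.mem_map_iff_of_surjective _ Ideal.Quotient.mk_surjective).mp hP
        rw [hJ, Ideal.span_pow_eq_map_homogeneousSubmodule, Submodule.mem_map] at ha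
        obtain ⟨Q, hQ, rfl⟩ := ha
        refine ⟨P + MvPolynomial.map (Ideal.Quotient.mk J) Q, ?_⟩
        rw [map_add, ← sub_sub, ← ha']
        change Ideal.Quotient.mk _ (MvPolynomial.aeval x Q) -
          MvPolynomial.eval₂ σ.toRingHom _ (MvPolynomial.map _ Q) ∈ _
        rw [MvPolynomial.eval₂_map, MvPolynomial.aeval_def, MvPolynomial.eval₂_eq, MvPolynomial.eval₂_eq,
          map_sum, ← Finset.sum_sub_distrib]
        refine Ideal.sum_mem _ fun e he => ?_
        rw [map_mul, map_prod, Algebra.algebraMap_self, RingHom.id_apply]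
        simp only [map_pow, RingHom.comp_apply]
        rw [← sub_mul, pow_succ', Ideal.map_mul]
        refine Ideal.mul_mem_mul ?_ ?_
        · rw [← neg_sub]
          exact (Ideal.neg_mem_iff _).mpr (hσmk _)
        · have hdeg : ∑ i ∈ e.support, e i = k := by
            have := hQ (MvPolynomial.mem_support_iff.mp he)
            simpa [Finsupp.weight_apply, Finsupp.sum] using this
          rw [Ideal.map_pow, ← hdeg, ← Finset.prod_pow_eq_pow_sum]
          refine Ideal.prod_mem_prod fun i _ => ?_
          exact Ideal.pow_mem_pow (Ideal.mem_map_of_mem (I := J) _ (show x i ∈ J from Ideal.subset_span ⟨i, rfl⟩)) _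
    intro z
    obtain ⟨P, hP⟩ := key N le_rfl z
    rw [Ideal.map_quotient_self, Ideal.mem_bot, sub_eq_zero] at hP
    exact ⟨Ideal.Quotient.mk _ P, hP.symm⟩
  have hinj : Function.Injective Φ := by
    rw [injective_iff_map_eq_zero]
    intro z hz
    obtain ⟨P, rfl⟩ := Ideal.Quotient.mk_surjective z
    change ψ P = 0 at hz
    rw [Ideal.Quotient.eq_zero_iff_mem]
    suffices h : ∀ k ≤ N, P ∈ T ^ k from h N le_rfl
    intro k
    induction k with
    | zero => simp [Ideal.one_eq_top]
    | succ k ih =>
      intro hk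
      have hPk := ih (by omega)
      rw [hTv, MvPolynomial.mem_pow_idealOfVars_iff'] at hPk ⊢
      obtain ⟨P', hP'⟩ := MvPolynomial.map_surjective _ Ideal.Quotient.mk_surjective P
      let Q := MvPolynomial.homogeneousComponent k P'
      have hQP : ∀ e, (MvPolynomial.map (Ideal.Quotient.mk J) Q).coeff e =
          if e.degree = k then P.coeff e else 0 := by
        intro e
        rw [MvPolynomial.coeff_map, MvPolynomial.coeff_homogeneousComponent, apply_ite (Ideal.Quotient.mk J),
          map_zero, ← MvPolynomial.coeff_map, hP']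
      have hrest : P - MvPolynomial.map (Ideal.Quotient.mk J) Q ∈ T ^ (k + 1) := by
        rw [hTv, MvPolynomial.mem_pow_idealOfVars_iff']
        intro e he
        rw [MvPolynomial.coeff_sub, hQP]
        split_ifs with h
        · exact sub_self _
        · rw [sub_zero]
          exact hPk e (by omega)
      have h1 := hTJ (k + 1) _ hrest
      rw [map_sub, hz, zero_sub, Ideal.neg_mem_iff] at h1
      have hQh : Q.IsHomogeneous k := MvPolynomial.homogeneousComponent_isHomogeneous k P'
      have h2 : Ideal.Quotient.mk (J ^ N) (MvPolynomial.eval x Q) ∈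
          (J ^ (k + 1)).map (Ideal.Quotient.mk (J ^ N)) := by
        have h3 : ψ (MvPolynomial.map (Ideal.Quotient.mk J) Q) -
            Ideal.Quotient.mk (J ^ N) (MvPolynomial.eval x Q) ∈
            (J ^ (k + 1)).map (Ideal.Quotient.mk (J ^ N)) := by
          change MvPolynomial.eval₂ σ.toRingHom _ (MvPolynomial.map _ Q) - _ ∈ _
          rw [MvPolynomial.eval₂_map, MvPolynomial.eval₂_eq, MvPolynomial.eval_eq, map_sum,
            ← Finset.sum_sub_distrib]
          refine Ideal.sum_mem _ fun e he => ?_
          rw [map_mul, map_prod]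
          simp only [map_pow, RingHom.comp_apply]
          rw [← sub_mul, pow_succ', Ideal.map_mul]
          refine Ideal.mul_mem_mul (hσmk _) ?_
          have hdeg : ∑ i ∈ e.support, e i = k := by
            have := hQh (MvPolynomial.mem_support_iff.mp he)
            simpa [Finsupp.weight_apply, Finsupp.sum] using this
          rw [Ideal.map_pow, ← hdeg, ← Finset.prod_pow_eq_pow_sum]
          refine Ideal.prod_mem_prod fun i _ => ?_
          exact Ideal.pow_mem_pow (Ideal.mem_map_of_mem (I := J) _ (show x i ∈ J from Ideal.subset_span ⟨i, rfl⟩)) _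
        simpa using sub_mem h1 h3
      rw [Ideal.mem_quotient_iff_mem_sup, sup_eq_left.mpr (Ideal.pow_le_pow_right hk)] at h2
      intro e he
      rcases Nat.lt_succ_iff_lt_or_eq.mp he with h | h
      · exact hPk e h
      · have h4 := hQP e
        rw [MvPolynomial.coeff_map, if_pos h, Ideal.Quotient.eq_zero_iff_mem.mpr (hq k Q hQh h2 e)] at h4
        exact h4.symm
  let Φa : (MvPolynomial (Fin d) (A ⧸ J) ⧸ T ^ N) →ₐ[R] A ⧸ J ^ N :=
    { Φ with
      commutes' := fun r => by
        change ψ (algebraMap R _ r) = _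
        rw [IsScalarTower.algebraMap_apply R (A ⧸ J) (MvPolynomial (Fin d) (A ⧸ J)),
          MvPolynomial.algebraMap_eq]
        change MvPolynomial.eval₂Hom _ _ (MvPolynomial.C _) = _
        rw [MvPolynomial.eval₂Hom_C]
        exact σ.commutes r }
  let e := (AlgEquiv.ofBijective Φa ⟨hinj, hsurj⟩).symm
  have heq : ∀ z w, Φ w = z → e z = w := fun z w h =>
    ((AlgEquiv.ofBijective Φa ⟨hinj, hsurj⟩).symm_apply_eq).mpr h.symm
  refine ⟨e, fun i => heq _ _ (by simp [Φ, ψ]), fun a => ?_⟩
  obtain ⟨w, hw⟩ := hsurj (Ideal.Quotient.mk (J ^ N) a)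
  obtain ⟨P, rfl⟩ := Ideal.Quotient.mk_surjective w
  rw [heq _ _ hw, ← map_sub]
  refine Ideal.mem_map_of_mem _ ?_
  rw [hTv, ← pow_one (MvPolynomial.idealOfVars _ _), MvPolynomial.mem_pow_idealOfVars_iff']
  intro d' hd'
  rw [Nat.lt_one_iff, Finsupp.degree_eq_zero_iff] at hd'
  subst hd'
  rw [MvPolynomial.coeff_sub, MvPolynomial.coeff_zero_C, ← MvPolynomial.constantCoeff_eq, sub_eq_zero]
  have h : q (ψ P) = MvPolynomial.constantCoeff P := by
    have hc : q.toRingHom.comp ψ = MvPolynomial.constantCoeff := by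
      refine MvPolynomial.ringHom_ext (fun b => ?_) (fun i => ?_)
      · simp only [RingHom.comp_apply, ψ, MvPolynomial.eval₂Hom_C, MvPolynomial.constantCoeff_C]
        exact hσ b
      · simp only [RingHom.comp_apply, ψ, MvPolynomial.eval₂Hom_X', MvPolynomial.constantCoeff_X]
        exact Ideal.Quotient.eq_zero_iff_mem.mpr (Ideal.subset_span ⟨i, rfl⟩)
    exact RingHom.congr_fun hc P
  rw [← h, show ψ P = Ideal.Quotient.mk (J ^ N) a from hw]
  rfl

end Groth.Agent.S18417
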