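import Groth.Statements.S18418
import Groth.Agent.Lib.FLSplit.Basic
import Mathlib.RingTheory.WittVector.DiscreteValuationRing
import Mathlib.RingTheory.Nakayama
import Mathlib.RingTheory.FiniteLength
import Mathlib.RingTheory.LocalRing.MaximalIdeal.Basic

set_option autoImplicit false
universe u v
open FonLaf

namespace Groth.Agent.S18418

/-- Let k be a perfect field of characteristic p and W = W(k) its ring of Witt vectors with Frobenius σ.
Fix r and W-modules of finite length N_0 = M, N_1, N_2, … with W-linear maps α_i : N_{i+1} → N_i and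
σ-semilinear maps φ_i : N_i → M such that φ_i ∘ α_i = p φ_{i+1} for all i < r. Let ι be the map
sending (x_1, …, x_r) ∈ N_1 ⊕ ⋯ ⊕ N_r to (α_0 x_1, α_1 x_2 − p x_1, …, α_{r−1} x_r − p x_{r−1}, −p
x_r) ∈ N_0 ⊕ ⋯ ⊕ N_r, and Φ the map N_0 ⊕ ⋯ ⊕ N_r → M, (y_i) ↦ Σ_i φ_i(y_i). Suppose that Φ is
surjective and that its kernel is contained in the image of ι (with the displayed relation this says
that Φ induces a σ-semilinear bijection from the cokernel of ι onto M). Then for every i < r the map
α_i is injective and its image is a direct summand of N_i (so the N_i form a filtration of M by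
direct summands, the data of a Fontaine–Laffaille module). Families are indexed by all natural
numbers; only the indices ≤ r enter. -/
theorem result (p : ℕ) [Fact p.Prime]
    (k : Type u) [Field k] [CharP k p] [PerfectRing k p] (r : ℕ)
    (N : ℕ → Type v) [∀ i, AddCommGroup (N i)] [∀ i, Module (WittVector p k) (N i)]
    (hfl : ∀ i, IsFiniteLength (WittVector p k) (N i))
    (α : ∀ i, N (i + 1) →ₗ[WittVector p k] N i)
    (φ : ∀ i, N i →ₛₗ[(WittVector.frobenius : WittVector p k →+* WittVector p k)] N 0)
    (hφ : ∀ i, i < r → ∀ y : N (i + 1), φ i (α i y) = (p : WittVector p k) • φ (i + 1) y)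
    (hsurj : ∀ m : N 0, ∃ y : (i : ℕ) → N i, (∀ i, r < i → y i = 0) ∧
      (Finset.range (r + 1)).sum (fun i => φ i (y i)) = m)
    (hker : ∀ y : (i : ℕ) → N i, (∀ i, r < i → y i = 0) →
      (Finset.range (r + 1)).sum (fun i => φ i (y i)) = 0 →
        ∃ z : (i : ℕ) → N (i + 1), (∀ i, r ≤ i → z i = 0) ∧
          y 0 = α 0 (z 0) ∧ ∀ i, y (i + 1) = α (i + 1) (z (i + 1)) - (p : WittVector p k) • z i)
    (i : ℕ) (hi : i < r) :
    Function.Injective (α i) ∧
      ∃ Q : Submodule (WittVector p k) (N i), IsCompl (LinearMap.range (α i)) Q := by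
  classical
  let W := WittVector p k
  haveI : RingHomSurjective (WittVector.frobenius : W →+* W) := ⟨(WittVector.frobenius_bijective p k).surjective⟩
  set π : W := (p : W) with hπdef
  have hπ : WittVector.frobenius π = π := map_natCast _ p
  have hirr : Irreducible π := WittVector.irreducible p
  -- purity of every `α j`, by induction on the exponent
  have pure : ∀ n j, j < r → ∀ (x : N (j + 1)) (y : N j), α j x = π ^ n • y → ∃ x', x = π ^ n • x' := by
    intro n
    induction n with
    | zero => intro j _ x _ _; exact ⟨x, (by rw [pow_zero, one_smul])⟩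
    | succ n ih =>
      intro j hj x y hxy
      obtain ⟨x₁, rfl⟩ := ih j hj x (π • y) (by rw [hxy, pow_succ, mul_smul])
      let P : ∀ i, Submodule W (N i) := fun i => LinearMap.range (LinearMap.lsmul W (N i) (π ^ (n + 1)))
      let αb : ∀ i, (N (i + 1) ⧸ P (i + 1)) →ₗ[W] (N i ⧸ P i) := fun i => (P (i + 1)).mapQ (P i) (α i) (by
        rintro _ ⟨w, rfl⟩
        exact ⟨α i w, (map_smul (α i) (π ^ (n + 1)) w).symm⟩)
      let φb : ∀ i, (N i ⧸ P i) →ₛₗ[(WittVector.frobenius : W →+* W)] (N 0 ⧸ P 0) := fun i =>
        (P i).mapQ (P 0) (φ i) (by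
          rintro _ ⟨w, rfl⟩
          refine ⟨φ i w, ?_⟩
          simp only [LinearMap.lsmul_apply, LinearMap.map_smulₛₗ, map_pow, hπ])
      have hfl' : ∀ i, IsFiniteLength W (N i ⧸ P i) := fun i => by
        obtain ⟨h1, h2⟩ := isFiniteLength_iff_isNoetherian_isArtinian.mp (hfl i)
        exact isFiniteLength_iff_isNoetherian_isArtinian.mpr ⟨inferInstance, inferInstance⟩
      have hinj := GrothLib.FLSplit.injective π WittVector.frobenius r (fun i => N i ⧸ P i) αb φb hπ
        (WittVector.frobenius_bijective p k) hfl'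
        (fun i hi q => by
          obtain ⟨w, rfl⟩ := Submodule.Quotient.mk_surjective _ q
          show Submodule.Quotient.mk (φ i (α i w)) = π • Submodule.Quotient.mk (φ (i + 1) w)
          rw [hφ i hi w, Submodule.Quotient.mk_smul])
        (fun q => by
          obtain ⟨m, rfl⟩ := Submodule.Quotient.mk_surjective _ q
          obtain ⟨w, -, hw⟩ := hsurj m
          refine ⟨fun i => Submodule.Quotient.mk (w i), ?_⟩
          rw [← hw]
          exact (map_sum (P 0).mkQ _ _).symm)
        (fun q hq0 hq => by
          choose w hw using fun i => Submodule.Quotient.mk_surjective (P i) (q i)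
          let w' : ∀ i, N i := fun i => if r < i then 0 else w i
          have hw' : ∀ i, Submodule.Quotient.mk (w' i) = q i := fun i => by
            by_cases hi : r < i
            · simp only [w', if_pos hi]; rw [hq0 i hi]; rfl
            · simp only [w', if_neg hi, hw]
          have h1 : (P 0).mkQ ((Finset.range (r + 1)).sum fun i => φ i (w' i)) = 0 := by
            rw [map_sum, ← hq]
            exact Finset.sum_congr rfl fun i _ => by rw [← hw' i]; rfl
          obtain ⟨m, hm⟩ := (Submodule.Quotient.mk_eq_zero _).mp h1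
          obtain ⟨v, hv0, hv⟩ := hsurj m
          obtain ⟨z, hz, hz0, hzs⟩ := hker (fun i => w' i - π ^ (n + 1) • v i)
            (fun i hi => by simp [w', hi, hv0 i hi]) (by
              simp only [map_sub, LinearMap.map_smulₛₗ, map_pow, hπ, Finset.sum_sub_distrib, ← Finset.smul_sum, hv]
              rw [← hm, LinearMap.lsmul_apply, sub_self])
          have hP : ∀ i, Submodule.Quotient.mk (p := P i) (w' i - π ^ (n + 1) • v i) = q i := fun i => by
            rw [Submodule.Quotient.mk_sub, hw', show Submodule.Quotient.mk (p := P i) (π ^ (n + 1) • v i) = 0 from (Submodule.Quotient.mk_eq_zero (P i)).mpr ⟨v i, rfl⟩, sub_zero]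
          refine ⟨fun i => Submodule.Quotient.mk (z i), fun i hi => by show Submodule.Quotient.mk (z i) = 0; rw [hz i hi]; rfl, ?_, fun i => ?_⟩
          · rw [← hP 0, hz0]; rfl
          · rw [← hP (i + 1), hzs i]; rfl)
        (Pi.single (M := fun i => N (i + 1) ⧸ P (i + 1)) j (Submodule.Quotient.mk (π ^ n • x₁)))
        (fun i hi => by rw [Pi.single_eq_of_ne (by omega : i ≠ j)])
        (fun m _ => by
          cases m with
          | zero =>
            rw [GrothLib.FLSplit.comp_zero]
            rcases eq_or_ne 0 j with rfl | h0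
            · rw [Pi.single_eq_same]
              show Submodule.Quotient.mk (α 0 (π ^ n • x₁)) = _
              rw [hxy]
              exact (Submodule.Quotient.mk_eq_zero _).mpr ⟨y, rfl⟩
            · rw [Pi.single_eq_of_ne h0, map_zero]
          | succ m =>
            rw [GrothLib.FLSplit.comp_succ]
            rcases eq_or_ne (m + 1) j with rfl | h0
            · rw [Pi.single_eq_same, Pi.single_eq_of_ne (by omega : m ≠ m + 1), smul_zero, sub_zero]
              show Submodule.Quotient.mk (α (m + 1) (π ^ n • x₁)) = _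
              rw [hxy]
              exact (Submodule.Quotient.mk_eq_zero _).mpr ⟨y, rfl⟩
            · rw [Pi.single_eq_of_ne h0, map_zero, zero_sub, neg_eq_zero]
              rcases eq_or_ne m j with rfl | h1
              · rw [Pi.single_eq_same, ← Submodule.Quotient.mk_smul, smul_smul, ← pow_succ']
                exact (Submodule.Quotient.mk_eq_zero _).mpr ⟨x₁, rfl⟩
              · rw [Pi.single_eq_of_ne h1, smul_zero])
      have h1 := congrFun hinj j
      rw [Pi.single_eq_same] at h1
      obtain ⟨x', hx'⟩ := (Submodule.Quotient.mk_eq_zero _).mp h1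
      exact ⟨x', hx'.symm⟩
  refine ⟨fun a b hab => ?_, ?_⟩
  · obtain ⟨h1, h2⟩ := isFiniteLength_iff_isNoetherian_isArtinian.mp (hfl (i + 1))
    have hd : ∀ n, ∃ x', a - b = π ^ n • x' := fun n => pure n i hi (a - b) 0 (by rw [map_sub, hab, sub_self, smul_zero])
    obtain ⟨c, hc, n, hn⟩ : ∃ c : W, c ≠ 0 ∧ ∃ n, ∀ w : N (i + 1), π ^ n • w = 0 := by
      obtain ⟨n, hn⟩ := IsArtinian.monotone_stabilizes
        ⟨fun n => OrderDual.toDual (LinearMap.range (LinearMap.lsmul W (N (i + 1)) (π ^ n))), fun m l hml => by
          rintro _ ⟨w, rfl⟩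
          exact ⟨π ^ (l - m) • w, by simp [smul_smul, ← pow_add, Nat.sub_add_cancel hml, Nat.add_sub_cancel' hml]⟩⟩
      refine ⟨1, one_ne_zero, n, fun w => ?_⟩
      have hle : LinearMap.range (LinearMap.lsmul W (N (i + 1)) (π ^ n)) ≤
          Ideal.span {π} • LinearMap.range (LinearMap.lsmul W (N (i + 1)) (π ^ n)) := by
        intro v hv
        have hv' : v ∈ LinearMap.range (LinearMap.lsmul W (N (i + 1)) (π ^ (n + 1))) := by
          rw [← OrderDual.toDual_inj.mp (hn (n + 1) n.le_succ)]
          exact hv
        obtain ⟨w', rfl⟩ := hv'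
        rw [LinearMap.lsmul_apply, pow_succ', mul_smul]
        exact Submodule.smul_mem_smul (Ideal.mem_span_singleton_self π) ⟨w', rfl⟩
      have := Submodule.eq_bot_of_le_smul_of_le_jacobson_bot (Ideal.span {π}) _ (IsNoetherian.noetherian _) hle (by
        rw [IsLocalRing.jacobson_eq_maximalIdeal _ bot_ne_top, ← hirr.maximalIdeal_eq])
      exact (Submodule.eq_bot_iff _).mp this _ ⟨w, rfl⟩
    obtain ⟨x', hx'⟩ := hd n
    rw [hn x'] at hx'
    exact sub_eq_zero.mp hx'
  · obtain ⟨h1, h2⟩ := isFiniteLength_iff_isNoetherian_isArtinian.mp (hfl i)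
    refine GrothLib.FLSplit.exists_isCompl_of_pure hirr (α i) ?_ fun n y x h => ?_
    · intro w
      obtain ⟨n, hn⟩ := IsArtinian.monotone_stabilizes
        ⟨fun n => OrderDual.toDual (LinearMap.range (LinearMap.lsmul W (N i) (π ^ n))), fun m l hml => by
          rintro _ ⟨v, rfl⟩
          exact ⟨π ^ (l - m) • v, by simp [smul_smul, ← pow_add, Nat.sub_add_cancel hml, Nat.add_sub_cancel' hml]⟩⟩
      have hle : LinearMap.range (LinearMap.lsmul W (N i) (π ^ n)) ≤
          Ideal.span {π} • LinearMap.range (LinearMap.lsmul W (N i) (π ^ n)) := by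
        intro v hv
        have hv' : v ∈ LinearMap.range (LinearMap.lsmul W (N i) (π ^ (n + 1))) := by
          rw [← OrderDual.toDual_inj.mp (hn (n + 1) n.le_succ)]
          exact hv
        obtain ⟨w', rfl⟩ := hv'
        rw [LinearMap.lsmul_apply, pow_succ', mul_smul]
        exact Submodule.smul_mem_smul (Ideal.mem_span_singleton_self π) ⟨w', rfl⟩
      have := Submodule.eq_bot_of_le_smul_of_le_jacobson_bot (Ideal.span {π}) _ (IsNoetherian.noetherian _) hle (by
        rw [IsLocalRing.jacobson_eq_maximalIdeal _ bot_ne_top, ← hirr.maximalIdeal_eq])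
      exact ⟨⟨π ^ n, mem_nonZeroDivisors_of_ne_zero (pow_ne_zero n hirr.ne_zero)⟩,
        (Submodule.eq_bot_iff _).mp this _ ⟨w, rfl⟩⟩
    · obtain ⟨x', rfl⟩ := pure n i hi x y h.symm
      exact ⟨x', (map_smul (α i) _ _).symm⟩

end Groth.Agent.S18418
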