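import Groth.Statements.S1842
import Groth.Agent.Lib.AbTors.Degree
-- import your own Groth.Agent.* helpers here

set_option autoImplicit false
universe u v
open CategoryTheory MonoidalCategory CartesianMonoidalCategory MonObj GrpObj AlgebraicGeometry
open GrpSch

namespace Groth.Agent.S1842

/-- Let A be an abelian variety of dimension g over a field (a proper, geometrically integral group
scheme) and d a nonzero integer. Multiplication by d (the d-th power of the identity in the group
Hom(A, A)) is finite and flat, and its rank function is constant with value d^(2g). (The source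
writes no hypothesis on d; d = 0 is excluded here since the constant map is not finite in positive
dimension.) -/
theorem result (K : Type u) [Field K] (A : Over (Spec (CommRingCat.of K))) [GrpObj A] [IsProper A.hom] [GeometricallyIntegral A.hom] (g : ℕ) (hg : topologicalKrullDim A.left = g) (d : ℤ) (hd : d ≠ 0) : IsFinite (𝟙 A ^ d).left ∧ Flat (𝟙 A ^ d).left ∧ ∀ a : A.left, Scheme.Hom.finrank (𝟙 A ^ d).left a = d.natAbs ^ (2 * g) := by
  obtain ⟨h1, h2, -⟩ := GrothLib.Cube.isogeny_zpow A hd
  refine ⟨h1, h2, fun a => ?_⟩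
  obtain ⟨n, rfl | rfl⟩ := d.eq_nat_or_neg
  · have hn : n ≠ 0 := by simpa using hd
    rw [zpow_natCast, Int.natAbs_natCast]
    exact GrothLib.AbTors.finrank_pow A hg hn a
  · have hn : n ≠ 0 := by simpa using hd
    haveI := GrothLib.Cube.isFinite_pow A hn
    haveI := GrothLib.Cube.flat_pow A hn
    haveI : IsIso ((𝟙 A)⁻¹ : A ⟶ A).left := by
      have e : ((𝟙 A)⁻¹ : A ⟶ A) ≫ (𝟙 A)⁻¹ = 𝟙 A := by rw [GrpObj.comp_inv, Category.comp_id, _root_.inv_inv]
      exact ⟨_, by rw [← Over.comp_left, e, Over.id_left], by rw [← Over.comp_left, e, Over.id_left]⟩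
    have e : (𝟙 A : A ⟶ A) ^ (-(n : ℤ)) = ((𝟙 A)⁻¹ : A ⟶ A) ≫ (𝟙 A) ^ n := by
      rw [zpow_neg, zpow_natCast, MonObj.comp_pow, Category.comp_id, inv_pow]
    rw [e, Over.comp_left, Scheme.Hom.finrank_comp_left_of_isIso, Int.natAbs_neg, Int.natAbs_natCast]
    exact GrothLib.AbTors.finrank_pow A hg hn a


end Groth.Agent.S1842
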