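import Groth.Statements.S18423
import Groth.Agent.Lib.Purity.Base
import Mathlib.Logic.Small.Set

set_option autoImplicit false
universe u v
open Pi1

namespace Groth.Agent.S18423

variable {R : Type u} [CommRing R] {d : ℕ} {y : Fin d → R} {A : Type u} [CommRing A] [Algebra R A]

open IsLocalRing TensorProduct in
/-- A finite free algebra over a local ring of dimension at least two, étale off the closed point, is
étale (no domain hypothesis). -/
theorem etale_of_free' [IsLocalRing R] [IsNoetherianRing R] [Module.Free R A] [Module.Finite R A]
    (hspan : maximalIdeal R ≤ (Ideal.span (Set.range y)).radical) (hdim : 2 ≤ ringKrullDim R)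
    (het : ∀ i, Algebra.Etale R (Localization.Away (algebraMap R A (y i)))) : Algebra.Etale R A := by
  classical
  let b := Module.Free.chooseBasis R A
  have hu : IsUnit (Algebra.traceMatrix R b).det := by
    by_contra hu
    set δ := (Algebra.traceMatrix R b).det
    have hδm : δ ∈ maximalIdeal R := hu
    obtain ⟨P, hP, hδP, hPm⟩ : ∃ P : Ideal R, P.IsPrime ∧ δ ∈ P ∧ P ≠ maximalIdeal R := by
      by_contra! h
      have hne : Ideal.span {δ} ≠ ⊤ := fun e => hu (Ideal.span_singleton_eq_top.mp e)
      have h1 := Ideal.height_le_spanFinrank (Ideal.span {δ}) hne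
      have h2 : (maximalIdeal R).height ≤ (Ideal.span {δ}).height := by
        rw [(Ideal.span {δ}).height_eq_inf_minimalPrimes]
        refine le_iInf₂ fun q hq => ?_
        rw [h q hq.1.1 (hq.1.2 (Ideal.mem_span_singleton_self δ))]
      have h3 : (Ideal.span {δ}).spanFinrank ≤ 1 :=
        (Submodule.spanFinrank_span_le_ncard_of_finite (Set.finite_singleton δ)).trans (by simp)
      rw [← IsLocalRing.maximalIdeal_height_eq_ringKrullDim] at hdim
      have h4 : (2 : ℕ∞) ≤ 1 :=
        (WithBot.coe_le_coe.mp hdim).trans (h2.trans (h1.trans (by exact_mod_cast h3)))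
      exact absurd h4 (by norm_num)
    haveI := hP
    obtain ⟨i, hi⟩ : ∃ i, y i ∉ P := by
      by_contra! h
      refine hPm ((maximalIdeal.isMaximal R).eq_of_le hP.ne_top ?_).symm
      exact hspan.trans ((Ideal.IsPrime.radical_le_iff hP).mpr (Ideal.span_le.mpr (Set.range_subset_iff.mpr h)))
    haveI := het i
    let Ry := Localization.Away (y i)
    let yA := algebraMap R A (y i)
    let T := Ry ⊗[R] A
    letI : Algebra A T := Algebra.TensorProduct.rightAlgebra
    haveI : IsLocalization.Away yA T := IsLocalization.Away.tensorRight (y i) Ry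
    let e : Localization.Away yA ≃ₐ[A] T := IsLocalization.algEquiv (Submonoid.powers yA) _ _
    haveI : Algebra.FormallyUnramified R (Localization.Away yA) := inferInstance
    haveI : Algebra.FormallyUnramified R T := Algebra.FormallyUnramified.of_equiv (e.restrictScalars R)
    haveI : Algebra.FormallyUnramified Ry T := Algebra.FormallyUnramified.of_restrictScalars R Ry T
    have h1 := (GrothLib.TraceEtale.formallyUnramified_iff_isUnit_det
      (Algebra.TensorProduct.basis Ry b)).mp inferInstance
    rw [GrothLib.TraceEtale.traceMatrix_baseChange, ← RingHom.mapMatrix_apply, ← RingHom.map_det] at h1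
    obtain ⟨N, c, hc⟩ := IsLocalization.Away.surj (y i) (↑h1.unit⁻¹ : Ry)
    have h2 : algebraMap R Ry (δ * c) = algebraMap R Ry (y i ^ N) := by
      rw [map_mul, ← hc, map_pow, ← mul_assoc, IsUnit.mul_val_inv, one_mul]
    obtain ⟨⟨_, m, rfl⟩, h3⟩ := (IsLocalization.eq_iff_exists (Submonoid.powers (y i)) Ry).mp h2
    simp only at h3
    have h4 : y i ^ m * (δ * c) ∈ P := P.mul_mem_left _ (P.mul_mem_right _ hδP)
    rw [h3, ← pow_add] at h4
    exact hi (hP.mem_of_pow_mem _ h4)
  haveI := (GrothLib.TraceEtale.formallyUnramified_iff_isUnit_det b).mpr hu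
  haveI : Algebra.FinitePresentation R A := Algebra.FinitePresentation.of_finiteType.mp inferInstance
  exact Algebra.Etale.of_formallyUnramified_of_flat



/-- Let A be a Noetherian local ring of Krull dimension at least 2 and B a finite flat commutative
A-algebra. If B is etale over A at every prime of B lying over a non-maximal prime of A (that is,
Spec B is etale over the punctured spectrum of A), then B is etale over A. -/
theorem result (A : Type u) (B : Type v) [CommRing A] [CommRing B]
    [Algebra A B] [IsNoetherianRing A] [IsLocalRing A] (hdim : (2 : WithBot ℕ∞) ≤ ringKrullDim A)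
    [Module.Finite A B] [Module.Flat A B]
    (h : ∀ q : PrimeSpectrum B, q.asIdeal.comap (algebraMap A B) ≠ IsLocalRing.maximalIdeal A →
      Algebra.IsEtaleAt A q.asIdeal) :
    Algebra.Etale A B := by
  obtain ⟨d, y, hy⟩ : ∃ (d : ℕ) (y : Fin d → A), Ideal.span (Set.range y) = IsLocalRing.maximalIdeal A :=
    Submodule.fg_iff_exists_fin_generating_family.mp (IsNoetherian.noetherian (IsLocalRing.maximalIdeal A))
  obtain ⟨n, g, hg⟩ := Module.Finite.exists_fin' A B
  haveI : Small.{u} B := small_of_surjective hg
  haveI : Module.Free A B := Module.free_of_flat_of_isLocalRing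
  haveI : IsNoetherianRing B := IsNoetherianRing.of_finite A B
  haveI : Algebra.FinitePresentation A B := Algebra.FinitePresentation.of_finiteType.mp inferInstance
  let B' := Shrink.{u} B
  let e : B' ≃ₐ[A] B := Shrink.algEquiv A B
  haveI : Module.Free A B' := Module.Free.of_equiv e.symm.toLinearEquiv
  haveI : Module.Finite A B' := Module.Finite.equiv e.symm.toLinearEquiv
  haveI : Algebra.Etale A B' := by
    refine etale_of_free' (y := y) (hy.ge.trans Ideal.le_radical) hdim fun i => ?_
    have h1 : Algebra.Etale A (Localization.Away (algebraMap A B (y i))) := by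
      rw [← Algebra.basicOpen_subset_etaleLocus_iff_etale]
      intro q hq
      refine h q fun e => hq ?_
      show y i ∈ q.asIdeal.comap (algebraMap A B)
      rw [e]
      exact hy.le (Ideal.subset_span ⟨i, rfl⟩)
    refine Algebra.Etale.of_equiv (R := A) (A := Localization.Away (algebraMap A B (y i))) ?_
    exact (IsLocalization.algEquivOfAlgEquiv (M := Submonoid.powers (algebraMap A B' (y i)))
      (T := Submonoid.powers (algebraMap A B (y i))) (Localization.Away (algebraMap A B' (y i)))
      (Localization.Away (algebraMap A B (y i))) e (by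
        rw [Submonoid.map_powers]
        exact congrArg Submonoid.powers (e.commutes (y i)))).symm
  exact Algebra.Etale.of_equiv e

end Groth.Agent.S18423
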