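import Groth.Statements.S2918
import Groth.Agent.Lib.FEt21.RegularExtend
import Groth.Agent.Lib.FEt21.UHEquiv
import Mathlib.AlgebraicGeometry.ValuativeCriterion
import Mathlib.RingTheory.DiscreteValuationRing.TFAE

set_option autoImplicit false
universe u
open SGA1

namespace Groth.Agent.S2918

open AlgebraicGeometry CategoryTheory CategoryTheory.Limits IsLocalRing

theorem valuationRing_of_regular_dim_one (R : Type u) [CommRing R] [IsDomain R] [IsRegularLocalRing R]
    (h : ringKrullDim R = 1) : ValuationRing R := by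
  have h1 : Module.finrank (ResidueField R) (CotangentSpace R) ≤ 1 := by
    have := (IsRegularLocalRing.iff_finrank_cotangentSpace R).1 inferInstance
    rw [h] at this
    exact le_of_eq (by exact_mod_cast this)
  exact ((tfae_of_isNoetherianRing_of_isLocalRing_of_isDomain R).out 5 1).1 h1

theorem fullyFaithful_restrict {X : Scheme.{u}} [IsLocallyNoetherian X] (U : X.Opens) (hU : Dense (U : Set X))
    (hX : ∀ x : X, IsRegularLocalRing (X.presheaf.stalk x)) :
    (FEt.restrict U.ι).Full ∧ (FEt.restrict U.ι).Faithful := by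
  refine GrothLib.FEt21.fullyFaithful_of_clopen U.ι
    (GrothLib.FEt21.clopenInj_of_denseRange _ (by rw [DenseRange, Scheme.Opens.range_ι]; exact hU))
    fun A C hC => ?_
  let aH : A.left ⟶ X := A.hom
  haveI : Etale aH := A.prop.2
  haveI : IsLocallyNoetherian A.left := LocallyOfFiniteType.isLocallyNoetherian aH
  refine GrothLib.FEt21.exists_clopen_extend (pullback.fst aH U.ι) ?_ (fun y _ => ?_) C hC
  · rw [DenseRange, IsOpenImmersion.range_pullbackFst, Scheme.Opens.opensRange_ι]
    exact hU.preimage aH.isOpenMap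
  · haveI := (GrothLib.EtBasicB.isRegularLocalRing_stalk_iff aH y).2 (hX _)
    exact GrothLib.CMFree.isDomain_of_isRegularLocalRing _

theorem essImage_le {S X Y : Scheme.{u}} (f : X ⟶ S) (g : Y ⟶ S) [IsProper g] [IsLocallyNoetherian X]
    (hX : ∀ x : X, IsRegularLocalRing (X.presheaf.stalk x)) (U : X.Opens) (hU : Dense (U : Set X))
    (a : (U : Scheme.{u}) ⟶ Y) (ha : a ≫ g = U.ι ≫ f) (B : FEt.Cat Y) :
    (FEt.restrict U.ι).essImage ((FEt.restrict a).obj B) := by
  refine GrothLib.FEt21.exists_extend_regular U hU _ (fun x _ => hX x) fun ξ hξ hd => ?_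
  let R := X.presheaf.stalk ξ
  haveI := hX ξ
  haveI : IsDomain R := GrothLib.CMFree.isDomain_of_isRegularLocalRing _
  haveI : ValuationRing R := valuationRing_of_regular_dim_one R hd
  let σ := X.fromSpecStalk ξ
  let P := pullback U.ι σ
  let K := FractionRing R
  let jK : Spec (CommRingCat.of K) ⟶ Spec R := Spec.map (CommRingCat.ofHom (algebraMap R K))
  let η : Spec R := ⟨⊥, Ideal.isPrime_bot⟩
  have hbot : ∀ w : Spec (CommRingCat.of K), jK w = η := fun w => PrimeSpectrum.ext (by
    show w.asIdeal.comap (algebraMap R K) = ⊥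
    rw [(Ideal.eq_bot_or_top w.asIdeal).resolve_right w.isPrime.ne_top]
    exact Ideal.comap_bot_of_injective _ (IsFractionRing.injective R K))
  have hne : η ≠ closedPoint R := fun e => by
    have h0 : maximalIdeal R = ⊥ := (congrArg PrimeSpectrum.asIdeal e).symm
    rw [← IsLocalRing.maximalIdeal_height_eq_ringKrullDim, h0, Ideal.height_bot] at hd
    exact absurd (WithBot.coe_inj.1 hd : (0 : ℕ∞) = 1) (by norm_num)
  have hmem : ∀ z : Spec R, z ≠ closedPoint R → σ z ∈ U := fun z hz => by
    refine GrothLib.FEt21.mem_of_dim_le_one U hU ξ hd.le _ ?_ fun e => hz ((GrothLib.FEt21.fromSpecStalk_eq_self_iff ξ z).1 e)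
    have : σ z ∈ Set.range σ := ⟨z, rfl⟩
    rwa [Scheme.range_fromSpecStalk] at this
  let k : Spec (CommRingCat.of K) ⟶ (U : Scheme.{u}) := IsOpenImmersion.lift U.ι (jK ≫ σ) (by
    rw [Scheme.Opens.range_ι]
    rintro _ ⟨w, rfl⟩
    rw [Scheme.Hom.comp_apply, hbot]
    exact hmem η hne)
  have hk : k ≫ U.ι = jK ≫ σ := IsOpenImmersion.lift_fac _ _ _
  have hex : ValuativeCriterion.Existence g := by
    have h1 : UniversallyClosed g := inferInstance
    rw [UniversallyClosed.eq_valuativeCriterion] at h1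
    exact h1.1
  obtain ⟨l, hl₁, hl₂⟩ := (hex (@ValuativeCommSq.mk _ _ g R R.commRing ‹IsDomain R› ‹ValuationRing R› K _ _ _
    (k ≫ a) (σ ≫ f) ⟨by rw [Category.assoc, ha, reassoc_of% hk]; rfl⟩)).exists_lift
  replace hl₁ : jK ≫ l = k ≫ a := hl₁
  replace hl₂ : l ≫ g = σ ≫ f := hl₂
  let j : Spec (CommRingCat.of K) ⟶ P := pullback.lift k jK hk
  haveI : Surjective j := ⟨fun p => by
    obtain ⟨w⟩ : Nonempty (Spec (CommRingCat.of K)) := inferInstance
    refine ⟨w, (pullback.snd U.ι σ).isOpenEmbedding.injective ?_⟩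
    rw [← Scheme.Hom.comp_apply, pullback.lift_snd, hbot]
    let z := pullback.snd U.ι σ p
    refine PrimeSpectrum.ext ?_
    by_contra hzb
    haveI : z.asIdeal.IsPrime := z.isPrime
    have hz : z.asIdeal < maximalIdeal R := by
      refine lt_of_le_of_ne (le_maximalIdeal z.isPrime.ne_top) fun e => hξ ?_
      have h2 : σ z ∈ U := by
        show σ (pullback.snd U.ι σ p) ∈ U
        rw [← Scheme.Hom.comp_apply, ← pullback.condition]
        exact (pullback.fst U.ι σ p).2
      rwa [(GrothLib.FEt21.fromSpecStalk_eq_self_iff ξ z).2 (PrimeSpectrum.ext e)] at h2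
    haveI : (⊥ : Ideal R).IsPrime := Ideal.isPrime_bot
    have hb : (⊥ : Ideal R) < z.asIdeal := bot_lt_iff_ne_bot.2 fun e => hzb e.symm
    have h3 := Ideal.height_strict_mono_of_isPrime_of_isPrime hb
    have h4 := Ideal.height_strict_mono_of_isPrime_of_isPrime hz
    rw [← IsLocalRing.maximalIdeal_height_eq_ringKrullDim] at hd
    have h5 : (maximalIdeal R).height = 1 := WithBot.coe_inj.1 hd
    rw [h5] at h4
    exact absurd (lt_of_le_of_lt (Order.one_le_iff_ne_zero.2 h3.ne_bot) h4) (lt_irrefl _)⟩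
  haveI : _root_.IsReduced R := inferInstance
  haveI : AlgebraicGeometry.IsReduced P := isReduced_of_isOpenImmersion (pullback.snd U.ι σ)
  have heq : pullback.snd U.ι σ ≫ l = pullback.fst U.ι σ ≫ a := by
    refine ext_of_isDominant_of_isSeparated g ?_ j ?_
    · rw [Category.assoc, hl₂, Category.assoc, ha, pullback.condition_assoc]
    · rw [pullback.lift_snd_assoc, pullback.lift_fst_assoc]
      exact hl₁
  exact ⟨(FEt.restrict l).obj B,
    ⟨(GrothLib.FEt21.restrictCompIso (pullback.snd U.ι σ) l (pullback.fst U.ι σ ≫ a) heq B).symm ≪≫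
      GrothLib.FEt21.restrictCompIso (pullback.fst U.ι σ) a (pullback.fst U.ι σ ≫ a) rfl B⟩⟩


open AlgebraicGeometry CategoryTheory CategoryTheory.Limits in
/-- Birational invariance of the fundamental group, in terms of finite etale covers: Let X and Y be
proper over a field k, locally Noetherian with all local rings regular, and birational over k: some
dense open of X is k-isomorphic to some dense open of Y. Then the categories of finite etale covers
of X and of Y are equivalent compatibly with restriction to the common dense open. -/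
theorem result (k : Type u) [Field k] {X Y : Scheme.{u}}
    (f : X ⟶ Spec (CommRingCat.of k)) (g : Y ⟶ Spec (CommRingCat.of k)) [IsProper f] [IsProper g]
    [IsLocallyNoetherian X] [IsLocallyNoetherian Y]
    (hX : ∀ x : X, IsRegularLocalRing (X.presheaf.stalk x)) (hY : ∀ y : Y, IsRegularLocalRing (Y.presheaf.stalk y))
    (U : X.Opens) (V : Y.Opens) (hU : Dense (U : Set X)) (hV : Dense (V : Set Y))
    (e : (U : Scheme.{u}) ≅ (V : Scheme.{u})) (he : e.hom ≫ V.ι ≫ g = U.ι ≫ f) :
    ∃ Φ : FEt.Cat X ≌ FEt.Cat Y, Nonempty (FEt.restrict U.ι ≅ Φ.functor ⋙ FEt.restrict V.ι ⋙ FEt.restrict e.hom) := by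
  let F := FEt.restrict U.ι
  let G := FEt.restrict V.ι ⋙ FEt.restrict e.hom
  obtain ⟨_, _⟩ := fullyFaithful_restrict U hU hX
  obtain ⟨_, _⟩ := fullyFaithful_restrict V hV hY
  haveI : UniversallyInjective e.hom := inferInstance
  haveI : IsIntegralHom e.hom := inferInstance
  haveI : Surjective e.hom := inferInstance
  haveI := GrothLib.FEt21.isEquivalence_of_uh e.hom
  haveI := GrothLib.FEt21.isEquivalence_of_uh e.inv
  haveI : G.Full := inferInstance
  haveI : G.Faithful := inferInstance
  have hFG : ∀ A, G.essImage (F.obj A) := fun A => by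
    have h1 : (FEt.restrict V.ι).essImage ((FEt.restrict (e.inv ≫ U.ι)).obj A) :=
      essImage_le g f hY V hV (e.inv ≫ U.ι) (by rw [Category.assoc, ← he, e.inv_hom_id_assoc]) A
    obtain ⟨B, ⟨i⟩⟩ := h1
    exact ⟨B, ⟨(FEt.restrict e.hom).mapIso i ≪≫
      (GrothLib.FEt21.restrictCompIso e.hom (e.inv ≫ U.ι) U.ι (by simp) A).symm⟩⟩
  have hGF : ∀ B, F.essImage (G.obj B) := fun B => by
    have h1 : (FEt.restrict U.ι).essImage ((FEt.restrict (e.hom ≫ V.ι)).obj B) :=
      essImage_le f g hX U hU (e.hom ≫ V.ι) (by rw [Category.assoc, he]) B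
    obtain ⟨A, ⟨i⟩⟩ := h1
    exact ⟨A, ⟨i ≪≫ GrothLib.FEt21.restrictCompIso e.hom V.ι (e.hom ≫ V.ι) rfl B⟩⟩
  let L : FEt.Cat X ⥤ G.EssImageSubcategory := G.essImage.lift F hFG
  haveI : L.EssSurj := ⟨fun ⟨Z, B, ⟨i⟩⟩ => by
    obtain ⟨A, ⟨j⟩⟩ := hGF B
    exact ⟨A, ⟨G.essImage.isoMk (j ≪≫ i)⟩⟩⟩
  haveI : L.Full := inferInstance
  haveI : L.Faithful := inferInstance
  haveI : L.IsEquivalence := {}
  haveI : G.toEssImage.IsEquivalence := {}
  refine ⟨L.asEquivalence.trans G.toEssImage.asEquivalence.symm, ⟨?_⟩⟩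
  exact (G.essImage.liftCompιIso F hFG).symm ≪≫ (Functor.isoWhiskerRight
    ((Functor.isoWhiskerLeft L G.toEssImage.asEquivalence.counitIso.symm).trans (Iso.refl _)) G.essImage.ι) ≪≫
    Iso.refl _

end Groth.Agent.S2918
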