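import Groth.Statements.S18424
import Groth.Agent.Lib.FEt21.HomCover
import Groth.Agent.S2918

set_option autoImplicit false
universe u
open Pi1

namespace Groth.Agent.S18424

open AlgebraicGeometry CategoryTheory CategoryTheory.Limits in
/-- Let k be a field, X and Y integral schemes separated and of finite type over k with X normal and Y
nonsingular (every local ring of Y regular), and f : X → Y a proper k-morphism which is birational,
i.e. an isomorphism over some nonempty open subset V of Y. Then pulling back finite etale covers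
along f is an equivalence between the categories of finite etale covers of Y and of X; in particular
f induces an isomorphism of etale fundamental groups. -/
theorem result (k : Type u) [Field k]
    {X Y : Scheme.{u}} (f : X ⟶ Y) (g : Y ⟶ Spec (CommRingCat.of k))
    [IsSeparated g] [LocallyOfFiniteType g] [QuasiCompact g]
    [IsSeparated (f ≫ g)] [LocallyOfFiniteType (f ≫ g)] [QuasiCompact (f ≫ g)]
    [IsIntegral X] [IsIntegral Y] (hX : Pi1.IsNormalScheme X)
    (hY : ∀ y : Y, IsRegularLocalRing (Y.presheaf.stalk y)) [IsProper f]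
    (V : Y.Opens) (hV : (V : Set Y).Nonempty) (hf : IsIso (f ∣_ V)) :
    (FEt.restrict f).IsEquivalence := by
  haveI : IsLocallyNoetherian Y := LocallyOfFiniteType.isLocallyNoetherian g
  have hU : Dense (V : Set Y) := V.2.dense hV
  let W : X.Opens := f ⁻¹ᵁ V
  haveI := hf
  let fV : (W : Scheme.{u}) ⟶ (V : Scheme.{u}) := f ∣_ V
  haveI : IsIso fV := hf
  have hfV : fV ≫ V.ι = W.ι ≫ f := morphismRestrict_ι f V
  have hW : (W : Set X).Nonempty := by
    obtain ⟨y, hy⟩ := hV
    exact ⟨W.ι (inv fV ⟨y, hy⟩), (inv fV ⟨y, hy⟩).2⟩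
  have hgen : ∀ {S : Scheme.{u}} [IsIntegral S] (O : S.Opens), (O : Set S).Nonempty →
      genericPoint S ∈ Set.range O.ι := fun O hO => by
    rw [Scheme.Opens.range_ι]
    exact (genericPoint_spec _).mem_open_set_iff O.2 |>.2 (by simpa using hO)
  haveI hNY : Pi1.IsNormalScheme Y := fun y => by
    haveI := hY y
    haveI := GrothLib.CMFree.isDomain_of_isRegularLocalRing (Y.presheaf.stalk y)
    haveI := GrothLib.RegUFD.ufd_of_isRegularLocalRing (Y.presheaf.stalk y)
    exact ⟨inferInstance, UniqueFactorizationMonoid.instIsIntegrallyClosed⟩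
  obtain ⟨_, _⟩ := GrothLib.FEt21.fullyFaithful_of_generic W.ι hX (hgen W hW)
  obtain ⟨_, _⟩ := GrothLib.FEt21.fullyFaithful_of_generic V.ι hNY (hgen V hV)
  haveI : UniversallyInjective fV := inferInstance
  haveI : IsIntegralHom fV := inferInstance
  haveI : Surjective fV := inferInstance
  haveI := GrothLib.FEt21.isEquivalence_of_uh fV
  let F := FEt.restrict f
  let R := FEt.restrict W.ι
  let e : F ⋙ R ≅ FEt.restrict V.ι ⋙ FEt.restrict fV :=
    (MorphismProperty.Over.pullbackComp (P := FEt.prop) (Q := ⊤) W.ι f).symm ≪≫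
      MorphismProperty.Over.pullbackCongr (Q := ⊤) hfV.symm ≪≫
      MorphismProperty.Over.pullbackComp (P := FEt.prop) (Q := ⊤) fV V.ι
  haveI : (F ⋙ R).Full := Functor.Full.of_iso e.symm
  haveI : (F ⋙ R).Faithful := Functor.Faithful.of_iso e.symm
  haveI : F.Faithful := Functor.Faithful.of_comp F R
  haveI : F.Full := Functor.Full.of_comp_faithful F R
  haveI : F.EssSurj := ⟨fun A => by
    have h1 : (FEt.restrict V.ι).essImage ((FEt.restrict (inv fV ≫ W.ι)).obj A) :=
      Groth.Agent.S2918.essImage_le (𝟙 Y) f hY V hU (inv fV ≫ W.ι)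
        (by rw [Category.assoc, ← hfV, IsIso.inv_hom_id_assoc, Category.comp_id]) A
    obtain ⟨B, ⟨i⟩⟩ := h1
    refine ⟨B, ⟨R.preimageIso (e.app B ≪≫ (FEt.restrict fV).mapIso i ≪≫
      (GrothLib.FEt21.restrictCompIso fV (inv fV ≫ W.ι) W.ι (by simp) A).symm)⟩⟩⟩
  exact {}

end Groth.Agent.S18424
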