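import Groth.Statements.S18425
import Groth.Agent.Lib.GalCat21.GSet

set_option autoImplicit false
universe u
open Pi1

namespace Groth.Agent.S18425

open CategoryTheory in
/-- In the case of a discrete group G, let F be the forgetful functor from the category of finite G-sets
to finite sets. Then the canonical homomorphism from G to Aut(F), letting g act on every finite
G-set, extends to an isomorphism of topological groups from the profinite completion of G (the limit
of the finite quotients G/U over normal subgroups U of finite index) onto Aut(F) with its profinite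
topology. (The published statement is for an arbitrary topological group G, with finite G-sets
carrying a continuous action and the completion taken over open normal subgroups of finite index;
this row is the case of a discrete group.) -/
theorem result (G : Type u) [Group G] :
    ∃ φ : (ProfiniteGrp.ProfiniteCompletion.completion (GrpCat.of G)) ≃ₜ* Aut (Action.forget FintypeCat.{u} G),
      ∀ (g : G) (X : Action FintypeCat.{u} G) (x : X.V),
        (φ (ProfiniteGrp.ProfiniteCompletion.etaFn (GrpCat.of G) g)).hom.app X x = (X.ρ g).hom x := by
  open CategoryTheory GrothLib.GalCat21 PreGaloisCategory ProfiniteGrp.ProfiniteCompletion in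
    let F := Action.forget FintypeCat.{u} G
    let app : G → ∀ X : Action FintypeCat.{u} G, F.obj X ≅ F.obj X := fun g X =>
      FintypeCat.equivEquivIso (permHom X g)
    let ι : G →* Aut F :=
      { toFun := fun g => NatIso.ofComponents (app g) (fun {X Y} f => by
          ext x
          exact congrArg (fun m : X.V ⟶ Y.V => m x) (f.comm g).symm)
        map_one' := aut_ext fun X x => rho_one X x
        map_mul' := fun g h => aut_ext fun X x => rho_mul X g h x }
    have hdense : DenseRange ι := by
      refine denseRange_of_approx F ι fun σ J => ?_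
      let N : Subgroup G := ⨅ X : J, (permHom X.1).ker
      haveI : N.Normal := Subgroup.normal_iInf_normal fun X => inferInstance
      haveI : N.FiniteIndex := Subgroup.finiteIndex_iInf fun X => inferInstance
      obtain ⟨g, hg⟩ := QuotientGroup.mk_surjective (σ.hom.app (cosetAct N) (QuotientGroup.mk 1 : G ⧸ N) : G ⧸ N)
      refine ⟨g, fun X hX x => ?_⟩
      have hx : ∀ n ∈ N, (X.ρ n).hom x = x := fun n hn =>
        Equiv.Perm.ext_iff.1 (MonoidHom.mem_ker.1 (Subgroup.mem_iInf.1 hn ⟨X, hX⟩)) x
      have e : σ.hom.app X (F.map (orbitHom N X x hx) (QuotientGroup.mk 1 : G ⧸ N)) =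
          F.map (orbitHom N X x hx) (σ.hom.app (cosetAct N) (QuotientGroup.mk 1 : G ⧸ N)) :=
        congrArg (fun m : F.obj (cosetAct N) ⟶ F.obj X => m (QuotientGroup.mk 1 : G ⧸ N))
          (σ.hom.naturality (orbitHom N X x hx))
      rw [← hg] at e
      change σ.hom.app X ((X.ρ 1).hom x) = (X.ρ g).hom x at e
      exact ((congrArg (σ.hom.app X) (rho_one X x)).symm.trans e).symm
    let K : Action FintypeCat.{u} G → FiniteIndexNormalSubgroup (GrpCat.of G) := fun X =>
      FiniteIndexNormalSubgroup.ofSubgroup (G := GrpCat.of G) (permHom X).ker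
    have hrep : ∀ (z : completion (GrpCat.of G)) (L L' : FiniteIndexNormalSubgroup (GrpCat.of G)),
        ∃ g : G, z.1 L = QuotientGroup.mk g ∧ z.1 L' = QuotientGroup.mk g := by
      intro z L L'
      obtain ⟨g, hg⟩ := QuotientGroup.mk_surjective (z.1 (L ⊓ L'))
      refine ⟨g, ?_, ?_⟩
      · rw [← z.2 (homOfLE (inf_le_left : L ⊓ L' ≤ L)), ← hg]; rfl
      · rw [← z.2 (homOfLE (inf_le_right : L ⊓ L' ≤ L')), ← hg]; rfl
    let act : completion (GrpCat.of G) → ∀ X : Action FintypeCat.{u} G, Equiv.Perm X.V := fun z X =>
      QuotientGroup.kerLift (permHom X) (z.1 (K X))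
    have hact : ∀ z X (g : G), z.1 (K X) = QuotientGroup.mk g → ∀ x : X.V, act z X x = (X.ρ g).hom x :=
      fun z X g hg x => by
      change QuotientGroup.kerLift (permHom X) (z.1 (K X)) x = _
      rw [hg]
      rfl
    let φ : completion (GrpCat.of G) →* Aut F :=
      { toFun := fun z => NatIso.ofComponents (fun X => FintypeCat.equivEquivIso (act z X)) (fun {X Y} f => by
          ext x
          obtain ⟨g, hgX, hgY⟩ := hrep z (K X) (K Y)
          change act z Y (f.hom x) = f.hom (act z X x)
          exact (hact z Y g hgY (f.hom x)).trans ((congrArg (fun m : X.V ⟶ Y.V => m x) (f.comm g).symm).trans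
            (congrArg f.hom (hact z X g hgX x)).symm))
        map_one' := aut_ext fun X x => (hact 1 X 1 rfl x).trans (rho_one X x)
        map_mul' := fun z w => aut_ext fun X x =>
          Equiv.Perm.ext_iff.1 (map_mul (QuotientGroup.kerLift (permHom X)) (z.1 (K X)) (w.1 (K X))) x }
    have hφ : ∀ g, φ (etaFn (GrpCat.of G) g) = ι g := fun g => aut_ext fun X x => hact _ X g rfl x
    have hcont : Continuous φ := by
      refine continuous_induced_rng.2 (continuous_pi fun X => ?_)
      have h1 : Continuous fun z : completion (GrpCat.of G) => z.1 (K X) :=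
        (continuous_apply (K X)).comp continuous_subtype_val
      haveI : DiscreteTopology ((diagram (GrpCat.of G)).obj (K X)) := ⟨rfl⟩
      exact (continuous_of_discreteTopology (α := (diagram (GrpCat.of G)).obj (K X))
        (β := Aut (F.obj X)) (f := fun q => FintypeCat.equivEquivIso (QuotientGroup.kerLift (permHom X) q))).comp h1
    have hinj : Function.Injective φ := fun z w h => by
      refine Subtype.ext (funext fun N => ?_)
      haveI : Subgroup.FiniteIndex (G := G) N.toSubgroup := N.isFiniteIndex'
      let C := cosetAct (G := G) N.toSubgroup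
      obtain ⟨g, hgC, hgN⟩ := hrep z (K C) N
      obtain ⟨g', hgC', hgN'⟩ := hrep w (K C) N
      have e : act z C (QuotientGroup.mk 1 : G ⧸ N.toSubgroup) = act w C (QuotientGroup.mk 1 : G ⧸ N.toSubgroup) :=
        congrArg (fun σ : Aut F => σ.hom.app C (QuotientGroup.mk 1 : G ⧸ N.toSubgroup)) h
      replace e := (hact z C g hgC _).symm.trans (e.trans (hact w C g' hgC' _))
      change (QuotientGroup.mk (g * 1) : G ⧸ N.toSubgroup) = QuotientGroup.mk (g' * 1) at e
      rw [_root_.mul_one, _root_.mul_one] at e
      rw [hgN, hgN']
      exact e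
    have hsurj : Function.Surjective φ := fun σ => by
      have hc : IsClosed (Set.range φ) := (isCompact_range hcont).isClosed
      have hsub : Set.range ι ⊆ Set.range φ := fun _ ⟨g, hg⟩ => ⟨_, (hφ g).trans hg⟩
      exact hc.closure_subset_iff.2 hsub (hdense σ)
    let e : completion (GrpCat.of G) ≃ₜ* Aut F :=
      { MulEquiv.ofBijective φ ⟨hinj, hsurj⟩ with
        continuous_toFun := hcont
        continuous_invFun := Continuous.continuous_symm_of_equiv_compact_to_t2
          (f := (MulEquiv.ofBijective φ ⟨hinj, hsurj⟩).toEquiv) hcont }
    exact ⟨e, fun g X x => hact _ X g rfl x⟩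

end Groth.Agent.S18425
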