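import Groth.Statements.S18426
import Groth.Agent.Lib.Japanese.Curve
import Mathlib.RingTheory.LocalProperties.IntegrallyClosed
import Mathlib.RingTheory.DedekindDomain.IntegralClosure
import Mathlib.AlgebraicGeometry.Noetherian

set_option autoImplicit false
universe u
open Pi1

namespace Groth.Agent.S18426

open AlgebraicGeometry CategoryTheory CategoryTheory.Limits in
open AlgebraicGeometry CategoryTheory CategoryTheory.Limits in
theorem isIntegrallyClosed_app {X : Scheme.{u}} [IsIntegral X] (hX : Pi1.IsNormalScheme X)
    {U : X.Opens} (hU : IsAffineOpen U) [Nonempty U] : IsIntegrallyClosed Γ(X, U) := by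
  refine IsIntegrallyClosed.of_localization_maximal fun P _ hP => ?_
  let p : PrimeSpectrum Γ(X, U) := ⟨P, hP.isPrime⟩
  obtain ⟨x, hx⟩ : ∃ x : U, hU.primeIdealOf x = p := by
    refine ⟨⟨hU.fromSpec p, ?_⟩, ?_⟩
    · exact (SetLike.mem_coe).mp (hU.range_fromSpec.subset (Set.mem_range_self p))
    · exact hU.fromSpec.isOpenEmbedding.injective (by rw [hU.fromSpec_primeIdealOf])
  let _ := TopCat.Presheaf.algebra_section_stalk X.presheaf x
  have := hU.isLocalization_stalk x
  rw [hx] at this
  have := (hX x).2
  exact IsIntegrallyClosed.of_equiv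
    (IsLocalization.algEquiv P.primeCompl (X.presheaf.stalk x.1) (Localization.AtPrime P)).toRingEquiv

open AlgebraicGeometry CategoryTheory CategoryTheory.Limits in
theorem finite_chart {X : Scheme.{u}} [IsIntegral X] [IsLocallyNoetherian X] (hX : Pi1.IsNormalScheme X)
    (L : Type u) [Field L] [Algebra X.functionField L] [FiniteDimensional X.functionField L]
    [Algebra.IsSeparable X.functionField L] (g : Spec (CommRingCat.of L) ⟶ X)
    (hg : g = Spec.map (CommRingCat.ofHom (algebraMap X.functionField L)) ≫ X.fromSpecStalk (genericPoint X))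
    (U : X.Opens) (hU : IsAffineOpen U) (hne : Nonempty U) :
    letI := (g.app U).hom.toAlgebra
    Module.Finite Γ(X, U) (integralClosure Γ(X, U) Γ(Spec (CommRingCat.of L), g ⁻¹ᵁ U)) := by
  have hη : genericPoint X ∈ U := ((genericPoint_spec X).mem_open_set_iff U.isOpen).mpr (by simpa using hne)
  have htop : g ⁻¹ᵁ U = ⊤ := by
    refine top_le_iff.mp fun z _ => ?_
    change g z ∈ U
    rw [hg, Scheme.Hom.comp_apply]
    have : X.fromSpecStalk (genericPoint X)
        (Spec.map (CommRingCat.ofHom (algebraMap X.functionField L)) z) ∈
        Set.range (X.fromSpecStalk (genericPoint X)) := ⟨_, rfl⟩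
    rw [Scheme.range_fromSpecStalk] at this
    exact this.mem_open U.isOpen hη
  let e0 : Γ(Spec (CommRingCat.of L), g ⁻¹ᵁ U) ≅ CommRingCat.of L :=
    (Spec (CommRingCat.of L)).presheaf.mapIso (eqToIso htop.symm).op ≪≫ Scheme.ΓSpecIso (CommRingCat.of L)
  let e : Γ(Spec (CommRingCat.of L), g ⁻¹ᵁ U) ≃+* L := e0.commRingCatIsoToRingEquiv
  have hcomp : g.app U ≫ e0.hom =
      X.germToFunctionField U ≫ CommRingCat.ofHom (algebraMap X.functionField L) := by
    subst hg
    change _ ≫ _ ≫ _ = _
    rw [Scheme.Hom.comp_app, Scheme.fromSpecStalk_app hη]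
    refine ((Category.assoc _ _ _).trans (Category.assoc _ _ _)).trans ?_
    refine congrArg (X.presheaf.germ U (genericPoint X) hη ≫ ·) ?_
    refine GrothLib.Japanese.Spec_map_app_aux (CommRingCat.ofHom (algebraMap X.functionField L))
      (W := X.fromSpecStalk (genericPoint X) ⁻¹ᵁ U) (top_le_iff.mp fun z _ => ?_) htop
    have : X.fromSpecStalk (genericPoint X) z ∈ Set.range (X.fromSpecStalk (genericPoint X)) := ⟨z, rfl⟩
    rw [Scheme.range_fromSpecStalk] at this
    exact this.mem_open U.isOpen hη
  have he : ∀ a, e (g.app U a) = algebraMap X.functionField L (X.germToFunctionField U a) := fun a =>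
    congrArg (fun ψ => ψ.hom a) hcomp
  let A := Γ(X, U)
  let B := Γ(Spec (CommRingCat.of L), g ⁻¹ᵁ U)
  have hB : IsField B := MulEquiv.isField (Field.toIsField L) e.toMulEquiv
  letI : Field B := hB.toField
  letI : Algebra A B := (g.app U).hom.toAlgebra
  haveI : IsFractionRing A X.functionField := functionField_isFractionRing_of_isAffineOpen X U hU
  letI : Algebra X.functionField B :=
    (e.symm.toRingHom.comp (algebraMap X.functionField L)).toAlgebra
  haveI : IsScalarTower A X.functionField B := IsScalarTower.of_algebraMap_eq fun a => by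
    apply e.injective
    change e (g.app U a) = e (e.symm (algebraMap X.functionField L _))
    rw [he, RingEquiv.apply_symm_apply]
    rfl
  let eB : L ≃ₐ[X.functionField] B := AlgEquiv.ofRingEquiv (f := e.symm) fun _ => rfl
  haveI : FiniteDimensional X.functionField B := eB.toLinearEquiv.finiteDimensional
  haveI : Algebra.IsSeparable X.functionField B := Algebra.IsSeparable.of_algHom _ L eB.symm.toAlgHom
  haveI := isIntegrallyClosed_app hX hU
  haveI : IsNoetherianRing A := IsLocallyNoetherian.component_noetherian ⟨U, hU⟩
  exact IsIntegralClosure.finite A X.functionField B (integralClosure A B)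

open AlgebraicGeometry CategoryTheory CategoryTheory.Limits in

/-- Suppose X is an integral scheme that is Noetherian and normal, write K for its function field, and
take L to be a finite separable extension of K. Then the normalization of X in L, namely the
relative normalization of the morphism Spec L → Spec K → X, is finite over X. (That this
normalization is a normal integral scheme with function field L is not restated.) -/
theorem result {X : Scheme.{u}} [IsIntegral X] [IsNoetherian X]
    (hX : Pi1.IsNormalScheme X) (L : Type u) [Field L] [Algebra X.functionField L] [FiniteDimensional X.functionField L]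
    [Algebra.IsSeparable X.functionField L]
    [QuasiCompact (Spec.map (CommRingCat.ofHom (algebraMap X.functionField L)) ≫ X.fromSpecStalk (genericPoint X))]
    [QuasiSeparated (Spec.map (CommRingCat.ofHom (algebraMap X.functionField L)) ≫ X.fromSpecStalk (genericPoint X))] :
    IsFinite (Spec.map (CommRingCat.ofHom (algebraMap X.functionField L)) ≫ X.fromSpecStalk (genericPoint X)).fromNormalization := by
  let g := Spec.map (CommRingCat.ofHom (algebraMap X.functionField L)) ≫ X.fromSpecStalk (genericPoint X)
  show IsFinite g.fromNormalization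
  refine (isFinite_iff _).mpr ⟨inferInstance, fun U hU => ?_⟩
  rw [g.fromNormalization_app hU, CommRingCat.hom_comp]
  letI := (g.app U).hom.toAlgebra
  refine (RingHom.Finite.of_surjective _
    (ConcreteCategory.bijective_of_isIso (g.normalizationObjIso hU).inv).2).comp ?_
  rw [CommRingCat.hom_ofHom]
  refine RingHom.finite_algebraMap.mpr ?_
  by_cases hne : Nonempty U
  · exact finite_chart hX L g rfl U hU hne
  · haveI : Subsingleton Γ(Spec (CommRingCat.of L), g ⁻¹ᵁ U) := by
      have hb : g ⁻¹ᵁ U = ⊥ := by
        rw [show U = ⊥ from TopologicalSpace.Opens.ext (Set.eq_empty_iff_forall_notMem.mpr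
          fun x hx => hne ⟨⟨x, hx⟩⟩)]
        rfl
      exact CommRingCat.subsingleton_of_isTerminal
        ((Spec (CommRingCat.of L)).sheaf.isTerminalOfEqEmpty hb)
    exact inferInstance

end Groth.Agent.S18426
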