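import Groth.Statements.S18427
import Groth.Agent.Lib.ArSurf29.GlobalFun
import Groth.Agent.Lib.ArSurf29.Global
import Groth.Agent.Lib.SecComp6.Smooth

set_option autoImplicit false
universe u
open Models

namespace Groth.Agent.S18427

open CategoryTheory AlgebraicGeometry in
/-- Let R be a discrete valuation ring with fraction field K, C a smooth proper geometrically connected
curve over K, and X a regular proper model of C over R (flat and proper over R, regular, with
generic fibre C). Then the structure morphism X → Spec R has geometrically connected fibres; in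
particular the special fibre of X is geometrically connected over the residue field of R. -/
theorem result (R : Type u) [CommRing R] [IsDomain R]
    [IsDiscreteValuationRing R] (C X : Scheme.{u})
    (f : C ⟶ Spec (CommRingCat.of (FractionRing R))) (p : X ⟶ Spec (CommRingCat.of R))
    (hC : Curve.IsSmoothProperCurve (FractionRing R) C f) [GeometricallyConnected f]
    (hX : Models.IsRegularProperModel R X p C f) :
    GeometricallyConnected p := by
  haveI : Flat p := hX.1.1
  haveI : IsProper p := hX.2.1
  haveI : IsLocallyNoetherian (Spec (CommRingCat.of R)) := inferInstance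
  haveI : Flat (Over.mk p).hom := hX.1.1
  haveI : IsProper (Over.mk p).hom := hX.2.1
  obtain ⟨g, hg⟩ := hX.1.2.2.2
  haveI := hC.1
  haveI := hC.2.1
  haveI := hC.2.2.1
  haveI : GeometricallyReduced f := GrothLib.SecComp6.geometricallyReduced_of_smooth f
  have hH0 : IsIso f.appTop := GrothLib.ArSurf29.isIso_appTop_of_geometrically f
  haveI : Nonempty C := hC.2.2.1.nonempty
  haveI : Nonempty (⊤ : C.Opens) := ⟨⟨Nonempty.some inferInstance, trivial⟩⟩
  have hsur := GrothLib.ArSurf29.toGlobal_surjective (X := Over.mk p) hg hH0
  let K := FractionRing R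
  have hcomp : ∀ r : R, g.appTop (Coh.toGlobal p r) = f.appTop ((Scheme.ΓSpecIso (CommRingCat.of K)).inv (algebraMap R K r)) := fun r => by
    show ((Scheme.ΓSpecIso (CommRingCat.of R)).inv ≫ p.appTop ≫ g.appTop) r =
      ((CommRingCat.ofHom (algebraMap R K) ≫ (Scheme.ΓSpecIso (CommRingCat.of K)).inv) ≫ f.appTop) r
    rw [← Scheme.Hom.comp_appTop, hg.w, Scheme.Hom.comp_appTop, Scheme.ΓSpecIso_inv_naturality, Category.assoc]
  have hinj : Function.Injective (Coh.toGlobal p) := fun r r' h => by
    refine IsFractionRing.injective R K ((Scheme.ΓSpecIso (CommRingCat.of K)).commRingCatIsoToRingEquiv.symm.injective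
      ((ConcreteCategory.bijective_of_isIso f.appTop).1 ?_))
    exact ((hcomp r).symm.trans (congrArg g.appTop h)).trans (hcomp r')
  haveI : IsIso (p.app ⊤) := (ConcreteCategory.isIso_iff_bijective _).2 (by
    refine (Function.Bijective.of_comp_iff _ (Scheme.ΓSpecIso (CommRingCat.of R)).commRingCatIsoToRingEquiv.symm.bijective).1 ?_
    have hb : Function.Bijective ⇑(Coh.toGlobal p) := ⟨hinj, hsur⟩
    have e : ⇑(Coh.toGlobal p) = p.appTop.hom ∘ (Scheme.ΓSpecIso (CommRingCat.of R)).inv.hom := rfl
    rw [e] at hb
    exact hb)
  rw [GeometricallyConnected.iff_geometricallyConnected_fiber]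
  exact fun y => GrothLib.Stein.geometricallyConnected_fiber p y (isAffineOpen_top _) trivial

end Groth.Agent.S18427
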