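import Groth.Statements.S18428
import Groth.Agent.Lib.GalCat21.GSet
import Mathlib.Topology.Algebra.Group.Quotient
import Mathlib.Tactic.Group

set_option autoImplicit false
universe u
open scoped FintypeCatDiscrete
open Pi1

namespace Groth.Agent.S18428

open CategoryTheory in
open CategoryTheory GrothLib.GalCat21 PreGaloisCategory in
theorem isOpen_stab {G : Type u} [Group G] [TopologicalSpace G] (X : ContAction FintypeCat.{u} G) (x y : X.obj.V) :
    IsOpen {g : G | (X.obj.ρ g).hom x = y} := by
  have hc : Continuous fun g : G => (g • x : (forget₂ (Action FintypeCat.{u} G) TopCat).obj X.obj) :=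
    X.property.continuous_smul.comp (continuous_id.prodMk continuous_const)
  exact hc.isOpen_preimage {y} (@isOpen_discrete X.obj.V ⊥ ⟨rfl⟩ _)

open CategoryTheory GrothLib.GalCat21 PreGaloisCategory in
theorem isContinuous_of_isOpen {G : Type u} [Group G] [TopologicalSpace G] (X : Action FintypeCat.{u} G)
    (h : ∀ x y : X.V, IsOpen {g : G | (X.ρ g).hom x = y}) : X.IsContinuous := by
  rw [Action.isContinuous_def]
  haveI : DiscreteTopology ↑((forget₂ FintypeCat.{u} TopCat).obj X.V) := ⟨rfl⟩
  haveI : DiscreteTopology ↑((forget₂ (Action FintypeCat.{u} G) TopCat).obj X) := ⟨rfl⟩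
  refine continuous_prod_of_discrete_right.2 fun x => ?_
  exact continuous_discrete_rng.2 fun y => h x y

open CategoryTheory GrothLib.GalCat21 in
/-- A continuous homomorphism to a finite group as a continuous finite `G`-set. -/
noncomputable def regular {G Q : Type u} [Group G] [TopologicalSpace G] [Group Q] [Finite Q] [TopologicalSpace Q]
    [DiscreteTopology Q] (π : G →* Q) (hπ : Continuous π) : ContAction FintypeCat.{u} G :=
  letI := MulAction.compHom Q π
  ⟨Action.FintypeCat.ofMulAction G (FintypeCat.of Q), isContinuous_of_isOpen _ fun x y => by
    change IsOpen {g : G | π g * (show Q from x) = (show Q from y)}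
    exact (hπ.mul continuous_const).isOpen_preimage {(show Q from y)} (isOpen_discrete _)⟩

open CategoryTheory GrothLib.GalCat21 in
/-- Right multiplication on the regular object. -/
noncomputable def rightMul {G Q : Type u} [Group G] [TopologicalSpace G] [Group Q] [Finite Q] [TopologicalSpace Q]
    [DiscreteTopology Q] (π : G →* Q) (hπ : Continuous π) (q : Q) : regular π hπ ⟶ regular π hπ :=
  ObjectProperty.homMk
    { hom := FintypeCat.homMk fun a : Q => a * q
      comm := fun g => by
        letI := MulAction.compHom Q π
        ext a
        exact _root_.mul_assoc (π g) a q }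

open CategoryTheory in

/-- Let G be a topological group, consider the category of finite sets (with the discrete topology)
equipped with a continuous action of G, and let F be the forgetful functor to finite sets, so that
Aut(F) is a profinite group. Then the homomorphism ι : G → Aut(F) letting g act on every finite
continuous G-set exists and is continuous, has dense image, and every continuous homomorphism from G
to a finite discrete group factors uniquely through ι by a continuous homomorphism on Aut(F). As
Aut(F) is profinite, these properties say that ι induces an isomorphism of topological groups from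
the profinite completion of G (the limit of the quotients G/U by open normal subgroups of finite
index) onto Aut(F). -/
theorem result (G : Type u) [Group G]
    [TopologicalSpace G] [IsTopologicalGroup G] :
    ∃ ι : G →* Aut (forget₂ (ContAction FintypeCat.{u} G) FintypeCat.{u}),
      Continuous ι ∧
      (∀ (g : G) (X : ContAction FintypeCat.{u} G) (x : X.obj.V), (ι g).hom.app X x = (X.obj.ρ g).hom x) ∧
      DenseRange ι ∧
      ∀ (Q : Type u) [Group Q] [Finite Q] [TopologicalSpace Q] [DiscreteTopology Q] (π : G →* Q),
        Continuous π → ∃! ψ : Aut (forget₂ (ContAction FintypeCat.{u} G) FintypeCat.{u}) →* Q,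
          Continuous ψ ∧ ψ.comp ι = π := by
  open CategoryTheory GrothLib.GalCat21 PreGaloisCategory in
    let F := forget₂ (ContAction FintypeCat.{u} G) FintypeCat.{u}
    let app : G → ∀ X : ContAction FintypeCat.{u} G, F.obj X ≅ F.obj X := fun g X =>
      FintypeCat.equivEquivIso (permHom X.obj g)
    let ι : G →* Aut F :=
      { toFun := fun g => NatIso.ofComponents (app g) (fun {X Y} f => by
          ext x
          exact congrArg (fun m : X.obj.V ⟶ Y.obj.V => m x) (f.hom.comm g).symm)
        map_one' := aut_ext fun X x => rho_one X.obj x
        map_mul' := fun g h => aut_ext fun X x => rho_mul X.obj g h x }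
    have hι : ∀ g (X : ContAction FintypeCat.{u} G) (x : X.obj.V), (ι g).hom.app X x = (X.obj.ρ g).hom x :=
      fun g X x => rfl
    have hdense : DenseRange ι := by
      refine denseRange_of_approx F ι fun σ J => ?_
      let N : Subgroup G := ⨅ X : J, (permHom X.1.obj).ker
      haveI : N.Normal := Subgroup.normal_iInf_normal fun X => inferInstance
      haveI : N.FiniteIndex := Subgroup.finiteIndex_iInf fun X => inferInstance
      have hN : IsOpen (N : Set G) := by
        simp only [N, Subgroup.coe_iInf]
        refine isOpen_iInter_of_finite fun X => ?_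
        have : ((permHom X.1.obj).ker : Set G) = ⋂ x, {g | (X.1.obj.ρ g).hom x = x} := by
          ext g
          simp only [SetLike.mem_coe, MonoidHom.mem_ker, Set.mem_iInter]
          exact Equiv.Perm.ext_iff
        rw [this]
        exact isOpen_iInter_of_finite fun x => isOpen_stab X.1 x x
      let C : ContAction FintypeCat.{u} G := ⟨cosetAct N, isContinuous_of_isOpen _ fun x y => by
        induction x using QuotientGroup.induction_on with
        | H a =>
          induction y using QuotientGroup.induction_on with
          | H b =>
            change IsOpen {g : G | (QuotientGroup.mk (g * a) : G ⧸ N) = QuotientGroup.mk b}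
            haveI := QuotientGroup.discreteTopology hN
            exact ((QuotientGroup.continuous_mk (N := N)).comp
              (continuous_id.mul continuous_const)).isOpen_preimage {QuotientGroup.mk b} (isOpen_discrete _)⟩
      obtain ⟨g, hg⟩ := QuotientGroup.mk_surjective (σ.hom.app C (QuotientGroup.mk 1 : G ⧸ N) : G ⧸ N)
      refine ⟨g, fun X hX x => ?_⟩
      have hx : ∀ n ∈ N, (X.obj.ρ n).hom x = x := fun n hn =>
        Equiv.Perm.ext_iff.1 (MonoidHom.mem_ker.1 (Subgroup.mem_iInf.1 hn ⟨X, hX⟩)) x
      let f : C ⟶ X := ObjectProperty.homMk (orbitHom N X.obj x hx)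
      have e : σ.hom.app X (F.map f (QuotientGroup.mk 1 : G ⧸ N)) =
          F.map f (σ.hom.app C (QuotientGroup.mk 1 : G ⧸ N)) :=
        congrArg (fun m : F.obj C ⟶ F.obj X => m (QuotientGroup.mk 1 : G ⧸ N)) (σ.hom.naturality f)
      rw [← hg] at e
      change σ.hom.app X ((X.obj.ρ 1).hom x) = (X.obj.ρ g).hom x at e
      refine Eq.trans ?_ ((congrArg (σ.hom.app X) (rho_one X.obj x)).symm.trans e).symm
      rfl
    have hcont : Continuous ι := by
      refine continuous_induced_rng.2 (continuous_pi fun X => continuous_discrete_rng.2 fun τ => ?_)
      have : (fun g => autEmbedding F (ι g) X) ⁻¹' {τ} = ⋂ x, {g | (X.obj.ρ g).hom x = τ.hom x} := by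
        ext g
        simp only [Set.mem_preimage, Set.mem_singleton_iff, Set.mem_iInter]
        exact ⟨fun h x => by rw [← h]; rfl, fun h => Iso.ext (FintypeCat.hom_ext _ _ h)⟩
      change IsOpen ((fun g => autEmbedding F (ι g) X) ⁻¹' {τ})
      rw [this]
      exact isOpen_iInter_of_finite fun x => isOpen_stab X x _
    refine ⟨ι, hcont, hι, hdense, fun Q _ _ _ _ π hπ => ?_⟩
    let R := regular π hπ
    let ev : Aut F → Q := fun σ => σ.hom.app R (1 : Q)
    have hev : ∀ (σ : Aut F) (q : Q), (σ.hom.app R q : Q) = ev σ * q := fun σ q => by
      have := congrArg (fun m : F.obj R ⟶ F.obj R => m (1 : Q)) (σ.hom.naturality (rightMul π hπ q))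
      change σ.hom.app R ((1 : Q) * q : Q) = ev σ * q at this
      rwa [_root_.one_mul] at this
    let ψ : Aut F →* Q :=
      { toFun := ev
        map_one' := rfl
        map_mul' := fun σ τ => hev σ (ev τ) }
    have hψc : Continuous ψ := by
      have h1 : Continuous fun σ : Aut F => autEmbedding F σ R :=
        (continuous_apply R).comp continuous_induced_dom
      have h2 : Continuous (Y := Q) fun τ : Aut (F.obj R) => (show Q from τ.hom (1 : Q)) := continuous_of_discreteTopology
      exact h2.comp h1
    have hψι : ψ.comp ι = π := MonoidHom.ext fun g => _root_.mul_one (π g)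
    refine ⟨ψ, ⟨hψc, hψι⟩, fun χ hχ => ?_⟩
    exact DFunLike.coe_injective (hdense.equalizer hχ.1 hψc (funext fun g =>
      (DFunLike.congr_fun hχ.2 g).trans (DFunLike.congr_fun hψι g).symm))

end Groth.Agent.S18428
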