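import Groth.Statements.S18429
import Mathlib

set_option autoImplicit false
universe u
open SpinCurv

namespace Groth.Agent.S18429

/-- Let n ≥ 1 and r ≥ 2 be integers and let e_0, …, e_{nr} be integers with e_0 = e_{nr} = 0 (the
coefficients of a chain of nr - 1 exceptional curves joining two non-exceptional components with
coefficient zero) such that at every interior index 1 ≤ j ≤ nr - 1 the second difference e_{j-1} - 2
e_j + e_{j+1} (the degree of the divisor Σ e_i E_i on the j-th curve of the chain) is divisible by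
r. Then there are integers e'_0, …, e'_{nr}, with e'_j ≡ e_j modulo r for every interior j, with
e'_0 = e'_{nr} = 0 and every e'_j ≤ 0, whose second differences at the interior indices are each 0
or r, and are nonzero at no two distinct interior indices. -/
theorem result (n r : ℕ) (hn : 1 ≤ n) (hr : 2 ≤ r)
    (e : ℕ → ℤ) (he0 : e 0 = 0) (henr : e (n * r) = 0)
    (hdiv : ∀ j : ℕ, 1 ≤ j → j < n * r → (r : ℤ) ∣ e (j - 1) - 2 * e j + e (j + 1)) :
    ∃ e' : ℕ → ℤ, e' 0 = 0 ∧ e' (n * r) = 0 ∧
      (∀ j : ℕ, 1 ≤ j → j < n * r → (r : ℤ) ∣ e' j - e j) ∧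
      (∀ j : ℕ, j ≤ n * r → e' j ≤ 0) ∧
      (∀ j : ℕ, 1 ≤ j → j < n * r →
        (e' (j - 1) - 2 * e' j + e' (j + 1) = 0 ∨ e' (j - 1) - 2 * e' j + e' (j + 1) = r)) ∧
      (∀ j j' : ℕ, 1 ≤ j → j < n * r → 1 ≤ j' → j' < n * r →
        e' (j - 1) - 2 * e' j + e' (j + 1) ≠ 0 → e' (j' - 1) - 2 * e' j' + e' (j' + 1) ≠ 0 → j = j') := by
  have key : ∀ j : ℕ, j ≤ n * r → (r : ℤ) ∣ e j - j * e 1 := by
    intro j
    induction j using Nat.strong_induction_on with
    | _ j ih =>
      intro hj
      match j with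
      | 0 => simp [he0]
      | 1 => simp
      | k + 2 =>
        have h0 := ih k (by omega) (by omega)
        have h1 := ih (k + 1) (by omega) (by omega)
        have h2 := hdiv (k + 1) (by omega) (by omega)
        simp only [Nat.add_sub_cancel] at h2
        have := (dvd_sub (dvd_add h2 (dvd_mul_of_dvd_right h1 (2 : ℤ))) h0)
        exact this.trans (dvd_of_eq (by push_cast; ring))
  set a : ℤ := e 1 % r with ha
  have hr0 : (0 : ℤ) < r := by omega
  have ha0 : 0 ≤ a := Int.emod_nonneg _ hr0.ne'
  have har : a < r := Int.emod_lt_of_pos _ hr0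
  refine ⟨fun j => max ((a - r) * j) (a * ((j : ℤ) - n * r)), ?_, ?_, ?_, ?_, ?_, ?_⟩
  · have : 0 ≤ a * ((n : ℤ) * r) := mul_nonneg ha0 (by positivity)
    simp; linarith
  · have : (a - r) * ((n * r : ℕ) : ℤ) ≤ 0 := mul_nonpos_of_nonpos_of_nonneg (by linarith) (by positivity)
    simp only [Nat.cast_mul, sub_self, mul_zero]; exact max_eq_right (by simpa using this)
  · intro j h1 h2
    have h := key j h2.le
    have hd : (r : ℤ) ∣ e 1 - a := Int.dvd_self_sub_emod
    simp only
    rcases max_choice ((a - r) * (j : ℤ)) (a * ((j : ℤ) - n * r)) with hm | hm <;> rw [hm]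
    · have : (r : ℤ) ∣ (a - r) * j - e j := by
        have := dvd_add h (dvd_add (dvd_mul_of_dvd_left hd (j : ℤ)) (dvd_mul_right (r : ℤ) j))
        rw [← dvd_neg]; convert this using 1; ring
      exact this
    · have := dvd_add h (dvd_add (dvd_mul_of_dvd_left hd (j : ℤ)) (dvd_mul_right (r : ℤ) (a * n)))
      rw [← dvd_neg]; convert this using 1; ring
  · intro j hj
    have : (j : ℤ) ≤ n * r := by exact_mod_cast hj
    refine max_le (mul_nonpos_of_nonpos_of_nonneg (by linarith) (by positivity))
      (mul_nonpos_of_nonneg_of_nonpos ha0 (by linarith))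
  all_goals
    have hk : ∀ k : ℤ, max ((a - r) * k) (a * (k - n * r)) =
        if k ≤ n * a then (a - r) * k else a * (k - n * r) := by
      intro k
      split_ifs with h
      · exact max_eq_left (by nlinarith)
      · exact max_eq_right (by nlinarith)
    have hsd : ∀ j : ℕ, 1 ≤ j →
        (max ((a - r) * ((j - 1 : ℕ) : ℤ)) (a * (((j - 1 : ℕ) : ℤ) - n * r)) -
          2 * max ((a - r) * (j : ℤ)) (a * ((j : ℤ) - n * r)) +
          max ((a - r) * ((j + 1 : ℕ) : ℤ)) (a * (((j + 1 : ℕ) : ℤ) - n * r))) =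
        if (j : ℤ) = n * a then (r : ℤ) else 0 := by
      intro j hj
      rw [Nat.cast_sub hj, Nat.cast_add, Nat.cast_one, hk, hk, hk]
      rcases lt_trichotomy (j : ℤ) (n * a) with h | h | h
      · rw [if_pos (by omega), if_pos (by omega), if_pos (by omega), if_neg (by omega)]; ring
      · rw [if_pos (by omega), if_pos (by omega), if_neg (by omega), if_pos h, h]; ring
      · rw [if_neg (by omega : ¬ (j : ℤ) ≤ n * a), if_neg (by omega : ¬ (j : ℤ) + 1 ≤ n * a),
          if_neg (by omega : ¬ (j : ℤ) = n * a)]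
        split_ifs with h'
        · have hj' : (j : ℤ) = n * a + 1 := by omega
          rw [hj']; ring
        · ring
  · intro j h1 h2
    rw [hsd j h1]
    split_ifs <;> simp
  · intro j j' h1 h2 h1' h2' hne hne'
    rw [hsd j h1] at hne
    rw [hsd j' h1'] at hne'
    split_ifs at hne hne' with u v <;> first | omega | exact absurd rfl hne | exact absurd rfl hne'

end Groth.Agent.S18429
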