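import Groth.Statements.S1843
import Groth.Agent.Lib.InsepDeg.Kernel
-- import your own Groth.Agent.* helpers here

set_option autoImplicit false
universe u v
open CategoryTheory MonoidalCategory CartesianMonoidalCategory MonObj GrpObj AlgebraicGeometry
open GrpSch

namespace Groth.Agent.S1843

/-- Let A be an abelian variety of dimension g over a field of characteristic p > 0. The set of points
of A mapped to the identity point by multiplication by p has at most p^g elements. -/
theorem result (K : Type u) [Field K] (p : ℕ) [Fact p.Prime] [CharP K p] (A : Over (Spec (CommRingCat.of K))) [GrpObj A] [IsProper A.hom] [GeometricallyIntegral A.hom] (g : ℕ) (hg : topologicalKrullDim A.left = g) : Set.encard {a : A.left | (𝟙 A ^ p).left a = η[A].left (IsLocalRing.closedPoint K)} ≤ (p ^ g : ℕ) := by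
  exact GrothLib.InsepDeg.encard_ker_pow_le A p hg

end Groth.Agent.S1843
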