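import Groth.Statements.S18431
import Mathlib

set_option autoImplicit false
universe u
open SpinCurv

namespace Groth.Agent.S18431

/-- Let R be a Noetherian local ring in which the natural number r is invertible and let ξ, ζ ∈ R
satisfy ξ^r = 1 and ζ^r = 1. Then either ξ = ζ, or ξ - ζ is a unit of R. (Consequently an element of
R annihilated by ξ - ζ is zero unless ξ = ζ. In the published setting R is moreover complete; the
step does not use completeness.) -/
theorem result (R : Type u) [CommRing R] [IsNoetherianRing R] [IsLocalRing R]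
    (r : ℕ) (hr : IsUnit (r : R)) (ξ ζ : R) (hξ : ξ ^ r = 1) (hζ : ζ ^ r = 1) :
    ξ = ζ ∨ IsUnit (ξ - ζ) := by
  by_cases h : IsUnit (ξ - ζ)
  · exact Or.inr h
  left
  have hm : ξ - ζ ∈ IsLocalRing.maximalIdeal R := h
  have hg : (∑ i ∈ Finset.range r, ξ ^ i * ζ ^ (r - 1 - i)) * (ξ - ζ) = 0 := by
    rw [geom_sum₂_mul, hξ, hζ, sub_self]
  have hres : IsLocalRing.residue R ξ = IsLocalRing.residue R ζ :=
    Ideal.Quotient.eq.2 hm
  have hr1 : r ≠ 0 := by
    rintro rfl
    simpa using hr
  have hu : IsUnit (∑ i ∈ Finset.range r, ξ ^ i * ζ ^ (r - 1 - i)) := by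
    rw [← isUnit_map_iff (IsLocalRing.residue R)]
    simp only [map_sum, map_mul, map_pow, hres]
    rw [geom_sum₂_self]
    refine IsUnit.mul ?_ ?_
    · simpa using hr.map (IsLocalRing.residue R)
    · exact ((IsUnit.of_pow_eq_one hζ hr1).map _).pow _
  exact sub_eq_zero.1 (hu.mul_right_eq_zero.1 hg)

end Groth.Agent.S18431
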