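import Groth.Statements.S18432
import Groth.Agent.Lib.SpinNode7.Alpha

set_option autoImplicit false
universe u
open SpinCurv

namespace Groth.Agent.S18432

/-- Let R be a complete Noetherian local ring, p, q elements of its maximal ideal, A = R[[x, y]]/(xy -
pq), and α(p, q) the A-linear endomorphism of A² with matrix (x p; q y), sending a column (a, b) to
(x a + p b, q a + y b). Then the kernel of α(p, q) is the submodule of A² generated by the columns
(p, -x) and (y, -q); equivalently the image of α(p, q) (the standard rank-one torsion-free module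
E(p, q)) is presented by two generators ξ, v with the relations p ξ = x v and y ξ = q v. -/
theorem result (R : Type u) [CommRing R] [IsNoetherianRing R] [IsLocalRing R]
    [IsAdicComplete (IsLocalRing.maximalIdeal R) R]
    (p q : R) (hp : p ∈ IsLocalRing.maximalIdeal R) (hq : q ∈ IsLocalRing.maximalIdeal R) :
    LinearMap.ker (Matrix.mulVecLin (SpinCurv.nodeAlpha R p q)) =
      Submodule.span (SpinCurv.NodeRing R (p * q))
        {![algebraMap R (SpinCurv.NodeRing R (p * q)) p, -SpinCurv.NodeRing.x R (p * q)],
         ![SpinCurv.NodeRing.y R (p * q), -algebraMap R (SpinCurv.NodeRing R (p * q)) q]} := by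
  have hπ : p * q ∈ IsLocalRing.maximalIdeal R := Ideal.mul_mem_right _ _ hp
  refine le_antisymm (fun v hv => ?_) GrothLib.SpinNode7.span_le_ker
  obtain ⟨f, g, hfg⟩ := GrothLib.SpinNode7.exists_reduce hπ v
  have h := GrothLib.SpinNode7.span_le_ker hfg
  rw [LinearMap.mem_ker, map_sub, LinearMap.mem_ker.1 hv, zero_sub, neg_eq_zero, Matrix.mulVecLin_apply] at h
  obtain ⟨rfl, rfl⟩ := GrothLib.SpinNode7.injective_xy hπ f g h
  have h0 : (![SpinCurv.NodeRing.ofX R (p * q) 0, SpinCurv.NodeRing.ofY R (p * q) 0] : Fin 2 → SpinCurv.NodeRing R (p * q)) = 0 := by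
    ext i; fin_cases i <;> simp [SpinCurv.NodeRing.ofX, SpinCurv.NodeRing.ofY]
  rw [h0, sub_zero] at hfg
  exact hfg

end Groth.Agent.S18432
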