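import Groth.Statements.S18433
import Groth.Agent.Lib.SpinNode7.Alpha

set_option autoImplicit false
universe u
open SpinCurv

namespace Groth.Agent.S18433

/-- Let R be a complete Noetherian local ring, p, q elements of its maximal ideal, A = R[[x, y]]/(xy -
pq), and α(p, q) the endomorphism (a, b) ↦ (x a + p b, q a + y b) of A². Restrict α(p, q) to pairs
(f, g) with f a power series in x alone and g a power series in y alone: the resulting map R[[x]] ×
R[[y]] → A², (f, g) ↦ (x f + p g, q f + y g), is injective and has the same image as α(p, q). Thus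
the image E(p, q) of α(p, q) is identified, R-linearly, with R[[x]] ⊕ R[[y]]. -/
theorem result (R : Type u) [CommRing R] [IsNoetherianRing R] [IsLocalRing R]
    [IsAdicComplete (IsLocalRing.maximalIdeal R) R]
    (p q : R) (hp : p ∈ IsLocalRing.maximalIdeal R) (hq : q ∈ IsLocalRing.maximalIdeal R) :
    Function.Injective (fun fg : PowerSeries R × PowerSeries R =>
        Matrix.mulVec (SpinCurv.nodeAlpha R p q)
          ![SpinCurv.NodeRing.ofX R (p * q) fg.1, SpinCurv.NodeRing.ofY R (p * q) fg.2]) ∧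
    Set.range (fun fg : PowerSeries R × PowerSeries R =>
        Matrix.mulVec (SpinCurv.nodeAlpha R p q)
          ![SpinCurv.NodeRing.ofX R (p * q) fg.1, SpinCurv.NodeRing.ofY R (p * q) fg.2]) =
      Set.range (Matrix.mulVec (SpinCurv.nodeAlpha R p q)) := by
  have hπ : p * q ∈ IsLocalRing.maximalIdeal R := Ideal.mul_mem_right _ _ hp
  refine ⟨fun a b hab => ?_, ?_⟩
  · obtain ⟨h1, h2⟩ := GrothLib.SpinNode7.injective_xy hπ (a.1 - b.1) (a.2 - b.2) (by
      have : (![SpinCurv.NodeRing.ofX R (p * q) (a.1 - b.1), SpinCurv.NodeRing.ofY R (p * q) (a.2 - b.2)] : Fin 2 → _) =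
          ![SpinCurv.NodeRing.ofX R (p * q) a.1, SpinCurv.NodeRing.ofY R (p * q) a.2] -
          ![SpinCurv.NodeRing.ofX R (p * q) b.1, SpinCurv.NodeRing.ofY R (p * q) b.2] := by
        ext i; fin_cases i <;> simp [SpinCurv.NodeRing.ofX, SpinCurv.NodeRing.ofY]
      rw [this, Matrix.mulVec_sub, sub_eq_zero]
      exact hab)
    exact Prod.ext (sub_eq_zero.1 h1) (sub_eq_zero.1 h2)
  · refine Set.Subset.antisymm (by rintro _ ⟨fg, rfl⟩; exact ⟨_, rfl⟩) ?_
    rintro _ ⟨v, rfl⟩
    obtain ⟨f, g, hfg⟩ := GrothLib.SpinNode7.exists_reduce hπ v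
    have h := GrothLib.SpinNode7.span_le_ker hfg
    rw [LinearMap.mem_ker, map_sub, sub_eq_zero, Matrix.mulVecLin_apply, Matrix.mulVecLin_apply] at h
    exact ⟨(f, g), h.symm⟩

end Groth.Agent.S18433
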