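import Groth.Statements.S18434
import Groth.Agent.Lib.SpinNode7.Power

set_option autoImplicit false
universe u
open SpinCurv

namespace Groth.Agent.S18434

/-- Let k be a field, u, v ≥ 1 integers and w ∈ k nonzero. In the ring A = k[[x, y]]/(xy), the quotient
A/(x^u, w y^v) has dimension u + v - 1 over k (a basis is 1, x, …, x^{u-1}, y, …, y^{v-1}); this is
the length of the cokernel at the node of a map whose image is generated by x^u and w y^v. -/
theorem result (k : Type u) [Field k] (u v : ℕ) (hu : 1 ≤ u) (hv : 1 ≤ v)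
    (w : k) (hw : w ≠ 0) :
    Module.finrank k (SpinCurv.NodeRing k 0 ⧸
      Ideal.span {SpinCurv.NodeRing.x k 0 ^ u, algebraMap k (SpinCurv.NodeRing k 0) w * SpinCurv.NodeRing.y k 0 ^ v}) =
      u + v - 1 := by
  classical
  have hπ : (0 : k) ∈ (⊥ : Ideal k) := rfl
  haveI : IsAdicComplete (⊥ : Ideal k) k := inferInstance
  let A := SpinCurv.NodeRing k 0
  set J : Ideal A := Ideal.span {SpinCurv.NodeRing.x k 0 ^ u, algebraMap k A w * SpinCurv.NodeRing.y k 0 ^ v} with hJ
  let Q : Ideal (MvPowerSeries (Fin 2) k) := Ideal.span {(MvPowerSeries.X 0 * MvPowerSeries.X 1 - MvPowerSeries.C 0 : MvPowerSeries (Fin 2) k)}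
  let T : MvPowerSeries (Fin 2) k →ₗ[k] ((Fin u → k) × (Fin (v - 1) → k)) :=
    (LinearMap.pi fun i : Fin u => MvPowerSeries.coeff (R := k) (GrothLib.SpinNode7.d2 (i : ℕ) 0)).prod
      (LinearMap.pi fun j : Fin (v - 1) => MvPowerSeries.coeff (R := k) (GrothLib.SpinNode7.d2 0 ((j : ℕ) + 1)))
  let S : MvPowerSeries (Fin 2) k →ₗ[k] (A ⧸ J) :=
    (Ideal.Quotient.mkₐ k J).toLinearMap.comp (Ideal.Quotient.mkₐ k Q).toLinearMap
  have hS : Function.Surjective S := Ideal.Quotient.mk_surjective.comp Ideal.Quotient.mk_surjective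
  have hT : Function.Surjective T := fun c => by
    refine ⟨PowerSeries.toMvPowerSeries (σ := Fin 2) 0 (PowerSeries.mk fun i => if h : i < u then c.1 ⟨i, h⟩ else 0) +
      PowerSeries.toMvPowerSeries (σ := Fin 2) 1 (PowerSeries.mk fun j => if h : j - 1 < v - 1 then (if j = 0 then 0 else c.2 ⟨j - 1, h⟩) else 0), ?_⟩
    refine Prod.ext (funext fun i => ?_) (funext fun j => ?_)
    · simp [T, GrothLib.SpinNode7.coeff_ofX, GrothLib.SpinNode7.coeff_ofY]
    · simp [T, GrothLib.SpinNode7.coeff_ofX, GrothLib.SpinNode7.coeff_ofY]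
  have hT1 : ∀ (F : MvPowerSeries (Fin 2) k) (i : Fin u), (T F).1 i = MvPowerSeries.coeff (GrothLib.SpinNode7.d2 (i : ℕ) 0) F :=
    fun F i => by simp [T]
  have hT2 : ∀ (F : MvPowerSeries (Fin 2) k) (j : Fin (v - 1)), (T F).2 j = MvPowerSeries.coeff (GrothLib.SpinNode7.d2 0 ((j : ℕ) + 1)) F :=
    fun F i => by simp [T]
  have hker : LinearMap.ker S = LinearMap.ker T := by
    refine le_antisymm (fun F hF => ?_) (fun F hF => ?_)
    · have hF' : Ideal.Quotient.mk Q F ∈ J := Ideal.Quotient.eq_zero_iff_mem.1 hF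
      obtain ⟨a, b, hab⟩ := Ideal.mem_span_pair.1 hF'
      obtain ⟨a, rfl⟩ := Ideal.Quotient.mk_surjective a
      obtain ⟨b, rfl⟩ := Ideal.Quotient.mk_surjective b
      have e : a * MvPowerSeries.X 0 ^ u + b * (MvPowerSeries.C w * MvPowerSeries.X 1 ^ v) - F ∈ Q := by
        rw [← Ideal.Quotient.mk_eq_mk_iff_sub_mem]
        exact hab
      obtain ⟨G, hG⟩ := Ideal.mem_span_singleton'.1 e
      have hF0 : F = a * MvPowerSeries.X 0 ^ u + b * (MvPowerSeries.C w * MvPowerSeries.X 1 ^ v) -
          (MvPowerSeries.X 0 * MvPowerSeries.X 1 - MvPowerSeries.C 0) * G := by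
        linear_combination hG
      refine LinearMap.mem_ker.2 (Prod.ext (funext fun i => ?_) (funext fun j => ?_))
      · subst hF0
        rw [hT1]; show _ = (0 : k)
        rw [map_sub, map_add, GrothLib.SpinNode7.coeff_rel_mul, mul_comm a, mul_comm b, mul_assoc, MvPowerSeries.coeff_C_mul,
          MvPowerSeries.X_pow_eq, MvPowerSeries.X_pow_eq, MvPowerSeries.coeff_monomial_mul, MvPowerSeries.coeff_monomial_mul]
        have h1 : ¬ Finsupp.single (0 : Fin 2) u ≤ GrothLib.SpinNode7.d2 i 0 := fun h => by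
          have := h 0; simp at this; omega
        have h2 : ¬ Finsupp.single (1 : Fin 2) v ≤ GrothLib.SpinNode7.d2 i 0 := fun h => by
          have := h 1; simp at this; omega
        simp [h1, h2]
      · subst hF0
        rw [hT2]; show _ = (0 : k)
        rw [map_sub, map_add, GrothLib.SpinNode7.coeff_rel_mul, mul_comm a, mul_comm b, mul_assoc, MvPowerSeries.coeff_C_mul,
          MvPowerSeries.X_pow_eq, MvPowerSeries.X_pow_eq, MvPowerSeries.coeff_monomial_mul, MvPowerSeries.coeff_monomial_mul]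
        have hj := j.2
        have h1 : ¬ Finsupp.single (0 : Fin 2) u ≤ GrothLib.SpinNode7.d2 0 (j + 1) := fun h => by
          have := h 0; simp at this; omega
        have h2 : ¬ Finsupp.single (1 : Fin 2) v ≤ GrothLib.SpinNode7.d2 0 (j + 1) := fun h => by
          have := h 1; simp at this; omega
        simp [h1, h2]
    · have hF0 := LinearMap.mem_ker.1 hF
      refine LinearMap.mem_ker.2 (Ideal.Quotient.eq_zero_iff_mem.2 ?_)
      obtain ⟨f, g, hfg⟩ := GrothLib.SpinNode7.exists_normalForm k hπ (Ideal.Quotient.mk Q F)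
      show Ideal.Quotient.mk Q F ∈ J
      have hy : MvPowerSeries.X 1 * PowerSeries.toMvPowerSeries (σ := Fin 2) 1 g =
          PowerSeries.toMvPowerSeries (σ := Fin 2) 1 (PowerSeries.X * g) := by
        rw [map_mul, PowerSeries.toMvPowerSeries_X]
      have e : F - (PowerSeries.toMvPowerSeries (σ := Fin 2) 0 f + PowerSeries.toMvPowerSeries (σ := Fin 2) 1 (PowerSeries.X * g)) ∈ Q := by
        rw [← Ideal.Quotient.mk_eq_mk_iff_sub_mem, ← hy, map_add, map_mul]
        exact hfg
      obtain ⟨G, hG⟩ := Ideal.mem_span_singleton'.1 e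
      have hFe : F = PowerSeries.toMvPowerSeries (σ := Fin 2) 0 f + PowerSeries.toMvPowerSeries (σ := Fin 2) 1 (PowerSeries.X * g) +
          (MvPowerSeries.X 0 * MvPowerSeries.X 1 - MvPowerSeries.C 0) * G := by
        linear_combination -hG
      obtain ⟨f', hf'⟩ : PowerSeries.X ^ u ∣ f := PowerSeries.X_pow_dvd_iff.2 fun i hi => by
        have := congrFun (Prod.ext_iff.1 hF0).1 ⟨i, hi⟩
        subst hFe
        rw [hT1, map_add, map_add, GrothLib.SpinNode7.coeff_ofX, GrothLib.SpinNode7.coeff_ofY, GrothLib.SpinNode7.coeff_rel_mul] at this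
        rcases Nat.eq_zero_or_pos i with rfl | hi0
        · simpa using this
        · simpa [hi0.ne'] using this
      obtain ⟨g', hg'⟩ : PowerSeries.X ^ (v - 1) ∣ g := PowerSeries.X_pow_dvd_iff.2 fun j hj => by
        have := congrFun (Prod.ext_iff.1 hF0).2 ⟨j, hj⟩
        subst hFe
        rw [hT2, map_add, map_add, GrothLib.SpinNode7.coeff_ofX, GrothLib.SpinNode7.coeff_ofY, GrothLib.SpinNode7.coeff_rel_mul] at this
        simpa [PowerSeries.coeff_succ_X_mul] using this
      rw [hfg]
      refine Ideal.add_mem _ ?_ ?_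
      · subst hf'
        simp only [SpinCurv.NodeRing.ofX, map_mul, map_pow, PowerSeries.toMvPowerSeries_X]
        exact Ideal.mul_mem_right _ _ (Ideal.subset_span (Set.mem_insert _ _))
      · subst hg'
        have hw' : IsUnit (algebraMap k A w) := (IsUnit.mk0 w hw).map _
        obtain ⟨c, hc⟩ := hw'.exists_left_inv
        have hm : algebraMap k A w * SpinCurv.NodeRing.y k 0 ^ v ∈ J := Ideal.subset_span (Set.mem_insert_of_mem _ rfl)
        have e1 : SpinCurv.NodeRing.y k 0 * SpinCurv.NodeRing.ofY k 0 (PowerSeries.X ^ (v - 1) * g') =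
            SpinCurv.NodeRing.ofY k 0 g' * c * (algebraMap k A w * SpinCurv.NodeRing.y k 0 ^ v) := by
          simp only [SpinCurv.NodeRing.ofY, map_mul, map_pow, PowerSeries.toMvPowerSeries_X]
          obtain ⟨v', rfl⟩ : ∃ v', v = v' + 1 := ⟨v - 1, by omega⟩
          rw [Nat.add_sub_cancel]
          linear_combination -(Ideal.Quotient.mk Q (MvPowerSeries.X 1) ^ (v' + 1) * Ideal.Quotient.mk Q (PowerSeries.toMvPowerSeries (σ := Fin 2) 1 g')) * hc
        rw [e1]
        exact Ideal.mul_mem_left _ _ hm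
  have e := (S.quotKerEquivOfSurjective hS).symm.trans ((Submodule.quotEquivOfEq _ _ hker).trans (T.quotKerEquivOfSurjective hT))
  rw [e.finrank_eq, Module.finrank_prod, Module.finrank_fintype_fun_eq_card, Module.finrank_fintype_fun_eq_card, Fintype.card_fin, Fintype.card_fin]
  omega

end Groth.Agent.S18434
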