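import Groth.Statements.S18435
import Groth.Agent.Lib.SpinNode7.Sections

set_option autoImplicit false
universe u
open SpinCurv

namespace Groth.Agent.S18435

/-- Let k be a field and A = k[x, y]/(xy) the node, with the two affine charts U = Spec k[s, y]/(sy) and
V = Spec k[t, x]/(tx) of the curve obtained by the (p, q)-construction with p = q = 0, glued along
k[s, s⁻¹] by t = s⁻¹ (y ↦ 0 from U, x ↦ 0 from V), and with A → O(U) given by x ↦ 0, y ↦ y and A →
O(V) by x ↦ x, y ↦ 0. A global section of O(1) is a pair (g, f) with g = s f on U ∩ V. If such a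
pair is annihilated by both x and y (acting through the two restriction maps), then g = 0 and f = 0;
so the module of global sections of O(1) has no nonzero element killed by the maximal ideal (x, y),
i.e. its direct image on the node is torsion-free there. All three coordinate rings are written as
the quotient of the polynomial ring in two variables by the product of the variables, and the four
restriction homomorphisms are k-algebra maps pinned by their values on generators. (The published
proof reduces the torsion-freeness of the direct image of O(1), for general R, p, q, to exactly this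
case of a field with p = q = 0.) -/
theorem result (k : Type u) [Field k]
    (rU : SpinCurv.PolyNodeRing k 0 →ₐ[k] SpinCurv.PolyNodeRing k 0)
    (hrUx : rU (SpinCurv.PolyNodeRing.x k 0) = 0)
    (hrUy : rU (SpinCurv.PolyNodeRing.y k 0) = SpinCurv.PolyNodeRing.y k 0)
    (rV : SpinCurv.PolyNodeRing k 0 →ₐ[k] SpinCurv.PolyNodeRing k 0)
    (hrVx : rV (SpinCurv.PolyNodeRing.x k 0) = SpinCurv.PolyNodeRing.y k 0)
    (hrVy : rV (SpinCurv.PolyNodeRing.y k 0) = 0)
    (gU : SpinCurv.PolyNodeRing k 0 →ₐ[k] LaurentPolynomial k)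
    (hgUs : gU (SpinCurv.PolyNodeRing.x k 0) = LaurentPolynomial.T 1)
    (hgUy : gU (SpinCurv.PolyNodeRing.y k 0) = 0)
    (gV : SpinCurv.PolyNodeRing k 0 →ₐ[k] LaurentPolynomial k)
    (hgVt : gV (SpinCurv.PolyNodeRing.x k 0) = LaurentPolynomial.T (-1))
    (hgVx : gV (SpinCurv.PolyNodeRing.y k 0) = 0)
    (g f : SpinCurv.PolyNodeRing k 0) (hsec : gU g = LaurentPolynomial.T 1 * gV f)
    (hx : rU (SpinCurv.PolyNodeRing.x k 0) * g = 0 ∧ rV (SpinCurv.PolyNodeRing.x k 0) * f = 0)
    (hy : rU (SpinCurv.PolyNodeRing.y k 0) * g = 0 ∧ rV (SpinCurv.PolyNodeRing.y k 0) * f = 0) :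
    g = 0 ∧ f = 0 := by
  obtain ⟨a, rfl⟩ := (GrothLib.SpinNode7.nf_bijective (0 : k)).2 g
  obtain ⟨b, rfl⟩ := (GrothLib.SpinNode7.nf_bijective (0 : k)).2 f
  have hs := (GrothLib.SpinNode7.mem_iff 1 gU hgUs (by simpa using hgUy) gV hgVt (by simpa using hgVx) a b).1 hsec
  rw [hrUy] at hy
  rw [hrVx] at hx
  have ha : ∀ m ≤ 0, a m = 0 := fun m hm => GrothLib.SpinNode7.y_mul_nf_eq_zero 0 hy.1 hm
  have hb : ∀ m ≤ 0, b m = 0 := fun m hm => GrothLib.SpinNode7.y_mul_nf_eq_zero 0 hx.2 hm
  have ha' : a = 0 := Finsupp.ext fun m => by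
    by_cases hm : m ≤ 0
    · exact ha m hm
    have := hs m
    rw [show (-m).toNat = 0 by omega, pow_zero, one_mul, hb (1 - m) (by omega), mul_zero] at this
    exact this
  have hb' : b = 0 := Finsupp.ext fun m => by
    by_cases hm : m ≤ 0
    · exact hb m hm
    have := hs (1 - m)
    rw [show (1 - m - 1).toNat = 0 by omega, show 1 - (1 - m) = m by ring, pow_zero, one_mul, ha (1 - m) (by omega), mul_zero] at this
    exact this.symm
  simp [ha', hb']

end Groth.Agent.S18435
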