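import Groth.Statements.S18437
import Groth.Agent.Lib.SpinNode7.Sections

set_option autoImplicit false
universe u
open SpinCurv

namespace Groth.Agent.S18437

/-- Let R be a commutative ring and p, q ∈ R; put A = R[x, y]/(xy - pq) and consider the two affine
charts U = Spec R[s, y]/(sy - q) and V = Spec R[t, x]/(xt - p) of the curve obtained from Spec A by
blowing up as in the (p, q)-construction, glued along R[s, s⁻¹] by t = s⁻¹ (so y = q s⁻¹ on U and x
= p s on V), with the projection to Spec A given by x ↦ p s, y ↦ y on U and x ↦ x, y ↦ q t on V. For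
n ≥ 0 the twisting sheaf O(n) is vⁿ O on U and ξⁿ O on V with ξ = s v, so its global sections are
the pairs (g, f) of functions on U and V with g = sⁿ f on U ∩ V. Then the map A^{n+1} → O(U) × O(V)
sending (F_0, …, F_n), i.e. the section Σ F_i ξ^{n-i} v^i, to (Σ F_i|_U s^{n-i}, Σ F_i|_V t^i) has
image exactly the set of such pairs, and F is sent to zero exactly when it lies in the A-submodule
of A^{n+1} generated by the vectors p e_i - x e_{i+1} and y e_i - q e_{i+1} for 0 ≤ i < n (e_0, …,
e_n the standard basis). So the global sections of O(n) form the degree-n piece of A[ξ, v]/(p ξ - x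
v, q v - y ξ). For n = 0 this says that a ↦ (a|_U, a|_V) is injective on A with image the pairs of
functions that agree on U ∩ V, so that the functions on the blown-up curve are exactly the functions
on Spec A (the direct image of its structure sheaf is the structure sheaf of Spec A); for n = 1 it
presents the global sections of O(1) as A ξ ⊕ A v modulo the relations p ξ = x v and y ξ = q v. Here
R[s, y]/(sy - q) and R[t, x]/(xt - p) are both written as the quotient of the polynomial ring in two
variables by (first variable)·(second variable) - constant, the homomorphisms rU, rV are the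
restriction maps from A to the two charts and gU, gV the restriction maps from the charts to their
intersection R[s, s⁻¹] (Laurent polynomials), each pinned by its values on the two generators. (The
published setting has R complete local and p, q in the maximal ideal, and reduces to this polynomial
computation, which uses neither.) -/
theorem result (R : Type u) [CommRing R] (p q : R)
    (rU : SpinCurv.PolyNodeRing R (p * q) →ₐ[R] SpinCurv.PolyNodeRing R q)
    (hrUx : rU (SpinCurv.PolyNodeRing.x R (p * q)) = algebraMap R _ p * SpinCurv.PolyNodeRing.x R q)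
    (hrUy : rU (SpinCurv.PolyNodeRing.y R (p * q)) = SpinCurv.PolyNodeRing.y R q)
    (rV : SpinCurv.PolyNodeRing R (p * q) →ₐ[R] SpinCurv.PolyNodeRing R p)
    (hrVx : rV (SpinCurv.PolyNodeRing.x R (p * q)) = SpinCurv.PolyNodeRing.y R p)
    (hrVy : rV (SpinCurv.PolyNodeRing.y R (p * q)) = algebraMap R _ q * SpinCurv.PolyNodeRing.x R p)
    (gU : SpinCurv.PolyNodeRing R q →ₐ[R] LaurentPolynomial R)
    (hgUs : gU (SpinCurv.PolyNodeRing.x R q) = LaurentPolynomial.T 1)
    (hgUy : gU (SpinCurv.PolyNodeRing.y R q) = LaurentPolynomial.C q * LaurentPolynomial.T (-1))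
    (gV : SpinCurv.PolyNodeRing R p →ₐ[R] LaurentPolynomial R)
    (hgVt : gV (SpinCurv.PolyNodeRing.x R p) = LaurentPolynomial.T (-1))
    (hgVx : gV (SpinCurv.PolyNodeRing.y R p) = LaurentPolynomial.C p * LaurentPolynomial.T 1) (n : ℕ) :
    Set.range (fun F : Fin (n + 1) → SpinCurv.PolyNodeRing R (p * q) =>
        (∑ i : Fin (n + 1), rU (F i) * SpinCurv.PolyNodeRing.x R q ^ (n - (i : ℕ)),
         ∑ i : Fin (n + 1), rV (F i) * SpinCurv.PolyNodeRing.x R p ^ (i : ℕ))) =
      {gf : SpinCurv.PolyNodeRing R q × SpinCurv.PolyNodeRing R p |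
        gU gf.1 = LaurentPolynomial.T (n : ℤ) * gV gf.2} ∧
    {F : Fin (n + 1) → SpinCurv.PolyNodeRing R (p * q) |
        (∑ i : Fin (n + 1), rU (F i) * SpinCurv.PolyNodeRing.x R q ^ (n - (i : ℕ)),
         ∑ i : Fin (n + 1), rV (F i) * SpinCurv.PolyNodeRing.x R p ^ (i : ℕ)) = 0} =
      (Submodule.span (SpinCurv.PolyNodeRing R (p * q))
        (Set.range (fun i : Fin n =>
            (Pi.single (Fin.castSucc i) (algebraMap R (SpinCurv.PolyNodeRing R (p * q)) p) -
              Pi.single (Fin.succ i) (SpinCurv.PolyNodeRing.x R (p * q)) : Fin (n + 1) → SpinCurv.PolyNodeRing R (p * q))) ∪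
         Set.range (fun i : Fin n =>
            (Pi.single (Fin.castSucc i) (SpinCurv.PolyNodeRing.y R (p * q)) -
              Pi.single (Fin.succ i) (algebraMap R (SpinCurv.PolyNodeRing R (p * q)) q) : Fin (n + 1) → SpinCurv.PolyNodeRing R (p * q)))) :
        Set (Fin (n + 1) → SpinCurv.PolyNodeRing R (p * q))) := by
  let A := SpinCurv.PolyNodeRing R (p * q)
  let Φ : (Fin (n + 1) → A) →ₗ[R] SpinCurv.PolyNodeRing R q × SpinCurv.PolyNodeRing R p :=
    { toFun := fun F => (∑ i : Fin (n + 1), rU (F i) * SpinCurv.PolyNodeRing.x R q ^ (n - (i : ℕ)),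
         ∑ i : Fin (n + 1), rV (F i) * SpinCurv.PolyNodeRing.x R p ^ (i : ℕ))
      map_add' := fun F G => by simp [add_mul, Finset.sum_add_distrib]
      map_smul' := fun r F => by simp [Finset.smul_sum, GrothLib.SpinNode7.psmul_def, mul_assoc] }
  have hΦA : ∀ (a : A) (F : Fin (n + 1) → A), Φ (a • F) = (rU a * (Φ F).1, rV a * (Φ F).2) := fun a F => by
    simp [Φ, Finset.mul_sum, mul_assoc]
  have hsingle : ∀ (i : Fin (n + 1)) (a : A), Φ (Pi.single i a) =
      (rU a * SpinCurv.PolyNodeRing.x R q ^ (n - (i : ℕ)), rV a * SpinCurv.PolyNodeRing.x R p ^ (i : ℕ)) := fun i a => by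
    refine Prod.ext ?_ ?_
    · simp only [Φ, LinearMap.coe_mk, AddHom.coe_mk]
      rw [Finset.sum_eq_single i (fun j _ hj => by rw [Pi.single_eq_of_ne hj, map_zero, zero_mul]) (by simp), Pi.single_eq_same]
    · simp only [Φ, LinearMap.coe_mk, AddHom.coe_mk]
      rw [Finset.sum_eq_single i (fun j _ hj => by rw [Pi.single_eq_of_ne hj, map_zero, zero_mul]) (by simp), Pi.single_eq_same]
  have hrel : GrothLib.SpinNode7.relSet p q n ⊆ {F | Φ F = 0} := by
    have hq := GrothLib.SpinNode7.px_mul_py q
    have hp := GrothLib.SpinNode7.px_mul_py p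
    rintro F (⟨i, rfl⟩ | ⟨i, rfl⟩) <;>
      simp only [Set.mem_setOf_eq, map_sub, hsingle, AlgHom.commutes, hrUx, hrUy, hrVx, hrVy, Fin.val_castSucc, Fin.val_succ,
        Prod.mk_sub_mk, Prod.mk_eq_zero, sub_eq_zero]
    · obtain ⟨m, hm⟩ : ∃ m, n = (i : ℕ) + 1 + m := ⟨n - (i + 1), by omega⟩
      rw [show n - ((i : ℕ) + 1) = m by omega, show n - (i : ℕ) = m + 1 by omega]
      exact ⟨by ring, by linear_combination -(SpinCurv.PolyNodeRing.x R p ^ (i : ℕ)) * hp⟩
    · obtain ⟨m, hm⟩ : ∃ m, n = (i : ℕ) + 1 + m := ⟨n - (i + 1), by omega⟩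
      rw [show n - ((i : ℕ) + 1) = m by omega, show n - (i : ℕ) = m + 1 by omega]
      exact ⟨by linear_combination (SpinCurv.PolyNodeRing.x R q ^ m) * hq, by ring⟩
  have hspan : ∀ F ∈ Submodule.span A (GrothLib.SpinNode7.relSet p q n), Φ F = 0 := by
    intro F hF
    induction hF using Submodule.span_induction with
    | mem x hx => exact hrel hx
    | zero => exact map_zero _
    | add x y _ _ hx hy => rw [map_add, hx, hy, add_zero]
    | smul a x _ hx => rw [hΦA, hx]; simp
  have hlift : ∀ m : ℤ, Φ (GrothLib.SpinNode7.lift p q n m) = GrothLib.SpinNode7.vsec p q (n : ℤ) m := by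
    intro m
    by_cases h0 : m < 0
    · obtain ⟨j, rfl⟩ : ∃ j : ℕ, m = -(j : ℤ) := ⟨(-m).toNat, by omega⟩
      rw [GrothLib.SpinNode7.lift_last_pow, hsingle, map_pow, map_pow, hrUy, hrVy]
      unfold GrothLib.SpinNode7.vsec
      rw [show (-(j : ℤ) - n).toNat = 0 by omega, neg_neg, Int.toNat_natCast, pow_zero, one_smul, GrothLib.SpinNode7.e_neg,
        show (n : ℤ) - -(j : ℤ) = ((n + j : ℕ) : ℤ) by push_cast; ring, GrothLib.SpinNode7.e_ofNat, Fin.val_last, Nat.sub_self,
        pow_zero, mul_one, GrothLib.SpinNode7.psmul_def, map_pow, mul_pow, pow_add]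
      exact Prod.ext rfl (by show _ = _; ring)
    by_cases h1 : (n : ℤ) < m
    · obtain ⟨j, rfl⟩ : ∃ j : ℕ, m = (n : ℤ) + j := ⟨(m - n).toNat, by omega⟩
      rw [GrothLib.SpinNode7.lift_zero_pow, hsingle, map_pow, map_pow, hrUx, hrVx]
      unfold GrothLib.SpinNode7.vsec
      rw [add_sub_cancel_left, Int.toNat_natCast, show (-((n : ℤ) + j)).toNat = 0 by omega, pow_zero, one_smul,
        show (n : ℤ) - ((n : ℤ) + j) = -(j : ℤ) by ring, GrothLib.SpinNode7.e_neg,
        show (n : ℤ) + j = ((n + j : ℕ) : ℤ) by push_cast; rfl, GrothLib.SpinNode7.e_ofNat, Fin.val_zero, Nat.sub_zero,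
        pow_zero, mul_one, GrothLib.SpinNode7.psmul_def, map_pow, mul_pow, pow_add]
      exact Prod.ext (by show _ = _; ring) rfl
    obtain ⟨i, rfl⟩ : ∃ i : Fin (n + 1), m = ((n - (i : ℕ) : ℕ) : ℤ) := ⟨⟨n - m.toNat, by omega⟩, by simp; omega⟩
    rw [GrothLib.SpinNode7.lift_nat, hsingle, map_one, map_one, one_mul, one_mul]
    unfold GrothLib.SpinNode7.vsec
    rw [show (((n - (i : ℕ) : ℕ) : ℤ) - n).toNat = 0 by omega, show (-((n - (i : ℕ) : ℕ) : ℤ)).toNat = 0 by omega,
      show (n : ℤ) - ((n - (i : ℕ) : ℕ) : ℤ) = ((i : ℕ) : ℤ) by omega, pow_zero, pow_zero, one_smul, one_smul,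
      GrothLib.SpinNode7.e_ofNat, GrothLib.SpinNode7.e_ofNat]
  have hlc : ∀ c, Φ (Finsupp.linearCombination R (GrothLib.SpinNode7.lift p q n) c) =
      Finsupp.linearCombination R (GrothLib.SpinNode7.vsec p q (n : ℤ)) c := by
    intro c
    induction c using Finsupp.induction_linear with
    | zero => simp
    | add x y hx hy => rw [map_add, map_add, map_add, hx, hy]
    | single m r => rw [Finsupp.linearCombination_single, Finsupp.linearCombination_single, map_smul, hlift]
  have hn : (-1 : ℤ) ≤ n := by omega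
  have hF : ∀ F, ∃ c, F - Finsupp.linearCombination R (GrothLib.SpinNode7.lift p q n) c ∈ Submodule.span A (GrothLib.SpinNode7.relSet p q n) ∧
      Φ F = Finsupp.linearCombination R (GrothLib.SpinNode7.vsec p q (n : ℤ)) c := fun F => by
    obtain ⟨c, hc⟩ := GrothLib.SpinNode7.exists_lift n F
    exact ⟨c, hc, by rw [← hlc, ← sub_eq_zero, ← map_sub, hspan _ hc]⟩
  refine ⟨Set.ext fun gf => ?_, Set.ext fun F => ?_⟩
  · rw [Set.mem_setOf_eq, GrothLib.SpinNode7.mem_iff_exists (n : ℤ) gU hgUs hgUy gV hgVt hgVx hn]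
    constructor
    · rintro ⟨F, rfl⟩
      obtain ⟨c, -, hc⟩ := hF F
      exact ⟨c, hc.symm⟩
    · rintro ⟨c, hc⟩
      exact ⟨_, (hlc c).trans hc⟩
  · constructor
    · intro h
      obtain ⟨c, hc, hc'⟩ := hF F
      have : c = 0 := GrothLib.SpinNode7.vsec_injective (n : ℤ) hn (hc'.symm.trans (Eq.trans h (map_zero _).symm))
      rw [this, map_zero, sub_zero] at hc
      exact hc
    · exact fun h => hspan F h

end Groth.Agent.S18437
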