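import Groth.Statements.S18438
import Groth.Agent.Lib.SurfRR28.Canonical

set_option autoImplicit false
universe u
open CategoryTheory CategoryTheory.Limits AlgebraicGeometry TopologicalSpace
open Surf

namespace Groth.Agent.S18438

/-- Let k be an algebraically closed field and X a smooth projective surface over k whose anticanonical
module is ample: X is an integral scheme, proper and smooth over k of dimension 2, W is a canonical
module (a second exterior power of Ω_{X/k}) and D a tensor inverse of W which is ample. Intersection
numbers of invertible modules are (L·M) = χ(O_X) − χ(L) − χ(M) + χ(L ⊗ M), so that for a closed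
subscheme C with ideal I_C one has C·C = (I_C·I_C) and K·C = −(I_C·W). If C ⊆ X is an integral
closed one-dimensional subscheme with C·C < 0, then C is an exceptional curve of the first kind: C·C
= −1, K·C = −1 and H¹(C, O_C) = 0. (The published statement concerns del Pezzo surfaces of degree d
embedded in projective d-space; its argument uses only the ampleness of the anticanonical module,
which is the hypothesis taken here.) -/
theorem result (k : Type u) [Field k] [IsAlgClosed k] (X : Scheme.{u})
    [X.Over (Spec (CommRingCat.of k))] [IsIntegral X] [IsProper (X ↘ (Spec (CommRingCat.of k)))] [Smooth (X ↘ (Spec (CommRingCat.of k)))]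
    (hdim : topologicalKrullDim X = 2)
    (W : X.Modules) (hW : ExtPow.IsExtPow 2 (Omega.sheaf (X ↘ (Spec (CommRingCat.of k)))) W)
    (D : X.Modules) (hD : ClSub.IsInverseOf D W) (hample : CohB1.IsAmple D)
    (C : X.IdealSheafData) (hC : IsIntegral C.subscheme) (hC1 : topologicalKrullDim (C.support : Set X) = 1)
    (hneg : FGA.intNum k X 2 ![ClSub.idealMod C, ClSub.idealMod C] (Coh.structureModule X) < 0) :
    FGA.intNum k X 2 ![ClSub.idealMod C, ClSub.idealMod C] (Coh.structureModule X) = -1 ∧
      FGA.intNum k X 2 ![ClSub.idealMod C, W] (Coh.structureModule X) = 1 ∧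
      Subsingleton (Coh.HH C.subscheme (Coh.structureModule C.subscheme) 1) := by
  have hd : topologicalKrullDim X = ((2 : ℕ) : WithBot ℕ∞) := hdim
  have hW' := GrothLib.SurfRR28.isInvertible_W k hd hW
  have hWD : GrothLib.Cube.clsMod hW' = (GrothLib.Cube.clsMod hample.1)⁻¹ := by
    refine eq_inv_of_mul_eq_one_right ?_
    rw [← GrothLib.Cube.clsMod_tensorMod hample.1 hW', GrothLib.Cube.clsMod_eq_one_iff]
    exact hD
  rw [GrothLib.HodgeIndex.intNum_curves k hd hC hC1 hC hC1 hample] at hneg
  rw [GrothLib.HodgeIndex.intNum_curves k hd hC hC1 hC hC1 hample,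
    GrothLib.HodgeIndex.intNum_curve k hd hC hC1 hample hW', hWD, GrothLib.HodgeIndex.isect_inv_left k hd.le, neg_neg]
  have hpos := GrothLib.HodgeIndex.isect_ample_curve_pos k hd hC hC1 hample
  have hadj := GrothLib.SurfRR28.adjunction_isect k hd hample hW C hC hC1
  rw [hWD, GrothLib.HodgeIndex.isect_inv_right k hd.le, GrothLib.HodgeIndex.isect_comm k (GrothLib.HodgeIndex.cCl C) (GrothLib.Cube.clsMod hample.1),
    GrothLib.SurfRR28.euler_quotMod_curve k C hC hC1] at hadj
  letI : C.subscheme.Over (Spec (CommRingCat.of k)) := ⟨C.subschemeι ≫ X ↘ Spec (CommRingCat.of k)⟩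
  haveI : IsProper (C.subscheme ↘ Spec (CommRingCat.of k)) :=
    inferInstanceAs (IsProper (C.subschemeι ≫ X ↘ Spec (CommRingCat.of k)))
  haveI := GrothLib.Euler.finiteDimensional_HH k (GrothLib.Kleiman.isCoh_O (X := C.subscheme) k) 1
  refine ⟨by omega, by omega, Module.finrank_zero_iff (R := k).1 ?_⟩
  have hg : (Curv2.genus k C.subscheme : ℤ) = 0 := by omega
  exact_mod_cast hg

end Groth.Agent.S18438
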