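import Groth.Statements.S1844
import Groth.Agent.Lib.Cube.Torsion
-- import your own Groth.Agent.* helpers here

set_option autoImplicit false
universe u v
open CategoryTheory MonoidalCategory CartesianMonoidalCategory MonObj GrpObj AlgebraicGeometry
open GrpSch

namespace Groth.Agent.S1844

/-- Let A be an abelian variety over a field, L an invertible O_A-module and n ≥ 1. Then [n]^*L is
isomorphic to L^{⊗ n(n+1)/2} ⊗ ([-1]^*L)^{⊗ n(n-1)/2}, where [n] is multiplication by n and [-1] the
inversion of A. -/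
theorem result (K : Type u) [Field K] (A : Over (Spec (CommRingCat.of K))) [GrpObj A] [IsProper A.hom] [GeometricallyIntegral A.hom] (L : A.left.Modules) (hL : PicF.IsInvertible L) (n : ℕ) (hn : 1 ≤ n) : Nonempty ((Scheme.Modules.pullback (𝟙 A ^ n).left).obj L ≅ CohB1.tensorMod (CohB1.tensorPow L (n * (n + 1) / 2)) (CohB1.tensorPow ((Scheme.Modules.pullback ((𝟙 A)⁻¹).left).obj L) (n * (n - 1) / 2))) := by
  open GrothLib.Cube in
  have hx := hasCls_clsMod hL
  have hy := hx.pullback ((𝟙 A)⁻¹ : A ⟶ A).left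
  have key : ∀ m : ℕ, GrothLib.Cube.pull ((𝟙 A : A ⟶ A) ^ m).left (GrothLib.Cube.clsMod hL) =
      GrothLib.Cube.clsMod hL ^ (m * (m + 1) / 2) *
        GrothLib.Cube.pull ((𝟙 A)⁻¹ : A ⟶ A).left (GrothLib.Cube.clsMod hL) ^ (m * (m - 1) / 2) := by
    intro m
    induction m using Nat.twoStepInduction with
    | zero => rw [pow_zero, GrothLib.Cube.pull_one_hom]; simp
    | one => rw [pow_one, GrothLib.Cube.pull_over_id]; simp
    | more m h0 h1 =>
      have h := GrothLib.Cube.cubeClass_eq_one ((𝟙 A : A ⟶ A) ^ (m + 1)) (𝟙 A) (𝟙 A)⁻¹ (GrothLib.Cube.clsMod hL)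
      rw [GrothLib.Cube.cubeClass, _root_.mul_inv_cancel_right, _root_.mul_inv_cancel, GrothLib.Cube.pull_one_hom,
        mul_inv_eq_one, ← pow_succ,
        show (𝟙 A : A ⟶ A) ^ (m + 1) * (𝟙 A)⁻¹ = 𝟙 A ^ m by rw [pow_succ, _root_.mul_inv_cancel_right],
        GrothLib.Cube.pull_over_id, h1, h0, _root_.mul_one] at h
      show GrothLib.Cube.pull ((𝟙 A : A ⟶ A) ^ (m + 1 + 1)).left (GrothLib.Cube.clsMod hL) = _
      refine mul_right_cancel (Eq.trans h.symm ?_)
      have t : ∀ j : ℕ, j * (j + 1) / 2 = (j + 1).choose 2 := fun j => by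
        rw [Nat.choose_two_right]; simp [mul_comm]
      have s : ∀ j : ℕ, j * (j - 1) / 2 = j.choose 2 := fun j => (Nat.choose_two_right j).symm
      simp only [t, s]
      generalize GrothLib.Cube.pull ((𝟙 A)⁻¹ : A ⟶ A).left (GrothLib.Cube.clsMod hL) = y
      generalize GrothLib.Cube.clsMod hL = x
      have cc : ∀ j : ℕ, (j + 1).choose 2 = j + j.choose 2 := fun j => by
        rw [Nat.choose_succ_succ', Nat.choose_one_right]
      have e1 : (m + 1 + 1).choose 2 + (m + 1 + 1).choose 2 + 1 = (m + 2 + 1).choose 2 + (m + 1).choose 2 := by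
        have := cc (m + 1 + 1); have := cc (m + 1); have := cc m
        rw [show m + 2 + 1 = m + 1 + 1 + 1 from rfl]; omega
      have e2 : (m + 1).choose 2 + (m + 1).choose 2 + 1 = (m + 2).choose 2 + m.choose 2 := by
        have := cc (m + 1); have := cc m
        rw [show m + 2 = m + 1 + 1 from rfl]; omega
      calc _ = x ^ ((m + 1 + 1).choose 2 + (m + 1 + 1).choose 2 + 1) * y ^ ((m + 1).choose 2 + (m + 1).choose 2 + 1) := by
            simp only [pow_add, pow_one]; ac_rfl
        _ = _ := by rw [e1, e2]; simp only [pow_add]; ac_rfl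
  exact ((hx.pullback ((𝟙 A : A ⟶ A) ^ n).left).iso ((hx.tensorPow _).tensor (hy.tensorPow _)) (key n))


end Groth.Agent.S1844
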