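import Groth.Statements.S18440
import Groth.Agent.Lib.SurfRR28.Canonical

set_option autoImplicit false
universe u
open CategoryTheory CategoryTheory.Limits AlgebraicGeometry TopologicalSpace
open Surf

namespace Groth.Agent.S18440

/-- Let k be an algebraically closed field and X a smooth projective surface over k (an integral scheme,
proper and smooth over k of dimension 2) with H¹(X, O_X) = 0, and W a canonical module of X (a
second exterior power of Ω_{X/k}). Let C ⊆ X be an integral closed one-dimensional subscheme, smooth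
over k, of arithmetic genus one, written χ(O_C) = 0 with the Euler characteristic of O_C computed on
X through the closed immersion (k being algebraically closed and C integral, H⁰(C, O_C) = k, so this
says dim_k H¹(C, O_C) = 1), whose module O_X(C) — a tensor inverse N of the ideal I_C — is ample.
Then W ≅ I_C, that is ω_X ≅ O_X(−C) (existence of an isomorphism of invertible modules). (The
published statement is that a smooth del Pezzo surface of degree d embedded in projective d-space
has canonical module O_X(−1); its argument takes C a general hyperplane section and uses about the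
embedding only that C is a smooth curve of genus one and that H¹(X, O_X) vanishes, facts it draws
from results quoted without proof; those two properties are the hypotheses here.) -/
theorem result (k : Type u) [Field k] [IsAlgClosed k] (X : Scheme.{u})
    [X.Over (Spec (CommRingCat.of k))] [IsIntegral X] [IsProper (X ↘ (Spec (CommRingCat.of k)))] [Smooth (X ↘ (Spec (CommRingCat.of k)))]
    (hdim : topologicalKrullDim X = 2)
    (W : X.Modules) (hW : ExtPow.IsExtPow 2 (Omega.sheaf (X ↘ (Spec (CommRingCat.of k)))) W)
    (hq : Subsingleton (Coh.HH X (Coh.structureModule X) 1))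
    (C : X.IdealSheafData) (hC : IsIntegral C.subscheme) (hC1 : topologicalKrullDim (C.support : Set X) = 1)
    (hCs : Smooth (C.subschemeι ≫ (X ↘ (Spec (CommRingCat.of k)))))
    (hg : Curv2.euler k X (ClSub.quotMod C) = 0)
    (N : X.Modules) (hN : ClSub.IsInverseOf N (ClSub.idealMod C)) (hNample : CohB1.IsAmple N) :
    Nonempty (W ≅ ClSub.idealMod C) := by
  have hd : topologicalKrullDim X = ((2 : ℕ) : WithBot ℕ∞) := hdim
  obtain ⟨hs2, n, ι, hι, hιc⟩ := GrothLib.SurfRR28.exists_embedding k X hdim
  haveI := hs2
  haveI := hι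
  haveI := GrothLib.Euler.isNoetherian_of_proper (X := X) k
  have hW' := GrothLib.SurfRR28.isInvertible_W k hd hW
  have hI := GrothLib.HodgeIndex.inv_curve k hd hC hC1
  have hO := GrothLib.Euler.isInvertible_structure (X := X)
  have hO1 : GrothLib.Cube.clsMod hO = 1 := GrothLib.SurfRR28.clsMod_structure
  have hc : GrothLib.HodgeIndex.cCl C = GrothLib.Cube.clsMod hNample.1 := by
    rw [GrothLib.HodgeIndex.cCl, dif_pos hI]
    refine inv_eq_of_mul_eq_one_left ?_
    rw [← GrothLib.Cube.clsMod_tensorMod hNample.1 hI, GrothLib.Cube.clsMod_eq_one_iff]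
    exact hN
  have hadj := GrothLib.SurfRR28.adjunction_isect k hd hNample hW C hC hC1
  rw [hg, mul_zero, ← GrothLib.HodgeIndex.isect_mul_right k hd.le] at hadj
  obtain ⟨z, hz⟩ : ∃ z, z = GrothLib.HodgeIndex.cCl C * GrothLib.Cube.clsMod hW' := ⟨_, rfl⟩
  let P := GrothLib.HodgeIndex.rep z
  have hP : PicF.IsInvertible P := GrothLib.HodgeIndex.isInv_rep _
  have hzI : GrothLib.Cube.clsMod hI = GrothLib.Cube.clsMod hW' * z⁻¹ := by
    rw [hz, mul_comm (GrothLib.HodgeIndex.cCl C), mul_inv, mul_inv_cancel_left, GrothLib.HodgeIndex.cCl, dif_pos hI, inv_inv]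
  have hh := fun {p : ℕ} (hp : p ≤ 2) => GrothLib.SurfRR28.hh_serre k ι hιc W hW hW' hP hI
    (by rw [GrothLib.HodgeIndex.cls_rep, hzI]) hp
  haveI := GrothLib.SurfRR28.subsingleton_H0_idealMod k C hC hC1 hd hNample
  haveI := GrothLib.SurfRR28.subsingleton_H1_idealMod k C hC hC1 hd hNample hq
  have e1 := hh (p := 1) (by omega)
  have e2 := hh (p := 2) le_rfl
  rw [Module.finrank_zero_of_subsingleton (R := k) (M := Coh.HH X (ClSub.idealMod C) 1)] at e1
  rw [Module.finrank_zero_of_subsingleton (R := k) (M := Coh.HH X (ClSub.idealMod C) 0)] at e2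
  have hchi := GrothLib.SurfRR28.chi_serre k ι hιc W hW hW' z
  rw [← hzI, ← GrothLib.HodgeIndex.euler_eq_chi k hI] at hchi
  have hS : Curv2.euler k X (Coh.structureModule X) = Curv2.euler k X (ClSub.idealMod C) + Curv2.euler k X (ClSub.quotMod C) := by
    haveI := GrothLib.Euler.epi_toSubscheme C
    let S := ShortComplex.mk (ClSub.idealModι C) (ClSub.toSubscheme C) (kernel.condition _)
    haveI : Mono S.f := inferInstanceAs (Mono (kernel.ι (ClSub.toSubscheme C)))
    haveI : Epi S.g := GrothLib.Euler.epi_toSubscheme C
    have hS : S.ShortExact := { exact := ShortComplex.exact_of_f_is_kernel _ (kernelIsKernel _) }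
    have h := GrothLib.Euler.euler_additive k hS (GrothLib.Euler.isCoh_of_isInvertible hI)
      (GrothLib.Kleiman.isCoh_O (X := X) k) (GrothLib.QCoh.pushUnit_isCoh C.subschemeι)
    exact h
  rw [hg, add_zero, hchi, ← GrothLib.HodgeIndex.cls_rep z, ← GrothLib.HodgeIndex.euler_eq_chi k hP,
    GrothLib.SurfRR28.euler_eq_three_terms k (hd := hd.le) hNample (GrothLib.Euler.isCoh_of_isInvertible hO),
    GrothLib.SurfRR28.euler_eq_three_terms k (hd := hd.le) hNample (GrothLib.Euler.isCoh_of_isInvertible hP), e1, e2,
    GrothLib.ConnH0.finrank_H0_eq_one k] at hS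
  haveI := hq
  rw [Module.finrank_zero_of_subsingleton (R := k) (M := Coh.HH X (Coh.structureModule X) 1)] at hS
  have h1 := GrothLib.SurfRR28.pLe_one_of_nontrivial hP (Module.nontrivial_of_finrank_pos (R := k) (by omega))
  rw [GrothLib.HodgeIndex.cls_rep] at h1
  have h2 : z = 1 := GrothLib.Goodman.eq_one_of_pLe_of_degree_zero k hd hNample h1
    (by rw [hz, ← hc, GrothLib.HodgeIndex.isect_comm]; exact hadj)
  refine (GrothLib.Cube.clsMod_eq_iff hW' hI).1 ?_
  rw [hzI, h2, inv_one, mul_one]

end Groth.Agent.S18440
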