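import Groth.Statements.S18442
import Groth.Agent.Lib.DetSum12.Basic
import Groth.Agent.Lib.HypCI12.Conormal
import Groth.Agent.Lib.Adj27.Main
import Groth.Agent.Lib.OmegaPn27.Proj
import Groth.Agent.Lib.ExtPowX.Pullback
import Groth.Agent.Lib.OX.LocFreeTensor
import Groth.Agent.Lib.DimCut.Product
import Groth.Agent.Lib.CMReg.StructureMain
import Groth.Agent.Lib.Cube.Pic
import Groth.Agent.Lib.OX.OneDegLocus
import Groth.Agent.Lib.Ample.Tensor

set_option autoImplicit false
set_option maxHeartbeats 800000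
set_option backward.isDefEq.respectTransparency false
set_option linter.style.haveILetI false
universe u
open CategoryTheory CategoryTheory.Limits AlgebraicGeometry TopologicalSpace
open Surf

namespace Groth.Agent.S18442

/-- Let k be an algebraically closed field and X ⊆ P⁴_k a smooth surface which is the complete
intersection of two quadrics: X is an integral scheme, smooth over k of dimension 2, with a closed
immersion ι : X → P⁴_k over k whose kernel ideal sheaf is the ideal sheaf generated by two quadratic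
forms G_0, G_1. Then a canonical module W of X (a second exterior power of Ω_{X/k}) is isomorphic to
ι^*O(−1) (existence of an isomorphism), so its tensor inverse ι^*O(1) is ample and X is a del Pezzo
surface. -/
theorem result (k : Type u) [Field k] [IsAlgClosed k] (X : Scheme.{u})
    [X.Over (Spec (CommRingCat.of k))] [IsIntegral X] [Smooth (X ↘ (Spec (CommRingCat.of k)))] (hdim : topologicalKrullDim X = 2)
    (ι : X ⟶ CohB1.ProjSpace 4 k) [IsClosedImmersion ι] (hι : ι ≫ CohB1.ProjSpace.toSpec 4 k = X ↘ (Spec (CommRingCat.of k)))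
    (G : Fin 2 → LefPen.Form 4 k 2) (hker : ι.ker = LefPen.ciIdeal G)
    (W : X.Modules) (hW : ExtPow.IsExtPow 2 (Omega.sheaf (X ↘ (Spec (CommRingCat.of k)))) W) :
    Nonempty (W ≅ (Scheme.Modules.pullback ι).obj (Twist.twistProjSpace 4 k (-1))) := by
  classical
  let j := (LefPen.ciIdeal G).subschemeι
  haveI : IsClosedImmersion j := inferInstance
  have hjker : j.ker = LefPen.ciIdeal G := Scheme.IdealSheafData.ker_subschemeι _
  let e := IsClosedImmersion.lift j ι (by rw [hjker, hker])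
  have he : e ≫ j = ι := IsClosedImmersion.lift_fac _ _ _
  haveI : IsIso e := IsClosedImmersion.isIso_lift j ι (by rw [hjker, hker])
  have hdimZ : topologicalKrullDim ↥(LefPen.ciIdeal G).subscheme = ((4 - 2 : ℕ) : WithBot ℕ∞) := by
    rw [← (Scheme.homeoOfIso (asIso e)).isHomeomorph.topologicalKrullDim_eq, hdim]
    norm_num
  -- relative dimensions
  haveI : SmoothOfRelativeDimension 4 (CohB1.ProjSpace.toSpec 4 k) :=
    GrothLib.OmegaPn27.smoothOfRelativeDimension_toSpec 4 k
  haveI : SmoothOfRelativeDimension 2 (X ↘ Spec (CommRingCat.of k)) :=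
    GrothLib.DimCut.smoothOfRelativeDimension _ 2 (by exact_mod_cast hdim)
  haveI : QuasiSeparated (X ↘ Spec (CommRingCat.of k)) := by rw [← hι]; infer_instance
  -- the conormal sheaf
  obtain ⟨ec⟩ := GrothLib.HypCI12.nonempty_conormal G (by norm_num) (fun _ => one_le_two) hdimZ
  let T := Twist.twistProjSpace 4 k (-((2 : ℕ) : ℤ))
  let A := (Scheme.Modules.pullback ι).obj T
  haveI := (Scheme.Modules.pullbackPushforwardAdjunction e).leftAdjoint_preservesColimits
  let eN : Omega.conormal ι ≅ ∐ fun _ : Fin 2 => A :=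
    (eqToIso (by unfold Omega.conormal; rw [hjker, hker]) :
        Omega.conormal ι ≅ (Scheme.Modules.pullback ι).obj (ClSub.idealMod j.ker)) ≪≫
      (Scheme.Modules.pullbackCongr he.symm).app _ ≪≫ ((Scheme.Modules.pullbackComp e j).app _).symm ≪≫
      (Scheme.Modules.pullback e).mapIso ec ≪≫
      PreservesCoproduct.iso (Scheme.Modules.pullback e) (fun _ : Fin 2 => (Scheme.Modules.pullback j).obj T) ≪≫
      Sigma.mapIso fun _ => (Scheme.Modules.pullbackComp e j).app T ≪≫ (Scheme.Modules.pullbackCongr he).app T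
  have hT : ∀ t : ℤ, PicF.IsInvertible (Twist.twistProjSpace 4 k t) := fun t => GrothLib.CMReg.isInvertible_twist t
  have hP : ∀ t : ℤ, PicF.IsInvertible ((Scheme.Modules.pullback ι).obj (Twist.twistProjSpace 4 k t)) := fun t =>
    GrothLib.Ample.isInvertible_pullback ι (hT t)
  have hA : PicF.IsInvertible A := hP _
  have hA1 : FlatMod.IsFinLocFree A := GrothLib.OX.isFinLocFree_of_rank' (GrothLib.Euler.isFinLocFreeOfRank_one' hA)
  obtain ⟨L, -, hL⟩ := GrothLib.ExtPowX.exists_extPow
    (GrothLib.OX.isFinLocFree_sigma (fun _ : Fin 2 => A) fun _ => hA1) 2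
  have hN : FlatMod.IsFinLocFree (Omega.conormal ι) := fun x => by
    obtain ⟨U, n, hx, ⟨i⟩⟩ := GrothLib.OX.isFinLocFree_sigma (fun _ : Fin 2 => A) (fun _ => hA1) x
    exact ⟨U, n, hx, ⟨(Scheme.Modules.restrictFunctor U.ι).mapIso eN ≪≫ i⟩⟩
  obtain ⟨L', -, hL'⟩ := GrothLib.ExtPowX.exists_extPow hN 2
  obtain ⟨α⟩ := GrothLib.ExtPowX.nonempty_iso hL' hL eN
  obtain ⟨β⟩ := GrothLib.DetSum12.nonempty_det_sigma hA hL
  have hAA := GrothLib.Ample.isInvertible_tensorMod hA hA
  obtain ⟨adj⟩ := GrothLib.Adj27.adjunction (CohB1.ProjSpace.toSpec 4 k) (X ↘ Spec (CommRingCat.of k)) ι 4 2 hι 2 rfl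
    (GrothLib.OmegaPn27.isExtPow_twist 4 k) hW hL'
  have hWi : PicF.IsInvertible W :=
    GrothLib.Adj27.isInvertible_omega (c := 0) (m := 2) (X ↘ Spec (CommRingCat.of k)) hW.choose hW.choose_spec 2 rfl
  let e2 : (Scheme.Modules.pullback ι).obj (Twist.twistProjSpace 4 k (-((4 : ℕ) + 1 : ℤ))) ≅
      CohB1.tensorMod W (CohB1.tensorMod A A) :=
    adj ≪≫ GrothLib.Ample.LineData.tensorModMapIso (Iso.refl W) (α ≪≫ β)
  have h1 := (GrothLib.Cube.clsMod_eq_iff (hP _) (GrothLib.Ample.isInvertible_tensorMod hWi hAA)).2 ⟨e2⟩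
  rw [GrothLib.Cube.clsMod_tensorMod hWi hAA, GrothLib.Cube.clsMod_tensorMod hA hA,
    GrothLib.Cube.clsMod_pullback ι (hT _), GrothLib.Cube.clsMod_pullback ι (hT _)] at h1
  have hadd : ∀ {a b c : ℤ}, a + b = c → GrothLib.Cube.clsMod (hT a) * GrothLib.Cube.clsMod (hT b) =
      GrothLib.Cube.clsMod (hT c) := fun {a b c} h => by
    rw [← GrothLib.Cube.clsMod_tensorMod (hT a) (hT b)]
    exact (GrothLib.Cube.clsMod_eq_iff _ (hT c)).2 (GrothLib.CMReg.nonempty_twist_add h)
  rw [← hadd (show (-1 : ℤ) + (-4) = -((4 : ℕ) + 1 : ℤ) by norm_num),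
    ← hadd (show (-((2 : ℕ) : ℤ)) + (-((2 : ℕ) : ℤ)) = (-4 : ℤ) by norm_num), map_mul, map_mul] at h1
  refine (GrothLib.Cube.clsMod_eq_iff hWi (hP _)).1 ?_
  rw [GrothLib.Cube.clsMod_pullback ι (hT _)]
  exact (mul_right_cancel h1).symm

end Groth.Agent.S18442
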