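import Groth.Statements.S18450
import Groth.Agent.Lib.NumConn12.Bound
-- import your own Groth.Agent.* helpers here

set_option autoImplicit false
universe u
open CategoryTheory CategoryTheory.Limits AlgebraicGeometry TopologicalSpace
open Surf

namespace Groth.Agent.S18450

/-- Let k be an algebraically closed field of characteristic zero and X a smooth projective surface over
k (integral, proper and smooth over k, of dimension 2). Let Z be a nonzero effective Cartier divisor
on X (ideal sheaf I_Z ≠ O_X) which is numerically connected: whenever I_Z = I_{Z₁} · I_{Z₂} with Z₁,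
Z₂ nonzero effective Cartier divisors, (Z₁·Z₂) = χ(O_X) − χ(I_{Z₁}) − χ(I_{Z₂}) + χ(I_{Z₁} ⊗ I_{Z₂})
> 0. Let L be an invertible O_X-module whose degree χ(O_C ⊗ L) − χ(O_C) is ≤ 0 on every integral
curve C contained in Z (integral closed one-dimensional C with I_Z ⊆ I_C). Then H⁰(Z, L|_Z) has
dimension at most 1 over k, and if the dimension is 1 then L|_Z ≅ O_Z (existence of an isomorphism);
here L|_Z = O_Z ⊗ L with O_Z the direct image on X of the structure sheaf of Z. The published
statement is over the complex numbers, for a connected cycle admitting a computation sequence, which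
numerical connectedness provides, and for any line bundle on Z; this row takes restrictions of
invertible O_X-modules. The converse, that the dimension is 1 when L|_Z is trivial, is not restated. -/
theorem result (k : Type u) [Field k] [IsAlgClosed k] [CharZero k]
    (X : Scheme.{u}) [X.Over (Spec (CommRingCat.of k))] [IsProper (X ↘ (Spec (CommRingCat.of k)))]
    [Smooth (X ↘ (Spec (CommRingCat.of k)))] [IsIntegral X] (hdim : topologicalKrullDim X = 2)
    (Z : X.IdealSheafData) (hZ : FGA.IsEffCartier Z) (hZ0 : Z ≠ ⊤)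
    (hnc : ∀ Z₁ Z₂ : X.IdealSheafData, FGA.IsEffCartier Z₁ → FGA.IsEffCartier Z₂ → Z₁ ≠ ⊤ → Z₂ ≠ ⊤ →
      Z = Z₁ * Z₂ → 0 < FGA.intNum k X 2 ![(ClSub.idealMod Z₁), (ClSub.idealMod Z₂)] (Coh.structureModule X))
    (L : X.Modules) (hL : PicF.IsInvertible L)
    (hdeg : ∀ C : X.IdealSheafData, IsIntegral C.subscheme → topologicalKrullDim (C.support : Set X) = 1 → Z ≤ C →
      Curv2.euler k X (CohB1.tensorMod (ClSub.quotMod C) L) - Curv2.euler k X (ClSub.quotMod C) ≤ 0) :
    Module.finrank k (Coh.HH X (CohB1.tensorMod (ClSub.quotMod Z) L) 0) ≤ 1 ∧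
      (Module.finrank k (Coh.HH X (CohB1.tensorMod (ClSub.quotMod Z) L) 0) = 1 →
        Nonempty (CohB1.tensorMod (ClSub.quotMod Z) L ≅ ClSub.quotMod Z)) := by
  have hd : topologicalKrullDim X = ((2 : ℕ) : WithBot ℕ∞) := hdim
  obtain ⟨H, hH⟩ := GrothLib.Goodman.exists_ample_of_smooth_surface k hd
  have hZ' : _root_.BlowUp.IsEffCartierIdeal Z := hZ
  have hnc' : ∀ A K : X.IdealSheafData, ∀ (hA : PicF.IsInvertible (ClSub.idealMod A))
      (hK : PicF.IsInvertible (ClSub.idealMod K)), A ≠ ⊤ → K ≠ ⊤ → Z = A * K →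
      0 < GrothLib.HodgeIndex.isect k (GrothLib.Cube.clsMod hA)⁻¹ (GrothLib.Cube.clsMod hK)⁻¹ := by
    intro A K hA hK hA0 hK0 he
    obtain ⟨hAc, hKc⟩ := GrothLib.BlowUp.isEffCartierIdeal_factors_of_mul (he ▸ hZ')
    have h := hnc A K hAc hKc hA0 hK0 he
    rw [GrothLib.HodgeIndex.intNum_eq_isect k hd.le hH hA hK] at h
    rwa [GrothLib.HodgeIndex.isect_inv_left k hd.le, GrothLib.HodgeIndex.isect_inv_right k hd.le, neg_neg]
  have hdeg' : ∀ y, GrothLib.Snapper.IsTop 1 y → y ∈ (Z.support : Set X) →
      GrothLib.HodgeIndex.deg k y (GrothLib.Cube.clsMod hL) ≤ 0 := by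
    intro y hy hyZ
    have hs : topologicalKrullDim ((GrothLib.HodgeIndex.curveIdeal y).support : Set X) = 1 := by
      rw [← (GrothLib.HodgeIndex.curveIdeal y).range_subschemeι, GrothLib.Snapper.range_pt y]
      exact hy
    have hle : Z ≤ GrothLib.HodgeIndex.curveIdeal y :=
      Scheme.IdealSheafData.le_support_iff_le_vanishingIdeal.1
        (closure_minimal (Set.singleton_subset_iff.2 hyZ) Z.support.isClosed)
    have h := hdeg _ (GrothLib.Snapper.isIntegral_pt y) hs hle
    rw [GrothLib.HodgeIndex.deg_eq_mixed k hL,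
      show GrothLib.Snapper.ptMod y = ClSub.quotMod (GrothLib.HodgeIndex.curveIdeal y) from rfl,
      ← GrothLib.HodgeIndex.euler_sub_eq_mixed k hL]
    exact_mod_cast h
  refine ⟨GrothLib.NumConn12.finrank_le_one k hd hL hZ' hZ0 hnc' hdeg', fun h1 => ?_⟩
  have hnt : Nontrivial (Coh.HH X (CohB1.tensorMod (ClSub.quotMod Z) L) 0) :=
    Module.nontrivial_of_finrank_eq_succ h1
  exact GrothLib.NumConn12.nonempty_iso_of_nontrivial k hd hL hZ' hnc' hdeg' hnt


end Groth.Agent.S18450
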