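import Groth.Statements.S18451
import Groth.Agent.Lib.HodgeIndex.NegCurves

set_option autoImplicit false
set_option linter.all false
universe u
open CategoryTheory CategoryTheory.Limits AlgebraicGeometry TopologicalSpace
open Surf

namespace Groth.Agent.S18451

/-- Let k be an algebraically closed field of characteristic zero and X a smooth projective surface over
k (integral, proper and smooth over k, of dimension 2, carrying an ample invertible module). Let
C_1, …, C_r be pairwise distinct integral curves on X (integral closed one-dimensional subschemes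
with ideal sheaves I_1, …, I_r) and write G_{ij} = (I_i·I_j) = χ(O_X) − χ(I_i) − χ(I_j) + χ(I_i ⊗
I_j) for their intersection matrix. Suppose the classes of the C_i span a negative definite
sublattice modulo numerical equivalence: for every integer vector a such that Σ_i a_i [C_i] is
numerically nontrivial, meaning that Σ_i a_i (I_i·M) ≠ 0 for some invertible O_X-module M, one has
Σ_{i,j} a_i a_j G_{ij} < 0. Then the classes are linearly independent, i.e. G itself is negative
definite: Σ_{i,j} a_i a_j G_{ij} < 0 for every nonzero integer vector a. -/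
theorem result (k : Type u) [Field k] [IsAlgClosed k] [CharZero k]
    (X : Scheme.{u}) [X.Over (Spec (CommRingCat.of k))] [IsProper (X ↘ (Spec (CommRingCat.of k)))]
    [Smooth (X ↘ (Spec (CommRingCat.of k)))] [IsIntegral X] (hdim : topologicalKrullDim X = 2)
    (hproj : ∃ H : X.Modules, CohB1.IsAmple H)
    (r : ℕ) (C : Fin r → X.IdealSheafData) (hC : Function.Injective C)
    (hCi : ∀ i, IsIntegral (C i).subscheme) (hCd : ∀ i, topologicalKrullDim ((C i).support : Set X) = 1)
    (hneg : ∀ a : Fin r → ℤ,
      (∃ M : X.Modules, PicF.IsInvertible M ∧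
        ∑ i, a i * FGA.intNum k X 2 ![(ClSub.idealMod (C i)), M] (Coh.structureModule X) ≠ 0) →
      ∑ i, ∑ j, a i * a j * FGA.intNum k X 2 ![(ClSub.idealMod (C i)), (ClSub.idealMod (C j))] (Coh.structureModule X) < 0) :
    ∀ a : Fin r → ℤ, a ≠ 0 →
      ∑ i, ∑ j, a i * a j * FGA.intNum k X 2 ![(ClSub.idealMod (C i)), (ClSub.idealMod (C j))] (Coh.structureModule X) < 0 := by
  have hd : topologicalKrullDim X = ((2 : ℕ) : WithBot ℕ∞) := hdim
  obtain ⟨H, hH⟩ := hproj
  let c : Fin r → GrothLib.Cube.Pic X := fun i => GrothLib.HodgeIndex.cCl (C i)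
  let Q : Matrix (Fin r) (Fin r) ℤ := fun i j => GrothLib.HodgeIndex.isect k (c i) (c j)
  have hG : ∀ i j, FGA.intNum k X 2 ![ClSub.idealMod (C i), ClSub.idealMod (C j)] (Coh.structureModule X) = Q i j :=
    fun i j => GrothLib.HodgeIndex.intNum_curves k hd (hCi i) (hCd i) (hCi j) (hCd j) hH
  have hQ : ∀ i j, Q i j = Q j i := fun i j => GrothLib.HodgeIndex.isect_comm k _ _
  have hoff : ∀ i j, i ≠ j → 0 ≤ Q i j := fun i j h =>
    GrothLib.HodgeIndex.isect_curves_nonneg k hd (hCi i) (hCd i) (hCi j) (hCd j) fun e => h (hC e)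
  have hh : ∀ i, 0 < GrothLib.HodgeIndex.isect k (GrothLib.Cube.clsMod hH.1) (c i) := fun i =>
    GrothLib.HodgeIndex.isect_ample_curve_pos k hd (hCi i) (hCd i) hH
  simp only [hG] at hneg ⊢
  intro a ha
  by_contra hge
  push Not at hge
  have htriv : ∀ M : X.Modules, PicF.IsInvertible M →
      ∑ i, a i * FGA.intNum k X 2 ![ClSub.idealMod (C i), M] (Coh.structureModule X) = 0 := fun M hM => by
    by_contra hne
    exact absurd hge (not_le.2 (hneg a ⟨M, hM, hne⟩))
  have htriv' : ∀ w : GrothLib.Cube.Pic X, ∑ i, a i * GrothLib.HodgeIndex.isect k w (c i) = 0 := fun w => by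
    have h := htriv _ (GrothLib.HodgeIndex.isInv_rep w)
    simp only [GrothLib.HodgeIndex.intNum_curve k hd (hCi _) (hCd _) hH (GrothLib.HodgeIndex.isInv_rep w),
      GrothLib.HodgeIndex.cls_rep, mul_neg, Finset.sum_neg_distrib, neg_eq_zero] at h
    exact h
  let p : Fin r → ℤ := fun i => max (a i) 0
  let n : Fin r → ℤ := fun i => max (-(a i)) 0
  have hap : ∀ i, a i = p i - n i := fun i => by simp only [p, n]; omega
  have hpn : ∀ w : GrothLib.Cube.Pic X, ∑ i, p i * GrothLib.HodgeIndex.isect k w (c i) =
      ∑ i, n i * GrothLib.HodgeIndex.isect k w (c i) := fun w => by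
    have h := htriv' w
    simp only [hap, sub_mul, Finset.sum_sub_distrib] at h
    linarith
  have hp0 : p = 0 := by
    by_contra hne
    obtain ⟨i₀, hi₀⟩ : ∃ i, p i ≠ 0 := by
      by_contra hall
      push Not at hall
      exact hne (funext hall)
    have hpos : 0 < ∑ i, p i * GrothLib.HodgeIndex.isect k (GrothLib.Cube.clsMod hH.1) (c i) :=
      Finset.sum_pos' (fun i _ => mul_nonneg (le_max_right _ _) (hh i).le)
        ⟨i₀, Finset.mem_univ _, mul_pos (lt_of_le_of_ne (le_max_right _ _) (Ne.symm hi₀)) (hh i₀)⟩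
    have hlt := hneg p ⟨H, hH.1, fun h0 => by
      simp only [GrothLib.HodgeIndex.intNum_curve k hd (hCi _) (hCd _) hH hH.1,
        mul_neg, Finset.sum_neg_distrib, neg_eq_zero] at h0
      exact hpos.ne' h0⟩
    refine absurd hlt (not_lt.2 ?_)
    have e : ∀ i, ∑ j, p i * p j * Q i j = p i * ∑ j, n j * Q i j := fun i => by
      rw [show ∑ j, n j * Q i j = ∑ j, p j * Q i j from (hpn (c i)).symm, Finset.mul_sum]
      exact Finset.sum_congr rfl fun j _ => by ring
    simp only [e, Finset.mul_sum]
    refine Finset.sum_nonneg fun i _ => Finset.sum_nonneg fun j _ => ?_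
    rw [← mul_assoc]
    by_cases hij : i = j
    · subst hij
      have : p i * n i = 0 := by
        simp only [p, n]
        rcases le_total (a i) 0 with h | h
        · rw [max_eq_right h, zero_mul]
        · rw [max_eq_right (show -(a i) ≤ 0 by omega), mul_zero]
      rw [this, zero_mul]
    · exact mul_nonneg (mul_nonneg (le_max_right _ _) (le_max_right _ _)) (hoff i j hij)
  have hn0 : n = 0 := by
    funext i
    have h := hpn (GrothLib.Cube.clsMod hH.1)
    simp only [hp0, Pi.zero_apply, zero_mul, Finset.sum_const_zero] at h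
    have h' := (Finset.sum_eq_zero_iff_of_nonneg fun i _ => mul_nonneg (le_max_right (-(a i)) 0) (hh i).le).1 h.symm i
      (Finset.mem_univ i)
    exact (mul_eq_zero.1 h').resolve_right (hh i).ne'
  refine ha (funext fun i => ?_)
  rw [hap i, hp0, hn0]
  simp

end Groth.Agent.S18451
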