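import Groth.Statements.S18454
import Groth.Agent.Lib.RatCyc12.Config
-- import your own Groth.Agent.* helpers here

set_option autoImplicit false
universe u
open CategoryTheory CategoryTheory.Limits AlgebraicGeometry TopologicalSpace
open Surf

namespace Groth.Agent.S18454

/-- Let k be an algebraically closed field of characteristic zero and X a smooth projective surface over
k (integral, proper and smooth over k, of dimension 2). Let C_1, …, C_r (r ≥ 1) be pairwise distinct
integral curves on X, with ideal sheaves I_i, forming a connected configuration whose intersection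
matrix is negative definite: writing (A·B) = χ(O_X) − χ(A) − χ(B) + χ(A ⊗ B), there is no partition
of the indices into two nonempty sets with (I_i·I_j) = 0 for all i, j on opposite sides, and Σ_{i,j}
a_i a_j (I_i·I_j) < 0 for every nonzero integer vector a. Let Z₀ be a fundamental cycle of the
configuration: a nonzero effective Cartier divisor supported on ⋃ C_i such that Z₀·C_i ≤ 0 for every
i, stated as deg(I_{Z₀}|_{C_i}) = χ(O_{C_i} ⊗ I_{Z₀}) − χ(O_{C_i}) ≥ 0, and such that every nonzero
effective Cartier divisor Z supported on ⋃ C_i with the same property satisfies Z ≥ Z₀ (I_Z ⊆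
I_{Z₀}). Then H¹(Z, O_Z) = 0 for every nonzero effective Cartier divisor Z supported on ⋃ C_i if and
only if χ(O_{Z₀}) = 1, i.e. the arithmetic genus of Z₀ is 0; cohomology and Euler characteristics
are computed on X through direct images. The published statement characterises rationality of the
normal surface singularity obtained by contracting the configuration over the complex numbers; this
row uses the equivalent condition that H¹(O_Z) = 0 for every nonzero effective divisor Z supported
on the configuration, which is what the printed algebraic argument establishes. -/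
theorem result (k : Type u) [Field k] [IsAlgClosed k] [CharZero k]
    (X : Scheme.{u}) [X.Over (Spec (CommRingCat.of k))] [IsProper (X ↘ (Spec (CommRingCat.of k)))]
    [Smooth (X ↘ (Spec (CommRingCat.of k)))] [IsIntegral X] (hdim : topologicalKrullDim X = 2)
    (r : ℕ) (hr : 0 < r) (C : Fin r → X.IdealSheafData) (hC : Function.Injective C)
    (hCi : ∀ i, IsIntegral (C i).subscheme) (hCd : ∀ i, topologicalKrullDim ((C i).support : Set X) = 1)
    (hconn : ∀ S : Finset (Fin r), S.Nonempty → Sᶜ.Nonempty →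
      ∃ i ∈ S, ∃ j ∈ Sᶜ, FGA.intNum k X 2 ![(ClSub.idealMod (C i)), (ClSub.idealMod (C j))] (Coh.structureModule X) ≠ 0)
    (hneg : ∀ a : Fin r → ℤ, a ≠ 0 →
      ∑ i, ∑ j, a i * a j * FGA.intNum k X 2 ![(ClSub.idealMod (C i)), (ClSub.idealMod (C j))] (Coh.structureModule X) < 0)
    (Z₀ : X.IdealSheafData) (hZ₀ : FGA.IsEffCartier Z₀) (hZ₀0 : Z₀ ≠ ⊤)
    (hZ₀s : (Z₀.support : Set X) ⊆ ⋃ i, ((C i).support : Set X))
    (hZ₀C : ∀ i, 0 ≤ Curv2.euler k X (CohB1.tensorMod (ClSub.quotMod (C i)) (ClSub.idealMod Z₀)) -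
      Curv2.euler k X (ClSub.quotMod (C i)))
    (hZ₀min : ∀ Z : X.IdealSheafData, FGA.IsEffCartier Z → Z ≠ ⊤ → (Z.support : Set X) ⊆ ⋃ i, ((C i).support : Set X) →
      (∀ i, 0 ≤ Curv2.euler k X (CohB1.tensorMod (ClSub.quotMod (C i)) (ClSub.idealMod Z)) -
        Curv2.euler k X (ClSub.quotMod (C i))) → Z ≤ Z₀) :
    (∀ Z : X.IdealSheafData, FGA.IsEffCartier Z → Z ≠ ⊤ → (Z.support : Set X) ⊆ ⋃ i, ((C i).support : Set X) →
        Subsingleton (Coh.HH X (ClSub.quotMod Z) 1)) ↔
      Curv2.euler k X (ClSub.quotMod Z₀) = 1 := by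
  classical
  have hd : topologicalKrullDim X = ((2 : ℕ) : WithBot ℕ∞) := hdim
  haveI := GrothLib.Euler.isNoetherian_of_proper (X := X) k
  have hchain := GrothLib.RatCyc12.hasChain_fundamental k hd C hCi hCd (hZ₀ := hZ₀) hZ₀s hZ₀C hZ₀min
  refine ⟨fun h => le_antisymm (GrothLib.RatCyc12.euler_le_one k hd hchain hZ₀ hZ₀0)
    (GrothLib.RatCyc12.one_le_euler k hd (GrothLib.IdealModSec.isInvertible_of_isEffCartier hZ₀) hZ₀0
      (h Z₀ hZ₀ hZ₀0 hZ₀s)), fun h Z hZ hZ0 hZs => ?_⟩
  obtain ⟨l, hl, he⟩ := GrothLib.RatCyc12.exists_list k hd Z hZ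
  have hle : Z₀ ^ l.length ≤ Z := by
    rw [he]
    have h' := GrothLib.RatCyc12.pow_le_prod (Z := Z₀) (l.map GrothLib.HodgeIndex.curveIdeal) fun D hD => by
      obtain ⟨y, hy, rfl⟩ := List.mem_map.1 hD
      have hyZ₀ := GrothLib.RatCyc12.mem_support_fundamental k hd C hCi hCd hZ₀ hZ₀s hZ₀C hC hZ₀0 hconn
        (hl y hy).1 (hZs (hl y hy).2)
      exact Scheme.IdealSheafData.le_support_iff_le_vanishingIdeal.1
        (closure_minimal (Set.singleton_subset_iff.2 hyZ₀) Z₀.support.isClosed)
    rwa [List.length_map] at h'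
  have hpow : ∀ n : ℕ, _root_.BlowUp.IsEffCartierIdeal (Z₀ ^ n) := fun n => by
    induction n with
    | zero =>
      rw [pow_zero, Scheme.IdealSheafData.one_eq_top]
      exact GrothLib.BlowUp.isEffCartierIdeal_top
    | succ n ih =>
      rw [pow_succ]
      exact GrothLib.BlowUp.isEffCartierIdeal_mul ih hZ₀
  exact GrothLib.RatCyc12.subsingleton_H1_of_le k hd hZ (hpow l.length) hle
    (GrothLib.RatCyc12.subsingleton_H1_pow k hd hchain hZ₀ hZ₀0 h.ge
      (fun y hy hyZ => GrothLib.RatCyc12.deg_nonneg k hd C hCi hCd hZ₀ hZ₀s hZ₀C hy hyZ) l.length)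


end Groth.Agent.S18454
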