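import Groth.Statements.S18455
import Groth.Agent.Lib.BlowPt28.Apply

set_option autoImplicit false
universe u
open CategoryTheory CategoryTheory.Limits AlgebraicGeometry TopologicalSpace
open Surf

namespace Groth.Agent.S18455

/-- Let k be an algebraically closed field of characteristic zero and X a smooth projective surface over
k (integral, proper and smooth over k, of dimension 2) with canonical module W, a second exterior
power of Ω_{X/k}. Let x be a closed point of X and π : X' → X a blowing up of X in the ideal of x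
(characterised by its universal property), with X' again an integral scheme of dimension 2, proper
and smooth over k through π, W' a canonical module of X' and I_E the exceptional ideal (the inverse
image of the ideal of x). Let C be an integral curve on X with ideal I_C and C' an integral curve on
X' with ideal I_{C'}, such that the inverse image ideal of C on X' equals I_{C'} · I_E^m for some
natural number m; thus C' is the proper transform of C and m the multiplicity of C at x. Writing
(A·B) = χ(O) − χ(A) − χ(B) + χ(A ⊗ B) for intersection numbers on X and on X', one has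
(I_{C'}·I_{C'}) − (I_{C'}·W') = (I_C·I_C) − (I_C·W) − m(m − 1); in terms of arithmetic genera
2p_a(C') − 2 = K'·C' + C'² = K·C + C² − m(m−1) = 2p_a(C) − 2 − m(m−1), so p_a drops by m(m−1)/2. -/
theorem result (k : Type u) [Field k] [IsAlgClosed k] [CharZero k]
    (X : Scheme.{u}) [X.Over (Spec (CommRingCat.of k))] [IsProper (X ↘ (Spec (CommRingCat.of k)))]
    [Smooth (X ↘ (Spec (CommRingCat.of k)))] [IsIntegral X] (hdim : topologicalKrullDim X = 2)
    (W : X.Modules) (hW : ExtPow.IsExtPow 2 (Omega.sheaf (X ↘ (Spec (CommRingCat.of k)))) W)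
    (x : X) (hx : IsClosed ({x} : Set X))
    (X' : Scheme.{u}) (π : X' ⟶ X) (hπ : BlowUp.IsBlowUp π (Scheme.IdealSheafData.vanishingIdeal ⟨{x}, hx⟩))
    [IsIntegral X'] (hdim' : topologicalKrullDim X' = 2)
    [IsProper (π ≫ (X ↘ (Spec (CommRingCat.of k))))] [Smooth (π ≫ (X ↘ (Spec (CommRingCat.of k))))]
    (W' : X'.Modules) (hW' : ExtPow.IsExtPow 2 (Omega.sheaf (π ≫ (X ↘ (Spec (CommRingCat.of k))))) W')
    (C : X.IdealSheafData) (hCi : IsIntegral C.subscheme) (hCd : topologicalKrullDim (C.support : Set X) = 1)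
    (C' : X'.IdealSheafData) (hC'i : IsIntegral C'.subscheme) (hC'd : topologicalKrullDim (C'.support : Set X') = 1)
    (m : ℕ) (hm : C.comap π = C' * (BlowUp.exceptional π (Scheme.IdealSheafData.vanishingIdeal ⟨{x}, hx⟩)) ^ m) :
    letI : X'.Over (Spec (CommRingCat.of k)) := ⟨π ≫ (X ↘ (Spec (CommRingCat.of k)))⟩
    FGA.intNum k X' 2 ![(ClSub.idealMod C'), (ClSub.idealMod C')] (Coh.structureModule X') -
        FGA.intNum k X' 2 ![(ClSub.idealMod C'), W'] (Coh.structureModule X') =
      FGA.intNum k X 2 ![(ClSub.idealMod C), (ClSub.idealMod C)] (Coh.structureModule X) -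
        FGA.intNum k X 2 ![(ClSub.idealMod C), W] (Coh.structureModule X) - (m : ℤ) * ((m : ℤ) - 1) := by
  letI : X'.Over (Spec (CommRingCat.of k)) := ⟨π ≫ (X ↘ (Spec (CommRingCat.of k)))⟩
  haveI : IsProper (X' ↘ (Spec (CommRingCat.of k))) := inferInstanceAs (IsProper (π ≫ (X ↘ (Spec (CommRingCat.of k)))))
  haveI : Smooth (X' ↘ (Spec (CommRingCat.of k))) := inferInstanceAs (Smooth (π ≫ (X ↘ (Spec (CommRingCat.of k)))))
  haveI := GrothLib.Euler.isNoetherian_of_proper (X := X) k
  haveI := GrothLib.Euler.isNoetherian_of_proper (X := X') k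
  have hc : ∀ Z ∈ irreducibleComponents (X : Type u), topologicalKrullDim Z = 2 :=
    GrothLib.BlowPt28.components_of_irreducible hdim
  have hc' : ∀ Z ∈ irreducibleComponents (X' : Type u), topologicalKrullDim Z = 2 :=
    GrothLib.BlowPt28.components_of_irreducible hdim'
  haveI := GrothLib.SurfRR28.smoothOfRelativeDimension_two k hc
  haveI := GrothLib.SurfRR28.smoothOfRelativeDimension_two k hc'
  obtain ⟨n, ι, hι, hιf⟩ := GrothLib.SurfRR28.exists_closedImmersion k hc
  obtain ⟨n', ι', hι', hιf'⟩ := GrothLib.SurfRR28.exists_closedImmersion k hc'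
  haveI := hι
  haveI := hι'
  have hreg := GrothLib.HodgeIndex.regular_of_smooth k (X := X)
  obtain ⟨hI, key, -, -, -⟩ := GrothLib.BlowPt28.main k hreg hx (GrothLib.BlowPt28.dim_stalk_closed k hc hx) hπ rfl
  haveI := hCi
  haveI := hC'i
  have hCc := GrothLib.HodgeIndex.isEffCartier_curve hdim hreg C (GrothLib.HodgeIndex.isTop_of_curve k hCd)
  have hCc' := GrothLib.HodgeIndex.isEffCartier_curve hdim' (GrothLib.HodgeIndex.regular_of_smooth k) C'
    (GrothLib.HodgeIndex.isTop_of_curve k hC'd)
  have hC := GrothLib.IdealModSec.isInvertible_of_isEffCartier hCc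
  have hC' := GrothLib.IdealModSec.isInvertible_of_isEffCartier hCc'
  obtain ⟨hIm, hm'⟩ := GrothLib.ArSurf29.cls_idealMod_pow hπ.1 m
  have hJ : PicF.IsInvertible (ClSub.idealMod (C.comap π)) := by
    rw [hm]
    exact GrothLib.IdealModSec.isInvertible_of_isEffCartier
      (GrothLib.BlowUp.isEffCartierIdeal_mul hCc' (GrothLib.IdealModSec.isEffCartier_of_isInvertible hIm))
  have h1 : GrothLib.Cube.pull π (GrothLib.Cube.clsMod hC) =
      GrothLib.Cube.clsMod hC' * GrothLib.Cube.clsMod hIm := by
    rw [GrothLib.Contract29.pull_cls_comap π C hC hJ]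
    revert hJ
    rw [hm]
    intro hJ
    exact GrothLib.HodgeIndex.cls_idealMod_mul hJ hC' hIm
  have hk := key (GrothLib.Cube.clsMod hC) (-(m : ℤ))
  rw [zpow_neg, zpow_natCast, h1, hm', mul_inv_cancel_right, GrothLib.BlowPt28.ptDeg_eq_one k hx] at hk
  have hone := key 1 0
  rw [zpow_zero, mul_one, map_one, GrothLib.BlowPt28.ptDeg_eq_one k hx] at hone
  have hW2 := GrothLib.SurfRR28.riemann_roch k ι hιf W hW hC
  have hW2' := GrothLib.SurfRR28.riemann_roch k ι' hιf' W' hW' hC'
  rw [GrothLib.HodgeIndex.euler_eq_chi k hC, ← GrothLib.HodgeIndex.chi_one k] at hW2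
  rw [GrothLib.HodgeIndex.euler_eq_chi k hC', ← GrothLib.HodgeIndex.chi_one k] at hW2'
  push_cast at hk hone
  linear_combination hk - hone - hW2' + hW2

end Groth.Agent.S18455
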