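import Groth.Statements.S18456
import Groth.Agent.Lib.RatCyc12.Vanish
-- import your own Groth.Agent.* helpers here

set_option autoImplicit false
universe u
open CategoryTheory CategoryTheory.Limits AlgebraicGeometry TopologicalSpace
open Surf

namespace Groth.Agent.S18456

theorem sum_map_eq_count {r : ℕ} (f : Fin r → ℤ) :
    ∀ li : List (Fin r), (li.map f).sum = ∑ i, (li.count i : ℤ) * f i
  | [] => by simp
  | a :: li => by
    rw [List.map_cons, List.sum_cons, sum_map_eq_count f li]
    simp only [List.count_cons, beq_iff_eq, Nat.cast_add, add_mul, Finset.sum_add_distrib]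
    rw [add_comm]
    congr 1
    simp

/-- Let k be an algebraically closed field of characteristic zero and X a smooth projective surface over
k (integral, proper and smooth over k, of dimension 2). Let C_1, …, C_r be pairwise distinct
integral curves on X with ideal sheaves I_i, each with H¹(C_i, O_{C_i}) = 0 (so C_i ≅ P¹) and
self-intersection (I_i·I_i) = −2, and with negative definite intersection matrix: Σ_{i,j} a_i a_j
(I_i·I_j) < 0 for every nonzero integer vector a, where (A·B) = χ(O_X) − χ(A) − χ(B) + χ(A ⊗ B).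
Then H¹(Z, O_Z) = 0 for every nonzero effective Cartier divisor Z on X supported on ⋃ C_i,
cohomology computed on X through the direct image of O_Z. The published statement concludes that the
singularity obtained by contracting the configuration over the complex numbers is rational; the
vanishing for all supported nonzero effective divisors is the form of rationality the printed
argument establishes, and this row states that form. -/
theorem result (k : Type u) [Field k] [IsAlgClosed k] [CharZero k]
    (X : Scheme.{u}) [X.Over (Spec (CommRingCat.of k))] [IsProper (X ↘ (Spec (CommRingCat.of k)))]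
    [Smooth (X ↘ (Spec (CommRingCat.of k)))] [IsIntegral X] (hdim : topologicalKrullDim X = 2)
    (r : ℕ) (C : Fin r → X.IdealSheafData) (hC : Function.Injective C)
    (hCi : ∀ i, IsIntegral (C i).subscheme) (hCd : ∀ i, topologicalKrullDim ((C i).support : Set X) = 1)
    (hCrat : ∀ i, Subsingleton (Coh.HH X (ClSub.quotMod (C i)) 1))
    (hC2 : ∀ i, FGA.intNum k X 2 ![(ClSub.idealMod (C i)), (ClSub.idealMod (C i))] (Coh.structureModule X) = -2)
    (hneg : ∀ a : Fin r → ℤ, a ≠ 0 →
      ∑ i, ∑ j, a i * a j * FGA.intNum k X 2 ![(ClSub.idealMod (C i)), (ClSub.idealMod (C j))] (Coh.structureModule X) < 0)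
    (Z : X.IdealSheafData) (hZ : FGA.IsEffCartier Z) (hZ0 : Z ≠ ⊤)
    (hZs : (Z.support : Set X) ⊆ ⋃ i, ((C i).support : Set X)) :
    Subsingleton (Coh.HH X (ClSub.quotMod Z) 1) := by
  classical
  have hd : topologicalKrullDim X = ((2 : ℕ) : WithBot ℕ∞) := hdim
  haveI := GrothLib.Euler.isNoetherian_of_proper (X := X) k
  obtain ⟨H, hH⟩ := GrothLib.Goodman.exists_ample_of_smooth_surface k hd
  choose ys hys hye hysC using fun i => GrothLib.HodgeIndex.exists_curve_point k hd (hCi i) (hCd i)
  refine GrothLib.RatCyc12.subsingleton_H1 k hd Z hZ fun A J hA hJ hA0 he => ?_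
  have hAi := GrothLib.IdealModSec.isInvertible_of_isEffCartier hA
  have hAZ : (A.support : Set X) ⊆ ⋃ i, ((C i).support : Set X) := fun x hx =>
    hZs (Scheme.IdealSheafData.support_antitone (he.le.trans (GrothLib.ArSurf29.mul_le_left' _ _)) hx)
  obtain ⟨l, hl, hlA⟩ := GrothLib.RatCyc12.exists_list k hd A hA
  have hidx : ∀ y ∈ l, ∃ i, ys i = y := fun y hy => by
    obtain ⟨i, hi⟩ := Set.mem_iUnion.1 (hAZ (hl y hy).2)
    rw [← hye i, show ((GrothLib.HodgeIndex.curveIdeal (ys i)).support : Set X) = closure {ys i} from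
      Scheme.IdealSheafData.coe_support_vanishingIdeal _] at hi
    exact ⟨i, (hl y hy).1.eq_of_specializes (specializes_iff_mem_closure.2 hi) (hys i).dimLT⟩
  obtain ⟨li, hli⟩ : ∃ li : List (Fin r), l = li.map ys := by
    clear hlA hl
    induction l with
    | nil => exact ⟨[], rfl⟩
    | cons y l ih =>
      obtain ⟨i, rfl⟩ := hidx y (List.mem_cons_self ..)
      obtain ⟨li, rfl⟩ := ih fun z hz => hidx z (List.mem_cons_of_mem _ hz)
      exact ⟨i :: li, rfl⟩
  have hcls := GrothLib.RatCyc12.cls_eq_list k hd hAi l (fun y hy => (hl y hy).1) hlA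
  rw [GrothLib.RatCyc12.euler_quot_eq k hAi, hcls]
  obtain ⟨c, hc⟩ : ∃ c : Fin r → GrothLib.Cube.Pic X, c = fun i => GrothLib.HodgeIndex.cCl (C i) := ⟨_, rfl⟩
  have hmap : l.map (fun y => GrothLib.HodgeIndex.cCl (GrothLib.HodgeIndex.curveIdeal y)) = li.map c := by
    rw [hli, List.map_map, hc]
    refine List.map_congr_left fun i _ => ?_
    show GrothLib.HodgeIndex.cCl (GrothLib.HodgeIndex.curveIdeal (ys i)) = _
    rw [hye i]
  rw [hmap]
  let Q : Fin r → Fin r → ℤ := fun i j => GrothLib.HodgeIndex.isect k (c i) (c j)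
  have hQ : ∀ i j, FGA.intNum k X 2 ![ClSub.idealMod (C i), ClSub.idealMod (C j)] (Coh.structureModule X) = Q i j :=
    fun i j => by
      rw [GrothLib.HodgeIndex.intNum_curves k hd (hCi i) (hCd i) (hCi j) (hCd j) hH]
      simp only [Q, hc]
  simp only [hQ] at hneg hC2
  have hk : ∀ i, GrothLib.RatCyc12.kdeg k (c i) = 0 := fun i => by
    have h1 : Curv2.euler k X (ClSub.quotMod (C i)) = 1 := by
      haveI := hCrat i
      rw [← hye i] at this
      rw [← hye i, GrothLib.RatCyc12.euler_quot_sub k _ (GrothLib.NumConn12.dim_pt (hys i)),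
        GrothLib.SurfRR28.finrank_H0_quotMod k _ (GrothLib.Snapper.isIntegral_pt (ys i)),
        Module.finrank_zero_of_subsingleton]
      norm_num
    rw [GrothLib.RatCyc12.euler_quot_eq k (GrothLib.HodgeIndex.inv_curve k hd (hCi i) (hCd i))] at h1
    have h2 : GrothLib.RatCyc12.chiD k (c i) = 1 := by
      rw [hc]
      show GrothLib.RatCyc12.chiD k (GrothLib.HodgeIndex.cCl (C i)) = 1
      rw [GrothLib.HodgeIndex.cCl, dif_pos (GrothLib.HodgeIndex.inv_curve k hd (hCi i) (hCd i))]
      exact h1
    rw [GrothLib.RatCyc12.kdeg, h2, show GrothLib.HodgeIndex.isect k (c i) (c i) = -2 from hC2 i]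
    norm_num
  have hkz : GrothLib.RatCyc12.kdeg k (li.map c).prod = 0 := by
    rw [GrothLib.RatCyc12.kdeg_prod k hd, List.map_map]
    exact List.sum_eq_zero fun x hx => by
      obtain ⟨i, -, rfl⟩ := List.mem_map.1 hx
      exact hk i
  have hne : (fun i => (li.count i : ℤ)) ≠ 0 := fun h0 => by
    cases li with
    | nil =>
      rw [hlA, hli, List.map_nil, List.map_nil, List.prod_nil] at hA0
      exact hA0 Scheme.IdealSheafData.one_eq_top
    | cons i li =>
      have := congrFun h0 i
      simp at this
      omega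
  have hzz : GrothLib.HodgeIndex.isect k (li.map c).prod (li.map c).prod < 0 := by
    rw [GrothLib.RatCyc12.isect_prod k hd, List.map_map, sum_map_eq_count]
    refine lt_of_eq_of_lt (Finset.sum_congr rfl fun j _ => ?_) (hneg _ hne)
    rw [Function.comp_apply, GrothLib.HodgeIndex.isect_comm, GrothLib.RatCyc12.isect_prod k hd, List.map_map,
      sum_map_eq_count, Finset.mul_sum]
    exact Finset.sum_congr rfl fun i _ => by simp only [Q, Function.comp_apply]; ring
  simp only [GrothLib.RatCyc12.kdeg] at hkz
  omega


end Groth.Agent.S18456
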