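import Groth.Statements.S18457
import Mathlib

set_option autoImplicit false
open Finset
open Surf

namespace Groth.Agent.S18457

/-- In the Picard lattice of the plane blown up at n ≤ 8 points, with basis h, e_1, …, e_n, form h² = 1,
e_i² = −1, all other products 0, and anticanonical class D = 3h − Σ e_i, let d·h − Σ a_i e_i be a
class with all a_i ≥ 0 (the class of the strict transform of a degree-d plane curve having
multiplicity a_i at the i-th point) which is a (−2)-class orthogonal to D, that is d² − Σ a_i² = −2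
and 3d = Σ a_i. Then one of the following holds: d = 1 and every a_i is 0 or 1 with exactly three
equal to 1; d = 2 and every a_i is 0 or 1 with exactly six equal to 1; d = 3, n = 8, and one a_i
equals 2 while the remaining seven equal 1. The published statement is geometric: under the
general-position hypotheses on the points, no smooth rational curve on the blown-up plane is
orthogonal to D; this row is the lattice enumeration its proof carries out (a line through three of
the points, a conic through six, a cubic through all eight and singular at one). -/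
theorem result (n : ℕ) (hn : n ≤ 8)
    (d : ℤ) (a : Fin n → ℤ) (ha : ∀ i, 0 ≤ a i)
    (hsq : d ^ 2 - ∑ i, (a i) ^ 2 = -2) (hK : 3 * d = ∑ i, a i) :
    (d = 1 ∧ (∀ i, a i = 0 ∨ a i = 1) ∧ (Finset.univ.filter (fun i => a i = 1)).card = 3) ∨
      (d = 2 ∧ (∀ i, a i = 0 ∨ a i = 1) ∧ (Finset.univ.filter (fun i => a i = 1)).card = 6) ∨
      (d = 3 ∧ n = 8 ∧ ∃ j, a j = 2 ∧ ∀ i, i ≠ j → a i = 1) := by
  classical
  set S := ∑ i, a i with hS
  set T := ∑ i, (a i) ^ 2 with hT
  have hd0 : 0 ≤ d := by
    have : 0 ≤ S := Finset.sum_nonneg fun i _ => ha i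
    omega
  have hcs : S ^ 2 ≤ 8 * T := by
    have h1 := sq_sum_le_card_mul_sum_sq (s := Finset.univ) (f := a)
    simp only [Finset.card_univ, Fintype.card_fin] at h1
    have hT0 : 0 ≤ T := Finset.sum_nonneg fun i _ => sq_nonneg _
    have : (n : ℤ) * T ≤ 8 * T := mul_le_mul_of_nonneg_right (by exact_mod_cast hn) hT0
    exact h1.trans this
  have hd4 : d ≤ 4 := by nlinarith
  have hshift : ∀ u v : ℤ, ∑ i, (u * a i - v) ^ 2 = u ^ 2 * T - 2 * u * v * S + n * v ^ 2 := by
    intro u v
    simp only [sub_sq, mul_pow, Finset.sum_add_distrib, Finset.sum_sub_distrib, Finset.sum_const,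
      Finset.card_univ, Fintype.card_fin, nsmul_eq_mul, hT, hS, Finset.mul_sum]
    congr 2
    exact Finset.sum_congr rfl fun i _ => by ring
  have h01 : S = T → (∀ i, a i = 0 ∨ a i = 1) ∧
      ((Finset.univ.filter (fun i => a i = 1)).card : ℤ) = S := by
    intro hST
    have hz : ∑ i, ((a i) ^ 2 - a i) = 0 := by
      rw [Finset.sum_sub_distrib]; omega
    have hall : ∀ i, a i = 0 ∨ a i = 1 := fun i => by
      have := (Finset.sum_eq_zero_iff_of_nonneg (fun i _ => by nlinarith [ha i, sq_nonneg (a i - 1), sq_nonneg (a i)])).mp hz i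
        (Finset.mem_univ i)
      have : a i * (a i - 1) = 0 := by linarith
      rcases mul_eq_zero.mp this with h | h
      · exact Or.inl h
      · exact Or.inr (by omega)
    refine ⟨hall, ?_⟩
    rw [Finset.card_filter, hS]
    push_cast
    exact Finset.sum_congr rfl fun i _ => by rcases hall i with h | h <;> simp [h]
  interval_cases d
  · have hS0 : S = 0 := by omega
    have : ∀ i, a i = 0 := fun i =>
      (Finset.sum_eq_zero_iff_of_nonneg (fun i _ => ha i)).mp (hS ▸ hS0) i (Finset.mem_univ i)
    have : T = 0 := by simp [hT, this]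
    omega
  · obtain ⟨h1, h2⟩ := h01 (by omega)
    exact Or.inl ⟨rfl, h1, by omega⟩
  · obtain ⟨h1, h2⟩ := h01 (by omega)
    exact Or.inr (Or.inl ⟨rfl, h1, by omega⟩)
  · have h1 := hshift 1 1
    have hnn : 0 ≤ ∑ i, (1 * a i - 1) ^ 2 := Finset.sum_nonneg fun i _ => sq_nonneg _
    have hn7 : n = 7 ∨ n = 8 := by omega
    rcases hn7 with rfl | rfl
    · have hz : ∑ i, (1 * a i - 1) ^ 2 = 0 := by omega
      have hall : ∀ i, a i = 1 := fun i => by
        have := (Finset.sum_eq_zero_iff_of_nonneg (fun i _ => sq_nonneg (1 * a i - 1))).mp hz i (Finset.mem_univ i)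
        have := sq_eq_zero_iff.mp this
        omega
      have : S = 7 := by simp [hS, hall]
      omega
    · have hz : ∑ i, (1 * a i - 1) ^ 2 = 1 := by omega
      obtain ⟨j, -, hj⟩ := Finset.exists_ne_zero_of_sum_ne_zero (by omega : ∑ i, (1 * a i - 1) ^ 2 ≠ 0)
      have hsplit := Finset.add_sum_erase Finset.univ (fun i => (1 * a i - 1) ^ 2) (Finset.mem_univ j)
      have hjpos : 0 < (1 * a j - 1) ^ 2 := lt_of_le_of_ne (sq_nonneg _) (Ne.symm hj)
      have hrest0 : 0 ≤ ∑ i ∈ Finset.univ.erase j, (1 * a i - 1) ^ 2 :=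
        Finset.sum_nonneg fun i _ => sq_nonneg _
      have hrest : ∑ i ∈ Finset.univ.erase j, (1 * a i - 1) ^ 2 = 0 := by omega
      have hother : ∀ i, i ≠ j → a i = 1 := fun i hi => by
        have := (Finset.sum_eq_zero_iff_of_nonneg (fun i _ => sq_nonneg (1 * a i - 1))).mp hrest i
          (Finset.mem_erase.mpr ⟨hi, Finset.mem_univ i⟩)
        have := sq_eq_zero_iff.mp this
        omega
      refine Or.inr (Or.inr ⟨rfl, rfl, j, ?_, hother⟩)
      have hs := Finset.add_sum_erase Finset.univ a (Finset.mem_univ j)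
      rw [Finset.sum_congr rfl (fun i hi => hother i (Finset.ne_of_mem_erase hi))] at hs
      simp at hs
      omega
  · exfalso
    have h2 := hshift 2 3
    have hnn : ∀ i, 1 ≤ (2 * a i - 3) ^ 2 := fun i => by
      have : (2 * a i - 3) ≠ 0 := by omega
      nlinarith [sq_abs (2 * a i - 3), Int.one_le_abs this, abs_nonneg (2 * a i - 3)]
    have h3 : (n : ℤ) ≤ ∑ i, (2 * a i - 3) ^ 2 := by
      simpa using Finset.card_nsmul_le_sum Finset.univ (fun i => (2 * a i - 3) ^ 2) 1 (fun i _ => hnn i)
    omega

end Groth.Agent.S18457
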