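import Groth.Statements.S18458
import Groth.Agent.Lib.HodgeIndex.NegCurves

set_option autoImplicit false
set_option linter.all false
universe u
open CategoryTheory CategoryTheory.Limits AlgebraicGeometry TopologicalSpace
open Surf

namespace Groth.Agent.S18458

/-- Let k be an algebraically closed field of characteristic zero and X a smooth projective surface over
k (integral, proper and smooth over k, of dimension 2, carrying an ample invertible module). Let
C_1, …, C_r be pairwise distinct integral curves on X with ideal sheaves I_i whose intersection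
matrix is negative definite: Σ_{i,j} a_i a_j (I_i·I_j) < 0 for every nonzero integer vector a, where
(A·B) = χ(O_X) − χ(A) − χ(B) + χ(A ⊗ B). Then there is an invertible O_X-module L (the sheaf of a
divisor H) which is nef and big and is orthogonal to exactly the curves C_i: writing (L·C) = χ(O_C ⊗
L) − χ(O_C) for the degree of L on an integral curve C, one has (L·C) ≥ 0 for every integral curve
C, (L·L) > 0, and (L·C) = 0 if and only if C is one of the C_i. -/
theorem result (k : Type u) [Field k] [IsAlgClosed k] [CharZero k]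
    (X : Scheme.{u}) [X.Over (Spec (CommRingCat.of k))] [IsProper (X ↘ (Spec (CommRingCat.of k)))]
    [Smooth (X ↘ (Spec (CommRingCat.of k)))] [IsIntegral X] (hdim : topologicalKrullDim X = 2)
    (hproj : ∃ H : X.Modules, CohB1.IsAmple H)
    (r : ℕ) (C : Fin r → X.IdealSheafData) (hC : Function.Injective C)
    (hCi : ∀ i, IsIntegral (C i).subscheme) (hCd : ∀ i, topologicalKrullDim ((C i).support : Set X) = 1)
    (hneg : ∀ a : Fin r → ℤ, a ≠ 0 →
      ∑ i, ∑ j, a i * a j * FGA.intNum k X 2 ![(ClSub.idealMod (C i)), (ClSub.idealMod (C j))] (Coh.structureModule X) < 0) :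
    ∃ L : X.Modules, PicF.IsInvertible L ∧
      (∀ D : X.IdealSheafData, IsIntegral D.subscheme → topologicalKrullDim (D.support : Set X) = 1 →
        0 ≤ Curv2.euler k X (CohB1.tensorMod (ClSub.quotMod D) L) - Curv2.euler k X (ClSub.quotMod D)) ∧
      0 < FGA.intNum k X 2 ![L, L] (Coh.structureModule X) ∧
      (∀ D : X.IdealSheafData, IsIntegral D.subscheme → topologicalKrullDim (D.support : Set X) = 1 →
        (Curv2.euler k X (CohB1.tensorMod (ClSub.quotMod D) L) - Curv2.euler k X (ClSub.quotMod D) = 0 ↔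
          ∃ i, D = C i)) := by
  have hd : topologicalKrullDim X = ((2 : ℕ) : WithBot ℕ∞) := hdim
  obtain ⟨H, hH⟩ := hproj
  let c : Fin r → GrothLib.Cube.Pic X := fun i => GrothLib.HodgeIndex.cCl (C i)
  let Q : Matrix (Fin r) (Fin r) ℤ := fun i j => GrothLib.HodgeIndex.isect k (c i) (c j)
  have hG : ∀ i j, FGA.intNum k X 2 ![ClSub.idealMod (C i), ClSub.idealMod (C j)] (Coh.structureModule X) = Q i j :=
    fun i j => GrothLib.HodgeIndex.intNum_curves k hd (hCi i) (hCd i) (hCi j) (hCd j) hH
  have hQ : ∀ i j, Q i j = Q j i := fun i j => GrothLib.HodgeIndex.isect_comm k _ _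
  have hoff : ∀ i j, i ≠ j → 0 ≤ Q i j := fun i j h =>
    GrothLib.HodgeIndex.isect_curves_nonneg k hd (hCi i) (hCd i) (hCi j) (hCd j) fun e => h (hC e)
  have hh : ∀ i, 0 < GrothLib.HodgeIndex.isect k (GrothLib.Cube.clsMod hH.1) (c i) := fun i =>
    GrothLib.HodgeIndex.isect_ample_curve_pos k hd (hCi i) (hCd i) hH
  simp only [hG] at hneg
  obtain ⟨h, hhh⟩ : ∃ h, h = GrothLib.Cube.clsMod hH.1 := ⟨_, rfl⟩
  rw [← hhh] at hh
  obtain ⟨b, hb⟩ := GrothLib.HodgeIndex.exists_mul_eq Q hQ (fun j => GrothLib.HodgeIndex.isect k h (c j))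
  have hdet : 0 < |Q.det| := abs_pos.2 (GrothLib.HodgeIndex.det_ne_zero Q hneg)
  have hb0 : ∀ i, 0 ≤ b i := GrothLib.HodgeIndex.nonneg_of_mul_nonpos Q hQ hoff hneg b fun j => by
    rw [hb j]; nlinarith [hh j]
  obtain ⟨l, hl⟩ : ∃ l, l = h ^ Q.det.natAbs * ∏ i, c i ^ (b i).toNat := ⟨_, rfl⟩
  have hlin : ∀ w, GrothLib.HodgeIndex.isect k l w =
      |Q.det| * GrothLib.HodgeIndex.isect k h w + ∑ i, b i * GrothLib.HodgeIndex.isect k (c i) w := fun w => by
    have hprod : ∀ s : Finset (Fin r), GrothLib.HodgeIndex.isect k (∏ i ∈ s, c i ^ (b i).toNat) w =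
        ∑ i ∈ s, b i * GrothLib.HodgeIndex.isect k (c i) w := fun s => by
      induction s using Finset.induction with
      | empty => simp [GrothLib.HodgeIndex.isect_one_left k hd.le]
      | insert j s hj ih =>
        rw [Finset.prod_insert hj, Finset.sum_insert hj, GrothLib.HodgeIndex.isect_mul_left k hd.le, ih,
          GrothLib.HodgeIndex.isect_pow_left k hd.le, Int.toNat_of_nonneg (hb0 j)]
    rw [hl, GrothLib.HodgeIndex.isect_mul_left k hd.le, GrothLib.HodgeIndex.isect_pow_left k hd.le,
      hprod, Int.natCast_natAbs]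
  have hlc : ∀ j, GrothLib.HodgeIndex.isect k l (c j) = 0 := fun j => by
    rw [hlin]
    show |Q.det| * _ + ∑ i, b i * Q i j = 0
    rw [hb j]; ring
  refine ⟨GrothLib.HodgeIndex.rep l, GrothLib.HodgeIndex.isInv_rep l, ?_, ?_, ?_⟩
  all_goals
    have hcurve : ∀ D : X.IdealSheafData, IsIntegral D.subscheme → topologicalKrullDim (D.support : Set X) = 1 →
        (∀ i, D ≠ C i) → 0 < GrothLib.HodgeIndex.isect k l (GrothLib.HodgeIndex.cCl D) := fun D hD hD1 hne => by
      rw [hlin]
      refine add_pos_of_pos_of_nonneg (mul_pos hdet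
        (hhh ▸ GrothLib.HodgeIndex.isect_ample_curve_pos k hd hD hD1 hH)) (Finset.sum_nonneg fun i _ => ?_)
      exact mul_nonneg (hb0 i)
        (GrothLib.HodgeIndex.isect_curves_nonneg k hd (hCi i) (hCd i) hD hD1 (hne i).symm)
  · intro D hD hD1
    rw [GrothLib.HodgeIndex.euler_sub_eq_isect k hd hD hD1 (GrothLib.HodgeIndex.isInv_rep l),
      GrothLib.HodgeIndex.cls_rep]
    by_cases he : ∃ i, D = C i
    · obtain ⟨i, rfl⟩ := he
      exact (hlc i).ge
    · push Not at he
      exact (hcurve D hD hD1 he).le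
  · rw [GrothLib.HodgeIndex.intNum_eq_isect k hd.le hH (GrothLib.HodgeIndex.isInv_rep l)
      (GrothLib.HodgeIndex.isInv_rep l), GrothLib.HodgeIndex.cls_rep, hlin]
    have hlh : 0 < GrothLib.HodgeIndex.isect k l h := by
      rw [hlin]
      refine add_pos_of_pos_of_nonneg (mul_pos hdet ?_) (Finset.sum_nonneg fun i _ => ?_)
      · rw [hhh]; exact GrothLib.HodgeIndex.isect_self_pos k hd.le hd hH
      · rw [GrothLib.HodgeIndex.isect_comm]
        exact mul_nonneg (hb0 i) (hh i).le
    rw [GrothLib.HodgeIndex.isect_comm k h l]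
    refine add_pos_of_pos_of_nonneg (mul_pos hdet hlh) (Finset.sum_nonneg fun i _ => ?_)
    rw [GrothLib.HodgeIndex.isect_comm, hlc, mul_zero]
  · intro D hD hD1
    rw [GrothLib.HodgeIndex.euler_sub_eq_isect k hd hD hD1 (GrothLib.HodgeIndex.isInv_rep l),
      GrothLib.HodgeIndex.cls_rep]
    refine ⟨fun h0 => ?_, ?_⟩
    · by_contra he
      push Not at he
      exact (hcurve D hD hD1 he).ne' h0
    · rintro ⟨i, rfl⟩
      exact hlc i

end Groth.Agent.S18458
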