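import Groth.Statements.S18459
import Groth.Agent.Lib.Hirzebruch12.Nef
-- import your own Groth.Agent.* helpers here

set_option autoImplicit false
universe u
open CategoryTheory CategoryTheory.Limits AlgebraicGeometry TopologicalSpace
open Surf

namespace Groth.Agent.S18459

/-- Fix an algebraically closed field k of characteristic zero, and suppose X is a smooth projective
surface over k (integral, proper and smooth over k, of dimension 2). Assume given a surjective
k-morphism π : X → P¹_k each of whose fibres over a closed point is isomorphic to P¹_k, together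
with an integral curve σ ⊂ X having ideal sheaf I_σ, such that π^*O(1) restricts to a degree-1 sheaf
on σ (σ·f = 1 for the fibre class f, so σ is a section) and (I_σ·I_σ) = −n for some natural number n
(σ² = −n); in other words X is the rational ruled surface F_n and σ its negative section. Take N to
be a tensor inverse of I_σ (the sheaf O_X(σ)), fix integers a ≥ 0 and b, and set L = N^{⊗a} ⊗
π^*O_{P¹}(b), the sheaf attached to aσ + bf. The conclusions: (i) L is nef, meaning χ(O_C ⊗ L) −
χ(O_C) ≥ 0 for each integral curve C ⊂ X, exactly when na ≤ b; (ii) L is globally generated exactly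
when na ≤ b; (iii) L admits a nonzero global section (equivalently, some effective divisor lies in
the linear class of aσ + bf) exactly when 0 ≤ b. Intersection numbers are computed as (A·B) = χ(O_X)
− χ(A) − χ(B) + χ(A ⊗ B). In the published version a may be any integer, with a ≥ 0 included in the
numerical condition; when a < 0 none of the three properties holds, and here a ≥ 0 is imposed.
Neither the published second condition (|aσ + bf| non-empty with no fixed curve) nor the ampleness
criterion a > 0, b > na is restated. -/
theorem result (k : Type u) [Field k] [IsAlgClosed k] [CharZero k]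
    (X : Scheme.{u}) [X.Over (Spec (CommRingCat.of k))] [IsProper (X ↘ (Spec (CommRingCat.of k)))]
    [Smooth (X ↘ (Spec (CommRingCat.of k)))] [IsIntegral X] (hdim : topologicalKrullDim X = 2)
    (π : X ⟶ CohB1.ProjSpace 1 k) (hπ : π ≫ CohB1.ProjSpace.toSpec 1 k = (X ↘ (Spec (CommRingCat.of k))))
    (hsurj : Function.Surjective π)
    (hfib : ∀ y : CohB1.ProjSpace 1 k, IsClosed ({y} : Set (CohB1.ProjSpace 1 k)) →
      Nonempty (pullback π ((CohB1.ProjSpace 1 k).fromSpecResidueField y) ≅ CohB1.ProjSpace 1 k))
    (σ : X.IdealSheafData) (hσi : IsIntegral σ.subscheme) (hσd : topologicalKrullDim (σ.support : Set X) = 1)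
    (hσf : Curv2.euler k X (CohB1.tensorMod (ClSub.quotMod σ) ((Scheme.Modules.pullback π).obj (Twist.twistProjSpace 1 k 1))) -
      Curv2.euler k X (ClSub.quotMod σ) = 1)
    (n : ℕ) (hσσ : FGA.intNum k X 2 ![(ClSub.idealMod σ), (ClSub.idealMod σ)] (Coh.structureModule X) = -(n : ℤ))
    (N : X.Modules) (hN : ClSub.IsInverseOf N (ClSub.idealMod σ)) (a : ℕ) (b : ℤ) :
    ((∀ C : X.IdealSheafData, IsIntegral C.subscheme → topologicalKrullDim (C.support : Set X) = 1 →
        0 ≤ Curv2.euler k X (CohB1.tensorMod (ClSub.quotMod C)
          (CohB1.tensorMod (CohB1.tensorPow N a) ((Scheme.Modules.pullback π).obj (Twist.twistProjSpace 1 k b)))) -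
          Curv2.euler k X (ClSub.quotMod C)) ↔ (n : ℤ) * a ≤ b) ∧
      (Curv2.IsGloballyGenerated (CohB1.tensorMod (CohB1.tensorPow N a) ((Scheme.Modules.pullback π).obj (Twist.twistProjSpace 1 k b))) ↔
        (n : ℤ) * a ≤ b) ∧
      (Nontrivial (Coh.HH X (CohB1.tensorMod (CohB1.tensorPow N a) ((Scheme.Modules.pullback π).obj (Twist.twistProjSpace 1 k b))) 0) ↔
        0 ≤ b) := by
  exact GrothLib.Hirzebruch12.hirzebruch_coeff k hdim π hπ hsurj hfib σ hσi hσd hσf n hσσ N hN a b


end Groth.Agent.S18459
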