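import Groth.Statements.S1846
import Groth.Agent.Lib.Hopf.Kaehler
-- import your own Groth.Agent.* helpers here

set_option autoImplicit false
universe u v
open GrpSch

namespace Groth.Agent.S1846

/-- Affine case of the last sentence: for a group scheme over a field the module of differentials is a
free module; stated for an affine group scheme Spec B, i.e. for a commutative Hopf algebra B over a
field K: Ω_{B/K} is a free B-module. -/
theorem result (K : Type u) [Field K] (B : Type v) [CommRing B] [HopfAlgebra K B] : Module.Free B (Ω[B⁄K]) := by
  exact GrothLib.Hopf.Kaehler.free K B


end Groth.Agent.S1846
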