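import Groth.Statements.S18460
import Groth.Agent.Lib.NegContract12.Main
import Mathlib.Topology.JacobsonSpace
import Mathlib.AlgebraicGeometry.Morphisms.FiniteType
-- import your own Groth.Agent.* helpers here

set_option autoImplicit false
universe u
open CategoryTheory CategoryTheory.Limits AlgebraicGeometry TopologicalSpace
open Surf

namespace Groth.Agent.S18460

/-- Let k be an algebraically closed field of characteristic zero and X a smooth projective surface over
k (integral, proper and smooth over k, of dimension 2). Let Y be an integral normal scheme of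
dimension 2, locally of finite type over k, y a closed point of Y, and π : X → Y a proper k-morphism
which restricts to an isomorphism over Y ∖ {y} and whose fibre over y is, as a set, the union of
pairwise distinct integral curves C_1, …, C_r on X (r ≥ 1, ideal sheaves I_i), this union being
connected; so π contracts the connected curve C = ⋃ C_i to the normal point y. Then the intersection
matrix of the C_i is negative definite: Σ_{i,j} a_i a_j (I_i·I_j) < 0 for every nonzero integer
vector a, where (A·B) = χ(O_X) − χ(A) − χ(B) + χ(A ⊗ B). The published statement is about a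
holomorphic contraction of a compact connected curve in a complex surface to a point of a normal
analytic surface; this row is the algebraic case, with Y locally of finite type so that the local
ring at y is a two-dimensional Noetherian normal domain and a nonzero function vanishing at y cuts
out a curve through y, which is what the printed argument (pull back such a function and apply the
formal negativity lemma proved there) uses. -/
theorem result (k : Type u) [Field k] [IsAlgClosed k] [CharZero k]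
    (X : Scheme.{u}) [X.Over (Spec (CommRingCat.of k))] [IsProper (X ↘ (Spec (CommRingCat.of k)))]
    [Smooth (X ↘ (Spec (CommRingCat.of k)))] [IsIntegral X] (hdim : topologicalKrullDim X = 2)
    (Y : Scheme.{u}) [Y.Over (Spec (CommRingCat.of k))] [IsIntegral Y] (hYn : Pi1.IsNormalScheme Y)
    (hYd : topologicalKrullDim Y = 2)
    [LocallyOfFiniteType (Y ↘ (Spec (CommRingCat.of k)))]
    (π : X ⟶ Y) (hπk : π ≫ (Y ↘ (Spec (CommRingCat.of k))) = (X ↘ (Spec (CommRingCat.of k)))) [IsProper π]
    (y : Y) (hy : IsClosed ({y} : Set Y)) (hiso : IsIso (π ∣_ (⟨({y} : Set Y)ᶜ, hy.isOpen_compl⟩ : Y.Opens)))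
    (r : ℕ) (hr : 0 < r) (C : Fin r → X.IdealSheafData) (hC : Function.Injective C)
    (hCi : ∀ i, IsIntegral (C i).subscheme) (hCd : ∀ i, topologicalKrullDim ((C i).support : Set X) = 1)
    (hfib : (π.base : X → Y) ⁻¹' {y} = ⋃ i, ((C i).support : Set X))
    (hconn : _root_.IsConnected (⋃ i, ((C i).support : Set X))) :
    ∀ a : Fin r → ℤ, a ≠ 0 →
      ∑ i, ∑ j, a i * a j * FGA.intNum k X 2 ![(ClSub.idealMod (C i)), (ClSub.idealMod (C j))] (Coh.structureModule X) < 0 := by
  classical
  haveI := GrothLib.Euler.isNoetherian_of_proper (X := X) k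
  have hd : topologicalKrullDim X = ((2 : ℕ) : WithBot ℕ∞) := hdim
  have hreg := GrothLib.HodgeIndex.regular_of_smooth k (X := X)
  obtain ⟨H, hH⟩ := GrothLib.Goodman.exists_ample_of_smooth_surface k hd
  haveI : JacobsonSpace X := LocallyOfFiniteType.jacobsonSpace (X ↘ Spec (CommRingCat.of k))
  choose ys hys hye hysC using fun i => GrothLib.HodgeIndex.exists_curve_point k hd (hCi i) (hCd i)
  have hCsupp : ∀ i, ((C i).support : Set X) = closure {ys i} := fun i =>
    GrothLib.NegContract12.support_curve (hye i)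
  -- the fibre and its complement
  let W : Y.Opens := ⟨({y} : Set Y)ᶜ, hy.isOpen_compl⟩
  have hhomeo : Function.Bijective (π ∣_ W).base :=
    ConcreteCategory.bijective_of_isIso (π ∣_ W).base
  have hinj : ∀ a b : X, π a ≠ y → π b ≠ y → π a = π b → a = b := fun a b ha hb hab => by
    have h := @hhomeo.1 ⟨a, ha⟩ ⟨b, hb⟩ (Subtype.ext ((morphismRestrict_base_coe π W ⟨a, ha⟩).trans
      (hab.trans (morphismRestrict_base_coe π W ⟨b, hb⟩).symm)))
    exact congrArg Subtype.val h
  have hηy : genericPoint Y ≠ y := fun h => by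
    have hall : ∀ x : Y, x = genericPoint Y := fun x => by
      have := ((genericPoint_spec Y).specializes (Set.mem_univ x)).mem_closed hy (Set.mem_singleton_iff.2 h)
      exact (Set.mem_singleton_iff.1 this).trans h.symm
    haveI : Subsingleton Y := ⟨fun a b => (hall a).trans (hall b).symm⟩
    have h2 : topologicalKrullDim Y ≤ 0 := topologicalKrullDim_zero_of_discreteTopology Y
    rw [hYd] at h2
    exact absurd h2 (by decide)
  obtain ⟨⟨x₁, hx₁W⟩, hx₁⟩ := hhomeo.2 ⟨genericPoint Y, hηy⟩
  have hπη : π (genericPoint X) = genericPoint Y := by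
    have h1 : π x₁ = genericPoint Y :=
      (morphismRestrict_base_coe π W ⟨x₁, hx₁W⟩).symm.trans (congrArg Subtype.val hx₁)
    have h2 : π (genericPoint X) ⤳ genericPoint Y :=
      h1 ▸ ((genericPoint_spec X).specializes (Set.mem_univ x₁)).map π.continuous
    exact (Specializes.antisymm h2 ((genericPoint_spec Y).specializes (Set.mem_univ _))).eq
  -- an affine neighbourhood of the point
  obtain ⟨U₀, hU₀, hyU, -⟩ := exists_isAffineOpen_mem_and_subset (x := y) (U := ⊤) trivial
  have hxs : ∀ j, ∃ x : X, x ∈ ((C j).support : Set X) ∧ IsClosed ({x} : Set X) := fun j => by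
    obtain ⟨x, hx, hxc⟩ := (C j).support.isClosed.exists_closed_singleton
      ⟨ys j, hysC j⟩
    exact ⟨x, hx, hxc⟩
  choose xs hxsC hxsc using hxs
  have hπC : ∀ i x, x ∈ ((C i).support : Set X) → π x = y := fun i x hx => by
    have : x ∈ (π.base : X → Y) ⁻¹' {y} := by rw [hfib]; exact Set.mem_iUnion.2 ⟨i, hx⟩
    exact this
  have hxη : ∀ x : X, IsClosed ({x} : Set X) → x ≠ genericPoint X := fun x hx h =>
    GrothLib.Goodman.not_isClosed_of_isTop two_pos (GrothLib.Kleiman.isTop_genericPoint hd) (h ▸ hx)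
  have hcs : ∀ j, ∃ c : X, c ⤳ xs j ∧ ringKrullDim (X.presheaf.stalk c) = 1 ∧ c ∉ Finset.univ.image ys :=
    fun j => GrothLib.Goodman.exists_curve_through k hreg (hxsc j) (hxη _ (hxsc j)) (Finset.univ.image ys)
      fun z hz => by
        obtain ⟨i, -, rfl⟩ := Finset.mem_image.1 hz
        exact GrothLib.Goodman.not_isClosed_of_isTop one_pos (hys i)
  choose c hcx hc1 hcys using hcs
  have hct : ∀ j, GrothLib.Snapper.IsTop 1 (c j) := fun j => GrothLib.Goodman.isTop_of_dim_one k hd (hc1 j)
  have hcC : ∀ i j, GrothLib.HodgeIndex.curveIdeal (c j) ≠ C i := fun i j h =>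
    hcys j (Finset.mem_image.2 ⟨i, Finset.mem_univ _,
      (GrothLib.NegContract12.curvePoint_unique (h.trans (hye i).symm)).symm⟩)
  have hcy : ∀ j, π (c j) ≠ y := fun j h => by
    have : c j ∈ (π.base : X → Y) ⁻¹' {y} := h
    rw [hfib] at this
    obtain ⟨i, hi⟩ := Set.mem_iUnion.1 this
    rw [hCsupp i] at hi
    exact hcys j (Finset.mem_image.2 ⟨i, Finset.mem_univ _,
      (hct j).eq_of_specializes (specializes_iff_mem_closure.2 hi) (hys i).dimLT⟩)
  have hcU : ∀ j, π (c j) ∈ U₀ := fun j =>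
    ((hcx j).map π.continuous).mem_open U₀.2 (by rw [hπC j _ (hxsC j)]; exact hyU)
  have hηU : genericPoint Y ∈ U₀ := ((genericPoint_spec Y).specializes (Set.mem_univ y)).mem_open U₀.2 hyU
  haveI : Nonempty (U₀ : Scheme.{u}) := ⟨⟨y, hyU⟩⟩
  haveI : IsDomain Γ(Y, U₀) := inferInstance
  have hpr : ∀ j, ∃ b : Γ(Y, U₀), b ≠ 0 ∧ b ∈ GrothLib.WeakAss.primeAt (π (c j)) (hcU j) := by
    intro j
    have hne : GrothLib.WeakAss.primeAt (π (c j)) (hcU j) ≠ ⊥ := fun hb => by
      have h1 : GrothLib.WeakAss.primeAt (genericPoint Y) hηU ≤ ⊥ := fun b hb' => by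
        rw [Ideal.mem_bot]
        refine germ_injective_of_isIntegral Y (genericPoint Y) hηU ?_
        rw [map_zero]
        by_contra h0
        exact hb' (IsUnit.mk0 (G₀ := Y.functionField) _ h0)
      have h2 := GrothLib.AssPts.primeAt_injective hU₀ (hcU j) hηU (hb.trans (le_bot_iff.1 h1).symm)
      exact GrothLib.HodgeIndex.isTop_ne_genericPoint hd (hct j)
        (hinj _ _ (hcy j) (by rw [hπη]; exact hηy) (h2.trans hπη.symm))
    obtain ⟨b, hb, hb0⟩ := Submodule.exists_mem_ne_zero_of_ne_bot hne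
    exact ⟨b, hb0, hb⟩
  choose b hb0 hbm using hpr
  obtain ⟨g₀, hg₀⟩ : ∃ g₀, g₀ = ∏ j, b j := ⟨_, rfl⟩
  have hg₀0 : g₀ ≠ 0 := hg₀ ▸ Finset.prod_ne_zero_iff.2 fun j _ => hb0 j
  have hcg : ∀ j, ¬ IsUnit (X.presheaf.germ (π ⁻¹ᵁ U₀) (c j) (hcU j) (π.app U₀ g₀)) := fun j h => by
    rw [← Scheme.Hom.germ_stalkMap_apply π U₀ (c j) (hcU j) g₀] at h
    have h1 := (isUnit_map_iff (π.stalkMap (c j)).hom _).1 h
    have h2 : g₀ ∈ GrothLib.WeakAss.primeAt (π (c j)) (hcU j) := by
      rw [hg₀, ← Finset.mul_prod_erase Finset.univ b (Finset.mem_univ j)]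
      exact Ideal.mul_mem_right _ _ (hbm j)
    exact GrothLib.WeakAss.notMem_primeAt_iff.mpr ((Scheme.mem_basicOpen _ _ _ (hcU j)).2 h1) h2
  -- a curve on which the function is invertible
  have hηb : genericPoint X ∈ X.basicOpen (π.app U₀ g₀) := by
    rw [← Scheme.preimage_basicOpen]
    show π (genericPoint X) ∈ Y.basicOpen g₀
    rw [hπη, Scheme.mem_basicOpen _ _ _ hηU]
    exact IsUnit.mk0 (G₀ := Y.functionField) _
      ((map_ne_zero_iff _ (germ_injective_of_isIntegral Y (genericPoint Y) hηU)).2 hg₀0)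
  obtain ⟨x₀, hx₀b, hx₀c⟩ := nonempty_inter_closedPoints (Z := (X.basicOpen (π.app U₀ g₀) : Set X))
    ⟨_, hηb⟩ (X.basicOpen (π.app U₀ g₀)).2.isLocallyClosed
  obtain ⟨c₀, hc₀x, hc₀, -⟩ := GrothLib.Goodman.exists_curve_through k hreg hx₀c (hxη _ hx₀c) ∅
    (fun z hz => absurd hz (Finset.notMem_empty z))
  have hc₀b : c₀ ∈ X.basicOpen (π.app U₀ g₀) := hc₀x.mem_open (X.basicOpen (π.app U₀ g₀)).2 hx₀b
  have hc₀V : c₀ ∈ π ⁻¹ᵁ U₀ := X.basicOpen_le _ hc₀b
  obtain ⟨z, hz, hzQ⟩ := GrothLib.NegContract12.exists_neg_vector k hd C hC hCi hCd (π ⁻¹ᵁ U₀)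
    (fun i x hx => by show π x ∈ U₀; rw [hπC i x hx]; exact hyU) (π.app U₀ g₀) c hc1 hcU hcC
    (fun j => ⟨xs j, hxsC j, hcx j⟩) hcg c₀ hc₀ hc₀V ((Scheme.mem_basicOpen _ _ c₀ hc₀V).1 hc₀b)
  intro a ha
  simp only [fun i j => GrothLib.HodgeIndex.intNum_curves k hd (hCi i) (hCd i) (hCi j) (hCd j) hH]
  exact GrothLib.NegContract12.negDef_of_neg_vector _ (fun i j => GrothLib.HodgeIndex.isect_comm k _ _)
    (fun i j h => GrothLib.HodgeIndex.isect_curves_nonneg k hd (hCi i) (hCd i) (hCi j) (hCd j) fun e => h (hC e))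
    z hz hzQ a ha


end Groth.Agent.S18460
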