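import Groth.Statements.S18461
import Groth.Agent.Lib.RatCyc12.Config
-- import your own Groth.Agent.* helpers here

set_option autoImplicit false
universe u
open CategoryTheory CategoryTheory.Limits AlgebraicGeometry TopologicalSpace
open Surf

namespace Groth.Agent.S18461

/-- Let k be an algebraically closed field of characteristic zero and X a smooth projective surface over
k (integral, proper and smooth over k, of dimension 2). Let C_1, …, C_r (r ≥ 1) be pairwise distinct
integral curves on X, with ideal sheaves I_i, forming a connected configuration with negative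
definite intersection matrix (no partition of the indices into two nonempty sets with (I_i·I_j) = 0
across; Σ a_i a_j (I_i·I_j) < 0 for every nonzero integer vector a; (A·B) = χ(O_X) − χ(A) − χ(B) +
χ(A ⊗ B)), and let Z₀ be a fundamental cycle: a nonzero effective Cartier divisor supported on ⋃ C_i
with deg(I_{Z₀}|_{C_i}) = χ(O_{C_i} ⊗ I_{Z₀}) − χ(O_{C_i}) ≥ 0 for all i, every other such divisor Z
satisfying Z ≥ Z₀ (I_Z ⊆ I_{Z₀}). Suppose the configuration is rational in the sense that H¹(Z, O_Z)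
= 0 for every nonzero effective Cartier divisor Z supported on ⋃ C_i. Then for every natural number
N, writing O_{Z₀}(−NZ₀) = O_{Z₀} ⊗ I_{Z₀}^{⊗N}: H¹(Z₀, O_{Z₀}(−NZ₀)) = 0 and dim_k H⁰(Z₀,
O_{Z₀}(−NZ₀)) = −N·(I_{Z₀}·I_{Z₀}) + 1, that is −N·Z₀² + 1; cohomology is computed on X through the
direct image of O_{Z₀}. The published statement assumes the singularity obtained by contracting the
configuration over the complex numbers rational, which is equivalent to the vanishing assumed here,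
and also asserts R¹π_*O_X(−NZ₀) = 0 for the contraction π and two facts on the maximal ideal of that
singularity; those are not restated. -/
theorem result (k : Type u) [Field k] [IsAlgClosed k] [CharZero k]
    (X : Scheme.{u}) [X.Over (Spec (CommRingCat.of k))] [IsProper (X ↘ (Spec (CommRingCat.of k)))]
    [Smooth (X ↘ (Spec (CommRingCat.of k)))] [IsIntegral X] (hdim : topologicalKrullDim X = 2)
    (r : ℕ) (hr : 0 < r) (C : Fin r → X.IdealSheafData) (hC : Function.Injective C)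
    (hCi : ∀ i, IsIntegral (C i).subscheme) (hCd : ∀ i, topologicalKrullDim ((C i).support : Set X) = 1)
    (hconn : ∀ S : Finset (Fin r), S.Nonempty → Sᶜ.Nonempty →
      ∃ i ∈ S, ∃ j ∈ Sᶜ, FGA.intNum k X 2 ![(ClSub.idealMod (C i)), (ClSub.idealMod (C j))] (Coh.structureModule X) ≠ 0)
    (hneg : ∀ a : Fin r → ℤ, a ≠ 0 →
      ∑ i, ∑ j, a i * a j * FGA.intNum k X 2 ![(ClSub.idealMod (C i)), (ClSub.idealMod (C j))] (Coh.structureModule X) < 0)
    (Z₀ : X.IdealSheafData) (hZ₀ : FGA.IsEffCartier Z₀) (hZ₀0 : Z₀ ≠ ⊤)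
    (hZ₀s : (Z₀.support : Set X) ⊆ ⋃ i, ((C i).support : Set X))
    (hZ₀C : ∀ i, 0 ≤ Curv2.euler k X (CohB1.tensorMod (ClSub.quotMod (C i)) (ClSub.idealMod Z₀)) -
      Curv2.euler k X (ClSub.quotMod (C i)))
    (hZ₀min : ∀ Z : X.IdealSheafData, FGA.IsEffCartier Z → Z ≠ ⊤ → (Z.support : Set X) ⊆ ⋃ i, ((C i).support : Set X) →
      (∀ i, 0 ≤ Curv2.euler k X (CohB1.tensorMod (ClSub.quotMod (C i)) (ClSub.idealMod Z)) -
        Curv2.euler k X (ClSub.quotMod (C i))) → Z ≤ Z₀)
    (hrat : ∀ Z : X.IdealSheafData, FGA.IsEffCartier Z → Z ≠ ⊤ → (Z.support : Set X) ⊆ ⋃ i, ((C i).support : Set X) →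
      Subsingleton (Coh.HH X (ClSub.quotMod Z) 1))
    (N : ℕ) :
    Subsingleton (Coh.HH X (CohB1.tensorMod (ClSub.quotMod Z₀) (CohB1.tensorPow (ClSub.idealMod Z₀) N)) 1) ∧
      (Module.finrank k (Coh.HH X (CohB1.tensorMod (ClSub.quotMod Z₀) (CohB1.tensorPow (ClSub.idealMod Z₀) N)) 0) : ℤ) =
        -(N : ℤ) * FGA.intNum k X 2 ![(ClSub.idealMod Z₀), (ClSub.idealMod Z₀)] (Coh.structureModule X) + 1 := by
  have hd : topologicalKrullDim X = ((2 : ℕ) : WithBot ℕ∞) := hdim
  haveI := GrothLib.Euler.isNoetherian_of_proper (X := X) k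
  obtain ⟨H, hH⟩ := GrothLib.Goodman.exists_ample_of_smooth_surface k hd
  have hchain := GrothLib.RatCyc12.hasChain_fundamental k hd C hCi hCd (hZ₀ := hZ₀) hZ₀s hZ₀C hZ₀min
  have hZi := GrothLib.IdealModSec.isInvertible_of_isEffCartier (I := Z₀) hZ₀
  have hχ : Curv2.euler k X (ClSub.quotMod Z₀) = 1 :=
    le_antisymm (GrothLib.RatCyc12.euler_le_one k hd hchain hZ₀ hZ₀0)
      (GrothLib.RatCyc12.one_le_euler k hd hZi hZ₀0 (hrat Z₀ hZ₀ hZ₀0 hZ₀s))
  have hL := GrothLib.Ample.isInvertible_tensorPow hZi N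
  have hcls : GrothLib.Cube.clsMod hL = GrothLib.Cube.clsMod hZi ^ N := GrothLib.Cube.clsMod_tensorPow hZi N
  have hdeg : ∀ y, GrothLib.Snapper.IsTop 1 y → y ∈ (Z₀.support : Set X) →
      0 ≤ GrothLib.HodgeIndex.deg k y (GrothLib.Cube.clsMod hL) := fun y hy hyZ => by
    have h := GrothLib.RatCyc12.deg_nonneg k hd C hCi hCd hZ₀ hZ₀s hZ₀C hy hyZ
    rw [GrothLib.RatCyc12.deg_eq_ccl k hd hy] at h ⊢
    rw [hcls, GrothLib.HodgeIndex.isect_pow_left k hd.le]
    push_cast
    exact mul_nonneg (Nat.cast_nonneg _) h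
  have h1 := GrothLib.RatCyc12.subsingleton_H1_twist_cycle k hd hchain hZ₀ hZ₀0 hχ.ge hL hdeg
  refine ⟨h1, ?_⟩
  have h0 := GrothLib.RatCyc12.finrank_H0_twist k hd hZi hL h1
  rw [GrothLib.RatCyc12.euler_twist_eq k hd hZi hL, hχ, hcls, GrothLib.HodgeIndex.isect_pow_left k hd.le,
    GrothLib.HodgeIndex.isect_inv_right k hd.le] at h0
  rw [GrothLib.HodgeIndex.intNum_eq_isect k hd.le hH hZi hZi]
  refine h0.trans ?_
  ring


end Groth.Agent.S18461
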