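import Groth.Statements.S18462
import Groth.Agent.Lib.HodgeIndex.NegCurves

set_option autoImplicit false
set_option linter.all false
universe u
open CategoryTheory CategoryTheory.Limits AlgebraicGeometry TopologicalSpace
open Surf

namespace Groth.Agent.S18462

/-- Let k be an algebraically closed field of characteristic zero and X a smooth projective surface over
k (integral, proper and smooth over k, of dimension 2, carrying an ample invertible module). Let
C_1, …, C_r be pairwise distinct integral curves on X with ideal sheaves I_i and negative definite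
intersection matrix (Σ_{i,j} a_i a_j (I_i·I_j) < 0 for every nonzero integer vector a, where (A·B) =
χ(O_X) − χ(A) − χ(B) + χ(A ⊗ B)), let F be an effective Cartier divisor on X, with ideal I_F, none
of whose components is a C_i, and let s_1, …, s_r be integers such that the divisor class F + Σ_i
s_i C_i is orthogonal to every C_j, that is (F·C_j) + Σ_i s_i (C_i·C_j) = 0, written here as
deg(I_F|_{C_j}) = χ(O_{C_j} ⊗ I_F) − χ(O_{C_j}) = Σ_i s_i (I_i·I_j) for every j. Then all the s_i
are nonnegative. The published statement allows real coefficients s_i; this row takes integer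
coefficients. Its second assertion, that s_i > 0 on every connected group of the C_i one of which
meets F positively, is not restated. -/
theorem result (k : Type u) [Field k] [IsAlgClosed k] [CharZero k]
    (X : Scheme.{u}) [X.Over (Spec (CommRingCat.of k))] [IsProper (X ↘ (Spec (CommRingCat.of k)))]
    [Smooth (X ↘ (Spec (CommRingCat.of k)))] [IsIntegral X] (hdim : topologicalKrullDim X = 2)
    (hproj : ∃ H : X.Modules, CohB1.IsAmple H)
    (r : ℕ) (C : Fin r → X.IdealSheafData) (hC : Function.Injective C)
    (hCi : ∀ i, IsIntegral (C i).subscheme) (hCd : ∀ i, topologicalKrullDim ((C i).support : Set X) = 1)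
    (hneg : ∀ a : Fin r → ℤ, a ≠ 0 →
      ∑ i, ∑ j, a i * a j * FGA.intNum k X 2 ![(ClSub.idealMod (C i)), (ClSub.idealMod (C j))] (Coh.structureModule X) < 0)
    (F : X.IdealSheafData) (hF : FGA.IsEffCartier F) (hFC : ∀ i, ¬ ((C i).support : Set X) ⊆ (F.support : Set X))
    (s : Fin r → ℤ)
    (horth : ∀ j, Curv2.euler k X (CohB1.tensorMod (ClSub.quotMod (C j)) (ClSub.idealMod F)) - Curv2.euler k X (ClSub.quotMod (C j)) =
      ∑ i, s i * FGA.intNum k X 2 ![(ClSub.idealMod (C i)), (ClSub.idealMod (C j))] (Coh.structureModule X)) :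
    ∀ i, 0 ≤ s i := by
  have hd : topologicalKrullDim X = ((2 : ℕ) : WithBot ℕ∞) := hdim
  obtain ⟨H, hH⟩ := hproj
  let c : Fin r → GrothLib.Cube.Pic X := fun i => GrothLib.HodgeIndex.cCl (C i)
  let Q : Matrix (Fin r) (Fin r) ℤ := fun i j => GrothLib.HodgeIndex.isect k (c i) (c j)
  have hG : ∀ i j, FGA.intNum k X 2 ![ClSub.idealMod (C i), ClSub.idealMod (C j)] (Coh.structureModule X) = Q i j :=
    fun i j => GrothLib.HodgeIndex.intNum_curves k hd (hCi i) (hCd i) (hCi j) (hCd j) hH
  have hQ : ∀ i j, Q i j = Q j i := fun i j => GrothLib.HodgeIndex.isect_comm k _ _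
  have hoff : ∀ i j, i ≠ j → 0 ≤ Q i j := fun i j h =>
    GrothLib.HodgeIndex.isect_curves_nonneg k hd (hCi i) (hCd i) (hCi j) (hCd j) fun e => h (hC e)
  have hh : ∀ i, 0 < GrothLib.HodgeIndex.isect k (GrothLib.Cube.clsMod hH.1) (c i) := fun i =>
    GrothLib.HodgeIndex.isect_ample_curve_pos k hd (hCi i) (hCd i) hH
  simp only [hG] at hneg horth
  have hFi := GrothLib.HodgeIndex.invertible_of_effCartier hF
  refine fun i => GrothLib.HodgeIndex.nonneg_of_mul_nonpos Q hQ hoff hneg s (fun j => ?_) i
  rw [← horth j, GrothLib.HodgeIndex.euler_sub_eq_isect k hd (hCi j) (hCd j) hFi]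
  obtain ⟨y, hy, he, hyC, hdeg⟩ := GrothLib.HodgeIndex.isect_cCl_eq_deg k hd (hCi j) (hCd j) (GrothLib.Cube.clsMod hFi)⁻¹
  have hyF : y ∉ (F.support : Set X) := fun h => hFC j (by
    rw [← he, Scheme.IdealSheafData.coe_support_vanishingIdeal]
    exact F.support.isClosed.closure_subset_iff.2 (Set.singleton_subset_iff.2 h))
  have h0 := GrothLib.HodgeIndex.deg_effCartier_nonneg k hd hFi hy hyF
  rw [← hdeg, GrothLib.HodgeIndex.isect_inv_left k hd.le] at h0
  have h1 : (0 : ℤ) ≤ -GrothLib.HodgeIndex.isect k (GrothLib.Cube.clsMod hFi) (c j) := by exact_mod_cast h0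
  linarith

end Groth.Agent.S18462
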