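import Groth.Statements.S18463
import Groth.Agent.Lib.HodgeIndex.NegCurves
import Groth.Agent.Lib.HodgeIndex.IdealLe

set_option autoImplicit false
set_option linter.all false
universe u
open CategoryTheory CategoryTheory.Limits AlgebraicGeometry TopologicalSpace
open Surf

namespace Groth.Agent.S18463

/-- Let k be an algebraically closed field of characteristic zero and X a smooth projective surface over
k (integral, proper and smooth over k, of dimension 2, carrying an ample invertible module). Let
C_1, …, C_r be pairwise distinct integral curves on X with ideal sheaves I_i and negative definite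
intersection matrix (Σ_{i,j} a_i a_j (I_i·I_j) < 0 for every nonzero integer vector a, where (A·B) =
χ(O_X) − χ(A) − χ(B) + χ(A ⊗ B)), let F be an effective Cartier divisor on X, with ideal I_F, none
of whose components is a C_i, and let s_1, …, s_r be integers such that F is numerically equivalent
to Σ_i s_i C_i: (I_F·M) = Σ_i s_i (I_i·M) for every invertible O_X-module M (equivalently (F·D) = Σ
s_i (C_i·D) for every divisor D). Then F = 0, i.e. I_F = O_X, and every s_i is 0. The published
statement writes the hypothesis as [F] + Σ s_i[C_i] = 0 with real s_i; this row writes F ≡ Σ s_i C_i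
with integer s_i, which is the same after changing the signs of the s_i. -/
theorem result (k : Type u) [Field k] [IsAlgClosed k] [CharZero k]
    (X : Scheme.{u}) [X.Over (Spec (CommRingCat.of k))] [IsProper (X ↘ (Spec (CommRingCat.of k)))]
    [Smooth (X ↘ (Spec (CommRingCat.of k)))] [IsIntegral X] (hdim : topologicalKrullDim X = 2)
    (hproj : ∃ H : X.Modules, CohB1.IsAmple H)
    (r : ℕ) (C : Fin r → X.IdealSheafData) (hC : Function.Injective C)
    (hCi : ∀ i, IsIntegral (C i).subscheme) (hCd : ∀ i, topologicalKrullDim ((C i).support : Set X) = 1)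
    (hneg : ∀ a : Fin r → ℤ, a ≠ 0 →
      ∑ i, ∑ j, a i * a j * FGA.intNum k X 2 ![(ClSub.idealMod (C i)), (ClSub.idealMod (C j))] (Coh.structureModule X) < 0)
    (F : X.IdealSheafData) (hF : FGA.IsEffCartier F) (hFC : ∀ i, ¬ ((C i).support : Set X) ⊆ (F.support : Set X))
    (s : Fin r → ℤ)
    (hnum : ∀ M : X.Modules, PicF.IsInvertible M →
      FGA.intNum k X 2 ![(ClSub.idealMod F), M] (Coh.structureModule X) =
        ∑ i, s i * FGA.intNum k X 2 ![(ClSub.idealMod (C i)), M] (Coh.structureModule X)) :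
    F = ⊤ ∧ ∀ i, s i = 0 := by
  have hd : topologicalKrullDim X = ((2 : ℕ) : WithBot ℕ∞) := hdim
  obtain ⟨H, hH⟩ := hproj
  let c : Fin r → GrothLib.Cube.Pic X := fun i => GrothLib.HodgeIndex.cCl (C i)
  let Q : Matrix (Fin r) (Fin r) ℤ := fun i j => GrothLib.HodgeIndex.isect k (c i) (c j)
  have hG : ∀ i j, FGA.intNum k X 2 ![ClSub.idealMod (C i), ClSub.idealMod (C j)] (Coh.structureModule X) = Q i j :=
    fun i j => GrothLib.HodgeIndex.intNum_curves k hd (hCi i) (hCd i) (hCi j) (hCd j) hH
  have hQ : ∀ i j, Q i j = Q j i := fun i j => GrothLib.HodgeIndex.isect_comm k _ _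
  have hoff : ∀ i j, i ≠ j → 0 ≤ Q i j := fun i j h =>
    GrothLib.HodgeIndex.isect_curves_nonneg k hd (hCi i) (hCd i) (hCi j) (hCd j) fun e => h (hC e)
  have hh : ∀ i, 0 < GrothLib.HodgeIndex.isect k (GrothLib.Cube.clsMod hH.1) (c i) := fun i =>
    GrothLib.HodgeIndex.isect_ample_curve_pos k hd (hCi i) (hCd i) hH
  simp only [hG] at hneg
  have hFi := GrothLib.HodgeIndex.invertible_of_effCartier hF
  obtain ⟨f, hf⟩ : ∃ f, f = (GrothLib.Cube.clsMod hFi)⁻¹ := ⟨_, rfl⟩
  have hnum' : ∀ w, GrothLib.HodgeIndex.isect k w f = ∑ i, s i * GrothLib.HodgeIndex.isect k w (c i) := fun w => by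
    have h := hnum _ (GrothLib.HodgeIndex.isInv_rep w)
    rw [GrothLib.HodgeIndex.intNum_eq_isect k hd.le hH hFi (GrothLib.HodgeIndex.isInv_rep w)] at h
    simp only [GrothLib.HodgeIndex.intNum_curve k hd (hCi _) (hCd _) hH (GrothLib.HodgeIndex.isInv_rep w),
      GrothLib.HodgeIndex.cls_rep, mul_neg, Finset.sum_neg_distrib] at h
    rw [hf, GrothLib.HodgeIndex.isect_inv_right k hd.le, GrothLib.HodgeIndex.isect_comm, h, neg_neg]
  have hfc : ∀ j, 0 ≤ GrothLib.HodgeIndex.isect k (c j) f := fun j => by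
    obtain ⟨y, hy, he, hyC, hdeg⟩ := GrothLib.HodgeIndex.isect_cCl_eq_deg k hd (hCi j) (hCd j) f
    have hyF : y ∉ (F.support : Set X) := fun h => hFC j (by
      rw [← he, Scheme.IdealSheafData.coe_support_vanishingIdeal]
      exact F.support.isClosed.closure_subset_iff.2 (Set.singleton_subset_iff.2 h))
    have h0 := GrothLib.HodgeIndex.deg_effCartier_nonneg k hd hFi hy hyF
    rw [← hf, ← hdeg] at h0
    rw [GrothLib.HodgeIndex.isect_comm]
    exact_mod_cast h0
  have hrow : ∀ j, ∑ i, s i * Q j i = GrothLib.HodgeIndex.isect k (c j) f := fun j => (hnum' (c j)).symm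
  have hs : ∀ i, 0 ≤ -s i := by
    refine GrothLib.HodgeIndex.nonneg_of_mul_nonpos Q hQ hoff hneg (fun i => -s i) (fun j => ?_)
    have h := hfc j
    rw [← hrow j] at h
    simp only [neg_mul, Finset.sum_neg_distrib, neg_nonpos, hQ _ j]
    exact h
  have hH0 : GrothLib.HodgeIndex.isect k (GrothLib.Cube.clsMod hH.1) f ≤ 0 := by
    rw [hnum']
    exact Finset.sum_nonpos fun i _ => mul_nonpos_of_nonpos_of_nonneg (by linarith [hs i]) (hh i).le
  have hF' := GrothLib.HodgeIndex.eq_top_of_degree_nonpos k hd hH hFi (hf ▸ hH0)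
  refine ⟨hF', fun i => ?_⟩
  have hf1 : f = 1 := by
    subst hF'
    rw [hf, GrothLib.HodgeIndex.cls_idealMod_top, inv_one]
  have h := hnum' (GrothLib.Cube.clsMod hH.1)
  rw [hf1, GrothLib.HodgeIndex.isect_comm, GrothLib.HodgeIndex.isect_one_left k hd.le] at h
  have h' := (Finset.sum_eq_zero_iff_of_nonpos fun i _ => mul_nonpos_of_nonpos_of_nonneg
    (by linarith [hs i] : s i ≤ 0) (hh i).le).1 h.symm i (Finset.mem_univ i)
  exact (mul_eq_zero.1 h').resolve_right (hh i).ne'

end Groth.Agent.S18463
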