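import Groth.Statements.S18464
import Mathlib
import Groth.Agent.Lib.FanoGen.Incidence

set_option autoImplicit false
universe u
open CategoryTheory CategoryTheory.Limits AlgebraicGeometry
open LefPen

namespace Groth.Agent.S18464

/-- the monomials of degree `d` at a point -/
noncomputable def monVec {R : Type*} [CommRing R] (r d : ℕ) (p : Fin (r + 1) → R) (c : GrothLib.FanoGen.Expo r d) : R :=
  ∏ j, p j ^ c.1 j

open GrothLib.FanoGen in
theorem aeval_form {k : Type u} [Field k] (r d : ℕ) (p : Fin (r + 1) → k) (G : LefPen.Form r k d) :
    MvPolynomial.aeval p G.1 = ∑ c, coeffs G c * monVec r d p c := by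
  conv_lhs => rw [← (coeffs (k := k) (n := r) (d := d)).symm_apply_apply G]
  show MvPolynomial.aeval p (∑ c : Expo r d, MvPolynomial.monomial c.1 (coeffs G c)) = _
  rw [map_sum]
  refine Finset.sum_congr rfl fun c _ => ?_
  rw [MvPolynomial.aeval_monomial, monVec, Finsupp.prod_fintype _ _ fun _ => pow_zero _]
  rfl

/-- Let k be an infinite field, r a natural number, d ≥ 1 an integer, and m ≥ C(r+d, d), the number of
monomials of degree d in r+1 variables. In the space of m-tuples of vectors of k^(r+1) (homogeneous
coordinate vectors of m points of projective r-space; a zero vector is allowed and imposes no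
condition), the tuples such that the only form of degree d vanishing at all of them is the zero form
make up a Zariski-open subset which contains the non-vanishing locus of a not identically zero
polynomial function, so a dense open subset. (The published statement is the openness and density of
the corresponding locus in the m-fold product of projective r-space over the ground field; here the
ground field is any infinite field and the statement is made on coordinate vectors.) -/
theorem result (k : Type u) [Field k] [Infinite k]
    (r d m : ℕ) (hd : 1 ≤ d) (hm : Nat.choose (r + d) d ≤ m) :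
    LefPen.IsZOpen k {x : Fin m → (Fin (r + 1) → k) |
      ∀ G : LefPen.Form r k d, (∀ i : Fin m, MvPolynomial.aeval (x i) G.1 = 0) → G = 0} ∧
    LefPen.IsGeneric k {x : Fin m → (Fin (r + 1) → k) |
      ∀ G : LefPen.Form r k d, (∀ i : Fin m, MvPolynomial.aeval (x i) G.1 = 0) → G = 0} := by
  classical
  set S := {x : Fin m → (Fin (r + 1) → k) |
      ∀ G : LefPen.Form r k d, (∀ i : Fin m, MvPolynomial.aeval (x i) G.1 = 0) → G = 0} with hS
  let Mx : (Fin m → Fin (r + 1) → k) → Matrix (Fin m) (GrothLib.FanoGen.Expo r d) k :=
    fun x => Matrix.of fun i c => monVec r d (x i) c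
  have mem : ∀ x, x ∈ S ↔ ∀ a, (Mx x).mulVec a = 0 → a = 0 := by
    intro x
    constructor
    · intro h a ha
      have := h (GrothLib.FanoGen.coeffs.symm a) fun i => by
        rw [aeval_form, LinearEquiv.apply_symm_apply]
        simpa [Mx, Matrix.mulVec, dotProduct, mul_comm] using congr_fun ha i
      simpa using congrArg GrothLib.FanoGen.coeffs this
    · intro h G hG
      apply GrothLib.FanoGen.coeffs.injective
      rw [map_zero]
      refine h _ (funext fun i => ?_)
      have := hG i
      rw [aeval_form] at this
      simpa [Mx, Matrix.mulVec, dotProduct, mul_comm] using this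
  have hopen : LefPen.IsZOpen k S := by
    intro v hv
    obtain ⟨B, hB⟩ := (Mx v).mulVecLin.exists_leftInverse_of_injective
      (LinearMap.ker_eq_bot'.mpr ((mem v).mp hv))
    let Bm := LinearMap.toMatrix' B
    have hBm : Bm * Mx v = 1 := by
      simpa [Bm, ← Matrix.toLin'_apply', LinearMap.toMatrix'_comp] using congrArg LinearMap.toMatrix' hB
    let e := (LinearEquiv.curry k k (Fin m) (Fin (r + 1))).symm
    let P : MvPolynomial (Fin m × Fin (r + 1)) k :=
      (Bm.map MvPolynomial.C * Matrix.of fun i c => monVec r d (fun j => MvPolynomial.X (i, j)) c).det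
    have hP : ∀ x, MvPolynomial.eval (e x) P = (Bm * Mx x).det := by
      intro x
      simp only [P]
      rw [RingHom.map_det]
      congr 1
      ext a c
      rw [RingHom.mapMatrix_apply, Matrix.map_apply]
      show MvPolynomial.eval (e x) (∑ i, (Bm.map MvPolynomial.C) a i * monVec r d (fun j => MvPolynomial.X (i, j)) c) =
        ∑ i, Bm a i * monVec r d (x i) c
      simp [monVec, e, LinearEquiv.curry]
    refine ⟨fun x => MvPolynomial.eval (e x) P, ?_, ?_, ?_⟩
    · have : (fun x => MvPolynomial.eval (e x) P) =
          MvPolynomial.aeval (fun c => fun x : Fin m → Fin (r + 1) → k => e x c) P := by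
        funext x
        let ev : ((Fin m → Fin (r + 1) → k) → k) →ₐ[k] k := Pi.evalAlgHom k (fun _ => k) x
        have h : ev.comp (MvPolynomial.aeval fun c => fun x : Fin m → Fin (r + 1) → k => e x c) =
            MvPolynomial.aeval (e x) := MvPolynomial.algHom_ext fun c => by simp [ev]
        exact (congr($h P)).symm
      rw [LefPen.IsPolyFun, this]
      exact GrothLib.FanoGen.isGeneric_of_poly.adjoin_aux e P
    · simp [hP, hBm]
    · intro w hw
      have hw' : (Bm * Mx w).det ≠ 0 := by simpa [hP] using hw
      refine (mem w).mpr fun a ha => ?_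
      by_contra hne
      exact hw' (Matrix.exists_mulVec_eq_zero_iff.mp ⟨a, hne, by rw [← Matrix.mulVec_mulVec, ha, Matrix.mulVec_zero]⟩)
  have hne : S.Nonempty := by
    let R := Set.range (monVec (R := k) r d)
    have htop : Submodule.span k R = ⊤ := by
      by_contra hlt
      obtain ⟨f, hf, hker⟩ := Submodule.exists_le_ker_of_lt_top _ (lt_top_iff_ne_top.mpr hlt)
      apply hf
      have hf' : ∀ v, f v = ∑ c, f (Pi.single c 1) * v c := by
        intro v
        conv_lhs => rw [← Finset.univ_sum_single v]
        rw [map_sum]
        refine Finset.sum_congr rfl fun c _ => ?_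
        rw [mul_comm, ← smul_eq_mul, ← map_smul, ← Pi.single_smul, smul_eq_mul, mul_one]
      let G := (GrothLib.FanoGen.coeffs (k := k) (n := r) (d := d)).symm fun c => f (Pi.single c 1)
      have hG : G = 0 := by
        refine Subtype.ext (MvPolynomial.funext fun p => ?_)
        have := hker (Submodule.subset_span ⟨p, rfl⟩)
        rw [LinearMap.mem_ker, hf'] at this
        rw [← MvPolynomial.aeval_eq_eval]
        simpa [G, aeval_form] using this
      refine LinearMap.ext fun v => ?_
      rw [hf', LinearMap.zero_apply]
      refine Finset.sum_eq_zero fun c _ => ?_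
      have := congr_fun (congrArg GrothLib.FanoGen.coeffs hG) c
      simp [G] at this
      simp [this]
    obtain ⟨b, hbR, hbspan, hbli⟩ := exists_linearIndependent k R
    have : Fintype b := hbli.setFinite.fintype
    have hcard : Fintype.card b ≤ Fintype.card (Fin m) := by
      have hN : Fintype.card (GrothLib.FanoGen.Expo r d) = (r + d).choose d := by
        rw [Fintype.card_coe, Finset.card_finsuppAntidiag_nat_eq_choose, Finset.card_univ, Fintype.card_fin,
          show r + 1 + d - 1 = r + d by omega]
      refine le_trans ?_ ((hN.trans_le hm).trans_eq (Fintype.card_fin m).symm)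
      simpa [Module.finrank_fintype_fun_eq_card] using hbli.fintype_card_le_finrank
    obtain ⟨emb⟩ := Function.Embedding.nonempty_of_card_le hcard
    choose pt hpt using fun y : b => hbR y.2
    refine ⟨Function.extend emb pt 0, (mem _).mpr fun a ha => ?_⟩
    have hle : Submodule.span k b ≤ LinearMap.ker (∑ c, a c • (LinearMap.proj c : (GrothLib.FanoGen.Expo r d → k) →ₗ[k] k)) := by
      rw [Submodule.span_le]
      intro y hy
      have := congr_fun ha (emb ⟨y, hy⟩)
      simp only [Mx, Matrix.mulVec, dotProduct, Matrix.of_apply, emb.injective.extend_apply, Pi.zero_apply] at this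
      rw [hpt] at this
      simpa [mul_comm] using this
    rw [hbspan, htop] at hle
    funext c
    simpa [Pi.single_apply] using hle (Submodule.mem_top (x := Pi.single c 1))
  obtain ⟨v, hv⟩ := hne
  obtain ⟨f, hf, hfv, hfS⟩ := hopen v hv
  exact ⟨hopen, f, hf, ⟨v, hfv⟩, hfS⟩

end Groth.Agent.S18464
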