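import Groth.Statements.S18465
import Mathlib.Algebra.MonoidAlgebra.Basic

set_option autoImplicit false
universe u v w x
open WildLef

namespace Groth.Agent.S18465

/-- Let f : G₁ → G₂ be a homomorphism of groups, ρ : G₂ → Γ a homomorphism with finite image G, and A a
nontrivial commutative ring. Let G₂ act on the group algebra A[G] through ρ followed by the left
regular representation, and G₁ through f. If the elements of A[G] fixed by G₁ coincide with those
fixed by G₂, then ρ ∘ f and ρ have the same image. (The published statement has Γ a general linear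
group GL_r(A); over the zero ring that group is trivial, so requiring A nontrivial and allowing any
target group loses nothing.) -/
theorem result
    {G₁ : Type u} {G₂ : Type v} {Γ : Type w} [Group G₁] [Group G₂] [Group Γ]
    (f : G₁ →* G₂) (ρ : G₂ →* Γ) [Finite ρ.range] (A : Type x) [CommRing A] [Nontrivial A]
    (h : {x : MonoidAlgebra A ρ.range | ∀ g : G₁, MonoidAlgebra.of A ρ.range (ρ.rangeRestrict (f g)) * x = x} =
      {x : MonoidAlgebra A ρ.range | ∀ g : G₂, MonoidAlgebra.of A ρ.range (ρ.rangeRestrict g) * x = x}) :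
    (ρ.comp f).range = ρ.range := by
  classical
  haveI := Fintype.ofFinite ρ.range
  let H : Subgroup ρ.range := (ρ.rangeRestrict.comp f).range
  let x : MonoidAlgebra A ρ.range := ∑ a ∈ Finset.univ.filter (fun a => a ∈ H), MonoidAlgebra.of A ρ.range a
  have hx : ∀ g : G₁, MonoidAlgebra.of A ρ.range (ρ.rangeRestrict (f g)) * x = x := by
    intro g
    simp only [x, Finset.mul_sum, ← map_mul]
    have hg : ρ.rangeRestrict (f g) ∈ H := ⟨g, rfl⟩
    refine Finset.sum_equiv (Equiv.mulLeft (ρ.rangeRestrict (f g))) (fun a => ?_) (fun a _ => rfl)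
    simp [H.mul_mem_cancel_left hg]
  have hx2 : x ∈ {x : MonoidAlgebra A ρ.range | ∀ g : G₂, MonoidAlgebra.of A ρ.range (ρ.rangeRestrict g) * x = x} :=
    h ▸ hx
  have hcoef : ∀ a, x.coeff a = if a ∈ H then (1 : A) else 0 := fun a => by
    simp only [x, MonoidAlgebra.coeff_sum, MonoidAlgebra.of_apply, MonoidAlgebra.coeff_single,
      Finsupp.finsetSum_apply, Finsupp.single_apply, Finset.sum_ite_eq', Finset.mem_filter, Finset.mem_univ,
      true_and]
  refine le_antisymm (by rintro _ ⟨g, rfl⟩; exact ⟨f g, rfl⟩) ?_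
  rintro _ ⟨g, rfl⟩
  have h1 := congrArg (fun y : MonoidAlgebra A ρ.range => y.coeff (ρ.rangeRestrict g)) (hx2 g)
  simp only [MonoidAlgebra.of_apply, MonoidAlgebra.coeff_single_mul_apply, inv_mul_cancel, one_mul] at h1
  rw [hcoef, hcoef, if_pos H.one_mem] at h1
  by_cases hg : ρ.rangeRestrict g ∈ H
  · obtain ⟨g', hg'⟩ := hg
    exact ⟨g', congrArg Subtype.val hg'⟩
  · rw [if_neg hg] at h1
    exact absurd h1 one_ne_zero

end Groth.Agent.S18465
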