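import Groth.Statements.S18467
import Groth.Agent.Lib.OT.Char

set_option autoImplicit false
universe u
open Hopf

namespace Groth.Agent.S18467

/-- Let p be a prime and R a commutative ring containing an element u with u(p − 1) = 1, and let χ be a
homomorphism from the group of units of ℤ/p to the group of units of R such that χ(m) − 1 is a unit
of R for every m ≠ 1. For 0 ≤ i < p − 1 put e_i = u · Σ_m χ(m)^{−i} [m] in the group algebra
R[(ℤ/p)ˣ]. Then the e_i are idempotents, e_i e_j = 0 for i ≠ j, and Σ_i e_i = 1. (The published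
statement is for algebras over the subring of the p-adic integers generated over ℤ by the values of
the Teichmüller character χ and by 1/(p(p − 1)); the hypotheses on R and χ here are the properties
of that situation which the computation uses, so the row is stated for every such pair.) -/
theorem result
    (p : ℕ) [Fact p.Prime] (R : Type u) [CommRing R] (u : R) (hu : u * ((p - 1 : ℕ) : R) = 1)
    (χ : (ZMod p)ˣ →* Rˣ) (hχ : ∀ m : (ZMod p)ˣ, m ≠ 1 → IsUnit ((χ m : R) - 1)) :
    CompleteOrthogonalIdempotents (fun i : Fin (p - 1) =>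
      u • ∑ m : (ZMod p)ˣ, ((χ m⁻¹ : Rˣ) : R) ^ (i : ℕ) • MonoidAlgebra.of R (ZMod p)ˣ m) := by
  exact ⟨⟨fun i => by
      have h := GrothLib.OT.idem_mul_idem hχ hu (ρ := MonoidAlgebra.of R (ZMod p)ˣ) (i : ℕ) (i : ℕ)
      rw [if_pos (Nat.ModEq.refl _)] at h
      exact h,
    fun i j hij => by
      have h := GrothLib.OT.idem_mul_idem hχ hu (ρ := MonoidAlgebra.of R (ZMod p)ˣ) (i : ℕ) (j : ℕ)
      rw [if_neg] at h
      · exact h
      · intro e
        exact hij (Fin.ext (Nat.ModEq.eq_of_lt_of_lt e i.2 j.2))⟩,
    GrothLib.OT.sum_idem hχ hu⟩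

end Groth.Agent.S18467
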