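import Groth.Statements.S18470
import Groth.Agent.Lib.OT.Eigen

set_option autoImplicit false
universe u v
open OortTate

namespace Groth.Agent.S18470

/-- Let R be a commutative ring and A a commutative Hopf algebra over R which is finitely generated and
projective as an R-module (a finite locally free group scheme G = Spec A, not assumed commutative),
and let A^D = Hom_R(A, R) be the dual algebra with its Hopf structure (the Cartier dual when A is
cocommutative), whose counit is evaluation at 1. Then restriction of linear forms to the
augmentation ideal I = ker ε_A of A is a bijection from the augmentation ideal of A^D onto the dual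
module Hom_R(I, R): the dual of the augmentation ideal of G is the augmentation ideal of the dual.
The published statement is for a group scheme of order p over a Λ_p-algebra; the argument uses only
the splitting A = R·1 ⊕ ker ε. -/
theorem result
    (R : Type u) [CommRing R] (A : Type v) [CommRing A] [HopfAlgebra R A]
    [Module.Finite R A] [Module.Projective R A] :
    Function.Bijective (fun f : LinearMap.ker (Bialgebra.counitAlgHom R (CartDual.D R A)).toLinearMap =>
      ((CartDual.toDual R A) (f : CartDual.D R A)).comp
        (LinearMap.ker (Bialgebra.counitAlgHom R A).toLinearMap).subtype) := by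
  refine ⟨fun f g h => ?_, fun φ => ?_⟩
  · refine Subtype.ext (WithConv.ext (LinearMap.ext fun a => ?_))
    have hker : a - algebraMap R A (Bialgebra.counitAlgHom R A a) ∈
        LinearMap.ker (Bialgebra.counitAlgHom R A).toLinearMap := by
      simp [LinearMap.mem_ker]
    have h1 := LinearMap.congr_fun h ⟨_, hker⟩
    have hf : (f : CartDual.D R A) 1 = 0 := LinearMap.mem_ker.1 f.2
    have hg : (g : CartDual.D R A) 1 = 0 := LinearMap.mem_ker.1 g.2
    simp only [LinearMap.comp_apply, Submodule.subtype_apply, CartDual.toDual_apply, map_sub,
      Algebra.algebraMap_eq_smul_one, map_smul] at h1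
    simpa [hf, hg] using h1
  · let P : A →ₗ[R] LinearMap.ker (Bialgebra.counitAlgHom R A).toLinearMap :=
      LinearMap.codRestrict _ (LinearMap.id - Algebra.linearMap R A ∘ₗ (Bialgebra.counitAlgHom R A).toLinearMap)
        fun a => by simp [LinearMap.mem_ker]
    refine ⟨⟨WithConv.toConv (φ ∘ₗ P), ?_⟩, LinearMap.ext fun a => congrArg φ (Subtype.ext ?_)⟩
    · change φ (P 1) = 0
      have : P 1 = 0 := Subtype.ext (by
        change (1 : A) - algebraMap R A (Bialgebra.counitAlgHom R A 1) = 0
        simp)
      rw [this, map_zero]
    · have ha := LinearMap.mem_ker.1 a.2
      simp only [AlgHom.toLinearMap_apply] at ha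
      change (a : A) - algebraMap R A (Bialgebra.counitAlgHom R A a) = a
      rw [ha, map_zero, sub_zero]

end Groth.Agent.S18470
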