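import Groth.Statements.S18471
import Groth.Agent.Lib.OT.Dual

set_option autoImplicit false
universe u
open OortTate

namespace Groth.Agent.S18471

/-- Let p be a prime, R a commutative ring containing u with u(p − 1) = 1, and χ a homomorphism from the
units of ℤ/p to the units of R such that χ(m) − 1 is a unit for every m ≠ 1 (the situation of an
algebra over the subring Λ_p of the p-adic integers generated by the Teichmüller values and 1/(p(p −
1)), with χ the Teichmüller character, which is the published setting). Let A be a commutative and
cocommutative Hopf algebra over R, finitely generated and projective as an R-module, such that the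
p-th convolution power of the identity of A is the neutral element (a finite locally free
commutative group killed by p), and let A^D = Hom_R(A, R) be its dual Hopf algebra (the Cartier
dual). For i ≥ 0 let I_i(A) ⊆ A and I_i(A^D) ⊆ A^D be the submodules of elements f of the respective
augmentation ideals with [m]f = χ(m)^i f for every unit m of ℤ/p, [m] the power map. Then
restriction of linear forms to I_i(A) is a bijection from I_i(A^D) onto the dual module
Hom_R(I_i(A), R). (The published statement is for a group scheme of order p over a Λ_p-algebra and
asserts an isomorphism of R-modules; the map here is the one its proof uses.) -/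
theorem result
    (p : ℕ) [Fact p.Prime] (R : Type u) [CommRing R] (u : R) (hu : u * ((p - 1 : ℕ) : R) = 1)
    (χ : (ZMod p)ˣ →* Rˣ) (hχ : ∀ m : (ZMod p)ˣ, m ≠ 1 → IsUnit ((χ m : R) - 1))
    (A : Type u) [CommRing A] [HopfAlgebra R A] [Coalgebra.IsCocomm R A]
    [Module.Finite R A] [Module.Projective R A]
    (hp : (WithConv.toConv (AlgHom.id R A)) ^ p = 1) (i : ℕ) :
    Function.Bijective (fun f : OortTate.eigenAug R (CartDual.D R A) p χ i =>
      ((CartDual.toDual R A) (f : CartDual.D R A)).comp (OortTate.eigenAug R A p χ i).subtype) := by
  exact GrothLib.OT.dual_restrict_bijective hp hχ hu i

end Groth.Agent.S18471
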