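import Groth.Statements.S18472
import Groth.Agent.Lib.HopfAG.LeftInvDer
import Mathlib.RingTheory.Smooth.Fiber
import Mathlib.RingTheory.Kaehler.Basic
import Mathlib.RingTheory.Flat.Basic
import Mathlib.RingTheory.Finiteness.ModuleFinitePresentation

set_option autoImplicit false
universe u v
open Hopf

namespace Groth.Agent.S18472

/-- Let R be a commutative ring and A a commutative Hopf algebra over R which is finitely generated and
projective as an R-module (a finite locally free group scheme G = Spec A over Spec R), and let I =
ker ε be its augmentation ideal. Then A is étale over R if and only if I² = I. (The published text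
calls G finite flat, meaning that A is finitely generated and projective.) -/
theorem result
    (R : Type u) [CommRing R] (A : Type v) [CommRing A] [HopfAlgebra R A]
    [Module.Finite R A] [Module.Projective R A] :
    Algebra.Etale R A ↔
      RingHom.ker (Bialgebra.counitAlgHom R A) ^ 2 = RingHom.ker (Bialgebra.counitAlgHom R A) := by
  obtain ⟨π, hπI, hπ1⟩ := GrothLib.HopfAG.exists_proj R A
  set I := RingHom.ker (Bialgebra.counitAlgHom R A)
  haveI : Module.FinitePresentation R A := Module.finitePresentation_of_projective R A
  constructor
  · intro h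
    by_contra hne
    have hsub : ∀ l : I.Cotangent →ₗ[R] I.Cotangent, l = 0 := by
      intro l
      let D : Derivation R A I.Cotangent := Derivation.mk' (GrothLib.HopfAG.derOf (l ∘ₗ π))
        (GrothLib.HopfAG.derOf_leibniz (GrothLib.HopfAG.isEpsDer_comp_proj π hπI hπ1 l))
      have hD : D = 0 := by
        rw [← KaehlerDifferential.linearMapEquivDerivation R A |>.apply_symm_apply D,
          Subsingleton.elim ((KaehlerDifferential.linearMapEquivDerivation R A).symm D) 0, map_zero]
      obtain ⟨l0, -, huniq⟩ := GrothLib.HopfAG.existsUnique_derOf_comp_proj π hπI hπ1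
        (M := I.Cotangent) (0 : Derivation R A I.Cotangent)
      rw [huniq l (show GrothLib.HopfAG.derOf (l ∘ₗ π) = _ from congrArg Derivation.toLinearMap hD),
        ← huniq 0 (by simp [GrothLib.HopfAG.derOf])]
    have h0 := hsub LinearMap.id
    haveI : Subsingleton I.Cotangent := ⟨fun x y => by
      rw [← LinearMap.id_apply (R := R) x, ← LinearMap.id_apply (R := R) y, h0]; rfl⟩
    refine hne (le_antisymm (Ideal.pow_le_self two_ne_zero) fun x hx => ?_)
    exact (Ideal.toCotangent_eq_zero I ⟨x, hx⟩).1 (Subsingleton.elim _ _)
  · intro h
    haveI : Subsingleton I.Cotangent := ⟨fun x y => by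
      obtain ⟨x, rfl⟩ := I.toCotangent_surjective x
      obtain ⟨y, rfl⟩ := I.toCotangent_surjective y
      rw [(Ideal.toCotangent_eq I), h]
      exact sub_mem x.2 y.2⟩
    haveI : Algebra.FormallyUnramified R A := by
      rw [Algebra.formallyUnramified_iff]
      refine subsingleton_of_forall_eq 0 fun w => ?_
      have hw : w ∈ Submodule.span A (Set.range (KaehlerDifferential.D R A)) := by
        rw [KaehlerDifferential.span_range_derivation]; trivial
      refine Submodule.span_induction (fun z hz => ?_) rfl (fun _ _ _ _ ha hb => by rw [ha, hb, add_zero])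
        (fun _ _ _ ha => by rw [ha, smul_zero]) hw
      obtain ⟨a, rfl⟩ := hz
      obtain ⟨l, hl, -⟩ := GrothLib.HopfAG.existsUnique_derOf_comp_proj π hπI hπ1 (KaehlerDifferential.D R A)
      have hl0 : l = 0 := LinearMap.ext fun c => by rw [Subsingleton.elim c 0, map_zero, map_zero]
      rw [hl0] at hl
      exact (LinearMap.congr_fun hl a).symm.trans (by simp [GrothLib.HopfAG.derOf])
    exact Algebra.Etale.of_formallyUnramified_of_flat

end Groth.Agent.S18472
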