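import Groth.Statements.S18473
import Groth.Agent.Lib.OT.Mu

set_option autoImplicit false
universe u
open OortTate

namespace Groth.Agent.S18473

/-- With the preceding computation: let p be a prime, R a commutative ring containing u with u(p − 1) =
1, and χ a homomorphism from the units of ℤ/p to the units of R such that χ(m) − 1 is a unit for
every m ≠ 1 (the situation of an algebra over the subring Λ_p of the p-adic integers generated by
the Teichmüller values and 1/(p(p − 1)), with χ the Teichmüller character, which is the published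
setting); assume moreover χ(m) ≡ m modulo pR for every m. In the group algebra over R of the cyclic
group of order p, written R[T]/(T^p − 1) with T group-like (the Hopf algebra of μ_p, on which the
power map [m] sends T to T^m), put y_i = u Σ_m χ(m)^{−i}(T^m − 1), the average of T − 1 for the
character χ^i. Then the elements y_0, …, y_{p−2} are a basis of the augmentation ideal (they are
linearly independent and span the kernel of the counit), the R-algebra is generated by y_1 alone,
and y_1^p = w·y_1 for a unique w ∈ R (the constant w_p of the classification). -/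
theorem result
    (p : ℕ) [Fact p.Prime] (R : Type u) [CommRing R] (u : R) (hu : u * ((p - 1 : ℕ) : R) = 1)
    (χ : (ZMod p)ˣ →* Rˣ) (hχ : ∀ m : (ZMod p)ˣ, m ≠ 1 → IsUnit ((χ m : R) - 1))
    (hχp : ∀ m : (ZMod p)ˣ, ((χ m : Rˣ) : R) - (((m : ZMod p).val : ℕ) : R) ∈ Ideal.span ({(p : R)} : Set R)) :
    LinearIndependent R (fun i : Fin (p - 1) => OortTate.ygen R p u χ (i : ℕ)) ∧
      Submodule.span R (Set.range (fun i : Fin (p - 1) => OortTate.ygen R p u χ (i : ℕ))) =
        LinearMap.ker (Bialgebra.counitAlgHom R (MonoidAlgebra R (Multiplicative (ZMod p)))).toLinearMap ∧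
      Algebra.adjoin R ({OortTate.ygen R p u χ 1} : Set (MonoidAlgebra R (Multiplicative (ZMod p)))) = ⊤ ∧
      ∃! w : R, OortTate.ygen R p u χ 1 ^ p = w • OortTate.ygen R p u χ 1 := by
  have hp2 := (Fact.out : p.Prime).two_le
  have heig := GrothLib.OT.eigenAug_mu (R := R) (p := p) hu hχ
  have hcp := GrothLib.OT.convPow_mu (R := R) (p := p)
  have hrk := GrothLib.OT.rankAtStalk_mu (R := R) (p := p)
  have hmem : ∀ i, OortTate.ygen R p u χ i ∈
      OortTate.eigenAug R (MonoidAlgebra R (Multiplicative (ZMod p))) p χ i := fun i => by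
    rw [heig i]; exact Submodule.mem_span_singleton_self _
  refine ⟨?_, ?_, ?_, ?_⟩
  · rw [Fintype.linearIndependent_iff]
    intro c hc j
    refine GrothLib.OT.eq_zero_of_smul_of_span hu hχ hχp hrk (heig j) _ ?_
    have h := congrArg (GrothLib.OT.proj' hcp χ u (j : ℕ)) hc
    rw [map_sum, map_zero, Finset.sum_eq_single j, map_smul,
      GrothLib.OT.proj'_eq_self hcp hχ hu (hmem _)] at h
    · exact h
    · intro i _ hi
      rw [map_smul, GrothLib.OT.proj'_eq_zero hcp hχ hu (fun e =>
        hi (Fin.ext (Nat.ModEq.eq_of_lt_of_lt e j.2 i.2).symm)) (hmem _), smul_zero]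
    · simp
  · rw [Submodule.span_range_eq_iSup, ← GrothLib.OT.iSup_eigenAug hcp hχ hu]
    exact iSup_congr fun i => (heig _).symm
  · rw [← Algebra.toSubmodule_eq_top, eq_top_iff, ← GrothLib.OT.powSum_eq_top hu hχ hrk hχp,
      GrothLib.OT.powSum, iSup_le_iff]
    intro t
    rw [heig 1, Submodule.span_pow, Set.singleton_pow, Submodule.span_singleton_le_iff_mem]
    exact pow_mem (Algebra.self_mem_adjoin_singleton R _) _
  · obtain ⟨w, hw⟩ := GrothLib.OT.ygen_pow_eq hu hχ hχp (t := p) (by omega)
    have h1 : OortTate.ygen R p u χ p = OortTate.ygen R p u χ 1 := by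
      rw [GrothLib.OT.ygen_eq, GrothLib.OT.ygen_eq,
        GrothLib.OT.proj'_congr hcp (j := 1) ((Nat.modEq_iff_dvd' (by omega)).2 dvd_rfl).symm]
    rw [h1] at hw
    refine ⟨w, hw, fun w' hw' => sub_eq_zero.1
      (GrothLib.OT.eq_zero_of_smul_of_span hu hχ hχp hrk (heig 1) _ ?_)⟩
    rw [sub_smul, sub_eq_zero, ← hw, ← hw']

end Groth.Agent.S18473
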