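import Groth.Statements.S18475
import Groth.Agent.Lib.OT.Classify

set_option autoImplicit false
universe u
open OortTate

namespace Groth.Agent.S18475

/-- Let p be a prime, R a commutative ring containing u with u(p − 1) = 1, and χ a homomorphism from the
units of ℤ/p to the units of R such that χ(m) − 1 is a unit for every m ≠ 1 (the situation of an
algebra over the subring Λ_p of the p-adic integers generated by the Teichmüller values and 1/(p(p −
1)), with χ the Teichmüller character, which is the published setting); assume moreover χ(m) ≡ m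
modulo pR for every m. Let A and A' be commutative and cocommutative Hopf algebras over R, finitely
generated and projective as R-modules of rank p at every prime (group schemes G, G' of order p over
Spec R), with dual Hopf algebras A^D = Hom_R(A, R) and A'^D (the Cartier duals; for a unit m of ℤ/p
the power map [m] acts on all four algebras). Suppose the χ-eigenspaces of the augmentation ideals
are free of rank one with chosen generators: I_1(A) = R·x and I_1(A^D) = R·ξ with ξ(x) = 1, and
similarly I_1(A') = R·x', I_1(A'^D) = R·ξ' with ξ'(x') = 1 (this is the case of a local base R);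
write x^p = α x, ξ^p = β ξ, x'^p = α' x', ξ'^p = β' ξ' with α, β, α', β' ∈ R. If there is a unit v
of R with α' = v^{p−1} α and β' = v^{−(p−1)} β, then A and A' are isomorphic as bialgebras over R,
i.e. G ≅ G'. (This is the injectivity of the classification map G ↦ (I_1, a, b) in the case where
the invertible module I_1 is free, the case the copy spells out; the general statement compares
triples consisting of an invertible module with two maps.) The published argument obtains
commutativity and p-torsion of G over a locally Noetherian base; this row allows any commutative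
ring R, over which both still hold. -/
theorem result
    (p : ℕ) [Fact p.Prime] (R : Type u) [CommRing R] (u : R) (hu : u * ((p - 1 : ℕ) : R) = 1)
    (χ : (ZMod p)ˣ →* Rˣ) (hχ : ∀ m : (ZMod p)ˣ, m ≠ 1 → IsUnit ((χ m : R) - 1))
    (hχp : ∀ m : (ZMod p)ˣ, ((χ m : Rˣ) : R) - (((m : ZMod p).val : ℕ) : R) ∈ Ideal.span ({(p : R)} : Set R))
    (A : Type u) [CommRing A] [HopfAlgebra R A] [Coalgebra.IsCocomm R A] [Module.Finite R A]
    [Module.Projective R A] (hrk : ∀ q : PrimeSpectrum R, Module.rankAtStalk A q = p)
    (A' : Type u) [CommRing A'] [HopfAlgebra R A'] [Coalgebra.IsCocomm R A'] [Module.Finite R A']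
    [Module.Projective R A'] (hrk' : ∀ q : PrimeSpectrum R, Module.rankAtStalk A' q = p)
    (x : A) (hx : Submodule.span R {x} = OortTate.eigenAug R A p χ 1)
    (ξ : CartDual.D R A) (hξ : Submodule.span R {ξ} = OortTate.eigenAug R (CartDual.D R A) p χ 1)
    (hxξ : CartDual.toDual R A ξ x = 1)
    (x' : A') (hx' : Submodule.span R {x'} = OortTate.eigenAug R A' p χ 1)
    (ξ' : CartDual.D R A') (hξ' : Submodule.span R {ξ'} = OortTate.eigenAug R (CartDual.D R A') p χ 1)
    (hxξ' : CartDual.toDual R A' ξ' x' = 1)
    (α β α' β' : R) (hα : x ^ p = α • x) (hβ : ξ ^ p = β • ξ) (hα' : x' ^ p = α' • x')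
    (hβ' : ξ' ^ p = β' • ξ')
    (v : Rˣ) (hαv : α' = ((v ^ (p - 1) : Rˣ) : R) * α) (hβv : β' = ((v⁻¹ ^ (p - 1) : Rˣ) : R) * β) :
    Nonempty (A ≃ₐc[R] A') := by
  have hp2 := (Fact.out : p.Prime).two_le
  have mk : ∀ (B : Type u) [CommRing B] [HopfAlgebra R B] [Coalgebra.IsCocomm R B] [Module.Finite R B]
      [Module.Projective R B] (z : B), Submodule.span R {z} = OortTate.eigenAug R B p χ 1 →
      ∀ (ζ : CartDual.D R B), CartDual.toDual R B ζ z = 1 →
      ∃ e : R ≃ₗ[R] OortTate.eigenAug R B p χ 1, ∀ r, (e r : B) = r • z := by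
    intro B _ _ _ _ _ z hz ζ hζ
    have hzm : z ∈ OortTate.eigenAug R B p χ 1 := hz ▸ Submodule.mem_span_singleton_self z
    refine ⟨LinearEquiv.ofBijective (LinearMap.toSpanSingleton R _ ⟨z, hzm⟩) ⟨fun r s h => ?_, fun f => ?_⟩,
      fun r => rfl⟩
    · have h' := congrArg (fun b : OortTate.eigenAug R B p χ 1 => CartDual.toDual R B ζ (b : B)) h
      simp only [LinearMap.toSpanSingleton_apply, Submodule.coe_smul, map_smul, hζ, smul_eq_mul, mul_one] at h'
      exact h'
    · have hf : (f : B) ∈ Submodule.span R {z} := hz.ge f.2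
      obtain ⟨r, hr⟩ := Submodule.mem_span_singleton.1 hf
      exact ⟨r, Subtype.ext hr⟩
  obtain ⟨e, he⟩ := mk A x hx ξ hxξ
  obtain ⟨e', he'⟩ := mk A' x' hx' ξ' hxξ'
  let θ := e.symm.trans ((LinearEquiv.smulOfUnit v⁻¹).trans e')
  have hθ : ∀ r, (θ (e r) : A') = (((v⁻¹ : Rˣ) : R) * r) • x' := fun r => by
    simp only [θ, LinearEquiv.trans_apply, LinearEquiv.symm_apply_apply]
    exact he' _
  have hc : ∀ w : Rˣ, (w : R) ^ p = (w : R) ^ (p - 1) * (w : R) := fun w => by
    rw [← pow_succ, Nat.sub_add_cancel (by omega : 1 ≤ p)]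
  have hv : ((v⁻¹ : Rˣ) : R) ^ (p - 1) * (v : R) ^ (p - 1) = 1 := by
    rw [← mul_pow, Units.inv_mul, one_pow]
  have hsm : ∀ {S : Type u} [CommRing S] [Algebra R S] (b : Fin p → R) (z : S),
      ∏ i, b i • z = (∏ i, b i) • z ^ p := fun b z => by
    simp only [Algebra.smul_def, Finset.prod_mul_distrib, map_prod, Finset.prod_const, Finset.card_univ,
      Fintype.card_fin]
  refine GrothLib.OT.nonempty_bialgEquiv hu hχ hχp hrk hrk' θ (fun f g hg => ?_) fun φ φ' ψ ψ' hφ hψ hψ' y => ?_
  · obtain ⟨b, rfl⟩ := e.surjective g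
    choose a ha using fun i => e.surjective (f i)
    simp only [← ha, he, hθ] at hg ⊢
    simp only [Algebra.smul_def, Finset.prod_mul_distrib, ← map_prod, Finset.prod_const, Finset.card_univ,
      Fintype.card_fin] at hg ⊢
    simp only [← Algebra.smul_def] at hg ⊢
    rw [hα, smul_smul] at hg
    have hb : b = (∏ i, a i) * α := e.injective (Subtype.ext (by rw [he, he, hg]))
    rw [hα', smul_smul, hb, hαv, Units.val_pow_eq_pow_val, hc]
    refine congrArg (· • x') ?_
    linear_combination (((v⁻¹ : Rˣ) : R) * (∏ i, a i) * α) * -hv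
  · obtain ⟨r, rfl⟩ := e.surjective y
    have hmem : ∀ (i : Fin p), ∃ b, b • ξ = (φ i : CartDual.D R A) := fun i =>
      Submodule.mem_span_singleton.1 (hξ.ge (φ i).2)
    have hmem' : ∀ (i : Fin p), ∃ b, b • ξ' = (φ' i : CartDual.D R A') := fun i =>
      Submodule.mem_span_singleton.1 (hξ'.ge (φ' i).2)
    choose b hb using hmem
    choose b' hb' using hmem'
    have hbb : ∀ i, b i = b' i * ((v⁻¹ : Rˣ) : R) := fun i => by
      have h := hφ i (e 1)
      rw [← hb, ← hb', map_smul, map_smul, LinearMap.smul_apply, LinearMap.smul_apply, he, hθ, map_smul,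
        map_smul, hxξ, hxξ'] at h
      simpa using h
    replace hψ : (ψ : CartDual.D R A) = (∏ i, b i) • ξ ^ p :=
      (hψ.trans (Finset.prod_congr rfl fun i _ => (hb i).symm)).trans (hsm b ξ)
    replace hψ' : (ψ' : CartDual.D R A') = (∏ i, b' i) • ξ' ^ p :=
      (hψ'.trans (Finset.prod_congr rfl fun i _ => (hb' i).symm)).trans (hsm b' ξ')
    rw [hψ, hψ', hβ, hβ', smul_smul, smul_smul, map_smul, map_smul, LinearMap.smul_apply,
      LinearMap.smul_apply, he, hθ, map_smul, map_smul, hxξ, hxξ']
    simp only [hbb, Finset.prod_mul_distrib, Finset.prod_const, Finset.card_univ, Fintype.card_fin,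
      smul_eq_mul, mul_one, hβv, Units.val_pow_eq_pow_val, hc]
    ring

end Groth.Agent.S18475
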