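import Groth.Statements.S18477
import Groth.Agent.Lib.OT.Pairing

set_option autoImplicit false
universe u
open scoped TensorProduct
open OortTate

namespace Groth.Agent.S18477

/-- Let p be a prime, R a commutative ring containing u with u(p − 1) = 1, and χ a homomorphism from the
units of ℤ/p to the units of R such that χ(m) − 1 is a unit for every m ≠ 1 (the situation of an
algebra over the subring Λ_p of the p-adic integers generated by the Teichmüller values and 1/(p(p −
1)), with χ the Teichmüller character, which is the published setting); assume moreover χ(m) ≡ m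
modulo pR for every m. Let A be a commutative and cocommutative Hopf algebra over R, finitely
generated and projective as an R-module of rank p at every prime (a group scheme G of order p), A^D
= Hom_R(A, R) its dual Hopf algebra (Cartier dual), δ ∈ A ⊗ A^D the canonical element — the one with
(id ⊗ ev_a)(δ) = a for every a ∈ A, corresponding to the identity of A — and ϕ the R-algebra map
from the group algebra of ℤ/p (the Hopf algebra R[T]/(T^p − 1) of μ_p, T group-like) to A ⊗ A^D with
ϕ(T) = δ; ϕ is the comorphism of the Cartier pairing G × G^D → μ_p. Let I_1(A) ⊆ A and I_1(A^D) ⊆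
A^D be the χ-eigenspaces of the augmentation ideals under the power maps [m], and y_1 = u Σ_m
χ(m)^{−1}(T^m − 1). Then ϕ(y_1) generates the image of I_1(A) ⊗ I_1(A^D) in A ⊗ A^D as an R-module,
and r·ϕ(y_1) = 0 only for r = 0 (so that image is free of rank one on ϕ(y_1)). The published
argument obtains commutativity and p-torsion of G over a locally Noetherian base; this row allows
any commutative ring R, over which both still hold. -/
theorem result
    (p : ℕ) [Fact p.Prime] (R : Type u) [CommRing R] (u : R) (hu : u * ((p - 1 : ℕ) : R) = 1)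
    (χ : (ZMod p)ˣ →* Rˣ) (hχ : ∀ m : (ZMod p)ˣ, m ≠ 1 → IsUnit ((χ m : R) - 1))
    (hχp : ∀ m : (ZMod p)ˣ, ((χ m : Rˣ) : R) - (((m : ZMod p).val : ℕ) : R) ∈ Ideal.span ({(p : R)} : Set R))
    (A : Type u) [CommRing A] [HopfAlgebra R A] [Coalgebra.IsCocomm R A] [Module.Finite R A]
    [Module.Projective R A] (hrk : ∀ q : PrimeSpectrum R, Module.rankAtStalk A q = p)
    (δ : A ⊗[R] CartDual.D R A)
    (hδ : ∀ a : A, TensorProduct.rid R A
      (LinearMap.lTensor A ((Module.Dual.eval R A a) ∘ₗ (CartDual.toDual R A).toLinearMap) δ) = a)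
    (ϕ : MonoidAlgebra R (Multiplicative (ZMod p)) →ₐ[R] A ⊗[R] CartDual.D R A)
    (hϕ : ϕ (OortTate.muT R p) = δ) :
    Submodule.span R {ϕ (OortTate.ygen R p u χ 1)} =
        LinearMap.range (TensorProduct.map (OortTate.eigenAug R A p χ 1).subtype
          (OortTate.eigenAug R (CartDual.D R A) p χ 1).subtype) ∧
      ∀ r : R, r • ϕ (OortTate.ygen R p u χ 1) = 0 → r = 0 := by
  have hp := GrothLib.OT.convPow_eq_one (A := A) hrk
  have hpD := GrothLib.OT.convPow_dual hp
  haveI := GrothLib.OT.finite_eigenAug (A := A) hu hχ hrk 1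
  haveI := GrothLib.OT.projective_eigenAug (A := A) hu hχ hrk 1
  have h1 := GrothLib.OT.rankAtStalk_eigenAug (A := A) hu hχ hrk hχp 1
  have hy := GrothLib.OT.endMap_ygen (χ := χ) (u := u) hp hδ hϕ 1
  refine ⟨le_antisymm ?_ ?_, fun r hr => ?_⟩
  · rw [Submodule.span_singleton_le_iff_mem]
    let E := GrothLib.OT.proj' hp χ u 1
    let ED := GrothLib.OT.proj' hpD χ u 1
    have hw : ϕ (OortTate.ygen R p u χ 1) = TensorProduct.map E ED δ := by
      refine GrothLib.OT.endMap_injective (hy.trans (WithConv.ext (LinearMap.ext fun a => ?_)))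
      have h : ∀ z : A ⊗[R] CartDual.D R A,
          GrothLib.OT.endMap R A (TensorProduct.map E ED z) a = E (GrothLib.OT.endMap R A z (E a)) := fun z => by
        induction z using TensorProduct.induction_on with
        | zero => simp
        | tmul x ξ =>
          rw [TensorProduct.map_tmul, GrothLib.OT.endMap_tmul, GrothLib.OT.endMap_tmul, map_smul,
            GrothLib.OT.proj'_dual hp]
        | add z w hz hw => simp only [map_add, WithConv.ofConv_add, LinearMap.add_apply, hz, hw]
      rw [h, GrothLib.OT.endMap_canonical hδ]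
      exact (GrothLib.OT.proj'_eq_self hp hχ hu (GrothLib.OT.proj'_mem hp 1 a)).symm
    rw [hw]
    have hfac : TensorProduct.map E ED = (TensorProduct.map (OortTate.eigenAug R A p χ 1).subtype
        (OortTate.eigenAug R (CartDual.D R A) p χ 1).subtype) ∘ₗ
        TensorProduct.map (LinearMap.codRestrict _ E fun a => GrothLib.OT.proj'_mem hp 1 a)
          (LinearMap.codRestrict _ ED fun a => GrothLib.OT.proj'_mem hpD 1 a) := by
      rw [← TensorProduct.map_comp]
      rfl
    rw [hfac]
    exact ⟨_, rfl⟩
  · rw [LinearMap.range_eq_map, ← TensorProduct.span_tmul_eq_top, Submodule.map_span, Submodule.span_le]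
    rintro _ ⟨_, ⟨x, ξ, rfl⟩, rfl⟩
    obtain ⟨r, hr⟩ := GrothLib.OT.RankOne.exists_eq_smul h1
      (LinearMap.smulRight (((CartDual.toDual R A) (ξ : CartDual.D R A)).comp
        (OortTate.eigenAug R A p χ 1).subtype) x)
    refine Submodule.mem_span_singleton.2 ⟨r, GrothLib.OT.endMap_injective ?_⟩
    rw [map_smul, hy, TensorProduct.map_tmul]
    refine WithConv.ext (LinearMap.ext fun a => ?_)
    rw [GrothLib.OT.endMap_tmul]
    have h2 := congrArg Subtype.val (hr ⟨_, GrothLib.OT.proj'_mem hp (χ := χ) (u := u) 1 a⟩)
    have h3 : (ξ : CartDual.D R A) (GrothLib.OT.proj' hp χ u 1 a) = (ξ : CartDual.D R A) a := by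
      conv_rhs => rw [← GrothLib.OT.proj'_eq_self hpD hχ hu ξ.2, GrothLib.OT.proj'_dual hp]
    simp only [LinearMap.smulRight_apply, LinearMap.comp_apply, Submodule.subtype_apply,
      CartDual.toDual_apply, Submodule.coe_smul, h3] at h2
    exact h2.symm
  · refine GrothLib.OT.RankOne.eq_zero_of_forall_smul h1 r fun f => Subtype.ext ?_
    have h := congrArg (fun z => GrothLib.OT.endMap R A z (f : A)) hr
    simp only [map_smul, hy, map_zero, WithConv.ofConv_smul, LinearMap.smul_apply, WithConv.ofConv_zero,
      LinearMap.zero_apply, GrothLib.OT.proj'_eq_self hp hχ hu f.2] at h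
    exact h

end Groth.Agent.S18477
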