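import Groth.Statements.S18478
import Groth.Agent.Lib.OT.Classify

set_option autoImplicit false
universe u
open OortTate

namespace Groth.Agent.S18478

/-- Let p be a prime, R a commutative ring containing u with u(p − 1) = 1, and χ a homomorphism from the
units of ℤ/p to the units of R such that χ(m) − 1 is a unit for every m ≠ 1 (the situation of an
algebra over the subring Λ_p of the p-adic integers generated by the Teichmüller values and 1/(p(p −
1)), with χ the Teichmüller character, which is the published setting); assume moreover χ(m) ≡ m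
modulo pR for every m. Let A and A' be commutative and cocommutative Hopf algebras over R, finitely
generated and projective as R-modules of rank p at every prime (group schemes G, G' of order p over
Spec R), with dual Hopf algebras (Cartier duals) A^D = Hom_R(A, R) and A'^D. For each of the four
algebras let I_1 be the submodule of elements f of the augmentation ideal with [m]f = χ(m)f for
every unit m of ℤ/p, [m] the power map; restriction of linear forms identifies I_1(A^D) with the
dual of I_1(A). The classification attaches to G the invertible module I_1(A) with the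
multiplication maps a : I_1(A)^{⊗p} → I_1(A) and b : I_1(A^D)^{⊗p} → I_1(A^D). Suppose θ : I_1(A) ≅
I_1(A') is an R-linear isomorphism compatible with a (θ(x_1⋯x_p) = θ(x_1)⋯θ(x_p) whenever x_1⋯x_p ∈
I_1(A)) and whose transpose is compatible with b (if φ_i ∈ I_1(A^D) and φ'_i ∈ I_1(A'^D) satisfy φ_i
= φ'_i ∘ θ on I_1(A) for i = 1, …, p, then φ_1⋯φ_p = (φ'_1⋯φ'_p) ∘ θ on I_1(A)). Then A and A' are
isomorphic as bialgebras over R (G ≅ G'): the classification map is injective on isomorphism
classes. The published argument obtains commutativity and p-torsion of G over a locally Noetherian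
base; this row allows any commutative ring R, over which both still hold. -/
theorem result
    (p : ℕ) [Fact p.Prime] (R : Type u) [CommRing R] (u : R) (hu : u * ((p - 1 : ℕ) : R) = 1)
    (χ : (ZMod p)ˣ →* Rˣ) (hχ : ∀ m : (ZMod p)ˣ, m ≠ 1 → IsUnit ((χ m : R) - 1))
    (hχp : ∀ m : (ZMod p)ˣ, ((χ m : Rˣ) : R) - (((m : ZMod p).val : ℕ) : R) ∈ Ideal.span ({(p : R)} : Set R))
    (A : Type u) [CommRing A] [HopfAlgebra R A] [Coalgebra.IsCocomm R A] [Module.Finite R A]
    [Module.Projective R A] (hrk : ∀ q : PrimeSpectrum R, Module.rankAtStalk A q = p)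
    (A' : Type u) [CommRing A'] [HopfAlgebra R A'] [Coalgebra.IsCocomm R A'] [Module.Finite R A']
    [Module.Projective R A'] (hrk' : ∀ q : PrimeSpectrum R, Module.rankAtStalk A' q = p)
    (θ : OortTate.eigenAug R A p χ 1 ≃ₗ[R] OortTate.eigenAug R A' p χ 1)
    (hθ : ∀ (f : Fin p → OortTate.eigenAug R A p χ 1) (g : OortTate.eigenAug R A p χ 1),
      (g : A) = ∏ i, (f i : A) → ((θ g : OortTate.eigenAug R A' p χ 1) : A') = ∏ i, ((θ (f i)) : A'))
    (hθD : ∀ (φ : Fin p → OortTate.eigenAug R (CartDual.D R A) p χ 1)
      (φ' : Fin p → OortTate.eigenAug R (CartDual.D R A') p χ 1)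
      (ψ : OortTate.eigenAug R (CartDual.D R A) p χ 1) (ψ' : OortTate.eigenAug R (CartDual.D R A') p χ 1),
      (∀ i, ∀ x : OortTate.eigenAug R A p χ 1,
        CartDual.toDual R A (φ i : CartDual.D R A) (x : A) =
          CartDual.toDual R A' (φ' i : CartDual.D R A') ((θ x : OortTate.eigenAug R A' p χ 1) : A')) →
      (ψ : CartDual.D R A) = ∏ i, (φ i : CartDual.D R A) →
      (ψ' : CartDual.D R A') = ∏ i, (φ' i : CartDual.D R A') →
      ∀ x : OortTate.eigenAug R A p χ 1,
        CartDual.toDual R A (ψ : CartDual.D R A) (x : A) =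
          CartDual.toDual R A' (ψ' : CartDual.D R A') ((θ x : OortTate.eigenAug R A' p χ 1) : A')) :
    Nonempty (A ≃ₐc[R] A') := by
  exact GrothLib.OT.nonempty_bialgEquiv hu hχ hχp hrk hrk' θ hθ hθD

end Groth.Agent.S18478
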