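import Groth.Statements.S1848
-- import your own Groth.Agent.* helpers here
import Groth.Agent.Lib.Tame.Laws


set_option autoImplicit false
universe u
open CycAlg

namespace Groth.Agent.S1848

/-- For a Noetherian local ring A of dimension 1, the tame symbol ∂ on pairs of nonzerodivisors of A
takes nonzero values, is multiplicative in each variable, satisfies ∂(b, b) = (−1)^m and ∂(u, b) =
ū^m for a unit u (ū its image in the residue field), where m = length_A(A/bA), and satisfies ∂(a, b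
− a) ∂(b, b) = ∂(b, b − a) ∂(a, b) whenever a, b and b − a are nonzerodivisors. -/
theorem result (A : Type u) [CommRing A] [IsNoetherianRing A] [IsLocalRing A] (hA : ringKrullDim A = 1) : (∀ a b : A, a ∈ nonZeroDivisors A → b ∈ nonZeroDivisors A → CycAlg.tameSymbol A a b ≠ 0) ∧ (∀ a a' b : A, a ∈ nonZeroDivisors A → a' ∈ nonZeroDivisors A → b ∈ nonZeroDivisors A → CycAlg.tameSymbol A (a * a') b = CycAlg.tameSymbol A a b * CycAlg.tameSymbol A a' b ∧ CycAlg.tameSymbol A b (a * a') = CycAlg.tameSymbol A b a * CycAlg.tameSymbol A b a') ∧ (∀ b : A, b ∈ nonZeroDivisors A → CycAlg.tameSymbol A b b = (-1) ^ (Module.length A (A ⧸ Ideal.span {b})).toNat) ∧ (∀ (c : Aˣ) (b : A), b ∈ nonZeroDivisors A → CycAlg.tameSymbol A (c : A) b = IsLocalRing.residue A (c : A) ^ (Module.length A (A ⧸ Ideal.span {b})).toNat) ∧ (∀ a b : A, a ∈ nonZeroDivisors A → b ∈ nonZeroDivisors A → b - a ∈ nonZeroDivisors A → CycAlg.tameSymbol A a (b - a) * CycAlg.tameSymbol A b b = CycAlg.tameSymbol A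 b (b - a) * CycAlg.tameSymbol A a b) := by
  classical
  haveI : Ring.KrullDimLE 1 A := Ring.krullDimLE_iff.2 (by rw [hA]; rfl)
  have key : ∀ s : Finset A, (∀ f ∈ s, f ∈ nonZeroDivisors A) → ∃ (C : Type u) (_ : CommRing C) (_ : Algebra A C),
      Module.Finite A C ∧ CycAlg.IsFinExt A C (IsLocalRing.maximalIdeal A) ∧
        Nonempty (GrothLib.Tame.Frame A C (s : Set A)) := fun s hs => GrothLib.Tame.exists_frame s hs
  have hval : ∀ {C : Type u} [CommRing C] [Algebra A C] [Module.Finite A C] {F : Set A}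
      (Φ : GrothLib.Tame.Frame A C F), CycAlg.IsFinExt A C (IsLocalRing.maximalIdeal A) →
      ∀ {f g : A} (hf : f ∈ F) (hg : g ∈ F), f ∈ nonZeroDivisors A → g ∈ nonZeroDivisors A →
      CycAlg.tameSymbol A f g = (Φ.data hf hg).value := by
    intro C _ _ _ F Φ hC f g hf hg hfn hgn
    exact GrothLib.Tame.tameSymbol_eq_value hfn hgn hC _
  have hunit : ∀ f g : A, IsUnit f → IsUnit g → CycAlg.tameSymbol A f g = 1 := fun f g hf hg => by
    obtain ⟨C, _, _, _, hC, ⟨Φ⟩⟩ := key {f, g} (by simp [hf.mem_nonZeroDivisors, hg.mem_nonZeroDivisors])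
    rw [hval Φ hC (f := f) (g := g) (by simp) (by simp) hf.mem_nonZeroDivisors hg.mem_nonZeroDivisors]
    exact GrothLib.Tame.Data.value_of_isUnit _ hf hg
  refine ⟨fun a b ha hb => ?_, fun a a' b ha ha' hb => ?_, fun b hb => ?_, fun c b hb => ?_, fun a b ha hb hab => ?_⟩
  · obtain ⟨C, _, _, _, hC, ⟨Φ⟩⟩ := key {a, b} (by simp [ha, hb])
    rw [hval Φ hC (f := a) (g := b) (by simp) (by simp) ha hb]
    exact GrothLib.Tame.Data.value_ne_zero _
  · by_cases hu : IsUnit a ∧ IsUnit a' ∧ IsUnit b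
    · obtain ⟨h1, h2, h3⟩ := hu
      simp [hunit _ _ (h1.mul h2) h3, hunit _ _ h1 h3, hunit _ _ h2 h3, hunit _ _ h3 (h1.mul h2), hunit _ _ h3 h1,
        hunit _ _ h3 h2]
    obtain ⟨C, _, _, _, hC, ⟨Φ⟩⟩ := key {a, a', a * a', b, a * a' * b}
      (by simp [ha, ha', hb, mul_mem ha ha', mul_mem (mul_mem ha ha') hb])
    haveI := GrothLib.Tame.finite_maximalSpectrum A C
    haveI := Fintype.ofFinite (MaximalSpectrum C)
    have hab : a * a' ∈ nonZeroDivisors A := mul_mem ha ha'
    have hm : a * a' * b ∈ IsLocalRing.maximalIdeal A := by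
      rw [IsLocalRing.mem_maximalIdeal, mem_nonunits_iff, IsUnit.mul_iff, IsUnit.mul_iff, and_assoc]
      exact hu
    have hmem : ∀ q, Φ.π q ∈ q.asIdeal := fun q =>
      ((Φ.pow (a * a' * b) (by simp) q).ne_zero_exp (GrothLib.Tame.algebraMap_mem_of_mem q.asIdeal hm)).2
    rw [hval Φ hC (f := a * a') (g := b) (by simp) (by simp) hab hb, hval Φ hC (f := a) (g := b) (by simp) (by simp) ha hb,
      hval Φ hC (f := a') (g := b) (by simp) (by simp) ha' hb, hval Φ hC (f := b) (g := a * a') (by simp) (by simp) hb hab,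
      hval Φ hC (f := b) (g := a) (by simp) (by simp) hb ha, hval Φ hC (f := b) (g := a') (by simp) (by simp) hb ha']
    simp only [GrothLib.Tame.Data.value, finprod_eq_prod_of_fintype, ← Finset.prod_mul_distrib]
    constructor <;> refine Finset.prod_congr rfl fun q _ => ?_
    · rw [(Φ.sym_mul (f := a) (f' := a') (g := b) (by simp) (by simp) (by simp) (by simp) hmem q).1]
      exact mul_pow _ _ _
    · rw [(Φ.sym_mul (f := a) (f' := a') (g := b) (by simp) (by simp) (by simp) (by simp) hmem q).2]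
      exact mul_pow _ _ _
  · obtain ⟨C, _, _, _, hC, ⟨Φ⟩⟩ := key {b} (by simp [hb])
    haveI := GrothLib.Tame.finite_maximalSpectrum A C
    haveI := Fintype.ofFinite (MaximalSpectrum C)
    rw [hval Φ hC (f := b) (g := b) (by simp) (by simp) hb hb]
    rw [GrothLib.Tame.length_eq_sum_frame hC Φ.π Φ.reg (Φ.exp b) hb (Φ.pow b (by simp)),
      ← Finset.prod_pow_eq_pow_sum, GrothLib.Tame.Data.value, finprod_eq_prod_of_fintype]
    refine Finset.prod_congr rfl fun q _ => ?_
    rw [pow_mul, pow_mul]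
    show GrothLib.Tame.Data.sym _ q ^ (Ring.ord (Localization.AtPrime q.asIdeal) (algebraMap C _ (Φ.π q))).toNat = _
    congr 1
    simp only [GrothLib.Tame.Frame.data, GrothLib.Tame.Data.sym]
    rw [mul_assoc, mul_inv_cancel₀ (pow_ne_zero _ (GrothLib.Tame.PowAt.nu_ne_zero _)), mul_one,
      GrothLib.Tame.neg_one_pow_sq]
    congr 1
    rw [show (-1 : C) = algebraMap A C (-1) by simp, GrothLib.Tame.nrm_algebraMap, map_neg, map_one]
  · obtain ⟨C, _, _, _, hC, ⟨Φ⟩⟩ := key {(c : A), b} (by simp [hb, c.isUnit.mem_nonZeroDivisors])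
    haveI := GrothLib.Tame.finite_maximalSpectrum A C
    haveI := Fintype.ofFinite (MaximalSpectrum C)
    rw [hval Φ hC (f := (c : A)) (g := b) (by simp) (by simp) c.isUnit.mem_nonZeroDivisors hb]
    rw [GrothLib.Tame.length_eq_sum_frame hC Φ.π Φ.reg (Φ.exp b) hb (Φ.pow b (by simp)),
      ← Finset.prod_pow_eq_pow_sum, GrothLib.Tame.Data.value, finprod_eq_prod_of_fintype]
    refine Finset.prod_congr rfl fun q _ => ?_
    rw [pow_mul, pow_mul]
    show GrothLib.Tame.Data.sym _ q ^ (Ring.ord (Localization.AtPrime q.asIdeal) (algebraMap C _ (Φ.π q))).toNat = _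
    by_cases hπ : Φ.π q ∈ q.asIdeal
    · congr 1
      have h0 := GrothLib.Tame.powAt_unique hπ (Φ.reg q) (Φ.pow (c : A) (by simp) q)
        (GrothLib.Tame.PowAt.of_isUnit (Φ.π q) (c.isUnit.map (algebraMap A C)))
      simp only [GrothLib.Tame.Frame.data, GrothLib.Tame.Data.sym]
      rw [(Φ.pow (c : A) (by simp) q).nu_eq (Φ.reg q) 1 (algebraMap A C c)
        (fun h => q.isMaximal.ne_top ((Ideal.eq_top_iff_one _).2 h)) (by rw [h0]; simp), map_one, div_one,
        GrothLib.Tame.nrm_algebraMap, h0]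
      simp
    · rw [Ring.ord_of_isUnit (IsLocalization.map_units (Localization.AtPrime q.asIdeal)
        (⟨Φ.π q, hπ⟩ : q.asIdeal.primeCompl))]
      simp
  · by_cases hu : IsUnit a ∧ IsUnit b ∧ IsUnit (b - a)
    · obtain ⟨h1, h2, h3⟩ := hu
      simp [hunit _ _ h1 h3, hunit _ _ h2 h2, hunit _ _ h2 h3, hunit _ _ h1 h2]
    obtain ⟨C, _, _, _, hC, ⟨Φ⟩⟩ := key {a, b, b - a, a * b * (b - a)}
      (by simp [ha, hb, hab, mul_mem (mul_mem ha hb) hab])
    haveI := GrothLib.Tame.finite_maximalSpectrum A C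
    haveI := Fintype.ofFinite (MaximalSpectrum C)
    have hm : a * b * (b - a) ∈ IsLocalRing.maximalIdeal A := by
      rw [IsLocalRing.mem_maximalIdeal, mem_nonunits_iff, IsUnit.mul_iff, IsUnit.mul_iff, and_assoc]
      exact hu
    have hmem : ∀ q, Φ.π q ∈ q.asIdeal := fun q =>
      ((Φ.pow (a * b * (b - a)) (by simp) q).ne_zero_exp (GrothLib.Tame.algebraMap_mem_of_mem q.asIdeal hm)).2
    rw [hval Φ hC (f := a) (g := b - a) (by simp) (by simp) ha hab, hval Φ hC (f := b) (g := b) (by simp) (by simp) hb hb,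
      hval Φ hC (f := b) (g := b - a) (by simp) (by simp) hb hab, hval Φ hC (f := a) (g := b) (by simp) (by simp) ha hb]
    simp only [GrothLib.Tame.Data.value, finprod_eq_prod_of_fintype, ← Finset.prod_mul_distrib]
    refine Finset.prod_congr rfl fun q _ => ?_
    have h := congrArg (· ^ (Ring.ord (Localization.AtPrime q.asIdeal) (algebraMap C _ (Φ.π q))).toNat)
      (Φ.sym_steinberg (f := a) (g := b) (h := b - a) (by simp) (by simp) (by simp) rfl hmem q)
    simp only [mul_pow] at h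
    exact h

end Groth.Agent.S1848
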