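import Groth.Statements.S18480
import Groth.Agent.Lib.OT.OrderTwo

set_option autoImplicit false
universe u v
open scoped TensorProduct
open OortTate

namespace Groth.Agent.S18480

/-- Let R be a commutative ring and let A and A' be commutative Hopf algebras over R whose augmentation
ideals are free of rank one with generators x and x', with constants a, b and a', b' ∈ R such that
x² = a x, Δ(x) = x ⊗ 1 + 1 ⊗ x + b x ⊗ x and x'² = a' x', Δ(x') = x' ⊗ 1 + 1 ⊗ x' + b' x' ⊗ x' (the
group schemes of order two G_{a,b} and G_{a',b'}). Then A and A' are isomorphic as bialgebras over R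
(G_{a,b} ≅ G_{a',b'} as group schemes) if and only if there is a unit s of R with a = a'·s and b' =
b·s. -/
theorem result
    (R : Type u) [CommRing R] (A : Type v) [CommRing A] [HopfAlgebra R A]
    (x : A) (hx : Bialgebra.counitAlgHom R A x = 0)
    (hgen : ∀ f : A, Bialgebra.counitAlgHom R A f = 0 → ∃ r : R, f = r • x)
    (hfree : ∀ r : R, r • x = 0 → r = 0)
    (a b : R) (hxa : x * x = a • x)
    (hxb : Bialgebra.comulAlgHom R A x = x ⊗ₜ[R] 1 + 1 ⊗ₜ[R] x + b • (x ⊗ₜ[R] x))
    (A' : Type v) [CommRing A'] [HopfAlgebra R A']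
    (x' : A') (hx' : Bialgebra.counitAlgHom R A' x' = 0)
    (hgen' : ∀ f : A', Bialgebra.counitAlgHom R A' f = 0 → ∃ r : R, f = r • x')
    (hfree' : ∀ r : R, r • x' = 0 → r = 0)
    (a' b' : R) (hxa' : x' * x' = a' • x')
    (hxb' : Bialgebra.comulAlgHom R A' x' = x' ⊗ₜ[R] 1 + 1 ⊗ₜ[R] x' + b' • (x' ⊗ₜ[R] x')) :
    Nonempty (A ≃ₐc[R] A') ↔ ∃ s : Rˣ, a = a' * (s : R) ∧ b' = b * (s : R) := by
  obtain ⟨c, hcx, hc1, hdec⟩ := GrothLib.OT.Two.exists_coord hx hgen hfree
  obtain ⟨c', hcx', hc1', hdec'⟩ := GrothLib.OT.Two.exists_coord hx' hgen' hfree'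
  constructor
  · rintro ⟨e⟩
    let Φ : A →ₐ[R] A' := (e : A →ₐc[R] A').toAlgHom
    let Ψ : A' →ₐ[R] A := (e.symm : A' →ₐc[R] A).toAlgHom
    have hε : ∀ f, Bialgebra.counitAlgHom R A' (Φ f) = Bialgebra.counitAlgHom R A f := fun f =>
      CoalgHomClass.counit_comp_apply e f
    have hε' : ∀ f, Bialgebra.counitAlgHom R A (Ψ f) = Bialgebra.counitAlgHom R A' f := fun f =>
      CoalgHomClass.counit_comp_apply e.symm f
    obtain ⟨s, hs⟩ := hgen' (Φ x) ((hε x).trans hx)
    obtain ⟨t, ht⟩ := hgen (Ψ x') ((hε' x').trans hx')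
    have hΨΦ : Ψ (Φ x) = x := e.toAlgEquiv.symm_apply_apply x
    rw [hs, map_smul, ht, smul_smul] at hΨΦ
    have hst : s * t = 1 := sub_eq_zero.1 (hfree _ (by rw [sub_smul, one_smul, hΨΦ, sub_self]))
    refine ⟨⟨s, t, hst, by rw [mul_comm, hst]⟩, ?_, ?_⟩
    · have h := congrArg Φ hxa
      rw [map_mul, map_smul, hs, smul_mul_smul_comm, hxa', smul_smul, smul_smul] at h
      have := congrArg c' h
      simp only [map_smul, hcx', smul_eq_mul, mul_one] at this
      linear_combination (-t) * this + (a' * s - a) * hst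
    · have h : TensorProduct.map Φ.toLinearMap Φ.toLinearMap (Bialgebra.comulAlgHom R A x) =
          Bialgebra.comulAlgHom R A' (Φ x) := CoalgHomClass.map_comp_comul_apply e x
      rw [hxb, hs, map_smul, hxb'] at h
      simp only [map_add, map_smul, TensorProduct.map_tmul, AlgHom.toLinearMap_apply, hs, map_one,
        ← TensorProduct.smul_tmul', TensorProduct.tmul_smul, smul_add, smul_smul] at h
      have h2 : (b * (s * s) - s * b') • (x' ⊗ₜ[R] x') = (0 : A' ⊗[R] A') := by
        rw [← sub_eq_zero] at h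
        rw [← h]
        module
      have h3 := GrothLib.OT.Two.tmul_eq_zero hx' hgen' hfree' h2
      linear_combination (-t) * h3 + (b * s - b') * hst
  · rintro ⟨s, ha, hb⟩
    let L : A →ₗ[R] A' := Algebra.linearMap R A' ∘ₗ (Bialgebra.counitAlgHom R A).toLinearMap +
      (s : R) • c.smulRight x'
    have hL : ∀ f, L f = algebraMap R A' (Bialgebra.counitAlgHom R A f) + ((s : R) * c f) • x' := fun f => by
      simp [L, smul_smul]
    have hmulc : ∀ f g, c (f * g) = Bialgebra.counitAlgHom R A f * c g + Bialgebra.counitAlgHom R A g * c f +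
        c f * c g * a := fun f g => by
      have h : f * g = algebraMap R A (Bialgebra.counitAlgHom R A f * Bialgebra.counitAlgHom R A g) +
          (Bialgebra.counitAlgHom R A f * c g + Bialgebra.counitAlgHom R A g * c f + c f * c g * a) • x := by
        conv_lhs => rw [hdec f, hdec g]
        simp only [Algebra.algebraMap_eq_smul_one, add_mul, mul_add, smul_mul_smul_comm, hxa, one_mul, mul_one,
          smul_smul]
        module
      rw [h, map_add, map_smul, hcx, smul_eq_mul, mul_one, Algebra.algebraMap_eq_smul_one, map_smul, hc1,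
        smul_zero, zero_add]
    let Φ : A →ₐ[R] A' := AlgHom.ofLinearMap L (by rw [hL, map_one, hc1, map_one, mul_zero, zero_smul, add_zero])
      (fun f g => by
        rw [hL, hL, hL, hmulc, map_mul, ha]
        simp only [Algebra.algebraMap_eq_smul_one, add_mul, mul_add, smul_mul_smul_comm, hxa', one_mul, mul_one,
          smul_smul]
        module)
    have hΦε : ∀ f, Bialgebra.counitAlgHom R A' (Φ f) = Bialgebra.counitAlgHom R A f := fun f => by
      change Bialgebra.counitAlgHom R A' (L f) = _
      rw [hL, map_add, AlgHom.commutes, map_smul, hx', smul_zero, add_zero, Algebra.algebraMap_self,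
        RingHom.id_apply]
    have hΦc : ∀ f, c' (Φ f) = (s : R) * c f := fun f => by
      change c' (L f) = _
      rw [hL, map_add, map_smul, hcx', Algebra.algebraMap_eq_smul_one, map_smul, hc1']
      simp
    have hbij : Function.Bijective Φ := by
      refine ⟨fun f g h => ?_, fun g => ⟨algebraMap R A (Bialgebra.counitAlgHom R A' g) +
        (((s⁻¹ : Rˣ) : R) * c' g) • x, ?_⟩⟩
      · have hc := congrArg c' h
        rw [hΦc, hΦc, Units.mul_right_inj] at hc
        have he := congrArg (Bialgebra.counitAlgHom R A') h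
        rw [hΦε, hΦε] at he
        rw [hdec f, hdec g, hc, he]
      · change L _ = g
        have h1 : Bialgebra.counitAlgHom R A (algebraMap R A (Bialgebra.counitAlgHom R A' g) +
            (((s⁻¹ : Rˣ) : R) * c' g) • x) = Bialgebra.counitAlgHom R A' g := by simp [map_add, map_smul, hx]
        have h2 : c (algebraMap R A (Bialgebra.counitAlgHom R A' g) + (((s⁻¹ : Rˣ) : R) * c' g) • x) =
            ((s⁻¹ : Rˣ) : R) * c' g := by
          rw [map_add, map_smul, hcx, Algebra.algebraMap_eq_smul_one, map_smul, hc1]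
          simp
        rw [hL, h1, h2, Units.mul_inv_cancel_left]
        exact (hdec' g).symm
    refine ⟨BialgEquiv.ofAlgEquiv (AlgEquiv.ofBijective Φ hbij) (AlgHom.ext hΦε) (AlgHom.ext fun f => ?_)⟩
    have hLx : Φ x = (s : R) • x' := by
      change L x = _
      rw [hL, hx, map_zero, zero_add, hcx, mul_one]
    change Algebra.TensorProduct.map Φ Φ (Bialgebra.comulAlgHom R A f) = Bialgebra.comulAlgHom R A' (Φ f)
    rw [hdec f, map_add, map_add, map_add, map_add, map_smul, map_smul, map_smul, map_smul,
      AlgHom.commutes, AlgHom.commutes, AlgHom.commutes, AlgHom.commutes, hLx, map_smul, hxb, hxb', hb]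
    simp only [map_add, map_smul, Algebra.TensorProduct.map_tmul, map_one, hLx,
      ← TensorProduct.smul_tmul', TensorProduct.tmul_smul, smul_add, smul_smul]
    module

end Groth.Agent.S18480
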