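import Groth.Statements.S18483
-- import your own Groth.Agent.* helpers here
import Groth.Agent.Lib.WeilExt.Dedekind

set_option autoImplicit false
universe u
open CategoryTheory CategoryTheory.Limits AlgebraicGeometry MonObj
open Neron

namespace Groth.Agent.S18483

/-- Let R be a Dedekind domain with fraction field K and N a proper smooth group scheme over Spec R,
with no connectedness condition on its fibres. Then N is a Néron model of its generic fibre N_K: N
is smooth, separated and of finite type over Spec R, and for every smooth Spec R-scheme Y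
restriction to generic fibres is a bijection from R-morphisms Y → N onto K-morphisms Y_K → N_K. (The
source allows any connected Dedekind scheme as base; the affine case is stated.) -/
theorem result (R : Type u) [CommRing R] [IsDedekindDomain R]
    (N : Over (Spec (CommRingCat.of R))) [GrpObj N] [IsProper N.hom] [Smooth N.hom] :
    Neron.IsNeronModelOf R N ((Neron.genericFibre R).obj N) (Iso.refl _) := by
  refine ⟨inferInstance, inferInstance, inferInstance, inferInstance, fun Y hY => ?_⟩
  haveI : GrpObj (Over.mk N.hom) := ‹GrpObj N›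
  have hw : ∀ φ : (Neron.genericFibre R).obj Y ⟶ (Neron.genericFibre R).obj N,
      ∃! g : Y.left ⟶ N.left, g ≫ N.hom = Y.hom ∧ pullback.fst Y.hom _ ≫ g = φ.left ≫ pullback.fst N.hom _ := fun φ =>
    GrothLib.WeilExt.existsUnique_extension_of_genericFibre Y.hom N.hom (φ.left ≫ pullback.fst N.hom _) (by
      rw [Category.assoc, pullback.condition]
      exact (Category.assoc _ _ _).symm.trans (congrArg (fun t => t ≫ _) (Over.w φ)))
  have hmap : ∀ g : Y ⟶ N, pullback.fst Y.hom _ ≫ g.left = ((Neron.genericFibre R).map g).left ≫ pullback.fst N.hom _ :=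
    fun g => (pullback.lift_fst _ _ _).symm
  refine ⟨fun g₁ g₂ h => ?_, fun φ => ?_⟩
  · have h' : (Neron.genericFibre R).map g₁ = (Neron.genericFibre R).map g₂ := by simpa using h
    obtain ⟨g₀, -, huniq⟩ := hw ((Neron.genericFibre R).map g₁)
    refine Over.OverMorphism.ext ((huniq g₁.left ⟨Over.w g₁, hmap g₁⟩).trans (huniq g₂.left ⟨Over.w g₂, ?_⟩).symm)
    rw [h']; exact hmap g₂
  · obtain ⟨g₀, ⟨hg, hg'⟩, -⟩ := hw φ
    let g : Y ⟶ N := Over.homMk g₀ hg
    refine ⟨g, ?_⟩
    simp only [Iso.refl_hom, Category.comp_id]
    refine Over.OverMorphism.ext (pullback.hom_ext ?_ ?_)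
    · rw [← hmap]; exact hg'
    · exact (Over.w ((Neron.genericFibre R).map g)).trans (Over.w φ).symm

end Groth.Agent.S18483
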