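import Groth.Statements.S18484
-- import your own Groth.Agent.* helpers here
import Groth.Agent.Lib.SchDense.Basic
import Mathlib.AlgebraicGeometry.Morphisms.Etale
import Mathlib.RingTheory.IntegralClosure.IntegralRestrict
import Mathlib.Algebra.Category.Ring.Constructions
import Mathlib.AlgebraicGeometry.Restrict
import Mathlib.RingTheory.Flat.TorsionFree

set_option autoImplicit false
universe u
open CategoryTheory CategoryTheory.Limits AlgebraicGeometry MonObj
open Neron

namespace Groth.Agent.S18484

/-- Let R be a Dedekind domain with fraction field K, X a Spec R-scheme which is a Néron model of its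
generic fibre X_K, and i : G → X a closed immersion with G smooth over Spec R. Then G is a Néron
model of its generic fibre G_K: smooth, separated, of finite type, and for every smooth Spec
R-scheme Y restriction to generic fibres is a bijection from R-morphisms Y → G onto K-morphisms Y_K
→ G_K. (The source states this for a closed subgroup scheme of a Néron model; the group laws play no
part and are not assumed. The converse direction of the source, that a Néron model is a closed
subgroup of a Néron model, is immediate and not stated.) -/
theorem result (R : Type u) [CommRing R] [IsDedekindDomain R]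
    (X G : Over (Spec (CommRingCat.of R))) (hX : Neron.IsNeronModelOf R X ((Neron.genericFibre R).obj X) (Iso.refl _))
    (i : G ⟶ X) [IsClosedImmersion i.left] [Smooth G.hom] :
    Neron.IsNeronModelOf R G ((Neron.genericFibre R).obj G) (Iso.refl _) := by
  obtain ⟨h1, h2, h3, h4, h5⟩ := hX
  haveI := h1; haveI := h2; haveI := h3; haveI := h4
  haveI : IsSchemeTheoreticallyDominant (Neron.genPt R) := by
    haveI : IsDominant (Neron.genPt R) := ⟨(PrimeSpectrum.denseRange_comap_iff_ker_le_nilRadical _).mpr
      (by simp [(RingHom.injective_iff_ker_eq_bot _).mp (IsFractionRing.injective R (FractionRing R))])⟩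
    exact IsSchemeTheoreticallyDominant.of_isDominant _
  haveI : IsSeparated G.hom := by rw [← Over.w i]; infer_instance
  refine ⟨inferInstance, inferInstance, inferInstance, by rw [← Over.w i]; infer_instance, fun Y hY => ?_⟩
  simp only [Iso.refl_hom, Category.comp_id] at h5 ⊢
  have e : ∀ (Z : Over (Spec (CommRingCat.of R))) (φ : Y ⟶ Z), ((Neron.genericFibre R).map φ).left ≫ Limits.pullback.fst Z.hom (Neron.genPt R) =
      Limits.pullback.fst Y.hom (Neron.genPt R) ≫ φ.left := fun Z φ => Limits.pullback.lift_fst _ _ _
  haveI : Flat Y.hom := inferInstance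
  refine ⟨fun f₁ f₂ hf => Over.OverMorphism.ext (GrothLib.SchDense.ext_of_schDominant G.hom
    ((Over.w f₁).trans (Over.w f₂).symm) (Limits.pullback.fst Y.hom (Neron.genPt R)) ?_), fun φ => ?_⟩
  · rw [← e G f₁, ← e G f₂]
    exact congrArg (fun z : _ ⟶ _ => Over.Hom.left z ≫ Limits.pullback.fst G.hom (Neron.genPt R)) hf
  · obtain ⟨F, hF⟩ := (h5 Y hY).2 (φ ≫ (Neron.genericFibre R).map i)
    have hF' : Limits.pullback.fst Y.hom (Neron.genPt R) ≫ F.left =
        (φ.left ≫ Limits.pullback.fst G.hom (Neron.genPt R)) ≫ i.left := by
      rw [← e X F]
      have : (Neron.genericFibre R).map F = φ ≫ (Neron.genericFibre R).map i := hF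
      rw [this, Over.comp_left, Category.assoc, Category.assoc]
      congr 1
      exact Limits.pullback.lift_fst _ _ _
    obtain ⟨F', hF''⟩ := GrothLib.SchDense.exists_lift_of_schDominant i.left F.left
      (Limits.pullback.fst Y.hom (Neron.genPt R)) (φ.left ≫ Limits.pullback.fst G.hom (Neron.genPt R)) hF'.symm
    refine ⟨Over.homMk F' (by rw [← Over.w i, reassoc_of% hF'', Over.w]), ?_⟩
    refine Over.OverMorphism.ext (Limits.pullback.hom_ext ?_ ((Over.w _).trans (Over.w φ).symm))
    rw [e G]
    show Limits.pullback.fst Y.hom (Neron.genPt R) ≫ F' = _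
    rw [← cancel_mono i.left, Category.assoc, hF'', hF', Category.assoc]

end Groth.Agent.S18484
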