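import Groth.Statements.S18485
-- import your own Groth.Agent.* helpers here
import Mathlib

set_option autoImplicit false
universe u
open CategoryTheory CategoryTheory.Limits AlgebraicGeometry MonObj
open Neron

namespace Groth.Agent.S18485

/-- Let R be a Dedekind domain with fraction field K and H a Spec R-scheme which is flat and locally of
finite type over Spec R. If the generic fibre H_K is locally quasi-finite over K, then H is locally
quasi-finite over Spec R. (The published statement is about the schematic closure, in an S-group
algebraic space of finite type over a connected Dedekind scheme S, of a finite subgroup of the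
generic fibre, which it asserts to be a quasi-finite S-group; this row is the statement about flat
schemes locally of finite type over an affine Dedekind base on which that rests. Locally
quasi-finite is meant here without a finite type clause, which is assumed separately.) -/
theorem result (R : Type u) [CommRing R]
    [IsDedekindDomain R] (H : Over (Spec (CommRingCat.of R))) [Flat H.hom] [LocallyOfFiniteType H.hom]
    [LocallyQuasiFinite ((Neron.genericFibre R).obj H).hom] : LocallyQuasiFinite H.hom := by
  have alg : ∀ (A : Type u) [CommRing A] [Algebra R A] [Module.Flat R A],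
      Module.Finite (FractionRing R) (TensorProduct R (FractionRing R) A) → Algebra.QuasiFinite R A := by
    intro A _ _ _ hfin
    refine ⟨fun P _ => ?_⟩
    let RP := Localization.AtPrime P
    let v : A → TensorProduct R P.ResidueField A := fun a => 1 ⊗ₜ a
    have hspan : Submodule.span P.ResidueField (Set.range v) = ⊤ := by
      rw [eq_top_iff]
      rintro x -
      induction x using TensorProduct.induction_on with
      | zero => exact zero_mem _
      | tmul c a =>
        have : c ⊗ₜ[R] a = c • v a := by simp [v, TensorProduct.smul_tmul']
        rw [this]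
        exact Submodule.smul_mem _ _ (Submodule.subset_span ⟨a, rfl⟩)
      | add x y hx hy => exact add_mem hx hy
    obtain ⟨b, hbsub, hbspan, hbind⟩ := exists_linearIndependent P.ResidueField (Set.range v)
    choose a ha using fun x : b => hbsub x.2
    have h1 : LinearIndependent P.ResidueField (fun x : b => v (a x)) := by
      simp only [ha]; exact hbind
    -- over the local ring
    let e := TensorProduct.AlgebraTensorModule.cancelBaseChange R RP P.ResidueField P.ResidueField A
    have h2 : LinearIndependent P.ResidueField (fun x : b => (1 : P.ResidueField) ⊗ₜ[RP] ((1 : RP) ⊗ₜ[R] a x)) := by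
      refine LinearIndependent.of_comp e.toLinearMap ?_
      convert h1 using 1
      funext x
      simp [e, v]
    have h3 : LinearIndependent RP (fun x : b => (1 : RP) ⊗ₜ[R] a x) :=
      Module.IsLocalRing.linearIndependent_of_flat _ h2
    have hinj : Function.Injective (algebraMap R RP) :=
      IsLocalization.injective RP P.primeCompl_le_nonZeroDivisors
    have h4 : LinearIndependent R a := by
      refine LinearIndependent.of_comp (TensorProduct.mk R RP A 1) ?_
      exact h3.restrict_scalars (fun r s h => hinj (by simpa [Algebra.smul_def] using h))
    have h5 : LinearIndependent (FractionRing R) (fun x : b => (1 : FractionRing R) ⊗ₜ[R] a x) :=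
      LinearIndependent.of_isLocalizedModule (FractionRing R) (nonZeroDivisors R)
        (TensorProduct.mk R (FractionRing R) A 1) h4
    haveI : Finite b := h5.finite
    haveI := Fintype.ofFinite b
    refine ⟨⟨(Set.toFinite b).toFinset, ?_⟩⟩
    rw [Set.Finite.coe_toFinset, hbspan, hspan]
  refine HasRingHomProperty.iff_appLE.mpr fun U V e => ?_
  obtain ⟨V, hV⟩ := V
  let f : CommRingCat.of R ⟶ Γ(H.left, V) := (Scheme.ΓSpecIso _).inv ≫ H.hom.appLE ⊤ V le_top
  suffices h : f.hom.QuasiFinite by
    refine RingHom.QuasiFinite.of_comp (g := ((Scheme.ΓSpecIso _).inv ≫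
      (Spec (CommRingCat.of R)).presheaf.map (homOfLE le_top : U.1 ⟶ ⊤).op).hom) ?_
    rw [← CommRingCat.hom_comp, Category.assoc, Scheme.Hom.map_appLE]
    exact h
  algebraize [f.hom]
  haveI : Module.Flat R Γ(H.left, V) := RingHom.Flat.comp (RingHom.Flat.of_bijective
    (Scheme.ΓSpecIso _).commRingCatIsoToRingEquiv.symm.bijective) (H.hom.flat_appLE (isAffineOpen_top _) hV le_top)
  refine alg Γ(H.left, V) ?_
  let g : Spec (CommRingCat.of Γ(H.left, V)) ⟶ Spec (CommRingCat.of R) :=
    Spec.map (CommRingCat.ofHom (algebraMap R Γ(H.left, V)))
  have hg : g = hV.fromSpec ≫ H.hom := by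
    show Spec.map f = _
    rw [Spec.map_comp, ← IsAffineOpen.SpecMap_appLE_fromSpec H.hom (isAffineOpen_top _) hV le_top,
      IsAffineOpen.fromSpec_top, Scheme.isoSpec_Spec_inv]
  haveI : LocallyQuasiFinite (pullback.snd H.hom (Neron.genPt R)) :=
    inferInstanceAs (LocallyQuasiFinite ((Neron.genericFibre R).obj H).hom)
  have h6 : LocallyQuasiFinite (pullback.snd g (Neron.genPt R)) := by
    rw [hg, ← pullbackRightPullbackFstIso_inv_snd_snd H.hom (Neron.genPt R) hV.fromSpec]
    infer_instance
  let e' := pullbackSymmetry g (Neron.genPt R) ≪≫ pullbackSpecIso R (FractionRing R) Γ(H.left, V)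
  have h7 : LocallyQuasiFinite (Spec.map (CommRingCat.ofHom
      (algebraMap (FractionRing R) (TensorProduct R (FractionRing R) Γ(H.left, V))))) := by
    have he : e'.inv ≫ pullback.snd g (Neron.genPt R) = Spec.map (CommRingCat.ofHom
        (algebraMap (FractionRing R) (TensorProduct R (FractionRing R) Γ(H.left, V)))) := by
      simp only [e', Iso.trans_inv, Category.assoc, pullbackSymmetry_inv_comp_snd]
      exact pullbackSpecIso_inv_fst' R (FractionRing R) Γ(H.left, V)
    rw [← he]
    exact (MorphismProperty.cancel_left_of_respectsIso @LocallyQuasiFinite e'.inv _).mpr h6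
  have h8 : Algebra.QuasiFinite (FractionRing R) (TensorProduct R (FractionRing R) Γ(H.left, V)) :=
    RingHom.quasiFinite_algebraMap.mp ((HasRingHomProperty.Spec_iff (P := @LocallyQuasiFinite)).mp h7)
  exact Algebra.QuasiFinite.iff_of_isArtinianRing.mp h8

end Groth.Agent.S18485
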