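import Groth.Statements.S18487
import Groth.Agent.Lib.Torsor21.DedekindExtend

set_option autoImplicit false
set_option backward.isDefEq.respectTransparency false
set_option backward.isDefEq.respectTransparency.types false
universe u
open CategoryTheory CategoryTheory.Limits AlgebraicGeometry MonObj
open NonAbH1 MonoidalCategory CartesianMonoidalCategory

namespace Groth.Agent.S18487

/-- Let R be a Dedekind domain with fraction field K, G a proper flat group scheme over Spec R, and P a
Spec R-scheme with an action of G making it a G-torsor for the fppf topology (a pseudo-torsor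
acquiring sections on the members of an fppf covering family). If P acquires a section over the
generic point Spec K → Spec R, then P has a section over Spec R: a generically trivial torsor is
trivial. (The source allows any connected Dedekind scheme as base and torsors that are fppf sheaves,
shown there to be schemes; the affine base and scheme torsors are stated.) -/
theorem result (R : Type u) [CommRing R] [IsDedekindDomain R]
    (G : Over (Spec (CommRingCat.of R))) [GrpObj G] [IsProper G.hom] [Flat G.hom]
    (P : NonAbH1.TorsorSch G Scheme.fppfPrecoverage) (h : NonAbH1.HasSectionOver P.X (Neron.genPt R)) :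
    NonAbH1.HasSectionOver P.X (𝟙 (Spec (CommRingCat.of R))) := by
  haveI : Mono (Neron.genPt R) := by
    haveI := IsPreimmersion.of_isLocalization (S := FractionRing R) (nonZeroDivisors R)
    infer_instance
  obtain ⟨t, ht⟩ := h
  let Kη : Over (Spec (CommRingCat.of R)) := Over.mk (Neron.genPt R)
  let t' : Kη ⟶ P.X := Over.homMk t ht
  let φ : G ⊗ Kη ⟶ P.X := lift (fst G Kη) (snd G Kη ≫ t') ≫ P.act.act
  obtain ⟨e⟩ := GrothLib.Torsor21.exists_equivIso_of_genPt GrothLib.Torsor21.dedekind_stalk
    (isTorsorFor_trivialAction G _) P.isTorsor (Neron.genPt R) GrothLib.Torsor21.genPt_apply φ (by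
      intro R' g x u
      show lift (lift g x ≫ (trivialAction G).act) u ≫ φ = lift g (lift x u ≫ φ) ≫ P.act.act
      rw [show lift g x ≫ (trivialAction G).act = g * x from (Hom.mul_def _ _).symm]
      have hφ : ∀ y : R' ⟶ G, lift y u ≫ φ = lift y (u ≫ t') ≫ P.act.act := fun y => by
        simp only [φ, ← Category.assoc]
        congr 1
        ext1
        · simp
          exact lift_fst y u
        · simp
          exact congrArg (· ≫ t') (lift_snd y u) |> (Category.assoc _ _ _).symm.trans
      rw [hφ, hφ]
      exact P.act.lift_mul_act g x (u ≫ t'))
  exact ⟨((1 : Over.mk (𝟙 _) ⟶ G) ≫ e.iso.hom).left, Over.w ((1 : Over.mk (𝟙 _) ⟶ G) ≫ e.iso.hom)⟩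

end Groth.Agent.S18487
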