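import Groth.Statements.S18488
import Groth.Agent.Lib.Torsor21.DedekindExtend

set_option autoImplicit false
set_option backward.isDefEq.respectTransparency false
set_option backward.isDefEq.respectTransparency.types false
universe u
open CategoryTheory CategoryTheory.Limits AlgebraicGeometry MonObj
open NonAbH1 MonoidalCategory CartesianMonoidalCategory

namespace Groth.Agent.S18488

/-- Let R be a Dedekind domain with fraction field K and G a proper flat group scheme over Spec R. Then
restriction to the generic fibre, from the set of classes of G-torsors for the fppf topology (Spec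
R-schemes with a G-action, pseudo-torsors trivialised on an fppf covering family, up to equivariant
isomorphism) to the set of classes of G_K-torsors, is injective. (The source allows any connected
Dedekind scheme as base and all fppf torsors, which it shows to be schemes; the affine base and
torsors representable by schemes are stated.) -/
theorem result (R : Type u) [CommRing R] [IsDedekindDomain R]
    (G : Over (Spec (CommRingCat.of R))) [GrpObj G] [IsProper G.hom] [Flat G.hom] :
    Function.Injective (NonAbH1.H1Sch.bcMap (Neron.genPt R) G Scheme.fppfPrecoverage) := by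
  haveI : Mono (Neron.genPt R) := by
    haveI := IsPreimmersion.of_isLocalization (S := FractionRing R) (nonZeroDivisors R)
    infer_instance
  intro c₁ c₂ h
  obtain ⟨E₁, rfl⟩ := Quot.exists_rep c₁
  obtain ⟨E₂, rfl⟩ := Quot.exists_rep c₂
  have hequiv : Equivalence (fun A B : TorsorSch (Red.bc (Neron.genPt R) G) Scheme.fppfPrecoverage =>
      Nonempty (EquivIso A.act B.act)) :=
    ⟨fun A => ⟨⟨Iso.refl _, by simp⟩⟩,
      fun ⟨e⟩ => ⟨⟨e.iso.symm, by
        have := e.comm
        simp only [Iso.symm_hom, ← cancel_mono e.iso.hom, Category.assoc, Iso.inv_hom_id, Category.comp_id]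
        rw [this, ← Category.assoc, ← MonoidalCategory.whiskerLeft_comp, Iso.inv_hom_id,
          MonoidalCategory.whiskerLeft_id, Category.id_comp]⟩⟩,
      fun ⟨e⟩ ⟨e'⟩ => ⟨⟨e.iso ≪≫ e'.iso, by
        rw [Iso.trans_hom, reassoc_of% e.comm, e'.comm, MonoidalCategory.whiskerLeft_comp, Category.assoc]⟩⟩⟩
  obtain ⟨e⟩ := (hequiv.eqvGen_iff).1 (Quot.eqvGen_exact h)
  obtain ⟨φ, hφ⟩ := GrothLib.Torsor21.exists_hom_of_bc_equivIso (Neron.genPt R) e
  exact Quot.sound (GrothLib.Torsor21.exists_equivIso_of_genPt GrothLib.Torsor21.dedekind_stalk
    E₁.isTorsor E₂.isTorsor (Neron.genPt R) GrothLib.Torsor21.genPt_apply φ hφ)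

end Groth.Agent.S18488
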