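import Groth.Statements.S18490
import Groth.Agent.Lib.Misc6.Small
import Mathlib.AlgebraicGeometry.Morphisms.Immersion
import Mathlib.AlgebraicGeometry.Morphisms.Separated
import Mathlib.AlgebraicGeometry.Morphisms.FiniteType
-- import your own Groth.Agent.* helpers here

set_option autoImplicit false
universe u
open CategoryTheory CategoryTheory.Limits AlgebraicGeometry
open FlatMor

namespace Groth.Agent.S18490

/-- Let f : X → S and g : Y → S be morphisms of schemes and suppose that g has a section y : S → Y. If
the structure morphism X ×_S Y → S (first projection followed by f) is quasi-compact, then so is f;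
likewise for locally of finite type, for separated, and for flat. (Finite type, also listed in the
source, is the conjunction of the first two.) -/
theorem result {X Y S : Scheme.{u}} (f : X ⟶ S) (g : Y ⟶ S)
    (y : S ⟶ Y) (hy : y ≫ g = 𝟙 S) :
    (QuasiCompact (pullback.fst f g ≫ f) → QuasiCompact f) ∧
    (LocallyOfFiniteType (pullback.fst f g ≫ f) → LocallyOfFiniteType f) ∧
    (IsSeparated (pullback.fst f g ≫ f) → IsSeparated f) ∧
    (Flat (pullback.fst f g ≫ f) → Flat f) := by
  let s := Limits.pullback.lift (f := f) (g := g) (𝟙 X) (f ≫ y) (by simp [hy])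
  have hs : s ≫ Limits.pullback.fst f g = 𝟙 X := Limits.pullback.lift_fst _ _ _
  have hs' : s ≫ (Limits.pullback.fst f g ≫ f) = f := by rw [← Category.assoc, hs, Category.id_comp]
  haveI : Surjective (Limits.pullback.fst f g) := ⟨fun x => ⟨s x, by rw [← Scheme.Hom.comp_apply, hs]; rfl⟩⟩
  haveI : IsSplitMono s := IsSplitMono.mk' ⟨_, hs⟩
  haveI : IsImmersion s := by
    haveI : IsImmersion (s ≫ Limits.pullback.fst f g) := by rw [hs]; infer_instance
    exact IsImmersion.of_comp s (Limits.pullback.fst f g)
  refine ⟨fun _ => GrothLib.Misc6.quasiCompact_of_comp (Limits.pullback.fst f g) f,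
    fun h => ?_, fun h => ?_, fun _ => GrothLib.Misc6.flat_of_retract s _ hs f⟩
  · rw [← hs']; infer_instance
  · rw [← hs']; infer_instance

end Groth.Agent.S18490
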