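import Groth.Statements.S18493
-- import your own Groth.Agent.* helpers here
import Groth.Agent.Lib.NeronIsog24.Main
import Groth.Agent.Lib.AffineDimOne14.Basic

set_option autoImplicit false
universe u
open CategoryTheory CategoryTheory.Limits AlgebraicGeometry MonObj
open Neron

namespace Groth.Agent.S18493

/-- Let R be a Dedekind domain with fraction field K, let A and B be group schemes over Spec R which are
Néron models of their generic fibres, both abelian varieties over K (proper and geometrically
integral), let φ : A → B be a homomorphism whose generic fibre is an isogeny (surjective with finite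
kernel), and let i : N → A be a kernel of φ (cartesian square against the unit section of B). If φ
is flat, then N → Spec R is locally quasi-finite, of finite type, flat and affine; if moreover A is
proper over Spec R then N → Spec R is finite. -/
theorem result (R : Type u) [CommRing R]
    [IsDedekindDomain R] (A B : Over (Spec (CommRingCat.of R))) [GrpObj A] [GrpObj B]
    (hA : Neron.IsNeronModelOf R A ((Neron.genericFibre R).obj A) (Iso.refl _))
    (hB : Neron.IsNeronModelOf R B ((Neron.genericFibre R).obj B) (Iso.refl _))
    [IsProper ((Neron.genericFibre R).obj A).hom] [GeometricallyIntegral ((Neron.genericFibre R).obj A).hom]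
    [IsProper ((Neron.genericFibre R).obj B).hom] [GeometricallyIntegral ((Neron.genericFibre R).obj B).hom]
    (φ : A ⟶ B) [IsMonHom φ] (hφ : SGA7.IsIsogenyOver ((Neron.genericFibre R).map φ)) [Flat φ.left]
    (N : Over (Spec (CommRingCat.of R))) (i : N ⟶ A) (hN : AlgGrp.IsKernel i φ) :
    (LocallyQuasiFinite N.hom ∧ QuasiCompact N.hom ∧ Flat N.hom ∧ IsAffineHom N.hom) ∧
    (IsProper A.hom → IsFinite N.hom) := by
  open MonoidalCategory CartesianMonoidalCategory in
  haveI := hA.1
  haveI := hA.2.1
  haveI := hA.2.2.2.1
  haveI := hB.1
  haveI := hB.2.1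
  haveI hQCA : QuasiCompact A.hom := hA.2.2.2.1
  haveI : LocallyQuasiFinite φ.left := (GrothLib.NeronIsog24.lqf_iff_flat R A B φ hφ).2 inferInstance
  haveI : Smooth (φ.left ≫ B.hom) := by rw [Over.w]; infer_instance
  haveI : QuasiCompact (φ.left ≫ B.hom) := by rw [Over.w]; infer_instance
  haveI : IsSeparated (φ.left ≫ B.hom) := by rw [Over.w]; infer_instance
  haveI : QuasiCompact φ.left := QuasiCompact.of_comp φ.left B.hom
  haveI : IsSeparated φ.left := IsSeparated.of_comp φ.left B.hom
  haveI : LocallyOfFiniteType φ.left := locallyOfFiniteType_of_comp φ.left B.hom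
  obtain ⟨_, _⟩ := GrothLib.GrpDeligne.exists_grpObj_kernel φ i hN
  have sq := (GrothLib.KerDiag14.mapped_squares φ i hN).2.2
  haveI : LocallyQuasiFinite N.hom := MorphismProperty.of_isPullback sq ‹_›
  haveI : QuasiCompact N.hom := MorphismProperty.of_isPullback sq ‹_›
  haveI : Flat N.hom := MorphismProperty.of_isPullback sq ‹_›
  haveI : IsSeparated N.hom := MorphismProperty.of_isPullback sq ‹_›
  haveI : LocallyOfFiniteType N.hom := MorphismProperty.of_isPullback sq ‹_›
  refine ⟨⟨inferInstance, inferInstance, inferInstance, ?_⟩, fun hP => ?_⟩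
  · haveI : LocallyQuasiFinite (toUnit N).left := ‹LocallyQuasiFinite N.hom›
    haveI : QuasiCompact (toUnit N).left := ‹QuasiCompact N.hom›
    haveI : IsSeparated (toUnit N).left := ‹IsSeparated N.hom›
    haveI : LocallyOfFiniteType (𝟙_ (Over (Spec (CommRingCat.of R)))).hom :=
      inferInstanceAs (LocallyOfFiniteType (𝟙 _))
    haveI : IsNoetherianRing R := inferInstance
    have hdim : topologicalKrullDim ↥(Spec (CommRingCat.of R)) ≤ 1 :=
      (PrimeSpectrum.topologicalKrullDim_eq_ringKrullDim R).trans_le
        ((Ring.krullDimLE_iff (R := R) (n := 1)).1 inferInstance)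
    refine GrothLib.AffineDimOne14.isAffineHom hdim (toUnit N) fun s => ?_
    have sqs := GrothLib.FibreLocus.isPullback_map_left (toUnit N) ((Spec (CommRingCat.of R)).fromSpecResidueField s)
    haveI := MorphismProperty.of_isPullback (P := @LocallyQuasiFinite) sqs.flip ‹LocallyQuasiFinite (toUnit N).left›
    haveI := MorphismProperty.of_isPullback (P := @QuasiCompact) sqs.flip ‹QuasiCompact (toUnit N).left›
    haveI : IsFinite ((Over.pullback ((Spec (CommRingCat.of R)).fromSpecResidueField s)).obj (𝟙_ _)).hom := by
      change IsFinite (pullback.snd (𝟙 _) ((Spec (CommRingCat.of R)).fromSpecResidueField s))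
      infer_instance
    haveI : IsLocallyArtinian ((Over.pullback ((Spec (CommRingCat.of R)).fromSpecResidueField s)).obj (𝟙_ _)).left :=
      IsLocallyArtinian.of_locallyQuasiFinite
        ((Over.pullback ((Spec (CommRingCat.of R)).fromSpecResidueField s)).obj (𝟙_ _)).hom
    exact IsFinite.of_locallyQuasiFinite _
  · haveI : IsProper A.hom := hP
    haveI : IsProper (φ.left ≫ B.hom) := by rw [Over.w]; infer_instance
    haveI : IsProper φ.left := IsProper.of_comp φ.left B.hom
    haveI : IsProper N.hom := MorphismProperty.of_isPullback sq ‹_›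
    exact (IsFinite.iff_isProper_and_locallyQuasiFinite _).2 ⟨inferInstance, inferInstance⟩

end Groth.Agent.S18493
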