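import Groth.Statements.S18494
-- import your own Groth.Agent.* helpers here
import Groth.Agent.Lib.NeronIsog24.Degree
import Groth.Agent.S18484

set_option autoImplicit false
universe u
open CategoryTheory CategoryTheory.Limits AlgebraicGeometry MonObj
open Neron

namespace Groth.Agent.S18494

/-- Let R be a Dedekind domain with fraction field K, let A and B be group schemes over Spec R which are
Néron models of their generic fibres, both abelian varieties over K (proper and geometrically
integral), let φ : A → B be a homomorphism whose generic fibre φ_K is an isogeny (surjective with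
finite kernel), and let i : N → A be a kernel of φ. If the degree of φ_K, that is the order of the
finite K-group scheme N_K (its rank over Spec K), is a unit in R, then N is a Néron model of its
generic fibre N_K (smooth, separated, of finite type, with the Néron mapping property for smooth
Spec R-schemes) and N → Spec R is étale. -/
theorem result (R : Type u) [CommRing R]
    [IsDedekindDomain R] (A B : Over (Spec (CommRingCat.of R))) [GrpObj A] [GrpObj B]
    (hA : Neron.IsNeronModelOf R A ((Neron.genericFibre R).obj A) (Iso.refl _))
    (hB : Neron.IsNeronModelOf R B ((Neron.genericFibre R).obj B) (Iso.refl _))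
    [IsProper ((Neron.genericFibre R).obj A).hom] [GeometricallyIntegral ((Neron.genericFibre R).obj A).hom]
    [IsProper ((Neron.genericFibre R).obj B).hom] [GeometricallyIntegral ((Neron.genericFibre R).obj B).hom]
    (φ : A ⟶ B) [IsMonHom φ] (hφ : SGA7.IsIsogenyOver ((Neron.genericFibre R).map φ))
    (N : Over (Spec (CommRingCat.of R))) (i : N ⟶ A) (hN : AlgGrp.IsKernel i φ)
    (hdeg : ∀ x : ↥(Spec (CommRingCat.of (FractionRing R))),
      IsUnit ((((Neron.genericFibre R).obj N).hom.finrank x : ℕ) : R)) :
    Neron.IsNeronModelOf R N ((Neron.genericFibre R).obj N) (Iso.refl _) ∧ Etale N.hom := by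
  haveI := hA.1
  haveI := hA.2.1
  haveI := hB.1
  haveI := hB.2.1
  haveI : Etale φ.left := GrothLib.NeronIsog24.etale_of_degree_isUnit R hA φ hφ N i hN hdeg
  obtain ⟨_, _⟩ := GrothLib.GrpDeligne.exists_grpObj_kernel φ i hN
  have sq := (GrothLib.KerDiag14.mapped_squares φ i hN).2.2
  haveI : Etale N.hom := MorphismProperty.of_isPullback sq ‹_›
  haveI : IsClosedImmersion η[B].left := by
    haveI : IsClosedImmersion (η[B].left ≫ B.hom) := by rw [Over.w]; exact inferInstanceAs (IsClosedImmersion (𝟙 _))
    exact IsClosedImmersion.of_comp η[B].left B.hom
  haveI : IsClosedImmersion i.left := MorphismProperty.of_isPullback sq.flip ‹_›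
  exact ⟨Groth.Agent.S18484.result R A N hA i, inferInstance⟩

end Groth.Agent.S18494
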