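import Groth.Statements.S4077
import Groth.Agent.Lib.SplitRed1.IsogFibre
import Groth.Agent.Lib.SplitRed1.GaBC
import Groth.Agent.Lib.GrpSchField.Open
-- import your own Groth.Agent.* helpers here

set_option autoImplicit false
set_option backward.isDefEq.respectTransparency false
set_option maxHeartbeats 1000000
universe u
open CategoryTheory CategoryTheory.Limits AlgebraicGeometry MonObj
open SGA7

namespace Groth.Agent.S4077

/-- Let R be a Dedekind domain with fraction field K and N a group scheme over Spec R which is a Néron
model of its generic fibre A = N_K, an abelian variety (proper and geometrically integral over K).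
Then A has semistable reduction over R (it extends to a smooth separated group scheme of finite type
over Spec R whose geometric fibres contain no copy of the additive group) if and only if the
geometric fibres of N contain no copy of the additive group (that is, the identity components of the
fibres of N are extensions of abelian varieties by tori). -/
theorem result (R K : Type u) [CommRing R] [IsDedekindDomain R] [Field K] [Algebra R K] [IsFractionRing R K]
    (N : Over (Spec (CommRingCat.of R))) [GrpObj N] (hN : SGA7.IsNeron R K N)
    [IsProper ((SGA7.genFib R K).obj N).hom] [GeometricallyIntegral ((SGA7.genFib R K).obj N).hom] :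
    SGA7.HasSemistableReduction R K ((SGA7.genFib R K).obj N) ↔ SGA7.FibresUnipotentRankZero N := by
  obtain ⟨hNs, hNsep, hNq, hext⟩ := hN
  haveI := hNs; haveI := hNsep; haveI := hNq
  refine ⟨?_, fun h => ⟨N, inferInstance, Iso.refl _, inferInstanceAs (IsMonHom (𝟙 _)), hNs, hNsep, hNq, h⟩⟩
  rintro ⟨G, _, e, he, hGs, hGsep, hGq, hG⟩
  haveI := he; haveI := hGs; haveI := hGsep; haveI := hGq
  let P := SGA7.genFib R K
  obtain ⟨u, hu⟩ := (hext G hGs).2 e.hom
  change P.map u = e.hom at hu
  haveI : IsMonHom (P.map u) := by rw [hu]; exact he
  haveI : IsMonHom u := by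
    refine ⟨?_, ?_⟩
    · refine (hext (MonoidalCategoryStruct.tensorUnit _) (inferInstanceAs (Smooth (𝟙 (Spec (CommRingCat.of R)))))).1 ?_
      show P.map (η[G] ≫ u) = P.map η[N]
      rw [Functor.map_comp, ← cancel_epi (Functor.LaxMonoidal.ε P), ← Category.assoc]
      exact IsMonHom.one_hom (f := P.map u)
    · have hsm : Smooth (MonoidalCategoryStruct.tensorObj G G).hom := by
        rw [← Over.w (CartesianMonoidalCategory.fst G G)]
        haveI : Smooth (CartesianMonoidalCategory.fst G G).left := inferInstanceAs (Smooth (pullback.fst G.hom G.hom))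
        infer_instance
      refine (hext _ hsm).1 ?_
      show P.map (μ[G] ≫ u) = P.map (MonoidalCategoryStruct.tensorHom u u ≫ μ[N])
      rw [Functor.map_comp, Functor.map_comp, ← cancel_epi (Functor.LaxMonoidal.μ P G G), ← Category.assoc,
        ← Functor.LaxMonoidal.μ_natural_assoc]
      exact IsMonHom.mul_hom (f := P.map u)
  haveI : IsIso (P.map u) := by rw [hu]; infer_instance
  haveI : IsCommMonObj (P.obj N) := GrothLib.Cube.isCommMonObj_abVar
  haveI := GrothLib.SplitRed1.isCommMonObj_of_genFib K N
  haveI : IsCommMonObj (P.obj G) := GrothLib.AlgGrp14.isCommMonObj_of_mono (P.map u)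
  haveI := GrothLib.SplitRed1.isCommMonObj_of_genFib K G
  haveI : IsIntegral (P.obj N).left := GeometricallyIntegral.isIntegral_of_subsingleton (P.obj N).hom
  haveI huo : IsOpenImmersion u.left := GrothLib.SplitRed1.isOpenImmersion_of_generic_iso K u hG
  intro s v hv hvc
  haveI := hv; haveI := hvc
  let Q := Over.pullback (Red.geomPt s)
  let Gs := Red.geomFibre s G
  let Ns := Red.geomFibre s N
  let us : Gs ⟶ Ns := Q.map u
  have sq := GrothLib.SplitRed1.isPullback_map (Red.geomPt s) u
  haveI : IsOpenImmersion us.left := MorphismProperty.of_isPullback sq huo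
  haveI : Smooth Ns.hom := MorphismProperty.pullback_snd N.hom _ hNs
  haveI : IsSeparated Gs.hom := MorphismProperty.pullback_snd G.hom _ hGsep
  haveI : IsMonHom us := inferInstanceAs (IsMonHom (Q.map u))
  have hclo : IsClopen (Set.range us.left) :=
    ⟨GrothLib.GrpSchField.isClosed_range_of_isLocallyClosed us us.left.isOpenEmbedding.isOpen_range.isLocallyClosed,
      us.left.isOpenEmbedding.isOpen_range⟩
  haveI := GrothLib.SemiAb16.connectedSpace_Ga (k := AlgebraicClosure ((Spec (CommRingCat.of R)).residueField s))
  have hsub : Set.range v.left ⊆ Set.range us.left := by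
    refine (isConnected_range v.left.continuous).isPreconnected.subset_isClopen hclo
      ⟨η[Ns].left (IsLocalRing.closedPoint _), ⟨η[Red.Ga _].left (IsLocalRing.closedPoint _), ?_⟩,
        ⟨η[Gs].left (IsLocalRing.closedPoint _), ?_⟩⟩
    · rw [← Scheme.Hom.comp_apply, ← Over.comp_left, IsMonHom.one_hom]
    · rw [← Scheme.Hom.comp_apply, ← Over.comp_left, IsMonHom.one_hom]
  let l : _ ⟶ Gs := Over.homMk (IsOpenImmersion.lift us.left v.left hsub) (by
    rw [← Over.w us, ← Category.assoc, IsOpenImmersion.lift_fac]; exact Over.w v)
  have hl : l ≫ us = v := Over.OverMorphism.ext (IsOpenImmersion.lift_fac _ _ _)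
  haveI : Mono us := Over.mono_of_mono_left us
  haveI : IsMonHom l :=
    ⟨by rw [← cancel_mono us, Category.assoc, hl, IsMonHom.one_hom (f := us), IsMonHom.one_hom],
      by rw [← cancel_mono us, Category.assoc, hl, IsMonHom.mul_hom, Category.assoc,
        IsMonHom.mul_hom (f := us), ← Category.assoc, MonoidalCategory.tensorHom_comp_tensorHom, hl]⟩
  haveI : IsClosedImmersion (l.left ≫ us.left) := by rw [← Over.comp_left, hl]; infer_instance
  exact hG s l inferInstance (IsClosedImmersion.of_comp l.left us.left)

end Groth.Agent.S4077
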