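import Groth.Statements.S18495
import Groth.Agent.S4077
import Groth.Agent.Lib.SplitRed1.MulLqf
import Groth.Agent.Lib.NeronIsog24.Main
-- import your own Groth.Agent.* helpers here

set_option autoImplicit false
set_option backward.isDefEq.respectTransparency false
set_option maxHeartbeats 1000000
universe u
open CategoryTheory CategoryTheory.Limits AlgebraicGeometry MonObj
open Neron

namespace Groth.Agent.S18495

/-- The case of multiplication by n over a discrete valuation ring. Let R be a discrete valuation ring
with fraction field K and residue field of characteristic p (p = 0 allowed), let A be a commutative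
group scheme over Spec R which is a Néron model of its generic fibre A_K, an abelian variety over K
(proper and geometrically integral), and let n ≥ 1. Then the n-th power endomorphism of A is flat if
and only if: whenever p divides n, A_K has semistable reduction over R (A_K extends to a smooth
separated group scheme of finite type over Spec R all of whose geometric fibres contain no closed
subgroup isomorphic to the additive group). (The published lemma is over a connected Dedekind
scheme, with the reduction condition at every nongeneric point whose residue characteristic divides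
n; the case of a discrete valuation ring is stated.) -/
theorem result (R : Type u) [CommRing R] [IsDomain R]
    [IsDiscreteValuationRing R] (A : Over (Spec (CommRingCat.of R))) [GrpObj A] [IsCommMonObj A]
    (hA : Neron.IsNeronModelOf R A ((Neron.genericFibre R).obj A) (Iso.refl _))
    [IsProper ((Neron.genericFibre R).obj A).hom] [GeometricallyIntegral ((Neron.genericFibre R).obj A).hom]
    (n : ℕ) (hn : 1 ≤ n) :
    Flat (((𝟙 A) ^ n : A ⟶ A)).left ↔
      (ringChar (IsLocalRing.ResidueField R) ∣ n →
        SGA7.HasSemistableReduction R (FractionRing R) ((Neron.genericFibre R).obj A)) := by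
  haveI := hA.1
  haveI := hA.2.1
  haveI : QuasiCompact A.hom := hA.2.2.2.1
  let K := FractionRing R
  let P := Neron.genericFibre R
  have hN : SGA7.IsNeron R K A := ⟨hA.1, hA.2.1, hA.2.2.2.1, fun Y hY => by
    have h := hA.2.2.2.2 Y hY
    simp only [Iso.refl_hom, Category.comp_id] at h
    exact h⟩
  have hn0 : n ≠ 0 := by omega
  let f : A ⟶ A := 𝟙 A ^ n
  haveI : IsMonHom f := GrothLib.GrpDeligne.isMonHom_pow (𝟙 A) n
  have hPf : P.map f = (𝟙 (P.obj A) : P.obj A ⟶ P.obj A) ^ n := by
    refine (map_pow P.homMonoidHom (𝟙 A) n).trans ?_
    show (P.map (𝟙 A)) ^ n = _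
    rw [CategoryTheory.Functor.map_id]
  have hfin : IsFinite (P.map f).left := by rw [hPf]; exact GrothLib.Cube.isFinite_pow _ hn0
  have hisog : SGA7.IsIsogenyOver (P.map f) := by
    refine ⟨by rw [hPf]; exact GrothLib.Cube.surjective_pow _ hn0, fun N i hi => ?_⟩
    have sq := (show IsPullback i (CartesianMonoidalCategory.toUnit N) (P.map f) η[P.obj A] from hi).map (Over.forget _)
    exact MorphismProperty.of_isPullback sq hfin
  have hiff := GrothLib.NeronIsog24.lqf_iff_flat R A A f hisog
  constructor
  · intro hflat hp
    refine (Groth.Agent.S4077.result R K A hN).2 ?_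
    intro s
    by_cases hs : s = IsLocalRing.closedPoint R
    · exact GrothLib.SplitRed1.unipotentRankZero_of_lqf A n (hiff.2 hflat) ((ringChar.spec _ n).2 hp) s hs
    · intro v hv hvc
      obtain ⟨q, hq⟩ := GrothLib.SplitRed1.exists_factor_generic K (Red.geomPt s)
        (by rw [GrothLib.SplitRed1.geomPt_apply]; exact hs)
      let e := GrothLib.DiagGrp.bcGrpComp A (Spec.map (CommRingCat.ofHom (algebraMap R K))) q (Red.geomPt s) hq
      haveI : IsIso e.hom.hom.hom := inferInstanceAs (IsIso ((Grp.forget _).mapIso e).hom)
      haveI : IsIso e.hom.hom.hom.left := inferInstanceAs (IsIso ((Over.forget _).map e.hom.hom.hom))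
      let B := Red.bc q (P.obj A)
      haveI : Smooth B.hom := MorphismProperty.pullback_snd _ _ (MorphismProperty.pullback_snd A.hom _ hA.1)
      haveI : IsProper B.hom := MorphismProperty.pullback_snd _ _ ‹IsProper (P.obj A).hom›
      haveI : GeometricallyIntegral B.hom := MorphismProperty.pullback_snd _ _ ‹GeometricallyIntegral (P.obj A).hom›
      haveI : IsIntegral B.left := GeometricallyIntegral.isIntegral_of_subsingleton B.hom
      haveI := hvc
      haveI : IsClosedImmersion (v ≫ e.hom.hom.hom).left :=
        inferInstanceAs (IsClosedImmersion (v.left ≫ e.hom.hom.hom.left))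
      exact GrothLib.SplitRed1.false_of_Ga_proper (B := B) (v ≫ e.hom.hom.hom)
  · intro h
    by_cases hp : ringChar (IsLocalRing.ResidueField R) ∣ n
    · have hss := (Groth.Agent.S4077.result R K A hN).1 (h hp)
      refine hiff.1 ?_
      rw [GrothLib.SplitRed1.locallyQuasiFinite_iff_geomFibre]
      intro s
      haveI : Smooth (Red.geomFibre s A).hom := MorphismProperty.pullback_snd _ _ hA.1
      haveI : QuasiCompact (Red.geomFibre s A).hom := MorphismProperty.pullback_snd _ _ hA.2.2.2.1
      haveI : IsCommMonObj (Red.geomFibre s A) := Functor.isCommMonObj_obj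
      exact GrothLib.SplitRed1.lqf_pow_of_noGa _ (hss s) hn0
    · have hu : IsUnit (n : R) := by
        rw [← IsLocalRing.notMem_maximalIdeal, ← IsLocalRing.residue_eq_zero_iff, map_natCast]
        exact fun h0 => hp ((ringChar.spec _ n).1 h0)
      have hu' : IsUnit (((n : ℤ)) : Γ(Spec (CommRingCat.of R), ⊤)) := by
        have := hu.map (Scheme.ΓSpecIso (CommRingCat.of R)).inv.hom
        rw [map_natCast] at this
        exact_mod_cast this
      haveI : Etale f.left := by
        rw [show f = 𝟙 A ^ (n : ℤ) from (zpow_natCast _ _).symm]
        exact GrothLib.AbMul.etale_pow_relative A (n : ℤ) hu'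
      infer_instance

end Groth.Agent.S18495
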