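import Groth.Statements.S18498
-- import your own Groth.Agent.* helpers here
import Groth.Agent.Lib.SchDense.Basic
import Mathlib.AlgebraicGeometry.Morphisms.Etale
import Mathlib.RingTheory.IntegralClosure.IntegralRestrict
import Mathlib.Algebra.Category.Ring.Constructions
import Mathlib.AlgebraicGeometry.Restrict
import Mathlib.RingTheory.Flat.TorsionFree

set_option autoImplicit false
universe u
open CategoryTheory CategoryTheory.Limits AlgebraicGeometry MonObj
open Neron

namespace Groth.Agent.S18498

/-- Let R be a Dedekind domain with fraction field K, X a Spec R-scheme which is flat over Spec R, Y a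
Spec R-scheme which is separated over Spec R, and f, g : X → Y two R-morphisms whose restrictions to
generic fibres X_K → Y_K are equal. Then f = g: an R-morphism from a flat R-scheme to a separated
R-scheme is determined by its generic fibre. (The source states this for algebraic spaces over a
connected Dedekind scheme; the case of schemes over an affine base is stated.) -/
theorem result (R : Type u) [CommRing R] [IsDedekindDomain R]
    (X Y : Over (Spec (CommRingCat.of R))) [Flat X.hom] [IsSeparated Y.hom] (f g : X ⟶ Y)
    (h : (Neron.genericFibre R).map f = (Neron.genericFibre R).map g) : f = g := by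
  haveI : IsSchemeTheoreticallyDominant (Neron.genPt R) := by
    haveI : IsDominant (Neron.genPt R) := ⟨(PrimeSpectrum.denseRange_comap_iff_ker_le_nilRadical _).mpr
      (by simp [(RingHom.injective_iff_ker_eq_bot _).mp (IsFractionRing.injective R (FractionRing R))])⟩
    exact IsSchemeTheoreticallyDominant.of_isDominant _
  refine Over.OverMorphism.ext (GrothLib.SchDense.ext_of_schDominant Y.hom ((Over.w f).trans (Over.w g).symm)
    (Limits.pullback.fst X.hom (Neron.genPt R)) ?_)
  have e : ∀ φ : X ⟶ Y, ((Neron.genericFibre R).map φ).left ≫ Limits.pullback.fst Y.hom (Neron.genPt R) =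
      Limits.pullback.fst X.hom (Neron.genPt R) ≫ φ.left := fun φ => Limits.pullback.lift_fst _ _ _
  rw [← e f, ← e g, h]

end Groth.Agent.S18498
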