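import Groth.Statements.S18499
import Groth.Agent.S18495
import Groth.Agent.Lib.NeronIsog24.Degree
-- import your own Groth.Agent.* helpers here

set_option autoImplicit false
set_option backward.isDefEq.respectTransparency false
set_option maxHeartbeats 1000000
universe u
open CategoryTheory CategoryTheory.Limits AlgebraicGeometry MonObj
open Neron MonoidalCategory CartesianMonoidalCategory

namespace Groth.Agent.S18499

/-- Let R be a discrete valuation ring with fraction field K and residue field of characteristic p (p =
0 allowed), let A and B be group schemes over Spec R which are Néron models of their generic fibres,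
both abelian varieties over K (proper and geometrically integral), let φ : A → B be a homomorphism
whose generic fibre φ_K is an isogeny (surjective with finite kernel), and let i : N → A be a kernel
of φ, so that N_K is a finite K-group scheme whose order (rank over Spec K) is the degree of φ_K.
If, whenever p divides that degree, A_K has semistable reduction over R (it extends to a smooth
separated group scheme of finite type over Spec R whose geometric fibres contain no closed subgroup
isomorphic to the additive group), then φ is flat. (The converse fails in general. The published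
lemma is over a connected Dedekind scheme, with the reduction condition at every nongeneric point
whose residue characteristic divides the degree; the case of a discrete valuation ring is stated.) -/
theorem result (R : Type u) [CommRing R]
    [IsDomain R] [IsDiscreteValuationRing R] (A B : Over (Spec (CommRingCat.of R))) [GrpObj A] [GrpObj B]
    (hA : Neron.IsNeronModelOf R A ((Neron.genericFibre R).obj A) (Iso.refl _))
    (hB : Neron.IsNeronModelOf R B ((Neron.genericFibre R).obj B) (Iso.refl _))
    [IsProper ((Neron.genericFibre R).obj A).hom] [GeometricallyIntegral ((Neron.genericFibre R).obj A).hom]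
    [IsProper ((Neron.genericFibre R).obj B).hom] [GeometricallyIntegral ((Neron.genericFibre R).obj B).hom]
    (φ : A ⟶ B) [IsMonHom φ] (hφ : SGA7.IsIsogenyOver ((Neron.genericFibre R).map φ))
    (N : Over (Spec (CommRingCat.of R))) (i : N ⟶ A) (hN : AlgGrp.IsKernel i φ)
    (h : ∀ x : ↥(Spec (CommRingCat.of (FractionRing R))),
      ringChar (IsLocalRing.ResidueField R) ∣ ((Neron.genericFibre R).obj N).hom.finrank x →
        SGA7.HasSemistableReduction R (FractionRing R) ((Neron.genericFibre R).obj A)) :
    Flat φ.left := by
  haveI := hA.1
  haveI := hB.1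
  by_cases hdiv : ∀ x : ↥(Spec (CommRingCat.of (FractionRing R))),
      IsUnit ((((Neron.genericFibre R).obj N).hom.finrank x : ℕ) : R)
  · haveI := GrothLib.NeronIsog24.etale_of_degree_isUnit R hA φ hφ N i hN hdiv
    infer_instance
  push_neg at hdiv
  obtain ⟨x₀, hx₀⟩ := hdiv
  have hss := h x₀ (by
    by_contra hc
    refine hx₀ ?_
    rw [← IsLocalRing.notMem_maximalIdeal, ← IsLocalRing.residue_eq_zero_iff, map_natCast]
    exact fun h0 => hc ((ringChar.spec _ _).1 h0))
  haveI : IsCommMonObj ((Neron.genericFibre R).obj A) :=
    GrothLib.Cube.isCommMonObj_abVar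
  haveI : IsCommMonObj ((Neron.genericFibre R).obj B) :=
    GrothLib.Cube.isCommMonObj_abVar
  haveI := GrothLib.NeronIsog24.isCommMonObj_of_neron R A hA
  haveI : Smooth ((Neron.genericFibre R).obj B).hom := MorphismProperty.pullback_snd B.hom _ ‹Smooth B.hom›
  obtain ⟨_, _⟩ := GrothLib.NeronIsog24.isogeny_field _ hφ
  haveI : Surjective ((Neron.genericFibre R).map φ).left := hφ.1
  haveI : IsLocallyNoetherian ((Neron.genericFibre R).obj B).left :=
    LocallyOfFiniteType.isLocallyNoetherian ((Neron.genericFibre R).obj B).hom
  haveI : LocallyOfFinitePresentation ((Neron.genericFibre R).map φ).left := inferInstance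
  haveI : IsIntegral ((Neron.genericFibre R).obj B).left :=
    GeometricallyIntegral.isIntegral_of_subsingleton ((Neron.genericFibre R).obj B).hom
  -- the kernel of the generic fibre
  obtain ⟨_, _⟩ := GrothLib.GrpDeligne.exists_grpObj_kernel φ i hN
  have sq := (GrothLib.KerDiag14.mapped_squares φ i hN).2.2
  let s : Spec (CommRingCat.of (FractionRing R)) ⟶ ((Neron.genericFibre R).obj B).left :=
    pullback.lift (Neron.genPt R ≫ η[B].left) (𝟙 _) (by
      rw [Category.assoc, Category.id_comp]
      exact (congrArg (fun k => Neron.genPt R ≫ k) (Over.w η[B])).trans (Category.comp_id _))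
  have hs : s ≫ pullback.fst B.hom (Neron.genPt R) = Neron.genPt R ≫ η[B].left := pullback.lift_fst _ _ _
  have sqφ : IsPullback ((Neron.genericFibre R).map φ).left (pullback.fst A.hom (Neron.genPt R))
      (pullback.fst B.hom (Neron.genPt R)) φ.left :=
    GrothLib.FibreLocus.isPullback_map_left φ (Neron.genPt R)
  have sqN : IsPullback (pullback.fst N.hom (Neron.genPt R)) ((Neron.genericFibre R).obj N).hom N.hom (Neron.genPt R) :=
    IsPullback.of_hasPullback _ _
  have hbig : IsPullback (pullback.fst N.hom (Neron.genPt R) ≫ i.left) ((Neron.genericFibre R).obj N).hom φ.left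
      (s ≫ pullback.fst B.hom (Neron.genPt R)) := by
    rw [hs]
    exact sqN.paste_horiz sq
  obtain ⟨j, hj⟩ : ∃ j : ((Neron.genericFibre R).obj N).left ⟶ ((Neron.genericFibre R).obj A).left,
      IsPullback j ((Neron.genericFibre R).obj N).hom ((Neron.genericFibre R).map φ).left s := by
    refine ⟨sqφ.lift (((Neron.genericFibre R).obj N).hom ≫ s) (pullback.fst N.hom (Neron.genPt R) ≫ i.left)
      (by rw [Category.assoc]; exact hbig.w.symm), ?_⟩
    refine IsPullback.of_right ?_ (sqφ.lift_fst _ _ _) sqφ.flip
    rwa [sqφ.lift_snd]
  let n : ℕ := ((Neron.genericFibre R).map φ).left.finrank (s default)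
  have hn : ∀ y, ((Neron.genericFibre R).map φ).left.finrank y = n := fun y =>
    (Scheme.Hom.isLocallyConstant_finrank ((Neron.genericFibre R).map φ).left).apply_eq_of_preconnectedSpace _ _
  have hn1 : 1 ≤ n := by
    haveI := hφ.1
    exact (Scheme.Hom.one_le_finrank_iff_surjective (f := ((Neron.genericFibre R).map φ).left)).2 inferInstance _
  obtain ⟨gK, -, hgK, -⟩ := GrothLib.GrpDeligne.exists_dual_hom ((Neron.genericFibre R).map φ) n fun t => hn _
  obtain ⟨g, hg⟩ := (hA.2.2.2.2 B inferInstance).2 gK
  have hg' : (Neron.genericFibre R).map g = gK := by simpa using hg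
  have hφg : φ ≫ g = 𝟙 A ^ n := by
    apply (hA.2.2.2.2 A inferInstance).1
    simp only [Iso.refl_hom, Category.comp_id]
    rw [Functor.map_comp, hg', hgK, ← CategoryTheory.Functor.map_id]
    exact (map_pow ((Neron.genericFibre R).homMonoidHom (X := A) (M := A)) (𝟙 A) n).symm
  haveI : Flat (φ.left ≫ g.left) := by
    rw [← Over.comp_left, hφg]
    exact (Groth.Agent.S18495.result R A hA n hn1).2 (fun _ => hss)
  haveI : Smooth (φ.left ≫ B.hom) := by rw [Over.w]; infer_instance
  haveI : LocallyOfFiniteType φ.left := locallyOfFiniteType_of_comp φ.left B.hom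
  haveI : LocallyQuasiFinite (φ.left ≫ g.left) := by
    haveI : LocallyOfFiniteType g.left := by
      have : LocallyOfFiniteType (g.left ≫ A.hom) := by rw [Over.w g]; infer_instance
      exact locallyOfFiniteType_of_comp g.left A.hom
    haveI : Smooth ((φ.left ≫ g.left) ≫ A.hom) := by rw [Category.assoc, Over.w, Over.w]; infer_instance
    refine GrothLib.NeronIsog24.lqf_of_flat _ A.hom fun y => ?_
    haveI : Flat ((Neron.genericFibre R).map (φ ≫ g)).left := by
      rw [Functor.map_comp, hg', hgK]; exact GrothLib.Cube.flat_pow _ (by omega)
    haveI : LocallyQuasiFinite ((Neron.genericFibre R).map (φ ≫ g)).left := by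
      rw [Functor.map_comp, hg', hgK]
      haveI := GrothLib.Cube.isFinite_pow ((Neron.genericFibre R).obj A) (n := n) (by omega)
      infer_instance
    have e := GrothLib.NeronIsog24.fibreDimAt_eq R A A (φ ≫ g) y
    simpa only [Category.assoc, Over.w, Over.comp_left] using e
  haveI : LocallyQuasiFinite φ.left := LocallyQuasiFinite.of_comp φ.left g.left
  exact (GrothLib.NeronIsog24.lqf_iff_flat R A B φ hφ).1 ‹_›

end Groth.Agent.S18499
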