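import Groth.Statements.S1850
import Mathlib.RingTheory.Flat.TorsionFree
import Mathlib.RingTheory.LocalRing.RingHom.Basic
import Groth.Agent.Lib.TameFlat13.Fibre
import Groth.Agent.Lib.Tame.Transport
-- import your own Groth.Agent.* helpers here

set_option autoImplicit false
universe u
open CycAlg

namespace Groth.Agent.S1850

open IsLocalRing GrothLib.Tame GrothLib.TameFlat13 TensorProduct

attribute [local instance] Algebra.TensorProduct.rightAlgebra

theorem tameSymbol_of_isUnit {R : Type u} [CommRing R] [IsLocalRing R] {x y : R} (hx : IsUnit x) (hy : IsUnit y) :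
    CycAlg.tameSymbol R x y = 1 := by
  unfold CycAlg.tameSymbol
  split_ifs with h
  · haveI := (Classical.choice h).isFinExt.2.1
    obtain ⟨P, hP⟩ := exists_data (Classical.choice h)
    rw [← hP]
    exact P.value_of_isUnit hx hy
  · rfl

theorem prod_sym {ι K : Type*} [Field K] (T : Finset ι) (k : ι → ℕ) (n c₁ s₁ c₂ s₂ : ι → K) (p a b : ℕ) :
    ∏ i ∈ T, (n i ^ p * (c₁ i / s₁ i) ^ a * ((c₂ i / s₂ i) ^ b)⁻¹) ^ k i =
      (∏ i ∈ T, n i ^ k i) ^ p * ((∏ i ∈ T, c₁ i ^ k i) / ∏ i ∈ T, s₁ i ^ k i) ^ a *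
        (((∏ i ∈ T, c₂ i ^ k i) / ∏ i ∈ T, s₂ i ^ k i) ^ b)⁻¹ := by
  simp only [mul_pow, div_pow, inv_pow, Finset.prod_mul_distrib, Finset.prod_div_distrib, Finset.prod_inv_distrib,
    ← Finset.prod_pow, ← pow_mul, mul_comm]

theorem isFinExt_tensor {A A' C : Type u} [CommRing A] [IsLocalRing A] [CommRing A'] [IsLocalRing A'] [Algebra A A']
    [Module.Flat A A'] [CommRing C] [Algebra A C] (hC : CycAlg.IsFinExt A C (maximalIdeal A)) (N : ℕ)
    (hN : maximalIdeal A' ^ N ≤ (maximalIdeal A).map (algebraMap A A')) :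
    CycAlg.IsFinExt A' (A' ⊗[A] C) (maximalIdeal A') := by
  obtain ⟨hinj, hfin, n, hn⟩ := hC
  refine ⟨?_, inferInstance, N * n, fun r hr z => ?_⟩
  · intro x y h
    exact Algebra.TensorProduct.includeLeft_injective (R := A) (S := A) hinj h
  have hr' : r ∈ (maximalIdeal A ^ n).map (algebraMap A A') := by
    rw [Ideal.map_pow]
    exact Ideal.pow_right_mono hN n (by rwa [← pow_mul])
  induction z using TensorProduct.induction_on with
  | zero => exact ⟨0, by simp⟩
  | add x y hx hy =>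
    obtain ⟨a, ha⟩ := hx
    obtain ⟨b, hb⟩ := hy
    exact ⟨a + b, by rw [map_add, ha, hb, smul_add]⟩
  | tmul a c =>
    suffices ∀ r ∈ (maximalIdeal A ^ n).map (algebraMap A A'), ∃ b : A', b ⊗ₜ[A] (1 : C) = (r * a) ⊗ₜ[A] c by
      obtain ⟨b, hb⟩ := this r hr'
      exact ⟨b, by rw [Algebra.TensorProduct.algebraMap_apply, Algebra.algebraMap_self_apply, hb,
        TensorProduct.smul_tmul']; rfl⟩
    intro r hr
    induction hr using Submodule.span_induction with
    | mem x hx =>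
      obtain ⟨x, hx, rfl⟩ := hx
      obtain ⟨y, hy⟩ := hn x hx c
      refine ⟨a * algebraMap A A' y, ?_⟩
      rw [mul_comm a, ← Algebra.smul_def, ← Algebra.smul_def, TensorProduct.smul_tmul, TensorProduct.smul_tmul,
        ← hy, Algebra.algebraMap_eq_smul_one]
    | zero => exact ⟨0, by simp⟩
    | add x y _ _ hx hy =>
      obtain ⟨b, hb⟩ := hx
      obtain ⟨b', hb'⟩ := hy
      exact ⟨b + b', by rw [TensorProduct.add_tmul, hb, hb', add_mul, TensorProduct.add_tmul]⟩
    | smul t x _ hx =>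
      obtain ⟨b, hb⟩ := hx
      refine ⟨t * b, ?_⟩
      rw [smul_eq_mul, mul_assoc]
      have := congrArg (fun z => t • z) hb
      simpa [TensorProduct.smul_tmul', smul_eq_mul] using this


/-- Let A → A' be a flat local homomorphism of Noetherian local rings of dimension 1 and m =
length_{A'}(A'/𝔪_A A'). For nonzerodivisors a₁, a₂ of A the image of ∂_A(a₁, a₂)^m in the residue
field of A' equals ∂_{A'}(a₁, a₂). -/
theorem result (A A' : Type u) [CommRing A] [CommRing A'] [IsNoetherianRing A] [IsNoetherianRing A'] [IsLocalRing A] [IsLocalRing A'] [Algebra A A'] [IsLocalHom (algebraMap A A')] [Module.Flat A A'] (hA : ringKrullDim A = 1) (hA' : ringKrullDim A' = 1) (a₁ a₂ : A) (h₁ : a₁ ∈ nonZeroDivisors A) (h₂ : a₂ ∈ nonZeroDivisors A) : IsLocalRing.ResidueField.map (algebraMap A A') (CycAlg.tameSymbol A a₁ a₂) ^ (Module.length A' (A' ⧸ Ideal.map (algebraMap A A') (IsLocalRing.maximalIdeal A))).toNat = CycAlg.tameSymbol A' (algebraMap A A' a₁) (algebraMap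 A A' a₂) := by
  classical
  haveI : Ring.KrullDimLE 1 A := Ring.krullDimLE_iff.2 (by rw [hA]; rfl)
  haveI : Ring.KrullDimLE 1 A' := Ring.krullDimLE_iff.2 (by rw [hA']; rfl)
  have hreg : ∀ a ∈ nonZeroDivisors A, algebraMap A A' a ∈ nonZeroDivisors A' := by
    intro a ha
    have h := Module.Flat.isSMulRegular_of_nonZeroDivisors (M := A') ha
    rw [mem_nonZeroDivisors_iff_right]
    intro x hx
    exact h (show a • x = a • (0 : A') by rw [Algebra.smul_def, mul_comm, hx, smul_zero])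
  by_cases hu : IsUnit a₁ ∧ IsUnit a₂
  · rw [tameSymbol_of_isUnit hu.1 hu.2, tameSymbol_of_isUnit (hu.1.map _) (hu.2.map _), map_one, one_pow]
  have ham : a₁ * a₂ ∈ maximalIdeal A := (mem_maximalIdeal _).2 fun h => hu ((IsUnit.mul_iff).1 h)
  -- the closed fibre has finite length
  let J : Ideal A' := (maximalIdeal A).map (algebraMap A A')
  have hab := hreg _ (mul_mem h₁ h₂)
  have hord : Module.length A' (A' ⧸ Ideal.span {algebraMap A A' (a₁ * a₂)}) ≠ ⊤ := Ring.ord_ne_top hab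
  have hle : Ideal.span {algebraMap A A' (a₁ * a₂)} ≤ J :=
    (Ideal.span_singleton_le_iff_mem _).2 (Ideal.mem_map_of_mem _ ham)
  obtain ⟨N, hN⟩ := exists_pow_le_span (A := A') hab
  -- common data and their base change
  obtain ⟨C, _, _, hfin, hC, hπ⟩ := exists_common {a₁, a₂} (by simp [h₁, h₂])
  choose π hπreg hπF using hπ
  choose e₁ he₁ using fun q => hπF q a₁ (by simp)
  choose e₂ he₂ using fun q => hπF q a₂ (by simp)
  let P : Data A C a₁ a₂ := ⟨π, hπreg, e₁, e₂, he₁, he₂⟩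
  haveI : IsNoetherianRing C := IsNoetherianRing.of_finite A C
  haveI : IsNoetherianRing (A' ⊗[A] C) := IsNoetherianRing.of_finite A' (A' ⊗[A] C)
  haveI : Module.Flat C (A' ⊗[A] C) :=
    Module.Flat.isBaseChange A C A' (A' ⊗[A] C) (f := (IsScalarTower.toAlgHom A A' (A' ⊗[A] C)).toLinearMap)
      (Algebra.IsPushout.out (R := A) (S := C) (R' := A') (S' := A' ⊗[A] C))
  haveI := finite_maximalSpectrum A' (A' ⊗[A] C)
  haveI := finite_maximalSpectrum A C
  haveI := Fintype.ofFinite (MaximalSpectrum C)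
  letI := Fintype.ofFinite (MaximalSpectrum (A' ⊗[A] C))
  have hover : ∀ Q : MaximalSpectrum (A' ⊗[A] C), Q.asIdeal.comap (algebraMap A' (A' ⊗[A] C)) = maximalIdeal A' :=
    fun Q => eq_maximalIdeal (Ideal.isMaximal_comap_of_isIntegral_of_isMaximal (R := A') Q.asIdeal)
  have hcomapA : (maximalIdeal A').comap (algebraMap A A') = maximalIdeal A :=
    IsLocalRing.maximalIdeal_comap _
  let down : MaximalSpectrum (A' ⊗[A] C) → MaximalSpectrum C := fun Q =>
    ⟨Q.asIdeal.comap (algebraMap C (A' ⊗[A] C)), Ideal.isMaximal_of_isIntegral_of_isMaximal_comap (R := A) _ (by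
      rw [Ideal.comap_comap, ← IsScalarTower.algebraMap_eq, IsScalarTower.algebraMap_eq A A' (A' ⊗[A] C),
        ← Ideal.comap_comap, hover, hcomapA]
      exact maximalIdeal.isMaximal A)⟩
  haveI : ∀ Q, (down Q).asIdeal.IsMaximal := fun Q => (down Q).isMaximal
  have hregQ : ∀ (Q : MaximalSpectrum (A' ⊗[A] C)), algebraMap (A' ⊗[A] C) (Localization.AtPrime Q.asIdeal)
      (algebraMap C (A' ⊗[A] C) (π (down Q))) ∈ nonZeroDivisors (Localization.AtPrime Q.asIdeal) := by
    intro Q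
    have hf := flat_point (down Q).asIdeal Q.asIdeal rfl
    algebraize [Localization.localRingHom (down Q).asIdeal Q.asIdeal (algebraMap C (A' ⊗[A] C)) rfl]
    have h := Module.Flat.isSMulRegular_of_nonZeroDivisors (M := Localization.AtPrime Q.asIdeal) (hπreg (down Q))
    rw [mem_nonZeroDivisors_iff_right]
    intro x hx
    refine h ?_
    show _ • x = _ • (0 : Localization.AtPrime Q.asIdeal)
    rw [smul_zero, Algebra.smul_def, RingHom.algebraMap_toAlgebra, Localization.localRingHom_to_map, mul_comm, hx]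
  have hmap : ∀ (Q : MaximalSpectrum (A' ⊗[A] C)) (a : A) (e : ℕ),
      PowAt (down Q).asIdeal (π (down Q)) (algebraMap A C a) e →
      PowAt Q.asIdeal (algebraMap C (A' ⊗[A] C) (π (down Q))) (algebraMap A' (A' ⊗[A] C) (algebraMap A A' a)) e := by
    intro Q a e h
    rw [← IsScalarTower.algebraMap_apply, IsScalarTower.algebraMap_apply A C (A' ⊗[A] C)]
    exact PowAt.map (Q := (down Q).asIdeal) rfl h
  let P' : Data A' (A' ⊗[A] C) (algebraMap A A' a₁) (algebraMap A A' a₂) :=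
    ⟨fun Q => algebraMap C _ (π (down Q)), hregQ, fun Q => e₁ (down Q), fun Q => e₂ (down Q),
      fun Q => hmap Q a₁ _ (he₁ (down Q)), fun Q => hmap Q a₂ _ (he₂ (down Q))⟩
  rw [tameSymbol_eq_value h₁ h₂ hC P,
    tameSymbol_eq_value (hreg _ h₁) (hreg _ h₂) (isFinExt_tensor hC N (hN.trans hle)) P', Data.value, Data.value,
    finprod_eq_prod_of_fintype, finprod_eq_prod_of_fintype, map_prod, ← Finset.prod_pow,
    ← Finset.prod_fiberwise Finset.univ down]
  refine Finset.prod_congr rfl fun q _ => ?_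
  set T := Finset.univ.filter (fun Q => down Q = q) with hT
  let w : MaximalSpectrum (A' ⊗[A] C) → ℕ := fun Q =>
    (len Q.asIdeal (fibIdeal (A := A) C (maximalIdeal A') q.asIdeal)).toNat
  let ψ : MaximalSpectrum (A' ⊗[A] C) → C → ResidueField A' := fun Q x =>
    nrm (A := A') Q.asIdeal (algebraMap C (A' ⊗[A] C) x)
  let φ := ResidueField.map (algebraMap A A')
  let m := (Module.length A' (A' ⧸ (maximalIdeal A).map (algebraMap A A'))).toNat
  have hmult : ∀ Q ∈ T, P'.mult Q = w Q * (m * P.mult q) := by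
    intro Q hQ
    obtain rfl : down Q = q := (Finset.mem_filter.1 hQ).2
    have hMQ : fibIdeal (A := A) C (maximalIdeal A') (down Q).asIdeal ≤ Q.asIdeal :=
      sup_le (Ideal.map_le_iff_le_comap.2 (hover Q).ge) (Ideal.map_le_iff_le_comap.2 le_rfl)
    simp only [Data.mult, ord_eq_len, P', P]
    rw [← Set.image_singleton, ← Ideal.map_span, len_map (down Q).asIdeal Q.asIdeal rfl,
      len_fibre (down Q).asIdeal Q.asIdeal hMQ, ENat.toNat_mul, ENat.toNat_mul]
    simp only [w, m]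
    ring
  have hK : ∀ x : C, ∏ Q ∈ T, ψ Q x ^ P'.mult Q = φ (nrm (A := A) q.asIdeal x) ^ (m * P.mult q) := by
    intro x
    rw [norm_fibre q.asIdeal x, ← Finset.prod_pow]
    refine Finset.prod_congr ?_ fun Q hQ => ?_
    · ext Q
      simp only [hT, Finset.mem_filter, Finset.mem_univ, true_and]
      exact ⟨fun h => ⟨Fintype.complete Q, congrArg MaximalSpectrum.asIdeal h⟩,
        fun h => MaximalSpectrum.ext h.2⟩
    · rw [← pow_mul, hmult Q (Finset.mem_filter.2 ⟨Finset.mem_univ _, MaximalSpectrum.ext (Finset.mem_filter.1 hQ).2⟩)]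
  obtain ⟨s₁, c₁, hs₁, hc₁, hx₁⟩ := P.h₁ q
  obtain ⟨s₂, c₂, hs₂, hc₂, hx₂⟩ := P.h₂ q
  have hsym : ∀ Q ∈ T, P'.sym Q ^ P'.mult Q = (ψ Q (-1) ^ (P.e₁ q * P.e₂ q) * (ψ Q c₁ / ψ Q s₁) ^ P.e₂ q *
      ((ψ Q c₂ / ψ Q s₂) ^ P.e₁ q)⁻¹) ^ P'.mult Q := by
    intro Q hQ
    obtain rfl : down Q = q := (Finset.mem_filter.1 hQ).2
    have hmapx : ∀ (a : A) (s c : C) (e : ℕ), s * algebraMap A C a = c * π (down Q) ^ e →
        algebraMap C (A' ⊗[A] C) s * algebraMap A' (A' ⊗[A] C) (algebraMap A A' a) =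
          algebraMap C (A' ⊗[A] C) c * algebraMap C (A' ⊗[A] C) (π (down Q)) ^ e := fun a s c e h => by
      rw [← IsScalarTower.algebraMap_apply, IsScalarTower.algebraMap_apply A C (A' ⊗[A] C), ← map_pow, ← map_mul,
        ← map_mul, h]
    rw [Data.sym, (P'.h₁ Q).nu_eq (P'.reg Q) (algebraMap C _ s₁) (algebraMap C _ c₁) hs₁ (hmapx a₁ s₁ c₁ _ hx₁),
      (P'.h₂ Q).nu_eq (P'.reg Q) (algebraMap C _ s₂) (algebraMap C _ c₂) hs₂ (hmapx a₂ s₂ c₂ _ hx₂)]
    simp only [ψ, map_neg (algebraMap C (A' ⊗[A] C)), map_one]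
    rfl
  rw [Finset.prod_congr rfl hsym, prod_sym, hK, hK, hK, hK, hK, Data.sym,
    (P.h₁ q).nu_eq (P.reg q) s₁ c₁ hs₁ hx₁, (P.h₂ q).nu_eq (P.reg q) s₂ c₂ hs₂ hx₂]
  simp only [map_mul, map_pow, map_div₀, map_inv₀, mul_pow, div_pow, inv_pow, ← pow_mul, φ, m]
  ring_nf


end Groth.Agent.S1850
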