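import Groth.Statements.S18500
import Groth.Agent.Lib.AlgSp.SchImage
import Groth.Agent.Lib.AlgSp.LocP
import Groth.Agent.Lib.AlgSp.FieldBase
import Groth.Agent.S19202
-- import your own Groth.Agent.* helpers here

set_option autoImplicit false
universe u
open CategoryTheory CategoryTheory.Limits AlgebraicGeometry
open AlgSp GrothLib.AlgSp
set_option backward.isDefEq.respectTransparency false

namespace Groth.Agent.S18500

/-- Let R be a Dedekind domain with fraction field K, S = Spec R, and Y an algebraic space over S (an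
fppf sheaf on S-schemes with representable diagonal and an étale atlas), with structure map p : Y →
h_S; let Y_K → Y be its generic fibre, the pullback of p along h_{Spec K} → h_S; let k : H → Y_K be
a closed subspace (a representable closed immersion from an algebraic space) and i : Z → Y the
scheme theoretic image of the composite H → Y_K → Y. Then Z is flat over S (étale-locally on
charts), the square H → Z, H → Y_K, Z → Y, Y_K → Y is cartesian for the induced H → Z (the generic
fibre of Z is H), and Z is the unique such subspace: every closed subspace i' : Z' → Y which is flat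
over S and whose pullback along Y_K → Y is H (through some H → Z') is isomorphic to Z over Y. (The
source allows any connected Dedekind scheme as base; the affine base is stated.) -/
theorem result (R : Type u) [CommRing R] [IsDedekindDomain R]
    (Y YK H Z : AlgSp.Space (Spec (CommRingCat.of R)))
    (pY : Y.obj ⟶ (AlgSp.yon (Spec (CommRingCat.of R))).obj (Over.mk (𝟙 (Spec (CommRingCat.of R)))))
    (pr : YK ⟶ Y) (qK : YK.obj ⟶ (AlgSp.yon (Spec (CommRingCat.of R))).obj (Over.mk (Neron.genPt R)))
    (hYK : IsPullback pr.hom qK pY ((AlgSp.yon (Spec (CommRingCat.of R))).map (Over.mkIdTerminal.from (Over.mk (Neron.genPt R)))))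
    (k : H ⟶ YK) (hk : AlgSp.RepWith @IsClosedImmersion k.hom)
    (i : Z ⟶ Y) (hZ : AlgSp.IsSchImage (k.hom ≫ pr.hom) i.hom) :
    AlgSp.LocP @Flat (i.hom ≫ pY) ∧
    (∃ m : H ⟶ Z, m ≫ i = k ≫ pr ∧ IsPullback m.hom k.hom i.hom pr.hom) ∧
    (∀ (Z' : AlgSp.Space (Spec (CommRingCat.of R))) (i' : Z' ⟶ Y) (m' : H ⟶ Z'),
      AlgSp.RepWith @IsClosedImmersion i'.hom → AlgSp.LocP @Flat (i'.hom ≫ pY) →
      IsPullback m'.hom k.hom i'.hom pr.hom → ∃ e : Z ≅ Z', e.hom ≫ i' = i) := by
  let S := Spec (CommRingCat.of R)
  let T₁ : Over S := Over.mk (𝟙 _)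
  let ψ : Over.mk (Neron.genPt R) ⟶ T₁ := Over.mkIdTerminal.from _
  have hψ : ψ.left = Neron.genPt R := by simpa [T₁] using Over.w ψ
  haveI : Flat (Neron.genPt R) := (HasRingHomProperty.Spec_iff (P := @Flat)).2
    (RingHom.flat_algebraMap_iff.2 (IsLocalization.flat (FractionRing R) (nonZeroDivisors R)))
  haveI : IsPreimmersion (Neron.genPt R) := IsPreimmersion.of_isLocalization (S := FractionRing R) (nonZeroDivisors R)
  haveI : IsAffineHom (Neron.genPt R) := isAffineHom_of_isAffine _
  have hprr : RepWith @IsAffineHom pr.hom :=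
    repWith_of_isPullback hYK.flip ((repWith_yon_map_iff _ ψ).2 (by rw [hψ]; infer_instance))
  haveI hki : Mono k.hom := mono_of_closedImmersion hk
  obtain ⟨U, a, hae, has⟩ := Y.property.atlas
  obtain ⟨UK, aK, π, sqπ⟩ := exists_isPullback_of_representable hprr.1 a
  have haK : RepWith @Etale aK := repWith_of_isPullback sqπ.flip hae
  have haKs : RepWith @Surjective aK := repWith_of_isPullback sqπ.flip has
  obtain ⟨η, hη⟩ := (yon S).map_surjective (a ≫ pY)
  have hη' : η.left = U.hom := by simpa [T₁] using Over.w η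
  obtain ⟨σ, hσ⟩ := (yon S).map_surjective (aK ≫ qK)
  have sqU : IsPullback π σ η ψ := by
    refine IsPullback.of_map (yon S) ((yon S).map_injective ?_) ?_
    · rw [Functor.map_comp, Functor.map_comp, hη, hσ, Category.assoc, ← hYK.w, ← Category.assoc, sqπ.flip.w,
        Category.assoc]
    · rw [hη, hσ]
      exact sqπ.flip.paste_vert hYK
  have sqU' : IsPullback π.left σ.left U.hom (Neron.genPt R) := by
    have := sqU.map (Over.forget S)
    change IsPullback π.left σ.left η.left ψ.left at this
    rwa [hη', hψ] at this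
  haveI : Flat π.left := MorphismProperty.of_isPullback sqU'.flip ‹Flat (Neron.genPt R)›
  haveI : Mono π.left := sqU'.mono_fst_of_mono
  haveI : IsAffineHom π.left := hprr.2 _ _ _ sqπ
  -- the chart of the closed subspace of the generic fibre
  obtain ⟨I, pI, -, sqI⟩ := exists_chart_ideal hk aK
  let HU : Over S := Over.mk (I.subschemeι ≫ UK.hom)
  let c : HU ⟶ UK := Over.homMk I.subschemeι rfl
  let h : HU ⟶ U := c ≫ π
  haveI : IsClosedImmersion c.left := inferInstanceAs (IsClosedImmersion I.subschemeι)
  haveI : QuasiCompact h.left := inferInstanceAs (QuasiCompact (c.left ≫ π.left))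
  have sqH : IsPullback pI ((yon S).map h) (k.hom ≫ pr.hom) a := by
    rw [Functor.map_comp]
    exact sqI.paste_vert sqπ
  have hinv : IsInvariantIdeal a h.left.ker :=
    isInvariantIdeal_ker hae sqH (w := 𝟙 _) (repWith_id _ HU) (repWith_id _ HU) (Category.id_comp _)
  haveI : Sheaf.IsLocallySurjective pI :=
    chart_isLocallySurjective (repWith_of_isPullback sqH.flip hae) (repWith_of_isPullback sqH.flip has)
  haveI : Mono i.hom := mono_of_closedImmersion hZ.1
  obtain ⟨J, pJ, -, sqJ⟩ := exists_chart_ideal hZ.1 a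
  have hJ : J = h.left.ker := (eq_schIdeal_of_isSchImage Y.property hae has sqH.w hZ sqJ).trans (schIdeal_eq_ker hinv)
  have hker : h.left.ker.comap π.left = I := by
    have sq1 : IsPullback (𝟙 _) c.left h.left π.left := by
      refine IsPullback.of_isLimit' ⟨by simp [h]⟩ (PullbackCone.IsLimit.mk _ (fun s => s.fst) (fun s => by simp)
        (fun s => ?_) (fun s m h₁ h₂ => by simpa using h₁))
      rw [← cancel_mono π.left, Category.assoc]
      exact s.condition
    rw [← ker_comap_of_flat sq1]
    exact Scheme.IdealSheafData.ker_subschemeι I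
  refine ⟨?_, ?_, fun Z' i' m' hi' hflat hsq => ?_⟩
  · -- flatness
    have hflatp : Flat (h.left ≫ U.hom) := by
      show Flat ((c.left ≫ π.left) ≫ U.hom)
      rw [Category.assoc, sqU'.w, ← Category.assoc]
      haveI : Subsingleton ↥(Spec (CommRingCat.of (FractionRing R))) :=
        inferInstanceAs (Subsingleton (PrimeSpectrum (FractionRing R)))
      haveI : Flat (c.left ≫ σ.left) := flat_to_field (k := FractionRing R) _
      infer_instance
    haveI := hflatp
    have hfl := Groth.Agent.S19202.result R (h.left ≫ U.hom) U.hom h.left rfl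
    change Flat (h.left.ker.subschemeι ≫ U.hom) at hfl
    rw [← hJ] at hfl
    refine EtLocal.locP_of_chart EtLocal.flat (repWith_of_isPullback sqJ.flip hae)
      (repWith_of_isPullback sqJ.flip has) (repWith_id _ T₁)
      (h := (Over.homMk J.subschemeι rfl : Over.mk (J.subschemeι ≫ U.hom) ⟶ U) ≫ η) ?_ ?_
    · rw [reassoc_of% sqJ.w, ← hη, Functor.map_comp, Category.comp_id]
    · show Flat (J.subschemeι ≫ η.left)
      rw [hη']
      exact hfl
  · -- the generic fibre
    obtain ⟨f', hf'⟩ := hZ.2.1
    refine ⟨ObjectProperty.homMk f', ObjectProperty.hom_ext _ hf', ?_⟩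
    have sqP := IsPullback.of_hasPullback i.hom pr.hom
    have hzc : RepWith @IsClosedImmersion (pullback.snd i.hom pr.hom) := repWith_of_isPullback sqP hZ.1
    haveI : Mono (pullback.snd i.hom pr.hom) := mono_of_closedImmersion hzc
    obtain ⟨J₂, p₂, -, sq₂⟩ := exists_chart_ideal hzc aK
    have hJ₂ : J₂ = J.comap π.left := chartIdeal_of_isPullback sqP sqπ.w sqJ sq₂
    haveI : Sheaf.IsLocallySurjective p₂ :=
      chart_isLocallySurjective (repWith_of_isPullback sq₂.flip haK) (repWith_of_isPullback sq₂.flip haKs)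
    obtain ⟨n, hn⟩ := (exists_factor_ideal_iff sqI
      (g := (Over.homMk J₂.subschemeι rfl : Over.mk (J₂.subschemeι ≫ UK.hom) ⟶ UK)) sq₂.w).2 (by
        show I ≤ J₂.subschemeι.ker
        rw [Scheme.IdealSheafData.ker_subschemeι, hJ₂, hJ, hker])
    let l : H.obj ⟶ pullback i.hom pr.hom := sqP.lift f' k.hom hf'
    have hl : l ≫ pullback.snd i.hom pr.hom = k.hom := sqP.lift_snd _ _ _
    haveI : IsIso l := ⟨n, by rw [← cancel_mono k.hom, Category.assoc, hn, hl, Category.id_comp],
      by rw [← cancel_mono (pullback.snd i.hom pr.hom), Category.assoc, hl, hn, Category.id_comp]⟩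
    exact sqP.of_iso (asIso l).symm (Iso.refl _) (Iso.refl _) (Iso.refl _) (by simp [l]) (by simp [l]) (by simp)
      (by simp)
  · -- uniqueness
    haveI : Mono i'.hom := mono_of_closedImmersion hi'
    obtain ⟨J', pJ', -, sqJ'⟩ := exists_chart_ideal hi' a
    let ι' : Over.mk (J'.subschemeι ≫ U.hom) ⟶ U := Over.homMk J'.subschemeι rfl
    have big : IsPullback (pI ≫ m'.hom) ((yon S).map c) i'.hom ((yon S).map π ≫ a) := by
      rw [← sqπ.w]; exact sqI.paste_horiz hsq
    obtain ⟨q, hq⟩ := (yon S).map_surjective (sqJ'.lift (pI ≫ m'.hom) ((yon S).map c ≫ (yon S).map π)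
      (big.w.trans (Category.assoc _ _ _).symm))
    have sqq : IsPullback q c ι' π := by
      refine IsPullback.of_map (yon S) ((yon S).map_injective ?_) ?_
      · rw [Functor.map_comp, Functor.map_comp, hq]
        exact sqJ'.lift_snd _ _ _
      · refine IsPullback.of_right ?_ ?_ sqJ'
        · rw [hq, sqJ'.lift_fst]; exact big
        · rw [hq]; exact sqJ'.lift_snd _ _ _
    have sqF : IsPullback q.left (c.left ≫ σ.left) (J'.subschemeι ≫ U.hom) (Neron.genPt R) :=
      (sqq.map (Over.forget S)).paste_vert sqU'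
    haveI : Flat (J'.subschemeι ≫ U.hom) := by
      have := hflat pJ' (𝟙 _) (ι' ≫ η) (repWith_of_isPullback sqJ'.flip hae) (repWith_id _ T₁) (by
        rw [Category.comp_id, Functor.map_comp, hη, reassoc_of% sqJ'.w])
      change Flat (J'.subschemeι ≫ η.left) at this
      rwa [hη'] at this
    have hbot : q.left.ker = ⊥ := by
      rw [ker_comap_of_flat sqF.flip]
      haveI : IsDominant (Neron.genPt R) := ⟨PrimeSpectrum.denseRange_comap_iff_ker_le_nilRadical
        (algebraMap R (FractionRing R)) |>.2 (by
          rw [(RingHom.injective_iff_ker_eq_bot _).1 (IsFractionRing.injective R (FractionRing R))]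
          exact bot_le)⟩
      haveI : IsSchemeTheoreticallyDominant (Neron.genPt R) :=
        (isSchemeTheoreticallyDominant_iff_isDominant _).2 inferInstance
      rw [Scheme.Hom.ker_eq_bot, Scheme.IdealSheafData.comap_bot]
    have hJ' : J' = J := by
      rw [hJ]
      show J' = (c.left ≫ π.left).ker
      rw [show c.left ≫ π.left = q.left ≫ J'.subschemeι from (congrArg (fun e => e.left) sqq.w).symm,
        Scheme.Hom.ker_comp, hbot, Scheme.IdealSheafData.map_bot, Scheme.IdealSheafData.ker_subschemeι]
    subst hJ'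
    haveI : Sheaf.IsLocallySurjective pJ :=
      chart_isLocallySurjective (repWith_of_isPullback sqJ.flip hae) (repWith_of_isPullback sqJ.flip has)
    haveI : Sheaf.IsLocallySurjective pJ' :=
      chart_isLocallySurjective (repWith_of_isPullback sqJ'.flip hae) (repWith_of_isPullback sqJ'.flip has)
    obtain ⟨u₁, hu₁⟩ := (exists_factor_ideal_iff sqJ' (g := ι') sqJ.w).2 (Scheme.IdealSheafData.ker_subschemeι _).ge
    obtain ⟨u₂, hu₂⟩ := (exists_factor_ideal_iff sqJ (g := ι') sqJ'.w).2 (Scheme.IdealSheafData.ker_subschemeι _).ge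
    exact ⟨⟨ObjectProperty.homMk u₁, ObjectProperty.homMk u₂,
      ObjectProperty.hom_ext _ (show u₁ ≫ u₂ = 𝟙 _ by rw [← cancel_mono i.hom, Category.assoc, hu₂, hu₁, Category.id_comp]),
      ObjectProperty.hom_ext _ (show u₂ ≫ u₁ = 𝟙 _ by rw [← cancel_mono i'.hom, Category.assoc, hu₁, hu₂, Category.id_comp])⟩,
      ObjectProperty.hom_ext _ hu₁⟩
end Groth.Agent.S18500
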