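import Groth.Statements.S18501
-- import your own Groth.Agent.* helpers here
import Groth.Agent.Lib.NeronIsog24.Special

set_option autoImplicit false
universe u
open CategoryTheory CategoryTheory.Limits AlgebraicGeometry MonObj
open Neron

namespace Groth.Agent.S18501

/-- Let R be a discrete valuation ring with fraction field K and residue field k, let A and B be group
schemes over Spec R which are Néron models of their generic fibres, both abelian varieties over K
(proper and geometrically integral), and let φ : A → B be a homomorphism whose generic fibre is an
isogeny (surjective with finite kernel). Then φ is flat if and only if the special fibre φ_k : A_k →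
B_k maps the connected component of the identity point of A_k onto the connected component of the
identity point of B_k, i.e. the image of the former subset is the latter (φ induces a surjection of
identity components; on the generic fibre this is automatic). (The published lemma is over a
connected Dedekind scheme, with this condition at every point, and includes a further equivalent
condition, quasi-finiteness of φ; the case of a discrete valuation ring is stated here, where only
the closed point matters.) -/
theorem result (R : Type u) [CommRing R]
    [IsDomain R] [IsDiscreteValuationRing R] (A B : Over (Spec (CommRingCat.of R))) [GrpObj A] [GrpObj B]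
    (hA : Neron.IsNeronModelOf R A ((Neron.genericFibre R).obj A) (Iso.refl _))
    (hB : Neron.IsNeronModelOf R B ((Neron.genericFibre R).obj B) (Iso.refl _))
    [IsProper ((Neron.genericFibre R).obj A).hom] [GeometricallyIntegral ((Neron.genericFibre R).obj A).hom]
    [IsProper ((Neron.genericFibre R).obj B).hom] [GeometricallyIntegral ((Neron.genericFibre R).obj B).hom]
    (φ : A ⟶ B) [IsMonHom φ] (hφ : SGA7.IsIsogenyOver ((Neron.genericFibre R).map φ)) :
    Flat φ.left ↔
      ((Over.pullback (Spec.map (CommRingCat.ofHom (IsLocalRing.residue R)))).map φ).left.base ''
          connectedComponent ((η[Red.bc (Spec.map (CommRingCat.ofHom (IsLocalRing.residue R))) A]).left.base (IsLocalRing.closedPoint (IsLocalRing.ResidueField R))) =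
        connectedComponent ((η[Red.bc (Spec.map (CommRingCat.ofHom (IsLocalRing.residue R))) B]).left.base (IsLocalRing.closedPoint (IsLocalRing.ResidueField R))) := by
  haveI := hA.1
  haveI := hA.2.1
  haveI := hA.2.2.2.1
  haveI := hB.1
  haveI := hB.2.1
  haveI : Smooth (φ.left ≫ B.hom) := by rw [Over.w]; infer_instance
  haveI : QuasiCompact (φ.left ≫ B.hom) := by rw [Over.w]; infer_instance
  haveI : QuasiCompact φ.left := QuasiCompact.of_comp φ.left B.hom
  haveI : LocallyOfFiniteType φ.left := locallyOfFiniteType_of_comp φ.left B.hom
  haveI : Smooth ((Neron.genericFibre R).obj B).hom := MorphismProperty.pullback_snd B.hom _ ‹Smooth B.hom›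
  obtain ⟨_, _⟩ := GrothLib.NeronIsog24.isogeny_field _ hφ
  rw [← GrothLib.NeronIsog24.lqf_iff_flat R A B φ hφ, GrothLib.NeronIsog24.lqf_iff_special R φ]
  let b := Spec.map (CommRingCat.ofHom (IsLocalRing.residue R))
  haveI : Smooth ((Over.pullback b).obj A).hom := MorphismProperty.pullback_snd A.hom b ‹Smooth A.hom›
  haveI : Smooth ((Over.pullback b).obj B).hom := MorphismProperty.pullback_snd B.hom b ‹Smooth B.hom›
  haveI : QuasiCompact ((Over.pullback b).map φ).left :=
    MorphismProperty.of_isPullback (GrothLib.FibreLocus.isPullback_map_left φ b).flip ‹QuasiCompact φ.left›
  exact GrothLib.NeronIsog24.lqf_iff_image_connectedComponent ((Over.pullback b).map φ)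
    (GrothLib.NeronIsog24.fibreDimAt_eq_special R φ)

end Groth.Agent.S18501
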