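import Groth.Statements.S18502
import Groth.Agent.Lib.GrpdQuot.FlatQuot
import Groth.Agent.Lib.GrpdQuot.Stab
import Groth.Agent.Lib.DiagGrp.TrivOver
-- import your own Groth.Agent.* helpers here

set_option autoImplicit false
universe u
open CategoryTheory MonoidalCategory CartesianMonoidalCategory MonObj GrpObj AlgebraicGeometry Topology
open EqInt

namespace Groth.Agent.S18502

/-- Over a field k, let an affine group scheme G of finite type act on X, let X and Y be separated and
of finite type over k, and let φ : X → Y be G-invariant, flat and surjective with (σ, p₂) : G × X →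
X ×_Y X an isomorphism (X is a principal G-bundle over Y). Conclusion: the pair (Y, φ) realizes Y as
a geometric quotient of X under G, and G acts freely, meaning (σ, p₂) : G × X → X × X is a closed
immersion. (The source takes X and Y integral; integrality plays no role. A geometric quotient is
taken here with φ universally submersive.) -/
theorem result (k : Type u) [Field k]
    (G X Y : Over (Spec (CommRingCat.of k))) [GrpObj G] [IsAffine G.left] [LocallyOfFiniteType G.hom]
    [LocallyOfFiniteType X.hom] [QuasiCompact X.hom] [IsSeparated X.hom]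
    [LocallyOfFiniteType Y.hom] [QuasiCompact Y.hom] [IsSeparated Y.hom]
    (a : AlgGrp.Action G X) (φ : X ⟶ Y) (hinv : GIT.IsInvariant a φ) [Flat φ.left] [Surjective φ.left]
    (hcart : IsIso (GIT.PsiY a φ hinv)) :
    GIT.IsGeomQuot a φ ∧ IsClosedImmersion (GIT.psi a (𝟙 X)).left := by
  haveI := hcart
  haveI : IsLocallyNoetherian Y.left := LocallyOfFiniteType.isLocallyNoetherian Y.hom
  haveI : LocallyOfFiniteType (φ.left ≫ Y.hom) := by rw [Over.w φ]; infer_instance
  haveI : LocallyOfFiniteType φ.left := locallyOfFiniteType_of_comp _ Y.hom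
  haveI : LocallyOfFinitePresentation φ.left := inferInstance
  haveI : QuasiCompact (φ.left ≫ Y.hom) := by rw [Over.w φ]; infer_instance
  haveI : QuasiCompact φ.left := QuasiCompact.of_comp _ Y.hom
  have hl₁ : GIT.PsiY a φ hinv ≫ Limits.pullback.fst φ.left φ.left = a.act.left :=
    Limits.pullback.lift_fst _ _ _
  have hl₂ : GIT.PsiY a φ hinv ≫ Limits.pullback.snd φ.left φ.left =
      (CartesianMonoidalCategory.snd G X).left :=
    Limits.pullback.lift_snd _ _ _
  refine ⟨⟨hinv, φ.left.surjective, (ConcreteCategory.bijective_of_isIso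
    (C := TopCat) (GIT.PsiY a φ hinv).base).2, GrothLib.GrpdQuot.isUnivSubmersive_of_universallyOpen _,
    fun U => ?_⟩, ?_⟩
  · obtain ⟨hinj, hex⟩ := GrothLib.GrpdQuot.sections_of_flat φ.left U
    refine ⟨hinj, Set.Subset.antisymm ?_ fun f hf => hex f fun {Z} g₁ g₂ e₁ e₂ e => ?_⟩
    · rintro _ ⟨s, rfl⟩
      change GIT.IsInvSection a φ U _
      rw [GIT.IsInvSection, Scheme.Hom.app_eq_appLE, ← CommRingCat.comp_apply,
        ← CommRingCat.comp_apply, Scheme.Hom.appLE_comp_appLE, Scheme.Hom.appLE_comp_appLE]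
      simp only [hinv.left]
    · obtain ⟨m, hm₁, hm₂⟩ : ∃ m : Z ⟶ (G ⊗ X).left, m ≫ a.act.left = g₁ ∧
          m ≫ (CartesianMonoidalCategory.snd G X).left = g₂ :=
        ⟨Limits.pullback.lift g₁ g₂ e ≫ inv (GIT.PsiY a φ hinv),
          by rw [← hl₁, Category.assoc, IsIso.inv_hom_id_assoc, Limits.pullback.lift_fst],
          by rw [← hl₂, Category.assoc, IsIso.inv_hom_id_assoc, Limits.pullback.lift_snd]⟩
      subst hm₁ hm₂
      have hW : (⊤ : Z.Opens) ≤ m ⁻¹ᵁ (a.act.left ⁻¹ᵁ (φ.left ⁻¹ᵁ U) ⊓
          (CartesianMonoidalCategory.snd G X).left ⁻¹ᵁ (φ.left ⁻¹ᵁ U)) :=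
        fun z hz => ⟨e₁ hz, e₂ hz⟩
      rw [← Scheme.Hom.appLE_comp_appLE m a.act.left _ _ ⊤ inf_le_left hW,
        ← Scheme.Hom.appLE_comp_appLE m (CartesianMonoidalCategory.snd G X).left _ _ ⊤ inf_le_right hW]
      exact congrArg (m.appLE _ ⊤ hW) hf
  · have hk : (GIT.psi a (𝟙 X)).left = GIT.PsiY a φ hinv ≫
        Limits.pullback.mapDesc φ.left φ.left Y.hom ≫
          (Limits.pullback.congrHom (Over.w φ) (Over.w φ)).hom := by
      refine Over.tensorObj_ext _ _ ?_ ?_
      · change (GIT.psi a (𝟙 X)).left ≫ (CartesianMonoidalCategory.fst X X).left = _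
        rw [← Over.comp_left, GrothLib.GrpdQuot.psi_fst, ← hl₁]
        have e₁ : (Limits.pullback.congrHom (Over.w φ) (Over.w φ)).hom ≫ Limits.pullback.fst X.hom X.hom =
            Limits.pullback.fst (φ.left ≫ Y.hom) (φ.left ≫ Y.hom) :=
          (Limits.pullback.lift_fst _ _ _).trans (Category.comp_id _)
        have e₂ : Limits.pullback.mapDesc φ.left φ.left Y.hom ≫
            Limits.pullback.fst (φ.left ≫ Y.hom) (φ.left ≫ Y.hom) = Limits.pullback.fst φ.left φ.left :=
          (Limits.pullback.lift_fst _ _ _).trans (Category.comp_id _)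
        exact ((Category.assoc _ _ _).trans (congrArg (GIT.PsiY a φ hinv ≫ ·)
          ((Category.assoc _ _ _).trans ((congrArg _ e₁).trans e₂)))).symm
      · change (GIT.psi a (𝟙 X)).left ≫ (CartesianMonoidalCategory.snd X X).left = _
        rw [← Over.comp_left, GrothLib.GrpdQuot.psi_snd, ← hl₂]
        have e₁ : (Limits.pullback.congrHom (Over.w φ) (Over.w φ)).hom ≫ Limits.pullback.snd X.hom X.hom =
            Limits.pullback.snd (φ.left ≫ Y.hom) (φ.left ≫ Y.hom) :=
          (Limits.pullback.lift_snd _ _ _).trans (Category.comp_id _)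
        have e₂ : Limits.pullback.mapDesc φ.left φ.left Y.hom ≫
            Limits.pullback.snd (φ.left ≫ Y.hom) (φ.left ≫ Y.hom) = Limits.pullback.snd φ.left φ.left :=
          (Limits.pullback.lift_snd _ _ _).trans (Category.comp_id _)
        exact ((Category.assoc _ _ _).trans (congrArg (GIT.PsiY a φ hinv ≫ ·)
          ((Category.assoc _ _ _).trans ((congrArg _ e₁).trans e₂)))).symm
    rw [hk]
    infer_instance

end Groth.Agent.S18502
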