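import Groth.Statements.S18505
import Groth.Agent.Lib.GeomQuotNormal13.Basic
-- import your own Groth.Agent.* helpers here

set_option autoImplicit false
universe u
open CategoryTheory MonoidalCategory CartesianMonoidalCategory MonObj GrpObj AlgebraicGeometry Topology
open EqInt

namespace Groth.Agent.S18505

/-- Over an algebraically closed field k of characteristic zero, let an affine group scheme G of finite
type act on a normal variety X (integral, separated, of finite type over k, with integrally closed
local rings) and let (Y, φ) be a geometric quotient of X by G with Y separated of finite type over
k. Then Y is normal. (The other two conditions of the published criterion are immediate from the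
definition of a geometric quotient, and its converse rests on a result quoted there without proof;
only this implication is stated. A geometric quotient is taken here with φ universally submersive.) -/
theorem result (k : Type u) [Field k] [IsAlgClosed k] [CharZero k]
    (G X Y : Over (Spec (CommRingCat.of k))) [GrpObj G] [IsAffine G.left] [LocallyOfFiniteType G.hom]
    [LocallyOfFiniteType X.hom] [QuasiCompact X.hom] [IsSeparated X.hom] [IsIntegral X.left]
    (hX : Pi1.IsNormalScheme X.left)
    [LocallyOfFiniteType Y.hom] [QuasiCompact Y.hom] [IsSeparated Y.hom]
    (a : AlgGrp.Action G X) (φ : X ⟶ Y) (h : GIT.IsGeomQuot a φ) :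
    Pi1.IsNormalScheme Y.left := by
  haveI : AlgebraicGeometry.Flat G.hom := by
    infer_instance
  haveI : AlgebraicGeometry.Flat (snd G X).left := by
    show AlgebraicGeometry.Flat (Limits.pullback.snd G.hom X.hom)
    infer_instance
  exact GrothLib.GeomQuotNormal13.isNormalScheme_of_isGeomQuot h hX


end Groth.Agent.S18505
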