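import Groth.Statements.S18506
import Groth.Agent.Lib.AssocBundle.Descent
import Groth.Agent.Lib.SchEffective.Local
-- import your own Groth.Agent.* helpers here

set_option autoImplicit false
universe u
open CategoryTheory MonoidalCategory CartesianMonoidalCategory MonObj GrpObj AlgebraicGeometry Topology
open EqInt CategoryTheory.Limits

namespace Groth.Agent.S18506

/-- Over a field k, let an affine group scheme G of finite type act on X and on U (quasi-separated
schemes of finite type over k), and let π : U → B be a principal bundle quotient (π is G-invariant,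
flat and surjective and (σ, p₂) : G × U → U ×_B U is an isomorphism) which is locally trivial in the
Zariski topology: every point of B has an open neighbourhood over which π has a section. Then the
diagonal action of G on X × U has a principal bundle quotient X × U → Q in the category of schemes.
(The published hypothesis is that G is special, i.e. every principal G-bundle is Zariski-locally
trivial; only the local triviality of U → B is used, and it is what is assumed here.) -/
theorem result (k : Type u) [Field k]
    (G X U B : Over (Spec (CommRingCat.of k))) [GrpObj G] [IsAffine G.left] [LocallyOfFiniteType G.hom]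
    [LocallyOfFiniteType X.hom] [QuasiCompact X.hom] [QuasiSeparated X.hom]
    [LocallyOfFiniteType U.hom] [QuasiCompact U.hom] [QuasiSeparated U.hom]
    [LocallyOfFiniteType B.hom] [QuasiCompact B.hom] [QuasiSeparated B.hom]
    (a : AlgGrp.Action G X) (b : AlgGrp.Action G U) (π : U ⟶ B) (hinv : GIT.IsInvariant b π)
    [Flat π.left] [Surjective π.left] (hcart : IsIso (GIT.PsiY b π hinv))
    (hzar : ∀ y : ↥B.left, ∃ (W : B.left.Opens) (s : (↑W : Scheme.{u}) ⟶ U.left), y ∈ W ∧ s ≫ π.left = W.ι) :
    ∃ (Q : Over (Spec (CommRingCat.of k))) (ρ : X ⊗ U ⟶ Q) (hρ : GIT.IsInvariant (a.prod b) ρ),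
      Flat ρ.left ∧ Surjective ρ.left ∧ IsIso (GIT.PsiY (a.prod b) ρ hρ) := by
  have hsq : IsPullback b.act.left (snd G U).left π.left π.left :=
    GrothLib.AssocBundle.isPullback_psiY b π hinv hcart
  obtain ⟨W, φ, ψ, hφf, hφs, hinvφ, sq⟩ :=
    GrothLib.AssocBundle.exists_associated_of_effective (b := a) hsq fun D _ => by
      choose V s hyV hs using hzar
      have hrep : GrothLib.SchEffective.IsRep ((Desc.SchDDFam.ofSchDD π.left).obj D) :=
        GrothLib.SchEffective.isRep_of_openCover V
          (TopologicalSpace.IsOpenCover.mk (eq_top_iff.mpr fun y _ => TopologicalSpace.Opens.mem_iSup.mpr ⟨y, hyV y⟩))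
          fun y => GrothLib.SchEffective.isRepOver_of_lift (i := PUnit.unit) (s y) (hs y)
      obtain ⟨M, ⟨e⟩⟩ := GrothLib.SchEffective.isEffective_of_isRep hrep
      exact ⟨M, ⟨(Desc.SchDDFam.toSchDD π.left).mapIso e⟩⟩
  have sq' := GrothLib.AssocBundle.isPullback_diagMap hsq hinvφ sq
  let β : X ⊗ U ≅ U ⊗ X :=
    ⟨lift (snd X U) (fst X U), lift (snd U X) (fst U X), by ext <;> simp, by ext <;> simp⟩
  have hβ : (a.prod b).act ≫ β.hom = (G ◁ β.hom) ≫ GrothLib.AssocBundle.diagMap b a := by
    apply CartesianMonoidalCategory.hom_ext <;>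
      simp [GrothLib.AssocBundle.diagMap, AlgGrp.Action.prod, β, ← whiskerLeft_comp_assoc]
  haveI : IsIso β.hom := β.isIso_hom
  haveI : IsIso β.hom.left := ((Over.forget _).mapIso β).isIso_hom
  refine ⟨W, β.hom ≫ φ, ?_, ?_, ?_, ?_⟩
  · show (a.prod b).act ≫ β.hom ≫ φ = snd G (X ⊗ U) ≫ β.hom ≫ φ
    rw [reassoc_of% hβ, hinvφ, ← Category.assoc, whiskerLeft_snd, Category.assoc]
  · haveI := hφf
    show Flat (β.hom.left ≫ φ.left)
    infer_instance
  · haveI := hφs
    show Surjective (β.hom.left ≫ φ.left)
    infer_instance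
  · have main : IsPullback (a.prod b).act.left (snd G (X ⊗ U)).left (β.hom ≫ φ).left (β.hom ≫ φ).left := by
      refine sq'.of_iso ((Over.forget _).mapIso (whiskerLeftIso G β.symm)) ((Over.forget _).mapIso β.symm)
        ((Over.forget _).mapIso β.symm) (Iso.refl _) ?_ ?_ ?_ ?_
      · show (GrothLib.AssocBundle.diagMap b a).left ≫ β.inv.left = (G ◁ β.inv).left ≫ (a.prod b).act.left
        rw [← Over.comp_left, ← Over.comp_left]
        congr 1
        rw [← cancel_mono β.hom, Category.assoc, β.inv_hom_id, Category.comp_id, Category.assoc, hβ,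
          ← whiskerLeft_comp_assoc, β.inv_hom_id, whiskerLeft_id, Category.id_comp]
      · show (snd G (U ⊗ X)).left ≫ β.inv.left = (G ◁ β.inv).left ≫ (snd G (X ⊗ U)).left
        rw [← Over.comp_left, ← Over.comp_left, whiskerLeft_snd]
      · show φ.left ≫ 𝟙 _ = β.inv.left ≫ (β.hom ≫ φ).left
        rw [← Over.comp_left, Iso.inv_hom_id_assoc, Category.comp_id]
      · show φ.left ≫ 𝟙 _ = β.inv.left ≫ (β.hom ≫ φ).left
        rw [← Over.comp_left, Iso.inv_hom_id_assoc, Category.comp_id]
    have : GIT.PsiY (a.prod b) (β.hom ≫ φ) (Over.OverMorphism.ext main.w) = main.isoPullback.hom := by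
      apply pullback.hom_ext
      · rw [IsPullback.isoPullback_hom_fst]; exact pullback.lift_fst _ _ _
      · rw [IsPullback.isoPullback_hom_snd]; exact pullback.lift_snd _ _ _
    show IsIso (GIT.PsiY (a.prod b) (β.hom ≫ φ) _)
    rw [show GIT.PsiY (a.prod b) (β.hom ≫ φ) _ = _ from this]
    infer_instance


end Groth.Agent.S18506
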