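import Groth.Statements.S18510
import Groth.Agent.Lib.AssocBundle.Basic
import Groth.Agent.Lib.EtSite.FpqcDescent
import Groth.Agent.Lib.AlgSp.FpqcProps
import Mathlib.AlgebraicGeometry.Morphisms.LocalFlatDescent
-- import your own Groth.Agent.* helpers here

set_option autoImplicit false
universe u
open CategoryTheory MonoidalCategory CartesianMonoidalCategory MonObj GrpObj AlgebraicGeometry Topology
open EqInt

namespace Groth.Agent.S18510

/-- Over a field k, let an affine group scheme G of finite type act on X, on Y and on U (quasi-separated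
schemes of finite type over k), let f : X → Y be G-equivariant, and let q_X : X × U → X_G and q_Y :
Y × U → Y_G be principal bundle quotients for the diagonal actions (each is invariant, flat and
surjective, and (σ, p₂) into the fibre square over the quotient is an isomorphism), X_G and Y_G
being quasi-separated of finite type over k. Let f_G : X_G → Y_G satisfy f_G ∘ q_X = q_Y ∘ (f ×
id_U) as maps X × U → Y_G. If f is proper, resp. flat, resp. smooth, then so is f_G. (Stated for
schemes; the source allows algebraic spaces and also treats regular embeddings and local complete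
intersection morphisms, which are not stated here.) -/
theorem result (k : Type u) [Field k]
    (G X Y U XG YG : Over (Spec (CommRingCat.of k))) [GrpObj G] [IsAffine G.left] [LocallyOfFiniteType G.hom]
    [LocallyOfFiniteType X.hom] [QuasiCompact X.hom] [QuasiSeparated X.hom]
    [LocallyOfFiniteType Y.hom] [QuasiCompact Y.hom] [QuasiSeparated Y.hom]
    [LocallyOfFiniteType U.hom] [QuasiCompact U.hom] [QuasiSeparated U.hom]
    [LocallyOfFiniteType XG.hom] [QuasiCompact XG.hom] [QuasiSeparated XG.hom]
    [LocallyOfFiniteType YG.hom] [QuasiCompact YG.hom] [QuasiSeparated YG.hom]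
    (a : AlgGrp.Action G X) (aY : AlgGrp.Action G Y) (b : AlgGrp.Action G U)
    (f : X ⟶ Y) (hf : AlgGrp.Action.IsEquivariant a aY f)
    (qX : X ⊗ U ⟶ XG) (hqX : GIT.IsInvariant (a.prod b) qX) [Flat qX.left] [Surjective qX.left]
    (hcX : IsIso (GIT.PsiY (a.prod b) qX hqX))
    (qY : Y ⊗ U ⟶ YG) (hqY : GIT.IsInvariant (aY.prod b) qY) [Flat qY.left] [Surjective qY.left]
    (hcY : IsIso (GIT.PsiY (aY.prod b) qY hqY))
    (fG : XG ⟶ YG) (hfG : qX ≫ fG = (f ▷ U) ≫ qY) :
    (IsProper f.left → IsProper fG.left) ∧ (Flat f.left → Flat fG.left) ∧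
      (Smooth f.left → Smooth fG.left) := by
  have : QuasiCompact (qX.left ≫ XG.hom) := by
    rw [Over.w qX]; dsimp; infer_instance
  have : QuasiCompact qX.left := QuasiCompact.of_comp _ XG.hom
  have : QuasiCompact (qY.left ≫ YG.hom) := by
    rw [Over.w qY]; dsimp; infer_instance
  have : QuasiCompact qY.left := QuasiCompact.of_comp _ YG.hom
  have hg : (G ◁ (f ▷ U)) ≫ (aY.prod b).act = (a.prod b).act ≫ (f ▷ U) := by
    simp only [AlgGrp.Action.prod_act, comp_lift, lift_whiskerRight, Category.assoc]
    have h1 : (G ◁ (f ▷ U)) ≫ (G ◁ fst Y U) = (G ◁ fst X U) ≫ (G ◁ f) := by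
      rw [← whiskerLeft_comp, ← whiskerLeft_comp, whiskerRight_fst]
    have h2 : (G ◁ (f ▷ U)) ≫ (G ◁ snd Y U) = G ◁ snd X U := by
      rw [← whiskerLeft_comp, whiskerRight_snd]
    rw [reassoc_of% h1, reassoc_of% h2, ← hf]
  have hsq := GrothLib.AssocBundle.isPullback_of_equivariant (a.prod b) qX hqX hcX (aY.prod b) qY hqY hcY
    (f ▷ U) fG hg hfG.symm
  have hbc : CategoryTheory.IsPullback (f ▷ U).left (fst X U).left (fst Y U).left f.left := by
    have h1 : CategoryTheory.IsPullback (snd X U).left (fst X U).left U.hom X.hom := (CategoryTheory.IsPullback.of_hasPullback X.hom U.hom).flip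
    have h2 : CategoryTheory.IsPullback (snd Y U).left (fst Y U).left U.hom Y.hom := (CategoryTheory.IsPullback.of_hasPullback Y.hom U.hom).flip
    refine CategoryTheory.IsPullback.of_right (h₁₂ := (snd Y U).left) (v₁₃ := U.hom) (h₂₂ := Y.hom) ?_ ?_ h2
    · rw [← Over.comp_left, whiskerRight_snd, Over.w f]; exact h1
    · rw [← Over.comp_left, ← Over.comp_left, whiskerRight_fst]
  have := GrothLib.AlgSp.descendsAlong_flat_fpqc.{u}
  exact ⟨fun h => GrothLib.AssocBundle.property_bases @IsProper hsq (MorphismProperty.of_isPullback hbc.flip h),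
    fun h => GrothLib.AssocBundle.property_bases @Flat hsq (MorphismProperty.of_isPullback hbc.flip h),
    fun h => GrothLib.AssocBundle.property_bases @Smooth hsq (MorphismProperty.of_isPullback hbc.flip h)⟩


end Groth.Agent.S18510
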