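import Groth.Statements.S18511
import Groth.Agent.Lib.GeomQuotDesc.Basic
import Groth.Prelude.Def_ChGrp
-- import your own Groth.Agent.* helpers here

set_option autoImplicit false
universe u
open CategoryTheory MonoidalCategory CartesianMonoidalCategory MonObj GrpObj AlgebraicGeometry Topology
open EqInt

namespace Groth.Agent.S18511

/-- Over a field k, let an affine group scheme G of finite type act on X, with X and Y separated of
finite type over k, and let φ : X → Y be G-invariant. Let α : Y' → Y be faithfully flat and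
quasi-compact and let X' → Y' be the base change of φ with its induced action of G (X' → X
equivariant, X' → Y' invariant). If (Y', φ') is a universal geometric quotient of X' by G, then (Y,
φ) is a universal geometric quotient of X by G. (The source takes X and Y integral; integrality
plays no role. Geometric quotients are taken with universally submersive structure map.) -/
theorem result (k : Type u) [Field k]
    (G X Y X' Y' : Over (Spec (CommRingCat.of k))) [GrpObj G] [IsAffine G.left] [LocallyOfFiniteType G.hom]
    [LocallyOfFiniteType X.hom] [QuasiCompact X.hom] [IsSeparated X.hom]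
    [LocallyOfFiniteType Y.hom] [QuasiCompact Y.hom] [IsSeparated Y.hom]
    (a : AlgGrp.Action G X) (φ : X ⟶ Y) (hinv : GIT.IsInvariant a φ)
    (α : Y' ⟶ Y) [Flat α.left] [Surjective α.left] [QuasiCompact α.left]
    (pr : X' ⟶ X) (φ' : X' ⟶ Y') (hpb : IsPullback pr φ' φ α)
    (a' : AlgGrp.Action G X') (heq : a'.act ≫ pr = (G ◁ pr) ≫ a.act) (hinv' : GIT.IsInvariant a' φ')
    (h : GIT.IsUnivGeomQuot a' φ') :
    GIT.IsUnivGeomQuot a φ := by
  haveI : QuasiCompact φ.left := by
    haveI : QuasiCompact (φ.left ≫ Y.hom) := by rw [Over.w φ]; infer_instance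
    exact QuasiCompact.of_comp φ.left Y.hom
  refine ⟨GrothLib.GeomQuotDesc.isGeomQuot_of_fpqc_baseChange a φ hinv α pr φ' hpb a' heq h.1,
    fun X₁ Y₁ p₁ φ₁ g _ hsq a₁ he₁ hi₁ => ?_⟩
  haveI : QuasiCompact φ₁.left := MorphismProperty.of_isPullback (P := @QuasiCompact)
    (hsq.map (Over.forget _)) (inferInstanceAs (QuasiCompact φ.left))
  let b := Limits.pullback.fst g α
  let c := Limits.pullback.snd g α
  let r := Limits.pullback.fst φ₁ b
  let φ₂ := Limits.pullback.snd φ₁ b
  have hb : CategoryTheory.IsPullback b.left c.left g.left α.left :=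
    (IsPullback.of_hasPullback g α).map (Over.forget _)
  haveI : Flat b.left := MorphismProperty.of_isPullback (P := @Flat) hb.flip (by assumption)
  haveI : Surjective b.left := MorphismProperty.of_isPullback (P := @Surjective) hb.flip (by assumption)
  haveI : QuasiCompact b.left := MorphismProperty.of_isPullback (P := @QuasiCompact) hb.flip (by assumption)
  have hsq₂ : CategoryTheory.IsPullback r φ₂ φ₁ b := IsPullback.of_hasPullback φ₁ b
  have hbig : CategoryTheory.IsPullback (r ≫ p₁) φ₂ φ (c ≫ α) := by
    rw [← Limits.pullback.condition]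
    exact hsq₂.paste_horiz hsq
  let t := hpb.lift (r ≫ p₁) (φ₂ ≫ c) (by rw [hbig.w, Category.assoc])
  have hleft : CategoryTheory.IsPullback t φ₂ φ' c := by
    refine IsPullback.of_right ?_ (hpb.lift_snd _ _ _) hpb
    rw [hpb.lift_fst]
    exact hbig
  -- the induced action
  have hc : ((G ◁ r) ≫ a₁.act) ≫ φ₁ = snd G _ ≫ φ₂ ≫ b := by
    rw [Category.assoc, show a₁.act ≫ φ₁ = _ from hi₁, whiskerLeft_snd_assoc, hsq₂.w]
  let a₂ : AlgGrp.Action G (Limits.pullback φ₁ b) :=
    { act := hsq₂.lift ((G ◁ r) ≫ a₁.act) (snd G _ ≫ φ₂) (by rw [hc, Category.assoc])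
      one_act := by
        apply hsq₂.hom_ext
        · rw [Category.assoc, hsq₂.lift_fst, ← whisker_exchange_assoc, a₁.one_act, leftUnitor_hom, leftUnitor_hom,
            whiskerLeft_snd]
        · rw [Category.assoc, hsq₂.lift_snd, whiskerRight_snd_assoc, leftUnitor_hom]
      mul_act := by
        apply hsq₂.hom_ext
        · apply AlgGrp.Action.hom_ext_lift₃
          intro T h h' z
          simp only [Category.assoc, hsq₂.lift_fst]
          rw [lift_whiskerRight_assoc, lift_whiskerLeft_assoc, lift_lift_associator_hom_assoc, lift_whiskerLeft_assoc,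
            ← Hom.mul_def, AlgGrp.Action.lift_mul_act, lift_whiskerLeft_assoc, Category.assoc, hsq₂.lift_fst,
            lift_whiskerLeft_assoc]
        · apply AlgGrp.Action.hom_ext_lift₃
          intro T h h' z
          simp only [Category.assoc, hsq₂.lift_snd]
          rw [lift_whiskerRight_assoc, lift_snd_assoc, lift_lift_associator_hom_assoc, lift_whiskerLeft_assoc,
            lift_snd_assoc, Category.assoc (lift h' z), hsq₂.lift_snd, lift_snd_assoc] }
  have hinv₂ : GIT.IsInvariant a₂ φ₂ := hsq₂.lift_snd _ _ _
  have het : a₂.act ≫ t = (G ◁ t) ≫ a'.act := by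
    apply hpb.hom_ext
    · rw [Category.assoc, hpb.lift_fst, ← Category.assoc, hsq₂.lift_fst, Category.assoc, Category.assoc, he₁, heq,
        ← Category.assoc, ← Category.assoc (G ◁ t), ← MonoidalCategory.whiskerLeft_comp,
        ← MonoidalCategory.whiskerLeft_comp, hpb.lift_fst]
    · rw [Category.assoc, hpb.lift_snd, ← Category.assoc, hsq₂.lift_snd, Category.assoc, Category.assoc,
        show a'.act ≫ φ' = _ from hinv', whiskerLeft_snd_assoc, hpb.lift_snd]
  exact GrothLib.GeomQuotDesc.isGeomQuot_of_fpqc_baseChange a₁ φ₁ hi₁ b r φ₂ hsq₂ a₂ (hsq₂.lift_fst _ _ _)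
    (h.2 t φ₂ c trivial hleft a₂ het hinv₂)

end Groth.Agent.S18511
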