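import Groth.Statements.S18515
import Mathlib.AlgebraicGeometry.ValuativeCriterion
set_option backward.isDefEq.respectTransparency false

set_option autoImplicit false
open CategoryTheory CategoryTheory.Limits MonoidalCategory CartesianMonoidalCategory MonObj GrpObj AlgebraicGeometry
universe u
open NonAbH1

namespace Groth.Agent.S18515

open CategoryTheory CategoryTheory.Limits MonoidalCategory CartesianMonoidalCategory MonObj GrpObj AlgebraicGeometry NonAbH1 in
/-- restrict an equivariant iso -/
def eqvRestrict {S : Scheme.{u}} {G H X X' : Over S} [GrpObj G] [GrpObj H] (φ : H ⟶ G) [IsMonHom φ]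
    {a : AlgGrp.Action G X} {a' : AlgGrp.Action G X'} (e : EquivIso a a') :
    EquivIso (a.restrict φ) (a'.restrict φ) where
  iso := e.iso
  comm := by
    rw [AlgGrp.Action.restrict_act, AlgGrp.Action.restrict_act, Category.assoc, e.comm,
      whisker_exchange_assoc]

open CategoryTheory CategoryTheory.Limits MonoidalCategory CartesianMonoidalCategory MonObj GrpObj AlgebraicGeometry NonAbH1 in
theorem isPseudo_restrict {S : Scheme.{u}} {G H X : Over S} [GrpObj G] [GrpObj H] (φ : H ⟶ G) [IsMonHom φ]
    [IsIso φ] {a : AlgGrp.Action G X} (h : IsPseudoTorsorSch a) : IsPseudoTorsorSch (a.restrict φ) := by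
  have : IsIso (lift a.act (snd G X)) := h
  have e : lift (a.restrict φ).act (snd H X) = (φ ▷ X) ≫ lift a.act (snd G X) := by
    rw [comp_lift, AlgGrp.Action.restrict_act, whiskerRight_snd]
  unfold IsPseudoTorsorSch
  rw [e]
  infer_instance

/-- A class represented by a torsor over a complete variety is unramified at every discrete valuation
ring of the function field. The published lemma assumes G finite, k algebraically closed of
characteristic zero and K finitely generated over k; this row allows any field k, any field K and
any affine k-group scheme of finite type: let k be a field, X a proper k-scheme, G an affine k-group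
scheme of finite type and P a torsor over X, locally trivial for the etale topology, under the base
change of G. For every field K with a k-morphism e : Spec K ⟶ X (for instance the generic point of
an integral X) and every discrete valuation ring R with fraction field K containing k compatibly,
there is a torsor Q over Spec R under the base change of G whose restriction to Spec K is
equivariantly isomorphic to the pullback of P along e, both regarded as actions of the base change
of G to Spec K through the canonical identifications of iterated base changes. -/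
theorem result
    (k K R : Type u) [Field k] [Field K] [Algebra k K]
    [CommRing R] [IsDomain R] [IsDiscreteValuationRing R] [Algebra k R] [Algebra R K] [IsFractionRing R K]
    (hc : Spec.map (CommRingCat.ofHom (algebraMap R K)) ≫ Spec.map (CommRingCat.ofHom (algebraMap k R)) =
      Spec.map (CommRingCat.ofHom (algebraMap k K)))
    (X : Scheme.{u}) (x : X ⟶ Spec (CommRingCat.of k)) [IsProper x]
    (G : Over (Spec (CommRingCat.of k))) [GrpObj G] [IsAffine G.left] [LocallyOfFiniteType G.hom]
    (P : NonAbH1.TorsorSch (Red.bc x G) Scheme.etalePrecoverage)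
    (e : Spec (CommRingCat.of K) ⟶ X) (he : e ≫ x = Spec.map (CommRingCat.ofHom (algebraMap k K))) :
    ∃ Q : NonAbH1.TorsorSch (Red.bc (Spec.map (CommRingCat.ofHom (algebraMap k R))) G) Scheme.etalePrecoverage,
      Nonempty (NonAbH1.EquivIso
        ((Q.act.bc (Spec.map (CommRingCat.ofHom (algebraMap R K)))).restrict
          (ActBC.bcCompIso (Spec.map (CommRingCat.ofHom (algebraMap R K)))
            (Spec.map (CommRingCat.ofHom (algebraMap k R))) G hc).inv)
        ((P.act.bc e).restrict (ActBC.bcCompIso e x G he).inv)) := by
  have hV : ValuativeCriterion.Existence x := by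
    have h : UniversallyClosed x := inferInstance
    rw [UniversallyClosed.eq_valuativeCriterion] at h
    exact h.1
  obtain ⟨⟨l⟩⟩ := hV { R := R, K := K, i₁ := e, i₂ := Spec.map (CommRingCat.ofHom (algebraMap k R)), commSq := ⟨by rw [he, ← hc]⟩ }
  have hle : Spec.map (CommRingCat.ofHom (algebraMap R K)) ≫ l.l = e := l.fac_left
  have hlx : l.l ≫ x = Spec.map (CommRingCat.ofHom (algebraMap k R)) := l.fac_right
  let j := Spec.map (CommRingCat.ofHom (algebraMap R K))
  let θR := ActBC.bcCompIso l.l x G hlx
  haveI : IsMonHom θR.inv := inferInstance
  refine ⟨⟨_, (P.act.bc l.l).restrict θR.inv,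
    isPseudo_restrict _ (isTorsorFor_bc l.l _ P.isTorsor).1, (isTorsorFor_bc l.l _ P.isTorsor).2⟩, ⟨?_⟩⟩
  let E := ActBC.equivIsoBcComp j l.l hle P.act
  have hmor : (ActBC.bcCompIso j (Spec.map (CommRingCat.ofHom (algebraMap k R))) G hc).inv ≫
      (Over.pullback j).map θR.inv ≫ (ActBC.bcCompIso j l.l (Red.bc x G) hle).hom =
        (ActBC.bcCompIso e x G he).inv := by
    rw [Iso.inv_comp_eq, ← cancel_mono (ActBC.bcCompIso e x G he).hom]
    simp only [Category.assoc, Iso.inv_hom_id, Category.comp_id]
    ext
    apply pullback.hom_ext
    · simp only [Over.comp_left, Category.assoc, ActBC.bcCompIso_hom_left_fst,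
        ActBC.bcCompIso_hom_left_fst_assoc, ActBC.pullback_map_left_fst, ActBC.pullback_map_left_fst_assoc]
      congr 1
      have h := ActBC.bcCompIso_hom_left_fst l.l x G hlx
      rw [← cancel_epi (ActBC.bcCompIso l.l x G hlx).hom.left, ← Over.comp_left_assoc, Iso.hom_inv_id, Over.id_left,
        Category.id_comp, h]
    · exact (Over.w _).trans (Over.w _).symm
  refine ⟨E.iso, ?_⟩
  have hE := E.comm
  simp only [AlgGrp.Action.restrict_act] at hE
  show (((P.act.bc l.l).restrict θR.inv).bc j |>.restrict _).act ≫ _ = _
  rw [AlgGrp.Action.bc_restrict]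
  simp only [AlgGrp.Action.restrict_act, Category.assoc]
  erw [hE]
  rw [← hmor]
  simp only [comp_whiskerRight, Category.assoc, whisker_exchange_assoc]
  rfl

end Groth.Agent.S18515
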