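import Groth.Statements.S18519
import Groth.Agent.Lib.BrRestrict10.Basic

set_option autoImplicit false
universe u
open scoped TensorProduct
open Brauer

namespace Groth.Agent.S18519

/-- For a field K with maximal abelian extension K_ab, cd(K_ab) ≤ 1 if and only if for every etale
K-algebra E the restriction map Br(E) ⟶ Br(E ⊗_K K_ab) is trivial; the same holds with the maximal
solvable extension. Stated here for an arbitrary separable algebraic extension F of K in place of
K_ab (the published lemma takes for F the maximal abelian or the maximal solvable extension of K;
this row allows any separable algebraic extension), with cd(F) ≤ 1 unfolded by the Brauer-group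
criterion (every finite separable extension of F has trivial Brauer group) and with etale algebras
replaced by their field factors: (a) every finite-dimensional central division algebra over a finite
separable extension F′ of F is F′ itself; if and only if (b) for every finite separable extension E
of K, every finite-dimensional central division algebra D over E and every field M containing E and
F compatibly over K, the base change M ⊗_E D is isomorphic over M to a matrix algebra over M. -/
theorem result
    (K F : Type u) [Field K] [Field F] [Algebra K F] [Algebra.IsSeparable K F] :
    (∀ (F' : Type u) [Field F'] [Algebra F F'] [FiniteDimensional F F'] [Algebra.IsSeparable F F']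
        (D : Type u) [DivisionRing D] [Algebra F' D] [Algebra.IsCentral F' D] [FiniteDimensional F' D],
        Module.finrank F' D = 1) ↔
    (∀ (E : Type u) [Field E] [Algebra K E] [FiniteDimensional K E] [Algebra.IsSeparable K E]
        (D : Type u) [DivisionRing D] [Algebra E D] [Algebra.IsCentral E D] [FiniteDimensional E D]
        (M : Type u) [Field M] [Algebra K M] [Algebra E M] [Algebra F M] [IsScalarTower K E M]
        [IsScalarTower K F M],
        ∃ n : ℕ, Nonempty ((M ⊗[E] D) ≃ₐ[M] Matrix (Fin n) (Fin n) M)) := by
  constructor
  · intro h E _ _ _ _ D _ _ _ _ M _ _ _ _ _ _
    exact GrothLib.BrRestrict10.exists_split (K := K) h E D M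
  · intro h F' _ _ _ _ D _ _ _ _
    exact GrothLib.BrRestrict10.finrank_eq_one h F' D

end Groth.Agent.S18519
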