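import Groth.Statements.S1852
-- import your own Groth.Agent.* helpers here
import Mathlib.RingTheory.Length
import Mathlib.RingTheory.Ideal.AssociatedPrime.Localization
import Mathlib.Algebra.Module.LocalizedModule.Exact

set_option autoImplicit false
universe u
open CycAlg

namespace Groth.Agent.S1852.Aux

open Module

variable {R : Type u} [CommRing R]

theorem length_loc_quot_self (q : PrimeSpectrum R) :
    Module.length (Localization.AtPrime q.asIdeal) (LocalizedModule q.asIdeal.primeCompl (R ⧸ q.asIdeal)) = 1 := by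
  let S := q.asIdeal.primeCompl
  let gen : LocalizedModule S (R ⧸ q.asIdeal) := LocalizedModule.mk (Ideal.Quotient.mk _ 1) 1
  let f := LinearMap.toSpanSingleton (Localization S) (LocalizedModule S (R ⧸ q.asIdeal)) gen
  have hsurj : Function.Surjective f := by
    intro z
    induction z using LocalizedModule.induction_on with
    | h m s =>
      obtain ⟨r, rfl⟩ := Ideal.Quotient.mk_surjective m
      refine ⟨Localization.mk r s, ?_⟩
      simp only [f, gen, LinearMap.toSpanSingleton_apply, LocalizedModule.mk_smul_mk, mul_one]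
      congr 1
      rw [Algebra.smul_def, map_one, mul_one]; rfl
  have hker : LinearMap.ker f = IsLocalRing.maximalIdeal (Localization.AtPrime q.asIdeal) := by
    refine (Ideal.IsMaximal.eq_of_le (IsLocalRing.maximalIdeal.isMaximal _) ?_ ?_).symm
    · intro htop
      have h1 : f 1 = 0 := LinearMap.mem_ker.1 (htop ▸ Submodule.mem_top)
      rw [LinearMap.toSpanSingleton_apply, one_smul, ← LocalizedModule.zero_mk 1, LocalizedModule.mk_eq] at h1
      obtain ⟨u, hu⟩ := h1
      simp only [one_smul, smul_zero] at hu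
      refine u.2 (Ideal.Quotient.eq_zero_iff_mem.1 ?_)
      simpa [Submonoid.smul_def, Algebra.smul_def] using hu
    · rw [← Localization.AtPrime.map_eq_maximalIdeal, Ideal.map_le_iff_le_comap]
      intro r hr
      change f (algebraMap R _ r) = 0
      rw [LinearMap.toSpanSingleton_apply, algebraMap_smul, LocalizedModule.smul'_mk]
      rw [show r • (Ideal.Quotient.mk q.asIdeal 1) = 0 from by
        rw [Algebra.smul_def, map_one, mul_one]; exact Ideal.Quotient.eq_zero_iff_mem.2 hr]
      exact LocalizedModule.zero_mk 1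
  rw [Module.length_eq_one_iff, isSimpleModule_iff_quot_maximal]
  exact ⟨_, IsLocalRing.maximalIdeal.isMaximal _,
    ⟨((Submodule.quotEquivOfEq _ _ hker.symm).trans (f.quotKerEquivOfSurjective hsurj)).symm⟩⟩

variable [IsLocalRing R] {M : Type u} [AddCommGroup M] [Module R M]

theorem length_step (q : PrimeSpectrum R) (N N' : Submodule R M) (hle : N' ≤ N)
    (e : (↥N ⧸ N'.submoduleOf N) ≃ₗ[R] (R ⧸ q.asIdeal)) :
    Module.length (Localization.AtPrime q.asIdeal) (LocalizedModule q.asIdeal.primeCompl ↥N) =
      Module.length (Localization.AtPrime q.asIdeal) (LocalizedModule q.asIdeal.primeCompl ↥N') + 1 := by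
  let S := q.asIdeal.primeCompl
  let g : ↥N →ₗ[R] (R ⧸ q.asIdeal) := e.toLinearMap ∘ₗ (N'.submoduleOf N).mkQ
  have hg : Function.Surjective g := e.surjective.comp (Submodule.mkQ_surjective _)
  have hex : Function.Exact (Submodule.inclusion hle) g := by
    intro z
    change e ((N'.submoduleOf N).mkQ z) = 0 ↔ z ∈ Set.range (Submodule.inclusion hle)
    rw [LinearEquiv.map_eq_zero_iff, Submodule.mkQ_apply, Submodule.Quotient.mk_eq_zero]
    exact ⟨fun h => ⟨⟨z.1, h⟩, rfl⟩, by rintro ⟨w, rfl⟩; exact w.2⟩
  rw [Module.length_eq_add_of_exact (LocalizedModule.map S (Submodule.inclusion hle))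
    (LocalizedModule.map S g) (LocalizedModule.map_injective S _ (Submodule.inclusion_injective hle))
    (LocalizedModule.map_surjective S _ hg) (LocalizedModule.map_exact S _ _ hex),
    length_loc_quot_self]

theorem spanBefore_snoc {l : ℕ} (x : Fin l → M) (y : M) {i : ℕ} (hi : i ≤ l) :
    CycDet.spanBefore R M (Fin.snoc x y) i = CycDet.spanBefore R M x i := by
  unfold CycDet.spanBefore
  congr 1
  ext m
  constructor
  · rintro ⟨j, hj, rfl⟩
    simp only [Set.mem_setOf_eq] at hj
    exact ⟨⟨j, hj.trans_le hi⟩, hj, (Fin.snoc_castSucc (α := fun _ => M) (p := x) (x := y) (i := ⟨j, hj.trans_le hi⟩)).symm⟩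
  · rintro ⟨j, hj, rfl⟩
    exact ⟨j.castSucc, hj, Fin.snoc_castSucc ..⟩

theorem spanBefore_top {l : ℕ} (x : Fin l → M) {i : ℕ} (hi : l ≤ i) :
    CycDet.spanBefore R M x i = Submodule.span R (Set.range x) := by
  unfold CycDet.spanBefore
  rw [show {j : Fin l | (j : ℕ) < i} = Set.univ from Set.eq_univ_of_forall fun j => lt_of_lt_of_le j.2 hi,
    Set.image_univ]

end Groth.Agent.S1852.Aux

namespace Groth.Agent.S1852

/-- Let R be a Noetherian local ring, M a finite R-module and 𝔮 a minimal prime of the support of M.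
There are x₁, …, x_l in M such that 𝔮 is not in the support of M/⟨x₁, …, x_l⟩ and each ⟨x₁, …,
x_i⟩/⟨x₁, …, x_{i−1}⟩ is isomorphic to R/𝔮; and for any such sequence l equals the length of M_𝔮
over R_𝔮. -/
theorem result (R : Type u) [CommRing R] [IsNoetherianRing R] [IsLocalRing R] (M : Type u) [AddCommGroup M] [Module R M] [Module.Finite R M] (q : PrimeSpectrum R) (hq : Minimal (fun p : PrimeSpectrum R => p ∈ Module.support R M) q) : (∃ (l : ℕ) (x : Fin l → M), q ∉ Module.support R (M ⧸ Submodule.span R (Set.range x)) ∧ ∀ i : Fin l, Nonempty ((↥(CycDet.spanBefore R M x (i + 1)) ⧸ (CycDet.spanBefore R M x i).submoduleOf (CycDet.spanBefore R M x (i + 1))) ≃ₗ[R] (R ⧸ q.asIdeal))) ∧ ∀ (l : ℕ) (x : Fin l → M), q ∉ Module.support R (M ⧸ Submodule.span R (Set.range x)) → (∀ i : Fin l, Nonempty ((↥(CycDet.spanBefore R M x (i + 1)) ⧸ (CycDet.spanBefore R M x i).submoduleOf (CycDet.spanBefore R M x (i + 1))) ≃ₗ[R] (R ⧸ q.asIdeal))) → (l : ℕ∞) = Module.length (Localization.AtPrime q.asIdeal) (LocalizedModule q.asIdeal.primeCompl M) :=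 by
  classical
  let good : (l : ℕ) → (Fin l → M) → Prop := fun l x => ∀ i : Fin l,
    Nonempty ((↥(CycDet.spanBefore R M x (i + 1)) ⧸ (CycDet.spanBefore R M x i).submoduleOf
      (CycDet.spanBefore R M x (i + 1))) ≃ₗ[R] (R ⧸ q.asIdeal))
  refine ⟨?_, fun l x hout hgood => ?_⟩
  · obtain ⟨N, ⟨l, x, hx, rfl⟩, hmax⟩ := WellFounded.has_min
      (r := ((· > ·) : Submodule R M → Submodule R M → Prop)) IsWellFounded.wf
      {N | ∃ (l : ℕ) (x : Fin l → M), good l x ∧ N = Submodule.span R (Set.range x)}
      ⟨_, 0, Fin.elim0, fun i => i.elim0, rfl⟩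
    refine ⟨l, x, fun hq' => ?_, hx⟩
    set N := Submodule.span R (Set.range x) with hN
    have hsub : Module.support R (M ⧸ N) ⊆ Module.support R M :=
      Module.support_subset_of_surjective N.mkQ N.mkQ_surjective
    have hmin : q.asIdeal ∈ (Module.annihilator R (M ⧸ N)).minimalPrimes := by
      refine ⟨⟨q.2, ?_⟩, fun p hp hpq => ?_⟩
      · exact Module.mem_support_iff_of_finite.1 hq'
      · exact hq.2 (y := ⟨p, hp.1⟩) (hsub (Module.mem_support_iff_of_finite.2 hp.2)) hpq
    obtain ⟨-, m, hm⟩ := (isAssociatedPrime_iff_exists_injective_linearMap q.asIdeal (M ⧸ N)).1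
      (Module.associatedPrimes.minimalPrimes_annihilator_subset_associatedPrimes R (M ⧸ N) hmin)
    obtain ⟨y, hy⟩ := N.mkQ_surjective (m 1)
    have hspan : Submodule.span R (Set.range (Fin.snoc x y)) = N ⊔ R ∙ y := by
      rw [Fin.range_snoc, Submodule.span_insert, sup_comm]
    have hyN : y ∉ N := by
      intro hyN
      have h1 : m 1 = 0 := by rw [← hy]; exact (Submodule.Quotient.mk_eq_zero N).2 hyN
      haveI := q.2
      exact one_ne_zero (α := R ⧸ q.asIdeal) (hm (h1.trans (map_zero m).symm))
    refine hmax (N ⊔ R ∙ y) ⟨l + 1, Fin.snoc x y, ?_, hspan.symm⟩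
      (left_lt_sup.2 fun h => hyN (h (Submodule.mem_span_singleton_self y)))
    intro i
    induction i using Fin.lastCases with
    | last =>
      suffices h : ∀ A B : Submodule R M, A = N ⊔ R ∙ y → B = N →
          Nonempty ((↥A ⧸ B.submoduleOf A) ≃ₗ[R] (R ⧸ q.asIdeal)) from
        h _ _ ((Groth.Agent.S1852.Aux.spanBefore_top _ (le_of_eq (by simp))).trans hspan)
          ((Groth.Agent.S1852.Aux.spanBefore_snoc x y (le_of_eq (by simp))).trans
            (Groth.Agent.S1852.Aux.spanBefore_top x (le_of_eq (by simp))))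
      rintro A B rfl rfl
      let φ : ↥(N ⊔ R ∙ y) →ₗ[R] M ⧸ N := N.mkQ ∘ₗ (N ⊔ R ∙ y).subtype
      have hker : LinearMap.ker φ = N.submoduleOf (N ⊔ R ∙ y) := by
        rw [LinearMap.ker_comp, Submodule.ker_mkQ]; rfl
      have hrange : LinearMap.range φ = LinearMap.range m := by
        rw [LinearMap.range_comp, Submodule.range_subtype, Submodule.map_sup,
          Submodule.mkQ_map_self N, bot_sup_eq, Submodule.map_span, Set.image_singleton, hy]
        refine le_antisymm ((Submodule.span_singleton_le_iff_mem _ _).2 ⟨1, rfl⟩) ?_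
        rintro _ ⟨z, rfl⟩
        obtain ⟨r, rfl⟩ := Ideal.Quotient.mk_surjective z
        refine Submodule.mem_span_singleton.2 ⟨r, ?_⟩
        rw [← map_smul, Algebra.smul_def, mul_one]; rfl
      exact ⟨(Submodule.quotEquivOfEq _ _ hker.symm).trans (φ.quotKerEquivRange.trans
        ((LinearEquiv.ofEq _ _ hrange).trans (LinearEquiv.ofInjective m hm).symm))⟩
    | cast i =>
      suffices h : ∀ A B : Submodule R M, A = CycDet.spanBefore R M x (i + 1) →
          B = CycDet.spanBefore R M x i →
          Nonempty ((↥A ⧸ B.submoduleOf A) ≃ₗ[R] (R ⧸ q.asIdeal)) from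
        h _ _ (Groth.Agent.S1852.Aux.spanBefore_snoc x y (by simp only [Fin.val_castSucc]; omega))
          (Groth.Agent.S1852.Aux.spanBefore_snoc x y (by simp only [Fin.val_castSucc]; omega))
      rintro A B rfl rfl
      exact hx i
  · let S := q.asIdeal.primeCompl
    have key : ∀ i ≤ l, Module.length (Localization.AtPrime q.asIdeal)
        (LocalizedModule S ↥(CycDet.spanBefore R M x i)) = i := by
      intro i hi
      induction i with
      | zero =>
        have : Subsingleton ↥(CycDet.spanBefore R M x 0) := by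
          rw [Submodule.subsingleton_iff_eq_bot]
          simp [CycDet.spanBefore]
        haveI : Subsingleton (LocalizedModule S ↥(CycDet.spanBefore R M x 0)) := by
          refine subsingleton_of_forall_eq 0 fun z => ?_
          induction z using LocalizedModule.induction_on with
          | h m s => rw [Subsingleton.elim m 0, LocalizedModule.zero_mk]
        rw [Module.length_eq_zero, Nat.cast_zero]
      | succ i ih =>
        obtain ⟨e⟩ := hgood ⟨i, hi⟩
        rw [Groth.Agent.S1852.Aux.length_step q (CycDet.spanBefore R M x (i + 1))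
          (CycDet.spanBefore R M x i)
          (Submodule.span_mono (Set.image_mono fun j hj => Nat.lt_succ_of_lt hj)) e, ih (by omega),
          Nat.cast_succ]
    have h := key l le_rfl
    rw [Groth.Agent.S1852.Aux.spanBefore_top x le_rfl] at h
    rw [← h]
    let N := Submodule.span R (Set.range x)
    haveI hs : Subsingleton (LocalizedModule S (M ⧸ N)) := Module.notMem_support_iff.1 hout
    rw [Module.length_eq_add_of_exact (LocalizedModule.map S N.subtype) (LocalizedModule.map S N.mkQ)
      (LocalizedModule.map_injective S _ N.injective_subtype)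
      (LocalizedModule.map_surjective S _ N.mkQ_surjective)
      (LocalizedModule.map_exact S _ _ (LinearMap.exact_subtype_mkQ N)),
      Module.length_eq_zero (M := LocalizedModule S (M ⧸ N)), add_zero]

end Groth.Agent.S1852
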