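import Groth.Statements.S18522
import Groth.Agent.Lib.ParHilb.CurvePar

set_option autoImplicit false
set_option linter.all false
universe u
open CategoryTheory CategoryTheory.Limits AlgebraicGeometry
open ParSh

namespace Groth.Agent.S18522

/-- Let k be an algebraically closed field of characteristic zero, X a smooth proper geometrically
connected curve over k (topological dimension one) of genus g ≥ 2, and I the ideal of a reduced
effective Cartier divisor on X (a finite set of points). Let E and F be finite locally free
O_X-modules of ranks r and s with parabolic structures 𝓔 and 𝓕 along I, and φ : E → F a parabolic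
homomorphism. Factor φ as an epimorphism q : E → V followed by monomorphisms u : V → V' and ι : V' →
F, where V and V' are finite locally free of the same rank r'' and the cokernel of ι is finite
locally free, so that V is the image of φ and V' the sub-bundle of F it generates. Give V the
structure induced from 𝓔 as a quotient and V' the structure induced from 𝓕 as a sub-module. Then the
parabolic degree of V is at most the parabolic degree of V' (parabolic degree in rank r'' being χ −
r''·χ(O_X) plus the sum of the weights times the Euler characteristics of the successive filtration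
quotients). The published statement is set with E carrying a semistable structure with trivial
determinant and F carrying the same weights as E; neither assumption is used. -/
theorem result (k : Type u) [Field k] [IsAlgClosed k] [CharZero k]
    (X : Scheme.{u}) [X.Over (Spec (CommRingCat.of k))]
    [IsProper (X ↘ Spec (CommRingCat.of k))] [Smooth (X ↘ Spec (CommRingCat.of k))]
    [GeometricallyConnected (X ↘ Spec (CommRingCat.of k))] (hdim : topologicalKrullDim ↥X = 1)
    (g : ℕ) (hg : Curv2.genus k X = g) (hg2 : 2 ≤ g)
    (I : X.IdealSheafData) (hD : FGA.IsEffCartier I) [AlgebraicGeometry.IsReduced I.subscheme]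
    {E F V V' : X.Modules} (r s r'' : ℕ) (hE : FlatMod.IsFinLocFreeOfRank r E)
    (hF : FlatMod.IsFinLocFreeOfRank s F)
    (𝓔 : ParSh.Str E) (h𝓔 : 𝓔.Along I) (𝓕 : ParSh.Str F) (h𝓕 : 𝓕.Along I)
    (φ : E ⟶ F) (hφ : ParSh.IsParHom 𝓔 𝓕 φ)
    (q : E ⟶ V) [Epi q] (u : V ⟶ V') [Mono u] (ι : V' ⟶ F) [Mono ι] (hfac : q ≫ u ≫ ι = φ)
    (hV : FlatMod.IsFinLocFreeOfRank r'' V) (hV' : FlatMod.IsFinLocFreeOfRank r'' V')
    (hsat : FlatMod.IsFinLocFree (cokernel ι)) :
    (𝓔.coinduced q).parDeg k X r'' ≤ (𝓕.induced ι).parDeg k X r'' := by
  haveI : ConnectedSpace X := GeometricallyConnected.connectedSpace_of_subsingleton (f := X ↘ Spec (CommRingCat.of k))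
  haveI : AlgebraicGeometry.IsIntegral X :=
    GrothLib.Euler.isIntegral_of_smooth_connected k (X ↘ Spec (CommRingCat.of k))
  subst hfac
  exact GrothLib.ParHilb.parDeg_coinduced_le_induced k hdim.le hD
    (GrothLib.Euler.isPrincipalIdealRing_stalk_of_smooth (X ↘ Spec (CommRingCat.of k)) hdim.le)
    hF hV hV' 𝓔 h𝓔 𝓕 h𝓕 q u ι hφ hsat

end Groth.Agent.S18522
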