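import Groth.Statements.S18524
import Groth.Agent.Lib.ParHilb.Sub

set_option autoImplicit false
set_option linter.all false
universe u
open CategoryTheory CategoryTheory.Limits AlgebraicGeometry
open ParSh

namespace Groth.Agent.S18524

/-- Let X be a scheme proper over a field k with an ample invertible sheaf L, and 0 → F → E → G → 0 a
short exact sequence of coherent O_X-modules. Let 𝓔 be a finite weighted filtration of E by coherent
sub-modules E = E₀ ⊇ E₁ ⊇ ⋯ ⊇ E_l ⊇ B with B coherent and weights 0 ≤ w₀ < ⋯ < w_l < 1, and give F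
the filtration pulled back along F → E and G the image filtration along E → G, so that the sequence
is a parabolic extension. Then for every natural number m the parabolic Hilbert functions are
additive: par-χ(F, m) + par-χ(G, m) = par-χ(E, m), where par-χ(E, m) = χ(B ⊗ L^m) + Σ_j w_j (χ(E_j ⊗
L^m) − χ(E_{j+1} ⊗ L^m)) with E_{l+1} = B. The published statement is for parabolic sheaves along
effective Cartier divisors D on a projective scheme over an algebraically closed field, with B =
E(−D) and the functions averaged over several divisors; the identity holds for each weighted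
filtration separately, over any field and for any coherent bottom piece. -/
theorem result (k : Type u) [Field k] (X : Scheme.{u})
    [X.Over (Spec (CommRingCat.of k))] [IsProper (X ↘ Spec (CommRingCat.of k))]
    (L : X.Modules) (hL : CohB1.IsAmple L) {F E G : X.Modules}
    (hF : Coh.IsCoh F) (hE : Coh.IsCoh E) (hG : Coh.IsCoh G)
    (i : F ⟶ E) (p : E ⟶ G) [Epi p] (𝓕 : ParSh.Str F) (𝓔 : ParSh.Str E) (𝓖 : ParSh.Str G)
    (hext : ParSh.IsParExt i p 𝓕 𝓔 𝓖)
    (hcoh : ∀ j, Coh.IsCoh ((𝓔.piece j : Subobject E) : X.Modules))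
    (hbot : Coh.IsCoh ((𝓔.bot : Subobject E) : X.Modules)) (m : ℕ) :
    𝓕.parHilb k X L m + 𝓖.parHilb k X L m = 𝓔.parHilb k X L m := by
  obtain ⟨w, hS, rfl, rfl⟩ := hext
  haveI := GrothLib.Euler.isNoetherian_of_proper (X := X) k
  haveI : Mono i := hS.mono_f
  have key : ∀ P : Subobject E, Coh.IsCoh (P : X.Modules) →
      (Curv2.euler k X (ShStab.twist X L ((Subobject.pullback i).obj P : X.Modules) m) : ℝ) +
        (Curv2.euler k X (ShStab.twist X L (imageSubobject (P.arrow ≫ p) : X.Modules) m) : ℝ) =
        (Curv2.euler k X (ShStab.twist X L (P : X.Modules) m) : ℝ) := by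
    intro P hP
    have hp := Subobject.isPullback i P
    haveI : Mono (Subobject.pullbackπ i P) := hp.mono_fst_of_mono
    let q := factorThruImageSubobject (P.arrow ≫ p)
    have hz : Subobject.pullbackπ i P ≫ q = 0 := by
      rw [← cancel_mono (imageSubobject (P.arrow ≫ p)).arrow, Category.assoc, imageSubobject_arrow_comp, zero_comp,
        ← Category.assoc, hp.w, Category.assoc, w, comp_zero]
    have hT : (ShortComplex.mk (Subobject.pullbackπ i P) q hz).ShortExact := by
      refine ShortComplex.ShortExact.mk' (ShortComplex.exact_of_f_is_kernel _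
        (KernelFork.IsLimit.ofι' _ _ fun {T} a ha => ?_)) inferInstance inferInstance
      have h0 : (a ≫ P.arrow) ≫ p = 0 := by
        calc (a ≫ P.arrow) ≫ p = a ≫ q ≫ (imageSubobject (P.arrow ≫ p)).arrow :=
              (Category.assoc _ _ _).trans (congrArg (a ≫ ·) (imageSubobject_arrow_comp _).symm)
          _ = 0 := by rw [← Category.assoc, ha, zero_comp]
      let l := KernelFork.IsLimit.lift' hS.fIsKernel (a ≫ P.arrow) h0
      exact ⟨hp.lift a l.1 l.2.symm, hp.lift_fst _ _ _⟩
    have hA : Coh.IsCoh ((Subobject.pullback i).obj P : X.Modules) :=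
      GrothLib.ParHilb.isCoh_pullback k i hF hE hP
    have hC : Coh.IsCoh (imageSubobject (P.arrow ≫ p) : X.Modules) :=
      GrothLib.QCoh.isCoh_of_iso (imageSubobjectIso _ ≪≫ (Abelian.imageIsoImage _).symm).symm
        (GrothLib.Hilb20.isCoh_image (k := k) _ hP hG)
    have e := GrothLib.Hilb20.eq_add_of_shortExact (k := k) hL.1 hT hA hP hC
      (GrothLib.Hilb20.isHilbPoly_hp k hL hA) (GrothLib.Hilb20.isHilbPoly_hp k hL hP)
      (GrothLib.Hilb20.isHilbPoly_hp k hL hC)
    have v : ∀ (M : X.Modules), Coh.IsCoh M → (Curv2.euler k X (ShStab.twist X L M m) : ℝ) =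
        (((GrothLib.Hilb20.hp k L M).eval (m : ℚ) : ℚ) : ℝ) := fun M hM => by
      rw [← GrothLib.Hilb20.isHilbPoly_hp k hL hM m]; simp
    rw [v _ hA, v _ hC, v _ hP, e]
    simp
  simp only [ParSh.Str.parHilb, ParSh.Str.parSum]
  have hX : ∀ j, Coh.IsCoh ((𝓔.pieceX j : Subobject E) : X.Modules) := fun j => by
    induction j using Fin.lastCases with
    | last => rw [𝓔.pieceX_last]; exact hbot
    | cast j => rw [𝓔.pieceX_castSucc]; exact hcoh j
  have hco : ∀ j : Fin (𝓔.l + 2), (𝓔.coinduced p).pieceX j = imageSubobject ((𝓔.pieceX j).arrow ≫ p) := fun (j : Fin (𝓔.l + 2)) => by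
    induction j using Fin.lastCases with
    | last => rw [𝓔.pieceX_last]; exact (𝓔.coinduced p).pieceX_last
    | cast j => rw [𝓔.pieceX_castSucc]; exact (𝓔.coinduced p).pieceX_castSucc j
  rw [← key 𝓔.bot hbot, add_add_add_comm]
  congr 1
  show (∑ j : Fin (𝓔.l + 1), 𝓔.wt j * _) + (∑ j : Fin (𝓔.l + 1), 𝓔.wt j * _) = _
  rw [← Finset.sum_add_distrib]
  refine Finset.sum_congr rfl fun j _ => ?_
  rw [← key _ (hcoh j), ← key _ (hX j.succ)]
  erw [GrothLib.ParHilb.pieceX_induced, hco]
  simp only [ParSh.Str.induced, ParSh.Str.coinduced]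
  ring

end Groth.Agent.S18524
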