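import Groth.Statements.S18525
import Groth.Agent.Lib.ParHilb.Basic

set_option autoImplicit false
set_option linter.all false
universe u
open CategoryTheory CategoryTheory.Limits AlgebraicGeometry Polynomial
open ParSh

namespace Groth.Agent.S18525

/-- Let X be a scheme proper over a field k with an ample invertible sheaf L, I the ideal of an
effective Cartier divisor D on X, and E a coherent O_X-module with a finite weighted filtration 𝓔
along I: coherent pieces E = E₀ ⊇ E₁ ⊇ ⋯ ⊇ E_l ⊇ E_{l+1} = I·E and weights 0 ≤ w₀ < ⋯ < w_l < 1. Let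
d be a natural number such that Supp E ∩ Supp D has topological Krull dimension less than d. If P is
the Hilbert polynomial of E with respect to L and P_j that of the piece E_j (0 ≤ j ≤ l+1), then the
real polynomial P_{l+1} + Σ_{j ≤ l} w_j (P_j − P_{j+1}) — whose value at a natural number m is the
parabolic Hilbert function χ(E_{l+1}(m)) + Σ_j w_j (χ(E_j(m)) − χ(E_{j+1}(m))) — has the same
coefficient as P in every degree n ≥ d. The published statement takes k algebraically closed, E pure
of dimension d and L very ample, and concludes that the parabolic Hilbert polynomial has the same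
leading term as P; purity is not needed for the comparison of coefficients. -/
theorem result (k : Type u) [Field k] (X : Scheme.{u})
    [X.Over (Spec (CommRingCat.of k))] [IsProper (X ↘ Spec (CommRingCat.of k))]
    (L : X.Modules) (hL : CohB1.IsAmple L) (I : X.IdealSheafData) (hD : FGA.IsEffCartier I)
    (E : X.Modules) (hE : Coh.IsCoh E) (𝓔 : ParSh.Str E) (h𝓔 : 𝓔.Along I)
    (hcoh : ∀ j, Coh.IsCoh ((𝓔.pieceX j : Subobject E) : X.Modules)) (d : ℕ)
    (hsupp : topologicalKrullDim ↥(CohB1.support E ∩ (I.support : Set X)) < (d : WithBot ℕ∞))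
    (P : ℚ[X]) (hP : ShStab.IsHilbPoly k X L E P) (PX : Fin (𝓔.l + 2) → ℚ[X])
    (hPX : ∀ j, ShStab.IsHilbPoly k X L ((𝓔.pieceX j : Subobject E) : X.Modules) (PX j))
    (n : ℕ) (hn : d ≤ n) :
    (W4swparbununimod.parPoly 𝓔 PX).coeff n = (W4swparbununimod.rpoly P).coeff n := by
  exact GrothLib.ParHilb.coeff_parPoly hL hE 𝓔 h𝓔 hcoh hsupp hP hPX n hn

end Groth.Agent.S18525
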