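import Groth.Statements.S18527
import Groth.Agent.Lib.ParHilb.Basic

set_option autoImplicit false
set_option linter.all false
universe u
open CategoryTheory CategoryTheory.Limits AlgebraicGeometry Polynomial
open ParSh

namespace Groth.Agent.S18527

/-- An upper and a lower bound for the second coefficient of the parabolic Hilbert polynomial. Let X be
a scheme proper over a field k with an ample invertible sheaf L, I the ideal of an effective Cartier
divisor D on X, and E a coherent O_X-module with a finite weighted filtration 𝓔 along I by coherent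
pieces E = E₀ ⊇ ⋯ ⊇ E_l ⊇ E_{l+1} = I·E, weights 0 ≤ w₀ < ⋯ < w_l < 1. Let d ≥ 1 be a natural number
with Supp E ∩ Supp D of topological Krull dimension less than d, P the Hilbert polynomial of E with
respect to L and P_j that of E_j (0 ≤ j ≤ l+1). Then the coefficient of degree d − 1 of the
parabolic Hilbert polynomial P_{l+1} + Σ_{j ≤ l} w_j (P_j − P_{j+1}) is at least the coefficient of
degree d − 1 of P_{l+1} and at most that of P. For E pure of dimension d this says that the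
parabolic slope lies between the slope of E(−D) and the slope of E; the published statement also
gives a lower bound μ(E) − b with b depending only on a bound for the multiplicity of E, on d, D and
L, which is not part of this row. -/
theorem result (k : Type u) [Field k] (X : Scheme.{u})
    [X.Over (Spec (CommRingCat.of k))] [IsProper (X ↘ Spec (CommRingCat.of k))]
    (L : X.Modules) (hL : CohB1.IsAmple L) (I : X.IdealSheafData) (hD : FGA.IsEffCartier I)
    (E : X.Modules) (hE : Coh.IsCoh E) (𝓔 : ParSh.Str E) (h𝓔 : 𝓔.Along I)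
    (hcoh : ∀ j, Coh.IsCoh ((𝓔.pieceX j : Subobject E) : X.Modules)) (d : ℕ) (hd : 1 ≤ d)
    (hsupp : topologicalKrullDim ↥(CohB1.support E ∩ (I.support : Set X)) < (d : WithBot ℕ∞))
    (P : ℚ[X]) (hP : ShStab.IsHilbPoly k X L E P) (PX : Fin (𝓔.l + 2) → ℚ[X])
    (hPX : ∀ j, ShStab.IsHilbPoly k X L ((𝓔.pieceX j : Subobject E) : X.Modules) (PX j)) :
    (W4swparbununimod.rpoly (PX (Fin.last (𝓔.l + 1)))).coeff (d - 1) ≤ (W4swparbununimod.parPoly 𝓔 PX).coeff (d - 1) ∧
      (W4swparbununimod.parPoly 𝓔 PX).coeff (d - 1) ≤ (W4swparbununimod.rpoly P).coeff (d - 1) := by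
  obtain ⟨_, H, _, hH⟩ := GrothLib.ParHilb.exists_hilbPolys (k := k) hL hE 𝓔 hcoh
  rw [GrothLib.ParHilb.parPoly_eq hL hE 𝓔 hcoh hP hPX hH]
  have hlast := GrothLib.ParHilb.poly_eq_add hL hE (hcoh (Fin.last _)) hP (hPX _) (hH _)
  have hdim : ∀ j, GrothLib.Snapper.DimLT (CohB1.support (cokernel (𝓔.pieceX j).arrow)) d := fun j =>
    (GrothLib.ParHilb.dimLT_of_dim_lt hsupp).mono (GrothLib.ParHilb.support_cokernel_pieceX 𝓔 h𝓔 j)
  have h0 : ∀ j, (0 : ℝ) ≤ (((H j).coeff (d - 1) : ℚ) : ℝ) := fun j => by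
    exact_mod_cast GrothLib.ParHilb.coeff_pred_nonneg hL (GrothLib.ParHilb.isCoh_cokernel_arrow k hE (hcoh j)) hd (hdim j) (hH j)
  have hle : ∀ j, (((H j).coeff (d - 1) : ℚ) : ℝ) ≤ (((H (Fin.last _)).coeff (d - 1) : ℚ) : ℝ) := fun j => by
    refine Rat.cast_le.2 (GrothLib.ParHilb.coeff_quotient_le (k := k) hL hE ?_ (hcoh _) (hcoh j) hd (hdim _) (hH _) (hH j))
    rw [𝓔.pieceX_last]; exact 𝓔.bot_le_pieceX j
  have hwm : ∀ j : Fin (𝓔.l + 1), 0 ≤ 𝓔.wtX j.succ - 𝓔.wtX j.castSucc := fun j => by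
    induction j using Fin.lastCases with
    | last => rw [𝓔.wtX_castSucc, Fin.succ_last, 𝓔.wtX_last]; linarith [𝓔.wt_lt_one]
    | cast i =>
      rw [Fin.succ_castSucc, 𝓔.wtX_castSucc, 𝓔.wtX_castSucc]
      linarith [𝓔.wt_strictMono.monotone (Fin.castSucc_lt_succ (i := i)).le]
  have hsum : ∑ j : Fin (𝓔.l + 1), (𝓔.wtX j.succ - 𝓔.wtX j.castSucc) = 1 - 𝓔.wt 0 := by
    have h1 := Fin.sum_univ_succ fun i => 𝓔.wtX i
    have h2 := Fin.sum_univ_castSucc fun i => 𝓔.wtX i
    rw [Finset.sum_sub_distrib]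
    rw [𝓔.wtX_last] at h2
    rw [show 𝓔.wtX 0 = 𝓔.wt 0 from 𝓔.wtX_castSucc 0] at h1
    linarith
  simp only [W4swparbununimod.rpoly, Polynomial.coeff_sub, Polynomial.finsetSum_coeff, Polynomial.coeff_C_mul,
    Polynomial.coeff_map, Rat.coe_castHom]
  constructor
  · have hb : ∑ j : Fin (𝓔.l + 1), (𝓔.wtX j.succ - 𝓔.wtX j.castSucc) * ((H j.succ).coeff (d - 1) : ℝ) ≤
        ((H (Fin.last _)).coeff (d - 1) : ℝ) :=
      calc _ ≤ ∑ j : Fin (𝓔.l + 1), (𝓔.wtX j.succ - 𝓔.wtX j.castSucc) * ((H (Fin.last _)).coeff (d - 1) : ℝ) :=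
            Finset.sum_le_sum fun j _ => mul_le_mul_of_nonneg_left (hle _) (hwm j)
        _ ≤ _ := by
            rw [← Finset.sum_mul, hsum]
            exact mul_le_of_le_one_left (h0 _) (by linarith [𝓔.wt_nonneg])
    have e : (P.coeff (d - 1) : ℝ) = ((PX (Fin.last _)).coeff (d - 1) : ℝ) + ((H (Fin.last _)).coeff (d - 1) : ℝ) := by
      rw [hlast, Polynomial.coeff_add]; push_cast; ring
    linarith
  · exact sub_le_self _ (Finset.sum_nonneg fun j _ => mul_nonneg (hwm j) (h0 _))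

end Groth.Agent.S18527
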