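import Groth.Statements.S18529
import Groth.Agent.Lib.ParHilb.KerIm

set_option autoImplicit false
set_option linter.all false
universe u
open CategoryTheory CategoryTheory.Limits AlgebraicGeometry Polynomial
open ParSh

namespace Groth.Agent.S18529

/-- Kernel and image of a parabolic homomorphism between semistable parabolic sheaves with the same
reduced parabolic Hilbert polynomial, for one divisor. Let X be a scheme proper over a field k with
an ample invertible sheaf L, I the ideal of an effective Cartier divisor D on X, and d ≥ 1. Let E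
and F be nonzero coherent O_X-modules, pure of dimension d, with Supp E ∩ Supp D and Supp F ∩ Supp D
of topological Krull dimension less than d, carrying finite weighted filtrations 𝓔 and 𝓕 along I by
coherent pieces, with the same set of weights and with smallest weight positive. Let P and R be the
Hilbert polynomials of E and F, P_j and R_j those of the pieces, and Par_E = P_{l+1} + Σ_j w_j (P_j
− P_{j+1}), Par_F likewise; α_d denotes d! times the coefficient of degree d. Assume both filtered
sheaves are semistable for the reduced parabolic Hilbert polynomial: for every nonzero coherent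
sub-module W → E whose cokernel is pure of dimension d or zero, with its induced filtration and any
Hilbert polynomials Q of W and Q_j of its pieces, Par_W(m)·α_d(P) ≤ Par_E(m)·α_d(Q) for all large
natural m (and the same for F); and assume Par_E·α_d(R) = Par_F·α_d(P). Let f : E → F be a parabolic
homomorphism, j : K → E a monomorphism with 0 → K → E → F exact at E, and f = q ≫ u with q : E → V
an epimorphism and u : V → F a monomorphism. Then: (1) for all Hilbert polynomials Q_K of K and
Q_{K,j} of the pieces of the filtration induced on K, Par_K·α_d(P) = Par_E·α_d(Q_K) (the kernel has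
the same reduced parabolic Hilbert polynomial); (2) the cokernel of u is pure of dimension d or zero
(the image of f is saturated in F); (3) for every real a with 0 ≤ a ≤ 1, the a-th piece of the
filtration induced on V as a quotient of E equals the a-th piece of the filtration induced on V as a
sub-module of F. The published statement is phrased for parabolic sheaves along several divisors on
the fibres of a projective X → S over an algebraically closed field and concludes that such sheaves
form an abelian category; this row is the absolute one-divisor case of the kernel and image steps of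
its proof, with semistability tested on saturated sub-modules carrying the induced filtration. -/
theorem result (k : Type u) [Field k] (X : Scheme.{u})
    [X.Over (Spec (CommRingCat.of k))] [IsProper (X ↘ Spec (CommRingCat.of k))]
    (L : X.Modules) (hL : CohB1.IsAmple L) (I : X.IdealSheafData) (hD : FGA.IsEffCartier I) (d : ℕ) (hd : 1 ≤ d)
    {E F : X.Modules} (hE : Coh.IsCoh E) (hF : Coh.IsCoh F) (hE0 : ¬ IsZero E) (hF0 : ¬ IsZero F)
    (hEp : ShStab.IsPure X E d) (hFp : ShStab.IsPure X F d)
    (hEs : topologicalKrullDim ↥(CohB1.support E ∩ (I.support : Set X)) < (d : WithBot ℕ∞))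
    (hFs : topologicalKrullDim ↥(CohB1.support F ∩ (I.support : Set X)) < (d : WithBot ℕ∞))
    (𝓔 : ParSh.Str E) (h𝓔 : 𝓔.Along I) (𝓕 : ParSh.Str F) (h𝓕 : 𝓕.Along I)
    (hcE : ∀ j, Coh.IsCoh ((𝓔.pieceX j : Subobject E) : X.Modules))
    (hcF : ∀ j, Coh.IsCoh ((𝓕.pieceX j : Subobject F) : X.Modules))
    (hw : Set.range 𝓕.wt = Set.range 𝓔.wt) (hw0 : 0 < 𝓔.wt 0)
    (P R : ℚ[X]) (hP : ShStab.IsHilbPoly k X L E P) (hR : ShStab.IsHilbPoly k X L F R)
    (PX : Fin (𝓔.l + 2) → ℚ[X]) (hPX : ∀ j, ShStab.IsHilbPoly k X L ((𝓔.pieceX j : Subobject E) : X.Modules) (PX j))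
    (RX : Fin (𝓕.l + 2) → ℚ[X]) (hRX : ∀ j, ShStab.IsHilbPoly k X L ((𝓕.pieceX j : Subobject F) : X.Modules) (RX j))
    (hssE : (∀ (W : X.Modules) (ι : W ⟶ E), Mono ι → Coh.IsCoh W → ¬ IsZero W → ShStab.IsPure X (cokernel ι) d →
        ∀ (Q : ℚ[X]) (QX : Fin (𝓔.l + 2) → ℚ[X]), ShStab.IsHilbPoly k X L W Q →
          (∀ j, ShStab.IsHilbPoly k X L (((𝓔.induced ι).pieceX j : Subobject W) : X.Modules) (QX j)) →
          ∃ M : ℕ, ∀ m : ℕ, M ≤ m →
            (W4swparbununimod.parPoly (𝓔.induced ι) QX).eval (m : ℝ) * (StabCat.alpha d P : ℝ) ≤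
              (W4swparbununimod.parPoly 𝓔 PX).eval (m : ℝ) * (StabCat.alpha d Q : ℝ)))
    (hssF : (∀ (W : X.Modules) (ι : W ⟶ F), Mono ι → Coh.IsCoh W → ¬ IsZero W → ShStab.IsPure X (cokernel ι) d →
        ∀ (Q : ℚ[X]) (QX : Fin (𝓕.l + 2) → ℚ[X]), ShStab.IsHilbPoly k X L W Q →
          (∀ j, ShStab.IsHilbPoly k X L (((𝓕.induced ι).pieceX j : Subobject W) : X.Modules) (QX j)) →
          ∃ M : ℕ, ∀ m : ℕ, M ≤ m →
            (W4swparbununimod.parPoly (𝓕.induced ι) QX).eval (m : ℝ) * (StabCat.alpha d R : ℝ) ≤
              (W4swparbununimod.parPoly 𝓕 RX).eval (m : ℝ) * (StabCat.alpha d Q : ℝ)))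
    (hred : W4swparbununimod.parPoly 𝓔 PX * Polynomial.C (StabCat.alpha d R : ℝ) =
      W4swparbununimod.parPoly 𝓕 RX * Polynomial.C (StabCat.alpha d P : ℝ))
    (f : E ⟶ F) (hf : ParSh.IsParHom 𝓔 𝓕 f)
    {K V : X.Modules} (j : K ⟶ E) [Mono j] (w : j ≫ f = 0) (hex : (ShortComplex.mk j f w).Exact)
    (q : E ⟶ V) [Epi q] (u : V ⟶ F) [Mono u] (hqu : q ≫ u = f) :
    (∀ (QK : ℚ[X]) (QKX : Fin (𝓔.l + 2) → ℚ[X]), ShStab.IsHilbPoly k X L K QK →
        (∀ j', ShStab.IsHilbPoly k X L (((𝓔.induced j).pieceX j' : Subobject K) : X.Modules) (QKX j')) →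
        W4swparbununimod.parPoly (𝓔.induced j) QKX * Polynomial.C (StabCat.alpha d P : ℝ) =
          W4swparbununimod.parPoly 𝓔 PX * Polynomial.C (StabCat.alpha d QK : ℝ)) ∧
    ShStab.IsPure X (cokernel u) d ∧
    (∀ a : ℝ, 0 ≤ a → a ≤ 1 → (𝓔.coinduced q).at a = (𝓕.induced u).at a) := by
  haveI := GrothLib.Euler.isNoetherian_of_proper (X := X) k
  have hl : 𝓕.l = 𝓔.l := by
    have h1 := Set.ncard_range_of_injective 𝓕.wt_strictMono.injective
    have h2 := Set.ncard_range_of_injective 𝓔.wt_strictMono.injective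
    rw [hw] at h1
    simp only [Nat.card_eq_fintype_card, Fintype.card_fin] at h1 h2
    omega
  obtain ⟨lF, pF, bF, wF, a1, a2, a3, a4, a5, a6⟩ := 𝓕
  dsimp only at hl
  subst hl
  dsimp only at hw
  have hwF : wF = 𝓔.wt := (a4.range_inj 𝓔.wt_strictMono).1 hw
  subst hwF
  exact GrothLib.ParHilb.kernel_image_eq hL hE hF hE0 hF0 hEp hFp 𝓔 pF bF a1 a2 a3 a4 a5 a6 hcE hcF hw0 P R hP hR PX hPX RX hRX hssE hssF hred f hf j w hex q u hqu

end Groth.Agent.S18529
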