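import Groth.Statements.S1853
import Groth.Agent.Lib.CycDetL.LatticeLen
-- import your own Groth.Agent.* helpers here

set_option autoImplicit false
universe u
open CycDet

namespace Groth.Agent.S1853


theorem _root_.GrothLib.CycDetL.spanBefore_succ' {R : Type u} [CommRing R] {M : Type u} [AddCommGroup M] [Module R M]
    {l : ℕ} (e : Fin l → M) (i : Fin l) :
    CycDet.spanBefore R M e ((i : ℕ) + 1) = CycDet.spanBefore R M e i ⊔ R ∙ e i := by
  simp only [CycDet.spanBefore]
  rw [← Submodule.span_union, ← Set.image_singleton, ← Set.image_union]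
  congr 2
  ext x
  simp only [Set.mem_ofPred_eq, Set.mem_union, Set.mem_singleton_iff, Fin.ext_iff]
  omega

open GrothLib.CycDetL CycDet

/-- A filtration with all quotients `R ⧸ q` has saturated steps and strict entries. -/
theorem saturated_of_quotients {R : Type u} [CommRing R] (q : Ideal R) [q.IsPrime] {M : Type u}
    [AddCommGroup M] [Module R M] {l : ℕ} (x : Fin l → M) (hx : Submodule.span R (Set.range x) = ⊤)
    (hxq : ∀ i : Fin l, Nonempty ((↥(spanBefore R M x (i + 1)) ⧸
      (spanBefore R M x i).submoduleOf (spanBefore R M x (i + 1))) ≃ₗ[R] (R ⧸ q))) :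
    (∀ (i : Fin l) (r : R), r ∈ q → r • x i ∈ spanBefore R M x i) ∧ (∀ i : Fin l, x i ∉ spanBefore R M x i) ∧
      ∀ (n : ℕ), n ≤ l → ∀ (s : R), s ∉ q → ∀ m : M, s • m ∈ spanBefore R M x n → m ∈ spanBefore R M x n := by
  have hkill : ∀ (i : Fin l) (r : R), r ∈ q → ∀ m ∈ spanBefore R M x ((i : ℕ) + 1),
      r • m ∈ spanBefore R M x i := by
    intro i r hr m hm
    obtain ⟨e⟩ := hxq i
    have h0 : r • (Submodule.Quotient.mk (⟨m, hm⟩ : spanBefore R M x ((i : ℕ) + 1)) :
        ↥(spanBefore R M x (i + 1)) ⧸ (spanBefore R M x i).submoduleOf (spanBefore R M x (i + 1))) = 0 := by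
      apply e.injective
      rw [map_smul, map_zero]
      obtain ⟨c, hc⟩ := Submodule.Quotient.mk_surjective q (e (Submodule.Quotient.mk ⟨m, hm⟩))
      rw [← hc, ← Submodule.Quotient.mk_smul, Submodule.Quotient.mk_eq_zero, smul_eq_mul]
      exact q.mul_mem_right _ hr
    rw [← Submodule.Quotient.mk_smul, Submodule.Quotient.mk_eq_zero] at h0
    exact h0
  have hsat : ∀ (i : Fin l) (s : R), s ∉ q → ∀ m ∈ spanBefore R M x ((i : ℕ) + 1),
      s • m ∈ spanBefore R M x i → m ∈ spanBefore R M x i := by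
    intro i s hs m hm hsm
    obtain ⟨e⟩ := hxq i
    set z := (Submodule.Quotient.mk (⟨m, hm⟩ : spanBefore R M x ((i : ℕ) + 1)) :
      ↥(spanBefore R M x (i + 1)) ⧸ (spanBefore R M x i).submoduleOf (spanBefore R M x (i + 1)))
    suffices z = 0 by
      exact (Submodule.Quotient.mk_eq_zero ((spanBefore R M x i).submoduleOf (spanBefore R M x ((i : ℕ) + 1)))).1 this
    have hsz : s • z = 0 := by
      rw [← Submodule.Quotient.mk_smul, Submodule.Quotient.mk_eq_zero]
      exact hsm
    apply e.injective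
    have h1 : s • e z = 0 := by rw [← map_smul, hsz, map_zero]
    obtain ⟨c, hc⟩ := Submodule.Quotient.mk_surjective q (e z)
    rw [map_zero, ← hc, Submodule.Quotient.mk_eq_zero]
    rw [← hc, ← Submodule.Quotient.mk_smul, Submodule.Quotient.mk_eq_zero, smul_eq_mul] at h1
    exact (Ideal.IsPrime.mem_or_mem inferInstance h1).resolve_left hs
  refine ⟨fun i r hr => hkill i r hr _ (mem_spanBefore_succ_self' x i), fun i hi => ?_, ?_⟩
  · obtain ⟨e⟩ := hxq i
    have hle : spanBefore R M x ((i : ℕ) + 1) ≤ spanBefore R M x i := by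
      refine Submodule.span_le.2 ?_
      rintro _ ⟨j, hj, rfl⟩
      rcases Nat.lt_succ_iff_lt_or_eq.1 hj with hlt | heq
      · exact Submodule.subset_span ⟨j, hlt, rfl⟩
      · obtain rfl : j = i := Fin.ext heq
        exact hi
    haveI : Subsingleton (↥(spanBefore R M x (i + 1)) ⧸
        (spanBefore R M x i).submoduleOf (spanBefore R M x (i + 1))) :=
      Submodule.Quotient.subsingleton_iff.2 (eq_top_iff.2 fun z _ => hle z.2)
    haveI : Subsingleton (R ⧸ q) := e.symm.toEquiv.subsingleton
    exact Ideal.IsPrime.ne_top inferInstance (Ideal.Quotient.subsingleton_iff.1 this)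
  · intro n hn
    induction hn using Nat.decreasingInduction with
    | self =>
      intro s _ m _
      have : spanBefore R M x l = ⊤ := by simp [spanBefore, ← Set.image_univ, ← hx]
      rw [this]; trivial
    | of_succ n hn ih =>
      intro s hs m hm
      refine hsat ⟨n, hn⟩ s hs m (ih s hs m ?_) hm
      have hle : spanBefore R M x n ≤ spanBefore R M x (n + 1) :=
        Submodule.span_mono (Set.image_mono fun j (hj : (j : ℕ) < n) => Nat.lt_succ_of_lt hj)
      exact hle hm
where
  mem_spanBefore_succ_self' {R : Type u} [CommRing R] {M : Type u} [AddCommGroup M] [Module R M] {l : ℕ}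
      (x : Fin l → M) (i : Fin l) : x i ∈ spanBefore R M x ((i : ℕ) + 1) :=
    Submodule.subset_span ⟨i, Nat.lt_succ_self _, rfl⟩

variable {R : Type u} [CommRing R] {q : Ideal R} [q.IsPrime] {M : Type u} [AddCommGroup M] [Module R M]
  {l : ℕ} {x : Fin l → M}

theorem spanBefore_loc (n : ℕ) :
    spanBefore (Localization.AtPrime q) (LocalizedModule q.primeCompl M)
        (fun i => LocalizedModule.mkLinearMap q.primeCompl M (x i)) n =
      (spanBefore R M x n).localized' (Localization.AtPrime q) q.primeCompl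
        (LocalizedModule.mkLinearMap q.primeCompl M) := by
  rw [spanBefore, spanBefore, Submodule.localized'_span, Set.image_image]

theorem sat_spanBefore (hsat : ∀ (n : ℕ), n ≤ l → ∀ (s : R), s ∉ q → ∀ m : M,
      s • m ∈ spanBefore R M x n → m ∈ spanBefore R M x n) {n : ℕ} (hn : n ≤ l) :
    GrothLib.CycDetL.sat q M (spanBefore (Localization.AtPrime q) (LocalizedModule q.primeCompl M)
      (fun i => LocalizedModule.mkLinearMap q.primeCompl M (x i)) n) = spanBefore R M x n := by
  ext m
  rw [GrothLib.CycDetL.mem_sat, spanBefore_loc, Submodule.mem_localized']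
  constructor
  · rintro ⟨b, hb, s, hs⟩
    have h1 := (IsLocalizedModule.mk'_eq_iff (f := LocalizedModule.mkLinearMap q.primeCompl M)).1 hs
    rw [Submonoid.smul_def, ← map_smul] at h1
    obtain ⟨t, ht⟩ := (IsLocalizedModule.eq_iff_exists q.primeCompl
      (LocalizedModule.mkLinearMap q.primeCompl M)).1 h1
    simp only [Submonoid.smul_def] at ht
    refine hsat n hn s s.2 m (hsat n hn t t.2 _ ?_)
    rw [← ht]
    exact Submodule.smul_mem _ _ hb
  · intro hm
    exact ⟨m, hm, 1, IsLocalizedModule.mk'_one _ _ _⟩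

theorem loc_data (hx : Submodule.span R (Set.range x) = ⊤)
    (hq' : ∀ (i : Fin l) (r : R), r ∈ q → r • x i ∈ spanBefore R M x i)
    (hstr : ∀ i : Fin l, x i ∉ spanBefore R M x i)
    (hsat : ∀ (n : ℕ), n ≤ l → ∀ (s : R), s ∉ q → ∀ m : M,
      s • m ∈ spanBefore R M x n → m ∈ spanBefore R M x n) :
    ∃ e : Adm (Localization.AtPrime q) (LocalizedModule q.primeCompl M) l,
      (e.1 = fun i => LocalizedModule.mkLinearMap q.primeCompl M (x i)) ∧
      Submodule.span (Localization.AtPrime q) (Set.range e.1) = ⊤ ∧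
      Strict (R := Localization.AtPrime q) e.1 ∧
      Module.length (Localization.AtPrime q) (LocalizedModule q.primeCompl M) = (l : ℕ∞) := by
  have hadm : IsAdmissible (Localization.AtPrime q) (LocalizedModule q.primeCompl M)
      (fun i => LocalizedModule.mkLinearMap q.primeCompl M (x i)) := by
    intro i c hc
    obtain ⟨r, s, rfl⟩ := IsLocalization.exists_mk'_eq q.primeCompl c
    replace hc := (IsLocalization.AtPrime.mk'_mem_maximal_iff (Localization.AtPrime q) q r s).1 hc
    rw [IsLocalization.mk'_eq_mul_mk'_one (S := Localization.AtPrime q), mul_comm, mul_smul, algebraMap_smul, ← map_smul]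
    refine Submodule.smul_mem _ _ ?_
    rw [spanBefore_loc, Submodule.mem_localized']
    exact ⟨r • x i, hq' i r hc, 1, IsLocalizedModule.mk'_one _ _ _⟩
  let e : Adm (Localization.AtPrime q) (LocalizedModule q.primeCompl M) l := ⟨_, hadm⟩
  have hspan : Submodule.span (Localization.AtPrime q) (Set.range e.1) = ⊤ := by
    rw [← GrothLib.CycDetL.spanBefore_last]
    show spanBefore (Localization.AtPrime q) (LocalizedModule q.primeCompl M)
      (fun i => LocalizedModule.mkLinearMap q.primeCompl M (x i)) l = ⊤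
    rw [spanBefore_loc, show spanBefore R M x l = ⊤ by rw [← hx]; simp [spanBefore, ← Set.image_univ],
      Submodule.localized'_top]
  have hs : Strict (R := Localization.AtPrime q) e.1 := fun i hi => by
    refine hstr i ?_
    rw [← sat_spanBefore hsat i.2.le]
    exact hi
  refine ⟨e, rfl, hspan, hs, ?_⟩
  have := (length_spanBefore_le e le_rfl).2.1 fun i _ => hs i
  rw [GrothLib.CycDetL.spanBefore_last, hspan, Module.length_top] at this
  exact this

theorem map_spanBefore' {N : Type u} [AddCommGroup N] [Module R N] (φ : M →ₗ[R] N) (n : ℕ) :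
    (spanBefore R M x n).map φ = spanBefore R N (fun i => φ (x i)) n := by
  rw [spanBefore, spanBefore, Submodule.map_span, Set.image_image]


/-- Let R be Noetherian local, 𝔮 a prime with dim R/𝔮 = 1, and φ : M → N a map of finite modules
generated by x₁, …, x_l and y₁, …, y_l respectively, with all successive quotients
⟨x₁..x_i⟩/⟨x₁..x_{i−1}⟩ and ⟨y₁..y_i⟩/⟨y₁..y_{i−1}⟩ isomorphic to R/𝔮. Then φ is injective iff φ_𝔮
is bijective; and in that case, if the symbols of (φ(x_i)) and (y_i) in det_{κ(𝔮)}(N_𝔮) differ by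
the scalar f, the length of coker φ equals ord_{R/𝔮}(f). -/
theorem result (R : Type u) [CommRing R] [IsNoetherianRing R] [IsLocalRing R] (q : PrimeSpectrum R) (hq : ringKrullDim (R ⧸ q.asIdeal) = 1) (M N : Type u) [AddCommGroup M] [Module R M] [AddCommGroup N] [Module R N] [Module.Finite R M] [Module.Finite R N] (φ : M →ₗ[R] N) (l : ℕ) (x : Fin l → M) (y : Fin l → N) (hx : Submodule.span R (Set.range x) = ⊤) (hy : Submodule.span R (Set.range y) = ⊤) (hxq : ∀ i : Fin l, Nonempty ((↥(CycDet.spanBefore R M x (i + 1)) ⧸ (CycDet.spanBefore R M x i).submoduleOf (CycDet.spanBefore R M x (i + 1))) ≃ₗ[R] (R ⧸ q.asIdeal))) (hyq : ∀ i : Fin l, Nonempty ((↥(CycDet.spanBefore R N y (i + 1)) ⧸ (CycDet.spanBefore R N y i).submoduleOf (CycDet.spanBefore R N y (i + 1))) ≃ₗ[R] (R ⧸ q.asIdeal))) : (Function.Injective φ ↔ Function.Bijective (LocalizedModule.map q.asIdeal.primeCompl φ)) ∧ (Function.Injective φ → ∀ (hl : (Module.length (Localization.AtPrime q.asIdeal) (LocalizedModule q.asIdeal.primeCompl N)).toNat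 = l) (ex ey : CycDet.Adm (Localization.AtPrime q.asIdeal) (LocalizedModule q.asIdeal.primeCompl N) (Module.length (Localization.AtPrime q.asIdeal) (LocalizedModule q.asIdeal.primeCompl N)).toNat) (f : q.asIdeal.ResidueField), (ex.1 = fun i => LocalizedModule.mkLinearMap q.asIdeal.primeCompl N (φ (x (Fin.cast hl i)))) → (ey.1 = fun i => LocalizedModule.mkLinearMap q.asIdeal.primeCompl N (y (Fin.cast hl i))) → CycDet.symbol (Localization.AtPrime q.asIdeal) (LocalizedModule q.asIdeal.primeCompl N) ex = f • CycDet.symbol (Localization.AtPrime q.asIdeal) (LocalizedModule q.asIdeal.primeCompl N) ey → ∃ n : ℕ, Module.length R (N ⧸ LinearMap.range φ) = n ∧ (n : ℤ) = CycAlg.ordFrac (R ⧸ q.asIdeal) q.asIdeal.ResidueField f) := by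
  classical
  set Rq := Localization.AtPrime q.asIdeal
  set ιM := LocalizedModule.mkLinearMap q.asIdeal.primeCompl M
  set ιN := LocalizedModule.mkLinearMap q.asIdeal.primeCompl N
  set φq := LocalizedModule.map q.asIdeal.primeCompl φ with hφq
  obtain ⟨hMq, hMs, hMsat⟩ := saturated_of_quotients q.asIdeal x hx hxq
  obtain ⟨hNq, hNs, hNsat⟩ := saturated_of_quotients q.asIdeal y hy hyq
  obtain ⟨ax, hax, haxspan, haxs, hlM⟩ := loc_data hx hMq hMs hMsat
  obtain ⟨ay, hay, hayspan, hays, hlN⟩ := loc_data hy hNq hNs hNsat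
  have hφmk : ∀ m, φq (ιM m) = ιN (φ m) := fun m => by
    simp [φq, ιM, ιN, LocalizedModule.map_mk]
  have hMtf : Function.Injective ιM := by
    rw [← LinearMap.ker_eq_bot, LinearMap.ker_eq_bot']
    intro m hm
    obtain ⟨s, hs⟩ := (IsLocalizedModule.eq_zero_iff q.asIdeal.primeCompl ιM).1 hm
    have h0 := hMsat 0 (Nat.zero_le l) s s.2 m (by
      rw [show (s : R) • m = 0 from hs]; exact Submodule.zero_mem _)
    simpa [CycDet.spanBefore] using h0
  have hiff : Function.Injective φ ↔ Function.Bijective φq := by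
    constructor
    · intro hinj
      have hqi : Function.Injective φq := LocalizedModule.map_injective q.asIdeal.primeCompl φ hinj
      refine ⟨hqi, ?_⟩
      have h := Module.length_eq_add_of_exact φq (LinearMap.range φq).mkQ hqi
        (Submodule.mkQ_surjective _) (LinearMap.exact_map_mkQ_range φq)
      rw [hlM, hlN] at h
      have h3 : Module.length Rq (LocalizedModule q.asIdeal.primeCompl N ⧸ LinearMap.range φq) = 0 := by
        generalize Module.length Rq (LocalizedModule q.asIdeal.primeCompl N ⧸ LinearMap.range φq) = t at h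
        induction t using ENat.recTopCoe with
        | top => simp at h
        | coe k => norm_cast at h ⊢; omega
      rw [Module.length_eq_zero_iff, Submodule.Quotient.subsingleton_iff] at h3
      exact LinearMap.range_eq_top.1 h3
    · intro hb a b hab
      exact hMtf (hb.1 (by rw [hφmk, hφmk, hab]))
  refine ⟨hiff, fun hinj hl ex ey f hex hey hsym => ?_⟩
  obtain ⟨hqi, hqs⟩ := hiff.1 hinj
  -- transport the given tuples to length `l`
  obtain ⟨ex', hex', hexq⟩ : ∃ ex' : CycDet.Adm Rq (LocalizedModule q.asIdeal.primeCompl N) l,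
      (ex'.1 = fun i => ιN (φ (x i))) ∧ ∃ ey' : CycDet.Adm Rq (LocalizedModule q.asIdeal.primeCompl N) l,
      (ey'.1 = fun i => ιN (y i)) ∧ GrothLib.CycDetL.q Rq ex' = f • GrothLib.CycDetL.q Rq ey' := by
    have key : ∀ (L : ℕ) (hL : L = l) (a b : CycDet.Adm Rq (LocalizedModule q.asIdeal.primeCompl N) L),
        (a.1 = fun i => ιN (φ (x (Fin.cast hL i)))) → (b.1 = fun i => ιN (y (Fin.cast hL i))) →
        GrothLib.CycDetL.q Rq a = f • GrothLib.CycDetL.q Rq b →
        ∃ ex' : CycDet.Adm Rq (LocalizedModule q.asIdeal.primeCompl N) l,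
          (ex'.1 = fun i => ιN (φ (x i))) ∧ ∃ ey' : CycDet.Adm Rq (LocalizedModule q.asIdeal.primeCompl N) l,
          (ey'.1 = fun i => ιN (y i)) ∧ GrothLib.CycDetL.q Rq ex' = f • GrothLib.CycDetL.q Rq ey' := by
      intro L hL a b ha hb hab
      subst hL
      exact ⟨a, ha, b, hb, hab⟩
    exact key _ hl ex ey hex hey hsym
  obtain ⟨ey', hey', hsym'⟩ := hexq
  have hmap : ∀ n, CycDet.spanBefore Rq (LocalizedModule q.asIdeal.primeCompl N) ex'.1 n =
      (CycDet.spanBefore Rq (LocalizedModule q.asIdeal.primeCompl M) ax.1 n).map φq := fun n => by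
    rw [CycDet.spanBefore, CycDet.spanBefore, Submodule.map_span, Set.image_image, hax, hex']
    simp only [ιM, ιN] at hφmk ⊢
    simp only [hφmk]
    rfl
  have hexspan : Submodule.span Rq (Set.range ex'.1) = ⊤ := by
    rw [← GrothLib.CycDetL.spanBefore_last, hmap, GrothLib.CycDetL.spanBefore_last, haxspan,
      Submodule.map_top, LinearMap.range_eq_top.2 hqs]
  have hexs : GrothLib.CycDetL.Strict (R := Rq) ex'.1 := fun i hi => by
    rw [hmap] at hi
    obtain ⟨z, hz, hze⟩ := hi
    have : z = ax.1 i := hqi (by rw [hze, hex', hax]; exact (hφmk _).symm)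
    exact haxs i (this ▸ hz)
  have hidx := GrothLib.CycDetL.idx_eq_of_symbol hq hlN ex' ey' hexspan f hsym'
  obtain rfl : ey' = ay := Subtype.ext (hey'.trans hay.symm)
  have hone : (1 : R) ∉ q.asIdeal := fun h => Ideal.IsPrime.ne_top inferInstance ((Ideal.eq_top_iff_one _).2 h)
  have hord1 : GrothLib.CycDetL.ordI (q := q.asIdeal) (1 : R) = 0 := by
    simp [GrothLib.CycDetL.ordI, GrothLib.CycDetL.ordR_one]
  have hy0 : GrothLib.CycDetL.idx ey'.1 = 0 := by
    refine Finset.sum_eq_zero fun i _ => ?_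
    rw [GrothLib.CycDetL.lam_eq hq ey'.2 hays i hone (n := y i) (by
      rw [hey', one_smul, sub_self]; exact Submodule.zero_mem _)]
    have hs1 := sat_spanBefore hNsat (x := y) (show (i : ℕ) + 1 ≤ l from i.2)
    have hs0 := sat_spanBefore hNsat (x := y) i.2.le
    rw [GrothLib.CycDetL.val, hord1, sub_zero, hey', ← GrothLib.CycDetL.spanBefore_succ, hs1, hs0,
      ← GrothLib.CycDetL.spanBefore_succ' y i, GrothLib.CycDetL.relLen_self]
    rfl
  -- telescope along the filtration of `φ M`
  let Nn : ℕ → Submodule R N := fun n =>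
    GrothLib.CycDetL.sat q.asIdeal N (CycDet.spanBefore Rq (LocalizedModule q.asIdeal.primeCompl N) ex'.1 n)
  have hB : ∀ n, (CycDet.spanBefore R M x n).map φ ≤ Nn n := by
    intro n
    rw [map_spanBefore', CycDet.spanBefore, Submodule.span_le]
    rintro _ ⟨j, hj, rfl⟩
    show ιN (φ (x j)) ∈ CycDet.spanBefore Rq _ ex'.1 n
    exact Submodule.subset_span ⟨j, hj, by rw [hex']⟩
  have hNmono : ∀ n, Nn n ≤ Nn (n + 1) := fun n =>
    GrothLib.CycDetL.sat_mono (GrothLib.CycDetL.spanBefore_mono _ (Nat.le_succ n))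
  have hlam : ∀ i : Fin l, GrothLib.CycDetL.lam ex'.1 i =
      ((GrothLib.CycDetL.relLen (Nn i ⊔ R ∙ φ (x i)) (Nn ((i : ℕ) + 1))).toNat : ℤ) ∧
      GrothLib.CycDetL.relLen (Nn i ⊔ R ∙ φ (x i)) (Nn ((i : ℕ) + 1)) ≠ ⊤ := by
    intro i
    have h0 : ιN (φ (x i)) - (1 : R) • ex'.1 i ∈
        CycDet.spanBefore Rq (LocalizedModule q.asIdeal.primeCompl N) ex'.1 i := by
      rw [hex', one_smul, sub_self]; exact Submodule.zero_mem _
    constructor
    · rw [GrothLib.CycDetL.lam_eq hq ex'.2 hexs i hone h0, GrothLib.CycDetL.val, hord1, sub_zero,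
        ← GrothLib.CycDetL.spanBefore_succ]
    · have := GrothLib.CycDetL.relLen_sat_ne_top hq (ex'.2 i) hone h0
      rw [← GrothLib.CycDetL.spanBefore_succ] at this
      exact this
  have hinter : ∀ n, n ≤ l → Nn n ⊓ LinearMap.range φ ≤ (CycDet.spanBefore R M x n).map φ := by
    rintro n hn z ⟨hz, m, rfl⟩
    refine ⟨m, ?_, rfl⟩
    rw [SetLike.mem_coe, ← sat_spanBefore hMsat hn, GrothLib.CycDetL.mem_sat]
    change ιN (φ m) ∈ CycDet.spanBefore Rq _ ex'.1 n at hz
    rw [hmap, ← hφmk] at hz
    obtain ⟨w, hw, hwe⟩ := hz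
    rw [← hqi hwe]
    rwa [hax] at hw
  have htel : ∀ n, n ≤ l → GrothLib.CycDetL.relLen ((CycDet.spanBefore R M x n).map φ) (Nn n) ≠ ⊤ ∧
      ((GrothLib.CycDetL.relLen ((CycDet.spanBefore R M x n).map φ) (Nn n)).toNat : ℤ) =
        ∑ i ∈ Finset.univ.filter (fun i : Fin l => (i : ℕ) < n), GrothLib.CycDetL.lam ex'.1 i := by
    intro n hn
    induction n with
    | zero =>
      have h0 : Nn 0 = (CycDet.spanBefore R M x 0).map φ := by
        refine le_antisymm ?_ (hB 0)
        intro z hz
        have hz0 : ιN z = 0 := by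
          have : ιN z ∈ CycDet.spanBefore Rq _ ex'.1 0 := hz
          simpa [CycDet.spanBefore] using this
        obtain ⟨s, hs⟩ := (IsLocalizedModule.eq_zero_iff q.asIdeal.primeCompl ιN).1 hz0
        have := hNsat 0 (Nat.zero_le l) s s.2 z (by
          rw [show (s : R) • z = 0 from hs]; exact Submodule.zero_mem _)
        simpa [CycDet.spanBefore] using this
      rw [h0, GrothLib.CycDetL.relLen_self]
      simp
    | succ n ih =>
      obtain ⟨ih1, ih2⟩ := ih (by omega)
      let i : Fin l := ⟨n, by omega⟩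
      have hP : (CycDet.spanBefore R M x n).map φ ⊔ (CycDet.spanBefore R M x (n + 1)).map φ =
          (CycDet.spanBefore R M x (n + 1)).map φ :=
        sup_eq_right.2 (Submodule.map_mono (Submodule.span_mono
          (Set.image_mono fun j (hj : (j : ℕ) < n) => Nat.lt_succ_of_lt hj)))
      have h1 : GrothLib.CycDetL.relLen ((CycDet.spanBefore R M x n).map φ) (Nn n) =
          GrothLib.CycDetL.relLen ((CycDet.spanBefore R M x (n + 1)).map φ)
            (Nn n ⊔ (CycDet.spanBefore R M x (n + 1)).map φ) := by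
        have h := GrothLib.CycDetL.relLen_sup (T := Nn n) ((CycDet.spanBefore R M x (n + 1)).map φ) (hB n) (by
          rw [hP]
          exact fun z hz => hinter n (by omega) ⟨hz.1, LinearMap.map_le_range hz.2⟩)
        rwa [hP] at h
      have h2 : Nn n ⊔ (CycDet.spanBefore R M x (n + 1)).map φ = Nn n ⊔ R ∙ φ (x i) := by
        rw [show n + 1 = (i : ℕ) + 1 from rfl, GrothLib.CycDetL.spanBefore_succ' x i, Submodule.map_sup,
          Submodule.map_span, Set.image_singleton, ← sup_assoc, sup_eq_left.2 (hB n)]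
      obtain ⟨hl1, hl2⟩ := hlam i
      have h3 : GrothLib.CycDetL.relLen ((CycDet.spanBefore R M x (n + 1)).map φ) (Nn (n + 1)) =
          GrothLib.CycDetL.relLen ((CycDet.spanBefore R M x n).map φ) (Nn n) +
            GrothLib.CycDetL.relLen (Nn i ⊔ R ∙ φ (x i)) (Nn ((i : ℕ) + 1)) := by
        rw [GrothLib.CycDetL.relLen_add (T := Nn n ⊔ (CycDet.spanBefore R M x (n + 1)).map φ)
          le_sup_right (sup_le (hNmono n) (hB _)), ← h1, h2]
      refine ⟨by rw [h3]; exact WithTop.add_ne_top.2 ⟨ih1, hl2⟩, ?_⟩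
      rw [h3, ENat.toNat_add ih1 hl2]
      have hfil : (Finset.univ.filter fun j : Fin l => (j : ℕ) < n + 1) =
          insert i (Finset.univ.filter fun j : Fin l => (j : ℕ) < n) := by
        ext j; simp [Fin.ext_iff, i]; omega
      rw [hfil, Finset.sum_insert (by simp [i]), hl1, ← ih2]
      push_cast
      ring
  obtain ⟨hfin, hval⟩ := htel l le_rfl
  have htop : Nn l = ⊤ := by
    show GrothLib.CycDetL.sat _ _ _ = ⊤
    rw [GrothLib.CycDetL.spanBefore_last, hexspan]
    rfl
  have hrange : (CycDet.spanBefore R M x l).map φ = LinearMap.range φ := by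
    rw [show CycDet.spanBefore R M x l = ⊤ by rw [← hx]; simp [CycDet.spanBefore, ← Set.image_univ],
      Submodule.map_top]
  rw [htop, hrange, GrothLib.CycDetL.relLen_top] at hfin hval
  refine ⟨(Module.length R (N ⧸ LinearMap.range φ)).toNat, (ENat.coe_toNat hfin).symm, ?_⟩
  rw [hy0, add_zero] at hidx
  rw [hval, ← hidx]
  simp [GrothLib.CycDetL.idx]

end Groth.Agent.S1853
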