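import Groth.Statements.S18532
import Groth.Agent.Lib.ParHilb.Sub

set_option autoImplicit false
set_option linter.all false
universe u
open CategoryTheory CategoryTheory.Limits AlgebraicGeometry Polynomial
open ParSh

namespace Groth.Agent.S18532

/-- The comparison of the second and first modified parabolic Hilbert polynomials for one test subsheaf.
Let X be a scheme proper over a field k with an ample invertible sheaf L, I the ideal of an
effective Cartier divisor D on X, d ≥ 1, and E a nonzero coherent O_X-module, pure of dimension d,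
with Supp E ∩ Supp D of topological Krull dimension less than d, carrying a finite weighted
filtration 𝓔 along I by coherent pieces E = E₀ ⊇ ⋯ ⊇ E_{l+1} = I·E, weights 0 ≤ w₀ < ⋯ < w_l < 1,
w_{l+1} := 1. Let P be the Hilbert polynomial of E, P_j of E_j, H_j of E/E_j with α_{d−1}(H_j) ≠ 0
for 1 ≤ j ≤ l+1, and Par_E = P_{l+1} + Σ_j w_j (P_j − P_{j+1}). Let ι : W → E be a monomorphism from
a coherent module W with induced filtration W_j = W ∩ E_j, Q the Hilbert polynomial of W and K_j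
that of W/W_j; put par-P₁(W ⊂ E) = Q − Σ_{j=1}^{l+1} (w_j − w_{j−1})·(α_{d−1}(K_j)/α_{d−1}(H_j))·H_j
and par-P₂(W ⊂ E)(x, y) = Q(x) − Σ_{j=1}^{l+1} (w_j − w_{j−1})·(K_j(y)/H_j(y))·H_j(x). Then: (i) if
there is M such that for every m ≥ M there is N with par-P₂(W ⊂ E)(m, n)·P(n) ≤ Par_E(m)·Q(n) for
all n ≥ N, then par-P₁(W ⊂ E)(m)·α_d(P) ≤ Par_E(m)·α_d(Q) for all large m; (ii) if par-P₁(W ⊂
E)(m)·α_d(P) < Par_E(m)·α_d(Q) for all large m, then there is M such that for every m ≥ M there is N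
with par-P₂(W ⊂ E)(m, n)·P(n) < Par_E(m)·Q(n) for all n ≥ N. With W running over the nonzero
saturated (proper) sub-modules this is the published implication p₂-semistable ⇒ p₁-semistable,
p₁-stable ⇒ p₂-stable; the further implications to and from parabolic slope-(semi)stability in the
published statement are not part of this row. -/
theorem result (k : Type u) [Field k] (X : Scheme.{u})
    [X.Over (Spec (CommRingCat.of k))] [IsProper (X ↘ Spec (CommRingCat.of k))]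
    (L : X.Modules) (hL : CohB1.IsAmple L) (I : X.IdealSheafData) (hD : FGA.IsEffCartier I)
    (E : X.Modules) (hE : Coh.IsCoh E) (𝓔 : ParSh.Str E) (h𝓔 : 𝓔.Along I)
    (hcoh : ∀ j, Coh.IsCoh ((𝓔.pieceX j : Subobject E) : X.Modules)) (d : ℕ) (hd : 1 ≤ d)
    (hsupp : topologicalKrullDim ↥(CohB1.support E ∩ (I.support : Set X)) < (d : WithBot ℕ∞))
    (h0 : ¬ IsZero E) (hpure : ShStab.IsPure X E d)
    (P : ℚ[X]) (hP : ShStab.IsHilbPoly k X L E P) (PX : Fin (𝓔.l + 2) → ℚ[X])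
    (hPX : ∀ j, ShStab.IsHilbPoly k X L ((𝓔.pieceX j : Subobject E) : X.Modules) (PX j))
    (H : Fin (𝓔.l + 2) → ℚ[X]) (hH : ∀ j, ShStab.IsHilbPoly k X L (cokernel (𝓔.pieceX j).arrow) (H j))
    (hHa : ∀ j : Fin (𝓔.l + 1), StabCat.alpha (d - 1) (H j.succ) ≠ 0)
    {W : X.Modules} (ι : W ⟶ E) [Mono ι] (hW : Coh.IsCoh W)
    (Q : ℚ[X]) (hQ : ShStab.IsHilbPoly k X L W Q) (QH : Fin (𝓔.l + 2) → ℚ[X])
    (hQH : ∀ j, ShStab.IsHilbPoly k X L (cokernel ((𝓔.induced ι).pieceX j).arrow) (QH j)) :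
    ((∃ M : ℕ, ∀ m : ℕ, M ≤ m → ∃ N : ℕ, ∀ n : ℕ, N ≤ n →
        (((Q.eval (m : ℚ) : ℚ) : ℝ) -
            ∑ j : Fin (𝓔.l + 1), (𝓔.wtX j.succ - 𝓔.wtX j.castSucc) *
              ((((QH j.succ).eval (n : ℚ) / (H j.succ).eval (n : ℚ) : ℚ) : ℝ) * (((H j.succ).eval (m : ℚ) : ℚ) : ℝ))) *
          ((P.eval (n : ℚ) : ℚ) : ℝ) ≤
        (W4swparbununimod.parPoly 𝓔 PX).eval (m : ℝ) * ((Q.eval (n : ℚ) : ℚ) : ℝ)) →
      ∃ M : ℕ, ∀ m : ℕ, M ≤ m →
        (W4swparbununimod.parPolyOne 𝓔 d Q QH H).eval (m : ℝ) * (StabCat.alpha d P : ℝ) ≤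
          (W4swparbununimod.parPoly 𝓔 PX).eval (m : ℝ) * (StabCat.alpha d Q : ℝ)) ∧
    ((∃ M : ℕ, ∀ m : ℕ, M ≤ m →
        (W4swparbununimod.parPolyOne 𝓔 d Q QH H).eval (m : ℝ) * (StabCat.alpha d P : ℝ) <
          (W4swparbununimod.parPoly 𝓔 PX).eval (m : ℝ) * (StabCat.alpha d Q : ℝ)) →
      ∃ M : ℕ, ∀ m : ℕ, M ≤ m → ∃ N : ℕ, ∀ n : ℕ, N ≤ n →
        (((Q.eval (m : ℚ) : ℚ) : ℝ) -
            ∑ j : Fin (𝓔.l + 1), (𝓔.wtX j.succ - 𝓔.wtX j.castSucc) *
              ((((QH j.succ).eval (n : ℚ) / (H j.succ).eval (n : ℚ) : ℚ) : ℝ) * (((H j.succ).eval (m : ℚ) : ℚ) : ℝ))) *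
          ((P.eval (n : ℚ) : ℚ) : ℝ) <
        (W4swparbununimod.parPoly 𝓔 PX).eval (m : ℝ) * ((Q.eval (n : ℚ) : ℚ) : ℝ)) := by
  have hPd : ∀ i, d < i → P.coeff i = 0 := fun i hi => GrothLib.Hilb20.coeff_eq_zero_of_dimLT hL.1 hE
    (GrothLib.Hilb20.isPure_dimLT hpure (𝟙 E) hE) hP hi
  have hQd : ∀ i, d < i → Q.coeff i = 0 := fun i hi => GrothLib.Hilb20.coeff_eq_zero_of_dimLT hL.1 hW
    (GrothLib.Hilb20.isPure_dimLT hpure ι hW) hQ hi
  have hHd : ∀ j, ∀ i, d - 1 < i → (H j).coeff i = 0 := fun j i hi =>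
    GrothLib.ParHilb.coeff_quotient_eq_zero hL hE 𝓔 h𝓔 hcoh hsupp hH j i (by omega)
  have hKd : ∀ j, ∀ i, d - 1 < i → (QH j).coeff i = 0 := fun j i hi =>
    GrothLib.Hilb20.coeff_eq_zero_of_dimLT hL.1
      (GrothLib.ParHilb.isCoh_cokernel_arrow k hW (GrothLib.ParHilb.isCoh_induced k 𝓔 ι hW hE hcoh j))
      (GrothLib.ParHilb.dimLT_cokernel_induced 𝓔 h𝓔 ι hsupp j) (hQH j) (show d ≤ i by omega)
  have hne : ∀ j : Fin (𝓔.l + 1), ((H j.succ).coeff (d - 1) : ℝ) ≠ 0 := fun j => by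
    have h := hHa j
    rw [StabCat.alpha, mul_ne_zero_iff] at h
    exact_mod_cast h.2
  let F : ℕ → ℕ → ℝ := fun m n =>
    ((((Q.eval (m : ℚ) : ℚ) : ℝ) -
        ∑ j : Fin (𝓔.l + 1), (𝓔.wtX j.succ - 𝓔.wtX j.castSucc) *
          ((((QH j.succ).eval (n : ℚ) / (H j.succ).eval (n : ℚ) : ℚ) : ℝ) * (((H j.succ).eval (m : ℚ) : ℚ) : ℝ))) *
        ((P.eval (n : ℚ) : ℚ) : ℝ) -
      (W4swparbununimod.parPoly 𝓔 PX).eval (m : ℝ) * ((Q.eval (n : ℚ) : ℚ) : ℝ)) / (n : ℝ) ^ d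
  let G : ℕ → ℝ := fun m =>
    (W4swparbununimod.parPolyOne 𝓔 d Q QH H).eval (m : ℝ) * (P.coeff d : ℝ) -
      (W4swparbununimod.parPoly 𝓔 PX).eval (m : ℝ) * (Q.coeff d : ℝ)
  have hv : ∀ (p : ℚ[X]) (m : ℕ), (W4swparbununimod.rpoly p).eval (m : ℝ) = ((p.eval (m : ℚ) : ℚ) : ℝ) := fun p m => by
    rw [show (m : ℝ) = Rat.castHom ℝ (m : ℚ) by simp, Polynomial.eval_map, Polynomial.eval₂_hom]
    rfl
  have hlim : ∀ m, Filter.Tendsto (F m) Filter.atTop (nhds (G m)) := by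
    intro m
    have hP' := GrothLib.ParHilb.tendsto_rat_eval_div_pow hPd
    have hQ' := GrothLib.ParHilb.tendsto_rat_eval_div_pow hQd
    have hr : ∀ j : Fin (𝓔.l + 1), Filter.Tendsto
        (fun n : ℕ => (((QH j.succ).eval (n : ℚ) / (H j.succ).eval (n : ℚ) : ℚ) : ℝ)) Filter.atTop
        (nhds (((StabCat.alpha (d - 1) (QH j.succ) / StabCat.alpha (d - 1) (H j.succ) : ℚ) : ℝ))) := fun j => by
      have h := (GrothLib.ParHilb.tendsto_rat_eval_div_pow (hKd j.succ)).div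
        (GrothLib.ParHilb.tendsto_rat_eval_div_pow (hHd j.succ)) (hne j)
      have hf : ((d - 1).factorial : ℝ) ≠ 0 := by exact_mod_cast (d - 1).factorial_ne_zero
      rw [show (((StabCat.alpha (d - 1) (QH j.succ) / StabCat.alpha (d - 1) (H j.succ) : ℚ) : ℝ)) =
          ((QH j.succ).coeff (d - 1) : ℝ) / ((H j.succ).coeff (d - 1) : ℝ) by
        simp only [StabCat.alpha]; push_cast; rw [mul_div_mul_left _ _ hf]]
      refine h.congr' ?_
      filter_upwards [Filter.eventually_ge_atTop 1] with n hn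
      have : (n : ℝ) ^ (d - 1) ≠ 0 := by positivity
      simp only [Pi.div_apply]
      rw [div_div_div_cancel_right₀ this]
      push_cast
      rfl
    have hS := tendsto_finsetSum (Finset.univ : Finset (Fin (𝓔.l + 1))) fun j _ =>
      ((hr j).mul_const (((H j.succ).eval (m : ℚ) : ℚ) : ℝ)).const_mul (𝓔.wtX j.succ - 𝓔.wtX j.castSucc)
    have h := ((hS.const_sub (((Q.eval (m : ℚ) : ℚ) : ℝ))).mul hP').sub
      (hQ'.const_mul ((W4swparbununimod.parPoly 𝓔 PX).eval (m : ℝ)))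
    refine (show G m = _ from ?_) ▸ h.congr fun n => ?_
    · simp only [G, W4swparbununimod.parPolyOne, Polynomial.eval_sub, Polynomial.eval_finsetSum, Polynomial.eval_mul,
        Polynomial.eval_C, hv]
      congr 2
      congr 1
      exact Finset.sum_congr rfl fun j _ => by ring
    · simp only [F]; ring
  have hG : ∀ m : ℕ, (W4swparbununimod.parPolyOne 𝓔 d Q QH H).eval (m : ℝ) * (StabCat.alpha d P : ℝ) -
      (W4swparbununimod.parPoly 𝓔 PX).eval (m : ℝ) * (StabCat.alpha d Q : ℝ) = (d.factorial : ℝ) * G m := fun m => by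
    simp only [G, StabCat.alpha]; push_cast; ring
  have hfd : (0 : ℝ) < d.factorial := by exact_mod_cast d.factorial_pos
  constructor
  · rintro ⟨M, hM⟩
    refine ⟨M, fun m hm => ?_⟩
    obtain ⟨N, hN⟩ := hM m hm
    have h0 : G m ≤ 0 := le_of_tendsto (hlim m) (by
      filter_upwards [Filter.eventually_ge_atTop N] with n hn
      exact div_nonpos_of_nonpos_of_nonneg (sub_nonpos.2 (hN n hn)) (by positivity))
    have := mul_nonpos_of_nonneg_of_nonpos hfd.le h0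
    linarith [hG m]
  · rintro ⟨M, hM⟩
    refine ⟨M, fun m hm => ?_⟩
    have h0 : G m < 0 := by
      by_contra h
      have := mul_nonneg hfd.le (not_lt.1 h)
      linarith [hG m, hM m hm]
    obtain ⟨N, hN⟩ := Filter.eventually_atTop.1 ((hlim m).eventually (gt_mem_nhds h0))
    refine ⟨max N 1, fun n hn => ?_⟩
    have h1 : (0 : ℝ) < (n : ℝ) ^ d := by
      have : (0 : ℝ) < (n : ℝ) := by exact_mod_cast (show 0 < n by omega)
      positivity
    have h2 := (div_lt_iff₀ h1).1 (hN n (by omega))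
    linarith

end Groth.Agent.S18532
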