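import Groth.Statements.S18533
import Groth.Agent.Lib.ParHilb.Saturate

set_option autoImplicit false
set_option linter.all false
universe u
open CategoryTheory CategoryTheory.Limits AlgebraicGeometry Polynomial
open ParSh

namespace Groth.Agent.S18533

/-- Stability for the reduced parabolic Hilbert polynomial together with stable flag quotients gives
stability for the first modified polynomial. Let X be a scheme proper over a field k with an ample
invertible sheaf L, I the ideal of an effective Cartier divisor D on X, d ≥ 1, and E a nonzero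
coherent O_X-module, pure of dimension d, with Supp E ∩ Supp D of topological Krull dimension less
than d, carrying a finite weighted filtration 𝓔 along I by coherent pieces E = E₀ ⊇ ⋯ ⊇ E_{l+1} =
I·E, weights 0 ≤ w₀ < ⋯ < w_l < 1, w_{l+1} := 1. Let P be the Hilbert polynomial of E, P_j that of
E_j, H_j that of E/E_j with α_{d−1}(H_j) ≠ 0 for 1 ≤ j ≤ l+1, and Par_E = P_{l+1} + Σ_j w_j (P_j −
P_{j+1}); α_i(H) = i!·coefficient of degree i. Assume: (i) for every nonzero coherent sub-module W →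
E that is not an isomorphism onto E and whose cokernel is pure of dimension d, with its induced
filtration and Hilbert polynomials Q of W and Q_j of the pieces, Par_W(m)·α_d(P) < Par_E(m)·α_d(Q)
for all large natural m; (ii) for 1 ≤ j ≤ l+1 the quotient E/E_j is stable of dimension d − 1 with
respect to L. Then for every nonzero coherent sub-module ι : W → E that is not an isomorphism and
whose cokernel is pure of dimension d, with induced filtration W_j = W ∩ E_j and Hilbert polynomials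
Q of W and K_j of W/W_j, one has par-P₁(W ⊂ E)(m)·α_d(P) < Par_E(m)·α_d(Q) for all large natural m,
where par-P₁(W ⊂ E) = Q − Σ_{j=1}^{l+1} (w_j − w_{j−1})·(α_{d−1}(K_j)/α_{d−1}(H_j))·H_j. Stability
is tested on saturated proper sub-modules with the induced filtration (a sub-module of full rank
with the induced filtration can have the same reduced parabolic polynomial when the smallest weight
is 0, so the strict test is the saturated one). -/
theorem result (k : Type u) [Field k] (X : Scheme.{u})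
    [X.Over (Spec (CommRingCat.of k))] [IsProper (X ↘ Spec (CommRingCat.of k))]
    (L : X.Modules) (hL : CohB1.IsAmple L) (I : X.IdealSheafData) (hD : FGA.IsEffCartier I)
    (E : X.Modules) (hE : Coh.IsCoh E) (𝓔 : ParSh.Str E) (h𝓔 : 𝓔.Along I)
    (hcoh : ∀ j, Coh.IsCoh ((𝓔.pieceX j : Subobject E) : X.Modules)) (d : ℕ) (hd : 1 ≤ d)
    (hsupp : topologicalKrullDim ↥(CohB1.support E ∩ (I.support : Set X)) < (d : WithBot ℕ∞))
    (h0 : ¬ IsZero E) (hpure : ShStab.IsPure X E d)
    (P : ℚ[X]) (hP : ShStab.IsHilbPoly k X L E P) (PX : Fin (𝓔.l + 2) → ℚ[X])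
    (hPX : ∀ j, ShStab.IsHilbPoly k X L ((𝓔.pieceX j : Subobject E) : X.Modules) (PX j))
    (H : Fin (𝓔.l + 2) → ℚ[X]) (hH : ∀ j, ShStab.IsHilbPoly k X L (cokernel (𝓔.pieceX j).arrow) (H j))
    (hHa : ∀ j : Fin (𝓔.l + 1), StabCat.alpha (d - 1) (H j.succ) ≠ 0)
    (hst : (∀ (W : X.Modules) (ι : W ⟶ E), Mono ι → Coh.IsCoh W → ¬ IsZero W → ¬ IsIso ι → ShStab.IsPure X (cokernel ι) d →
        ∀ (Q : ℚ[X]) (QX : Fin (𝓔.l + 2) → ℚ[X]), ShStab.IsHilbPoly k X L W Q →
          (∀ j, ShStab.IsHilbPoly k X L (((𝓔.induced ι).pieceX j : Subobject W) : X.Modules) (QX j)) →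
          ∃ M : ℕ, ∀ m : ℕ, M ≤ m →
            (W4swparbununimod.parPoly (𝓔.induced ι) QX).eval (m : ℝ) * (StabCat.alpha d P : ℝ) <
              (W4swparbununimod.parPoly 𝓔 PX).eval (m : ℝ) * (StabCat.alpha d Q : ℝ)))
    (hq : ∀ j : Fin (𝓔.l + 1), ShStab.IsStable k X L (cokernel (𝓔.pieceX j.succ).arrow) (d - 1))
    {W : X.Modules} (ι : W ⟶ E) [Mono ι] (hW : Coh.IsCoh W)
    (Q : ℚ[X]) (hQ : ShStab.IsHilbPoly k X L W Q) (QH : Fin (𝓔.l + 2) → ℚ[X])
    (hQH : ∀ j, ShStab.IsHilbPoly k X L (cokernel ((𝓔.induced ι).pieceX j).arrow) (QH j)) (hW0 : ¬ IsZero W) (hWp : ¬ IsIso ι) (hWsat : ShStab.IsPure X (cokernel ι) d) :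
    ∃ M : ℕ, ∀ m : ℕ, M ≤ m →
      (W4swparbununimod.parPolyOne 𝓔 d Q QH H).eval (m : ℝ) * (StabCat.alpha d P : ℝ) <
        (W4swparbununimod.parPoly 𝓔 PX).eval (m : ℝ) * (StabCat.alpha d Q : ℝ) := by
  have hcW := GrothLib.ParHilb.isCoh_induced k 𝓔 ι hW hE hcoh
  obtain ⟨QX, _, hQX, _⟩ := GrothLib.ParHilb.exists_hilbPolys (k := k) hL hW (𝓔.induced ι) hcW
  obtain ⟨M₁, hM₁⟩ := GrothLib.ParHilb.eventually_parPolyOne_le (k := k) hL hE hW 𝓔 hcoh ι hH
    (fun j => GrothLib.ParHilb.isSemistable_of_isStable (hq j)) hQ hQX hQH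
  obtain ⟨M₂, hM₂⟩ := hst W ι inferInstance hW hW0 hWp hWsat Q QX hQ hQX
  have hα : (0 : ℝ) ≤ (StabCat.alpha d P : ℝ) := by
    exact_mod_cast (GrothLib.Hilb20.alpha_pos_self (k := k) hL hE h0 hpure hP).le
  refine ⟨max M₁ M₂, fun m hm => lt_of_le_of_lt ?_ (hM₂ m (by omega))⟩
  exact mul_le_mul_of_nonneg_right (hM₁ m (by omega)) hα

end Groth.Agent.S18533
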