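import Groth.Statements.S18534
import Groth.Agent.Lib.ComplAlg.Main
import Mathlib

set_option autoImplicit false
universe u
open scoped Pointwise
open EtAlg

namespace Groth.Agent.S18534


section

open IsLocalRing

theorem comap_ringEquiv_pow {B : Type u} [CommRing B] (e : B ≃+* B) (I : Ideal B) (n : ℕ) :
    (I ^ n).comap e = (I.comap e) ^ n := by
  rw [← Ideal.map_symm, ← Ideal.map_symm, Ideal.map_pow]

/-- approximation of invariant classes by invariant elements in a semilocal Galois situation. -/
theorem core_bound {A B G : Type u} [CommRing A] [IsLocalRing A] [IsNoetherianRing A] [CommRing B] [Algebra A B]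
    [Module.Finite A B] [Group G] [Finite G] (hinj : Function.Injective (algebraMap A B))
    (σ : G → (B ≃+* B)) (hσA : ∀ g a, σ g (algebraMap A B a) = algebraMap A B a)
    (hσmul : ∀ g h b, σ (g * h) b = σ g (σ h b))
    (hinv : ∀ b, (∀ g, σ g b = b) → ∃ a, algebraMap A B a = b)
    (MQ : Ideal B) [MQ.IsMaximal] (hover : MQ.comap (algebraMap A B) = maximalIdeal A)
    (htrans : ∀ p : Ideal B, p.IsPrime → p.comap (algebraMap A B) = maximalIdeal A → ∃ g, p = MQ.comap (σ g))
    (D : Subgroup G) (hD : ∀ g, g ∈ D ↔ MQ.comap (σ g) = MQ) (n : ℕ) :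
    (∃ M, ∀ b : B, (∀ g ∈ D, σ g b - b ∈ MQ ^ M) → ∃ a, b - algebraMap A B a ∈ MQ ^ n) ∧
    (∃ M, ∀ a : A, algebraMap A B a ∈ MQ ^ M → a ∈ maximalIdeal A ^ n) := by
  classical
  haveI := Fintype.ofFinite G
  haveI : IsNoetherianRing B := IsNoetherianRing.of_finite A B
  haveI hmax : ∀ g, (MQ.comap (σ g)).IsMaximal := fun g =>
    Ideal.comap_isMaximal_of_surjective (σ g) (σ g).surjective
  let T : Finset (Ideal B) := Finset.univ.image fun g => MQ.comap (σ g)
  have hTmax : ∀ I ∈ T, I.IsMaximal := fun I hI => by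
    obtain ⟨g, -, rfl⟩ := Finset.mem_image.1 hI
    exact hmax g
  have hco : ∀ M : ℕ, ((T : Finset (Ideal B)) : Set (Ideal B)).Pairwise (Function.onFun IsCoprime fun I => I ^ M) := by
    intro M I hI J hJ hne
    haveI := hTmax I hI
    haveI := hTmax J hJ
    exact (Ideal.isCoprime_of_isMaximal hne).pow
  -- the radical
  have hrad : (T.inf id) ≤ ((maximalIdeal A).map (algebraMap A B)).radical := by
    rw [Ideal.radical_eq_sInf]
    refine le_sInf fun p hp => ?_
    haveI := hp.2
    obtain ⟨g, rfl⟩ := htrans p hp.2 ((IsLocalRing.maximalIdeal.isMaximal A).eq_of_le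
      (Ideal.IsPrime.ne_top inferInstance) (Ideal.map_le_iff_le_comap.1 hp.1)).symm
    exact Finset.inf_le (Finset.mem_image.2 ⟨g, Finset.mem_univ _, rfl⟩)
  obtain ⟨k, hk⟩ := Ideal.exists_pow_le_of_le_radical_of_fg hrad (Ideal.fg_of_isNoetherianRing _)
  have hJ : ∀ (N : ℕ) (x : B), (∀ g, σ g x ∈ MQ ^ (k * N)) →
      x ∈ ((maximalIdeal A) ^ N).map (algebraMap A B) := by
    intro N x hx
    have h1 : x ∈ ∏ I ∈ T, I ^ (k * N) := by
      rw [Ideal.prod_eq_iInf_of_pairwise_isCoprime (hco _)]
      simp only [Submodule.mem_iInf]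
      intro I hI
      obtain ⟨g, -, rfl⟩ := Finset.mem_image.1 hI
      rw [← comap_ringEquiv_pow]
      exact hx g
    rw [Finset.prod_pow] at h1
    have h2 : (∏ I ∈ T, I) ≤ T.inf id := Ideal.prod_le_inf
    rw [Ideal.map_pow]
    have h3 := Ideal.pow_right_mono h2 (k * N) h1
    rw [pow_mul] at h3
    exact Ideal.pow_right_mono hk N h3
  have hmMQ : ∀ N, ((maximalIdeal A) ^ N).map (algebraMap A B) ≤ MQ ^ N := fun N => by
    rw [Ideal.map_pow]
    exact Ideal.pow_right_mono (Ideal.map_le_iff_le_comap.2 hover.ge) N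
  have hsm : ∀ N, ((maximalIdeal A) ^ N • ⊤ : Submodule A B) =
      (((maximalIdeal A) ^ N).map (algebraMap A B)).restrictScalars A := fun N => Ideal.smul_top_eq_map _
  constructor
  · let δ : B →ₗ[A] (G → B) :=
      { toFun := fun b g => σ g b - b
        map_add' := fun x y => funext fun g => by simp only [map_add, Pi.add_apply]; abel
        map_smul' := fun c x => funext fun g => by
          simp only [Algebra.smul_def, map_mul, hσA, RingHom.id_apply, Pi.smul_apply, mul_sub] }
    obtain ⟨c, hc⟩ := Ideal.exists_pow_inf_eq_pow_smul (I := maximalIdeal A) (LinearMap.range δ)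
    refine ⟨max n (k * (n + c)), fun b hb => ?_⟩
    set M := max n (k * (n + c)) with hM
    -- an element congruent to `b` at `MQ` and to `0` at the other maximal ideals
    have hsup : MQ ^ M ⊔ ∏ I ∈ T.erase MQ, I ^ M = ⊤ := by
      refine Ideal.isCoprime_iff_sup_eq.1 (IsCoprime.prod_right fun I hI => ?_)
      haveI := hTmax I (Finset.mem_of_mem_erase hI)
      exact (Ideal.isCoprime_of_isMaximal (Finset.ne_of_mem_erase hI).symm).pow
    obtain ⟨u, hu, y, hy, huy⟩ := Submodule.mem_sup.1 (hsup ▸ Submodule.mem_top : b ∈ _)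
    have hyD : ∀ g, g ∉ D → σ g y ∈ MQ ^ M := fun g hg => by
      have h1 : MQ.comap (σ g) ∈ T.erase MQ :=
        Finset.mem_erase.2 ⟨fun h => hg ((hD g).2 h), Finset.mem_image.2 ⟨g, Finset.mem_univ _, rfl⟩⟩
      have h2 : y ∈ (MQ.comap (σ g)) ^ M := (Ideal.prod_le_inf.trans (Finset.inf_le h1)) hy
      rw [← comap_ringEquiv_pow] at h2
      exact h2
    have hyD' : ∀ g ∈ D, σ g y - b ∈ MQ ^ M := fun g hg => by
      have h1 : u ∈ (MQ.comap (σ g)) ^ M := by rw [(hD g).1 hg]; exact hu
      rw [← comap_ringEquiv_pow] at h1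
      have h2 : σ g y - b = (σ g b - b) - σ g u := by
        rw [← huy, map_add]
        abel
      rw [h2]
      exact sub_mem (hb g hg) h1
    haveI := Fintype.ofFinite (G ⧸ D)
    let z : B := ∑ q : G ⧸ D, σ q.out y
    have hz : ∀ g, σ g z - b ∈ MQ ^ M := by
      intro g
      have h1 : σ g z - b = ∑ q : G ⧸ D, (σ (g * q.out) y - if q = (g⁻¹ : G) then b else 0) := by
        rw [Finset.sum_sub_distrib, Finset.sum_ite_eq' Finset.univ ((g⁻¹ : G) : G ⧸ D) (fun _ => b),
          if_pos (Finset.mem_univ _), map_sum]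
        simp only [hσmul]
      rw [h1]
      refine Ideal.sum_mem _ fun q _ => ?_
      have hiff : g * q.out ∈ D ↔ q = ((g⁻¹ : G) : G ⧸ D) := by
        conv_rhs => rw [← QuotientGroup.out_eq' q, eq_comm, QuotientGroup.eq, inv_inv]
      split_ifs with hq
      · exact hyD' _ (hiff.2 hq)
      · rw [sub_zero]; exact hyD _ (fun h => hq (hiff.1 h))
    have hz1 : z - b ∈ MQ ^ M := by
      have h1 := hz 1
      have h2 : σ 1 z = z := (σ 1).injective (by rw [← hσmul, one_mul])
      rwa [h2] at h1
    have hδ : δ z ∈ (maximalIdeal A) ^ (n + c) • (⊤ : Submodule A (G → B)) := by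
      rw [← Finset.univ_sum_single (δ z)]
      refine Submodule.sum_mem _ fun g _ => ?_
      have h1 : δ z g ∈ ((maximalIdeal A) ^ (n + c) • ⊤ : Submodule A B) := by
        rw [hsm]
        refine hJ (n + c) _ fun h => ?_
        have h2 : σ h (σ g z - z) = (σ (h * g) z - b) - (σ h z - b) := by
          rw [map_sub, hσmul]; abel
        exact Ideal.pow_le_pow_right (le_max_right _ _) (h2 ▸ sub_mem (hz (h * g)) (hz h))
      refine Submodule.smul_induction_on h1 (fun r hr x _ => ?_) (fun x x' hx hx' => ?_)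
      · rw [Pi.single_smul]
        exact Submodule.smul_mem_smul hr Submodule.mem_top
      · rw [Pi.single_add]
        exact add_mem hx hx'
    have h1 : δ z ∈ (maximalIdeal A) ^ (n + c) • (⊤ : Submodule A (G → B)) ⊓ LinearMap.range δ :=
      ⟨hδ, z, rfl⟩
    rw [hc (n + c) (Nat.le_add_left _ _), Nat.add_sub_cancel] at h1
    have h2 : δ z ∈ (maximalIdeal A) ^ n • LinearMap.range δ := Submodule.smul_mono le_rfl inf_le_right h1
    rw [LinearMap.range_eq_map, ← Submodule.map_smul''] at h2
    obtain ⟨w, hw, hwz⟩ := h2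
    obtain ⟨a, ha⟩ := hinv (z - w) fun g => by
      have := congrFun hwz g
      have hh : σ g w - w = σ g z - z := this
      rw [map_sub, sub_eq_sub_iff_add_eq_add]
      rw [sub_eq_sub_iff_add_eq_add] at hh
      linear_combination -hh
    refine ⟨a, ?_⟩
    rw [ha, show b - (z - w) = w - (z - b) by abel]
    rw [hsm] at hw
    exact sub_mem (hmMQ n hw) (Ideal.pow_le_pow_right (le_max_left _ _) hz1)
  · obtain ⟨c, hc⟩ := Ideal.exists_pow_inf_eq_pow_smul (I := maximalIdeal A)
      (LinearMap.range (Algebra.linearMap A B))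
    refine ⟨k * (n + c), fun a ha => ?_⟩
    have h0 : algebraMap A B a ∈ ((maximalIdeal A) ^ (n + c) • ⊤ : Submodule A B) := by
      rw [hsm]
      exact hJ (n + c) _ fun g => by rw [hσA]; exact ha
    have h1 : algebraMap A B a ∈ (maximalIdeal A) ^ (n + c) • (⊤ : Submodule A B) ⊓
        LinearMap.range (Algebra.linearMap A B) := ⟨h0, a, rfl⟩
    rw [hc (n + c) (Nat.le_add_left _ _), Nat.add_sub_cancel] at h1
    have h2 := Submodule.smul_mono (le_refl ((maximalIdeal A) ^ n))
      (inf_le_right : (maximalIdeal A) ^ c • ⊤ ⊓ LinearMap.range (Algebra.linearMap A B) ≤ _) h1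
    rw [LinearMap.range_eq_map, ← Submodule.map_smul''] at h2
    obtain ⟨a', ha', he⟩ := h2
    rw [Ideal.smul_top_eq_map, Algebra.algebraMap_self, Ideal.map_id] at ha'
    exact hinj he ▸ ha'

theorem module_finite_of_galois (R S G : Type u) [CommRing R] [CommRing S] [IsDomain R] [IsDomain S]
    [IsIntegrallyClosed R] [IsIntegrallyClosed S] [IsNoetherianRing R] [Algebra R S] [FaithfulSMul R S]
    [Group G] [Finite G] [MulSemiringAction G S] [IsGaloisGroup G R S] : Module.Finite R S := by
  let K := FractionRing R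
  let L := FractionRing S
  letI : Algebra K L := FractionRing.liftAlgebra R L
  haveI : IsScalarTower R K L := FractionRing.isScalarTower_liftAlgebra R L
  letI := IsFractionRing.mulSemiringAction G S L
  haveI : IsGaloisGroup G K L := IsGaloisGroup.toFractionRing G R S
  haveI : FiniteDimensional K L := IsGaloisGroup.finiteDimensional G K L
  haveI : IsGalois K L := IsGaloisGroup.isGalois G K L
  haveI : Algebra.IsIntegral R S := (IsGaloisGroup.isInvariant (G := G) (A := R) (B := S)).isIntegral
  haveI : IsIntegralClosure S R L := IsIntegralClosure.of_isIntegrallyClosed S R L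
  exact IsIntegralClosure.finite R K L S

theorem mem_pow_map_iff_evalₐ {B : Type u} [CommRing B] [IsNoetherianRing B] (a : Ideal B) (n : ℕ)
    (x : AdicCompletion a B) :
    x ∈ (a ^ n).map (algebraMap B (AdicCompletion a B)) ↔ AdicCompletion.evalₐ a n x = 0 := by
  have h1 : AdicCompletion.eval a B n x = 0 ↔ AdicCompletion.evalₐ a n x = 0 := by
    rw [← AdicCompletion.factor_eval_eq_evalₐ a x (le_of_eq (Ideal.mul_top _))]
    exact (map_eq_zero_iff _ (RingEquiv.injective
      (Ideal.quotEquivOfEq (Ideal.mul_top (a ^ n))))).symm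
  rw [← h1, ← LinearMap.mem_ker, ← AdicCompletion.pow_smul_top_eq_ker_eval a.fg_of_isNoetherianRing,
    Ideal.smul_top_eq_map]
  rfl

theorem cpl_ext {B : Type u} [CommRing B] [IsNoetherianRing B] [IsLocalRing B] {x y : EGA4.Cpl B}
    (h : ∀ n, x - y ∈ ((maximalIdeal B) ^ n).map (algebraMap B (EGA4.Cpl B))) : x = y :=
  AdicCompletion.ext_evalₐ fun n => by
    rw [← sub_eq_zero, ← map_sub, ← mem_pow_map_iff_evalₐ]
    exact h n

end


open scoped Pointwise


/-- Let R be a normal domain which is excellent and S a normal domain containing R on which a finite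
group G acts by R-algebra automorphisms, faithfully and with ring of invariants exactly R (so S is
the integral closure of R in a finite Galois extension of Frac R with group G), Q a prime of S lying
over the prime P of R, and D the decomposition group of Q (the stabilizer of Q in G). Equip the
completion of the local ring S_Q with an action of D by ring automorphisms extending the action of D
on S, and with an algebra structure over the completion of R_P compatible with R → S (both exist and
are unique, by density and continuity). Then D is a Galois group for the completed extension: it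
acts faithfully, linearly over the completion of R_P, and its ring of invariants is exactly the
image of the completion of R_P; equivalently the extension of fraction fields of the completed local
rings is Galois with group D. (Only the completions of the local rings R_P and S_Q are treated. For
the P-adic completion of R itself and the Q-adic completion of S the analogous finiteness fails:
with R = k[x,y], S = k[y,t], t² = x + y², char k ≠ 2 and Q = (t − y) over P = (x), the Q-adic
completion k[y][[t − y]] is not finite over the (x)-adic completion k[y][[x]] and their fraction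
fields form an extension of infinite degree.) -/
theorem result
    (R S G : Type u) [CommRing R] [CommRing S] [IsDomain R] [IsDomain S]
    [IsIntegrallyClosed R] [IsIntegrallyClosed S] (hR : EGA4.IsExcellent R)
    [Algebra R S] [FaithfulSMul R S]
    [Group G] [Finite G] [MulSemiringAction G S] [SMulCommClass G R S] [IsGaloisGroup G R S]
    (P : Ideal R) [P.IsPrime] (Q : Ideal S) [Q.IsPrime] [Q.LiesOver P]
    [MulSemiringAction (MulAction.stabilizer G Q) (EGA4.Cpl (Localization.AtPrime Q))]
    (hact : ∀ (g : MulAction.stabilizer G Q) (s : S),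
      g • algebraMap (Localization.AtPrime Q) (EGA4.Cpl (Localization.AtPrime Q)) (algebraMap S (Localization.AtPrime Q) s) =
        algebraMap (Localization.AtPrime Q) (EGA4.Cpl (Localization.AtPrime Q)) (algebraMap S (Localization.AtPrime Q) (g • s)))
    [Algebra (EGA4.Cpl (Localization.AtPrime P)) (EGA4.Cpl (Localization.AtPrime Q))]
    (halg : ∀ r : R,
      algebraMap (EGA4.Cpl (Localization.AtPrime P)) (EGA4.Cpl (Localization.AtPrime Q)) (algebraMap (Localization.AtPrime P) (EGA4.Cpl (Localization.AtPrime P)) (algebraMap R (Localization.AtPrime P) r)) =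
        algebraMap (Localization.AtPrime Q) (EGA4.Cpl (Localization.AtPrime Q)) (algebraMap S (Localization.AtPrime Q) (algebraMap R S r))) :
    IsGaloisGroup (MulAction.stabilizer G Q) (EGA4.Cpl (Localization.AtPrime P)) (EGA4.Cpl (Localization.AtPrime Q)) := by
  classical
  haveI : IsNoetherianRing R := hR.1
  haveI := module_finite_of_galois R S G
  haveI : IsNoetherianRing S := IsNoetherianRing.of_finite R S
  haveI : Algebra.IsInvariant R S G := IsGaloisGroup.isInvariant
  haveI : FaithfulSMul G S := IsGaloisGroup.faithful R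
  let A := Localization.AtPrime P
  let SQ := Localization.AtPrime Q
  let Ms := Algebra.algebraMapSubmonoid S P.primeCompl
  let B := Localization Ms
  letI algAB : Algebra A B := (IsLocalization.map B (algebraMap R S)
    (show P.primeCompl ≤ Ms.comap (algebraMap R S) from fun x hx => ⟨x, hx, rfl⟩) : A →+* B).toAlgebra
  haveI : IsScalarTower R A B := IsScalarTower.of_algebraMap_eq' (RingHom.ext fun r => by
    rw [RingHom.algebraMap_toAlgebra, RingHom.comp_apply]
    exact ((IsLocalization.map_eq (S := A) (Q := B) (show P.primeCompl ≤ Ms.comap (algebraMap R S) from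
      fun x hx => ⟨x, hx, rfl⟩) r).trans (IsScalarTower.algebraMap_apply R S B r).symm).symm)
  haveI : Module.Finite A B := Module.Finite.of_isLocalization R S P.primeCompl
  have hS0 : Function.Injective (algebraMap S B) := IsLocalization.injective B (fun x hx => by
    obtain ⟨r, hr, rfl⟩ := (hx : x ∈ Algebra.algebraMapSubmonoid S P.primeCompl)
    exact mem_nonZeroDivisors_of_ne_zero fun h => hr
      (by rw [(map_eq_zero_iff _ (FaithfulSMul.algebraMap_injective R S)).1 h]; exact P.zero_mem))
  -- the action on the semilocal ring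
  have hσle : ∀ g : G, Ms ≤ Ms.comap (MulSemiringAction.toRingHom G S g) := fun g x hx => by
    obtain ⟨r, hr, rfl⟩ := hx
    exact ⟨r, hr, (smul_algebraMap g r).symm⟩
  let σ' : G → (B →+* B) := fun g => IsLocalization.map B (MulSemiringAction.toRingHom G S g) (hσle g)
  have hσ' : ∀ g s, σ' g (algebraMap S B s) = algebraMap S B (g • s) := fun g s =>
    IsLocalization.map_eq (hσle g) s
  have hσmul' : ∀ g h b, σ' (g * h) b = σ' g (σ' h b) := fun g h b => by
    refine RingHom.congr_fun (IsLocalization.ringHom_ext Ms (j := σ' (g * h)) (k := (σ' g).comp (σ' h))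
      (RingHom.ext fun s => ?_)) b
    simp only [RingHom.comp_apply, hσ', mul_smul]
  have hσone : ∀ b, σ' 1 b = b := fun b => by
    refine RingHom.congr_fun (IsLocalization.ringHom_ext Ms (j := σ' 1) (k := RingHom.id B)
      (RingHom.ext fun s => ?_)) b
    simp only [RingHom.comp_apply, hσ', one_smul, RingHom.id_apply]
  let σ : G → (B ≃+* B) := fun g => RingEquiv.ofRingHom (σ' g) (σ' g⁻¹)
    (RingHom.ext fun b => by rw [RingHom.comp_apply, ← hσmul', mul_inv_cancel, hσone]; rfl)
    (RingHom.ext fun b => by rw [RingHom.comp_apply, ← hσmul', inv_mul_cancel, hσone]; rfl)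
  have hσR : ∀ g, (σ' g).comp (algebraMap A B) = algebraMap A B := fun g => by
    refine IsLocalization.ringHom_ext P.primeCompl (RingHom.ext fun r => ?_)
    simp only [RingHom.comp_apply, ← IsScalarTower.algebraMap_apply R A B]
    rw [IsScalarTower.algebraMap_apply R S B, hσ', smul_algebraMap]
  -- the map to the local ring
  have hPQ : P = Q.comap (algebraMap R S) := Q.over_def P
  have hιu : ∀ y : Ms, IsUnit (algebraMap S SQ y) := fun y => by
    obtain ⟨r, hr, hry⟩ := y.2
    rw [← hry]
    exact IsLocalization.map_units SQ (⟨algebraMap R S r, fun h => hr (hPQ ▸ h)⟩ : Q.primeCompl)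
  let ι : B →+* SQ := IsLocalization.lift hιu
  have hι : ∀ s, ι (algebraMap S B s) = algebraMap S SQ s := fun s => IsLocalization.lift_eq hιu s
  let MQ : Ideal B := (IsLocalRing.maximalIdeal SQ).comap ι
  let lR : A →+* SQ := Localization.localRingHom P Q (algebraMap R S) hPQ
  have hιA : ι.comp (algebraMap A B) = lR := by
    refine IsLocalization.ringHom_ext P.primeCompl (RingHom.ext fun r => ?_)
    rw [RingHom.comp_apply, RingHom.comp_apply, RingHom.comp_apply, ← IsScalarTower.algebraMap_apply R A B,
      IsScalarTower.algebraMap_apply R S B, hι]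
    exact (Localization.localRingHom_to_map P Q (algebraMap R S) hPQ r).symm
  haveI : MQ.IsPrime := Ideal.comap_isPrime _ _
  have hover : MQ.comap (algebraMap A B) = IsLocalRing.maximalIdeal A := by
    rw [Ideal.comap_comap, hιA]
    haveI : IsLocalHom lR := Localization.isLocalHom_localRingHom P Q (algebraMap R S) hPQ
    exact (IsLocalRing.maximalIdeal.isMaximal A).eq_of_le (Ideal.comap_isPrime _ _).ne_top
      (fun x hx => by
        rw [Ideal.mem_comap, IsLocalRing.mem_maximalIdeal, mem_nonunits_iff]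
        exact fun h => hx (isUnit_of_map_unit lR x h)) |>.symm
  haveI : MQ.IsMaximal := by
    haveI : (MQ.comap (algebraMap A B)).IsMaximal := hover ▸ IsLocalRing.maximalIdeal.isMaximal A
    exact Ideal.isMaximal_of_isIntegral_of_isMaximal_comap (R := A) MQ inferInstance
  have hMQS : MQ.comap (algebraMap S B) = Q := by
    rw [Ideal.comap_comap, show ι.comp (algebraMap S B) = algebraMap S SQ from RingHom.ext hι]
    exact IsLocalization.AtPrime.comap_maximalIdeal SQ Q
  have hcomapσ : ∀ g, (MQ.comap (σ g)).comap (algebraMap S B) = g⁻¹ • Q := fun g => by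
    ext s
    rw [Ideal.mem_inv_pointwise_smul_iff, Ideal.mem_comap, Ideal.mem_comap]
    show σ' g (algebraMap S B s) ∈ MQ ↔ _
    rw [hσ', ← Ideal.mem_comap, hMQS]
  have hinjcomap : ∀ p p' : Ideal B, p.IsPrime → p'.IsPrime →
      p.comap (algebraMap S B) = p'.comap (algebraMap S B) → p = p' := fun p p' _ _ h => by
    rw [← IsLocalization.map_comap Ms B p, ← IsLocalization.map_comap Ms B p']
    exact congrArg _ h
  have htrans : ∀ p : Ideal B, p.IsPrime → p.comap (algebraMap A B) = IsLocalRing.maximalIdeal A →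
      ∃ g, p = MQ.comap (σ g) := by
    intro p hp hpA
    haveI := hp
    haveI : (p.comap (algebraMap S B)).IsPrime := Ideal.comap_isPrime _ _
    have hu : (p.comap (algebraMap S B)).under R = Q.under R := by
      rw [Ideal.under_def, Ideal.under_def, ← hPQ, Ideal.comap_comap, ← IsScalarTower.algebraMap_eq R S B,
        IsScalarTower.algebraMap_eq R A B, ← Ideal.comap_comap, hpA]
      exact IsLocalization.AtPrime.comap_maximalIdeal A P
    obtain ⟨g, hg⟩ := Algebra.IsInvariant.exists_smul_of_under_eq R S G Q (p.comap (algebraMap S B)) hu.symm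
    refine ⟨g⁻¹, hinjcomap _ _ hp (Ideal.comap_isPrime _ _) ?_⟩
    rw [hcomapσ, inv_inv, hg]
  have hD : ∀ g, g ∈ MulAction.stabilizer G Q ↔ MQ.comap (σ g) = MQ := by
    intro g
    rw [MulAction.mem_stabilizer_iff]
    constructor
    · intro h
      refine hinjcomap _ _ (Ideal.comap_isPrime _ _) inferInstance ?_
      rw [hcomapσ, hMQS]
      conv_lhs => rw [← h]
      rw [inv_smul_smul]
    · intro h
      have := hcomapσ g
      rw [h, hMQS] at this
      conv_lhs => rw [this]
      rw [smul_inv_smul]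
  have hAB : Function.Injective (algebraMap A B) := by
    rw [injective_iff_map_eq_zero]
    intro a ha
    obtain ⟨⟨r, t⟩, hrt⟩ := IsLocalization.surj P.primeCompl a
    have h1 := congrArg (algebraMap A B) hrt
    rw [map_mul, ha, zero_mul, ← IsScalarTower.algebraMap_apply R A B, IsScalarTower.algebraMap_apply R S B] at h1
    have hr : r = 0 := (map_eq_zero_iff _ (FaithfulSMul.algebraMap_injective R S)).1
      ((map_eq_zero_iff _ hS0).1 h1.symm)
    simp only [hr, map_zero] at hrt
    exact (IsLocalization.map_units A t).mul_left_eq_zero.1 hrt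
  have hinv : ∀ b, (∀ g, σ g b = b) → ∃ a, algebraMap A B a = b := by
    intro b hb
    obtain ⟨⟨s, ⟨_, t, ht, rfl⟩⟩, hst⟩ := IsLocalization.surj Ms b
    have hfix : ∀ g : G, g • s = s := fun g => hS0 (by
      have h1 := congrArg (σ' g) hst
      rw [map_mul, hσ', hσ', smul_algebraMap, show σ' g b = b from hb g, hst] at h1
      exact h1.symm)
    obtain ⟨r, rfl⟩ := Algebra.IsInvariant.isInvariant (A := R) s hfix
    refine ⟨IsLocalization.mk' A r ⟨t, ht⟩,
      (IsLocalization.map_units B (⟨_, t, ht, rfl⟩ : Ms)).mul_left_injective ?_⟩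
    show _ * algebraMap S B (algebraMap R S t) = b * algebraMap S B (algebraMap R S t)
    rw [hst, ← IsScalarTower.algebraMap_apply R S B, ← IsScalarTower.algebraMap_apply R S B,
      IsScalarTower.algebraMap_apply R A B, ← map_mul, IsLocalization.mk'_spec A r (⟨t, ht⟩ : P.primeCompl),
      ← IsScalarTower.algebraMap_apply R A B]
  have hbound := fun n => core_bound (A := A) (B := B) hAB σ (fun g a => RingHom.congr_fun (hσR g) a) hσmul'
    hinv MQ hover htrans (MulAction.stabilizer G Q) hD n
  choose M₁ hM₁ using fun n => (hbound n).1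
  choose M₂ hM₂ using fun n => (hbound n).2
  -- comparison of the filtrations
  have hMQι : ∀ (n : ℕ) (b : B), b ∈ MQ ^ n → ι b ∈ IsLocalRing.maximalIdeal SQ ^ n := fun n b hb =>
    Ideal.le_comap_pow ι n hb
  have hQMQ : ∀ (n : ℕ) (s : S), s ∈ Q ^ n → algebraMap S B s ∈ MQ ^ n := fun n s hs => by
    have h : Q.map (algebraMap S B) ≤ MQ := Ideal.map_le_iff_le_comap.2 hMQS.ge
    exact Ideal.pow_right_mono h n (by rw [← Ideal.map_pow]; exact Ideal.mem_map_of_mem _ hs)
  have hunit : ∀ (n : ℕ) (w : S), w ∉ Q → ∃ v, v * algebraMap S B w - 1 ∈ MQ ^ n := fun n w hw => by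
    have h0 : algebraMap S B w ∉ MQ := by rw [← Ideal.mem_comap, hMQS]; exact hw
    have hcop : IsCoprime MQ (Ideal.span {algebraMap S B w}) := Ideal.isCoprime_iff_sup_eq.2
      ((Ideal.IsMaximal.out (I := MQ)).2 _ (left_lt_sup.2 fun h => h0 (h (Ideal.subset_span rfl))))
    have htop := Ideal.isCoprime_iff_sup_eq.1 (hcop.pow_left (m := n))
    obtain ⟨x, hx, y, hy, hxy⟩ := Submodule.mem_sup.1 (htop ▸ Submodule.mem_top : (1 : B) ∈ _)
    obtain ⟨v, rfl⟩ := Ideal.mem_span_singleton'.1 hy
    exact ⟨v, by rw [show v * algebraMap S B w - 1 = -x by rw [← hxy]; ring]; exact neg_mem hx⟩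
  have hιMQ : ∀ (n : ℕ) (b : B), ι b ∈ IsLocalRing.maximalIdeal SQ ^ n → b ∈ MQ ^ n := by
    intro n b hb
    obtain ⟨⟨s, t⟩, hst⟩ := IsLocalization.surj Ms b
    have h1 : algebraMap S SQ s ∈ IsLocalRing.maximalIdeal SQ ^ n := by
      rw [← hι, ← hst, map_mul]
      exact Ideal.mul_mem_right _ _ hb
    rw [← IsLocalization.AtPrime.map_eq_maximalIdeal Q SQ, ← Ideal.map_pow,
      IsLocalization.algebraMap_mem_map_algebraMap_iff Q.primeCompl SQ] at h1
    obtain ⟨w, hw, hws⟩ := h1
    obtain ⟨v, hv⟩ := hunit n w hw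
    have hbt : algebraMap S B s ∈ MQ ^ n := by
      rw [show algebraMap S B s = v * algebraMap S B (w * s) - (v * algebraMap S B w - 1) * algebraMap S B s by
        rw [map_mul]; ring]
      exact sub_mem (Ideal.mul_mem_left _ _ (hQMQ n _ hws)) (Ideal.mul_mem_right _ _ hv)
    rw [← hst] at hbt
    exact (Ideal.mul_unit_mem_iff_mem _ (IsLocalization.map_units B t)).1 hbt
  have hιsurj : ∀ (n : ℕ) (q : SQ), ∃ b : B, q - ι b ∈ IsLocalRing.maximalIdeal SQ ^ n := by
    intro n q
    obtain ⟨⟨s, w⟩, hq⟩ := IsLocalization.surj Q.primeCompl q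
    obtain ⟨v, hv⟩ := hunit n w w.2
    refine ⟨algebraMap S B s * v, ?_⟩
    rw [map_mul, hι, ← hq, show q - q * algebraMap S SQ w * ι v = -(q * (ι v * ι (algebraMap S B w) - 1)) by
      rw [hι]; ring, ← map_mul, ← map_one ι, ← map_sub]
    exact neg_mem (Ideal.mul_mem_left _ _ (hMQι n _ hv))
  -- completions
  let cR : A →+* EGA4.Cpl A := algebraMap A _
  let cS : SQ →+* EGA4.Cpl SQ := algebraMap SQ _
  let φ : EGA4.Cpl A →+* EGA4.Cpl SQ := algebraMap (EGA4.Cpl A) (EGA4.Cpl SQ)
  have hFR := GrothLib.ComplAlg.isFormalCompl_adicCompletion (IsLocalRing.maximalIdeal A)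
  have hFS := GrothLib.ComplAlg.isFormalCompl_adicCompletion (IsLocalRing.maximalIdeal SQ)
  have hφ : φ.comp cR = cS.comp lR := by
    refine IsLocalization.ringHom_ext P.primeCompl (RingHom.ext fun r => ?_)
    show φ (cR (algebraMap R A r)) = cS (lR (algebraMap R A r))
    rw [show lR (algebraMap R A r) = algebraMap S SQ (algebraMap R S r) from
      Localization.localRingHom_to_map P Q (algebraMap R S) hPQ r]
    exact halg r
  have hφm : ∀ n, ((IsLocalRing.maximalIdeal A) ^ n).map cR ≤ (((IsLocalRing.maximalIdeal SQ) ^ n).map cS).comap φ := by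
    intro n
    rw [← Ideal.map_le_iff_le_comap, Ideal.map_map, hφ, ← Ideal.map_map]
    refine Ideal.map_mono ?_
    rw [Ideal.map_pow]
    refine Ideal.pow_right_mono ?_ n
    rw [Ideal.map_le_iff_le_comap, ← hιA, ← Ideal.comap_comap]
    exact hover.ge
  have hactB : ∀ (d : MulAction.stabilizer G Q) (b : B), d • cS (ι b) = cS (ι (σ' d b)) := by
    intro d b
    refine RingHom.congr_fun (IsLocalization.ringHom_ext Ms
      (j := (MulSemiringAction.toRingHom (MulAction.stabilizer G Q) (EGA4.Cpl SQ) d).comp (cS.comp ι))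
      (k := (cS.comp ι).comp (σ' d)) (RingHom.ext fun s => ?_)) b
    show d • cS (ι (algebraMap S B s)) = cS (ι (σ' d (algebraMap S B s)))
    rw [hσ', hι, hι]
    exact hact d s
  have hpres : ∀ (d : MulAction.stabilizer G Q) (n : ℕ) (x : EGA4.Cpl SQ),
      x ∈ ((IsLocalRing.maximalIdeal SQ) ^ n).map cS → d • x ∈ ((IsLocalRing.maximalIdeal SQ) ^ n).map cS := by
    intro d n
    suffices h : ((IsLocalRing.maximalIdeal SQ) ^ n).map cS ≤
        (((IsLocalRing.maximalIdeal SQ) ^ n).map cS).comap
          (MulSemiringAction.toRingHom (MulAction.stabilizer G Q) (EGA4.Cpl SQ) d) from fun x hx => h hx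
    have hm : IsLocalRing.maximalIdeal SQ ^ n = (Q ^ n).map (algebraMap S SQ) := by
      rw [Ideal.map_pow, IsLocalization.AtPrime.map_eq_maximalIdeal Q SQ]
    conv_lhs => rw [hm, Ideal.map_map]
    rw [Ideal.map_le_iff_le_comap]
    intro s hs
    show d • cS (algebraMap S SQ s) ∈ Ideal.map cS (IsLocalRing.maximalIdeal SQ ^ n)
    rw [hact d s]
    refine Ideal.mem_map_of_mem _ ?_
    rw [hm]
    refine Ideal.mem_map_of_mem _ ?_
    have h1 : (d : G) • s ∈ (d : G) • Q ^ n := Ideal.smul_mem_pointwise_smul (d : G) s (Q ^ n) hs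
    rwa [smul_pow', MulAction.mem_stabilizer_iff.1 d.2] at h1
  have happrox : ∀ (n : ℕ) (r : EGA4.Cpl A), ∃ a : A, r - cR a ∈ ((IsLocalRing.maximalIdeal A) ^ n).map cR :=
    fun n r => hFR.surj n r
  have hfixA : ∀ (d : MulAction.stabilizer G Q) (a : A), d • φ (cR a) = φ (cR a) := fun d a => by
    have h1 : φ (cR a) = cS (ι (algebraMap A B a)) := by
      rw [← RingHom.comp_apply, hφ, ← hιA]; rfl
    rw [h1, hactB]
    exact congrArg (fun x => cS (ι x)) (RingHom.congr_fun (hσR d) a)
  refine ⟨⟨fun {d₁ d₂} h => ?_⟩, ⟨fun d r x => ?_⟩, ⟨fun x hx => ?_⟩⟩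
  · have hcinj : Function.Injective cS := fun a b hab => by
      rw [← sub_eq_zero]
      have h0 : ∀ n, a - b ∈ IsLocalRing.maximalIdeal SQ ^ n := fun n => hFS.inj n _ (by
        show cS (a - b) ∈ _
        rw [map_sub, hab, sub_self]
        exact zero_mem _)
      have hk := Ideal.iInf_pow_eq_bot_of_isLocalRing (IsLocalRing.maximalIdeal SQ) (IsLocalRing.maximalIdeal.isMaximal SQ).ne_top
      exact (Submodule.mem_bot SQ).1 (hk ▸ (Submodule.mem_iInf _).2 h0)
    refine Subtype.ext (eq_of_smul_eq_smul fun s : S => ?_)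
    have hQ0 : Q.primeCompl ≤ nonZeroDivisors S := Q.primeCompl_le_nonZeroDivisors
    refine IsLocalization.injective SQ hQ0 (hcinj ?_)
    exact ((hact d₁ s).symm.trans (h _)).trans (hact d₂ s)
  · rw [Algebra.smul_def, Algebra.smul_def, smul_mul']
    congr 1
    refine cpl_ext fun n => ?_
    obtain ⟨a, ha⟩ := happrox n r
    have h1 : φ (r - cR a) ∈ ((IsLocalRing.maximalIdeal SQ) ^ n).map cS := hφm n ha
    rw [map_sub] at h1
    show d • φ r - φ r ∈ ((IsLocalRing.maximalIdeal SQ) ^ n).map cS
    have h2 := hpres d n _ h1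
    rw [smul_sub, hfixA] at h2
    simpa using sub_mem h2 h1
  · let g : ℕ → ℕ := fun n => n + ∑ i ∈ Finset.range (n + 1), M₂ i
    have hg1 : ∀ n, n ≤ g n := fun n => Nat.le_add_right _ _
    have hg2 : ∀ n, M₂ n ≤ g n := fun n =>
      (Finset.single_le_sum (fun i _ => Nat.zero_le (M₂ i)) (Finset.self_mem_range_succ n)).trans (Nat.le_add_left _ _)
    have hg3 : ∀ n, g n ≤ g (n + 1) := fun n => by
      simp only [g]
      rw [Finset.sum_range_succ _ (n + 1)]
      omega
    have hlev : ∀ N, ∃ a : A, x - φ (cR a) ∈ ((IsLocalRing.maximalIdeal SQ) ^ N).map cS := by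
      intro N
      let M := max N (M₁ N)
      obtain ⟨q, hq⟩ := hFS.surj M x
      obtain ⟨b, hb⟩ := hιsurj M q
      have hxb : x - cS (ι b) ∈ ((IsLocalRing.maximalIdeal SQ) ^ M).map cS := by
        have h1 := add_mem hq (Ideal.mem_map_of_mem cS hb)
        rwa [map_sub, sub_add_sub_cancel] at h1
      have hb' : ∀ d ∈ MulAction.stabilizer G Q, σ d b - b ∈ MQ ^ (M₁ N) := by
        intro d hd
        refine Ideal.pow_le_pow_right (le_max_right N (M₁ N)) (hιMQ M _ (hFS.inj M _ ?_))
        show cS (ι (σ' d b - b)) ∈ _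
        rw [map_sub, map_sub]
        have h2 := hpres ⟨d, hd⟩ M _ hxb
        rw [smul_sub, hx ⟨d, hd⟩, hactB] at h2
        simpa using sub_mem hxb h2
      obtain ⟨a, ha⟩ := hM₁ N b hb'
      refine ⟨a, ?_⟩
      have h1 : φ (cR a) = cS (ι (algebraMap A B a)) := by
        rw [← RingHom.comp_apply, hφ, ← hιA]; rfl
      rw [h1]
      have h2 := Ideal.map_mono (Ideal.pow_le_pow_right (le_max_left N (M₁ N))) hxb
      have h3 := add_mem h2 (Ideal.mem_map_of_mem cS (hMQι N _ ha))
      rwa [map_sub, map_sub, sub_add_sub_cancel] at h3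
    choose a ha using fun n => hlev (g n)
    have hcauchy : ∀ n, a n ≡ a (n + 1) [SMOD ((IsLocalRing.maximalIdeal A) ^ n • ⊤ : Submodule A A)] := by
      intro n
      rw [SModEq.sub_mem]
      rw [Ideal.smul_top_eq_map, Algebra.algebraMap_self, Ideal.map_id]
      refine hM₂ n _ (Ideal.pow_le_pow_right (hg2 n) (hιMQ (g n) _ (hFS.inj (g n) _ ?_)))
      show cS (ι (algebraMap A B (a n - a (n + 1)))) ∈ _
      have h1 : cS (ι (algebraMap A B (a n - a (n + 1)))) = φ (cR (a n - a (n + 1))) := by
        rw [← RingHom.comp_apply φ cR, hφ, ← hιA]; rfl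
      rw [h1, map_sub, map_sub]
      have h2 := sub_mem (Ideal.map_mono (Ideal.pow_le_pow_right (hg3 n)) (ha (n + 1))) (ha n)
      simpa using h2
    let y : EGA4.Cpl A := AdicCompletion.mk _ A (AdicCompletion.AdicCauchySequence.mk _ _ a hcauchy)
    refine ⟨y, cpl_ext fun n => ?_⟩
    have h1 : y - cR (a n) ∈ ((IsLocalRing.maximalIdeal A) ^ n).map cR := by
      rw [mem_pow_map_iff_evalₐ, map_sub, AlgHom.commutes, AdicCompletion.evalₐ_mk, sub_eq_zero]
      rfl
    have h2 : φ (y - cR (a n)) ∈ ((IsLocalRing.maximalIdeal SQ) ^ n).map cS := hφm n h1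
    rw [map_sub] at h2
    have h3 := Ideal.map_mono (Ideal.pow_le_pow_right (hg1 n)) (ha n)
    show φ y - x ∈ ((IsLocalRing.maximalIdeal SQ) ^ n).map cS
    simpa using sub_mem h2 h3


end Groth.Agent.S18534
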