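import Groth.Statements.S18535
import Mathlib.RingTheory.Henselian
import Groth.Agent.Lib.InertiaUnram4.Basic

set_option autoImplicit false
universe u
open EtAlg

namespace Groth.Agent.S18535

/-- Let R be a complete Noetherian local normal domain with maximal ideal m, let S be a normal domain
containing R on which a finite group G acts by R-algebra automorphisms, faithfully and with ring of
invariants exactly R (so that S is the integral closure of R in some finite Galois extension, with
group G, of Frac R), and let n be a maximal ideal of S over m. Then the inertia subgroup of n in G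
(the elements g with g s - s ∈ n for all s ∈ S) is trivial if and only if mS = n and the residue
field S/n is finite and separable over R/m. -/
theorem result
    (R S G : Type u) [CommRing R] [CommRing S] [IsDomain R] [IsDomain S]
    [IsNoetherianRing R] [IsLocalRing R] [IsIntegrallyClosed R]
    [IsAdicComplete (IsLocalRing.maximalIdeal R) R]
    [Algebra R S] [FaithfulSMul R S] [IsIntegrallyClosed S]
    [Group G] [Finite G] [MulSemiringAction G S] [SMulCommClass G R S] [IsGaloisGroup G R S]
    (n : Ideal S) [n.IsMaximal] [n.LiesOver (IsLocalRing.maximalIdeal R)] :
    n.toAddSubgroup.inertia G = ⊥ ↔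
      ((IsLocalRing.maximalIdeal R).map (algebraMap R S) = n ∧
        Module.Finite (R ⧸ IsLocalRing.maximalIdeal R) (S ⧸ n) ∧
        Algebra.IsSeparable (R ⧸ IsLocalRing.maximalIdeal R) (S ⧸ n)) := by
  haveI : HenselianLocalRing R :=
    { is_henselian := fun f hf a₀ h₁ h₂ =>
        HenselianRing.is_henselian (I := IsLocalRing.maximalIdeal R) f hf a₀ h₁
          (h₂.map (Ideal.Quotient.mk (IsLocalRing.maximalIdeal R))) }
  exact InertiaUnram4.inertia_eq_bot_iff n

end Groth.Agent.S18535
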