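import Groth.Statements.S18536
import Groth.Agent.Lib.ComplAlg.Main
import Groth.Agent.Lib.AdicExtra.Completion
import Groth.Agent.Lib.AdicLim.Finite
import Mathlib

set_option autoImplicit false
universe u
open EtAlg

namespace Groth.Agent.S18536


section

open IsLocalRing

theorem mem_pow_map_iff' {B : Type u} [CommRing B] [IsNoetherianRing B] (a : Ideal B) (n : ℕ)
    (x : AdicCompletion a B) :
    x ∈ (a ^ n).map (algebraMap B (AdicCompletion a B)) ↔ AdicCompletion.evalₐ a n x = 0 := by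
  have h1 : AdicCompletion.eval a B n x = 0 ↔ AdicCompletion.evalₐ a n x = 0 := by
    rw [← AdicCompletion.factor_eval_eq_evalₐ a x (le_of_eq (Ideal.mul_top _))]
    exact (map_eq_zero_iff _ (RingEquiv.injective
      (Ideal.quotEquivOfEq (Ideal.mul_top (a ^ n))))).symm
  rw [← h1, ← LinearMap.mem_ker, ← AdicCompletion.pow_smul_top_eq_ker_eval a.fg_of_isNoetherianRing,
    Ideal.smul_top_eq_map]
  rfl

theorem exists_sub_mem_pow {B A : Type u} [CommRing B] [CommRing A] [IsLocalRing A] [Algebra B A] (P : Ideal B)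
    [P.IsMaximal] [IsLocalization.AtPrime A P] (z : A) (k : ℕ) :
    ∃ b : B, z - algebraMap B A b ∈ maximalIdeal A ^ k := by
  obtain ⟨⟨a, b⟩, hab⟩ := IsLocalization.surj P.primeCompl z
  have hsup : P ⊔ Ideal.span {(b : B)} = ⊤ := (inferInstance : P.IsMaximal).out.2 _
    (left_lt_sup.2 fun h => b.2 (h (Ideal.subset_span rfl)))
  have hcop : IsCoprime (P ^ k) (Ideal.span {(b : B)}) := (Ideal.isCoprime_iff_sup_eq.2 hsup).pow_left
  have htop := Ideal.isCoprime_iff_sup_eq.1 hcop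
  have h1 : (1 : B) ∈ P ^ k ⊔ Ideal.span {(b : B)} := by rw [htop]; exact Submodule.mem_top
  obtain ⟨x, hx, y, hy, hxy⟩ := Submodule.mem_sup.1 h1
  obtain ⟨v, rfl⟩ := Ideal.mem_span_singleton'.1 hy
  refine ⟨a * v, ?_⟩
  have he : z - algebraMap B A (a * v) = z * algebraMap B A x := by
    have h2 := congrArg (algebraMap B A) hxy
    rw [map_add, map_mul, map_one] at h2
    rw [map_mul, ← hab]
    linear_combination -z * h2
  rw [he]
  refine Ideal.mul_mem_left _ _ ?_
  rw [← IsLocalization.AtPrime.map_eq_maximalIdeal P A, ← Ideal.map_pow]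
  exact Ideal.mem_map_of_mem _ hx

theorem exists_cpl_map {R S : Type u} [CommRing R] [IsLocalRing R] [CommRing S] [IsLocalRing S] (f : R →+* S)
    (hf : maximalIdeal R ≤ (maximalIdeal S).comap f) :
    ∃ ψ : EGA4.Cpl R →+* EGA4.Cpl S, ∀ r, ψ (algebraMap R _ r) = algebraMap S _ (f r) := by
  have hle : ∀ n, maximalIdeal R ^ n ≤ (maximalIdeal S ^ n).comap f := fun n =>
    (Ideal.pow_right_mono hf n).trans (Ideal.le_comap_pow f n)
  let fn : ∀ n, EGA4.Cpl R →+* S ⧸ maximalIdeal S ^ n := fun n =>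
    (Ideal.quotientMap (maximalIdeal S ^ n) f (hle n)).comp (AdicCompletion.evalₐ (maximalIdeal R) n).toRingHom
  refine ⟨AdicCompletion.liftRingHom (maximalIdeal S) fn ?_, fun r => ?_⟩
  · intro m n hmn
    ext x
    obtain ⟨c, rfl⟩ := AdicCompletion.mk_surjective _ _ x
    simp only [fn, RingHom.comp_apply, AlgHom.toRingHom_eq_coe, RingHom.coe_coe, AdicCompletion.evalₐ_mk,
      Ideal.quotientMap_mk, Ideal.Quotient.factor_mk]
    rw [Ideal.Quotient.eq, ← map_sub]
    refine hle m ?_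
    have h := c.property hmn
    rw [SModEq.sub_mem, Ideal.smul_top_eq_map, Algebra.algebraMap_self, Ideal.map_id] at h
    rw [← neg_sub]
    exact neg_mem h
  · refine AdicCompletion.ext_evalₐ fun n => ?_
    rw [AdicCompletion.evalₐ_liftRingHom]
    simp [fn, AlgHom.commutes]

end


/-- Let R be an excellent normal local domain with fraction field K, let L, M ⊇ K be two finite
separable field extensions, both contained in a field Ω that they generate, let A ⊆ Ω be the
localization of the integral closure of R in Ω at one of its maximal ideals, and put S = A ∩ L, T =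
A ∩ M (local rings dominated by A); the completions at the maximal ideals give maps Ŝ → Â ← T̂ (the
algebra structures below are these inclusions and completed inclusions, pinned by the stated
compatibilities). If the residue field of A is generated, over the residue field of S, by the image
of the residue field of T, then the fraction field of Â is the compositum of the fraction fields of
Ŝ and T̂ inside it: every element of Â is a quotient of two elements of the subring of Â generated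
by the images of Ŝ and T̂. -/
theorem result
    (R K L M Ω : Type u) [CommRing R] [IsDomain R] [IsLocalRing R] [IsIntegrallyClosed R]
    (hR : EGA4.IsExcellent R)
    [Field K] [Field L] [Field M] [Field Ω]
    [Algebra R K] [IsFractionRing R K]
    [Algebra K L] [Algebra K M] [Algebra K Ω] [Algebra L Ω] [Algebra M Ω]
    [IsScalarTower K L Ω] [IsScalarTower K M Ω]
    [FiniteDimensional K L] [FiniteDimensional K M] [Algebra.IsSeparable K L] [Algebra.IsSeparable K M]
    (hΩ : IntermediateField.adjoin K (Set.range (algebraMap L Ω) ∪ Set.range (algebraMap M Ω)) = ⊤)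
    [Algebra R L] [Algebra R M] [Algebra R Ω] [IsScalarTower R K L] [IsScalarTower R K M] [IsScalarTower R K Ω]
    [IsScalarTower R L Ω] [IsScalarTower R M Ω]
    (𝔪 : Ideal ↥(integralClosure R Ω)) [𝔪.IsMaximal]
    (A : Subalgebra R Ω)
    (hA : ∀ z : Ω, z ∈ A ↔ ∃ a b : ↥(integralClosure R Ω), b ∉ 𝔪 ∧ z * (b : Ω) = (a : Ω))
    [IsLocalRing ↥A] [IsLocalRing ↥(Subalgebra.comap (IsScalarTower.toAlgHom R L Ω) A)] [IsLocalRing ↥(Subalgebra.comap (IsScalarTower.toAlgHom R M Ω) A)]
    [Algebra ↥(Subalgebra.comap (IsScalarTower.toAlgHom R L Ω) A) ↥A]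
    (hSA : ∀ s : ↥(Subalgebra.comap (IsScalarTower.toAlgHom R L Ω) A), ((algebraMap ↥(Subalgebra.comap (IsScalarTower.toAlgHom R L Ω) A) ↥A s : ↥A) : Ω) = algebraMap L Ω (s : L))
    [Algebra ↥(Subalgebra.comap (IsScalarTower.toAlgHom R M Ω) A) ↥A]
    (hTA : ∀ t : ↥(Subalgebra.comap (IsScalarTower.toAlgHom R M Ω) A), ((algebraMap ↥(Subalgebra.comap (IsScalarTower.toAlgHom R M Ω) A) ↥A t : ↥A) : Ω) = algebraMap M Ω (t : M))
    [Algebra (EGA4.Cpl ↥(Subalgebra.comap (IsScalarTower.toAlgHom R L Ω) A)) (EGA4.Cpl ↥A)]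
    (hcS : ∀ s : ↥(Subalgebra.comap (IsScalarTower.toAlgHom R L Ω) A), algebraMap (EGA4.Cpl ↥(Subalgebra.comap (IsScalarTower.toAlgHom R L Ω) A)) (EGA4.Cpl ↥A) (algebraMap ↥(Subalgebra.comap (IsScalarTower.toAlgHom R L Ω) A) (EGA4.Cpl ↥(Subalgebra.comap (IsScalarTower.toAlgHom R L Ω) A)) s) =
      algebraMap ↥A (EGA4.Cpl ↥A) (algebraMap ↥(Subalgebra.comap (IsScalarTower.toAlgHom R L Ω) A) ↥A s))
    [Algebra (EGA4.Cpl ↥(Subalgebra.comap (IsScalarTower.toAlgHom R M Ω) A)) (EGA4.Cpl ↥A)]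
    (hcT : ∀ t : ↥(Subalgebra.comap (IsScalarTower.toAlgHom R M Ω) A), algebraMap (EGA4.Cpl ↥(Subalgebra.comap (IsScalarTower.toAlgHom R M Ω) A)) (EGA4.Cpl ↥A) (algebraMap ↥(Subalgebra.comap (IsScalarTower.toAlgHom R M Ω) A) (EGA4.Cpl ↥(Subalgebra.comap (IsScalarTower.toAlgHom R M Ω) A)) t) =
      algebraMap ↥A (EGA4.Cpl ↥A) (algebraMap ↥(Subalgebra.comap (IsScalarTower.toAlgHom R M Ω) A) ↥A t))
    [(IsLocalRing.maximalIdeal ↥A).LiesOver (IsLocalRing.maximalIdeal ↥(Subalgebra.comap (IsScalarTower.toAlgHom R M Ω) A))]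
    [(IsLocalRing.maximalIdeal ↥A).LiesOver (IsLocalRing.maximalIdeal ↥(Subalgebra.comap (IsScalarTower.toAlgHom R L Ω) A))]
    (hres : Algebra.adjoin (↥(Subalgebra.comap (IsScalarTower.toAlgHom R L Ω) A) ⧸ IsLocalRing.maximalIdeal ↥(Subalgebra.comap (IsScalarTower.toAlgHom R L Ω) A))
      (Set.range (algebraMap (↥(Subalgebra.comap (IsScalarTower.toAlgHom R M Ω) A) ⧸ IsLocalRing.maximalIdeal ↥(Subalgebra.comap (IsScalarTower.toAlgHom R M Ω) A)) (↥A ⧸ IsLocalRing.maximalIdeal ↥A))) = ⊤) :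
    ∀ x : (EGA4.Cpl ↥A), ∃ a b : (EGA4.Cpl ↥A), a ∈ Algebra.adjoin (EGA4.Cpl ↥(Subalgebra.comap (IsScalarTower.toAlgHom R L Ω) A)) (Set.range (algebraMap (EGA4.Cpl ↥(Subalgebra.comap (IsScalarTower.toAlgHom R M Ω) A)) (EGA4.Cpl ↥A))) ∧ b ∈ Algebra.adjoin (EGA4.Cpl ↥(Subalgebra.comap (IsScalarTower.toAlgHom R L Ω) A)) (Set.range (algebraMap (EGA4.Cpl ↥(Subalgebra.comap (IsScalarTower.toAlgHom R M Ω) A)) (EGA4.Cpl ↥A))) ∧ b ≠ 0 ∧ x * b = a := by
  classical
  haveI : IsNoetherianRing R := hR.1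
  let SL := Subalgebra.comap (IsScalarTower.toAlgHom R L Ω) A
  let TM := Subalgebra.comap (IsScalarTower.toAlgHom R M Ω) A
  let B := integralClosure R Ω
  let cA : ↥A →+* EGA4.Cpl ↥A := algebraMap ↥A _
  -- finiteness
  have hsf : Algebra.IsSeparable K Ω ∧ FiniteDimensional K Ω := by
    let E1 := (IsScalarTower.toAlgHom K L Ω).fieldRange
    let E2 := (IsScalarTower.toAlgHom K M Ω).fieldRange
    have htop : E1 ⊔ E2 = ⊤ := by
      rw [eq_top_iff, ← hΩ, IntermediateField.adjoin_le_iff]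
      rintro x (⟨l, rfl⟩ | ⟨m, rfl⟩)
      · exact (le_sup_left : E1 ≤ E1 ⊔ E2) ⟨l, rfl⟩
      · exact (le_sup_right : E2 ≤ E1 ⊔ E2) ⟨m, rfl⟩
    haveI : FiniteDimensional K E1 := (IsScalarTower.toAlgHom K L Ω).toLinearMap.finiteDimensional_range
    haveI : FiniteDimensional K E2 := (IsScalarTower.toAlgHom K M Ω).toLinearMap.finiteDimensional_range
    have hf : FiniteDimensional K ↥(E1 ⊔ E2) := inferInstance
    rw [htop] at hf
    have hsep : Algebra.IsSeparable K (IntermediateField.adjoin K (Set.range (algebraMap L Ω) ∪ Set.range (algebraMap M Ω))) := by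
      rw [IntermediateField.isSeparable_adjoin_iff_isSeparable]
      rintro x (⟨l, rfl⟩ | ⟨m, rfl⟩)
      · show (minpoly K ((IsScalarTower.toAlgHom K L Ω) l)).Separable
        rw [minpoly.algHom_eq (IsScalarTower.toAlgHom K L Ω) (algebraMap L Ω).injective l]
        exact Algebra.IsSeparable.isSeparable K l
      · show (minpoly K ((IsScalarTower.toAlgHom K M Ω) m)).Separable
        rw [minpoly.algHom_eq (IsScalarTower.toAlgHom K M Ω) (algebraMap M Ω).injective m]
        exact Algebra.IsSeparable.isSeparable K m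
    rw [hΩ] at hsep
    haveI := hsep
    haveI := hf
    exact ⟨AlgEquiv.Algebra.isSeparable IntermediateField.topEquiv, IntermediateField.topEquiv.toLinearEquiv.finiteDimensional⟩
  haveI := hsf.1
  haveI := hsf.2
  haveI : IsIntegrallyClosed R := inferInstance
  haveI hBfin : Module.Finite R B := IsIntegralClosure.finite R K Ω B
  haveI : IsNoetherianRing B := IsNoetherianRing.of_finite R B
  haveI : Algebra.IsIntegral R B := inferInstance
  have hBA : ∀ b : B, (b : Ω) ∈ A := fun b => (hA _).2 ⟨b, 1,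
    fun h => ‹𝔪.IsMaximal›.ne_top ((Ideal.eq_top_iff_one _).2 h), by simp⟩
  let ιB : B →ₐ[R] A := Subalgebra.inclusion (show B ≤ A from fun x hx => hBA ⟨x, hx⟩)
  letI : Algebra B A := ιB.toRingHom.toAlgebra
  have hunit : ∀ b : B, b ∉ 𝔪 → IsUnit (ιB b) := fun b hb => by
    have hb0 : (b : Ω) ≠ 0 := fun h => hb (by rw [show b = 0 from Subtype.ext h]; exact 𝔪.zero_mem)
    refine IsUnit.of_mul_eq_one ⟨(b : Ω)⁻¹, (hA _).2 ⟨1, b, hb, by simp [hb0]⟩⟩ ?_
    exact Subtype.ext (mul_inv_cancel₀ hb0)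
  haveI : IsLocalization.AtPrime ↥A 𝔪 := by
    refine ⟨fun b => hunit b b.2, fun z => ?_, fun {x y} h => ⟨1, ?_⟩⟩
    · obtain ⟨a, b, hb, hab⟩ := (hA _).1 z.2
      exact ⟨(a, ⟨b, hb⟩), Subtype.ext hab⟩
    · have h' : ιB x = ιB y := h
      have hxy : (x : Ω) = (y : Ω) := congrArg (Subtype.val : ↥A → Ω) h'
      rw [Subtype.ext hxy]
  haveI : IsNoetherianRing ↥A := IsLocalization.isNoetherianRing 𝔪.primeCompl ↥A inferInstance
  have hmA : IsLocalRing.maximalIdeal ↥A = 𝔪.map ιB.toRingHom :=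
    (IsLocalization.AtPrime.map_eq_maximalIdeal 𝔪 ↥A).symm
  let mR := IsLocalRing.maximalIdeal R
  have h𝔪R : 𝔪.comap (algebraMap R B) = mR :=
    IsLocalRing.eq_maximalIdeal (Ideal.isMaximal_comap_of_isIntegral_of_isMaximal 𝔪)
  have hRA : mR.map (algebraMap R ↥A) ≤ IsLocalRing.maximalIdeal ↥A := by
    rw [hmA, show algebraMap R ↥A = ιB.toRingHom.comp (algebraMap R B) from RingHom.ext fun r => (ιB.commutes r).symm,
      ← Ideal.map_map]
    exact Ideal.map_mono (Ideal.map_le_iff_le_comap.2 h𝔪R.ge)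
  -- the completion of `R` acting on `Â`
  have hfS : mR ≤ (IsLocalRing.maximalIdeal ↥SL).comap (algebraMap R ↥SL) := fun r hr => by
    have h2 := (IsLocalRing.mem_maximalIdeal _).1 (hRA (Ideal.mem_map_of_mem _ hr))
    rw [Ideal.mem_comap, IsLocalRing.mem_maximalIdeal, mem_nonunits_iff]
    intro hu
    refine h2 ?_
    have h3 := hu.map (algebraMap ↥SL ↥A)
    have h4 : algebraMap ↥SL ↥A (algebraMap R ↥SL r) = algebraMap R ↥A r := Subtype.ext (by
      rw [hSA]
      exact (IsScalarTower.algebraMap_apply R L Ω r).symm)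
    rwa [h4] at h3
  obtain ⟨ψ, hψ⟩ := exists_cpl_map (algebraMap R ↥SL) hfS
  let θ : EGA4.Cpl R →+* EGA4.Cpl ↥A := (algebraMap (EGA4.Cpl ↥SL) (EGA4.Cpl ↥A)).comp ψ
  have hθ : ∀ r, θ (algebraMap R _ r) = cA (algebraMap R ↥A r) := fun r => by
    show algebraMap (EGA4.Cpl ↥SL) (EGA4.Cpl ↥A) (ψ (algebraMap R _ r)) = _
    rw [hψ, hcS]
    congr 1
    exact Subtype.ext ((hSA _).trans (IsScalarTower.algebraMap_apply R L Ω r).symm)
  letI : Algebra (EGA4.Cpl R) (EGA4.Cpl ↥A) := θ.toAlgebra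
  haveI : IsNoetherianRing (EGA4.Cpl R) := GrothLib.AdicExtra.isNoetherianRing_adicCompletion mR
  let I : Ideal (EGA4.Cpl R) := mR.map (algebraMap R _)
  haveI : IsAdicComplete I (EGA4.Cpl R) := by
    have h := AdicCompletion.isAdicComplete (I := mR) (M := R) mR.fg_of_isNoetherianRing
    exact (IsAdicComplete.map_algebraMap_iff (I := mR) (S := EGA4.Cpl R) (EGA4.Cpl R)).2 h
  have hFA := GrothLib.ComplAlg.isFormalCompl_adicCompletion (IsLocalRing.maximalIdeal ↥A)
  have hIle : I.map θ ≤ (IsLocalRing.maximalIdeal ↥A).map cA := by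
    rw [Ideal.map_map, show θ.comp (algebraMap R (EGA4.Cpl R)) = cA.comp (algebraMap R ↥A) from RingHom.ext hθ,
      ← Ideal.map_map]
    exact Ideal.map_mono hRA
  haveI : IsHausdorff I (EGA4.Cpl ↥A) := ⟨fun x hx => AdicCompletion.ext_evalₐ fun n => by
    rw [map_zero, ← mem_pow_map_iff']
    have h := hx n
    rw [SModEq.zero, Ideal.smul_top_eq_map, Submodule.restrictScalars_mem] at h
    rw [Ideal.map_pow] at h ⊢
    exact Ideal.pow_right_mono hIle n h⟩
  obtain ⟨nB, β, hβ⟩ := Module.Finite.exists_fin (R := R) (M := B)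
  let f : (Fin nB → EGA4.Cpl R) →ₗ[EGA4.Cpl R] EGA4.Cpl ↥A :=
    Fintype.linearCombination (EGA4.Cpl R) (fun i => cA (ιB (β i)))
  haveI : IsAdicComplete I (Fin nB → EGA4.Cpl R) := GrothLib.AdicLim.isAdicComplete_of_finite I _
  -- `mR` generates an ideal of definition
  obtain ⟨k, hk⟩ : ∃ k, IsLocalRing.maximalIdeal ↥A ^ k ≤ mR.map (algebraMap R ↥A) := by
    refine Ideal.exists_pow_le_of_le_radical_of_fg ?_ (Ideal.fg_of_isNoetherianRing _)
    rw [Ideal.radical_eq_sInf]
    refine le_sInf fun p hp => ?_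
    haveI := hp.2
    haveI : (p.comap ιB.toRingHom).IsPrime := Ideal.comap_isPrime _ _
    have h1 : (p.comap ιB.toRingHom).comap (algebraMap R B) = mR := by
      refine ((IsLocalRing.maximalIdeal.isMaximal R).eq_of_le (Ideal.comap_isPrime _ _).ne_top ?_).symm
      rw [Ideal.comap_comap, show ιB.toRingHom.comp (algebraMap R B) = algebraMap R ↥A from ιB.comp_algebraMap,
        ← Ideal.map_le_iff_le_comap]
      exact hp.1
    haveI : ((p.comap ιB.toRingHom).comap (algebraMap R B)).IsMaximal := h1 ▸ IsLocalRing.maximalIdeal.isMaximal R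
    haveI : (p.comap ιB.toRingHom).IsMaximal :=
      Ideal.isMaximal_of_isIntegral_of_isMaximal_comap (R := R) _ inferInstance
    have h2 : p.comap ιB.toRingHom ≤ 𝔪 := fun x hx => by
      by_contra hx'
      exact hp.2.ne_top (Ideal.eq_top_of_isUnit_mem _ hx (hunit x hx'))
    have h3 := ((inferInstance : (p.comap ιB.toRingHom).IsMaximal).eq_of_le ‹𝔪.IsMaximal›.ne_top h2)
    rw [hmA, ← h3]
    exact Ideal.map_comap_le
  have hBsurj : ∀ z : ↥A, ∃ b : B, z - ιB b ∈ IsLocalRing.maximalIdeal ↥A ^ k := by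
    intro z
    obtain ⟨b, hb⟩ := exists_sub_mem_pow 𝔪 z k
    exact ⟨b, hb⟩
  have hfsurj : Function.Surjective f := by
    refine surjective_of_mkQ_comp_surjective (I := I) fun y => ?_
    obtain ⟨x, rfl⟩ := Submodule.mkQ_surjective _ y
    obtain ⟨z, hz⟩ := hFA.surj k x
    obtain ⟨b, hb⟩ := hBsurj z
    obtain ⟨e, he⟩ := (Submodule.mem_span_range_iff_exists_fun R).1 (hβ ▸ Submodule.mem_top : b ∈ _)
    refine ⟨fun i => algebraMap R _ (e i), ?_⟩
    show Submodule.mkQ _ (f _) = Submodule.mkQ _ x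
    rw [Submodule.mkQ_apply, Submodule.mkQ_apply, eq_comm, Submodule.Quotient.eq]
    have hf' : f (fun i => algebraMap R _ (e i)) = cA (ιB b) := by
      rw [← he, map_sum, map_sum, Fintype.linearCombination_apply]
      refine Finset.sum_congr rfl fun i _ => ?_
      rw [Algebra.smul_def, RingHom.algebraMap_toAlgebra, hθ, ← map_mul, map_smul, Algebra.smul_def]
    rw [hf', Ideal.smul_top_eq_map, Submodule.restrictScalars_mem]
    have h1 := add_mem hz (Ideal.mem_map_of_mem cA hb)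
    rw [map_sub, sub_add_sub_cancel] at h1
    have h2 := Ideal.map_mono hk h1
    rw [Ideal.map_map] at h2
    show x - cA (ιB b) ∈ I.map θ
    rw [Ideal.map_map, show θ.comp (algebraMap R (EGA4.Cpl R)) = cA.comp (algebraMap R ↥A) from RingHom.ext hθ]
    exact h2
  -- the subring
  let D := Algebra.adjoin (EGA4.Cpl ↥SL) (Set.range (algebraMap (EGA4.Cpl ↥TM) (EGA4.Cpl ↥A)))
  have hθD : ∀ r, θ r ∈ D := fun r => Subalgebra.algebraMap_mem D (ψ r)
  have hSD : ∀ s : ↥SL, cA (algebraMap ↥SL ↥A s) ∈ D := fun s => by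
    rw [← hcS]; exact Subalgebra.algebraMap_mem D _
  have hTD : ∀ t : ↥TM, cA (algebraMap ↥TM ↥A t) ∈ D := fun t => by
    rw [← hcT]; exact Algebra.subset_adjoin ⟨_, rfl⟩
  have hmulint : ∀ z : Ω, ∃ r : R, r ≠ 0 ∧ ∀ h : algebraMap R Ω r * z ∈ A, cA ⟨_, h⟩ ∈ D ∧ True := by
    intro z
    suffices h : ∃ r : R, r ≠ 0 ∧ ∃ h : algebraMap R Ω r * z ∈ A, cA ⟨_, h⟩ ∈ D by
      obtain ⟨r, hr, h, hD⟩ := h
      exact ⟨r, hr, fun _ => ⟨hD, trivial⟩⟩
    have hz : z ∈ Algebra.adjoin K (Set.range (algebraMap L Ω) ∪ Set.range (algebraMap M Ω)) := by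
      rw [← IntermediateField.adjoin_toSubalgebra (F := K), hΩ]
      trivial
    induction hz using Algebra.adjoin_induction with
    | algebraMap c =>
      obtain ⟨a, b, hb, rfl⟩ := IsFractionRing.div_surjective R (K := K) c
      have hb0 : algebraMap R K b ≠ 0 := IsFractionRing.to_map_ne_zero_of_mem_nonZeroDivisors hb
      have he : algebraMap R Ω b * algebraMap K Ω (algebraMap R K a / algebraMap R K b) = algebraMap R Ω a := by
        rw [IsScalarTower.algebraMap_apply R K Ω b, ← map_mul, mul_div_cancel₀ _ hb0,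
          ← IsScalarTower.algebraMap_apply]
      refine ⟨b, nonZeroDivisors.ne_zero hb, by rw [he]; exact A.algebraMap_mem a, ?_⟩
      rw [show (⟨_, _⟩ : ↥A) = algebraMap R ↥A a from Subtype.ext he, ← hθ]
      exact hθD _
    | mem x hx =>
      rcases hx with ⟨l, rfl⟩ | ⟨m, rfl⟩
      · obtain ⟨⟨r, hr⟩, hint⟩ := IsIntegral.exists_multiple_integral_of_isLocalization
          (nonZeroDivisors R) l (IsIntegral.of_finite K l)
        have he : algebraMap L Ω (r • l) = algebraMap R Ω r * algebraMap L Ω l := by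
          rw [Algebra.smul_def, map_mul, ← IsScalarTower.algebraMap_apply]
        have hmem : algebraMap R Ω r * algebraMap L Ω l ∈ A :=
          hBA ⟨_, he ▸ (hint.map (IsScalarTower.toAlgHom R L Ω))⟩
        refine ⟨r, nonZeroDivisors.ne_zero hr, hmem, ?_⟩
        have hs : r • l ∈ SL := show algebraMap L Ω (r • l) ∈ A by rw [he]; exact hmem
        rw [show (⟨_, hmem⟩ : ↥A) = algebraMap ↥SL ↥A ⟨_, hs⟩ from Subtype.ext (he.symm.trans (hSA ⟨r • l, hs⟩).symm)]
        exact hSD _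
      · obtain ⟨⟨r, hr⟩, hint⟩ := IsIntegral.exists_multiple_integral_of_isLocalization
          (nonZeroDivisors R) m (IsIntegral.of_finite K m)
        have he : algebraMap M Ω (r • m) = algebraMap R Ω r * algebraMap M Ω m := by
          rw [Algebra.smul_def, map_mul, ← IsScalarTower.algebraMap_apply]
        have hmem : algebraMap R Ω r * algebraMap M Ω m ∈ A :=
          hBA ⟨_, he ▸ (hint.map (IsScalarTower.toAlgHom R M Ω))⟩
        refine ⟨r, nonZeroDivisors.ne_zero hr, hmem, ?_⟩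
        have hs : r • m ∈ TM := show algebraMap M Ω (r • m) ∈ A by rw [he]; exact hmem
        rw [show (⟨_, hmem⟩ : ↥A) = algebraMap ↥TM ↥A ⟨_, hs⟩ from Subtype.ext (he.symm.trans (hTA ⟨r • m, hs⟩).symm)]
        exact hTD _
    | add x y _ _ hx hy =>
      obtain ⟨r, hr, hxm, hxD⟩ := hx
      obtain ⟨r', hr', hym, hyD⟩ := hy
      let u : ↥A := algebraMap R ↥A r' * ⟨_, hxm⟩ + algebraMap R ↥A r * ⟨_, hym⟩
      have he : (u : Ω) = algebraMap R Ω (r * r') * (x + y) := by
        show algebraMap R Ω r' * (algebraMap R Ω r * x) + algebraMap R Ω r * (algebraMap R Ω r' * y) = _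
        rw [map_mul]; ring
      refine ⟨r * r', mul_ne_zero hr hr', he ▸ u.2, ?_⟩
      rw [show (⟨_, he ▸ u.2⟩ : ↥A) = u from Subtype.ext he.symm]
      simp only [u, map_add, map_mul, ← hθ]
      exact add_mem (mul_mem (hθD _) hxD) (mul_mem (hθD _) hyD)
    | mul x y _ _ hx hy =>
      obtain ⟨r, hr, hxm, hxD⟩ := hx
      obtain ⟨r', hr', hym, hyD⟩ := hy
      let u : ↥A := (⟨_, hxm⟩ : ↥A) * ⟨_, hym⟩
      have he : (u : Ω) = algebraMap R Ω (r * r') * (x * y) := by
        show algebraMap R Ω r * x * (algebraMap R Ω r' * y) = _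
        rw [map_mul]; ring
      refine ⟨r * r', mul_ne_zero hr hr', he ▸ u.2, ?_⟩
      rw [show (⟨_, he ▸ u.2⟩ : ↥A) = u from Subtype.ext he.symm]
      simp only [u, map_mul]
      exact mul_mem hxD hyD
  intro x
  obtain ⟨ρ, hρ⟩ := hfsurj x
  choose r hr0 hr using fun i => hmulint ((β i : B) : Ω)
  let r0 := ∏ i, r i
  have hr00 : r0 ≠ 0 := Finset.prod_ne_zero_iff.2 fun i _ => hr0 i
  have hcinj : Function.Injective cA := fun a b hab => by
    rw [← sub_eq_zero]
    have h0 : ∀ n, a - b ∈ IsLocalRing.maximalIdeal ↥A ^ n := fun n => hFA.inj n _ (by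
      show cA (a - b) ∈ _
      rw [map_sub, hab, sub_self]
      exact zero_mem _)
    have hk := Ideal.iInf_pow_eq_bot_of_isLocalRing (IsLocalRing.maximalIdeal ↥A) (IsLocalRing.maximalIdeal.isMaximal ↥A).ne_top
    exact (Submodule.mem_bot ↥A).1 (hk ▸ (Submodule.mem_iInf _).2 h0)
  refine ⟨x * cA (algebraMap R ↥A r0), cA (algebraMap R ↥A r0), ?_, by rw [← hθ]; exact hθD _, ?_, rfl⟩
  · show _ ∈ D
    rw [← hρ, Fintype.linearCombination_apply, Finset.sum_mul]
    refine Subalgebra.sum_mem _ fun i _ => ?_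
    rw [Algebra.smul_def, RingHom.algebraMap_toAlgebra, mul_assoc, ← map_mul]
    refine mul_mem (hθD _) ?_
    have hmem : algebraMap R Ω (r i) * ((β i : B) : Ω) ∈ A := mul_mem (A.algebraMap_mem _) (hBA _)
    have he : ιB (β i) * algebraMap R ↥A r0 =
        algebraMap R ↥A (∏ j ∈ Finset.univ.erase i, r j) * ⟨_, hmem⟩ := Subtype.ext (by
      show ((β i : B) : Ω) * algebraMap R Ω r0 = algebraMap R Ω _ * (algebraMap R Ω (r i) * ((β i : B) : Ω))
      simp only [r0, ← Finset.mul_prod_erase Finset.univ r (Finset.mem_univ i), map_mul]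
      ring)
    rw [he, map_mul, ← hθ]
    exact mul_mem (hθD _) (hr i hmem).1
  · rw [map_ne_zero_iff _ hcinj]
    intro h
    have h1 : algebraMap R Ω r0 = 0 := congrArg Subtype.val h
    rw [IsScalarTower.algebraMap_apply R K Ω, map_eq_zero_iff _ (algebraMap K Ω).injective,
      map_eq_zero_iff _ (IsFractionRing.injective R K)] at h1
    exact hr00 h1


end Groth.Agent.S18536
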