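import Groth.Statements.S18537
import Groth.Agent.S18536
import Groth.Agent.S2651
import Groth.Agent.Lib.FormalUnibranch.Basic
import Groth.Agent.Lib.Ratliff.Excellent
import Groth.Agent.Lib.Excellent.Localization
import Groth.Agent.Lib.Dim.Ring

set_option autoImplicit false
universe u
open EtAlg

namespace Groth.Agent.S18537


section

open IsLocalRing Polynomial

theorem cpl_normal_domain (T : Type u) [CommRing T] [IsDomain T] [IsLocalRing T] [IsNoetherianRing T]
    [IsIntegrallyClosed T] (hT : EGA4.IsExcellent T) :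
    IsDomain (EGA4.Cpl T) ∧ IsIntegrallyClosed (EGA4.Cpl T) := by
  have hN : EGA4.HasGeomNormalFormalFibres T := fun p hp =>
    (GrothLib.NormalHom.isNormalHom_of_isRegularHom (GrothLib.Ratliff.isRegularHom_cpl_of_isGRing T hT.2.2.1)).2 p
  haveI : Algebra.IsIntegral T T := Algebra.IsIntegral.of_surjective (Algebra.ofId T T) fun x => ⟨x, rfl⟩
  obtain ⟨-, hd, hic⟩ := GrothLib.FormalUnibranch.tensor_normal_domain T hN T
  haveI := hd
  haveI := hic
  let e := (Algebra.TensorProduct.rid T T (EGA4.Cpl T)).toRingEquiv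
  exact ⟨e.symm.toMulEquiv.isDomain _, IsIntegrallyClosed.of_equiv e⟩

theorem unramified_of_birational (T A : Type u) [CommRing T] [IsDomain T] [IsLocalRing T] [IsNoetherianRing T]
    [CommRing A] [IsDomain A] [IsLocalRing A] [IsNoetherianRing A] [Algebra T A]
    [(maximalIdeal A).LiesOver (maximalIdeal T)]
    [IsDomain (EGA4.Cpl T)] [IsIntegrallyClosed (EGA4.Cpl T)] [IsDomain (EGA4.Cpl A)]
    (j : EGA4.Cpl T →+* EGA4.Cpl A)
    (hc : ∀ t, j (algebraMap T _ t) = algebraMap A _ (algebraMap T A t))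
    (hfin : j.Finite) (hdim : ringKrullDim T ≤ ringKrullDim A)
    (hfrac : ∀ x, ∃ a b, j b ≠ 0 ∧ x * j b = j a) :
    (maximalIdeal T).map (algebraMap T A) = maximalIdeal A ∧
      Module.Finite (T ⧸ maximalIdeal T) (A ⧸ maximalIdeal A) ∧
      Algebra.IsSeparable (T ⧸ maximalIdeal T) (A ⧸ maximalIdeal A) := by
  letI : Algebra (EGA4.Cpl T) (EGA4.Cpl A) := j.toAlgebra
  haveI : Module.Finite (EGA4.Cpl T) (EGA4.Cpl A) := hfin
  haveI : Algebra.IsIntegral (EGA4.Cpl T) (EGA4.Cpl A) := Algebra.IsIntegral.of_finite _ _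
  have hinj : Function.Injective j := by
    rw [RingHom.injective_iff_ker_eq_bot]
    by_contra hne
    obtain ⟨r, hr, hr0⟩ := Submodule.exists_mem_ne_zero_of_ne_bot hne
    have h1 : ringKrullDim j.range + 1 ≤ ringKrullDim (EGA4.Cpl T) :=
      ringKrullDim_succ_le_of_surjective j.rangeRestrict j.rangeRestrict_surjective
        (mem_nonZeroDivisors_of_ne_zero hr0) (Subtype.ext (RingHom.mem_ker.1 hr))
    letI : Algebra j.range (EGA4.Cpl A) := j.range.subtype.toAlgebra
    letI : Algebra (EGA4.Cpl T) j.range := j.rangeRestrict.toAlgebra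
    haveI : IsScalarTower (EGA4.Cpl T) j.range (EGA4.Cpl A) := IsScalarTower.of_algebraMap_eq fun _ => rfl
    haveI : Algebra.IsIntegral j.range (EGA4.Cpl A) := Algebra.IsIntegral.tower_top (EGA4.Cpl T)
    have h2 := GrothLib.Dim.ringKrullDim_le_of_isIntegral j.range (EGA4.Cpl A)
    have hA' : ringKrullDim (EGA4.Cpl A) = ringKrullDim A := GrothLib.AdicExtra.ringKrullDim_adicCompletion
    have hT' : ringKrullDim (EGA4.Cpl T) = ringKrullDim T := GrothLib.AdicExtra.ringKrullDim_adicCompletion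
    rw [hT'] at h1
    rw [hA'] at h2
    have h3 : ringKrullDim T + 1 ≤ ringKrullDim T := (add_le_add_left (hdim.trans h2) 1).trans h1
    obtain ⟨d, hd⟩ : ∃ d : ℕ, ringKrullDim T = d := by
      obtain ⟨d, hd⟩ := ENat.ne_top_iff_exists.1
        (Ideal.height_ne_top (I := IsLocalRing.maximalIdeal T) Ideal.IsPrime.ne_top')
      exact ⟨d, by rw [← IsLocalRing.maximalIdeal_height_eq_ringKrullDim, ← hd]; rfl⟩
    rw [hd] at h3
    exact absurd h3 (by norm_cast; omega)
  have hsurj : Function.Surjective j := fun x => by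
    obtain ⟨a, b, hb, hab⟩ := hfrac x
    have hint : IsIntegral (EGA4.Cpl T) x := Algebra.IsIntegral.isIntegral x
    let K := FractionRing (EGA4.Cpl T)
    let K' := FractionRing (EGA4.Cpl A)
    let φ : K →+* K' := IsFractionRing.map hinj
    have hφ : ∀ y, φ (algebraMap (EGA4.Cpl T) K y) = algebraMap (EGA4.Cpl A) K' (j y) := fun y =>
      IsLocalization.map_eq _ y
    letI : Algebra K K' := φ.toAlgebra
    haveI : IsScalarTower (EGA4.Cpl T) K K' := IsScalarTower.of_algebraMap_eq fun y =>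
      ((hφ y).trans (IsScalarTower.algebraMap_apply (EGA4.Cpl T) (EGA4.Cpl A) K' y).symm).symm
    have hb' : algebraMap (EGA4.Cpl A) K' (j b) ≠ 0 := by
      rwa [map_ne_zero_iff _ (IsFractionRing.injective _ _)]
    have hq : algebraMap K K' (algebraMap (EGA4.Cpl T) K a / algebraMap (EGA4.Cpl T) K b) =
        algebraMap (EGA4.Cpl A) K' x := by
      show φ _ = _
      rw [map_div₀, hφ, hφ, div_eq_iff hb', ← map_mul, hab]
    have hiK : IsIntegral (EGA4.Cpl T) (algebraMap (EGA4.Cpl T) K a / algebraMap (EGA4.Cpl T) K b) := by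
      refine (isIntegral_algHom_iff (IsScalarTower.toAlgHom (EGA4.Cpl T) K K') (algebraMap K K').injective).1 ?_
      show IsIntegral _ (algebraMap K K' _)
      rw [hq]
      exact hint.map (IsScalarTower.toAlgHom (EGA4.Cpl T) (EGA4.Cpl A) K')
    obtain ⟨c, hc'⟩ := IsIntegrallyClosed.isIntegral_iff.1 hiK
    refine ⟨c, IsFractionRing.injective (EGA4.Cpl A) K' ?_⟩
    rw [← hq, ← hc']
    exact (hφ c).symm
  let e := RingEquiv.ofBijective j ⟨hinj, hsurj⟩
  have hmax : (maximalIdeal (EGA4.Cpl T)).map j = maximalIdeal (EGA4.Cpl A) :=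
    IsLocalRing.eq_maximalIdeal (Ideal.map_isMaximal_of_equiv e)
  have hmap : ((maximalIdeal T).map (algebraMap T A)).map (algebraMap A (EGA4.Cpl A)) =
      (maximalIdeal A).map (algebraMap A (EGA4.Cpl A)) := by
    rw [← AdicCompletion.maximalIdeal_eq_map, ← hmax, AdicCompletion.maximalIdeal_eq_map, Ideal.map_map,
      Ideal.map_map, show j.comp (algebraMap T (EGA4.Cpl T)) = (algebraMap A (EGA4.Cpl A)).comp (algebraMap T A)
        from RingHom.ext hc]
  haveI : Module.FaithfullyFlat A (EGA4.Cpl A) := GrothLib.Excellent.faithfullyFlat_cpl A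
  have hmA : (maximalIdeal T).map (algebraMap T A) = maximalIdeal A := by
    have h := congrArg (Ideal.comap (algebraMap A (EGA4.Cpl A))) hmap
    rwa [Ideal.comap_map_eq_self_of_faithfullyFlat, Ideal.comap_map_eq_self_of_faithfullyFlat] at h
  have hres : Function.Surjective (algebraMap (T ⧸ maximalIdeal T) (A ⧸ maximalIdeal A)) := fun z => by
    obtain ⟨a, rfl⟩ := Ideal.Quotient.mk_surjective z
    obtain ⟨y, hy⟩ := hsurj (algebraMap A _ a)
    obtain ⟨t, ht⟩ := GrothLib.RegCompl.exists_sub_mem_map (maximalIdeal T) (IsNoetherian.noetherian _) y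
    refine ⟨Ideal.Quotient.mk _ t, ?_⟩
    rw [Ideal.Quotient.algebraMap_mk_of_liesOver]
    refine Eq.symm (Ideal.Quotient.eq.2 ?_)
    have h := Ideal.mem_map_of_mem j ht
    rw [← AdicCompletion.maximalIdeal_eq_map, hmax, map_sub, hy, hc, ← map_sub,
      AdicCompletion.maximalIdeal_eq_map] at h
    rw [← Ideal.comap_map_eq_self_of_faithfullyFlat (B := EGA4.Cpl A) (maximalIdeal A)]
    exact Ideal.mem_comap.2 h
  refine ⟨hmA, ?_, ?_⟩
  · exact Module.Finite.of_surjective (Algebra.linearMap _ _) hres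
  · letI : Field (T ⧸ maximalIdeal T) := Ideal.Quotient.field _
    refine ⟨fun z => ?_⟩
    obtain ⟨w, rfl⟩ := hres z
    exact isSeparable_algebraMap w

/-- An element of `M` which becomes, in `Ω`, a quotient of integral elements with denominator outside `𝔪`
has such a denominator already in `M`. -/
theorem exists_denominator (R K M Ω : Type u) [CommRing R] [IsDomain R] [IsIntegrallyClosed R]
    [Field K] [Field M] [Field Ω] [Algebra R K] [IsFractionRing R K] [Algebra K M] [FiniteDimensional K M]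
    [Algebra R M] [IsScalarTower R K M] [Algebra R Ω] [Algebra M Ω] [IsScalarTower R M Ω]
    (ι : ↥(integralClosure R M) →+* ↥(integralClosure R Ω))
    (hι : ∀ c, (ι c : Ω) = algebraMap M Ω (c : M))
    (𝔪 : Ideal ↥(integralClosure R Ω)) [𝔪.IsPrime] (m : M)
    (a b : ↥(integralClosure R Ω)) (hb : b ∉ 𝔪) (hab : algebraMap M Ω m * (b : Ω) = (a : Ω)) :
    ∃ a' c : ↥(integralClosure R M), ι c ∉ 𝔪 ∧ m * (c : M) = (a' : M) := by
  classical
  let BM := integralClosure R M
  haveI : IsFractionRing BM M := integralClosure.isFractionRing_of_finite_extension K M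
  haveI : IsIntegrallyClosed BM := integralClosure.isIntegrallyClosedOfFiniteExtension K
  have hbi : IsIntegral BM (b : Ω) := IsIntegral.tower_top b.2
  have hai : IsIntegral BM (a : Ω) := IsIntegral.tower_top a.2
  by_cases hm : m = 0
  · exact ⟨0, 1, fun h => (inferInstance : 𝔪.IsPrime).ne_top ((Ideal.eq_top_iff_one _).2 (by rwa [map_one] at h)),
      by simp [hm]⟩
  have hP := minpoly.isIntegrallyClosed_eq_field_fractions' M hbi
  have hP' := minpoly.isIntegrallyClosed_eq_field_fractions' M hai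
  have hsm : (minpoly BM (a : Ω)).map (algebraMap BM M) =
      ((minpoly BM (b : Ω)).map (algebraMap BM M)).scaleRoots m := by
    rw [← hP, ← hP', ← IsIntegrallyClosed.minpoly_smul hm hbi.tower_top, Algebra.smul_def, hab]
  set P := minpoly BM (b : Ω)
  obtain ⟨i, hi, hiP⟩ : ∃ i, i < P.natDegree ∧ ι (P.coeff i) ∉ 𝔪 := by
    by_contra! hcon
    refine hb ((inferInstance : 𝔪.IsPrime).mem_of_pow_mem P.natDegree ?_)
    have h0 : aeval (b : Ω) P = 0 := minpoly.aeval _ _
    rw [aeval_eq_sum_range, Finset.sum_range_succ,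
      (minpoly.monic hbi).coeff_natDegree, one_smul] at h0
    have he : b ^ P.natDegree = -∑ k ∈ Finset.range P.natDegree, ι (P.coeff k) * b ^ k := by
      refine Subtype.ext ?_
      push_cast
      rw [eq_neg_iff_add_eq_zero, add_comm]
      convert h0 using 3 with k
      rw [hι, Algebra.smul_def, IsScalarTower.algebraMap_apply BM M Ω]
      rfl
    rw [he]
    exact neg_mem (Submodule.sum_mem _ fun k hk => Ideal.mul_mem_right _ _ (hcon k (Finset.mem_range.1 hk)))
  obtain ⟨k, hk⟩ := Nat.exists_eq_succ_of_ne_zero (show P.natDegree - i ≠ 0 by omega)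
  have hco : ∃ e : BM, ((P.coeff i : M)) * m ^ (k + 1) = (e : M) := by
    refine ⟨(minpoly BM (a : Ω)).coeff i, ?_⟩
    have := congrArg (fun q : Polynomial M => q.coeff i) hsm
    rw [coeff_scaleRoots, (minpoly.monic hbi).natDegree_map, coeff_map, coeff_map, hk] at this
    exact this.symm
  obtain ⟨e, he⟩ := hco
  have hint : IsIntegral R (m * (P.coeff i : M)) := by
    refine IsIntegral.of_pow (n := k + 1) (Nat.succ_pos k) ?_
    have h2 : (m * (P.coeff i : M)) ^ (k + 1) = ((P.coeff i) ^ k * e : BM) := by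
      push_cast
      rw [← he]
      ring
    rw [h2]
    exact ((P.coeff i) ^ k * e).2
  exact ⟨⟨_, hint⟩, P.coeff i, hiP, rfl⟩

end


/-- Let R be an excellent normal local domain with fraction field K, let L, M ⊇ K be two finite
separable field extensions, both contained in a field Ω that they generate, let A ⊆ Ω be the
localization of the integral closure of R in Ω at one of its maximal ideals, and put S = A ∩ L, T =
A ∩ M; these are local rings, T ⊆ A, and the completions at the maximal ideals give maps Ŝ → Â ← T̂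
(the algebra structures below are these inclusions and completed inclusions, pinned by the stated
compatibilities). If, inside the fraction field of Â, the ring Ŝ lies in the fraction field of T̂
(every element of Ŝ becomes a quotient of two elements of T̂), then A is unramified over T: m_T A =
m_A and A/m_A is a finite separable extension of T/m_T. -/
theorem result
    (R K L M Ω : Type u) [CommRing R] [IsDomain R] [IsLocalRing R] [IsIntegrallyClosed R]
    (hR : EGA4.IsExcellent R)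
    [Field K] [Field L] [Field M] [Field Ω]
    [Algebra R K] [IsFractionRing R K]
    [Algebra K L] [Algebra K M] [Algebra K Ω] [Algebra L Ω] [Algebra M Ω]
    [IsScalarTower K L Ω] [IsScalarTower K M Ω]
    [FiniteDimensional K L] [FiniteDimensional K M] [Algebra.IsSeparable K L] [Algebra.IsSeparable K M]
    (hΩ : IntermediateField.adjoin K (Set.range (algebraMap L Ω) ∪ Set.range (algebraMap M Ω)) = ⊤)
    [Algebra R L] [Algebra R M] [Algebra R Ω] [IsScalarTower R K L] [IsScalarTower R K M] [IsScalarTower R K Ω]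
    [IsScalarTower R L Ω] [IsScalarTower R M Ω]
    (𝔪 : Ideal ↥(integralClosure R Ω)) [𝔪.IsMaximal]
    (A : Subalgebra R Ω)
    (hA : ∀ z : Ω, z ∈ A ↔ ∃ a b : ↥(integralClosure R Ω), b ∉ 𝔪 ∧ z * (b : Ω) = (a : Ω))
    [IsLocalRing ↥A] [IsLocalRing ↥(Subalgebra.comap (IsScalarTower.toAlgHom R L Ω) A)] [IsLocalRing ↥(Subalgebra.comap (IsScalarTower.toAlgHom R M Ω) A)]
    [Algebra ↥(Subalgebra.comap (IsScalarTower.toAlgHom R L Ω) A) ↥A]
    (hSA : ∀ s : ↥(Subalgebra.comap (IsScalarTower.toAlgHom R L Ω) A), ((algebraMap ↥(Subalgebra.comap (IsScalarTower.toAlgHom R L Ω) A) ↥A s : ↥A) : Ω) = algebraMap L Ω (s : L))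
    [Algebra ↥(Subalgebra.comap (IsScalarTower.toAlgHom R M Ω) A) ↥A]
    (hTA : ∀ t : ↥(Subalgebra.comap (IsScalarTower.toAlgHom R M Ω) A), ((algebraMap ↥(Subalgebra.comap (IsScalarTower.toAlgHom R M Ω) A) ↥A t : ↥A) : Ω) = algebraMap M Ω (t : M))
    [Algebra (EGA4.Cpl ↥(Subalgebra.comap (IsScalarTower.toAlgHom R L Ω) A)) (EGA4.Cpl ↥A)]
    (hcS : ∀ s : ↥(Subalgebra.comap (IsScalarTower.toAlgHom R L Ω) A), algebraMap (EGA4.Cpl ↥(Subalgebra.comap (IsScalarTower.toAlgHom R L Ω) A)) (EGA4.Cpl ↥A) (algebraMap ↥(Subalgebra.comap (IsScalarTower.toAlgHom R L Ω) A) (EGA4.Cpl ↥(Subalgebra.comap (IsScalarTower.toAlgHom R L Ω) A)) s) =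
      algebraMap ↥A (EGA4.Cpl ↥A) (algebraMap ↥(Subalgebra.comap (IsScalarTower.toAlgHom R L Ω) A) ↥A s))
    [Algebra (EGA4.Cpl ↥(Subalgebra.comap (IsScalarTower.toAlgHom R M Ω) A)) (EGA4.Cpl ↥A)]
    (hcT : ∀ t : ↥(Subalgebra.comap (IsScalarTower.toAlgHom R M Ω) A), algebraMap (EGA4.Cpl ↥(Subalgebra.comap (IsScalarTower.toAlgHom R M Ω) A)) (EGA4.Cpl ↥A) (algebraMap ↥(Subalgebra.comap (IsScalarTower.toAlgHom R M Ω) A) (EGA4.Cpl ↥(Subalgebra.comap (IsScalarTower.toAlgHom R M Ω) A)) t) =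
      algebraMap ↥A (EGA4.Cpl ↥A) (algebraMap ↥(Subalgebra.comap (IsScalarTower.toAlgHom R M Ω) A) ↥A t))
    [(IsLocalRing.maximalIdeal ↥A).LiesOver (IsLocalRing.maximalIdeal ↥(Subalgebra.comap (IsScalarTower.toAlgHom R M Ω) A))]
    (hLM : ∀ x : (EGA4.Cpl ↥(Subalgebra.comap (IsScalarTower.toAlgHom R L Ω) A)), ∃ a b : (EGA4.Cpl ↥(Subalgebra.comap (IsScalarTower.toAlgHom R M Ω) A)), algebraMap (EGA4.Cpl ↥(Subalgebra.comap (IsScalarTower.toAlgHom R M Ω) A)) (EGA4.Cpl ↥A) b ≠ 0 ∧
      algebraMap (EGA4.Cpl ↥(Subalgebra.comap (IsScalarTower.toAlgHom R L Ω) A)) (EGA4.Cpl ↥A) x * algebraMap (EGA4.Cpl ↥(Subalgebra.comap (IsScalarTower.toAlgHom R M Ω) A)) (EGA4.Cpl ↥A) b = algebraMap (EGA4.Cpl ↥(Subalgebra.comap (IsScalarTower.toAlgHom R M Ω) A)) (EGA4.Cpl ↥A) a) :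
    (IsLocalRing.maximalIdeal ↥(Subalgebra.comap (IsScalarTower.toAlgHom R M Ω) A)).map (algebraMap ↥(Subalgebra.comap (IsScalarTower.toAlgHom R M Ω) A) ↥A) = IsLocalRing.maximalIdeal ↥A ∧
      Module.Finite (↥(Subalgebra.comap (IsScalarTower.toAlgHom R M Ω) A) ⧸ IsLocalRing.maximalIdeal ↥(Subalgebra.comap (IsScalarTower.toAlgHom R M Ω) A)) (↥A ⧸ IsLocalRing.maximalIdeal ↥A) ∧
      Algebra.IsSeparable (↥(Subalgebra.comap (IsScalarTower.toAlgHom R M Ω) A) ⧸ IsLocalRing.maximalIdeal ↥(Subalgebra.comap (IsScalarTower.toAlgHom R M Ω) A)) (↥A ⧸ IsLocalRing.maximalIdeal ↥A) := by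
  classical
  haveI : IsNoetherianRing R := hR.1
  let SL := Subalgebra.comap (IsScalarTower.toAlgHom R L Ω) A
  let TM := Subalgebra.comap (IsScalarTower.toAlgHom R M Ω) A
  let B := integralClosure R Ω
  let cA : ↥A →+* EGA4.Cpl ↥A := algebraMap ↥A _
  -- finiteness
  have hsf : Algebra.IsSeparable K Ω ∧ FiniteDimensional K Ω := by
    let E1 := (IsScalarTower.toAlgHom K L Ω).fieldRange
    let E2 := (IsScalarTower.toAlgHom K M Ω).fieldRange
    have htop : E1 ⊔ E2 = ⊤ := by
      rw [eq_top_iff, ← hΩ, IntermediateField.adjoin_le_iff]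
      rintro x (⟨l, rfl⟩ | ⟨m, rfl⟩)
      · exact (le_sup_left : E1 ≤ E1 ⊔ E2) ⟨l, rfl⟩
      · exact (le_sup_right : E2 ≤ E1 ⊔ E2) ⟨m, rfl⟩
    haveI : FiniteDimensional K E1 := (IsScalarTower.toAlgHom K L Ω).toLinearMap.finiteDimensional_range
    haveI : FiniteDimensional K E2 := (IsScalarTower.toAlgHom K M Ω).toLinearMap.finiteDimensional_range
    have hf : FiniteDimensional K ↥(E1 ⊔ E2) := inferInstance
    rw [htop] at hf
    have hsep : Algebra.IsSeparable K (IntermediateField.adjoin K (Set.range (algebraMap L Ω) ∪ Set.range (algebraMap M Ω))) := by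
      rw [IntermediateField.isSeparable_adjoin_iff_isSeparable]
      rintro x (⟨l, rfl⟩ | ⟨m, rfl⟩)
      · show (minpoly K ((IsScalarTower.toAlgHom K L Ω) l)).Separable
        rw [minpoly.algHom_eq (IsScalarTower.toAlgHom K L Ω) (algebraMap L Ω).injective l]
        exact Algebra.IsSeparable.isSeparable K l
      · show (minpoly K ((IsScalarTower.toAlgHom K M Ω) m)).Separable
        rw [minpoly.algHom_eq (IsScalarTower.toAlgHom K M Ω) (algebraMap M Ω).injective m]
        exact Algebra.IsSeparable.isSeparable K m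
    rw [hΩ] at hsep
    haveI := hsep
    haveI := hf
    exact ⟨AlgEquiv.Algebra.isSeparable IntermediateField.topEquiv, IntermediateField.topEquiv.toLinearEquiv.finiteDimensional⟩
  haveI := hsf.1
  haveI := hsf.2
  haveI : IsIntegrallyClosed R := inferInstance
  haveI hBfin : Module.Finite R B := IsIntegralClosure.finite R K Ω B
  haveI : IsNoetherianRing B := IsNoetherianRing.of_finite R B
  haveI : Algebra.IsIntegral R B := inferInstance
  have hBA : ∀ b : B, (b : Ω) ∈ A := fun b => (hA _).2 ⟨b, 1,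
    fun h => ‹𝔪.IsMaximal›.ne_top ((Ideal.eq_top_iff_one _).2 h), by simp⟩
  let ιB : B →ₐ[R] A := Subalgebra.inclusion (show B ≤ A from fun x hx => hBA ⟨x, hx⟩)
  letI : Algebra B A := ιB.toRingHom.toAlgebra
  have hunit : ∀ b : B, b ∉ 𝔪 → IsUnit (ιB b) := fun b hb => by
    have hb0 : (b : Ω) ≠ 0 := fun h => hb (by rw [show b = 0 from Subtype.ext h]; exact 𝔪.zero_mem)
    refine IsUnit.of_mul_eq_one ⟨(b : Ω)⁻¹, (hA _).2 ⟨1, b, hb, by simp [hb0]⟩⟩ ?_
    exact Subtype.ext (mul_inv_cancel₀ hb0)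
  haveI : IsLocalization.AtPrime ↥A 𝔪 := by
    refine ⟨fun b => hunit b b.2, fun z => ?_, fun {x y} h => ⟨1, ?_⟩⟩
    · obtain ⟨a, b, hb, hab⟩ := (hA _).1 z.2
      exact ⟨(a, ⟨b, hb⟩), Subtype.ext hab⟩
    · have h' : ιB x = ιB y := h
      have hxy : (x : Ω) = (y : Ω) := congrArg (Subtype.val : ↥A → Ω) h'
      rw [Subtype.ext hxy]
  haveI : IsNoetherianRing ↥A := IsLocalization.isNoetherianRing 𝔪.primeCompl ↥A inferInstance
  have hmA : IsLocalRing.maximalIdeal ↥A = 𝔪.map ιB.toRingHom :=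
    (IsLocalization.AtPrime.map_eq_maximalIdeal 𝔪 ↥A).symm
  let mR := IsLocalRing.maximalIdeal R
  have h𝔪R : 𝔪.comap (algebraMap R B) = mR :=
    IsLocalRing.eq_maximalIdeal (Ideal.isMaximal_comap_of_isIntegral_of_isMaximal 𝔪)
  have hRA : mR.map (algebraMap R ↥A) ≤ IsLocalRing.maximalIdeal ↥A := by
    rw [hmA, show algebraMap R ↥A = ιB.toRingHom.comp (algebraMap R B) from RingHom.ext fun r => (ιB.commutes r).symm,
      ← Ideal.map_map]
    exact Ideal.map_mono (Ideal.map_le_iff_le_comap.2 h𝔪R.ge)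
  -- the completion of `R` acting on `Â`
  have hfT : mR ≤ (IsLocalRing.maximalIdeal ↥TM).comap (algebraMap R ↥TM) := fun r hr => by
    have h2 := (IsLocalRing.mem_maximalIdeal _).1 (hRA (Ideal.mem_map_of_mem _ hr))
    rw [Ideal.mem_comap, IsLocalRing.mem_maximalIdeal, mem_nonunits_iff]
    intro hu
    refine h2 ?_
    have h3 := hu.map (algebraMap ↥TM ↥A)
    have h4 : algebraMap ↥TM ↥A (algebraMap R ↥TM r) = algebraMap R ↥A r := Subtype.ext (by
      rw [hTA]
      exact (IsScalarTower.algebraMap_apply R M Ω r).symm)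
    rwa [h4] at h3
  obtain ⟨ψ, hψ⟩ := Groth.Agent.S18536.exists_cpl_map (algebraMap R ↥TM) hfT
  let θ : EGA4.Cpl R →+* EGA4.Cpl ↥A := (algebraMap (EGA4.Cpl ↥TM) (EGA4.Cpl ↥A)).comp ψ
  have hθ : ∀ r, θ (algebraMap R _ r) = cA (algebraMap R ↥A r) := fun r => by
    show algebraMap (EGA4.Cpl ↥TM) (EGA4.Cpl ↥A) (ψ (algebraMap R _ r)) = _
    rw [hψ, hcT]
    congr 1
    exact Subtype.ext ((hTA _).trans (IsScalarTower.algebraMap_apply R M Ω r).symm)
  letI : Algebra (EGA4.Cpl R) (EGA4.Cpl ↥A) := θ.toAlgebra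
  haveI : IsNoetherianRing (EGA4.Cpl R) := GrothLib.AdicExtra.isNoetherianRing_adicCompletion mR
  let I : Ideal (EGA4.Cpl R) := mR.map (algebraMap R _)
  haveI : IsAdicComplete I (EGA4.Cpl R) := by
    have h := AdicCompletion.isAdicComplete (I := mR) (M := R) mR.fg_of_isNoetherianRing
    exact (IsAdicComplete.map_algebraMap_iff (I := mR) (S := EGA4.Cpl R) (EGA4.Cpl R)).2 h
  have hFA := GrothLib.ComplAlg.isFormalCompl_adicCompletion (IsLocalRing.maximalIdeal ↥A)
  have hIle : I.map θ ≤ (IsLocalRing.maximalIdeal ↥A).map cA := by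
    rw [Ideal.map_map, show θ.comp (algebraMap R (EGA4.Cpl R)) = cA.comp (algebraMap R ↥A) from RingHom.ext hθ,
      ← Ideal.map_map]
    exact Ideal.map_mono hRA
  haveI : IsHausdorff I (EGA4.Cpl ↥A) := ⟨fun x hx => AdicCompletion.ext_evalₐ fun n => by
    rw [map_zero, ← Groth.Agent.S18536.mem_pow_map_iff']
    have h := hx n
    rw [SModEq.zero, Ideal.smul_top_eq_map, Submodule.restrictScalars_mem] at h
    rw [Ideal.map_pow] at h ⊢
    exact Ideal.pow_right_mono hIle n h⟩
  obtain ⟨nB, β, hβ⟩ := Module.Finite.exists_fin (R := R) (M := B)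
  let f : (Fin nB → EGA4.Cpl R) →ₗ[EGA4.Cpl R] EGA4.Cpl ↥A :=
    Fintype.linearCombination (EGA4.Cpl R) (fun i => cA (ιB (β i)))
  haveI : IsAdicComplete I (Fin nB → EGA4.Cpl R) := GrothLib.AdicLim.isAdicComplete_of_finite I _
  -- `mR` generates an ideal of definition
  obtain ⟨k, hk⟩ : ∃ k, IsLocalRing.maximalIdeal ↥A ^ k ≤ mR.map (algebraMap R ↥A) := by
    refine Ideal.exists_pow_le_of_le_radical_of_fg ?_ (Ideal.fg_of_isNoetherianRing _)
    rw [Ideal.radical_eq_sInf]
    refine le_sInf fun p hp => ?_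
    haveI := hp.2
    haveI : (p.comap ιB.toRingHom).IsPrime := Ideal.comap_isPrime _ _
    have h1 : (p.comap ιB.toRingHom).comap (algebraMap R B) = mR := by
      refine ((IsLocalRing.maximalIdeal.isMaximal R).eq_of_le (Ideal.comap_isPrime _ _).ne_top ?_).symm
      rw [Ideal.comap_comap, show ιB.toRingHom.comp (algebraMap R B) = algebraMap R ↥A from ιB.comp_algebraMap,
        ← Ideal.map_le_iff_le_comap]
      exact hp.1
    haveI : ((p.comap ιB.toRingHom).comap (algebraMap R B)).IsMaximal := h1 ▸ IsLocalRing.maximalIdeal.isMaximal R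
    haveI : (p.comap ιB.toRingHom).IsMaximal :=
      Ideal.isMaximal_of_isIntegral_of_isMaximal_comap (R := R) _ inferInstance
    have h2 : p.comap ιB.toRingHom ≤ 𝔪 := fun x hx => by
      by_contra hx'
      exact hp.2.ne_top (Ideal.eq_top_of_isUnit_mem _ hx (hunit x hx'))
    have h3 := ((inferInstance : (p.comap ιB.toRingHom).IsMaximal).eq_of_le ‹𝔪.IsMaximal›.ne_top h2)
    rw [hmA, ← h3]
    exact Ideal.map_comap_le
  have hBsurj : ∀ z : ↥A, ∃ b : B, z - ιB b ∈ IsLocalRing.maximalIdeal ↥A ^ k := by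
    intro z
    obtain ⟨b, hb⟩ := Groth.Agent.S18536.exists_sub_mem_pow 𝔪 z k
    exact ⟨b, hb⟩
  have hfsurj : Function.Surjective f := by
    refine surjective_of_mkQ_comp_surjective (I := I) fun y => ?_
    obtain ⟨x, rfl⟩ := Submodule.mkQ_surjective _ y
    obtain ⟨z, hz⟩ := hFA.surj k x
    obtain ⟨b, hb⟩ := hBsurj z
    obtain ⟨e, he⟩ := (Submodule.mem_span_range_iff_exists_fun R).1 (hβ ▸ Submodule.mem_top : b ∈ _)
    refine ⟨fun i => algebraMap R _ (e i), ?_⟩
    show Submodule.mkQ _ (f _) = Submodule.mkQ _ x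
    rw [Submodule.mkQ_apply, Submodule.mkQ_apply, eq_comm, Submodule.Quotient.eq]
    have hf' : f (fun i => algebraMap R _ (e i)) = cA (ιB b) := by
      rw [← he, map_sum, map_sum, Fintype.linearCombination_apply]
      refine Finset.sum_congr rfl fun i _ => ?_
      rw [Algebra.smul_def, RingHom.algebraMap_toAlgebra, hθ, ← map_mul, map_smul, Algebra.smul_def]
    rw [hf', Ideal.smul_top_eq_map, Submodule.restrictScalars_mem]
    have h1 := add_mem hz (Ideal.mem_map_of_mem cA hb)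
    rw [map_sub, sub_add_sub_cancel] at h1
    have h2 := Ideal.map_mono hk h1
    rw [Ideal.map_map] at h2
    show x - cA (ιB b) ∈ I.map θ
    rw [Ideal.map_map, show θ.comp (algebraMap R (EGA4.Cpl R)) = cA.comp (algebraMap R ↥A) from RingHom.ext hθ]
    exact h2
  have hjfin : (algebraMap (EGA4.Cpl ↥TM) (EGA4.Cpl ↥A)).Finite :=
    RingHom.Finite.of_comp_finite (f := ψ) (Module.Finite.of_surjective f hfsurj : θ.Finite)
  -- `T` is a localization of the normalization of `R` in `M`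
  let BM := integralClosure R M
  haveI hBMfin : Module.Finite R BM := IsIntegralClosure.finite R K M BM
  haveI : IsNoetherianRing BM := IsNoetherianRing.of_finite R BM
  haveI : IsFractionRing BM M := integralClosure.isFractionRing_of_finite_extension K M
  haveI : IsIntegrallyClosed BM := integralClosure.isIntegrallyClosedOfFiniteExtension K
  haveI : IsIntegrallyClosed B := integralClosure.isIntegrallyClosedOfFiniteExtension K
  let ι : BM →ₐ[R] B := ((IsScalarTower.toAlgHom R M Ω).comp BM.val).codRestrict B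
    fun c => c.2.map (IsScalarTower.toAlgHom R M Ω)
  letI : Algebra BM B := ι.toRingHom.toAlgebra
  haveI : IsScalarTower R BM B := IsScalarTower.of_algebraMap_eq fun r => (ι.commutes r).symm
  haveI : Algebra.IsIntegral BM B := Algebra.IsIntegral.tower_top R
  haveI : FaithfulSMul BM B := (faithfulSMul_iff_algebraMap_injective _ _).2 fun x y h =>
    Subtype.ext ((algebraMap M Ω).injective (congrArg (Subtype.val : ↥B → Ω) h))
  let 𝔫 : Ideal BM := 𝔪.comap (algebraMap BM B)
  haveI : 𝔫.IsPrime := Ideal.comap_isPrime _ _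
  haveI : 𝔪.LiesOver 𝔫 := ⟨rfl⟩
  have hBMT : ∀ c : BM, (c : M) ∈ TM := fun c => hBA (ι c)
  let ιM : BM →ₐ[R] TM := Subalgebra.inclusion (show BM ≤ TM from fun x hx => hBMT ⟨x, hx⟩)
  letI : Algebra BM TM := ιM.toRingHom.toAlgebra
  haveI : IsLocalization.AtPrime ↥TM 𝔫 := by
    refine ⟨fun c => ?_, fun z => ?_, fun {x y} h => ⟨1, ?_⟩⟩
    · have hc : ι (c : BM) ∉ 𝔪 := c.2
      have hc0 : ((c : BM) : M) ≠ 0 := fun h => hc (by
        rw [show (c : BM) = 0 from Subtype.ext h, map_zero]; exact 𝔪.zero_mem)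
      have hmem : ((c : BM) : M)⁻¹ ∈ TM :=
        show algebraMap M Ω _ ∈ A from (hA _).2 ⟨1, ι c, hc, by
          exact (map_mul _ _ _).symm.trans ((congrArg (algebraMap M Ω) (inv_mul_cancel₀ hc0)).trans (map_one _))⟩
      exact IsUnit.of_mul_eq_one ⟨_, hmem⟩ (Subtype.ext (mul_inv_cancel₀ hc0))
    · obtain ⟨a, b, hb, hab⟩ := (hA _).1 (show algebraMap M Ω (z : M) ∈ A from z.2)
      obtain ⟨a', c, hc, hzc⟩ := exists_denominator R K M Ω ι.toRingHom (fun _ => rfl) 𝔪 (z : M) a b hb hab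
      exact ⟨(a', ⟨c, hc⟩), Subtype.ext hzc⟩
    · have hxy : x = y := Subtype.ext (congrArg (Subtype.val : ↥TM → M) h)
      rw [hxy]
  haveI : IsNoetherianRing ↥TM := IsLocalization.isNoetherianRing 𝔫.primeCompl ↥TM inferInstance
  haveI : IsIntegrallyClosed ↥TM :=
    isIntegrallyClosed_of_isLocalization ↥TM 𝔫.primeCompl 𝔫.primeCompl_le_nonZeroDivisors
  haveI : IsIntegrallyClosed ↥A :=
    isIntegrallyClosed_of_isLocalization ↥A 𝔪.primeCompl 𝔪.primeCompl_le_nonZeroDivisors
  have hTexc : EGA4.IsExcellent ↥TM :=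
    GrothLib.Excellent.isExcellent_localization 𝔫.primeCompl (Groth.Agent.S2651.result R hR BM)
  have hAexc : EGA4.IsExcellent ↥A :=
    GrothLib.Excellent.isExcellent_localization 𝔪.primeCompl (Groth.Agent.S2651.result R hR B)
  obtain ⟨hd1, hd2⟩ := cpl_normal_domain ↥TM hTexc
  haveI := hd1
  haveI := hd2
  haveI := (cpl_normal_domain ↥A hAexc).1
  have hdim : ringKrullDim ↥TM ≤ ringKrullDim ↥A := by
    rw [IsLocalization.AtPrime.ringKrullDim_eq_height 𝔫 ↥TM, IsLocalization.AtPrime.ringKrullDim_eq_height 𝔪 ↥A,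
      WithBot.coe_le_coe, Ideal.height_eq_height_add_of_liesOver_of_hasGoingDown 𝔫 𝔪]
    exact le_self_add
  -- every element of `Â` is a fraction of elements of `T̂`
  let jT : EGA4.Cpl ↥TM →+* EGA4.Cpl ↥A := algebraMap _ _
  let InQ : EGA4.Cpl ↥A → Prop := fun x => ∃ a b, jT b ≠ 0 ∧ x * jT b = jT a
  have hjQ : ∀ y, InQ (jT y) := fun y => ⟨y, 1, by rw [map_one]; exact one_ne_zero, by rw [map_one, mul_one]⟩
  have hQmul : ∀ x y, InQ x → InQ y → InQ (x * y) := by
    rintro x y ⟨a, b, hb, hab⟩ ⟨a', b', hb', hab'⟩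
    exact ⟨a * a', b * b', by rw [map_mul]; exact mul_ne_zero hb hb',
      by rw [map_mul, map_mul, ← hab, ← hab']; ring⟩
  have hQadd : ∀ x y, InQ x → InQ y → InQ (x + y) := by
    rintro x y ⟨a, b, hb, hab⟩ ⟨a', b', hb', hab'⟩
    exact ⟨a * b' + a' * b, b * b', by rw [map_mul]; exact mul_ne_zero hb hb',
      by rw [map_add, map_mul, map_mul, map_mul, ← hab, ← hab']; ring⟩
  have hθQ : ∀ r, InQ (θ r) := fun r => hjQ (ψ r)
  have hTQ : ∀ t : ↥TM, InQ (cA (algebraMap ↥TM ↥A t)) := fun t => by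
    rw [← hcT]; exact hjQ _
  have hSQ : ∀ s : ↥SL, InQ (cA (algebraMap ↥SL ↥A s)) := fun s => by
    show InQ (algebraMap ↥A _ _)
    rw [← hcS]; exact hLM _
  have hmulint : ∀ z : Ω, ∃ r : R, r ≠ 0 ∧ ∀ h : algebraMap R Ω r * z ∈ A, InQ (cA ⟨_, h⟩) ∧ True := by
    intro z
    suffices h : ∃ r : R, r ≠ 0 ∧ ∃ h : algebraMap R Ω r * z ∈ A, InQ (cA ⟨_, h⟩) by
      obtain ⟨r, hr, h, hD⟩ := h
      exact ⟨r, hr, fun _ => ⟨hD, trivial⟩⟩
    have hz : z ∈ Algebra.adjoin K (Set.range (algebraMap L Ω) ∪ Set.range (algebraMap M Ω)) := by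
      rw [← IntermediateField.adjoin_toSubalgebra (F := K), hΩ]
      trivial
    induction hz using Algebra.adjoin_induction with
    | algebraMap c =>
      obtain ⟨a, b, hb, rfl⟩ := IsFractionRing.div_surjective R (K := K) c
      have hb0 : algebraMap R K b ≠ 0 := IsFractionRing.to_map_ne_zero_of_mem_nonZeroDivisors hb
      have he : algebraMap R Ω b * algebraMap K Ω (algebraMap R K a / algebraMap R K b) = algebraMap R Ω a := by
        rw [IsScalarTower.algebraMap_apply R K Ω b, ← map_mul, mul_div_cancel₀ _ hb0,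
          ← IsScalarTower.algebraMap_apply]
      refine ⟨b, nonZeroDivisors.ne_zero hb, by rw [he]; exact A.algebraMap_mem a, ?_⟩
      rw [show (⟨_, _⟩ : ↥A) = algebraMap R ↥A a from Subtype.ext he, ← hθ]
      exact hθQ _
    | mem x hx =>
      rcases hx with ⟨l, rfl⟩ | ⟨m, rfl⟩
      · obtain ⟨⟨r, hr⟩, hint⟩ := IsIntegral.exists_multiple_integral_of_isLocalization
          (nonZeroDivisors R) l (IsIntegral.of_finite K l)
        have he : algebraMap L Ω (r • l) = algebraMap R Ω r * algebraMap L Ω l := by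
          rw [Algebra.smul_def, map_mul, ← IsScalarTower.algebraMap_apply]
        have hmem : algebraMap R Ω r * algebraMap L Ω l ∈ A :=
          hBA ⟨_, he ▸ (hint.map (IsScalarTower.toAlgHom R L Ω))⟩
        refine ⟨r, nonZeroDivisors.ne_zero hr, hmem, ?_⟩
        have hs : r • l ∈ SL := show algebraMap L Ω (r • l) ∈ A by rw [he]; exact hmem
        rw [show (⟨_, hmem⟩ : ↥A) = algebraMap ↥SL ↥A ⟨_, hs⟩ from Subtype.ext (he.symm.trans (hSA ⟨r • l, hs⟩).symm)]
        exact hSQ _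
      · obtain ⟨⟨r, hr⟩, hint⟩ := IsIntegral.exists_multiple_integral_of_isLocalization
          (nonZeroDivisors R) m (IsIntegral.of_finite K m)
        have he : algebraMap M Ω (r • m) = algebraMap R Ω r * algebraMap M Ω m := by
          rw [Algebra.smul_def, map_mul, ← IsScalarTower.algebraMap_apply]
        have hmem : algebraMap R Ω r * algebraMap M Ω m ∈ A :=
          hBA ⟨_, he ▸ (hint.map (IsScalarTower.toAlgHom R M Ω))⟩
        refine ⟨r, nonZeroDivisors.ne_zero hr, hmem, ?_⟩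
        have hs : r • m ∈ TM := show algebraMap M Ω (r • m) ∈ A by rw [he]; exact hmem
        rw [show (⟨_, hmem⟩ : ↥A) = algebraMap ↥TM ↥A ⟨_, hs⟩ from Subtype.ext (he.symm.trans (hTA ⟨r • m, hs⟩).symm)]
        exact hTQ _
    | add x y _ _ hx hy =>
      obtain ⟨r, hr, hxm, hxD⟩ := hx
      obtain ⟨r', hr', hym, hyD⟩ := hy
      let u : ↥A := algebraMap R ↥A r' * ⟨_, hxm⟩ + algebraMap R ↥A r * ⟨_, hym⟩
      have he : (u : Ω) = algebraMap R Ω (r * r') * (x + y) := by
        show algebraMap R Ω r' * (algebraMap R Ω r * x) + algebraMap R Ω r * (algebraMap R Ω r' * y) = _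
        rw [map_mul]; ring
      refine ⟨r * r', mul_ne_zero hr hr', he ▸ u.2, ?_⟩
      rw [show (⟨_, he ▸ u.2⟩ : ↥A) = u from Subtype.ext he.symm]
      simp only [u, map_add, map_mul, ← hθ]
      exact hQadd _ _ (hQmul _ _ (hθQ _) hxD) (hQmul _ _ (hθQ _) hyD)
    | mul x y _ _ hx hy =>
      obtain ⟨r, hr, hxm, hxD⟩ := hx
      obtain ⟨r', hr', hym, hyD⟩ := hy
      let u : ↥A := (⟨_, hxm⟩ : ↥A) * ⟨_, hym⟩
      have he : (u : Ω) = algebraMap R Ω (r * r') * (x * y) := by
        show algebraMap R Ω r * x * (algebraMap R Ω r' * y) = _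
        rw [map_mul]; ring
      refine ⟨r * r', mul_ne_zero hr hr', he ▸ u.2, ?_⟩
      rw [show (⟨_, he ▸ u.2⟩ : ↥A) = u from Subtype.ext he.symm]
      simp only [u, map_mul]
      exact hQmul _ _ hxD hyD
  choose r hr0 hr using fun i => hmulint ((β i : B) : Ω)
  let r0 := ∏ i, r i
  have hr00 : r0 ≠ 0 := Finset.prod_ne_zero_iff.2 fun i _ => hr0 i
  have hr0A : cA (algebraMap R ↥A r0) ≠ 0 := by
    have hcinj : Function.Injective cA := fun a b hab => by
      rw [← sub_eq_zero]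
      have h0 : ∀ n, a - b ∈ IsLocalRing.maximalIdeal ↥A ^ n := fun n => hFA.inj n _ (by
        show cA (a - b) ∈ _
        rw [map_sub, hab, sub_self]
        exact zero_mem _)
      have hk := Ideal.iInf_pow_eq_bot_of_isLocalRing (IsLocalRing.maximalIdeal ↥A) (IsLocalRing.maximalIdeal.isMaximal ↥A).ne_top
      exact (Submodule.mem_bot ↥A).1 (hk ▸ (Submodule.mem_iInf _).2 h0)
    rw [map_ne_zero_iff _ hcinj]
    intro h
    have h1 : algebraMap R Ω r0 = 0 := congrArg Subtype.val h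
    rw [IsScalarTower.algebraMap_apply R K Ω, map_eq_zero_iff _ (algebraMap K Ω).injective,
      map_eq_zero_iff _ (IsFractionRing.injective R K)] at h1
    exact hr00 h1
  refine unramified_of_birational ↥TM ↥A jT hcT hjfin hdim fun x => ?_
  obtain ⟨ρ, hρ⟩ := hfsurj x
  have hx : InQ (x * cA (algebraMap R ↥A r0)) := by
    rw [← hρ, Fintype.linearCombination_apply, Finset.sum_mul]
    refine Finset.sum_induction _ InQ hQadd (by rw [← map_zero jT]; exact hjQ 0) fun i _ => ?_
    rw [Algebra.smul_def, RingHom.algebraMap_toAlgebra, mul_assoc, ← map_mul]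
    refine hQmul _ _ (hθQ _) ?_
    have hmem : algebraMap R Ω (r i) * ((β i : B) : Ω) ∈ A := mul_mem (A.algebraMap_mem _) (hBA _)
    have he : ιB (β i) * algebraMap R ↥A r0 =
        algebraMap R ↥A (∏ j ∈ Finset.univ.erase i, r j) * ⟨_, hmem⟩ := Subtype.ext (by
      show ((β i : B) : Ω) * algebraMap R Ω r0 = algebraMap R Ω _ * (algebraMap R Ω (r i) * ((β i : B) : Ω))
      simp only [r0, ← Finset.mul_prod_erase Finset.univ r (Finset.mem_univ i), map_mul]
      ring)
    rw [he, map_mul, ← hθ]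
    exact hQmul _ _ (hθQ _) (hr i hmem).1
  obtain ⟨a, b, hb, hab⟩ := hx
  have hrT : jT (algebraMap ↥TM (EGA4.Cpl ↥TM) (algebraMap R ↥TM r0)) = cA (algebraMap R ↥A r0) := by
    rw [← hθ, ← hψ]; rfl
  exact ⟨a, algebraMap ↥TM (EGA4.Cpl ↥TM) (algebraMap R ↥TM r0) * b, by rw [map_mul, hrT]; exact mul_ne_zero hr0A hb,
    by rw [map_mul, hrT, ← mul_assoc]; exact hab⟩


end Groth.Agent.S18537
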