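import Groth.Statements.S18538
import Mathlib.RingTheory.TensorProduct.IncludeLeftSubRight
import Mathlib.RingTheory.IntegralClosure.IntegrallyClosed
-- import your own Groth.Agent.* helpers here

set_option autoImplicit false
universe u
open EtAlg

namespace Groth.Agent.S18538
open TensorProduct

/-- Let A ⊆ B be an injective finite extension of integrally closed domains, with fraction fields K ⊆ L
and L separable over K. Then A → B → B ⊗_A B is exact, the second map being b ↦ b ⊗ 1 - 1 ⊗ b: every
element of B whose two images in B ⊗_A B agree comes from A. -/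
theorem result
    (A B K L : Type u) [CommRing A] [CommRing B] [IsDomain A] [IsDomain B]
    [IsIntegrallyClosed A] [IsIntegrallyClosed B] [Algebra A B] [FaithfulSMul A B] [Module.Finite A B]
    [Field K] [Field L] [Algebra A K] [IsFractionRing A K] [Algebra B L] [IsFractionRing B L]
    [Algebra K L] [Algebra A L] [IsScalarTower A K L] [IsScalarTower A B L]
    [Algebra.IsSeparable K L] :
    Algebra.IsEffective A B := by
  intro b
  refine ⟨fun hb => ?_, fun hb => Algebra.TensorProduct.includeLeftSubRight_zero_of_mem_range hb⟩
  let j : B →ₐ[A] L := IsScalarTower.toAlgHom A B L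
  let θ : B ⊗[A] B →ₐ[A] L ⊗[K] L := Algebra.TensorProduct.lift
    ((Algebra.TensorProduct.includeLeft : L →ₐ[K] L ⊗[K] L).restrictScalars A |>.comp j)
    ((Algebra.TensorProduct.includeRight : L →ₐ[K] L ⊗[K] L).restrictScalars A |>.comp j)
    fun _ _ => Commute.all _ _
  have h1 : (algebraMap B L b) ⊗ₜ[K] (1 : L) = (1 : L) ⊗ₜ[K] algebraMap B L b := by
    have := congrArg θ hb
    rw [map_zero, Algebra.TensorProduct.includeLeftSubRight_apply, map_sub, sub_eq_zero] at this
    simpa [θ, j] using this
  obtain ⟨c, hc⟩ : ∃ c : K, algebraMap K L c = algebraMap B L b := by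
    have hex := Algebra.IsEffective.of_faithfullyFlat (R := K) (S := L)
    exact (hex _).mp (by rw [Algebra.TensorProduct.includeLeftSubRight_apply, h1, sub_self])
  have hint : IsIntegral A c := by
    have : IsIntegral A (algebraMap B L b) :=
      (Algebra.IsIntegral.isIntegral b).map (IsScalarTower.toAlgHom A B L)
    rw [← hc] at this
    exact (isIntegral_algebraMap_iff (algebraMap K L).injective).mp this
  obtain ⟨a, ha⟩ := IsIntegrallyClosed.isIntegral_iff.mp hint
  refine ⟨a, IsFractionRing.injective B L ?_⟩
  rw [Algebra.linearMap_apply, ← IsScalarTower.algebraMap_apply A B L, IsScalarTower.algebraMap_apply A K L, ha, hc]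

end Groth.Agent.S18538
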