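import Groth.Statements.S18539
import Mathlib.RingTheory.Regular.RegularSequence
import Mathlib.Tactic.Abel
-- import your own Groth.Agent.* helpers here

set_option autoImplicit false
universe u v w
open CAlg

namespace Groth.Agent.S18539

/-- For a commutative ring R, R-modules M and N and elements r₁, r₂ of R such that r₁ is a
non-zero-divisor on N and r₂ is a non-zero-divisor on N/r₁N, the element r₁ is a non-zero-divisor on
the module Hom_R(M, N) and r₂ is a non-zero-divisor on Hom_R(M, N)/r₁Hom_R(M, N). (Weak regularity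
on both sides: no condition that the quotient by (r₁, r₂) is nonzero, which would fail for M = 0.) -/
theorem result
    (R : Type u) [CommRing R] (M : Type v) (N : Type w)
    [AddCommGroup M] [Module R M] [AddCommGroup N] [Module R N]
    (r₁ r₂ : R) (h : RingTheory.Sequence.IsWeaklyRegular N [r₁, r₂]) :
    RingTheory.Sequence.IsWeaklyRegular (M →ₗ[R] N) [r₁, r₂] := by
  obtain ⟨h1, h2⟩ := (RingTheory.Sequence.isWeaklyRegular_cons_iff N r₁ [r₂]).mp h
  have h2' : ∀ y : N, (∃ z : N, r₂ • y = r₁ • z) → ∃ z : N, y = r₁ • z := by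
    intro y ⟨z, hz⟩
    have hreg := ((RingTheory.Sequence.isWeaklyRegular_cons_iff _ r₂ []).mp h2).1
    have h0 : (Submodule.Quotient.mk y : QuotSMulTop r₁ N) = 0 := by
      apply hreg
      show r₂ • _ = r₂ • _
      rw [smul_zero, ← Submodule.Quotient.mk_smul, Submodule.Quotient.mk_eq_zero, hz]
      exact Submodule.smul_mem_pointwise_smul z r₁ ⊤ trivial
    obtain ⟨z', -, hz'⟩ := (Submodule.Quotient.mk_eq_zero _).mp h0
    exact ⟨z', hz'.symm⟩
  refine (RingTheory.Sequence.isWeaklyRegular_cons_iff _ r₁ [r₂]).mpr ⟨fun a b hab => ?_, ?_⟩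
  · exact LinearMap.ext fun x => h1 (LinearMap.congr_fun hab x)
  refine (RingTheory.Sequence.isWeaklyRegular_cons_iff _ r₂ []).mpr ⟨?_, RingTheory.Sequence.IsWeaklyRegular.nil _ _⟩
  intro a b hab
  obtain ⟨φ, rfl⟩ := Submodule.Quotient.mk_surjective _ a
  obtain ⟨ψ, rfl⟩ := Submodule.Quotient.mk_surjective _ b
  simp only [← Submodule.Quotient.mk_smul, Submodule.Quotient.eq] at hab ⊢
  obtain ⟨χ, -, hχ⟩ := hab
  have key : ∀ x, ∃ z : N, φ x - ψ x = r₁ • z := fun x =>
    h2' _ ⟨χ x, by
      have := LinearMap.congr_fun hχ x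
      simp only [DistribSMul.toLinearMap_apply, LinearMap.smul_apply, LinearMap.sub_apply] at this
      rw [smul_sub]; exact this.symm⟩
  choose z hz using key
  refine ⟨{ toFun := z, map_add' := fun x y => h1 ?_, map_smul' := fun c x => h1 ?_ }, trivial, ?_⟩
  · show r₁ • _ = r₁ • _
    rw [smul_add, ← hz, ← hz, ← hz, map_add, map_add]; abel
  · show r₁ • _ = r₁ • _
    rw [RingHom.id_apply, smul_comm r₁ c, ← hz, ← hz, map_smul, map_smul, smul_sub]
  · exact LinearMap.ext fun x => (hz x).symm

end Groth.Agent.S18539
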