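import Groth.Statements.S18541
-- import your own Groth.Agent.* helpers here
import Groth.Agent.Lib.Poincare.Mumford
import Groth.Agent.Lib.Poincare.FrobPull

set_option autoImplicit false
universe u
open CategoryTheory MonoidalCategory CartesianMonoidalCategory MonObj GrpObj AlgebraicGeometry
open AbVar

namespace Groth.Agent.S18541

/-- Let k be a finite field with q elements and A an abelian variety over k (a commutative group scheme
over k which is smooth and proper with geometrically connected fibres), given with a dual (A^t, φ)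
for the fppf topology. Let π : A → A be the q-power Frobenius endomorphism of A (the identity on the
underlying space and the q-th power map on sections; a homomorphism) and π^t : A^t → A^t a transpose
of π. Let L be an invertible module on A and λ_L : A → A^t the homomorphism Λ(L) attached to L
through φ. Then π followed by λ_L followed by π^t is q·λ_L, the q-th power of λ_L in the group of
morphisms A → A^t. (The published statement fixes L ample and reads π^‡ ∘ π = [q] for the Rosati
involution ‡ of L; its proof rewrites this as the displayed identity, which uses only that L is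
invertible.) -/
theorem result (k : Type u) [Field k] [Finite k]
    (A At : Over (Spec (CommRingCat.of k)))
    [GrpObj A] [IsCommMonObj A] [Smooth A.hom] [IsProper A.hom] [GeometricallyConnected A.hom]
    [GrpObj At] [IsCommMonObj At]
    (φ : AgPol.DualMap A At) (hdual : AbDual.IsDualAV Scheme.fppfPrecoverage A At φ)
    (π : A ⟶ A) [IsMonHom π] (hπb : π.left.base = 𝟙 _) (hπle : ∀ U : A.left.Opens, U ≤ π.left ⁻¹ᵁ U)
    (hπapp : ∀ (U : A.left.Opens) (s : Γ(A.left, U)), (π.left.appLE U U (hπle U)).hom s = s ^ Nat.card k)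
    (πt : At ⟶ At) [IsMonHom πt] (hπt : AbDual.IsTranspose π φ φ πt)
    (L : A.left.Modules) (hL : PicF.IsInvertible L) (lam : A ⟶ At) (hlam : AgPol.IsLambda A At φ L lam) :
    π ≫ lam ≫ πt = lam ^ Nat.card k := by
  obtain ⟨N, hN, hΛ, hlamN⟩ := hlam
  subst hlamN
  have hn := GrothLib.Cube.hasCls_clsMod hN
  set n : GrothLib.Cube.Pic (A ⊗ A).left := GrothLib.Cube.clsMod hN
  have hx := GrothLib.Cube.hasCls_clsMod hL
  set x : GrothLib.Cube.Pic A.left := GrothLib.Cube.clsMod hL
  have hneq : n * GrothLib.Cube.pull (fst A A).left x * GrothLib.Cube.pull (snd A A).left x =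
      GrothLib.Cube.pull (μ[A]).left x :=
    ((hn.tensor (hx.pullback _)).tensor (hx.pullback _)).eq (hx.pullback _) hΛ
  have hpz := GrothLib.Dual.pz_mumford hneq
  have hfrob : GrothLib.Cube.pull π.left x = x ^ Nat.card k :=
    GrothLib.Cube.pull_eq_pow_of_appLE π.left (Nat.card k) hπle hπapp x
  have hq : GrothLib.Cube.pull (π ▷ A).left (GrothLib.Cube.pull (A ◁ π).left n) = n ^ Nat.card k := by
    rw [GrothLib.CubeRel26.pull_pull_over]
    have e := congrArg (GrothLib.Cube.pull ((π ▷ A) ≫ A ◁ π).left) hneq
    rw [map_mul, map_mul, GrothLib.CubeRel26.pull_pull_over, GrothLib.CubeRel26.pull_pull_over,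
      GrothLib.CubeRel26.pull_pull_over] at e
    have h3 : ∀ f : A ⊗ A ⟶ A, GrothLib.Cube.pull (f ≫ π).left x = GrothLib.Cube.pull f.left x ^ Nat.card k :=
      fun f => by rw [← GrothLib.CubeRel26.pull_pull_over, hfrob, map_pow]
    rw [show ((π ▷ A) ≫ A ◁ π) ≫ fst A A = fst A A ≫ π by simp,
      show ((π ▷ A) ≫ A ◁ π) ≫ snd A A = snd A A ≫ π by simp,
      show ((π ▷ A) ≫ A ◁ π) ≫ μ[A] = μ[A] ≫ π by rw [IsMonHom.mul_hom π]; simp [MonoidalCategory.tensorHom_def],
      h3, h3, h3, ← hneq, mul_pow, mul_pow] at e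
    exact mul_right_cancel (mul_right_cancel e)
  have hpow : ∀ m : ℕ, GrothLib.Dual.PZ A A (n ^ m) ∧
      GrothLib.Dual.dphi φ A (n ^ m) = GrothLib.Dual.dphi φ A n ^ m := by
    intro m
    induction m with
    | zero => exact ⟨by rw [pow_zero]; exact GrothLib.Dual.pz_one, by rw [pow_zero, pow_zero]; exact GrothLib.Dual.dphi_one hdual⟩
    | succ m ih =>
      refine ⟨GrothLib.Dual.pz_mumford (x := x ^ (m + 1)) (by rw [map_pow, map_pow, map_pow, ← hneq, mul_pow, mul_pow]), ?_⟩
      · rw [pow_succ, GrothLib.Dual.dphi_mul hdual ih.1 hpz, ih.2, ← pow_succ]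
  rw [GrothLib.Dual.dphi_eq (φ := φ) hn, ← Category.assoc, ← GrothLib.Dual.dphi_pull hdual hpz π,
    ← GrothLib.Dual.dphi_transpose hπt (hpz.pullT π), hq, (hpow _).2]

end Groth.Agent.S18541
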