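import Groth.Statements.S18543
import Groth.Agent.Lib.Versch.Etale
import Groth.Agent.Lib.Hopf.FiniteGroupPow
import Mathlib.Algebra.CharP.Lemmas
import Mathlib.LinearAlgebra.Dimension.OrzechProperty

set_option autoImplicit false
universe u
open Hopf

namespace Groth.Agent.S18543

open scoped TensorProduct

/-- Let p be a prime number, k a field of characteristic p and A a finite-dimensional commutative,
cocommutative Hopf algebra over k — the coordinate ring of a finite commutative group scheme G over
k — such that A is étale over k and dim_k A = p^n for some n (G is an étale group scheme of p-power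
order). Then the Cartier dual A^∨ = Hom_k(A, k), with its convolution ring structure, is a local
ring; that is, the Cartier dual group scheme G^∨ = Spec A^∨ is infinitesimal (its underlying space
is a single point). -/
theorem result (p : ℕ) [Fact p.Prime]
    (k : Type u) [Field k] [CharP k p] (A : Type u) [CommRing A] [HopfAlgebra k A] [Coalgebra.IsCocomm k A]
    [Module.Finite k A] [Algebra.Etale k A] (n : ℕ) (hA : Module.finrank k A = p ^ n) :
    IsLocalRing (CartDual.D k A) := by
  classical
  haveI : CharP A p := charP_of_injective_algebraMap (Bialgebra.algebraMap_injective (R := k) A) p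
  haveI : ExpChar A p := ExpChar.prime (Fact.out : p.Prime)
  haveI : ExpChar k p := ExpChar.prime (Fact.out : p.Prime)
  let b := Module.finBasis k A
  let q := p ^ n
  -- the `q`-th powers of a basis span
  have hsp : ∀ m, ⊤ ≤ Submodule.span k (Set.range fun i => b i ^ p ^ m) := by
    intro m
    induction m with
    | zero =>
      simp [b.span_eq]
    | succ m ih =>
      rintro x -
      obtain ⟨z, rfl⟩ := (GrothLib.Versch.bijective_relFrob_of_etale p k A).2 x
      induction z using TensorProduct.induction_on with
      | zero => simp
      | add x y hx hy => rw [map_add]; exact Submodule.add_mem _ hx hy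
      | tmul a t =>
        rw [GrothLib.Versch.relFrob_tmul, mul_comm, ← Algebra.smul_def]
        refine Submodule.smul_mem _ _ ?_
        have ha := ih (Submodule.mem_top : a ∈ ⊤)
        induction ha using Submodule.span_induction with
        | mem y hy =>
          obtain ⟨i, rfl⟩ := hy
          exact Submodule.subset_span ⟨i, by rw [← pow_mul, pow_succ]⟩
        | zero => simp [zero_pow (Fact.out : p.Prime).ne_zero]
        | add u w _ _ iu iw => rw [add_pow_char]; exact Submodule.add_mem _ iu iw
        | smul c u _ iu => rw [smul_pow]; exact Submodule.smul_mem _ _ iu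
  have hli : LinearIndependent k (fun i => b i ^ q) :=
    linearIndependent_of_top_le_span_of_card_eq_finrank (hsp n) (Fintype.card_fin _)
  let f : Fin (Module.finrank k A) → CartDual.D k A := fun i => WithConv.toConv (b.coord i)
  have h : ∀ a, ∑ i, f i a • b i = a := fun a => b.sum_repr a
  haveI := GrothLib.Versch.charP_conv (R := k) (A := A) p
  haveI : ExpChar (WithConv (A →ₗ[k] A)) p := ExpChar.prime (Fact.out : p.Prime)
  have hq : ∀ a : A, ∑ i, (f i ^ q) a • b i ^ q = algebraMap k A (Coalgebra.counit (R := k) a) := by
    intro a
    have h1 : ((WithConv.toConv (LinearMap.id : A →ₗ[k] A)) ^ q) a = ∑ i, (f i ^ q) a • b i ^ q := by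
      have hid : WithConv.toConv (LinearMap.id : A →ₗ[k] A) = ∑ i, GrothLib.Versch.T (f i) (b i) := by
        refine WithConv.ext (LinearMap.ext fun c => ?_)
        simp [WithConv.ofConv_sum, GrothLib.Versch.T, h]
      rw [hid, sum_pow_char_pow]
      simp [GrothLib.Versch.T_pow, WithConv.ofConv_sum, GrothLib.Versch.T_apply, q]
    have h2 := GrothLib.Hopf.FiniteRank.convPow_finrank (k := k) (A := A)
    rw [hA] at h2
    rw [← h1, GrothLib.Versch.powConv_eq, h2]
    simp
  have hcoef : ∀ i a, (f i ^ q) a = Coalgebra.counit (R := k) a * (f i ^ q) 1 := by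
    intro i a
    have := hq a
    have h1 := hq 1
    rw [Bialgebra.counit_one, map_one] at h1
    rw [Algebra.algebraMap_eq_smul_one, ← h1, Finset.smul_sum] at this
    simp only [smul_smul] at this
    exact hli.eq_coords_of_eq this i
  haveI : ExpChar (CartDual.D k A) p := ExpChar.prime (Fact.out : p.Prime)
  have hpow : ∀ x : CartDual.D k A, x ^ q = algebraMap k _ ((x ^ q) 1) := by
    intro x
    have hx : x = ∑ i, x (b i) • f i := by
      refine WithConv.ext (LinearMap.ext fun c => ?_)
      conv_lhs => rw [← h c]
      simp [map_sum, WithConv.ofConv_sum, mul_comm]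
    refine WithConv.ext (LinearMap.ext fun a => ?_)
    rw [hx, sum_pow_char_pow]
    simp only [smul_pow, WithConv.ofConv_sum, WithConv.ofConv_smul, LinearMap.sum_apply, LinearMap.smul_apply,
      smul_eq_mul, LinearMap.convAlgebraMap_apply, Algebra.algebraMap_self, RingHom.id_apply]
    rw [Finset.sum_mul]
    exact Finset.sum_congr rfl fun i _ => by rw [hcoef i a]; ring
  haveI : Nontrivial (CartDual.D k A) := CharP.nontrivial_of_char_ne_one (v := p) (Fact.out : p.Prime).ne_one
  refine IsLocalRing.of_isUnit_or_isUnit_one_sub_self fun x => ?_
  have hq0 : q ≠ 0 := pow_ne_zero _ (Fact.out : p.Prime).ne_zero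
  by_cases hx : (x ^ q) 1 = 0
  · right
    refine IsNilpotent.isUnit_one_sub ⟨q, ?_⟩
    rw [hpow x, hx, map_zero]
  · left
    refine (isUnit_pow_iff hq0).1 ?_
    rw [hpow x]
    exact (isUnit_iff_ne_zero.2 hx).map _


end Groth.Agent.S18543
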