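import Groth.Statements.S18544
import Groth.Agent.S6485
import Mathlib

set_option autoImplicit false
universe u
open CAlg

namespace Groth.Agent.S18544

/-- Let F be an algebraically closed field of characteristic zero, n a natural number, and N a nonzero
polynomial over F in the n² matrix entries whose evaluation on n × n matrices is multiplicative,
N(xy) = N(x)·N(y) for all x, y (a norm form on the matrix algebra M_n(F) over F). Then N is a
natural power of the determinant: for some m, N(x) = det(x)^m for every matrix x. The published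
statement concerns norm forms of any central simple algebra over a subfield; this row is the case of
the full matrix algebra over an algebraically closed field, which is the case its proof treats. -/
theorem result (F : Type u) [Field F] [IsAlgClosed F]
    [CharZero F] (n : ℕ) (N : MvPolynomial (Fin n × Fin n) F) (hN : N ≠ 0)
    (hmul : ∀ x y : Matrix (Fin n) (Fin n) F,
      MvPolynomial.eval (fun ij : Fin n × Fin n => (x * y) ij.1 ij.2) N =
        MvPolynomial.eval (fun ij : Fin n × Fin n => x ij.1 ij.2) N * MvPolynomial.eval (fun ij : Fin n × Fin n => y ij.1 ij.2) N) :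
    ∃ m : ℕ, ∀ x : Matrix (Fin n) (Fin n) F,
      MvPolynomial.eval (fun ij : Fin n × Fin n => x ij.1 ij.2) N = x.det ^ m := by
  classical
  haveI : Infinite F := CharZero.infinite F
  let ev : Matrix (Fin n) (Fin n) F → MvPolynomial (Fin n × Fin n) F →+* F := fun x =>
    MvPolynomial.eval fun ij => x ij.1 ij.2
  have hext : ∀ P Q : MvPolynomial (Fin n × Fin n) F, (∀ x, ev x P = ev x Q) → P = Q := fun P Q h =>
    MvPolynomial.funext fun v => h (Matrix.of fun i j => v (i, j))
  have h1 : ev 1 N = 1 := by
    rcases eq_or_ne (ev 1 N) 0 with h0 | h0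
    · refine absurd (hext N 0 fun x => ?_) hN
      have := hmul x 1
      rw [mul_one] at this
      rw [map_zero]
      exact this.trans (by rw [show ev 1 N = _ from rfl] at h0; rw [h0, mul_zero])
    · have := hmul 1 1
      rw [one_mul] at this
      exact (mul_eq_left₀ h0).1 this.symm
  rcases Nat.eq_zero_or_pos n with rfl | hn
  · refine ⟨0, fun x => ?_⟩
    rw [pow_zero, ← h1]
    exact congrArg (fun v => MvPolynomial.eval v N) (funext fun ij => ij.1.elim0)
  -- the restriction to the scalars
  let g : Polynomial F := MvPolynomial.aeval (fun ij : Fin n × Fin n =>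
    if ij.1 = ij.2 then (Polynomial.X : Polynomial F) else 0) N
  have hg : ∀ c : F, g.eval c = ev (c • (1 : Matrix (Fin n) (Fin n) F)) N := by
    intro c
    have h : (Polynomial.aeval c).comp (MvPolynomial.aeval (fun ij : Fin n × Fin n =>
        if ij.1 = ij.2 then (Polynomial.X : Polynomial F) else 0)) =
        MvPolynomial.aeval (fun ij : Fin n × Fin n => (c • (1 : Matrix (Fin n) (Fin n) F)) ij.1 ij.2) := by
      refine MvPolynomial.algHom_ext fun ij => ?_
      by_cases h : ij.1 = ij.2 <;> simp [h, Matrix.one_apply]
    have := AlgHom.congr_fun h N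
    rw [AlgHom.comp_apply] at this
    simpa [g, ev, MvPolynomial.aeval_eq_eval, Polynomial.coe_aeval_eq_eval] using this
  have hgmul : ∀ a b : F, g.eval (a * b) = g.eval a * g.eval b := fun a b => by
    rw [hg, hg, hg, show (a * b) • (1 : Matrix (Fin n) (Fin n) F) = (a • 1) * (b • 1) by simp [smul_smul, mul_comm]]
    exact hmul _ _
  have hg1 : g.eval 1 = 1 := by rw [hg, one_smul, h1]
  obtain ⟨D, hD⟩ : ∃ D : ℕ, g = Polynomial.X ^ D := by
    refine ⟨g.natDegree, ?_⟩
    have hc : g.comp (Polynomial.C 2 * Polynomial.X) = Polynomial.C (g.eval 2) * g :=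
      Polynomial.funext fun c => by simp [hgmul]
    have hsupp : ∀ i, g.coeff i ≠ 0 → (2 : F) ^ i = g.eval 2 := fun i hi => by
      have := congrArg (fun q => Polynomial.coeff q i) hc
      simp only [Polynomial.comp_C_mul_X_coeff, Polynomial.coeff_C_mul] at this
      exact mul_left_cancel₀ hi (by linear_combination this)
    have hmon : g = Polynomial.monomial g.natDegree g.leadingCoeff := by
      ext i
      rw [Polynomial.coeff_monomial]
      split_ifs with h
      · subst h; rfl
      · by_contra hi
        have hg0 : g ≠ 0 := fun h0 => hi (by simp [h0])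
        have he := (hsupp i hi).trans (hsupp _ (Polynomial.leadingCoeff_ne_zero.2 hg0)).symm
        have : ((2 ^ i : ℕ) : F) = ((2 ^ g.natDegree : ℕ) : F) := by push_cast; exact he
        exact h (Nat.pow_right_injective le_rfl (Nat.cast_injective this)).symm
    have hl : g.leadingCoeff = 1 := by
      rw [← hg1]
      conv_rhs => rw [hmon, Polynomial.eval_monomial, one_pow, mul_one]
    rw [hl] at hmon
    rw [Polynomial.X_pow_eq_monomial]
    exact hmon
  let Dt := (Matrix.mvPolynomialX (Fin n) (Fin n) F).det
  let N' := MvPolynomial.bind₁ (fun ij : Fin n × Fin n =>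
    (Matrix.mvPolynomialX (Fin n) (Fin n) F).adjugate ij.1 ij.2) N
  have hevX : ∀ x, (ev x).mapMatrix (Matrix.mvPolynomialX (Fin n) (Fin n) F) = x := fun x =>
    Matrix.mvPolynomialX_mapMatrix_eval x
  have hdvd : N ∣ Dt ^ D := by
    refine ⟨N', hext _ _ fun x => ?_⟩
    have hN' : ev x N' = ev x.adjugate N := by
      have hadj : (ev x).mapMatrix (Matrix.mvPolynomialX (Fin n) (Fin n) F).adjugate = x.adjugate := by
        rw [RingHom.map_adjugate, hevX]
      have h : (MvPolynomial.aeval fun ij : Fin n × Fin n => x ij.1 ij.2).comp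
          (MvPolynomial.bind₁ fun ij : Fin n × Fin n =>
            (Matrix.mvPolynomialX (Fin n) (Fin n) F).adjugate ij.1 ij.2) =
          MvPolynomial.aeval fun ij : Fin n × Fin n => x.adjugate ij.1 ij.2 := by
        refine MvPolynomial.algHom_ext fun ij => ?_
        rw [AlgHom.comp_apply, MvPolynomial.bind₁_X_right, MvPolynomial.aeval_X,
          MvPolynomial.aeval_eq_eval]
        exact congrFun (congrFun hadj ij.1) ij.2
      have := AlgHom.congr_fun h N
      simpa [ev, N', MvPolynomial.aeval_eq_eval] using this
    have hDt : ev x Dt = x.det := by rw [RingHom.map_det, hevX]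
    rw [map_mul, map_pow, hDt, hN']
    refine Eq.trans ?_ (hmul x x.adjugate)
    rw [Matrix.mul_adjugate]
    exact (show x.det ^ D = g.eval x.det by rw [hD, Polynomial.eval_pow, Polynomial.eval_X]).trans (hg _)
  have hprime : Prime Dt :=
    UniqueFactorizationMonoid.irreducible_iff_prime.1 (Groth.Agent.S6485.result F n hn)
  obtain ⟨i, -, hi⟩ := (dvd_prime_pow hprime D).1 hdvd
  obtain ⟨u, hu⟩ := hi.symm
  obtain ⟨c, -, hc⟩ := MvPolynomial.isUnit_iff_eq_C_of_isReduced.1 u.isUnit
  refine ⟨i, fun x => ?_⟩
  have key : ∀ y, ev y N = y.det ^ i * c := fun y => by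
    rw [← hu, map_mul, map_pow, hc, RingHom.map_det, hevX]
    exact congrArg _ (MvPolynomial.eval_C c)
  have hc1 : c = 1 := by
    have := key 1
    rwa [h1, Matrix.det_one, one_pow, one_mul, eq_comm] at this
  exact (key x).trans (by rw [hc1, mul_one])

end Groth.Agent.S18544
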