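import Groth.Statements.S18545
-- import your own Groth.Agent.* helpers here
import Mathlib.LinearAlgebra.FiniteDimensional.Lemmas

set_option autoImplicit false
universe u
open AbVar

namespace Groth.Agent.S18545

/-- A step in the proof of Tate's isogeny result over finite fields, in linear-algebra form. Let K be a
field and V a K-vector space of finite dimension 2g carrying a nondegenerate alternating bilinear
form e. Let F be a K-subalgebra of End(V) which is isomorphic as a K-algebra to a finite product K ×
⋯ × K and which is spanned over K by a set S of similitudes of e (for each s in S there is a nonzero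
scalar c with e(s x, s y) = c·e(x, y) for all x, y). Let D be a set of endomorphisms of V such that
every F-stable isotropic subspace W of dimension g (a maximal isotropic subspace) is D-stable. Then
every F-stable isotropic subspace of V is D-stable. (In the application V is the rational ℓ-adic
Tate module of an abelian variety over a finite field with the Riemann form of a polarisation, F the
algebra generated by the Galois group, split for the chosen ℓ, and D the commutant of the image of
the endomorphism algebra; the hypothesis on maximal isotropic subspaces is the step obtained from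
the finiteness of isomorphism classes.) -/
theorem result (K : Type u) [Field K]
    (V : Type u) [AddCommGroup V] [Module K V] [FiniteDimensional K V] (g : ℕ) (hV : Module.finrank K V = 2 * g)
    (e : LinearMap.BilinForm K V) (he : e.IsAlt) (hnd : e.Nondegenerate)
    (F : Subalgebra K (Module.End K V)) (r : ℕ) (hF : Nonempty (F ≃ₐ[K] (Fin r → K)))
    (S : Set (Module.End K V)) (hS : Submodule.span K S = Subalgebra.toSubmodule F)
    (hsim : ∀ s ∈ S, ∃ c : K, c ≠ 0 ∧ ∀ x y : V, e (s x) (s y) = c * e x y)
    (D : Set (Module.End K V))
    (hmax : ∀ W : Submodule K V, (∀ f ∈ F, ∀ w ∈ W, f w ∈ W) → (∀ x ∈ W, ∀ y ∈ W, e x y = 0) →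
      Module.finrank K W = g → ∀ d ∈ D, ∀ w ∈ W, d w ∈ W)
    (W : Submodule K V) (hWF : ∀ f ∈ F, ∀ w ∈ W, f w ∈ W) (hWiso : ∀ x ∈ W, ∀ y ∈ W, e x y = 0) :
    ∀ d ∈ D, ∀ w ∈ W, d w ∈ W := by
  classical
  obtain ⟨φ⟩ := hF
  let ε : Fin r → F := fun i => φ.symm (Pi.single i 1)
  have hsum : ∑ i, (ε i : Module.End K V) = 1 := by
    have h : ∑ i, ε i = 1 := by
      simp only [ε, ← map_sum, Finset.univ_sum_single]
      exact map_one _
    simpa using congrArg (Subtype.val) h
  have heig : ∀ (f : F) i (x : V), (f : Module.End K V) ((ε i : Module.End K V) x) = φ f i • (ε i : Module.End K V) x := by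
    intro f i x
    have h : f * ε i = φ f i • ε i := φ.injective (by
      funext j
      rw [map_mul, map_smul, φ.apply_symm_apply]
      by_cases hj : j = i
      · subst hj; simp
      · simp [hj])
    simpa using congrArg (fun z : F => (z : Module.End K V) x) h
  -- induction on the codimension
  suffices H : ∀ (c : ℕ) (W : Submodule K V), g - Module.finrank K W ≤ c → (∀ f ∈ F, ∀ w ∈ W, f w ∈ W) →
      (∀ x ∈ W, ∀ y ∈ W, e x y = 0) → ∀ d ∈ D, ∀ w ∈ W, d w ∈ W from H g W (Nat.sub_le _ _) hWF hWiso
  intro c
  induction c with
  | zero =>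
    intro W hc hWF hWiso
    refine hmax W hWF hWiso ?_
    have hle : W ≤ e.orthogonal W := fun x hx y hy => hWiso y hy x hx
    have h1 := LinearMap.BilinForm.finrank_orthogonal hnd W
    have h2 := Submodule.finrank_mono hle
    omega
  | succ c ih =>
    intro W hc hWF hWiso d hd w hw
    by_cases hsmall : g - Module.finrank K W ≤ c
    · exact ih W hsmall hWF hWiso d hd w hw
    have hdim : Module.finrank K (e.orthogonal W) = 2 * g - Module.finrank K W := by
      rw [LinearMap.BilinForm.finrank_orthogonal hnd, hV]
    have hoF : ∀ f ∈ F, ∀ x ∈ e.orthogonal W, f x ∈ e.orthogonal W := by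
      intro f hf x hx
      have hfs : f ∈ Submodule.span K S := by rw [hS]; exact hf
      induction hfs using Submodule.span_induction with
      | zero => simp
      | add a b ha hb iha ihb =>
        rw [LinearMap.add_apply]
        exact add_mem (iha (by rw [hS] at ha; exact ha)) (ihb (by rw [hS] at hb; exact hb))
      | smul a b hb ihb =>
        rw [LinearMap.smul_apply]
        exact Submodule.smul_mem _ _ (ihb (by rw [hS] at hb; exact hb))
      | mem s hs =>
        obtain ⟨a, ha0, ha⟩ := hsim s hs
        have hinj : Function.Injective s := by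
          rw [← LinearMap.ker_eq_bot, LinearMap.ker_eq_bot']
          intro z hz
          refine hnd.1 z fun y => ?_
          have := ha z y
          rw [hz, map_zero, LinearMap.zero_apply] at this
          exact (mul_eq_zero.mp this.symm).resolve_left ha0
        intro y hy
        obtain ⟨⟨y', hy'⟩, hyy⟩ := LinearMap.surjective_of_injective (f := s.restrict (p := W) (q := W) fun z hz => hWF s hf z hz)
          (fun a b hab => Subtype.ext (hinj (congrArg Subtype.val hab))) ⟨y, hy⟩
        have hyy' : s y' = y := congrArg Subtype.val hyy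
        rw [← hyy']
        show e (s y') (s x) = 0
        rw [ha, hx y' hy', mul_zero]
    -- eigenvectors in the orthogonal outside a given small subspace
    have key : ∀ U : Submodule K V, Module.finrank K U < Module.finrank K (e.orthogonal W) →
        ∃ i, ∃ x ∈ e.orthogonal W, (ε i : Module.End K V) x ∈ e.orthogonal W ∧ (ε i : Module.End K V) x ∉ U := by
      intro U hU
      by_contra! h
      refine absurd (Submodule.finrank_mono (show e.orthogonal W ≤ U from fun x hx => ?_)) (by omega)
      rw [show x = ∑ i, (ε i : Module.End K V) x by rw [← LinearMap.sum_apply, hsum]; rfl]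
      exact sum_mem fun i _ => h i x hx (hoF _ (ε i).2 _ hx)
    have hadd : ∀ i (x : V), (ε i : Module.End K V) x ∈ e.orthogonal W → (ε i : Module.End K V) x ∉ W →
        d w ∈ W ⊔ Submodule.span K {(ε i : Module.End K V) x} ∧
        Module.finrank K ↥(W ⊔ Submodule.span K {(ε i : Module.End K V) x}) ≤ Module.finrank K W + 1 := by
      intro i x hxo hxW
      refine ⟨?_, ?_⟩
      · refine ih _ ?_ ?_ ?_ d hd w (Submodule.mem_sup_left hw)
        · have := Submodule.finrank_lt_finrank_of_lt (show W < W ⊔ Submodule.span K {(ε i : Module.End K V) x} from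
            lt_of_le_of_ne le_sup_left fun h => hxW (h.symm ▸ Submodule.mem_sup_right (Submodule.mem_span_singleton_self _)))
          omega
        · intro f hf z hz
          obtain ⟨z₁, hz₁, z₂, hz₂, rfl⟩ := Submodule.mem_sup.mp hz
          obtain ⟨a, rfl⟩ := Submodule.mem_span_singleton.mp hz₂
          rw [map_add, map_smul, heig ⟨f, hf⟩ i x]
          exact add_mem (Submodule.mem_sup_left (hWF f hf _ hz₁))
            (Submodule.mem_sup_right (Submodule.smul_mem _ _ (Submodule.smul_mem _ _ (Submodule.mem_span_singleton_self _))))
        · intro a ha b hb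
          obtain ⟨a₁, ha₁, a₂, ha₂, rfl⟩ := Submodule.mem_sup.mp ha
          obtain ⟨b₁, hb₁, b₂, hb₂, rfl⟩ := Submodule.mem_sup.mp hb
          obtain ⟨s, rfl⟩ := Submodule.mem_span_singleton.mp ha₂
          obtain ⟨t, rfl⟩ := Submodule.mem_span_singleton.mp hb₂
          have h1 : e a₁ ((ε i : Module.End K V) x) = 0 := hxo a₁ ha₁
          have h2 : e ((ε i : Module.End K V) x) b₁ = 0 := by
            rw [← LinearMap.BilinForm.IsAlt.neg_eq he, hxo b₁ hb₁, neg_zero]
          simp [hWiso a₁ ha₁ b₁ hb₁, h1, h2, he.self_eq_zero]
      · refine (Submodule.finrank_add_le_finrank_add_finrank _ _).trans ?_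
        exact Nat.add_le_add_left (le_trans (finrank_span_le_card _) (by simp)) _
    obtain ⟨i, x, -, hxo, hxW⟩ := key W (by omega)
    obtain ⟨hda, hla⟩ := hadd i x hxo hxW
    obtain ⟨j, y, -, hyo, hyW'⟩ := key (W ⊔ Submodule.span K {(ε i : Module.End K V) x}) (by omega)
    obtain ⟨hdb, -⟩ := hadd j y hyo fun h => hyW' (Submodule.mem_sup_left h)
    obtain ⟨a, ha, b, hb, hab⟩ := Submodule.mem_sup.mp hda
    obtain ⟨a', ha', b', hb', hab'⟩ := Submodule.mem_sup.mp hdb
    obtain ⟨s, rfl⟩ := Submodule.mem_span_singleton.mp hb
    obtain ⟨t, rfl⟩ := Submodule.mem_span_singleton.mp hb'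
    have ht : t = 0 := by
      by_contra ht
      apply hyW'
      have hm : t • (ε j : Module.End K V) y ∈ W ⊔ Submodule.span K {(ε i : Module.End K V) x} := by
        rw [eq_sub_of_add_eq' hab', ← hab]
        exact sub_mem (add_mem (Submodule.mem_sup_left ha)
          (Submodule.mem_sup_right (Submodule.smul_mem _ _ (Submodule.mem_span_singleton_self _)))) (Submodule.mem_sup_left ha')
      exact (Submodule.smul_mem_iff _ ht).mp hm
    rw [ht, zero_smul, add_zero] at hab'
    exact hab' ▸ ha'

end Groth.Agent.S18545
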