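import Groth.Statements.S18546
import Groth.Agent.Lib.SymExt21.Basic
import Mathlib.LinearAlgebra.Dimension.Free
import Mathlib.LinearAlgebra.FiniteDimensional.Basic

set_option autoImplicit false
open scoped TensorProduct
universe u v
open GalCoh

namespace Groth.Agent.S18546

/-- Let G be a group acting linearly on a vector space V of dimension 2 over the field 𝔽₂ with two
elements. Then the short exact sequence of G-modules 0 → V → S²V → Λ²V → 0 (v ↦ v·v, x·y ↦ x ∧ y)
splits G-equivariantly. Here, for a vector space V over the field with two elements carrying a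
linear action ρ of a group G, write N_a ⊆ V ⊗ V for the span of the tensors v ⊗ v and N_s ⊆ N_a for
the span of the tensors x ⊗ y + y ⊗ x, so that S²V = (V ⊗ V)/N_s, Λ²V = (V ⊗ V)/N_a and the
surjection S²V → Λ²V, x·y ↦ x ∧ y, is G-equivariant for the diagonal action; a G-equivariant linear
section of this surjection is the same thing as a G-stable subspace W of V ⊗ V with W ∩ N_a = N_s
and W + N_a = V ⊗ V, which is how the splitting is stated. (The source has the absolute Galois group
of a field acting continuously; any group is allowed here.) -/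
theorem result (G : Type u) [Group G] (V : Type v)
    [AddCommGroup V] [Module (ZMod 2) V] (hV : Module.finrank (ZMod 2) V = 2)
    (ρ : Representation (ZMod 2) G V) :
    ∃ W : Submodule (ZMod 2) (V ⊗[ZMod 2] V),
      (∀ g : G, ∀ w ∈ W, ρ.tprod ρ g w ∈ W) ∧
      W ⊓ Submodule.span (ZMod 2) (Set.range fun v : V => v ⊗ₜ[ZMod 2] v) =
        Submodule.span (ZMod 2) (Set.range fun p : V × V => p.1 ⊗ₜ[ZMod 2] p.2 + p.2 ⊗ₜ[ZMod 2] p.1) ∧
      W ⊔ Submodule.span (ZMod 2) (Set.range fun v : V => v ⊗ₜ[ZMod 2] v) = ⊤ := by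
  have : Module.Finite (ZMod 2) V := Module.finite_of_finrank_eq_succ hV
  let b : Module.Basis (Fin 2) (ZMod 2) V := Module.finBasisOfFinrankEq (ZMod 2) V hV
  let t := GrothLib.SymExt21.normT (b 0) (b 1)
  have ht : GrothLib.SymExt21.wedgeCoord b 0 1 t = 1 := by
    simp only [t, GrothLib.SymExt21.normT, map_add, GrothLib.SymExt21.wedgeCoord_tmul, Module.Basis.repr_self]
    simp
  refine ⟨GrothLib.SymExt21.Ns V ⊔ Submodule.span (ZMod 2) {t}, fun g w hw => ?_, le_antisymm ?_ ?_, ?_⟩
  · obtain ⟨s, hs, z, hz, rfl⟩ := Submodule.mem_sup.1 hw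
    obtain ⟨c, rfl⟩ := Submodule.mem_span_singleton.1 hz
    have hdet : b.repr (ρ g (b 0)) 0 * b.repr (ρ g (b 1)) 1 + b.repr (ρ g (b 1)) 0 * b.repr (ρ g (b 0)) 1 = 1 := by
      have hli : LinearIndependent (ZMod 2) (fun i => ρ g (b i)) :=
        b.linearIndependent.map' (ρ g) (LinearMap.ker_eq_bot.2 fun x y hxy => by
          have := congrArg (ρ g⁻¹) hxy
          simpa [← Module.End.mul_apply, ← map_mul] using this)
      by_contra hne
      have h0 : ∀ a b c d : ZMod 2, ¬ a * d + b * c = 1 →
          ∃ p q : ZMod 2, (p ≠ 0 ∨ q ≠ 0) ∧ p * a + q * b = 0 ∧ p * c + q * d = 0 := by decide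
      obtain ⟨p, q, hpq, h1, h2⟩ := h0 _ _ _ _ hne
      have hz : ∑ i, ![p, q] i • ρ g (b i) = 0 := by
        refine b.repr.injective (Finsupp.ext fun i => ?_)
        fin_cases i <;> simp [Fin.sum_univ_two, h1, h2]
      have hall := Fintype.linearIndependent_iff.1 hli _ hz
      exact hpq.elim (fun hp => hp (hall 0)) (fun hq => hq (hall 1))
    have htg : ρ.tprod ρ g t - t ∈ GrothLib.SymExt21.Ns V := by
      have h := GrothLib.SymExt21.normT_map (x := b 0) (y := b 1) (x' := ρ g (b 0)) (y' := ρ g (b 1))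
        ((b.sum_repr (ρ g (b 0))).symm.trans (Fin.sum_univ_two _))
        ((b.sum_repr (ρ g (b 1))).symm.trans (Fin.sum_univ_two _)) hdet
      simpa [t, GrothLib.SymExt21.normT] using h
    rw [map_add, map_smul]
    refine Submodule.add_mem _ (Submodule.mem_sup_left (GrothLib.SymExt21.tprod_mem_Ns ρ g hs)) ?_
    rw [show ρ.tprod ρ g t = (ρ.tprod ρ g t - t) + t by abel]
    exact Submodule.smul_mem _ _ (Submodule.add_mem _ (Submodule.mem_sup_left htg)
      (Submodule.mem_sup_right (Submodule.mem_span_singleton_self t)))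
  · rintro x ⟨hx, hxa⟩
    obtain ⟨s, hs, z, hz, rfl⟩ := Submodule.mem_sup.1 hx
    obtain ⟨c, rfl⟩ := Submodule.mem_span_singleton.1 hz
    have h := GrothLib.SymExt21.wedgeCoord_Na b 0 1 hxa
    rw [map_add, GrothLib.SymExt21.wedgeCoord_Na b 0 1 (GrothLib.SymExt21.Ns_le_Na hs), map_smul, ht, zero_add,
      smul_eq_mul, mul_one] at h
    rw [h, zero_smul, add_zero]
    exact hs
  · exact le_inf le_sup_left GrothLib.SymExt21.Ns_le_Na
  · rw [eq_top_iff, ← (b.tensorProduct b).span_eq, Submodule.span_le]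
    rintro _ ⟨⟨i, j⟩, rfl⟩
    rw [Module.Basis.tensorProduct_apply]
    set M := (GrothLib.SymExt21.Ns V ⊔ Submodule.span (ZMod 2) {t}) ⊔ GrothLib.SymExt21.Na V
    have hsq : ∀ x : V, x ⊗ₜ[ZMod 2] x ∈ M := fun x => Submodule.mem_sup_right (Submodule.subset_span ⟨x, rfl⟩)
    have h01 : b 0 ⊗ₜ[ZMod 2] b 1 ∈ M := by
      have h := M.sub_mem (M.sub_mem
        (Submodule.mem_sup_left (Submodule.mem_sup_right (Submodule.mem_span_singleton_self t))) (hsq (b 0))) (hsq (b 1))
      convert h using 1
      simp only [t, GrothLib.SymExt21.normT]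
      abel
    fin_cases i <;> fin_cases j
    · exact hsq _
    · exact h01
    · have h := M.sub_mem (Submodule.mem_sup_left (Submodule.mem_sup_left
        (GrothLib.SymExt21.tmul_add_tmul_swap_mem (b 0) (b 1)))) h01
      simpa using h
    · exact hsq _

end Groth.Agent.S18546
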