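import Groth.Statements.S18547
import Groth.Agent.Lib.SymExt21.Basic
import Mathlib.LinearAlgebra.Dimension.Free
import Mathlib.LinearAlgebra.FiniteDimensional.Basic
import Mathlib.LinearAlgebra.Dimension.Constructions
import Mathlib.LinearAlgebra.Dimension.OrzechProperty

set_option autoImplicit false
open scoped TensorProduct
universe u v
open GalCoh

namespace Groth.Agent.S18547

open GrothLib.SymExt21 in
theorem exists_decomposable {V : Type v} [AddCommGroup V] [Module (ZMod 2) V] (b : Module.Basis (Fin 3) (ZMod 2) V)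
    (t : V ⊗[ZMod 2] V) : t ∈ Na V ∨ ∃ u w r : V, ⊤ ≤ Submodule.span (ZMod 2) (Set.range ![u, w, r]) ∧
      u ⊗ₜ[ZMod 2] w - t ∈ Na V := by
  have hsq : ∀ x : V, x ⊗ₜ[ZMod 2] x ∈ Na V := fun x => Submodule.subset_span ⟨x, rfl⟩
  obtain ⟨x, y, z, hxyz⟩ : ∃ x y z : ZMod 2,
      t - (x • b 0 ⊗ₜ[ZMod 2] b 1 + y • b 0 ⊗ₜ[ZMod 2] b 2 + z • b 1 ⊗ₜ[ZMod 2] b 2) ∈ Na V := by
    have ht : t ∈ Submodule.span (ZMod 2) (Set.range (b.tensorProduct b)) := Module.Basis.mem_span _ t
    induction ht using Submodule.span_induction with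
    | mem s hs =>
      obtain ⟨⟨i, j⟩, rfl⟩ := hs
      rw [Module.Basis.tensorProduct_apply]
      have hswap : ∀ p q : V, q ⊗ₜ[ZMod 2] p - p ⊗ₜ[ZMod 2] q ∈ Na V := fun p q => by
        rw [sub_eq_add', add_comm]; exact Ns_le_Na (tmul_add_tmul_swap_mem p q)
      fin_cases i <;> fin_cases j
      · exact ⟨0, 0, 0, by simpa using hsq (b 0)⟩
      · exact ⟨1, 0, 0, by simp⟩
      · exact ⟨0, 1, 0, by simp⟩
      · exact ⟨1, 0, 0, by simpa using hswap (b 0) (b 1)⟩
      · exact ⟨0, 0, 0, by simpa using hsq (b 1)⟩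
      · exact ⟨0, 0, 1, by simp⟩
      · exact ⟨0, 1, 0, by simpa using hswap (b 0) (b 2)⟩
      · exact ⟨0, 0, 1, by simpa using hswap (b 1) (b 2)⟩
      · exact ⟨0, 0, 0, by simpa using hsq (b 2)⟩
    | zero => exact ⟨0, 0, 0, by simp⟩
    | add p q _ _ hp hq =>
      obtain ⟨x, y, z, h⟩ := hp
      obtain ⟨x', y', z', h'⟩ := hq
      refine ⟨x + x', y + y', z + z', ?_⟩
      convert add_mem h h' using 1
      module
    | smul c p _ hp =>
      obtain ⟨x, y, z, h⟩ := hp
      refine ⟨c * x, c * y, c * z, ?_⟩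
      convert Submodule.smul_mem _ c h using 1
      module
  have hspan : ∀ (u w r : V), (∀ i, b i ∈ Submodule.span (ZMod 2) (Set.range ![u, w, r])) →
      ⊤ ≤ Submodule.span (ZMod 2) (Set.range ![u, w, r]) := fun u w r h => by
    rw [← b.span_eq, Submodule.span_le]
    rintro _ ⟨i, rfl⟩
    exact h i
  have hm : ∀ (u w r : V) (i : Fin 3), ![u, w, r] i ∈ Submodule.span (ZMod 2) (Set.range ![u, w, r]) :=
    fun u w r i => Submodule.subset_span ⟨i, rfl⟩
  have hfin : ∀ u w : V, u ⊗ₜ[ZMod 2] w - (x • b 0 ⊗ₜ[ZMod 2] b 1 + y • b 0 ⊗ₜ[ZMod 2] b 2 + z • b 1 ⊗ₜ[ZMod 2] b 2) ∈ Na V →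
      u ⊗ₜ[ZMod 2] w - t ∈ Na V := fun u w h => by
    convert sub_mem h hxyz using 1
    abel
  rcases (show ∀ q : ZMod 2, q = 0 ∨ q = 1 by decide) x with rfl | rfl
  · rcases (show ∀ q : ZMod 2, q = 0 ∨ q = 1 by decide) y with rfl | rfl
    · rcases (show ∀ q : ZMod 2, q = 0 ∨ q = 1 by decide) z with rfl | rfl
      · exact Or.inl (by simpa using hxyz)
      · refine Or.inr ⟨b 1, b 2, b 0, hspan _ _ _ fun i => ?_, hfin _ _ (by simp)⟩
        fin_cases i
        · exact hm _ _ _ 2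
        · exact hm _ _ _ 0
        · exact hm _ _ _ 1
    · refine Or.inr ⟨b 0 + z • b 1, b 2, b 1, hspan _ _ _ fun i => ?_, hfin _ _ ?_⟩
      · fin_cases i
        · have h := sub_mem (hm (b 0 + z • b 1) (b 2) (b 1) 0) (Submodule.smul_mem _ z (hm (b 0 + z • b 1) (b 2) (b 1) 2))
          simpa using h
        · exact hm _ _ _ 2
        · exact hm _ _ _ 1
      · convert (Na V).zero_mem using 1
        simp [TensorProduct.add_tmul, TensorProduct.smul_tmul']
  · refine Or.inr ⟨b 0 + z • b 2, b 1 + y • b 2, b 2, hspan _ _ _ fun i => ?_, hfin _ _ ?_⟩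
    · fin_cases i
      · have h := sub_mem (hm (b 0 + z • b 2) (b 1 + y • b 2) (b 2) 0)
          (Submodule.smul_mem _ z (hm (b 0 + z • b 2) (b 1 + y • b 2) (b 2) 2))
        simpa using h
      · have h := sub_mem (hm (b 0 + z • b 2) (b 1 + y • b 2) (b 2) 1)
          (Submodule.smul_mem _ y (hm (b 0 + z • b 2) (b 1 + y • b 2) (b 2) 2))
        simpa using h
      · exact hm _ _ _ 2
    · have h1 : z • (b 2 ⊗ₜ[ZMod 2] b 1 + b 1 ⊗ₜ[ZMod 2] b 2) + (z * y) • (b 2 ⊗ₜ[ZMod 2] b 2) ∈ Na V :=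
        add_mem (Submodule.smul_mem _ _ (Ns_le_Na (tmul_add_tmul_swap_mem _ _))) (Submodule.smul_mem _ _ (hsq _))
      convert h1 using 1
      simp only [TensorProduct.add_tmul, TensorProduct.tmul_add, TensorProduct.tmul_smul, TensorProduct.smul_tmul', one_smul,
        smul_add, smul_smul, sub_eq_add', mul_comm z y]
      abel_nf
      simp [show ∀ m : V ⊗[ZMod 2] V, (2 : ℕ) • m = 0 from fun m => by rw [two_nsmul, add_self],
        show ∀ m : V ⊗[ZMod 2] V, (2 : ℤ) • m = 0 from fun m => by rw [two_zsmul, add_self]]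

/-- Let G be a group acting linearly on a vector space V of dimension 3 over the field 𝔽₂ with two
elements. Then the connecting map (Λ²V)^G → H¹(G, V) of the short exact sequence of G-modules 0 → V
→ S²V → Λ²V → 0 (v ↦ v·v, x·y ↦ x ∧ y) is zero; equivalently, every G-invariant element of Λ²V is
the image of a G-invariant element of S²V. Here N_a ⊆ V ⊗ V is the span of the tensors v ⊗ v and N_s
⊆ N_a the span of the tensors x ⊗ y + y ⊗ x, so that S²V = (V ⊗ V)/N_s and Λ²V = (V ⊗ V)/N_a with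
the diagonal action of G, and the statement reads: a tensor t whose class modulo N_a is G-invariant
is congruent modulo N_a to a tensor whose class modulo N_s is G-invariant. (The source writes the
rank hypothesis on the lattice M with V = M/2M, which has the same rank, and has the absolute Galois
group of a field acting; any group is allowed here.) -/
theorem result (G : Type u) [Group G] (V : Type v)
    [AddCommGroup V] [Module (ZMod 2) V] (hV : Module.finrank (ZMod 2) V = 3)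
    (ρ : Representation (ZMod 2) G V) (t : V ⊗[ZMod 2] V)
    (ht : ∀ g : G, ρ.tprod ρ g t - t ∈ Submodule.span (ZMod 2) (Set.range fun v : V => v ⊗ₜ[ZMod 2] v)) :
    ∃ t' : V ⊗[ZMod 2] V, t' - t ∈ Submodule.span (ZMod 2) (Set.range fun v : V => v ⊗ₜ[ZMod 2] v) ∧
      ∀ g : G, ρ.tprod ρ g t' - t' ∈
        Submodule.span (ZMod 2) (Set.range fun p : V × V => p.1 ⊗ₜ[ZMod 2] p.2 + p.2 ⊗ₜ[ZMod 2] p.1) := by
  classical
  have : Module.Finite (ZMod 2) V := Module.finite_of_finrank_eq_succ hV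
  rcases exists_decomposable (Module.finBasisOfFinrankEq (ZMod 2) V hV) t with h0 | ⟨u, w, r, hsp, huw⟩
  · exact ⟨0, by simpa using (Submodule.neg_mem _ h0), fun g => by simp⟩
  let b := basisOfTopLeSpanOfCardEqFinrank ![u, w, r] hsp (by simp [hV])
  have hb : ∀ i, b i = ![u, w, r] i := fun i => congrFun (coe_basisOfTopLeSpanOfCardEqFinrank _ _ _) i
  refine ⟨GrothLib.SymExt21.normT u w, ?_, fun g => ?_⟩
  · rw [show GrothLib.SymExt21.normT u w - t = (u ⊗ₜ[ZMod 2] u + w ⊗ₜ[ZMod 2] w) + (u ⊗ₜ[ZMod 2] w - t) by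
      simp only [GrothLib.SymExt21.normT]; abel]
    exact add_mem (add_mem (Submodule.subset_span ⟨u, rfl⟩) (Submodule.subset_span ⟨w, rfl⟩)) huw
  have hgna : ∀ z ∈ GrothLib.SymExt21.Na V, ρ.tprod ρ g z ∈ GrothLib.SymExt21.Na V := fun z hz => by
    induction hz using Submodule.span_induction with
    | mem z hz => obtain ⟨x, rfl⟩ := hz; exact Submodule.subset_span ⟨ρ g x, by simp⟩
    | zero => simp
    | add x y _ _ hx hy => rw [map_add]; exact add_mem hx hy
    | smul c x _ hx => rw [map_smul]; exact Submodule.smul_mem _ c hx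
  have hinv : ρ g u ⊗ₜ[ZMod 2] ρ g w - u ⊗ₜ[ZMod 2] w ∈ GrothLib.SymExt21.Na V := by
    have h : ρ.tprod ρ g (u ⊗ₜ[ZMod 2] w - t) + (ρ.tprod ρ g t - t) - (u ⊗ₜ[ZMod 2] w - t) ∈
        GrothLib.SymExt21.Na V := sub_mem (add_mem (hgna _ huw) (ht g)) huw
    rw [map_sub] at h
    simp only [Representation.tprod_apply, TensorProduct.map_tmul] at h
    convert h using 1
    abel
  have hco : ∀ i j : Fin 3, b.repr (ρ g u) i * b.repr (ρ g w) j + b.repr (ρ g u) j * b.repr (ρ g w) i =
      b.repr u i * b.repr w j + b.repr u j * b.repr w i := fun i j => by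
    rw [← GrothLib.SymExt21.wedgeCoord_tmul, ← GrothLib.SymExt21.wedgeCoord_tmul, ← sub_eq_zero, ← map_sub]
    exact GrothLib.SymExt21.wedgeCoord_Na b i j hinv
  have hu : b.repr u = Finsupp.single 0 1 := by rw [← b.repr_self, hb]; rfl
  have hw' : b.repr w = Finsupp.single 1 1 := by rw [← b.repr_self, hb]; rfl
  have e01 := hco 0 1
  have e02 := hco 0 2
  have e12 := hco 1 2
  simp only [hu, hw', Finsupp.single_apply] at e01 e02 e12
  norm_num at e01 e02 e12
  have hpq : ∀ a b c d p q : ZMod 2, a * d + c * b = 1 → a * q + p * b = 0 → c * q + p * d = 0 →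
      p = 0 ∧ q = 0 ∧ a * d + b * c = 1 := by decide
  obtain ⟨hp, hq, hdet⟩ := hpq _ _ _ _ _ _ e01 e02 e12
  have hexp : ∀ v : V, b.repr v 2 = 0 → v = b.repr v 0 • u + b.repr v 1 • w := fun v hv => by
    conv_lhs => rw [← b.sum_repr v]
    rw [Fin.sum_univ_three, hv, zero_smul, add_zero, hb, hb]
    rfl
  have h := GrothLib.SymExt21.normT_map (hexp _ hp) (hexp _ hq) hdet
  simpa [GrothLib.SymExt21.normT] using h

end Groth.Agent.S18547
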