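import Groth.Statements.S18549
import Groth.Agent.Lib.SymExt21.Basic
import Mathlib.SetTheory.Cardinal.Finite
import Mathlib.GroupTheory.OrderOfElement
import Mathlib.LinearAlgebra.Prod

set_option autoImplicit false
open scoped TensorProduct
universe u v
open GalCoh

namespace Groth.Agent.S18549

theorem exists_perm_basis {V : Type v} [AddCommGroup V] [Module (ZMod 2) V] (σ : V →ₗ[ZMod 2] V)
    (hσ : ∀ x, σ (σ x) = x) :
    ∃ (ι : Type v) (b : Module.Basis ι (ZMod 2) V), ∀ i, ∃ j, σ (b i) = b j := by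
  let N : V →ₗ[ZMod 2] V := LinearMap.id + σ
  have hNa : ∀ x, N x = x + σ x := fun x => rfl
  have hNσ : ∀ x, N (σ x) = N x := fun x => by rw [hNa, hNa, hσ, add_comm]
  let K := LinearMap.ker N
  let I := LinearMap.range N
  have hIK : I ≤ K := by
    rintro _ ⟨x, rfl⟩
    show N (N x) = 0
    rw [hNa x, map_add, hNσ, GrothLib.SymExt21.add_self]
  obtain ⟨C, hC⟩ := Submodule.exists_isCompl K
  obtain ⟨D, hD⟩ := Submodule.exists_isCompl I
  let f : (C × C) × (K ⊓ D : Submodule (ZMod 2) V) →ₗ[ZMod 2] V :=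
    LinearMap.coprod (LinearMap.coprod C.subtype (σ.comp C.subtype)) (K ⊓ D).subtype
  have hf : ∀ a b c, f ((a, b), c) = (a : V) + σ b + c := fun a b c => rfl
  have hinj : Function.Injective f := by
    rw [injective_iff_map_eq_zero]
    rintro ⟨⟨a, b⟩, c⟩ h
    rw [hf] at h
    have hc0 : N (c : V) = 0 := c.2.1
    have h1 : N ((a : V) + b) = 0 := by
      have := congrArg N h
      rw [map_add, map_add, hNσ, hc0, add_zero, map_zero] at this
      rwa [map_add]
    have hab : (a : V) + b = 0 := Submodule.disjoint_def.1 hC.disjoint _ h1 (C.add_mem a.2 b.2)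
    have hab' : (b : V) = a := by
      rw [← sub_eq_zero, GrothLib.SymExt21.sub_eq_add', add_comm]; exact hab
    rw [hab', ← hNa] at h
    have hc : (c : V) = 0 := Submodule.disjoint_def.1 hD.disjoint _ (by
      rw [← neg_eq_of_add_eq_zero_right h]
      exact I.neg_mem ⟨a, rfl⟩) c.2.2
    rw [hc, add_zero] at h
    have ha : (a : V) = 0 := Submodule.disjoint_def.1 hC.disjoint _ h a.2
    simp only [Prod.mk_eq_zero, ← Submodule.coe_eq_zero]
    exact ⟨⟨ha, hab'.trans ha⟩, hc⟩
  have hsurj : Function.Surjective f := fun v => by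
    obtain ⟨k, hk, c, hc, rfl⟩ := Submodule.mem_sup.1 (hC.sup_eq_top.ge (Submodule.mem_top (x := v)))
    obtain ⟨i, hi, d, hd, rfl⟩ := Submodule.mem_sup.1 (hD.sup_eq_top.ge (Submodule.mem_top (x := k)))
    obtain ⟨x, rfl⟩ := hi
    obtain ⟨k', hk', c', hc', rfl⟩ := Submodule.mem_sup.1 (hC.sup_eq_top.ge (Submodule.mem_top (x := x)))
    have hdK : d ∈ K := by
      have h2 := sub_mem hk (hIK ⟨k' + c', rfl⟩)
      rwa [add_sub_cancel_left] at h2
    refine ⟨((⟨c' + c, C.add_mem hc' hc⟩, ⟨c', hc'⟩), ⟨d, hdK, hd⟩), ?_⟩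
    rw [hf, map_add, show N k' = 0 from hk', zero_add, hNa]
    show c' + c + σ c' + d = _
    abel
  let e := LinearEquiv.ofBijective f ⟨hinj, hsurj⟩
  let bC := Module.Basis.ofVectorSpace (ZMod 2) C
  let bF := Module.Basis.ofVectorSpace (ZMod 2) (K ⊓ D : Submodule (ZMod 2) V)
  refine ⟨_, ((bC.prod bC).prod bF).map e, ?_⟩
  rintro ((i | i) | i)
  · exact ⟨Sum.inl (Sum.inr i), by simp [e, f]⟩
  · exact ⟨Sum.inl (Sum.inl i), by simp [e, f, hσ]⟩
  · refine ⟨Sum.inr i, ?_⟩
    have hfix : σ (bF i : V) = bF i := by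
      have h : N (bF i : V) = 0 := (bF i).2.1
      rw [hNa, ← GrothLib.SymExt21.sub_eq_add', sub_eq_zero] at h
      exact h.symm
    simpa [e, f] using hfix

/-- Over the real numbers, that is for the group G = Gal(ℂ/ℝ) of order 2 acting linearly on a
finite-dimensional vector space V over the field 𝔽₂ with two elements, the short exact sequence of
G-modules 0 → V → S²V → Λ²V → 0 (v ↦ v·v, x·y ↦ x ∧ y) splits G-equivariantly. Here, for a vector
space V over the field with two elements carrying a linear action ρ of a group G, write N_a ⊆ V ⊗ V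
for the span of the tensors v ⊗ v and N_s ⊆ N_a for the span of the tensors x ⊗ y + y ⊗ x, so that
S²V = (V ⊗ V)/N_s, Λ²V = (V ⊗ V)/N_a and the surjection S²V → Λ²V, x·y ↦ x ∧ y, is G-equivariant for
the diagonal action; a G-equivariant linear section of this surjection is the same thing as a
G-stable subspace W of V ⊗ V with W ∩ N_a = N_s and W + N_a = V ⊗ V, which is how the splitting is
stated. (G is any group of order 2 here; V is taken finite-dimensional, the case covered by the
structure theory of finitely generated modules over 𝔽₂[G] that the argument uses.) -/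
theorem result (G : Type u) [Group G] (hG : Nat.card G = 2)
    (V : Type v) [AddCommGroup V] [Module (ZMod 2) V] [Module.Finite (ZMod 2) V]
    (ρ : Representation (ZMod 2) G V) :
    ∃ W : Submodule (ZMod 2) (V ⊗[ZMod 2] V),
      (∀ g : G, ∀ w ∈ W, ρ.tprod ρ g w ∈ W) ∧
      W ⊓ Submodule.span (ZMod 2) (Set.range fun v : V => v ⊗ₜ[ZMod 2] v) =
        Submodule.span (ZMod 2) (Set.range fun p : V × V => p.1 ⊗ₜ[ZMod 2] p.2 + p.2 ⊗ₜ[ZMod 2] p.1) ∧
      W ⊔ Submodule.span (ZMod 2) (Set.range fun v : V => v ⊗ₜ[ZMod 2] v) = ⊤ := by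
  obtain ⟨s, hs⟩ : ∃ s : G, s ≠ 1 := by
    by_contra h
    push Not at h
    have : Subsingleton G := ⟨fun a b => (h a).trans (h b).symm⟩
    rw [Nat.card_eq_one_iff_unique.2 ⟨this, ⟨1⟩⟩] at hG
    omega
  have : Finite G := Nat.finite_of_card_ne_zero (by omega)
  have hall : ∀ g : G, g = 1 ∨ g = s := fun g => by
    obtain ⟨x, y, hxy, huniv⟩ := Nat.card_eq_two_iff.1 hG
    have h : ∀ z : G, z = x ∨ z = y := fun z => by
      have : z ∈ (Set.univ : Set G) := trivial
      rw [← huniv] at this
      simpa using this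
    rcases h 1 with h1 | h1 <;> rcases h g with h2 | h2 <;> rcases h s with h3 | h3 <;> simp_all
  have hss : s * s = 1 := by
    rcases hall (s * s) with h | h
    · exact h
    · exact absurd (by simpa using h) hs
  obtain ⟨ι, b, hb⟩ := exists_perm_basis (ρ s) fun x => by
    rw [← Module.End.mul_apply, ← map_mul, hss, map_one]; rfl
  refine GrothLib.SymExt21.perm_split ρ b fun g i => ?_
  rcases hall g with rfl | rfl
  · exact ⟨i, by simp⟩
  · exact hb i

end Groth.Agent.S18549
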