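import Groth.Statements.S18550
import Mathlib.Algebra.Homology.DerivedCategory.TStructure
import Mathlib.Algebra.Homology.DerivedCategory.FullyFaithful
import Mathlib.Algebra.Homology.DerivedCategory.HomologySequence
import Mathlib.CategoryTheory.Triangulated.TStructure.TruncLTGE

set_option autoImplicit false
open CategoryTheory Limits
universe w v u
open CohDer

namespace Groth.Agent.S18550

/-- Let A be an abelian category, X an object of its derived category whose cohomology objects H^i(X)
are zero for all integers i outside the interval [a, a + n], and f : X → X an endomorphism in the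
derived category such that H^i(f) = 0 for every i. Then f^(n+1) = 0. (The source works in the
bounded derived category; the statement in D(A) for an object with cohomology bounded in this way is
the same assertion, the bounded derived category being a full subcategory.) -/
theorem result (A : Type u) [Category.{v} A] [Abelian A]
    [HasDerivedCategory.{w} A] (X : DerivedCategory A) (a : ℤ) (n : ℕ)
    (hX : ∀ i : ℤ, i < a ∨ a + n < i → IsZero ((DerivedCategory.homologyFunctor A i).obj X))
    (f : CategoryTheory.End X) (hf : ∀ i : ℤ, (DerivedCategory.homologyFunctor A i).map f = 0) :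
    f ^ (n + 1) = 0 := by
  induction n generalizing X a with
  | zero =>
    have : X.IsGE a := (DerivedCategory.isGE_iff X a).2 fun i hi => hX i (Or.inl hi)
    have : X.IsLE a := (DerivedCategory.isLE_iff X a).2 fun i hi => hX i (Or.inr (by simpa using hi))
    obtain ⟨Y, ⟨e⟩⟩ := DerivedCategory.exists_iso_singleFunctor_obj_of_isGE_of_isLE X a
    obtain ⟨g, hg⟩ := (DerivedCategory.singleFunctor A a).map_surjective (e.inv ≫ f ≫ e.hom)
    have h := NatIso.naturality_1 (DerivedCategory.singleFunctorCompHomologyFunctorIso A a) g
    have hgz : (DerivedCategory.homologyFunctor A a).map ((DerivedCategory.singleFunctor A a).map g) = 0 := by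
      rw [hg, Functor.map_comp, Functor.map_comp]
      exact (congrArg (_ ≫ ·) ((congrArg (· ≫ _) (hf a)).trans zero_comp)).trans comp_zero
    have hg0 : g = 0 := by
      rw [← show _ = g from h, Functor.comp_map, hgz, zero_comp, comp_zero]
    rw [zero_add, pow_one]
    rw [hg0, Functor.map_zero] at hg
    change (f : X ⟶ X) = 0
    rw [← cancel_epi e.inv, ← cancel_mono e.hom, Category.assoc, ← hg, comp_zero, zero_comp]
  | succ n ih =>
    let t := DerivedCategory.TStructure.t (C := A)
    let b : ℤ := a + (n + 1 : ℕ)
    have hGE : X.IsGE a := (DerivedCategory.isGE_iff X a).2 fun i hi => hX i (Or.inl hi)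
    have hLE : X.IsLE b := (DerivedCategory.isLE_iff X b).2 fun i hi => hX i (Or.inr hi)
    have hT := t.triangleLTGE_distinguished b X
    let X₁ := (t.truncLT b).obj X
    let X₃ := (t.truncGE b).obj X
    have h₁GE : X₁.IsGE a := inferInstanceAs (t.IsGE ((t.truncLT b).obj X) a)
    have h₁LE : X₁.IsLE (b - 1) := inferInstanceAs (t.IsLE ((t.truncLT b).obj X) (b - 1))
    have h₃GE : X₃.IsGE b := inferInstanceAs (t.IsGE ((t.truncGE b).obj X) b)
    have h₃LE : X₃.IsLE b := inferInstanceAs (t.IsLE ((t.truncGE b).obj X) b)
    let ι : X₁ ⟶ X := (t.truncLTι b).app X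
    let π : X ⟶ X₃ := (t.truncGEπ b).app X
    let f₁ : End X₁ := (t.truncLT b).map f
    let f₃ : X₃ ⟶ X₃ := (t.truncGE b).map f
    have hι : f₁ ≫ ι = ι ≫ (f : X ⟶ X) := (t.truncLTι b).naturality f
    have hπ : (f : X ⟶ X) ≫ π = π ≫ f₃ := (t.truncGEπ b).naturality f
    let H := DerivedCategory.homologyFunctor A
    have hH₁ : ∀ i, (H i).map f₁ = 0 := by
      intro i
      by_cases hi : b - 1 < i
      · exact (DerivedCategory.isZero_of_isLE X₁ (b - 1) i hi).eq_of_src _ _
      · have : Mono ((H i).map ι) :=
          (DerivedCategory.HomologySequence.mono_homologyMap_mor₁_iff _ hT (i - 1) i (by omega)).2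
            ((DerivedCategory.isZero_of_isGE X₃ b (i - 1) (by omega)).eq_of_src _ _)
        rw [← cancel_mono ((H i).map ι), zero_comp, ← Functor.map_comp, hι, Functor.map_comp]
        exact (congrArg (_ ≫ ·) (hf i)).trans comp_zero
    have hf₃ : f₃ = 0 := by
      obtain ⟨Y, ⟨e⟩⟩ := DerivedCategory.exists_iso_singleFunctor_obj_of_isGE_of_isLE X₃ b
      obtain ⟨g, hg⟩ := (DerivedCategory.singleFunctor A b).map_surjective (e.inv ≫ f₃ ≫ e.hom)
      have h := NatIso.naturality_1 (DerivedCategory.singleFunctorCompHomologyFunctorIso A b) g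
      have hepi : Epi ((H b).map π) :=
        (DerivedCategory.HomologySequence.epi_homologyMap_mor₂_iff _ hT b (b + 1) rfl).2
          ((DerivedCategory.isZero_of_isLE X₁ (b - 1) (b + 1) (by omega)).eq_of_tgt _ _)
      have hz : (H b).map f₃ = 0 := by
        rw [← cancel_epi ((H b).map π), comp_zero, ← Functor.map_comp, ← hπ, Functor.map_comp]
        exact (congrArg (· ≫ _) (hf b)).trans zero_comp
      have hgz : (H b).map ((DerivedCategory.singleFunctor A b).map g) = 0 := by
        rw [hg, Functor.map_comp, Functor.map_comp, hz, zero_comp, comp_zero]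
      have hg0 : g = 0 := by
        rw [← show _ = g from h, Functor.comp_map, hgz, zero_comp, comp_zero]
      rw [hg0, Functor.map_zero] at hg
      rw [← cancel_epi e.inv, ← cancel_mono e.hom, Category.assoc, ← hg, comp_zero, zero_comp]
    have h1 : f₁ ^ (n + 1) = 0 := ih X₁ a (fun i hi => by
      rcases hi with hi | hi
      · exact DerivedCategory.isZero_of_isGE X₁ a i hi
      · exact DerivedCategory.isZero_of_isLE X₁ (b - 1) i (by omega)) f₁ hH₁
    have hpow : ∀ m : ℕ, ι ≫ (f ^ m : End X) = (f₁ ^ m : End X₁) ≫ ι := by
      intro m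
      induction m with
      | zero => simp [End.one_def]
      | succ m ihm =>
        rw [pow_succ, pow_succ, End.mul_def, End.mul_def, ← Category.assoc, ← hι, Category.assoc,
          ihm, Category.assoc]
    obtain ⟨g, hg⟩ : ∃ g : X ⟶ X₁, (f : X ⟶ X) = g ≫ ι :=
      Pretriangulated.Triangle.coyoneda_exact₂ _ hT f (hπ.trans ((congrArg (π ≫ ·) hf₃).trans comp_zero))
    rw [pow_succ, End.mul_def]
    conv_lhs => arg 1; rw [hg]
    rw [Category.assoc, hpow, h1]
    simp

end Groth.Agent.S18550
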