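import Groth.Statements.S18555
import Groth.Agent.Lib.ASProp18.Proper
import Groth.Agent.Lib.TorsorFin18.Basic
import Groth.Agent.S16853
import Groth.Agent.S18415

set_option linter.all false
set_option backward.isDefEq.respectTransparency false
set_option backward.isDefEq.respectTransparency.types false

set_option autoImplicit false
universe u
open FrobSch

namespace Groth.Agent.S18555

section Aux

open AlgebraicGeometry CategoryTheory Limits CategoryTheory.Abelian Opposite TopologicalSpace
open GrothLib.EtQc13 GrothLib.ASProp18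

variable (p : ℕ) [Fact p.Prime]

theorem gaIso_frob (X : Scheme.{u}) [FrobSch.IsCharP X p] (h0 : (p : Γ(X, ⊤)) = 0) :
    (resUp X).map (W4c5etcohweilstudent.artinSchreierEndo X p (Fact.out : p.Prime) h0 + 𝟙 _) ≫ (gaIso X).hom =
      (gaIso X).hom ≫ (liftUp X).map (W4c5isocrystsimpconn.frobAb X p) := by
  ext U z
  refine ULift.ext _ _ ?_
  let W : X.Opens := (downOpens X).obj U.unop
  let y : Γ(W.toScheme, ⊤) := ULift.down z
  change W.topIso.hom.hom (y ^ p - y + y) = (W.topIso.hom.hom y) ^ p
  rw [sub_add_cancel, map_pow]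

theorem exists_equiv_frobH (X : Scheme.{u}) [FrobSch.IsCharP X p] (h0 : (p : Γ(X, ⊤)) = 0) (n : ℕ) :
    ∃ E : EtCoh.H X (EtCoh.Ga X) n ≃+ Coh.HH X (Coh.structureModule X) n, ∀ x,
      E (Sheaf.H.map (W4c5etcohweilstudent.artinSchreierEndo X p (Fact.out : p.Prime) h0) n x) =
        W4c5isocrystsimpconn.frobH X p n (E x) - E x := by
  obtain ⟨e₁, h₁⟩ := exists_natural_H_resUp X n
  obtain ⟨e₂, h₂⟩ := exists_natural_H_liftUp X n
  let α := ((Sheaf.functorH _ n).mapIso (gaIso X)).addCommGroupIsoToAddEquiv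
  let a := e₁ _ (acyclic_Ga X)
  let b := e₂ (Coh.toAb (Coh.structureModule X)) trivial
  let E := (a.trans α).trans b.symm
  let A := W4c5etcohweilstudent.artinSchreierEndo X p (Fact.out : p.Prime) h0
  refine ⟨E, fun x => ?_⟩
  have h : E (Sheaf.H.map (A + 𝟙 _) n x) = W4c5isocrystsimpconn.frobH X p n (E x) := by
    refine b.injective ?_
    simp only [E, AddEquiv.trans_apply]
    refine (b.apply_symm_apply _).trans (Eq.trans ?_ (h₂ _ _ trivial trivial _ _).symm)
    refine Eq.trans ?_ (congrArg (Sheaf.H.map ((liftUp X).map (W4c5isocrystsimpconn.frobAb X p)) n)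
      (b.apply_symm_apply _)).symm
    refine (congrArg α (h₁ _ _ (acyclic_Ga X) (acyclic_Ga X) (A + 𝟙 _) x)).trans ?_
    change Sheaf.H.map (gaIso X).hom n (Sheaf.H.map ((resUp X).map (A + 𝟙 _)) n (a x)) =
      Sheaf.H.map ((liftUp X).map (W4c5isocrystsimpconn.frobAb X p)) n (Sheaf.H.map (gaIso X).hom n (a x))
    rw [← Sheaf.H.map_comp_apply, ← Sheaf.H.map_comp_apply, gaIso_frob p X h0]
  rw [Sheaf.H.map_add_apply, Sheaf.H.map_id_apply, map_add] at h
  exact eq_sub_of_add_eq h

theorem nilpotent_of_no_fixed {k : Type u} [Field k] [IsAlgClosed k] [CharP k p] {V : Type u}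
    [AddCommGroup V] [Module k V] [Module.Finite k V] (T : V →+ V)
    (hT : ∀ (c : k) (v : V), T (c • v) = c ^ p • T v) (hfix : ∀ v, T v = v → v = 0) :
    ∃ b : ℕ, 0 < b ∧ ∀ v, T^[b] v = 0 := by
  have hroot : ∀ c : k, ∃ d : k, d ^ p = c := fun c =>
    IsAlgClosed.exists_pow_nat_eq c (Fact.out : p.Prime).pos
  have hTn : ∀ n (c : k) v, ∃ d : k, T^[n] (d • v) = c • T^[n] v := by
    intro n
    induction n with
    | zero => exact fun c v => ⟨c, rfl⟩
    | succ n ih =>
      intro c v
      obtain ⟨e, he⟩ := hroot c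
      obtain ⟨d, hd⟩ := ih e v
      refine ⟨d, ?_⟩
      rw [Function.iterate_succ_apply', hd, hT, he, Function.iterate_succ_apply']
  let S : ℕ → Submodule k V := fun n =>
    { carrier := Set.range (T^[n])
      add_mem' := by
        rintro _ _ ⟨a, rfl⟩ ⟨b, rfl⟩
        exact ⟨a + b, iterate_map_add T n a b⟩
      zero_mem' := ⟨0, iterate_map_zero T n⟩
      smul_mem' := by
        rintro c _ ⟨a, rfl⟩
        obtain ⟨d, hd⟩ := hTn n c a
        exact ⟨d • a, hd⟩ }
  have hanti : ∀ n, S (n + 1) ≤ S n := fun n => by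
    rintro _ ⟨a, rfl⟩
    exact ⟨T a, (Function.iterate_succ_apply T n a).symm⟩
  have hanti' : Antitone S := antitone_nat_of_succ_le hanti
  obtain ⟨N, hN⟩ := (IsArtinian.monotone_stabilizes (R := k) (M := V)
    ⟨fun n => OrderDual.toDual (S n), fun _ _ h => hanti' h⟩)
  have hS : S (N + 1) = S N := (OrderDual.toDual.injective (hN (N + 1) N.le_succ)).symm
  let W := S N
  have hWmap : ∀ w ∈ W, T w ∈ W := by
    rintro _ ⟨a, rfl⟩
    exact hanti N ⟨a, Function.iterate_succ_apply' T N a⟩
  let φ : W →+ W :=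
    { toFun := fun w => ⟨T w, hWmap w w.2⟩
      map_zero' := Subtype.ext (map_zero T)
      map_add' := fun a b => Subtype.ext (map_add T (a : V) (b : V)) }
  have hφ : ∀ (a : k) (v : W), φ (a • v) = a ^ (p ^ 1) • φ v := fun a v =>
    Subtype.ext (by rw [pow_one]; exact hT a v)
  have hsurj : Function.Surjective φ := fun w => by
    obtain ⟨a, ha⟩ : (w : V) ∈ S (N + 1) := hS.symm ▸ w.2
    exact ⟨⟨T^[N] a, a, rfl⟩, Subtype.ext ((Function.iterate_succ_apply' T N a).symm.trans ha)⟩
  have hinj : Function.Injective φ := by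
    let bW := Module.finBasis k W
    have hspan : Submodule.span k (Set.range fun i => φ (bW i)) = ⊤ := by
      rw [eq_top_iff]
      rintro w -
      obtain ⟨v, rfl⟩ := hsurj w
      rw [← bW.sum_repr v, map_sum]
      refine Submodule.sum_mem _ fun i _ => ?_
      rw [hφ]
      exact Submodule.smul_mem _ _ (Submodule.subset_span ⟨i, rfl⟩)
    have hli : LinearIndependent k fun i => φ (bW i) :=
      linearIndependent_of_top_le_span_of_card_eq_finrank hspan.ge (by simp)
    rw [injective_iff_map_eq_zero]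
    intro v hv
    rw [← bW.sum_repr v, map_sum] at hv
    simp only [hφ] at hv
    have := Fintype.linearIndependent_iff.1 hli _ hv
    rw [← bW.sum_repr v]
    refine Finset.sum_eq_zero fun i _ => ?_
    rw [eq_zero_of_pow_eq_zero (this i), zero_smul]
  obtain ⟨ι, bW, hb⟩ := Groth.Agent.S16853.result k p 1 le_rfl W φ hφ ⟨hinj, hsurj⟩
  have hι : IsEmpty ι := ⟨fun i => bW.ne_zero i (Subtype.ext (hfix _ (congrArg Subtype.val (hb i))))⟩
  have hW : ∀ w : W, w = 0 := fun w => bW.repr.injective (Subsingleton.elim _ _)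
  refine ⟨N + 1, N.succ_pos, fun v => ?_⟩
  exact congrArg Subtype.val (hW ⟨T^[N + 1] v, hanti N ⟨v, rfl⟩⟩)

end Aux

open AlgebraicGeometry CategoryTheory in
/-- Let k be an algebraically closed field of characteristic p > 0 and X a connected proper k-scheme
with trivial étale fundamental group, in the sense that every finite étale cover of X is a finite
disjoint union of copies of X. Then the pull-back by the absolute Frobenius, i.e. the additive
endomorphism of H^1(X, O_X) induced by the p-th power map of the structure sheaf, is nilpotent: some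
positive power of it vanishes. (The published setting has X smooth and projective over k; the
argument given uses only that X is proper and connected.) -/
theorem result
    (p : ℕ) [Fact p.Prime] (k : Type u) [Field k] [IsAlgClosed k] [CharP k p]
    (X : Scheme.{u}) [X.Over (Spec (CommRingCat.of k))] [IsProper (X ↘ Spec (CommRingCat.of k))]
    [ConnectedSpace X] [FrobSch.IsCharP X p]
    (hπ : ∀ Y : FEt.Cat X, Pi1.IsSplit Y) :
    ∃ b : ℕ, 0 < b ∧ ∀ x : Coh.HH X (Coh.structureModule X) 1,
      (W4c5isocrystsimpconn.frobH X p 1)^[b] x = 0 := by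
  let f := X ↘ Spec (CommRingCat.of k)
  have h0 : (p : Γ(X, ⊤)) = 0 := GrothLib.ASProp18.natCast_eq_zero p f
  haveI := GrothLib.Euler.isNoetherian_of_proper (X := X) k
  haveI : Module.Finite k (Coh.HH X (Coh.structureModule X) 1) :=
    Groth.Agent.S0002.result k X _ (GrothLib.Euler.isCoh_of_isInvertible GrothLib.Euler.isInvertible_structure) 1
  refine nilpotent_of_no_fixed p (k := k) (W4c5isocrystsimpconn.frobH X p 1) (fun c v => ?_) ?_
  · let r : Γ(X, ⊤) := Coh.toGlobal f c
    have hr : (Coh.toGlobal f (c ^ p) : Γ(X, ⊤)) = r ^ p := map_pow (Coh.toGlobal f) c p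
    change Sheaf.H.map (W4c5isocrystsimpconn.frobAb X p) 1
        (Sheaf.H.map (Coh.smulAb (Coh.structureModule X) r) 1 v) =
      Sheaf.H.map (Coh.smulAb (Coh.structureModule X) (Coh.toGlobal f (c ^ p))) 1
        (Sheaf.H.map (W4c5isocrystsimpconn.frobAb X p) 1 v)
    rw [← Sheaf.H.map_comp_apply, ← Sheaf.H.map_comp_apply]
    refine congrArg (fun m => Sheaf.H.map m 1 v) ?_
    ext U z
    let z' : Γ(X, U.unop) := z
    let q : Γ(X, U.unop) := X.presheaf.map (homOfLE le_top).op r
    change (q * z') ^ p = X.presheaf.map (homOfLE le_top).op (Coh.toGlobal f (c ^ p)) * z' ^ p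
    rw [hr, map_pow, mul_pow]
  · intro v hv
    obtain ⟨E, hE⟩ := exists_equiv_frobH p X h0 1
    obtain ⟨x, rfl⟩ := E.surjective v
    let a := W4c5etcohweilstudent.artinSchreierEndo X p (Fact.out : p.Prime) h0
    have hx : Sheaf.H.map a 1 x = 0 := E.injective (by rw [hE, hv, sub_self, map_zero])
    haveI : Epi a := Groth.Agent.S18415.result p Fact.out h0
    let K := ShortComplex.mk (Limits.kernel.ι a) a (Limits.kernel.condition a)
    have hK : K.ShortExact := { exact := K.exact_of_f_is_kernel (Limits.kernelIsKernel a) }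
    obtain ⟨y, hy⟩ := Abelian.Ext.covariant_sequence_exact₂ _ hK x hx
    obtain ⟨e⟩ := GrothLib.EtQc13.exists_iso_const X p h0
    haveI := GrothLib.TorsorFin18.subsingleton_H_one X (ZMod p) (fun V φ _ _ _ => by
      obtain ⟨ι, _, i, hi⟩ := hπ (MorphismProperty.Over.mk ⊤ φ ⟨inferInstance, inferInstance⟩)
      obtain ⟨x₀⟩ := (inferInstance : Nonempty ↥X)
      obtain ⟨y₀, -⟩ := φ.surjective x₀
      obtain ⟨j, -, -⟩ := (sigmaOpenCover (fun _ : ι => X)).exists_eq (i.hom y₀)
      exact ⟨_, (Category.assoc _ _ _).trans (hi j)⟩)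
    have hy0 : y = 0 := by
      have h1 : Sheaf.H.map e.hom 1 (Sheaf.H.map e.inv 1 y) = y := by
        rw [← Sheaf.H.map_comp_apply, e.inv_hom_id, Sheaf.H.map_id_apply]
      rw [← h1, Subsingleton.elim (Sheaf.H.map e.inv 1 y) 0, map_zero]
    rw [← hy, hy0, Abelian.Ext.zero_comp, map_zero]

end Groth.Agent.S18555
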