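import Groth.Statements.S18556
import Groth.Agent.Lib.FrobIter10.Basic
import Groth.Agent.S18555

set_option linter.all false
set_option backward.isDefEq.respectTransparency false

set_option autoImplicit false
universe u
open FrobSch

namespace Groth.Agent.S18556

open AlgebraicGeometry CategoryTheory CategoryTheory.Limits in
theorem free_of_iterExt (p : ℕ) [Fact p.Prime] (k : Type u) [CommRing k]
    (X : Scheme.{u}) [X.Over (Spec (CommRingCat.of k))] [FrobSch.IsCharP X p] (b : ℕ)
    (hb : ∀ x, (W4c5isocrystsimpconn.frobH X p 1)^[b] x = 0) :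
    ∀ (n : ℕ) (E : X.Modules), W4c5isocrystsimpconn.IsIterExt X (n + 1) E →
      Nonempty ((Scheme.Modules.pullback (FrobSch.frob X p)).obj^[b * n] E ≅ FlatMod.freeMod X (n + 1)) := by
  haveI : EnoughInjectives X.Modules := GrothLib.SheafCoh.enoughInjectives_sheafOfModules X.ringCatSheaf
  haveI : HasExt.{u} X.Modules := hasExt_of_enoughInjectives _
  intro n
  induction n with
  | zero =>
    rintro E ⟨E', i, q, w, hE', hS⟩
    haveI : IsIso q := hS.isIso_g_iff.2 hE'
    exact ⟨asIso q ≪≫ (coproductUniqueIso (fun _ : Fin 1 => Coh.structureModule X)).symm⟩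
  | succ n ih =>
    rintro E ⟨E', i, q, w, hE', hS⟩
    obtain ⟨S', h, ⟨e₃⟩, h₁, h₂⟩ := GrothLib.FrobIter10.exists_shortExact_iterate p (b * n) _ hS (Iso.refl _)
    obtain ⟨e₁⟩ := ih E' hE'
    obtain ⟨iso⟩ := GrothLib.FrobIter10.nonempty_iso_free_succ p k b hb h e₃ (eqToIso h₁ ≪≫ e₁)
    rw [h₂] at iso
    rw [Nat.mul_succ, Nat.add_comm, Function.iterate_add_apply]
    exact ⟨iso⟩

open AlgebraicGeometry CategoryTheory CategoryTheory.Limits in
/-- Let k be an algebraically closed field of characteristic p > 0 and X a connected proper k-scheme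
with trivial étale fundamental group, in the sense that every finite étale cover of X is a finite
disjoint union of copies of X. Then there is a positive integer b, which depends only on X, with the
following property: for every natural number r and every locally free O_X-module E of rank r which
is an r-fold iterated extension of copies of the structure sheaf (a filtration 0 = E_0 ≤ E_1 ≤ ⋯ ≤
E_r = E with every successive quotient isomorphic to O_X), the b(r-1)-fold iterated pull-back of E
by the absolute Frobenius of X is isomorphic to the free module O_X^r. (The published statement is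
phrased for a sequence E_0, …, E_{b(r-1)} of locally free sheaves with each E_{i+1} the Frobenius
pull-back of E_i, and has X smooth and projective over k; the argument given uses only that X is
proper and connected.) -/
theorem result
    (p : ℕ) [Fact p.Prime] (k : Type u) [Field k] [IsAlgClosed k] [CharP k p]
    (X : Scheme.{u}) [X.Over (Spec (CommRingCat.of k))] [IsProper (X ↘ Spec (CommRingCat.of k))]
    [ConnectedSpace X] [FrobSch.IsCharP X p]
    (hπ : ∀ Y : FEt.Cat X, Pi1.IsSplit Y) :
    ∃ b : ℕ, 0 < b ∧ ∀ (r : ℕ) (E : X.Modules), FlatMod.IsFinLocFreeOfRank r E →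
      W4c5isocrystsimpconn.IsIterExt X r E →
        Nonempty (((Scheme.Modules.pullback (FrobSch.frob X p)).obj)^[b * (r - 1)] E ≅ FlatMod.freeMod X r) := by
  obtain ⟨b, hb0, hb⟩ := Groth.Agent.S18555.result p k X hπ
  refine ⟨b, hb0, fun r E _ hE => ?_⟩
  cases r with
  | zero =>
    have h0 : IsZero (FlatMod.freeMod X 0) := (IsZero.iff_id_eq_zero _).2 (Sigma.hom_ext _ _ fun j => j.elim0)
    exact ⟨(show IsZero E from hE).iso h0⟩
  | succ n => exact free_of_iterExt p k X b hb n E hE

end Groth.Agent.S18556
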