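import Groth.Statements.S18561
import Groth.Agent.Lib.Elem.PtQuiv

set_option autoImplicit false
universe u v
open PtQuiv

namespace Groth.Agent.S18561

/-- Let K be a field and s i ∈ K² (i in a finite index type) nonzero vectors, regarded as a
representation of the quiver with a central vertex carrying the plane and one vertex per i carrying
a line mapping to the plane by 1 ↦ s i. Then the representation is stable for some weight of the
hypersimplex (0 ≤ θ i ≤ 1, Σ θ i = 2, central weight -1) if and only if the s i fall into at least
three proportionality classes, i.e. three of them are pairwise non-proportional. (The published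
statement is over an algebraically closed field and assumes semistability for some interior weight
instead of s i ≠ 0; any field is allowed here. Its further assertions, that the set of semistability
weights is full-dimensional exactly in this case and is a wall otherwise, are not part of this row.) -/
theorem result (K : Type u) [Field K] (ι : Type v)
    [Fintype ι] (s : ι → (Fin 2 → K)) (hs : ∀ i, s i ≠ 0) :
    (∃ θ : ι → ℚ, (∀ i, 0 ≤ θ i) ∧ (∀ i, θ i ≤ 1) ∧ ∑ i, θ i = 2 ∧ PtQuiv.QStable (-1) θ s) ↔
      ∃ i j k : ι, s i ∉ K ∙ s j ∧ s j ∉ K ∙ s k ∧ s i ∉ K ∙ s k := by
  exact PtQuivLemmas.exists_qStable_iff s hs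

end Groth.Agent.S18561
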