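import Groth.Statements.S18564
import Groth.Agent.Lib.ParHilb.GPCurve

set_option autoImplicit false
set_option linter.all false
universe u
open CategoryTheory CategoryTheory.Limits AlgebraicGeometry
open ParSh

namespace Groth.Agent.S18564

/-- Let Y be a smooth proper integral curve (integral, smooth and proper over k, of dimension one) over
an algebraically closed field k, D an effective Cartier divisor on Y with ideal I, and α a real
weight with 0 ≤ α < 1. A generalised parabolic structure on a finite locally free O_Y-module E is a
k-linear subspace F₁ of H⁰(Y, E ⊗ O_D); its parabolic degree in rank n is deg E + α·dim_k F₁ (deg E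
= χ(E) − n·χ(O_Y)); a homomorphism f : E → E' is parabolic when the induced k-linear map H⁰(E ⊗ O_D)
→ H⁰(E' ⊗ O_D) carries F₁ into F₁'; a submodule G → E gets the preimage structure and (E, F₁) is
semistable (stable) when deg(G, preimage) · n ≤ (<) deg(E, F₁) · r for every finite locally free
submodule G of rank r ≥ 1 (with r < n for stability). Let E and F be finite locally free of the same
rank n ≥ 1 with structures F₁ and F₁', and f : E → F a parabolic monomorphism (a monomorphism
between modules of equal rank, that is, a generic isomorphism). Then the parabolic degree of (E, F₁)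
is at most that of (F, F₁'), and equality holds if and only if f is an isomorphism of O_Y-modules
which, when α > 0, also maps F₁ onto F₁'. The published statement asks in the equality case for an
isomorphism of generalised parabolic bundles (an isomorphism of modules mapping F₁ onto F₁') at
every weight 0 ≤ α < 1; at α = 0 this fails, since the identity of O_Y, from the zero structure to
all of H⁰(O_D) with D a single point, has equal parabolic degrees on both sides without being one,
while the published proof shows only that the cokernel vanishes; so the condition on F₁ is asked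
here only for α > 0. The published statement is also set on the normalisation of a singular curve
with D lying over its singular points; neither is used. -/
theorem result (k : Type u) [Field k] [IsAlgClosed k] (X : Scheme.{u}) [X.Over (Spec (CommRingCat.of k))]
    [AlgebraicGeometry.IsIntegral X] [IsProper (X ↘ Spec (CommRingCat.of k))] [Smooth (X ↘ Spec (CommRingCat.of k))]
    (hdim : topologicalKrullDim X = 1)
    (I : X.IdealSheafData) (hD : FGA.IsEffCartier I) (α : ℝ) (hα0 : 0 ≤ α) (hα1 : α < 1)
    {E F : X.Modules} (n : ℕ) (hn : 0 < n) (hE : FlatMod.IsFinLocFreeOfRank n E) (hF : FlatMod.IsFinLocFreeOfRank n F)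
    (F₁ : Submodule k (ParSh.fibD X I E)) (F₁' : Submodule k (ParSh.fibD X I F))
    (f : E ⟶ F) [Mono f] (hf : ParSh.IsGPHom k X I F₁ F₁' f) :
    ParSh.gpDeg k X α E F₁ n ≤ ParSh.gpDeg k X α F F₁' n ∧
      (ParSh.gpDeg k X α E F₁ n = ParSh.gpDeg k X α F F₁' n ↔
        (IsIso f ∧ (0 < α → Submodule.map (ParSh.fibDMap k X I f) F₁ = F₁'))) := by
  have hd1 : topologicalKrullDim X ≤ 1 := hdim.le
  obtain ⟨q, hq, hle, hiso⟩ := GrothLib.ParHilb.finrank_comap_le k hd1 hD hE hF f F₁'
  haveI := GrothLib.ParHilb.finiteDimensional_fibD k hd1 hD hE
  haveI := GrothLib.ParHilb.finiteDimensional_fibD k hd1 hD hF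
  have he : Module.finrank k F₁ ≤ Module.finrank k F₁' + q :=
    (Submodule.finrank_mono (show F₁ ≤ ParSh.gpInduced k X I f F₁' from Submodule.map_le_iff_le_comap.1 hf)).trans hle
  have heR : (Module.finrank k F₁ : ℝ) ≤ Module.finrank k F₁' + q := by exact_mod_cast he
  have h1 : α * (Module.finrank k F₁ : ℝ) ≤ α * Module.finrank k F₁' + α * q := by
    rw [← mul_add]; exact mul_le_mul_of_nonneg_left heR hα0
  have h2 : α * (q : ℝ) ≤ q := mul_le_of_le_one_left (by positivity) hα1.le
  have hinj : IsIso f → Function.Injective (ParSh.fibDMap k X I f) := fun hi => by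
    haveI := hi
    refine Function.LeftInverse.injective (g := ParSh.fibDMap k X I (inv f)) fun x => ?_
    show GrothLib.Cohom.hhMap k (ParSh.resDMap I (inv f)) 0 (GrothLib.Cohom.hhMap k (ParSh.resDMap I f) 0 x) = x
    rw [← GrothLib.Euler.hhMap_comp]
    have : ParSh.resDMap I f ≫ ParSh.resDMap I (inv f) = 𝟙 _ := by
      rw [← KoszTw.tensorMap_comp, IsIso.hom_inv_id, Category.comp_id, KoszTw.tensorMap_id]
    rw [this, GrothLib.Euler.hhMap_id]
  simp only [ParSh.gpDeg, ParSh.gpWt]
  rw [hq]
  push_cast
  refine ⟨by linarith, fun h => ?_, fun ⟨hi, hm⟩ => ?_⟩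
  · have hq0 : (1 - α) * (q : ℝ) ≤ 0 := by linarith
    have hqz : q = 0 := by
      by_contra hne
      have : (0 : ℝ) < (1 - α) * q := mul_pos (by linarith) (by exact_mod_cast Nat.pos_of_ne_zero hne)
      linarith
    refine ⟨hiso hqz, fun hpos => ?_⟩
    subst hqz
    refine Submodule.eq_of_le_of_finrank_eq hf ?_
    rw [← (Submodule.equivMapOfInjective _ (hinj (hiso rfl)) F₁).finrank_eq]
    have h3 : α * (Module.finrank k F₁ : ℝ) = α * Module.finrank k F₁' := by push_cast at h; linarith
    exact_mod_cast mul_left_cancel₀ hpos.ne' h3
  · haveI := hi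
    have hqz : (q : ℝ) = 0 := by
      have : Curv2.euler k X E = Curv2.euler k X F := GrothLib.Euler.euler_of_iso k (asIso f)
      simp only [Curv2.deg, this] at hq
      have : q = 0 := by omega
      simp [this]
    rcases hα0.eq_or_lt with h0 | hpos
    · rw [← h0, hqz]; ring
    · rw [← hm hpos, ← (Submodule.equivMapOfInjective _ (hinj hi) F₁).finrank_eq, hqz]; ring

end Groth.Agent.S18564
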