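import Groth.Statements.S18565
import Groth.Agent.Lib.ParHilb.GPHom
import Groth.Agent.Lib.OX.OneDegLocus

set_option autoImplicit false
set_option linter.all false
universe u
open CategoryTheory CategoryTheory.Limits AlgebraicGeometry
open ParSh

namespace Groth.Agent.S18565

/-- Let Y be a smooth proper integral curve (integral, smooth and proper over k, of dimension one) over
an algebraically closed field k, D an effective Cartier divisor on Y with ideal I, and α a real
weight with 0 ≤ α < 1. A generalised parabolic structure on a finite locally free O_Y-module E is a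
k-linear subspace F₁ of H⁰(Y, E ⊗ O_D); its parabolic degree in rank n is deg E + α·dim_k F₁ (deg E
= χ(E) − n·χ(O_Y)); a homomorphism f : E → E' is parabolic when the induced k-linear map H⁰(E ⊗ O_D)
→ H⁰(E' ⊗ O_D) carries F₁ into F₁'; a submodule G → E gets the preimage structure and (E, F₁) is
semistable (stable) when deg(G, preimage) · n ≤ (<) deg(E, F₁) · r for every finite locally free
submodule G of rank r ≥ 1 (with r < n for stability). Let (E, F₁) and (F, F₁') be semistable of
ranks n ≥ 1 and m ≥ 1 with the same parabolic slope, pardeg(E, F₁)·m = pardeg(F, F₁')·n, and let f :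
E → F be a parabolic homomorphism. Then f has constant rank: the cokernel of f in the category of
O_Y-modules is finite locally free. The published statement is set on the normalisation of a
singular curve with D lying over its singular points; neither is used. -/
theorem result (k : Type u) [Field k] [IsAlgClosed k] (X : Scheme.{u}) [X.Over (Spec (CommRingCat.of k))]
    [AlgebraicGeometry.IsIntegral X] [IsProper (X ↘ Spec (CommRingCat.of k))] [Smooth (X ↘ Spec (CommRingCat.of k))]
    (hdim : topologicalKrullDim X = 1)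
    (I : X.IdealSheafData) (hD : FGA.IsEffCartier I) (α : ℝ) (hα0 : 0 ≤ α) (hα1 : α < 1)
    {E F : X.Modules} (n m : ℕ) (hn : 0 < n) (hm : 0 < m)
    (hE : FlatMod.IsFinLocFreeOfRank n E) (hF : FlatMod.IsFinLocFreeOfRank m F)
    (F₁ : Submodule k (ParSh.fibD X I E)) (F₁' : Submodule k (ParSh.fibD X I F))
    (hEss : ParSh.IsGPSemistable k X I α F₁ n) (hFss : ParSh.IsGPSemistable k X I α F₁' m)
    (hμ : ParSh.gpDeg k X α E F₁ n * (m : ℝ) = ParSh.gpDeg k X α F F₁' m * (n : ℝ))
    (f : E ⟶ F) (hf : ParSh.IsGPHom k X I F₁ F₁' f) :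
    ∃ r₀ : ℕ, FlatMod.IsFinLocFreeOfRank r₀ (cokernel f) := by
  have hd1 : topologicalKrullDim X ≤ 1 := hdim.le
  haveI := GrothLib.Euler.isNoetherian_of_proper (X := X) k
  have hpid := GrothLib.Euler.isPrincipalIdealRing_stalk_of_smooth (X ↘ Spec (CommRingCat.of k)) hd1
  obtain ⟨rK, rJ, hg, hK, hJ, -, heq⟩ := GrothLib.ParHilb.gp_hom_data k hd1 hD hpid α hα0 n m hn hm hE hF F₁ F₁'
    hEss hFss hμ f hf
  rcases Nat.eq_zero_or_pos rJ with h0 | hpos
  · subst h0
    have hf0 : f = 0 := by
      rw [← Abelian.image.fac f, (GrothLib.Euler.isZero_of_rank_zero hJ).eq_of_tgt (Abelian.factorThruImage f) 0,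
        zero_comp]
    subst hf0
    exact ⟨m, GrothLib.OX.isFinLocFreeOfRank_of_iso cokernelZeroIsoTarget.symm hF⟩
  · have h := GrothLib.ParHilb.isFinLocFreeOfRank_cokernel_of_gpMax k hd1 hD hpid α hα0 hα1 hm hpos hF hJ
      (Abelian.image.ι f) F₁' hFss heq
    exact ⟨_, GrothLib.OX.isFinLocFreeOfRank_of_iso
      ((cokernelEpiComp (Abelian.factorThruImage f) (Abelian.image.ι f)).symm ≪≫ cokernelIsoOfEq (Abelian.image.fac f)) h⟩

end Groth.Agent.S18565
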