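import Groth.Statements.S18568
import Groth.Agent.Lib.ParHilb.GPCurve

set_option autoImplicit false
set_option linter.all false
universe u
open CategoryTheory CategoryTheory.Limits AlgebraicGeometry
open ParSh

namespace Groth.Agent.S18568

/-- Let Y be a smooth proper integral curve (integral, smooth and proper over k, of dimension one) over
an algebraically closed field k and D an effective Cartier divisor on Y with ideal I, of degree d ≥
1 in the sense that H⁰(Y, G ⊗ O_D) has k-dimension r·d for every finite locally free G of rank r. A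
generalised parabolic structure on a finite locally free E is a k-subspace F₁ of H⁰(E ⊗ O_D); with
weight α its parabolic degree in rank n is deg E + α·dim_k F₁ (deg E = χ(E) − n·χ(O_Y)); a submodule
G → E carries the preimage structure under H⁰(G ⊗ O_D) → H⁰(E ⊗ O_D), and (E, F₁) is α-semistable
(α-stable) when deg_α(G)·n ≤ (<) deg_α(E)·r for every finite locally free submodule G of rank r ≥ 1
(with r < n for stability); weight α = 1 gives 1-semistability and 1-stability. Let E have rank n ≥
2 with structure F₁ and let 0 ≤ α < 1 satisfy 1 − 1/(d·n·(n−1)) < α. If (E, F₁) is α-semistable then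
it is 1-semistable. The published statement is set on the normalisation of a singular curve, with
structures over several disjoint divisors D_i lying over its singular points and d their total
degree; here Y is any smooth proper integral curve with one structure over one divisor, which
contains the several-divisor case (D the sum of the D_i, F₁ the direct sum of the F₁^i). -/
theorem result (k : Type u) [Field k] [IsAlgClosed k] (X : Scheme.{u}) [X.Over (Spec (CommRingCat.of k))]
    [AlgebraicGeometry.IsIntegral X] [IsProper (X ↘ Spec (CommRingCat.of k))] [Smooth (X ↘ Spec (CommRingCat.of k))]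
    (hdim : topologicalKrullDim X = 1)
    (I : X.IdealSheafData) (hD : FGA.IsEffCartier I) (d : ℕ) (hd : 0 < d)
    (hdegD : ∀ (G : X.Modules) (r : ℕ), FlatMod.IsFinLocFreeOfRank r G → Module.finrank k (ParSh.fibD X I G) = r * d)
    {E : X.Modules} (n : ℕ) (hn : 2 ≤ n) (hE : FlatMod.IsFinLocFreeOfRank n E)
    (F₁ : Submodule k (ParSh.fibD X I E))
    (α : ℝ) (hα0 : 0 ≤ α) (hα1 : α < 1) (hα : 1 - 1 / ((d : ℝ) * (n : ℝ) * ((n : ℝ) - 1)) < α)
    (hss : ParSh.IsGPSemistable k X I α F₁ n) :
    ParSh.IsGPSemistable k X I 1 F₁ n := by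
  intro F r' i hi hr' hF
  haveI := hi
  have h1 := hss F r' i hi hr' hF
  simp only [ParSh.gpDeg, ParSh.gpWt, one_mul] at h1 ⊢
  have hle : r' ≤ n := by
    have := GrothLib.Euler.grank_le_of_mono i
      (GrothLib.Euler.isCoh_of_isFinLocFree (GrothLib.FinCov.isFinLocFree_of_rank hE))
    rwa [GrothLib.Euler.grank_of_locFree hF, GrothLib.Euler.grank_of_locFree hE] at this
  have hd1 : topologicalKrullDim X ≤ 1 := hdim.le
  haveI := GrothLib.ParHilb.finiteDimensional_fibD k hd1 hD hF
  haveI := GrothLib.ParHilb.finiteDimensional_fibD k hd1 hD hE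
  have hf : (Module.finrank k ↥(ParSh.gpInduced k X I i F₁) : ℝ) ≤ (r' : ℝ) * d := by
    exact_mod_cast (Submodule.finrank_le _).trans (hdegD F r' hF).le
  set f₁ : ℕ := Module.finrank k ↥(ParSh.gpInduced k X I i F₁) with hf₁
  set e : ℕ := Module.finrank k ↥F₁ with he₁
  have hden : (0 : ℝ) < (d : ℝ) * n * ((n : ℝ) - 1) := by
    have : (0 : ℝ) < (d : ℝ) := by exact_mod_cast hd
    have : (2 : ℝ) ≤ n := by exact_mod_cast hn
    exact mul_pos (mul_pos (by linarith) (by linarith)) (by linarith)
  have hsmall : (1 - α) * ((d : ℝ) * n * ((n : ℝ) - 1)) < 1 := by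
    have h : 1 - α < 1 / ((d : ℝ) * n * ((n : ℝ) - 1)) := by linarith
    calc _ < 1 / ((d : ℝ) * n * ((n : ℝ) - 1)) * ((d : ℝ) * n * ((n : ℝ) - 1)) :=
          mul_lt_mul_of_pos_right h hden
      _ = 1 := one_div_mul_cancel hden.ne'
  rcases hle.lt_or_eq with hlt | rfl
  · have hn' : (r' : ℝ) ≤ (n : ℝ) - 1 := by
      have : (r' : ℝ) + 1 ≤ n := by exact_mod_cast hlt
      linarith
    have hb : (f₁ : ℝ) * n - e * r' ≤ (d : ℝ) * n * ((n : ℝ) - 1) :=
      calc (f₁ : ℝ) * n - e * r' ≤ f₁ * n := sub_le_self _ (by positivity)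
        _ ≤ ((r' : ℝ) * d) * n := mul_le_mul_of_nonneg_right hf (by positivity)
        _ ≤ (((n : ℝ) - 1) * d) * n := by gcongr
        _ = _ := by ring
    have hkey : (1 - α) * ((f₁ : ℝ) * n - e * r') < 1 :=
      lt_of_le_of_lt (mul_le_mul_of_nonneg_left hb (by linarith)) hsmall
    set A := Curv2.deg k X F r'
    set B := Curv2.deg k X E n
    have hreal : ((A + f₁) * n : ℝ) < (B + e) * r' + 1 := by linarith
    have hint : (A + f₁) * (n : ℤ) < (B + e) * (r' : ℤ) + 1 := by exact_mod_cast hreal
    exact_mod_cast (show (A + f₁) * (n : ℤ) ≤ (B + e) * (r' : ℤ) by omega)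
  · obtain ⟨q, hq, hle', -⟩ := GrothLib.ParHilb.finrank_comap_le k hd1 hD hF hE i F₁
    refine mul_le_mul_of_nonneg_right ?_ (by positivity)
    rw [hq]
    have : (f₁ : ℝ) ≤ e + q := by exact_mod_cast hle'
    push_cast
    linarith

end Groth.Agent.S18568
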