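import Groth.Statements.S18569


set_option autoImplicit false
set_option linter.all false
universe u
open CategoryTheory CategoryTheory.Limits AlgebraicGeometry
open ParSh

namespace Groth.Agent.S18569

/-- Let Y be a smooth proper integral curve (integral, smooth and proper over k, of dimension one) over
an algebraically closed field k and D an effective Cartier divisor on Y with ideal I, of degree d ≥
1 in the sense that H⁰(Y, G ⊗ O_D) has k-dimension r·d for every finite locally free G of rank r. A
generalised parabolic structure on a finite locally free E is a k-subspace F₁ of H⁰(E ⊗ O_D); with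
weight α its parabolic degree in rank n is deg E + α·dim_k F₁ (deg E = χ(E) − n·χ(O_Y)); a submodule
G → E carries the preimage structure under H⁰(G ⊗ O_D) → H⁰(E ⊗ O_D), and (E, F₁) is α-semistable
(α-stable) when deg_α(G)·n ≤ (<) deg_α(E)·r for every finite locally free submodule G of rank r ≥ 1
(with r < n for stability); weight α = 1 gives 1-semistability and 1-stability. Let E have rank n ≥
2 with structure F₁ and let 0 ≤ α < 1 satisfy 1 − 1/(d·n·(n−1)) < α. If (E, F₁) is 1-stable then it
is α-stable. The published statement is set on the normalisation of a singular curve, with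
structures over several disjoint divisors D_i lying over its singular points and d their total
degree; here Y is any smooth proper integral curve with one structure over one divisor, which
contains the several-divisor case (D the sum of the D_i, F₁ the direct sum of the F₁^i). -/
theorem result (k : Type u) [Field k] [IsAlgClosed k] (X : Scheme.{u}) [X.Over (Spec (CommRingCat.of k))]
    [AlgebraicGeometry.IsIntegral X] [IsProper (X ↘ Spec (CommRingCat.of k))] [Smooth (X ↘ Spec (CommRingCat.of k))]
    (hdim : topologicalKrullDim X = 1)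
    (I : X.IdealSheafData) (hD : FGA.IsEffCartier I) (d : ℕ) (hd : 0 < d)
    (hdegD : ∀ (G : X.Modules) (r : ℕ), FlatMod.IsFinLocFreeOfRank r G → Module.finrank k (ParSh.fibD X I G) = r * d)
    {E : X.Modules} (n : ℕ) (hn : 2 ≤ n) (hE : FlatMod.IsFinLocFreeOfRank n E)
    (F₁ : Submodule k (ParSh.fibD X I E))
    (α : ℝ) (hα0 : 0 ≤ α) (hα1 : α < 1) (hα : 1 - 1 / ((d : ℝ) * (n : ℝ) * ((n : ℝ) - 1)) < α)
    (hst : ParSh.IsGPStable k X I 1 F₁ n) :
    ParSh.IsGPStable k X I α F₁ n := by
  intro F r' i hi hr' hr'n hF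
  have h1 := hst F r' i hi hr' hr'n hF
  simp only [ParSh.gpDeg, ParSh.gpWt, one_mul] at h1 ⊢
  haveI : FiniteDimensional k (ParSh.fibD X I F) :=
    Module.finite_of_finrank_pos (by rw [hdegD F r' hF]; positivity)
  have hf : (Module.finrank k ↥(ParSh.gpInduced k X I i F₁) : ℝ) ≤ (r' : ℝ) * d := by
    exact_mod_cast (Submodule.finrank_le _).trans (hdegD F r' hF).le
  haveI : FiniteDimensional k (ParSh.fibD X I E) :=
    Module.finite_of_finrank_pos (by rw [hdegD E n hE]; positivity)
  have he : (Module.finrank k ↥F₁ : ℝ) ≤ (n : ℝ) * d := by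
    exact_mod_cast (Submodule.finrank_le _).trans (hdegD E n hE).le
  set f₁ : ℕ := Module.finrank k ↥(ParSh.gpInduced k X I i F₁)
  set e : ℕ := Module.finrank k ↥F₁
  set A := Curv2.deg k X F r'
  set B := Curv2.deg k X E n
  have hint : ((A + f₁) * n + 1 : ℝ) ≤ (B + e) * r' := by
    have : (A + f₁) * (n : ℤ) < (B + e) * (r' : ℤ) := by exact_mod_cast h1
    exact_mod_cast (show (A + f₁) * (n : ℤ) + 1 ≤ (B + e) * (r' : ℤ) by omega)
  have hn' : (r' : ℝ) ≤ (n : ℝ) - 1 := by
    have : (r' : ℝ) + 1 ≤ n := by exact_mod_cast hr'n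
    linarith
  have hden : (0 : ℝ) < (d : ℝ) * n * ((n : ℝ) - 1) := by
    have : (0 : ℝ) < (d : ℝ) := by exact_mod_cast hd
    have : (2 : ℝ) ≤ n := by exact_mod_cast hn
    nlinarith
  have hsmall : (1 - α) * ((d : ℝ) * n * ((n : ℝ) - 1)) < 1 := by
    have h : 1 - α < 1 / ((d : ℝ) * n * ((n : ℝ) - 1)) := by linarith
    calc _ < 1 / ((d : ℝ) * n * ((n : ℝ) - 1)) * ((d : ℝ) * n * ((n : ℝ) - 1)) :=
          mul_lt_mul_of_pos_right h hden
      _ = 1 := one_div_mul_cancel hden.ne'
  have hb : (e : ℝ) * r' - f₁ * n ≤ (d : ℝ) * n * ((n : ℝ) - 1) :=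
    calc (e : ℝ) * r' - f₁ * n ≤ e * r' := sub_le_self _ (by positivity)
      _ ≤ (n : ℝ) * d * ((n : ℝ) - 1) := mul_le_mul he hn' (by positivity) (by positivity)
      _ = _ := by ring
  have hkey : (1 - α) * ((e : ℝ) * r' - f₁ * n) < 1 :=
    lt_of_le_of_lt (mul_le_mul_of_nonneg_left hb (by linarith)) hsmall
  linarith

end Groth.Agent.S18569
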