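import Groth.Statements.S1857
-- import your own Groth.Agent.* helpers here
import Groth.Agent.Lib.CycFlat.Length

set_option autoImplicit false
universe u
open CategoryTheory AlgebraicGeometry
open Cyc

namespace Groth.Agent.S1857

/-- For flat morphisms f : X → Y and g : Y → Z locally of finite type of relative dimensions r and s,
the composite has relative dimension r + s and (g ∘ f)^* = f^* ∘ g^* on k-cycles (equality of
coefficient functions). Here a pair (X, δ) with Cyc.IsSetup plays the role of a scheme locally of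
finite type over a fixed base with a dimension function (X locally Noetherian with universally
catenary local rings, δ a dimension function), and Cyc.DeltaCompat records that the dimension
function upstairs is the induced one. -/
theorem result (X Y Z : Scheme.{u}) (δX : X → ℤ) (δY : Y → ℤ) (δZ : Z → ℤ) (hX : Cyc.IsSetup X δX) (hY : Cyc.IsSetup Y δY) (hZ : Cyc.IsSetup Z δZ) (f : X ⟶ Y) (g : Y ⟶ Z) [Flat f] [LocallyOfFiniteType f] [Flat g] [LocallyOfFiniteType g] (r s : ℕ) (hr : Cyc.HasRelDim f r) (hs : Cyc.HasRelDim g s) (hf : Cyc.DeltaCompat f δX δY) (hg : Cyc.DeltaCompat g δY δZ) (k : ℤ) : Cyc.HasRelDim (f ≫ g) (r + s) ∧ ∀ α : AlgebraicCycle Z ℤ, α ∈ Cyc.Zk Z δZ k → Cyc.pullFun f δX δY r (Cyc.pullFun g δY δZ s ⇑α) = Cyc.pullFun (f ≫ g) δX δZ ((r : ℤ) + s) ⇑α := by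
  refine ⟨GrothLib.CycFlat.hasRelDim_comp f g hr hs, fun α _ => ?_⟩
  rw [add_comm (r : ℤ) (s : ℤ)]
  exact (GrothLib.CycFlat.pullFun_comp f g hX.2.2 hY.2.2 (GrothLib.CycFlat.shift_of_hasRelDim g hs hg)
    (GrothLib.CycFlat.shift_of_hasRelDim f hr hf) ⇑α).symm

end Groth.Agent.S1857
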