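import Groth.Statements.S18570
import Groth.Agent.Lib.ParHilb.GPCurve
import Groth.Agent.S18568
import Groth.Agent.S18569

set_option autoImplicit false
set_option linter.all false
universe u
open CategoryTheory CategoryTheory.Limits AlgebraicGeometry
open ParSh

namespace Groth.Agent.S18570

/-- Let Y be a smooth proper integral curve (integral, smooth and proper over k, of dimension one) over
an algebraically closed field k and D an effective Cartier divisor on Y with ideal I, of degree d ≥
1 in the sense that H⁰(Y, G ⊗ O_D) has k-dimension r·d for every finite locally free G of rank r. A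
generalised parabolic structure on a finite locally free E is a k-subspace F₁ of H⁰(E ⊗ O_D); with
weight α its parabolic degree in rank n is deg E + α·dim_k F₁ (deg E = χ(E) − n·χ(O_Y)); a submodule
G → E carries the preimage structure under H⁰(G ⊗ O_D) → H⁰(E ⊗ O_D), and (E, F₁) is α-semistable
(α-stable) when deg_α(G)·n ≤ (<) deg_α(E)·r for every finite locally free submodule G of rank r ≥ 1
(with r < n for stability); weight α = 1 gives 1-semistability and 1-stability. Let E have rank n ≥
2 with structure F₁ and let 0 ≤ α < 1 satisfy 1 − 1/(d·n·(n−1)) < α. Suppose moreover that n and deg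
E are coprime and that dim_k F₁ = a·n is a multiple of n. Then α-semistability, α-stability,
1-semistability and 1-stability of (E, F₁) are all equivalent. The published statement is set on the
normalisation of a singular curve, with structures over several disjoint divisors D_i lying over its
singular points, d their total degree and each dim F₁^i a multiple of n; here Y is any smooth proper
integral curve with one structure over one divisor and only dim F₁ = a·n is assumed, which contains
the several-divisor case (D the sum of the D_i, F₁ the direct sum of the F₁^i). -/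
theorem result (k : Type u) [Field k] [IsAlgClosed k] (X : Scheme.{u}) [X.Over (Spec (CommRingCat.of k))]
    [AlgebraicGeometry.IsIntegral X] [IsProper (X ↘ Spec (CommRingCat.of k))] [Smooth (X ↘ Spec (CommRingCat.of k))]
    (hdim : topologicalKrullDim X = 1)
    (I : X.IdealSheafData) (hD : FGA.IsEffCartier I) (d : ℕ) (hd : 0 < d)
    (hdegD : ∀ (G : X.Modules) (r : ℕ), FlatMod.IsFinLocFreeOfRank r G → Module.finrank k (ParSh.fibD X I G) = r * d)
    {E : X.Modules} (n : ℕ) (hn : 2 ≤ n) (hE : FlatMod.IsFinLocFreeOfRank n E)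
    (F₁ : Submodule k (ParSh.fibD X I E))
    (α : ℝ) (hα0 : 0 ≤ α) (hα1 : α < 1) (hα : 1 - 1 / ((d : ℝ) * (n : ℝ) * ((n : ℝ) - 1)) < α)
    (hcop : IsCoprime (n : ℤ) (Curv2.deg k X E n)) (a : ℕ) (ha : Module.finrank k F₁ = a * n) :
    (ParSh.IsGPSemistable k X I α F₁ n ↔ ParSh.IsGPSemistable k X I 1 F₁ n) ∧
      (ParSh.IsGPStable k X I α F₁ n ↔ ParSh.IsGPSemistable k X I 1 F₁ n) ∧
      (ParSh.IsGPStable k X I 1 F₁ n ↔ ParSh.IsGPSemistable k X I 1 F₁ n) := by
  have h68 : ParSh.IsGPSemistable k X I α F₁ n → ParSh.IsGPSemistable k X I 1 F₁ n :=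
    Groth.Agent.S18568.result k X hdim I hD d hd hdegD n hn hE F₁ α hα0 hα1 hα
  have h69 : ParSh.IsGPStable k X I 1 F₁ n → ParSh.IsGPStable k X I α F₁ n :=
    Groth.Agent.S18569.result k X hdim I hD d hd hdegD n hn hE F₁ α hα0 hα1 hα
  have hd1 : topologicalKrullDim X ≤ 1 := hdim.le
  have hss_of_st : ∀ β : ℝ, 0 ≤ β → β ≤ 1 → ParSh.IsGPStable k X I β F₁ n → ParSh.IsGPSemistable k X I β F₁ n := by
    intro β hβ0 hβ1 h F r' i hi hr' hF
    haveI := hi
    have hle : r' ≤ n := by
      have := GrothLib.Euler.grank_le_of_mono i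
        (GrothLib.Euler.isCoh_of_isFinLocFree (GrothLib.FinCov.isFinLocFree_of_rank hE))
      rwa [GrothLib.Euler.grank_of_locFree hF, GrothLib.Euler.grank_of_locFree hE] at this
    rcases hle.lt_or_eq with hlt | rfl
    · exact (h F r' i hi hr' hlt hF).le
    · obtain ⟨q, hq, hle', -⟩ := GrothLib.ParHilb.finrank_comap_le k hd1 hD hF hE i F₁
      refine mul_le_mul_of_nonneg_right ?_ (by positivity)
      have hle'' : (Module.finrank k (ParSh.gpInduced k X I i F₁) : ℝ) ≤ Module.finrank k F₁ + q := by
        exact_mod_cast hle'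
      have h1 : β * (Module.finrank k (ParSh.gpInduced k X I i F₁) : ℝ) ≤ β * Module.finrank k F₁ + β * q := by
        rw [← mul_add]; exact mul_le_mul_of_nonneg_left hle'' hβ0
      have h2 : β * (q : ℝ) ≤ q := mul_le_of_le_one_left (by positivity) hβ1
      simp only [ParSh.gpDeg, ParSh.gpWt, hq]
      push_cast
      linarith
  have hst1 : ParSh.IsGPSemistable k X I 1 F₁ n → ParSh.IsGPStable k X I 1 F₁ n := by
    intro h F r' i hi hr' hlt hF
    refine lt_of_le_of_ne (h F r' i hi hr' hF) fun heq => ?_
    simp only [ParSh.gpDeg, ParSh.gpWt, one_mul, ha] at heq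
    have hZ : (Curv2.deg k X F r' + (Module.finrank k (ParSh.gpInduced k X I i F₁) : ℤ)) * (n : ℤ) =
        (Curv2.deg k X E n + ((a * n : ℕ) : ℤ)) * (r' : ℤ) := by exact_mod_cast heq
    have hdvd : (n : ℤ) ∣ Curv2.deg k X E n * (r' : ℤ) :=
      ⟨Curv2.deg k X F r' + (Module.finrank k (ParSh.gpInduced k X I i F₁) : ℤ) - a * r', by push_cast at hZ; linarith⟩
    exact absurd (Nat.le_of_dvd hr' (Int.natCast_dvd_natCast.1 (hcop.dvd_of_dvd_mul_left hdvd))) (not_le.2 hlt)
  refine ⟨⟨h68, fun h => hss_of_st α hα0 hα1.le (h69 (hst1 h))⟩,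
    ⟨fun h => h68 (hss_of_st α hα0 hα1.le h), fun h => h69 (hst1 h)⟩,
    ⟨hss_of_st 1 zero_le_one le_rfl, hst1⟩⟩

end Groth.Agent.S18570
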