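import Groth.Statements.S18573
import Groth.Agent.Lib.ProjIso26.Basic

set_option autoImplicit false
universe u
open CategoryTheory AlgebraicGeometry
open REq

namespace Groth.Agent.S18573

/-- Let Y be a scheme over a field k and K a field containing k. Let V and W be closed subsets of Y with
V ∪ W = Y such that no K-point of Y has its image in V ∩ W. If p is a K-point of Y lying in V and q
a K-point of Y lying in W, then p and q are not R-equivalent on Y. (The published step concerns
k-points of the special fibre of a proper flat scheme over a discrete valuation ring, that is K = k;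
this row is stated for any scheme Y over k and K-points for any field K containing k.) -/
theorem result (k : Type u) [Field k] (Y : Scheme.{u})
    (g : Y ⟶ Spec (CommRingCat.of k)) (K : Type u) [Field K] [Algebra k K]
    (V W : Set Y) (hV : IsClosed V) (hW : IsClosed W) (hVW : V ∪ W = Set.univ)
    (hT : ∀ z : REq.Pts g K, ¬ (Set.range z.1.base ⊆ V ∩ W))
    (p q : REq.Pts g K) (hp : Set.range p.1.base ⊆ V) (hq : Set.range q.1.base ⊆ W) :
    ¬ REq.REquiv g K p q := by
  haveI : IsIntegral (REq.P1K K) := GrothLib.ProjIso26.isIntegral_projSpaceOver_field 1 K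
  have hne : ∀ z : REq.Pts g K, Set.range z.1.base ⊆ V → ¬ Set.range z.1.base ⊆ W := fun z h1 h2 =>
    hT z (Set.subset_inter h1 h2)
  have key : ∀ A B : REq.Pts g K, REq.ElemLink g K A B →
      (Set.range A.1.base ⊆ V ↔ Set.range B.1.base ⊆ V) := by
    rintro A B ⟨U, h, a, b, -, -, -, hA, hB⟩
    have hir : IsPreirreducible (Set.univ : Set (U : Scheme.{u})) := by
      haveI : Nonempty (U : Scheme.{u}) := ⟨a (Classical.arbitrary _)⟩
      haveI : IsIntegral (U : Scheme.{u}) := isIntegral_of_isOpenImmersion U.ι
      exact PreirreducibleSpace.isPreirreducible_univ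
    have hcov : (Set.univ : Set (U : Scheme.{u})) ⊆ h.base ⁻¹' V ∪ h.base ⁻¹' W := fun y _ => by
      rw [← Set.preimage_union, hVW]; trivial
    have hA' : ∀ t, A.1.base t = h.base (a.base t) := fun t => by rw [← hA]; rfl
    have hB' : ∀ t, B.1.base t = h.base (b.base t) := fun t => by rw [← hB]; rfl
    rcases (isPreirreducible_iff_isClosed_union_isClosed.1 hir) _ _ (hV.preimage h.continuous)
      (hW.preimage h.continuous) hcov with h1 | h1
    · refine ⟨fun _ => ?_, fun _ => ?_⟩
      · rintro _ ⟨t, rfl⟩; rw [hB']; exact h1 trivial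
      · rintro _ ⟨t, rfl⟩; rw [hA']; exact h1 trivial
    · refine ⟨fun hAV => absurd ?_ (hne A hAV), fun hBV => absurd ?_ (hne B hBV)⟩
      · rintro _ ⟨t, rfl⟩; rw [hA']; exact h1 trivial
      · rintro _ ⟨t, rfl⟩; rw [hB']; exact h1 trivial
  intro hpq
  have main : Set.range p.1.base ⊆ V ↔ Set.range q.1.base ⊆ V := by
    clear hp hq
    induction hpq with
    | rel A B h => exact key A B h
    | refl A => exact Iff.rfl
    | symm A B _ ih => exact ih.symm
    | trans A B C _ _ ih1 ih2 => exact ih1.trans ih2
  exact hne q (main.1 hp) hq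

end Groth.Agent.S18573
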