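import Groth.Statements.S18579
import Mathlib.RingTheory.Prime

set_option autoImplicit false
universe u
open LogDiff

namespace Groth.Agent.S18579

lemma zpow_unique {R K : Type u} [CommRing R] [IsDomain R] [Field K] [Algebra R K]
    [IsFractionRing R K] {r : ℕ} (f : Fin r → R) (hf : ∀ i, Prime (f i))
    (hfa : ∀ i j, Associated (f i) (f j) → i = j) (v v' : Rˣ) (b b' : Fin r → ℤ)
    (h : algebraMap R K (v : R) * ∏ i, (algebraMap R K (f i)) ^ (b i) =
      algebraMap R K (v' : R) * ∏ i, (algebraMap R K (f i)) ^ (b' i)) :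
    v = v' ∧ b = b' := by
  classical
  have hinj := IsFractionRing.injective R K
  have hF : ∀ i, algebraMap R K (f i) ≠ 0 := fun i h0 =>
    (hf i).ne_zero (hinj (by simpa using h0))
  have key : ∀ (v v' : Rˣ) (b b' : Fin r → ℤ),
      algebraMap R K (v : R) * ∏ i, (algebraMap R K (f i)) ^ (b i) =
      algebraMap R K (v' : R) * ∏ i, (algebraMap R K (f i)) ^ (b' i) → ∀ i, b i ≤ b' i := by
    intro v v' b b' h i
    by_contra hlt
    push Not at hlt
    have e1 : algebraMap R K ((v : R) * ∏ j, f j ^ (b j - b' j).toNat) =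
        algebraMap R K ((v' : R) * ∏ j, f j ^ (b' j - b j).toNat) := by
      have hprod : ∏ j, (algebraMap R K (f j)) ^ (b' j - b j).toNat * (algebraMap R K (f j)) ^ (b j) =
          ∏ j, (algebraMap R K (f j)) ^ (b j - b' j).toNat * (algebraMap R K (f j)) ^ (b' j) := by
        refine Finset.prod_congr rfl fun j _ => ?_
        rw [← zpow_natCast, ← zpow_natCast, ← zpow_add₀ (hF j), ← zpow_add₀ (hF j)]
        congr 1
        omega
      rw [Finset.prod_mul_distrib, Finset.prod_mul_distrib] at hprod
      rw [map_mul, map_mul, map_prod, map_prod]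
      simp only [map_pow]
      have hne : ∏ j, (algebraMap R K (f j)) ^ (b' j) ≠ 0 :=
        Finset.prod_ne_zero_iff.2 fun j _ => zpow_ne_zero _ (hF j)
      apply mul_right_cancel₀ hne
      rw [mul_assoc, ← hprod, mul_left_comm, h]
      ring
    have hdvd : f i ∣ (v : R) * ∏ j, f j ^ (b j - b' j).toNat := by
      refine Dvd.dvd.mul_left ((dvd_pow_self (f i) (n := (b i - b' i).toNat) (by omega)).trans ?_) _
      exact Finset.dvd_prod_of_mem (fun j => f j ^ (b j - b' j).toNat) (Finset.mem_univ i)
    rw [hinj e1] at hdvd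
    rcases (hf i).dvd_or_dvd hdvd with hd | hd
    · exact (hf i).not_unit (isUnit_of_dvd_unit hd v'.isUnit)
    · obtain ⟨j, -, hj⟩ := ((hf i).dvd_finsetProd_iff _).1 hd
      have hij := hfa i j ((hf i).associated_of_dvd (hf j) ((hf i).dvd_of_dvd_pow hj))
      subst hij
      rw [show (b' i - b i).toNat = 0 by omega, pow_zero] at hj
      exact (hf i).not_unit (isUnit_of_dvd_one hj)
  have hb : b = b' := funext fun i => le_antisymm (key v v' b b' h i) (key v' v b' b h.symm i)
  subst hb
  refine ⟨Units.ext (hinj ?_), rfl⟩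
  exact mul_right_cancel₀ (Finset.prod_ne_zero_iff.2 fun j _ => zpow_ne_zero _ (hF j)) h


/-- The exact sequence for units (first Milnor K-groups) when every component of the divisor is removed.
Let k be a field, B a smooth k-algebra, R the localization of B at a prime ideal, K the fraction
field of R and f_1, …, f_r pairwise non-associate prime elements of R. If w is a unit of K such that
w and w⁻¹ both lie in R[1/(f_1⋯f_r)], i.e. each becomes an element of R after multiplication by a
power of f_1⋯f_r, then there is exactly one pair (v, b) consisting of a unit v of R and integers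
b_1, …, b_r with w = v · ∏ f_i^{b_i} in K. (This is the exactness of 0 → Γ(Spec R, O^×) → Γ(Spec R ∖
V(f_1⋯f_r), O^×) → ℤ^r → 0, the last map being the orders along the f_i. The published statement
takes the f_i to be local equations of the components of a normal crossings divisor, over a field of
characteristic zero; this row allows arbitrary pairwise non-associate prime elements and any field.) -/
theorem result
    {k B R K : Type u} [Field k] [CommRing B] [Algebra k B] [Algebra.Smooth k B]
    (p : Ideal B) [p.IsPrime] [CommRing R] [Algebra B R] [IsLocalization.AtPrime R p]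
    [Field K] [Algebra R K] [IsFractionRing R K]
    {r : ℕ} (f : Fin r → R) (hf : ∀ i, Prime (f i)) (hfa : ∀ i j, Associated (f i) (f j) → i = j)
    (w : Kˣ)
    (hw : ∃ (a : R) (n : ℕ), (w : K) * algebraMap R K ((∏ i, f i) ^ n) = algebraMap R K a)
    (hw' : ∃ (a : R) (n : ℕ), (w⁻¹ : Kˣ) * algebraMap R K ((∏ i, f i) ^ n) = algebraMap R K a) :
    ∃! vb : Rˣ × (Fin r → ℤ),
      (w : K) = algebraMap R K (vb.1 : R) * ∏ i, (algebraMap R K (f i)) ^ (vb.2 i) := by
  classical
  haveI : IsDomain R := (IsFractionRing.injective R K).isDomain _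
  have hinj := IsFractionRing.injective R K
  have hF : ∀ i, algebraMap R K (f i) ≠ 0 := fun i h0 =>
    (hf i).ne_zero (hinj (by simpa using h0))
  obtain ⟨a, n, ha⟩ := hw
  obtain ⟨a', m, ha'⟩ := hw'
  have haa : a * a' = 1 * ∏ x ∈ (Finset.univ : Finset (Fin r × Fin (n + m))), f x.1 := by
    apply hinj
    rw [one_mul, map_mul, ← ha, ← ha', Fintype.prod_prod_type]
    have : ∀ i : Fin r, (∏ _j : Fin (n + m), f i) = f i ^ (n + m) := fun i => by simp
    simp only [this]
    rw [Finset.prod_pow, pow_add, map_mul]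
    have h1 : (w : K) * ((w⁻¹ : Kˣ) : K) = 1 := by rw [← Units.val_mul, mul_inv_cancel, Units.val_one]
    linear_combination (algebraMap R K ((∏ i, f i) ^ n) * algebraMap R K ((∏ i, f i) ^ m)) * h1
  obtain ⟨t, u, c, d, -, -, hcd, hat, -⟩ :=
    mul_eq_mul_prime_prod (p := fun x : Fin r × Fin (n + m) => f x.1) (fun x _ => hf x.1) haa
  let v : Rˣ := Units.mkOfMulEqOne c d hcd.symm
  let e : Fin r → ℕ := fun i => (t.filter (fun x => x.1 = i)).card
  have hte : ∏ x ∈ t, f x.1 = ∏ i, f i ^ e i := by
    rw [← Finset.prod_fiberwise t (fun x => x.1)]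
    refine Finset.prod_congr rfl fun i _ => ?_
    rw [Finset.prod_congr rfl (g := fun _ => f i) fun x hx => by rw [(Finset.mem_filter.1 hx).2],
      Finset.prod_const]
  have hex : (w : K) = algebraMap R K (v : R) *
      ∏ i, (algebraMap R K (f i)) ^ ((e i : ℤ) - (n : ℤ)) := by
    have hne : algebraMap R K ((∏ i, f i) ^ n) ≠ 0 := by
      rw [map_pow, map_prod]
      exact pow_ne_zero _ (Finset.prod_ne_zero_iff.2 fun j _ => hF j)
    apply mul_right_cancel₀ hne
    rw [ha, hat, hte, map_mul, map_pow, map_prod, map_prod, mul_assoc, ← Finset.prod_pow,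
      ← Finset.prod_mul_distrib]
    congr 1
    refine Finset.prod_congr rfl fun i _ => ?_
    rw [map_pow, ← zpow_natCast, ← zpow_natCast, ← zpow_add₀ (hF i), sub_add_cancel]
  refine ⟨(v, fun i => (e i : ℤ) - (n : ℤ)), hex, ?_⟩
  rintro ⟨v', b'⟩ h'
  obtain ⟨hv, hb⟩ := zpow_unique f hf hfa v' v b' _ (h'.symm.trans hex)
  rw [hv, hb]

end Groth.Agent.S18579
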