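import Groth.Statements.S18580
import Groth.Agent.Lib.EtBasicB.Sections
-- import your own Groth.Agent.* helpers here

set_option autoImplicit false
universe u
open EtBase

namespace Groth.Agent.S18580

open AlgebraicGeometry CategoryTheory in
/-- Let Y be a connected scheme and f : X ⟶ Y a separated morphism that is unramified (locally of finite
type and formally unramified). Then the sections of f correspond bijectively to the connected
components of X mapping isomorphically onto Y: there is a bijection from the set of sections s of f
to the set of open subschemes U of X whose underlying set is a connected component of X and for
which U ⟶ X ⟶ Y is an isomorphism, sending s to its image. In particular every section is an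
isomorphism onto a connected component of X and is determined by its image. (A connected component
mapping isomorphically onto Y is the image of a section, hence open, so restricting to open
components loses nothing. The published statement also assumes Y Noetherian; that hypothesis plays
no role and is omitted.) -/
theorem result {X Y : Scheme.{u}} (f : X ⟶ Y)
    [FormallyUnramified f] [LocallyOfFiniteType f] [IsSeparated f] [ConnectedSpace Y] :
    ∃ e : {s : Y ⟶ X // s ≫ f = 𝟙 Y} ≃
        {U : X.Opens // (∃ x : X, (U : Set X) = connectedComponent x) ∧ IsIso (U.ι ≫ f)},
      ∀ s : {s : Y ⟶ X // s ≫ f = 𝟙 Y}, ((e s).1 : Set X) = Set.range s.1 := GrothLib.EtBasicB.sections_equiv_components f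

end Groth.Agent.S18580
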