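import Groth.Statements.S18581
import Groth.Agent.Lib.EtLocal.Basic

set_option autoImplicit false
universe u
open Desc

namespace Groth.Agent.S18581

/-- Let A → B be a local homomorphism of Noetherian local rings which is étale, in the sense that B is
(compatibly with the map from A) the localization of an étale A-algebra E at a prime ideal. Then A
is a Cohen–Macaulay ring exactly when B is one. -/
theorem result (A B : Type u) [CommRing A] [CommRing B]
    [IsLocalRing A] [IsLocalRing B] [IsNoetherianRing A] [IsNoetherianRing B]
    [Algebra A B] [IsLocalHom (algebraMap A B)]
    (E : Type u) [CommRing E] [Algebra A E] [Algebra.Etale A E] (P : Ideal E) [P.IsPrime]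
    [Algebra E B] [IsScalarTower A E B] [IsLocalization.AtPrime B P] :
    LocCoh.IsCohenMacaulayLocalRing A ↔ LocCoh.IsCohenMacaulayLocalRing B := by
  have h1 := GrothLib.EtLocal.depth_eq A B E P
  have h2 := GrothLib.EtLocal.ringKrullDim_eq A B E P
  constructor <;> intro h
  · exact { supportDim_eq_depth := by
              rw [Module.supportDim_self_eq_ringKrullDim, h2, ← h1, ← h.supportDim_eq_depth,
                Module.supportDim_self_eq_ringKrullDim] }
  · exact { supportDim_eq_depth := by
              rw [Module.supportDim_self_eq_ringKrullDim, ← h2, h1, ← h.supportDim_eq_depth,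
                Module.supportDim_self_eq_ringKrullDim] }

end Groth.Agent.S18581
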