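import Groth.Statements.S18582
import Groth.Agent.Lib.ConstSec25.Main
-- import your own Groth.Agent.* helpers here

set_option autoImplicit false
set_option maxHeartbeats 1000000
set_option linter.style.haveILetI false
set_option backward.isDefEq.respectTransparency false
universe u
open BranchVar

namespace Groth.Agent.S18582

open CategoryTheory CategoryTheory.Limits AlgebraicGeometry in
/-- Let k be an algebraically closed field of characteristic zero, C a smooth proper integral curve over
k, N a natural number, and f : X ⟶ P^N_k ×_k C a finite morphism such that the composite X ⟶ C is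
flat and every fibre of X ⟶ C (over every point of C) is a reduced scheme all of whose irreducible
components have dimension N. Then there is a k-rational point p of P^N_k such that, writing s : C ⟶
P^N_k ×_k C for the section c ↦ (p, c), the preimage Y = X ×_{P^N_k ×_k C} C of the constant section
is finite and flat over C and Y is a reduced scheme (in particular the generic fibre of Y ⟶ C is
reduced, which is the printed conclusion; the argument proves that Y itself is reduced). Here P^N_k
×_k C is the fibre product of the structure morphisms P^N_k ⟶ Spec k and C ⟶ Spec k, and Y ⟶ C is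
the second projection of the fibre product of f and s. -/
theorem result (k : Type u) [Field k] [IsAlgClosed k] [CharZero k]
    (N : ℕ) (C : Scheme.{u}) (g : C ⟶ Spec (CommRingCat.of k)) (hC : Curve.IsSmoothProperCurve k C g)
    (X : Scheme.{u}) (f : X ⟶ pullback (CohB1.ProjSpace.toSpec N k) g) [IsFinite f]
    [Flat (f ≫ pullback.snd (CohB1.ProjSpace.toSpec N k) g)]
    (hred : ∀ c : C, AlgebraicGeometry.IsReduced ((f ≫ pullback.snd (CohB1.ProjSpace.toSpec N k) g).fiber c))
    (hdim : ∀ c : C, ∀ Z ∈ irreducibleComponents (↥((f ≫ pullback.snd (CohB1.ProjSpace.toSpec N k) g).fiber c) : Type u),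
      topologicalKrullDim (↥Z : Type u) = N) :
    ∃ p : Spec (CommRingCat.of k) ⟶ CohB1.ProjSpace N k,
      p ≫ CohB1.ProjSpace.toSpec N k = 𝟙 (Spec (CommRingCat.of k)) ∧
      ∀ s : C ⟶ pullback (CohB1.ProjSpace.toSpec N k) g,
        s ≫ pullback.fst (CohB1.ProjSpace.toSpec N k) g = g ≫ p →
        s ≫ pullback.snd (CohB1.ProjSpace.toSpec N k) g = 𝟙 C →
        IsFinite (pullback.snd f s) ∧ Flat (pullback.snd f s) ∧
          AlgebraicGeometry.IsReduced (pullback f s) := by
  exact GrothLib.ConstSec25.exists_constant_section k N C g hC X f hred hdim

end Groth.Agent.S18582
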