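import Groth.Statements.S18587
import Mathlib
import Groth.Agent.Lib.WittCyclic.Basic
-- import your own Groth.Agent.* helpers here

set_option autoImplicit false
universe u
open CAlg

namespace Groth.Agent.S18587

/-- Affine form with D = 0: let p be a prime, ℓ ≥ 1 an integer not divisible by p and n ≥ 1. Let A → B
be an injective ring homomorphism of integral domains of characteristic p such that B is spanned as
an A-module by finitely many elements y with y ^ ℓ in the image of A (a weakly ℓ-cyclic extension).
Then for every p-typical Witt vector ζ over B in the image of the n-fold Verschiebung there is a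
nonzero a in A such that the product of the Teichmüller representative of (the image of) a with ζ
lies in the ideal of W(B) generated by the images of the n-fold Verschiebungs of Witt vectors over
A. (This is the case D = 0 of the published statement, written for the coordinate rings; the
published statement allows a twist by a real Weil divisor D and assumes the rings excellent and
normal, hypotheses which the case D = 0 does not use.) -/
theorem result
    (p : ℕ) [Fact p.Prime] (ℓ n : ℕ) (hℓ : 0 < ℓ) (hpℓ : ¬ p ∣ ℓ) (hn : 0 < n)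
    (A B : Type u) [CommRing A] [CommRing B] [IsDomain A] [IsDomain B] [Algebra A B]
    [CharP A p] [CharP B p] (hinj : Function.Injective (algebraMap A B))
    (y : Finset B) (hspan : Submodule.span A (y : Set B) = ⊤)
    (hpow : ∀ b ∈ y, b ^ ℓ ∈ Set.range (algebraMap A B))
    (ζ : WittVector p B)
    (hζ : ∃ η : WittVector p B, (⇑(WittVector.verschiebung : WittVector p B →+ WittVector p B))^[n] η = ζ) :
    ∃ a : A, a ≠ 0 ∧ WittVector.teichmuller p (algebraMap A B a) * ζ ∈
      Ideal.span (Set.range (fun x : WittVector p A =>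
        WittVector.map (algebraMap A B) ((⇑(WittVector.verschiebung : WittVector p A →+ WittVector p A))^[n] x))) := by
  classical
  obtain ⟨η, hη⟩ := hζ
  subst hη
  set f := algebraMap A B with hf
  set y0 := y.erase 0 with hy0
  have hex : ∀ i : ↥y0, ∃ α : A, f α = (i : B) ^ ℓ := fun i => hpow i (Finset.mem_of_mem_erase i.2)
  choose α hα using hex
  let w : (↥y0 → Fin (ℓ + 1)) → B := fun E => ∏ i : ↥y0, ((i : ↥y0) : B) ^ (E i : ℕ)
  set C : A := ∏ i, α i ^ 2 with hC
  have hspan' : ∀ b : B, ∃ a : (↥y0 → Fin (ℓ + 1)) → A, b = ∑ E, f (a E) * w E := by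
    intro b
    have hle : (⊤ : Submodule A B) ≤ Submodule.span A (Set.range w) := by
      rw [← hspan, Submodule.span_le]
      intro c hc
      by_cases hc0 : c = 0
      · rw [hc0]; exact Submodule.zero_mem _
      · have hc' : c ∈ y0 := Finset.mem_erase.2 ⟨hc0, hc⟩
        refine Submodule.subset_span ⟨fun j => if j = ⟨c, hc'⟩ then ⟨1, by omega⟩ else 0, ?_⟩
        show ∏ j : ↥y0, (j : B) ^ _ = c
        rw [Fintype.prod_eq_single (⟨c, hc'⟩ : ↥y0) (fun j hj => by simp [hj])]
        simp
    obtain ⟨a, ha⟩ := (Submodule.mem_span_range_iff_exists_fun A).1 (hle (Submodule.mem_top (x := b)))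
    refine ⟨a, ?_⟩
    rw [← ha]
    simp only [Algebra.smul_def, hf]
  have hmono : ∀ q : ℕ, 2 ≤ q → Nat.Coprime q ℓ → ∀ E : ↥y0 → Fin (ℓ + 1),
      ∃ E' : ↥y0 → Fin (ℓ + 1), ∃ g : A, f C ^ (q - 1) * w E = w E' ^ q * f g := by
    intro q hq hcop E
    choose E' t ht he using fun i => GrothLib.WittCyclic.exists_exponent hℓ (by omega : 0 < q) hcop (E i)
    refine ⟨E', ∏ i, α i ^ (2 * (q - 1) - t i), ?_⟩
    simp only [w, hC, map_prod, map_pow, hα, ← Finset.prod_pow, ← Finset.prod_mul_distrib, ← pow_mul, ← pow_add]
    refine Finset.prod_congr rfl fun i _ => ?_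
    congr 1
    have h1 := he i
    have h2 := ht i
    have h3 : ℓ * (2 * (q - 1) - t i) + ℓ * t i = ℓ * (2 * (q - 1)) := by
      rw [← Nat.mul_add, Nat.sub_add_cancel (by omega)]
    rw [mul_comm (E' i : ℕ) q]
    have h4 : ℓ * 2 * (q - 1) = ℓ * (2 * (q - 1)) := Nat.mul_assoc _ _ _
    omega
  have hp := (Fact.out : p.Prime)
  have hcp : Nat.Coprime p ℓ := hp.coprime_iff_not_dvd.2 hpℓ
  choose σ γ hσ using hmono p hp.two_le hcp
  obtain ⟨u, hu⟩ := GrothLib.WittCyclic.exists_decomp f w C σ γ hspan' hσ η
  choose τ' g hg using hmono (p ^ n) (Nat.one_lt_pow hn.ne' hp.one_lt) (hcp.pow_left n)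
  have hC0 : C ≠ 0 := Finset.prod_ne_zero_iff.2 fun i _ => pow_ne_zero _ fun h0 => by
    have h1 := hα i
    rw [h0, map_zero] at h1
    exact pow_ne_zero ℓ (Finset.mem_erase.1 i.2).1 h1.symm
  refine ⟨C, hC0, ?_⟩
  have hmapV : ∀ z : WittVector p A, WittVector.map f ((⇑(WittVector.verschiebung : WittVector p A →+ WittVector p A))^[n] z) =
      (⇑(WittVector.verschiebung : WittVector p B →+ WittVector p B))^[n] (WittVector.map f z) := by
    intro z
    have : Function.Semiconj (WittVector.map f) (WittVector.verschiebung (p := p) (R := A)) (WittVector.verschiebung (p := p) (R := B)) :=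
      fun z => WittVector.map_verschiebung f z
    exact (this.iterate_right n) z
  rw [mul_comm, GrothLib.WittCyclic.iterate_verschiebung_mul_teichmuller]
  have hq : p ^ n - 1 + 1 = p ^ n := Nat.sub_add_cancel (Nat.one_le_pow _ _ hp.pos)
  have e : η * WittVector.teichmuller p (f C ^ p ^ n) =
      ∑ E, WittVector.map f (WittVector.teichmuller p (g E) * u E) * WittVector.teichmuller p (w (τ' E) ^ p ^ n) := by
    calc η * WittVector.teichmuller p (f C ^ p ^ n)
        = WittVector.teichmuller p (f C ^ (p ^ n - 1)) * (WittVector.teichmuller p (f C) * η) := by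
          rw [← mul_assoc, ← map_mul, ← pow_succ, hq, mul_comm]
      _ = _ := by
          rw [hu, Finset.mul_sum]
          refine Finset.sum_congr rfl fun E _ => ?_
          rw [← mul_assoc, ← map_mul, hg, map_mul, map_mul, WittVector.map_teichmuller]
          ring
  rw [e]
  have hsum : ∀ (h : (↥y0 → Fin (ℓ + 1)) → WittVector p B),
      (⇑(WittVector.verschiebung : WittVector p B →+ WittVector p B))^[n] (∑ E, h E) =
        ∑ E, (⇑(WittVector.verschiebung : WittVector p B →+ WittVector p B))^[n] (h E) := by
    intro h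
    exact map_sum ((show AddMonoid.End (WittVector p B) from WittVector.verschiebung) ^ n) _ _ |>.trans rfl
  rw [hsum]
  refine Ideal.sum_mem _ fun E _ => ?_
  rw [← GrothLib.WittCyclic.iterate_verschiebung_mul_teichmuller, ← hmapV]
  exact Ideal.mul_mem_right _ _ (Ideal.subset_span ⟨_, rfl⟩)

end Groth.Agent.S18587
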