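import Groth.Statements.S18589
import Mathlib.RingTheory.WittVector.Defs
import Mathlib.RingTheory.MvPolynomial.WeightedHomogeneous

set_option autoImplicit false
set_option maxHeartbeats 400000
open CAlg

namespace Groth.Agent.S18589

open MvPolynomial in
lemma rat_isWeightedHomogeneous (p : ℕ) [hp : Fact p.Prime] (n : ℕ) :
    IsWeightedHomogeneous (fun i : Fin 2 × ℕ => p ^ i.2)
      (wittStructureRat p (X 0 + X 1 : MvPolynomial (Fin 2) ℚ) n) (p ^ n) := by
  induction n using Nat.strong_induction_on with
  | _ n ih =>
    rw [wittStructureRat_rec]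
    refine IsWeightedHomogeneous.C_mul (IsWeightedHomogeneous.sub ?_ ?_) _
    · have key : ∀ b : Fin 2, IsWeightedHomogeneous (fun i : Fin 2 × ℕ => p ^ i.2)
          (rename (fun i => (b, i)) (wittPolynomial p ℚ n)) (p ^ n) := by
        intro b
        rw [wittPolynomial_eq_sum_C_mul_X_pow, map_sum]
        refine IsWeightedHomogeneous.sum _ _ _ fun i hi => ?_
        rw [map_mul, map_pow, map_pow, rename_C, map_pow, rename_X, ← map_pow C]
        refine IsWeightedHomogeneous.C_mul ?_ _
        have h := (isWeightedHomogeneous_X (R := ℚ) (fun i : Fin 2 × ℕ => p ^ i.2) (b, i)).pow (p ^ (n - i))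
        rwa [smul_eq_mul, ← pow_add, Nat.sub_add_cancel (by simpa using hi)] at h
      simp only [map_add, bind₁_X_right]
      exact (key 0).add (key 1)
    · refine IsWeightedHomogeneous.sum _ _ _ fun i hi => ?_
      refine IsWeightedHomogeneous.C_mul ?_ _
      have h := (ih i (by simpa using hi)).pow (p ^ (n - i))
      rwa [smul_eq_mul, ← pow_add, Nat.sub_add_cancel (by simp at hi; omega)] at h

/-- For a prime p and every natural number n, the n-th Witt addition polynomial over the integers (the
polynomial S_n with (x + y)_n = S_n(x_0, y_0, …, x_n, y_n) for p-typical Witt vectors x, y) is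
weighted homogeneous of weighted degree p ^ n for the grading in which the variables x_i and y_i
have weight p ^ i. -/
theorem result (p : ℕ) [Fact p.Prime] (n : ℕ) :
    MvPolynomial.IsWeightedHomogeneous (fun i : Fin 2 × ℕ => p ^ i.2) (WittVector.wittAdd p n) (p ^ n) := by
  intro d hd
  have h : MvPolynomial.coeff d (MvPolynomial.map (Int.castRingHom ℚ) (WittVector.wittAdd p n)) ≠ 0 := by
    simp [MvPolynomial.coeff_map, hd]
  rw [WittVector.wittAdd, map_wittStructureInt] at h
  refine rat_isWeightedHomogeneous p n ?_
  simpa using h

end Groth.Agent.S18589
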