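import Groth.Statements.S18594
import Groth.Agent.Lib.W4c5Adj.Basic

set_option autoImplicit false
universe v u
open W4c5suslinpi1ab

namespace Groth.Agent.S18594

open CategoryTheory MonoidalCategory Functor.LaxMonoidal Functor.OplaxMonoidal in
/-- In a square of adjunctions between monoidal categories — fL ⊣ fR from the base S₀ to Y₁, pL ⊣ pR
from Y₁ to X (both left adjoints oplax monoidal, right adjoints with the induced lax structure), qL
⊣ qR from Y₂ to X, a functor gR : Y₂ ⥤ S₀ and a natural transformation ν : qR ⋙ gR ⟶ pR ⋙ fR from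
which the base change fL gR ⟶ pR qL is built, with right adjoints fS of fR, gS of gR, pS of pR and
the projection morphisms and base change isomorphisms, fix morphisms trA : A' ⟶ fS A, trB : B' ⟶ gS
B, trC : C' ⟶ pS fS (A ⊗ B) and a product m : pL A' ⊗ qL B' ⟶ C'. Then (pL trA ⊗ qL trB) followed by
the shriek product of the square equals m ≫ trC if and only if the Fubini identity holds: the tensor
product of the adjoint maps fR A' ⟶ A and gR B' ⟶ B equals the exterior product fR A' ⊗ gR B' ⟶ fR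
pR (pL A' ⊗ qL B') followed by fR pR m and the adjoint map fR pR C' ⟶ A ⊗ B. -/
theorem result {S₀ : Type u} [Category.{v} S₀] [MonoidalCategory S₀]
    {Y₁ : Type u} [Category.{v} Y₁] [MonoidalCategory Y₁]
    {Y₂ : Type u} [Category.{v} Y₂] [MonoidalCategory Y₂]
    {X : Type u} [Category.{v} X] [MonoidalCategory X]
    {fL : S₀ ⥤ Y₁} {fR : Y₁ ⥤ S₀} (adjf : fL ⊣ fR) [fL.OplaxMonoidal] [fR.LaxMonoidal]
    [adjf.IsMonoidal] {gR : Y₂ ⥤ S₀}
    {pL : Y₁ ⥤ X} {pR : X ⥤ Y₁} (adjp : pL ⊣ pR) [pL.OplaxMonoidal] [pR.LaxMonoidal]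
    [adjp.IsMonoidal] {qL : Y₂ ⥤ X} {qR : X ⥤ Y₂} (adjq : qL ⊣ qR)
    (ν : qR ⋙ gR ⟶ pR ⋙ fR)
    {fS : S₀ ⥤ Y₁} (adjf' : fR ⊣ fS) {gS : S₀ ⥤ Y₂} (adjg' : gR ⊣ gS)
    {pS : Y₁ ⥤ X} (adjp' : pR ⊣ pS)
    [∀ (A : Y₁) (B : S₀), IsIso (W4c5suslinpi1ab.projR adjf A B)]
    [∀ (A : Y₁) (B : X), IsIso (W4c5suslinpi1ab.projL adjp A B)]
    [∀ B : Y₂, IsIso ((W4c5suslinpi1ab.bcMor adjf adjq ν).app B)] (A B : S₀) (A' : Y₁) (B' : Y₂) (C' : X)
    (trA : A' ⟶ fS.obj A) (trB : B' ⟶ gS.obj B) (trC : C' ⟶ pS.obj (fS.obj (A ⊗ B)))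
    (m : pL.obj A' ⊗ qL.obj B' ⟶ C') :
    ((pL.map trA ⊗ₘ qL.map trB) ≫ W4c5suslinpi1ab.prodShriek adjf adjf' adjg' adjp adjp' adjq ν A B =
        m ≫ trC) ↔
      (((adjf'.homEquiv _ _).symm trA ⊗ₘ (adjg'.homEquiv _ _).symm trB) =
        W4c5suslinpi1ab.extProd adjf adjp adjq ν A' B' ≫ fR.map (pR.map m) ≫
          ((adjp'.comp adjf').homEquiv _ _).symm trC) := by
  rw [← ((adjp'.comp adjf').homEquiv _ _).symm.apply_eq_iff_eq,
    Adjunction.homEquiv_naturality_left_symm, Adjunction.homEquiv_naturality_left_symm,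
    ← cancel_epi (W4c5suslinpi1ab.extProd adjf adjp adjq ν A' B')]
  have key : W4c5suslinpi1ab.extProd adjf adjp adjq ν A' B' ≫ (pR ⋙ fR).map (pL.map trA ⊗ₘ qL.map trB) ≫
      ((adjp'.comp adjf').homEquiv _ _).symm (W4c5suslinpi1ab.prodShriek adjf adjf' adjg' adjp adjp' adjq ν A B) =
      ((adjf'.homEquiv _ _).symm trA ⊗ₘ (adjg'.homEquiv _ _).symm trB) := by
    rw [Functor.comp_map, ← reassoc_of% (GrothLib.W4c5Adj.extProd_natural adjf adjp adjq ν trA trB),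
      GrothLib.W4c5Adj.extProd_transpose_prodShriek, Adjunction.homEquiv_counit, Adjunction.homEquiv_counit,
      tensorHom_comp_tensorHom]
  rw [key]
  rfl

end Groth.Agent.S18594
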