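import Groth.Statements.S18595
-- import your own Groth.Agent.* helpers here
import Groth.Agent.Lib.HorizDiv17.Main

set_option autoImplicit false
universe u
open Cyc

namespace Groth.Agent.S18595

open AlgebraicGeometry CategoryTheory CategoryTheory.Limits in
/-- Let k be a perfect field, X an integral smooth proper curve over k (proper standing for projective)
and P = X ×_k A¹_k, presented by a pullback square with projections p₁ : P ⟶ X and p₂ : P ⟶ Spec
k[T]. Fix a dimension function δ on P (in the sense of Cyc.IsSetup) and the integer c with δ(z) + 1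
= c at every closed point z of P, so that the c-cycles on P are its Weil divisors. Then every
c-cycle α on P is rationally equivalent, as a c-cycle, to a c-cycle β without vertical components:
every point z with β(z) ≠ 0 lies over the generic point of X, i.e. each prime component of β is
quasi-finite and dominant over X (equidimensional of relative dimension zero over X). (The published
statement is for any smooth projective curve; its connected components are treated one at a time and
a smooth proper curve over a field is projective, so X is taken integral and proper here.) -/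
theorem result
    (k : Type u) [Field k] [PerfectField k] {X P : Scheme.{u}} (f : X ⟶ Spec (CommRingCat.of k))
    [IsIntegral X] [IsProper f] [Smooth f] (hdim : topologicalKrullDim X = 1)
    (p₁ : P ⟶ X) (p₂ : P ⟶ Spec (CommRingCat.of (Polynomial k)))
    (hP : IsPullback p₁ p₂ f (Spec.map (CommRingCat.ofHom (Polynomial.C : k →+* Polynomial k))))
    (δ : P → ℤ) (hδ : Cyc.IsSetup P δ) (c : ℤ)
    (hc : ∀ z : P, IsClosed ({z} : Set P) → δ z + 1 = c)
    (α : AlgebraicCycle P ℤ) (hα : α ∈ Cyc.Zk P δ c) :
    ∃ β ∈ Cyc.Zk P δ c, Cyc.RatEquiv δ c α β ∧ ∀ z : P, β z ≠ 0 → p₁ z = genericPoint X := by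
  letI : X.Over (Spec (CommRingCat.of k)) := ⟨f⟩
  haveI : IsProper (X ↘ Spec (CommRingCat.of k)) := ‹IsProper f›
  haveI : IsLocallyNoetherian X := LocallyOfFiniteType.isLocallyNoetherian f
  haveI : GrothLib.CurveRR.RegCurve X := GrothLib.CurveRR.regCurve_of_smooth f hdim
  haveI : CompactSpace X := QuasiCompact.compactSpace_of_compactSpace f
  haveI : IsIntegral 𝔸(PUnit.{u + 1}; X) := GrothLib.PicAff26.isIntegral_affineSpace _
  haveI := GrothLib.PicAff26.lfp_affineSpace (n := PUnit.{u + 1}) (Y := X)
  haveI : IsLocallyNoetherian 𝔸(PUnit.{u + 1}; X) :=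
    LocallyOfFiniteType.isLocallyNoetherian (𝔸(PUnit.{u + 1}; X) ↘ X)
  let ε : MvPolynomial PUnit.{u + 1} k ≃+* Polynomial k := (MvPolynomial.pUnitAlgEquiv k).toRingEquiv
  let θ : 𝔸(PUnit.{u + 1}; Spec (CommRingCat.of k)) ≅ Spec (CommRingCat.of (Polynomial k)) :=
    AffineSpace.SpecIso PUnit.{u + 1} (CommRingCat.of k) ≪≫ (Scheme.Spec.mapIso ε.toCommRingCatIso.op).symm
  have hθ : θ.hom ≫ Spec.map (CommRingCat.ofHom (Polynomial.C : k →+* Polynomial k)) =
      𝔸(PUnit.{u + 1}; Spec (CommRingCat.of k)) ↘ Spec (CommRingCat.of k) := by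
    rw [← Iso.eq_inv_comp]
    show _ = (Spec.map ε.toCommRingCatIso.hom ≫ (AffineSpace.SpecIso PUnit.{u + 1} (CommRingCat.of k)).inv) ≫ _
    rw [Category.assoc, AffineSpace.SpecIso_inv_over, ← Spec.map_comp]
    congr 1
    refine CommRingCat.hom_ext (RingHom.ext fun r => ?_)
    show Polynomial.C r = ε (MvPolynomial.C r)
    simp [ε]
  have h : IsPullback (𝔸(PUnit.{u + 1}; X) ↘ X) (AffineSpace.map PUnit.{u + 1} f ≫ θ.hom) f
      (Spec.map (CommRingCat.ofHom (Polynomial.C : k →+* Polynomial k))) := by
    refine (AffineSpace.isPullback_map f).flip.of_iso (Iso.refl _) (Iso.refl _) θ (Iso.refl _) ?_ ?_ ?_ ?_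
    · simp
    · simp
    · simp
    · simpa using hθ.symm
  let e := hP.isoIsPullback _ _ h
  have he : e.hom ≫ (𝔸(PUnit.{u + 1}; X) ↘ X) = p₁ := hP.isoIsPullback_hom_fst _ _ h
  haveI : Nonempty P := ⟨e.inv (genericPoint ↥𝔸(PUnit.{u + 1}; X))⟩
  haveI : IsIntegral P := isIntegral_of_isOpenImmersion e.hom
  haveI : QuasiCompact p₁ := MorphismProperty.of_isPullback hP.flip inferInstance
  haveI : CompactSpace P := QuasiCompact.compactSpace_of_compactSpace p₁
  exact GrothLib.HorizDiv17.exists_horizontal k hδ e p₁ he c hc α hα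

end Groth.Agent.S18595
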