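import Groth.Statements.S18596
import Groth.Agent.Lib.TameGalois21.Proper

set_option autoImplicit false
universe u
open EtRam

namespace Groth.Agent.S18596

open AlgebraicGeometry CategoryTheory in
/-- Let k be a perfect field, X a k-scheme proper over k and f : Y ⟶ X finite étale. Curve-tameness of f
asks that the pullback of f to any regular k-curve mapping to X be tamely ramified at every place of
the curve's function field at infinity; proper targets make every finite étale cover curve-tame.
Stated here unfolded at a single place, in the form the argument yields: for every point y of Y with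
image x, and every discrete valuation ring A of the residue field κ(x) through which Spec κ(x) ⟶
Spec k factors, the finite separable extension κ(y) of κ(x) is tamely ramified with respect to A. -/
theorem result
    (k : Type u) [Field k] [PerfectField k] {X Y : Scheme.{u}} (s : X ⟶ Spec (CommRingCat.of k))
    [IsProper s] (f : Y ⟶ X) [IsFinite f] [Etale f] (y : Y)
    (A : ValuationSubring (X.residueField (f.base y))) [IsDiscreteValuationRing A]
    (a : Spec (CommRingCat.of A) ⟶ Spec (CommRingCat.of k))
    (ha : Spec.map (CommRingCat.ofHom A.subtype) ≫ a = X.fromSpecResidueField (f.base y) ≫ s) :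
    EtRam.IsTamelyRamified A ((f.residueFieldMap y).hom.comp A.subtype) := by
  let K := X.residueField (f.base y)
  have hlift : (ValuativeCriterion.Existence : MorphismProperty Scheme.{u}) s := by
    have h := (IsProper.eq_valuativeCriterion ▸ (inferInstance : IsProper s) :
      ((ValuativeCriterion ⊓ @QuasiCompact) ⊓ @QuasiSeparated ⊓ @LocallyOfFiniteType) s)
    exact ValuativeCriterion.existence h.1.1.1
  let sq : ValuativeCommSq s :=
    { R := A, K := K, commSq := (⟨ha.symm⟩ : CommSq (X.fromSpecResidueField (f.base y))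
        (Spec.map (CommRingCat.ofHom (algebraMap A K))) s a), .. }
  obtain ⟨ℓ, hℓ₁, hℓ₂⟩ := (hlift sq).exists_lift
  change Spec.map (CommRingCat.ofHom A.subtype) ≫ ℓ = X.fromSpecResidueField (f.base y) at hℓ₁
  letI : Algebra K (Y.residueField y) := (f.residueFieldMap y).hom.toAlgebra
  let ZC : FEt.Cat X := MorphismProperty.Over.mk ⊤ f ⟨‹IsFinite f›, ‹Etale f›⟩
  haveI : FiniteDimensional K (Y.residueField y) := @GrothLib.TameGalois21.finite_residue _ ZC y f ‹Etale f›
  haveI : Algebra.IsSeparable K (Y.residueField y) := inferInstance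
  let q : Spec (CommRingCat.of (Y.residueField y)) ⟶ Spec (CommRingCat.of A) :=
    Spec.map (CommRingCat.ofHom ((f.residueFieldMap y).hom.comp A.subtype))
  have hqe : q = Spec.map (f.residueFieldMap y) ≫ Spec.map (CommRingCat.ofHom A.subtype) :=
    Spec.map_comp (CommRingCat.ofHom A.subtype) (f.residueFieldMap y)
  have hq : Y.fromSpecResidueField y ≫ f = q ≫ ℓ :=
    (Scheme.Hom.SpecMap_residueFieldMap_fromSpecResidueField f y).symm.trans
      (((congrArg (Spec.map (f.residueFieldMap y) ≫ ·) hℓ₁).symm.trans (Category.assoc _ _ _).symm).trans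
        (congrArg (· ≫ ℓ) hqe.symm))
  let σ : Spec (CommRingCat.of (Y.residueField y)) ⟶ Limits.pullback f ℓ :=
    Limits.pullback.lift (Y.fromSpecResidueField y) q hq
  let g : Limits.pullback f ℓ ⟶ Spec (CommRingCat.of A) := Limits.pullback.snd f ℓ
  haveI : IsFinite g := inferInstance
  haveI : Etale g := inferInstance
  haveI : IsAffine (Limits.pullback f ℓ) := isAffine_of_isAffineHom g
  obtain ⟨φ, hφ⟩ := Spec.map_surjective ((Limits.pullback f ℓ).isoSpec.inv ≫ g)
  obtain ⟨θ, hθ⟩ := Spec.map_surjective (σ ≫ (Limits.pullback f ℓ).isoSpec.hom)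
  letI : Algebra A Γ(Limits.pullback f ℓ, ⊤) := φ.hom.toAlgebra
  haveI : Module.Finite A Γ(Limits.pullback f ℓ, ⊤) :=
    (IsFinite.SpecMap_iff φ).mp (hφ ▸ inferInstance)
  haveI : Algebra.Etale A Γ(Limits.pullback f ℓ, ⊤) :=
    (HasRingHomProperty.Spec_iff (P := @Etale) (φ := φ)).mp (hφ ▸ inferInstance)
  have hθA : φ ≫ θ = CommRingCat.ofHom ((f.residueFieldMap y).hom.comp A.subtype) := by
    apply Spec.map_injective
    rw [Spec.map_comp, hθ, hφ, Category.assoc, Iso.hom_inv_id_assoc]
    exact Limits.pullback.lift_snd _ _ _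
  refine GrothLib.TameGalois21.isTamelyRamified_of_finite_etale (A := A) (K := K) (L := Y.residueField y)
    (E := Γ(Limits.pullback f ℓ, ⊤)) θ.hom (fun a => congr($(congrArg CommRingCat.Hom.hom hθA) a)) ?_
  -- the image generates
  let M := IntermediateField.adjoin K (Set.range θ.hom)
  let θM : Γ(Limits.pullback f ℓ, ⊤) →+* M :=
    θ.hom.codRestrict M fun e => IntermediateField.subset_adjoin K _ ⟨e, rfl⟩
  let h' : Spec (CommRingCat.of M) ⟶ Y :=
    Spec.map (CommRingCat.ofHom θM) ≫ (Limits.pullback f ℓ).isoSpec.inv ≫ Limits.pullback.fst f ℓ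
  let incl : CommRingCat.of M ⟶ Y.residueField y := CommRingCat.ofHom M.val.toRingHom
  have hh : Spec.map incl ≫ h' = Y.fromSpecResidueField y := by
    rw [← Category.assoc, ← Spec.map_comp]
    show Spec.map θ ≫ _ = _
    rw [hθ, Category.assoc, Iso.hom_inv_id_assoc]
    exact Limits.pullback.lift_fst _ _ _
  obtain ⟨p, ψ, hψ⟩ : ∃ (p : Y) (ψ : Y.residueField p ⟶ CommRingCat.of M), h' = Spec.map ψ ≫ Y.fromSpecResidueField p :=
    ⟨_, _, ((Scheme.SpecToEquivOfField M Y).left_inv h').symm⟩
  have hpy : p = y := by
    have h1 := congrArg (fun χ : Spec (Y.residueField y) ⟶ Y => χ (IsLocalRing.closedPoint _)) hh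
    rw [hψ] at h1
    exact ((Scheme.fromSpecResidueField_apply p (Spec.map ψ (Spec.map incl (IsLocalRing.closedPoint _)))).symm.trans
      h1).trans (Scheme.fromSpecResidueField_apply y _)
  subst hpy
  have hid : ψ ≫ incl = 𝟙 _ := by
    apply Spec.map_injective
    rw [← cancel_mono (Y.fromSpecResidueField p), Spec.map_comp, Category.assoc, ← hψ, hh, Spec.map_id,
      Category.id_comp]
  refine eq_top_iff.mpr fun z _ => ?_
  have hz : incl (ψ z) = z := congr($(congrArg CommRingCat.Hom.hom hid) z)
  rw [← hz]
  exact (ψ z).2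

end Groth.Agent.S18596
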