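import Groth.Statements.S18598
-- import your own Groth.Agent.* helpers here
import Mathlib

set_option autoImplicit false
universe u
open SSRed

namespace Groth.Agent.S18598

/-- Let O be a commutative integral domain of characteristic zero, n a positive integer such that no
prime number dividing n is a unit in O, and α an element of O of finite multiplicative order such
that (α − 1)² is divisible by n in O. Then α = 1 if n ≥ 5, α² = 1 if n = 4, α³ = 1 if n = 3, and α⁴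
= 1 if n = 2. -/
theorem result (O : Type u) [CommRing O] [IsDomain O] [CharZero O]
    (n : ℕ) (hn : 0 < n) (hO : ∀ p : ℕ, p.Prime → p ∣ n → ¬ IsUnit (p : O))
    (α : O) (hα : IsOfFinOrder α) (h : (n : O) ∣ (α - 1) ^ 2) :
    (5 ≤ n → α = 1) ∧ (n = 4 → α ^ 2 = 1) ∧ (n = 3 → α ^ 3 = 1) ∧ (n = 2 → α ^ 4 = 1) := by
  classical
  obtain ⟨m, hm0, hm⟩ : ∃ m, 0 < m ∧ IsPrimitiveRoot α m := ⟨orderOf α, hα.orderOf_pos, IsPrimitiveRoot.orderOf α⟩
  have : NeZero m := ⟨hm0.ne'⟩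
  rcases eq_or_ne m 1 with rfl | hm1
  · have := hm.pow_eq_one
    rw [pow_one] at this
    simp [this]
  have hprod : ∏ μ ∈ primitiveRoots m O, (1 - μ) = Polynomial.eval 1 (Polynomial.cyclotomic m O) := by
    rw [Polynomial.cyclotomic_eq_prod_X_sub_primitiveRoots hm, Polynomial.eval_prod]
    simp
  by_cases hn1 : n = 1
  · subst hn1; omega
  obtain ⟨ℓ, hℓ, hℓn⟩ := Nat.exists_prime_and_dvd hn1
  have hℓd : (ℓ : O) ∣ (α - 1) ^ 2 := (Nat.cast_dvd_cast hℓn).trans h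
  have hdiv : (α - 1) ∣ Polynomial.eval 1 (Polynomial.cyclotomic m O) := by
    rw [← hprod]
    refine dvd_trans ?_ (Finset.dvd_prod_of_mem _ ((mem_primitiveRoots hm0).mpr hm))
    exact ⟨-1, by ring⟩
  obtain ⟨p, k, hp, hmk⟩ : ∃ p k : ℕ, p.Prime ∧ p ^ (k + 1) = m := by
    by_contra! hcon
    have h1 : Polynomial.eval 1 (Polynomial.cyclotomic m O) = 1 := Polynomial.eval_one_cyclotomic_not_prime_pow fun {p} hp k hk => by
      cases k with
      | zero => simp at hk; exact hm1 hk.symm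
      | succ k => exact hcon p k hp hk
    rw [h1] at hdiv
    exact hO ℓ hℓ hℓn (isUnit_of_dvd_unit hℓd ((isUnit_of_dvd_one hdiv).pow 2))
  subst hmk
  have : Fact p.Prime := ⟨hp⟩
  rw [Polynomial.eval_one_cyclotomic_prime_pow] at hdiv hprod
  -- only `p` divides `n`
  have hall : ∀ ℓ, ℓ.Prime → ℓ ∣ n → ℓ = p := by
    intro ℓ hℓ hℓn
    by_contra hne
    have h2 : (ℓ : O) ∣ (p : O) ^ 2 := ((Nat.cast_dvd_cast hℓn).trans h).trans (pow_dvd_pow_of_dvd hdiv 2)
    obtain ⟨u, v, huv⟩ := (Nat.isCoprime_iff_coprime.mpr (((Nat.coprime_primes hℓ hp).mpr hne).pow_right 2))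
    refine hO ℓ hℓ hℓn (isUnit_of_dvd_one ?_)
    have huv' : (u : O) * ℓ + (v : O) * (p : O) ^ 2 = 1 := by exact_mod_cast congrArg (fun z : ℤ => (z : O)) huv
    rw [← huv']
    exact dvd_add (dvd_mul_left _ _) (h2.mul_left _)
  obtain ⟨a, rfl⟩ : ∃ a, n = p ^ a := ⟨_, Nat.eq_prime_pow_of_unique_prime_dvd hn.ne' (fun {d} hd hdn => hall d hd hdn)⟩
  -- (α - 1) ^ φ ∣ p
  have hφ : (α - 1) ^ Nat.totient (p ^ (k + 1)) ∣ (p : O) := by
    rw [← hprod, ← hm.card_primitiveRoots, ← Finset.prod_const]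
    refine Finset.prod_dvd_prod_of_dvd _ _ fun μ hμ => ?_
    obtain ⟨i, hi, hco, rfl⟩ := (hm.isPrimitiveRoot_iff).mp ((mem_primitiveRoots hm0).mp hμ)
    exact (hm.associated_sub_one_pow_sub_one_of_coprime hco).dvd.trans ⟨-1, by ring⟩
  have hp0 : (p : O) ≠ 0 := Nat.cast_ne_zero.mpr hp.ne_zero
  have hpu : ¬ IsUnit (p : O) := by rw [← hall ℓ hℓ hℓn]; exact hO ℓ hℓ hℓn
  have hle : a * Nat.totient (p ^ (k + 1)) ≤ 2 := by
    have h1 : (p : O) ^ (a * Nat.totient (p ^ (k + 1))) ∣ (p : O) ^ 2 := by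
      rw [pow_mul, ← Nat.cast_pow]
      refine (pow_dvd_pow_of_dvd h _).trans ?_
      rw [← pow_mul, mul_comm, pow_mul]
      exact pow_dvd_pow_of_dvd hφ 2
    exact (pow_dvd_pow_iff hp0 hpu).mp h1
  have ha : 1 ≤ a := Nat.one_le_iff_ne_zero.mpr fun h0 => hn1 (by rw [h0, pow_zero])
  rw [Nat.totient_prime_pow_succ hp] at hle
  have h2 := hp.two_le
  have hp1 : p ^ k * (p - 1) ≤ 2 := le_trans (Nat.le_mul_of_pos_left _ ha) hle
  have hk1 : k ≤ 1 := by
    by_contra hk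
    have : 4 ≤ p ^ k := (show 4 ≤ p ^ 2 by nlinarith).trans (Nat.pow_le_pow_right hp.pos (by omega))
    nlinarith [Nat.one_le_iff_ne_zero.mpr (show p - 1 ≠ 0 by omega)]
  have hp3 : p ≤ 3 := by
    have : p - 1 ≤ 2 := le_trans (Nat.le_mul_of_pos_left _ (Nat.pow_pos hp.pos)) hp1
    omega
  have hord := hm.pow_eq_one
  interval_cases p <;> interval_cases k <;> norm_num at hle hp hord ⊢
  all_goals (have ha2 : a ≤ 2 := by omega)
  all_goals (interval_cases a <;> simp_all <;> (try rcases hord with h | h <;> rw [h] <;> norm_num))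

end Groth.Agent.S18598
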