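import Groth.Statements.S18599
import Mathlib

set_option autoImplicit false
set_option linter.all false
universe u
open SSRed

namespace Groth.Agent.S18599

open LinearMap

theorem endData (ℓ : ℕ) [Fact ℓ.Prime] {M : Type u} [AddCommGroup M] [Module ℤ_[ℓ] M] [Module.IsTorsionFree ℤ_[ℓ] M]
    (A : M ≃ₗ[ℤ_[ℓ]] M) (hA : A ^ ℓ = 1) (f : Module.End ℤ_[ℓ] M) (hf : f = (A : M →ₗ[ℤ_[ℓ]] M) - 1)
    (hcase : (ℓ = 2 ∧ ∃ B : Module.End ℤ_[ℓ] M, f = (2 : ℤ_[ℓ]) • B) ∨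
      (ℓ = 2 ∧ ∃ B : Module.End ℤ_[ℓ] M, f ^ 2 = (4 : ℤ_[ℓ]) • B) ∨
      (ℓ = 3 ∧ ∃ B : Module.End ℤ_[ℓ] M, f ^ 2 = (3 : ℤ_[ℓ]) • B)) :
    ∃ e g h : Module.End ℤ_[ℓ] M, e * e = e ∧ f * e = f ∧ e * f = f ∧ f * g = (ℓ : ℤ_[ℓ]) • e ∧ g * f = (ℓ : ℤ_[ℓ]) • e ∧
      (ℓ = 2 ∧ f = (ℓ : ℤ_[ℓ]) • -e ∨
       ℓ = 3 ∧ e * h = h ∧ f * (f * h) = (ℓ : ℤ_[ℓ]) • e ∧ ∃ B, e * B = B ∧ f * f = (ℓ : ℤ_[ℓ]) • B) := by
  have hcancel : ∀ {a b : Module.End ℤ_[ℓ] M} (n : ℕ), n ≠ 0 → (n : ℤ_[ℓ]) • a = (n : ℤ_[ℓ]) • b → a = b := by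
    intro a b n hn h
    ext x
    exact smul_right_injective M (r := (n : ℤ_[ℓ])) (Nat.cast_ne_zero.2 hn) (by simpa using LinearMap.congr_fun h x)
  have hA' : (f + 1) ^ ℓ = 1 := by
    rw [hf, sub_add_cancel]
    ext x
    have := congrArg (fun F : M ≃ₗ[ℤ_[ℓ]] M => F x) hA
    simpa [Module.End.pow_apply, LinearEquiv.coe_pow] using this
  rcases hcase with ⟨rfl, B, hB⟩ | ⟨rfl, B, hB⟩ | ⟨rfl, B, hB⟩
  · have h2 : f * f = -((2 : ℤ_[2]) • f) := by
      rw [pow_two] at hA'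
      rw [eq_neg_iff_add_eq_zero, ← sub_eq_zero.2 hA', two_smul]
      noncomm_ring
    have hBB : B * B = -B := by
      refine hcancel 4 (by norm_num) ?_
      rw [hB, smul_mul_assoc, mul_smul_comm, smul_smul, smul_smul] at h2
      rw [smul_neg]
      push_cast
      linear_combination (norm := module) h2
    refine ⟨-B, -(-B), 0, by rw [neg_mul_neg, hBB], ?_, ?_, ?_, ?_, .inl ⟨rfl, ?_⟩⟩ <;>
      simp [hB, hBB]
  · have h2 : f * f = -((2 : ℤ_[2]) • f) := by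
      rw [pow_two] at hA'
      rw [eq_neg_iff_add_eq_zero, ← sub_eq_zero.2 hA', two_smul]
      noncomm_ring
    have hfB : f = (2 : ℤ_[2]) • -B := by
      refine hcancel 2 (by norm_num) ?_
      rw [pow_two, h2] at hB
      rw [smul_smul, smul_neg]
      push_cast
      norm_num
      linear_combination (norm := module) -hB
    have hBB : B * B = B := by
      refine hcancel 4 (by norm_num) ?_
      rw [hfB, smul_mul_assoc, mul_smul_comm, smul_smul, smul_smul, neg_mul_neg] at h2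
      push_cast
      linear_combination (norm := module) h2
    refine ⟨B, -B, 0, hBB, ?_, ?_, ?_, ?_, .inl ⟨rfl, ?_⟩⟩ <;>
      simp [hfB, hBB]
  · rw [pow_two] at hB
    have hcube : f * (f * f) = -((3 : ℤ_[3]) • (f * f)) - (3 : ℤ_[3]) • f := by
      have : (f + 1) * ((f + 1) * (f + 1)) - 1 = 0 := by
        rw [pow_succ, pow_two, mul_assoc] at hA'
        rw [hA', sub_self]
      have e3 : ∀ a : Module.End ℤ_[3] M, (3 : ℤ_[3]) • a = a + a + a := fun a => by module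
      rw [e3, e3, ← sub_eq_zero, ← this]
      noncomm_ring
    have hcomm : f * B = B * f := by
      refine hcancel 3 (by norm_num) ?_
      push_cast
      rw [← mul_smul_comm, ← smul_mul_assoc, ← hB, mul_assoc]
    have hfB : f * B = -((3 : ℤ_[3]) • B) - f := by
      refine hcancel 3 (by norm_num) ?_
      push_cast
      rw [← mul_smul_comm, ← hB, hcube, hB]
      module
    have hBf : B * f = -((3 : ℤ_[3]) • B) - f := by rw [← hcomm, hfB]
    have hBB : B * B = (2 : ℤ_[3]) • B + f := by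
      refine hcancel 3 (by norm_num) ?_
      push_cast
      rw [← smul_mul_assoc, ← hB, mul_assoc, hfB, mul_sub, mul_neg, mul_smul_comm, hfB, hB]
      module
    refine ⟨-(B + f), -f - (3 : ℤ_[3]) • -(B + f), -(f * f + (2 : ℤ_[3]) • f + -(B + f)), ?_, ?_, ?_, ?_, ?_,
      .inr ⟨rfl, ?_, ?_, B, ?_, ?_⟩⟩ <;>
      simp only [mul_add, add_mul, mul_neg, neg_mul, mul_sub, sub_mul, smul_mul_assoc, mul_smul_comm, smul_add,
        smul_sub, smul_neg, smul_smul, hB, hfB, hBf, hBB, Nat.cast_ofNat] <;>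
      module

theorem index_smul (ℓ : ℕ) [Fact ℓ.Prime] {N : Type u} [AddCommGroup N] [Module ℤ_[ℓ] N] [Module.Free ℤ_[ℓ] N]
    [Module.Finite ℤ_[ℓ] N] :
    (LinearMap.range ((ℓ : ℤ_[ℓ]) • (LinearMap.id : N →ₗ[ℤ_[ℓ]] N))).toAddSubgroup.index =
      ℓ ^ Module.finrank ℤ_[ℓ] N := by
  let b := Module.finBasis ℤ_[ℓ] N
  let ψ : N →+ (Fin (Module.finrank ℤ_[ℓ] N) → ZMod ℓ) :=
    AddMonoidHom.mk' (fun x i => PadicInt.toZMod (b.repr x i)) fun x y => by ext i; simp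
  have hs : Function.Surjective ψ := fun v => by
    refine ⟨b.equivFun.symm fun i => ((v i).val : ℤ_[ℓ]), funext fun i => ?_⟩
    show PadicInt.toZMod (b.equivFun (b.equivFun.symm _) i) = _
    rw [LinearEquiv.apply_symm_apply, map_natCast, ZMod.natCast_zmod_val]
  have hk : ψ.ker = (LinearMap.range ((ℓ : ℤ_[ℓ]) • (LinearMap.id : N →ₗ[ℤ_[ℓ]] N))).toAddSubgroup := by
    ext x
    rw [AddMonoidHom.mem_ker]
    constructor
    · intro hx
      have : ∀ i, ∃ y, b.repr x i = (ℓ : ℤ_[ℓ]) * y := fun i => by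
        have h1 : b.repr x i ∈ RingHom.ker (PadicInt.toZMod (p := ℓ)) := congrFun hx i
        rw [PadicInt.ker_toZMod, PadicInt.maximalIdeal_eq_span_p, Ideal.mem_span_singleton] at h1
        exact h1
      choose y hy using this
      refine ⟨b.equivFun.symm y, b.repr.injective (Finsupp.ext fun i => ?_)⟩
      rw [LinearMap.smul_apply, LinearMap.id_apply, map_smul, Finsupp.smul_apply, hy, smul_eq_mul]
      congr 1
      exact congrFun (LinearEquiv.apply_symm_apply b.equivFun y) i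
    · rintro ⟨y, rfl⟩
      ext i
      show PadicInt.toZMod (b.repr _ i) = 0
      simp
  rw [← hk, AddSubgroup.index_ker, AddMonoidHom.range_eq_top.2 hs, AddSubgroup.card_top, Nat.card_fun, Nat.card_zmod,
    Nat.card_fin]


/-- Let ℓ be a prime number, M a free ℤ_ℓ-module of finite rank, A an automorphism of M with A^ℓ = 1,
and c the rank of M minus the rank of the submodule of A-invariants. Assume that ℓ = 2 and A − 1 ∈
2·End(M), or that ℓ = 2 and (A − 1)² ∈ 4·End(M), or that ℓ = 3 and (A − 1)² ∈ 3·End(M). Then the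
torsion submodule of M/(A − 1)M is a vector space over ℤ/ℓℤ of dimension c/(ℓ − 1): it is killed by
ℓ and has ℓ^r elements for some r with r(ℓ − 1) = c. -/
theorem result (ℓ : ℕ) [Fact ℓ.Prime]
    (M : Type u) [AddCommGroup M] [Module ℤ_[ℓ] M] [Module.Free ℤ_[ℓ] M] [Module.Finite ℤ_[ℓ] M]
    (A : M ≃ₗ[ℤ_[ℓ]] M) (hA : A ^ ℓ = 1) (f : Module.End ℤ_[ℓ] M) (hf : f = (A : M →ₗ[ℤ_[ℓ]] M) - 1)
    (hcase : (ℓ = 2 ∧ ∃ B : Module.End ℤ_[ℓ] M, f = (2 : ℤ_[ℓ]) • B) ∨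
      (ℓ = 2 ∧ ∃ B : Module.End ℤ_[ℓ] M, f ^ 2 = (4 : ℤ_[ℓ]) • B) ∨
      (ℓ = 3 ∧ ∃ B : Module.End ℤ_[ℓ] M, f ^ 2 = (3 : ℤ_[ℓ]) • B))
    (c : ℕ) (hc : c = Module.finrank ℤ_[ℓ] M - Module.finrank ℤ_[ℓ] (LinearMap.ker f)) :
    (∀ x ∈ Submodule.torsion ℤ_[ℓ] (M ⧸ LinearMap.range f), (ℓ : ℤ_[ℓ]) • x = 0) ∧
      ∃ r : ℕ, r * (ℓ - 1) = c ∧
        Nat.card (Submodule.torsion ℤ_[ℓ] (M ⧸ LinearMap.range f)) = ℓ ^ r := by
  classical
  have hp : ℓ.Prime := Fact.out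
  obtain ⟨e, g, h, hee, hfe, hef, hfg, hgf, hB⟩ := endData ℓ A hA f hf hcase
  have hl : (ℓ : ℤ_[ℓ]) ≠ 0 := Nat.cast_ne_zero.2 hp.ne_zero
  have ap : ∀ {a b c : Module.End ℤ_[ℓ] M}, a * b = c → ∀ x, a (b x) = c x := fun h x => LinearMap.congr_fun h x
  have hker : LinearMap.ker f = LinearMap.ker e := by
    ext x
    simp only [LinearMap.mem_ker]
    constructor
    · intro hx
      have := ap hgf x
      rw [hx, map_zero, LinearMap.smul_apply] at this
      exact (smul_eq_zero.1 this.symm).resolve_left hl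
    · intro hx
      rw [← ap hfe x, hx, map_zero]
  let N := LinearMap.range e
  have heN : ∀ x ∈ N, e x = x := by
    rintro _ ⟨y, rfl⟩
    exact ap hee y
  have hfN : ∀ x ∈ N, f x ∈ N := fun x _ => ⟨f x, ap hef x⟩
  let φ : N →ₗ[ℤ_[ℓ]] N := f.restrict hfN
  have hφ : Function.Injective φ := by
    rw [← LinearMap.ker_eq_bot, LinearMap.ker_eq_bot']
    intro x hx
    have h1 : (x : M) ∈ LinearMap.ker f := congrArg Subtype.val hx
    rw [hker] at h1
    exact Subtype.ext ((heN x x.2).symm.trans h1)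
  have hc' : Module.finrank ℤ_[ℓ] N = c := by
    rw [hc, hker, ← Submodule.finrank_quotient_add_finrank (LinearMap.ker e), Nat.add_sub_cancel]
    exact (LinearEquiv.finrank_eq (LinearMap.quotKerEquivRange e)).symm
  let H := (LinearMap.range φ).toAddSubgroup
  let θ : N →+ M ⧸ LinearMap.range f := ((LinearMap.range f).mkQ.comp N.subtype).toAddMonoidHom
  have hT : (Submodule.torsion ℤ_[ℓ] (M ⧸ LinearMap.range f)).toAddSubgroup = θ.range := by
    ext q
    constructor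
    · intro hq
      obtain ⟨⟨a, ha⟩, hax⟩ := (Submodule.mem_torsion_iff q).1 hq
      obtain ⟨x, rfl⟩ := Submodule.mkQ_surjective _ q
      replace hax : a • (LinearMap.range f).mkQ x = 0 := hax
      rw [← map_smul, Submodule.mkQ_apply, Submodule.Quotient.mk_eq_zero] at hax
      obtain ⟨y, hy⟩ := hax
      refine ⟨⟨e x, x, rfl⟩, ?_⟩
      show (LinearMap.range f).mkQ (e x) = _
      congr 1
      have h1 := congrArg e hy
      rw [ap hef y, hy, map_smul] at h1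
      exact (smul_right_injective M (nonZeroDivisors.ne_zero ha) h1).symm
    · rintro ⟨⟨_, x, rfl⟩, rfl⟩
      refine (Submodule.mem_torsion_iff _).2 ⟨⟨(ℓ : ℤ_[ℓ]), mem_nonZeroDivisors_of_ne_zero hl⟩, ?_⟩
      show (ℓ : ℤ_[ℓ]) • (LinearMap.range f).mkQ (e x) = 0
      rw [← map_smul, Submodule.mkQ_apply, Submodule.Quotient.mk_eq_zero]
      exact ⟨g x, ap hfg x⟩
  have hθ : θ.ker = H := by
    ext x
    rw [AddMonoidHom.mem_ker]
    show Submodule.Quotient.mk (x : M) = 0 ↔ _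
    rw [Submodule.Quotient.mk_eq_zero]
    constructor
    · rintro ⟨y, hy⟩
      exact ⟨⟨e y, y, rfl⟩, Subtype.ext ((ap hfe y).trans hy)⟩
    · rintro ⟨y, rfl⟩
      exact ⟨y, rfl⟩
  have hcard : Nat.card (Submodule.torsion ℤ_[ℓ] (M ⧸ LinearMap.range f)) = H.index := by
    rw [← hθ, AddSubgroup.index_ker, ← hT]
    rfl
  refine ⟨?_, ?_⟩
  · intro q hq
    obtain ⟨⟨_, x, rfl⟩, rfl⟩ := (SetLike.ext_iff.1 hT q).1 hq
    show (ℓ : ℤ_[ℓ]) • (LinearMap.range f).mkQ (e x) = 0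
    rw [← map_smul, Submodule.mkQ_apply, Submodule.Quotient.mk_eq_zero]
    exact ⟨g x, ap hfg x⟩
  have hI := index_smul ℓ (N := N)
  rw [hc'] at hI
  rcases hB with ⟨h2, hf2⟩ | ⟨h3, hh, hffh, B, hBe, hff⟩
  · refine ⟨c, by subst h2; simp, ?_⟩
    rw [hcard, ← hI]
    congr 1
    ext x
    constructor
    · rintro ⟨y, rfl⟩
      exact ⟨-y, Subtype.ext (by
        show (ℓ : ℤ_[ℓ]) • -(y : M) = f y
        rw [hf2, LinearMap.smul_apply, LinearMap.neg_apply, heN y y.2])⟩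
    · rintro ⟨y, rfl⟩
      exact ⟨-y, Subtype.ext (by
        show f (-(y : M)) = (ℓ : ℤ_[ℓ]) • (y : M)
        rw [hf2, LinearMap.smul_apply, LinearMap.neg_apply, map_neg, neg_neg, heN y y.2])⟩
  · have hsq : H.index * H.index = ℓ ^ c := by
      have := AddSubgroup.index_map_of_injective H (f := φ.toAddMonoidHom) hφ
      rw [show φ.toAddMonoidHom.range = H from rfl] at this
      rw [← this, ← hI]
      congr 1
      ext x
      constructor
      · rintro ⟨_, ⟨y, rfl⟩, rfl⟩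
        exact ⟨⟨B y, B y, ap hBe y⟩, Subtype.ext (ap hff y).symm⟩
      · rintro ⟨y, rfl⟩
        refine ⟨φ ⟨h y, h y, ap hh y⟩, ⟨_, rfl⟩, Subtype.ext ?_⟩
        show f (f (h y)) = (ℓ : ℤ_[ℓ]) • (y : M)
        have := LinearMap.congr_fun hffh (y : M)
        rwa [LinearMap.smul_apply, heN y y.2] at this
    obtain ⟨r, -, hr⟩ := (Nat.dvd_prime_pow hp).1 (Dvd.intro _ hsq)
    refine ⟨r, ?_, hcard.trans hr⟩
    rw [hr, ← pow_add] at hsq
    have := Nat.pow_right_injective hp.two_le hsq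
    subst h3
    omega

end Groth.Agent.S18599
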