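import Groth.Statements.S1860
-- import your own Groth.Agent.* helpers here
import Groth.Agent.Lib.CycPush.Proper

set_option autoImplicit false
universe u
open CategoryTheory AlgebraicGeometry
open Cyc

namespace Groth.Agent.S1860

/-- Let X be an integral scheme of dimension 1 with a proper morphism c to Spec K, K a field, and f a
nonzero rational function on X. Then Σ_x [κ(x) : K] · ord_{O_{X,x}}(f) = 0, the sum over the closed
points x of X (a finite sum). -/
theorem result (K : Type u) [Field K] (X : Scheme.{u}) [IsIntegral X] (c : X ⟶ Spec (CommRingCat.of K)) [IsProper c] (hdim : topologicalKrullDim X = 1) (f : X.functionField) (hf : f ≠ 0) : ∑ᶠ (x : X) (_ : IsClosed ({x} : Set X)), (c.residueDegree x : ℤ) * CycAlg.ordFrac (X.presheaf.stalk x) X.functionField f = 0 := by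
  classical
  haveI : IsLocallyNoetherian X := LocallyOfFiniteType.isLocallyNoetherian c
  have hiff : ∀ x : X, IsClosed ({x} : Set X) ↔ x ≠ genericPoint X := fun x =>
    GrothLib.CurvePoints.isClosed_singleton_iff hdim
  have hcl : ∀ a b : X, a ⤳ b → a ≠ genericPoint X → a = b := fun a b hab ha =>
    (((hiff a).2 ha).closure_eq ▸ specializes_iff_mem_closure.1 hab : b ∈ ({a} : Set X)).symm
  have hg : X.residue (genericPoint X) f ≠ 0 := fun h =>
    hf (GrothLib.Ref1.residue_injective (X := X) (h.trans (map_zero (X.residue (genericPoint X)).hom).symm))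
  rw [← GrothLib.CycPush.finsum_deg_divFun K c hcl rfl hg]
  refine finsum_congr fun x => ?_
  rw [finsum_eq_if]
  by_cases hx : x = genericPoint X
  · subst hx
    rw [if_neg (fun h => (hiff _).1 h rfl), Cyc.divFun, dif_neg (fun h => by omega), mul_zero]
  · rw [if_pos ((hiff x).2 hx), GrothLib.CycPush.divFun_ind_eq hcl hx hf,
      GrothLib.CycPush.ordFrac_stalk (GrothLib.CycPush.coheight_of_ne hcl hx) hf]

end Groth.Agent.S1860
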