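import Groth.Statements.S18600
-- import your own Groth.Agent.* helpers here
import Groth.Agent.Lib.WeilOrd.LocalIntegral

set_option autoImplicit false
universe v
open SSRed

namespace Groth.Agent.S18600

/-- Let n be a positive integer, g a natural number and f ∈ ℤ[x] a monic polynomial such that for every
prime ℓ dividing n there is a g × g matrix A_ℓ over ℤ_ℓ whose characteristic polynomial is f and
such that (A_ℓ − 1)² lies in n·M_g(ℤ_ℓ). Then for every root α of f in a field of characteristic
zero and every square root s of n in that field, (α − 1)/s is integral over ℤ. (The published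
statement is for matrices of size 2d and speaks of the eigenvalues of the A_ℓ, which are the roots
of their common characteristic polynomial f; the parity of the size plays no role.) -/
theorem result (n : ℕ) (hn : 0 < n) (g : ℕ) (f : Polynomial ℤ)
    (hf : f.Monic)
    (hA : ∀ (ℓ : ℕ) [Fact ℓ.Prime], ℓ ∣ n → ∃ A : Matrix (Fin g) (Fin g) ℤ_[ℓ],
      A.charpoly = f.map (Int.castRingHom ℤ_[ℓ]) ∧
        ∃ B : Matrix (Fin g) (Fin g) ℤ_[ℓ], (A - 1) ^ 2 = (n : ℤ_[ℓ]) • B)
    (K : Type v) [Field K] [CharZero K] (α s : K) (hα : Polynomial.aeval α f = 0) (hs : s ^ 2 = (n : K)) :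
    IsIntegral ℤ ((α - 1) / s) := by
  exact GrothLib.WeilOrd.isIntegral_sub_one_div_sqrt n hn g f hf hA K α s hα hs

end Groth.Agent.S18600
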