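import Groth.Statements.S1861
-- import your own Groth.Agent.* helpers here
import Groth.Agent.Lib.Altitude.Fibre
import Mathlib.AlgebraicGeometry.Morphisms.Flat

set_option autoImplicit false
universe u
open CategoryTheory AlgebraicGeometry
open Cyc

namespace Groth.Agent.S1861

/-- Let f : X → Y be flat, locally of finite type, of relative dimension r, y a point of Y and x a point
of X that is generic in an irreducible component of f⁻¹ of the closure of y (that is, x lies in that
closed set and has no proper generalization in it). Then f(x) = y and δX(x) = δY(y) + r. Here a pair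
(X, δ) with Cyc.IsSetup plays the role of a scheme locally of finite type over a fixed base with a
dimension function (X locally Noetherian with universally catenary local rings, δ a dimension
function), and Cyc.DeltaCompat records that the dimension function upstairs is the induced one. -/
theorem result (X Y : Scheme.{u}) (δX : X → ℤ) (δY : Y → ℤ) (hX : Cyc.IsSetup X δX) (hY : Cyc.IsSetup Y δY) (f : X ⟶ Y) [Flat f] [LocallyOfFiniteType f] (r : ℕ) (hr : Cyc.HasRelDim f r) (hδ : Cyc.DeltaCompat f δX δY) (y : Y) (x : X) (hx : f x ∈ closure ({y} : Set Y)) (hmax : ∀ x' : X, f x' ∈ closure ({y} : Set Y) → x' ⤳ x → x' = x) : f x = y ∧ δX x = δY y + r := by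
  obtain ⟨x', hx', hfx'⟩ := Flat.generalizingMap f (specializes_iff_mem_closure.2 hx)
  obtain rfl : x' = x := hmax x' (by rw [hfx']; exact subset_closure rfl) hx'
  refine ⟨hfx', ?_⟩
  obtain ⟨n, hn, hdim⟩ := GrothLib.Altitude.exists_trdeg_eq_dim_closure f x'
  obtain ⟨m, hm, hδx⟩ := hδ x'
  have hmn : m = n := Nat.cast_injective (R := Cardinal) (hm.symm.trans hn)
  set z := f.asFiber x' with hz
  have hT : closure ({z} : Set (f.fiber (f x'))) ∈ irreducibleComponents ↥(f.fiber (f x')) := by
    obtain ⟨T, hT, hzT⟩ : ∃ T ∈ irreducibleComponents ↥(f.fiber (f x')), z ∈ T :=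
      ⟨irreducibleComponent z, irreducibleComponent_mem_irreducibleComponents z, mem_irreducibleComponent⟩
    obtain ⟨g, hg⟩ := QuasiSober.sober hT.1 (isClosed_of_mem_irreducibleComponents T hT)
    have hgz : g ⤳ z := hg.specializes hzT
    have h1 : (f.fiberι (f x') g) ⤳ x' := by
      have := hgz.map (f.fiberι (f x')).continuous
      rwa [hz, Scheme.Hom.fiberι_asFiber] at this
    have h2 : f (f.fiberι (f x') g) = f x' := by
      have : f.fiberι (f x') g ∈ f ⁻¹' {f x'} := f.range_fiberι (f x') ▸ Set.mem_range_self g
      exact this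
    have h3 := hmax _ (by rw [h2, hfx']; exact subset_closure rfl) h1
    have h4 : g = z := (f.fiberι (f x')).isEmbedding.injective (by rw [h3, hz, Scheme.Hom.fiberι_asFiber])
    rw [h4, IsGenericPoint] at hg
    rw [hg]; exact hT
  have h5 := hr (f x') _ hT
  rw [hdim] at h5
  have h6 : n = r := by exact_mod_cast h5
  rw [hfx'] at hδx
  omega

end Groth.Agent.S1861
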