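import Groth.Statements.S18614
import Mathlib.LinearAlgebra.Basis.VectorSpace
import Mathlib.LinearAlgebra.Quotient.Basic
import Mathlib.Topology.Algebra.Group.Basic
import Mathlib.LinearAlgebra.Dual.Lemmas
-- import your own Groth.Agent.* helpers here

set_option autoImplicit false
universe u v
open LinTop

namespace Groth.Agent.S18614

/-- Let k be a field carrying the discrete topology and M a separated topological k-module with a
k-linear topology (the open k-submodules form a basis of neighbourhoods of zero and M is a
topological additive group). For a closed submodule M₁, the perpendicular of the perpendicular of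
M₁, both taken with respect to the pairing of M with its continuous dual (the continuous k-linear
maps M → k), is M₁ itself: an element killed by every continuous functional vanishing on M₁ belongs
to M₁. -/
theorem result (k : Type u) (M : Type v) [Field k]
    [TopologicalSpace k] [DiscreteTopology k] [AddCommGroup M] [Module k M] [TopologicalSpace M]
    [IsTopologicalAddGroup M] [IsLinearTopology k M] [T2Space M]
    (M₁ : Submodule k M) (hM₁ : IsClosed (M₁ : Set M)) (x : M)
    (hx : ∀ φ : M →L[k] k, (∀ m ∈ M₁, φ m = 0) → φ x = 0) : x ∈ M₁ := by
  classical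
  by_contra hx1
  obtain ⟨U, hU, hUx⟩ := (IsLinearTopology.hasBasis_open_submodule k).mem_iff.1
    (show (fun u => x - u) ⁻¹' (M₁ : Set M)ᶜ ∈ nhds (0 : M) from
      (continuous_const.sub continuous_id).continuousAt.preimage_mem_nhds
        (by simpa using hM₁.isOpen_compl.mem_nhds hx1))
  have hxn : x ∉ M₁ ⊔ U := fun h => by
    obtain ⟨a, ha, b, hb, rfl⟩ := Submodule.mem_sup.1 h
    exact hUx hb (by simpa using ha)
  obtain ⟨l, hl, hlU⟩ := Submodule.exists_dual_map_eq_bot_of_notMem hxn inferInstance
  have hker : ∀ m ∈ M₁ ⊔ U, l m = 0 := fun m hm => (Submodule.eq_bot_iff _).1 hlU _ ⟨m, hm, rfl⟩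
  have hcont : Continuous l := by
    refine continuous_of_continuousAt_zero l (show ContinuousAt l 0 from ?_)
    rw [ContinuousAt, map_zero, nhds_discrete k, Filter.tendsto_pure]
    exact Filter.mem_of_superset (hU.mem_nhds (zero_mem U)) fun u hu => hker u (Submodule.mem_sup_right hu)
  exact hl (hx ⟨l, hcont⟩ fun m hm => hker m (Submodule.mem_sup_left hm))

end Groth.Agent.S18614
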