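import Groth.Statements.S18615
import Mathlib.LinearAlgebra.Basis.VectorSpace
import Mathlib.LinearAlgebra.Quotient.Basic
import Mathlib.Topology.Algebra.Group.Basic
import Mathlib.LinearAlgebra.Isomorphisms
-- import your own Groth.Agent.* helpers here

set_option autoImplicit false
universe u v
open LinTop

namespace Groth.Agent.S18615

/-- Let k be a field carrying the discrete topology and M a separated topological k-module with a
k-linear topology (open k-submodules form a basis of neighbourhoods of zero, M a topological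
additive group). For closed submodules M₁ ⊆ M₂ there is a short exact sequence 0 → M₂^⊥ → M₁^⊥ →
(M₂/M₁)^* → 0 of plain k-modules, where ⊥ denotes the annihilator in the continuous dual of M and *
the continuous dual. Stated here as its one non-formal part, surjectivity on the right: every
continuous functional on M₂ (subspace topology) that vanishes on M₁ is the restriction of a
continuous functional on M vanishing on M₁ (continuous functionals on M₂/M₁ being the continuous
functionals on M₂ that kill M₁). -/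
theorem result (k : Type u) (M : Type v) [Field k]
    [TopologicalSpace k] [DiscreteTopology k] [AddCommGroup M] [Module k M] [TopologicalSpace M]
    [IsTopologicalAddGroup M] [IsLinearTopology k M] [T2Space M]
    (M₁ M₂ : Submodule k M) (h₁₂ : M₁ ≤ M₂) (hM₁ : IsClosed (M₁ : Set M))
    (hM₂ : IsClosed (M₂ : Set M)) (ψ : M₂ →L[k] k)
    (hψ : ∀ m : M₂, (m : M) ∈ M₁ → ψ m = 0) :
    ∃ φ : M →L[k] k, (∀ m ∈ M₁, φ m = 0) ∧ ∀ m : M₂, φ (m : M) = ψ m := by
  classical
  have hψ0 : {m : M₂ | ψ m = 0} ∈ nhds (0 : M₂) :=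
    ((isOpen_discrete ({0} : Set k)).preimage ψ.continuous).mem_nhds (by simp)
  obtain ⟨S, hS, hSψ⟩ := mem_nhds_subtype _ _ _ |>.1 hψ0
  obtain ⟨U, hU, hUS⟩ := (IsLinearTopology.hasBasis_open_submodule k).mem_iff.1 hS
  let g : M₂ →ₗ[k] M ⧸ U := U.mkQ ∘ₗ M₂.subtype
  have hg : LinearMap.ker g ≤ LinearMap.ker (ψ : M₂ →ₗ[k] k) := fun m hm => by
    rw [LinearMap.mem_ker, LinearMap.comp_apply, Submodule.mkQ_apply, Submodule.Quotient.mk_eq_zero] at hm
    exact hSψ (hUS hm)
  obtain ⟨r, hr⟩ := LinearMap.exists_leftInverse_of_injective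
    ((LinearMap.ker g).liftQ g le_rfl) (Submodule.ker_liftQ_eq_bot _ _ _ le_rfl)
  let l : M →ₗ[k] k := ((LinearMap.ker g).liftQ (ψ : M₂ →ₗ[k] k) hg) ∘ₗ r ∘ₗ U.mkQ
  have hl : ∀ m : M₂, l (m : M) = ψ m := fun m => by
    have h1 : r (U.mkQ (m : M)) = Submodule.Quotient.mk m := LinearMap.congr_fun hr (Submodule.Quotient.mk m)
    show (LinearMap.ker g).liftQ (ψ : M₂ →ₗ[k] k) hg (r (U.mkQ (m : M))) = ψ m
    rw [h1]; rfl
  have hlU : ∀ u ∈ U, l u = 0 := fun u hu => by
    show (LinearMap.ker g).liftQ (ψ : M₂ →ₗ[k] k) hg (r (U.mkQ u)) = 0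
    rw [Submodule.mkQ_apply, (Submodule.Quotient.mk_eq_zero U).2 hu, map_zero, map_zero]
  have hcont : Continuous l := by
    refine continuous_of_continuousAt_zero l (show ContinuousAt l 0 from ?_)
    rw [ContinuousAt, map_zero, nhds_discrete k, Filter.tendsto_pure]
    exact Filter.mem_of_superset (hU.mem_nhds (zero_mem U)) fun u hu => hlU u hu
  exact ⟨⟨l, hcont⟩, fun m hm => (hl ⟨m, h₁₂ hm⟩).trans (hψ _ hm), hl⟩

end Groth.Agent.S18615
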