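import Groth.Statements.S18618
import Groth.Agent.Lib.BlowPts12.Twists
-- import your own Groth.Agent.* helpers here

set_option autoImplicit false
set_option linter.style.haveILetI false
set_option backward.isDefEq.respectTransparency false
universe u
open VBPn

namespace Groth.Agent.S18618

open CategoryTheory CategoryTheory.Limits AlgebraicGeometry TopologicalSpace in
/-- Let k be an algebraically closed field of characteristic zero, n ≥ 2, Z = {p_1, …, p_s} a finite set
of distinct closed points of P^n_k, and π : X → P^n_k a blow-up of P^n_k in the ideal of the reduced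
set Z (universal property); write O_X(−e₀) = π^*O(−1) and O_X(−2e₀) = π^*O(−2). Let f : P → Q be a
monomorphism of O_X-modules with P ≅ O_X(−2e₀)^a and Q ≅ O_X(−e₀)^b, whose cokernel E is finite
locally free of rank b − a. Assume the stabiliser of f under Aut(Q) × Aut(P) is the scalars:
whenever automorphisms β of Q and γ of P satisfy γ ≫ f = f ≫ β, there is one scalar c ∈ k with β and
γ both equal to multiplication by c. Then E is simple: every endomorphism of E is multiplication by
a scalar of k. (The published statement fixes a and b in terms of n and the rank and takes f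
general, a general matrix of linear forms of that size having scalar stabiliser by a result it
quotes; here that property of f is the hypothesis and a, b are arbitrary.) -/
theorem result (k : Type u) [Field k] [IsAlgClosed k] [CharZero k]
    (n : ℕ) (hn : 2 ≤ n) (s : ℕ) (P : Fin s → ↥(CohB1.ProjSpace n k)) (hP : Function.Injective P)
    (hPc : ∀ i, IsClosed ({P i} : Set ↥(CohB1.ProjSpace n k))) (hZ : IsClosed (Set.range P))
    (X : Scheme.{u}) (π : X ⟶ CohB1.ProjSpace n k)
    (hπ : BlowUp.IsBlowUp π (Scheme.IdealSheafData.vanishingIdeal ⟨Set.range P, hZ⟩))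
    (a b : ℕ) (P₁ Q₁ : X.Modules)
    (hP₁ : Nonempty (P₁ ≅ ∐ fun _ : Fin a => (Scheme.Modules.pullback π).obj (Twist.twistProjSpace n k (-2))))
    (hQ₁ : Nonempty (Q₁ ≅ ∐ fun _ : Fin b => (Scheme.Modules.pullback π).obj (Twist.twistProjSpace n k (-1))))
    (f : P₁ ⟶ Q₁) [Mono f] (hE : FlatMod.IsFinLocFreeOfRank (b - a) (cokernel f))
    (hstab : ∀ (β : Q₁ ≅ Q₁) (γ : P₁ ≅ P₁), γ.hom ≫ f = f ≫ β.hom →
      ∃ c : k, (SheafOfModules.toSheaf X.ringCatSheaf).map β.hom =
          Coh.smulAb Q₁ (Coh.toGlobal (π ≫ CohB1.ProjSpace.toSpec n k) c) ∧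
        (SheafOfModules.toSheaf X.ringCatSheaf).map γ.hom =
          Coh.smulAb P₁ (Coh.toGlobal (π ≫ CohB1.ProjSpace.toSpec n k) c)) :
    ∀ φ : cokernel f ⟶ cokernel f, ∃ c : k, (SheafOfModules.toSheaf X.ringCatSheaf).map φ =
      Coh.smulAb (cokernel f) (Coh.toGlobal (π ≫ CohB1.ProjSpace.toSpec n k) c) := by
  intro φ
  obtain ⟨eP⟩ := hP₁
  obtain ⟨eQ⟩ := hQ₁
  have hS := GrothLib.BlowPts12.isPts_range (n := n) (by omega) hPc hZ
  letI : X.Over (Spec (CommRingCat.of k)) := ⟨π ≫ CohB1.ProjSpace.toSpec n k⟩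
  haveI : IsProper (X ↘ Spec (CommRingCat.of k)) := GrothLib.BlowPts12.isProper_toSpec hS π hπ
  haveI := GrothLib.Euler.isNoetherian_of_proper (X := X) k
  haveI : Infinite k := IsAlgClosed.instInfinite
  have hfree : ∀ (N : X.Modules) (r : ℕ) (c : ℤ),
      (N ≅ ∐ fun _ : Fin r => (Scheme.Modules.pullback π).obj (Twist.twistProjSpace n k c)) → Coh.IsCoh N :=
    fun N r c e => GrothLib.Euler.isCoh_of_isFinLocFree (GrothLib.DCoh.isFinLocFree_of_iso e.symm
      (GrothLib.OX.isFinLocFree_sigma _ fun _ => GrothLib.Euler.isFinLocFree_of_isInvertible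
        (GrothLib.BlowPts12.hasCls_pullTwist π c).1))
  obtain ⟨c, hc⟩ := GrothLib.SimpleCok12.simple_of_stab k (hfree _ _ _ eP) (hfree _ _ _ eQ) f
    (GrothLib.BlowPts12.exists_lift hS π hπ hn eP eQ f) (fun β γ h => by
      obtain ⟨c, h₁, -⟩ := hstab β γ h
      exact ⟨c, (GrothLib.SimpleCok12.eq_scalarHom_iff k _ c).2 h₁⟩) φ
  exact ⟨c, (GrothLib.SimpleCok12.eq_scalarHom_iff k φ c).1 hc⟩

end Groth.Agent.S18618
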