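import Groth.Statements.S1862
-- import your own Groth.Agent.* helpers here
import Mathlib.FieldTheory.IntermediateField.Adjoin.Algebra
import Mathlib.RingTheory.AlgebraicIndependent.Transcendental
import Groth.Agent.Lib.Misc6.NoethFibres

set_option autoImplicit false
universe u
open CategoryTheory AlgebraicGeometry
open Cyc

namespace Groth.Agent.S1862

/-- Let f : X → Y be a morphism locally of finite type of integral schemes with δX(η_X) = δY(η_Y). Then
either the image of f is not dense, or f maps the generic point to the generic point and the induced
extension of residue fields there (the function fields) is finite. Here a pair (X, δ) with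
Cyc.IsSetup plays the role of a scheme locally of finite type over a fixed base with a dimension
function (X locally Noetherian with universally catenary local rings, δ a dimension function), and
Cyc.DeltaCompat records that the dimension function upstairs is the induced one. -/
theorem result (X Y : Scheme.{u}) [IsIntegral X] [IsIntegral Y] (δX : X → ℤ) (δY : Y → ℤ) (hX : Cyc.IsSetup X δX) (hY : Cyc.IsSetup Y δY) (f : X ⟶ Y) [LocallyOfFiniteType f] (hδ : Cyc.DeltaCompat f δX δY) (heq : δX (genericPoint X) = δY (genericPoint Y)) : ¬ Dense (Set.range f) ∨ (f (genericPoint X) = genericPoint Y ∧ (f.residueFieldMap (genericPoint X)).hom.Finite) := by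
  by_cases hd : Dense (Set.range f)
  swap
  · exact Or.inl hd
  refine Or.inr ?_
  have hgen : f (genericPoint X) = genericPoint Y := by
    refine IsGenericPoint.eq ?_ (genericPoint_spec Y)
    refine top_le_iff.1 ((hd.closure_eq).symm.le.trans (closure_minimal ?_ isClosed_closure))
    rintro _ ⟨x, rfl⟩
    exact ((genericPoint_specializes x).map f.continuous).mem_closure
  refine ⟨hgen, ?_⟩
  obtain ⟨n, hn, hδn⟩ := hδ (genericPoint X)
  have h0 : n = 0 := by rw [hgen] at hδn; omega
  have hE := RingHom.EssFiniteType.residueFieldMap (LocallyOfFiniteType.stalkMap f (genericPoint X))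
  letI := (f.residueFieldMap (genericPoint X)).hom.toAlgebra
  haveI : Algebra.EssFiniteType (Y.residueField (f (genericPoint X))) (X.residueField (genericPoint X)) := hE
  haveI : Algebra.IsAlgebraic (Y.residueField (f (genericPoint X))) (X.residueField (genericPoint X)) :=
    trdeg_eq_zero_iff.1 (by rw [hn, h0, Nat.cast_zero])
  show Module.Finite (Y.residueField (f (genericPoint X))) (X.residueField (genericPoint X))
  exact Algebra.finite_of_essFiniteType_of_isAlgebraic

end Groth.Agent.S1862
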