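import Groth.Statements.S18623
import Groth.Agent.Lib.BlowPts12.Uniform
-- import your own Groth.Agent.* helpers here

set_option autoImplicit false
set_option linter.style.haveILetI false
set_option linter.unusedVariables false
set_option backward.isDefEq.respectTransparency false
universe u
open VBPn

namespace Groth.Agent.S18623

open CategoryTheory CategoryTheory.Limits AlgebraicGeometry TopologicalSpace in
/-- For one blown-up point; let k be an algebraically closed field of characteristic zero, n ≥ 3, p a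
closed point of P^n_k and π : X → P^n_k a blow-up of P^n_k in the ideal of p (universal property),
with exceptional divisor e₁ whose ideal sheaf is the inverse image ideal, and O_X(e₀) = π^*O(1); put
O_X(c e₀ − d e₁) = π^*O(c) ⊗ (ideal of e₁)^{⊗ d} for c ∈ ℤ, d ≥ 0. If d = 0, or if 0 < d ≤ c, then
H^1(X, O_X(c e₀ − d e₁)) = 0. (The published statement also covers no point blown up, where it is
the vanishing of H^1(P^n, O(c)).) -/
theorem result (k : Type u) [Field k] [IsAlgClosed k] [CharZero k]
    (n : ℕ) (hn : 3 ≤ n) (p : ↥(CohB1.ProjSpace n k)) (hp : IsClosed ({p} : Set ↥(CohB1.ProjSpace n k)))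
    (X : Scheme.{u}) (π : X ⟶ CohB1.ProjSpace n k)
    (hπ : BlowUp.IsBlowUp π (Scheme.IdealSheafData.vanishingIdeal ⟨{p}, hp⟩))
    (c : ℤ) (d : ℕ) (hcd : d = 0 ∨ (0 < d ∧ (d : ℤ) ≤ c)) :
    Subsingleton (Coh.HH X (CohB1.tensorMod ((Scheme.Modules.pullback π).obj (Twist.twistProjSpace n k c))
      (CohB1.tensorPow (ClSub.idealMod (BlowUp.exceptional π (Scheme.IdealSheafData.vanishingIdeal ⟨{p}, hp⟩))) d)) 1) := by
  have e0 : Set.range (fun _ : Fin 1 => p) = {p} := Set.range_const
  have hZ : IsClosed (Set.range fun _ : Fin 1 => p) := e0.symm ▸ hp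
  have e1 : (⟨Set.range fun _ : Fin 1 => p, hZ⟩ : TopologicalSpace.Closeds ↥(CohB1.ProjSpace n k)) = ⟨{p}, hp⟩ :=
    TopologicalSpace.Closeds.ext e0
  rw [← e1] at hπ ⊢
  have hP : Function.Injective (fun _ : Fin 1 => p) := fun a b _ => Subsingleton.elim a b
  have hE := (GrothLib.BlowPts12.hasCls_pullTwist π c).tensor
    ((GrothLib.BlowPts12.hasCls_exceptional hZ hπ).tensorPow d)
  obtain ⟨e⟩ := (GrothLib.BlowPts12.hasCls_tw' hZ (hPc := fun _ => hp) hπ le_rfl c d).iso hE rfl
  refine GrothLib.CMReg.subsingleton_of_iso e ?_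
  rcases hcd with rfl | ⟨hd, hdc⟩
  · obtain ⟨e'⟩ := (GrothLib.BlowPts12.hasCls_tw' hZ (hPc := fun _ => hp) hπ le_rfl c 0).iso
      (GrothLib.BlowPts12.hasCls_pullTwist π c) (by rw [pow_zero, mul_one])
    exact GrothLib.CMReg.subsingleton_of_iso e'.symm (GrothLib.BlowPts12.subsingleton_pullTwist
      (GrothLib.BlowPts12.isPts_range (by omega) (fun _ => hp) hZ) π hπ c 1 (by omega) (by omega))
  · exact GrothLib.BlowPts12.subsingleton_H1 hP hZ (by omega) hπ c (fun _ => d) (by simp; omega)

end Groth.Agent.S18623
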