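import Groth.Statements.S18624
import Groth.Agent.Lib.BlowPts12.Kernel
-- import your own Groth.Agent.* helpers here

set_option linter.style.haveILetI false
set_option linter.unusedVariables false
set_option backward.isDefEq.respectTransparency false

set_option autoImplicit false
universe u
open VBPn

namespace Groth.Agent.S18624

open CategoryTheory CategoryTheory.Limits AlgebraicGeometry TopologicalSpace in
/-- The bundles are arithmetically Cohen–Macaulay: let k be an algebraically closed field of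
characteristic zero, n ≥ 3, Z a set of s ≤ 1 closed points of P^n_k and π : X → P^n_k a blow-up of
P^n_k in the ideal of the reduced set Z (universal property; for s = 0 this is P^n_k itself). Write
O_X(e₀) = π^*O(1), let I_E be the exceptional ideal (inverse image ideal of Z), and let H be the
anticanonical module, H ≅ π^*O(n+1) ⊗ I_E^{⊗(n−1)}, with a tensor inverse H′. Let g : Q → P be an
epimorphism of O_X-modules with Q ≅ O_X(e₀)^b and P ≅ O_X(2e₀)^a (a matrix of linear forms) whose
induced map on global sections H^0(X, Q) → H^0(X, P) is surjective, and let G = ker g. Then G has no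
intermediate cohomology with respect to H: for 1 ≤ i ≤ n − 1 and every t ≥ 0, H^i(X, G ⊗ H^{⊗t}) = 0
and H^i(X, G ⊗ H′^{⊗t}) = 0. (The published statement asserts this for the dual bundle E = G^∨ and
for a, b of a particular shape; since X is smooth and proper with canonical module H′ and G is
locally free, Serre duality exchanges the two families of vanishings, and the argument uses nothing
about a, b beyond the displayed presentation and the surjectivity on global sections.) -/
theorem result (k : Type u) [Field k] [IsAlgClosed k] [CharZero k]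
    (n : ℕ) (hn : 3 ≤ n) (s : ℕ) (P : Fin s → ↥(CohB1.ProjSpace n k)) (hP : Function.Injective P)
    (hPc : ∀ i, IsClosed ({P i} : Set ↥(CohB1.ProjSpace n k))) (hZ : IsClosed (Set.range P))
    (X : Scheme.{u}) (π : X ⟶ CohB1.ProjSpace n k)
    (hπ : BlowUp.IsBlowUp π (Scheme.IdealSheafData.vanishingIdeal ⟨Set.range P, hZ⟩)) (hs : s ≤ 1)
    (a b : ℕ) (Q₂ P₂ : X.Modules)
    (hQ₂ : Nonempty (Q₂ ≅ ∐ fun _ : Fin b => (Scheme.Modules.pullback π).obj (Twist.twistProjSpace n k 1)))
    (hP₂ : Nonempty (P₂ ≅ ∐ fun _ : Fin a => (Scheme.Modules.pullback π).obj (Twist.twistProjSpace n k 2)))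
    (g : Q₂ ⟶ P₂) [Epi g]
    (hg0 : Function.Surjective (Sheaf.H.map ((SheafOfModules.toSheaf X.ringCatSheaf).map g) 0))
    (Hm Hi : X.Modules)
    (hHm : Nonempty (Hm ≅ CohB1.tensorMod ((Scheme.Modules.pullback π).obj (Twist.twistProjSpace n k ((n : ℤ) + 1)))
      (CohB1.tensorPow (ClSub.idealMod (BlowUp.exceptional π (Scheme.IdealSheafData.vanishingIdeal ⟨Set.range P, hZ⟩))) (n - 1))))
    (hHi : ClSub.IsInverseOf Hi Hm) (i t : ℕ) (hi : 1 ≤ i) (hin : i + 1 ≤ n) :
    Subsingleton (Coh.HH X (CohB1.tensorMod (kernel g) (CohB1.tensorPow Hm t)) i) ∧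
      Subsingleton (Coh.HH X (CohB1.tensorMod (kernel g) (CohB1.tensorPow Hi t)) i) := by
  obtain ⟨hm, hi'⟩ := GrothLib.BlowPts12.hasCls_anticanonical hZ (hPc := hPc) hn hs hπ hHm hHi t
  obtain ⟨eQ⟩ := hQ₂
  obtain ⟨eP⟩ := hP₂
  letI : X.Over (Spec (CommRingCat.of k)) := ⟨π ≫ CohB1.ProjSpace.toSpec n k⟩
  haveI : IsProper (X ↘ Spec (CommRingCat.of k)) :=
    GrothLib.BlowPts12.isProper_toSpec (GrothLib.BlowPts12.isPts_range (by omega) hPc hZ) π hπ
  haveI := GrothLib.Euler.isNoetherian_of_proper (X := X) k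
  have hg : Function.Surjective (GrothLib.Cohom.hhMap k g 0) := hg0
  have hn' : (3 : ℤ) ≤ n := by exact_mod_cast hn
  have ht : (0 : ℤ) ≤ t := Int.natCast_nonneg t
  obtain ⟨j, hj⟩ : ∃ j : ℕ, j = t * (n - 1) := ⟨_, rfl⟩
  have e : (t : ℤ) * ((n : ℤ) - 1) = (j : ℤ) := by
    rw [hj, Nat.cast_mul, Nat.cast_sub (by omega : 1 ≤ n), Nat.cast_one]
  have hjc : (t : ℤ) * ((n : ℤ) + 1) = (j : ℤ) + 2 * t := by rw [← e]; ring
  rw [e, hjc] at hm hi'
  obtain ⟨gm⟩ := (GrothLib.Quad12.hasCls_rep' _).iso hm rfl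
  obtain ⟨gi⟩ := (GrothLib.Quad12.hasCls_rep' _).iso hi' rfl
  obtain ⟨q, rfl⟩ : ∃ q, i = q + 1 := ⟨i - 1, by omega⟩
  refine ⟨GrothLib.CMReg.subsingleton_of_iso (GrothLib.Ample.LineData.tensorModMapIso (Iso.refl _) gm) ?_,
    GrothLib.CMReg.subsingleton_of_iso (GrothLib.Ample.LineData.tensorModMapIso (Iso.refl _) gi) ?_⟩
  · rcases Nat.eq_zero_or_pos q with rfl | hq
    · rw [show (j : ℤ) + 2 * t = ((2 * t + j : ℕ) : ℤ) by push_cast; ring]
      exact GrothLib.BlowPts12.W_one hP hZ hn hs hπ (hPc := hPc) eQ eP g hg j (2 * t)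
    · exact GrothLib.BlowPts12.W_succ hZ hπ eQ eP g _ _ q
        (GrothLib.BlowPts12.V_nonneg hP hZ hn hs hπ (hPc := hPc) _ j q hq (fun _ => by omega) (by omega))
        (GrothLib.BlowPts12.V_nonneg hP hZ hn hs hπ (hPc := hPc) _ j (q + 1) (by omega) (fun _ => by omega) (by omega))
  · rcases Nat.eq_zero_or_pos t with rfl | htp
    · obtain rfl : j = 0 := by rw [hj, Nat.zero_mul]
      simp only [Nat.cast_zero, mul_zero, add_zero, neg_zero]
      rcases Nat.eq_zero_or_pos q with rfl | hq
      · exact GrothLib.BlowPts12.W_one hP hZ hn hs hπ (hPc := hPc) eQ eP g hg 0 0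
      · exact GrothLib.BlowPts12.W_succ hZ hπ eQ eP g _ _ q
          (GrothLib.BlowPts12.V_zero hZ hn hs hπ (hPc := hPc) _ q (by omega) (by omega))
          (GrothLib.BlowPts12.V_zero hZ hn hs hπ (hPc := hPc) _ (q + 1) (by omega) (by omega))
    · refine GrothLib.BlowPts12.W_succ hZ hπ eQ eP g _ _ q ?_
        (GrothLib.BlowPts12.V_negative hZ hn hs hπ (hPc := hPc) j _ (q + 1) (by omega) hin)
      rcases eq_or_lt_of_le (Nat.one_le_iff_ne_zero.2 htp.ne' : 1 ≤ t) with rfl | ht2
      · refine GrothLib.BlowPts12.V_neg hZ hn hs hπ (hPc := hPc) _ j q (Or.inl ?_) (by omega) (by omega)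
        rw [hj, Nat.one_mul]
        omega
      · exact GrothLib.BlowPts12.V_negative hZ hn hs hπ (hPc := hPc) j _ q (by omega) (by omega)

end Groth.Agent.S18624
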