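import Groth.Statements.S18628
import Groth.Agent.Lib.BlowPts12.Coker
-- import your own Groth.Agent.* helpers here

set_option autoImplicit false
set_option linter.style.haveILetI false
set_option linter.unusedVariables false
set_option backward.isDefEq.respectTransparency false
universe u
open VBPn

namespace Groth.Agent.S18628

open CategoryTheory CategoryTheory.Limits AlgebraicGeometry TopologicalSpace in
/-- Let k be an algebraically closed field of characteristic zero, n ≥ 3, Z a set of s ≤ 1 closed points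
of P^n_k and π : X → P^n_k a blow-up of P^n_k in the ideal of the reduced set Z (universal
property), with O_X(e₀) = π^*O(1), exceptional ideal I_E (inverse image ideal of Z) and
anticanonical module H ≅ π^*O(n+1) ⊗ I_E^{⊗(n−1)}. Let f : P → Q be a monomorphism of O_X-modules
with P ≅ O_X(−2e₀)^a and Q ≅ O_X(−e₀)^b, and E = coker f. Then H^i(X, E ⊗ H^{⊗t}) = 0 for every 1 ≤
i ≤ n − 1 and every t ≥ 0. (This is the part of the published statement 'E is arithmetically
Cohen–Macaulay' that concerns non-negative twists; it needs no genericity of f.) -/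
theorem result (k : Type u) [Field k] [IsAlgClosed k] [CharZero k]
    (n : ℕ) (hn : 3 ≤ n) (s : ℕ) (P : Fin s → ↥(CohB1.ProjSpace n k)) (hP : Function.Injective P)
    (hPc : ∀ i, IsClosed ({P i} : Set ↥(CohB1.ProjSpace n k))) (hZ : IsClosed (Set.range P))
    (X : Scheme.{u}) (π : X ⟶ CohB1.ProjSpace n k)
    (hπ : BlowUp.IsBlowUp π (Scheme.IdealSheafData.vanishingIdeal ⟨Set.range P, hZ⟩)) (hs : s ≤ 1)
    (a b : ℕ) (P₁ Q₁ : X.Modules)
    (hP₁ : Nonempty (P₁ ≅ ∐ fun _ : Fin a => (Scheme.Modules.pullback π).obj (Twist.twistProjSpace n k (-2))))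
    (hQ₁ : Nonempty (Q₁ ≅ ∐ fun _ : Fin b => (Scheme.Modules.pullback π).obj (Twist.twistProjSpace n k (-1))))
    (f : P₁ ⟶ Q₁) [Mono f] (Hm : X.Modules)
    (hHm : Nonempty (Hm ≅ CohB1.tensorMod ((Scheme.Modules.pullback π).obj (Twist.twistProjSpace n k ((n : ℤ) + 1)))
      (CohB1.tensorPow (ClSub.idealMod (BlowUp.exceptional π (Scheme.IdealSheafData.vanishingIdeal ⟨Set.range P, hZ⟩))) (n - 1))))
    (i t : ℕ) (hi : 1 ≤ i) (hin : i + 1 ≤ n) :
    Subsingleton (Coh.HH X (CohB1.tensorMod (cokernel f) (CohB1.tensorPow Hm t)) i) := by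
  obtain ⟨eH⟩ := hHm
  obtain ⟨eP⟩ := hP₁
  obtain ⟨eQ⟩ := hQ₁
  have hH1 := (GrothLib.BlowPts12.hasCls_pullTwist π ((n : ℤ) + 1)).tensor
    ((GrothLib.BlowPts12.hasCls_exceptional hZ hπ).tensorPow (n - 1))
  have hH : GrothLib.Cube.HasCls Hm
      (GrothLib.BlowPts12.pt π ((n : ℤ) + 1) * GrothLib.BlowPts12.exc hZ hπ ^ (n - 1)) :=
    GrothLib.BlowPts12.hasCls_of_iso hH1 eH.symm
  exact GrothLib.BlowPts12.subsingleton_coker hP hZ (hPc := hPc) hn hs hπ eP eQ f hH i t hi hin

end Groth.Agent.S18628
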