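import Groth.Statements.S18631
-- import your own Groth.Agent.* helpers here
import Groth.Agent.Lib.MuSt28.Basic

set_option autoImplicit false
set_option maxHeartbeats 1600000
set_option linter.style.haveILetI false
set_option backward.isDefEq.respectTransparency false
universe u
open VBPn

namespace Groth.Agent.S18631

open CategoryTheory CategoryTheory.Limits AlgebraicGeometry TopologicalSpace in
/-- Let k be an algebraically closed field of characteristic zero and X ⊆ P³_k a smooth integral surface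
of degree d ≥ 4: ι : X → P³_k a closed immersion over k whose ideal is that of one form F of degree
d, X proper and smooth over k of dimension 2, polarised by the ample L = ι^*O(1); assume Pic X is
generated by O_X(1), i.e. every invertible O_X-module is isomorphic to ι^*O(n) for some integer n.
Let Z ⊆ X be a closed subscheme with finite support such that H⁰(X, I_Z ⊗ ι^*O(d−2)) = 0, and let 0
→ O_X → E → I_Z ⊗ ι^*O(d−1) → 0 be a short exact sequence of O_X-modules with E finite locally free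
of rank 2. Then E is slope-stable (of dimension 2, with respect to L). (The published statement is
for the rank-2 Ulrich bundles on a general degree-d surface, 4 ≤ d ≤ 15, which come with such a
presentation and vanishing; its argument uses about generality only that Pic X is generated by
O_X(1), and about E only the displayed data; it concludes through the quoted criterion that a rank-2
bundle on such an X is slope-stable once its normalised twist has no sections.) -/
theorem result (k : Type u) [Field k] [IsAlgClosed k] [CharZero k]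
    (X : Scheme.{u}) [X.Over (Spec (CommRingCat.of k))] [AlgebraicGeometry.IsIntegral X]
    [IsProper (X ↘ (Spec (CommRingCat.of k)))] [Smooth (X ↘ (Spec (CommRingCat.of k)))]
    (hdim : topologicalKrullDim X = 2)
    (ι : X ⟶ CohB1.ProjSpace 3 k) [IsClosedImmersion ι] (hιk : ι ≫ CohB1.ProjSpace.toSpec 3 k = X ↘ (Spec (CommRingCat.of k)))
    (hL : CohB1.IsAmple ((Scheme.Modules.pullback ι).obj (Twist.twistProjSpace 3 k (1))))
    (d : ℕ) (hd : 4 ≤ d) (F : LefPen.Form 3 k d) (hF : ι.ker = LefPen.hypIdeal F)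
    (hPic : ∀ M : X.Modules, PicF.IsInvertible M → ∃ n : ℤ, Nonempty (M ≅ ((Scheme.Modules.pullback ι).obj (Twist.twistProjSpace 3 k (n)))))
    (Z : X.IdealSheafData) (hZfin : (Z.support : Set X).Finite)
    (hZ : Subsingleton (Coh.HH X (CohB1.tensorMod (ClSub.idealMod Z) ((Scheme.Modules.pullback ι).obj (Twist.twistProjSpace 3 k ((d : ℤ) - 2)))) 0))
    (S : ShortComplex X.Modules) (hS : S.ShortExact)
    (h₁ : Nonempty (S.X₁ ≅ Coh.structureModule X))
    (h₃ : Nonempty (S.X₃ ≅ CohB1.tensorMod (ClSub.idealMod Z) ((Scheme.Modules.pullback ι).obj (Twist.twistProjSpace 3 k ((d : ℤ) - 1)))))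
    (hE : FlatMod.IsFinLocFreeOfRank 2 S.X₂) :
    ShStab.IsMuStable k X ((Scheme.Modules.pullback ι).obj (Twist.twistProjSpace 3 k (1))) S.X₂ 2 := by
  open GrothLib GrothLib.Snapper GrothLib.SerrePn27 CBExt28 in
  · haveI := Euler.isNoetherian_of_proper (X := X) k
    have hN := Hilb20.isNormalScheme_of_smooth (X := X) k
    have hdim' : topologicalKrullDim X = ((2 : ℕ) : WithBot ℕ∞) := hdim
    have hu : DimLT (Set.univ : Set X) 3 := Kleiman.dimLT_univ hdim'.le
    have hH : CohB1.IsAmple (Oi ι 1) := hL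
    have hHi : PicF.IsInvertible (Oi ι 1) := isInvertible_Oi ι 1
    have hOi : PicF.IsInvertible (Coh.structureModule X) := Euler.isInvertible_structure
    have hOc : Coh.IsCoh (Coh.structureModule X) := Kleiman.isCoh_O k
    obtain ⟨e₁⟩ := h₁
    obtain ⟨c⟩ := h₃
    have hQi := isInvertible_Oi ι ((d : ℤ) - 1)
    have hE' := FinCov.isFinLocFree_of_rank hE
    have hEc : Coh.IsCoh S.X₂ := Euler.isCoh_of_isFinLocFree hE'
    have hEtf := DecSh20.isTorsionFree_of_locFree hE
    have hpureE := DecSh20.isPure_of_torsionFree_surface (k := k) hdim' hEc hEtf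
    haveI : IsIso (RefHull.bidualMap S.X₂) := K3Ext28.isReflexive_of_locFree (k := k) hE
    haveI : Mono S.f := hS.mono_f
    -- the embedding of the quotient in `O(d-1)`
    let Q := Oi ι ((d : ℤ) - 1)
    let IM := ClSub.idealMod Z
    haveI := isEquivalence_Tw hQi
    have hT := tw_shortExact hQi (ArSurf29.shortExact_ideal Z)
    haveI : Mono ((Tw Q).map (ClSub.idealModι Z)) := hT.mono_f
    let cN : S.X₃ ≅ (Tw Q).obj IM := c ≪≫ GrTilde.tensorModComm (X := X) IM Q
    let uQ : (Tw Q).obj (Coh.structureModule X) ≅ Q := SecTwist.unitorR Q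
    have hNc : Coh.IsCoh S.X₃ := QCoh.isCoh_of_iso c.symm
      (CMReg.isCoh_tensorMod (RegPow.isCoh_idealMod Z) hQi)
    let v : S.X₃ ⟶ Q := cN.hom ≫ (Tw Q).map (ClSub.idealModι Z) ≫ uQ.hom
    haveI hv : Mono v := inferInstanceAs (Mono (cN.hom ≫ (Tw Q).map (ClSub.idealModι Z) ≫ uQ.hom))
    have hO0 : ¬ IsZero (Coh.structureModule X) := fun h => by
      have := Hilb20.support_eq_empty_of_isZero h
      exact (this ▸ Kleiman.mem_support_structure (genericPoint X) :)
    have hX1c : Coh.IsCoh S.X₁ := QCoh.isCoh_of_iso e₁.symm hOc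
    have hV0 : ¬ IsZero S.X₂ := fun h => hO0 (IsZero.of_iso ((IsZero.iff_id_eq_zero _).2
      ((cancel_mono S.f).1 (h.eq_of_tgt _ _))) e₁.symm)
    refine ⟨hEc, hV0, hpureE S.X₂ (𝟙 _) inferInstance hEc hV0, fun F j hj hF => ?_,
      fun F j hj hF pF pE hpF hpE hpos hlt => ?_⟩
    · haveI := hj
      by_cases h0 : IsZero F
      · rw [Hilb20.support_eq_empty_of_isZero h0]
        haveI : IsEmpty (TopologicalSpace.IrreducibleCloseds (∅ : Set X)) :=
          ⟨fun Z => Z.isIrreducible.nonempty.choose.2⟩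
        rw [topologicalKrullDim, Order.krullDim_eq_bot]
        simp
      · rw [hpureE F j hj hF h0]
        decide
    haveI := hj
    obtain ⟨pO, hpO⟩ := Hilb20.exists_isHilbPoly (k := k) hH hOc (hu.mono (Set.subset_univ _))
    have hA : 0 < StabCat.alpha 2 pO := Hilb20.alpha_pos_self hH hOc hO0
      (DecSh20.isPure_of_isInvertible (k := k) hN hdim' hOi) hpO
    have hQc := Euler.isCoh_of_isInvertible hQi
    obtain ⟨pQ, hpQ⟩ := Hilb20.exists_isHilbPoly (k := k) hH hQc (hu.mono (Set.subset_univ _))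
    obtain ⟨pN, hpN⟩ := Hilb20.exists_isHilbPoly (k := k) hH hNc (hu.mono (Set.subset_univ _))
    obtain ⟨hQ2, hQ1⟩ := MuSt28.alpha_Oi ι hdim' hH ((d : ℤ) - 1) (Iso.refl _) hpQ hpO
    obtain ⟨hN2, hN1⟩ : StabCat.alpha 2 pN = StabCat.alpha 2 pQ ∧ StabCat.alpha 1 pN = StabCat.alpha 1 pQ := by
      have hWc := CMReg.isCoh_tensorMod (X := X) (Snapper.isCoh_quotMod k Z) hQi
      have hWc' : Coh.IsCoh ((Tw Q).obj (ClSub.quotMod Z)) :=
        QCoh.isCoh_of_iso (GrTilde.tensorModComm (X := X) _ _) hWc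
      obtain ⟨pW, hpW⟩ := Hilb20.exists_isHilbPoly (k := k) hH hWc' (hu.mono (Set.subset_univ _))
      have e := Hilb20.eq_add_of_shortExact (k := k) hHi hT (QCoh.isCoh_of_iso cN hNc)
        (QCoh.isCoh_of_iso uQ.symm hQc) hWc' (Hilb20.isHilbPoly_congr cN hpN)
        (Hilb20.isHilbPoly_congr uQ.symm hpQ) hpW
      have hd : DimLT (CohB1.support ((Tw Q).obj (ClSub.quotMod Z))) 1 :=
        DecSh20.dimLT_one_of_forall_two_le (k := k) hdim' fun x hx =>
          ExtHull28.two_le_dim_stalk k hdim Z.support.isClosed hZfin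
            (Snapper.support_quotMod Z (CurveMult.support_tensor_subset (ClSub.quotMod Z) Q ((QCoh.support_eq_of_iso (GrTilde.tensorModComm (X := X) Q (ClSub.quotMod Z))).le hx)))
      have h1 := Hilb20.alpha_eq_zero (d := 1) hH hWc' hd hpW
      have h2 := Hilb20.alpha_eq_zero (d := 2) hH hWc' (fun l hl => (hd l hl).trans_le one_le_two) hpW
      rw [e, Hilb20.alpha_add, Hilb20.alpha_add, h1, h2, add_zero, add_zero]
      exact ⟨rfl, rfl⟩
    have eV := Hilb20.eq_add_of_shortExact (k := k) hHi hS hX1c hEc hNc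
      (Hilb20.isHilbPoly_congr e₁.symm hpO) hpE hpN
    have hE2 : StabCat.alpha 2 pE = 2 * StabCat.alpha 2 pO := by
      rw [eV, Hilb20.alpha_add, hN2, hQ2]; ring
    have hE1 : StabCat.alpha 1 pE = 2 * StabCat.alpha 1 pO + ((d : ℚ) - 1) * StabCat.alpha 2 pO := by
      rw [eV, Hilb20.alpha_add, hN1, hQ1]; push_cast; ring
    have hd4 : (4 : ℚ) ≤ (d : ℚ) := by exact_mod_cast hd
    suffices H : StabCat.alpha 2 pF = StabCat.alpha 2 pO ∧
        2 * StabCat.alpha 1 pF < 2 * StabCat.alpha 1 pO + ((d : ℚ) - 1) * StabCat.alpha 2 pO by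
      show StabCat.alpha 1 pF / StabCat.alpha 2 pF < StabCat.alpha 1 pE / StabCat.alpha 2 pE
      rw [H.1, hE2, hE1, div_lt_div_iff₀ hA (by positivity)]
      nlinarith [mul_lt_mul_of_pos_right H.2 hA]
    have hF0 : ¬ IsZero F := fun h => by
      rw [Hilb20.isHilbPoly_unique hpF (Hilb20.isHilbPoly_of_isZero h)] at hpos
      simp [StabCat.alpha] at hpos
    have hlift : ∀ {G : X.Modules} (g : G ⟶ S.X₂), g ≫ S.g = 0 →
        ∃ q : G ⟶ Coh.structureModule X, q ≫ e₁.inv ≫ S.f = g := fun g hg =>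
      ⟨hS.exact.lift g hg ≫ e₁.hom, by rw [Category.assoc, Iso.hom_inv_id_assoc]; exact hS.exact.lift_f g hg⟩
    by_cases hφ : j ≫ S.g = 0
    · obtain ⟨q, hq⟩ := hlift j hφ
      haveI : Mono q := by
        haveI : Mono (q ≫ e₁.inv ≫ S.f) := by rw [hq]; exact hj
        exact mono_of_mono q (e₁.inv ≫ S.f)
      obtain ⟨h2, h1, -⟩ := DecSh20.alpha_rankOne hN hdim' hH hOi q hF hF0 hpF hpO
      exact ⟨h2, by nlinarith⟩
    haveI hmono : Mono (j ≫ S.g) := by
      by_contra hm
      have hK0 : ¬ IsZero (kernel (j ≫ S.g)) := fun hz =>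
        hm (Preadditive.mono_of_kernel_zero (hz.eq_zero_of_src _))
      have hK := QCoh.isCoh_kernel (j ≫ S.g) hF hNc
      obtain ⟨q, hq⟩ := hlift (kernel.ι (j ≫ S.g) ≫ j) (by rw [Category.assoc, kernel.condition])
      haveI : Mono q := by
        haveI : Mono (q ≫ e₁.inv ≫ S.f) := by rw [hq]; infer_instance
        exact mono_of_mono q (e₁.inv ≫ S.f)
      obtain ⟨w', hS'⟩ := QCoh.shortExact_kernel_image (j ≫ S.g)
      have hI := Hilb20.isCoh_image (k := k) (j ≫ S.g) hF hNc
      obtain ⟨pK, hpK⟩ := Hilb20.exists_isHilbPoly (k := k) hH hK (hu.mono (Set.subset_univ _))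
      obtain ⟨pI, hpI⟩ := Hilb20.exists_isHilbPoly (k := k) hH hI (hu.mono (Set.subset_univ _))
      have e := Hilb20.eq_add_of_shortExact (k := k) hHi hS' hK hF hI hpK hpF hpI
      obtain ⟨k2, -, -⟩ := DecSh20.alpha_rankOne hN hdim' hH hOi q hK hK0 hpK hpO
      obtain ⟨i2, -, -⟩ := DecSh20.alpha_rankOne hN hdim' hH hQi (Abelian.image.ι (j ≫ S.g) ≫ v) hI
        (Hilb20.image_not_isZero hφ) hpI hpQ
      rw [e, Hilb20.alpha_add, k2, i2, hQ2, hE2] at hlt
      linarith
    let p : F ⟶ Q := (j ≫ S.g) ≫ v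
    obtain ⟨h2, -, -⟩ := DecSh20.alpha_rankOne hN hdim' hH hQi p hF hF0 hpF hpQ
    refine ⟨h2.trans hQ2, ?_⟩
    -- the saturation of `F`
    have hb := (DecSh20.rankOne_mono (k := k) hN hdim' hQi p hF hF0).1
    obtain ⟨eQ, heQ⟩ := Ref1.exists_gen_of_isInvertible hQi (genericPoint X)
    obtain ⟨v₀, hv₀⟩ := hb.2 eQ
    have hgen : Ref1.Gen F (genericPoint X) v₀ := by
      refine ⟨fun a b hab => heQ.1 ?_, fun w => ?_⟩
      · have := congrArg (RefHull.stalkMapₗ p (genericPoint X)) hab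
        rwa [map_smul, map_smul, hv₀] at this
      · obtain ⟨r, hr⟩ := heQ.2 (RefHull.stalkMapₗ p (genericPoint X) w)
        exact ⟨r, hb.1 (by rw [map_smul, hv₀]; exact hr)⟩
    obtain ⟨hGi, hGm, -, -⟩ :=
      K3Ext28.bidual_facts (k := k) hdim' hF (DecSh20.isTorsionFree_of_mono j hEtf) hgen
    haveI := hGm
    let G := RefHull.ddual F
    obtain ⟨n, ⟨eG⟩⟩ := hPic G hGi
    obtain ⟨pG, hpG⟩ := Hilb20.exists_isHilbPoly (k := k) hH (Euler.isCoh_of_isInvertible hGi)
      (hu.mono (Set.subset_univ _))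
    obtain ⟨-, hG1⟩ := MuSt28.alpha_Oi ι hdim' hH n eG hpG hpO
    obtain ⟨-, hFG, -⟩ := DecSh20.alpha_rankOne hN hdim' hH hGi (RefHull.bidualMap F) hF hF0 hpF hpG
    rcases le_or_gt ((d : ℤ) - 1) (2 * n) with hn | hn
    swap
    · have hn' : (2 : ℚ) * n < (d : ℚ) - 1 := by exact_mod_cast hn
      nlinarith [mul_lt_mul_of_pos_right hn' hA]
    exfalso
    let h : G ⟶ S.X₂ := RefFun.ddualMap j ≫ inv (RefHull.bidualMap S.X₂)
    have hh : RefHull.bidualMap F ≫ h = j := by
      show RefHull.bidualMap F ≫ _ ≫ _ = j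
      rw [← Category.assoc, RefFun.bidualMap_naturality, Category.assoc, IsIso.hom_inv_id, Category.comp_id]
    let g : G ⟶ Q := (h ≫ S.g) ≫ v
    have hg : g ≠ 0 := fun h0 => by
      have hp0 : p = 0 := by
        show (j ≫ S.g) ≫ v = 0
        rw [← hh, Category.assoc, Category.assoc, ← Category.assoc h S.g v]
        show RefHull.bidualMap F ≫ g = 0
        rw [h0, comp_zero]
      haveI : Mono p := inferInstanceAs (Mono ((j ≫ S.g) ≫ v))
      exact hF0 (IsZero.of_mono_eq_zero p hp0)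
    obtain ⟨u₀, hu₀⟩ := MuSt28.exists_mono_Oi (k := k) ι hdim' (n - 1).toNat 1 n (by omega)
    let u : Oi ι 1 ⟶ G := u₀ ≫ eG.inv
    haveI : Mono u := mono_comp _ _
    let q : Oi ι 1 ⟶ S.X₃ := u ≫ h ≫ S.g
    have hq : q ≠ 0 := fun h0 => by
      have hug : u ≫ g = 0 := by
        show u ≫ (h ≫ S.g) ≫ v = 0
        rw [← Category.assoc]
        show q ≫ v = 0
        rw [h0, zero_comp]
      have hub := (DecSh20.rankOne_mono (k := k) hN hdim' hGi u (Euler.isCoh_of_isInvertible hHi)
        (fun hz => hF0 ?_)).1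
      · refine hg (Ref1.hom_ext_generic
          (Ref1.injective_sp_of_isRef1 hN (FacDiv.isRef1_of_isInvertible hQi)) (LinearMap.ext fun x => ?_))
        obtain ⟨w, rfl⟩ := hub.2 x
        rw [← LinearMap.comp_apply, ← Ref1.stalkMapₗ_comp, hug]
        show ((OX.stalk (genericPoint X)).map (0 : Oi ι 1 ⟶ Q)).hom w =
          ((OX.stalk (genericPoint X)).map (0 : G ⟶ Q)).hom (RefHull.stalkMapₗ u (genericPoint X) w)
        rw [Functor.map_zero, Functor.map_zero]
        rfl
      · exfalso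
        have hmem : genericPoint X ∉ CohB1.support (Oi ι 1) := by
          rw [Hilb20.support_eq_empty_of_isZero hz]; exact Set.notMem_empty _
        haveI := QCoh.stalk_subsingleton_of_notMem hmem
        obtain ⟨t, ht⟩ := Ref1.exists_gen_of_isInvertible hHi (genericPoint X)
        exact zero_ne_one (ht.1 (a₁ := (0 : X.presheaf.stalk (genericPoint X))) (a₂ := 1) (Subsingleton.elim _ _))
    -- twist down
    have hKi := isInvertible_Oi ι (-1)
    haveI := isEquivalence_Tw hKi
    obtain ⟨eO⟩ := nonempty_Oi_add ι (a := -1) (b := 1) (c := 0) (by ring)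
    obtain ⟨z⟩ := nonempty_Oi_zero ι
    obtain ⟨f₂⟩ := nonempty_Oi_add ι (a := (d : ℤ) - 1) (b := -1) (c := (d : ℤ) - 2) (by ring)
    let T := CohB1.tensorMod IM (Oi ι ((d : ℤ) - 2))
    let eT : (Tw (Oi ι (-1))).obj S.X₃ ≅ T :=
      (Tw (Oi ι (-1))).mapIso c ≪≫ GrTilde.tensorModComm (X := X) (Oi ι (-1)) (CohB1.tensorMod IM Q) ≪≫
        OX.tensorAssoc IM Q (Oi ι (-1)) ≪≫ (Tw IM).mapIso f₂
    let eS : (Tw (Oi ι (-1))).obj (Oi ι 1) ≅ Coh.structureModule X := eO ≪≫ z
    haveI : Subsingleton (Coh.HH X T 0) := hZ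
    have hzero := (hhMap_eq_zero_iff k (𝟙 T)).1 (LinearMap.ext fun x => Subsingleton.elim _ _)
      (eS.inv ≫ (Tw (Oi ι (-1))).map q ≫ eT.hom)
    rw [Category.comp_id, ← cancel_epi eS.hom, Iso.hom_inv_id_assoc, comp_zero, ← cancel_mono eT.inv,
      Category.assoc, Iso.hom_inv_id, Category.comp_id, zero_comp] at hzero
    exact hq ((Tw (Oi ι (-1))).map_injective (by rw [hzero, Functor.map_zero]))

end Groth.Agent.S18631
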