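import Groth.Statements.S18632
import Groth.Agent.Lib.BlowPts12.Neg
-- import your own Groth.Agent.* helpers here

set_option linter.style.haveILetI false
set_option linter.unusedVariables false
set_option backward.isDefEq.respectTransparency false

set_option autoImplicit false
universe u
open VBPn

namespace Groth.Agent.S18632

open CategoryTheory CategoryTheory.Limits AlgebraicGeometry TopologicalSpace in
/-- Let k be an algebraically closed field of characteristic zero, n ≥ 3, Z a set of s ≤ 1 closed points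
of P^n_k and π : X → P^n_k a blow-up of P^n_k in the ideal of the reduced set Z (universal
property), with exceptional ideal I_E (inverse image ideal of Z) and anticanonical module H ≅
π^*O(n+1) ⊗ I_E^{⊗(n−1)}, with a tensor inverse H′. Then H^i(X, H^{⊗t}) = 0 and H^i(X, H′^{⊗t}) = 0
for every 1 ≤ i ≤ n − 1 and every t ≥ 0: O_X has no intermediate cohomology in any anticanonical
twist. (The published statement is that X, embedded by the very ample H, is arithmetically
Cohen–Macaulay; the part asserting that the ideal of the embedded X has no H¹ in any twist is not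
restated.) -/
theorem result (k : Type u) [Field k] [IsAlgClosed k] [CharZero k]
    (n : ℕ) (hn : 3 ≤ n) (s : ℕ) (P : Fin s → ↥(CohB1.ProjSpace n k)) (hP : Function.Injective P)
    (hPc : ∀ i, IsClosed ({P i} : Set ↥(CohB1.ProjSpace n k))) (hZ : IsClosed (Set.range P))
    (X : Scheme.{u}) (π : X ⟶ CohB1.ProjSpace n k)
    (hπ : BlowUp.IsBlowUp π (Scheme.IdealSheafData.vanishingIdeal ⟨Set.range P, hZ⟩)) (hs : s ≤ 1)
    (Hm Hi : X.Modules)
    (hHm : Nonempty (Hm ≅ CohB1.tensorMod ((Scheme.Modules.pullback π).obj (Twist.twistProjSpace n k ((n : ℤ) + 1)))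
      (CohB1.tensorPow (ClSub.idealMod (BlowUp.exceptional π (Scheme.IdealSheafData.vanishingIdeal ⟨Set.range P, hZ⟩))) (n - 1))))
    (hHi : ClSub.IsInverseOf Hi Hm) (i t : ℕ) (hi : 1 ≤ i) (hin : i + 1 ≤ n) :
    Subsingleton (Coh.HH X (CohB1.tensorPow Hm t) i) ∧ Subsingleton (Coh.HH X (CohB1.tensorPow Hi t) i) := by
  obtain ⟨hm, hi'⟩ := GrothLib.BlowPts12.hasCls_anticanonical hZ (hPc := hPc) hn hs hπ hHm hHi t
  have hn' : (3 : ℤ) ≤ n := by exact_mod_cast hn
  have ht : (0 : ℤ) ≤ t := Int.natCast_nonneg t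
  have e : (t : ℤ) * ((n : ℤ) - 1) = ((t * (n - 1) : ℕ) : ℤ) := by
    rw [Nat.cast_mul, Nat.cast_sub (by omega : 1 ≤ n), Nat.cast_one]
  refine ⟨(GrothLib.BlowPts12.van_iff hm i).1 ?_, (GrothLib.BlowPts12.van_iff hi' i).1 ?_⟩
  · rw [e]
    refine GrothLib.BlowPts12.V_nonneg hP hZ hn hs hπ (hPc := hPc) _ _ i hi (fun _ => ?_) (by omega)
    rw [← e]
    nlinarith
  · rw [e]
    rcases Nat.eq_zero_or_pos t with rfl | htp
    · rw [Nat.zero_mul, Nat.cast_zero, neg_zero, zero_mul, neg_zero]
      exact GrothLib.BlowPts12.V_zero hZ hn hs hπ (hPc := hPc) 0 i (by omega) (by omega)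
    · refine GrothLib.BlowPts12.V_negative hZ hn hs hπ (hPc := hPc) _ _ i ?_ hin
      rw [← e]
      have : (1 : ℤ) ≤ t := by exact_mod_cast htp
      nlinarith

end Groth.Agent.S18632
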