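import Groth.Statements.S18633
import Groth.Agent.Lib.DelPezzoH112.Main

set_option backward.isDefEq.respectTransparency false
set_option linter.all false
-- import your own Groth.Agent.* helpers here

set_option autoImplicit false
universe u
open CategoryTheory CategoryTheory.Limits AlgebraicGeometry TopologicalSpace
open Surf

namespace Groth.Agent.S18633

/-- Let k be an algebraically closed field of characteristic zero and X a strong del Pezzo surface over
k: an integral scheme, proper and smooth over k of dimension 2, with canonical module W (a second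
exterior power of Ω_{X/k}) and a tensor inverse D of W which is very ample relative to k — there is
a closed immersion ι : X → P^N_k over k with ι^*O(1) ≅ D. Assume H¹(X, O_X) = 0. Then H¹(X, D^{⊗m})
= 0 and H¹(X, W^{⊗m}) = 0 for every m ≥ 0; that is, H¹(X, O_X(m)) = 0 for all m ∈ ℤ in the
anticanonical embedding X ⊆ P^d. (The published statement is that the anticanonically embedded X is
arithmetically Cohen–Macaulay; its argument obtains H¹(X, O_X) = 0 from the rationality of del Pezzo
surfaces, quoted, and that vanishing is the hypothesis here; the part about H¹ of the twisted ideal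
sheaves of X is not restated.) -/
theorem result (k : Type u) [Field k] [IsAlgClosed k] [CharZero k] (X : Scheme.{u})
    [X.Over (Spec (CommRingCat.of k))] [IsIntegral X] [IsProper (X ↘ (Spec (CommRingCat.of k)))] [Smooth (X ↘ (Spec (CommRingCat.of k)))]
    (hdim : topologicalKrullDim X = 2)
    (W : X.Modules) (hW : ExtPow.IsExtPow 2 (Omega.sheaf (X ↘ (Spec (CommRingCat.of k)))) W)
    (D : X.Modules) (hD : ClSub.IsInverseOf D W)
    (hva : ∃ (N : ℕ) (ι : X ⟶ CohB1.ProjSpace N k), IsClosedImmersion ι ∧
      ι ≫ CohB1.ProjSpace.toSpec N k = X ↘ (Spec (CommRingCat.of k)) ∧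
      Nonempty ((Scheme.Modules.pullback ι).obj (Twist.twistProjSpace N k 1) ≅ D))
    (hq : Subsingleton (Coh.HH X (Coh.structureModule X) 1)) (m : ℕ) :
    Subsingleton (Coh.HH X (CohB1.tensorPow D m) 1) ∧ Subsingleton (Coh.HH X (CohB1.tensorPow W m) 1) := by
  obtain ⟨N, ι, hι, hιs, ⟨eD⟩⟩ := hva
  haveI := hι
  haveI : SmoothOfRelativeDimension 2 (X ↘ (Spec (CommRingCat.of k))) :=
    GrothLib.CotTangent.smoothOfRelativeDimension_of_dim (X ↘ (Spec (CommRingCat.of k))) (𝟙 _) _ (Category.comp_id _) 2 0
      ((PrimeSpectrum.topologicalKrullDim_eq_ringKrullDim k).trans (ringKrullDim_eq_zero_of_field k)) (by simpa using hdim)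
  exact GrothLib.DelPezzoH112.subsingleton_H1 k ι hιs hdim hW hD eD hq m


end Groth.Agent.S18633
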