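import Groth.Statements.S18634
import Groth.Agent.Lib.GrBass.InjDim

set_option autoImplicit false
universe u
open GrLC

namespace Groth.Agent.S18634

/-- Let R be a commutative Noetherian ℤ-graded ring and M a graded R-module which is *injective, that
is, an injective object of the category of graded R-modules with degree-preserving maps. Then the
injective dimension of M as an ordinary R-module is at most 1. (The published item compares the
graded and the ordinary injective dimensions of an arbitrary graded module; the published proof
reduces to and establishes exactly this *injective case, from which the ordinary injective dimension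
of any graded module is at most one more than its graded injective dimension.) -/
theorem result (R : Type u) [CommRing R] [IsNoetherianRing R] (𝒜 : ℤ → AddSubgroup R) [GradedRing 𝒜] (M : Type u) [AddCommGroup M] [Module R M] (ℳ : ℤ → AddSubgroup M) [DirectSum.Decomposition ℳ] [SetLike.GradedSMul 𝒜 ℳ] (hM : GrLC.IsStarInj 𝒜 ℳ) : CategoryTheory.HasInjectiveDimensionLT (ModuleCat.of R M) 2 := by
  refine GrothLib.Serre.hasInjectiveDimensionLT_of_cyclic 1 _ fun I =>
    GrothLib.GrBass.subsingleton_ext_of_bassNum 2 (fun P hP => ?_) I
  have hM' : GrLC.IsStarInj 𝒜 (GrLC.GMod.of 𝒜 M ℳ).gr := hM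
  by_cases hh : P.IsHomogeneous 𝒜
  · let q : HomogeneousIdeal 𝒜 := ⟨P, hh⟩
    haveI : q.toIdeal.IsPrime := hP
    exact GrothLib.GrBass.bassNum_succ_starInj (X := GrLC.GMod.of 𝒜 M ℳ) hM' q 1
  · haveI := hP
    haveI := GrothLib.GrBass.isPrime_homogeneousCore (𝒜 := 𝒜) P
    exact (GrothLib.GrBass.bassNum_starInj_nonhom (X := GrLC.GMod.of 𝒜 M ℳ) hM' P hh).2 0

end Groth.Agent.S18634
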