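import Groth.Statements.S18635
import Groth.Agent.Lib.GrBass.InjDim

set_option autoImplicit false
universe u
open GrLC

namespace Groth.Agent.S18635

/-- Let R be a commutative Noetherian ℤ-graded ring and M a *injective graded R-module (an injective
object of the category of graded R-modules). Then M fails to be injective as an ordinary R-module —
equivalently, since a *injective graded module has ordinary injective dimension at most 1, its
ordinary injective dimension is exactly 1 — if and only if there is a prime ideal p of R which is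
not graded and whose graded core p* (the largest graded ideal contained in p, itself a prime) is an
associated prime of M. -/
theorem result (R : Type u) [CommRing R] [IsNoetherianRing R] (𝒜 : ℤ → AddSubgroup R) [GradedRing 𝒜] (M : Type u) [AddCommGroup M] [Module R M] (ℳ : ℤ → AddSubgroup M) [DirectSum.Decomposition ℳ] [SetLike.GradedSMul 𝒜 ℳ] (hM : GrLC.IsStarInj 𝒜 ℳ) : ¬ Module.Injective R M ↔ ∃ p : Ideal R, p.IsPrime ∧ ¬ Ideal.IsHomogeneous 𝒜 p ∧ (Ideal.homogeneousCore 𝒜 p).toIdeal ∈ associatedPrimes R M := by
  have hM' : GrLC.IsStarInj 𝒜 (GrLC.GMod.of 𝒜 M ℳ).gr := hM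
  constructor
  · intro hinj
    by_contra hcon
    refine hinj ?_
    rw [Module.injective_iff_injective_object, CategoryTheory.injective_iff_hasInjectiveDimensionLT_one]
    refine GrothLib.Serre.hasInjectiveDimensionLT_of_cyclic 0 _ fun I =>
      GrothLib.GrBass.subsingleton_ext_of_bassNum 1 (fun P hP => ?_) I
    by_cases hh : P.IsHomogeneous 𝒜
    · let q : HomogeneousIdeal 𝒜 := ⟨P, hh⟩
      haveI : q.toIdeal.IsPrime := hP
      exact GrothLib.GrBass.bassNum_succ_starInj (X := GrLC.GMod.of 𝒜 M ℳ) hM' q 0
    · haveI := hP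
      haveI := GrothLib.GrBass.isPrime_homogeneousCore (𝒜 := 𝒜) P
      refine (GrothLib.GrBass.bassNum_starInj_nonhom (X := GrLC.GMod.of 𝒜 M ℳ) hM' P hh).1.trans ?_
      by_contra hne
      exact hcon ⟨P, hP, hh, (GrothLib.GrBass.bassNum_zero_ne_zero_iff _).1 hne⟩
  · rintro ⟨P, hP, hh, hass⟩ hinj
    haveI := GrothLib.GrBass.isPrime_homogeneousCore (𝒜 := 𝒜) P
    refine (GrothLib.GrBass.bassNum_zero_ne_zero_iff _).2 hass ?_
    refine (GrothLib.GrBass.bassNum_starInj_nonhom (X := GrLC.GMod.of 𝒜 M ℳ) hM' P hh).1.symm.trans ?_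
    rw [Module.injective_iff_injective_object] at hinj
    rw [GrothLib.GrBass.bassNum_eq_zero_iff]
    haveI : CategoryTheory.Injective (ModuleCat.of R (GrLC.GMod.of 𝒜 M ℳ).carrier) := hinj
    exact fun e => ⟨1, by rw [CategoryTheory.Abelian.Ext.eq_zero_of_injective e, smul_zero]⟩

end Groth.Agent.S18635
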