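import Groth.Statements.S18636
import Groth.Agent.Lib.GrBass.Main
import Groth.Agent.Lib.GrLC.CoreHeight

set_option autoImplicit false
universe u
open GrLC

namespace Groth.Agent.S18636

/-- Let R be a commutative Noetherian ℤ-graded ring, M a graded R-module (not necessarily finitely
generated) and p a prime ideal of R which is not graded; write p* for the largest graded ideal
contained in p (a graded prime). Then μ_0(p, M) = 0 and μ_{i+1}(p, M) = μ_i(p*, M) for every i ≥ 0.
(Bass numbers μ_i(q, M) are taken as the k(q)-dimension of Ext^i over R_q of k(q) into M_q, as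
extended natural numbers; the published text also recalls their description as multiplicities in a
minimal injective resolution, and the two agree over a Noetherian ring.) -/
theorem result (R : Type u) [CommRing R] [IsNoetherianRing R] (𝒜 : ℤ → AddSubgroup R) [GradedRing 𝒜] (M : Type u) [AddCommGroup M] [Module R M] (ℳ : ℤ → AddSubgroup M) [DirectSum.Decomposition ℳ] [SetLike.GradedSMul 𝒜 ℳ] (p : Ideal R) [p.IsPrime] (hp : ¬ Ideal.IsHomogeneous 𝒜 p) [(Ideal.homogeneousCore 𝒜 p).toIdeal.IsPrime] : GrLC.bassNum p M 0 = 0 ∧ ∀ i : ℕ, GrLC.bassNum p M (i + 1) = GrLC.bassNum (Ideal.homogeneousCore 𝒜 p).toIdeal M i := by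
  have hle := Ideal.toIdeal_homogeneousCore_le 𝒜 p
  have hlt : (Ideal.homogeneousCore 𝒜 p).toIdeal < p :=
    lt_of_le_of_ne hle fun h => hp (h ▸ HomogeneousIdeal.isHomogeneous _)
  let π := Ideal.Quotient.mk (Ideal.homogeneousCore 𝒜 p).toIdeal
  haveI hP' : (p.map π).IsPrime := Ideal.map_isPrime_of_surjective Ideal.Quotient.mk_surjective
    (by rw [Ideal.mk_ker]; exact hle)
  have hcomap : (p.map π).comap π = p := by
    rw [Ideal.comap_map_of_surjective _ Ideal.Quotient.mk_surjective, ← RingHom.ker_eq_comap_bot, Ideal.mk_ker,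
      sup_eq_left.2 hle]
  have hd : (p.map π).height = (1 : ℕ) := by
    refine le_antisymm (Ideal.height_le_iff.2 fun Q hQ hQlt => ?_) ?_
    swap
    · rw [Nat.cast_one, Order.one_le_iff_pos, pos_iff_ne_zero]
      intro h0
      refine hlt.not_ge fun x hx => ?_
      have h2 := Ideal.mem_minimalPrimes_of_height_eq (I := (⊥ : Ideal (R ⧸ (Ideal.homogeneousCore 𝒜 p).toIdeal)))
        (J := p.map π) bot_le (by rw [h0]; simp)
      have h3 := h2.2 ⟨Ideal.isPrime_bot, le_rfl⟩ bot_le
      exact Ideal.Quotient.eq_zero_iff_mem.1 ((Submodule.mem_bot _).1 (h3 (Ideal.mem_map_of_mem π hx)))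
    have hQc : (Ideal.comap π Q) < p := hcomap ▸ Ideal.comap_mono hQlt.le |>.lt_of_ne fun h =>
      hQlt.ne (Ideal.comap_injective_of_surjective π Ideal.Quotient.mk_surjective (h.trans hcomap.symm))
    have hcQ : (Ideal.homogeneousCore 𝒜 p).toIdeal ≤ Ideal.comap π Q := fun x hx => by
      rw [Ideal.mem_comap, Ideal.Quotient.eq_zero_iff_mem.2 hx]; exact zero_mem _
    haveI : (Ideal.comap π Q).IsPrime := Ideal.IsPrime.comap _
    rcases GrothLib.GrLC.eq_core_or_eq (P := p) hcQ hQc.le with h | h
    · have hQ0 : Q = ⊥ := by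
        refine Ideal.comap_injective_of_surjective π Ideal.Quotient.mk_surjective ?_
        rw [h, ← RingHom.ker_eq_comap_bot, Ideal.mk_ker]
      rw [hQ0, Ideal.height_bot, Nat.cast_one]
      exact zero_lt_one
    · exact absurd h hQc.ne
  obtain ⟨h1, h2⟩ := GrothLib.GrBass.bassNum_shift (q := Ideal.homogeneousCore 𝒜 p) (GrLC.GMod.of 𝒜 M ℳ) p
    (GrothLib.GrBass.over_core p) hd
  refine ⟨h1 0 one_pos, fun i => ?_⟩
  have h := h2 (i + 1) (by omega)
  rw [Nat.add_sub_cancel] at h
  exact h

end Groth.Agent.S18636
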