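import Groth.Statements.S1864
import Groth.Agent.Lib.GrpSchField.Components
import Groth.Agent.Lib.GrpSchField.Pts
import Groth.Agent.Lib.GrpSchField.AffineOfOpen
import Mathlib.AlgebraicGeometry.AlgClosed.Basic
-- import your own Groth.Agent.* helpers here

set_option autoImplicit false
universe u v
open CategoryTheory MonoidalCategory CartesianMonoidalCategory MonObj GrpObj AlgebraicGeometry
open GrpSch

namespace Groth.Agent.S1864

/-- Let G be a group scheme locally of finite type over an algebraically closed field and g₁, …, g_n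
finitely many closed points of G. Then some affine open of G contains all the g_i. -/
theorem result (K : Type u) [Field K] [IsAlgClosed K] (G : Over (Spec (CommRingCat.of K))) [GrpObj G] [LocallyOfFiniteType G.hom] (n : ℕ) (g : Fin n → G.left) (hg : ∀ i, IsClosed ({g i} : Set G.left)) : ∃ U : G.left.Opens, IsAffineOpen U ∧ ∀ i, g i ∈ U := by
  classical
  haveI : IsLocallyNoetherian G.left := LocallyOfFiniteType.isLocallyNoetherian G.hom
  haveI : JacobsonSpace G.left := LocallyOfFiniteType.jacobsonSpace G.hom
  let pt : Fin n → (𝟙_ (Over (Spec (CommRingCat.of K))) ⟶ G) := fun i =>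
    Over.homMk (pointOfClosedPoint G.hom (g i) (hg i)) (pointOfClosedPoint_comp G.hom (g i) (hg i))
  let cp : ↥(Spec (CommRingCat.of K)) := IsLocalRing.closedPoint K
  let e₀ : G.left := η[G].left cp
  let C₀ : Set G.left := connectedComponent e₀
  let L : Fin n → (G ⟶ G) := fun i => (toUnit G ≫ pt i) * 𝟙 G
  have hLiso : ∀ i, IsIso (L i).left := fun i => by
    have : IsIso (L i) := ⟨(toUnit G ≫ pt i)⁻¹ * 𝟙 G, by
      simp only [L, MonObj.comp_mul, GrpObj.comp_inv, Category.comp_id, ← Category.assoc, comp_toUnit,
        inv_mul_cancel_left], by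
      simp only [L, MonObj.comp_mul, Category.comp_id, ← Category.assoc, comp_toUnit, mul_inv_cancel_left]⟩
    exact GrothLib.GrpSchField.isIso_left _
  have hLe : ∀ i, (L i).left e₀ = g i := fun i => by
    have : η[G] ≫ L i = pt i := by
      simp only [L, MonObj.comp_mul, Category.comp_id, ← Category.assoc, comp_toUnit]
      rw [toUnit_unit, Category.id_comp]
      exact (congrArg (pt i * ·) (Hom.one_def (M := G) (X := 𝟙_ _)).symm).trans (by simp)
    show (η[G].left ≫ (L i).left) cp = g i
    rw [← Over.comp_left, this]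
    exact pointOfClosedPoint_apply G.hom (g i) (hg i) _
  have hCeq : ∀ i, (L i).left '' C₀ = connectedComponent (g i) := fun i => by
    haveI := hLiso i
    rw [← hLe i]
    refine Set.Subset.antisymm ((L i).left.continuous.image_connectedComponent_subset e₀) fun y hy => ?_
    refine ⟨(L i).left.homeomorph.symm y, ?_, (L i).left.homeomorph.apply_symm_apply y⟩
    have := (L i).left.homeomorph.symm.continuous.image_connectedComponent_subset _ ⟨y, hy, rfl⟩
    exact (congrArg connectedComponent ((L i).left.homeomorph.symm_apply_apply e₀)).subset this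
  have hopen : ∀ x : G.left, IsOpen (connectedComponent x) := fun x => by
    rw [GrothLib.GrpSchField.connectedComponent_eq_irreducibleComponent]
    exact GrothLib.GrpSchField.isOpen_of_mem_irreducibleComponents G (irreducibleComponent_mem_irreducibleComponents x)
  let comps : Finset (Set G.left) := Finset.univ.image fun i => connectedComponent (g i)
  have haff : ∀ C : Set G.left, ∃ U : G.left.Opens, IsAffineOpen U ∧ (U : Set G.left) ⊆ C ∧
      (∀ x, C = connectedComponent x → (U : Set G.left).Nonempty) := fun C => by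
    by_cases h : ∃ x, C = connectedComponent x
    · obtain ⟨x, rfl⟩ := h
      obtain ⟨_, ⟨U, hU, rfl⟩, hxU, hUC⟩ := G.left.isBasis_affineOpens.exists_subset_of_mem_open
        (mem_connectedComponent (x := x)) (hopen x)
      exact ⟨U, hU, hUC, fun _ _ => ⟨x, hxU⟩⟩
    · exact ⟨⊥, isAffineOpen_bot _, by simp, fun x hx => absurd ⟨x, hx⟩ h⟩
  choose W hWa hWs hWn using haff
  have hsup : ∀ t : Finset (Set G.left), (∀ C ∈ t, ∃ i, C = connectedComponent (g i)) → IsAffineOpen (t.sup W) := by
    intro t
    induction t using Finset.induction_on with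
    | empty => intro _; rw [Finset.sup_empty]; exact isAffineOpen_bot _
    | insert C t hC ih =>
      intro ht
      rw [Finset.sup_insert]
      refine (hWa C).sup_of_disjoint (ih fun D hD => ht D (Finset.mem_insert_of_mem hD)) ?_
      rw [disjoint_iff]
      refine TopologicalSpace.Opens.ext (Set.eq_empty_of_forall_notMem ?_)
      rintro x ⟨hx, hx'⟩
      rw [Finset.sup_eq_iSup] at hx'
      simp only [SetLike.mem_coe, TopologicalSpace.Opens.mem_iSup] at hx'
      obtain ⟨D, hD, hxD⟩ := hx'
      obtain ⟨i, rfl⟩ := ht C (Finset.mem_insert_self _ _)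
      obtain ⟨j, rfl⟩ := ht D (Finset.mem_insert_of_mem hD)
      refine hC ?_
      rw [connectedComponent_eq (hWs _ hx), ← connectedComponent_eq (hWs _ hxD)]
      exact hD
  let U := comps.sup W
  have hU : IsAffineOpen U := hsup comps fun C hC => by
    obtain ⟨i, -, rfl⟩ := Finset.mem_image.1 hC
    exact ⟨i, rfl⟩
  have hirr : IsPreirreducible C₀ := by
    show IsPreirreducible (connectedComponent e₀)
    rw [GrothLib.GrpSchField.connectedComponent_eq_irreducibleComponent]
    exact isIrreducible_irreducibleComponent.2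
  have hne : ∀ i, (C₀ ∩ (L i).left ⁻¹' (U : Set G.left)).Nonempty := fun i => by
    have hm : connectedComponent (g i) ∈ comps := Finset.mem_image.2 ⟨i, Finset.mem_univ _, rfl⟩
    obtain ⟨y, hy⟩ := hWn _ (g i) rfl
    obtain ⟨x, hx, rfl⟩ : y ∈ (L i).left '' C₀ := hCeq i ▸ hWs _ hy
    exact ⟨x, hx, (Finset.le_sup (f := W) hm : W _ ≤ U) hy⟩
  have hinter : ∀ t : Finset (Fin n), (C₀ ∩ ⋂ i ∈ t, (L i).left ⁻¹' (U : Set G.left)).Nonempty := by
    intro t
    induction t using Finset.induction_on with
    | empty => exact ⟨e₀, mem_connectedComponent, by simp⟩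
    | insert i t _ ih =>
      obtain ⟨x, hx⟩ := hirr _ _ (U.2.preimage (L i).left.continuous)
        (t.finite_toSet.isOpen_biInter fun j _ => U.2.preimage (L j).left.continuous) (hne i) ih
      refine ⟨x, hx.1, ?_⟩
      rw [Finset.set_biInter_insert]
      exact hx.2
  obtain ⟨x, hx, hxc⟩ := nonempty_inter_closedPoints (hinter Finset.univ)
    ((hopen e₀).inter (isOpen_biInter_finset fun j _ => U.2.preimage (L j).left.continuous)).isLocallyClosed
  let px : 𝟙_ (Over (Spec (CommRingCat.of K))) ⟶ G :=
    Over.homMk (pointOfClosedPoint G.hom x hxc) (pointOfClosedPoint_comp G.hom x hxc)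
  let R : G ⟶ G := 𝟙 G * (toUnit G ≫ px)
  haveI : IsIso R := ⟨𝟙 G * (toUnit G ≫ px)⁻¹, by
      simp only [R, MonObj.comp_mul, GrpObj.comp_inv, Category.comp_id, ← Category.assoc, comp_toUnit,
        mul_inv_cancel_right], by
      simp only [R, MonObj.comp_mul, Category.comp_id, ← Category.assoc, comp_toUnit, inv_mul_cancel_right]⟩
  haveI : IsIso R.left := GrothLib.GrpSchField.isIso_left _
  refine ⟨R.left ⁻¹ᵁ U, hU.preimage_of_isIso R.left, fun i => ?_⟩
  show R.left (g i) ∈ U
  have hval : pt i ≫ R = px ≫ L i := by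
    simp only [R, L, MonObj.comp_mul, Category.comp_id, ← Category.assoc]
    rw [toUnit_unique (pt i ≫ toUnit G) (𝟙 _), toUnit_unique (px ≫ toUnit G) (𝟙 _), Category.id_comp,
      Category.id_comp]
  have h1 : R.left (g i) = (pt i ≫ R).left cp :=
    congrArg R.left (pointOfClosedPoint_apply G.hom (g i) (hg i) cp).symm
  rw [h1, hval]
  show (L i).left (px.left cp) ∈ U
  rw [show px.left cp = x from pointOfClosedPoint_apply G.hom x hxc cp]
  exact Set.mem_iInter₂.1 hx.2 i (Finset.mem_univ i)


end Groth.Agent.S1864
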