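import Groth.Statements.S18642
import Groth.Agent.Lib.GrLC.VerPair
-- import your own Groth.Agent.* helpers here

set_option autoImplicit false
universe u
open GrLC

namespace Groth.Agent.S18642

/-- Let R be a graded ring defined over a field which is Cohen–Macaulay and generated over R_0 by R_1,
with dim R ≥ 2, and let q ≥ 1. If the Veronese subring R^(q) is a Gorenstein ring, then R is a
Gorenstein ring and q divides the a-invariant a(R). Here 'graded ring defined over a field' means R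
= ⊕_{n ≥ 0} R_n is Noetherian with R_0 a field, and m = R_+ is its unique graded maximal ideal. The
a-invariant a(R) is the largest degree in which the graded local cohomology H^n_m(R) (n = dim R, m =
R_+), computed from a *injective resolution of R in the graded category, is nonzero. The Veronese
subring R^(q) = ⊕_j R_{jq}, regraded by (R^(q))_j = R_{jq}, is presented abstractly as a ℤ-graded
ring R' with an injective ring homomorphism φ : R' → R carrying R'_j onto R_{jq} for every j. -/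
theorem result (R : Type u) [CommRing R] [LocCoh.IsCohenMacaulayRing R] (𝒜 : ℤ → AddSubgroup R) [GradedRing 𝒜] (hpos : ∀ n : ℤ, n < 0 → 𝒜 n = ⊥) (h0 : IsField (GrLC.deg0 𝒜)) (m : HomogeneousIdeal 𝒜) (hm : GrLC.IsStarLocal 𝒜 m) (hmsp : m.toIdeal = Ideal.span (⋃ n ∈ Set.Ioi (0 : ℤ), (𝒜 n : Set R))) (hstd : Ideal.span (⋃ n ∈ Set.Ioi (0 : ℤ), (𝒜 n : Set R)) = Ideal.span ((𝒜 1 : AddSubgroup R) : Set R)) (n : ℕ) (hn : ringKrullDim R = n) (h2 : 2 ≤ n) (I : GrLC.StarInjRes 𝒜 𝒜) (q : ℕ) (hq : 0 < q) (R' : Type u) [CommRing R'] (𝒜' : ℤ → AddSubgroup R') [GradedRing 𝒜'] (φ : R' →+* R) (hφ : Function.Injective φ) (hdeg : ∀ j : ℤ, (𝒜' j).map (φ : R' →+ R) = 𝒜 (j * q)) [LocCoh.IsGorensteinRing R'] : LocCoh.IsGorensteinRing R ∧ ∃ a : ℤ, GrLC.endDeg (I.Hgr m n) = ((a : WithTop ℤ) : WithBot (WithTop ℤ)) ∧ (q : ℤ) ∣ a := by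
  haveI : Nontrivial R := not_subsingleton_iff_nontrivial.1 fun h => by
    rw [ringKrullDim_eq_bot_of_subsingleton] at hn; exact WithBot.bot_ne_coe hn
  obtain ⟨P⟩ := GrothLib.GrLC.Ver.nonempty_canonPair hpos h0 hm hmsp hn I hq hdeg hφ
  haveI := P.cm
  obtain ⟨c, h, hh, hhd⟩ := (GrothLib.GrLC.isGorensteinRing_iff_exists_shift P.hpos' P.h0' P.hm'
    (GrothLib.GrLC.irr_of_span GrothLib.GrLC.Ver.irrel_toIdeal) P.hn' P.he' P.hC').1 inferInstance
  obtain ⟨f, hf, hfd⟩ :=
    GrothLib.GrLC.Ver.shift_of_veronese_shift hpos h0 hm hmsp hstd hn P.he P.hC hq hdeg hφ P.v hh hhd h2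
  exact ⟨(GrothLib.GrLC.isGorensteinRing_iff_exists_shift (GrothLib.GrLC.pos_of_bot hpos) h0 hm
      (GrothLib.GrLC.irr_of_span hmsp) hn P.he P.hC).2 ⟨_, f, hf, hfd⟩,
    _, GrothLib.GrLC.Ver.endDeg_eq_neg_of_shift hpos h0 hmsp P.he P.hC hf hfd, dvd_neg.2 (dvd_mul_left _ _)⟩

end Groth.Agent.S18642
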