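import Groth.Statements.S18643
import Groth.Agent.Lib.GrLC.VerPair
import Groth.Agent.S18641
import Groth.Agent.S18642
import Groth.Agent.S18672
-- import your own Groth.Agent.* helpers here

set_option autoImplicit false
universe u
open GrLC

namespace Groth.Agent.S18643

open GrothLib.GrLC (cmp cmp_mem cmp_of_mem cmp_smul_mem smul_mem') in
/-- In dimension one, two degree-one elements force the shift to be a multiple of `q`. -/
theorem dvd_of_dim_one (R : Type u) [CommRing R] [LocCoh.IsGorensteinRing R] (𝒜 : ℤ → AddSubgroup R) [GradedRing 𝒜]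
    (hpos : ∀ n : ℤ, n < 0 → 𝒜 n = ⊥) (h0 : IsField (GrLC.deg0 𝒜)) (m : HomogeneousIdeal 𝒜)
    (hm : GrLC.IsStarLocal 𝒜 m) (hmsp : m.toIdeal = Ideal.span (⋃ n ∈ Set.Ioi (0 : ℤ), (𝒜 n : Set R)))
    (hstd : Ideal.span (⋃ n ∈ Set.Ioi (0 : ℤ), (𝒜 n : Set R)) = Ideal.span ((𝒜 1 : AddSubgroup R) : Set R))
    (hR1 : 2 ≤ Module.finrank (GrLC.deg0 𝒜) (GrLC.comp 𝒜 𝒜 1)) (hn : ringKrullDim R = (1 : ℕ))
    (I : GrLC.StarInjRes 𝒜 𝒜) (a : ℤ) (ha : GrLC.endDeg (I.Hgr m 1) = ((a : WithTop ℤ) : WithBot (WithTop ℤ)))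
    (q : ℕ) (hq : 0 < q) (R' : Type u) [CommRing R'] (𝒜' : ℤ → AddSubgroup R') [GradedRing 𝒜'] (φ : R' →+* R)
    (hφ : Function.Injective φ) (hdeg : ∀ j : ℤ, (𝒜' j).map (φ : R' →+ R) = 𝒜 (j * q))
    [LocCoh.IsGorensteinRing R'] : (q : ℤ) ∣ a := by
  classical
  haveI := GrothLib.Gor.isCohenMacaulayRing R
  haveI : Nontrivial R := not_subsingleton_iff_nontrivial.1 fun h => by
    rw [ringKrullDim_eq_bot_of_subsingleton] at hn; exact WithBot.bot_ne_coe hn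
  obtain ⟨P⟩ := GrothLib.GrLC.Ver.nonempty_canonPair hpos h0 hm hmsp hn I hq hdeg hφ
  haveI := P.cm
  obtain ⟨c', h, hh, hhd⟩ := (GrothLib.GrLC.isGorensteinRing_iff_exists_shift P.hpos' P.h0' P.hm'
    (GrothLib.GrLC.irr_of_span GrothLib.GrLC.Ver.irrel_toIdeal) P.hn' P.he' P.hC').1 inferInstance
  obtain ⟨c, f, hf, hfd⟩ := (GrothLib.GrLC.isGorensteinRing_iff_exists_shift (GrothLib.GrLC.pos_of_bot hpos) h0 hm
    (GrothLib.GrLC.irr_of_span hmsp) hn P.he P.hC).1 inferInstance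
  have hc := GrothLib.GrLC.Ver.endDeg_eq_neg_of_shift hpos h0 hmsp P.he P.hC hf hfd
  rw [ha, WithBot.coe_inj, WithTop.coe_inj] at hc
  subst hc
  have hkill : ∀ (r : R) (N : ℕ), (∀ z ∈ m.toIdeal ^ N, z * r = 0) → r = 0 := fun r N hr => hf.1 ((GrothLib.GrLC.Ver.eq_zero_of_pow_kills
    hpos hm hn P.he P.hC le_rfl (N := N) fun z hz => by
      rw [← map_smul, smul_eq_mul, hr z hz, map_zero]).trans (map_zero f).symm)
  have hne : ∀ {i : ℤ}, 0 ≤ i → ∃ r ∈ 𝒜 i, r ≠ 0 := fun hi =>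
    GrothLib.GrLC.Ver.exists_mem_ne_zero hpos h0 hm hmsp hstd hn le_rfl hi
  have hf1 : ∀ r, f r = r • f 1 := fun r => by rw [← map_smul, smul_eq_mul, mul_one]
  have hfdeg : ∀ i, ∀ r : R, f (cmp 𝒜 i r) = cmp P.C.gr (i + c) (f r) := fun i r => by
    rw [hf1, hf1 r,
      cmp_smul_mem (𝒜 := 𝒜) P.C.gr _ (show f 1 ∈ P.C.gr c by simpa using hfd 0 1 SetLike.GradedOne.one_mem),
      add_sub_cancel_right]
  have hgen' : h 1 ∈ P.C'.gr c' := by simpa using hhd 0 1 SetLike.GradedOne.one_mem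
  obtain ⟨s, hs⟩ := hf.2 (P.v.f (h 1))
  let d : ℤ := c' * q - c
  have hsd : cmp 𝒜 d s = s := hf.1 (by rw [hfdeg, sub_add_cancel, hs, cmp_of_mem _ (P.v.hom _ _ hgen')])
  have hs0 : s ≠ 0 := fun h0s => by
    haveI : Nontrivial R' := φ.domain_nontrivial
    rw [h0s, map_zero] at hs
    exact one_ne_zero (hh.1 (P.v.inj (hs.symm.trans (map_zero P.v.f).symm) |>.trans (map_zero h).symm))
  have hd0 : 0 ≤ d := by
    by_contra hlt
    refine hs0 ?_
    have := cmp_mem 𝒜 d s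
    rw [hsd, hpos d (by omega)] at this
    exact this
  have hdq : d < q := by
    by_contra hge
    obtain ⟨r, hr, hr0⟩ := hne (show (0 : ℤ) ≤ d - q by omega)
    obtain ⟨y', hy', hy⟩ := P.v.onto (c' - 1) (f r) (by
      have := hfd _ r hr
      rwa [show d - q + c = (c' - 1) * q by simp only [d]; ring] at this)
    obtain ⟨r', hr'⟩ := hh.2 y'
    have h1 : P.v.f y' = 0 := by
      have h2 := congrArg (cmp P.C'.gr (c' - 1)) hr'
      rw [show r' = r' • (1 : R') by rw [smul_eq_mul, mul_one], map_smul,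
        cmp_smul_mem (𝒜 := 𝒜') P.C'.gr _ hgen', cmp_of_mem _ hy',
        P.hpos' (c' - 1 - c') (by omega) _ (cmp_mem 𝒜' _ r'), zero_smul] at h2
      rw [← h2, map_zero]
    exact hr0 (hf.1 ((hy.symm.trans h1).trans (map_zero f).symm))
  have hone : ∀ r ∈ 𝒜 d, ∃ k ∈ 𝒜 0, r = k * s := fun r hr => by
    obtain ⟨y', hy', hy⟩ := P.v.onto c' (f r) (by
      have := hfd _ r hr
      rwa [sub_add_cancel] at this)
    obtain ⟨r', hr'⟩ := hh.2 y'
    refine ⟨cmp 𝒜 0 (φ r'), cmp_mem 𝒜 0 _, hf.1 ?_⟩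
    have h2 := congrArg (fun z => cmp P.C.gr (c' * q) (P.v.f z)) hr'
    rw [show r' = r' • (1 : R') by rw [smul_eq_mul, mul_one], map_smul, P.v.smul, hy,
      cmp_smul_mem (𝒜 := 𝒜) P.C.gr _ (P.v.hom _ _ hgen'), sub_self, ← hs, ← map_smul, smul_eq_mul] at h2
    rw [h2, ← hy, cmp_of_mem _ (P.v.hom _ _ hy')]
  rcases hd0.eq_or_lt with hd | hd
  · exact ⟨-c', by simp only [d] at hd; rw [mul_neg, mul_comm]; omega⟩
  exfalso
  -- some element of degree one kills no element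
  obtain ⟨p, hp⟩ : ∃ p : ℕ, (p : ℤ) = d - 1 := ⟨(d - 1).toNat, by omega⟩
  have hspan : ∀ z ∈ 𝒜 d, z ∈ AddSubgroup.closure {w | ∃ x ∈ 𝒜 1, ∃ y ∈ 𝒜 (p : ℤ), w = x * y} := fun z hz => by
    have := Groth.Agent.S18672.mem_closure_mul 𝒜 hstd 1 p (by omega) z (by
      rwa [show (p : ℤ) + ((1 : ℕ) : ℤ) = d by omega])
    rwa [Nat.cast_one] at this
  obtain ⟨a₁, ha₁, y, hy, hay⟩ : ∃ a₁ ∈ 𝒜 1, ∃ y ∈ 𝒜 (p : ℤ), a₁ * y ≠ 0 := by
    by_contra hcon
    push Not at hcon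
    refine hs0 ?_
    have h1 := hspan _ (cmp_mem 𝒜 d s)
    rw [hsd] at h1
    clear * - h1 hcon
    induction h1 using AddSubgroup.closure_induction with
    | mem w hw => obtain ⟨x, hx, y, hy, rfl⟩ := hw; exact hcon x hx y hy
    | zero => rfl
    | add u v _ _ hu hv => rw [hu, hv, add_zero]
    | neg u _ hu => rw [hu, neg_zero]
  obtain ⟨k, hk, hk'⟩ := hone _ (show a₁ * y ∈ 𝒜 d by
    have := SetLike.mul_mem_graded ha₁ hy
    rwa [show 1 + (p : ℤ) = d by omega] at this)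
  have hk0 : (⟨k, hk⟩ : GrLC.deg0 𝒜) ≠ 0 := fun e => hay (by
    rw [hk', show k = 0 from congrArg Subtype.val e, zero_mul])
  obtain ⟨k', hk''⟩ := h0.mul_inv_cancel hk0
  have hdiv : ∀ r ∈ 𝒜 d, a₁ ∣ r := fun r hr => by
    obtain ⟨l, hl, rfl⟩ := hone r hr
    refine Dvd.dvd.mul_left ⟨(k' : R) * y, ?_⟩ l
    rw [mul_left_comm, hk', ← mul_assoc, mul_comm (k' : R) k, show k * (k' : R) = 1 from congrArg Subtype.val hk'',
      one_mul]
  have hreg : ∀ r : R, a₁ * r = 0 → r = 0 := fun r hr => by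
    obtain ⟨N, hN⟩ := GrothLib.GrLC.Ver.exists_pow_le hmsp hstd (J := (⊥ : Submodule R R).colon {r}) fun b hb => by
      refine ⟨p + 1, Submodule.mem_colon_singleton.2 ((Submodule.mem_bot R).2 ?_)⟩
      obtain ⟨w, hw⟩ := hdiv (b ^ (p + 1)) (by
        have := SetLike.pow_mem_graded (p + 1) hb
        rwa [show (p + 1) • (1 : ℤ) = d by rw [nsmul_eq_mul, mul_one]; push_cast; omega] at this)
      rw [smul_eq_mul, hw, mul_right_comm, hr, zero_mul]
    exact hkill r N fun z hz => (Submodule.mem_bot R).1 (Submodule.mem_colon_singleton.1 (hN hz))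
  -- multiplication by a power of it embeds degree one into degree `d`
  obtain ⟨u, v, huv⟩ : ∃ u v : GrLC.comp 𝒜 𝒜 1, LinearIndependent (GrLC.deg0 𝒜) ![u, v] := by
    letI : Field (GrLC.deg0 𝒜) := h0.toField
    haveI : Module.Finite (GrLC.deg0 𝒜) (GrLC.comp 𝒜 𝒜 1) := Module.finite_of_finrank_pos (by omega)
    let b := Module.finBasis (GrLC.deg0 𝒜) (GrLC.comp 𝒜 𝒜 1)
    have h2 := b.linearIndependent.comp ![⟨0, by omega⟩, ⟨1, by omega⟩] (by
      intro i j; fin_cases i <;> fin_cases j <;> simp)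
    refine ⟨b ⟨0, by omega⟩, b ⟨1, by omega⟩, ?_⟩
    have e : ![b ⟨0, by omega⟩, b ⟨1, by omega⟩] = ⇑b ∘ ![⟨0, by omega⟩, ⟨1, by omega⟩] := by
      funext i; fin_cases i <;> rfl
    rw [e]
    exact h2
  have hmem : ∀ w : GrLC.comp 𝒜 𝒜 1, ∃ l ∈ 𝒜 0, a₁ ^ p * (w : R) = l * s := fun w => hone _ (by
    have := SetLike.mul_mem_graded (SetLike.pow_mem_graded p ha₁) w.2
    rwa [show p • (1 : ℤ) + 1 = d by rw [nsmul_eq_mul, mul_one]; omega] at this)
  obtain ⟨l₁, hl₁, e₁⟩ := hmem u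
  obtain ⟨l₂, hl₂, e₂⟩ := hmem v
  have hzero : ∀ r : R, a₁ ^ p * r = 0 → r = 0 := by
    clear hmem e₁ e₂ hspan hy hk' hp
    intro r hr
    induction p with
    | zero => rwa [pow_zero, one_mul] at hr
    | succ p ih => exact ih (hreg _ (by rwa [← mul_assoc, ← pow_succ']))
  have hrel := LinearIndependent.pair_iff.1 huv ⟨l₂, hl₂⟩ (-⟨l₁, hl₁⟩) (Subtype.ext (hzero _ (by
    change a₁ ^ p * (l₂ * (u : R) + -l₁ * (v : R)) = 0
    linear_combination l₂ * e₁ - l₁ * e₂)))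
  have hu0 : (u : R) = 0 := hzero _ (by
    rw [e₁, show l₁ = 0 from neg_eq_zero.1 (congrArg Subtype.val hrel.2), zero_mul])
  exact huv.ne_zero 0 (Subtype.ext hu0)

/-- Let R be a graded ring defined over a field k = R_0 which is Gorenstein and generated over k by R_1,
with dim R ≥ 1 and dim_k R_1 ≥ 2, and let q ≥ 1. Then the Veronese subring R^(q) is a Gorenstein
ring if and only if q divides the a-invariant a(R). Here 'graded ring defined over a field' means R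
= ⊕_{n ≥ 0} R_n is Noetherian with R_0 a field, and m = R_+ is its unique graded maximal ideal. The
a-invariant a(R) is the largest degree in which the graded local cohomology H^n_m(R) (n = dim R, m =
R_+), computed from a *injective resolution of R in the graded category, is nonzero. The Veronese
subring R^(q) = ⊕_j R_{jq}, regraded by (R^(q))_j = R_{jq}, is presented abstractly as a ℤ-graded
ring R' with an injective ring homomorphism φ : R' → R carrying R'_j onto R_{jq} for every j. -/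
theorem result (R : Type u) [CommRing R] [LocCoh.IsGorensteinRing R] (𝒜 : ℤ → AddSubgroup R) [GradedRing 𝒜] (hpos : ∀ n : ℤ, n < 0 → 𝒜 n = ⊥) (h0 : IsField (GrLC.deg0 𝒜)) (m : HomogeneousIdeal 𝒜) (hm : GrLC.IsStarLocal 𝒜 m) (hmsp : m.toIdeal = Ideal.span (⋃ n ∈ Set.Ioi (0 : ℤ), (𝒜 n : Set R))) (hstd : Ideal.span (⋃ n ∈ Set.Ioi (0 : ℤ), (𝒜 n : Set R)) = Ideal.span ((𝒜 1 : AddSubgroup R) : Set R)) (hR1 : 2 ≤ Module.finrank (GrLC.deg0 𝒜) (GrLC.comp 𝒜 𝒜 1)) (n : ℕ) (hn : ringKrullDim R = n) (h1 : 1 ≤ n) (I : GrLC.StarInjRes 𝒜 𝒜) (a : ℤ) (ha : GrLC.endDeg (I.Hgr m n) = ((a : WithTop ℤ) : WithBot (WithTop ℤ))) (q : ℕ) (hq : 0 < q) (R' : Type u) [CommRing R'] (𝒜' : ℤ → AddSubgroup R') [GradedRing 𝒜'] (φ : R' →+* R) (hφ : Function.Injective φ) (hdeg : ∀ j : ℤ, (𝒜' j).map (φ : R' →+ R) = 𝒜 (j * q)) : LocCoh.IsGorensteinRing R' ↔ (q : ℤ) ∣ a := by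
  refine ⟨fun hG => ?_, Groth.Agent.S18641.result R 𝒜 hpos h0 m hm hmsp n hn I a ha q hq R' 𝒜' φ hφ hdeg⟩
  haveI := GrothLib.Gor.isCohenMacaulayRing R
  rcases (show n = 1 ∨ 2 ≤ n by omega) with rfl | h2
  · exact dvd_of_dim_one R 𝒜 hpos h0 m hm hmsp hstd hR1 hn I a ha q hq R' 𝒜' φ hφ hdeg
  · obtain ⟨-, b, hb, hdvd⟩ := Groth.Agent.S18642.result R 𝒜 hpos h0 m hm hmsp hstd n hn h2 I q hq R' 𝒜' φ hφ hdeg
    rw [ha, WithBot.coe_inj, WithTop.coe_inj] at hb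
    rwa [hb]

end Groth.Agent.S18643
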