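import Groth.Statements.S18644
import Groth.Agent.Lib.GrLC.PolyChar
-- import your own Groth.Agent.* helpers here

set_option autoImplicit false
universe u
open GrLC

namespace Groth.Agent.S18644

/-- Let R be a graded ring defined over a field k = R_0 which is Cohen–Macaulay and generated over k by
R_1, of dimension r. Then a(R) = −r holds exactly when R is isomorphic to the polynomial ring over k
in r variables. Here 'graded ring defined over a field' means R = ⊕_{n ≥ 0} R_n is Noetherian with
R_0 a field, and m = R_+ is its unique graded maximal ideal. The a-invariant a(R) is the largest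
degree in which the graded local cohomology H^n_m(R) (n = dim R, m = R_+), computed from a
*injective resolution of R in the graded category, is nonzero. (The inequality a(R) ≥ −r of the same
lemma is stated separately.) -/
theorem result (R : Type u) [CommRing R] [LocCoh.IsCohenMacaulayRing R] (𝒜 : ℤ → AddSubgroup R) [GradedRing 𝒜] (hpos : ∀ n : ℤ, n < 0 → 𝒜 n = ⊥) (h0 : IsField (GrLC.deg0 𝒜)) (m : HomogeneousIdeal 𝒜) (hm : GrLC.IsStarLocal 𝒜 m) (hmsp : m.toIdeal = Ideal.span (⋃ n ∈ Set.Ioi (0 : ℤ), (𝒜 n : Set R))) (hstd : Ideal.span (⋃ n ∈ Set.Ioi (0 : ℤ), (𝒜 n : Set R)) = Ideal.span ((𝒜 1 : AddSubgroup R) : Set R)) (r : ℕ) (hr : ringKrullDim R = r) (I : GrLC.StarInjRes 𝒜 𝒜) : GrLC.endDeg (I.Hgr m r) = (((-(r : ℤ) : ℤ) : WithTop ℤ) : WithBot (WithTop ℤ)) ↔ Nonempty (R ≃+* MvPolynomial (Fin r) (GrLC.deg0 𝒜)) := by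
  letI : Field (GrLC.deg0 𝒜) := h0.toField
  have hp := GrothLib.GrLC.pos_of_bot hpos
  haveI := GrothLib.GrLC.OverField.finiteType_alg (𝒜 := 𝒜) hp
  have hs := GrothLib.GrLC.OverField.mem_alg 𝒜
  have hpA := GrothLib.GrLC.OverField.hpos_alg hp
  have h0A := GrothLib.GrLC.OverField.zero_alg (𝒜 := 𝒜)
  have hmA := GrothLib.GrLC.OverField.hmsp_alg hmsp
  have hsA := GrothLib.GrLC.OverField.hstd_alg hstd
  constructor
  · intro ha
    obtain ⟨e, -⟩ := GrothLib.GrLC.PolyChar.exists_algEquiv (hpos := hpA) (h0 := h0A) hsA hmA hr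
      (GrothLib.GrLC.OverField.resTo hs I) fun i g h => by
        change I.Hgr m i g = ⊥
        by_cases hi : i = r
        · subst hi
          by_contra hne
          have h1 := GrothLib.GrLC.le_endDeg _ hne
          rw [ha, WithBot.coe_le_coe, WithTop.coe_le_coe] at h1
          have := h rfl
          omega
        · exact (AddSubgroup.eq_bot_iff_forall _).2 fun x hx =>
            GrothLib.GrLC.Ver.EH_eq_zero_of_cm hpos h0 hmsp hr I hi g x ((GrothLib.GrLC.EH_gr_iff I m i g x).1 hx)
    exact ⟨e.symm.toRingEquiv⟩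
  · rintro ⟨e⟩
    haveI : IsRegularRing R := IsRegularRing.of_ringEquiv e.symm
    exact GrothLib.GrLC.PolyChar.endDeg_eq_of_isRegularRing (hpos := hpA) (h0 := h0A) hsA hmA hr
      (GrothLib.GrLC.OverField.resTo hs I)

end Groth.Agent.S18644
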