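import Groth.Statements.S18645
import Groth.Agent.Lib.GrLC.CutTop
import Groth.Agent.Lib.GrLC.CM

set_option autoImplicit false
universe u
open GrLC

namespace Groth.Agent.S18645

theorem zero_notMem_of_isRegular_aux {R : Type*} [CommRing R] {rs : List R}
    (h : RingTheory.Sequence.IsRegular R rs) : (0 : R) ∉ rs := by
  intro h0
  obtain ⟨l₁, l₂, rfl⟩ := List.append_of_mem h0
  have h2 := h.toIsWeaklyRegular
  rw [RingTheory.Sequence.isWeaklyRegular_append_iff, RingTheory.Sequence.isWeaklyRegular_cons_iff] at h2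
  have h3 : IsSMulRegular (R ⧸ (Ideal.ofList l₁ • ⊤ : Submodule R R)) (0 : R) := h2.2.1
  have hsub : Subsingleton (R ⧸ (Ideal.ofList l₁ • ⊤ : Submodule R R)) := ⟨fun a b => h3 (by simp)⟩
  have h1 : (1 : R) ∈ (Ideal.ofList l₁ • ⊤ : Submodule R R) :=
    (Submodule.Quotient.mk_eq_zero _).1 (Subsingleton.elim _ _)
  rw [Ideal.smul_top_eq_map, Algebra.algebraMap_self, Ideal.map_id] at h1
  refine h.top_ne_smul ?_
  rw [eq_comm, eq_top_iff, Ideal.ofList_append, Submodule.sup_smul]
  refine le_trans ?_ le_sup_left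
  rw [Ideal.smul_top_eq_map, Algebra.algebraMap_self, Ideal.map_id]
  exact fun z _ => mul_one z ▸ Submodule.smul_mem _ z h1

/-- Let R be a graded ring defined over a field which is Cohen–Macaulay, of dimension n, and let f_1, …,
f_t be an R-regular sequence of homogeneous elements of positive degrees d_1, …, d_t, with S =
R/(f_1, …, f_t). The canonical module of S is (K_R/(f_1, …, f_t)K_R)(d_1 + ⋯ + d_t); consequently —
this is the form stated here — the a-invariants satisfy a(S) = a(R) + d_1 + ⋯ + d_t, where a(S) is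
the largest nonzero degree of H^{n−t}_m(S) and a(R) that of H^n_m(R), both graded local cohomologies
over R with support in m = R_+ computed from *injective resolutions in the graded category, and S is
presented as a graded R-module N with a degree-preserving surjection π : R → N whose kernel is (f_1,
…, f_t). Here 'graded ring defined over a field' means R = ⊕_{n ≥ 0} R_n is Noetherian with R_0 a
field, and m = R_+ is its unique graded maximal ideal. -/
theorem result (R : Type u) [CommRing R] [LocCoh.IsCohenMacaulayRing R] (𝒜 : ℤ → AddSubgroup R) [GradedRing 𝒜] (hpos : ∀ n : ℤ, n < 0 → 𝒜 n = ⊥) (h0 : IsField (GrLC.deg0 𝒜)) (m : HomogeneousIdeal 𝒜) (hm : GrLC.IsStarLocal 𝒜 m) (hmsp : m.toIdeal = Ideal.span (⋃ n ∈ Set.Ioi (0 : ℤ), (𝒜 n : Set R))) (n : ℕ) (hn : ringKrullDim R = n) (I : GrLC.StarInjRes 𝒜 𝒜) (t : ℕ) (htn : t ≤ n) (f : Fin t → R) (deg : Fin t → ℤ) (hfdeg : ∀ i, f i ∈ 𝒜 (deg i)) (hfm : ∀ i, f i ∈ m.toIdeal) (hreg : RingTheory.Sequence.IsRegular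 R (List.ofFn f)) (N : Type u) [AddCommGroup N] [Module R N] (𝒩 : ℤ → AddSubgroup N) [DirectSum.Decomposition 𝒩] [SetLike.GradedSMul 𝒜 𝒩] (π : R →ₗ[R] N) (hπ : GrLC.IsGrHom 𝒜 𝒩 π) (hπs : Function.Surjective π) (hπk : LinearMap.ker π = Ideal.span (Set.range f)) (F : GrLC.StarInjRes 𝒜 𝒩) : GrLC.endDeg (F.Hgr m (n - t)) = GrLC.endDeg (I.Hgr m n) + ((((Finset.univ : Finset (Fin t)).sum deg : ℤ) : WithTop ℤ) : WithBot (WithTop ℤ)) := by
  have hpos' : ∀ n : ℤ, n < 0 → ∀ r ∈ 𝒜 n, r = 0 := fun j hj r hr => by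
    rw [hpos j hj] at hr; exact hr
  have hd : ∀ i, 0 ≤ deg i := fun i => by
    by_contra hneg
    have h0f : f i = 0 := hpos' (deg i) (not_le.1 hneg) _ (hfdeg i)
    exact zero_notMem_of_isRegular_aux hreg (List.mem_ofFn.2 ⟨i, h0f⟩)
  let xs : List (GrothLib.GrLC.HElt 𝒜) := List.ofFn fun i => ⟨f i, deg i, hfdeg i⟩
  have e1 : xs.map GrothLib.GrLC.HElt.val = List.ofFn f := List.map_ofFn ..
  have e2 : (xs.map GrothLib.GrLC.HElt.deg).sum = (Finset.univ : Finset (Fin t)).sum deg := by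
    rw [show xs.map GrothLib.GrLC.HElt.deg = List.ofFn deg from List.map_ofFn .., List.sum_ofFn]
  have e3 : xs.length = t := List.length_ofFn ..
  have h := GrothLib.GrLC.endDeg_regSeq (ℳ := 𝒜) (𝒩 := 𝒩) I F m xs
    (fun x hx => by
      obtain ⟨i, rfl⟩ := List.mem_ofFn.1 hx
      exact ⟨hfm i, hd i⟩)
    (e1 ▸ hreg.toIsWeaklyRegular) π hπ hπs (by
      rw [e1, hπk, Ideal.smul_top_eq_map, Algebra.algebraMap_self, Ideal.map_id]
      exact congrArg Ideal.span (Set.ext fun z => by simp [List.mem_ofFn]))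
    (n - t) (fun i hi g => GrothLib.GrLC.Hcomp_eq_bot_of_lt_dim hpos' hm hn I (by omega) g)
  rw [e2, e3, Nat.sub_add_cancel htn] at h
  exact h

end Groth.Agent.S18645
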