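import Groth.Statements.S18649
import Groth.Agent.Lib.Segre.GorConverse
import Groth.Agent.Lib.Segre.Dim
import Groth.Agent.Lib.GrLC.Exists
import Groth.Agent.S18648
-- import your own Groth.Agent.* helpers here

set_option autoImplicit false
universe u
open scoped TensorProduct
open GrSegre

namespace Groth.Agent.S18649

open GrothLib.Segre GrothLib.GrLC
open scoped TensorProduct GrothLib.Segre

/-- A canonical module with a one dimensional piece vanishes below it. -/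
theorem eq_zero_below {k R : Type u} [Field k] [CommRing R] [Algebra k R] [Algebra.FiniteType k R]
    [IsNoetherianRing R] [Nontrivial R] {𝒜 : ℤ → Submodule k R} [GradedAlgebra 𝒜]
    (hpos : ∀ n : ℤ, n < 0 → 𝒜 n = ⊥) (h0 : 𝒜 0 = Submodule.span k {(1 : R)}) {m : HomogeneousIdeal 𝒜}
    (hm : m.toIdeal = Ideal.span (⋃ n ∈ Set.Ioi (0 : ℤ), (𝒜 n : Set R)))
    (hstd : Ideal.span (⋃ n ∈ Set.Ioi (0 : ℤ), (𝒜 n : Set R)) = Ideal.span ((𝒜 1 : Submodule k R) : Set R))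
    {n : ℕ} (hn : ringKrullDim R = n) (h2 : 2 ≤ n) {I : GrLC.StarInjRes 𝒜 𝒜} {E C : GrLC.GMod.{u} 𝒜}
    {e : (R ⧸ m.toIdeal) →ₗ[R] E.carrier} (he : GrLC.IsStarInjHull 𝒜 (GrLC.quotGr 𝒜 m) E.gr e)
    (hC : GrLC.IsStarCanonical 𝒜 C.gr E.gr m n I) {c : ℤ} {x : C.carrier}
    (hline : ∀ a ∈ C.gr c, ∃ l : k, a = l • x) : ∀ g < c, ∀ w ∈ C.gr g, w = 0 := by
  intro g hg w hw
  by_contra hw0
  obtain ⟨u, v, hu, hv, hind⟩ := exists_two_indep (pos' hpos) (isField_deg0 h0) (isStarLocal_irrel hpos h0 hm)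
    (irr' hm) (hm.le.trans hstd.le) hn h2 he hC hw hw0 hg
  obtain ⟨a, rfl⟩ := hline u hu
  obtain ⟨b, rfl⟩ := hline v hv
  have hmem : ∀ l : k, algebraMap k R l ∈ 𝒜 0 := fun l => SetLike.algebraMap_mem_graded 𝒜 l
  by_cases ha : a = 0
  · have h := (hind ⟨algebraMap k R 1, hmem 1⟩ ⟨algebraMap k R 0, hmem 0⟩ (by simp [ha])).1
    exact one_ne_zero ((map_one (algebraMap k R)).symm.trans (congrArg Subtype.val h))
  · have h := (hind ⟨algebraMap k R (-b), hmem _⟩ ⟨algebraMap k R a, hmem _⟩ (by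
      change algebraMap k R (-b) • a • x + algebraMap k R a • b • x = 0
      rw [algebraMap_smul, algebraMap_smul, smul_smul, smul_smul, ← add_smul, neg_mul, mul_comm, neg_add_cancel,
        zero_smul])).2
    exact ha ((algebraMap k R).injective ((congrArg Subtype.val h).trans (map_zero _).symm))

/-- Let R and S be standard graded rings defined over a field k which are Cohen–Macaulay, of dimensions
r ≥ 2 and s ≥ 2. Whenever their Segre product T = R # S is Gorenstein, both R and S are Gorenstein,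
and their a-invariants agree and are negative: a(R) = a(S) < 0. Here a graded ring defined over k is
a commutative k-algebra of finite type, graded in nonnegative degrees by k-subspaces with
degree-zero part k·1, and it is standard graded when its irrelevant ideal is generated by the
degree-one piece; the a-invariant a(R) is the largest degree in which the graded local cohomology
H^{dim R}_{R_+}(R), computed from a *injective resolution of R in the graded category, is nonzero;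
the Segre product T = R # S = ⊕_n R_n ⊗_k S_n is presented abstractly as a graded k-algebra T with
an injective k-algebra homomorphism ψ : T → R ⊗_k S carrying T_n onto the k-span of the elementary
tensors a ⊗ b with a ∈ R_n, b ∈ S_n. -/
theorem result (k : Type u) [Field k] (R : Type u) [CommRing R] [Algebra k R] (𝒜 : ℤ → Submodule k R) [GradedAlgebra 𝒜] (hposR : ∀ n : ℤ, n < 0 → 𝒜 n = ⊥) (h0R : 𝒜 0 = Submodule.span k {(1 : R)}) [Algebra.FiniteType k R] (S : Type u) [CommRing S] [Algebra k S] (ℬ : ℤ → Submodule k S) [GradedAlgebra ℬ] (hposS : ∀ n : ℤ, n < 0 → ℬ n = ⊥) (h0S : ℬ 0 = Submodule.span k {(1 : S)}) [Algebra.FiniteType k S] (T : Type u) [CommRing T] [Algebra k T] (𝒯 : ℤ → Submodule k T) [GradedAlgebra 𝒯] (ψ : T →ₐ[k] TensorProduct k R S) (hψ : Function.Injective ψ) (hdegT : ∀ n : ℤ, (𝒯 n).map ψ.toLinearMap = Submodule.span k {x : TensorProduct k R S | ∃ a ∈ 𝒜 n, ∃ b ∈ ℬ n, x = a ⊗ₜ[k] b}) [LocCoh.IsCohenMacaulayRing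 R] [LocCoh.IsCohenMacaulayRing S] (mR : HomogeneousIdeal 𝒜) (hmR : mR.toIdeal = Ideal.span (⋃ n ∈ Set.Ioi (0 : ℤ), (𝒜 n : Set R))) (hstdR : Ideal.span (⋃ n ∈ Set.Ioi (0 : ℤ), (𝒜 n : Set R)) = Ideal.span ((𝒜 1 : Submodule k R) : Set R)) (I : GrLC.StarInjRes 𝒜 𝒜) (mS : HomogeneousIdeal ℬ) (hmS : mS.toIdeal = Ideal.span (⋃ n ∈ Set.Ioi (0 : ℤ), (ℬ n : Set S))) (hstdS : Ideal.span (⋃ n ∈ Set.Ioi (0 : ℤ), (ℬ n : Set S)) = Ideal.span ((ℬ 1 : Submodule k S) : Set S)) (J : GrLC.StarInjRes ℬ ℬ) (r s : ℕ) (hr : ringKrullDim R = r) (hs : ringKrullDim S = s) (h2r : 2 ≤ r) (h2s : 2 ≤ s) [LocCoh.IsGorensteinRing T] : LocCoh.IsGorensteinRing R ∧ LocCoh.IsGorensteinRing S ∧ GrLC.endDeg (I.Hgr mR r) = GrLC.endDeg (J.Hgr mS s) ∧ GrLC.endDeg (I.Hgr mR r) < 0 := by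
  classical
  have hT : GrSeg.IsSegreRing 𝒜 ℬ 𝒯 ψ := ⟨hψ, hdegT⟩
  have := GrothLib.Gor.isCohenMacaulayRing T
  have hneg := (Groth.Agent.S18648.result k R 𝒜 hposR h0R S ℬ hposS h0S T 𝒯 ψ hψ hdegT mR hmR hstdR I mS hmS hstdS J
    r s hr hs h2r h2s).1 inferInstance
  have : Nontrivial R := not_subsingleton_iff_nontrivial.1 fun h => by
    rw [ringKrullDim_eq_bot_of_subsingleton] at hr; exact WithBot.bot_ne_coe hr
  have : Nontrivial S := not_subsingleton_iff_nontrivial.1 fun h => by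
    rw [ringKrullDim_eq_bot_of_subsingleton] at hs; exact WithBot.bot_ne_coe hs
  have : Nontrivial T := segre_nontrivial hT
  have hposT : ∀ n : ℤ, n < 0 → 𝒯 n = ⊥ := fun n hn => segre_neg hT hposR hn
  have h0T := segre_zero hT h0R h0S
  have : Algebra.FiniteType k T := segre_finiteType hT hposR h0R hposS h0S
  have : IsNoetherianRing R := Algebra.FiniteType.isNoetherianRing k R
  have : IsNoetherianRing S := Algebra.FiniteType.isNoetherianRing k S
  have : IsNoetherianRing T := Algebra.FiniteType.isNoetherianRing k T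
  let mT : HomogeneousIdeal 𝒯 := ⟨Ideal.span (⋃ n ∈ Set.Ioi (0 : ℤ), (𝒯 n : Set T)),
    Ideal.homogeneous_span _ _ fun x hx => by
      obtain ⟨i, -, hx⟩ := Set.mem_iUnion₂.1 hx; exact ⟨i, hx⟩⟩
  have hmT : mT.toIdeal = Ideal.span (⋃ n ∈ Set.Ioi (0 : ℤ), (𝒯 n : Set T)) := rfl
  have := GrothLib.Segre.isMaximal hposR h0R hmR
  have := GrothLib.Segre.isMaximal hposS h0S hmS
  have := GrothLib.Segre.isMaximal hposT h0T hmT
  have hneR : ∀ n : ℤ, 0 ≤ n → 𝒜 n ≠ ⊥ := fun n =>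
    Groth.Agent.S18648.piece_ne_bot 𝒜 (hmR ▸ GrothLib.Segre.isMaximal hposR h0R hmR) hstdR hr (by omega)
  have hneS : ∀ n : ℤ, 0 ≤ n → ℬ n ≠ ⊥ := fun n =>
    Groth.Agent.S18648.piece_ne_bot ℬ (hmS ▸ GrothLib.Segre.isMaximal hposS h0S hmS) hstdS hs (by omega)
  obtain ⟨ρ, rfl⟩ : ∃ ρ, r = ρ + 2 := ⟨r - 2, by omega⟩
  obtain ⟨σ, rfl⟩ : ∃ σ, s = σ + 2 := ⟨s - 2, by omega⟩
  let K : GrLC.StarInjRes 𝒯 𝒯 := GrothLib.GrLC.starInjRes 𝒯 𝒯
  have hd : ringKrullDim T = ((ρ + σ + 2 + 1 : ℕ) : WithBot ℕ∞) := by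
    rw [show ρ + σ + 2 + 1 = ρ + 1 + 1 + (σ + 1) by omega]
    exact ringKrullDim_segre 𝒜 ℬ hposR h0R hposS h0S 𝒯 ψ hψ hdegT (ρ + 1) (σ + 1) hr hs
  obtain ⟨ER, eR, CR, heR, hCR, βR, hβR⟩ := GrothLib.GrDual.exists_starCanonical (n := ρ + 2) hposR h0R hmR I
  obtain ⟨ES, eS, CS, heS, hCS, βS, hβS⟩ := GrothLib.GrDual.exists_starCanonical (n := σ + 2) hposS h0S hmS J
  obtain ⟨ET, eT, CT, heT, hCT, βT, hβT⟩ :=
    GrothLib.GrDual.exists_starCanonical (n := ρ + σ + 2 + 1) hposT h0T hmT K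
  have := hCR.1
  have := hCS.1
  have := hCT.1
  obtain ⟨c, f, hf, hfd⟩ := (isGorensteinRing_iff_exists_shift (pos' hposT) (isField_deg0 h0T)
    (isStarLocal_irrel hposT h0T hmT) (irr' hmT) hd heT hCT).1 inferInstance
  obtain ⟨ε, hε⟩ := iso_canonical_segre hT hposR h0R hposS h0S hmR hmS hmT I J K hβR hβS hβT hr.le hs.le
  have hh : Function.Bijective (ε.toLinearMap ∘ₗ f) := ε.bijective.comp hf
  have hhd : GrLC.IsGrHomDeg 𝒯 (segMod CR CS hT).gr (ε.toLinearMap ∘ₗ f) c := fun j t ht => hε _ _ (hfd j t ht)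
  obtain ⟨x, y, hx, hy, -, -, hlx, hly, hinjT, hsurjT⟩ := exists_gens hT _ hh hhd h0T
  have hlX := eq_zero_below hposR h0R hmR hstdR hr h2r heR hCR hlx
  have hlY := eq_zero_below hposS h0S hmS hstdS hs h2s heS hCS hly
  have hbR := bijective_of_segre_free hT hx hy hinjT hsurjT hposR hneR hneS hlX
  have hbS := bijective_of_segre_free_right hT hx hy hinjT hsurjT hposS hneR hneS hlY
  have hgR : GrLC.IsGrHomDeg 𝒜 CR.gr (LinearMap.toSpanSingleton R CR.carrier x) c :=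
    fun j r hr => smul_mem' (𝒜 := 𝒜) CR.gr hr hx
  have hgS : GrLC.IsGrHomDeg ℬ CS.gr (LinearMap.toSpanSingleton S CS.carrier y) c :=
    fun j r hr => smul_mem' (𝒜 := ℬ) CS.gr hr hy
  exact ⟨(isGorensteinRing_iff_exists_shift (pos' hposR) (isField_deg0 h0R) (isStarLocal_irrel hposR h0R hmR)
      (irr' hmR) hr heR hCR).2 ⟨c, _, hbR, hgR⟩,
    (isGorensteinRing_iff_exists_shift (pos' hposS) (isField_deg0 h0S) (isStarLocal_irrel hposS h0S hmS)
      (irr' hmS) hs heS hCS).2 ⟨c, _, hbS, hgS⟩,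
    (endDeg_of_shift hposR I hβR hbR hgR).trans (endDeg_of_shift hposS J hβS hbS hgS).symm, hneg.1⟩

end Groth.Agent.S18649
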