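import Groth.Statements.S1865
import Groth.Agent.Lib.GrpSchField.Open

set_option autoImplicit false
universe u v
open CategoryTheory MonoidalCategory CartesianMonoidalCategory MonObj GrpObj AlgebraicGeometry
open GrpSch

namespace Groth.Agent.S1865

/-- A group scheme over a field contains an open and closed subset containing the identity point which
is a countable union of affine opens. (The source does not mention the identity point; its
construction contains it, and without it the empty set would do.) -/
theorem result (K : Type u) [Field K] (G : Over (Spec (CommRingCat.of K))) [GrpObj G] : ∃ U : G.left.Opens, IsClosed (U : Set G.left) ∧ η[G].left (IsLocalRing.closedPoint K) ∈ U ∧ ∃ V : ℕ → G.left.Opens, (∀ n, IsAffineOpen (V n)) ∧ (U : Set G.left) = ⋃ n, (V n : Set G.left) := by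
  obtain ⟨U, W, hU, he, hW, hUW⟩ := GrothLib.GrpSchField.exists_clopen_iUnion_compact G
  have hfin : ∀ n, ∃ V : Set G.left.affineOpens, V.Finite ∧ (W n : Set G.left) =
      ⋃ i ∈ V, ((i : G.left.Opens) : Set G.left) :=
    fun n => by
      obtain ⟨s, hs, hs'⟩ := isCompact_iff_finite_and_eq_biUnion_affineOpens.mp (hW n)
      exact ⟨s, hs, by simp [hs']⟩
  choose V hVf hV using hfin
  have hc : (⋃ n, V n).Countable := Set.countable_iUnion fun n => (hVf n).countable
  have hne : (⋃ n, V n).Nonempty := by
    rw [← SetLike.mem_coe, hUW, Set.mem_iUnion] at he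
    obtain ⟨n, hn⟩ := he
    rw [hV, Set.mem_iUnion₂] at hn
    obtain ⟨i, hi, -⟩ := hn
    exact ⟨i, Set.mem_iUnion.mpr ⟨n, hi⟩⟩
  obtain ⟨f, hf⟩ := hc.exists_eq_range hne
  refine ⟨U, hU, he, fun n => (f n).1, fun n => (f n).2, ?_⟩
  calc (U : Set G.left) = ⋃ i ∈ ⋃ n, V n, ((i : G.left.Opens) : Set G.left) := by
        rw [hUW, Set.biUnion_iUnion]; exact Set.iUnion_congr hV
    _ = _ := by rw [hf, Set.biUnion_range]

end Groth.Agent.S1865
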