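import Groth.Statements.S18650
import Groth.Agent.Lib.GrBass.GorLocal
import Groth.Agent.Lib.GrLC.Compare

set_option autoImplicit false
universe u
open GrLC

namespace Groth.Agent.S18650

/-- The case M = R of the published statement. Let R be a commutative Noetherian ℤ-graded ring which is
H-local, i.e. has a unique maximal graded ideal m, and which is Cohen–Macaulay, with ht m = n. Then
R is a Gorenstein ring if and only if the graded local cohomology module H^n_m(R) is an injective
object of the category of graded R-modules. Here H^n_m(R) is computed from a *injective resolution I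
of R in the graded category, and its *injectivity is expressed as the existence of a *injective
graded R-module X and an R-linear isomorphism H^n_m(R) ≅ X preserving degrees. (The published item
is stated for a Cohen–Macaulay graded module M and the notion of Gorenstein module; this row is its
case M = R.) -/
theorem result (R : Type u) [CommRing R] [LocCoh.IsCohenMacaulayRing R] (𝒜 : ℤ → AddSubgroup R) [GradedRing 𝒜] (m : HomogeneousIdeal 𝒜) (hm : GrLC.IsStarLocal 𝒜 m) (n : ℕ) (hn : m.toIdeal.height = n) (I : GrLC.StarInjRes 𝒜 𝒜) : LocCoh.IsGorensteinRing R ↔ ∃ (X : GrLC.GMod.{u} 𝒜) (φ : I.H m n ≃ₗ[R] X.carrier), GrLC.IsStarInj 𝒜 X.gr ∧ GrLC.IsGrHom (I.Hgr m n) X.gr φ.toLinearMap := by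
  haveI := GrothLib.GrBass.isPrime_of_isStarLocal hm
  obtain ⟨ψ⟩ := GrothLib.GrLC.nonempty_EH_equiv I m n
  constructor
  · intro hG
    obtain ⟨E, e, he⟩ := GrothLib.GrLC.exists_hull (GrothLib.GrBass.qMod m)
    have he' : GrLC.IsStarInjHull 𝒜 (GrLC.quotGr 𝒜 m) E.gr
        (show (R ⧸ m.toIdeal) →ₗ[R] E.carrier from e) := by
      have hh : ∀ g x, x ∈ GrLC.quotGr 𝒜 m g → x ∈ (GrothLib.GrBass.qMod m).gr g := by
        rintro g _ ⟨r, hr, rfl⟩
        exact ⟨r, hr, rfl⟩
      exact { grHom := fun g x hx => he.grHom g x (hh g x hx), injective := he.injective,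
              essential := he.essential, starInj := he.starInj }
    obtain ⟨g, φ, hφ⟩ := GrothLib.GrBass.GorTop.exists_iso_hull hm hn (GrothLib.GrLC.EH I m n) ψ he'
    exact ⟨GrothLib.GrLC.shift E g, φ, GrothLib.GrLC.isStarInj_shift' he.starInj g,
      fun j x hx => hφ j x ((GrothLib.GrLC.EH_gr_iff I m n j x).1 hx)⟩
  · rintro ⟨X, φ, hX, -⟩
    exact GrothLib.GrBass.isGorensteinRing_of_starMaximal hm
      (GrothLib.GrBass.isGorensteinLocalRing_of_starInj hn hX (φ.symm.trans ψ))

end Groth.Agent.S18650
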