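import Groth.Statements.S18651
import Groth.Agent.Lib.GrLC.PolyTopW
import Groth.Agent.Lib.Segre.GorTools
import Groth.Agent.S0342
import Mathlib.RingTheory.RegularLocalRing.Defs
-- import your own Groth.Agent.* helpers here

set_option autoImplicit false
universe u
attribute [local instance] MvPolynomial.weightedGradedAlgebra
open GrLC

namespace Groth.Agent.S18651

/-- Let k be a field and R = k[X_1, …, X_N] the polynomial ring with deg X_i = w_i > 0. Then the
canonical module of R is K_R = X_1 X_2 ⋯ X_N · R ≅ R(−d) with d = w_1 + ⋯ + w_N; stated here as: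
there is a bijective R-linear map R → K_R homogeneous of degree d. The canonical module is
represented by a finitely generated graded module C together with a homogeneous isomorphism from
Hom_R(C, E) onto H^N_m(R), where m = R_+, E is a *injective envelope of R/m and H^N_m(R) is computed
from a *injective resolution of R in the graded category; by graded Matlis duality this says exactly
that C ≅ K_R as graded modules. -/
theorem result (k : Type u) [Field k] (N : ℕ) (w : Fin N → ℤ) (hw : ∀ i, 0 < w i) (m : HomogeneousIdeal (MvPolynomial.weightedHomogeneousSubmodule k w)) (hm : GrLC.IsStarLocal (MvPolynomial.weightedHomogeneousSubmodule k w) m) (hmsp : m.toIdeal = Ideal.span (⋃ n ∈ Set.Ioi (0 : ℤ), (MvPolynomial.weightedHomogeneousSubmodule k w n : Set (MvPolynomial (Fin N) k)))) (I : GrLC.StarInjRes (MvPolynomial.weightedHomogeneousSubmodule k w) (MvPolynomial.weightedHomogeneousSubmodule k w)) (E' : Type u) [AddCommGroup E'] [Module (MvPolynomial (Fin N) k) E'] (𝓔 : ℤ → AddSubgroup E') [DirectSum.Decomposition 𝓔]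 [SetLike.GradedSMul (MvPolynomial.weightedHomogeneousSubmodule k w) 𝓔] (e : (MvPolynomial (Fin N) k ⧸ m.toIdeal) →ₗ[MvPolynomial (Fin N) k] E') (he : GrLC.IsStarInjHull (MvPolynomial.weightedHomogeneousSubmodule k w) (GrLC.quotGr (MvPolynomial.weightedHomogeneousSubmodule k w) m) 𝓔 e) (C : Type u) [AddCommGroup C] [Module (MvPolynomial (Fin N) k) C] (𝒞 : ℤ → AddSubgroup C) [DirectSum.Decomposition 𝒞] [SetLike.GradedSMul (MvPolynomial.weightedHomogeneousSubmodule k w) 𝒞] (hC : GrLC.IsStarCanonical (MvPolynomial.weightedHomogeneousSubmodule k w) 𝒞 𝓔 m N I) : ∃ f : MvPolynomial (Fin N) k →ₗ[MvPolynomial (Fin N) k] C, Function.Bijective f ∧ GrLC.IsGrHomDeg (MvPolynomial.weightedHomogeneousSubmodule k w) 𝒞 f ((Finset.univ : Finset (Fin N)).sum w) := by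
  classical
  open scoped GrothLib.Segre in
  exact (by
    let R := MvPolynomial (Fin N) k
    let 𝒮 := MvPolynomial.weightedHomogeneousSubmodule k w
    have hpos : ∀ n : ℤ, n < 0 → 𝒮 n = ⊥ := fun n hn => by
      refine (Submodule.eq_bot_iff _).2 fun p hp => ?_
      by_contra h0
      obtain ⟨d, hd⟩ := MvPolynomial.ne_zero_iff.1 h0
      have hwd := (show p ∈ 𝒮 n from hp) hd
      have hnn : 0 ≤ Finsupp.weight w d := by
        rw [Finsupp.weight_apply]
        exact Finset.sum_nonneg fun i _ => by
          change 0 ≤ d i • w i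
          exact nsmul_nonneg (hw i).le _
      omega
    have h0 : 𝒮 0 = Submodule.span k {(1 : R)} := by
      refine le_antisymm (fun p hp => ?_) ((Submodule.span_singleton_le_iff_mem _ _).2 SetLike.GradedOne.one_mem)
      refine Submodule.mem_span_singleton.2 ⟨MvPolynomial.coeff 0 p, MvPolynomial.ext _ _ fun d => ?_⟩
      rw [MvPolynomial.coeff_smul, MvPolynomial.coeff_one, smul_eq_mul]
      by_cases hd : 0 = d
      · rw [if_pos hd, mul_one, hd]
      · rw [if_neg hd, mul_zero]
        by_contra hne
        have hwd := (show p ∈ 𝒮 0 from hp) (Ne.symm hne)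
        rw [Finsupp.weight_apply, Finsupp.sum, Finset.sum_eq_zero_iff_of_nonneg
          (fun i _ => nsmul_nonneg (hw i).le _)] at hwd
        refine hd (Finsupp.ext fun i => ?_)
        by_contra hi
        have h1 := hwd i (Finsupp.mem_support_iff.2 (Ne.symm hi))
        rw [smul_eq_zero] at h1
        rcases h1 with h1 | h1
        · exact hi h1.symm
        · exact (hw i).ne' h1
    haveI := GrothLib.Segre.isMaximal hpos h0 hmsp
    haveI : LocCoh.IsGorensteinRing R :=
      { (inferInstance : IsNoetherianRing R) with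
        isGorensteinLocalRing_localization := fun p _ => Groth.Agent.S0342.result (Localization.AtPrime p) }
    haveI := GrothLib.Gor.isCohenMacaulayRing R
    letI : Module k E' := Module.compHom E' (algebraMap k R)
    haveI : IsScalarTower k R E' := IsScalarTower.of_algebraMap_smul fun _ _ => rfl
    have hn : ringKrullDim R = (N : WithBot ℕ∞) := by
      rw [MvPolynomial.ringKrullDim_of_isNoetherianRing, ringKrullDim_eq_zero_of_field]; simp
    obtain ⟨a, f, hf, hfd⟩ := (GrothLib.GrLC.isGorensteinRing_iff_exists_shift (GrothLib.Segre.pos' hpos)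
      (GrothLib.Segre.isField_deg0 h0) hm (GrothLib.Segre.irr' hmsp) hn he hC).1 inferInstance
    obtain ⟨βE, hE⟩ := GrothLib.GrDual.exists_isGDual_hull hpos h0 hmsp
      (GrothLib.GrDual.one_notMem_irrel _ hpos hmsp) he
    obtain ⟨hfin, Φ, hΦ⟩ := hC
    let X : GrLC.GMod.{u} 𝒮 := GrLC.GMod.of 𝒮 C 𝒞
    haveI : Module.Finite R X.carrier := hfin
    let e' : (X.carrier →ₗ[R] E') ≃ₗ[R] (GrothLib.GrLC.EH I m N).carrier := Φ
    obtain ⟨β, hβ⟩ := GrothLib.GrDual.exists_isGDual_of_equiv hE (ℳ := X.gr) (ℋ := (GrothLib.GrLC.EH I m N).gr) e'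
      fun d g hg => (GrothLib.GrLC.EH_gr_iff I m N d _).1 (hΦ d g hg)
    have hend := GrothLib.Segre.endDeg_of_shift hpos I (C := X) hβ hf hfd
    have hl : (GrothLib.GrLC.hspan (GrothLib.GrLC.Weighted.varL k N w)).toIdeal = m.toIdeal :=
      (GrothLib.GrLC.Weighted.hspan_varL k N w hw).trans hmsp.symm
    have hend' : GrLC.endDeg (I.Hgr m N) =
        (((-(Finset.univ : Finset (Fin N)).sum w : ℤ) : WithTop ℤ) : WithBot (WithTop ℤ)) := by
      refine le_antisymm ((GrothLib.GrLC.endDeg_le_iff _ _).2 fun g hg =>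
        (GrothLib.GrLC.Hgr_eq_bot_iff_van I hl N g).2 (GrothLib.GrLC.Weighted.van_S k N w hw fun _ => hg))
        (GrothLib.GrLC.le_endDeg _ fun h => GrothLib.GrLC.Weighted.not_van_S k N w hw
          ((GrothLib.GrLC.Hgr_eq_bot_iff_van I hl N _).1 h))
    rw [hend', WithBot.coe_inj, WithTop.coe_inj, neg_inj] at hend
    rw [hend]
    exact ⟨f, hf, hfd⟩)

end Groth.Agent.S18651
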