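import Groth.Statements.S18653
import Groth.Agent.Lib.GrLC.DimOne
import Mathlib.Algebra.Polynomial.Basic
-- import your own Groth.Agent.* helpers here

set_option autoImplicit false
universe u
open GrLC

namespace Groth.Agent.S18653

/-- Let R be a graded ring defined over an algebraically closed field k which is an integral domain of
dimension one. Then R is isomorphic to a semigroup ring (the subring of k[T] spanned by the
monomials T^h, h in an additive submonoid H of ℕ); moreover, if R is generated over k by R_1, then R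
is a polynomial ring k[T]. Here a graded ring defined over k is a commutative k-algebra of finite
type graded in nonnegative degrees by k-subspaces with degree-zero part k·1; the isomorphisms
asserted are ring isomorphisms. -/
theorem result (k : Type u) [Field k] [IsAlgClosed k] (R : Type u) [CommRing R] [IsDomain R] [Algebra k R] (𝒜 : ℤ → Submodule k R) [GradedAlgebra 𝒜] (hpos : ∀ n : ℤ, n < 0 → 𝒜 n = ⊥) (h0 : 𝒜 0 = Submodule.span k {(1 : R)}) [Algebra.FiniteType k R] (h1 : ringKrullDim R = 1) : (∃ H : AddSubmonoid ℕ, Nonempty (R ≃+* AddMonoidAlgebra k H)) ∧ (Ideal.span (⋃ n ∈ Set.Ioi (0 : ℤ), (𝒜 n : Set R)) = Ideal.span ((𝒜 1 : Submodule k R) : Set R) → Nonempty (R ≃+* Polynomial k)) := by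
  open GrothLib.GrLC.DimOne in
  obtain ⟨χ, hχ⟩ := exists_point hpos h0 h1
  obtain ⟨e⟩ := exists_iso hpos χ hχ
  refine ⟨⟨degrees 𝒜, ⟨e.symm.toRingEquiv⟩⟩, fun hgen => ?_⟩
  obtain ⟨d, hd, a, ha, hane⟩ := exists_pos hpos h0 h1
  have h1ne : 𝒜 1 ≠ ⊥ := by
    intro h
    have hmem : a ∈ Ideal.span (⋃ n ∈ Set.Ioi (0 : ℤ), (𝒜 n : Set R)) :=
      Ideal.subset_span (Set.mem_biUnion (Set.mem_Ioi.2 hd) ha)
    rw [hgen, h, Submodule.bot_coe, Ideal.mem_span_singleton, zero_dvd_iff] at hmem
    exact hane hmem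
  have htop : degrees 𝒜 = ⊤ := by
    refine eq_top_iff.2 fun n _ h => ?_
    obtain ⟨x, hx, hx0⟩ := Submodule.exists_mem_ne_zero_of_ne_bot h1ne
    have h' := GrothLib.GrLC.DimOne.pow_mem hx n
    rw [mul_one, h, Submodule.mem_bot] at h'
    exact pow_ne_zero n hx0 h'
  exact ⟨e.symm.toRingEquiv.trans ((AddMonoidAlgebra.domCongr k k ((AddEquiv.addSubmonoidCongr htop).trans AddSubmonoid.topEquiv)).toRingEquiv.trans (Polynomial.toFinsuppIso k).symm)⟩

end Groth.Agent.S18653
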