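import Groth.Statements.S18654
import Groth.Agent.Lib.GrLC.CM
import Groth.Agent.Lib.GrLC.Pieces
import Groth.Agent.Lib.GrLC.Pos
import Mathlib.Algebra.Polynomial.AlgebraMap
import Mathlib.LinearAlgebra.InvariantBasisNumber

set_option autoImplicit false
universe u
open GrLC

namespace Groth.Agent.S18654

open Polynomial in
theorem card_le_of_polynomial_regular {R : Type u} [CommRing R] (K : Subring R) [Nontrivial K] {a b N : ℕ}
    (v : Fin a → R) (w : Fin b → R) (x : Fin N → R) (M : Fin N → Fin a → Fin b → K)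
    (hM : ∀ t j, ∑ i, (M t j i : R) * w i = x t * v j)
    (hv : ∀ c : Fin a → K, ∑ j, (c j : R) * v j = 0 → c = 0)
    (hx : ∀ c : R, (∀ t, x t * c = 0) → c = 0) : a ≤ b := by
  classical
  let ι : Polynomial K →+* Polynomial R := Polynomial.mapRingHom K.subtype
  let Φ : (Fin a → Polynomial K) →ₗ[Polynomial K] (Fin b → Polynomial K) :=
    LinearMap.pi fun i => ∑ j, (∑ t, Polynomial.C (M t j i) * Polynomial.X ^ (t : ℕ)) • LinearMap.proj j
  let P : Polynomial R := ∑ t, Polynomial.C (x t) * Polynomial.X ^ (t : ℕ)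
  have hP : ∀ Q : Polynomial R, P * Q = 0 → Q = 0 := by
    have : P ∈ nonZeroDivisors (Polynomial R) := by
      refine Polynomial.mem_nonZeroDivisors_iff.2 fun c hc => hx c fun t => ?_
      have h := congrArg (fun q : Polynomial R => q.coeff (t : ℕ)) hc
      simp only [P, Polynomial.coeff_smul, Polynomial.finset_sum_coeff, Polynomial.coeff_C_mul_X_pow,
        Polynomial.coeff_zero, smul_eq_mul] at h
      rw [Finset.sum_eq_single t (fun s _ hs => by rw [if_neg (fun e => hs (Fin.ext e.symm))])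
        (fun h => absurd (Finset.mem_univ t) h), if_pos rfl, mul_comm] at h
      exact h
    exact fun Q hQ => (mul_right_mem_nonZeroDivisors_eq_zero_iff this).1 (by rwa [mul_comm] at hQ)
  refine le_of_le_of_eq (le_of_eq_of_le (Fintype.card_fin a).symm
    (card_le_of_injective (Polynomial K) Φ ((injective_iff_map_eq_zero Φ).2 fun c hc => ?_))) (Fintype.card_fin b)
  have h1 : ∑ i, ι (Φ c i) * Polynomial.C (w i) = P * ∑ j, ι (c j) * Polynomial.C (v j) := by
    simp only [Φ, LinearMap.pi_apply, LinearMap.coe_sum, Finset.sum_apply, LinearMap.smul_apply,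
      LinearMap.proj_apply, smul_eq_mul, map_sum, map_mul, Finset.sum_mul, Finset.mul_sum, P]
    rw [Finset.sum_comm]
    refine Finset.sum_congr rfl fun j _ => ?_
    rw [Finset.sum_comm]
    refine Finset.sum_congr rfl fun t _ => ?_
    have e := congrArg Polynomial.C (hM t j)
    simp only [map_sum, map_mul] at e
    calc _ = (Polynomial.X ^ (t : ℕ) * ι (c j)) * ∑ i, Polynomial.C (M t j i : R) * Polynomial.C (w i) := by
            rw [Finset.mul_sum]
            refine Finset.sum_congr rfl fun i _ => ?_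
            simp only [ι, Polynomial.coe_mapRingHom, Polynomial.map_C, Polynomial.map_pow, Polynomial.map_X,
              Subring.subtype_apply]
            ring
      _ = _ := by rw [e]; ring
  rw [hc] at h1
  simp only [Pi.zero_apply, map_zero, zero_mul, Finset.sum_const_zero] at h1
  have h2 := hP _ h1.symm
  funext j
  ext n
  have h3 := congrArg (fun q : Polynomial R => q.coeff n) h2
  simp only [Polynomial.finset_sum_coeff, Polynomial.coeff_mul_C, ι, Polynomial.coe_mapRingHom,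
    Polynomial.coeff_map, Subring.subtype_apply, Polynomial.coeff_zero] at h3
  have h4 := congrFun (hv (fun j => (c j).coeff n) h3) j
  simpa using h4

theorem isStarLocal_irrel {R : Type u} [CommRing R] [Nontrivial R] {𝒜 : ℤ → AddSubgroup R} [GradedRing 𝒜]
    (hpos : ∀ n : ℤ, n < 0 → ∀ r ∈ 𝒜 n, r = 0) (h0 : IsField (GrLC.deg0 𝒜)) {a : HomogeneousIdeal 𝒜}
    (ha : a.toIdeal = Ideal.span (⋃ n ∈ Set.Ioi (0 : ℤ), (𝒜 n : Set R))) : GrLC.IsStarLocal 𝒜 a := by
  classical
  have hle : ∀ J : HomogeneousIdeal 𝒜, J ≠ ⊤ → J ≤ a := by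
    intro J hJ x hx
    obtain ⟨S, hS⟩ := GrothLib.GrLC.exists_sum_cmp 𝒜 x
    rw [hS]
    refine sum_mem fun g _ => ?_
    rcases lt_trichotomy g 0 with h | rfl | h
    · rw [hpos g h _ (GrothLib.GrLC.cmp_mem 𝒜 g x)]; exact zero_mem _
    · by_cases hne : GrothLib.GrLC.cmp 𝒜 0 x = 0
      · rw [hne]; exact zero_mem _
      obtain ⟨c, hc⟩ := h0.mul_inv_cancel (a := (⟨_, GrothLib.GrLC.cmp_mem 𝒜 0 x⟩ : GrLC.deg0 𝒜))
        fun e => hne (congrArg Subtype.val e)
      refine absurd (HomogeneousIdeal.toIdeal_injective ?_) hJ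
      rw [HomogeneousIdeal.toIdeal_top, Ideal.eq_top_iff_one,
        show (1 : R) = GrothLib.GrLC.cmp 𝒜 0 x * c from (congrArg Subtype.val hc).symm]
      exact J.toIdeal.mul_mem_right _ (J.isHomogeneous 0 hx)
    · exact ha.ge (Ideal.subset_span (Set.mem_iUnion₂.2 ⟨g, h, GrothLib.GrLC.cmp_mem 𝒜 g x⟩))
  have hne : a ≠ ⊤ := by
    intro e
    have h1 : (1 : R) ∈ a.toIdeal := by rw [e, HomogeneousIdeal.toIdeal_top]; exact Submodule.mem_top
    rw [ha] at h1
    have key : ∀ z ∈ Ideal.span (⋃ n ∈ Set.Ioi (0 : ℤ), (𝒜 n : Set R)),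
        GrothLib.GrLC.cmp 𝒜 0 z = 0 := by
      intro z hz
      induction hz using Submodule.span_induction with
      | mem z hz =>
        obtain ⟨n, hn, hzn⟩ := Set.mem_iUnion₂.1 hz
        exact GrothLib.GrLC.cmp_of_mem_ne 𝒜 hzn (ne_of_gt hn)
      | zero => exact map_zero _
      | add p q _ _ hp hq => rw [map_add, hp, hq, add_zero]
      | smul c z _ hz =>
        induction c using GrothLib.GrLC.gr_induction 𝒜 with
        | h0 => rw [zero_smul, map_zero]
        | hadd p q hp hq => rw [add_smul, map_add, hp, hq, add_zero]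
        | hh g c hc =>
          rw [GrothLib.GrLC.cmp_smul_of_mem 𝒜 hc]
          rcases lt_trichotomy g 0 with h | rfl | h
          · rw [hpos g h c hc, zero_smul]
          · rw [sub_zero, hz, smul_zero]
          · rw [hpos _ (show (0 : ℤ) - g < 0 by omega) _ (GrothLib.GrLC.cmp_mem 𝒜 _ z), smul_zero]
    have := key 1 h1
    rw [GrothLib.GrLC.cmp_of_mem 𝒜 (SetLike.GradedOne.one_mem : (1 : R) ∈ 𝒜 0)] at this
    exact one_ne_zero this
  exact ⟨⟨hne, fun J hJ => by_contra fun h => hJ.not_ge (hle J h)⟩,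
    fun J hJ => ((hle J hJ.1).lt_or_eq.resolve_left fun h => hne (hJ.2 a h))⟩

/-- Let R be a graded ring defined over a field k = R_0 which is Cohen–Macaulay and generated over k by
R_1, with dim R ≥ 1, and write H(n, R) = dim_k R_n. Then H(n + 1, R) ≥ H(n, R) for every integer n.
Here 'graded ring defined over a field' means R = ⊕_{n ≥ 0} R_n is Noetherian with R_0 a field, and
m = R_+ is its unique graded maximal ideal. -/
theorem result (R : Type u) [CommRing R] [LocCoh.IsCohenMacaulayRing R] (𝒜 : ℤ → AddSubgroup R) [GradedRing 𝒜] (hpos : ∀ n : ℤ, n < 0 → 𝒜 n = ⊥) (h0 : IsField (GrLC.deg0 𝒜)) (hstd : Ideal.span (⋃ n ∈ Set.Ioi (0 : ℤ), (𝒜 n : Set R)) = Ideal.span ((𝒜 1 : AddSubgroup R) : Set R)) (h1 : 1 ≤ ringKrullDim R) (n : ℤ) : Module.finrank (GrLC.deg0 𝒜) (GrLC.comp 𝒜 𝒜 n) ≤ Module.finrank (GrLC.deg0 𝒜) (GrLC.comp 𝒜 𝒜 (n + 1)) := by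
  have hpos' : ∀ n : ℤ, n < 0 → ∀ r ∈ 𝒜 n, r = 0 := fun j hj r hr => by
    rw [hpos j hj] at hr; exact hr
  letI := h0.toField
  have : Nontrivial R := (GrLC.deg0 𝒜).subtype_injective.nontrivial
  let a : HomogeneousIdeal 𝒜 := ⟨Ideal.span (⋃ n ∈ Set.Ioi (0 : ℤ), (𝒜 n : Set R)),
    Ideal.homogeneous_span _ _ fun x hx => by
      obtain ⟨n, -, hn⟩ := Set.mem_iUnion₂.1 hx; exact ⟨n, hn⟩⟩
  have hm := isStarLocal_irrel hpos' h0 (a := a) rfl
  have hne := (GrothLib.GrLC.isMaximal_of_isStarLocal hpos' hm).ne_top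
  have hht : (1 : ℕ∞) ≤ LocCoh.idealDepth a.toIdeal R := by
    rw [(Groth.Agent.S14424.result R).1 inferInstance a.toIdeal hne]
    rw [GrothLib.GrLC.ringKrullDim_eq_height hpos' hm] at h1
    exact_mod_cast h1
  obtain ⟨ys, hlen, hys, hreg⟩ := (GrothLib.Depth.le_idealDepth_iff_exists a.toIdeal
    (M := R) (by rwa [Ideal.smul_top_eq_map, Algebra.algebraMap_self, Ideal.map_id]) 1).1 (by simpa using hht)
  obtain ⟨y, rfl⟩ := List.length_eq_one_iff.1 hlen
  have hy : IsSMulRegular R y := (RingTheory.Sequence.isWeaklyRegular_singleton_iff R y).1 hreg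
  obtain ⟨l, he, hl⟩ := GrothLib.GrLC.exists_deg_one_list (𝒜 := 𝒜) (a := a) hstd
  have hx : ∀ c : R, (∀ t : Fin l.length, (l.get t).val * c = 0) → c = 0 := by
    intro c hc
    have hle : a.toIdeal ≤ LinearMap.ker (LinearMap.toSpanSingleton R R c) := by
      rw [← hl]
      refine Ideal.span_le.2 ?_
      rintro r ⟨z, hz, rfl⟩
      obtain ⟨t, rfl⟩ := List.get_of_mem hz
      exact hc t
    exact hy ((hle (hys y (List.mem_singleton_self y))).trans (smul_zero y).symm)
  have hfin := GrothLib.GrLC.isNoetherian_comp (𝒜 := 𝒜) 𝒜 n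
  have hfin' := GrothLib.GrLC.isNoetherian_comp (𝒜 := 𝒜) 𝒜 (n + 1)
  let bv := Module.finBasis (GrLC.deg0 𝒜) (GrLC.comp 𝒜 𝒜 n)
  let bw := Module.finBasis (GrLC.deg0 𝒜) (GrLC.comp 𝒜 𝒜 (n + 1))
  have hmul : ∀ (t : Fin l.length) j, (l.get t).val * (bv j : R) ∈ GrLC.comp 𝒜 𝒜 (n + 1) := fun t j => by
    have h := SetLike.mul_mem_graded (l.get t).mem (bv j).2
    rw [he _ (List.get_mem l t), add_comm] at h
    exact h
  refine card_le_of_polynomial_regular (GrLC.deg0 𝒜) (fun j => (bv j : R)) (fun i => (bw i : R))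
    (fun t => (l.get t).val) (fun t j i => bw.repr ⟨_, hmul t j⟩ i) (fun t j => ?_) (fun c hc => ?_) hx
  · have h := congrArg Subtype.val (bw.sum_repr ⟨_, hmul t j⟩)
    rw [Submodule.coe_sum] at h
    exact h
  · funext j
    refine Fintype.linearIndependent_iff.1 bv.linearIndependent c (Subtype.ext ?_) j
    rw [Submodule.coe_sum]
    exact hc

end Groth.Agent.S18654
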