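import Groth.Statements.S18655
import Groth.Agent.Lib.GrLC.VerType
-- import your own Groth.Agent.* helpers here

set_option autoImplicit false
universe u
open GrLC

namespace Groth.Agent.S18655

/-- Let R be a graded ring defined over a field k = R_0 which is Gorenstein and generated over k by R_1,
of dimension n, and let q ≥ 1. Then the type r(R^(q)) of the Veronese subring equals H(j + a(R), R)
= dim_k R_{j + a(R)}, where j is the smallest multiple of q with j + a(R) ≥ 0 (so j + a(R) is the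
remainder ρ of a(R) modulo q, 0 ≤ ρ < q; the statement is written in terms of ρ). Here the type of
R^(q) is the Bass number μ_n(m', R^(q)), the dimension over the residue field of Ext^n over the
local ring of R^(q) at its graded maximal ideal m' = (R^(q))_+ (R^(q) has dimension n). Here 'graded
ring defined over a field' means R = ⊕_{n ≥ 0} R_n is Noetherian with R_0 a field, and m = R_+ is
its unique graded maximal ideal. The a-invariant a(R) is the largest degree in which the graded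
local cohomology H^n_m(R) (n = dim R, m = R_+), computed from a *injective resolution of R in the
graded category, is nonzero. The Veronese subring R^(q) = ⊕_j R_{jq}, regraded by (R^(q))_j =
R_{jq}, is presented abstractly as a ℤ-graded ring R' with an injective ring homomorphism φ : R' → R
carrying R'_j onto R_{jq} for every j. -/
theorem result (R : Type u) [CommRing R] [LocCoh.IsGorensteinRing R] (𝒜 : ℤ → AddSubgroup R) [GradedRing 𝒜] (hpos : ∀ n : ℤ, n < 0 → 𝒜 n = ⊥) (h0 : IsField (GrLC.deg0 𝒜)) (m : HomogeneousIdeal 𝒜) (hm : GrLC.IsStarLocal 𝒜 m) (hmsp : m.toIdeal = Ideal.span (⋃ n ∈ Set.Ioi (0 : ℤ), (𝒜 n : Set R))) (hstd : Ideal.span (⋃ n ∈ Set.Ioi (0 : ℤ), (𝒜 n : Set R)) = Ideal.span ((𝒜 1 : AddSubgroup R) : Set R)) (n : ℕ) (hn : ringKrullDim R = n) (I : GrLC.StarInjRes 𝒜 𝒜) (a : ℤ) (ha : GrLC.endDeg (I.Hgr m n) = ((a : WithTop ℤ) : WithBot (WithTop ℤ))) (q : ℕ) (hq : 0 < q) (R' : Type u) [CommRing R'] (𝒜' : ℤ → AddSubgroup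 R') [GradedRing 𝒜'] (φ : R' →+* R) (hφ : Function.Injective φ) (hdeg : ∀ j : ℤ, (𝒜' j).map (φ : R' →+ R) = 𝒜 (j * q)) (m' : HomogeneousIdeal 𝒜') [m'.toIdeal.IsMaximal] (hm'sp : m'.toIdeal = Ideal.span (⋃ j ∈ Set.Ioi (0 : ℤ), (𝒜' j : Set R'))) (ρ : ℤ) (hρ0 : 0 ≤ ρ) (hρq : ρ < q) (hρa : (q : ℤ) ∣ a - ρ) : GrLC.bassNum m'.toIdeal R' n = (Module.finrank (GrLC.deg0 𝒜) (GrLC.comp 𝒜 𝒜 ρ) : ℕ∞) := by
  haveI := GrothLib.Gor.isCohenMacaulayRing R
  haveI : Nontrivial R := not_subsingleton_iff_nontrivial.1 fun h => by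
    rw [ringKrullDim_eq_bot_of_subsingleton] at hn; exact WithBot.bot_ne_coe hn
  obtain rfl := GrothLib.GrLC.Ver.eq_irrel hm'sp
  obtain ⟨P⟩ := GrothLib.GrLC.Ver.nonempty_canonPair hpos h0 hm hmsp hn I hq hdeg hφ
  haveI := P.cm
  obtain ⟨c, f, hf, hfd⟩ := (GrothLib.GrLC.isGorensteinRing_iff_exists_shift (GrothLib.GrLC.pos_of_bot hpos) h0 hm
    (GrothLib.GrLC.irr_of_span hmsp) hn P.he P.hC).1 inferInstance
  have hc := GrothLib.GrLC.Ver.endDeg_eq_neg_of_shift hpos h0 hmsp P.he P.hC hf hfd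
  rw [ha, WithBot.coe_inj, WithTop.coe_inj] at hc
  obtain rfl : c = -a := by omega
  obtain ⟨t, ht⟩ := hρa
  have hj₀ : a + -t * (q : ℤ) = ρ := by rw [neg_mul, mul_comm, ← ht]; ring
  let fe := LinearEquiv.ofBijective f hf
  have hfsymm : ∀ g, ∀ y ∈ P.C.gr g, fe.symm y ∈ 𝒜 (g + a) := fun g y hy => by
    have h1 : f (GrothLib.GrLC.cmp 𝒜 (g + a) (fe.symm y)) = y := by
      rw [← mul_one (GrothLib.GrLC.cmp 𝒜 (g + a) (fe.symm y)), ← smul_eq_mul, map_smul]
      have h2 := congrArg (GrothLib.GrLC.cmp P.C.gr g)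
        (show fe.symm y • f 1 = y by rw [← map_smul, smul_eq_mul, mul_one]; exact fe.apply_symm_apply y)
      rwa [GrothLib.GrLC.cmp_smul_mem (𝒜 := 𝒜) P.C.gr _
        (show f 1 ∈ P.C.gr (-a) by simpa using hfd 0 1 SetLike.GradedOne.one_mem), sub_neg_eq_add,
        GrothLib.GrLC.cmp_of_mem _ hy] at h2
    rw [← h1, show fe.symm (f _) = _ from fe.symm_apply_apply _]
    exact GrothLib.GrLC.cmp_mem 𝒜 _ _
  let g : P.C'.carrier →ₛₗ[φ] R :=
    { toFun := fun x => fe.symm (P.v.f x)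
      map_add' := fun x y => by rw [map_add, map_add]
      map_smul' := fun r x => by rw [P.v.smul, map_smul] }
  have hg : Function.Injective g := fun x y h => P.v.inj (fe.symm.injective h)
  have hgdeg : ∀ j : ℤ, (P.C'.gr j).map (g : P.C'.carrier →+ R) = 𝒜 (a + j * q) := fun j => by
    refine le_antisymm ?_ fun y hy => ?_
    · rintro _ ⟨x, hx, rfl⟩
      have := hfsymm _ _ (P.v.hom j x hx)
      rwa [add_comm] at this
    · obtain ⟨x, hx, e⟩ := P.v.onto j (f y) (by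
        have := hfd _ y hy
        rwa [add_right_comm, add_neg_cancel, zero_add] at this)
      refine ⟨x, hx, ?_⟩
      change fe.symm (P.v.f x) = y
      rw [e]
      exact fe.symm_apply_apply y
  have hlow : ∀ j, j < -t → ∀ x ∈ P.C'.gr j, x = 0 := fun j hj x hx => hg (by
    have h1 : g x ∈ 𝒜 (a + j * q) := (hgdeg j).le ⟨x, hx, rfl⟩
    have h2 : (j + t) * (q : ℤ) ≤ -1 * q := mul_le_mul_of_nonneg_right (by omega) (Int.natCast_nonneg q)
    rw [hpos _ (by rw [add_mul] at h2; rw [neg_mul] at hj₀; omega), AddSubgroup.mem_bot] at h1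
    rw [h1, map_zero])
  have hgen := Groth.Agent.S18672.result R 𝒜 hpos h0 hstd q hq R' 𝒜' φ hφ hdeg a P.C'.carrier P.C'.gr g hg hgdeg (-t)
    (by rw [hj₀]; exact hρ0) (by rw [sub_mul, one_mul, ← add_sub_assoc, hj₀]; omega)
  refine (GrothLib.GrLC.bassNum_self_eq P.hpos' P.hm' P.hn' P.he' P.hC').trans (congrArg Nat.cast ?_)
  have hge : ∀ x : P.C'.gr (-t), g x ∈ GrLC.comp 𝒜 𝒜 ρ := fun x => hj₀ ▸ (hgdeg (-t)).le ⟨_, x.2, rfl⟩
  let G : P.C'.gr (-t) ≃+ GrLC.comp 𝒜 𝒜 ρ :=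
    AddEquiv.ofBijective (AddMonoidHom.mk' (fun x : P.C'.gr (-t) => (⟨g x, hge x⟩ : GrLC.comp 𝒜 𝒜 ρ)) fun x y =>
        Subtype.ext (map_add g (x : P.C'.carrier) y))
      ⟨fun x y h => Subtype.ext (hg (congrArg Subtype.val h)), fun y => by
        obtain ⟨x, hx, e⟩ := (hgdeg (-t)).ge (show (y : R) ∈ 𝒜 (a + -t * q) by rw [hj₀]; exact y.2)
        exact ⟨⟨x, hx⟩, Subtype.ext e⟩⟩
  refine GrothLib.GrLC.Ver.finrank_residue_tensor P.hpos' hlow hgen _
    (GrothLib.GrLC.Ver.zeroEquiv hdeg hφ).symm.bijective G.symm fun b x => ?_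
  apply hg
  have e : ∀ y, g (G.symm y : P.C'.carrier) = (y : R) := fun y => congrArg Subtype.val (G.apply_symm_apply y)
  rw [g.map_smulₛₗ, e, e, show φ ((GrothLib.GrLC.Ver.zeroEquiv hdeg hφ).symm b : R') = (b : R) from
    congrArg Subtype.val ((GrothLib.GrLC.Ver.zeroEquiv hdeg hφ).apply_symm_apply b)]
  rfl

end Groth.Agent.S18655
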