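import Groth.Statements.S18656
import Groth.Agent.Lib.GrLC.Radical
import Groth.Agent.Lib.GrLC.Pos
import Groth.Agent.Lib.GrLC.Koszul

set_option autoImplicit false
universe u
open GrLC

namespace Groth.Agent.S18656

/-- Let R be a graded ring defined over a field k = R_0, generated over k by R_1, of dimension r ≥ 1,
and let a(R) be its a-invariant. Then the homogeneous piece H^r_m(R)_n is nonzero for every n ≤
a(R). Here 'graded ring defined over a field' means R = ⊕_{n ≥ 0} R_n is Noetherian with R_0 a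
field, and m = R_+ is its unique graded maximal ideal. The a-invariant a(R) is the largest degree in
which the graded local cohomology H^n_m(R) (n = dim R, m = R_+), computed from a *injective
resolution of R in the graded category, is nonzero. -/
theorem result (R : Type u) [CommRing R] [IsNoetherianRing R] (𝒜 : ℤ → AddSubgroup R) [GradedRing 𝒜] (hpos : ∀ n : ℤ, n < 0 → 𝒜 n = ⊥) (h0 : IsField (GrLC.deg0 𝒜)) (m : HomogeneousIdeal 𝒜) (hm : GrLC.IsStarLocal 𝒜 m) (hmsp : m.toIdeal = Ideal.span (⋃ n ∈ Set.Ioi (0 : ℤ), (𝒜 n : Set R))) (hstd : Ideal.span (⋃ n ∈ Set.Ioi (0 : ℤ), (𝒜 n : Set R)) = Ideal.span ((𝒜 1 : AddSubgroup R) : Set R)) (r : ℕ) (hr : ringKrullDim R = r) (h1 : 1 ≤ r) (I : GrLC.StarInjRes 𝒜 𝒜) (a : ℤ) (ha : GrLC.endDeg (I.Hgr m r) = ((a : WithTop ℤ) : WithBot (WithTop ℤ))) (n : ℤ) (hn : n ≤ a) : I.Hcomp m r n ≠ ⊥ := by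
  have hpos' : ∀ n : ℤ, n < 0 → ∀ r ∈ 𝒜 n, r = 0 := fun j hj r hr => by
    rw [hpos j hj] at hr; exact hr
  obtain ⟨l, he, hl⟩ := GrothLib.GrLC.exists_deg_one_list (𝒜 := 𝒜) (a := m) (hmsp.trans hstd)
  have hvan : ∀ i : ℕ, r < i → ∀ g, GrothLib.GrLC.Van l (GrothLib.GrLC.gmod 𝒜 𝒜) i g := fun i hi g =>
    (GrothLib.GrLC.Hcomp_eq_bot_iff_van I hl i g).1 (GrothLib.GrLC.Hcomp_eq_bot_of_supportDim_lt I m (by
      rw [Module.supportDim_self_eq_ringKrullDim, hr]; exact_mod_cast hi) g)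
  intro h0n
  have key : ∀ g, n ≤ g → GrothLib.GrLC.Van l (GrothLib.GrLC.gmod 𝒜 𝒜) r g := by
    intro g hg
    induction g, hg using Int.le_induction with
    | base => exact (GrothLib.GrLC.Hcomp_eq_bot_iff_van I hl r n).1 h0n
    | succ g _ ih =>
      exact GrothLib.GrLC.van_step (e := 1) he h1 fun j _ => by
        rcases Nat.eq_zero_or_pos j with rfl | hj
        · simpa using ih
        · exact hvan _ (by omega) _
  have hle : GrLC.endDeg (I.Hgr m r) ≤ (((n - 1 : ℤ) : WithTop ℤ) : WithBot (WithTop ℤ)) :=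
    (GrothLib.GrLC.endDeg_le_iff _ _).2 fun g hg =>
      (GrothLib.GrLC.Hgr_eq_bot_iff_van I hl r g).2 (key g (by omega))
  rw [ha, WithBot.coe_le_coe, WithTop.coe_le_coe] at hle
  omega

end Groth.Agent.S18656
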