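import Groth.Statements.S18657
import Groth.Agent.Lib.GrLC.OverField
import Groth.Agent.Lib.GrLC.TwoLe
import Groth.Agent.Lib.GrLC.Pieces
-- import your own Groth.Agent.* helpers here

set_option autoImplicit false
universe u
open GrLC

namespace Groth.Agent.S18657

open scoped GrothLib.Segre

/-- Let R be a graded ring defined over a field k = R_0 which is Cohen–Macaulay and generated over k by
R_1, of dimension r ≥ 2, with canonical module K_R and a-invariant a(R). Then dim_k (K_R)_n ≥ 2 for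
every n > −a(R). Here 'graded ring defined over a field' means R = ⊕_{n ≥ 0} R_n is Noetherian with
R_0 a field (so R is finitely generated over R_0), m = R_+ is its unique graded maximal ideal and n
= dim R; the canonical module K_R (the graded dual of H^n_m(R)) is represented by a finitely
generated graded module C together with a homogeneous isomorphism from Hom_R(C, E) onto H^n_m(R),
where E is a *injective envelope of R/m and H^n_m(R) is computed from a *injective resolution of R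
in the graded category; by graded Matlis duality this says exactly that C ≅ K_R as graded modules.
The a-invariant a(R) is the largest degree in which the graded local cohomology H^n_m(R) (n = dim R,
m = R_+), computed from a *injective resolution of R in the graded category, is nonzero. -/
theorem result (R : Type u) [CommRing R] [LocCoh.IsCohenMacaulayRing R] (𝒜 : ℤ → AddSubgroup R) [GradedRing 𝒜] (hpos : ∀ n : ℤ, n < 0 → 𝒜 n = ⊥) (h0 : IsField (GrLC.deg0 𝒜)) (m : HomogeneousIdeal 𝒜) (hm : GrLC.IsStarLocal 𝒜 m) (hmsp : m.toIdeal = Ideal.span (⋃ n ∈ Set.Ioi (0 : ℤ), (𝒜 n : Set R))) (hstd : Ideal.span (⋃ n ∈ Set.Ioi (0 : ℤ), (𝒜 n : Set R)) = Ideal.span ((𝒜 1 : AddSubgroup R) : Set R)) (n : ℕ) (hn : ringKrullDim R = n) (h2 : 2 ≤ n) (I : GrLC.StarInjRes 𝒜 𝒜) (a : ℤ) (ha : GrLC.endDeg (I.Hgr m n) = ((a : WithTop ℤ) : WithBot (WithTop ℤ))) (E' : Type u) [AddCommGroup E'] [Module R E'] (𝓔 : ℤ → AddSubgroup E') [DirectSum.Decomposition 𝓔] [SetLike.GradedSMul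 𝒜 𝓔] (e : (R ⧸ m.toIdeal) →ₗ[R] E') (he : GrLC.IsStarInjHull 𝒜 (GrLC.quotGr 𝒜 m) 𝓔 e) (C : Type u) [AddCommGroup C] [Module R C] (𝒞 : ℤ → AddSubgroup C) [DirectSum.Decomposition 𝒞] [SetLike.GradedSMul 𝒜 𝒞] (hC : GrLC.IsStarCanonical 𝒜 𝒞 𝓔 m n I) (j : ℤ) (hj : -a < j) : 2 ≤ Module.finrank (GrLC.deg0 𝒜) (GrLC.comp 𝒜 𝒞 j) := by
  classical
  haveI : Module.Finite R C := hC.1
  letI : Field (GrLC.deg0 𝒜) := h0.toField
  have hpos' := GrothLib.GrLC.pos_of_bot hpos
  haveI : Nontrivial R := not_subsingleton_iff_nontrivial.1 fun h => by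
    rw [ringKrullDim_eq_bot_of_subsingleton] at hn; exact WithBot.bot_ne_coe hn
  let ℬ := GrothLib.GrLC.OverField.alg 𝒜
  have hsame := GrothLib.GrLC.OverField.mem_alg 𝒜
  haveI := GrothLib.GrLC.OverField.gsmul_to hsame 𝓔
  haveI := GrothLib.GrLC.OverField.gsmul_to hsame 𝒞
  have heB := GrothLib.GrLC.OverField.hull_to hsame he
  have hCB := GrothLib.GrLC.OverField.canonical_to hsame hC
  obtain ⟨β, hβ⟩ := GrothLib.GrDual.exists_isGDual_of_canonical (k := GrLC.deg0 𝒜)
    (GrothLib.GrLC.OverField.hpos_alg hpos') GrothLib.GrLC.OverField.zero_alg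
    (GrothLib.GrLC.OverField.hmsp_alg hmsp) (E := GrLC.GMod.of ℬ E' 𝓔) (C := GrLC.GMod.of ℬ C 𝒞)
    heB hCB
  have hne : 𝒞 (-a) ≠ ⊥ := fun h => by
    have hbot : I.Hgr m n a = ⊥ :=
      (GrothLib.Segre.Hgr_eq_bot_iff (GrothLib.GrLC.OverField.resTo hsame I) hβ a).2 h
    have hle : GrLC.endDeg (I.Hgr m n) ≤ (((a - 1 : ℤ) : WithTop ℤ) : WithBot (WithTop ℤ)) :=
      (GrothLib.GrLC.endDeg_le_iff _ _).2 fun g hg => by
        by_contra hg'
        have h1 := GrothLib.GrLC.le_endDeg _ hg'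
        rw [ha, WithBot.coe_le_coe, WithTop.coe_le_coe] at h1
        obtain rfl : g = a := by omega
        exact hg' hbot
    rw [ha, WithBot.coe_le_coe, WithTop.coe_le_coe] at hle
    omega
  obtain ⟨x, hx, hx0⟩ : ∃ x ∈ 𝒞 (-a), x ≠ 0 := by
    by_contra hcon
    push_neg at hcon
    exact hne ((AddSubgroup.eq_bot_iff_forall _).2 hcon)
  obtain ⟨u, v, hu, hv, hind⟩ := GrothLib.GrLC.exists_two_indep hpos' h0 hm (GrothLib.GrLC.irr_of_span hmsp)
    (hmsp.le.trans hstd.le) hn h2 he hC hx hx0 hj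
  have hfin : Module.Finite (GrLC.deg0 𝒜) (GrLC.comp 𝒜 𝒞 j) := by
    haveI := GrothLib.GrLC.OverField.finiteType_alg (𝒜 := 𝒜) hpos'
    have h := GrothLib.GrDual.finiteDimensional_piece (k := GrLC.deg0 𝒜) (𝒜 := ℬ)
      (GrothLib.GrLC.OverField.hpos_alg hpos') GrothLib.GrLC.OverField.zero_alg 𝒞 j
    exact h
  have hli : LinearIndependent (GrLC.deg0 𝒜) ![(⟨u, hu⟩ : GrLC.comp 𝒜 𝒞 j), ⟨v, hv⟩] :=
    LinearIndependent.pair_iff.2 fun c d h => hind c d (congrArg Subtype.val h)
  simpa using hli.fintype_card_le_finrank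

end Groth.Agent.S18657
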