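import Groth.Statements.S18659
import Groth.Agent.Lib.Segre.GorTools
import Groth.Agent.Lib.Segre.Dim
import Groth.Agent.Lib.GrLC.Exists
-- import your own Groth.Agent.* helpers here

set_option autoImplicit false
universe u
open scoped TensorProduct
open GrSegre

namespace Groth.Agent.S18659

open GrothLib.Segre GrothLib.GrLC
open scoped TensorProduct GrothLib.Segre

/-- A Segre product of two shifts of the rings with the same shift is a shift of the Segre ring. -/
theorem exists_shift_segMod {k R S T : Type u} [Field k] [CommRing R] [Algebra k R] [CommRing S] [Algebra k S]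
    [CommRing T] [Algebra k T] {𝒜 : ℤ → Submodule k R} [GradedAlgebra 𝒜] {ℬ : ℤ → Submodule k S} [GradedAlgebra ℬ]
    {𝒯 : ℤ → Submodule k T} [GradedAlgebra 𝒯] {ψ : T →ₐ[k] R ⊗[k] S} (hT : GrSeg.IsSegreRing 𝒜 ℬ 𝒯 ψ)
    {X : GrLC.GMod.{u} 𝒜} {Y : GrLC.GMod.{u} ℬ} {c : ℤ}
    (f : R →ₗ[R] X.carrier) (hf : Function.Bijective f) (hfd : GrLC.IsGrHomDeg 𝒜 X.gr f c)
    (g : S →ₗ[S] Y.carrier) (hg : Function.Bijective g) (hgd : GrLC.IsGrHomDeg ℬ Y.gr g c) :
    ∃ h : T →ₗ[T] (segMod X Y hT).carrier, Function.Bijective h ∧ GrLC.IsGrHomDeg 𝒯 (segMod X Y hT).gr h c := by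
  classical
  let F : R ⊗[k] S →ₗ[k] X.carrier ⊗[k] Y.carrier := TensorProduct.map (f.restrictScalars k) (g.restrictScalars k)
  have hx : f 1 ∈ X.gr c := by
    have := hfd 0 1 SetLike.GradedOne.one_mem
    rwa [zero_add] at this
  have hy : g 1 ∈ Y.gr c := by
    have := hgd 0 1 SetLike.GradedOne.one_mem
    rwa [zero_add] at this
  have hv : f 1 ⊗ₜ[k] g 1 ∈ GrSeg.segrePiece k X.gr Y.gr c := Submodule.subset_span ⟨_, hx, _, hy, rfl⟩
  let u := smk hT _ (piece_le_segSub c hv)
  let h : T →ₗ[T] (segMod X Y hT).carrier := LinearMap.toSpanSingleton T _ u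
  have hF : ∀ z : R ⊗[k] S, GrSeg.act k R S X.carrier Y.carrier z (f 1 ⊗ₜ[k] g 1) = F z := fun z => by
    induction z using TensorProduct.induction_on with
    | zero => simp
    | add a b ha hb => simp only [map_add, LinearMap.add_apply, ha, hb]
    | tmul a b =>
      rw [GrSeg.act_tmul, ← map_smul f, ← map_smul g, smul_eq_mul, smul_eq_mul, mul_one, mul_one]
      rfl
  have hsv : ∀ t, sval hT (h t) = F (ψ t) := fun t => by
    change sval hT (t • u) = _
    rw [sval_smul, sval_smk, hF]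
  refine ⟨h, ⟨fun a b hab => hT.1 ?_, fun z => ?_⟩, fun j t ht => ?_⟩
  · refine TensorProduct.map_injective_of_flat_flat' (f.restrictScalars k) (g.restrictScalars k) hf.1 hg.1 ?_
    change F (ψ a) = F (ψ b)
    rw [← hsv, ← hsv, hab]
  · suffices H : ∀ v ∈ segSub (k := k) X Y, ∃ t, F (ψ t) = v by
      obtain ⟨t, ht⟩ := H _ (sval_mem hT z)
      exact ⟨t, sval_injective hT ((hsv t).trans ht)⟩
    intro v hv
    induction hv using Submodule.iSup_induction' with
    | zero => exact ⟨0, by rw [map_zero, map_zero]⟩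
    | add a b _ _ ha hb =>
      obtain ⟨t, ht⟩ := ha
      obtain ⟨t', ht'⟩ := hb
      exact ⟨t + t', by rw [map_add, map_add, ht, ht']⟩
    | mem n v hv =>
      induction hv using Submodule.span_induction with
      | zero => exact ⟨0, by rw [map_zero, map_zero]⟩
      | add a b _ _ ha hb =>
        obtain ⟨t, ht⟩ := ha
        obtain ⟨t', ht'⟩ := hb
        exact ⟨t + t', by rw [map_add, map_add, ht, ht']⟩
      | smul d a _ ha =>
        obtain ⟨t, ht⟩ := ha
        exact ⟨d • t, by rw [map_smul ψ, map_smul F, ht]⟩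
      | mem v hv =>
        obtain ⟨a, ha, b, hb, rfl⟩ := hv
        obtain ⟨r, hr, rfl⟩ : ∃ r ∈ 𝒜 (n - c), f r = a := by
          obtain ⟨r, rfl⟩ := hf.2 a
          refine ⟨cmp 𝒜 (n - c) r, cmp_mem 𝒜 _ r, ?_⟩
          obtain ⟨S', hS⟩ := exists_sum_cmp 𝒜 r
          conv_rhs => rw [← cmp_of_mem X.gr ha, hS, map_sum, map_sum]
          rw [Finset.sum_eq_single (n - c)]
          · rw [cmp_of_mem X.gr (show f (cmp 𝒜 (n - c) r) ∈ X.gr n from by
              have := hfd (n - c) _ (cmp_mem 𝒜 (n - c) r)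
              rwa [sub_add_cancel] at this)]
          · intro i _ hne
            exact cmp_of_mem_ne X.gr (hfd i _ (cmp_mem 𝒜 i r)) (by omega)
          · intro hni
            have h0 : cmp 𝒜 (n - c) r = 0 := by
              rw [hS, map_sum]
              exact Finset.sum_eq_zero fun i hi => cmp_of_mem_ne 𝒜 (cmp_mem 𝒜 i r) fun h => hni (h ▸ hi)
            rw [h0, map_zero, map_zero]
        obtain ⟨r', hr', rfl⟩ : ∃ r ∈ ℬ (n - c), g r = b := by
          obtain ⟨r', rfl⟩ := hg.2 b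
          refine ⟨cmp ℬ (n - c) r', cmp_mem ℬ _ r', ?_⟩
          obtain ⟨S', hS⟩ := exists_sum_cmp ℬ r'
          conv_rhs => rw [← cmp_of_mem Y.gr hb, hS, map_sum, map_sum]
          rw [Finset.sum_eq_single (n - c)]
          · rw [cmp_of_mem Y.gr (show g (cmp ℬ (n - c) r') ∈ Y.gr n from by
              have := hgd (n - c) _ (cmp_mem ℬ (n - c) r')
              rwa [sub_add_cancel] at this)]
          · intro i _ hne
            exact cmp_of_mem_ne Y.gr (hgd i _ (cmp_mem ℬ i r')) (by omega)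
          · intro hni
            have h0 : cmp ℬ (n - c) r' = 0 := by
              rw [hS, map_sum]
              exact Finset.sum_eq_zero fun i hi => cmp_of_mem_ne ℬ (cmp_mem ℬ i r') fun h => hni (h ▸ hi)
            rw [h0, map_zero, map_zero]
        have hmem : r ⊗ₜ[k] r' ∈ GrSeg.segrePiece k 𝒜 ℬ (n - c) := Submodule.subset_span ⟨r, hr, r', hr', rfl⟩
        obtain ⟨t, -, ht⟩ := exists_psi hT hmem
        exact ⟨t, by rw [ht]; rfl⟩
  · change sval hT (h t) ∈ GrSeg.segrePiece k X.gr Y.gr (j + c)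
    rw [hsv]
    have := psi_mem hT ht
    generalize ψ t = z at this ⊢
    induction this using Submodule.span_induction with
    | zero => rw [map_zero]; exact zero_mem _
    | add a b _ _ ha hb => rw [map_add]; exact add_mem ha hb
    | smul d a _ ha => rw [map_smul]; exact Submodule.smul_mem _ d ha
    | mem v hv =>
      obtain ⟨a, ha, b, hb, rfl⟩ := hv
      exact Submodule.subset_span ⟨f a, hfd j a ha, g b, hgd j b hb, rfl⟩

/-- Let R and S be graded rings defined over a field k which are Gorenstein, of dimensions r ≥ 2 and s ≥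
2, with a(R) = a(S). If the Segre product T = R # S is a Cohen–Macaulay ring, then T is a Gorenstein
ring. (No generation in degree one is assumed here.) Here a graded ring defined over k is a
commutative k-algebra of finite type, graded in nonnegative degrees by k-subspaces with degree-zero
part k·1; the a-invariant a(R) is the largest degree in which the graded local cohomology H^{dim
R}_{R_+}(R), computed from a *injective resolution of R in the graded category, is nonzero; the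
Segre product T = ⊕_n R_n ⊗_k S_n is presented abstractly as a graded k-algebra T with an injective
k-algebra homomorphism ψ : T → R ⊗_k S carrying T_n onto the k-span of the elementary tensors a ⊗ b
with a ∈ R_n, b ∈ S_n. -/
theorem result (k : Type u) [Field k] (R : Type u) [CommRing R] [Algebra k R] (𝒜 : ℤ → Submodule k R) [GradedAlgebra 𝒜] (hposR : ∀ n : ℤ, n < 0 → 𝒜 n = ⊥) (h0R : 𝒜 0 = Submodule.span k {(1 : R)}) [Algebra.FiniteType k R] (S : Type u) [CommRing S] [Algebra k S] (ℬ : ℤ → Submodule k S) [GradedAlgebra ℬ] (hposS : ∀ n : ℤ, n < 0 → ℬ n = ⊥) (h0S : ℬ 0 = Submodule.span k {(1 : S)}) [Algebra.FiniteType k S] (T : Type u) [CommRing T] [Algebra k T] (𝒯 : ℤ → Submodule k T) [GradedAlgebra 𝒯] (ψ : T →ₐ[k] TensorProduct k R S) (hψ : Function.Injective ψ) (hdegT : ∀ n : ℤ, (𝒯 n).map ψ.toLinearMap = Submodule.span k {x : TensorProduct k R S | ∃ a ∈ 𝒜 n, ∃ b ∈ ℬ n, x = a ⊗ₜ[k] b}) [LocCoh.IsGorensteinRing R] [LocCoh.IsGorensteinRing S] (mR : HomogeneousIdeal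 𝒜) (hmR : mR.toIdeal = Ideal.span (⋃ n ∈ Set.Ioi (0 : ℤ), (𝒜 n : Set R))) (I : GrLC.StarInjRes 𝒜 𝒜) (mS : HomogeneousIdeal ℬ) (hmS : mS.toIdeal = Ideal.span (⋃ n ∈ Set.Ioi (0 : ℤ), (ℬ n : Set S))) (J : GrLC.StarInjRes ℬ ℬ) (r s : ℕ) (hr : ringKrullDim R = r) (hs : ringKrullDim S = s) (h2r : 2 ≤ r) (h2s : 2 ≤ s) (haeq : GrLC.endDeg (I.Hgr mR r) = GrLC.endDeg (J.Hgr mS s)) [LocCoh.IsCohenMacaulayRing T] : LocCoh.IsGorensteinRing T := by
  classical
  obtain ⟨ρ, rfl⟩ : ∃ ρ, r = ρ + 2 := ⟨r - 2, by omega⟩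
  obtain ⟨σ, rfl⟩ : ∃ σ, s = σ + 2 := ⟨s - 2, by omega⟩
  have hT : GrSeg.IsSegreRing 𝒜 ℬ 𝒯 ψ := ⟨hψ, hdegT⟩
  have : Nontrivial R := not_subsingleton_iff_nontrivial.1 fun h => by
    rw [ringKrullDim_eq_bot_of_subsingleton] at hr; exact WithBot.bot_ne_coe hr
  have : Nontrivial S := not_subsingleton_iff_nontrivial.1 fun h => by
    rw [ringKrullDim_eq_bot_of_subsingleton] at hs; exact WithBot.bot_ne_coe hs
  have : Nontrivial T := segre_nontrivial hT
  have hposT : ∀ n : ℤ, n < 0 → 𝒯 n = ⊥ := fun n hn => segre_neg hT hposR hn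
  have h0T := segre_zero hT h0R h0S
  have : Algebra.FiniteType k T := segre_finiteType hT hposR h0R hposS h0S
  have : IsNoetherianRing R := Algebra.FiniteType.isNoetherianRing k R
  have : IsNoetherianRing S := Algebra.FiniteType.isNoetherianRing k S
  have : IsNoetherianRing T := Algebra.FiniteType.isNoetherianRing k T
  let mT : HomogeneousIdeal 𝒯 := ⟨Ideal.span (⋃ n ∈ Set.Ioi (0 : ℤ), (𝒯 n : Set T)),
    Ideal.homogeneous_span _ _ fun x hx => by
      obtain ⟨i, -, hx⟩ := Set.mem_iUnion₂.1 hx; exact ⟨i, hx⟩⟩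
  have hmT : mT.toIdeal = Ideal.span (⋃ n ∈ Set.Ioi (0 : ℤ), (𝒯 n : Set T)) := rfl
  have := GrothLib.Segre.isMaximal hposR h0R hmR
  have := GrothLib.Segre.isMaximal hposS h0S hmS
  have := GrothLib.Segre.isMaximal hposT h0T hmT
  let K : GrLC.StarInjRes 𝒯 𝒯 := GrothLib.GrLC.starInjRes 𝒯 𝒯
  have hd : ringKrullDim T = ((ρ + σ + 2 + 1 : ℕ) : WithBot ℕ∞) := by
    rw [show ρ + σ + 2 + 1 = ρ + 1 + 1 + (σ + 1) by omega]
    exact ringKrullDim_segre 𝒜 ℬ hposR h0R hposS h0S 𝒯 ψ hψ hdegT (ρ + 1) (σ + 1) hr hs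
  obtain ⟨ER, eR, CR, heR, hCR, βR, hβR⟩ := GrothLib.GrDual.exists_starCanonical (n := ρ + 2) hposR h0R hmR I
  obtain ⟨ES, eS, CS, heS, hCS, βS, hβS⟩ := GrothLib.GrDual.exists_starCanonical (n := σ + 2) hposS h0S hmS J
  obtain ⟨ET, eT, CT, heT, hCT, βT, hβT⟩ :=
    GrothLib.GrDual.exists_starCanonical (n := ρ + σ + 2 + 1) hposT h0T hmT K
  have := hCR.1
  have := hCS.1
  have := hCT.1
  have := GrothLib.Gor.isCohenMacaulayRing R
  have := GrothLib.Gor.isCohenMacaulayRing S
  obtain ⟨cR, fR, hfR, hfRd⟩ := (isGorensteinRing_iff_exists_shift (pos' hposR) (isField_deg0 h0R)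
    (isStarLocal_irrel hposR h0R hmR) (irr' hmR) hr heR hCR).1 inferInstance
  obtain ⟨cS, fS, hfS, hfSd⟩ := (isGorensteinRing_iff_exists_shift (pos' hposS) (isField_deg0 h0S)
    (isStarLocal_irrel hposS h0S hmS) (irr' hmS) hs heS hCS).1 inferInstance
  rw [endDeg_of_shift hposR I hβR hfR hfRd, endDeg_of_shift hposS J hβS hfS hfSd, WithBot.coe_inj, WithTop.coe_inj,
    neg_inj] at haeq
  subst haeq
  obtain ⟨h, hh, hhd⟩ := exists_shift_segMod hT fR hfR hfRd fS hfS hfSd
  obtain ⟨ε, hε⟩ := (iso_canonical_segre hT hposR h0R hposS h0S hmR hmS hmT I J K hβR hβS hβT hr.le hs.le).symm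
  exact (isGorensteinRing_iff_exists_shift (pos' hposT) (isField_deg0 h0T) (isStarLocal_irrel hposT h0T hmT)
    (irr' hmT) hd heT hCT).2 ⟨cR, ε.toLinearMap ∘ₗ h, ε.bijective.comp hh, fun j t ht => hε _ _ (hhd j t ht)⟩

end Groth.Agent.S18659
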