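import Groth.Statements.S1866
import Groth.Agent.Lib.Cube.AffineComplement
import Groth.Agent.Lib.Euler.AmpleExists
-- import your own Groth.Agent.* helpers here

set_option autoImplicit false
universe u v
open CategoryTheory MonoidalCategory CartesianMonoidalCategory MonObj GrpObj AlgebraicGeometry
open GrpSch

namespace Groth.Agent.S1866

/-- An abelian variety over a field K is projective over K; stated as: there is a closed immersion into
projective n-space over K compatible with the structure morphisms, for some n. -/
theorem result (K : Type u) [Field K] (A : Over (Spec (CommRingCat.of K))) [GrpObj A] [IsProper A.hom] [GeometricallyIntegral A.hom] : ∃ (n : ℕ) (j : A.left ⟶ CohB1.ProjSpace n K), IsClosedImmersion j ∧ j ≫ CohB1.ProjSpace.toSpec n K = A.hom := by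
  obtain ⟨L, hA⟩ := GrothLib.Cube.exists_isAmple A
  obtain ⟨n, i, hi, hif⟩ := GrothLib.Ample.exists_immersion_of_isAmple A.hom hA
  haveI := hi
  haveI : IsProper (CohB1.ProjSpaceOver.toBase n (Spec (CommRingCat.of K))) := GrothLib.Chow.isProper_toBase n _
  haveI : IsProper (i ≫ CohB1.ProjSpaceOver.toBase n (Spec (CommRingCat.of K))) := hif ▸ inferInstance
  haveI : IsProper i := IsProper.of_comp i (CohB1.ProjSpaceOver.toBase n _)
  haveI := GrothLib.Chow.isClosedImmersion_of_isImmersion_of_isProper i
  haveI := GrothLib.Ample.ProjMap.isClosedImmersion_toProjSpace n K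
  refine ⟨n, i ≫ GrothLib.Ample.ProjMap.toProjSpace n K, inferInstance, ?_⟩
  rw [Category.assoc, GrothLib.Ample.ProjMap.toProjSpace_toSpec]
  exact hif


end Groth.Agent.S1866
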