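import Groth.Statements.S18660
import Groth.Agent.Lib.Segre.DimOneGor
import Groth.Agent.Lib.Segre.SegRing
import Groth.Agent.Lib.Segre.Dim

set_option autoImplicit false
universe u
open scoped TensorProduct
open GrSegre

namespace Groth.Agent.S18660

open GrothLib.GrLC (cmp cmp_mem cmp_of_mem cmp_of_mem_ne gr_induction eq_zero_of_cmp)
open GrothLib.Segre

theorem gor_of_ringEquiv {A B : Type u} [CommRing A] [CommRing B] (e : A ≃+* B) [LocCoh.IsGorensteinRing A] :
    LocCoh.IsGorensteinRing B :=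
  { (isNoetherianRing_of_ringEquiv A e) with
    isGorensteinLocalRing_localization := fun p _ => by
      have := LocCoh.IsGorensteinRing.isGorensteinLocalRing_localization (A := A) (p.comap e.toRingHom)
      refine GrothLib.GorEquiv.of_ringEquiv (IsLocalization.ringEquivOfRingEquiv
        (M := (p.comap e.toRingHom).primeCompl) (T := p.primeCompl)
        (Localization.AtPrime (p.comap e.toRingHom)) (Localization.AtPrime p) e ?_)
      ext x
      refine ⟨?_, fun hx => ⟨e.symm x, fun h => hx (by simpa using h), e.apply_symm_apply x⟩⟩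
      rintro ⟨y, hy, rfl⟩
      exact hy }

theorem le_span_of_finrank_le_one {k V : Type u} [Field k] [AddCommGroup V] [Module k V] (W : Submodule k V)
    [Module.Finite k W] (h : Module.finrank k W ≤ 1) : ∃ z, W ≤ Submodule.span k {z} := by
  obtain ⟨v, hv⟩ := finrank_le_one_iff.1 h
  refine ⟨(v : V), fun w hw => ?_⟩
  obtain ⟨c, hc⟩ := hv ⟨w, hw⟩
  exact Submodule.mem_span_singleton.2 ⟨c, congrArg Subtype.val hc⟩

theorem finrank_mono_mul {k R : Type u} [Field k] [CommRing R] [Algebra k R] (U V : Submodule k R) [Module.Finite k V]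
    (f : R) (h : ∀ x ∈ U, f * x ∈ V) (hf : ∀ x, f * x = 0 → x = 0) : Module.finrank k U ≤ Module.finrank k V :=
  LinearMap.finrank_le_finrank_of_injective (f := (LinearMap.mulLeft k f).restrict h) fun a b hab => Subtype.ext
    (sub_eq_zero.1 (hf _ (by rw [mul_sub, sub_eq_zero]; exact congrArg Subtype.val hab)))

/-- Let R and S be standard graded rings defined over a field k which are Cohen–Macaulay of dimension 1,
and assume R is not a polynomial ring over k. If the Segre product T = R # S is a Gorenstein ring,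
then S is a polynomial ring k[T] and R is a Gorenstein ring. Here a graded ring defined over k is a
commutative k-algebra of finite type, graded in nonnegative degrees by k-subspaces with degree-zero
part k·1, standard graded when its irrelevant ideal is generated by the degree-one piece;
'polynomial ring' means k-algebra isomorphic to k[T]; the Segre product T = ⊕_n R_n ⊗_k S_n is
presented abstractly as a graded k-algebra T with an injective k-algebra homomorphism ψ : T → R ⊗_k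
S carrying T_n onto the k-span of the elementary tensors a ⊗ b with a ∈ R_n, b ∈ S_n. -/
theorem result (k : Type u) [Field k] (R : Type u) [CommRing R] [Algebra k R] (𝒜 : ℤ → Submodule k R) [GradedAlgebra 𝒜] (hposR : ∀ n : ℤ, n < 0 → 𝒜 n = ⊥) (h0R : 𝒜 0 = Submodule.span k {(1 : R)}) [Algebra.FiniteType k R] (S : Type u) [CommRing S] [Algebra k S] (ℬ : ℤ → Submodule k S) [GradedAlgebra ℬ] (hposS : ∀ n : ℤ, n < 0 → ℬ n = ⊥) (h0S : ℬ 0 = Submodule.span k {(1 : S)}) [Algebra.FiniteType k S] (T : Type u) [CommRing T] [Algebra k T] (𝒯 : ℤ → Submodule k T) [GradedAlgebra 𝒯] (ψ : T →ₐ[k] TensorProduct k R S) (hψ : Function.Injective ψ) (hdegT : ∀ n : ℤ, (𝒯 n).map ψ.toLinearMap = Submodule.span k {x : TensorProduct k R S | ∃ a ∈ 𝒜 n, ∃ b ∈ ℬ n, x = a ⊗ₜ[k] b}) [LocCoh.IsCohenMacaulayRing R] [LocCoh.IsCohenMacaulayRing S] (hstdR : Ideal.span (⋃ n ∈ Set.Ioi (0 : ℤ), (𝒜 n : Set R)) = Ideal.span ((𝒜 1 : Submodule k R) : Set R)) (hstdS : Ideal.span (⋃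 n ∈ Set.Ioi (0 : ℤ), (ℬ n : Set S)) = Ideal.span ((ℬ 1 : Submodule k S) : Set S)) (hr : ringKrullDim R = 1) (hs : ringKrullDim S = 1) (hR : IsEmpty (R ≃ₐ[k] Polynomial k)) [LocCoh.IsGorensteinRing T] : Nonempty (S ≃ₐ[k] Polynomial k) ∧ LocCoh.IsGorensteinRing R := by
  classical
  have hT : GrSeg.IsSegreRing 𝒜 ℬ 𝒯 ψ := ⟨hψ, hdegT⟩
  haveI : Nontrivial R := by
    by_contra hn
    rw [not_nontrivial_iff_subsingleton] at hn
    rw [ringKrullDim_eq_bot_of_subsingleton] at hr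
    exact absurd hr (by simp)
  haveI : Nontrivial S := by
    by_contra hn
    rw [not_nontrivial_iff_subsingleton] at hn
    rw [ringKrullDim_eq_bot_of_subsingleton] at hs
    exact absurd hs (by simp)
  haveI : Nontrivial T := segre_nontrivial hT
  haveI : Algebra.FiniteType k T := segre_finiteType hT hposR h0R hposS h0S
  have hposT : ∀ n : ℤ, n < 0 → 𝒯 n = ⊥ := fun n hn => segre_neg hT hposR hn
  have h0T := segre_zero hT h0R h0S
  have hdimT : ringKrullDim T = 1 := by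
    simpa using ringKrullDim_segre 𝒜 ℬ hposR h0R hposS h0S 𝒯 ψ hψ hdegT 0 0 (by simpa using hr) (by simpa using hs)
  have hψinj : Function.Injective ψ.toLinearMap := hψ
  have hmem : ∀ {n : ℤ} {a : R} {b : S}, a ∈ 𝒜 n → b ∈ ℬ n → ∃ t ∈ 𝒯 n, ψ t = a ⊗ₜ[k] b :=
    fun {n a b} ha hb => (hdegT n).ge (Submodule.subset_span ⟨a, ha, b, hb, rfl⟩)
  have hmul : ∀ i : ℕ, 𝒯 ((i + 1 : ℕ) : ℤ) ≤ 𝒯 (i : ℤ) * 𝒯 1 := fun i => by
    rw [← Submodule.map_le_map_iff_of_injective hψinj, hdegT, Submodule.span_le]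
    rintro _ ⟨a, ha, b, hb, rfl⟩
    have ha' := piece_succ_le hstdR i ha
    have hb' := piece_succ_le hstdS i hb
    clear ha hb
    induction ha' using Submodule.mul_induction_on' generalizing b with
    | mem_mul_mem x hx y hy =>
      induction hb' using Submodule.mul_induction_on' with
      | mem_mul_mem x' hx' y' hy' =>
        obtain ⟨t, ht, et⟩ := hmem hx hx'
        obtain ⟨u, hu, eu⟩ := hmem hy hy'
        exact ⟨t * u, Submodule.mul_mem_mul ht hu, by
          change ψ (t * u) = _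
          rw [map_mul, et, eu, Algebra.TensorProduct.tmul_mul_tmul]⟩
      | add v _ w _ hv hw => rw [TensorProduct.tmul_add]; exact add_mem hv hw
    | add v _ w _ hv hw => rw [TensorProduct.add_tmul]; exact add_mem (hv b hb') (hw b hb')
  have hstdT : Ideal.span (⋃ n ∈ Set.Ioi (0 : ℤ), (𝒯 n : Set T)) = Ideal.span ((𝒯 1 : Submodule k T) : Set T) := by
    refine le_antisymm (Ideal.span_le.2 fun z hz => ?_) (Ideal.span_mono fun z hz =>
      Set.mem_iUnion₂.2 ⟨1, (one_pos : (0 : ℤ) < 1), hz⟩)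
    obtain ⟨n, hn, hz⟩ := Set.mem_iUnion₂.1 hz
    obtain ⟨i, rfl⟩ : ∃ i : ℕ, n = ((i + 1 : ℕ) : ℤ) :=
      ⟨(n - 1).toNat, by have : (0 : ℤ) < n := hn; omega⟩
    exact (Submodule.mul_le.2 fun x _ y hy => Ideal.mul_mem_left _ x (Ideal.subset_span hy) :
      𝒯 (i : ℤ) * 𝒯 1 ≤ (Ideal.span ((𝒯 1 : Submodule k T) : Set T)).restrictScalars k) (hmul i hz)
  have mk : ∀ {A : Type u} [CommRing A] [Algebra k A] (𝒢 : ℤ → Submodule k A) [GradedAlgebra 𝒢],
      ∃ m : HomogeneousIdeal 𝒢, m.toIdeal = Ideal.span (⋃ n ∈ Set.Ioi (0 : ℤ), (𝒢 n : Set A)) := fun 𝒢 =>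
    ⟨⟨_, Ideal.homogeneous_span _ _ fun x hx => by
      obtain ⟨i, -, hx⟩ := Set.mem_iUnion₂.1 hx; exact ⟨i, hx⟩⟩, rfl⟩
  obtain ⟨mR, hmR⟩ := mk 𝒜
  obtain ⟨mS, hmS⟩ := mk ℬ
  obtain ⟨mT, hmT⟩ := mk 𝒯
  haveI hfR : ∀ n : ℤ, Module.Finite k (𝒜 n) := fun n =>
    haveI := GrothLib.GrDual.finiteDimensional_piece (k := k) (M := R) (𝒜 := 𝒜) hposR h0R 𝒜 n
    Module.Finite.equiv (LinearEquiv.ofEq (GrothLib.GrDual.pieceK 𝒜 𝒜 n) (𝒜 n) (Submodule.ext fun _ => Iff.rfl))
  haveI hfS : ∀ n : ℤ, Module.Finite k (ℬ n) := fun n =>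
    haveI := GrothLib.GrDual.finiteDimensional_piece (k := k) (M := S) (𝒜 := ℬ) hposS h0S ℬ n
    Module.Finite.equiv (LinearEquiv.ofEq (GrothLib.GrDual.pieceK ℬ ℬ n) (ℬ n) (Submodule.ext fun _ => Iff.rfl))
  have hH : ∀ n : ℤ, Module.finrank k (𝒯 n) = Module.finrank k (𝒜 n) * Module.finrank k (ℬ n) := fun n => by
    have hrange : (𝒯 n).map ψ.toLinearMap = LinearMap.range (TensorProduct.map (𝒜 n).subtype (ℬ n).subtype) := by
      rw [hdegT n, TensorProduct.range_map_eq_span_tmul]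
      congr 1
      ext x
      exact ⟨fun ⟨a, ha, b, hb, e⟩ => ⟨⟨a, ha⟩, ⟨b, hb⟩, e.symm⟩, fun ⟨a, b, e⟩ => ⟨a, a.2, b, b.2, e.symm⟩⟩
    rw [(Submodule.equivMapOfInjective _ hψinj _).finrank_eq, hrange, LinearMap.finrank_range_of_inj
      (TensorProduct.map_injective_of_flat_flat _ _ (Submodule.injective_subtype _) (Submodule.injective_subtype _)),
      Module.finrank_tensorProduct]
  obtain ⟨p, fR, hp, hfRd, hfRreg⟩ := exists_regular_homogeneous hposR h0R hmR hr
  obtain ⟨p', fS, hp', hfSd, hfSreg⟩ := exists_regular_homogeneous hposS h0S hmS hs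
  let q := p * p'
  have hq : 0 < q := Nat.mul_pos hp hp'
  have hgd : fR ^ p' ∈ 𝒜 (q : ℤ) := by
    have := SetLike.pow_mem_graded p' hfRd
    rwa [show p' • (p : ℤ) = ((q : ℕ) : ℤ) by simp [q, mul_comm]] at this
  have hgd' : fS ^ p ∈ ℬ (q : ℤ) := by
    have := SetLike.pow_mem_graded p hfSd
    rwa [show p • (p' : ℤ) = ((q : ℕ) : ℤ) by simp [q]] at this
  have hgreg : ∀ x : R, fR ^ p' * x = 0 → x = 0 := fun x hx =>
    (IsSMulRegular.pow p' (isSMulRegular_iff_right_eq_zero_of_smul.2 hfRreg : IsSMulRegular R fR)).right_eq_zero_of_smul hx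
  have hgreg' : ∀ x : S, fS ^ p * x = 0 → x = 0 := fun x hx =>
    (IsSMulRegular.pow p (isSMulRegular_iff_right_eq_zero_of_smul.2 hfSreg : IsSMulRegular S fS)).right_eq_zero_of_smul hx
  obtain ⟨F, hFd, hF⟩ := hmem hgd hgd'
  have hFreg : ∀ x, F * x = 0 → x = 0 := fun x hx => hψ (by
    have hinj := TensorProduct.map_injective_of_flat_flat (LinearMap.mulLeft k (fR ^ p')) (LinearMap.mulLeft k (fS ^ p))
      ((injective_iff_map_eq_zero _).2 hgreg) ((injective_iff_map_eq_zero _).2 hgreg')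
    rw [map_zero]
    refine hinj ?_
    rw [map_zero]
    have h1 : LinearMap.mulLeft k ((fR ^ p') ⊗ₜ[k] (fS ^ p)) =
        TensorProduct.map (LinearMap.mulLeft k (fR ^ p')) (LinearMap.mulLeft k (fS ^ p)) :=
      TensorProduct.ext' fun a b => by simp
    rw [← h1]
    change (fR ^ p') ⊗ₜ[k] (fS ^ p) * ψ x = 0
    rw [← hF, ← map_mul, hx, map_zero])
  obtain ⟨D, hD, hD0⟩ := exists_socle_degree hposT h0T hstdT hmT hdimT hq hFd hFreg
  rw [hH, hH] at hD
  have hle := finrank_mono_mul (𝒜 ((D : ℤ) - q)) (𝒜 (D : ℤ)) _ (fun x hx => by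
    have := SetLike.mul_mem_graded hgd hx
    rwa [add_sub_cancel] at this) hgreg
  have hle' := finrank_mono_mul (ℬ ((D : ℤ) - q)) (ℬ (D : ℤ)) _ (fun x hx => by
    have := SetLike.mul_mem_graded hgd' hx
    rwa [add_sub_cancel] at this) hgreg'
  have hDpos : 0 < D := by
    rcases Nat.eq_zero_or_pos D with h | h
    · exfalso
      have h1 := hD0 h
      rw [hH] at h1
      obtain ⟨y, hy, hyn⟩ := exists_not_isNilpotent hposS h0S hstdS hmS hs
      have hy1 : 1 ≤ Module.finrank k (ℬ 1) := Submodule.one_le_finrank_iff.2 fun hb =>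
        hyn (by rw [hb, Submodule.mem_bot] at hy; rw [hy]; exact IsNilpotent.zero)
      obtain ⟨z, hz⟩ := le_span_of_finrank_le_one (𝒜 1) (le_trans (Nat.le_mul_of_pos_right _ hy1) h1)
      exact hR.false (nonempty_algEquiv_of_le_span hposR h0R hstdR hmR hr (d := 1) one_pos (by simpa using hz)).some
    · exact h
  have hB : Module.finrank k (ℬ (D : ℤ)) ≤ 1 := by
    rcases Nat.lt_or_eq_of_le hle with h | h
    · have h1 := Nat.mul_le_mul_right (Module.finrank k (ℬ (D : ℤ))) (Nat.succ_le_of_lt h)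
      have h2 := Nat.mul_le_mul_left (Module.finrank k (𝒜 ((D : ℤ) - q))) hle'
      rw [Nat.succ_mul] at h1
      omega
    · exfalso
      rw [← h] at hD
      have h1 : Module.finrank k (𝒜 ((D : ℤ) - q)) = 1 := Nat.dvd_one.1
        ((Nat.dvd_add_right (Dvd.intro _ rfl)).1 (hD ▸ Dvd.intro _ rfl))
      obtain ⟨z, hz⟩ := le_span_of_finrank_le_one (𝒜 (D : ℤ)) (by omega)
      exact hR.false (nonempty_algEquiv_of_le_span hposR h0R hstdR hmR hr hDpos hz).some
  obtain ⟨z, hz⟩ := le_span_of_finrank_le_one _ hB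
  refine ⟨nonempty_algEquiv_of_le_span hposS h0S hstdS hmS hs hDpos hz, ?_⟩
  obtain ⟨a, ha, hnil, hline⟩ := exists_line hposS h0S hstdS hmS hs hDpos hz
  obtain ⟨ev, hev⟩ := exists_eval hposS h0S hstdS hmS hs ha hnil hline
  let χ : T →ₐ[k] R := ((Algebra.TensorProduct.rid k k R).toAlgHom.comp
    (Algebra.TensorProduct.map (AlgHom.id k R) ev)).comp ψ
  have hpow : ∀ i : ℕ, a ^ i ∈ ℬ (i : ℤ) := fun i => by simpa using SetLike.pow_mem_graded i ha
  have hrepr : ∀ (n : ℕ), ∀ t ∈ 𝒯 (n : ℤ), χ t ∈ 𝒜 (n : ℤ) ∧ ψ t = χ t ⊗ₜ[k] (a ^ n) := fun n t ht => by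
    have h1 : ψ t ∈ (𝒯 (n : ℤ)).map ψ.toLinearMap := ⟨t, ht, rfl⟩
    rw [hdegT] at h1
    suffices h : ∀ v ∈ Submodule.span k {x : R ⊗[k] S | ∃ a ∈ 𝒜 (n : ℤ), ∃ b ∈ ℬ (n : ℤ), x = a ⊗ₜ[k] b},
        Algebra.TensorProduct.rid k k R (Algebra.TensorProduct.map (AlgHom.id k R) ev v) ∈ 𝒜 (n : ℤ) ∧
        v = Algebra.TensorProduct.rid k k R (Algebra.TensorProduct.map (AlgHom.id k R) ev v) ⊗ₜ[k] (a ^ n) from h _ h1
    intro v hv
    induction hv using Submodule.span_induction with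
    | mem v hv =>
      obtain ⟨x, hx, b, hb, rfl⟩ := hv
      obtain ⟨c, rfl⟩ := Submodule.mem_span_singleton.1 (piece_le_span_pow hposS h0S hstdS hmS ha hline n hb)
      have e : Algebra.TensorProduct.rid k k R (Algebra.TensorProduct.map (AlgHom.id k R) ev (x ⊗ₜ[k] (c • a ^ n))) =
          c • x := by simp [hev]
      rw [e]
      exact ⟨Submodule.smul_mem _ _ hx, (TensorProduct.smul_tmul c x (a ^ n)).symm⟩
    | zero => simp
    | add u v _ _ hu hv =>
      rw [map_add, map_add, TensorProduct.add_tmul, ← hu.2, ← hv.2]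
      exact ⟨add_mem hu.1 hv.1, rfl⟩
    | smul c u _ hu =>
      rw [map_smul, map_smul, ← TensorProduct.smul_tmul', ← hu.2]
      exact ⟨Submodule.smul_mem _ _ hu.1, rfl⟩
  have hneg : ∀ g : ℤ, g < 0 → ∀ t ∈ 𝒯 g, t = 0 := fun g hg t ht => by rwa [hposT g hg, Submodule.mem_bot] at ht
  have hcmp : ∀ (g : ℤ) (t : T), cmp 𝒜 g (χ t) = χ (cmp 𝒯 g t) := fun g t => by
    induction t using gr_induction 𝒯 with
    | h0 => simp
    | hadd u v hu hv => simp [hu, hv]
    | hh d t ht =>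
      rcases lt_or_ge d 0 with hd | hd
      · simp [hneg d hd t ht]
      · obtain ⟨n, rfl⟩ := Int.eq_ofNat_of_zero_le hd
        by_cases hg : (n : ℤ) = g
        · subst hg; rw [cmp_of_mem 𝒯 ht, cmp_of_mem 𝒜 (hrepr n t ht).1]
        · rw [cmp_of_mem_ne 𝒯 ht hg, map_zero, cmp_of_mem_ne 𝒜 (hrepr n t ht).1 hg]
  have hbij : Function.Bijective χ := by
    refine ⟨(injective_iff_map_eq_zero χ).2 fun t ht => eq_zero_of_cmp 𝒯 fun g => ?_, fun x => ?_⟩
    · rcases lt_or_ge g 0 with hg | hg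
      · exact hneg g hg _ (cmp_mem 𝒯 g t)
      · obtain ⟨n, rfl⟩ := Int.eq_ofNat_of_zero_le hg
        refine hψ ?_
        rw [(hrepr n _ (cmp_mem 𝒯 _ t)).2, ← hcmp, ht, map_zero, TensorProduct.zero_tmul, map_zero]
    · induction x using gr_induction 𝒜 with
      | h0 => exact ⟨0, map_zero χ⟩
      | hadd u v hu hv =>
        obtain ⟨t, rfl⟩ := hu
        obtain ⟨t', rfl⟩ := hv
        exact ⟨t + t', map_add χ t t'⟩
      | hh d x hx =>
        rcases lt_or_ge d 0 with hd | hd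
        · exact ⟨0, by rw [map_zero]; exact ((Submodule.mem_bot k).1 ((hposR d hd).le hx)).symm⟩
        · obtain ⟨n, rfl⟩ := Int.eq_ofNat_of_zero_le hd
          obtain ⟨t, ht, et⟩ := hmem hx (hpow n)
          refine ⟨t, ?_⟩
          change Algebra.TensorProduct.rid k k R (Algebra.TensorProduct.map (AlgHom.id k R) ev (ψ t)) = x
          rw [et]; simp [hev]
  exact gor_of_ringEquiv (RingEquiv.ofBijective χ.toRingHom hbij)

end Groth.Agent.S18660
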