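import Groth.Statements.S18664
import Groth.Agent.S18648
import Groth.Agent.S18663
import Groth.Agent.Lib.Segre.OneDim

set_option autoImplicit false
universe u
open scoped TensorProduct
open GrSegre

namespace Groth.Agent.S18664

/-- Let R and S be standard graded rings defined over a field k which are Cohen–Macaulay, with dim R = 1
and dim S ≥ 2. Then the Segre product T = R # S is a Cohen–Macaulay ring if and only if R is a
polynomial ring over k (in one variable). Here a graded ring defined over k is a commutative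
k-algebra of finite type, graded in nonnegative degrees by k-subspaces with degree-zero part k·1,
standard graded when its irrelevant ideal is generated by the degree-one piece; the Segre product T
= ⊕_n R_n ⊗_k S_n is presented abstractly as a graded k-algebra T with an injective k-algebra
homomorphism ψ : T → R ⊗_k S carrying T_n onto the k-span of the elementary tensors a ⊗ b with a ∈
R_n, b ∈ S_n. -/
theorem result (k : Type u) [Field k] (R : Type u) [CommRing R] [Algebra k R] (𝒜 : ℤ → Submodule k R) [GradedAlgebra 𝒜] (hposR : ∀ n : ℤ, n < 0 → 𝒜 n = ⊥) (h0R : 𝒜 0 = Submodule.span k {(1 : R)}) [Algebra.FiniteType k R] (S : Type u) [CommRing S] [Algebra k S] (ℬ : ℤ → Submodule k S) [GradedAlgebra ℬ] (hposS : ∀ n : ℤ, n < 0 → ℬ n = ⊥) (h0S : ℬ 0 = Submodule.span k {(1 : S)}) [Algebra.FiniteType k S] (T : Type u) [CommRing T] [Algebra k T] (𝒯 : ℤ → Submodule k T) [GradedAlgebra 𝒯] (ψ : T →ₐ[k] TensorProduct k R S) (hψ : Function.Injective ψ) (hdegT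 : ∀ n : ℤ, (𝒯 n).map ψ.toLinearMap = Submodule.span k {x : TensorProduct k R S | ∃ a ∈ 𝒜 n, ∃ b ∈ ℬ n, x = a ⊗ₜ[k] b}) [LocCoh.IsCohenMacaulayRing R] [LocCoh.IsCohenMacaulayRing S] (hstdR : Ideal.span (⋃ n ∈ Set.Ioi (0 : ℤ), (𝒜 n : Set R)) = Ideal.span ((𝒜 1 : Submodule k R) : Set R)) (hstdS : Ideal.span (⋃ n ∈ Set.Ioi (0 : ℤ), (ℬ n : Set S)) = Ideal.span ((ℬ 1 : Submodule k S) : Set S)) (hr : ringKrullDim R = 1) (hs : 2 ≤ ringKrullDim S) : LocCoh.IsCohenMacaulayRing T ↔ Nonempty (R ≃ₐ[k] Polynomial k) := by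
  have : Nontrivial R := not_subsingleton_iff_nontrivial.1 fun h => by
    rw [ringKrullDim_eq_bot_of_subsingleton] at hr; simp at hr
  have : Nontrivial S := not_subsingleton_iff_nontrivial.1 fun h => by
    rw [ringKrullDim_eq_bot_of_subsingleton] at hs; simp at hs
  obtain ⟨s, hs'⟩ : ∃ s : ℕ, ringKrullDim S = s := by
    obtain ⟨N, f, hf⟩ := Algebra.FiniteType.iff_quotient_mvPolynomial''.1 (inferInstance : Algebra.FiniteType k S)
    have hle : ringKrullDim S ≤ (N : WithBot ℕ∞) := (ringKrullDim_le_of_surjective f.toRingHom hf).trans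
      (by rw [MvPolynomial.ringKrullDim_of_isNoetherianRing, ringKrullDim_eq_zero_of_field, zero_add, Nat.card_fin])
    generalize ringKrullDim S = d at hle hs ⊢
    cases d with
    | bot => simp at hs
    | coe x =>
      cases x with
      | top =>
        have h := WithBot.coe_le_coe.1 (show ((⊤ : ℕ∞) : WithBot ℕ∞) ≤ ((N : ℕ∞) : WithBot ℕ∞) from hle)
        simp at h
      | coe s => exact ⟨s, rfl⟩
  have h2s : 2 ≤ s := by rw [hs'] at hs; exact_mod_cast hs
  have hR' : ∀ x ∈ (⋃ n ∈ Set.Ioi (0 : ℤ), (𝒜 n : Set R)), SetLike.IsHomogeneousElem 𝒜 x := fun x hx => by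
    simp only [Set.mem_iUnion] at hx; obtain ⟨n, -, h⟩ := hx; exact ⟨n, h⟩
  let mR : HomogeneousIdeal 𝒜 := ⟨_, Ideal.homogeneous_span 𝒜 _ hR'⟩
  let I := GrothLib.GrLC.starInjRes 𝒜 𝒜
  have hcM := GrothLib.Segre.conc_ring hposR h0R (m := mR) rfl I (r := 1) (by exact_mod_cast hr)
  have : IsNoetherianRing R := Algebra.FiniteType.isNoetherianRing k R
  obtain ⟨l, hl⟩ := GrothLib.GrLC.exists_hspan (𝒜 := 𝒜) (a := mR)
  have hv0 : ∀ g, GrothLib.GrLC.Van l (GrothLib.GrLC.gmod 𝒜 𝒜) 0 g := fun g =>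
    (GrothLib.GrLC.Hcomp_eq_bot_iff_van I hl 0 g).1 (hcM.vanish 0 (by omega) g)
  have hneS : ∀ n : ℤ, 0 ≤ n → ℬ n ≠ ⊥ := fun n =>
    Groth.Agent.S18648.piece_ne_bot ℬ (GrothLib.Segre.isMaximal hposS h0S
      (m := ⟨_, Ideal.homogeneous_span ℬ _ fun x hx => by
        simp only [Set.mem_iUnion] at hx; obtain ⟨n, -, h⟩ := hx; exact ⟨n, h⟩⟩) rfl) hstdS hs' (by omega)
  rw [(Groth.Agent.S18663.result k R 𝒜 hposR h0R S ℬ hposS h0S T 𝒯 ψ hψ hdegT mR rfl I hr s hs' (by omega)).1 h2s]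
  constructor
  · intro h
    exact GrothLib.Segre.nonempty_algEquiv_of_van hposR h0R hstdR (m := mR) rfl hr hl hv0 fun g hg =>
      (GrothLib.GrLC.Hcomp_eq_bot_iff_van I hl 1 g).1 ((h g).resolve_right (hneS g hg))
  · rintro ⟨f⟩ n
    rcases lt_or_ge n 0 with hn | hn
    · exact Or.inr (hposS n hn)
    · refine Or.inl ((GrothLib.GrLC.Hcomp_eq_bot_iff_van I hl 1 n).2
        (GrothLib.Segre.van_of_algEquiv hposR h0R hstdR (m := mR) rfl hl hv0 f ?_ hn))
      exact Groth.Agent.S18648.piece_ne_bot 𝒜 (GrothLib.Segre.isMaximal hposR h0R (m := mR) rfl) hstdR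
        (r := 1) (by exact_mod_cast hr) le_rfl Int.one_nonneg

end Groth.Agent.S18664
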