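import Groth.Statements.S18665
import Groth.Agent.Lib.Segre.GorTools
import Groth.Agent.Lib.Segre.Gens
import Groth.Agent.Lib.Segre.Dim
import Groth.Agent.Lib.GrLC.Exists
import Groth.Agent.Lib.GrLC.BassCanon
-- import your own Groth.Agent.* helpers here

set_option autoImplicit false
universe u
open scoped TensorProduct
open GrSegre

namespace Groth.Agent.S18665

open GrothLib.Segre GrothLib.GrLC
open scoped TensorProduct GrothLib.Segre

theorem map_piece {k R : Type u} [Field k] [CommRing R] [Algebra k R] {𝒜 : ℤ → Submodule k R} [GradedAlgebra 𝒜]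
    {X : GrLC.GMod.{u} 𝒜} {c : ℤ} {f : R →ₗ[R] X.carrier} (hf : Function.Surjective f)
    (hfd : GrLC.IsGrHomDeg 𝒜 X.gr f c) {n : ℤ} {v : X.carrier} (hv : v ∈ X.gr n) :
    ∃ r ∈ 𝒜 (n - c), f r = v := by
  classical
  obtain ⟨r, rfl⟩ := hf v
  refine ⟨cmp 𝒜 (n - c) r, cmp_mem 𝒜 _ r, ?_⟩
  obtain ⟨S', hS⟩ := exists_sum_cmp 𝒜 r
  conv_rhs => rw [← cmp_of_mem X.gr hv, hS, map_sum, map_sum]
  rw [Finset.sum_eq_single (n - c)]
  · rw [cmp_of_mem X.gr (show f (cmp 𝒜 (n - c) r) ∈ X.gr n from by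
      have := hfd (n - c) _ (cmp_mem 𝒜 (n - c) r)
      rwa [sub_add_cancel] at this)]
  · intro i _ hne
    exact cmp_of_mem_ne X.gr (hfd i _ (cmp_mem 𝒜 i r)) (by omega)
  · intro hni
    have h0 : cmp 𝒜 (n - c) r = 0 := by
      rw [hS, map_sum]
      exact Finset.sum_eq_zero fun i hi => cmp_of_mem_ne 𝒜 (cmp_mem 𝒜 i r) fun h => hni (h ▸ hi)
    rw [h0, map_zero, map_zero]

/-- Let R and S be standard graded rings defined over a field k which are Gorenstein, of dimensions r ≥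
2 and s ≥ 2, put a = a(R), b = a(S) with a ≥ b, and assume that the Segre product T = R # S is a
Cohen–Macaulay ring. Then the type r(T) equals dim_k R_{a−b}. Here the type of T is the Bass number
μ_{r+s−1}(T_+, T), the dimension over the residue field of Ext^{r+s−1} over the local ring of T at
its graded maximal ideal T_+ (T has dimension r + s − 1); a graded ring defined over k is a
commutative k-algebra of finite type, graded in nonnegative degrees by k-subspaces with degree-zero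
part k·1, standard graded when its irrelevant ideal is generated by the degree-one piece; the
a-invariant is the largest nonzero degree of the top graded local cohomology with support in the
irrelevant ideal, computed from a *injective resolution in the graded category; the Segre product T
= ⊕_n R_n ⊗_k S_n is presented abstractly as a graded k-algebra T with an injective k-algebra
homomorphism ψ : T → R ⊗_k S carrying T_n onto the k-span of the elementary tensors a ⊗ b with a ∈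
R_n, b ∈ S_n. -/
theorem result (k : Type u) [Field k] (R : Type u) [CommRing R] [Algebra k R] (𝒜 : ℤ → Submodule k R) [GradedAlgebra 𝒜] (hposR : ∀ n : ℤ, n < 0 → 𝒜 n = ⊥) (h0R : 𝒜 0 = Submodule.span k {(1 : R)}) [Algebra.FiniteType k R] (S : Type u) [CommRing S] [Algebra k S] (ℬ : ℤ → Submodule k S) [GradedAlgebra ℬ] (hposS : ∀ n : ℤ, n < 0 → ℬ n = ⊥) (h0S : ℬ 0 = Submodule.span k {(1 : S)}) [Algebra.FiniteType k S] (T : Type u) [CommRing T] [Algebra k T] (𝒯 : ℤ → Submodule k T) [GradedAlgebra 𝒯] (ψ : T →ₐ[k] TensorProduct k R S) (hψ : Function.Injective ψ) (hdegT : ∀ n : ℤ, (𝒯 n).map ψ.toLinearMap = Submodule.span k {x : TensorProduct k R S | ∃ a ∈ 𝒜 n, ∃ b ∈ ℬ n, x = a ⊗ₜ[k] b}) [LocCoh.IsGorensteinRing R] [LocCoh.IsGorensteinRing S] (mR : HomogeneousIdeal 𝒜) (hmR : mR.toIdeal = Ideal.span (⋃ n ∈ Set.Ioi (0 : ℤ), (𝒜 n : Set R))) (hstdR : Ideal.span (⋃ n ∈ Set.Ioi (0 : ℤ), (𝒜 n : Set R)) = Ideal.span ((𝒜 1 : Submodule k R) : Set R)) (I : GrLC.StarInjRes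 𝒜 𝒜) (mS : HomogeneousIdeal ℬ) (hmS : mS.toIdeal = Ideal.span (⋃ n ∈ Set.Ioi (0 : ℤ), (ℬ n : Set S))) (hstdS : Ideal.span (⋃ n ∈ Set.Ioi (0 : ℤ), (ℬ n : Set S)) = Ideal.span ((ℬ 1 : Submodule k S) : Set S)) (J : GrLC.StarInjRes ℬ ℬ) (r s : ℕ) (hr : ringKrullDim R = r) (hs : ringKrullDim S = s) (h2r : 2 ≤ r) (h2s : 2 ≤ s) (a b : ℤ) (ha : GrLC.endDeg (I.Hgr mR r) = ((a : WithTop ℤ) : WithBot (WithTop ℤ))) (hb : GrLC.endDeg (J.Hgr mS s) = ((b : WithTop ℤ) : WithBot (WithTop ℤ))) (hab : b ≤ a) [LocCoh.IsCohenMacaulayRing T] (mT : HomogeneousIdeal 𝒯) [mT.toIdeal.IsMaximal] (hmT : mT.toIdeal = Ideal.span (⋃ n ∈ Set.Ioi (0 : ℤ), (𝒯 n : Set T))) : GrLC.bassNum mT.toIdeal T (r + s - 1) = (Module.finrank k (𝒜 (a - b)) : ℕ∞) := by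
  classical
  obtain ⟨ρ, rfl⟩ : ∃ ρ, r = ρ + 2 := ⟨r - 2, by omega⟩
  obtain ⟨σ, rfl⟩ : ∃ σ, s = σ + 2 := ⟨s - 2, by omega⟩
  have hT : GrSeg.IsSegreRing 𝒜 ℬ 𝒯 ψ := ⟨hψ, hdegT⟩
  have : Nontrivial R := not_subsingleton_iff_nontrivial.1 fun h => by
    rw [ringKrullDim_eq_bot_of_subsingleton] at hr; exact WithBot.bot_ne_coe hr
  have : Nontrivial S := not_subsingleton_iff_nontrivial.1 fun h => by
    rw [ringKrullDim_eq_bot_of_subsingleton] at hs; exact WithBot.bot_ne_coe hs
  have : Nontrivial T := segre_nontrivial hT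
  have hposT : ∀ n : ℤ, n < 0 → 𝒯 n = ⊥ := fun n hn => segre_neg hT hposR hn
  have h0T := segre_zero hT h0R h0S
  have : Algebra.FiniteType k T := segre_finiteType hT hposR h0R hposS h0S
  have : IsNoetherianRing R := Algebra.FiniteType.isNoetherianRing k R
  have : IsNoetherianRing S := Algebra.FiniteType.isNoetherianRing k S
  have : IsNoetherianRing T := Algebra.FiniteType.isNoetherianRing k T
  have := GrothLib.Gor.isCohenMacaulayRing R
  have := GrothLib.Gor.isCohenMacaulayRing S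
  have := GrothLib.Segre.isMaximal hposR h0R hmR
  have := GrothLib.Segre.isMaximal hposS h0S hmS
  let K : GrLC.StarInjRes 𝒯 𝒯 := GrothLib.GrLC.starInjRes 𝒯 𝒯
  rw [show ρ + 2 + (σ + 2) - 1 = ρ + σ + 2 + 1 by omega]
  have hd : ringKrullDim T = ((ρ + σ + 2 + 1 : ℕ) : WithBot ℕ∞) := by
    rw [show ρ + σ + 2 + 1 = ρ + 1 + 1 + (σ + 1) by omega]
    exact ringKrullDim_segre 𝒜 ℬ hposR h0R hposS h0S 𝒯 ψ hψ hdegT (ρ + 1) (σ + 1) hr hs
  obtain ⟨ER, eR, CR, heR, hCR, βR, hβR⟩ := GrothLib.GrDual.exists_starCanonical (n := ρ + 2) hposR h0R hmR I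
  obtain ⟨ES, eS, CS, heS, hCS, βS, hβS⟩ := GrothLib.GrDual.exists_starCanonical (n := σ + 2) hposS h0S hmS J
  obtain ⟨ET, eT, CT, heT, hCT, βT, hβT⟩ :=
    GrothLib.GrDual.exists_starCanonical (n := ρ + σ + 2 + 1) hposT h0T hmT K
  have := hCR.1
  have := hCS.1
  have := hCT.1
  obtain ⟨cR, fR, hfR, hfRd⟩ := (isGorensteinRing_iff_exists_shift (pos' hposR) (isField_deg0 h0R)
    (isStarLocal_irrel hposR h0R hmR) (irr' hmR) hr heR hCR).1 inferInstance
  obtain ⟨cS, fS, hfS, hfSd⟩ := (isGorensteinRing_iff_exists_shift (pos' hposS) (isField_deg0 h0S)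
    (isStarLocal_irrel hposS h0S hmS) (irr' hmS) hs heS hCS).1 inferInstance
  rw [endDeg_of_shift hposR I hβR hfR hfRd, WithBot.coe_inj, WithTop.coe_inj] at ha
  rw [endDeg_of_shift hposS J hβS hfS hfSd, WithBot.coe_inj, WithTop.coe_inj] at hb
  obtain ⟨ε, hε⟩ := iso_canonical_segre hT hposR h0R hposS h0S hmR hmS hmT I J K hβR hβS hβT hr.le hs.le
  have hε' := GrothLib.GrLC.IsHom.symm hε
  let g : R ⊗[k] S ≃ₗ[k] CR.carrier ⊗[k] CS.carrier :=
    TensorProduct.congr ((LinearEquiv.ofBijective fR hfR).restrictScalars k)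
      ((LinearEquiv.ofBijective fS hfS).restrictScalars k)
  let φ : CT.carrier →ₗ[k] R ⊗[k] S :=
    g.symm.toLinearMap ∘ₗ sval hT ∘ₗ ε.toLinearMap.restrictScalars k
  have hgact : ∀ (z : R ⊗[k] S) (v : R ⊗[k] S),
      g (GrSeg.act k R S R S z v) = GrSeg.act k R S CR.carrier CS.carrier z (g v) := fun z v => by
    induction z using TensorProduct.induction_on with
    | zero => simp
    | add a b ha hb => simp only [map_add, LinearMap.add_apply, ha, hb]
    | tmul a b =>
      induction v using TensorProduct.induction_on with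
      | zero => simp
      | add p q hp hq => simp only [map_add, hp, hq]
      | tmul p q =>
        rw [GrSeg.act_tmul]
        change fR (a • p) ⊗ₜ[k] fS (b • q) = GrSeg.act k R S CR.carrier CS.carrier (a ⊗ₜ[k] b) (fR p ⊗ₜ[k] fS q)
        rw [GrSeg.act_tmul, map_smul, map_smul]
  have himg : ∀ n : ℤ, (GrSeg.segrePiece k (fun j => 𝒜 (j + a)) (fun j => ℬ (j + b)) n).map g.toLinearMap =
      GrSeg.segrePiece k CR.gr CS.gr n := fun n => by
    rw [GrSeg.segrePiece, Submodule.map_span]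
    refine congrArg (Submodule.span k) (Set.ext fun v => ⟨?_, ?_⟩)
    · rintro ⟨_, ⟨p, hp, q, hq, rfl⟩, rfl⟩
      refine ⟨fR p, ?_, fS q, ?_, rfl⟩
      · have := hfRd (n + a) p hp
        rwa [show n + a + cR = n by omega] at this
      · have := hfSd (n + b) q hq
        rwa [show n + b + cS = n by omega] at this
    · rintro ⟨x, hx, y, hy, rfl⟩
      obtain ⟨p, hp, rfl⟩ := map_piece hfR.2 hfRd hx
      obtain ⟨q, hq, rfl⟩ := map_piece hfS.2 hfSd hy
      exact ⟨_, ⟨p, by rw [show n + a = n - cR by omega]; exact hp, q, by rw [show n + b = n - cS by omega]; exact hq,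
        rfl⟩, rfl⟩
  have hP : GrSeg.IsSegreMod ψ (fun j => 𝒜 (j + a)) (fun j => ℬ (j + b)) CT.gr φ :=
    { injective := g.symm.injective.comp ((sval_injective hT).comp ε.injective)
      image_piece := fun n => Set.ext fun v => ⟨by
          rintro ⟨p, hp, rfl⟩
          obtain ⟨w, hw, hw'⟩ := (himg n).ge (show sval hT (ε p) ∈ GrSeg.segrePiece k CR.gr CS.gr n from hε n p hp)
          change g.symm (sval hT (ε p)) ∈ _
          rw [← hw']
          change g.symm (g w) ∈ _
          rwa [g.symm_apply_apply],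
        fun hv => by
          have h1 : g v ∈ GrSeg.segrePiece k CR.gr CS.gr n := (himg n).le ⟨v, hv, rfl⟩
          refine ⟨ε.symm (smk hT _ (piece_le_segSub n h1)), hε' n _ h1, ?_⟩
          change g.symm (sval hT (ε (ε.symm _))) = v
          rw [ε.apply_symm_apply, sval_smk, g.symm_apply_apply]⟩
      map_smul := fun t p => by
        change g.symm (sval hT (ε (t • p))) = GrSeg.act k R S R S (ψ t) (g.symm (sval hT (ε p)))
        rw [g.symm_apply_eq, hgact, g.apply_symm_apply, map_smul, sval_smul] }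
  have hfin := finrank_quot_shifts hposR hposS h0S hT hstdR hstdS mT hmT hab hP
  rw [bassNum_self_eq (pos' hposT) (isStarLocal_irrel hposT h0T hmT) hd heT hCT, ← hfin]
  have h1 : Module.finrank k (T ⧸ mT.toIdeal) = 1 := by
    refine finrank_eq_one (Ideal.Quotient.mk _ 1) (fun h => (‹mT.toIdeal.IsMaximal›).ne_top
      ((Ideal.eq_top_iff_one _).2 (Ideal.Quotient.eq_zero_iff_mem.1 h))) fun w => ?_
    obtain ⟨t, rfl⟩ := Ideal.Quotient.mk_surjective w
    induction t using gr_induction 𝒯 with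
    | h0 => exact ⟨0, by rw [zero_smul, map_zero]⟩
    | hadd u v hu hv =>
      obtain ⟨c, hc⟩ := hu
      obtain ⟨d, hd⟩ := hv
      exact ⟨c + d, by rw [add_smul, hc, hd, map_add]⟩
    | hh i t ht =>
      rcases lt_trichotomy i 0 with h | rfl | h
      · exact ⟨0, by rw [zero_smul, pos' hposT i h t ht, map_zero]⟩
      · obtain ⟨c, rfl⟩ := Submodule.mem_span_singleton.1 (h0T.le ht)
        exact ⟨c, (map_smul (Ideal.Quotient.mkₐ k mT.toIdeal) c 1).symm⟩
      · exact ⟨0, by rw [zero_smul, Ideal.Quotient.eq_zero_iff_mem.2 (irr' hmT i h t ht)]⟩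
  letI := Ideal.Quotient.field mT.toIdeal
  have h2 := Module.finrank_mul_finrank k (T ⧸ mT.toIdeal) ((T ⧸ mT.toIdeal) ⊗[T] CT.carrier)
  rw [h1, one_mul] at h2
  rw [h2]
  exact_mod_cast ((TensorProduct.quotTensorEquivQuotSMul CT.carrier mT.toIdeal).restrictScalars k).finrank_eq

end Groth.Agent.S18665
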