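import Groth.Statements.S18669
import Groth.Agent.Lib.FunFld.GrSectGorMain

set_option autoImplicit false
universe u
open GrSect

namespace Groth.Agent.S18669

/-- Let X be a complete smooth curve of genus g ≥ 1 over an algebraically closed field k and P a closed
point. Then R_{X,P} = ⊕_{n ≥ 0} H^0(X, O_X(nP)) is a Gorenstein ring if and only if the Weierstrass
semigroup H_{X,P} is symmetric, i.e. there is an integer d such that an integer n lies in H_{X,P}
exactly when d − n does not. Here the complete smooth curve X over the algebraically closed field k
is given by its function field K/k (a function field of one variable in which k is algebraically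
closed), the closed point P by a place of K/k, g ≥ 1 is the genus, H^0(X, O_X(nP)) = L(nP), and
R_{X,P} = ⊕_{n ≥ 0} L(nP)·T^n is realised as the k-subalgebra of K[T] of polynomials whose
coefficient of T^n lies in L(nP); the Weierstrass semigroup H_{X,P} is the set of n ≥ 0 with ℓ(nP) =
ℓ((n−1)P) + 1. -/
theorem result (k : Type u) [Field k] [IsAlgClosed k] (K : Type u) [Field K] [Algebra k K] (hK : FunFld.IsFunctionField k K) (hg : 1 ≤ FunFld.genus k K) (P : FunFld.Place k K) : LocCoh.IsGorensteinRing ↥(W4c6gradedringsgw.sectRing (Finsupp.single P 1 : FunFld.Divisor k K)) ↔ W4c6gradedringsgw.IsSymmetric (W4c6gradedringsgw.poleOrders P) := by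
  exact GrothLib.GrSectGor.gorenstein_iff_symmetric hK hg P

end Groth.Agent.S18669
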