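import Groth.Statements.S1867
-- import your own Groth.Agent.* helpers here
import Groth.Agent.Lib.Altitude.Scheme
import Mathlib.AlgebraicGeometry.ZariskisMainTheorem

set_option autoImplicit false
universe u
open CategoryTheory AlgebraicGeometry
open Cyc

namespace Groth.Agent.S1867

/-- Let f : X → Y be a proper morphism of integral schemes with Y locally Noetherian, mapping the
generic point to the generic point with finite extension of function fields, and let ξ be a point of
Y whose local ring has dimension 1. Then f is finite over some open neighbourhood of ξ. -/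
theorem result (X Y : Scheme.{u}) [IsIntegral X] [IsIntegral Y] [IsLocallyNoetherian Y] (f : X ⟶ Y) [IsProper f] (hgen : f (genericPoint X) = genericPoint Y) (hfin : (f.residueFieldMap (genericPoint X)).hom.Finite) (ξ : Y) (hξ : ringKrullDim (Y.presheaf.stalk ξ) = 1) : ∃ V : Y.Opens, ξ ∈ V ∧ IsFinite (f ∣_ V) := by
  refine exists_isFinite_morphismRestrict_of_finite_preimage_singleton f ξ ?_
  have key : ∀ a b : X, a ⤳ b → f a = ξ → f b = ξ → a = b := by
    intro a b hab ha hb
    by_contra hne
    have hη : genericPoint X ⤳ b := genericPoint_specializes b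
    obtain ⟨t, s, d, e, ht, -, hd, he, hle, -⟩ := GrothLib.Altitude.dim_locQuot_add_trdeg f hη
    have ht0 : t = 0 := by
      letI := (f.residueFieldMap (genericPoint X)).hom.toAlgebra
      haveI : Module.Finite (Y.residueField (f (genericPoint X))) (X.residueField (genericPoint X)) := hfin
      rw [trdeg_eq_zero] at ht
      exact_mod_cast ht.symm
    have he1 : e ≤ 1 := by
      have : ringKrullDim (Cyc.LocQuot (f b) (f (genericPoint X)) (hη.map f.continuous)) ≤ ((1 : ℕ) : WithBot ℕ∞) := by
        refine (ringKrullDim_quotient_le _).trans ?_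
        rw [hb, hξ]; rfl
      rw [he] at this
      exact_mod_cast this
    have hd2 : 2 ≤ d := by
      have hηa : genericPoint X ⤳ a := genericPoint_specializes a
      have hne' : genericPoint X ≠ a := by
        intro h
        rw [← h, hgen] at ha
        subst ha
        have h0 : ringKrullDim (Y.presheaf.stalk (genericPoint Y)) = 0 :=
          ringKrullDim_eq_zero_of_isField (Field.toIsField Y.functionField)
        exact absurd (h0.symm.trans hξ) zero_ne_one
      let Q := PrimeSpectrum.comap (X.presheaf.stalkSpecializes hη).hom
        (IsLocalRing.closedPoint (X.presheaf.stalk (genericPoint X)))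
      have hQ : X.fromSpecStalk b Q = genericPoint X := GrothLib.CycBasic.fromSpecStalk_comap_closedPoint hη
      obtain ⟨A, hA⟩ := GrothLib.CycBasic.exists_fromSpecStalk_eq hab
      let B : PrimeSpectrum (X.presheaf.stalk b) := IsLocalRing.closedPoint _
      have hB : X.fromSpecStalk b B = b := Scheme.fromSpecStalk_closedPoint
      have h1 : Q < A := lt_of_le_of_ne (GrothLib.CycBasic.le_iff_specializes.2 (by rw [hQ, hA]; exact hηa))
        fun h => hne' (by rw [← hQ, h, hA])
      have h2 : A < B := lt_of_le_of_ne (IsLocalRing.le_maximalIdeal A.2.ne_top) fun h => hne (by rw [← hA, h, hB])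
      have h3 : (2 : ℕ∞) ≤ Order.coheight Q := by
        calc (2 : ℕ∞) = 0 + 1 + 1 := rfl
          _ ≤ Order.coheight B + 1 + 1 := by gcongr; exact zero_le
          _ ≤ Order.coheight A + 1 := by gcongr; exact Order.coheight_add_one_le h2
          _ ≤ Order.coheight Q := Order.coheight_add_one_le h1
      have h4 : ringKrullDim (Cyc.LocQuot b (genericPoint X) hη) = (Order.coheight Q : WithBot ℕ∞) :=
        (ringKrullDim_eq_of_ringEquiv (Ideal.quotEquivOfEq (GrothLib.CycBasic.ker_specMap hη))).trans
          (GrothLib.AffDom.ringKrullDim_quotient_eq_coheight Q)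
      rw [hd] at h4
      rw [← WithBot.coe_inj.1 h4] at h3
      exact_mod_cast h3
    omega
  haveI : CompactSpace ↥(f.fiber ξ) := inferInstance
  haveI : LocallyOfFiniteType (f.fiberToSpecResidueField ξ) := MorphismProperty.pullback_snd f (Y.fromSpecResidueField ξ) inferInstance
  haveI : IsLocallyNoetherian (f.fiber ξ) := LocallyOfFiniteType.isLocallyNoetherian (f.fiberToSpecResidueField ξ)
  haveI : IsNoetherian (f.fiber ξ) := {}
  have hmem : ∀ w : f.fiber ξ, f (f.fiberι ξ w) = ξ := fun w => by
    have : f.fiberι ξ w ∈ f ⁻¹' {ξ} := f.range_fiberι ξ ▸ Set.mem_range_self w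
    exact this
  have hsub : ∀ w w' : f.fiber ξ, w ⤳ w' → w = w' := fun w w' h =>
    (f.fiberι ξ).isEmbedding.injective (key _ _ (h.map (f.fiberι ξ).continuous) (hmem w) (hmem w'))
  haveI : Finite ↥(f.fiber ξ) := by
    have hfin := TopologicalSpace.NoetherianSpace.finite_irreducibleComponents (α := ↥(f.fiber ξ))
    haveI := hfin.to_subtype
    refine Finite.of_injective (fun w : f.fiber ξ =>
      (⟨irreducibleComponent w, irreducibleComponent_mem_irreducibleComponents w⟩ : irreducibleComponents ↥(f.fiber ξ)))
      fun w w' h => ?_
    have h' : irreducibleComponent w = irreducibleComponent w' := congrArg Subtype.val h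
    obtain ⟨g, hg⟩ := QuasiSober.sober (isIrreducible_irreducibleComponent (x := w)) isClosed_irreducibleComponent
    have h1 := hsub g w (hg.specializes mem_irreducibleComponent)
    have h2 := hsub g w' (hg.specializes (h' ▸ mem_irreducibleComponent))
    exact h1.symm.trans h2
  rw [← f.range_fiberι ξ]
  exact Set.finite_range _

end Groth.Agent.S1867
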