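import Groth.Statements.S18694
import Groth.Agent.Lib.Repr.GmPts
-- import your own Groth.Agent.* helpers here

set_option autoImplicit false
open CategoryTheory MonoidalCategory CartesianMonoidalCategory MonObj GrpObj AlgebraicGeometry
universe u
open MultTori

namespace Groth.Agent.S18694

section Aux

open CategoryTheory CategoryTheory.Limits AlgebraicGeometry MonoidalCategory CartesianMonoidalCategory TensorProduct
open Algebra.TensorProduct (includeRight)

theorem exists_unit_lift (A : Type u) [CommRing A] [Finite (MaximalSpectrum A)] (B : Type u) [CommRing B]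
    [Algebra A B] [Module.Finite A B] (x : ∀ m : MaximalSpectrum A, ((A ⧸ m.asIdeal) ⊗[A] B)ˣ) :
    ∃ y : (A ⊗[A] B)ˣ, ∀ m : MaximalSpectrum A,
      Units.map (Algebra.TensorProduct.map (Ideal.Quotient.mkₐ A m.asIdeal) (AlgHom.id A B) :
        A ⊗[A] B →ₐ[A] _).toMonoidHom y = x m := by
  classical
  haveI := Fintype.ofFinite (MaximalSpectrum A)
  let φ := fun m : MaximalSpectrum A =>
    (Algebra.TensorProduct.map (Ideal.Quotient.mkₐ A m.asIdeal) (AlgHom.id A B) : A ⊗[A] B →ₐ[A] _)
  have hφ : ∀ m, Function.Surjective (φ m) := fun m =>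
    TensorProduct.map_surjective (Ideal.Quotient.mkₐ_surjective A _) Function.surjective_id
  choose z hz using fun m => hφ m (x m).val
  have hcop : Pairwise fun m n : MaximalSpectrum A => IsCoprime m.asIdeal n.asIdeal := fun m n hmn => by
    show IsCoprime m.asIdeal n.asIdeal
    rw [Ideal.isCoprime_iff_sup_eq]
    exact m.isMaximal.coprime_of_ne n.isMaximal fun h => hmn (MaximalSpectrum.ext h)
  choose e he using fun m : MaximalSpectrum A =>
    Ideal.exists_forall_sub_mem_ideal hcop (fun n => if n = m then (1 : A) else 0)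
  let y := ∑ m, algebraMap A (A ⊗[A] B) (e m) * z m
  have hy : ∀ m, φ m y = (x m).val := fun m => by
    simp only [y, map_sum, map_mul, AlgHom.commutes]
    rw [Finset.sum_eq_single m]
    · rw [hz, IsScalarTower.algebraMap_apply A (A ⧸ m.asIdeal) ((A ⧸ m.asIdeal) ⊗[A] B),
        show algebraMap A (A ⧸ m.asIdeal) (e m) = 1 from Ideal.Quotient.eq.2 (by simpa using he m m),
        map_one, _root_.one_mul]
    · intro n _ hn
      rw [IsScalarTower.algebraMap_apply A (A ⧸ m.asIdeal) ((A ⧸ m.asIdeal) ⊗[A] B),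
        show algebraMap A (A ⧸ m.asIdeal) (e n) = 0 from Ideal.Quotient.eq_zero_iff_mem.2 (by simpa [hn.symm] using he n m),
        map_zero, MulZeroClass.zero_mul]
    · simp
  have hu : IsUnit y := by
    by_contra h
    obtain ⟨M, hM, hyM⟩ := exists_max_ideal_of_mem_nonunits h
    haveI := hM
    let m : MaximalSpectrum A := ⟨M.comap (algebraMap A (A ⊗[A] B)), Ideal.isMaximal_comap_of_isIntegral_of_isMaximal M⟩
    obtain ⟨w, hw⟩ := hφ m ↑(x m)⁻¹
    have hk : y * w - 1 ∈ RingHom.ker (φ m).toRingHom := by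
      simp [RingHom.mem_ker, hy, hw]
    have hle : RingHom.ker (φ m).toRingHom ≤ M := by
      refine le_of_eq_of_le (Algebra.TensorProduct.rTensor_ker (Ideal.Quotient.mkₐ A m.asIdeal)
        (Ideal.Quotient.mkₐ_surjective A _)) ?_
      rw [Ideal.map_le_iff_le_comap]
      intro a ha
      replace ha : a ∈ m.asIdeal := Ideal.Quotient.eq_zero_iff_mem.1 ha
      exact ha
    refine hM.ne_top ((Ideal.eq_top_iff_one M).2 ?_)
    have := M.sub_mem (M.mul_mem_right w hyM) (hle hk)
    simpa using this
  exact ⟨hu.unit, fun m => Units.ext (hy m)⟩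

variable {A : Type u} [CommRing A] (B : Type u) [CommRing B] [Algebra A B]

noncomputable def specT (C : Type u) [CommRing C] [Algebra A C] : Over (Spec (CommRingCat.of A)) :=
  Over.mk (Spec.map (CommRingCat.ofHom (algebraMap A C)))

noncomputable def bcSpecT (C : Type u) [CommRing C] [Algebra A C] :
    Over.mk (Spec.map (CommRingCat.ofHom (includeRight : B →ₐ[A] C ⊗[A] B).toRingHom)) ≅
      Red.bc (Spec.map (CommRingCat.ofHom (algebraMap A B))) (specT C) :=
  Over.isoMk (pullbackSpecIso A C B).symm (pullbackSpecIso_inv_snd A C B)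

variable {B} {P : Over (Spec (CommRingCat.of A))}
  {q : Red.bc (Spec.map (CommRingCat.ofHom (algebraMap A B))) P ⟶ Red.Gm (Spec (CommRingCat.of B))}
  (hP : WeilRes.IsWeilRes (Spec.map (CommRingCat.ofHom (algebraMap A B))) (Red.Gm (Spec (CommRingCat.of B))) P q)

noncomputable def ptsUnits (C : Type u) [CommRing C] [Algebra A C] : (C ⊗[A] B)ˣ ≃ (specT (A := A) C ⟶ P) :=
  (((GrothLib.Repr.unitsEquivChar (C ⊗[A] B)).trans (GrothLib.DiagGrp.dsPoint ℤ _)).toEquiv.trans
    (Iso.homCongr (bcSpecT B C) (Iso.refl _))).trans (hP.representableBy.homEquiv (X := specT C)).symm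

theorem restr_ptsUnits (C : Type u) [CommRing C] [Algebra A C] (w : (C ⊗[A] B)ˣ) :
    WeilRes.restr (Spec.map (CommRingCat.ofHom (algebraMap A B))) q (specT C) (ptsUnits hP C w) =
      (bcSpecT B C).inv ≫ GrothLib.DiagGrp.dsPoint ℤ _ (GrothLib.Repr.unitsEquivChar _ w) := by
  refine ((hP.representableBy.homEquiv (X := specT C)).apply_symm_apply _).trans ?_
  show (bcSpecT B C).inv ≫ _ ≫ 𝟙 _ = _
  rw [Category.comp_id]
  rfl

theorem ptsUnits_map {C C' : Type u} [CommRing C] [CommRing C'] [Algebra A C] [Algebra A C'] (h : C →ₐ[A] C')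
    (t : specT (A := A) C' ⟶ specT C) (ht : t.left = Spec.map (CommRingCat.ofHom h.toRingHom)) (w : (C ⊗[A] B)ˣ) :
    t ≫ ptsUnits hP C w =
      ptsUnits hP C' (Units.map (Algebra.TensorProduct.map h (AlgHom.id A B)).toMonoidHom w) := by
  apply (hP (specT C')).1
  rw [WeilRes.restr_comp, restr_ptsUnits hP, restr_ptsUnits hP]
  let φ := (Algebra.TensorProduct.map h (AlgHom.id A B) : C ⊗[A] B →ₐ[A] C' ⊗[A] B).toRingHom
  have hc : φ.comp (includeRight : B →ₐ[A] C ⊗[A] B).toRingHom = (includeRight : B →ₐ[A] C' ⊗[A] B).toRingHom :=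
    RingHom.ext fun b => by simp [φ]
  have hp : Spec.map (CommRingCat.ofHom φ) ≫ Spec.map (CommRingCat.ofHom (includeRight : B →ₐ[A] C ⊗[A] B).toRingHom) =
      Spec.map (CommRingCat.ofHom (includeRight : B →ₐ[A] C' ⊗[A] B).toRingHom) := by
    rw [← Spec.map_comp, ← CommRingCat.ofHom_comp, hc]
  have hd := GrothLib.DiagGrp.dsPoint_comp (M := ℤ) _ _ φ (GrothLib.Repr.unitsEquivChar _ w) hp
  have hχ : (φ : C ⊗[A] B →* C' ⊗[A] B).comp (GrothLib.Repr.unitsEquivChar _ w) =
      GrothLib.Repr.unitsEquivChar _ (Units.map (Algebra.TensorProduct.map h (AlgHom.id A B)).toMonoidHom w) := by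
    refine MonoidHom.ext fun m => ?_
    change φ (((zpowersHom _ w) m : (C ⊗[A] B)ˣ) : C ⊗[A] B) = _
    simp [φ, GrothLib.Repr.unitsEquivChar, zpowersHom_apply, ← map_zpow]
  rw [← hχ, ← hd, ← Category.assoc, ← Category.assoc]
  refine congrArg (· ≫ _) ?_
  rw [Iso.eq_inv_comp, ← Category.assoc, Iso.comp_inv_eq]
  refine Over.OverMorphism.ext ?_
  show (pullbackSpecIso A C' B).inv ≫ ((Over.pullback _).map t).left = Spec.map (CommRingCat.ofHom φ) ≫ (pullbackSpecIso A C B).inv
  refine pullback.hom_ext ?_ ?_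
  · erw [Category.assoc, pullback.lift_fst, ht, pullbackSpecIso_inv_fst_assoc, Category.assoc, pullbackSpecIso_inv_fst,
      ← Spec.map_comp, ← Spec.map_comp]
    congr 1
  · erw [Category.assoc, pullback.lift_snd, pullbackSpecIso_inv_snd, Category.assoc, pullbackSpecIso_inv_snd]
    exact hp.symm

end Aux


/-- In the case of the quasitrivial torus R_{B/A}(G_m), let A be a semilocal ring (finitely many maximal
ideals m, residue fields κ_m = A/m), B a finite étale A-algebra, and (P, q) a Weil restriction along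
Spec B → Spec A of the multiplicative group over B (P an A-scheme with q : P ×_A B → G_{m,B}
universal). Then the reduction map P(A) → ∏_m P(κ_m) is surjective: every family (u_m) of κ_m-points
of P over the closed points of Spec A is the family of restrictions of one section of P over A. (The
source states this for every invertible A-torus and reduces it to this case; the
invertible/quasitrivial notions are not available here, so only this case is stated.) -/
theorem result
    (A : Type u) [CommRing A] [Finite (MaximalSpectrum A)]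
    (B : Type u) [CommRing B] [Algebra A B] [Module.Finite A B] [Algebra.Etale A B]
    (P : Over (Spec (CommRingCat.of A))) (q : Red.bc (Spec.map (CommRingCat.ofHom (algebraMap A B))) P ⟶ Red.Gm (Spec (CommRingCat.of B)))
    (hP : WeilRes.IsWeilRes (Spec.map (CommRingCat.ofHom (algebraMap A B))) (Red.Gm (Spec (CommRingCat.of B))) P q)
    (u : ∀ m : MaximalSpectrum A, Spec (CommRingCat.of (A ⧸ m.asIdeal)) ⟶ P.left)
    (hu : ∀ m : MaximalSpectrum A, u m ≫ P.hom = (Spec.map (CommRingCat.ofHom (Ideal.Quotient.mk m.asIdeal)))) :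
    ∃ s : Spec (CommRingCat.of A) ⟶ P.left, s ≫ P.hom = 𝟙 (Spec (CommRingCat.of A)) ∧
      ∀ m : MaximalSpectrum A, (Spec.map (CommRingCat.ofHom (Ideal.Quotient.mk m.asIdeal))) ≫ s = u m := by
  let um : ∀ m : MaximalSpectrum A, specT (A := A) (A ⧸ m.asIdeal) ⟶ P := fun m => Over.homMk (u m) (hu m)
  obtain ⟨y, hy⟩ := exists_unit_lift A B fun m => (ptsUnits hP (A ⧸ m.asIdeal)).symm (um m)
  have h1 : Spec.map (CommRingCat.ofHom (algebraMap A A)) = 𝟙 (Spec (CommRingCat.of A)) := Spec.map_id _
  refine ⟨(ptsUnits hP A y).left, (Over.w (ptsUnits hP A y)).trans h1, fun m => ?_⟩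
  let t : specT (A := A) (A ⧸ m.asIdeal) ⟶ specT A :=
    Over.homMk (Spec.map (CommRingCat.ofHom (Ideal.Quotient.mk m.asIdeal)))
      ((congrArg (_ ≫ ·) h1).trans (Category.comp_id _))
  have := ptsUnits_map hP (Ideal.Quotient.mkₐ A m.asIdeal) t rfl y
  rw [hy m, Equiv.apply_symm_apply] at this
  exact congrArg Over.Hom.left this


end Groth.Agent.S18694
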