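import Groth.Statements.S18696
import Groth.Agent.Lib.TorusPts.Section
-- import your own Groth.Agent.* helpers here

set_option autoImplicit false
open CategoryTheory MonoidalCategory CartesianMonoidalCategory MonObj GrpObj AlgebraicGeometry
universe u
open MultTori

namespace Groth.Agent.S18696

/-- (v) ⇒ (viii): let k be a field and T an isotrivial k-torus (isomorphic to a split torus of some rank
after one finite étale surjective base change). If for every discrete valuation ring A containing k
(a k-algebra), with residue field κ, the reduction map T(A) → T(κ) is surjective, then T is retract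
rational over k: there are a nonempty open subscheme U of T, an open subscheme Y of an affine space
over k and k-morphisms U → Y → U whose composite is the identity of U. -/
theorem result
    (k : Type u) [Field k] (T : Over (Spec (CommRingCat.of k))) [GrpObj T]
    (hT : ∃ r : ℕ, TwC.Locally (Spec (CommRingCat.of k)) .finiteEtale
        (fun S' g => Red.IsSplitTorusWith (Fin r → ℤ) (Red.bc g T)))
    (h : ∀ (A : Type u) [CommRing A] [IsDomain A] [IsDiscreteValuationRing A] [Algebra k A]
        (u : Spec (CommRingCat.of (IsLocalRing.ResidueField A)) ⟶ T.left),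
        u ≫ T.hom = Spec.map (CommRingCat.ofHom ((IsLocalRing.residue A).comp (algebraMap k A))) →
        ∃ s : Spec (CommRingCat.of A) ⟶ T.left, s ≫ T.hom = Spec.map (CommRingCat.ofHom (algebraMap k A)) ∧
          Spec.map (CommRingCat.ofHom (IsLocalRing.residue A)) ≫ s = u) :
    ∃ (U : T.left.Opens) (n : ℕ) (Y : (Spec (CommRingCat.of (MvPolynomial (Fin n) k))).Opens)
        (a : (U : Scheme.{u}) ⟶ (Y : Scheme.{u})) (b : (Y : Scheme.{u}) ⟶ (U : Scheme.{u})),
        (U : Set T.left).Nonempty ∧ a ≫ b = 𝟙 (U : Scheme.{u}) ∧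
        a ≫ Y.ι ≫ Spec.map (CommRingCat.ofHom (algebraMap k (MvPolynomial (Fin n) k))) = U.ι ≫ T.hom ∧
        b ≫ U.ι ≫ T.hom = Y.ι ≫ Spec.map (CommRingCat.ofHom (algebraMap k (MvPolynomial (Fin n) k))) := by
  classical
  obtain ⟨r, hT⟩ := hT
  obtain ⟨_, hmodel⟩ := GrothLib.TorusPts.exists_model T hT
  let B := Γ(T.left, ⊤)
  letI algB : Algebra k B := (GrothLib.TorusPts.strMap T).toAlgebra
  obtain ⟨hdom, hft, hcrit⟩ := hmodel rfl
  haveI : IsDomain B := hdom
  haveI : Algebra.FiniteType k B := hft
  let F := FractionRing B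
  haveI : Algebra.EssFiniteType B F := Algebra.EssFiniteType.of_isLocalization F (nonZeroDivisors B)
  haveI : Algebra.EssFiniteType k F := Algebra.EssFiniteType.comp k B F
  obtain ⟨t, ht, hsep⟩ : ∃ s : Finset F, IsTranscendenceBasis k ((↑) : s → F) ∧
      Algebra.IsSeparable (IntermediateField.adjoin k (s : Set F)) F := by
    obtain ⟨p, hp⟩ := CharP.exists k
    rcases CharP.char_is_prime_or_zero k p with hpp | rfl
    · haveI : ExpChar k p := ExpChar.prime hpp
      exact exists_isTranscendenceBasis_and_isSeparable_of_linearIndepOn_pow_of_essFiniteType p hpp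
        (fun s hs => hcrit p hpp hp F s hs)
    · haveI : CharZero k := CharP.charP_to_charZero k
      exact exists_isTranscendenceBasis_and_isSeparable_of_perfectField k F
  obtain ⟨N, θ, hpr, hne, hgen⟩ := GrothLib.TorusPts.exists_hypersurface_point ht hsep
  have hlift : ∀ (A : Type u) [CommRing A] [IsDomain A] [IsDiscreteValuationRing A] [Algebra k A]
      (φ : B →ₐ[k] IsLocalRing.ResidueField A), ∃ σ : B →ₐ[k] A, ∀ b, IsLocalRing.residue A (σ b) = φ b := by
    intro A _ _ _ _ φ
    let i : k →+* IsLocalRing.ResidueField A := (IsLocalRing.residue A).comp (algebraMap k A)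
    let x := GrothLib.TorusPts.mkPt T (i := i) φ.toRingHom φ.comp_algebraMap
    obtain ⟨s, hs, hred⟩ := h A x.left (Over.w x)
    let y : GrothLib.TorusPts.Pts T (algebraMap k A) := Over.homMk s hs
    refine ⟨{ (GrothLib.TorusPts.ev y).hom with
      commutes' := fun a => RingHom.congr_fun (GrothLib.TorusPts.ev_comp_strMap y) a }, fun b => ?_⟩
    show IsLocalRing.residue A ((GrothLib.TorusPts.ev y).hom b) = φ b
    have h1 : GrothLib.TorusPts.pull (IsLocalRing.residue A) rfl y = x :=
      Over.OverMorphism.ext (by rw [GrothLib.TorusPts.pull_left]; exact hred)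
    have h2 := congrArg (fun z : GrothLib.TorusPts.Pts T i => GrothLib.TorusPts.ev z b) h1
    simp only [GrothLib.TorusPts.ev_pull] at h2
    exact h2.trans (RingHom.congr_fun (GrothLib.TorusPts.ev_mkPt T φ.toRingHom φ.comp_algebraMap) b)
  obtain ⟨c, p, Ph, _, _, _, w, g, ψ, hc, hψg, hg, hψ⟩ :=
    GrothLib.TorusPts.exists_retraction (B := B) θ hlift hpr hne hgen
  let P := MvPolynomial (Fin N) k
  let ιU : Spec (CommRingCat.of (Localization.Away c)) ⟶ T.left :=
    Spec.map (CommRingCat.ofHom (algebraMap B (Localization.Away c))) ≫ T.left.isoSpec.inv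
  let ιY : Spec (CommRingCat.of (Localization.Away w)) ⟶ Spec (CommRingCat.of P) :=
    Spec.map (CommRingCat.ofHom (algebraMap Ph (Localization.Away w))) ≫
      Spec.map (CommRingCat.ofHom (algebraMap P Ph))
  haveI : IsOpenImmersion (Spec.map (CommRingCat.ofHom (algebraMap B (Localization.Away c)))) :=
    IsOpenImmersion.of_isLocalization c
  haveI : IsOpenImmersion (Spec.map (CommRingCat.ofHom (algebraMap Ph (Localization.Away w)))) :=
    IsOpenImmersion.of_isLocalization w
  haveI : IsOpenImmersion (Spec.map (CommRingCat.ofHom (algebraMap P Ph))) :=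
    IsOpenImmersion.of_isLocalization p
  haveI : IsOpenImmersion ιU := inferInstance
  haveI : IsOpenImmersion ιY := inferInstance
  let eU := ιU.isoOpensRange
  let eY := ιY.isoOpensRange
  have hU : eU.inv ≫ ιU = ιU.opensRange.ι := ιU.isoOpensRange_inv_comp
  have hY : eY.inv ≫ ιY = ιY.opensRange.ι := ιY.isoOpensRange_inv_comp
  have hιUT : ιU ≫ T.hom =
      Spec.map (CommRingCat.ofHom ((algebraMap B (Localization.Away c)).comp (algebraMap k B))) := by
    rw [Category.assoc, ← Spec.map_preimage (T.left.isoSpec.inv ≫ T.hom), ← Spec.map_comp]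
    rfl
  have hιYk : ιY ≫ Spec.map (CommRingCat.ofHom (algebraMap k P)) = Spec.map (CommRingCat.ofHom
      ((algebraMap Ph (Localization.Away w)).comp ((algebraMap P Ph).comp (algebraMap k P)))) := by
    rw [Category.assoc, ← Spec.map_comp, ← Spec.map_comp]
    rfl
  refine ⟨ιU.opensRange, N, ιY.opensRange, eU.inv ≫ Spec.map (CommRingCat.ofHom ψ) ≫ eY.hom,
    eY.inv ≫ Spec.map (CommRingCat.ofHom g) ≫ eU.hom, ?_, ?_, ?_, ?_⟩
  · haveI : Nontrivial (Localization.Away c) := by
      obtain ⟨j, hj⟩ := GrothLib.TorusPts.exists_away_injective (F := F) hc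
      exact (inferInstance : IsDomain B) |> fun _ => j.toRingHom.domain_nontrivial
    obtain ⟨z⟩ := (inferInstance : Nonempty (PrimeSpectrum (Localization.Away c)))
    exact ⟨ιU z, ⟨z, rfl⟩⟩
  · simp only [Category.assoc, Iso.hom_inv_id_assoc]
    rw [← Spec.map_comp_assoc, ← CommRingCat.ofHom_comp, hψg]
    simp
  · rw [← hY, ← hU]
    simp only [Category.assoc, Iso.hom_inv_id_assoc]
    rw [hιUT, hιYk, ← Spec.map_comp, ← CommRingCat.ofHom_comp, hψ]
  · rw [← hY, ← hU]
    simp only [Category.assoc, Iso.hom_inv_id_assoc]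
    rw [hιUT, hιYk, ← Spec.map_comp, ← CommRingCat.ofHom_comp, hg]

end Groth.Agent.S18696
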