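import Groth.Statements.S18699
import Groth.Agent.Lib.Depth.CM
-- import your own Groth.Agent.* helpers here

set_option autoImplicit false
universe u
open QGor

namespace Groth.Agent.S18699

/-- Affine form. Let A be a Noetherian ring, M a finite A-module with Serre's condition (S_k), and I an
ideal of A such that dim Supp(M_p) ≥ k for every prime p ⊇ I in the support of M (the closed set
V(I) meets Supp M in codimension at least k). Then the I-depth of M is at least k. -/
theorem result (k : ℕ) (A : Type u) [CommRing A] [IsNoetherianRing A]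
    (M : Type u) [AddCommGroup M] [Module A M] [Module.Finite A M] (I : Ideal A)
    (hS : LocCoh.HasSk k A M)
    (hcodim : ∀ p : PrimeSpectrum A, I ≤ p.asIdeal → p ∈ Module.support A M →
      (k : WithBot ℕ∞) ≤ Module.supportDim (Localization.AtPrime p.asIdeal) (LocalizedModule p.asIdeal.primeCompl M)) :
    (k : ℕ∞) ≤ LocCoh.idealDepth I M := by
  by_contra hlt
  rw [not_le] at hlt
  obtain ⟨n, hn⟩ := ENat.ne_top_iff_exists.1 hlt.ne_top
  obtain ⟨p, hIp, hd⟩ := GrothLib.Depth.exists_depth_localization_le I n hn.symm
  haveI : IsNoetherianRing (Localization.AtPrime p.asIdeal) :=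
    IsLocalization.isNoetherianRing p.asIdeal.primeCompl _ inferInstance
  have hp : p ∈ Module.support A M := by
    refine Module.mem_support_iff.2 (not_subsingleton_iff_nontrivial.1 fun hsub => ?_)
    rw [GrothLib.Depth.depth_eq_top_of_subsingleton] at hd
    exact ENat.natCast_ne_top n (top_le_iff.1 hd)
  have h := hS p.asIdeal
  rw [min_eq_left (hcodim p hIp hp)] at h
  have h' : (k : ℕ∞) ≤ _ := WithBot.coe_le_coe.1 h
  exact absurd (h'.trans (hd.trans hn.le)) (not_le.2 hlt)

end Groth.Agent.S18699
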