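import Groth.Statements.S1870
-- import your own Groth.Agent.* helpers here
import Groth.Agent.Lib.Herbrand


set_option autoImplicit false
universe u v
open CycAlg

namespace Groth.Agent.S1870

/-- A morphism of (2,1)-periodic complexes, both with finite-length cohomology, whose kernel and
cokernel have finite length does not change the additive Herbrand quotient: e_R(M, φ, ψ) = e_R(M',
φ', ψ'). -/
theorem result {R : Type u} [CommRing R] {M M' : Type v} [AddCommGroup M] [Module R M] [AddCommGroup M'] [Module R M'] (φ ψ : M →ₗ[R] M) (φ' ψ' : M' →ₗ[R] M') (h : CycAlg.IsPeriodic φ ψ) (h' : CycAlg.IsPeriodic φ' ψ') (f : M →ₗ[R] M') (cφ : φ' ∘ₗ f = f ∘ₗ φ) (cψ : ψ' ∘ₗ f = f ∘ₗ ψ) (hfin : CycAlg.FinCoh R φ ψ) (hfin' : CycAlg.FinCoh R φ' ψ') (hker : Module.length R (LinearMap.ker f) < ⊤) (hcoker : Module.length R (M' ⧸ LinearMap.range f) < ⊤) : CycAlg.herbrand R φ ψ = CycAlg.herbrand R φ' ψ' := by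
  open LinearMap in
  have eφ : ∀ x, φ' (f x) = f (φ x) := LinearMap.congr_fun cφ
  have eψ : ∀ x, ψ' (f x) = f (ψ x) := LinearMap.congr_fun cψ
  let K := LinearMap.ker f
  let I := LinearMap.range f
  let φK : K →ₗ[R] K := φ.restrict fun x hx => by rw [LinearMap.mem_ker, ← eφ, LinearMap.mem_ker.mp hx, map_zero]
  let ψK : K →ₗ[R] K := ψ.restrict fun x hx => by rw [LinearMap.mem_ker, ← eψ, LinearMap.mem_ker.mp hx, map_zero]
  let φI : I →ₗ[R] I := φ'.restrict (by rintro _ ⟨x, rfl⟩; exact ⟨φ x, (eφ x).symm⟩)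
  let ψI : I →ₗ[R] I := ψ'.restrict (by rintro _ ⟨x, rfl⟩; exact ⟨ψ x, (eψ x).symm⟩)
  let φQ : (M' ⧸ I) →ₗ[R] (M' ⧸ I) := I.mapQ I φ' (by rintro _ ⟨x, rfl⟩; exact ⟨φ x, (eφ x).symm⟩)
  let ψQ : (M' ⧸ I) →ₗ[R] (M' ⧸ I) := I.mapQ I ψ' (by rintro _ ⟨x, rfl⟩; exact ⟨ψ x, (eψ x).symm⟩)
  have hK : CycAlg.IsPeriodic φK ψK := ⟨LinearMap.ext fun x => Subtype.ext (LinearMap.congr_fun h.1 (x : M)),
    LinearMap.ext fun x => Subtype.ext (LinearMap.congr_fun h.2 (x : M))⟩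
  have hI : CycAlg.IsPeriodic φI ψI := ⟨LinearMap.ext fun x => Subtype.ext (LinearMap.congr_fun h'.1 (x : M')),
    LinearMap.ext fun x => Subtype.ext (LinearMap.congr_fun h'.2 (x : M'))⟩
  have hQ : CycAlg.IsPeriodic φQ ψQ := by
    refine ⟨Submodule.linearMap_qext _ (LinearMap.ext fun x => ?_), Submodule.linearMap_qext _ (LinearMap.ext fun x => ?_)⟩
    · show (Submodule.Quotient.mk (φ' (ψ' x)) : M' ⧸ I) = 0
      rw [show φ' (ψ' x) = 0 from LinearMap.congr_fun h'.1 x]; rfl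
    · show (Submodule.Quotient.mk (ψ' (φ' x)) : M' ⧸ I) = 0
      rw [show ψ' (φ' x) = 0 from LinearMap.congr_fun h'.2 x]; rfl
  obtain ⟨fK, eK⟩ := GrothLib.Herbrand.finite_length_case φK ψK hK hker hker
  obtain ⟨fQ, eQ⟩ := GrothLib.Herbrand.finite_length_case φQ ψQ hQ hcoker hcoker
  obtain ⟨-, -, fI, e1⟩ := GrothLib.Herbrand.shortExact φK ψK φ ψ φI ψI hK h K.subtype K.subtype
    f.rangeRestrict f.rangeRestrict rfl rfl (LinearMap.ext fun x => Subtype.ext (eφ x))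
    (LinearMap.ext fun x => Subtype.ext (eψ x)) K.injective_subtype K.injective_subtype
    f.surjective_rangeRestrict f.surjective_rangeRestrict
    (by rw [Submodule.range_subtype, LinearMap.ker_rangeRestrict]) (by rw [Submodule.range_subtype, LinearMap.ker_rangeRestrict])
    (Or.inl ⟨fK, hfin⟩)
  obtain ⟨-, -, -, e2⟩ := GrothLib.Herbrand.shortExact φI ψI φ' ψ' φQ ψQ hI h' I.subtype I.subtype
    I.mkQ I.mkQ rfl rfl rfl rfl I.injective_subtype I.injective_subtype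
    I.mkQ_surjective I.mkQ_surjective (by rw [Submodule.range_subtype, Submodule.ker_mkQ]) (by rw [Submodule.range_subtype, Submodule.ker_mkQ])
    (Or.inl ⟨fI, hfin'⟩)
  rw [sub_self] at eK eQ
  rw [e1, e2, eK, eQ, zero_add, add_zero]


end Groth.Agent.S1870
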