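import Groth.Statements.S18702
import Groth.Agent.Lib.DepthKer.Basic
-- import your own Groth.Agent.* helpers here

set_option autoImplicit false
universe u
open QGor

namespace Groth.Agent.S18702

/-- Affine form, for an arbitrary Noetherian ring A (not assumed to be a domain). Let I be an ideal and
G a finite reflexive A-module (the evaluation map into the double dual is bijective). For k = 1 and
k = 2: if depth_I A ≥ k then depth_I G ≥ k; and if A satisfies (S_k) then G satisfies (S_k). -/
theorem result (A : Type u) [CommRing A] [IsNoetherianRing A] (I : Ideal A)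
    (G : Type u) [AddCommGroup G] [Module A G] [Module.Finite A G] [Module.IsReflexive A G] :
    (1 ≤ LocCoh.idealDepth I A → 1 ≤ LocCoh.idealDepth I G) ∧
    (2 ≤ LocCoh.idealDepth I A → 2 ≤ LocCoh.idealDepth I G) ∧
    (LocCoh.HasSk 1 A A → LocCoh.HasSk 1 A G) ∧ (LocCoh.HasSk 2 A A → LocCoh.HasSk 2 A G) := by
  obtain ⟨n, m, i, u, hi, hex⟩ := GrothLib.DepthKer.exists_presentation (A := A) G
  have hdep : ∀ (k l : ℕ), (k : ℕ∞) ≤ LocCoh.idealDepth I A → (k : ℕ∞) ≤ LocCoh.idealDepth I (Fin l → A) :=
    fun k l h => GrothLib.DepthKer.le_idealDepth_pi I k h l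
  have hsd : ∀ (p : Ideal A) [p.IsPrime] (l : ℕ),
      Module.supportDim (Localization.AtPrime p) (LocalizedModule p.primeCompl (Fin l → A)) ≤
        Module.supportDim (Localization.AtPrime p) (LocalizedModule p.primeCompl A) := fun p _ l => by
    refine Order.krullDim_le_of_strictMono (fun q => ⟨q.1, ?_⟩) fun _ _ hab => hab
    exact GrothLib.DepthKer.support_localizedModule_mono (A := A) (fun q' _ => Module.mem_support_iff'.2
      ⟨(1 : A), fun r hr h0 => hr (by rw [smul_eq_mul, mul_one] at h0; rw [h0]; exact q'.asIdeal.zero_mem)⟩) p q.2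
  have hSk : ∀ (k l : ℕ), LocCoh.HasSk k A A → LocCoh.HasSk k A (Fin l → A) := by
    intro k l h p _
    refine le_trans (min_le_min le_rfl (hsd p l)) ((h p).trans ?_)
    refine WithBot.coe_le_coe.2 (GrothLib.Depth.le_of_forall_coe_le fun d hd => ?_)
    exact GrothLib.DepthKer.depth_localizedModule_pi p d l hd
  refine ⟨fun h => ?_, fun h => ?_, fun h => ?_, fun h => ?_⟩
  · exact GrothLib.DepthKer.one_le_of_injective I i hi (by simpa using hdep 1 n (by simpa using h))
  · refine GrothLib.DepthKer.two_le_of_exact I i u hi hex (by simpa using hdep 2 n (by simpa using h)) ?_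
    simpa using hdep 1 (m + 1) (by simpa using le_trans (show (1 : ℕ∞) ≤ 2 by norm_num) h)
  · exact GrothLib.DepthKer.hasSk_one_of_injective i hi (hSk 1 n h)
  · refine GrothLib.DepthKer.hasSk_two_of_exact i u hi hex ?_ (hSk 1 (m + 1) fun p _ => ?_) (hSk 2 n h)
    · exact fun q _ => Module.mem_support_iff'.2 ⟨fun _ => (1 : A), fun r hr h0 => hr (by
        have h1 := congrFun h0 0
        simp at h1
        rw [h1]; exact q.asIdeal.zero_mem)⟩
    · exact le_trans (min_le_min (by norm_num) le_rfl) (h p)

end Groth.Agent.S18702
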