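import Groth.Statements.S18707
import Groth.Agent.Lib.DepthKer.Basic
import Groth.Agent.Lib.FlatOff.FibDepth
-- import your own Groth.Agent.* helpers here

set_option autoImplicit false
universe u
open QGor

namespace Groth.Agent.S18707

/-- Affine form. Let A → B be a homomorphism of Noetherian rings, J an ideal of B, and 0 → F → E⁰ → E¹ →
G → 0 an exact sequence of finite B-modules such that E⁰ and E¹ are flat over A and G_q is flat over
A for every prime q not containing J. Assume that for every prime q ⊇ J with contraction p to A the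
fibre stalk (E⁰)_q / p(E⁰)_q has depth ≥ 2 and (E¹)_q / p(E¹)_q has depth ≥ 1 over the fibre local
ring B_q / pB_q. Then depth_J F ≥ 2 (the restriction map from F to its sections off V(J) is
bijective). -/
theorem result (A B : Type u) [CommRing A] [CommRing B]
    [IsNoetherianRing A] [IsNoetherianRing B] [Algebra A B] (J : Ideal B)
    (F E0 E1 G : Type u) [AddCommGroup F] [Module B F] [Module.Finite B F]
    [AddCommGroup E0] [Module B E0] [Module A E0] [IsScalarTower A B E0] [Module.Finite B E0] [Module.Flat A E0]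
    [AddCommGroup E1] [Module B E1] [Module A E1] [IsScalarTower A B E1] [Module.Finite B E1] [Module.Flat A E1]
    [AddCommGroup G] [Module B G] [Module A G] [IsScalarTower A B G] [Module.Finite B G]
    (f : F →ₗ[B] E0) (u : E0 →ₗ[B] E1) (v : E1 →ₗ[B] G)
    (hf : Function.Injective f) (hfu : Function.Exact f u) (huv : Function.Exact u v) (hv : Function.Surjective v)
    (hGU : ∀ q : PrimeSpectrum B, ¬ J ≤ q.asIdeal → FlatCA.FlatAt A q.asIdeal G)
    (h0 : ∀ q : PrimeSpectrum B, J ≤ q.asIdeal →
      2 ≤ LocCoh.idealDepth (q.asIdeal.map (algebraMap B (EGA4.FibLocRing A B q.asIdeal))) (EGA4.FibLocMod A B q.asIdeal E0))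
    (h1 : ∀ q : PrimeSpectrum B, J ≤ q.asIdeal →
      1 ≤ LocCoh.idealDepth (q.asIdeal.map (algebraMap B (EGA4.FibLocRing A B q.asIdeal))) (EGA4.FibLocMod A B q.asIdeal E1)) :
    2 ≤ LocCoh.idealDepth J F := by
  exact GrothLib.DepthKer.two_le_of_exact J f u hf hfu
    (GrothLib.FlatOff.le_idealDepth_of_forall_fibLoc (A := A) E0 J 2 h0)
    (GrothLib.FlatOff.le_idealDepth_of_forall_fibLoc (A := A) E1 J 1 h1)

end Groth.Agent.S18707
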