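import Groth.Statements.S18710
import Mathlib
import Groth.Agent.Lib.Depth.Transfer
-- import your own Groth.Agent.* helpers here

set_option autoImplicit false
universe u
open QGor

namespace Groth.Agent.S18710

open TensorProduct in
/-- Affine form. Let A → B be a flat homomorphism of Noetherian rings and I an ideal of A with V(I)
contained in the image of Spec B → Spec A (every prime containing I is a contraction of a prime of
B). Then ht(IB) = ht(I) (codimension of the preimage equals codimension), and for every finite
A-module G one has depth_{IB} (B ⊗_A G) = depth_I G. -/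
theorem result (A B : Type u) [CommRing A] [CommRing B]
    [IsNoetherianRing A] [IsNoetherianRing B] [Algebra A B] [Module.Flat A B] (I : Ideal A)
    (hI : ∀ p : PrimeSpectrum A, I ≤ p.asIdeal → ∃ q : PrimeSpectrum B, q.asIdeal.comap (algebraMap A B) = p.asIdeal)
    (G : Type u) [AddCommGroup G] [Module A G] [Module.Finite A G] :
    (I.map (algebraMap A B)).height = I.height ∧
    LocCoh.idealDepth (I.map (algebraMap A B)) (B ⊗[A] G) = LocCoh.idealDepth I G := by
  classical
  refine ⟨le_antisymm ?_ ?_, le_antisymm ?_ ?_⟩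
  · rw [Ideal.height_eq_inf_minimalPrimes (I := I)]
    refine le_iInf₂ fun p hp => ?_
    haveI := hp.isPrime
    obtain ⟨q₀, hq₀⟩ := hI ⟨p, hp.isPrime⟩ hp.le
    obtain ⟨q, hq, hqq₀⟩ := Ideal.exists_minimalPrimes_le
      (show p.map (algebraMap A B) ≤ q₀.asIdeal from Ideal.map_le_iff_le_comap.2 (hq₀ ▸ le_refl p))
    haveI := hq.isPrime
    haveI : q.LiesOver p := ⟨le_antisymm (Ideal.map_le_iff_le_comap.1 hq.le)
      ((Ideal.comap_mono hqq₀).trans hq₀.le)⟩
    have h0 : (q.map (Ideal.Quotient.mk (p.map (algebraMap A B)))).height = 0 := by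
      have hmin : q.map (Ideal.Quotient.mk (p.map (algebraMap A B))) ∈ minimalPrimes (B ⧸ p.map (algebraMap A B)) := by
        have h := hq
        rw [Ideal.minimalPrimes_eq_comap] at h
        obtain ⟨P, hP, rfl⟩ := h
        rwa [Ideal.map_comap_of_surjective _ Ideal.Quotient.mk_surjective]
      haveI := hmin.isPrime
      rw [Ideal.height_eq_zero_iff]
      exact hmin
    calc (I.map (algebraMap A B)).height ≤ q.height := Ideal.height_mono ((Ideal.map_mono hp.le).trans hq.le)
      _ ≤ p.height + 0 := h0 ▸ Ideal.height_le_height_add_of_liesOver p q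
      _ = p.height := add_zero _
  · rw [Ideal.height_eq_inf_minimalPrimes (I := I.map (algebraMap A B))]
    refine le_iInf₂ fun q hq => ?_
    haveI := hq.isPrime
    haveI : Algebra.HasGoingDown A B := inferInstance
    haveI : q.LiesOver (q.comap (algebraMap A B)) := ⟨rfl⟩
    calc I.height ≤ (q.comap (algebraMap A B)).height :=
          Ideal.height_mono (Ideal.map_le_iff_le_comap.1 hq.le)
      _ ≤ (q.comap (algebraMap A B)).height +
          (q.map (Ideal.Quotient.mk ((q.comap (algebraMap A B)).map (algebraMap A B)))).height := le_self_add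
      _ = q.height := (Ideal.height_eq_height_add_of_liesOver_of_hasGoingDown _ q).symm
  · refine GrothLib.Depth.le_of_forall_coe_le fun n hn => ?_
    rw [GrothLib.Depth.le_idealDepth_iff_H] at hn ⊢
    intro i hi
    obtain ⟨φ⟩ := GrothLib.LC.nonempty_baseChange_equiv (R' := B) I i G
    have := hn i hi
    haveI : Subsingleton (B ⊗[A] LocCoh.H I i G) := φ.toEquiv.subsingleton
    refine subsingleton_of_forall_eq 0 fun x => by_contra fun hx => ?_
    let ann : Ideal A := LinearMap.ker (LinearMap.toSpanSingleton A (LocCoh.H I i G) x)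
    let j : A ⧸ ann →ₗ[A] LocCoh.H I i G := ann.liftQ _ le_rfl
    have hj : Function.Injective j := LinearMap.ker_eq_bot.1 (Submodule.ker_liftQ_eq_bot _ _ _ le_rfl)
    haveI : Subsingleton (B ⊗[A] (A ⧸ ann)) :=
      (Module.Flat.lTensor_preserves_injective_linearMap (M := B) j hj).subsingleton
    have htop : ann.map (algebraMap A B) = ⊤ := by
      have e := Algebra.TensorProduct.quotIdealMapEquivTensorQuot B ann
      haveI : Subsingleton (B ⧸ ann.map (algebraMap A B)) := e.toEquiv.subsingleton
      exact Ideal.Quotient.subsingleton_iff.1 this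
    have hne : ann ≠ ⊤ := fun h => hx (by
      have : (1 : A) ∈ ann := by rw [h]; trivial
      simpa [ann] using this)
    obtain ⟨p, hp, hle⟩ := Ideal.exists_le_maximal ann hne
    have hIp : I ≤ p := fun a ha => by
      obtain ⟨k, hk⟩ := GrothLib.LC.isPowerTorsion I i (ModuleCat.of A G) x
      refine hp.isPrime.mem_of_pow_mem k (hle ?_)
      show LinearMap.toSpanSingleton A (LocCoh.H I i G) x (a ^ k) = 0
      exact hk _ (Ideal.pow_mem_pow ha k)
    obtain ⟨q, hq⟩ := hI ⟨p, hp.isPrime⟩ hIp
    refine q.2.ne_top (eq_top_iff.2 (htop ▸ Ideal.map_le_iff_le_comap.2 (hle.trans hq.ge)))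
  · exact GrothLib.Depth.idealDepth_le_baseChange I G

end Groth.Agent.S18710
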