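import Groth.Statements.S18711
import Mathlib
import Groth.Agent.Lib.FlatOff.DoubleDual
import Groth.Agent.Lib.FlatOff.BasePullback
import Groth.Agent.Lib.FlatOff.LocalKey
-- import your own Groth.Agent.* helpers here

set_option autoImplicit false
universe u
open QGor

namespace Groth.Agent.S18711

open TensorProduct in
/-- Affine form. Let A → B be a flat homomorphism of Noetherian rings, J an ideal of B such that for
every prime q ⊇ J with contraction p the fibre local ring B_q/pB_q has depth ≥ 2, A → A′ a
homomorphism of Noetherian rings and B′ = A′ ⊗_A B the (Noetherian) pushout. Let 0 → F → E⁰ → E¹ → G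
→ 0 be an exact sequence of finite B-modules with E⁰, E¹ projective and F_q, G_q free for every
prime q not containing J. Then F is reflexive; the kernel K′ of B′ ⊗_B E⁰ → B′ ⊗_B E¹ is a reflexive
B′-module with depth_{JB′} K′ ≥ 2 (so it is the module of sections of the pull-back of F off
V(JB′)); and K′ is flat over A′ with depth ≥ 2 along JB′ on every fibre stalk K′_{q′}/p′K′_{q′} if
and only if B′ ⊗_B G is flat over A′. (The published statement phrases the last left-hand condition
as the relative S₂ condition of K′ over A′; the two agree when the fibres of Spec B′ → Spec A′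
satisfy S₂ off V(JB′), and without that the relative S₂ form fails already for A = A′ a field, J =
B, F = E⁰ = B not S₂ and E¹ = G = 0, so the fibrewise-depth form, which is what the proof
establishes, is stated.) -/
theorem result (A B : Type u) [CommRing A] [CommRing B] [IsNoetherianRing A] [IsNoetherianRing B] [Algebra A B]
    (A' B' : Type u) [CommRing A'] [CommRing B'] [IsNoetherianRing A'] [IsNoetherianRing B']
    [Algebra A A'] [Algebra B B'] [Algebra A' B'] [Algebra A B'] [IsScalarTower A B B'] [IsScalarTower A A' B']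
    [Algebra.IsPushout A B A' B'] [Module.Flat A B] (J : Ideal B)
    (hZ : ∀ q : PrimeSpectrum B, J ≤ q.asIdeal →
      2 ≤ LocCoh.idealDepth (q.asIdeal.map (algebraMap B (EGA4.FibLocRing A B q.asIdeal))) (EGA4.FibLocRing A B q.asIdeal))
    (F E0 E1 G : Type u) [AddCommGroup F] [Module B F] [Module.Finite B F]
    [AddCommGroup E0] [Module B E0] [Module.Finite B E0] [Module.Projective B E0]
    [AddCommGroup E1] [Module B E1] [Module.Finite B E1] [Module.Projective B E1]
    [AddCommGroup G] [Module B G] [Module.Finite B G]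
    (f : F →ₗ[B] E0) (u : E0 →ₗ[B] E1) (v : E1 →ₗ[B] G)
    (hf : Function.Injective f) (hfu : Function.Exact f u) (huv : Function.Exact u v) (hv : Function.Surjective v)
    (hFU : ∀ q : PrimeSpectrum B, ¬ J ≤ q.asIdeal → Module.Free (Localization.AtPrime q.asIdeal) (LocalizedModule q.asIdeal.primeCompl F))
    (hGU : ∀ q : PrimeSpectrum B, ¬ J ≤ q.asIdeal → Module.Free (Localization.AtPrime q.asIdeal) (LocalizedModule q.asIdeal.primeCompl G)) :
    Module.IsReflexive B F ∧
    Module.IsReflexive B' (LinearMap.ker (u.baseChange B')) ∧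
    2 ≤ LocCoh.idealDepth (J.map (algebraMap B B')) (LinearMap.ker (u.baseChange B')) ∧
    ((∀ q' : PrimeSpectrum B', FlatCA.FlatAt A' q'.asIdeal (LinearMap.ker (u.baseChange B')) ∧
        2 ≤ LocCoh.idealDepth ((J.map (algebraMap B B')).map (algebraMap B' (EGA4.FibLocRing A' B' q'.asIdeal)))
          (EGA4.FibLocMod A' B' q'.asIdeal (LinearMap.ker (u.baseChange B')))) ↔
      Module.Flat A' (B' ⊗[B] G)) := by
  classical
  have hA2 : 2 ≤ LocCoh.idealDepth J B := GrothLib.FlatOff.le_idealDepth_ring (A := A) J 2 hZ
  let J' := J.map (algebraMap B B')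
  have hB2 : 2 ≤ LocCoh.idealDepth J' B' := by
    have h := GrothLib.FlatOff.le_idealDepth_baseChange_of_fib (A := A) (A' := A') (B' := B') B J 2
      fun q hq => GrothLib.FlatOff.fibLocMod_ring_depth q.asIdeal 2 (hZ q hq)
    rwa [GrothLib.Depth.idealDepth_eq_of_equiv J' (TensorProduct.AlgebraTensorModule.rid B B' B')] at h
  haveI : Algebra.IsPushout A A' B B' := Algebra.IsPushout.symm inferInstance
  haveI : Module.Flat A' B' := Module.Flat.isBaseChange A A' B B' (f := (IsScalarTower.toAlgHom A B B').toLinearMap)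
    Algebra.IsPushout.out
  have hproj : ∀ (R : Type u) [CommRing R] [IsNoetherianRing R] (I : Ideal R) (n : ℕ)
      (_ : (n : ℕ∞) ≤ LocCoh.idealDepth I R) (P : Type u) [AddCommGroup P] [Module R P] [Module.Finite R P]
      [Module.Projective R P], (n : ℕ∞) ≤ LocCoh.idealDepth I P := fun R _ _ I n hn P _ _ _ _ => by
    obtain ⟨k, π, hπ⟩ := Module.Finite.exists_fin' R P
    obtain ⟨i, hi⟩ := Module.projective_lifting_property π LinearMap.id hπ
    have hk := GrothLib.DepthKer.le_idealDepth_pi (E0 := R) I n hn k
    rw [GrothLib.Depth.le_idealDepth_iff_ext] at hk ⊢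
    intro j hj
    refine subsingleton_of_forall_eq 0 fun e => ?_
    have h1 : CategoryTheory.CategoryStruct.comp (ModuleCat.ofHom i) (ModuleCat.ofHom π) =
        CategoryTheory.CategoryStruct.id (ModuleCat.of R P) := ModuleCat.hom_ext hi
    rw [← CategoryTheory.Abelian.Ext.comp_mk₀_id e, ← h1, ← CategoryTheory.Abelian.Ext.mk₀_comp_mk₀,
      ← CategoryTheory.Abelian.Ext.comp_assoc_of_second_deg_zero,
      @Subsingleton.elim _ (hk j hj) (e.comp (CategoryTheory.Abelian.Ext.mk₀ (ModuleCat.ofHom i)) (add_zero j)) 0,
      CategoryTheory.Abelian.Ext.zero_comp]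
  have hF2 : 2 ≤ LocCoh.idealDepth J F :=
    GrothLib.DepthKer.two_le_of_exact J f u hf hfu (hproj B J 2 hA2 E0) (hproj B J 1 (le_trans one_le_two hA2) E1)
  have hFrefl : Module.IsReflexive B F :=
    GrothLib.DepthKer.isReflexive_of_idealDepth_two F J (le_trans one_le_two hA2) (fun q hq => by
      haveI := hFU q hq
      haveI : Module.Finite (Localization.AtPrime q.asIdeal) (LocalizedModule q.asIdeal.primeCompl F) :=
        Module.Finite.of_isLocalizedModule q.asIdeal.primeCompl (LocalizedModule.mkLinearMap q.asIdeal.primeCompl F)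
      infer_instance) hF2
  let u' := u.baseChange B'
  let v' := v.baseChange B'
  let K' := LinearMap.ker u'
  let f' : K' →ₗ[B'] B' ⊗[B] E0 := K'.subtype
  have hf' : Function.Injective f' := K'.injective_subtype
  have hfu' : Function.Exact f' u' := LinearMap.exact_subtype_ker_map u'
  have huv' : Function.Exact u' v' := lTensor_exact B' huv hv
  have hv' : Function.Surjective v' := LinearMap.lTensor_surjective B' hv
  haveI : Module.Finite B' K' := Module.Finite.iff_fg.2 (IsNoetherian.noetherian _)
  have hK2 : 2 ≤ LocCoh.idealDepth J' K' :=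
    GrothLib.DepthKer.two_le_of_exact J' f' u' hf' hfu' (hproj B' J' 2 hB2 _) (hproj B' J' 1 (le_trans one_le_two hB2) _)
  -- factorisations off `J'`
  have hG' : ∀ r : PrimeSpectrum B', ¬ J' ≤ r.asIdeal → ∃ (k : ℕ) (α : B' ⊗[B] G →ₗ[B'] (Fin k → B'))
      (β : (Fin k → B') →ₗ[B'] B' ⊗[B] G) (s : r.asIdeal.primeCompl), ∀ x, β (α x) = (s : B') • x := by
    intro r hr
    let q : Ideal B := r.asIdeal.comap (algebraMap B B')
    haveI : Module.Free (Localization.AtPrime q) (LocalizedModule q.primeCompl G) :=
      hGU ⟨q, inferInstance⟩ fun h => hr (Ideal.map_le_iff_le_comap.2 h)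
    obtain ⟨k, α, β, s, hαβ⟩ := GrothLib.FreeOff.exists_factor_of_free G q
    let pk := TensorProduct.piScalarRight B B' B' (Fin k)
    refine ⟨k, pk.toLinearMap.comp (α.baseChange B'), (β.baseChange B').comp pk.symm.toLinearMap,
      ⟨algebraMap B B' s, fun h => s.2 h⟩, fun c => ?_⟩
    show β.baseChange B' (pk.symm (pk (α.baseChange B' c))) = algebraMap B B' (s : B) • c
    rw [LinearEquiv.symm_apply_apply, algebraMap_smul]
    induction c using TensorProduct.induction_on with
    | zero => simp
    | add u v hu hv => simp only [map_add, smul_add, hu, hv]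
    | tmul t x => rw [LinearMap.baseChange_tmul, LinearMap.baseChange_tmul, hαβ, TensorProduct.tmul_smul]
  have hKrefl : Module.IsReflexive B' K' := by
    refine GrothLib.DepthKer.isReflexive_of_idealDepth_two K' J' (le_trans one_le_two hB2) (fun r hr => ?_) hK2
    obtain ⟨k, α, β, s, hαβ⟩ := hG' r hr
    -- split `u'` up to `s`
    obtain ⟨β', hβ'⟩ := Module.projective_lifting_property v' β hv'
    let e : B' ⊗[B] E1 →ₗ[B'] LinearMap.range u' :=
      ((s : B') • LinearMap.id - β'.comp (α.comp v')).codRestrict _ fun z => (huv' _).1 (by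
        rw [LinearMap.sub_apply, LinearMap.smul_apply, LinearMap.id_apply, map_sub, map_smul,
          LinearMap.comp_apply, LinearMap.comp_apply,
          show v' (β' (α (v' z))) = β (α (v' z)) from LinearMap.congr_fun hβ' _, hαβ, sub_self])
    obtain ⟨t, ht⟩ := Module.projective_lifting_property u'.rangeRestrict e u'.surjective_rangeRestrict
    have hutu : ∀ z, u' (t (u' z)) = (s : B') • u' z := fun z => by
      have h := congrArg Subtype.val (LinearMap.congr_fun ht (u' z))
      refine h.trans ?_
      show (s : B') • u' z - β' (α (v' (u' z))) = _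
      rw [huv'.apply_apply_eq_zero, map_zero, map_zero, sub_zero]
    let σ₀ : B' ⊗[B] E0 →ₗ[B'] K' := ((s : B') • LinearMap.id - t.comp u').codRestrict _ fun z => by
      rw [LinearMap.mem_ker, LinearMap.sub_apply, LinearMap.smul_apply, LinearMap.id_apply, map_sub, map_smul,
        LinearMap.comp_apply, hutu, sub_self]
    have hσ₀ : ∀ x : K', σ₀ (f' x) = (s : B') • x := fun x => Subtype.ext (by
      show (s : B') • (x : B' ⊗[B] E0) - t (u' x) = (s : B') • (x : B' ⊗[B] E0)
      rw [show u' (x : B' ⊗[B] E0) = 0 from x.2, map_zero, sub_zero])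
    obtain ⟨m, π, hπ⟩ := Module.Finite.exists_fin' B' (B' ⊗[B] E0)
    obtain ⟨i, hi⟩ := Module.projective_lifting_property π LinearMap.id hπ
    haveI := GrothLib.FreeOff.free_localized_of_factor (C := K') r.asIdeal s (i.comp f') (σ₀.comp π) fun x => by
      show σ₀ (π (i (f' x))) = _
      rw [show π (i (f' x)) = f' x from LinearMap.congr_fun hi _, hσ₀]
    haveI : Module.Finite (Localization.AtPrime r.asIdeal) (LocalizedModule r.asIdeal.primeCompl K') :=
      Module.Finite.of_isLocalizedModule r.asIdeal.primeCompl (LocalizedModule.mkLinearMap r.asIdeal.primeCompl K')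
    infer_instance
  refine ⟨hFrefl, hKrefl, hK2, ?_⟩
  haveI : Module.Flat A' (B' ⊗[B] E0) := Module.Flat.trans A' B' _
  haveI : Module.Flat A' (B' ⊗[B] E1) := Module.Flat.trans A' B' _
  -- fibre depths of free base changes
  have hfib : ∀ (E : Type u) [AddCommGroup E] [Module B E] [Module.Finite B E] [Module.Projective B E]
      (q' : PrimeSpectrum B') (n : ℕ), n ≤ 2 → (n : ℕ∞) ≤ LocCoh.idealDepth (J'.map (algebraMap B' (Localization.AtPrime q'.asIdeal)))
        (EGA4.FibLocMod A' B' q'.asIdeal (B' ⊗[B] E)) := fun E _ _ _ _ q' n hn => by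
    letI : Module A E := Module.compHom E (algebraMap A B)
    haveI : IsScalarTower A B E := IsScalarTower.of_algebraMap_smul fun _ _ => rfl
    haveI : Module.Flat A E := Module.Flat.trans A B E
    refine GrothLib.FlatOff.le_idealDepth_fib_baseChange (A := A) (A' := A') E J n (fun q hq => ?_) q'.asIdeal
    let Bq := Localization.AtPrime q.asIdeal
    let I : Ideal Bq := (q.asIdeal.comap (algebraMap A B)).map (algebraMap A Bq)
    haveI : IsNoetherianRing Bq := IsLocalization.isNoetherianRing q.asIdeal.primeCompl _ inferInstance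
    let R := EGA4.FibLocRing A B q.asIdeal
    haveI : Module.Finite Bq (LocalizedModule q.asIdeal.primeCompl E) :=
      Module.Finite.of_isLocalizedModule q.asIdeal.primeCompl (LocalizedModule.mkLinearMap q.asIdeal.primeCompl E)
    haveI : Module.Projective Bq (LocalizedModule q.asIdeal.primeCompl E) :=
      Module.Projective.of_equiv (LocalizedModule.equivTensorProduct q.asIdeal.primeCompl E).symm
    obtain ⟨e⟩ : Nonempty (R ⊗[Bq] LocalizedModule q.asIdeal.primeCompl E ≃ₗ[Bq] EGA4.FibLocMod A B q.asIdeal E) :=
      ⟨TensorProduct.quotTensorEquivQuotSMul _ I⟩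
    let e' : R ⊗[Bq] LocalizedModule q.asIdeal.primeCompl E ≃ₗ[R] EGA4.FibLocMod A B q.asIdeal E :=
      e.toAddEquiv.toLinearEquiv (fun r x => by
        obtain ⟨b, rfl⟩ := Ideal.Quotient.mk_surjective r
        show e (algebraMap Bq R b • x) = algebraMap Bq R b • e x
        rw [algebraMap_smul, algebraMap_smul, map_smul])
    haveI : Module.Finite R (EGA4.FibLocMod A B q.asIdeal E) := Module.Finite.equiv e'
    haveI : Module.Projective R (EGA4.FibLocMod A B q.asIdeal E) := Module.Projective.of_equiv e'
    exact hproj R _ n ((show (n : ℕ∞) ≤ 2 by exact_mod_cast hn).trans (hZ q hq)) _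
  have key := fun q' : PrimeSpectrum B' => GrothLib.FlatOff.key_at_prime (A := A') (F := K') J' f' u' v' hf' hfu' huv' hv'
    hG' q'.asIdeal (hfib E0 q' 2 le_rfl) (hfib E1 q' 1 one_le_two)
  constructor
  · intro h
    exact Module.flat_of_isLocalized_maximal B' (B' ⊗[B] G)
      (fun P _ => LocalizedModule P.primeCompl (B' ⊗[B] G))
      (fun P _ => LocalizedModule.mkLinearMap P.primeCompl (B' ⊗[B] G))
      fun P _ => (key ⟨P, inferInstance⟩).2 (h ⟨P, inferInstance⟩)
  · intro h q'
    exact (key q').1 (GrothLib.FlatModel.flat_localizedModule q'.asIdeal.primeCompl)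

end Groth.Agent.S18711
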