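import Groth.Statements.S18712
import Mathlib
import Groth.Agent.Lib.FlatOff.InfinitesimalMain
-- import your own Groth.Agent.* helpers here

set_option autoImplicit false
universe u
open QGor

namespace Groth.Agent.S18712

open TensorProduct in
/-- Infinitesimal criterion, affine-local form. Let R be a Noetherian local ring with maximal ideal m, C
a finitely generated flat R-algebra, y = n a prime of C over m at which the fibre C_n/mC_n satisfies
S₂ (the structure morphism satisfies relative S₂ at y), and F a finite reflexive C-module which is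
free at every prime not containing an ideal J such that every fibre local ring C_q/pC_q at primes q
⊇ J has dimension ≥ 2 (F is locally free in codimension one on each fibre). Suppose that for every
surjective homomorphism R → A′ onto an Artinian local ring and the Noetherian pushout C′ = A′ ⊗_R C,
at every prime q′ of C′ lying over n the double dual (C′ ⊗_C F)^∨∨ is flat over A′ at q′ and its
fibre stalk satisfies S₂. Then F is flat over R at n and the fibre stalk F_n/mF_n satisfies S₂ (F
satisfies relative S₂ at y). Test rings A′ range over the universe of R. -/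
theorem result (R C : Type u) [CommRing R] [CommRing C] [IsNoetherianRing R] [IsLocalRing R] [IsNoetherianRing C]
    [Algebra R C] [Module.Flat R C] (hft : Algebra.FiniteType R C)
    (n : PrimeSpectrum C) (hn : (IsLocalRing.maximalIdeal R).map (algebraMap R C) ≤ n.asIdeal)
    (hS2 : LocCoh.HasSk 2 (EGA4.FibLocRing R C n.asIdeal) (EGA4.FibLocRing R C n.asIdeal))
    (F : Type u) [AddCommGroup F] [Module C F] [Module R F] [IsScalarTower R C F] [Module.Finite C F]
    [Module.IsReflexive C F] (J : Ideal C)
    (hFU : ∀ q : PrimeSpectrum C, ¬ J ≤ q.asIdeal → Module.Free (Localization.AtPrime q.asIdeal) (LocalizedModule q.asIdeal.primeCompl F))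
    (hcodim : ∀ q : PrimeSpectrum C, J ≤ q.asIdeal → (2 : WithBot ℕ∞) ≤ ringKrullDim (EGA4.FibLocRing R C q.asIdeal))
    (hI : ∀ (A' : Type u) [CommRing A'] [IsArtinianRing A'] [IsLocalRing A'] [Algebra R A'],
      Function.Surjective (algebraMap R A') →
      ∀ (C' : Type u) [CommRing C'] [IsNoetherianRing C'] [Algebra C C'] [Algebra A' C'] [Algebra R C']
        [IsScalarTower R C C'] [IsScalarTower R A' C'], Algebra.IsPushout R C A' C' →
        ∀ q' : PrimeSpectrum C', q'.asIdeal.comap (algebraMap C C') = n.asIdeal →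
          FlatCA.FlatAt A' q'.asIdeal (Module.Dual C' (Module.Dual C' (C' ⊗[C] F))) ∧
          LocCoh.HasSk 2 (EGA4.FibLocRing A' C' q'.asIdeal)
            (EGA4.FibLocMod A' C' q'.asIdeal (Module.Dual C' (Module.Dual C' (C' ⊗[C] F))))) :
    FlatCA.FlatAt R n.asIdeal F ∧ LocCoh.HasSk 2 (EGA4.FibLocRing R C n.asIdeal) (EGA4.FibLocMod R C n.asIdeal F) := by
  classical
  obtain ⟨N, M, g, h, hg, hgh, hfree⟩ := GrothLib.FreeOff.exists_presentation (B := C) F
  have hGfree : ∀ q : PrimeSpectrum C, ¬ J ≤ q.asIdeal → Module.Free (Localization.AtPrime q.asIdeal)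
      (LocalizedModule q.asIdeal.primeCompl ((Fin M → C) ⧸ LinearMap.range h)) :=
    fun q hq => hfree q.asIdeal (hFU q hq)
  have hflat := GrothLib.FlatOff.flatAt_coker_of_infinitesimal n hn hS2 J hcodim g h hg hgh hGfree hI
  let X := Localization.AtPrime n.asIdeal
  haveI : IsNoetherianRing X := IsLocalization.isNoetherianRing n.asIdeal.primeCompl _ inferInstance
  haveI : Module.Finite X (LocalizedModule n.asIdeal.primeCompl F) :=
    Module.Finite.of_isLocalizedModule n.asIdeal.primeCompl (LocalizedModule.mkLinearMap n.asIdeal.primeCompl F)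
  haveI : Module.Flat R (Fin N → C) := Module.Flat.trans R C _
  haveI : Module.Flat R (Fin M → C) := Module.Flat.trans R C _
  have hD := GrothLib.FlatOff.two_le_depth_fibLocRing J n.asIdeal hS2 fun r hr _ => hcodim r hr
  have h0 : ∀ k : ℕ, 2 ≤ LocCoh.idealDepth (J.map (algebraMap C X)) (EGA4.FibLocMod R C n.asIdeal (Fin k → C)) :=
    fun k => by exact_mod_cast GrothLib.FlatOff.le_idealDepth_fibLocMod_free J n.asIdeal 2 (by exact_mod_cast hD) k
  obtain ⟨hF, hfib⟩ := (GrothLib.FlatOff.key_at_prime J g h (LinearMap.range h).mkQ hg hgh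
    (LinearMap.exact_map_mkQ_range h) (Submodule.mkQ_surjective _) (fun r hr => by
      haveI := hGfree r hr
      exact GrothLib.FreeOff.exists_factor_of_free (B := C) _ r.asIdeal) n.asIdeal (h0 N)
    ((one_le_two).trans (h0 M))).1 hflat
  refine ⟨hF, GrothLib.FlatOff.hasSk_two_of_depth _ (J.map (algebraMap C X)) (fun Q hQ hJQ => ?_) hS2 ?_⟩
  · obtain ⟨a, ha, haQ⟩ := Set.not_subset.1 (show ¬ (J : Set C) ⊆ Q.comap (algebraMap C X) from
      fun hs => hJQ (Ideal.map_le_iff_le_comap.2 hs))
    obtain ⟨k, t, s, htg, -⟩ := GrothLib.FlatOff.exists_homotopy g h hg hgh a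
      fun q hq => hGfree q fun hJ => hq (hJ ha)
    obtain ⟨α', β', h'⟩ := GrothLib.FlatOff.localized_factor n.asIdeal g t (a ^ k) htg
    exact ⟨N, α', β', _, fun hmem => haQ (hQ.mem_of_pow_mem k (by rwa [map_pow] at hmem)), h'⟩
  · rw [Ideal.map_map]
    exact hfib

end Groth.Agent.S18712
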