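import Groth.Statements.S18713
import Groth.Agent.Lib.FlatValCrit1.Main
import Groth.Agent.Lib.FlatValCrit1.Base
-- import your own Groth.Agent.* helpers here

set_option autoImplicit false
universe u
open QGor

namespace Groth.Agent.S18713

open TensorProduct Function in
attribute [local instance] Algebra.TensorProduct.rightAlgebra in
/-- Homotopies survive base change. -/
theorem exists_homotopy_baseChange {C C' : Type u} [CommRing C] [IsNoetherianRing C] [CommRing C'] [Algebra C C']
    {F : Type u} [AddCommGroup F] [Module C F] [Module.Finite C F] {N M : ℕ} (g : F →ₗ[C] (Fin N → C))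
    (h : (Fin N → C) →ₗ[C] (Fin M → C)) (hg : Injective g) (hgh : Function.Exact g h) (J : Ideal C)
    (hGfree : ∀ q : PrimeSpectrum C, ¬ J ≤ q.asIdeal → Module.Free (Localization.AtPrime q.asIdeal)
      (LocalizedModule q.asIdeal.primeCompl ((Fin M → C) ⧸ LinearMap.range h)))
    {ρ : ∀ k : ℕ, C' ⊗[C] (Fin k → C) ≃ₗ[C'] (Fin k → C')} (a' : C') (ha' : a' ∈ J.map (algebraMap C C')) :
    ∃ (k : ℕ) (t : (Fin N → C') →ₗ[C'] C' ⊗[C] F) (s : (Fin M → C') →ₗ[C'] (Fin N → C')),
      (∀ x, t ((ρ N).toLinearMap.comp (g.baseChange C') x) = a' ^ k • x) ∧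
      ∀ y, (ρ N).toLinearMap.comp (g.baseChange C') (t y) +
        s ((((ρ M).toLinearMap.comp (h.baseChange C')).comp (ρ N).symm.toLinearMap) y) = a' ^ k • y := by
  let P : C' → Prop := fun c => ∃ (t : (Fin N → C') →ₗ[C'] C' ⊗[C] F) (s : (Fin M → C') →ₗ[C'] (Fin N → C')),
      (∀ x, t ((ρ N).toLinearMap.comp (g.baseChange C') x) = c • x) ∧
      ∀ y, (ρ N).toLinearMap.comp (g.baseChange C') (t y) +
        s ((((ρ M).toLinearMap.comp (h.baseChange C')).comp (ρ N).symm.toLinearMap) y) = c • y
  let S : Ideal C' :=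
    { carrier := {c | P c}
      zero_mem' := ⟨0, 0, fun x => by simp, fun y => by simp⟩
      add_mem' := by
        rintro a b ⟨t, s, h1, h2⟩ ⟨t', s', h1', h2'⟩
        refine ⟨t + t', s + s', fun x => by rw [LinearMap.add_apply, h1, h1', add_smul], fun y => ?_⟩
        rw [LinearMap.add_apply, LinearMap.add_apply, map_add, add_smul, ← h2 y, ← h2' y]
        abel
      smul_mem' := by
        rintro c a ⟨t, s, h1, h2⟩
        refine ⟨c • t, c • s, fun x => by rw [LinearMap.smul_apply, h1, smul_eq_mul, mul_smul], fun y => ?_⟩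
        rw [LinearMap.smul_apply, LinearMap.smul_apply, map_smul, ← smul_add, h2 y, smul_eq_mul, mul_smul] }
  have hle : J.map (algebraMap C C') ≤ S.radical := by
    rw [Ideal.map_le_iff_le_comap]
    intro a ha
    obtain ⟨k, t, s, htg, hgt⟩ := GrothLib.FlatOff.exists_homotopy g h hg hgh a
      fun q hq => hGfree q fun hJ => hq (hJ ha)
    refine ⟨k, (t.baseChange C').comp (ρ N).symm.toLinearMap,
      ((ρ N).toLinearMap.comp (s.baseChange C')).comp (ρ M).symm.toLinearMap, fun x => ?_, fun y => ?_⟩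
    · show t.baseChange C' ((ρ N).symm (ρ N (g.baseChange C' x))) = _
      rw [LinearEquiv.symm_apply_apply, ← LinearMap.comp_apply, ← LinearMap.baseChange_comp,
        show t.comp g = a ^ k • LinearMap.id from LinearMap.ext htg, LinearMap.baseChange_smul,
        LinearMap.baseChange_id, LinearMap.smul_apply, LinearMap.id_apply, ← map_pow, algebraMap_smul]
    · show ρ N (g.baseChange C' (t.baseChange C' ((ρ N).symm y))) +
        ρ N (s.baseChange C' ((ρ M).symm (ρ M (h.baseChange C' ((ρ N).symm y))))) = _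
      rw [LinearEquiv.symm_apply_apply, ← map_add, ← LinearMap.comp_apply (g.baseChange C'),
        ← LinearMap.comp_apply (s.baseChange C'), ← LinearMap.baseChange_comp, ← LinearMap.baseChange_comp,
        ← LinearMap.add_apply, ← LinearMap.baseChange_add,
        show g.comp t + s.comp h = a ^ k • LinearMap.id from LinearMap.ext hgt, LinearMap.baseChange_smul,
        LinearMap.baseChange_id, LinearMap.smul_apply, LinearMap.id_apply, ← map_pow,
        ← algebraMap_smul C' (a ^ k) ((ρ N).symm y), map_smul, LinearEquiv.apply_symm_apply]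
  obtain ⟨k, t, s, h1, h2⟩ := hle ha'
  exact ⟨k, t, s, h1, h2⟩

open TensorProduct Function
attribute [local instance] Algebra.TensorProduct.rightAlgebra

/-- The cokernel becomes flat over a discrete valuation ring when the double dual does with `(S₂)` fibre. -/
theorem flatAt_coker_baseChange {R C : Type u} [CommRing R] [CommRing C] [IsNoetherianRing R] [IsLocalRing R]
    [IsNoetherianRing C] [Algebra R C] [Module.Flat R C] [Algebra.FiniteType R C] (n : PrimeSpectrum C)
    (hnm : n.asIdeal.comap (algebraMap R C) = IsLocalRing.maximalIdeal R)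
    (hS2 : LocCoh.HasSk 2 (EGA4.FibLocRing R C n.asIdeal) (EGA4.FibLocRing R C n.asIdeal))
    {F : Type u} [AddCommGroup F] [Module C F] [Module.Finite C F] (J : Ideal C)
    (hcodim : ∀ q : PrimeSpectrum C, J ≤ q.asIdeal → (2 : WithBot ℕ∞) ≤ ringKrullDim (EGA4.FibLocRing R C q.asIdeal))
    {N M : ℕ} (g : F →ₗ[C] (Fin N → C)) (h : (Fin N → C) →ₗ[C] (Fin M → C)) (hg : Injective g)
    (hgh : Function.Exact g h)
    (hGfree : ∀ q : PrimeSpectrum C, ¬ J ≤ q.asIdeal → Module.Free (Localization.AtPrime q.asIdeal)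
      (LocalizedModule q.asIdeal.primeCompl ((Fin M → C) ⧸ LinearMap.range h)))
    (V : Type u) [CommRing V] [IsDomain V] [IsDiscreteValuationRing V] [Algebra R V] [IsLocalHom (algebraMap R V)]
    (q : Ideal (V ⊗[R] C)) [q.IsPrime] (hqn : q.comap (algebraMap C (V ⊗[R] C)) = n.asIdeal)
    (hqV : q.comap (algebraMap V (V ⊗[R] C)) = IsLocalRing.maximalIdeal V)
    (hdd : FlatCA.FlatAt V q (Module.Dual (V ⊗[R] C) (Module.Dual (V ⊗[R] C) ((V ⊗[R] C) ⊗[C] F))) ∧
      LocCoh.HasSk 2 (EGA4.FibLocRing V (V ⊗[R] C) q)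
        (EGA4.FibLocMod V (V ⊗[R] C) q (Module.Dual (V ⊗[R] C) (Module.Dual (V ⊗[R] C) ((V ⊗[R] C) ⊗[C] F))))) :
    FlatCA.FlatAt V q ((V ⊗[R] C) ⊗[C] ((Fin M → C) ⧸ LinearMap.range h)) := by
  classical
  let C' := V ⊗[R] C
  haveI : IsNoetherianRing C' := Algebra.FiniteType.isNoetherianRing V _
  haveI : Algebra.IsPushout R C V C' := Algebra.IsPushout.symm inferInstance
  let J' : Ideal C' := J.map (algebraMap C C')
  have hD := GrothLib.FlatValCrit1.two_le_depth_fib_baseChange (R := R) (C := C) (V := V) (C' := C') J n.asIdeal hnm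
    hS2 hcodim q hqV hqn
  let ρ : ∀ k : ℕ, C' ⊗[C] (Fin k → C) ≃ₗ[C'] (Fin k → C') := fun k => TensorProduct.piScalarRight C C' C' (Fin k)
  let g' : C' ⊗[C] F →ₗ[C'] (Fin N → C') := (ρ N).toLinearMap.comp (g.baseChange C')
  let h' : (Fin N → C') →ₗ[C'] (Fin M → C') :=
    ((ρ M).toLinearMap.comp (h.baseChange C')).comp (ρ N).symm.toLinearMap
  have hgh' : ∀ x, h' (g' x) = 0 := fun x => by
    show ρ M (h.baseChange C' ((ρ N).symm (ρ N (g.baseChange C' x)))) = 0
    rw [LinearEquiv.symm_apply_apply, ← LinearMap.comp_apply, ← LinearMap.baseChange_comp,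
      hgh.linearMap_comp_eq_zero, LinearMap.baseChange_zero, LinearMap.zero_apply, map_zero]
  let G := (Fin M → C) ⧸ LinearMap.range h
  let G' := (Fin M → C') ⧸ LinearMap.range h'
  have hπ : Surjective ((LinearMap.range h).mkQ.baseChange C') :=
    LinearMap.lTensor_surjective C' (Submodule.mkQ_surjective _)
  let π : (Fin M → C') →ₗ[C'] C' ⊗[C] G := ((LinearMap.range h).mkQ.baseChange C').comp (ρ M).symm.toLinearMap
  have hker : LinearMap.ker π = LinearMap.range h' := by
    ext z
    have hex := lTensor_exact C' (LinearMap.exact_map_mkQ_range h) (Submodule.mkQ_surjective _) ((ρ M).symm z)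
    show (LinearMap.range h).mkQ.baseChange C' ((ρ M).symm z) = 0 ↔ _
    refine Iff.trans hex ⟨?_, ?_⟩
    · rintro ⟨w, hw⟩
      refine ⟨ρ N w, ?_⟩
      show ρ M (h.baseChange C' ((ρ N).symm (ρ N w))) = z
      rw [LinearEquiv.symm_apply_apply, ← LinearEquiv.apply_symm_apply (ρ M) z]
      exact congrArg (ρ M) hw
    · rintro ⟨y, rfl⟩
      refine ⟨(ρ N).symm y, ?_⟩
      show _ = (ρ M).symm (ρ M (h.baseChange C' ((ρ N).symm y)))
      rw [LinearEquiv.symm_apply_apply]
      rfl
  let e : G' ≃ₗ[C'] C' ⊗[C] G :=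
    (Submodule.quotEquivOfEq _ _ hker.symm).trans (π.quotKerEquivOfSurjective (hπ.comp (ρ M).symm.surjective))
  have hhom : ∀ a' ∈ J', ∃ (k : ℕ) (t : (Fin N → C') →ₗ[C'] C' ⊗[C] F) (s : (Fin M → C') →ₗ[C'] (Fin N → C')),
      (∀ x, t (g' x) = a' ^ k • x) ∧ ∀ y, g' (t y) + s (h' y) = a' ^ k • y := by
    intro a' ha'
    exact exists_homotopy_baseChange g h hg hgh J hGfree (ρ := ρ) a' ha'
  have hG' : ∀ r : PrimeSpectrum C', ¬ J' ≤ r.asIdeal → ∃ (k : ℕ) (α : G' →ₗ[C'] (Fin k → C'))
      (β : (Fin k → C') →ₗ[C'] G') (s : r.asIdeal.primeCompl), ∀ x, β (α x) = (s : C') • x := by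
    intro r hr
    haveI := hGfree ⟨r.asIdeal.comap (algebraMap C C'), inferInstance⟩ fun hJ => hr (Ideal.map_le_iff_le_comap.2 hJ)
    obtain ⟨k, α, β, s, hs⟩ := GrothLib.FreeOff.exists_factor_of_free (B := C) G (r.asIdeal.comap (algebraMap C C'))
    refine ⟨k, ((ρ k).toLinearMap.comp (α.baseChange C')).comp e.toLinearMap,
      (e.symm.toLinearMap.comp (β.baseChange C')).comp (ρ k).symm.toLinearMap, ⟨algebraMap C C' s, s.2⟩, fun z => ?_⟩
    show e.symm (β.baseChange C' ((ρ k).symm (ρ k (α.baseChange C' (e z))))) = _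
    rw [LinearEquiv.symm_apply_apply, ← LinearMap.comp_apply (β.baseChange C'), ← LinearMap.baseChange_comp,
      show β.comp α = (s : C) • LinearMap.id from LinearMap.ext hs, LinearMap.baseChange_smul,
      LinearMap.baseChange_id, LinearMap.smul_apply, LinearMap.id_apply, ← algebraMap_smul C' (s : C) (e z),
      map_smul, LinearEquiv.symm_apply_apply]
  exact GrothLib.FlatAbove.flatAt_congr e q
    (GrothLib.FlatValCrit1.flatAt_coker_of_hasSk_dvr J' q g' h' hqV hD hgh' hhom hG' hdd)

open TensorProduct in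
/-- Valuative criterion, affine-local form. Let R be a Noetherian local ring with maximal ideal m, C a
finitely generated flat R-algebra, y = n a prime of C over m at which the fibre C_n/mC_n satisfies
S₂ (the structure morphism satisfies relative S₂ at y), and F a finite reflexive C-module which is
free at every prime not containing an ideal J such that every fibre local ring C_q/pC_q at primes q
⊇ J has dimension ≥ 2 (F is locally free in codimension one on each fibre). Assume R is reduced, and
that for every local homomorphism R → D to a discrete valuation ring and the Noetherian pushout C′ =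
D ⊗_R C, at every prime q′ of C′ lying over n and over the closed point of D the double dual (C′ ⊗_C
F)^∨∨ is flat over D at q′ and its fibre stalk satisfies S₂. Then F is flat over R at n and F_n/mF_n
satisfies S₂ (F satisfies relative S₂ at y). Test rings D range over the universe of R. -/
theorem result (R C : Type u) [CommRing R] [CommRing C] [IsNoetherianRing R] [IsLocalRing R] [IsNoetherianRing C]
    [Algebra R C] [Module.Flat R C] (hft : Algebra.FiniteType R C)
    (n : PrimeSpectrum C) (hn : (IsLocalRing.maximalIdeal R).map (algebraMap R C) ≤ n.asIdeal)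
    (hS2 : LocCoh.HasSk 2 (EGA4.FibLocRing R C n.asIdeal) (EGA4.FibLocRing R C n.asIdeal))
    (F : Type u) [AddCommGroup F] [Module C F] [Module R F] [IsScalarTower R C F] [Module.Finite C F]
    [Module.IsReflexive C F] (J : Ideal C)
    (hFU : ∀ q : PrimeSpectrum C, ¬ J ≤ q.asIdeal → Module.Free (Localization.AtPrime q.asIdeal) (LocalizedModule q.asIdeal.primeCompl F))
    (hcodim : ∀ q : PrimeSpectrum C, J ≤ q.asIdeal → (2 : WithBot ℕ∞) ≤ ringKrullDim (EGA4.FibLocRing R C q.asIdeal)) [IsReduced R]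
    (hII : ∀ (D : Type u) [CommRing D] [IsDomain D] [IsDiscreteValuationRing D] [Algebra R D],
      IsLocalHom (algebraMap R D) →
      ∀ (C' : Type u) [CommRing C'] [IsNoetherianRing C'] [Algebra C C'] [Algebra D C'] [Algebra R C']
        [IsScalarTower R C C'] [IsScalarTower R D C'], Algebra.IsPushout R C D C' →
        ∀ q' : PrimeSpectrum C', q'.asIdeal.comap (algebraMap C C') = n.asIdeal →
          (IsLocalRing.maximalIdeal D).map (algebraMap D C') ≤ q'.asIdeal →
          FlatCA.FlatAt D q'.asIdeal (Module.Dual C' (Module.Dual C' (C' ⊗[C] F))) ∧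
          LocCoh.HasSk 2 (EGA4.FibLocRing D C' q'.asIdeal)
            (EGA4.FibLocMod D C' q'.asIdeal (Module.Dual C' (Module.Dual C' (C' ⊗[C] F))))) :
    FlatCA.FlatAt R n.asIdeal F ∧ LocCoh.HasSk 2 (EGA4.FibLocRing R C n.asIdeal) (EGA4.FibLocMod R C n.asIdeal F) := by
  classical
  obtain ⟨N, M, g, h, hg, hgh, hfree⟩ := GrothLib.FreeOff.exists_presentation (B := C) F
  have hGfree : ∀ q : PrimeSpectrum C, ¬ J ≤ q.asIdeal → Module.Free (Localization.AtPrime q.asIdeal)
      (LocalizedModule q.asIdeal.primeCompl ((Fin M → C) ⧸ LinearMap.range h)) :=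
    fun q hq => hfree q.asIdeal (hFU q hq)
  have hnm : n.asIdeal.comap (algebraMap R C) = IsLocalRing.maximalIdeal R :=
    ((IsLocalRing.maximalIdeal.isMaximal R).eq_of_le (Ideal.IsPrime.ne_top inferInstance) (Ideal.map_le_iff_le_comap.1 hn)).symm
  haveI := hft
  have hflat : FlatCA.FlatAt R n.asIdeal ((Fin M → C) ⧸ LinearMap.range h) :=
    GrothLib.FlatValCrit1.flatAt_of_forall_dvr n.asIdeal hnm _ fun V _ _ _ _ hloc q _ hqn hqV =>
      haveI : IsNoetherianRing (V ⊗[R] C) := Algebra.FiniteType.isNoetherianRing V _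
      flatAt_coker_baseChange n hnm hS2 J hcodim g h hg hgh hGfree V q hqn hqV
        (hII V hloc (V ⊗[R] C) (Algebra.IsPushout.symm inferInstance) ⟨q, inferInstance⟩ hqn
          (Ideal.map_le_iff_le_comap.2 hqV.ge))
  let X := Localization.AtPrime n.asIdeal
  haveI : IsNoetherianRing X := IsLocalization.isNoetherianRing n.asIdeal.primeCompl _ inferInstance
  haveI : Module.Finite X (LocalizedModule n.asIdeal.primeCompl F) :=
    Module.Finite.of_isLocalizedModule n.asIdeal.primeCompl (LocalizedModule.mkLinearMap n.asIdeal.primeCompl F)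
  haveI : Module.Flat R (Fin N → C) := Module.Flat.trans R C _
  haveI : Module.Flat R (Fin M → C) := Module.Flat.trans R C _
  have hD := GrothLib.FlatOff.two_le_depth_fibLocRing J n.asIdeal hS2 fun r hr _ => hcodim r hr
  have h0 : ∀ k : ℕ, 2 ≤ LocCoh.idealDepth (J.map (algebraMap C X)) (EGA4.FibLocMod R C n.asIdeal (Fin k → C)) :=
    fun k => by exact_mod_cast GrothLib.FlatOff.le_idealDepth_fibLocMod_free J n.asIdeal 2 (by exact_mod_cast hD) k
  obtain ⟨hF, hfib⟩ := (GrothLib.FlatOff.key_at_prime J g h (LinearMap.range h).mkQ hg hgh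
    (LinearMap.exact_map_mkQ_range h) (Submodule.mkQ_surjective _) (fun r hr => by
      haveI := hGfree r hr
      exact GrothLib.FreeOff.exists_factor_of_free (B := C) _ r.asIdeal) n.asIdeal (h0 N)
    ((one_le_two).trans (h0 M))).1 hflat
  refine ⟨hF, GrothLib.FlatOff.hasSk_two_of_depth _ (J.map (algebraMap C X)) (fun Q hQ hJQ => ?_) hS2 ?_⟩
  · obtain ⟨a, ha, haQ⟩ := Set.not_subset.1 (show ¬ (J : Set C) ⊆ Q.comap (algebraMap C X) from
      fun hs => hJQ (Ideal.map_le_iff_le_comap.2 hs))
    obtain ⟨k, t, s, htg, -⟩ := GrothLib.FlatOff.exists_homotopy g h hg hgh a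
      fun q hq => hGfree q fun hJ => hq (hJ ha)
    obtain ⟨α', β', h'⟩ := GrothLib.FlatOff.localized_factor n.asIdeal g t (a ^ k) htg
    exact ⟨N, α', β', _, fun hmem => haQ (hQ.mem_of_pow_mem k (by rwa [map_pow] at hmem)), h'⟩
  · rw [Ideal.map_map]
    exact hfib


end Groth.Agent.S18713
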