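import Groth.Statements.S18715
import Groth.Agent.Lib.SkExt.Basic
import Groth.Agent.Lib.DualRing.Finite
-- import your own Groth.Agent.* helpers here

set_option autoImplicit false
universe u
open CategoryTheory
attribute [local instance] HasDerivedCategory.standard
open QGor

namespace Groth.Agent.S18715

/-- Affine form. Let A be a Noetherian ring with a dualizing complex ω and M a finite A-module. For
every k ≥ 1 the S_k-locus {p : M_p satisfies (S_k) over A_p} is open in Spec A. (The Cohen–Macaulay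
and Gorenstein loci, also treated there, are separate known statements.) -/
theorem result (A : Type u) [CommRing A] [IsNoetherianRing A]
    (ω : Dual.D A) (hω : Dual.IsDualizing A ω) (M : Type u) [AddCommGroup M] [Module A M] [Module.Finite A M]
    (k : ℕ) (hk : 1 ≤ k) :
    IsOpen {p : PrimeSpectrum A | EGA4.HasSkAt k A M p.asIdeal} := by
  open GrothLib.DualRing GrothLib.SkExt in
  classical
  obtain ⟨a, b, hab⟩ := hω.finite_injective_dimension
  let E : ℤ → Set (PrimeSpectrum A) := fun i => Module.support A (EH ω (Dual.inD A M) i)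
  haveI : ∀ i, Module.Finite A (EH ω (Dual.inD A M) i) := fun i => finite_EH hω M i
  let dim : PrimeSpectrum A → WithBot ℕ∞ := fun p =>
    Module.supportDim (Localization.AtPrime p.asIdeal) (LocalizedModule p.asIdeal.primeCompl M)
  -- the dimension grows under specialisation
  have hmono : ∀ z p : PrimeSpectrum A, z ≤ p → z ∈ Module.support A M → dim z ≤ dim p := by
    intro z p hzp hz
    obtain ⟨κ, d, -, -, hd, -, hmemd, -⟩ := exists_degree_range hω M z hz
    obtain ⟨κ', d', -, -, hd', -, -, hrange⟩ := exists_degree_range hω M p (Module.mem_support_mono hzp hz)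
    have h1 := (hrange _ (Module.mem_support_mono hzp hmemd)).1
    have h2 := (degS_strictMono hω).monotone hzp
    rw [show dim z = d from hd, show dim p = d' from hd']
    exact_mod_cast (show d ≤ d' by unfold degS at h2; omega)
  let bad : ℤ × ℤ → Set (PrimeSpectrum A) := fun t =>
    ⋃ z ∈ (Module.annihilator A (EH ω (Dual.inD A M) t.1) ⊔ Module.annihilator A (EH ω (Dual.inD A M) t.2)).minimalPrimes,
      {p : PrimeSpectrum A | z ≤ p.asIdeal ∧ ∃ hz : z.IsPrime, t.2 < t.1 ∧
        ¬ (((k : ℤ) + t.1 - t.2).toNat : WithBot ℕ∞) ≤ dim ⟨z, hz⟩}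
  have hset : {p : PrimeSpectrum A | EGA4.HasSkAt k A M p.asIdeal} =
      (⋃ t ∈ (Finset.Icc a b) ×ˢ (Finset.Icc a b), bad t)ᶜ := by
    ext p
    rw [Set.mem_setOf_eq, hasSkAt_iff, Set.mem_compl_iff, Set.mem_iUnion₂]
    constructor
    · rintro h ⟨t, -, hbad⟩
      obtain ⟨z, hz, hzp, hzpr, hlt, hno⟩ := Set.mem_iUnion₂.1 hbad
      haveI := hzpr
      exact hno ((skCond_iff hω M k ⟨z, hzpr⟩).1 (h z hzp) t.1 t.2 hlt
        (Module.mem_support_iff_of_finite.2 (le_sup_left.trans hz.1.2))
        (Module.mem_support_iff_of_finite.2 (le_sup_right.trans hz.1.2)))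
    · intro h q _ hqp
      refine (skCond_iff hω M k ⟨q, inferInstance⟩).2 fun i j hji hi hj => ?_
      by_contra hno
      obtain ⟨z, hz, hzq⟩ := Ideal.exists_minimalPrimes_le (J := q)
        (sup_le (Module.mem_support_iff_of_finite.1 hi) (Module.mem_support_iff_of_finite.1 hj))
      haveI hzpr := hz.1.1
      have hmemM : (⟨z, hzpr⟩ : PrimeSpectrum A) ∈ Module.support A M :=
        mem_support_of_mem_support_EH hω M (Module.mem_support_iff_of_finite.2 (le_sup_left.trans hz.1.2))
      refine h ⟨(i, j), ?_, Set.mem_iUnion₂.2 ⟨z, hz, hzq.trans hqp, hzpr, hji,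
        fun hle => hno (hle.trans (hmono ⟨z, hzpr⟩ ⟨q, inferInstance⟩ hzq hmemM))⟩⟩
      have hin : ∀ l, (⟨q, inferInstance⟩ : PrimeSpectrum A) ∈ E l → l ∈ Finset.Icc a b := fun l hl => by
        by_contra hout
        rw [Finset.mem_Icc] at hout
        haveI : Subsingleton (EH ω (Dual.inD A M) l) := hab M l (by omega)
        simp [E, Module.support_eq_empty] at hl
      exact Finset.mem_product.2 ⟨hin i hi, hin j hj⟩
  rw [hset]
  refine (Set.Finite.isClosed_biUnion (Finset.finite_toSet _) fun t _ => ?_).isOpen_compl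
  refine Set.Finite.isClosed_biUnion (Ideal.finite_minimalPrimes_of_isNoetherianRing A _) fun z _ => ?_
  by_cases hc : ∃ hz : z.IsPrime, t.2 < t.1 ∧ ¬ (((k : ℤ) + t.1 - t.2).toNat : WithBot ℕ∞) ≤ dim ⟨z, hz⟩
  · have : {p : PrimeSpectrum A | z ≤ p.asIdeal ∧ ∃ hz : z.IsPrime, t.2 < t.1 ∧
        ¬ (((k : ℤ) + t.1 - t.2).toNat : WithBot ℕ∞) ≤ dim ⟨z, hz⟩} = PrimeSpectrum.zeroLocus (z : Set A) := by
      ext p
      exact ⟨fun h => h.1, fun h => ⟨h, hc⟩⟩
    rw [this]
    exact PrimeSpectrum.isClosed_zeroLocus _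
  · convert isClosed_empty using 1
    ext p
    exact ⟨fun h => (hc h.2).elim, False.elim⟩

end Groth.Agent.S18715
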