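import Groth.Statements.S18716
import Groth.Agent.Lib.SkExt.Basic
-- import your own Groth.Agent.* helpers here

set_option autoImplicit false
universe u
open CategoryTheory
attribute [local instance] HasDerivedCategory.standard
open QGor

namespace Groth.Agent.S18716

/-- Affine form. Let A be a Noetherian ring with a dualizing complex ω, M a finite A-module and, for j ∈
ℤ, E^j = Ext^j(M, ω) the A-module of morphisms M → ω[j] in D(A). For k ≥ 1, M satisfies (S_k) if and
only if for all integers i > j the closed set Supp E^i ∩ Supp E^j has codimension ≥ k + i − j in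
Supp M, i.e. dim Supp(M_p) ≥ k + i − j for every prime p in Supp E^i ∩ Supp E^j. -/
theorem result (A : Type u) [CommRing A] [IsNoetherianRing A]
    (ω : Dual.D A) (hω : Dual.IsDualizing A ω) (M : Type u) [AddCommGroup M] [Module A M] [Module.Finite A M]
    (k : ℕ) (hk : 1 ≤ k) :
    LocCoh.HasSk k A M ↔
      ∀ (i j : ℤ), j < i → ∀ p : PrimeSpectrum A,
        p ∈ Module.support A (Dual.inD A M ⟶ ω⟦i⟧) → p ∈ Module.support A (Dual.inD A M ⟶ ω⟦j⟧) →
          (((k : ℤ) + i - j).toNat : WithBot ℕ∞) ≤
            Module.supportDim (Localization.AtPrime p.asIdeal) (LocalizedModule p.asIdeal.primeCompl M) := by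
  constructor
  · intro h i j hji p hi hj
    exact (GrothLib.SkExt.skCond_iff hω M k p).1 (h p.asIdeal) i j hji hi hj
  · intro h p _
    exact (GrothLib.SkExt.skCond_iff hω M k ⟨p, inferInstance⟩).2 fun i j hji hi hj => h i j hji _ hi hj

end Groth.Agent.S18716
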