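import Groth.Statements.S18717
import Groth.Agent.Lib.SkExt.Basic
-- import your own Groth.Agent.* helpers here

set_option autoImplicit false
universe u
open CategoryTheory
attribute [local instance] HasDerivedCategory.standard
open QGor

namespace Groth.Agent.S18717

/-- Affine-local form with a normalized dualizing complex (so the codimension function vanishes at the
closed point). Let A be a Noetherian local ring with normalized dualizing complex ω, M a nonzero
finite A-module which is equidimensional of dimension δ, E^j = Ext^j(M, ω) the A-module of morphisms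
M → ω[j] in D(A), and k ≥ 1. Then M satisfies (S_k) if and only if dim Supp E^j ≤ −j − k for every
integer j ≠ −δ, where for −j − k < 0 this means E^j = 0. -/
theorem result (A : Type u) [CommRing A] [IsNoetherianRing A]
    [IsLocalRing A] (ω : Dual.D A) (hω : Dual.IsDualizing A ω) (hn : Dual.IsNormalized A ω)
    (M : Type u) [AddCommGroup M] [Module A M] [Module.Finite A M] [Nontrivial M]
    (hM : EGA4.IsEquidimModule A M) (δ : ℕ) (hδ : Module.supportDim A M = δ) (k : ℕ) (hk : 1 ≤ k) :
    LocCoh.HasSk k A M ↔
      ∀ j : ℤ, j ≠ -(δ : ℤ) →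
        (-j - (k : ℤ) < 0 → Subsingleton (Dual.inD A M ⟶ ω⟦j⟧)) ∧
        (0 ≤ -j - (k : ℤ) → Module.supportDim A (Dual.inD A M ⟶ ω⟦j⟧) ≤ ((-j - (k : ℤ)).toNat : WithBot ℕ∞)) := by
  open GrothLib.DualRing GrothLib.SkExt in
  -- the bottom degree is the same at every point of the support
  have hbot : ∀ p : PrimeSpectrum A, p ∈ Module.support A M →
      p ∈ Module.support A (EH ω (Dual.inD A M) (-(δ : ℤ))) ∧
        ∀ i, p ∈ Module.support A (EH ω (Dual.inD A M) i) → -(δ : ℤ) ≤ i := by
    have hmin : ∀ r : Ideal A, r ∈ (Module.annihilator A M).minimalPrimes → ∀ hr : r.IsPrime,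
        deg hω r = -(δ : ℤ) ∧ (⟨r, hr⟩ : PrimeSpectrum A) ∈ Module.support A (EH ω (Dual.inD A M) (deg hω r)) := by
      intro r hr hrp
      haveI := hrp
      have h := (hM r hr).trans hδ
      rw [ringKrullDim_quotient_eq hω hn r] at h
      have h' : (-deg hω r).toNat = δ := by exact_mod_cast h
      have := deg_nonpos hω hn r
      refine ⟨by omega, mem_support_EH_of_minimal hω M (r := ⟨r, hrp⟩) (Module.mem_support_iff_of_finite.2 hr.1.2)
        fun s hs hle => PrimeSpectrum.ext ?_⟩
      exact le_antisymm hle (hr.2 ⟨s.2, Module.mem_support_iff_of_finite.1 hs⟩ hle)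
    intro p hp
    obtain ⟨r, hr, hrp⟩ := Ideal.exists_minimalPrimes_le (Module.mem_support_iff_of_finite.1 hp)
    obtain ⟨hdeg, hmem⟩ := hmin r hr hr.1.1
    refine ⟨?_, fun i hi => ?_⟩
    · rw [← hdeg]
      exact Module.mem_support_mono (show (⟨r, hr.1.1⟩ : PrimeSpectrum A) ≤ p from hrp) hmem
    obtain ⟨s, hs, hsp, hann, h1, -⟩ := exists_quotient_bounds hω M
      ((nontrivial_localized_iff p.asIdeal _).1 (Module.mem_support_iff.1 hi))
    obtain ⟨r', hr', hrs⟩ := Ideal.exists_minimalPrimes_le (J := s)
      (show Module.annihilator A M ≤ s from fun a ha => hann a (Module.mem_annihilator.1 ha))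
    haveI := hr'.1.1
    have h2 := (hmin r' hr' inferInstance).1
    have h3 := (degS_strictMono hω).monotone (show (⟨r', inferInstance⟩ : PrimeSpectrum A) ≤ ⟨s, hs⟩ from hrs)
    change deg hω r' ≤ deg hω s at h3
    omega
  have hd : ∀ p : PrimeSpectrum A, p ∈ Module.support A M → ∀ κ d : ℕ,
      p ∈ Module.support A (EH ω (Dual.inD A M) (deg hω p.asIdeal - d)) →
      (∀ i, p ∈ Module.support A (EH ω (Dual.inD A M) i) → deg hω p.asIdeal - d ≤ i ∧ i ≤ deg hω p.asIdeal - κ) →
      deg hω p.asIdeal - d = -(δ : ℤ) := fun p hp κ d hmem hrange =>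
    le_antisymm (hrange _ (hbot p hp).1).1 ((hbot p hp).2 _ hmem)
  constructor
  · intro hsk j hj
    have key : ∀ p : PrimeSpectrum A, p ∈ Module.support A (EH ω (Dual.inD A M) j) →
        0 ≤ -deg hω p.asIdeal ∧ -deg hω p.asIdeal ≤ -j - k := by
      intro p hp
      have hpM := mem_support_of_mem_support_EH hω M hp
      obtain ⟨κ, d, hκd, hκ, hdim, -, hmemd, hrange⟩ := exists_degree_range hω M p hpM
      have hb := hd p hpM κ d hmemd hrange
      have h := hsk p.asIdeal
      rw [hκ, hdim] at h
      have h1 := (hrange j hp).2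
      have h2 := (hbot p hpM).2 j hp
      have h' : k ≤ κ := by
        rcases le_total k d with hh | hh
        · rw [min_eq_left (by exact_mod_cast hh)] at h
          exact_mod_cast h
        · rw [min_eq_right (by exact_mod_cast hh)] at h
          have : d ≤ κ := by exact_mod_cast h
          omega
      have := deg_nonpos hω hn p.asIdeal
      omega
    refine ⟨fun hneg => ?_, fun hpos => ?_⟩
    · refine (Module.support_eq_empty_iff (R := A)).1 (Set.eq_empty_iff_forall_notMem.2 fun p hp => ?_)
      have := key p hp
      omega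
    · refine supportDim_le_of_deg hω hn _ _ fun p hp => ?_
      have := key p hp
      omega
  · intro h p _
    by_cases hp : (⟨p, inferInstance⟩ : PrimeSpectrum A) ∈ Module.support A M
    · obtain ⟨κ, d, hκd, hκ, hdim, hmemk, hmemd, hrange⟩ := exists_degree_range hω M _ hp
      have hb : deg hω p - d = -(δ : ℤ) := hd _ hp κ d hmemd hrange
      rw [show LocCoh.depth (Localization.AtPrime p) (LocalizedModule p.primeCompl M) = κ from hκ,
        show Module.supportDim (Localization.AtPrime p) (LocalizedModule p.primeCompl M) = d from hdim]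
      rcases hκd.eq_or_lt with rfl | hlt
      · exact min_le_right _ _
      refine (min_le_left _ _).trans ?_
      suffices k ≤ κ by exact_mod_cast this
      by_contra hcon
      set j := deg hω p - (κ : ℤ) with hj
      obtain ⟨h1, h2⟩ := h j (by omega)
      by_cases hneg : -j - (k : ℤ) < 0
      · haveI := h1 hneg
        simp [Module.support_eq_empty] at hmemk
      · have hge := le_supportDim_of_mem hω hn _ hmemk
        have h3 : (-deg hω p).toNat ≤ (-j - (k : ℤ)).toNat := by exact_mod_cast hge.trans (h2 (by omega))
        omega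
    · rw [(Module.supportDim_eq_bot_iff_subsingleton _ _).2 (Module.notMem_support_iff.1 hp)]
      exact (min_le_right _ _).trans bot_le

end Groth.Agent.S18717
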