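import Groth.Statements.S18718
import Mathlib
import Groth.Agent.Lib.FlatOff.DoubleDual
-- import your own Groth.Agent.* helpers here

set_option autoImplicit false
universe u
open QGor

namespace Groth.Agent.S18718

open TensorProduct in
/-- Affine form. Let A → B be a flat homomorphism of Noetherian rings, J an ideal of B such that the
fibre local ring B_q/pB_q has depth ≥ 2 at every prime q ⊇ J (p its contraction), A → A′ a
homomorphism of Noetherian rings with Noetherian pushout B′ = A′ ⊗_A B, and F a finite B-module with
F_q free for every prime q not containing J. Then depth_J (F^∨∨) ≥ 2 (the double dual is the module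
of sections of F off V(J)); the natural map (B′ ⊗_B F)^∨∨ → (B′ ⊗_B F^∨∨)^∨∨ obtained by dualising
twice the base change of F → F^∨∨ is bijective; and if moreover F is flat over A and the fibre
stalks F_q/pF_q have depth ≥ 2 at all primes q ⊇ J, then F and B′ ⊗_B F are reflexive. -/
theorem result (A B : Type u) [CommRing A] [CommRing B] [IsNoetherianRing A] [IsNoetherianRing B] [Algebra A B]
    (A' B' : Type u) [CommRing A'] [CommRing B'] [IsNoetherianRing A'] [IsNoetherianRing B']
    [Algebra A A'] [Algebra B B'] [Algebra A' B'] [Algebra A B'] [IsScalarTower A B B'] [IsScalarTower A A' B']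
    [Algebra.IsPushout A B A' B'] [Module.Flat A B] (J : Ideal B)
    (hZ : ∀ q : PrimeSpectrum B, J ≤ q.asIdeal →
      2 ≤ LocCoh.idealDepth (q.asIdeal.map (algebraMap B (EGA4.FibLocRing A B q.asIdeal))) (EGA4.FibLocRing A B q.asIdeal))
    (F : Type u) [AddCommGroup F] [Module B F] [Module A F] [IsScalarTower A B F] [Module.Finite B F]
    (hFU : ∀ q : PrimeSpectrum B, ¬ J ≤ q.asIdeal → Module.Free (Localization.AtPrime q.asIdeal) (LocalizedModule q.asIdeal.primeCompl F)) :
    2 ≤ LocCoh.idealDepth J (Module.Dual B (Module.Dual B F)) ∧
    Function.Bijective (((Module.Dual.eval B F).baseChange B').dualMap.dualMap) ∧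
    (Module.Flat A F →
      (∀ q : PrimeSpectrum B, J ≤ q.asIdeal →
        2 ≤ LocCoh.idealDepth (q.asIdeal.map (algebraMap B (EGA4.FibLocRing A B q.asIdeal))) (EGA4.FibLocMod A B q.asIdeal F)) →
      Module.IsReflexive B F ∧ Module.IsReflexive B' (B' ⊗[B] F)) := by
  classical
  have hA2 : 2 ≤ LocCoh.idealDepth J B := GrothLib.FlatOff.le_idealDepth_ring (A := A) J 2 hZ
  let J' := J.map (algebraMap B B')
  have hB2 : 2 ≤ LocCoh.idealDepth J' B' := by
    have h := GrothLib.FlatOff.le_idealDepth_baseChange_of_fib (A := A) (A' := A') (B' := B') B J 2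
      fun q hq => GrothLib.FlatOff.fibLocMod_ring_depth q.asIdeal 2 (hZ q hq)
    rwa [GrothLib.Depth.idealDepth_eq_of_equiv J' (TensorProduct.AlgebraTensorModule.rid B B' B')] at h
  haveI := GrothLib.FlatOff.finite_dual (B := B) F
  haveI := GrothLib.FlatOff.finite_dual (B := B) (Module.Dual B F)
  refine ⟨GrothLib.FlatOff.two_le_depth_dual J hA2 _, ?_, fun hFflat hFfib => ?_⟩
  · have hbij : Function.Bijective ((Module.Dual.eval B F).baseChange B').dualMap := by
      refine GrothLib.FlatOff.dualMap_bijective_of_pseudoInverse J' hB2 _
        ((algebraMap B B') '' (J : Set B)) (le_refl _) ?_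
      rintro _ ⟨a, ha, rfl⟩
      obtain ⟨k, σ, h1, h2⟩ := GrothLib.FlatOff.exists_pseudoInverse_eval J F hFU a ha
      refine ⟨k, σ.baseChange B', fun x => ?_, fun y => ?_⟩
      · induction x using TensorProduct.induction_on with
        | zero => simp
        | add u v hu hv => simp only [map_add, smul_add, hu, hv]
        | tmul t x =>
          rw [LinearMap.baseChange_tmul, LinearMap.baseChange_tmul, h1, ← map_pow, algebraMap_smul,
            TensorProduct.tmul_smul]
      · induction y using TensorProduct.induction_on with
        | zero => simp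
        | add u v hu hv => simp only [map_add, smul_add, hu, hv]
        | tmul t y =>
          rw [LinearMap.baseChange_tmul, LinearMap.baseChange_tmul, h2, ← map_pow, algebraMap_smul,
            TensorProduct.tmul_smul]
    exact (LinearEquiv.ofBijective _ hbij).dualMap.bijective
  · haveI := hFflat
    refine ⟨GrothLib.DepthKer.isReflexive_of_idealDepth_two F J (le_trans one_le_two hA2) (fun q hq => ?_)
      (GrothLib.FlatOff.le_idealDepth_of_forall_fibLoc (A := A) F J 2 hFfib),
      GrothLib.DepthKer.isReflexive_of_idealDepth_two (B' ⊗[B] F) J' (le_trans one_le_two hB2) (fun q' hq' => ?_)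
      (GrothLib.FlatOff.le_idealDepth_baseChange_of_fib (A := A) (A' := A') (B' := B') F J 2 hFfib)⟩
    · haveI := hFU q hq
      haveI : Module.Finite (Localization.AtPrime q.asIdeal) (LocalizedModule q.asIdeal.primeCompl F) :=
        Module.Finite.of_isLocalizedModule q.asIdeal.primeCompl (LocalizedModule.mkLinearMap q.asIdeal.primeCompl F)
      infer_instance
    · let q : Ideal B := q'.asIdeal.comap (algebraMap B B')
      have hq : ¬ J ≤ q := fun h => hq' (Ideal.map_le_iff_le_comap.2 h)
      haveI : Module.Free (Localization.AtPrime q) (LocalizedModule q.primeCompl F) :=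
        hFU ⟨q, inferInstance⟩ hq
      obtain ⟨k, α, β, s, hαβ⟩ := GrothLib.FreeOff.exists_factor_of_free F q
      let pk := TensorProduct.piScalarRight B B' B' (Fin k)
      have hfree := GrothLib.FreeOff.free_localized_of_factor (C := B' ⊗[B] F) q'.asIdeal
        ⟨algebraMap B B' s, fun h => s.2 h⟩ (pk.toLinearMap.comp (α.baseChange B'))
        ((β.baseChange B').comp pk.symm.toLinearMap) (fun c => by
          show β.baseChange B' (pk.symm (pk (α.baseChange B' c))) = algebraMap B B' (s : B) • c
          rw [LinearEquiv.symm_apply_apply, algebraMap_smul]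
          induction c using TensorProduct.induction_on with
          | zero => simp
          | add u v hu hv => simp only [map_add, smul_add, hu, hv]
          | tmul t x => rw [LinearMap.baseChange_tmul, LinearMap.baseChange_tmul, hαβ, TensorProduct.tmul_smul])
      haveI := hfree
      haveI : Module.Finite (Localization.AtPrime q'.asIdeal) (LocalizedModule q'.asIdeal.primeCompl (B' ⊗[B] F)) :=
        Module.Finite.of_isLocalizedModule q'.asIdeal.primeCompl (LocalizedModule.mkLinearMap q'.asIdeal.primeCompl (B' ⊗[B] F))
      infer_instance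

end Groth.Agent.S18718
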