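import Groth.Statements.S18719
import Groth.Agent.Lib.SkExt.Equidim
import Groth.Agent.Lib.SkExt.EquidimS2
import Groth.Agent.Lib.SkExt.DualModule
-- import your own Groth.Agent.* helpers here

set_option autoImplicit false
universe u
open CategoryTheory
attribute [local instance] HasDerivedCategory.standard
open QGor

open CategoryTheory.Limits CategoryTheory.Pretriangulated

namespace Groth.Agent.S18719

/-- Affine-local form. Let A be a Noetherian local ring of Krull dimension n with a normalized dualizing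
complex ω, and K = H^{-n}(ω) the dualizing module (for A satisfying S₂, ω[−n] is the ordinary
dualizing complex and K its dualizing sheaf). If A satisfies (S₂), then r ↦ r · id_K is a bijection
A → Hom_A(K, K). If A satisfies (S₃), then Ext¹_A(K, K) = 0 (no nonzero morphisms K → K[1] in D(A)). -/
theorem result (A : Type u) [CommRing A] [IsNoetherianRing A]
    [IsLocalRing A] (ω : Dual.D A) (hω : Dual.IsDualizing A ω) (hn : Dual.IsNormalized A ω)
    (n : ℕ) (hd : ringKrullDim A = n) :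
    (LocCoh.HasSk 2 A A →
      Function.Bijective (fun r : A => r • (LinearMap.id : Dual.HD A ω (-(n : ℤ)) →ₗ[A] Dual.HD A ω (-(n : ℤ))))) ∧
    (LocCoh.HasSk 3 A A →
      Subsingleton (Dual.inD A (Dual.HD A ω (-(n : ℤ))) ⟶ (Dual.inD A (Dual.HD A ω (-(n : ℤ))))⟦(1 : ℤ)⟧)) := by
  open GrothLib.DualRing GrothLib.SkExt in
  haveI := hω.finite_cohomology
  have e : ∀ i : ℤ, EH ω (Dual.inD A A) i ≃ₗ[A] Dual.HD A ω i := fun i => (exists_hom_ring_equiv ω i).some
  have hdA : Module.supportDim A A = n := by rw [Module.supportDim_self_eq_ringKrullDim, hd]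
  have hv : ∀ i : ℤ, i < -(n : ℤ) → Subsingleton (Dual.HD A ω i) := fun i hi => by
    haveI := subsingleton_EH_lt hω hn A n hdA hi
    exact (e i).symm.toEquiv.subsingleton
  have hhi : ∀ i : ℤ, 0 < i → Subsingleton (Dual.HD A ω i) := fun i hi => by
    haveI := subsingleton_EH_pos hω hn A (i := i) hi
    exact (e i).symm.toEquiv.subsingleton
  obtain ⟨T, hT, hT₂, ⟨e₁⟩, hle, hge, hH⟩ := exists_bottom_triangle_hd ω (-(n : ℤ)) hv
  subst hT₂
  set K₀ := Dual.HD A T.obj₂ (-(n : ℤ))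
  let t : Triangulated.TStructure (Dual.D A) := DerivedCategory.TStructure.t
  haveI hle' : t.IsLE T.obj₁ (-(n : ℤ)) := hle
  haveI hge' : t.IsGE T.obj₃ (-(n : ℤ) + 1) := hge
  -- vanishing of maps out of the truncation
  have hvan : ∀ k : ℕ, 2 ≤ k → LocCoh.HasSk k A A → ∀ s : ℤ, s < k → Subsingleton (EH T.obj₂ T.obj₃ s) := by
    intro k hk hsk s hs
    have hsk2 : LocCoh.HasSk 2 A A := fun p _ =>
      le_trans (min_le_min_right _ (by exact_mod_cast hk)) (hsk p)
    have hdeg := (hasSk_iff_deg hω A (n : ℤ) (fun r _ hr => by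
      rw [Module.annihilator_eq_bot.2 inferInstance] at hr
      exact deg_minimal_of_hasSk_two hω hn hsk2 n hd r hr) k).1 hsk
    refine subsingleton_EH_of_cohomology (-(n : ℤ) + 1) n T.obj₃ 0 (by omega) (fun j hj => ?_) s fun j hj hj0 => ?_
    · rcases hj with hj | hj
      · exact (GrothLib.DR.subsingleton_iff_isZero _).2 ((DerivedCategory.isGE_iff _ _).1 hge j hj)
      · haveI := hhi j hj
        exact (hH j (by omega)).some.toEquiv.subsingleton
    · let e' : Dual.inD A (Dual.HD A T.obj₃ j) ≅ Dual.inD A (Dual.HD A T.obj₂ j) :=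
        (DerivedCategory.singleFunctor (ModuleCat.{u} A) 0).mapIso (hH j (by omega)).some.toModuleIso
      haveI : Subsingleton (EH T.obj₂ (Dual.inD A (Dual.HD A T.obj₂ j)) (s + j)) := by
        refine subsingleton_of_len_maximal (A := A) (Classical.byContradiction fun h0 => ?_)
        obtain ⟨r, hr, -, hann, h1, -⟩ := exists_quotient_bounds hω (Dual.HD A T.obj₂ j) h0
        have hmem : (⟨r, hr⟩ : PrimeSpectrum A) ∈ Module.support A (EH T.obj₂ (Dual.inD A A) j) := by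
          rw [(e j).support_eq]
          exact Module.mem_support_iff_of_finite.2 fun a ha => hann a (Module.mem_annihilator.1 ha)
        have := hdeg j (by omega) _ hmem
        simp only at this
        omega
      exact (congrLeft e' _).toEquiv.subsingleton
  have hT' := inv_rot_of_distTriang _ hT
  have hR1 : ∀ s : ℤ, Subsingleton (EH T.obj₂ T.obj₃ (s + 1)) →
      Subsingleton (EH T.obj₂ (T.obj₃⟦(-1 : ℤ)⟧) s) := fun s h => by
    haveI := h
    exact (shiftLeft T.obj₂ T.obj₃ (-1) s (s + 1) (by omega)).toEquiv.subsingleton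
  -- maps into the truncation
  haveI hge1 : t.IsGE (T.obj₃⟦(-1 : ℤ)⟧) (-(n : ℤ) + 2) := t.isGE_shift T.obj₃ (-(n : ℤ) + 1) (-1) _ (by omega)
  have hpostinj : ∀ φ : T.obj₁ ⟶ T.obj₁, φ ≫ T.mor₁ = 0 → φ = 0 := fun φ hφ => by
    obtain ⟨g, hg⟩ := Triangle.coyoneda_exact₂ _ hT' φ hφ
    rw [hg, show g = 0 from t.zero_of_isLE_of_isGE g (-(n : ℤ)) (-(n : ℤ) + 2) (by omega) hle' hge1]
    exact zero_comp
  have hpostsurj : ∀ ψ : T.obj₁ ⟶ T.obj₂, ∃ φ : T.obj₁ ⟶ T.obj₁, ψ = φ ≫ T.mor₁ := fun ψ => by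
    exact Triangle.coyoneda_exact₂ _ hT ψ (t.zero_of_isLE_of_isGE _ (-(n : ℤ)) (-(n : ℤ) + 1) (by omega) hle' hge')
  let L₀ : Dual.inD A K₀ ⟶ Dual.inD A K₀ := 𝟙 _
  refine ⟨fun h2 => ?_, fun h3 => ?_⟩
  · have h0 := hvan 2 le_rfl h2 0 (by norm_num)
    have h1 := hvan 2 le_rfl h2 1 (by norm_num)
    let z := (shiftFunctorZero (Dual.D A) ℤ).app T.obj₂
    have hpreinj : ∀ f : T.obj₂ ⟶ T.obj₂, T.mor₁ ≫ f = 0 → f = 0 := fun f hf => by
      obtain ⟨g, hg⟩ := Triangle.yoneda_exact₂ _ hT f hf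
      have hg0 : g ≫ z.inv = 0 := h0.elim _ _
      rw [hg, show g = 0 from (cancel_mono z.inv).1 (hg0.trans zero_comp.symm)]
      exact comp_zero
    have hpresurj : ∀ ψ : T.obj₁ ⟶ T.obj₂, ∃ f, ψ = T.mor₁ ≫ f := fun ψ => by
      refine Triangle.yoneda_exact₂ _ hT' ψ ((cancel_mono z.inv).1 ?_)
      haveI := hR1 0 (by simpa using h1)
      exact Subsingleton.elim (α := EH T.obj₂ (T.obj₃⟦(-1 : ℤ)⟧) 0) _ _
    -- the endomorphisms of the truncation
    have hEnd : Function.Bijective (fun a : A => a • 𝟙 T.obj₁) := by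
      constructor
      · intro a b hab
        refine hω.toEnd_bijective.1 (sub_eq_zero.1 (hpreinj _ ?_))
        have h' := congrArg (· ≫ T.mor₁) hab
        simp only [Linear.smul_comp, Category.id_comp] at h'
        simp [h']
      · intro φ
        obtain ⟨f, hf⟩ := hpresurj (φ ≫ T.mor₁)
        obtain ⟨a, ha⟩ := hω.toEnd_bijective.2 f
        refine ⟨a, sub_eq_zero.1 (hpostinj _ ?_)⟩
        show (a • 𝟙 T.obj₁ - φ) ≫ T.mor₁ = 0
        rw [Preadditive.sub_comp, hf, ← ha]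
        simp
    -- transfer to the module
    let G : Dual.D A ⥤ Dual.D A := shiftFunctor (Dual.D A) (-(-(n : ℤ)))
    let S := DerivedCategory.singleFunctor (ModuleCat.{u} A) 0
    let F : (K₀ →ₗ[A] K₀) → (T.obj₁ ⟶ T.obj₁) := fun f => e₁.hom ≫ G.map (S.map (ModuleCat.ofHom f)) ≫ e₁.inv
    have hF : Function.Bijective F := by
      refine ⟨fun f g hfg => ?_, fun φ => ?_⟩
      · have h' : G.map (S.map (ModuleCat.ofHom f)) = G.map (S.map (ModuleCat.ofHom g)) :=
          (cancel_epi e₁.hom).1 ((cancel_mono e₁.inv).1 (by simpa only [Category.assoc, F] using hfg))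
        exact congrArg ModuleCat.Hom.hom (S.map_injective (G.map_injective h'))
      · obtain ⟨χ, hχ⟩ := G.map_surjective (e₁.inv ≫ φ ≫ e₁.hom)
        obtain ⟨f, hf⟩ := S.map_surjective χ
        refine ⟨f.hom, ?_⟩
        show e₁.hom ≫ G.map (S.map f) ≫ e₁.inv = φ
        rw [hf, hχ]
        simp
    have hFa : ∀ a : A, F (a • LinearMap.id) = a • 𝟙 T.obj₁ := fun a => by
      show e₁.hom ≫ G.map (S.map (a • 𝟙 (ModuleCat.of A K₀))) ≫ e₁.inv = _
      rw [Functor.map_smul, S.map_id, Functor.map_smul, G.map_id, Linear.smul_comp, Linear.comp_smul,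
        Category.id_comp, Iso.hom_inv_id]
    have hcomp : (fun a : A => a • 𝟙 T.obj₁) = F ∘ fun a : A => a • (LinearMap.id : K₀ →ₗ[A] K₀) :=
      funext fun a => (hFa a).symm
    rw [hcomp] at hEnd
    exact ⟨fun a b hab => hEnd.1 (congrArg F hab), fun f => by
      obtain ⟨a, ha⟩ := hEnd.2 (F f)
      exact ⟨a, hF.1 ha⟩⟩
  · haveI : Subsingleton (EH T.obj₂ (T.obj₃⟦(-1 : ℤ)⟧) 1) := hR1 1 (hvan 3 (by norm_num) h3 2 (by norm_num))
    haveI : Subsingleton (T.obj₂ ⟶ T.obj₂⟦(1 : ℤ)⟧) := hω.ext_self_subsingleton 1 one_ne_zero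
    have hpre : ∀ ψ : T.obj₁ ⟶ T.obj₂⟦(1 : ℤ)⟧, ψ = 0 := fun ψ => by
      obtain ⟨f, hf⟩ := Triangle.yoneda_exact₂ _ hT' ψ
        (Subsingleton.elim (α := EH T.obj₂ (T.obj₃⟦(-1 : ℤ)⟧) 1) _ _)
      rw [hf, show f = 0 from Subsingleton.elim (α := T.obj₂ ⟶ T.obj₂⟦(1 : ℤ)⟧) f 0]
      exact comp_zero
    have hpost : ∀ φ : T.obj₁ ⟶ T.obj₁⟦(1 : ℤ)⟧, φ = 0 := fun φ => by
      obtain ⟨g, hg⟩ := Triangle.coyoneda_exact₂ _ (Triangle.shift_distinguished _ hT' 1) φ (hpre _)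
      haveI hge2 : t.IsGE ((T.obj₃⟦(-1 : ℤ)⟧)⟦(1 : ℤ)⟧) (-(n : ℤ) + 1) :=
        t.isGE_shift _ (-(n : ℤ) + 2) 1 _ (by omega)
      rw [hg, show g = 0 from t.zero_of_isLE_of_isGE g (-(n : ℤ)) (-(n : ℤ) + 1) (by omega) hle' hge2]
      exact zero_comp
    refine subsingleton_of_forall_eq 0 fun φ => ?_
    let G : Dual.D A ⥤ Dual.D A := shiftFunctor (Dual.D A) (-(-(n : ℤ)))
    have h' := hpost (e₁.hom ≫ G.map φ ≫ (shiftComm (Dual.inD A K₀) 1 (-(-(n : ℤ)))).hom ≫ e₁.inv⟦(1 : ℤ)⟧')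
    refine G.map_injective ?_
    rw [G.map_zero]
    rw [← cancel_epi e₁.hom, ← cancel_mono ((shiftComm (Dual.inD A K₀) 1 (-(-(n : ℤ)))).hom ≫ e₁.inv⟦(1 : ℤ)⟧')]
    simpa using h'

end Groth.Agent.S18719
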