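import Groth.Statements.S18720
import Groth.Agent.Lib.SkExt.Localized
import Groth.Agent.Lib.DualRing.Shift
import Groth.Agent.Lib.Depth.Local
import Groth.Agent.S0369
-- import your own Groth.Agent.* helpers here

set_option autoImplicit false
universe u
open CategoryTheory
attribute [local instance] HasDerivedCategory.standard
open QGor

namespace Groth.Agent.S18720

/-- Affine-local form. Let A be a Noetherian local ring of Krull dimension n with a dualizing complex ω,
L = H⁰(ω), and J an ideal with ht J ≥ 1 such that ω restricted off V(J) is L placed in degree 0,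
i.e. H^i(ω)_p = 0 for every i ≠ 0 and every prime p not containing J. Then ω is ordinary (its
codimension function is p ↦ ht p), which for the local ring means: A is equidimensional and ω[n] is
normalized; and L satisfies (S₂). If moreover ht J ≥ 2, then depth_J L ≥ 2 (L is the module of
sections of its restriction off V(J)). -/
theorem result (A : Type u) [CommRing A] [IsNoetherianRing A]
    [IsLocalRing A] (ω : Dual.D A) (hω : Dual.IsDualizing A ω) (n : ℕ) (hd : ringKrullDim A = n)
    (J : Ideal A) (hJ : 1 ≤ J.height)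
    (hoff : ∀ p : PrimeSpectrum A, ¬ J ≤ p.asIdeal → ∀ i : ℤ, i ≠ 0 → p ∉ Module.support A (Dual.HD A ω i)) :
    (EGA4.IsEquidim A ∧ Dual.IsNormalized A (ω⟦(n : ℤ)⟧) ∧ LocCoh.HasSk 2 A (Dual.HD A ω 0)) ∧
    (2 ≤ J.height → 2 ≤ LocCoh.idealDepth J (Dual.HD A ω 0)) := by
  open GrothLib.DualRing GrothLib.SkExt in
  haveI := hω.finite_cohomology 0
  have e : ∀ i : ℤ, EH ω (Dual.inD A A) i ≃ₗ[A] Dual.HD A ω i := fun i => (exists_hom_ring_equiv ω i).some
  set m := deg hω (IsLocalRing.maximalIdeal A) with hm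
  have hdeg : ∀ (r : Ideal A) [r.IsPrime], r ∈ minimalPrimes A → deg hω r = 0 := by
    intro r _ hr
    by_contra hne
    have hJr : ¬ J ≤ r := fun hle => by
      have h := hJ.trans (Ideal.height_mono hle)
      rw [Ideal.height_eq_zero_iff.2 hr] at h
      simp at h
    refine hoff ⟨r, inferInstance⟩ hJr _ hne ?_
    rw [← (e _).support_eq]
    refine mem_support_EH_of_minimal hω A (r := ⟨r, inferInstance⟩) ?_ fun s _ hle =>
      PrimeSpectrum.ext (le_antisymm hle (hr.2 ⟨s.2, bot_le⟩ hle))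
    exact Module.mem_support_iff_of_finite.2 (by rw [Module.annihilator_eq_bot.2 inferInstance]; exact bot_le)
  have hq : ∀ (r : Ideal A) [r.IsPrime], r ∈ minimalPrimes A → ringKrullDim (A ⧸ r) = ((m.toNat : ℕ) : WithBot ℕ∞) := by
    intro r _ hr
    rw [ringKrullDim_quotient_prime hω ⟨r, inferInstance⟩]
    show (((m - deg hω r).toNat : ℕ) : WithBot ℕ∞) = _
    rw [hdeg r hr, sub_zero]
  obtain ⟨r₀, hr₀, -⟩ := Ideal.exists_minimalPrimes_le (show (⊥ : Ideal A) ≤ IsLocalRing.maximalIdeal A from bot_le)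
  haveI := hr₀.1.1
  have hnonneg : ∀ p : PrimeSpectrum A, 0 ≤ deg hω p.asIdeal := fun p => by
    obtain ⟨r, hr, hrp⟩ := Ideal.exists_minimalPrimes_le (show (⊥ : Ideal A) ≤ p.asIdeal from bot_le)
    haveI := hr.1.1
    have h := (degS_strictMono hω).monotone (show (⟨r, inferInstance⟩ : PrimeSpectrum A) ≤ p from hrp)
    change deg hω r ≤ deg hω p.asIdeal at h
    rwa [hdeg r hr] at h
  have hmn : m = n := by
    have h1 : ((m.toNat : ℕ) : WithBot ℕ∞) ≤ n := by
      rw [← hq r₀ hr₀, ← hd]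
      exact ringKrullDim_quotient_le r₀
    have h2 : ringKrullDim A ≤ ((m.toNat : ℕ) : WithBot ℕ∞) := by
      refine iSup_le fun l => ?_
      have h3 : (l.length : ℕ∞) ≤ Order.coheight l.head := Order.length_le_coheight le_rfl
      rw [coheight_eq hω] at h3
      have h4 : l.length ≤ (m - deg hω l.head.asIdeal).toNat := Nat.cast_le.1 h3
      have := hnonneg l.head
      exact le_trans (WithBot.coe_le_coe.2 (Nat.cast_le.2 (show l.length ≤ m.toNat by omega))) le_rfl
    rw [hd] at h2
    have h1' : m.toNat ≤ n := by exact_mod_cast h1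
    have h2' : n ≤ m.toNat := by exact_mod_cast h2
    have := hnonneg (IsLocalRing.closedPoint A)
    change 0 ≤ m at this
    omega
  have hequi : EGA4.IsEquidim A := fun r hr => by
    haveI := hr.1.1
    rw [hq r hr, hd, hmn, Int.toNat_natCast]
  have hnorm : Dual.IsNormalized A (ω⟦(n : ℤ)⟧) := hmn ▸ isNormalized_shift hω
  obtain ⟨hsupp, hS2⟩ := Groth.Agent.S0369.result A (ω⟦(n : ℤ)⟧) (isDualizing_shift hω n) hnorm n hd
  obtain ⟨eL⟩ := nonempty_HD_shift ω (n : ℤ) (-(n : ℤ)) 0 (by omega)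
  haveI := (isDualizing_shift hω (n : ℤ)).finite_cohomology (-(n : ℤ))
  have hS2' : LocCoh.HasSk 2 A (Dual.HD A ω 0) := hasSk_congr eL hS2
  refine ⟨⟨hequi, hnorm, hS2'⟩, fun hJ2 => ?_⟩
  have huniv : Module.support A (Dual.HD A ω 0) = Set.univ := by
    rw [← eL.support_eq, hsupp]
    refine Set.eq_univ_iff_forall.2 fun p => ?_
    obtain ⟨r, hr, hrp⟩ := Ideal.exists_minimalPrimes_le (show (⊥ : Ideal A) ≤ p.asIdeal from bot_le)
    exact ⟨r, hr, hrp, (hequi r hr).trans hd⟩
  by_contra hlt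
  obtain ⟨l, hl⟩ := ENat.ne_top_iff_exists.1 (ne_top_of_lt (not_le.1 hlt))
  obtain ⟨p, hJp, hdep⟩ := GrothLib.Depth.exists_depth_localization_le J l hl.symm
  have h := hS2' p.asIdeal
  rw [supportDim_localized_eq_height huniv] at h
  have hh : (2 : ℕ∞) ≤ p.asIdeal.height := hJ2.trans (Ideal.height_mono hJp)
  have h2 : ((2 : ℕ∞) : WithBot ℕ∞) ≤ ((LocCoh.depth (Localization.AtPrime p.asIdeal)
      (LocalizedModule p.asIdeal.primeCompl (Dual.HD A ω 0)) : ℕ∞) : WithBot ℕ∞) := by
    rcases min_le_iff.1 h with h' | h'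
    · exact le_trans (le_of_eq rfl) h'
    · exact (WithBot.coe_le_coe.2 hh).trans h'
  have h' : (2 : ℕ∞) ≤ l := (WithBot.coe_le_coe.1 h2).trans hdep
  exact hlt (hl ▸ h')

end Groth.Agent.S18720
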