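import Groth.Statements.S18721
import Groth.Agent.Lib.SkExt.Equidim
-- import your own Groth.Agent.* helpers here

set_option autoImplicit false
universe u
open CategoryTheory
attribute [local instance] HasDerivedCategory.standard
open QGor

namespace Groth.Agent.S18721

/-- Affine form. Let k be a field and A a finitely generated k-algebra, equidimensional of Krull
dimension n, and let ω be a dualizing complex of A normalized at every maximal ideal m (no nonzero
morphisms A/m → ω[i] in D(A) for i ≠ 0 — the canonical dualizing complex of Spec A over k). Put Z_i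
= Supp H^{-i}(ω). Then H^{-i}(ω) = 0 for every i > n, and for every k′ ≥ 1: A satisfies (S_{k′}) if
and only if dim Z_i ≤ i − k′ for all i ≠ n, where for i < k′ this means H^{-i}(ω) = 0. -/
theorem result (k A : Type u) [Field k] [CommRing A]
    [Algebra k A] (hft : Algebra.FiniteType k A) [IsNoetherianRing A]
    (hEq : EGA4.IsEquidim A) (n : ℕ) (hd : ringKrullDim A = n)
    (ω : Dual.D A) (hω : Dual.IsDualizing A ω)
    (hnorm : ∀ (m : Ideal A) (_ : m.IsMaximal) (i : ℤ), i ≠ 0 → Subsingleton (Dual.inD A (A ⧸ m) ⟶ ω⟦i⟧)) :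
    (∀ i : ℕ, n < i → Subsingleton (Dual.HD A ω (-(i : ℤ)))) ∧
    ∀ k' : ℕ, 1 ≤ k' →
      (LocCoh.HasSk k' A A ↔
        ∀ i : ℕ, i ≠ n →
          (i < k' → Subsingleton (Dual.HD A ω (-(i : ℤ)))) ∧
          (k' ≤ i → Module.supportDim A (Dual.HD A ω (-(i : ℤ))) ≤ ((i - k' : ℕ) : WithBot ℕ∞))) := by
  open GrothLib.DualRing GrothLib.SkExt in
  have hmax : ∀ (m : Ideal A) [m.IsMaximal], deg hω m = 0 := fun m _ => by
    by_contra hne
    haveI := hnorm m inferInstance _ hne
    exact one_ne_zero ((mu_deg hω m).symm.trans len_eq_zero_of_subsingleton)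
  have hann : Module.annihilator A A = ⊥ := Module.annihilator_eq_bot.2 inferInstance
  have hdeg : ∀ (r : Ideal A) [r.IsPrime], r ∈ (Module.annihilator A A).minimalPrimes →
      deg hω r = -((n : ℕ) : ℤ) := by
    intro r _ hr
    rw [hann] at hr
    have h := (hEq r hr).trans hd
    rw [ringKrullDim_quotient_of_max hω hmax r] at h
    have h' : (-deg hω r).toNat = n := by exact_mod_cast h
    have : deg hω r ≤ 0 := deg_nonpos_of_max hω hmax ⟨r, inferInstance⟩
    omega
  have e : ∀ i : ℤ, EH ω (Dual.inD A A) i ≃ₗ[A] Dual.HD A ω i := fun i => (exists_hom_ring_equiv ω i).some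
  have hsupp : ∀ i : ℤ, Module.support A (EH ω (Dual.inD A A) i) = Module.support A (Dual.HD A ω i) :=
    fun i => (e i).support_eq
  refine ⟨fun i hi => ?_, fun k' _ => ?_⟩
  · refine (Module.support_eq_empty_iff (R := A)).1 (Set.eq_empty_iff_forall_notMem.2 fun p hp => ?_)
    rw [← hsupp] at hp
    obtain ⟨r, hr, hrp, -, h1, -⟩ := exists_quotient_bounds hω A
      ((nontrivial_localized_iff p.asIdeal _).1 (Module.mem_support_iff.1 hp))
    obtain ⟨r', hr', hle⟩ := Ideal.exists_minimalPrimes_le (J := r) (I := (⊥ : Ideal A)) bot_le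
    haveI := hr'.1.1
    have h2 := hdeg r' (hann.symm ▸ hr')
    have h3 := (degS_strictMono hω).monotone (show (⟨r', inferInstance⟩ : PrimeSpectrum A) ≤ ⟨r, hr⟩ from hle)
    change deg hω r' ≤ deg hω r at h3
    omega
  rw [hasSk_iff_deg hω A (n : ℤ) hdeg k']
  constructor
  · intro h i hi
    have key : ∀ p ∈ Module.support A (Dual.HD A ω (-(i : ℤ))),
        -deg hω p.asIdeal ≤ (i : ℤ) - k' ∧ deg hω p.asIdeal ≤ 0 := fun p hp => by
      have h1 := h (-(i : ℤ)) (by omega) p ((hsupp _).symm ▸ hp)
      exact ⟨by omega, deg_nonpos_of_max hω hmax p⟩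
    refine ⟨fun hlt => ?_, fun hle => ?_⟩
    · refine (Module.support_eq_empty_iff (R := A)).1 (Set.eq_empty_iff_forall_notMem.2 fun p hp => ?_)
      have := key p hp
      omega
    · refine supportDim_le_of_max hω hmax _ _ fun p hp => ?_
      have := key p hp
      omega
  · intro h j hj p hp
    have hle0 : j ≤ 0 := by
      obtain ⟨r, hr, hrp, -, -, h2⟩ := exists_quotient_bounds hω A
        ((nontrivial_localized_iff p.asIdeal _).1 (Module.mem_support_iff.1 hp))
      have : deg hω p.asIdeal ≤ 0 := deg_nonpos_of_max hω hmax p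
      omega
    obtain ⟨i, rfl⟩ : ∃ i : ℕ, j = -(i : ℤ) := ⟨(-j).toNat, by omega⟩
    rw [hsupp] at hp
    obtain ⟨h1, h2⟩ := h i (by omega)
    by_cases hlt : i < k'
    · haveI := h1 hlt
      simp [Module.support_eq_empty] at hp
    · have h3 : (-deg hω p.asIdeal).toNat ≤ i - k' := by
        exact_mod_cast (le_supportDim_of_max hω hmax _ hp).trans (h2 (by omega))
      omega

end Groth.Agent.S18721
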