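import Groth.Statements.S18723
import Groth.Agent.Lib.SkExt.Localized
import Groth.Agent.Lib.Depth.Local
import Groth.Agent.Lib.DepthKer.Reflexive
import Groth.Agent.S18720
-- import your own Groth.Agent.* helpers here

set_option autoImplicit false
universe u
open CategoryTheory
attribute [local instance] HasDerivedCategory.standard
open QGor

namespace Groth.Agent.S18723

theorem finite_dual (A : Type u) [CommRing A] [IsNoetherianRing A] (G : Type u) [AddCommGroup G] [Module A G]
    [Module.Finite A G] : Module.Finite A (Module.Dual A G) := by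
  obtain ⟨a, π, hπ⟩ := Module.Finite.exists_fin' A G
  exact Module.Finite.of_injective π.dualMap (LinearMap.dualMap_injective_of_surjective hπ)

/-- The dual of a finite module has depth at least two where the ring has. -/
theorem dual_depth (A : Type u) [CommRing A] [IsNoetherianRing A] (h2 : LocCoh.HasSk 2 A A) (J : Ideal A)
    (hA2 : 2 ≤ LocCoh.idealDepth J A) (G : Type u) [AddCommGroup G] [Module A G] [Module.Finite A G] :
    LocCoh.HasSk 2 A (Module.Dual A G) ∧ 2 ≤ LocCoh.idealDepth J (Module.Dual A G) := by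
  haveI := finite_dual A G
  obtain ⟨a, π, hπ⟩ := Module.Finite.exists_fin' A G
  obtain ⟨b, ρ, hρ⟩ := Module.Finite.exists_fin' A (LinearMap.ker π)
  let eA : ∀ c : ℕ, Module.Dual A (Fin c → A) ≃ₗ[A] (Fin c → A) := fun c => ((Pi.basisFun A (Fin c)).toDualEquiv).symm
  let i : Module.Dual A G →ₗ[A] (Fin a → A) := (eA a).toLinearMap ∘ₗ π.dualMap
  let u : (Fin a → A) →ₗ[A] (Fin b → A) :=
    (eA b).toLinearMap ∘ₗ ((LinearMap.ker π).subtype ∘ₗ ρ).dualMap ∘ₗ (eA a).symm.toLinearMap
  have hi : Function.Injective i := (eA a).injective.comp (LinearMap.dualMap_injective_of_surjective hπ)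
  have hex : Function.Exact i u := fun x => by
    constructor
    · intro hx
      have h' : ((LinearMap.ker π).subtype ∘ₗ ρ).dualMap ((eA a).symm x) = 0 :=
        (eA b).injective (hx.trans (map_zero (eA b)).symm)
      have hker : LinearMap.ker π ≤ LinearMap.ker ((eA a).symm x) := fun y hy => by
        obtain ⟨z, hz⟩ := hρ ⟨y, hy⟩
        have := LinearMap.congr_fun h' z
        rw [LinearMap.dualMap_apply, LinearMap.comp_apply, hz] at this
        exact this
      refine ⟨(Submodule.liftQ _ ((eA a).symm x) hker) ∘ₗ (π.quotKerEquivOfSurjective hπ).symm.toLinearMap, ?_⟩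
      show eA a (π.dualMap _) = x
      rw [← (eA a).eq_symm_apply]
      refine LinearMap.ext fun y => ?_
      show Submodule.liftQ _ ((eA a).symm x) hker ((π.quotKerEquivOfSurjective hπ).symm (π y)) = _
      rw [LinearMap.quotKerEquivOfSurjective_symm_apply]
      rfl
    · rintro ⟨φ, rfl⟩
      show eA b (((LinearMap.ker π).subtype ∘ₗ ρ).dualMap ((eA a).symm (eA a (π.dualMap φ)))) = 0
      rw [(eA a).symm_apply_apply, map_eq_zero_iff (eA b) (eA b).injective]
      refine LinearMap.ext fun z => ?_
      simp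
  refine ⟨fun p _ => ?_, GrothLib.DepthKer.two_le_of_exact J i u hi hex
    (by simpa using GrothLib.DepthKer.le_idealDepth_pi J 2 (by simpa using hA2) a)
    (le_trans (show (1 : ℕ∞) ≤ 2 by norm_num)
      (by simpa using GrothLib.DepthKer.le_idealDepth_pi J 2 (by simpa using hA2) b))⟩
  haveI : IsNoetherianRing (Localization.AtPrime p) := IsLocalization.isNoetherianRing p.primeCompl _ inferInstance
  haveI := fun (M : Type u) [AddCommGroup M] [Module A M] [Module.Finite A M] =>
    Module.Finite.of_isLocalizedModule (Rₚ := Localization.AtPrime p) p.primeCompl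
      (LocalizedModule.mkLinearMap p.primeCompl M)
  have h := h2 p
  rw [GrothLib.SkExt.supportDim_localized_eq_height (Set.eq_univ_iff_forall.2 fun q =>
    Module.mem_support_iff_of_finite.2 (by rw [Module.annihilator_eq_bot.2 inferInstance]; exact bot_le))] at h
  have hd : Module.supportDim (Localization.AtPrime p) (LocalizedModule p.primeCompl (Module.Dual A G)) ≤
      (p.height : WithBot ℕ∞) :=
    (Module.supportDim_le_ringKrullDim _ _).trans_eq (IsLocalization.AtPrime.ringKrullDim_eq_height p _)
  refine le_trans (le_trans (min_le_min le_rfl hd) (le_min (min_le_left _ _) h)) ?_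
  set t := LocCoh.depth (Localization.AtPrime p) (LocalizedModule p.primeCompl A) with ht
  have hpi : ∀ j : ℕ, (j : ℕ∞) ≤ t → ∀ c : ℕ, (j : ℕ∞) ≤ LocCoh.idealDepth
      (IsLocalRing.maximalIdeal (Localization.AtPrime p)) (LocalizedModule p.primeCompl (Fin c → A)) :=
    fun j hj c => GrothLib.DepthKer.depth_localizedModule_pi p j c hj
  rcases le_or_gt (2 : ℕ∞) t with h2t | h2t
  · refine (min_le_left _ _).trans (WithBot.coe_le_coe.2 (show (2 : ℕ∞) ≤ LocCoh.depth _ _ from ?_))
    exact GrothLib.DepthKer.two_le_of_exact _ (LocalizedModule.map p.primeCompl i) (LocalizedModule.map p.primeCompl u)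
      (LocalizedModule.map_injective _ i hi) (LocalizedModule.map_exact _ i u hex) (by simpa using hpi 2 h2t a)
      (le_trans (show (1 : ℕ∞) ≤ 2 by norm_num) (by simpa using hpi 2 h2t b))
  rcases le_or_gt (1 : ℕ∞) t with h1t | h1t
  · refine (min_le_right _ _).trans (WithBot.coe_le_coe.2 ?_)
    refine le_trans (show t ≤ 1 from ENat.lt_add_one_iff (ENat.one_ne_top) |>.1 (by simpa [one_add_one_eq_two] using h2t)) ?_
    exact GrothLib.DepthKer.one_le_of_injective _ (LocalizedModule.map p.primeCompl i)
      (LocalizedModule.map_injective _ i hi) (by simpa using hpi 1 h1t a)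
  · refine (min_le_right _ _).trans (WithBot.coe_le_coe.2 ?_)
    rw [ENat.lt_one_iff_eq_zero.1 h1t]
    exact zero_le

/-- Affine-local form, with (2) for tensor powers m ≥ 0. Let A be a Noetherian local ring of Krull
dimension n with a dualizing complex ω, L = H⁰(ω), and J an ideal with ht J ≥ 2 (the closed set V(J)
has codimension ≥ 2) such that off V(J) the complex ω is the invertible module L in degree 0: for
every prime p not containing J, H^i(ω)_p = 0 for i ≠ 0 and L_p is free of rank 1. (1) If A satisfies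
(S₁), then ω is ordinary (A is equidimensional and ω[n] is normalized) and L is reflexive and
satisfies (S₂). (2) If A satisfies (S₂), then for every m ≥ 0 the double dual L^[m] of the m-th
tensor power of L satisfies (S₂) and depth_J L^[m] ≥ 2 (it is the module of sections of L^⊗m off
V(J)). -/
theorem result (A : Type u) [CommRing A] [IsNoetherianRing A]
    [IsLocalRing A] (ω : Dual.D A) (hω : Dual.IsDualizing A ω) (n : ℕ) (hd : ringKrullDim A = n)
    (J : Ideal A) (hJ : 2 ≤ J.height)
    (hoff : ∀ p : PrimeSpectrum A, ¬ J ≤ p.asIdeal →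
      (∀ i : ℤ, i ≠ 0 → p ∉ Module.support A (Dual.HD A ω i)) ∧
      Module.Free (Localization.AtPrime p.asIdeal) (LocalizedModule p.asIdeal.primeCompl (Dual.HD A ω 0)) ∧
      Module.finrank (Localization.AtPrime p.asIdeal) (LocalizedModule p.asIdeal.primeCompl (Dual.HD A ω 0)) = 1) :
    (LocCoh.HasSk 1 A A →
      (EGA4.IsEquidim A ∧ Dual.IsNormalized A (ω⟦(n : ℤ)⟧)) ∧
      Module.IsReflexive A (Dual.HD A ω 0) ∧ LocCoh.HasSk 2 A (Dual.HD A ω 0)) ∧
    (LocCoh.HasSk 2 A A → ∀ m : ℕ,
      LocCoh.HasSk 2 A (Module.Dual A (Module.Dual A (TensorPower A m (Dual.HD A ω 0)))) ∧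
      2 ≤ LocCoh.idealDepth J (Module.Dual A (Module.Dual A (TensorPower A m (Dual.HD A ω 0))))) := by
  open GrothLib.SkExt in
  haveI := hω.finite_cohomology 0
  have hAuniv : Module.support A A = Set.univ := Set.eq_univ_iff_forall.2 fun p =>
    Module.mem_support_iff_of_finite.2 (by rw [Module.annihilator_eq_bot.2 inferInstance]; exact bot_le)
  -- depth along `J` from a Serre condition of `A`
  have hdepth : ∀ k : ℕ, k ≤ 2 → LocCoh.HasSk k A A → (k : ℕ∞) ≤ LocCoh.idealDepth J A := by
    intro k hk h
    by_contra hlt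
    obtain ⟨l, hl⟩ := ENat.ne_top_iff_exists.1 (ne_top_of_lt (not_le.1 hlt))
    obtain ⟨p, hJp, hdep⟩ := GrothLib.Depth.exists_depth_localization_le J l hl.symm
    have h' := h p.asIdeal
    rw [supportDim_localized_eq_height hAuniv] at h'
    have hh : (k : ℕ∞) ≤ p.asIdeal.height := le_trans (by exact_mod_cast hk) (hJ.trans (Ideal.height_mono hJp))
    have h2 : ((k : ℕ∞) : WithBot ℕ∞) ≤ ((LocCoh.depth (Localization.AtPrime p.asIdeal)
        (LocalizedModule p.asIdeal.primeCompl A) : ℕ∞) : WithBot ℕ∞) := by
      rcases min_le_iff.1 h' with h'' | h''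
      · exact h''
      · exact (WithBot.coe_le_coe.2 hh).trans h''
    exact hlt (hl ▸ (WithBot.coe_le_coe.1 h2).trans hdep)
  refine ⟨fun h1 => ?_, fun h2 m => ?_⟩
  · obtain ⟨⟨hequi, hnorm, hS2⟩, hd2⟩ := Groth.Agent.S18720.result A ω hω n hd J
      ((show (1 : ℕ∞) ≤ 2 by norm_num).trans hJ) (fun p hp => (hoff p hp).1)
    refine ⟨⟨hequi, hnorm⟩, ?_, hS2⟩
    refine GrothLib.DepthKer.isReflexive_of_idealDepth_two _ J ?_ (fun p hp => ?_) (hd2 hJ)
    · simpa using hdepth 1 (by norm_num) h1
    · haveI := (hoff p hp).2.1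
      haveI : Module.Finite (Localization.AtPrime p.asIdeal)
          (LocalizedModule p.asIdeal.primeCompl (Dual.HD A ω 0)) :=
        Module.Finite.of_isLocalizedModule p.asIdeal.primeCompl
          (LocalizedModule.mkLinearMap p.asIdeal.primeCompl (Dual.HD A ω 0))
      haveI : Module.Projective (Localization.AtPrime p.asIdeal)
          (LocalizedModule p.asIdeal.primeCompl (Dual.HD A ω 0)) := Module.Projective.of_free
      exact Module.IsReflexive.of_finite_of_free (R := Localization.AtPrime p.asIdeal) (M := LocalizedModule p.asIdeal.primeCompl (Dual.HD A ω 0))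
  · have hA2 : (2 : ℕ∞) ≤ LocCoh.idealDepth J A := by simpa using hdepth 2 le_rfl h2
    haveI : Module.Finite A (TensorPower A m (Dual.HD A ω 0)) := inferInstance
    haveI := finite_dual A (TensorPower A m (Dual.HD A ω 0))
    exact dual_depth A h2 J hA2 (Module.Dual A (TensorPower A m (Dual.HD A ω 0)))

end Groth.Agent.S18723
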