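import Groth.Statements.S18725
import Mathlib
import Groth.Agent.Lib.FlatOff.LocalKey
import Groth.Agent.Lib.FlatOff.LocalDepth
import Groth.Agent.Lib.FibreFlat.OpenNoetherian
-- import your own Groth.Agent.* helpers here

set_option autoImplicit false
universe u
open QGor

namespace Groth.Agent.S18725

/-- Affine form of the equivalence (c) ⇔ (d). Let A → B be a homomorphism of finite type between
Noetherian rings, J an ideal of B and 0 → F → E⁰ → E¹ → G → 0 an exact sequence of finite B-modules
such that E⁰, E¹ are flat over A, G_q is flat over A for every prime q not containing J, and for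
every prime q ⊇ J with contraction p the fibre stalk E⁰_q/pE⁰_q has depth ≥ 2 and E¹_q/pE¹_q has
depth ≥ 1. Then for a prime n of B the following are equivalent: G is flat over A at n; there is a
basic open neighbourhood D(s) of n such that at every prime q ∈ D(s) the module F is flat over A at
q and, if q ⊇ J, the fibre stalk F_q/pF_q has depth ≥ 2 (the restriction maps of the fibres of F off
V(J) are bijective on D(s)). -/
theorem result (A B : Type u) [CommRing A] [CommRing B]
    [IsNoetherianRing A] [IsNoetherianRing B] [Algebra A B] (hft : Algebra.FiniteType A B) (J : Ideal B)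
    (F E0 E1 G : Type u) [AddCommGroup F] [Module B F] [Module A F] [IsScalarTower A B F] [Module.Finite B F]
    [AddCommGroup E0] [Module B E0] [Module A E0] [IsScalarTower A B E0] [Module.Finite B E0] [Module.Flat A E0]
    [AddCommGroup E1] [Module B E1] [Module A E1] [IsScalarTower A B E1] [Module.Finite B E1] [Module.Flat A E1]
    [AddCommGroup G] [Module B G] [Module A G] [IsScalarTower A B G] [Module.Finite B G]
    (f : F →ₗ[B] E0) (u : E0 →ₗ[B] E1) (v : E1 →ₗ[B] G)
    (hf : Function.Injective f) (hfu : Function.Exact f u) (huv : Function.Exact u v) (hv : Function.Surjective v)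
    (hGU : ∀ q : PrimeSpectrum B, ¬ J ≤ q.asIdeal → FlatCA.FlatAt A q.asIdeal G)
    (h0 : ∀ q : PrimeSpectrum B, J ≤ q.asIdeal →
      2 ≤ LocCoh.idealDepth (q.asIdeal.map (algebraMap B (EGA4.FibLocRing A B q.asIdeal))) (EGA4.FibLocMod A B q.asIdeal E0))
    (h1 : ∀ q : PrimeSpectrum B, J ≤ q.asIdeal →
      1 ≤ LocCoh.idealDepth (q.asIdeal.map (algebraMap B (EGA4.FibLocRing A B q.asIdeal))) (EGA4.FibLocMod A B q.asIdeal E1))
    (n : PrimeSpectrum B) :
    FlatCA.FlatAt A n.asIdeal G ↔
      ∃ s : B, s ∉ n.asIdeal ∧ ∀ q : PrimeSpectrum B, s ∉ q.asIdeal →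
        FlatCA.FlatAt A q.asIdeal F ∧
        (J ≤ q.asIdeal →
          2 ≤ LocCoh.idealDepth (q.asIdeal.map (algebraMap B (EGA4.FibLocRing A B q.asIdeal))) (EGA4.FibLocMod A B q.asIdeal F)) := by
  classical
  haveI := hft
  have hE0 : ∀ q : PrimeSpectrum B, (2 : ℕ∞) ≤
      LocCoh.idealDepth (J.map (algebraMap B (Localization.AtPrime q.asIdeal))) (EGA4.FibLocMod A B q.asIdeal E0) :=
    fun q => GrothLib.FlatOff.le_idealDepth_fibLocMod (A := A) E0 J q.asIdeal 2 fun r _ hr => h0 r hr
  have hE1 : ∀ q : PrimeSpectrum B, (1 : ℕ∞) ≤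
      LocCoh.idealDepth (J.map (algebraMap B (Localization.AtPrime q.asIdeal))) (EGA4.FibLocMod A B q.asIdeal E1) :=
    fun q => GrothLib.FlatOff.le_idealDepth_fibLocMod (A := A) E1 J q.asIdeal 1 fun r _ hr => h1 r hr
  have key := fun q : PrimeSpectrum B => GrothLib.FlatOff.key_at_prime_of_flatAt (A := A) J f u v hf hfu huv hv hGU
    q.asIdeal (hE0 q) (hE1 q)
  constructor
  · intro hn
    have hopen : IsOpen {q : PrimeSpectrum B | FlatCA.FlatAt A q.asIdeal G} :=
      GrothLib.FibreFlat.isOpen_flat_locus_noetherian (R := A) (A := B) (M := G)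
    obtain ⟨U, hU, hnU, hUV⟩ := PrimeSpectrum.isTopologicalBasis_basic_opens.exists_subset_of_mem_open
      (show n ∈ {q : PrimeSpectrum B | FlatCA.FlatAt A q.asIdeal G} from hn) hopen
    obtain ⟨s, rfl⟩ := hU
    refine ⟨s, hnU, fun q hq => ?_⟩
    obtain ⟨hF, hd⟩ := (key q).1 (hUV hq)
    refine ⟨hF, fun hJq => le_trans hd (GrothLib.Depth.idealDepth_mono (Ideal.map_mono hJq))⟩
  · rintro ⟨s, hs, h⟩
    refine (key n).2 ⟨(h n hs).1, ?_⟩
    haveI : IsNoetherianRing (Localization.AtPrime n.asIdeal) :=
      IsLocalization.isNoetherianRing n.asIdeal.primeCompl _ inferInstance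
    haveI : Module.Finite (Localization.AtPrime n.asIdeal) (LocalizedModule n.asIdeal.primeCompl F) :=
      Module.Finite.of_isLocalizedModule n.asIdeal.primeCompl (LocalizedModule.mkLinearMap n.asIdeal.primeCompl F)
    rw [IsScalarTower.algebraMap_eq B (Localization.AtPrime n.asIdeal) (EGA4.FibLocRing A B n.asIdeal),
      ← Ideal.map_map, GrothLib.Depth.idealDepth_map_eq]
    exact GrothLib.FlatOff.le_idealDepth_fibLocMod (A := A) F J n.asIdeal 2
      fun r hrn hr => (h r fun hsr => hs (hrn hsr)).2 hr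

end Groth.Agent.S18725
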