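import Groth.Statements.S18732
import Groth.Agent.Lib.ModPair19.Basic
-- import your own Groth.Agent.* helpers here

set_option autoImplicit false
universe u
open CategoryTheory CategoryTheory.Limits AlgebraicGeometry TopologicalSpace
open ModPair

namespace Groth.Agent.S18732

/-- Let X be a scheme, I the quasi-coherent ideal sheaf of an effective Cartier divisor on X with open
complement U, and f : X' ⟶ X a morphism of schemes for which the open immersion of f⁻¹(U) into X'
has all of X' as its scheme-theoretic image. Then f⁻¹(U) is scheme-theoretically dense in X' (for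
every open W of X' the inclusion of f⁻¹(U) ∩ W into W is scheme-theoretically dominant), and the
closed subscheme of X' pulled back from the divisor of I is an effective Cartier divisor: I.comap f
is the ideal sheaf of an effective Cartier divisor. -/
theorem result {X X' : Scheme.{u}}
    (I : X.IdealSheafData) (hI : BlowUp.IsEffCartierIdeal I) (f : X' ⟶ X)
    [IsSchemeTheoreticallyDominant (f ⁻¹ᵁ ModPair.interior I).ι] :
    (∀ W : X'.Opens, IsSchemeTheoreticallyDominant
        (X'.homOfLE (inf_le_right : f ⁻¹ᵁ ModPair.interior I ⊓ W ≤ W))) ∧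
      BlowUp.IsEffCartierIdeal (I.comap f) := by
  have hd : IsSchemeTheoreticallyDominant (ModPair.interior (I.comap f)).ι :=
    (GrothLib.ModPair19.interior_comap I f).symm ▸ inferInstance
  have hl := GrothLib.ModPair19.isLocPrincipal_comap (GrothLib.ModPair19.isLocPrincipal_of_eff hI) f
  have he := GrothLib.ModPair19.eff_of_dominant hl hd
  haveI := GrothLib.ModPair19.isAffineHom_interior he
  refine ⟨fun W => ?_, he⟩
  haveI : IsAffineHom (f ⁻¹ᵁ ModPair.interior I).ι := GrothLib.ModPair19.interior_comap I f ▸ inferInstance
  have sq : IsPullback (X'.homOfLE (inf_le_left : f ⁻¹ᵁ ModPair.interior I ⊓ W ≤ f ⁻¹ᵁ ModPair.interior I))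
      (X'.homOfLE (inf_le_right : f ⁻¹ᵁ ModPair.interior I ⊓ W ≤ W)) (f ⁻¹ᵁ ModPair.interior I).ι W.ι := by
    refine IsOpenImmersion.isPullback _ _ _ _ (by simp) ?_
    rw [Scheme.Opens.opensRange_ι, Scheme.opensRange_homOfLE]
    ext z
    exact ⟨fun h => ⟨h, z.2⟩, fun h => h.1⟩
  exact IsSchemeTheoreticallyDominant.of_isPullback sq

end Groth.Agent.S18732
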