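import Groth.Statements.S18733
import Groth.Agent.Lib.ModPair19.Closure
-- import your own Groth.Agent.* helpers here

set_option autoImplicit false
universe u
open CategoryTheory CategoryTheory.Limits AlgebraicGeometry TopologicalSpace
open ModPair

namespace Groth.Agent.S18733

/-- Let D₁, D₂ be effective Cartier divisors on a scheme X, with quasi-coherent ideal sheaves I₁, I₂,
such that the scheme-theoretic intersection E = D₁ ×_X D₂ (ideal sheaf I₁ ⊔ I₂) is again an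
effective Cartier divisor. Then (1) the divisors D₁ − E and D₂ − E are effective and disjoint: there
are ideal sheaves I₁', I₂' of effective Cartier divisors with I₁ = I₁'·(I₁ ⊔ I₂), I₂ = I₂'·(I₁ ⊔ I₂)
and I₁' ⊔ I₂' = ⊤; and (2) the effective Cartier divisor D₁ + D₂ − E, with ideal sheaf I₁'·I₂'·(I₁ ⊔
I₂), is contained in every effective Cartier divisor D of X containing D₁ and D₂: if the ideal sheaf
of D is ≤ I₁ and ≤ I₂ then it is ≤ I₁'·I₂'·(I₁ ⊔ I₂). -/
theorem result {X : Scheme.{u}} (I₁ I₂ : X.IdealSheafData)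
    (h₁ : BlowUp.IsEffCartierIdeal I₁) (h₂ : BlowUp.IsEffCartierIdeal I₂)
    (hE : BlowUp.IsEffCartierIdeal (I₁ ⊔ I₂)) :
    ∃ I₁' I₂' : X.IdealSheafData, BlowUp.IsEffCartierIdeal I₁' ∧ BlowUp.IsEffCartierIdeal I₂' ∧
      I₁ = I₁' * (I₁ ⊔ I₂) ∧ I₂ = I₂' * (I₁ ⊔ I₂) ∧ I₁' ⊔ I₂' = ⊤ ∧
      ∀ D : X.IdealSheafData, BlowUp.IsEffCartierIdeal D → D ≤ I₁ → D ≤ I₂ →
        D ≤ I₁' * I₂' * (I₁ ⊔ I₂) := by
  obtain ⟨I₁', h₁', e₁⟩ := GrothLib.RelDiv.exists_eq_mul hE h₁ le_sup_left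
  obtain ⟨I₂', h₂', e₂⟩ := GrothLib.RelDiv.exists_eq_mul hE h₂ le_sup_right
  rw [mul_comm] at e₁ e₂
  have htop : I₁' ⊔ I₂' = ⊤ := by
    refine GrothLib.RelDiv.eq_of_mul_eq_mul_left hE ?_
    rw [← Scheme.IdealSheafData.one_eq_top, mul_one]
    refine Scheme.IdealSheafData.ext (funext fun U => ?_)
    have h1 := congrArg (fun L : X.IdealSheafData => L.ideal U) e₁
    have h2 := congrArg (fun L : X.IdealSheafData => L.ideal U) e₂
    simp only [Scheme.IdealSheafData.ideal_mul, Scheme.IdealSheafData.ideal_sup, Pi.mul_apply, Pi.sup_apply] at h1 h2 ⊢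
    rw [Ideal.mul_sup, mul_comm, ← h1, mul_comm, ← h2]
  refine ⟨I₁', I₂', h₁', h₂', e₁, e₂, htop, fun D hD hD1 hD2 => ?_⟩
  obtain ⟨Q, -, eQ⟩ := GrothLib.RelDiv.exists_eq_mul hE hD (hD1.trans le_sup_left)
  have q1 : Q ≤ I₁' := GrothLib.RelDiv.le_of_mul_le_mul_left hE (by
    rw [← eQ, mul_comm, ← e₁]; exact hD1)
  have q2 : Q ≤ I₂' := GrothLib.RelDiv.le_of_mul_le_mul_left hE (by
    rw [← eQ, mul_comm, ← e₂]; exact hD2)
  rw [eQ, mul_comm (I₁' * I₂')]
  intro U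
  have ht := congrArg (fun L : X.IdealSheafData => L.ideal U) htop
  simp only [Scheme.IdealSheafData.ideal_sup, Scheme.IdealSheafData.ideal_top, Pi.sup_apply, Pi.top_apply] at ht
  simp only [Scheme.IdealSheafData.ideal_mul, Pi.mul_apply]
  refine Ideal.mul_mono_right ?_
  rw [Ideal.mul_eq_inf_of_coprime ht]
  exact le_inf (q1 U) (q2 U)

end Groth.Agent.S18733
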