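import Groth.Statements.S18737
import Groth.Agent.Lib.ModPair19.Image
-- import your own Groth.Agent.* helpers here

set_option autoImplicit false
universe u
open CategoryTheory CategoryTheory.Limits AlgebraicGeometry TopologicalSpace
open ModPair

namespace Groth.Agent.S18737

section
open AlgebraicGeometry CategoryTheory Limits TopologicalSpace

theorem isEff_of_coprod {A B : Scheme.{u}} {K : (A ⨿ B).IdealSheafData}
    (ha : BlowUp.IsEffCartierIdeal (K.comap coprod.inl)) (hb : BlowUp.IsEffCartierIdeal (K.comap coprod.inr)) :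
    BlowUp.IsEffCartierIdeal K := by
  refine GrothLib.BlowUp.isEffCartierIdeal_of_forall_exists_open fun x => ?_
  have hx : x ∈ Set.range (coprod.inl : A ⟶ A ⨿ B) ∪ Set.range (coprod.inr : B ⟶ A ⨿ B) := by
    exact (isCompl_range_inl_inr A B).sup_eq_top.ge (Set.mem_univ x)
  rcases hx with hx | hx
  · refine ⟨(coprod.inl : A ⟶ A ⨿ B).opensRange, hx, ?_⟩
    rw [← Scheme.Hom.isoOpensRange_inv_comp, Scheme.IdealSheafData.comap_comp]
    exact GrothLib.BlowUp.isEffCartierIdeal_comap_of_flat _ ha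
  · refine ⟨(coprod.inr : B ⟶ A ⨿ B).opensRange, hx, ?_⟩
    rw [← Scheme.Hom.isoOpensRange_inv_comp, Scheme.IdealSheafData.comap_comp]
    exact GrothLib.BlowUp.isEffCartierIdeal_comap_of_flat _ hb

variable {X : Scheme.{u}} {U W : X.Opens}

theorem isClosedImmersion_homOfLE {V : X.Opens} (hd : Disjoint U V) (hW : U ⊔ V = W) :
    IsClosedImmersion (X.homOfLE (le_sup_left.trans hW.le) : (U : Scheme.{u}) ⟶ W) := by
  refine IsClosedImmersion.of_isPreimmersion _ ?_
  have h : Set.range (X.homOfLE (le_sup_left.trans hW.le) : (U : Scheme.{u}) ⟶ W) = W.ι ⁻¹' (V : Set X)ᶜ := by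
    have e : Set.range (X.homOfLE (le_sup_left.trans hW.le) : (U : Scheme.{u}) ⟶ W) = W.ι ⁻¹' (U : Set X) :=
      (congrArg SetLike.coe (Scheme.opensRange_homOfLE (X := X) (le_sup_left.trans hW.le)))
    rw [e]
    ext z
    refine ⟨fun hz hz' => SetLike.le_def.1 hd.le_bot (Opens.mem_inf.2 ⟨hz, hz'⟩), fun hz => ?_⟩
    exact (hW.ge z.2).resolve_right hz
  rw [h]
  exact V.2.isClosed_compl.preimage W.ι.continuous

end


/-- Let X be a scheme and I the quasi-coherent ideal sheaf of an effective Cartier divisor on X, with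
open complement U, and suppose U is the disjoint union of two opens U₀, U₁ of X. Let X₀, X₁ ⊆ X be
the scheme-theoretic images of U₀ and U₁ in X and p : X₀ ⨿ X₁ ⟶ X the morphism induced by the two
closed immersions. Then the pulled-back ideal I.comap p is the ideal sheaf of an effective Cartier
divisor, and p is an abstract admissible blow-up from (X₀ ⨿ X₁, I.comap p) to (X, I): proper, with
the pulled-back modulus, and an isomorphism over U. -/
theorem result {X : Scheme.{u}}
    (I : X.IdealSheafData) (hI : BlowUp.IsEffCartierIdeal I) (U₀ U₁ : X.Opens)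
    (hU : U₀ ⊔ U₁ = ModPair.interior I) (hd : Disjoint U₀ U₁) :
    BlowUp.IsEffCartierIdeal (I.comap (coprod.desc U₀.ι.imageι U₁.ι.imageι)) ∧
      ModPair.IsAdmBlowup (I.comap (coprod.desc U₀.ι.imageι U₁.ι.imageι)) I
        (coprod.desc U₀.ι.imageι U₁.ι.imageι) := by
  haveI := GrothLib.ModPair19.isAffineHom_interior hI
  have hU₁ : U₁ ⊔ U₀ = ModPair.interior I := sup_comm U₁ U₀ ▸ hU
  haveI := isClosedImmersion_homOfLE hd hU
  haveI := isClosedImmersion_homOfLE hd.symm hU₁
  have e₀ : X.homOfLE (le_sup_left.trans hU.le) ≫ (ModPair.interior I).ι = U₀.ι := by simp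
  have e₁ : X.homOfLE (le_sup_left.trans hU₁.le) ≫ (ModPair.interior I).ι = U₁.ι := by simp
  haveI : QuasiCompact U₀.ι := e₀ ▸ inferInstance
  haveI : QuasiCompact U₁.ι := e₁ ▸ inferInstance
  obtain ⟨o₀, r₀⟩ := GrothLib.ModPair19.toImage_of_closed (U := ModPair.interior I)
    (X.homOfLE (le_sup_left.trans hU.le) : (U₀ : Scheme.{u}) ⟶ ModPair.interior I)
  obtain ⟨o₁, r₁⟩ := GrothLib.ModPair19.toImage_of_closed (U := ModPair.interior I)
    (X.homOfLE (le_sup_left.trans hU₁.le) : (U₁ : Scheme.{u}) ⟶ ModPair.interior I)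
  rw [e₀] at o₀ r₀
  rw [e₁] at o₁ r₁
  let p := coprod.desc U₀.ι.imageι U₁.ι.imageι
  refine ⟨isEff_of_coprod ?_ ?_, rfl, inferInstance, ?_⟩
  · rw [← Scheme.IdealSheafData.comap_comp, coprod.inl_desc]
    refine GrothLib.ModPair19.eff_image (GrothLib.ModPair19.isLocPrincipal_of_eff hI) _ ?_
    rw [Scheme.Opens.range_ι]; exact le_sup_left.trans hU.le
  · rw [← Scheme.IdealSheafData.comap_comp, coprod.inr_desc]
    refine GrothLib.ModPair19.eff_image (GrothLib.ModPair19.isLocPrincipal_of_eff hI) _ ?_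
    rw [Scheme.Opens.range_ι]; exact le_sup_left.trans hU₁.le
  · have key : ∀ x, p x ∈ U₀ ↔ x ∈ Set.range (U₀.ι.toImage ≫ coprod.inl) := fun x => by
      constructor
      · intro hx
        have hxU : p x ∈ ModPair.interior I := hU.le (Or.inl hx)
        rcases (isCompl_range_inl_inr U₀.ι.image U₁.ι.image).sup_eq_top.ge (Set.mem_univ x) with ⟨z, rfl⟩ | ⟨z, rfl⟩
        · rw [← Scheme.Hom.comp_apply, coprod.inl_desc] at hxU
          obtain ⟨v, rfl⟩ := r₀.ge hxU
          exact ⟨v, Scheme.Hom.comp_apply _ _ _⟩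
        · rw [← Scheme.Hom.comp_apply, coprod.inr_desc] at hxU hx
          obtain ⟨v, rfl⟩ := r₁.ge hxU
          rw [← Scheme.Hom.comp_apply, Scheme.Hom.toImage_imageι] at hx
          exact (SetLike.le_def.1 hd.le_bot (Opens.mem_inf.2 ⟨hx, v.2⟩)).elim
      · rintro ⟨v, rfl⟩
        rw [← Scheme.Hom.comp_apply, Category.assoc, coprod.inl_desc, Scheme.Hom.toImage_imageι]
        exact v.2
    have key' : ∀ x, p x ∈ U₁ ↔ x ∈ Set.range (U₁.ι.toImage ≫ coprod.inr) := fun x => by
      constructor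
      · intro hx
        have hxU : p x ∈ ModPair.interior I := hU.le (Or.inr hx)
        rcases (isCompl_range_inl_inr U₀.ι.image U₁.ι.image).sup_eq_top.ge (Set.mem_univ x) with ⟨z, rfl⟩ | ⟨z, rfl⟩
        · rw [← Scheme.Hom.comp_apply, coprod.inl_desc] at hxU hx
          obtain ⟨v, rfl⟩ := r₀.ge hxU
          rw [← Scheme.Hom.comp_apply, Scheme.Hom.toImage_imageι] at hx
          exact (SetLike.le_def.1 hd.le_bot (Opens.mem_inf.2 ⟨v.2, hx⟩)).elim
        · rw [← Scheme.Hom.comp_apply, coprod.inr_desc] at hxU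
          obtain ⟨v, rfl⟩ := r₁.ge hxU
          exact ⟨v, Scheme.Hom.comp_apply _ _ _⟩
      · rintro ⟨v, rfl⟩
        rw [← Scheme.Hom.comp_apply, Category.assoc, coprod.inr_desc, Scheme.Hom.toImage_imageι]
        exact v.2
    have h₀ : IsIso (p ∣_ U₀) := by
      have sq : IsPullback (𝟙 (U₀ : Scheme.{u})) (U₀.ι.toImage ≫ coprod.inl) U₀.ι p := by
        refine IsOpenImmersion.isPullback _ _ _ _ (by rw [Category.id_comp, Category.assoc]; simp only [p, coprod.inl_desc, coprod.inr_desc, Scheme.Hom.toImage_imageι]) ?_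
        ext x; rw [Scheme.Opens.opensRange_ι]; exact key x
      have h := (isPullback_morphismRestrict p U₀).isoIsPullback_hom_fst _ _ sq
      rw [← h]; infer_instance
    have h₁ : IsIso (p ∣_ U₁) := by
      have sq : IsPullback (𝟙 (U₁ : Scheme.{u})) (U₁.ι.toImage ≫ coprod.inr) U₁.ι p := by
        refine IsOpenImmersion.isPullback _ _ _ _ (by rw [Category.id_comp, Category.assoc]; simp only [p, coprod.inl_desc, coprod.inr_desc, Scheme.Hom.toImage_imageι]) ?_
        ext x; rw [Scheme.Opens.opensRange_ι]; exact key' x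
      have h := (isPullback_morphismRestrict p U₁).isoIsPullback_hom_fst _ _ sq
      rw [← h]; infer_instance
    refine IsZariskiLocalAtTarget.of_iSup_eq_top (P := MorphismProperty.isomorphisms Scheme.{u})
      (fun b : Bool => (ModPair.interior I).ι ⁻¹ᵁ (if b then U₀ else U₁)) ?_ fun b => ?_
    · rw [iSup_bool_eq]
      ext z
      refine ⟨fun _ => trivial, fun _ => ?_⟩
      rcases hU.ge z.2 with h | h
      · exact Or.inl h
      · exact Or.inr h
    · refine (MorphismProperty.arrow_mk_iso_iff (MorphismProperty.isomorphisms Scheme.{u})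
        (morphismRestrictRestrict p (ModPair.interior I) _)).mpr ?_
      have e : ∀ U' : X.Opens, U' ≤ ModPair.interior I →
          (ModPair.interior I).ι ''ᵁ ((ModPair.interior I).ι ⁻¹ᵁ U') = U' := fun U' h => by
        rw [Scheme.Hom.image_preimage_eq_opensRange_inf, Scheme.Opens.opensRange_ι, inf_eq_right.2 h]
      cases b
      · change IsIso (p ∣_ _); rw [if_neg Bool.false_ne_true, e U₁ (le_sup_left.trans hU₁.le)]; exact h₁
      · change IsIso (p ∣_ _); rw [if_pos rfl, e U₀ (le_sup_left.trans hU.le)]; exact h₀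

end Groth.Agent.S18737
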