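import Groth.Statements.S18739
import Groth.Agent.Lib.ModLoc8.Basic
import Mathlib.CategoryTheory.Limits.Constructions.LimitsOfProductsAndEqualizers
import Mathlib.AlgebraicGeometry.Limits

set_option autoImplicit false
set_option backward.isDefEq.respectTransparency false
universe u
open CategoryTheory CategoryTheory.Limits AlgebraicGeometry TopologicalSpace
open ModPair

namespace Groth.Agent.S18739

/-- The localization of the category of modulus pairs and ambient morphisms at the class of abstract
admissible blow-ups has all finite limits. -/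
theorem result :
    HasFiniteLimits (ModPair.Pair.admBlowup.{u}).Localization := by
  haveI := Groth.Agent.S18738.result.{u}
  haveI : HasTerminal (ModPair.Pair.admBlowup.{u}).Localization := by
    let T₀ : ModPair.Pair.{u} := ⟨Spec (CommRingCat.of (ULift.{u} ℤ)), ⊤, GrothLib.BlowUp.isEffCartierIdeal_top⟩
    have huniq : ∀ {Z : ModPair.Pair.{u}} (a b : Z ⟶ T₀), a = b := fun a b =>
      ModPair.Pair.Hom.ext (specULiftZIsTerminal.hom_ext _ _)
    have hto : ∀ Z : ModPair.Pair.{u}, Nonempty (Z ⟶ T₀) := fun Z =>
      ⟨⟨specULiftZIsTerminal.from _, by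
        change _ ≤ _
        rw [Scheme.IdealSheafData.comap_top]
        exact le_top⟩⟩
    refine @hasTerminal_of_unique _ _ ((ModPair.Pair.admBlowup.{u}).Q.obj T₀) (fun Z => ?_) (fun Z => ⟨fun p q => ?_⟩)
    · obtain ⟨W, rfl⟩ := (Localization.Construction.objEquiv _).surjective Z
      exact ⟨(ModPair.Pair.admBlowup.{u}).Q.map (hto W).some⟩
    · obtain ⟨W, rfl⟩ := (Localization.Construction.objEquiv _).surjective Z
      obtain ⟨W', s, a, b, hs, ha, hb⟩ := GrothLib.ModLoc8.exists_common_denominator p q
      haveI := GrothLib.ModLoc8.isIso_map s hs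
      exact (cancel_epi ((ModPair.Pair.admBlowup.{u}).Q.map s)).mp (by rw [ha, hb, huniq a b])
  haveI : HasPullbacks (ModPair.Pair.admBlowup.{u}).Localization := by
    refine @hasPullbacks_of_hasLimit_cospan _ _ (fun {A C B} p q => ?_)
    obtain ⟨X, rfl⟩ := (Localization.Construction.objEquiv _).surjective A
    obtain ⟨T, rfl⟩ := (Localization.Construction.objEquiv _).surjective C
    obtain ⟨P, rfl⟩ := (Localization.Construction.objEquiv _).surjective B
    obtain ⟨X', s, f, -, hs, hf, -⟩ := GrothLib.ModLoc8.exists_common_denominator p p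
    obtain ⟨T', t, g, -, ht, hg, -⟩ := GrothLib.ModLoc8.exists_common_denominator q q
    haveI := GrothLib.ModLoc8.isIso_map s hs
    haveI := GrothLib.ModLoc8.isIso_map t ht
    obtain ⟨Y, π, K, hY⟩ := Groth.Agent.S18750.result P.mod T'.mod X'.mod P.isEffCartier T'.isEffCartier
      X'.isEffCartier f.hom f.cond g.hom g.cond
    obtain ⟨hK, hX, hT, -⟩ := Groth.Agent.S18749.result P.mod T'.mod X'.mod P.isEffCartier T'.isEffCartier
      X'.isEffCartier f.hom f.cond g.hom g.cond π K hY
    have h := (GrothLib.ModLoc8.isPullback f g hY hK hX hT).flip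
    exact IsPullback.hasPullback (h.of_iso (Iso.refl _) (asIso ((ModPair.Pair.admBlowup.{u}).Q.map s))
      (asIso ((ModPair.Pair.admBlowup.{u}).Q.map t)) (Iso.refl _) (fst' := _) (snd' := _)
      (f' := p) (g' := q) (Category.id_comp _).symm (Category.id_comp _).symm
      (by rw [Iso.refl_hom, Category.comp_id, asIso_hom]; exact hf.symm)
      (by rw [Iso.refl_hom, Category.comp_id, asIso_hom]; exact hg.symm))
  exact hasFiniteLimits_of_hasTerminal_and_pullbacks

end Groth.Agent.S18739
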