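import Groth.Statements.S1874
import Groth.Agent.Lib.IntMult3.Mult

set_option autoImplicit false
universe u
open CategoryTheory AlgebraicGeometry
attribute [local instance] HasDerivedCategory.standard
open IntMult

namespace Groth.Agent.S1874

/-- Suppose the ideal of V in O_{X,ξ} is generated by a regular sequence g₁, …, g_c. Then c! ·
length(O_{W,ξ}/(g₁, …, g_c)^t O_{W,ξ}) / t^c tends to e(X, V·W, Z) as t → ∞ (so e is c! times the
leading coefficient of that Hilbert polynomial), and e(X, V·W, Z) > 0. Here X is a nonsingular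
variety over an algebraically closed field K (smooth, separated, of finite type, integral), V and W
are closed subvarieties given by quasi-coherent ideal sheaves with integral subschemes, of
dimensions r and s with dim X = n, intersecting properly, and ξ is the generic point of an
irreducible component Z of V ∩ W; e(X, V·W, Z) is the alternating sum of lengths of Tor over
O_{X,ξ}. -/
theorem result (K : Type u) [Field K] [IsAlgClosed K] (X : Scheme.{u}) (f : X ⟶ Spec (CommRingCat.of K)) [Smooth f] [IsSeparated f] [QuasiCompact f] [IsIntegral X] (IV IW : X.IdealSheafData) [IsIntegral IV.subscheme] [IsIntegral IW.subscheme] (n r s : ℕ) (hn : topologicalKrullDim X = n) (hr : topologicalKrullDim IV.support = r) (hs : topologicalKrullDim IW.support = s) (hprop : IntMult.ProperInt (IV.support : Set X) (IW.support : Set X) n r s) (ξ : X) (hξV : ξ ∈ IV.support) (hξW : ξ ∈ IW.support) (hmax : ∀ ξ' : X, ξ' ∈ IV.support → ξ' ∈ IW.support → ξ' ⤳ ξ → ξ' = ξ) (c : ℕ) (g : Fin c → ↑(X.presheaf.stalk ξ)) (hg : IntMult.stalkIdeal IV ξ = Ideal.span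 (Set.range g)) (hreg : RingTheory.Sequence.IsRegular (↑(X.presheaf.stalk ξ)) (List.ofFn g)) : Filter.Tendsto (fun t : ℕ => (c.factorial : ℝ) * ((Module.length (X.presheaf.stalk ξ) (↑(X.presheaf.stalk ξ) ⧸ (IntMult.stalkIdeal IW ξ ⊔ IntMult.stalkIdeal IV ξ ^ t))).toNat : ℝ) / (t : ℝ) ^ c) Filter.atTop (nhds (IntMult.mult IV IW ξ : ℝ)) ∧ 0 < IntMult.mult IV IW ξ := by
    open GrothLib.IntMult3 GrothLib.KoszulEuler in
    haveI : IsLocallyNoetherian X := LocallyOfFiniteType.isLocallyNoetherian f
    haveI : IsNoetherianRing (X.presheaf.stalk ξ) := inferInstance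
    have hfin := length_ne_top IV IW ξ hξV hξW hmax
    have hm := IsLocalRing.le_maximalIdeal (stalkIdeal_ne_top IV hξV)
    have hdim := dim_eq_length f IV IW n r s hn hr hs hprop ξ hξV hξW c g hg hreg
    have hmult : IntMult.mult IV IW ξ = chi (ModuleCat.of _ (↑(X.presheaf.stalk ξ) ⧸ IntMult.stalkIdeal IW ξ)) (List.ofFn g) :=
      mult_eq_chi hg hreg.toIsWeaklyRegular
    rw [hmult]
    refine ⟨?_, chi_pos hg hm hfin hdim⟩
    refine (tendsto_samuel (fl_of_ne_top hg hfin)).congr fun t => ?_
    rw [length_quot_eq, hg]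

end Groth.Agent.S1874
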