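import Groth.Statements.S18740
import Groth.Agent.Lib.FlatBlow1.Adm
import Groth.Agent.Lib.FibreDimAt6.DenseBase
-- import your own Groth.Agent.* helpers here

set_option autoImplicit false
set_option backward.isDefEq.respectTransparency false
universe u
open CategoryTheory CategoryTheory.Limits AlgebraicGeometry TopologicalSpace
open ModPair

namespace Groth.Agent.S18740

/-- Let (X, I_X) be a modulus pair (a scheme with the quasi-coherent ideal sheaf of an effective Cartier
divisor) with X quasi-compact and quasi-separated, u : Y ⟶ X a minimal morphism of modulus pairs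
(I_Y = I_X.comap u) which is flat and of finite presentation (flat, locally of finite presentation,
quasi-compact, quasi-separated), and b : Y' ⟶ Y an abstract admissible blow-up of modulus pairs.
Then there exist an abstract admissible blow-up a : X' ⟶ X of modulus pairs, a minimal morphism v :
V ⟶ X' of modulus pairs which is again flat and of finite presentation, and an abstract admissible
blow-up w : V ⟶ Y', such that w ≫ b ≫ u = v ≫ a. If u is in addition surjective (an fppf covering),
then v can be chosen surjective as well. -/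
theorem result {X Y Y' : Scheme.{u}} [CompactSpace X]
    [QuasiSeparatedSpace X] (IX : X.IdealSheafData) (IY : Y.IdealSheafData) (IY' : Y'.IdealSheafData)
    (hX : BlowUp.IsEffCartierIdeal IX) (hY : BlowUp.IsEffCartierIdeal IY)
    (hY' : BlowUp.IsEffCartierIdeal IY') (u : Y ⟶ X) (hu : ModPair.IsMinimal IY IX u) [Flat u]
    [LocallyOfFinitePresentation u] [QuasiCompact u] [QuasiSeparated u]
    (b : Y' ⟶ Y) (hb : ModPair.IsAdmBlowup IY' IY b) :
    ∃ (X' : Scheme.{u}) (IX' : X'.IdealSheafData) (a : X' ⟶ X) (V : Scheme.{u})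
      (IV : V.IdealSheafData) (v : V ⟶ X') (w : V ⟶ Y'),
      BlowUp.IsEffCartierIdeal IX' ∧ ModPair.IsAdmBlowup IX' IX a ∧
        BlowUp.IsEffCartierIdeal IV ∧ ModPair.IsMinimal IV IX' v ∧ Flat v ∧
        LocallyOfFinitePresentation v ∧ QuasiCompact v ∧ QuasiSeparated v ∧
        ModPair.IsAdmBlowup IV IY' w ∧ w ≫ b ≫ u = v ≫ a ∧
        (Surjective u → Surjective v) := by
  have hint : ModPair.interior IY = u ⁻¹ᵁ GrothLib.FlatBlow1.off IX := by
    rw [show IY = IX.comap u from hu]
    ext x
    simp [ModPair.interior, GrothLib.FlatBlow1.off, Scheme.IdealSheafData.support_comap]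
  obtain ⟨hbm, hbp, hbi⟩ := hb
  haveI := hbp
  haveI : IsIso (b ∣_ (u ⁻¹ᵁ GrothLib.FlatBlow1.off IX)) := by rw [← hint]; exact hbi
  haveI : Flat ((b ≫ u) ∣_ GrothLib.FlatBlow1.off IX) := by rw [morphismRestrict_comp]; infer_instance
  haveI : LocallyOfFinitePresentation ((b ≫ u) ∣_ GrothLib.FlatBlow1.off IX) := by
    rw [morphismRestrict_comp]; infer_instance
  obtain ⟨X', t, P', p₁, p₂, V, ι, htp, hti, htc, sq, _, hflat, hfp, hqc, hqs, hyp, hyi, hyc, hrange⟩ :=
    GrothLib.FlatBlow1.exists_adm_flat IX hX (b ≫ u)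
  haveI := htp
  haveI := hflat
  have hI' : IY' = IX.comap (b ≫ u) := by
    rw [Scheme.IdealSheafData.comap_comp, show IY' = IY.comap b from hbm, show IY = IX.comap u from hu]
  have hIV : (IX.comap (b ≫ u)).comap (ι ≫ p₁) = (IX.comap t).comap (ι ≫ p₂) := by
    rw [← Scheme.IdealSheafData.comap_comp, ← Scheme.IdealSheafData.comap_comp, Category.assoc, Category.assoc, sq.w]
  have hint' : ModPair.interior IY' = (b ≫ u) ⁻¹ᵁ GrothLib.FlatBlow1.off IX := by
    rw [hI']
    ext x
    simp [ModPair.interior, GrothLib.FlatBlow1.off, Scheme.IdealSheafData.support_comap]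
  refine ⟨X', IX.comap t, t, V, (IX.comap t).comap (ι ≫ p₂), ι ≫ p₂, ι ≫ p₁, htc, ⟨rfl, htp, hti⟩,
    hIV ▸ hyc, rfl, hflat, hfp, hqc, hqs, ⟨by rw [ModPair.IsMinimal, hI', hIV], hyp, by rw [hint']; exact hyi⟩,
    by simp only [Category.assoc, sq.w], fun hsu => ⟨fun x' => ?_⟩⟩
  -- surjectivity
  haveI := hsu
  haveI : QuasiSeparatedSpace X' := quasiSeparatedSpace_of_quasiSeparated t
  haveI : Surjective b := by
    haveI : IsIso (b ∣_ GrothLib.FlatBlow1.off IY) := hbi
    exact GrothLib.FlatBlow1.surjective_of_isIso_dense b _ (GrothLib.FlatBlow1.dense_off hY)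
  have hd := GrothLib.FlatBlow1.dense_off htc
  have hr : IsRetrocompact (GrothLib.FlatBlow1.off (IX.comap t) : Set X') := fun W hWc hWo => by
    haveI : CompactSpace X' := QuasiCompact.compactSpace_of_compactSpace t
    exact QuasiSeparatedSpace.inter_isCompact _ _ (GrothLib.FlatBlow1.off (IX.comap t)).2
      (GrothLib.FlatBlow1.isCompact_off (GrothLib.FlatBlow1.finiteType_of_isEffCartier htc)) hWo hWc
  obtain ⟨η, hη, hηx⟩ := GrothLib.FibreDimAt6.exists_specializes_mem _ hd hr x'
  let P := Limits.pullback u t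
  let π := Limits.pullback.snd u t
  haveI : Flat π := MorphismProperty.pullback_snd u t inferInstance
  haveI : Surjective π := MorphismProperty.pullback_snd u t inferInstance
  let q : P' ⟶ P := Limits.pullback.lift (p₁ ≫ b) p₂ (by rw [Category.assoc, sq.w])
  have hq : IsPullback p₁ q b (Limits.pullback.fst u t) := by
    refine IsPullback.of_bot ?_ (Limits.pullback.lift_fst _ _ _).symm (IsPullback.of_hasPullback u t)
    rw [Limits.pullback.lift_snd]
    exact sq
  haveI : IsProper q := MorphismProperty.of_isPullback hq inferInstance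
  haveI : Surjective q := MorphismProperty.of_isPullback hq inferInstance
  obtain ⟨ξ, hξ⟩ := π.surjective x'
  obtain ⟨ξ', hξ', hξη⟩ := Flat.generalizingMap π (hξ.symm ▸ hηx)
  obtain ⟨z', hz'⟩ := q.surjective ξ'
  obtain ⟨z, hz, hqz⟩ := q.isClosedMap.specializingMap (hz'.symm ▸ hξ')
  have hz'r : z' ∈ Set.range ι := by
    refine hrange z' ?_
    have h2 : p₂ z' = η := by
      rw [← hξη, ← hz', ← Scheme.Hom.comp_apply, Limits.pullback.lift_snd]
    show (p₁ ≫ b ≫ u) z' ∈ GrothLib.FlatBlow1.off IX
    rw [sq.w]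
    show t (p₂ z') ∉ IX.support
    rw [h2]
    intro h
    apply hη
    rw [SetLike.mem_coe, Scheme.IdealSheafData.support_comap]
    exact h
  obtain ⟨w, hw⟩ := hz.mem_closed ι.isClosedMap.isClosed_range hz'r
  exact ⟨w, by rw [Scheme.Hom.comp_apply, hw, ← hξ, ← hqz, ← Scheme.Hom.comp_apply, Limits.pullback.lift_snd]⟩

end Groth.Agent.S18740
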