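import Groth.Statements.S18741
import Mathlib.CategoryTheory.Localization.CalculusOfFractions
import Mathlib.CategoryTheory.Comma.Over.Basic
-- import your own Groth.Agent.* helpers here

set_option autoImplicit false
universe v₁ v₂ v₃ u₁ u₂ u₃
open CategoryTheory
open ModPair

namespace Groth.Agent.S18741

section
open CategoryTheory Limits MorphismProperty

universe w₁ w₂ z₁ z₂ r₁ r₂

variable {C : Type w₁} [Category.{w₂} C] (W : MorphismProperty C) [W.HasRightCalculusOfFractions] (S : C)

theorem hasRightCalculus_over : (W.inverseImage (Over.forget S)).HasRightCalculusOfFractions where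
  id_mem X := W.id_mem X.left
  comp_mem f g hf hg := W.comp_mem _ _ hf hg
  exists_rightFraction X Y φ := by
    obtain ⟨ψ, hψ⟩ := (LeftFraction.mk φ.f.left φ.s.left φ.hs).exists_rightFraction
    dsimp at hψ
    refine ⟨RightFraction.mk (Over.homMk ψ.s rfl : Over.mk (ψ.s ≫ X.hom) ⟶ X) ψ.hs
      (Over.homMk ψ.f (show ψ.f ≫ Y.hom = ψ.s ≫ X.hom by rw [← Over.w φ.s, ← Over.w φ.f, reassoc_of% hψ])), ?_⟩
    ext
    exact hψ
  ext X Y Y' f₁ f₂ s hs h := by
    obtain ⟨Z, t, ht, hte⟩ := HasRightCalculusOfFractions.ext f₁.left f₂.left s.left hs (congrArg CommaMorphism.left h)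
    exact ⟨Over.mk (t ≫ X.hom), Over.homMk t rfl, ht, Over.OverMorphism.ext hte⟩

variable {D : Type z₁} [Category.{z₂} D] (L : C ⥤ D) [L.IsLocalization W]
  {E : Type r₁} [Category.{r₂} E] (L' : Over S ⥤ E) [L'.IsLocalization (W.inverseImage (Over.forget S))]
  (Φ : E ⥤ Over (L.obj S)) (e : L' ⋙ Φ ≅ Over.post L)

noncomputable def K {A B : Over S} (a : L'.obj A ⟶ L'.obj B) : L.obj A.left ⟶ L.obj B.left :=
  (e.inv.app A ≫ Φ.map a ≫ e.hom.app B).left

omit [W.HasRightCalculusOfFractions] [L.IsLocalization W] [L'.IsLocalization (W.inverseImage (Over.forget S))] in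
theorem K_map {A B : Over S} (m : A ⟶ B) : K S L L' Φ e (L'.map m) = L.map m.left := by
  have h : e.inv.app A ≫ Φ.map (L'.map m) ≫ e.hom.app B = (Over.post L).map m :=
    (congrArg (e.inv.app A ≫ ·) (e.hom.naturality m)).trans (e.inv_hom_id_app_assoc A _)
  exact congrArg CommaMorphism.left h

omit [W.HasRightCalculusOfFractions] [L.IsLocalization W] [L'.IsLocalization (W.inverseImage (Over.forget S))] in
theorem K_comp {A B B' : Over S} (a : L'.obj A ⟶ L'.obj B) (b : L'.obj B ⟶ L'.obj B') :
    K S L L' Φ e (a ≫ b) = K S L L' Φ e a ≫ K S L L' Φ e b := by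
  have h : e.inv.app A ≫ Φ.map (a ≫ b) ≫ e.hom.app B' =
      (e.inv.app A ≫ Φ.map a ≫ e.hom.app B) ≫ (e.inv.app B ≫ Φ.map b ≫ e.hom.app B') := by
    simp only [Category.assoc, Functor.map_comp]
    exact congrArg (fun k => e.inv.app A ≫ Φ.map a ≫ k) (e.hom_inv_id_app_assoc B _).symm
  exact congrArg CommaMorphism.left h

theorem map_K {A B : Over S} (φ : (W.inverseImage (Over.forget S)).RightFraction A B) :
    K S L L' Φ e (φ.map L' (Localization.inverts _ _)) =
      (RightFraction.mk φ.s.left φ.hs φ.f.left : W.RightFraction A.left B.left).map L (Localization.inverts _ _) := by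
  have : IsIso (L.map φ.s.left) := Localization.inverts L W _ φ.hs
  rw [← cancel_epi (L.map φ.s.left)]
  conv_lhs => rw [← K_map S L L' Φ e φ.s, ← K_comp, RightFraction.map_s_comp_map, K_map]
  exact (RightFraction.map_s_comp_map (RightFraction.mk φ.s.left φ.hs φ.f.left : W.RightFraction A.left B.left) L _).symm

include W e in
theorem faithful : Φ.Faithful where
  map_injective {X Y} a b h := by
    haveI := hasRightCalculus_over W S
    haveI := Localization.essSurj L' (W.inverseImage (Over.forget S))
    let x := L'.objObjPreimageIso X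
    let y := L'.objObjPreimageIso Y
    suffices x.hom ≫ a ≫ y.inv = x.hom ≫ b ≫ y.inv by simpa using this
    obtain ⟨φ, hφ⟩ := Localization.exists_rightFraction L' (W.inverseImage (Over.forget S)) (x.hom ≫ a ≫ y.inv)
    obtain ⟨ψ, hψ⟩ := Localization.exists_rightFraction L' (W.inverseImage (Over.forget S)) (x.hom ≫ b ≫ y.inv)
    rw [hφ, hψ, RightFraction.map_eq_iff]
    have hK : K S L L' Φ e (φ.map L' (Localization.inverts _ _)) = K S L L' Φ e (ψ.map L' (Localization.inverts _ _)) := by
      rw [← hφ, ← hψ, K, K, Φ.map_comp, Φ.map_comp, h, ← Φ.map_comp, ← Φ.map_comp]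
    rw [map_K, map_K, RightFraction.map_eq_iff] at hK
    obtain ⟨Z, t₁, t₂, hs, hf, hW⟩ := hK
    dsimp at t₁ t₂ hs hf hW
    refine ⟨Over.mk (t₁ ≫ φ.X'.hom), Over.homMk t₁ rfl, Over.homMk t₂ ?_, Over.OverMorphism.ext hs,
      Over.OverMorphism.ext hf, hW⟩
    show t₂ ≫ ψ.X'.hom = t₁ ≫ φ.X'.hom
    rw [← Over.w ψ.s, ← Over.w φ.s, reassoc_of% hs]

include W e in
theorem full : Φ.Full where
  map_surjective {X Y} b := by
    haveI := hasRightCalculus_over W S
    haveI := Localization.essSurj L' (W.inverseImage (Over.forget S))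
    let x := L'.objObjPreimageIso X
    let y := L'.objObjPreimageIso Y
    let A := L'.objPreimage X
    let B := L'.objPreimage Y
    let g : (Over.post L).obj A ⟶ (Over.post L).obj B := e.inv.app A ≫ Φ.map x.hom ≫ b ≫ Φ.map y.inv ≫ e.hom.app B
    let gl : L.obj A.left ⟶ L.obj B.left := g.left
    obtain ⟨φ, hφ⟩ := Localization.exists_rightFraction L W gl
    have hg : gl ≫ L.map B.hom = L.map A.hom := Over.w g
    have hw : L.map (φ.f ≫ B.hom) = L.map (φ.s ≫ A.hom) := by
      rw [L.map_comp, L.map_comp, ← RightFraction.map_s_comp_map φ L (Localization.inverts L W), ← hφ,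
        Category.assoc, hg]
    obtain ⟨Z, t, ht, hte⟩ := (map_eq_iff_precomp L W _ _).1 hw
    have hts : W (t ≫ φ.s) := W.comp_mem _ _ ht φ.hs
    let ψ : (W.inverseImage (Over.forget S)).RightFraction A B :=
      RightFraction.mk (Over.homMk (t ≫ φ.s) rfl : Over.mk ((t ≫ φ.s) ≫ A.hom) ⟶ A) hts
        (Over.homMk (t ≫ φ.f) (show (t ≫ φ.f) ≫ B.hom = (t ≫ φ.s) ≫ A.hom by simp only [Category.assoc, hte]))
    refine ⟨x.inv ≫ ψ.map L' (Localization.inverts _ _) ≫ y.hom, ?_⟩
    have hψ : K S L L' Φ e (ψ.map L' (Localization.inverts _ _)) = gl := by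
      rw [map_K, hφ]
      haveI := Localization.inverts L W _ hts
      rw [← cancel_epi (L.map (t ≫ φ.s))]
      refine (RightFraction.map_s_comp_map (RightFraction.mk (t ≫ φ.s) hts (t ≫ φ.f)) L _).trans ?_
      rw [L.map_comp, L.map_comp, Category.assoc, RightFraction.map_s_comp_map]
    have h2 : e.inv.app A ≫ Φ.map (ψ.map L' (Localization.inverts _ _)) ≫ e.hom.app B = g :=
      Over.OverMorphism.ext hψ
    rw [cancel_epi, ← Category.assoc, ← Category.assoc (Φ.map x.hom ≫ b), cancel_mono] at h2
    rw [Functor.map_comp, Functor.map_comp, h2]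
    simp only [Category.assoc, ← Functor.map_comp_assoc, Iso.inv_hom_id]
    simp [← Functor.map_comp]

include W e in
theorem essSurj : Φ.EssSurj where
  mem_essImage Y := by
    haveI := Localization.essSurj L W
    let x := L.objObjPreimageIso Y.left
    obtain ⟨φ, hφ⟩ := Localization.exists_rightFraction L W (x.hom ≫ Y.hom)
    haveI := Localization.inverts L W _ φ.hs
    refine ⟨L'.obj (Over.mk φ.f), ⟨e.app (Over.mk φ.f) ≪≫ CategoryTheory.Over.isoMk (@asIso _ _ _ _ (L.map φ.s) (Localization.inverts L W _ φ.hs) ≪≫ x) ?_⟩⟩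
    change (L.map φ.s ≫ x.hom) ≫ Y.hom = L.map φ.f
    rw [Category.assoc, hφ, RightFraction.map_s_comp_map]

end


/-- Let C be a category, W a class of morphisms of C admitting a calculus of right fractions, and S an
object of C; let W_S be the class of morphisms of the slice category over S whose underlying
morphism lies in W. Then the canonical functor from the localization of the slice category C/S at
W_S to the slice category over S of the localization of C at W is an equivalence: for every
localization functor L : C ⥤ D at W, every localization functor L' : C/S ⥤ E at W_S, and every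
functor Φ : E ⥤ D/L(S) through which the functor C/S ⥤ D/L(S) induced by L factors up to
isomorphism, Φ is an equivalence of categories. -/
theorem result {C : Type u₁}
    [Category.{v₁} C] (W : MorphismProperty C) [W.HasRightCalculusOfFractions] (S : C)
    {D : Type u₂} [Category.{v₂} D] (L : C ⥤ D) [L.IsLocalization W]
    {E : Type u₃} [Category.{v₃} E] (L' : Over S ⥤ E)
    [L'.IsLocalization (W.inverseImage (Over.forget S))]
    (Φ : E ⥤ Over (L.obj S)) (e : L' ⋙ Φ ≅ Over.post L) : Φ.IsEquivalence := by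
  haveI := faithful W S L L' Φ e
  haveI := full W S L L' Φ e
  haveI := essSurj W S L L' Φ e
  exact { }

end Groth.Agent.S18741
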