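import Groth.Statements.S18742
import Groth.Agent.Lib.ModLim8.Hom

set_option autoImplicit false
universe u
open CategoryTheory CategoryTheory.Limits AlgebraicGeometry TopologicalSpace
open ModPair

namespace Groth.Agent.S18742

/-- Let S be a quasi-compact quasi-separated scheme, (X_i) a cofiltered system of S-schemes with affine,
scheme-theoretically dominant transition morphisms and all X_i quasi-compact and quasi-separated, X
its limit in the category of S-schemes, and Y ⟶ S locally of finite type with Y quasi-compact and
quasi-separated. Then the canonical map from the colimit of the sets Hom_S(X_i, Y) to Hom_S(X, Y) is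
bijective: every S-morphism X ⟶ Y factors through the projection to some X_i, and two S-morphisms
X_i ⟶ Y with the same composite X ⟶ Y become equal after composition with some transition morphism
X_j ⟶ X_i. No finite-presentation hypothesis on Y is assumed. -/
theorem result {S : Scheme.{u}} [CompactSpace S]
    [QuasiSeparatedSpace S] {I : Type u} [SmallCategory I] [IsCofiltered I] (D : I ⥤ Over S)
    (c : Cone D) (hc : IsLimit c)
    [∀ (i j : I) (t : i ⟶ j), IsAffineHom (D.map t).left]
    [∀ (i j : I) (t : i ⟶ j), IsSchemeTheoreticallyDominant (D.map t).left]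
    [∀ i, CompactSpace (D.obj i).left] [∀ i, QuasiSeparatedSpace (D.obj i).left]
    (Y : Over S) [CompactSpace Y.left] [QuasiSeparatedSpace Y.left] [LocallyOfFiniteType Y.hom] :
    (∀ φ : c.pt ⟶ Y, ∃ (i : I) (φi : D.obj i ⟶ Y), c.π.app i ≫ φi = φ) ∧
      ∀ (i : I) (φ ψ : D.obj i ⟶ Y), c.π.app i ≫ φ = c.π.app i ≫ ψ →
        ∃ (j : I) (t : j ⟶ i), D.map t ≫ φ = D.map t ≫ ψ := by
  exact ⟨fun φ => GrothLib.ModLim8.exists_hom D c hc Y φ, fun i φ ψ h => GrothLib.ModLim8.exists_hom_eq D c hc Y φ ψ h⟩

end Groth.Agent.S18742
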