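import Groth.Statements.S18743
import Groth.Agent.Lib.ModPair19.Closure
-- import your own Groth.Agent.* helpers here

set_option autoImplicit false
universe u
open CategoryTheory CategoryTheory.Limits AlgebraicGeometry TopologicalSpace
open ModPair

namespace Groth.Agent.S18743

/-- Let (S, I_S), (T, I_T), (X, I_X) be schemes equipped with quasi-coherent ideal sheaves of effective
Cartier divisors, p : X ⟶ S a morphism with the modulus condition I_X ≤ I_S.comap p, and f : T ⟶ S a
minimal morphism (I_T = I_S.comap f) which is flat. Then the ambient product of (T, I_T) and (X,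
I_X) over (S, I_S) has total space all of X ×_S T with modulus pulled back from X: the open
pr₁⁻¹(X°) ∩ pr₂⁻¹(T°) (X°, T° the complements of the supports) is scheme-theoretically dominant in X
×_S T, the closed immersion of its scheme-theoretic image is an isomorphism, and I_X.comap pr₁ is
the ideal sheaf of an effective Cartier divisor. -/
theorem result {S T X : Scheme.{u}} (IS : S.IdealSheafData)
    (IT : T.IdealSheafData) (IX : X.IdealSheafData) (hS : BlowUp.IsEffCartierIdeal IS)
    (hT : BlowUp.IsEffCartierIdeal IT) (hX : BlowUp.IsEffCartierIdeal IX)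
    (p : X ⟶ S) (hp : ModPair.IsAmbient IX IS p) (f : T ⟶ S) (hf : ModPair.IsMinimal IT IS f) [Flat f] :
    IsSchemeTheoreticallyDominant (ModPair.prodInterior p f IX IT).ι ∧
      IsIso (ModPair.mprodι p f IX IT) ∧
      BlowUp.IsEffCartierIdeal (IX.comap (pullback.fst p f)) := by
  have he : BlowUp.IsEffCartierIdeal (IX.comap (pullback.fst p f)) :=
    GrothLib.BlowUp.isEffCartierIdeal_comap_of_flat _ hX
  have hO : ModPair.prodInterior p f IX IT = ModPair.interior (IX.comap (pullback.fst p f)) := by
    rw [GrothLib.ModPair19.interior_comap]
    refine le_antisymm inf_le_left (le_inf le_rfl ?_)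
    rw [hf, GrothLib.ModPair19.interior_comap, ← Scheme.Hom.comp_preimage, ← pullback.condition,
      Scheme.Hom.comp_preimage]
    exact (Opens.map (pullback.fst p f).base).monotone (GrothLib.ModPair19.interior_le_of_isAmbient hp)
  haveI hd : IsSchemeTheoreticallyDominant (ModPair.prodInterior p f IX IT).ι :=
    hO ▸ GrothLib.ModPair19.dominant_interior he
  exact ⟨hd, GrothLib.ModPair19.isIso_imageι_of_dominant _, he⟩

end Groth.Agent.S18743
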