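import Groth.Statements.S18747
-- import your own Groth.Agent.* helpers here

set_option autoImplicit false
universe u
open CategoryTheory CategoryTheory.Limits AlgebraicGeometry TopologicalSpace
open ModPair

namespace Groth.Agent.S18747

section
open AlgebraicGeometry CategoryTheory Limits Scheme.IdealSheafData

variable {σ : Type u} (P : σ → ModPair.Pair.{u})

noncomputable abbrev subMap : (∐ fun i => (P i).mod.subscheme) ⟶ ∐ fun i => (P i).total :=
  Limits.Sigma.map fun i => (P i).mod.subschemeι

theorem subMap_pullback (i : σ) : IsPullback (P i).mod.subschemeι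
    (Sigma.ι (fun i => (P i).mod.subscheme) i) (Sigma.ι (fun i => (P i).total) i) (subMap P) := by
  refine IsOpenImmersion.isPullback _ _ _ _ (by simp [subMap]) ?_
  ext x
  obtain ⟨⟨j, y⟩, rfl⟩ := (sigmaMk fun i => (P i).mod.subscheme).surjective x
  rw [sigmaMk_mk]
  have h : subMap P (Sigma.ι (fun i => (P i).mod.subscheme) j y) =
      Sigma.ι (fun i => (P i).total) j ((P j).mod.subschemeι y) := by
    rw [← Scheme.Hom.comp_apply, Sigma.ι_map, Scheme.Hom.comp_apply]
  constructor
  · intro hx
    obtain ⟨z, hz⟩ := (hx : _ ∈ Set.range (Sigma.ι (fun i => (P i).total) i))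
    rw [h, sigmaι_eq_iff] at hz
    obtain ⟨rfl, -⟩ := Sigma.mk.injEq .. ▸ hz
    exact ⟨y, rfl⟩
  · rintro ⟨z, hz⟩
    obtain ⟨rfl, -⟩ := Sigma.mk.injEq .. ▸ (sigmaι_eq_iff _ _ _ _ _).mp hz
    exact ⟨(P i).mod.subschemeι y, h.symm⟩

instance : IsClosedImmersion (subMap P) := by
  rw [IsZariskiLocalAtTarget.iff_of_openCover (P := @IsClosedImmersion)
    (sigmaOpenCover fun i => (P i).total)]
  intro i
  have hp := (subMap_pullback P i).flip
  change IsClosedImmersion (pullback.snd (subMap P) (Sigma.ι (fun i => (P i).total) i))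
  rw [← hp.isoPullback_inv_snd]
  infer_instance

noncomputable def sumMod : (∐ fun i => (P i).total).IdealSheafData := (subMap P).ker

theorem comap_sumMod (i : σ) : (sumMod P).comap (Sigma.ι (fun i => (P i).total) i) = (P i).mod := by
  rw [sumMod, ← ker_fst_of_isClosedImmersion, ← (subMap_pullback P i).isoPullback_inv_fst,
    Scheme.Hom.ker_comp_of_isIso, ker_subschemeι]

theorem ext_comap {I J : (∐ fun i => (P i).total).IdealSheafData}
    (h : ∀ i, I.comap (Sigma.ι (fun i => (P i).total) i) = J.comap (Sigma.ι (fun i => (P i).total) i)) :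
    I = J := by
  refine ext_of_iSup_eq_top (ι := Σ i, (P i).total.affineOpens)
    (fun q => ⟨Sigma.ι (fun i => (P i).total) q.1 ''ᵁ q.2.1,
      q.2.2.image_of_isOpenImmersion (Sigma.ι (fun i => (P i).total) q.1)⟩) ?_ ?_
  · rw [eq_top_iff]
    intro x _
    obtain ⟨⟨j, y⟩, rfl⟩ := (sigmaMk fun i => (P i).total).surjective x
    obtain ⟨U, hU, hy, -⟩ := exists_isAffineOpen_mem_and_subset (show y ∈ (⊤ : (P j).total.Opens) from trivial)
    rw [sigmaMk_mk]
    exact TopologicalSpace.Opens.mem_iSup.mpr ⟨⟨j, ⟨U, hU⟩⟩, y, hy, rfl⟩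
  · rintro ⟨i, U⟩
    have e := congrArg (fun K : (P i).total.IdealSheafData => K.ideal U) (h i)
    simp only [ideal_comap_of_isOpenImmersion] at e
    exact Ideal.comap_injective_of_surjective _
      (ConcreteCategory.bijective_of_isIso ((Sigma.ι (fun i => (P i).total) i).appIso U).inv).2 e

theorem le_of_comap_le' {I J : (∐ fun i => (P i).total).IdealSheafData}
    (h : ∀ i, I.comap (Sigma.ι (fun i => (P i).total) i) ≤ J.comap (Sigma.ι (fun i => (P i).total) i)) :
    I ≤ J := by
  rw [← sup_eq_right]
  refine ext_comap P fun i => ?_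
  rw [comap_sup, sup_eq_right.2 (h i)]

theorem sumMod_isEffCartier : BlowUp.IsEffCartierIdeal (sumMod P) := by
  intro x
  obtain ⟨⟨j, y⟩, rfl⟩ := (sigmaMk fun i => (P i).total).surjective x
  obtain ⟨U, hy, f, hf, hI⟩ := (P j).isEffCartier y
  rw [sigmaMk_mk]
  let ι := Sigma.ι (fun i => (P i).total) j
  refine ⟨⟨ι ''ᵁ U, U.2.image_of_isOpenImmersion ι⟩, ⟨y, hy, rfl⟩, (ι.appIso U).inv f, ?_, ?_⟩
  · exact (MulEquivClass.map_nonZeroDivisors (ι.appIso U).symm.commRingCatIsoToRingEquiv) ▸
      Submonoid.mem_map_of_mem _ hf
  · rw [← comap_sumMod P j, ideal_comap_of_isOpenImmersion] at hI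
    have hs := (ConcreteCategory.bijective_of_isIso (ι.appIso U).inv).2
    exact (Ideal.map_comap_of_surjective (ι.appIso U).inv.hom hs _).symm.trans
      ((congrArg (Ideal.map (ι.appIso U).inv.hom) hI).trans
        ((Ideal.map_span _ _).trans (congrArg Ideal.span Set.image_singleton)))

noncomputable def sumCofan : Cofan P :=
  Cofan.mk (⟨∐ fun i => (P i).total, sumMod P, sumMod_isEffCartier P⟩ : ModPair.Pair)
    (fun i => ⟨Sigma.ι (fun i => (P i).total) i, (comap_sumMod P i).ge⟩)

noncomputable def sumCofanIsColimit : IsColimit (sumCofan P) :=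
  Cofan.IsColimit.mk _
    (fun s => ⟨Sigma.desc fun i => (s.inj i).hom, by
      refine le_of_comap_le' P fun i => ?_
      change (sumMod P).comap _ ≤ _
      rw [comap_sumMod]
      exact (s.inj i).cond.trans (((congrArg s.pt.mod.comap
        (Sigma.ι_desc (fun i => (s.inj i).hom) i)).symm.trans
        (Scheme.IdealSheafData.comap_comp s.pt.mod (Sigma.ι (fun i => (P i).total) i)
          (Sigma.desc fun i => (s.inj i).hom))).le)⟩)
    (fun s i => ModPair.Pair.Hom.ext (Sigma.ι_desc _ _))
    (fun s m hm => ModPair.Pair.Hom.ext (Sigma.hom_ext _ _ fun i =>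
      (congrArg ModPair.Pair.Hom.hom (hm i)).trans (Sigma.ι_desc (fun i => (s.inj i).hom) i).symm))

noncomputable def sumForgetIsColimit : IsColimit (ModPair.Pair.forget.mapCocone (sumCofan P)) :=
  (isColimitMapCoconeCofanMkEquiv ModPair.Pair.forget _ _).symm
    (coproductIsCoproduct fun i => (P i).total)

end


/-- The category of modulus pairs and ambient morphisms admits coproducts (indexed by any type in the
universe of the schemes involved), and the total-space functor to schemes preserves them: the
coproduct of a family (X_i, I_i) is the disjoint union of the X_i with the modulus restricting to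
I_i on each summand. (The published statement adds that the total-space functor detects coproducts;
read as reflection of coproducts this fails, since the identity of a scheme X is an ambient morphism
from (X, I) to (X, unit ideal) whose image is trivially a coproduct of the one-member family while
(X, unit ideal) is not the coproduct of (X, I) when I is not the unit ideal; only existence and
preservation are stated.) -/
theorem result (σ : Type u) :
    HasColimitsOfShape (Discrete σ) ModPair.Pair.{u} ∧
      PreservesColimitsOfShape (Discrete σ) ModPair.Pair.forget.{u} := by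
  refine ⟨⟨fun F => ?_⟩, ⟨fun {F} => ?_⟩⟩
  · have : HasColimit (Discrete.functor (F.obj ∘ Discrete.mk)) :=
      HasColimit.mk ⟨_, sumCofanIsColimit (F.obj ∘ Discrete.mk)⟩
    exact hasColimit_of_iso Discrete.natIsoFunctor
  · have : PreservesColimit (Discrete.functor (F.obj ∘ Discrete.mk)) ModPair.Pair.forget :=
      preservesColimit_of_preserves_colimit_cocone (sumCofanIsColimit _) (sumForgetIsColimit _)
    exact preservesColimit_of_iso_diagram _ Discrete.natIsoFunctor.symm

end Groth.Agent.S18747
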