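import Groth.Statements.S18748
import Groth.Agent.Lib.ModPair19.Closure
import Groth.Agent.S18738
import Groth.Agent.S18747
import Mathlib.CategoryTheory.Localization.FiniteProducts
import Mathlib.CategoryTheory.Localization.Opposite
-- import your own Groth.Agent.* helpers here

set_option autoImplicit false
universe u
open CategoryTheory CategoryTheory.Limits AlgebraicGeometry TopologicalSpace
open ModPair

namespace Groth.Agent.S18748

section
open AlgebraicGeometry CategoryTheory Limits Scheme.IdealSheafData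

variable {σ : Type u} (P : σ → ModPair.Pair.{u})

noncomputable abbrev subMap : (∐ fun i => (P i).mod.subscheme) ⟶ ∐ fun i => (P i).total :=
  Limits.Sigma.map fun i => (P i).mod.subschemeι

theorem subMap_pullback (i : σ) : IsPullback (P i).mod.subschemeι
    (Sigma.ι (fun i => (P i).mod.subscheme) i) (Sigma.ι (fun i => (P i).total) i) (subMap P) := by
  refine IsOpenImmersion.isPullback _ _ _ _ (by simp [subMap]) ?_
  ext x
  obtain ⟨⟨j, y⟩, rfl⟩ := (sigmaMk fun i => (P i).mod.subscheme).surjective x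
  rw [sigmaMk_mk]
  have h : subMap P (Sigma.ι (fun i => (P i).mod.subscheme) j y) =
      Sigma.ι (fun i => (P i).total) j ((P j).mod.subschemeι y) := by
    rw [← Scheme.Hom.comp_apply, Sigma.ι_map, Scheme.Hom.comp_apply]
  constructor
  · intro hx
    obtain ⟨z, hz⟩ := (hx : _ ∈ Set.range (Sigma.ι (fun i => (P i).total) i))
    rw [h, sigmaι_eq_iff] at hz
    obtain ⟨rfl, -⟩ := Sigma.mk.injEq .. ▸ hz
    exact ⟨y, rfl⟩
  · rintro ⟨z, hz⟩
    obtain ⟨rfl, -⟩ := Sigma.mk.injEq .. ▸ (sigmaι_eq_iff _ _ _ _ _).mp hz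
    exact ⟨(P i).mod.subschemeι y, h.symm⟩

instance : IsClosedImmersion (subMap P) := by
  rw [IsZariskiLocalAtTarget.iff_of_openCover (P := @IsClosedImmersion)
    (sigmaOpenCover fun i => (P i).total)]
  intro i
  have hp := (subMap_pullback P i).flip
  change IsClosedImmersion (pullback.snd (subMap P) (Sigma.ι (fun i => (P i).total) i))
  rw [← hp.isoPullback_inv_snd]
  infer_instance

noncomputable def sumMod : (∐ fun i => (P i).total).IdealSheafData := (subMap P).ker

theorem comap_sumMod (i : σ) : (sumMod P).comap (Sigma.ι (fun i => (P i).total) i) = (P i).mod := by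
  rw [sumMod, ← ker_fst_of_isClosedImmersion, ← (subMap_pullback P i).isoPullback_inv_fst,
    Scheme.Hom.ker_comp_of_isIso, ker_subschemeι]

theorem ext_comap {I J : (∐ fun i => (P i).total).IdealSheafData}
    (h : ∀ i, I.comap (Sigma.ι (fun i => (P i).total) i) = J.comap (Sigma.ι (fun i => (P i).total) i)) :
    I = J := by
  refine ext_of_iSup_eq_top (ι := Σ i, (P i).total.affineOpens)
    (fun q => ⟨Sigma.ι (fun i => (P i).total) q.1 ''ᵁ q.2.1,
      q.2.2.image_of_isOpenImmersion (Sigma.ι (fun i => (P i).total) q.1)⟩) ?_ ?_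
  · rw [eq_top_iff]
    intro x _
    obtain ⟨⟨j, y⟩, rfl⟩ := (sigmaMk fun i => (P i).total).surjective x
    obtain ⟨U, hU, hy, -⟩ := exists_isAffineOpen_mem_and_subset (show y ∈ (⊤ : (P j).total.Opens) from trivial)
    rw [sigmaMk_mk]
    exact TopologicalSpace.Opens.mem_iSup.mpr ⟨⟨j, ⟨U, hU⟩⟩, y, hy, rfl⟩
  · rintro ⟨i, U⟩
    have e := congrArg (fun K : (P i).total.IdealSheafData => K.ideal U) (h i)
    simp only [ideal_comap_of_isOpenImmersion] at e
    exact Ideal.comap_injective_of_surjective _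
      (ConcreteCategory.bijective_of_isIso ((Sigma.ι (fun i => (P i).total) i).appIso U).inv).2 e

theorem le_of_comap_le' {I J : (∐ fun i => (P i).total).IdealSheafData}
    (h : ∀ i, I.comap (Sigma.ι (fun i => (P i).total) i) ≤ J.comap (Sigma.ι (fun i => (P i).total) i)) :
    I ≤ J := by
  rw [← sup_eq_right]
  refine ext_comap P fun i => ?_
  rw [comap_sup, sup_eq_right.2 (h i)]

theorem sumMod_isEffCartier : BlowUp.IsEffCartierIdeal (sumMod P) := by
  intro x
  obtain ⟨⟨j, y⟩, rfl⟩ := (sigmaMk fun i => (P i).total).surjective x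
  obtain ⟨U, hy, f, hf, hI⟩ := (P j).isEffCartier y
  rw [sigmaMk_mk]
  let ι := Sigma.ι (fun i => (P i).total) j
  refine ⟨⟨ι ''ᵁ U, U.2.image_of_isOpenImmersion ι⟩, ⟨y, hy, rfl⟩, (ι.appIso U).inv f, ?_, ?_⟩
  · exact (MulEquivClass.map_nonZeroDivisors (ι.appIso U).symm.commRingCatIsoToRingEquiv) ▸
      Submonoid.mem_map_of_mem _ hf
  · rw [← comap_sumMod P j, ideal_comap_of_isOpenImmersion] at hI
    have hs := (ConcreteCategory.bijective_of_isIso (ι.appIso U).inv).2
    exact (Ideal.map_comap_of_surjective (ι.appIso U).inv.hom hs _).symm.trans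
      ((congrArg (Ideal.map (ι.appIso U).inv.hom) hI).trans
        ((Ideal.map_span _ _).trans (congrArg Ideal.span Set.image_singleton)))

noncomputable def sumCofan : Cofan P :=
  Cofan.mk (⟨∐ fun i => (P i).total, sumMod P, sumMod_isEffCartier P⟩ : ModPair.Pair)
    (fun i => ⟨Sigma.ι (fun i => (P i).total) i, (comap_sumMod P i).ge⟩)

noncomputable def sumCofanIsColimit : IsColimit (sumCofan P) :=
  Cofan.IsColimit.mk _
    (fun s => ⟨Sigma.desc fun i => (s.inj i).hom, by
      refine le_of_comap_le' P fun i => ?_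
      change (sumMod P).comap _ ≤ _
      rw [comap_sumMod]
      exact (s.inj i).cond.trans (((congrArg s.pt.mod.comap
        (Sigma.ι_desc (fun i => (s.inj i).hom) i)).symm.trans
        (Scheme.IdealSheafData.comap_comp s.pt.mod (Sigma.ι (fun i => (P i).total) i)
          (Sigma.desc fun i => (s.inj i).hom))).le)⟩)
    (fun s i => ModPair.Pair.Hom.ext (Sigma.ι_desc _ _))
    (fun s m hm => ModPair.Pair.Hom.ext (Sigma.hom_ext _ _ fun i =>
      (congrArg ModPair.Pair.Hom.hom (hm i)).trans (Sigma.ι_desc (fun i => (s.inj i).hom) i).symm))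

noncomputable def sumForgetIsColimit : IsColimit (ModPair.Pair.forget.mapCocone (sumCofan P)) :=
  (isColimitMapCoconeCofanMkEquiv ModPair.Pair.forget _ _).symm
    (coproductIsCoproduct fun i => (P i).total)

end

section
open AlgebraicGeometry CategoryTheory Limits Scheme.IdealSheafData ModPair

variable {σ : Type u} {X₁ X₂ : σ → ModPair.Pair.{u}} (f : ∀ i, X₁ i ⟶ X₂ i)

theorem admBlowup_of_iso {P Q : ModPair.Pair.{u}} (e : P ≅ Q) : ModPair.Pair.admBlowup e.hom := by
  have h : e.hom.hom ≫ e.inv.hom = 𝟙 _ := congrArg ModPair.Pair.Hom.hom e.hom_inv_id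
  have h' : e.inv.hom ≫ e.hom.hom = 𝟙 _ := congrArg ModPair.Pair.Hom.hom e.inv_hom_id
  haveI : IsIso e.hom.hom := ⟨e.inv.hom, h, h'⟩
  refine ⟨le_antisymm e.hom.cond ?_, inferInstanceAs (IsProper e.hom.hom),
    IsZariskiLocalAtTarget.restrict (P := MorphismProperty.isomorphisms Scheme.{u})
      (inferInstanceAs (IsIso e.hom.hom)) _⟩
  have hc := Scheme.IdealSheafData.comap_mono e.hom.hom e.inv.cond
  simp only [← Scheme.IdealSheafData.comap_comp, h, Scheme.IdealSheafData.comap_id] at hc
  exact hc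

instance : (ModPair.Pair.admBlowup.{u}).RespectsIso :=
  haveI := Groth.Agent.S18738.result.{u}
  MorphismProperty.respectsIso_of_isStableUnderComposition fun _ _ e (_ : IsIso e) =>
    admBlowup_of_iso (asIso e)

noncomputable def sumDesc : (sumCofan X₁).pt ⟶ (sumCofan X₂).pt :=
  Cofan.IsColimit.desc (sumCofanIsColimit X₁) fun i => f i ≫ (sumCofan X₂).inj i

theorem ι_sumDesc (i : σ) :
    Sigma.ι (fun i => (X₁ i).total) i ≫ (sumDesc f).hom = (f i).hom ≫ Sigma.ι (fun i => (X₂ i).total) i :=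
  congrArg ModPair.Pair.Hom.hom (Cofan.IsColimit.fac (sumCofanIsColimit X₁) (fun i => f i ≫ (sumCofan X₂).inj i) i)

noncomputable def sumHom : (∐ fun i => (X₁ i).total) ⟶ ∐ fun i => (X₂ i).total := (sumDesc f).hom

theorem ι_sumHom (i : σ) :
    Sigma.ι (fun i => (X₁ i).total) i ≫ sumHom f = (f i).hom ≫ Sigma.ι (fun i => (X₂ i).total) i := ι_sumDesc f i

theorem sumDesc_pullback (i : σ) : IsPullback (f i).hom (Sigma.ι (fun i => (X₁ i).total) i)
    (Sigma.ι (fun i => (X₂ i).total) i) (sumHom f) := by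
  refine IsOpenImmersion.isPullback _ _ _ _ (ι_sumHom f i) ?_
  ext x
  obtain ⟨⟨j, y⟩, rfl⟩ := (sigmaMk fun i => (X₁ i).total).surjective x
  rw [sigmaMk_mk]
  have h : sumHom f (Sigma.ι (fun i => (X₁ i).total) j y) =
      Sigma.ι (fun i => (X₂ i).total) j ((f j).hom y) := by
    rw [← Scheme.Hom.comp_apply, ← Scheme.Hom.comp_apply]
    rw [ι_sumHom]
  constructor
  · intro hx
    obtain ⟨z, hz⟩ := (hx : _ ∈ Set.range (Sigma.ι (fun i => (X₂ i).total) i))
    erw [h, sigmaι_eq_iff] at hz
    obtain ⟨rfl, -⟩ := Sigma.mk.injEq .. ▸ hz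
    exact ⟨y, rfl⟩
  · rintro ⟨z, hz⟩
    obtain ⟨rfl, -⟩ := Sigma.mk.injEq .. ▸ (sigmaι_eq_iff _ _ _ _ _).mp hz
    exact ⟨(f i).hom y, h.symm⟩

theorem admBlowup_sumDesc (hf : ∀ i, ModPair.Pair.admBlowup (f i)) : ModPair.Pair.admBlowup (sumDesc f) := by
  let h : (∐ fun i => (X₁ i).total) ⟶ ∐ fun i => (X₂ i).total := sumHom f
  have sq : ∀ i, IsPullback (f i).hom (Sigma.ι (fun i => (X₁ i).total) i)
      (Sigma.ι (fun i => (X₂ i).total) i) h := sumDesc_pullback f
  refine ⟨?_, ?_, ?_⟩
  · refine ext_comap X₁ (I := sumMod X₁) (J := (sumMod X₂).comap h) fun i => ?_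
    rw [comap_sumMod, ← Scheme.IdealSheafData.comap_comp, ← (sq i).w, Scheme.IdealSheafData.comap_comp,
      comap_sumMod]
    exact (hf i).1
  · change IsProper h
    rw [IsZariskiLocalAtTarget.iff_of_openCover (P := @IsProper) (sigmaOpenCover fun i => (X₂ i).total)]
    intro i
    change IsProper (pullback.snd h (Sigma.ι (fun i => (X₂ i).total) i))
    rw [← (sq i).flip.isoPullback_inv_snd]
    haveI : IsProper (f i).hom := (hf i).2.1
    infer_instance
  · change IsIso (h ∣_ ModPair.interior (sumMod X₂))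
    refine IsZariskiLocalAtTarget.of_iSup_eq_top (P := MorphismProperty.isomorphisms Scheme.{u})
      (fun i => (ModPair.interior (sumMod X₂)).ι ⁻¹ᵁ (Sigma.ι (fun i => (X₂ i).total) i).opensRange) ?_ fun i => ?_
    · ext z
      refine ⟨fun _ => trivial, fun _ => ?_⟩
      obtain ⟨⟨j, y⟩, hy⟩ := (sigmaMk fun i => (X₂ i).total).surjective ((ModPair.interior (sumMod X₂)).ι z)
      rw [sigmaMk_mk] at hy
      exact TopologicalSpace.Opens.mem_iSup.mpr ⟨j, y, hy⟩
    · refine (MorphismProperty.arrow_mk_iso_iff (MorphismProperty.isomorphisms Scheme.{u})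
        (morphismRestrictRestrict h (ModPair.interior (sumMod X₂)) _)).mpr ?_
      change IsIso (h ∣_ _)
      let ι₂ := Sigma.ι (fun i => (X₂ i).total) i
      let V := ModPair.interior (X₂ i).mod
      have e : (ModPair.interior (sumMod X₂)).ι ''ᵁ ((ModPair.interior (sumMod X₂)).ι ⁻¹ᵁ ι₂.opensRange) =
          ι₂ ''ᵁ V := by
        change _ = ι₂ ''ᵁ ModPair.interior (X₂ i).mod
        rw [Scheme.Hom.image_preimage_eq_opensRange_inf, Scheme.Opens.opensRange_ι, ← comap_sumMod X₂ i,
          GrothLib.ModPair19.interior_comap, Scheme.Hom.image_preimage_eq_opensRange_inf, inf_comm]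
      rw [e]
      have big := (isPullback_morphismRestrict (f i).hom V).paste_vert (sq i)
      have big' : IsPullback ((f i).hom ∣_ V ≫ (ι₂.isoImage V).hom)
          (((f i).hom ⁻¹ᵁ V).ι ≫ Sigma.ι (fun i => (X₁ i).total) i) (ι₂ ''ᵁ V).ι h :=
        big.of_iso (Iso.refl _) (ι₂.isoImage V) (Iso.refl _) (Iso.refl _) (by simp) (by simp) (by simp [ι₂]) (by simp)
      haveI : IsIso ((f i).hom ∣_ V) := (hf i).2.2
      have hq := (isPullback_morphismRestrict h (ι₂ ''ᵁ V)).isoIsPullback_hom_fst _ _ big'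
      rw [← hq]
      infer_instance

theorem admBlowup_sigmaMap [HasCoproduct X₁] [HasCoproduct X₂] (hf : ∀ i, ModPair.Pair.admBlowup (f i)) :
    ModPair.Pair.admBlowup (Limits.Sigma.map f) := by
  let a := (sumCofanIsColimit X₁).coconePointUniqueUpToIso (coproductIsCoproduct X₁)
  let b := (sumCofanIsColimit X₂).coconePointUniqueUpToIso (coproductIsCoproduct X₂)
  refine (MorphismProperty.arrow_mk_iso_iff _ (Arrow.isoMk a b ?_)).1 (admBlowup_sumDesc f hf)
  refine Cofan.IsColimit.hom_ext (sumCofanIsColimit X₁) _ _ fun i => ?_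
  have ha : (sumCofan X₁).inj i ≫ a.hom = Sigma.ι X₁ i :=
    (sumCofanIsColimit X₁).comp_coconePointUniqueUpToIso_hom _ ⟨i⟩
  have hb : (sumCofan X₂).inj i ≫ b.hom = Sigma.ι X₂ i :=
    (sumCofanIsColimit X₂).comp_coconePointUniqueUpToIso_hom _ ⟨i⟩
  have hd : (sumCofan X₁).inj i ≫ sumDesc f = f i ≫ (sumCofan X₂).inj i :=
    Cofan.IsColimit.fac (sumCofanIsColimit X₁) (fun i => f i ≫ (sumCofan X₂).inj i) i
  calc (sumCofan X₁).inj i ≫ a.hom ≫ Limits.Sigma.map f
      = ((sumCofan X₁).inj i ≫ a.hom) ≫ Limits.Sigma.map f := (Category.assoc _ _ _).symm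
    _ = f i ≫ Sigma.ι X₂ i := (congrArg (· ≫ _) ha).trans (Sigma.ι_map f i)
    _ = f i ≫ (sumCofan X₂).inj i ≫ b.hom := (congrArg (f i ≫ ·) hb).symm
    _ = ((sumCofan X₁).inj i ≫ sumDesc f) ≫ b.hom := (Category.assoc _ _ _).symm.trans (congrArg (· ≫ b.hom) hd).symm
    _ = (sumCofan X₁).inj i ≫ sumDesc f ≫ b.hom := Category.assoc _ _ _

end

section
open CategoryTheory Limits Opposite

variable {C : Type*} [Category C] (W : MorphismProperty C) (J : Type*)

theorem op_isStableUnderProductsOfShape [W.IsStableUnderCoproductsOfShape J] :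
    W.op.IsStableUnderProductsOfShape J where
  condition X₁ X₂ c₁ c₂ h₁ h₂ g hg φ hφ := by
    let G := fun (X : Discrete J ⥤ Cᵒᵖ) => Discrete.functor fun j => (X.obj ⟨j⟩).unop
    let mk := fun {X : Discrete J ⥤ Cᵒᵖ} (c : Cone X) =>
      (Cofan.mk c.pt.unop fun j => (c.π.app ⟨j⟩).unop : Cocone (G X))
    have hm : ∀ {X : Discrete J ⥤ Cᵒᵖ} (c : Cone X), IsLimit c → Nonempty (IsColimit (mk c)) := fun {X} c hc =>
      ⟨Cofan.IsColimit.mk _
        (fun s => (hc.lift ⟨op s.pt, Discrete.natTrans fun j => (s.inj j.as).op⟩).unop)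
        (fun s j => Quiver.Hom.op_inj (hc.fac ⟨op s.pt, Discrete.natTrans fun j => (s.inj j.as).op⟩ ⟨j⟩))
        (fun s m hm => Quiver.Hom.op_inj (hc.hom_ext fun j =>
          (congrArg Quiver.Hom.op (hm j.as)).trans (hc.fac ⟨op s.pt, Discrete.natTrans fun j => (s.inj j.as).op⟩ j).symm))⟩
    exact MorphismProperty.IsStableUnderColimitsOfShape.condition (W := W) (G X₂) (G X₁) (mk c₂) (mk c₁)
      (hm c₂ h₂).some (hm c₁ h₁).some (Discrete.natTrans fun j => (g.app ⟨j.as⟩).unop) (fun j => hg ⟨j.as⟩) φ.unop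
      (fun j => Quiver.Hom.op_inj (hφ ⟨j.as⟩))

end


/-- The localization of the category of modulus pairs and ambient morphisms at the class of abstract
admissible blow-ups has binary coproducts, and the localization functor carries the coproduct of two
modulus pairs (the disjoint union of the total spaces with the disjoint union of the moduli) to a
coproduct. (The source also states that the interior functor detects these coproducts; that part is
not included.) -/
theorem result :
    HasBinaryCoproducts (ModPair.Pair.admBlowup.{u}).Localization ∧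
      PreservesColimitsOfShape (Discrete WalkingPair) (ModPair.Pair.admBlowup.{u}).Q := by
  haveI hC : HasColimitsOfShape (Discrete (ULift.{u} WalkingPair)) ModPair.Pair.{u} :=
    (Groth.Agent.S18747.result (ULift.{u} WalkingPair)).1
  haveI : HasBinaryCoproducts ModPair.Pair.{u} :=
    hasColimitsOfShape_of_equivalence (Discrete.equivalence Equiv.ulift)
  haveI := Groth.Agent.S18738.result.{u}
  haveI : (ModPair.Pair.admBlowup.{u}).IsStableUnderCoproductsOfShape (ULift.{u} WalkingPair) :=
    MorphismProperty.IsStableUnderCoproductsOfShape.mk _ _ fun X₁ X₂ _ _ f hf => admBlowup_sigmaMap f hf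
  haveI : (ModPair.Pair.admBlowup.{u}).IsStableUnderCoproductsOfShape WalkingPair :=
    (MorphismProperty.isStableUnderColimitsOfShape_iff_colimitsOfShape_le _ _).2
      ((MorphismProperty.colimitsOfShape_eq_of_equivalence _
        (Discrete.equivalence (Equiv.ulift.{u, 0} : ULift.{u} WalkingPair ≃ WalkingPair))).symm.trans_le
        MorphismProperty.colimitsOfShape_le)
  haveI := op_isStableUnderProductsOfShape (ModPair.Pair.admBlowup.{u}) WalkingPair
  haveI : (ModPair.Pair.admBlowup.{u}).op.ContainsIdentities := inferInstance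
  haveI : HasColimitsOfShape (Discrete WalkingPair)ᵒᵖ ModPair.Pair.{u} :=
    hasColimitsOfShape_of_equivalence (Discrete.opposite WalkingPair).symm
  haveI : HasProductsOfShape WalkingPair (ModPair.Pair.{u})ᵒᵖ := hasLimitsOfShape_op_of_hasColimitsOfShape
  haveI h₁ := Localization.hasProductsOfShape (ModPair.Pair.admBlowup.{u}).Q.op
    (ModPair.Pair.admBlowup.{u}).op WalkingPair
  haveI h₂ := Localization.preservesProductsOfShape (ModPair.Pair.admBlowup.{u}).Q.op
    (ModPair.Pair.admBlowup.{u}).op WalkingPair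
  haveI : HasLimitsOfShape (Discrete WalkingPair)ᵒᵖ (ModPair.Pair.admBlowup.{u}).Localizationᵒᵖ :=
    hasLimitsOfShape_of_equivalence (Discrete.opposite WalkingPair).symm
  haveI : PreservesLimitsOfShape (Discrete WalkingPair)ᵒᵖ (ModPair.Pair.admBlowup.{u}).Q.op :=
    preservesLimitsOfShape_of_equiv (Discrete.opposite WalkingPair).symm _
  exact ⟨hasColimitsOfShape_of_hasLimitsOfShape_op, preservesColimitsOfShape_of_op _ _⟩

end Groth.Agent.S18748
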