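import Groth.Statements.S1875
-- import your own Groth.Agent.* helpers here
import Groth.Agent.Lib.CycPush.Algebra
import Groth.Agent.Lib.LocAcyc.NoethDivide
import Mathlib.FieldTheory.PurelyInseparable.Basic
import Mathlib.RingTheory.AlgebraicIndependent.TranscendenceBasis
import Mathlib.RingTheory.AlgebraicIndependent.Adjoin
import Mathlib.RingTheory.Etale.Field
import Mathlib.RingTheory.Flat.Stability
import Mathlib.RingTheory.Ideal.GoingDown
import Mathlib.RingTheory.TensorProduct.MvPolynomial


set_option autoImplicit false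
universe u
open TensorProduct
open RelCyc

open scoped TensorProduct
namespace Groth.Agent.S1875

open TensorProduct

theorem isReduced_tensor_adjoin (k K L : Type u) [Field k] [Field K] [Field L] [Algebra k K] [Algebra k L]
    {t : Set L} (ht : AlgebraicIndependent k ((↑) : t → L)) :
    _root_.IsReduced (K ⊗[k] (IntermediateField.adjoin k (Set.range ((↑) : t → L)))) := by
  classical
  let P := MvPolynomial t k
  let F := FractionRing P
  suffices h : _root_.IsReduced (K ⊗[k] F) from isReduced_of_injective
    (Algebra.TensorProduct.congr (AlgEquiv.refl (R := k) (A₁ := K)) ht.aevalEquivField.symm)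
    (Algebra.TensorProduct.congr (AlgEquiv.refl (R := k) (A₁ := K)) ht.aevalEquivField.symm).injective
  haveI : _root_.IsReduced (K ⊗[k] P) := isReduced_of_injective
    (MvPolynomial.algebraTensorAlgEquiv (σ := t) k K) (MvPolynomial.algebraTensorAlgEquiv (σ := t) k K).injective
  let μ : K ⊗[k] P →ₐ[k] K ⊗[k] F := Algebra.TensorProduct.map (AlgHom.id k K) (IsScalarTower.toAlgHom k P F)
  have hμ : Function.Injective μ :=
    Module.Flat.lTensor_preserves_injective_linearMap (M := K) (IsScalarTower.toAlgHom k P F).toLinearMap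
      (IsFractionRing.injective P F)
  have hex : ∀ z : K ⊗[k] F, ∃ s : P, s ≠ 0 ∧ ∃ w, μ w = ((1 : K) ⊗ₜ[k] algebraMap P F s) * z := by
    intro z
    induction z using TensorProduct.induction_on with
    | zero => exact ⟨1, one_ne_zero, 0, by rw [map_zero, mul_zero]⟩
    | tmul a f =>
      obtain ⟨⟨p, ⟨s, hs⟩⟩, h⟩ := IsLocalization.surj (nonZeroDivisors P) f
      refine ⟨s, nonZeroDivisors.ne_zero hs, a ⊗ₜ p, ?_⟩
      rw [Algebra.TensorProduct.tmul_mul_tmul, one_mul, mul_comm, h]
      rfl
    | add x y hx hy =>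
      obtain ⟨s, hs, w, hw⟩ := hx
      obtain ⟨s', hs', w', hw'⟩ := hy
      refine ⟨s * s', mul_ne_zero hs hs', ((1 : K) ⊗ₜ s') * w + ((1 : K) ⊗ₜ s) * w', ?_⟩
      have h1 : ∀ r : P, μ ((1 : K) ⊗ₜ r) = (1 : K) ⊗ₜ[k] algebraMap P F r := fun r => rfl
      have h2 : (1 : K) ⊗ₜ[k] algebraMap P F (s * s') = ((1 : K) ⊗ₜ[k] algebraMap P F s) * ((1 : K) ⊗ₜ[k] algebraMap P F s') := by
        rw [Algebra.TensorProduct.tmul_mul_tmul, one_mul, map_mul]
      rw [map_add, map_mul, map_mul, hw, hw', h1, h1, h2]
      ring
  refine ⟨fun z hz => ?_⟩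
  obtain ⟨s, hs, w, hw⟩ := hex z
  have hw0 : IsNilpotent (μ w) := by
    obtain ⟨n, hn⟩ := hz
    exact ⟨n, by rw [hw, mul_pow, hn, mul_zero]⟩
  have := (IsNilpotent.map_iff hμ).1 hw0
  rw [this.eq_zero, map_zero] at hw
  have hu : IsUnit ((1 : K) ⊗ₜ[k] algebraMap P F s) :=
    (isUnit_iff_ne_zero.2 ((map_ne_zero_iff _ (IsFractionRing.injective P F)).2 hs)).map
      (Algebra.TensorProduct.includeRight : F →ₐ[k] K ⊗[k] F)
  exact hu.mul_right_eq_zero.1 hw.symm

open scoped TensorProduct in
set_option maxHeartbeats 1000000 in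
set_option synthInstance.maxHeartbeats 200000 in
theorem core {k K M L : Type u} [Field k] [Field K] [Field M] [Field L] [Algebra k K] [Algebra k M] [Algebra k L]
    [Algebra M L] [IsScalarTower k M L] [FiniteDimensional M L] [IsPurelyInseparable M L]
    [_root_.IsReduced (K ⊗[k] M)] (p : ℕ) [ExpChar k p] (q : Ideal (K ⊗[k] L)) [q.IsPrime]
    (hq : q ∈ minimalPrimes (K ⊗[k] L)) :
    ∃ n : ℕ, Module.length (Localization.AtPrime q) (Localization.AtPrime q) = (p ^ n : ℕ) := by
  classical
  let T := M ⊗[k] K
  haveI : _root_.IsReduced T :=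
    isReduced_of_injective (Algebra.TensorProduct.comm k M K) (Algebra.TensorProduct.comm k M K).injective
  haveI : ExpChar M p := expChar_of_injective_algebraMap (algebraMap k M).injective p
  obtain ⟨a, ha⟩ := IsPurelyInseparable.finrank_eq_pow M L p
  let S := T ⊗[M] L
  let e : S ≃+* K ⊗[k] L := (Algebra.TensorProduct.comm M T L).toRingEquiv.trans
    ((Algebra.TensorProduct.cancelBaseChange k M L L K).toRingEquiv.trans (Algebra.TensorProduct.comm k L K).toRingEquiv)
  let b : Module.Basis _ T S := Algebra.TensorProduct.basis T (Module.Free.chooseBasis M L)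
  haveI : Module.Free T S := Module.Free.of_basis b
  haveI : Module.Finite T S := Module.Finite.of_basis b
  let q' : Ideal S := q.comap e.toRingHom
  have hq'min : ∀ r : Ideal S, r.IsPrime → r ≤ q' → r = q' := fun r hr hle => by
    haveI := hr
    have h1 : r.comap e.symm.toRingHom ≤ q := fun x hx => by
      have h : e (e.symm x) ∈ q := hle hx
      rwa [e.apply_symm_apply] at h
    have h2 := le_antisymm h1 (hq.2 ⟨inferInstance, bot_le⟩ h1)
    ext y
    have := SetLike.ext_iff.1 h2 (e y)
    simpa [q'] using this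
  let q₀ : Ideal T := q'.comap (algebraMap T S)
  haveI : q'.LiesOver q₀ := ⟨rfl⟩
  have hq₀ : q₀ ∈ minimalPrimes T := by
    refine ⟨⟨inferInstance, bot_le⟩, fun r hr hle => ?_⟩
    haveI := hr.1
    obtain ⟨r', hle', hr', hover⟩ := Ideal.exists_ideal_le_liesOver_of_le (p := r) (q := q₀) q' hle
    rw [hq'min r' hr' hle'] at hover
    exact (Eq.le (hover.over.symm : q₀ = r))
  haveI hexpS : ExpChar S p := by
    have hinj : Function.Injective (e.symm.toRingHom.comp (algebraMap k (K ⊗[k] L))) := by
      haveI : Nontrivial (K ⊗[k] L) := ⟨0, 1, fun h => Ideal.IsPrime.ne_top (I := q) inferInstance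
        ((Ideal.eq_top_iff_one q).2 (h ▸ q.zero_mem))⟩
      exact e.symm.injective.comp (algebraMap k (K ⊗[k] L)).injective
    exact expChar_of_injective_ringHom hinj p
  have hpow : ∀ z : S, ∃ n : ℕ, z ^ p ^ n ∈ (algebraMap T S).range := fun z => by
    induction z using TensorProduct.induction_on with
    | zero =>
      refine ⟨0, 0, ?_⟩
      simp
    | tmul x l =>
      obtain ⟨n, y, hy⟩ := IsPurelyInseparable.pow_mem (F := M) p l
      refine ⟨n, algebraMap M T y * x ^ p ^ n, ?_⟩
      show ((algebraMap M T y * x ^ p ^ n) ⊗ₜ[M] (1 : L)) = _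
      rw [Algebra.TensorProduct.tmul_pow, ← Algebra.smul_def, TensorProduct.smul_tmul, Algebra.smul_def, mul_one, hy]
    | add x y hx hy =>
      obtain ⟨n, x', hx'⟩ := hx
      obtain ⟨m, y', hy'⟩ := hy
      refine ⟨n + m, x' ^ p ^ m + y' ^ p ^ n, ?_⟩
      rw [map_add, map_pow, map_pow, hx', hy', add_pow_expChar_pow, ← pow_mul, ← pow_mul, ← pow_add, ← pow_add, add_comm m n]
  let E := Localization.AtPrime q₀
  let Sq := Localization.AtPrime q'
  haveI hloc : IsLocalization (Algebra.algebraMapSubmonoid S q₀.primeCompl) Sq := by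
    refine (IsLocalization.iff_of_le_of_exists_dvd _ q'.primeCompl ?_ fun z hz => ?_).2 inferInstance
    · rintro _ ⟨y, hy, rfl⟩ h
      exact hy h
    · obtain ⟨n, y, hy⟩ := hpow z
      refine ⟨algebraMap T S y, ⟨y, fun h => ?_, rfl⟩, hy ▸ dvd_pow_self z (pow_ne_zero _ (expChar_pos k p).ne')⟩
      have h' : algebraMap T S y ∈ q' := h
      rw [hy] at h'
      exact hz ((inferInstance : q'.IsPrime).mem_of_pow_mem _ h')
  letI : Algebra E Sq := localizationAlgebra q₀.primeCompl S
  haveI : IsScalarTower T E Sq := IsScalarTower.of_algebraMap_eq fun x => by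
    rw [IsScalarTower.algebraMap_apply T S Sq x]
    exact (IsLocalization.map_eq (show q₀.primeCompl ≤ (Algebra.algebraMapSubmonoid S q₀.primeCompl).comap
      (algebraMap T S) from Submonoid.le_comap_map _) x).symm
  have hE : IsField E := by
    haveI : _root_.IsReduced E := inferInstance
    haveI : Ring.KrullDimLE 0 E := by
      refine Ring.krullDimLE_zero_iff.2 fun r hr => ?_
      have h : r.comap (algebraMap T E) ≤ q₀ := fun x hx => by
        by_contra hxq
        exact hr.ne_top (r.eq_top_of_isUnit_mem hx (IsLocalization.map_units E (⟨x, hxq⟩ : q₀.primeCompl)))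
      have h' : r.comap (algebraMap T E) = q₀ := le_antisymm h (hq₀.2 ⟨inferInstance, bot_le⟩ h)
      have : r = IsLocalRing.maximalIdeal E := by
        rw [← IsLocalization.map_comap q₀.primeCompl E r]
        exact (congrArg (Ideal.map (algebraMap T E)) h').trans Localization.AtPrime.map_eq_maximalIdeal
      rw [this]
      exact IsLocalRing.maximalIdeal.isMaximal E
    exact Ring.KrullDimLE.isField_of_isReduced (R := E)
  letI : Field E := hE.toField
  let bE := b.localizationLocalization E q₀.primeCompl Sq
  haveI : Module.Finite E Sq := Module.Finite.of_basis bE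
  have hdim : Module.finrank E Sq = p ^ a := by
    rw [Module.finrank_eq_card_basis bE, ← ha, Module.finrank_eq_card_chooseBasisIndex]
  haveI : IsArtinianRing Sq := IsArtinianRing.of_finite E Sq
  let U : Finset (PrimeSpectrum Sq) := {IsLocalRing.closedPoint Sq}
  have hm : ∀ r ∈ U, r.asIdeal.IsMaximal := fun r hr => by
    rw [Finset.mem_singleton.1 hr]; exact IsLocalRing.maximalIdeal.isMaximal Sq
  have hsupp : ∀ r ∈ Module.support Sq Sq, r ∈ U := fun r _ => Finset.mem_singleton.2 (PrimeSpectrum.ext
    (IsLocalRing.eq_maximalIdeal (IsArtinianRing.isMaximal_of_isPrime r.asIdeal)))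
  have h1 := GrothLib.CycPush.length_eq_sum_mul (A := E) (B := Sq) Sq U hm hsupp
  have h2 := GrothLib.LengthDet.length_eq_sum (A := Sq) (M := Sq) U hm hsupp
  rw [Finset.sum_singleton] at h1 h2
  rw [← h2, Module.length_eq_finrank, hdim, Module.length_eq_finrank] at h1
  have hfin : Module.length Sq Sq ≠ ⊤ := Module.length_ne_top
  obtain ⟨l, hl⟩ := ENat.ne_top_iff_exists.1 hfin
  rw [← hl, ← Nat.cast_mul, Nat.cast_inj] at h1
  have hdvd : l ∣ p ^ a := ⟨_, h1⟩
  have hp : ∃ n, l = p ^ n := by
    cases ‹ExpChar k p› with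
    | zero => exact ⟨0, by simpa using hdvd⟩
    | prime hp => obtain ⟨n, -, hn⟩ := (Nat.dvd_prime_pow hp).1 hdvd; exact ⟨n, hn⟩
  obtain ⟨n, hn⟩ := hp
  refine ⟨n, ?_⟩
  let ε : Sq ≃+* Localization.AtPrime q :=
    IsLocalization.ringEquivOfRingEquiv Sq (Localization.AtPrime q) e
      (show q'.primeCompl.map e.toMonoidHom = q.primeCompl from
        Submonoid.ext fun x => ⟨fun ⟨y, hy, h⟩ => h ▸ hy, fun hx => ⟨e.symm x, by
          show e.symm x ∉ q'
          simp only [q', Ideal.mem_comap, RingEquiv.toRingHom_eq_coe, RingEquiv.coe_toRingHom, RingEquiv.apply_symm_apply]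
          exact hx, e.apply_symm_apply x⟩⟩)
  rw [← hn, hl]
  letI := ε.toRingHom.toAlgebra
  calc Module.length (Localization.AtPrime q) (Localization.AtPrime q)
      = Module.length Sq (Localization.AtPrime q) := (Module.length_eq_of_surjective (S := Sq) (R := Localization.AtPrime q) (M := Localization.AtPrime q) ε.surjective).symm
    _ = Module.length Sq Sq := (AlgEquiv.ofRingEquiv (R := Sq) (f := ε) fun _ => rfl).toLinearEquiv.length_eq.symm

end Groth.Agent.S1875

namespace Groth.Agent.S1875

/-- Let k be a field of exponential characteristic p, K/k any field extension and L/k a finitely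
generated field extension (the function field of an integral scheme locally of finite type over k).
For every minimal prime 𝔮 of K ⊗_k L the length of the Artinian local ring (K ⊗_k L)_𝔮 — the
multiplicity of the corresponding irreducible component of the base change — is a power of p (so 1
in characteristic zero). -/
theorem result (k K L : Type u) [Field k] [Field K] [Field L] [Algebra k K] [Algebra k L] (hL : (⊤ : IntermediateField k L).FG) (p : ℕ) [ExpChar k p] (q : Ideal (K ⊗[k] L)) [q.IsPrime] (hq : q ∈ minimalPrimes (K ⊗[k] L)) : ∃ n : ℕ, Module.length (Localization.AtPrime q) (Localization.AtPrime q) = (p ^ n : ℕ) := by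
  classical
  obtain ⟨s, hs⟩ := hL
  haveI : Algebra.IsAlgebraic (Algebra.adjoin k (s : Set L)) L := by
    refine ⟨fun z => ?_⟩
    have hz : z ∈ IntermediateField.adjoin k (s : Set L) := by rw [hs]; trivial
    induction hz using IntermediateField.adjoin_induction with
    | mem x hx => exact isAlgebraic_algebraMap (⟨x, Algebra.subset_adjoin hx⟩ : Algebra.adjoin k (s : Set L))
    | algebraMap r =>
      rw [IsScalarTower.algebraMap_apply k (Algebra.adjoin k (s : Set L)) L]
      exact isAlgebraic_algebraMap _
    | add x y _ _ hx hy => exact hx.add hy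
    | inv x _ hx => exact hx.inv
    | mul x y _ _ hx hy => exact hx.mul hy
  obtain ⟨t, -, ht⟩ := exists_isTranscendenceBasis_subset (R := k) (A := L) (s : Set L)
  let F := IntermediateField.adjoin k (Set.range ((↑) : t → L))
  haveI : Algebra.IsAlgebraic F L := ht.isAlgebraic_field
  haveI : FiniteDimensional F L := by
    have htop : IntermediateField.adjoin F (s : Set L) = ⊤ := eq_top_iff.2 fun z _ => by
      have hle : IntermediateField.adjoin k (s : Set L) ≤ (IntermediateField.adjoin F (s : Set L)).restrictScalars k :=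
        IntermediateField.adjoin_le_iff.2 (IntermediateField.subset_adjoin F _)
      exact hle (hs ▸ IntermediateField.mem_top)
    haveI := IntermediateField.finiteDimensional_adjoin (K := F) (L := L) (S := (s : Set L))
      (fun x _ => Algebra.IsIntegral.isIntegral x)
    rw [htop] at this
    exact (IntermediateField.topEquiv : (⊤ : IntermediateField F L) ≃ₐ[F] L).toLinearEquiv.finiteDimensional
  let M := separableClosure F L
  haveI : Algebra.FormallyEtale F M := (Algebra.FormallyEtale.iff_isSeparable F M).2 inferInstance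
  haveI : Algebra.FinitePresentation F M := Algebra.FinitePresentation.of_finiteType.1 inferInstance
  haveI : Algebra.Etale F M := ⟨inferInstance, inferInstance⟩
  haveI := Groth.Agent.S1875.isReduced_tensor_adjoin k K L ht.1
  haveI : _root_.IsReduced (K ⊗[k] M) := GrothLib.LocAcyc.isReduced_tensor_of_etale k F M K
  haveI : IsScalarTower k M L := IsScalarTower.of_algebraMap_eq fun _ => rfl
  exact Groth.Agent.S1875.core (M := M) p q hq

end Groth.Agent.S1875
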