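import Groth.Statements.S18752
import Groth.Agent.Lib.ModLoc8.Basic
import Mathlib.CategoryTheory.Limits.Constructions.LimitsOfProductsAndEqualizers
import Mathlib.AlgebraicGeometry.Limits

set_option autoImplicit false
set_option backward.isDefEq.respectTransparency false
universe u
open CategoryTheory CategoryTheory.Limits AlgebraicGeometry TopologicalSpace
open ModPair

namespace Groth.Agent.S18752

/-- Let f : X ⟶ P and g : T ⟶ P be ambient morphisms of modulus pairs and let (Y, K), with π : Y ⟶ Y₀ ⊆
X ×_P T, be an ambient product of X and T over P: Y₀ is the scheme-theoretic image of the product of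
the interiors, π a blowing up of Y₀ in the sum of the pulled-back moduli, and K the ideal sheaf of
an effective Cartier divisor with K times the exceptional ideal equal to the product of the
pulled-back moduli, the two projections satisfying the modulus condition. Then in the localization
of the category of modulus pairs at the abstract admissible blow-ups, the square with vertex (Y, K),
sides the two projections to T and X, and g, f, is a pullback square. -/
theorem result (P T X : ModPair.Pair.{u}) (f : X ⟶ P) (g : T ⟶ P)
    {Y : Scheme.{u}} (π : Y ⟶ ModPair.mprod f.hom g.hom X.mod T.mod) (K : Y.IdealSheafData)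
    (hY : ModPair.IsAmbProd f.hom g.hom X.mod T.mod π K) (hK : BlowUp.IsEffCartierIdeal K)
    (hX : ModPair.IsAmbient K X.mod (π ≫ ModPair.mprodι f.hom g.hom X.mod T.mod ≫ pullback.fst f.hom g.hom))
    (hT : ModPair.IsAmbient K T.mod (π ≫ ModPair.mprodι f.hom g.hom X.mod T.mod ≫ pullback.snd f.hom g.hom)) :
    IsPullback
      ((ModPair.Pair.admBlowup.{u}).Q.map
        (ModPair.Pair.Hom.mk (P := ModPair.Pair.mk Y K hK) (Q := T)
          (π ≫ ModPair.mprodι f.hom g.hom X.mod T.mod ≫ pullback.snd f.hom g.hom) hT))
      ((ModPair.Pair.admBlowup.{u}).Q.map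
        (ModPair.Pair.Hom.mk (P := ModPair.Pair.mk Y K hK) (Q := X)
          (π ≫ ModPair.mprodι f.hom g.hom X.mod T.mod ≫ pullback.fst f.hom g.hom) hX))
      ((ModPair.Pair.admBlowup.{u}).Q.map g) ((ModPair.Pair.admBlowup.{u}).Q.map f) := by
  exact GrothLib.ModLoc8.isPullback f g hY hK hX hT

end Groth.Agent.S18752
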