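import Groth.Statements.S18753
import Groth.Agent.Lib.ModVal8.SemiVal

set_option autoImplicit false
universe u
open CategoryTheory CategoryTheory.Limits AlgebraicGeometry TopologicalSpace
open ModPair

namespace Groth.Agent.S18753

/-- Let O be a local ring with residue field κ, R a valuation ring of κ, A ⊆ O the subring of elements
whose residue class lies in R (the fibre product ring R ×_κ O, a semi-valuation ring), and f an
element of A such that O is the localization of A obtained by inverting f. Equip P = Spec A with the
modulus V(f), the closed subscheme cut out by f (an effective Cartier divisor: f is a unit of O, so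
a nonzerodivisor of A), whose interior is Spec O. Let q : Q ⟶ P be a proper, minimal morphism of
modulus pairs (the modulus of Q is the pull-back of V(f) and is an effective Cartier divisor) whose
restriction over the interior of P is a finite morphism. Then q is finite. -/
theorem result {O : Type u} [CommRing O]
    [IsLocalRing O] (R : ValuationSubring (IsLocalRing.ResidueField O))
    (f : ↥((R.toSubring).comap (IsLocalRing.residue O)))
    [IsLocalization.Away f O] {Q : Scheme.{u}} (IQ : Q.IdealSheafData)
    (hQ : BlowUp.IsEffCartierIdeal IQ)
    (q : Q ⟶ Spec (CommRingCat.of ↥((R.toSubring).comap (IsLocalRing.residue O))))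
    (hq : ModPair.IsMinimal IQ
      (Spec.map (CommRingCat.ofHom (Ideal.Quotient.mk (Ideal.span {f})))).ker q)
    [IsProper q]
    (hfin : IsFinite (q ∣_ ModPair.interior
      (Spec.map (CommRingCat.ofHom (Ideal.Quotient.mk (Ideal.span {f})))).ker)) :
    IsFinite q := by
  exact GrothLib.ModVal8.isFinite_semiVal R f q hQ hq hfin

end Groth.Agent.S18753
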