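import Groth.Statements.S18754
import Groth.Agent.Lib.ModLim8.Blowup
import Groth.Agent.Lib.AbsApprox.ClosedStage

set_option autoImplicit false
set_option backward.isDefEq.respectTransparency false
universe u
open CategoryTheory CategoryTheory.Limits AlgebraicGeometry TopologicalSpace
open ModPair

namespace Groth.Agent.S18754

/-- Let (Y, I_Y) be a modulus pair with Y quasi-compact and quasi-separated, and let (X_i ⟶ Y) be a
cofiltered system of Y-schemes with affine transition morphisms such that every X_i is quasi-compact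
and quasi-separated, the pulled-back ideal I_Y.comap (X_i ⟶ Y) is the ideal of an effective Cartier
divisor, and X_i ⟶ Y is an abstract admissible blow-up of modulus pairs which is locally of finite
presentation. Let X be the limit of the system over Y and suppose that X ⟶ Y, with the pulled-back
modulus (assumed effective Cartier), is also an abstract admissible blow-up. Then X ⟶ Y is locally
of finite presentation: an abstract admissible blow-up of quasi-compact quasi-separated modulus
pairs which is not of finite presentation is never a limit of finitely presented ones. -/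
theorem result {Y : Scheme.{u}}
    [CompactSpace Y] [QuasiSeparatedSpace Y] (IY : Y.IdealSheafData) (hY : BlowUp.IsEffCartierIdeal IY)
    {I : Type u} [SmallCategory I] [IsCofiltered I] (D : I ⥤ Over Y) (c : Cone D) (hc : IsLimit c)
    [∀ (i j : I) (t : i ⟶ j), IsAffineHom (D.map t).left]
    [∀ i, CompactSpace (D.obj i).left] [∀ i, QuasiSeparatedSpace (D.obj i).left]
    (hI : ∀ i, BlowUp.IsEffCartierIdeal (IY.comap (D.obj i).hom))
    (hadm : ∀ i, ModPair.IsAdmBlowup (IY.comap (D.obj i).hom) IY (D.obj i).hom)
    [∀ i, LocallyOfFinitePresentation (D.obj i).hom]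
    (hX : BlowUp.IsEffCartierIdeal (IY.comap c.pt.hom))
    (hXadm : ModPair.IsAdmBlowup (IY.comap c.pt.hom) IY c.pt.hom) :
    LocallyOfFinitePresentation c.pt.hom := by
  haveI : ∀ (i j : I) (t : i ⟶ j), IsAffineHom ((D ⋙ Over.forget Y).map t) :=
    fun i j t => inferInstanceAs (IsAffineHom (D.map t).left)
  haveI : ∀ i, CompactSpace ((D ⋙ Over.forget Y).obj i) := fun i => inferInstanceAs (CompactSpace (D.obj i).left)
  have hcF : IsLimit ((Over.forget Y).mapCone c) := isLimitOfPreserves (Over.forget Y) hc
  obtain ⟨i₀⟩ := IsCofiltered.nonempty (C := I)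
  haveI : IsProper c.pt.hom := hXadm.2.1
  haveI : LocallyOfFiniteType (𝟙 ((Over.forget Y).mapCone c).pt ≫ ((Over.forget Y).mapCone c).π.app i₀) := by
    rw [Category.id_comp]
    haveI : LocallyOfFiniteType ((c.π.app i₀).left ≫ (D.obj i₀).hom) := by
      rw [show (c.π.app i₀).left ≫ (D.obj i₀).hom = c.pt.hom from Over.w (c.π.app i₀)]; infer_instance
    exact locallyOfFiniteType_of_comp (c.π.app i₀).left (D.obj i₀).hom
  obtain ⟨k, hk⟩ := GrothLib.AbsApprox.exists_isClosedImmersion_stage (D ⋙ Over.forget Y)
    ((Over.forget Y).mapCone c) hcF (𝟙 _) i₀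
  let π := (c.π.app k).left
  haveI : IsClosedImmersion π := by
    have h := hk k (𝟙 k)
    rw [Category.id_comp] at h
    exact h
  let U := ModPair.interior IY
  haveI : IsIso ((D.obj k).hom ∣_ U) := (hadm k).2.2
  have hπ : π ≫ (D.obj k).hom = c.pt.hom := Over.w (c.π.app k)
  haveI : IsIso (π ∣_ (D.obj k).hom ⁻¹ᵁ U) := by
    have h : IsIso ((π ≫ (D.obj k).hom) ∣_ U) := by rw [hπ]; exact hXadm.2.2
    rw [morphismRestrict_comp] at h
    exact IsIso.of_isIso_comp_right (π ∣_ (D.obj k).hom ⁻¹ᵁ U) ((D.obj k).hom ∣_ U)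
  have hker : π.ker ≤ (𝟙 (D.obj k).left : _ ⟶ _).ker := by
    refine GrothLib.ModLim8.ker_le_of_isIso_restrict π ((D.obj k).hom ⁻¹ᵁ U) _ (hI k) (𝟙 _) ?_
    rw [GrothLib.ModPair19.interior_comap]
    rfl
  haveI : IsIso π := IsClosedImmersion.isIso_iff_ker_eq_bot.2 (le_bot_iff.1 (hker.trans (Scheme.Hom.ker_eq_bot _).le))
  rw [← hπ]
  infer_instance

end Groth.Agent.S18754
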