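import Groth.Statements.S18755
import Groth.Agent.Lib.ModPair19.Closure
import Groth.Agent.S18749
import Groth.Agent.Lib.BlowUp.Universal
-- import your own Groth.Agent.* helpers here

set_option autoImplicit false
universe u
open CategoryTheory CategoryTheory.Limits AlgebraicGeometry TopologicalSpace
open ModPair

namespace Groth.Agent.S18755

/-- Let (S₀, I₀), (S₁, I₁), (T, J), (X, I) be schemes with quasi-coherent ideal sheaves of effective
Cartier divisors, f : X ⟶ S₁, g : T ⟶ S₁ and σ : S₁ ⟶ S₀ morphisms satisfying the modulus condition,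
and let (Y₁, K₁) with π₁ and (Y₀, K₀) with π₀ be ambient products of (X, I) and (T, J) over S₁ and
over S₀ (the latter for f ≫ σ and g ≫ σ): blow-ups of the scheme-theoretic image of the product of
the interiors inside X ×_{S₁} T, resp. X ×_{S₀} T, in the intersection of the pulled-back moduli,
with K·E = D_X·D_T. Then the ambient product is functorial in the base: there is a unique morphism φ
: Y₁ ⟶ Y₀ compatible with the maps to X ×_{S₀} T (through the canonical X ×_{S₁} T ⟶ X ×_{S₀} T),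
and every such φ is minimal, K₁ = K₀.comap φ. -/
theorem result {S₀ S₁ T X Y₁ Y₀ : Scheme.{u}} (I₀ : S₀.IdealSheafData)
    (I₁ : S₁.IdealSheafData) (J : T.IdealSheafData) (I : X.IdealSheafData)
    (h₀ : BlowUp.IsEffCartierIdeal I₀) (h₁ : BlowUp.IsEffCartierIdeal I₁)
    (hT : BlowUp.IsEffCartierIdeal J) (hX : BlowUp.IsEffCartierIdeal I)
    (f : X ⟶ S₁) (hf : ModPair.IsAmbient I I₁ f) (g : T ⟶ S₁) (hg : ModPair.IsAmbient J I₁ g)
    (σ : S₁ ⟶ S₀) (hσ : ModPair.IsAmbient I₁ I₀ σ)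
    (π₁ : Y₁ ⟶ ModPair.mprod f g I J) (K₁ : Y₁.IdealSheafData) (hY₁ : ModPair.IsAmbProd f g I J π₁ K₁)
    (π₀ : Y₀ ⟶ ModPair.mprod (f ≫ σ) (g ≫ σ) I J) (K₀ : Y₀.IdealSheafData)
    (hY₀ : ModPair.IsAmbProd (f ≫ σ) (g ≫ σ) I J π₀ K₀) :
    (∃! φ : Y₁ ⟶ Y₀, φ ≫ π₀ ≫ ModPair.mprodι (f ≫ σ) (g ≫ σ) I J =
        π₁ ≫ ModPair.mprodι f g I J ≫ pullback.mapDesc f g σ) ∧
      ∀ φ : Y₁ ⟶ Y₀, φ ≫ π₀ ≫ ModPair.mprodι (f ≫ σ) (g ≫ σ) I J =
          π₁ ≫ ModPair.mprodι f g I J ≫ pullback.mapDesc f g σ →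
        ModPair.IsMinimal K₁ K₀ φ := by
  obtain ⟨-, a1, a2, hint⟩ := Groth.Agent.S18749.result I₁ J I h₁ hT hX f hf g hg π₁ K₁ hY₁
  have hK₁ := (Groth.Agent.S18749.result I₁ J I h₁ hT hX f hf g hg π₁ K₁ hY₁).1
  let m₁ := ModPair.mprodι f g I J
  let m₀ := ModPair.mprodι (f ≫ σ) (g ≫ σ) I J
  have hd1 : pullback.mapDesc f g σ ≫ pullback.fst (f ≫ σ) (g ≫ σ) = pullback.fst f g :=
    (pullback.lift_fst _ _ _).trans (Category.comp_id _)
  have hd2 : pullback.mapDesc f g σ ≫ pullback.snd (f ≫ σ) (g ≫ σ) = pullback.snd f g :=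
    (pullback.lift_snd _ _ _).trans (Category.comp_id _)
  let l := π₁ ≫ m₁ ≫ pullback.mapDesc f g σ
  have hl : m₀.ker ≤ l.ker := by
    rw [Scheme.IdealSheafData.ker_subschemeι]
    refine GrothLib.ModPair19.ker_le_of_interior hK₁ _ l
      ((le_inf ?_ ?_ : _ ≤ (l ⁻¹ᵁ pullback.fst (f ≫ σ) (g ≫ σ) ⁻¹ᵁ ModPair.interior I) ⊓
        (l ⁻¹ᵁ pullback.snd (f ≫ σ) (g ≫ σ) ⁻¹ᵁ ModPair.interior J)).trans (le_of_eq rfl))
    · rw [← Scheme.Hom.comp_preimage, show l ≫ pullback.fst (f ≫ σ) (g ≫ σ) = π₁ ≫ m₁ ≫ pullback.fst f g by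
        simp only [l, Category.assoc, hd1, hd2]]
      exact GrothLib.ModPair19.interior_le_of_isAmbient a1
    · rw [← Scheme.Hom.comp_preimage, show l ≫ pullback.snd (f ≫ σ) (g ≫ σ) = π₁ ≫ m₁ ≫ pullback.snd f g by
        simp only [l, Category.assoc, hd1, hd2]]
      exact GrothLib.ModPair19.interior_le_of_isAmbient a2
  have hc : IsClosedImmersion.lift m₀ l hl ≫ m₀ = l := IsClosedImmersion.lift_fac _ _ _
  let c := IsClosedImmersion.lift m₀ l hl
  have hA : (I.comap (m₀ ≫ pullback.fst (f ≫ σ) (g ≫ σ))).comap c =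
      (I.comap (m₁ ≫ pullback.fst f g)).comap π₁ := by
    rw [← Scheme.IdealSheafData.comap_comp, ← Scheme.IdealSheafData.comap_comp, reassoc_of% hc]
    simp only [l, Category.assoc, hd1, hd2]
  have hB : (J.comap (m₀ ≫ pullback.snd (f ≫ σ) (g ≫ σ))).comap c =
      (J.comap (m₁ ≫ pullback.snd f g)).comap π₁ := by
    rw [← Scheme.IdealSheafData.comap_comp, ← Scheme.IdealSheafData.comap_comp, reassoc_of% hc]
    simp only [l, Category.assoc, hd1, hd2]
  have hC : (ModPair.prodCentre (f ≫ σ) (g ≫ σ) I J).comap c = (ModPair.prodCentre f g I J).comap π₁ := by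
    rw [ModPair.prodCentre, ModPair.prodCentre, Scheme.IdealSheafData.comap_sup, Scheme.IdealSheafData.comap_sup,
      hA, hB]
  obtain ⟨φ, hφ, huniq⟩ := hY₀.1.2 Y₁ c (hC ▸ hY₁.1.1)
  refine ⟨⟨φ, ?_, fun ψ hψ => huniq ψ ?_⟩, fun ψ hψ => ?_⟩
  · change φ ≫ π₀ ≫ m₀ = l
    rw [← Category.assoc, hφ, hc]
  · change ψ ≫ π₀ = c
    rw [← cancel_mono m₀, Category.assoc, hc]
    exact hψ
  · have hψc : ψ ≫ π₀ = c := by rw [← cancel_mono m₀, Category.assoc, hc]; exact hψ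
    change K₁ = K₀.comap ψ
    refine GrothLib.RelDiv.eq_of_mul_eq_mul_left hY₁.1.1 ?_
    have h := congrArg (fun L : Y₀.IdealSheafData => L.comap ψ) hY₀.2
    simp only [GrothLib.BlowUp.comap_mul] at h
    simp only [← Scheme.IdealSheafData.comap_comp _ ψ π₀, hψc] at h
    rw [hC, hA, hB, ← hY₁.2] at h
    rw [mul_comm, ← h, mul_comm]

end Groth.Agent.S18755
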