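import Groth.Statements.S18757
import Groth.Agent.Lib.ModLoc8.Colimit

set_option autoImplicit false
set_option backward.isDefEq.respectTransparency false
universe u
open CategoryTheory CategoryTheory.Limits AlgebraicGeometry TopologicalSpace
open ModPair

namespace Groth.Agent.S18757

/-- Let S be a modulus pair whose total space is quasi-compact and quasi-separated, (X_i ⟶ S) a
cofiltered system of modulus pairs over S whose transition morphisms have affine, minimal underlying
morphisms, with every X_i quasi-compact and quasi-separated, and X ⟶ S a limit of the system in the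
category of modulus pairs over S, X quasi-compact and quasi-separated. Let Y ⟶ S be a modulus pair
over S whose structure morphism is locally of finite type, Y quasi-compact and quasi-separated, and
assume either that all transition morphisms are scheme-theoretically dominant or that Y ⟶ S is
locally of finite presentation. Let Q be the localization functor at the abstract admissible
blow-ups. Then the colimit of the sets of morphisms Q X_i ⟶ Q Y over Q S maps bijectively to the
morphisms Q X ⟶ Q Y over Q S: every such morphism factors through Q X ⟶ Q X_i for some i, and two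
morphisms Q X_i ⟶ Q Y over Q S with the same composite Q X ⟶ Q Y agree after Q X_j ⟶ Q X_i for some
j. -/
theorem result (S : ModPair.Pair.{u})
    [CompactSpace S.total] [QuasiSeparatedSpace S.total]
    {I : Type u} [SmallCategory I] [IsCofiltered I] (D : I ⥤ Over S) (c : Cone D) (hc : IsLimit c)
    [∀ (i j : I) (t : i ⟶ j), IsAffineHom (D.map t).left.hom]
    (hmin : ∀ (i j : I) (t : i ⟶ j),
      ModPair.IsMinimal (D.obj i).left.mod (D.obj j).left.mod (D.map t).left.hom)
    [∀ i, CompactSpace (D.obj i).left.total] [∀ i, QuasiSeparatedSpace (D.obj i).left.total]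
    [CompactSpace c.pt.left.total] [QuasiSeparatedSpace c.pt.left.total]
    (Y : Over S) [CompactSpace Y.left.total] [QuasiSeparatedSpace Y.left.total]
    [LocallyOfFiniteType Y.hom.hom]
    (h : (∀ (i j : I) (t : i ⟶ j), IsSchemeTheoreticallyDominant (D.map t).left.hom) ∨
      LocallyOfFinitePresentation Y.hom.hom) :
    (∀ φ : (ModPair.Pair.admBlowup.{u}).Q.obj c.pt.left ⟶ (ModPair.Pair.admBlowup.{u}).Q.obj Y.left,
        φ ≫ (ModPair.Pair.admBlowup.{u}).Q.map Y.hom = (ModPair.Pair.admBlowup.{u}).Q.map c.pt.hom →
        ∃ (i : I) (φi : (ModPair.Pair.admBlowup.{u}).Q.obj (D.obj i).left ⟶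
            (ModPair.Pair.admBlowup.{u}).Q.obj Y.left),
          φi ≫ (ModPair.Pair.admBlowup.{u}).Q.map Y.hom = (ModPair.Pair.admBlowup.{u}).Q.map (D.obj i).hom ∧
            (ModPair.Pair.admBlowup.{u}).Q.map (c.π.app i).left ≫ φi = φ) ∧
      ∀ (i : I) (φ ψ : (ModPair.Pair.admBlowup.{u}).Q.obj (D.obj i).left ⟶
          (ModPair.Pair.admBlowup.{u}).Q.obj Y.left),
        φ ≫ (ModPair.Pair.admBlowup.{u}).Q.map Y.hom = (ModPair.Pair.admBlowup.{u}).Q.map (D.obj i).hom →
        ψ ≫ (ModPair.Pair.admBlowup.{u}).Q.map Y.hom = (ModPair.Pair.admBlowup.{u}).Q.map (D.obj i).hom →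
        (ModPair.Pair.admBlowup.{u}).Q.map (c.π.app i).left ≫ φ =
            (ModPair.Pair.admBlowup.{u}).Q.map (c.π.app i).left ≫ ψ →
          ∃ (j : I) (t : j ⟶ i), (ModPair.Pair.admBlowup.{u}).Q.map (D.map t).left ≫ φ =
            (ModPair.Pair.admBlowup.{u}).Q.map (D.map t).left ≫ ψ := by
  obtain ⟨⟨hl⟩, hmod⟩ := GrothLib.ModLim8.totals_isLimit D c hc hmin
  let p : Cone (GrothLib.ModLim8.pairs D) := (Over.forget S).mapCone c
  have hP : GrothLib.ModLim8.MinSystem (GrothLib.ModLim8.pairs D) p :=
    { affine := fun i j t => inferInstanceAs (IsAffineHom (D.map t).left.hom)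
      minimal := hmin
      minimal_π := hmod
      compact := fun i => inferInstanceAs (CompactSpace (D.obj i).left.total)
      qs := fun i => inferInstanceAs (QuasiSeparatedSpace (D.obj i).left.total)
      limit := ⟨IsLimit.ofIsoLimit hl (Cone.ext (Iso.refl _) fun j => (Category.id_comp _).symm)⟩ }
  refine ⟨fun φ hφ => ?_, fun i φ ψ hφ hψ he => ?_⟩
  · exact GrothLib.ModLoc8.exists_stage_map (p := p) hP (fun j => (D.obj j).hom) (fun t => Over.w (D.map t))
      c.pt.hom (fun j => Over.w (c.π.app j)) Y.left Y.hom h φ hφ
  · exact GrothLib.ModLoc8.exists_stage_eq (p := p) hP (fun j => (D.obj j).hom) (fun t => Over.w (D.map t))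
      c.pt.hom (fun j => Over.w (c.π.app j)) Y.left Y.hom φ ψ hφ hψ he

end Groth.Agent.S18757
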