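import Groth.Statements.S18758
import Groth.Agent.S18738
import Mathlib.CategoryTheory.Localization.CalculusOfFractions
import Mathlib.CategoryTheory.Comma.Over.Basic
import Mathlib.CategoryTheory.ObjectProperty.FullSubcategory
-- import your own Groth.Agent.* helpers here

set_option autoImplicit false
universe w v u
open CategoryTheory CategoryTheory.Limits AlgebraicGeometry TopologicalSpace
open ModPair

namespace Groth.Agent.S18758

section
open CategoryTheory Limits MorphismProperty

universe w₁ w₂ z₁ z₂ r₁ r₂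

variable {C : Type w₁} [Category.{w₂} C] (W : MorphismProperty C) [W.HasRightCalculusOfFractions] (S : C)
  (P : ObjectProperty (Over S))
  (hP : ∀ ⦃Z : C⦄ (A : Over S) (s : Z ⟶ A.left), W s → P A → P (Over.mk (s ≫ A.hom)))

include hP in
theorem hasRightCalculus_over :
    ((W.inverseImage (Over.forget S)).inverseImage P.ι).HasRightCalculusOfFractions where
  id_mem X := W.id_mem X.obj.left
  comp_mem f g hf hg := W.comp_mem _ _ hf hg
  exists_rightFraction X Y φ := by
    obtain ⟨ψ, hψ⟩ := (LeftFraction.mk φ.f.hom.left φ.s.hom.left φ.hs).exists_rightFraction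
    dsimp at hψ
    let Z : P.FullSubcategory := ⟨Over.mk (ψ.s ≫ X.obj.hom), hP X.obj ψ.s ψ.hs X.property⟩
    refine ⟨RightFraction.mk (ObjectProperty.homMk (Over.homMk ψ.s rfl) : Z ⟶ X) ψ.hs
      (ObjectProperty.homMk (Over.homMk ψ.f (show ψ.f ≫ Y.obj.hom = ψ.s ≫ X.obj.hom by
        rw [← Over.w φ.s.hom, ← Over.w φ.f.hom, reassoc_of% hψ]))), ?_⟩
    exact P.hom_ext (Over.OverMorphism.ext hψ)
  ext X Y Y' f₁ f₂ s hs h := by
    obtain ⟨Z, t, ht, hte⟩ := HasRightCalculusOfFractions.ext f₁.hom.left f₂.hom.left s.hom.left hs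
      (congrArg (fun k => CommaMorphism.left (InducedCategory.Hom.hom k)) h)
    exact ⟨⟨Over.mk (t ≫ X.obj.hom), hP X.obj t ht X.property⟩, ObjectProperty.homMk (Over.homMk t rfl), ht,
      P.hom_ext (Over.OverMorphism.ext hte)⟩

variable {D : Type z₁} [Category.{z₂} D] (L : C ⥤ D) [L.IsLocalization W]
  {E : Type r₁} [Category.{r₂} E] (L' : P.FullSubcategory ⥤ E) [L'.IsLocalization ((W.inverseImage (Over.forget S)).inverseImage P.ι)]
  (Φ : E ⥤ Over (L.obj S)) (e : L' ⋙ Φ ≅ P.ι ⋙ Over.post L)

noncomputable def K {A B : P.FullSubcategory} (a : L'.obj A ⟶ L'.obj B) : L.obj A.obj.left ⟶ L.obj B.obj.left :=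
  (e.inv.app A ≫ Φ.map a ≫ e.hom.app B).left

omit [W.HasRightCalculusOfFractions] [L.IsLocalization W] [L'.IsLocalization ((W.inverseImage (Over.forget S)).inverseImage P.ι)] in
theorem K_map {A B : P.FullSubcategory} (m : A ⟶ B) : K S P L L' Φ e (L'.map m) = L.map m.hom.left := by
  have h : e.inv.app A ≫ Φ.map (L'.map m) ≫ e.hom.app B = (Over.post L).map m.hom :=
    (congrArg (e.inv.app A ≫ ·) (e.hom.naturality m)).trans (e.inv_hom_id_app_assoc A _)
  exact congrArg CommaMorphism.left h

omit [W.HasRightCalculusOfFractions] [L.IsLocalization W] [L'.IsLocalization ((W.inverseImage (Over.forget S)).inverseImage P.ι)] in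
theorem K_comp {A B B' : P.FullSubcategory} (a : L'.obj A ⟶ L'.obj B) (b : L'.obj B ⟶ L'.obj B') :
    K S P L L' Φ e (a ≫ b) = K S P L L' Φ e a ≫ K S P L L' Φ e b := by
  have h : e.inv.app A ≫ Φ.map (a ≫ b) ≫ e.hom.app B' =
      (e.inv.app A ≫ Φ.map a ≫ e.hom.app B) ≫ (e.inv.app B ≫ Φ.map b ≫ e.hom.app B') := by
    simp only [Category.assoc, Functor.map_comp]
    exact congrArg (fun k => e.inv.app A ≫ Φ.map a ≫ k) (e.hom_inv_id_app_assoc B _).symm
  exact congrArg CommaMorphism.left h

theorem map_K {A B : P.FullSubcategory} (φ : ((W.inverseImage (Over.forget S)).inverseImage P.ι).RightFraction A B) :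
    K S P L L' Φ e (φ.map L' (Localization.inverts _ _)) =
      (RightFraction.mk φ.s.hom.left φ.hs φ.f.hom.left : W.RightFraction A.obj.left B.obj.left).map L (Localization.inverts _ _) := by
  have : IsIso (L.map φ.s.hom.left) := Localization.inverts L W _ φ.hs
  rw [← cancel_epi (L.map φ.s.hom.left)]
  conv_lhs => rw [← K_map S P L L' Φ e φ.s, ← K_comp, RightFraction.map_s_comp_map, K_map]
  exact (RightFraction.map_s_comp_map (RightFraction.mk φ.s.hom.left φ.hs φ.f.hom.left : W.RightFraction A.obj.left B.obj.left) L _).symm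

include W e hP in
theorem faithful : Φ.Faithful where
  map_injective {X Y} a b h := by
    haveI := hasRightCalculus_over W S P hP
    haveI := Localization.essSurj L' ((W.inverseImage (Over.forget S)).inverseImage P.ι)
    let x := L'.objObjPreimageIso X
    let y := L'.objObjPreimageIso Y
    suffices x.hom ≫ a ≫ y.inv = x.hom ≫ b ≫ y.inv by simpa using this
    obtain ⟨φ, hφ⟩ := Localization.exists_rightFraction L' ((W.inverseImage (Over.forget S)).inverseImage P.ι) (x.hom ≫ a ≫ y.inv)
    obtain ⟨ψ, hψ⟩ := Localization.exists_rightFraction L' ((W.inverseImage (Over.forget S)).inverseImage P.ι) (x.hom ≫ b ≫ y.inv)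
    rw [hφ, hψ, RightFraction.map_eq_iff]
    have hK : K S P L L' Φ e (φ.map L' (Localization.inverts _ _)) = K S P L L' Φ e (ψ.map L' (Localization.inverts _ _)) := by
      rw [← hφ, ← hψ, K, K, Φ.map_comp, Φ.map_comp, h, ← Φ.map_comp, ← Φ.map_comp]
    rw [map_K, map_K, RightFraction.map_eq_iff] at hK
    obtain ⟨Z, t₁, t₂, hs, hf, hW⟩ := hK
    dsimp at t₁ t₂ hs hf hW
    have hp : P (Over.mk (t₁ ≫ φ.X'.obj.hom)) := by
      rw [← Over.w φ.s.hom, ← Category.assoc]
      exact hP _ _ hW (L'.objPreimage X).property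
    refine ⟨⟨_, hp⟩, ObjectProperty.homMk (Over.homMk t₁ rfl), ObjectProperty.homMk (Over.homMk t₂ ?_),
      P.hom_ext (Over.OverMorphism.ext hs), P.hom_ext (Over.OverMorphism.ext hf), hW⟩
    show t₂ ≫ ψ.X'.obj.hom = t₁ ≫ φ.X'.obj.hom
    rw [← Over.w ψ.s.hom, ← Over.w φ.s.hom, reassoc_of% hs]

include W e hP in
theorem full : Φ.Full where
  map_surjective {X Y} b := by
    haveI := hasRightCalculus_over W S P hP
    haveI := Localization.essSurj L' ((W.inverseImage (Over.forget S)).inverseImage P.ι)
    let x := L'.objObjPreimageIso X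
    let y := L'.objObjPreimageIso Y
    let A := L'.objPreimage X
    let B := L'.objPreimage Y
    let g : (Over.post L).obj A.obj ⟶ (Over.post L).obj B.obj := e.inv.app A ≫ Φ.map x.hom ≫ b ≫ Φ.map y.inv ≫ e.hom.app B
    let gl : L.obj A.obj.left ⟶ L.obj B.obj.left := g.left
    obtain ⟨φ, hφ⟩ := Localization.exists_rightFraction L W gl
    have hg : gl ≫ L.map B.obj.hom = L.map A.obj.hom := Over.w g
    have hw : L.map (φ.f ≫ B.obj.hom) = L.map (φ.s ≫ A.obj.hom) := by
      rw [L.map_comp, L.map_comp, ← RightFraction.map_s_comp_map φ L (Localization.inverts L W), ← hφ,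
        Category.assoc, hg]
    obtain ⟨Z, t, ht, hte⟩ := (map_eq_iff_precomp L W _ _).1 hw
    have hts : W (t ≫ φ.s) := W.comp_mem _ _ ht φ.hs
    let ψ : ((W.inverseImage (Over.forget S)).inverseImage P.ι).RightFraction A B :=
      RightFraction.mk (ObjectProperty.homMk (Over.homMk (t ≫ φ.s) rfl) :
          (⟨Over.mk ((t ≫ φ.s) ≫ A.obj.hom), hP A.obj _ hts A.property⟩ : P.FullSubcategory) ⟶ A) hts
        (ObjectProperty.homMk (Over.homMk (t ≫ φ.f)
          (show (t ≫ φ.f) ≫ B.obj.hom = (t ≫ φ.s) ≫ A.obj.hom by simp only [Category.assoc, hte])))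
    refine ⟨x.inv ≫ ψ.map L' (Localization.inverts _ _) ≫ y.hom, ?_⟩
    have hψ : K S P L L' Φ e (ψ.map L' (Localization.inverts _ _)) = gl := by
      rw [map_K, hφ]
      haveI := Localization.inverts L W _ hts
      rw [← cancel_epi (L.map (t ≫ φ.s))]
      refine (RightFraction.map_s_comp_map (RightFraction.mk (t ≫ φ.s) hts (t ≫ φ.f)) L _).trans ?_
      rw [L.map_comp, L.map_comp, Category.assoc, RightFraction.map_s_comp_map]
    have h2 : e.inv.app A ≫ Φ.map (ψ.map L' (Localization.inverts _ _)) ≫ e.hom.app B = g :=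
      Over.OverMorphism.ext hψ
    rw [cancel_epi, ← Category.assoc, ← Category.assoc (Φ.map x.hom ≫ b), cancel_mono] at h2
    rw [Functor.map_comp, Functor.map_comp, h2]
    simp only [Category.assoc, ← Functor.map_comp_assoc, Iso.inv_hom_id]
    simp [← Functor.map_comp]

end


/-- Let S be a modulus pair and PSch_S the full subcategory of the slice category of modulus pairs over
S on the objects whose structure morphism is of finite type (locally of finite type and
quasi-compact); let Σ_ft be the class of morphisms of PSch_S whose underlying morphism of modulus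
pairs is an abstract admissible blow-up, and Q the localization functor of modulus pairs at all
abstract admissible blow-ups. Then the canonical functor from the localization of PSch_S at Σ_ft to
the slice category over Q S is fully faithful, so that it identifies the localization with the full
subcategory MSch_S of objects isomorphic to finite type ones: for every localization functor L' of
PSch_S at Σ_ft and every functor Φ to the slice over Q S through which the inclusion followed by Q
on slices factors up to isomorphism, Φ is full and faithful. -/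
theorem result (S : ModPair.Pair.{u})
    {E : Type v} [Category.{w} E]
    (L' : (ObjectProperty.FullSubcategory
        ((fun X : Over S => LocallyOfFiniteType X.hom.hom ∧ QuasiCompact X.hom.hom) :
          ObjectProperty (Over S))) ⥤ E)
    [L'.IsLocalization ((((ModPair.Pair.admBlowup.{u}).inverseImage (Over.forget S)).inverseImage
      (ObjectProperty.ι ((fun X : Over S => LocallyOfFiniteType X.hom.hom ∧ QuasiCompact X.hom.hom) :
          ObjectProperty (Over S)))))]
    (Φ : E ⥤ Over ((ModPair.Pair.admBlowup.{u}).Q.obj S))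
    (e : L' ⋙ Φ ≅ ObjectProperty.ι ((fun X : Over S => LocallyOfFiniteType X.hom.hom ∧ QuasiCompact X.hom.hom) :
          ObjectProperty (Over S)) ⋙ Over.post (ModPair.Pair.admBlowup.{u}).Q) :
    Φ.Full ∧ Φ.Faithful := by
  haveI := Groth.Agent.S18738.result.{u}
  have hP : ∀ ⦃Z : ModPair.Pair.{u}⦄ (A : Over S) (s : Z ⟶ A.left), ModPair.Pair.admBlowup s →
      (LocallyOfFiniteType A.hom.hom ∧ QuasiCompact A.hom.hom) →
      (LocallyOfFiniteType (Over.mk (s ≫ A.hom)).hom.hom ∧ QuasiCompact (Over.mk (s ≫ A.hom)).hom.hom) := by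
    rintro Z A s hs ⟨h₁, h₂⟩
    haveI : IsProper s.hom := hs.2.1
    exact ⟨inferInstanceAs (LocallyOfFiniteType (s.hom ≫ A.hom.hom)), inferInstanceAs (QuasiCompact (s.hom ≫ A.hom.hom))⟩
  exact ⟨full (ModPair.Pair.admBlowup.{u}) S _ hP _ L' Φ e, faithful (ModPair.Pair.admBlowup.{u}) S _ hP _ L' Φ e⟩

end Groth.Agent.S18758
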