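import Groth.Statements.S18761
import Groth.Agent.Lib.FEt21.Degree
import Groth.Agent.Lib.EssFree.Subgroup
import Groth.Agent.Lib.FinCov.Frame
import Mathlib.AlgebraicGeometry.AlgClosed.Basic

set_option autoImplicit false
universe u
open CategoryTheory MonoidalCategory CartesianMonoidalCategory MonObj GrpObj AlgebraicGeometry
open AlgGrp

namespace Groth.Agent.S18761


open CategoryTheory.Limits
open scoped TensorProduct

attribute [local instance] Module.free_of_flat_of_isLocalRing in
theorem bijective_of_surjective_of_rank_le {A : Type*} [CommRing A] {M N : Type*} [AddCommGroup M] [Module A M]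
    [Module.Finite A M] [Module.Flat A M] [AddCommGroup N] [Module A N] [Module.Finite A N] [Module.Flat A N]
    {φ : M →ₗ[A] N} (hs : Function.Surjective φ)
    (h : ∀ p : PrimeSpectrum A, Module.rankAtStalk M p ≤ Module.rankAtStalk N p) : Function.Bijective φ :=
  bijective_of_localized_maximal φ fun m _ ↦
    OrzechProperty.bijective_of_surjective_of_finrank_le (LocalizedModule.map m.primeCompl φ)
      (LocalizedModule.map_surjective m.primeCompl φ hs) (h ⟨m, inferInstance⟩)

/-- A closed immersion of finite flat schemes over `S` is an isomorphism if the rank of the ambient one is not bigger. -/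
theorem isIso_of_rank {S X Y : Scheme.{u}} [Nonempty S] (g : Y ⟶ S) (c : X ⟶ Y) [IsClosedImmersion c]
    [IsFinite (c ≫ g)] [Flat (c ≫ g)] [IsFinite g] [Flat g] (m d : ℕ)
    (hE : FlatMod.IsFinLocFreeOfRank m ((Coh.push (c ≫ g)).obj (Coh.structureModule X)))
    (hd : ∀ y, g.finrank y = d) (hdm : d ≤ m) : IsIso c ∧ d = m := by
  classical
  have key : ∀ x : S, ∃ U : S.Opens, IsAffineOpen U ∧ x ∈ U ∧ Function.Injective (c.app (g ⁻¹ᵁ U)) ∧ d = m := by
    intro x
    obtain ⟨U₀, e, hx₀, he⟩ := GrothLib.FinCov.exists_frame_nhd_of_rank hE x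
    obtain ⟨_, ⟨U, hU, rfl⟩, hxU, hUU⟩ :=
      S.isBasis_affineOpens.exists_subset_of_mem_open (SetLike.mem_coe.2 hx₀) U₀.2
    replace hU : IsAffineOpen U := hU
    refine ⟨U, hU, hxU, ?_⟩
    letI := (g.app U).hom.toAlgebra
    letI := ((c ≫ g).app U).hom.toAlgebra
    let p := hU.primeIdealOf ⟨x, hxU⟩
    haveI : Nontrivial Γ(S, U) := PrimeSpectrum.nonempty_iff_nontrivial.1 ⟨p⟩
    let b₀ := he.basis U hUU
    let E : Γ((Coh.push (c ≫ g)).obj (Coh.structureModule X), U) ≃ₗ[Γ(S, U)] Γ(X, (c ≫ g) ⁻¹ᵁ U) :=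
      { toFun := fun z => z
        invFun := fun z => z
        map_add' := fun _ _ => rfl
        map_smul' := fun _ _ => rfl
        left_inv := fun _ => rfl
        right_inv := fun _ => rfl }
    let b := b₀.map E
    haveI : Module.Free Γ(S, U) Γ(X, (c ≫ g) ⁻¹ᵁ U) := Module.Free.of_basis b
    haveI : Module.Finite Γ(S, U) Γ(X, (c ≫ g) ⁻¹ᵁ U) := Module.Finite.of_basis b
    haveI : Module.Finite Γ(S, U) Γ(Y, g ⁻¹ᵁ U) := g.finite_app U hU
    haveI : Module.Flat Γ(S, U) Γ(Y, g ⁻¹ᵁ U) := by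
      have := g.flat_appLE hU (hU.preimage g) le_rfl
      rwa [← Scheme.Hom.app_eq_appLE] at this
    let φ : Γ(Y, g ⁻¹ᵁ U) →ₗ[Γ(S, U)] Γ(X, (c ≫ g) ⁻¹ᵁ U) :=
      ({ (c.app (g ⁻¹ᵁ U)).hom with commutes' := fun _ => rfl } :
        Γ(Y, g ⁻¹ᵁ U) →ₐ[Γ(S, U)] Γ(X, (c ≫ g) ⁻¹ᵁ U)).toLinearMap
    have hs : Function.Surjective φ := c.app_surjective _ (hU.preimage g)
    have hX : ∀ q : PrimeSpectrum Γ(S, U), Module.rankAtStalk Γ(X, (c ≫ g) ⁻¹ᵁ U) q = m := fun q =>
      (congrFun (Module.rankAtStalk_eq_finrank_of_free (R := Γ(S, U)) (M := Γ(X, (c ≫ g) ⁻¹ᵁ U))) q).trans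
        ((Module.finrank_eq_card_basis b).trans (Fintype.card_fin m))
    have hY : ∀ q : PrimeSpectrum Γ(S, U), Module.rankAtStalk Γ(Y, g ⁻¹ᵁ U) q = d := fun q =>
      (GrothLib.FEt21.finrank_eq_finrank g hU q).symm.trans (hd _)
    have hbij := bijective_of_surjective_of_rank_le hs fun q => by rw [hX, hY]; exact hdm
    refine ⟨hbij.1, ?_⟩
    rw [← hY p, ← hX p, Module.rankAtStalk_eq_of_equiv (LinearEquiv.ofBijective φ hbij)]
  choose U hU hxU hinj hdm' using key
  refine ⟨IsClosedImmersion.isIso_iff_ker_eq_bot.2 ?_, hdm' (Classical.arbitrary S)⟩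
  refine Scheme.IdealSheafData.ext_of_iSup_eq_top (fun x : S => ⟨g ⁻¹ᵁ U x, (hU x).preimage g⟩) ?_ fun x => ?_
  · refine top_le_iff.1 fun y _ => ?_
    exact TopologicalSpace.Opens.mem_iSup.2 ⟨g y, hxU (g y)⟩
  · rw [c.ker_apply]
    simpa [← RingHom.injective_iff_ker_eq_bot] using hinj x

theorem one_le_rank {S X : Scheme.{u}} [Nonempty S] (f : X ⟶ S) [Surjective f] (m : ℕ)
    (hE : FlatMod.IsFinLocFreeOfRank m ((Coh.push f).obj (Coh.structureModule X))) : 1 ≤ m := by
  obtain ⟨x⟩ := ‹Nonempty S›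
  obtain ⟨U, e, hx, he⟩ := GrothLib.FinCov.exists_frame_nhd_of_rank hE x
  obtain ⟨y, hy⟩ := f.surjective x
  haveI : Nonempty ↥(f ⁻¹ᵁ U) := ⟨⟨y, show f y ∈ U from hy ▸ hx⟩⟩
  by_contra h
  obtain rfl : m = 0 := by omega
  have h2 : Subsingleton Γ((Coh.push f).obj (Coh.structureModule X), U) :=
    (he.basis U le_rfl).equivFun.toEquiv.subsingleton
  exact one_ne_zero (α := Γ(X, f ⁻¹ᵁ U)) (@Subsingleton.elim _ h2 _ _)

theorem finrank_H0 {k : Type u} [Field k] {S X : Scheme.{u}} [S.Over (Spec (CommRingCat.of k))] (f : X ⟶ S) :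
    letI : Algebra k Γ(X, ⊤) :=
      ((Scheme.ΓSpecIso (CommRingCat.of k)).inv ≫ (f ≫ (S ↘ Spec (CommRingCat.of k))).appTop).hom.toAlgebra
    Module.finrank k (Coh.HH S ((Coh.push f).obj (Coh.structureModule X)) 0) = Module.finrank k Γ(X, ⊤) := by
  letI : Algebra k Γ(X, ⊤) :=
    ((Scheme.ΓSpecIso (CommRingCat.of k)).inv ≫ (f ≫ (S ↘ Spec (CommRingCat.of k))).appTop).hom.toAlgebra
  let M := (Coh.push f).obj (Coh.structureModule X)
  let e₀' : Coh.HH S M 0 ≃+ Γ(X, ⊤) :=
    Sheaf.H.equiv₀ (Coh.toAb M) (T := (⊤ : S.Opens)) Limits.isTerminalTop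
  let e₀ : Coh.HH S M 0 ≃ₗ[k] Γ(X, ⊤) :=
    e₀'.toLinearEquiv fun a x => by
      let r := Coh.toGlobal (S ↘ Spec (CommRingCat.of k)) a
      refine ((Sheaf.H.equiv₀_naturality Limits.isTerminalTop (Coh.smulAb M r) x).symm.trans
        ((Coh.smulAb_app _ _ (Opposite.op ⊤) _).trans ?_))
      have e2 : Coh.resTop S (Opposite.op ⊤) r = r := by
        show (S.ringCatSheaf.obj.map (𝟙 _)).hom _ = _
        rw [CategoryTheory.Functor.map_id]; rfl
      rw [e2]
      rfl
  exact e₀.finrank_eq

/-- A point of `X` defined over `k`, once it lifts after a base change with a section, lifts. -/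
theorem lift_of_bc {k : Type u} [Field k] {S : Scheme.{u}} (π : S ⟶ Spec (CommRingCat.of k))
    (s : Spec (CommRingCat.of k) ⟶ S) (hs : s ≫ π = 𝟙 _) {T Z G : Over (Spec (CommRingCat.of k))} (z : Z ⟶ G)
    (x : T ⟶ G) (y : Red.bc π T ⟶ Red.bc π Z) (hy : y ≫ (Over.pullback π).map z = (Over.pullback π).map x) :
    ∃ w : T ⟶ Z, w ≫ z = x := by
  let sT : T.left ⟶ (Red.bc π T).left := pullback.lift (𝟙 T.left) (T.hom ≫ s) (by
    rw [Category.id_comp, Category.assoc, hs, Category.comp_id])
  let w₀ : T.left ⟶ Z.left := sT ≫ y.left ≫ pullback.fst Z.hom π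
  have h1 : w₀ ≫ z.left = x.left := by
    have h2 : y.left ≫ pullback.fst Z.hom π ≫ z.left = pullback.fst T.hom π ≫ x.left := by
      have h3 := congr($(hy).left ≫ pullback.fst G.hom π)
      simp only [Over.comp_left, Over.pullback_map_left, Category.assoc] at h3
      erw [pullback.lift_fst, pullback.lift_fst] at h3
      exact h3
    calc w₀ ≫ z.left = sT ≫ (y.left ≫ pullback.fst Z.hom π ≫ z.left) := by simp [w₀]
      _ = x.left := by rw [h2]; exact pullback.lift_fst_assoc .. |>.trans (Category.id_comp _)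
  refine ⟨Over.homMk w₀ ?_, Over.OverMorphism.ext h1⟩
  rw [← Over.w z, reassoc_of% h1, Over.w x]


/-- Let k be an algebraically closed field, S a smooth, proper and integral curve over k (integral,
smooth and proper over k of dimension one), G a finite group scheme over k, and H a closed subgroup
scheme of the base change G_S = G ×_k S whose structure morphism H → S is faithfully flat, such that
the direct image of O_H on S is locally free of rank m and its space of global sections, that is
Γ(H, O_H), has dimension exactly m over k. Then H descends to k: there are a group scheme H' over k,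
a homomorphism H' → G which is a closed immersion, and an isomorphism of S-group schemes H ≅ H' ×_k
S carrying the inclusion of H into G_S to the base change of H' → G; moreover the induced ring map
Γ(H', O) → Γ(H, O_H) is bijective, so that H' is the spectrum of Γ(H, O_H). -/
theorem result
    (k : Type u) [Field k] [IsAlgClosed k] (S : Scheme.{u}) [S.Over (Spec (CommRingCat.of k))]
    [IsIntegral S] [IsProper (S ↘ Spec (CommRingCat.of k))] [Smooth (S ↘ Spec (CommRingCat.of k))]
    (hdim : topologicalKrullDim S = 1)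
    (G : Over (Spec (CommRingCat.of k))) [GrpObj G] [IsFinite G.hom]
    (H : Over S) [GrpObj H] (i : H ⟶ Red.bc (S ↘ Spec (CommRingCat.of k)) G) [IsMonHom i]
    [IsClosedImmersion i.left] [Flat H.hom] [Surjective H.hom] (m : ℕ)
    (hE : FlatMod.IsFinLocFreeOfRank m ((Coh.push H.hom).obj (Coh.structureModule H.left)))
    (hh0 : Module.finrank k (Coh.HH S ((Coh.push H.hom).obj (Coh.structureModule H.left)) 0) = m) :
    ∃ (H' : Grp (Over (Spec (CommRingCat.of k)))) (j : H'.X ⟶ G), IsMonHom j ∧ IsClosedImmersion j.left ∧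
      ∃ e : H ≅ Red.bc (S ↘ Spec (CommRingCat.of k)) H'.X, IsMonHom e.hom ∧
        e.hom ≫ (Over.pullback (S ↘ Spec (CommRingCat.of k))).map j = i ∧
        Function.Bijective (e.hom.left ≫ Limits.pullback.fst H'.X.hom (S ↘ Spec (CommRingCat.of k))).appTop.hom := by
  let π := S ↘ Spec (CommRingCat.of k)
  haveI : Nonempty S := inferInstance
  haveI : IsAffine G.left := isAffine_of_isAffineHom G.hom
  let R := Γ(G.left, ⊤)
  letI algR : Algebra k R := ((Scheme.ΓSpecIso (CommRingCat.of k)).inv ≫ G.hom.appTop).hom.toAlgebra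
  letI algH : Algebra k Γ(H.left, ⊤) :=
    ((Scheme.ΓSpecIso (CommRingCat.of k)).inv ≫ (H.hom ≫ π).appTop).hom.toAlgebra
  haveI : Module.Finite k R := by
    change RingHom.Finite ((Scheme.ΓSpecIso (CommRingCat.of k)).inv ≫ G.hom.appTop).hom
    exact RingHom.Finite.comp G.hom.finite_appTop (RingHom.Finite.of_surjective _
      (ConcreteCategory.bijective_of_isIso (Scheme.ΓSpecIso (CommRingCat.of k)).inv).surjective)
  let a : H.left ⟶ G.left := i.left ≫ pullback.fst G.hom π
  have hwi : i.left ≫ pullback.snd G.hom π = H.hom := Over.w i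
  have ha : a ≫ G.hom = H.hom ≫ π := by
    simp only [a, Category.assoc, pullback.condition]
    rw [reassoc_of% hwi]
  let φ : R →ₐ[k] Γ(H.left, ⊤) :=
    { a.appTop.hom with
      commutes' := fun r => by
        show (((Scheme.ΓSpecIso (CommRingCat.of k)).inv ≫ G.hom.appTop) ≫ a.appTop).hom r = _
        rw [Category.assoc, ← Scheme.Hom.comp_appTop, ha]
        rfl }
  let W := R ⧸ RingHom.ker φ
  let ψ : W →ₐ[k] Γ(H.left, ⊤) := Ideal.kerLiftAlg φ
  have hψ : Function.Injective ψ := Ideal.kerLiftAlg_injective φ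
  have hm : 1 ≤ m := one_le_rank H.hom m hE
  have hfin : Module.finrank k Γ(H.left, ⊤) = m := (finrank_H0 H.hom).symm.trans hh0
  haveI : Module.Finite k Γ(H.left, ⊤) := Module.finite_of_finrank_pos (by omega)
  have hWm : Module.finrank k W ≤ m := hfin ▸ LinearMap.finrank_le_finrank_of_injective (f := ψ.toLinearMap) hψ
  let Z : Over (Spec (CommRingCat.of k)) := Over.mk (Spec.map (CommRingCat.ofHom (algebraMap k W)))
  let zι : Z.left ⟶ G.left := Spec.map (CommRingCat.ofHom (Ideal.Quotient.mk (RingHom.ker φ))) ≫ G.left.isoSpec.inv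
  have hGhom : G.hom = G.left.toSpecΓ ≫ Spec.map (CommRingCat.ofHom (algebraMap k R)) := by
    show G.hom = G.left.toSpecΓ ≫ Spec.map ((Scheme.ΓSpecIso (CommRingCat.of k)).inv ≫ G.hom.appTop)
    rw [Spec.map_comp, ← Scheme.toSpecΓ_naturality_assoc]
    simp
  have hzw : zι ≫ G.hom = Z.hom := by
    rw [hGhom]
    simp only [zι, Category.assoc, Scheme.isoSpec_inv_toSpecΓ_assoc, ← Spec.map_comp]
    rfl
  let zG : Z ⟶ G := Over.homMk zι hzw
  haveI : IsClosedImmersion zG.left := by
    haveI : IsClosedImmersion (Spec.map (CommRingCat.ofHom (Ideal.Quotient.mk (RingHom.ker φ)))) :=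
      IsClosedImmersion.spec_of_surjective _ Ideal.Quotient.mk_surjective
    show IsClosedImmersion (_ ≫ _)
    infer_instance
  haveI : Mono zG := Over.mono_of_mono_left zG
  haveI : IsFinite Z.hom := by
    rw [← hzw]; infer_instance
  haveI : Flat Z.hom := Flat.SpecMap_iff.2 (RingHom.flat_algebraMap_iff.2 inferInstance)
  let a₂ : H.left ⟶ Z.left := H.left.toSpecΓ ≫ Spec.map (CommRingCat.ofHom ψ.toRingHom)
  have ha₂ : a₂ ≫ zι = a := by
    have h1 : CommRingCat.ofHom (Ideal.Quotient.mk (RingHom.ker φ)) ≫ CommRingCat.ofHom ψ.toRingHom = a.appTop :=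
      CommRingCat.hom_ext (RingHom.ext fun _ => rfl)
    simp only [a₂, zι, Category.assoc, ← Spec.map_comp_assoc, h1]
    rw [← Scheme.toSpecΓ_naturality_assoc]
    simp
  let c : H ⟶ Red.bc π Z := Over.homMk (pullback.lift a₂ H.hom (by rw [← hzw, reassoc_of% ha₂, ha]))
    (pullback.lift_snd _ _ _)
  let zS := (Over.pullback π).map zG
  have hc : c ≫ zS = i := by
    refine Over.OverMorphism.ext (pullback.hom_ext ?_ ?_)
    · simp only [c, zS, zG, Over.comp_left, Over.homMk_left, Over.pullback_map_left, Category.assoc]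
      erw [pullback.lift_fst, pullback.lift_fst_assoc]
      exact ha₂
    · simp only [c, zS, Over.comp_left, Over.homMk_left, Over.pullback_map_left, Category.assoc]
      erw [pullback.lift_snd, pullback.lift_snd]
      exact hwi.symm
  haveI : IsClosedImmersion zS.left := by
    have hsq : IsPullback zS.left (pullback.fst Z.hom π) (pullback.fst G.hom π) zG.left :=
      IsPullback.of_right (h₁₂ := (Red.bc π G).hom) (v₁₃ := π) (h₂₂ := G.hom)
        (by rw [Over.w zS, Over.w zG]; exact (IsPullback.of_hasPullback _ _).flip)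
        (by simp only [zS, Over.pullback_map_left]; exact pullback.lift_fst _ _ _) (IsPullback.of_hasPullback _ _).flip
    exact MorphismProperty.of_isPullback hsq.flip inferInstance
  haveI : Mono zS := Over.mono_of_mono_left zS
  haveI : IsClosedImmersion c.left := by
    haveI : IsClosedImmersion (c.left ≫ zS.left) := by rw [← Over.comp_left, hc]; infer_instance
    exact IsClosedImmersion.of_comp c.left zS.left
  let g : (Red.bc π Z).left ⟶ S := pullback.snd Z.hom π
  have hcg : c.left ≫ g = H.hom := Over.w c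
  haveI : IsFinite (pullback.snd G.hom π) := MorphismProperty.pullback_snd _ _ inferInstance
  haveI : IsFinite H.hom := by rw [← hwi]; infer_instance
  haveI : IsFinite g := MorphismProperty.pullback_snd _ _ inferInstance
  haveI : Flat g := MorphismProperty.pullback_snd _ _ inferInstance
  haveI : IsFinite (c.left ≫ g) := by rw [hcg]; infer_instance
  haveI : Flat (c.left ≫ g) := by rw [hcg]; infer_instance
  have hd : ∀ y, g.finrank y = Module.finrank k W := fun y => by
    rw [Scheme.Hom.finrank_pullback_snd]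
    show Scheme.Hom.finrank (Spec.map (CommRingCat.ofHom (algebraMap k W))) _ = _
    rw [Scheme.Hom.finrank_SpecMap_algebraMap, Module.rankAtStalk_eq_finrank_of_free]
    rfl
  obtain ⟨hci, hdm⟩ := isIso_of_rank g c.left m _ (by rw [hcg]; exact hE) hd hWm
  haveI : IsIso c := by
    haveI : IsIso ((Over.forget _).map c) := hci
    exact isIso_of_reflects_iso c (Over.forget _)
  haveI : JacobsonSpace S := LocallyOfFiniteType.jacobsonSpace π
  obtain ⟨x₀, -, hx₀⟩ := nonempty_inter_closedPoints (Z := (Set.univ : Set S)) Set.univ_nonempty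
    isOpen_univ.isLocallyClosed
  obtain ⟨s, hs⟩ := (pointEquivClosedPoint π).symm ⟨x₀, hx₀⟩
  have hlift : ∀ {T : Over (Spec (CommRingCat.of k))} (x : T ⟶ G) (h : Red.bc π T ⟶ H),
      h ≫ i = (Over.pullback π).map x → ∃ w : T ⟶ Z, w ≫ zG = x := fun {T} x h hh =>
    lift_of_bc π s hs zG x (h ≫ c) (by rw [Category.assoc, hc, hh])
  have hpre : ∀ {T : Over (Spec (CommRingCat.of k))} (z : T ⟶ Z),
      ((Over.pullback π).map z ≫ inv c) ≫ i = (Over.pullback π).map (z ≫ zG) := fun {T} z => by
    rw [Category.assoc, ← hc, IsIso.inv_hom_id_assoc, Functor.map_comp]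
  obtain ⟨_, _⟩ := GrothLib.EssFree.exists_grpObj_of_mono zG
    (fun T => hlift 1 1 (by rw [MonObj.one_comp, Functor.map_one]))
    (fun T u v => hlift _ ((((Over.pullback π).map u ≫ inv c)) * ((Over.pullback π).map v ≫ inv c))
      (by rw [MonObj.mul_comp, hpre, hpre, Functor.map_mul]))
    (fun T u => hlift _ ((Over.pullback π).map u ≫ inv c)⁻¹
      (by rw [GrpObj.inv_comp, hpre, Functor.map_inv']))
  haveI : IsMonHom zS := inferInstanceAs (IsMonHom ((Over.pullback π).map zG))
  haveI : IsMonHom c :=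
    { one_hom := by rw [← cancel_mono zS, Category.assoc, hc, IsMonHom.one_hom, IsMonHom.one_hom]
      mul_hom := by
        rw [← cancel_mono zS, Category.assoc, hc, IsMonHom.mul_hom, Category.assoc, IsMonHom.mul_hom,
          ← Category.assoc, tensorHom_comp_tensorHom, hc] }
  refine ⟨Grp.mk Z, zG, inferInstance, inferInstance, asIso c, inferInstanceAs (IsMonHom c), hc, ?_⟩
  have hbij : Function.Bijective ψ := ⟨hψ,
    (LinearMap.injective_iff_surjective_of_finrank_eq_finrank (f := ψ.toLinearMap) (hdm.trans hfin.symm)).1 hψ⟩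
  show Function.Bijective (c.left ≫ pullback.fst Z.hom π).appTop.hom
  have hc2 : c.left ≫ pullback.fst Z.hom π = a₂ := pullback.lift_fst _ _ _
  rw [hc2]
  simp only [a₂, Scheme.Hom.comp_appTop, Scheme.toSpecΓ_appTop]
  rw [Scheme.ΓSpecIso_naturality]
  exact hbij.comp (ConcreteCategory.bijective_of_isIso (Scheme.ΓSpecIso (CommRingCat.of W)).hom)


end Groth.Agent.S18761
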