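import Groth.Statements.S18763
import Groth.Agent.Lib.GrpSchField.Points
import Groth.Agent.Lib.GrpSchField.Shear
import Mathlib.AlgebraicGeometry.Sites.Fpqc
import Mathlib.AlgebraicGeometry.Morphisms.Flat
-- import your own Groth.Agent.* helpers here

set_option autoImplicit false
universe u
open CategoryTheory CategoryTheory.Limits MonoidalCategory CartesianMonoidalCategory MonObj GrpObj AlgebraicGeometry
open AlgGrp

namespace Groth.Agent.S18763

/-- Points of the base of an fppf-locally trivial family lift after an epimorphism. -/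
theorem exists_epi_lift {S : Scheme.{u}} {G Q : Over S} (π : G ⟶ Q)
    (h : NonAbH1.IsLocallyTrivialFor Scheme.fppfPrecoverage (Over.mk π.left : Over Q.left))
    {T : Over S} (q : T ⟶ Q) :
    ∃ (T' : Over S) (c : T' ⟶ T) (g : T' ⟶ G), Epi c ∧ g ≫ π = c ≫ q := by
  obtain ⟨R, hR, hsec⟩ := h
  obtain ⟨ι', X, f, rfl⟩ := Presieve.exists_eq_ofArrows R
  obtain ⟨hsurj, hP⟩ := (Scheme.ofArrows_mem_precoverage_iff _).mp hR
  choose j hj using fun t : T.left => hsurj (q.left t)
  choose s hs using fun i => hsec (f i) (Presieve.ofArrows.mk i)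
  let P : T.left → Scheme.{u} := fun t => Limits.pullback q.left (f (j t))
  let p : ∀ t, P t ⟶ T.left := fun t => Limits.pullback.fst _ _
  let c : (∐ P) ⟶ T.left := Limits.Sigma.desc p
  let g : (∐ P) ⟶ G.left := Limits.Sigma.desc fun t => Limits.pullback.snd _ _ ≫ s (j t)
  have hc : g ≫ π.left = c ≫ q.left := by
    apply Limits.Sigma.hom_ext
    intro t
    simp only [g, c, p, Limits.Sigma.ι_desc_assoc, Category.assoc]
    rw [Limits.pullback.condition]
    congr 1
    exact hs (j t)
  have : Flat c := by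
    rw [IsZariskiLocalAtSource.iff_of_openCover (P := @Flat) (sigmaOpenCover P)]
    intro t
    show Flat (Limits.Sigma.ι P t ≫ c)
    rw [Limits.Sigma.ι_desc]
    exact MorphismProperty.pullback_fst (P := @Flat) q.left (f (j t)) (hP (j t)).1
  have : Surjective c := ⟨fun t => by
    obtain ⟨w, hw⟩ := hj t
    obtain ⟨z, hz, -⟩ := Scheme.Pullback.exists_preimage_pullback (f := q.left) (g := f (j t)) t w hw.symm
    refine ⟨Limits.Sigma.ι P t z, ?_⟩
    rw [← Scheme.Hom.comp_apply, Limits.Sigma.ι_desc]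
    exact hz⟩
  have hepi := Flat.epi_of_flat_of_surjective c
  refine ⟨Over.mk (c ≫ T.hom), Over.homMk c rfl, Over.homMk g ?_, ?_, Over.OverMorphism.ext hc⟩
  · show g ≫ G.hom = c ≫ T.hom
    rw [← Over.w π, ← Category.assoc, hc, Category.assoc, Over.w q]
  · exact ⟨fun {Z} a b hab => Over.OverMorphism.ext
      ((cancel_epi c).mp (congrArg CommaMorphism.left hab))⟩

/-- Let G be a finite group scheme over a field k and H a closed subgroup scheme of G, and let (Q, q₀)
with its G-action be the homogeneous space G/H for the fppf topology (the orbit map of q₀ is an fppf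
H-torsor onto Q). Let N be a closed subgroup scheme of G which is the kernel of the action of G on
Q: a point g of G with values in a k-scheme T factors through N exactly when g acts as the identity
on all points of Q with values in T-schemes. Then N (the core of H in G) is normal in G, is
contained in H, and contains every closed normal subgroup scheme of G which is contained in H. (The
published definition takes the core to be the kernel of the linear representation of G on the
coordinate ring of G/H; this is the same subgroup as the kernel of the action on G/H used here.) -/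
theorem result
    (k : Type u) [Field k]
    (G : Over (Spec (CommRingCat.of k))) [GrpObj G] [IsFinite G.hom]
    (H : Over (Spec (CommRingCat.of k))) [GrpObj H] (i : H ⟶ G) [IsMonHom i] [IsClosedImmersion i.left]
    (Q : Over (Spec (CommRingCat.of k))) (aQ : AlgGrp.Action G Q) (q₀ : 𝟙_ (Over (Spec (CommRingCat.of k))) ⟶ Q)
    (hQ : ChGrp.IsHomog Scheme.fppfPrecoverage i aQ q₀)
    (N : Over (Spec (CommRingCat.of k))) [GrpObj N] (n : N ⟶ G) [IsMonHom n] [IsClosedImmersion n.left]
    (hN : ∀ (T : Over (Spec (CommRingCat.of k))) (g : T ⟶ G),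
      (∃ g' : T ⟶ N, g' ≫ n = g) ↔
        ∀ (T' : Over (Spec (CommRingCat.of k))) (v : T' ⟶ T) (q : T' ⟶ Q), lift (v ≫ g) q ≫ aQ.act = q) :
    AlgGrp.IsNormalHom n ∧ (∃ m : N ⟶ H, m ≫ i = n) ∧
      ∀ (N' : Over (Spec (CommRingCat.of k))) [GrpObj N'] (n' : N' ⟶ G) [IsMonHom n'] [IsClosedImmersion n'.left],
        AlgGrp.IsNormalHom n' → (∃ m' : N' ⟶ H, m' ≫ i = n') → ∃ r : N' ⟶ N, r ≫ n = n' := by
  obtain ⟨-, hK, hloc⟩ := hQ
  have hnorm : AlgGrp.IsNormalHom n := by
    intro T g m
    obtain ⟨g', hg'⟩ := (hN T (g * (m ≫ n) * g⁻¹)).mpr fun T' v q => by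
      have := (hN T (m ≫ n)).mp ⟨m, rfl⟩ T' v
      rw [MonObj.comp_mul, MonObj.comp_mul, GrpObj.comp_inv, GrothLib.GrpSchField.act_mul,
        GrothLib.GrpSchField.act_mul, this, ← GrothLib.GrpSchField.act_mul, mul_inv_cancel,
        GrothLib.GrpSchField.act_one]
    exact ⟨g', hg'.symm⟩
  refine ⟨hnorm, ?_, ?_⟩
  · have h := (hN N n).mp ⟨𝟙 _, Category.id_comp _⟩ N (𝟙 N) (toUnit N ≫ q₀)
    rw [Category.id_comp] at h
    have hh : n ≫ aQ.orbitMap q₀ = (1 : N ⟶ G) ≫ aQ.orbitMap q₀ := by
      simp only [AlgGrp.Action.orbitMap, comp_lift_assoc, Category.comp_id, comp_toUnit_assoc, h,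
        GrothLib.GrpSchField.act_one]
    refine ⟨hK.lift 1 n hh.symm ≫ CartesianMonoidalCategory.snd G H, ?_⟩
    have h1 := hK.lift_fst 1 n hh.symm
    have h2 := hK.lift_snd 1 n hh.symm
    have e : ∀ w : N ⟶ G ⊗ H, w ≫ (G ◁ i) ≫ μ[G] =
        (w ≫ CartesianMonoidalCategory.fst G H) * (w ≫ CartesianMonoidalCategory.snd G H ≫ i) := by
      intro w
      rw [Hom.mul_def, ← Category.assoc]; congr 1; apply CartesianMonoidalCategory.hom_ext <;> simp
    rw [e, h1, _root_.one_mul] at h2
    rw [Category.assoc]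
    exact h2
  · intro N' _ n' _ _ hn' ⟨m', hm'⟩
    refine (hN N' n').mpr fun T' v q => ?_
    obtain ⟨T'', c, g, hc, hg⟩ := exists_epi_lift (aQ.orbitMap q₀) hloc q
    rw [← cancel_epi c, comp_lift_assoc, ← hg]
    obtain ⟨r, hr⟩ := hn' T'' g⁻¹ (c ≫ v)
    simp only [_root_.inv_inv, Category.assoc] at hr
    have hfix : ∀ h : T'' ⟶ H, lift (h ≫ i) (toUnit T'' ≫ q₀) ≫ aQ.act = toUnit T'' ≫ q₀ := by
      intro h
      have := congrArg (lift (1 : T'' ⟶ G) h ≫ ·) hK.w
      simpa [AlgGrp.Action.orbitMap, comp_lift_assoc, lift_whiskerLeft_assoc, ← Hom.mul_def,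
        GrothLib.GrpSchField.act_one] using this.symm
    simp only [AlgGrp.Action.orbitMap, comp_lift_assoc, Category.comp_id, comp_toUnit_assoc]
    rw [← GrothLib.GrpSchField.act_mul,
      show (c ≫ v ≫ n') * g = g * (r ≫ n') by rw [← hr]; group,
      GrothLib.GrpSchField.act_mul, ← hm', ← Category.assoc r m' i, hfix]

end Groth.Agent.S18763
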