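import Groth.Statements.S18764
import Groth.Agent.Lib.Torsor21.PairTorsor
import Groth.Agent.Lib.DiagGrp.KernelFP

set_option autoImplicit false
set_option backward.isDefEq.respectTransparency false
set_option backward.isDefEq.respectTransparency.types false
universe u
open CategoryTheory CategoryTheory.Limits MonoidalCategory CartesianMonoidalCategory MonObj GrpObj AlgebraicGeometry
open NonAbH1 CartesianMonoidalCategory MonObj
open scoped TensorProduct

namespace Groth.Agent.S18764

/-- Let k be a field and X a quasi-compact k-scheme, connected and reduced, having a k-point x; let G,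
G₁, G₂ be finite group schemes over k with homomorphisms φ₁ : G₁ → G and φ₂ : G₂ → G, and let T, T₁,
T₂ be torsors over X (fppf-locally trivial) under the base changes to X of G, G₁, G₂ respectively,
each pointed by a k-point lying over x. Let f₁ : T₁ → T and f₂ : T₂ → T be morphisms of pointed
torsors: X-morphisms which intertwine the actions along φ₁, φ₂ and send the marked points of T₁, T₂
to that of T. Let P be the fibre product group scheme G₁ ×_G G₂ with its projections π₁, π₂. Then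
the fibre product T₁ ×_T T₂ carries an action of the base change of P for which both projections to
T₁ and T₂ are equivariant (along π₁, π₂) and which makes it a torsor over X (fppf-locally trivial).
(The published statement says that such an X has a fundamental group scheme; this row states the
closure of finite pointed torsors under fibre products to which it is reduced.) -/
theorem result
    (k : Type u) [Field k] (X : Scheme.{u}) [X.Over (Spec (CommRingCat.of k))] [ConnectedSpace X]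
    [CompactSpace X] [AlgebraicGeometry.IsReduced X]
    (x : Spec (CommRingCat.of k) ⟶ X) (hx : x ≫ (X ↘ Spec (CommRingCat.of k)) = 𝟙 _)
    (G G₁ G₂ : Over (Spec (CommRingCat.of k))) [GrpObj G] [GrpObj G₁] [GrpObj G₂]
    [IsFinite G.hom] [IsFinite G₁.hom] [IsFinite G₂.hom]
    (φ₁ : G₁ ⟶ G) (φ₂ : G₂ ⟶ G) [IsMonHom φ₁] [IsMonHom φ₂]
    (T T₁ T₂ : Over X)
    (a : AlgGrp.Action (Red.bc (X ↘ Spec (CommRingCat.of k)) G) T)
    (a₁ : AlgGrp.Action (Red.bc (X ↘ Spec (CommRingCat.of k)) G₁) T₁)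
    (a₂ : AlgGrp.Action (Red.bc (X ↘ Spec (CommRingCat.of k)) G₂) T₂)
    (hT : NonAbH1.IsTorsorFor Scheme.fppfPrecoverage a)
    (hT₁ : NonAbH1.IsTorsorFor Scheme.fppfPrecoverage a₁)
    (hT₂ : NonAbH1.IsTorsorFor Scheme.fppfPrecoverage a₂)
    (t : Spec (CommRingCat.of k) ⟶ T.left) (t₁ : Spec (CommRingCat.of k) ⟶ T₁.left)
    (t₂ : Spec (CommRingCat.of k) ⟶ T₂.left)
    (ht : t ≫ T.hom = x) (ht₁ : t₁ ≫ T₁.hom = x) (ht₂ : t₂ ≫ T₂.hom = x)
    (f₁ : T₁ ⟶ T) (f₂ : T₂ ⟶ T)
    (hf₁ : AlgGrp.Action.IsEquivariant a₁ (a.restrict ((Over.pullback (X ↘ Spec (CommRingCat.of k))).map φ₁)) f₁)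
    (hf₂ : AlgGrp.Action.IsEquivariant a₂ (a.restrict ((Over.pullback (X ↘ Spec (CommRingCat.of k))).map φ₂)) f₂)
    (hft₁ : t₁ ≫ f₁.left = t) (hft₂ : t₂ ≫ f₂.left = t)
    (P : Over (Spec (CommRingCat.of k))) [GrpObj P] (π₁ : P ⟶ G₁) (π₂ : P ⟶ G₂) [IsMonHom π₁] [IsMonHom π₂]
    (hP : IsPullback π₁ π₂ φ₁ φ₂) :
    ∃ c : AlgGrp.Action (Red.bc (X ↘ Spec (CommRingCat.of k)) P) (pullback f₁ f₂),
      AlgGrp.Action.IsEquivariant c (a₁.restrict ((Over.pullback (X ↘ Spec (CommRingCat.of k))).map π₁)) (pullback.fst f₁ f₂) ∧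
      AlgGrp.Action.IsEquivariant c (a₂.restrict ((Over.pullback (X ↘ Spec (CommRingCat.of k))).map π₂)) (pullback.snd f₁ f₂) ∧
      NonAbH1.IsTorsorFor Scheme.fppfPrecoverage c := by
  let s : X ⟶ Spec (CommRingCat.of k) := X ↘ Spec (CommRingCat.of k)
  let pr₁ := (Over.pullback s).map π₁
  let pr₂ := (Over.pullback s).map π₂
  let ph₁ := (Over.pullback s).map φ₁
  let ph₂ := (Over.pullback s).map φ₂
  have hPb : IsPullback pr₁ pr₂ ph₁ ph₂ := hP.map (Over.pullback s)
  have hw : pr₁ ≫ ph₁ = pr₂ ≫ ph₂ := hPb.w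
  have eqv₁ : ∀ {R : Over X} (g : R ⟶ Red.bc s G₁) (y : R ⟶ T₁),
      lift g y ≫ a₁.act ≫ f₁ = lift (g ≫ ph₁) (y ≫ f₁) ≫ a.act := fun g y => by
    rw [hf₁, lift_whiskerLeft_assoc, AlgGrp.Action.lift_restrict_act]
  have eqv₂ : ∀ {R : Over X} (g : R ⟶ Red.bc s G₂) (y : R ⟶ T₂),
      lift g y ≫ a₂.act ≫ f₂ = lift (g ≫ ph₂) (y ≫ f₂) ≫ a.act := fun g y => by
    rw [hf₂, lift_whiskerLeft_assoc, AlgGrp.Action.lift_restrict_act]
  let Q := pullback f₁ f₂
  let q₁ : Q ⟶ T₁ := pullback.fst f₁ f₂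
  let q₂ : Q ⟶ T₂ := pullback.snd f₁ f₂
  have hq : q₁ ≫ f₁ = q₂ ≫ f₂ := pullback.condition
  let act : Red.bc s P ⊗ Q ⟶ Q := pullback.lift
    (lift (fst _ _ ≫ pr₁) (snd _ _ ≫ q₁) ≫ a₁.act) (lift (fst _ _ ≫ pr₂) (snd _ _ ≫ q₂) ≫ a₂.act) (by
      rw [Category.assoc, Category.assoc, eqv₁, eqv₂, Category.assoc, Category.assoc, hw, Category.assoc,
        Category.assoc, hq])
  have hl₁ : ∀ {R : Over X} (g : R ⟶ Red.bc s P) (y : R ⟶ Q),
      lift g y ≫ act ≫ q₁ = lift (g ≫ pr₁) (y ≫ q₁) ≫ a₁.act := fun g y => by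
    simp [act, q₁, pullback.lift_fst]
  have hl₂ : ∀ {R : Over X} (g : R ⟶ Red.bc s P) (y : R ⟶ Q),
      lift g y ≫ act ≫ q₂ = lift (g ≫ pr₂) (y ≫ q₂) ≫ a₂.act := fun g y => by
    simp [act, q₂, pullback.lift_snd]
  let c : AlgGrp.Action (Red.bc s P) Q :=
    { act := act
      one_act := by
        have hone : ∀ {R : Over X} (y : R ⟶ Q), lift 1 y ≫ act = y := fun {R} y => by
          apply pullback.hom_ext
          · rw [Category.assoc]
            exact (hl₁ 1 y).trans (by rw [MonObj.one_comp, a₁.lift_one_act])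
          · rw [Category.assoc]
            exact (hl₂ 1 y).trans (by rw [MonObj.one_comp, a₂.lift_one_act])
        have h := hone (snd (𝟙_ (Over X)) Q)
        rw [leftUnitor_hom]
        refine Eq.trans ?_ h
        congr 1
      mul_act := by
        have hmul : ∀ {R : Over X} (g g' : R ⟶ Red.bc s P) (y : R ⟶ Q),
            lift (g * g') y ≫ act = lift g (lift g' y ≫ act) ≫ act := fun {R} g g' y => by
          apply pullback.hom_ext
          · rw [Category.assoc, Category.assoc]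
            refine (hl₁ _ y).trans (Eq.trans ?_ (hl₁ _ _).symm)
            rw [MonObj.mul_comp, a₁.lift_mul_act, Category.assoc, hl₁]
          · rw [Category.assoc, Category.assoc]
            refine (hl₂ _ y).trans (Eq.trans ?_ (hl₂ _ _).symm)
            rw [MonObj.mul_comp, a₂.lift_mul_act, Category.assoc, hl₂]
        refine AlgGrp.Action.hom_ext_lift₃ fun {R} g g' y => ?_
        rw [lift_whiskerRight_assoc, ← Hom.mul_def, lift_lift_associator_hom_assoc, lift_whiskerLeft_assoc]
        exact hmul g g' y }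
  have hps : IsPseudoTorsorSch c := by
    refine GrothLib.TorsorDesc.isPseudoTorsorSch_of_points ?_ ?_
    · intro R y y'
      obtain ⟨g₁, hg₁⟩ := GrothLib.TorsorDesc.exists_act_eq hT₁.1 (y ≫ q₁) (y' ≫ q₁)
      obtain ⟨g₂, hg₂⟩ := GrothLib.TorsorDesc.exists_act_eq hT₂.1 (y ≫ q₂) (y' ≫ q₂)
      have e : g₁ ≫ ph₁ = g₂ ≫ ph₂ := by
        refine GrothLib.TorsorDesc.act_left_injective hT.1 (p := y' ≫ q₁ ≫ f₁) ?_
        rw [← Category.assoc y', ← eqv₁, reassoc_of% hg₁]
        rw [Category.assoc y', hq, ← Category.assoc y', ← eqv₂, reassoc_of% hg₂]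
      refine ⟨hPb.lift g₁ g₂ e, ?_⟩
      apply pullback.hom_ext
      · rw [Category.assoc]
        exact (hl₁ _ y').trans (by rw [hPb.lift_fst, hg₁])
      · rw [Category.assoc]
        exact (hl₂ _ y').trans (by rw [hPb.lift_snd, hg₂])
    · intro R g g' y h
      apply hPb.hom_ext
      · refine GrothLib.TorsorDesc.act_left_injective hT₁.1 (p := y ≫ q₁) ?_
        rw [← hl₁, ← hl₁, reassoc_of% (show lift g y ≫ act = lift g' y ≫ act from h)]
      · refine GrothLib.TorsorDesc.act_left_injective hT₂.1 (p := y ≫ q₂) ?_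
        rw [← hl₂, ← hl₂, reassoc_of% (show lift g y ≫ act = lift g' y ≫ act from h)]
  -- finiteness of `P`
  haveI : IsFinite φ₂.left := by
    haveI : IsFinite (φ₂.left ≫ G.hom) := by rw [Over.w φ₂]; infer_instance
    exact IsFinite.of_comp φ₂.left G.hom
  haveI : IsFinite π₁.left := MorphismProperty.of_isPullback (P := @IsFinite) (hP.map (Over.forget _)).flip ‹IsFinite φ₂.left›
  haveI : IsFinite P.hom := by
    rw [← Over.w π₁]; infer_instance
  obtain ⟨C, _, _, _, eC, heC⟩ := Groth.Agent.S18318.exists_algebra P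
  obtain ⟨hfin₁, hflat₁, hfp₁⟩ := GrothLib.Torsor21.torsor_props s hT₁
  obtain ⟨hfin₂, hflat₂, hfp₂⟩ := GrothLib.Torsor21.torsor_props s hT₂
  obtain ⟨hfinT, hflatT, hfpT⟩ := GrothLib.Torsor21.torsor_props s hT
  haveI : IsFinite f₂.left := by
    haveI : IsFinite (f₂.left ≫ T.hom) := by rw [Over.w f₂]; infer_instance
    exact IsFinite.of_comp f₂.left T.hom
  haveI : LocallyOfFinitePresentation f₂.left := by
    haveI : LocallyOfFinitePresentation (f₂.left ≫ T.hom) := by rw [Over.w f₂]; infer_instance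
    exact GrothLib.DiagGrp.lfp_of_comp_of_lft f₂.left T.hom inferInstance inferInstance
  have hsq : IsPullback q₁.left q₂.left f₁.left f₂.left :=
    (IsPullback.of_hasPullback f₁ f₂).map (Over.forget _)
  haveI : IsFinite q₁.left := MorphismProperty.of_isPullback (P := @IsFinite) hsq.flip inferInstance
  haveI : LocallyOfFinitePresentation q₁.left :=
    MorphismProperty.of_isPullback (P := @LocallyOfFinitePresentation) hsq.flip inferInstance
  haveI : IsFinite Q.hom := by rw [← Over.w q₁]; infer_instance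
  haveI : LocallyOfFinitePresentation Q.hom := by rw [← Over.w q₁]; infer_instance
  have hagree := fun {K : Type u} [Field K] (ζ : Spec (CommRingCat.of K) ⟶ X) =>
    GrothLib.Torsor21.exists_agree s hT.1 hT₁ hT₂ f₁ f₂ x t₁ t₂ ht₁ ht₂ (hft₁.trans hft₂.symm) ζ
  haveI : Flat Q.hom := by
    refine GrothLib.Torsor21.flat_of_fibre_rank Q.hom (Module.finrank k C) fun K _ ζ => ?_
    obtain ⟨L, _, _, r₁, r₂, hr⟩ := hagree ζ
    refine ⟨L, inferInstance, inferInstance, fun D _ _ aD hD => ?_⟩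
    let R : Over X := Over.mk (Spec.map (CommRingCat.ofHom (algebraMap K L)) ≫ ζ)
    let r : R ⟶ Q := pullback.lift r₁ r₂ hr
    let sh : Red.bc s P ⊗ R ⟶ Q ⊗ R := lift ((Red.bc s P ◁ r) ≫ c.act) (snd _ R)
    haveI : IsIso sh := GrothLib.Torsor21.isIso_triv hps r
    haveI : IsIso sh.left := inferInstanceAs (IsIso ((Over.forget _).map sh))
    let jk : CommRingCat.of k ⟶ CommRingCat.of L := Spec.preimage (R.hom ≫ s)
    letI : Algebra k L := jk.hom.toAlgebra
    have hjk : Spec.map (CommRingCat.ofHom (algebraMap k L)) = R.hom ≫ s := Spec.map_preimage _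
    have hbig : IsPullback (pullback.fst (Red.bc s P).hom R.hom ≫ pullback.fst P.hom s)
        (pullback.snd (Red.bc s P).hom R.hom) P.hom (R.hom ≫ s) :=
      (IsPullback.of_hasPullback (Red.bc s P).hom R.hom).paste_horiz (IsPullback.of_hasPullback P.hom s)
    have hC : IsPullback (Spec.map (CommRingCat.ofHom (Algebra.TensorProduct.includeRight : C →ₐ[k] L ⊗[k] C).toRingHom) ≫ eC.hom)
        (Spec.map (CommRingCat.ofHom (algebraMap L (L ⊗[k] C)))) P.hom (R.hom ≫ s) := by
      refine IsPullback.of_iso (isPullback_SpecMap_of_isPushout _ _ _ _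
        ((CommRingCat.isPushout_tensorProduct k L C).flip)) (Iso.refl _) eC (Iso.refl _) (Iso.refl _)
        ?_ ?_ ?_ ?_
      · simp
      · simp; rfl
      · simpa using heC.symm
      · simp [hjk]
    have hQR : IsPullback (pullback.fst Q.hom R.hom) (pullback.snd Q.hom R.hom) Q.hom R.hom :=
      IsPullback.of_hasPullback _ _
    let e : Spec (CommRingCat.of D) ≅ Spec (CommRingCat.of (L ⊗[k] C)) :=
      hD.isoIsPullback _ _ hQR ≪≫ (asIso sh.left).symm ≪≫ hbig.isoIsPullback _ _ hC
    refine (GrothLib.Torsor21.finrank_eq_of_iso_spec e ?_).trans Module.finrank_baseChange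
    simp only [e, Iso.trans_hom, Iso.symm_hom, asIso_inv, Category.assoc]
    erw [IsPullback.isoIsPullback_hom_snd _ _ hbig hC]
    rw [show inv sh.left ≫ pullback.snd (Red.bc s P).hom R.hom = pullback.snd Q.hom R.hom from by
      rw [IsIso.inv_comp_eq]
      exact (congrArg CommaMorphism.left (lift_snd ((Red.bc s P ◁ r) ≫ c.act) (snd _ R))).symm]
    exact IsPullback.isoIsPullback_hom_snd _ _ _ _
  haveI : Surjective Q.hom := ⟨fun y => by
    obtain ⟨L, _, _, r₁, r₂, hr⟩ := hagree (X.fromSpecResidueField y)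
    let r := pullback.lift r₁ r₂ hr
    refine ⟨r.left (IsLocalRing.closedPoint L), ?_⟩
    rw [← Scheme.Hom.comp_apply, Over.w r]
    exact Scheme.fromSpecResidueField_apply y _⟩
  refine ⟨c, ?_, ?_, hps, Presieve.singleton Q.hom, Scheme.Hom.singleton_mem_fppfPrecoverage Q.hom, ?_⟩
  · refine AlgGrp.Action.hom_ext_lift₂ fun {R} g y => ?_
    rw [lift_whiskerLeft_assoc, AlgGrp.Action.lift_restrict_act]
    exact hl₁ g y
  · refine AlgGrp.Action.hom_ext_lift₂ fun {R} g y => ?_
    rw [lift_whiskerLeft_assoc, AlgGrp.Action.lift_restrict_act]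
    exact hl₂ g y
  · rintro Y f ⟨⟩
    exact ⟨𝟙 _, Category.id_comp _⟩

end Groth.Agent.S18764
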