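import Groth.Statements.S18771
import Groth.Agent.Lib.TFCurv11.NodeLattice

set_option autoImplicit false
universe u
open CategoryTheory CategoryTheory.Limits AlgebraicGeometry
open TFNodal

namespace Groth.Agent.S18771

set_option backward.isDefEq.respectTransparency false


/-- Let k be algebraically closed of characteristic zero, X a connected proper curve over k (dimension
one) whose closed points are smooth points or nodes, and π : Y → X its normalization, given as a
finite morphism from a smooth k-scheme that is an isomorphism over the complement U of the nodes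
with dense preimage of U; let F be a coherent O_X-module, torsion free of rank r with type a(x) at
each node x (stalk free of rank r off the nodes, isomorphic to O_x^{a(x)} ⊕ m_x^{r − a(x)} at a node
x). Then there are a locally free O_X-module G of rank r and a monomorphism j : F → G whose cokernel
has zero stalk off the nodes and, at each node x, stalk annihilated by the maximal ideal m_x and of
length r − a(x) (so G/F is the direct sum over the nodes of k(x)^{r − a(x)}). -/
theorem result (k : Type u) [Field k] [IsAlgClosed k] [CharZero k]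
    (X : Scheme.{u}) [X.Over (Spec (CommRingCat.of k))] [IsProper (X ↘ Spec (CommRingCat.of k))]
    [ConnectedSpace X] (hdim : topologicalKrullDim X = 1) (hnod : Curv2.AtWorstNodal k X)
    (Y : Scheme.{u}) (π : Y ⟶ X) [IsFinite π] [Smooth (π ≫ (X ↘ Spec (CommRingCat.of k)))]
    (U : X.Opens) (hU : ∀ x : X, x ∈ U ↔ ¬ Curv2.IsNode k X x) (hUiso : IsIso (π ∣_ U))
    (hUd : Dense ((π ⁻¹ᵁ U : Y.Opens) : Set Y))
    (r : ℕ) (F : X.Modules) (hF : Coh.IsCoh F) (a : X → ℕ)
    (hfree : ∀ x : X, ¬ Curv2.IsNode k X x →
      Nonempty (F.presheaf.stalk x ≃ₗ[X.presheaf.stalk x] (Fin r → X.presheaf.stalk x)))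
    (htype : ∀ x : X, Curv2.IsNode k X x → a x ≤ r ∧
      Nonempty (F.presheaf.stalk x ≃ₗ[X.presheaf.stalk x]
        ((Fin (a x) → X.presheaf.stalk x) × (Fin (r - a x) → IsLocalRing.maximalIdeal (X.presheaf.stalk x))))) :
    ∃ (G : X.Modules) (j : F ⟶ G), FlatMod.IsFinLocFreeOfRank r G ∧ Mono j ∧
      (∀ x : X, ¬ Curv2.IsNode k X x → Subsingleton ((cokernel j).presheaf.stalk x)) ∧
      (∀ x : X, Curv2.IsNode k X x →
        IsLocalRing.maximalIdeal (X.presheaf.stalk x) • (⊤ : Submodule (X.presheaf.stalk x) ((cokernel j).presheaf.stalk x)) = ⊥ ∧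
        Module.length (X.presheaf.stalk x) ((cokernel j).presheaf.stalk x) = ((r - a x : ℕ) : ℕ∞)) := by
  haveI : AlgebraicGeometry.IsReduced X := GrothLib.NormFlat11.isReduced_of_atWorstNodal X hnod
  exact GrothLib.NodeLattice11.exists_mono_locFree k a hdim.le hF U hU hfree htype

end Groth.Agent.S18771
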