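import Groth.Statements.S18772
import Groth.Agent.Lib.TFCurv11.NodeFactor

set_option autoImplicit false
universe u
open CategoryTheory CategoryTheory.Limits AlgebraicGeometry
open TFNodal

namespace Groth.Agent.S18772

set_option backward.isDefEq.respectTransparency false


/-- Let k be algebraically closed of characteristic zero, X a connected proper curve over k (dimension
one) whose closed points are smooth points or nodes, and π : Y → X its normalization, given as a
finite morphism from a smooth k-scheme that is an isomorphism over the complement U of the nodes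
with dense preimage of U; let F be a coherent O_X-module, torsion free of rank r with type a(x) at
each node x (stalk free of rank r off the nodes, isomorphic to O_x^{a(x)} ⊕ m_x^{r − a(x)} at a node
x). Let p : π^*F → E₀ be an epimorphism onto a locally free O_Y-module of rank r and β : F → π_*E₀
the composite of the unit with π_*p. Then every monomorphism f : F → π_*E into the direct image of a
locally free O_Y-module E of rank r factors as β followed by π_*λ for exactly one λ : E₀ → E. -/
theorem result (k : Type u) [Field k] [IsAlgClosed k] [CharZero k]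
    (X : Scheme.{u}) [X.Over (Spec (CommRingCat.of k))] [IsProper (X ↘ Spec (CommRingCat.of k))]
    [ConnectedSpace X] (hdim : topologicalKrullDim X = 1) (hnod : Curv2.AtWorstNodal k X)
    (Y : Scheme.{u}) (π : Y ⟶ X) [IsFinite π] [Smooth (π ≫ (X ↘ Spec (CommRingCat.of k)))]
    (U : X.Opens) (hU : ∀ x : X, x ∈ U ↔ ¬ Curv2.IsNode k X x) (hUiso : IsIso (π ∣_ U))
    (hUd : Dense ((π ⁻¹ᵁ U : Y.Opens) : Set Y))
    (r : ℕ) (F : X.Modules) (hF : Coh.IsCoh F) (a : X → ℕ)
    (hfree : ∀ x : X, ¬ Curv2.IsNode k X x →
      Nonempty (F.presheaf.stalk x ≃ₗ[X.presheaf.stalk x] (Fin r → X.presheaf.stalk x)))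
    (htype : ∀ x : X, Curv2.IsNode k X x → a x ≤ r ∧
      Nonempty (F.presheaf.stalk x ≃ₗ[X.presheaf.stalk x]
        ((Fin (a x) → X.presheaf.stalk x) × (Fin (r - a x) → IsLocalRing.maximalIdeal (X.presheaf.stalk x)))))
    (E₀ : Y.Modules) (hE₀ : FlatMod.IsFinLocFreeOfRank r E₀)
    (p : (Scheme.Modules.pullback π).obj F ⟶ E₀) [Epi p]
    (E : Y.Modules) (hE : FlatMod.IsFinLocFreeOfRank r E)
    (f : F ⟶ (Scheme.Modules.pushforward π).obj E) [Mono f] :
    ∃! lam : E₀ ⟶ E, (Scheme.Modules.pullbackPushforwardAdjunction π).unit.app F ≫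
      (Scheme.Modules.pushforward π).map p ≫ (Scheme.Modules.pushforward π).map lam = f := by
  haveI : IsLocallyNoetherian X := LocallyOfFiniteType.isLocallyNoetherian (X ↘ Spec (CommRingCat.of k))
  haveI : AlgebraicGeometry.IsReduced Y := GrothLib.RedSmooth.isReduced_of_smooth (π ≫ (X ↘ Spec (CommRingCat.of k)))
  exact GrothLib.NodeFactor11.existsUnique_lift π hF U hUd (fun x hx => hfree x ((hU x).1 hx)) hE₀
    (fun y => by obtain ⟨V, hy, e⟩ := hE y; exact ⟨V, r, hy, e⟩) p f

end Groth.Agent.S18772
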