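import Groth.Statements.S18776
import Groth.Agent.Lib.CurveMult.EllipticEmbed
import Groth.Agent.Lib.CurveMult.HyperAff
import Groth.Agent.Lib.CurveMult.SepRat
import Groth.Agent.Lib.CurveMult.Hurwitz

set_option autoImplicit false
universe u
open CategoryTheory CategoryTheory.Limits AlgebraicGeometry
open VBCurve

namespace Groth.Agent.S18776

set_option backward.isDefEq.respectTransparency false


/-- Let k be a finite field and C a smooth proper geometrically integral curve over k (proper, smooth
and geometrically integral over k, of dimension one) of genus one, i.e. dim_k H^1(C, O_C) = 1, with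
a k-rational point O (an elliptic curve over k). Let F and F' be finite locally free O_C-modules of
ranks r ≥ 1 and s ≥ 1 such that F is semistable in the sense that deg G · rk F ≤ deg F · rk G for
every finite locally free submodule G of F of positive rank (the degree of a rank-n locally free
module being χ − n·χ(O_C)), and likewise for F'. Then for every finite locally free submodule G of F
⊗ F' of rank t ≥ 1 one has μ(G) − μ(F) − μ(F') ≤ 4, that is deg G · r · s ≤ t · (4 r s + deg F · s +
deg F' · r). (The published statement takes F and F' arbitrary; that form fails for F the direct sum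
of invertible modules of degrees 5 and −5 and F' = O_C, so both are taken semistable here, as the
published argument requires.) -/
theorem result (k : Type u) [Field k] [Finite k] (X : Scheme.{u}) [X.Over (Spec (CommRingCat.of k))]
    [IsProper (X ↘ Spec (CommRingCat.of k))] [Smooth (X ↘ Spec (CommRingCat.of k))]
    [GeometricallyIntegral (X ↘ Spec (CommRingCat.of k))] (hdim : topologicalKrullDim ↥X = 1)
    (hg : Curv2.genus k X = 1) (O : Spec (CommRingCat.of k) ⟶ X) (hO : O ≫ (X ↘ Spec (CommRingCat.of k)) = 𝟙 _)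
    (F F' : X.Modules) (r s : ℕ) (hr : 0 < r) (hs : 0 < s)
    (hF : FlatMod.IsFinLocFreeOfRank r F) (hF' : FlatMod.IsFinLocFreeOfRank s F')
    (hFss : (∀ (G : X.Modules) (r' : ℕ) (i : G ⟶ F), Mono i → 0 < r' → FlatMod.IsFinLocFreeOfRank r' G →
      Curv2.deg k X G r' * (r : ℤ) ≤ Curv2.deg k X F r * (r' : ℤ)))
    (hF'ss : (∀ (G : X.Modules) (r' : ℕ) (i : G ⟶ F'), Mono i → 0 < r' → FlatMod.IsFinLocFreeOfRank r' G →
      Curv2.deg k X G r' * (s : ℤ) ≤ Curv2.deg k X F' s * (r' : ℤ)))
    (G : X.Modules) (t : ℕ) (ht : 0 < t) (hG : FlatMod.IsFinLocFreeOfRank t G)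
    (i : G ⟶ CohB1.tensorMod F F') [Mono i] :
    Curv2.deg k X G t * (r : ℤ) * (s : ℤ) ≤
      (t : ℤ) * (4 * (r : ℤ) * (s : ℤ) + Curv2.deg k X F r * (s : ℤ) + Curv2.deg k X F' s * (r : ℤ)) := by
  haveI : IsLocallyNoetherian X :=
    LocallyOfFiniteType.isLocallyNoetherian (X ↘ Spec (CommRingCat.of k))
  haveI : IsIntegral X := GeometricallyIntegral.isIntegral_of_subsingleton (X ↘ Spec (CommRingCat.of k))
  haveI := GrothLib.CurveRR.regCurve_of_smooth (X ↘ Spec (CommRingCat.of k)) hdim
  haveI : GeometricallyConnected (X ↘ Spec (CommRingCat.of k)) :=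
    ⟨fun K _ y Y fst snd h => by
      haveI : IsIntegral Y := GeometricallyIntegral.geometrically_isIntegral (f := X ↘ Spec (CommRingCat.of k)) y fst snd h
      show ConnectedSpace Y
      infer_instance⟩
  have h0 : Module.finrank k (Coh.HH X (Coh.structureModule X) 0) = 1 :=
    GrothLib.CurveMult.finrank_H0_eq_one_of_geometricallyConnected k
  let o : ↥(Spec (CommRingCat.of k)) := IsLocalRing.closedPoint k
  haveI : IsClosedImmersion (O ≫ (X ↘ Spec (CommRingCat.of k))) := by rw [hO]; infer_instance
  haveI : IsClosedImmersion O := .of_comp O (X ↘ Spec (CommRingCat.of k))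
  haveI : Subsingleton ↥(Spec (CommRingCat.of k)) := inferInstanceAs (Subsingleton (PrimeSpectrum k))
  have hcl : IsClosed ({O o} : Set X) := by
    have := O.isClosedEmbedding.isClosedMap _ (isClosed_discrete {o})
    rwa [Set.image_singleton] at this
  have hne : O o ≠ genericPoint X := fun h => GrothLib.CurvePoints.genericPoint_not_isClosed hdim (h ▸ hcl)
  let P : GrothLib.CurveRR.CP X := ⟨O o, hne⟩
  letI := Curv2.resAlgebra k X P.1
  have hb := GrothLib.CurveMult.bijective_resMap_of_section k O hO o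
  have e : k ≃ₗ[k] (X.residueField P.1 : Type u) := LinearEquiv.ofBijective (Algebra.linearMap k _) hb
  have hP : (GrothLib.CurveRR.place k P).deg = 1 := by
    rw [← GrothLib.CurveMult.Hurwitz.finrank_residueField P, ← e.finrank_eq, Module.finrank_self]
  let Lf : ℤ → X.Modules := fun l => GrothLib.CurveRR.oD k
    (Finsupp.single (GrothLib.CurveRR.place k P) l : FunFld.Divisor k X.functionField)
  have hLi : ∀ l, PicF.IsInvertible (Lf l) := fun l => GrothLib.CurveRR.isInvertible_oD k _
  have hLd : ∀ l, Curv2.deg k X (Lf l) 1 = l := fun l => by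
    rw [GrothLib.CurveRR.deg_oD, GrothLib.FunFld.deg_single, hP, Nat.cast_one, mul_one]
  have hrZ : (0 : ℤ) < r := by exact_mod_cast hr
  have hsZ : (0 : ℤ) < s := by exact_mod_cast hs
  have a1 := Int.emod_add_mul_ediv (Curv2.deg k X F r) r
  have a2 := Int.emod_lt_of_pos (Curv2.deg k X F r) hrZ
  have a3 := Int.emod_nonneg (Curv2.deg k X F r) hrZ.ne'
  have b1 := Int.emod_add_mul_ediv (Curv2.deg k X F' s) s
  have b2 := Int.emod_lt_of_pos (Curv2.deg k X F' s) hsZ
  have b3 := Int.emod_nonneg (Curv2.deg k X F' s) hsZ.ne'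
  obtain ⟨M, -, j, hj⟩ := GrothLib.CurveMult.exists_mono_into_copies k h0 hg hr hF hFss
    (hLi (Curv2.deg k X F r / r + 2)) (by rw [hLd]; linarith)
  obtain ⟨M', -, j', hj'⟩ := GrothLib.CurveMult.exists_mono_into_copies k h0 hg hs hF' hF'ss
    (hLi (Curv2.deg k X F' s / s + 2)) (by rw [hLd]; linarith)
  haveI := hj
  haveI := hj'
  have h := GrothLib.CurveMult.deg_le_of_mono_tensor k (GrothLib.FinCov.isFinLocFree_of_rank hF')
    (hLi _) (hLi _) j j' hG i
  rw [hLd, hLd] at h
  have h' : Curv2.deg k X G t ≤ (t : ℤ) * (Curv2.deg k X F r / r + 2 + (Curv2.deg k X F' s / s + 2)) := by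
    exact_mod_cast h
  have ht0 : (0 : ℤ) ≤ t := Int.natCast_nonneg t
  have h1 : Curv2.deg k X G t * r * s ≤
      (t : ℤ) * (Curv2.deg k X F r / r + 2 + (Curv2.deg k X F' s / s + 2)) * r * s :=
    mul_le_mul_of_nonneg_right (mul_le_mul_of_nonneg_right h' hrZ.le) hsZ.le
  have h2 : (t : ℤ) * ((r : ℤ) * (Curv2.deg k X F r / r) * s) ≤ t * (Curv2.deg k X F r * s) :=
    mul_le_mul_of_nonneg_left (mul_le_mul_of_nonneg_right (by linarith) hsZ.le) ht0
  have h3 : (t : ℤ) * ((s : ℤ) * (Curv2.deg k X F' s / s) * r) ≤ t * (Curv2.deg k X F' s * r) :=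
    mul_le_mul_of_nonneg_left (mul_le_mul_of_nonneg_right (by linarith) hrZ.le) ht0
  linarith

end Groth.Agent.S18776
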