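import Groth.Statements.S18778
import Groth.Agent.Lib.CurveMult.SectionBound
import Groth.Agent.Lib.CurveMult.SepRat
import Groth.Agent.Lib.Euler.Slope
import Groth.Agent.Lib.Euler.Divisor
import Groth.Agent.Lib.CurveRR.FiniteField

set_option autoImplicit false
universe u
open CategoryTheory CategoryTheory.Limits AlgebraicGeometry
open VBCurve

namespace Groth.Agent.S18778

/-- Let k be a finite field and C a smooth proper geometrically integral curve over k (proper, smooth
and geometrically integral over k, of dimension one) of genus one, i.e. dim_k H^1(C, O_C) = 1, with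
a k-rational point O (an elliptic curve over k). Let G be a finite locally free O_C-module of rank r
≥ 1 and degree 0, where the degree of a rank-n locally free module H is χ(H) − n·χ(O_C), which is
semistable: deg H · r ≤ deg G · rk H = 0 for every finite locally free submodule H of G of positive
rank. Then dim_k H^0(C, G) ≤ r. -/
theorem result (k : Type u) [Field k] [Finite k] (X : Scheme.{u}) [X.Over (Spec (CommRingCat.of k))]
    [IsProper (X ↘ Spec (CommRingCat.of k))] [Smooth (X ↘ Spec (CommRingCat.of k))]
    [GeometricallyIntegral (X ↘ Spec (CommRingCat.of k))] (hdim : topologicalKrullDim ↥X = 1)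
    (hg : Curv2.genus k X = 1) (O : Spec (CommRingCat.of k) ⟶ X) (hO : O ≫ (X ↘ Spec (CommRingCat.of k)) = 𝟙 _)
    (G : X.Modules) (r : ℕ) (hr : 0 < r) (hG : FlatMod.IsFinLocFreeOfRank r G)
    (hdeg : Curv2.deg k X G r = 0)
    (hGss : (∀ (H : X.Modules) (r' : ℕ) (i : H ⟶ G), Mono i → 0 < r' → FlatMod.IsFinLocFreeOfRank r' H →
      Curv2.deg k X H r' * (r : ℤ) ≤ Curv2.deg k X G r * (r' : ℤ))) :
    Module.finrank k (Coh.HH X G 0) ≤ r := by
  haveI : IsLocallyNoetherian X :=
    LocallyOfFiniteType.isLocallyNoetherian (X ↘ Spec (CommRingCat.of k))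
  haveI : IsIntegral X := GeometricallyIntegral.isIntegral_of_subsingleton (X ↘ Spec (CommRingCat.of k))
  haveI := GrothLib.Euler.isNoetherian_of_proper (X := X) k
  haveI := GrothLib.CurveRR.regCurve_of_smooth (X ↘ Spec (CommRingCat.of k)) hdim
  have hpid := fun y : X => GrothLib.Euler.isPrincipalIdealRing_stalk hdim.le
    (fun _ hy => GrothLib.GrpSchField.isRegularLocalRing_stalk_of_smooth (X ↘ Spec (CommRingCat.of k)) hy) y
  let o : ↥(Spec (CommRingCat.of k)) := IsLocalRing.closedPoint k
  haveI : IsClosedImmersion (O ≫ (X ↘ Spec (CommRingCat.of k))) := by rw [hO]; infer_instance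
  haveI : IsClosedImmersion O := .of_comp O (X ↘ Spec (CommRingCat.of k))
  haveI : Subsingleton ↥(Spec (CommRingCat.of k)) := inferInstanceAs (Subsingleton (PrimeSpectrum k))
  have hcl : IsClosed ({O o} : Set X) := by
    have := O.isClosedEmbedding.isClosedMap _ (isClosed_discrete {o})
    rwa [Set.image_singleton] at this
  have hne : O o ≠ genericPoint X := fun h => GrothLib.CurvePoints.genericPoint_not_isClosed hdim (h ▸ hcl)
  let P : GrothLib.CurveRR.CP X := ⟨O o, hne⟩
  letI := Curv2.resAlgebra k X P.1
  have hb := GrothLib.CurveMult.bijective_resMap_of_section k O hO o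
  have e : k ≃ₗ[k] (X.residueField P.1 : Type u) := LinearEquiv.ofBijective (Algebra.linearMap k _) hb
  have hdegP : Module.finrank k (X.residueField P.1) = 1 := by rw [← e.finrank_eq, Module.finrank_self]
  refine GrothLib.CurveMult.finrank_H0_le_of_hom_point_eq_zero k hG P (fun f => ?_) hdegP
  let D : FunFld.Divisor k X.functionField := Finsupp.single (GrothLib.CurveRR.place k P) 1
  have hD1 := GrothLib.Euler.isFinLocFreeOfRank_one' (GrothLib.CurveRR.isInvertible_oD k D)
  have hdD : Curv2.deg k X (GrothLib.CurveRR.oD k D) 1 = 1 := by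
    letI := (GrothLib.AffDom.toRes (X ↘ Spec (CommRingCat.of k)) P.1).toAlgebra
    rw [GrothLib.CurveRR.deg_oD (k := k) D, FunFld.Divisor.deg, Finsupp.sum_single_index (by simp),
      GrothLib.CurveRR.deg_place k P, GrothLib.Zeta.residueDegree_eq_finrank]
    have e' : k ≃ₗ[k] (X.residueField P.1 : Type u) := LinearEquiv.ofBijective (Algebra.linearMap k _) (by
      show Function.Bijective (GrothLib.AffDom.toRes (X ↘ Spec (CommRingCat.of k)) P.1)
      rw [GrothLib.CurveRR.toRes_eq]
      exact hb)
    rw [← e'.finrank_eq, Module.finrank_self]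
    norm_num
  refine GrothLib.Euler.hom_eq_zero_of_slope_lt k hpid hD1 (GrothLib.FinCov.isFinLocFree_of_rank hG)
    (GrothLib.Euler.subLe_of_subLt k hdim.le hD1 fun _ r' _ _ h0 h1 _ => absurd h1 (by omega)) ?_ f
  intro G' r' i hi hr' hG'
  have h := hGss G' r' i hi hr' hG'
  rw [hdeg, zero_mul] at h
  rw [hdD, one_mul]
  have : Curv2.deg k X G' r' ≤ 0 := by nlinarith
  push_cast
  omega

end Groth.Agent.S18778
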