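import Groth.Statements.S18784
import Groth.Agent.Lib.CurveSerre11.Scalar
import Groth.Agent.Lib.CurveMult.HyperAff
import Groth.Agent.Lib.ConnH0.Basic
import Groth.Agent.Lib.Euler.InvHom
import Groth.Agent.Lib.ParaPair.Basic

set_option autoImplicit false
universe u
open CategoryTheory CategoryTheory.Limits AlgebraicGeometry
attribute [local instance] HasDerivedCategory.standard
open Curves

namespace Groth.Agent.S18784

set_option backward.isDefEq.respectTransparency false
set_option maxHeartbeats 1000000


/-- Let k be a perfect field and X a proper scheme over k of dimension one which is geometrically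
connected and geometrically reduced over k, Gorenstein with trivial dualizing sheaf: its dualizing
module ω_X (the degree −1 cohomology sheaf of f^! O for the structure morphism f, assuming Rf_* on
D_QCoh and its right adjoint exist) is isomorphic to O_X. Let D be an effective Cartier divisor on X
of positive degree, given here as an invertible module L = O_X(D) with a monomorphism s : O_X → L
and deg L = χ(L) − χ(O_X) > 0. Then H^1(X, O_X(D)) = 0. (The first assertion of the lemma, H^0(X,
O_X) = k, is not restated.) -/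
theorem result (k : Type u) [Field k] [PerfectField k]
    (X : Scheme.{u}) [X.Over (Spec (CommRingCat.of k))] [IsProper (X ↘ Spec (CommRingCat.of k))]
    [GeometricallyConnected (X ↘ Spec (CommRingCat.of k))] [GeometricallyReduced (X ↘ Spec (CommRingCat.of k))]
    (hdim : topologicalKrullDim ↥X = 1)
    [DCoh.HasRpush (X ↘ Spec (CommRingCat.of k))] (h : DCoh.RpushPreservesQCoh (X ↘ Spec (CommRingCat.of k))) [DCoh.HasShriek (X ↘ Spec (CommRingCat.of k)) h]
    (OY : DCoh.DQCoh (Spec (CommRingCat.of k))) (hOY : Nonempty (OY.obj ≅ DCoh.inD (Spec (CommRingCat.of k)) (Coh.structureModule (Spec (CommRingCat.of k)))))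
    (hω : Nonempty (DCoh.dualizingMod (X ↘ Spec (CommRingCat.of k)) h OY 1 ≅ Coh.structureModule X))
    (L : X.Modules) (hL : PicF.IsInvertible L) (s : Coh.structureModule X ⟶ L) [Mono s]
    (hdeg : 0 < Curv2.deg k X L 1) :
    Subsingleton (Coh.HH X L 1) := by
  haveI := GrothLib.Euler.isNoetherian_of_proper (X := X) k
  obtain ⟨eω⟩ := hω
  obtain ⟨t, ht⟩ := GrothLib.CurveSerre11.exists_trace h OY hOY hdim.le
  have h0 : Module.finrank k (Coh.HH X (Coh.structureModule X) 0) = 1 := by
    let p := X ↘ Spec (CommRingCat.of k)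
    let K := AlgebraicClosure k
    let φ : k →+* K := algebraMap k K
    let X' := pullback p (Spec.map (CommRingCat.ofHom φ))
    let g : X' ⟶ X := pullback.fst _ _
    letI : X'.Over (Spec (CommRingCat.of K)) := ⟨pullback.snd p (Spec.map (CommRingCat.ofHom φ))⟩
    haveI : GeometricallyConnected (pullback.snd p (Spec.map (CommRingCat.ofHom φ))) :=
      MorphismProperty.pullback_snd _ _ inferInstance
    haveI : GeometricallyReduced (pullback.snd p (Spec.map (CommRingCat.ofHom φ))) :=
      MorphismProperty.pullback_snd _ _ inferInstance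
    haveI : IsProper (X' ↘ Spec (CommRingCat.of K)) :=
      inferInstanceAs (IsProper (pullback.snd p (Spec.map (CommRingCat.ofHom φ))))
    haveI : ConnectedSpace X' :=
      GeometricallyConnected.connectedSpace_of_subsingleton (pullback.snd p (Spec.map (CommRingCat.ofHom φ)))
    haveI : IsReduced X' :=
      (GeometricallyReduced.geometrically_isReduced (f := X ↘ Spec (CommRingCat.of k))) _ _ _ (.of_hasPullback _ _)
    haveI : (Coh.structureModule X).IsQuasicoherent :=
      (GrothLib.Euler.isCoh_of_isInvertible GrothLib.Euler.isInvertible_structure).1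
    rw [← GrothLib.CurveMult.finrank_HH_baseChange φ g (IsPullback.of_hasPullback p (Spec.map (CommRingCat.ofHom φ)))
      (Coh.structureModule X) 0, (GrothLib.Euler.hhEquiv (A := K) (GrothLib.OX.pullUnitIso g) 0).finrank_eq,
      GrothLib.ConnH0.finrank_H0_eq_one (k := K) (X := X')]
  refine GrothLib.CurveSerre11.IsTrace.subsingleton_of_hom ht (GrothLib.Euler.isCoh_of_isInvertible hL).1 fun φ => ?_
  obtain ⟨c, hc⟩ := GrothLib.CurveSerre11.exists_eq_scalar h OY hOY hdim.le h0 (eω.hom ≫ s ≫ φ)
  by_cases hc0 : c = 0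
  · subst hc0
    rw [map_zero, GrothLib.CurveSerre11.smulMod_zero] at hc
    have h1 : s ≫ φ ≫ eω.hom = 0 := by
      rw [← Category.assoc, (cancel_epi eω.hom).1 (hc.trans comp_zero.symm), zero_comp]
    refine (cancel_mono eω.hom).1 (Eq.trans ?_ zero_comp.symm)
    refine Scheme.Modules.hom_ext _ _ fun V => AddCommGrpCat.ext fun m => ?_
    refine TopCat.Presheaf.section_ext (C := Ab.{u}) (X := X.carrier)
      ⟨(Coh.structureModule X).presheaf, (Coh.structureModule X).isSheaf⟩ V _ _ fun x hx => ?_
    refine (RefHull.stalkMapₗ_germ (φ ≫ eω.hom) x hx m).symm.trans (Eq.trans ?_ (map_zero _).symm)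
    obtain ⟨g, hg⟩ := GrothLib.Ref1.exists_gen_of_isInvertible hL x
    obtain ⟨o, ho⟩ := GrothLib.Ref1.exists_gen_of_isInvertible (GrothLib.Euler.isInvertible_structure (X := X)) x
    obtain ⟨a, ha⟩ := hg.2 (RefHull.stalkMapₗ s x o)
    obtain ⟨b, hb⟩ := ho.2 (RefHull.stalkMapₗ (φ ≫ eω.hom) x g)
    obtain ⟨r, hr⟩ := hg.2 (L.presheaf.germ V x hx m)
    simp only at ha hb hr
    have hab : (a * b) • o = 0 := by
      rw [mul_smul, hb, ← map_smul, ha]
      obtain ⟨U, hU, n, rfl⟩ := TopCat.Presheaf.exists_germ_eq (Coh.structureModule X).presheaf o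
      rw [RefHull.stalkMapₗ_germ, RefHull.stalkMapₗ_germ]
      show (Coh.structureModule X).presheaf.germ U x hU ((s ≫ φ ≫ eω.hom).app U n) = 0
      rw [h1]
      exact map_zero _
    have hab0 : a * b = 0 := ho.1 (by simp only; rw [hab, zero_smul])
    have hs_inj : Function.Injective (RefHull.stalkMapₗ s x) := fun p q hpq =>
      GrothLib.QCoh.stalkLin_injective s x hpq
    have hb0 : b = 0 := by
      refine ho.1 ?_
      simp only
      rw [zero_smul]
      refine hs_inj ?_
      rw [map_zero, map_smul, ← ha, smul_smul, mul_comm, hab0, zero_smul]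
    rw [← hr, map_smul, ← hb, hb0, zero_smul, smul_zero]
  · exfalso
    let e : DCoh.dualizingMod (X ↘ Spec (CommRingCat.of k)) h OY 1 ⟶ L := eω.hom ≫ s
    let φ' := φ ≫ GrothLib.Euler.smulMod _ (Coh.toGlobal (X ↘ Spec (CommRingCat.of k)) c⁻¹)
    have hid : e ≫ φ' = 𝟙 _ := by
      show (eω.hom ≫ s) ≫ φ ≫ _ = _
      rw [Category.assoc, ← Category.assoc s, ← Category.assoc eω.hom, hc, GrothLib.CurveSerre11.smulMod_mul,
        ← map_mul, inv_mul_cancel₀ hc0, map_one, GrothLib.CurveSerre11.smulMod_one]
    haveI : Epi φ' := epi_of_epi_fac hid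
    have hφ : IsIso φ' := by
      refine (GrothLib.OX.isIso_iff φ').2 fun x => (ConcreteCategory.isIso_iff_bijective _).2 ?_
      show Function.Bijective (RefHull.stalkMapₗ φ' x)
      have hsurj : Function.Surjective (RefHull.stalkMapₗ φ' x) := fun v => by
        refine ⟨RefHull.stalkMapₗ e x v, ?_⟩
        obtain ⟨U, hU, n, rfl⟩ := TopCat.Presheaf.exists_germ_eq
          (DCoh.dualizingMod (X ↘ Spec (CommRingCat.of k)) h OY 1).presheaf v
        rw [RefHull.stalkMapₗ_germ, RefHull.stalkMapₗ_germ]
        conv_rhs => rw [show n = (𝟙 _ : DCoh.dualizingMod (X ↘ Spec (CommRingCat.of k)) h OY 1 ⟶ _).app U n from rfl, ← hid]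
        rfl
      have hωi : PicF.IsInvertible (DCoh.dualizingMod (X ↘ Spec (CommRingCat.of k)) h OY 1) :=
        GrothLib.ParaPair.isInvertible_of_iso eω GrothLib.Euler.isInvertible_structure
      obtain ⟨g, hg⟩ := GrothLib.Ref1.exists_gen_of_isInvertible hL x
      obtain ⟨o, ho⟩ := GrothLib.Ref1.exists_gen_of_isInvertible hωi x
      refine ⟨?_, hsurj⟩
      let R := X.presheaf.stalk x
      let ψ : R ≃ₗ[R] L.presheaf.stalk x := LinearEquiv.ofBijective (LinearMap.toSpanSingleton R _ g) hg
      let χ : R ≃ₗ[R] _ := LinearEquiv.ofBijective (LinearMap.toSpanSingleton R _ o) ho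
      have hF : Function.Injective ((RefHull.stalkMapₗ φ' x).comp (ψ.toLinearMap.comp χ.symm.toLinearMap)) := by
        haveI : Module.Finite R ((DCoh.dualizingMod (X ↘ Spec (CommRingCat.of k)) h OY 1).presheaf.stalk x) :=
          Module.Finite.equiv χ
        exact OrzechProperty.injective_of_surjective_endomorphism _
          (hsurj.comp (ψ.surjective.comp χ.symm.surjective))
      intro p q hpq
      have := @hF (χ (ψ.symm p)) (χ (ψ.symm q)) (by simpa using hpq)
      exact ψ.symm.injective (χ.injective this)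
    rw [GrothLib.Euler.deg_of_iso k (asIso φ' ≪≫ eω) 1] at hdeg
    simp [Curv2.deg] at hdeg

end Groth.Agent.S18784
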