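import Groth.Statements.S18786
import Groth.Agent.Lib.GeomDec11.Main
import Groth.Agent.Lib.Euler.RankAdd

set_option autoImplicit false
universe u
open CategoryTheory CategoryTheory.Limits AlgebraicGeometry
open VBCurve

namespace Groth.Agent.S18786

set_option backward.isDefEq.respectTransparency false


/-- Let k be a finite field and C a smooth proper geometrically integral curve over k (proper, smooth
and geometrically integral over k, of dimension one) of genus one, i.e. dim_k H^1(C, O_C) = 1, with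
a k-rational point O (an elliptic curve over k); k is finite with q elements. Let G be a finite
locally free O_C-module of rank 2 and degree 0 (the degree of a rank-n locally free module being χ −
n·χ(O_C)) which is indecomposable (nonzero, no isomorphism with a direct sum of two nonzero modules)
but not geometrically indecomposable (its pull-back to C_K splits into two nonzero summands for some
field extension K of k, taken in the universe of k), and put E = O_C ⊕ G. Then Aut(E) has exactly (q
− 1)(q² − 1) elements. (The accompanying bound on the number of isomorphism classes of such E is not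
restated.) (The published setting takes k of characteristic at least 5; the argument does not use
this and the row allows every finite field.) -/
theorem result (k : Type u) [Field k] [Finite k] (X : Scheme.{u}) [X.Over (Spec (CommRingCat.of k))]
    [IsProper (X ↘ Spec (CommRingCat.of k))] [Smooth (X ↘ Spec (CommRingCat.of k))]
    [GeometricallyIntegral (X ↘ Spec (CommRingCat.of k))] (hdim : topologicalKrullDim ↥X = 1)
    (hg : Curv2.genus k X = 1) (O : Spec (CommRingCat.of k) ⟶ X) (hO : O ≫ (X ↘ Spec (CommRingCat.of k)) = 𝟙 _)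
    (G : X.Modules) (hG : FlatMod.IsFinLocFreeOfRank 2 G) (hdeg : Curv2.deg k X G 2 = 0)
    (hGi : (¬ IsZero G ∧ ∀ (E₁ E₂ : X.Modules), Nonempty (G ≅ E₁ ⊞ E₂) → IsZero E₁ ∨ IsZero E₂)) (hGng : (∃ (K : Type u) (_ : Field K) (_ : Algebra k K) (E₁ E₂ : (Curv2.bc k X K).Modules),
      ¬ IsZero E₁ ∧ ¬ IsZero E₂ ∧ Nonempty ((Scheme.Modules.pullback (Curv2.bcFst k X K)).obj G ≅ E₁ ⊞ E₂))) :
    Nat.card (Aut (Coh.structureModule X ⊞ G)) = (Nat.card k - 1) * (Nat.card k ^ 2 - 1) := by
  haveI := GrothLib.Euler.isNoetherian_of_proper (X := X) k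
  haveI : IsIntegral X := GeometricallyIntegral.isIntegral_of_subsingleton (X ↘ Spec (CommRingCat.of k))
  obtain ⟨a, m, I, hm, hi, hd, ha, hI, hsurj, hcomm⟩ := GrothLib.GeomDec11.exists_field_deg k hdim O hO
    (r := 2) (by norm_num) hG hGi hGng
  obtain ⟨φ⟩ := GrothLib.GeomDec11.exists_end_equiv k hdim O hO (r := 2) (by norm_num) hG hGi hm hi hd ha hI hsurj hcomm
  haveI := Fact.mk hi
  have hK : Module.finrank k (AdjoinRoot m) = 2 := by
    rw [(AdjoinRoot.powerBasis hi.ne_zero).finrank, AdjoinRoot.powerBasis_dim, hd]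
  obtain ⟨l, S, -, hinv, -, hdg, hL⟩ := GrothLib.GeomDec11.exists_pieces k hdim O hO (r := 2) (by norm_num) hG hGi
    hm hi hd ha hI hcomm (AdjoinRoot m) hK
  obtain ⟨hint, hnoe, hdK, x, hx⟩ := GrothLib.GeomDec11.bc_setup k (AdjoinRoot m) hdim O hO
  haveI := hint
  haveI := GrothLib.GeomSS.isProper_bcSnd k X (K := AdjoinRoot m)
  haveI := hnoe
  let Y := Curv2.bc k X (AdjoinRoot m)
  let F := GrothLib.GeomDec11.pf (X := X) k (AdjoinRoot m)
  let T : ShortComplex Y.Modules := ShortComplex.mk (S.inc 0) (S.prj 1) (S.ortho 0 1 (by decide))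
  let spl : T.Splitting := { r := S.prj 0, s := S.inc 1, f_r := S.inc_prj 0, s_g := S.inc_prj 1,
                             id := (Fin.sum_univ_two (fun i => S.prj i ≫ S.inc i)).symm.trans S.total }
  have hrk : ∀ i, FlatMod.IsFinLocFreeOfRank 1 (S.M i) := fun i => GrothLib.Euler.isFinLocFreeOfRank_one' (hinv i)
  have hadd := GrothLib.Euler.deg_additive (AdjoinRoot m) spl.shortExact (hrk 0)
    (GrothLib.OX.isFinLocFreeOfRank_pullback (Curv2.bcFst k X (AdjoinRoot m)) hG) (hrk 1)
  have hsq := IsPullback.of_hasPullback (X ↘ Spec (CommRingCat.of k)) (Spec.map (CommRingCat.ofHom (algebraMap k (AdjoinRoot m))))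
  haveI := (GrothLib.Euler.isCoh_of_isFinLocFree (GrothLib.FinCov.isFinLocFree_of_rank hG)).1
  haveI := (GrothLib.Euler.isCoh_of_isInvertible (GrothLib.Euler.isInvertible_structure (X := X))).1
  have hO' : Curv2.euler (AdjoinRoot m) Y (Coh.structureModule Y) = Curv2.euler k X (Coh.structureModule X) := by
    rw [← GrothLib.Euler.euler_of_iso _ (GrothLib.OX.pullUnitIso (Curv2.bcFst k X (AdjoinRoot m)))]
    exact GrothLib.GeomSS.euler_of_sq (algebraMap k (AdjoinRoot m)) (Curv2.bcFst k X (AdjoinRoot m)) hsq _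
  have hmid : Curv2.deg (AdjoinRoot m) Y T.X₂ 2 = 0 := by
    show Curv2.deg (AdjoinRoot m) Y ((Scheme.Modules.pullback (Curv2.bcFst k X (AdjoinRoot m))).obj G) 2 = 0
    rw [← hdeg]
    simp only [Curv2.deg, hO']
    rw [GrothLib.GeomSS.euler_of_sq (algebraMap k (AdjoinRoot m)) (Curv2.bcFst k X (AdjoinRoot m)) hsq G]
  have hd0 : ∀ i, Curv2.deg (AdjoinRoot m) Y (S.M i) 1 = 0 := fun i => by
    have h01 : Curv2.deg (AdjoinRoot m) Y (S.M 0) 1 = Curv2.deg (AdjoinRoot m) Y (S.M 1) 1 := hdg 0 1
    have h0i : Curv2.deg (AdjoinRoot m) Y (S.M i) 1 = Curv2.deg (AdjoinRoot m) Y (S.M 0) 1 := hdg i 0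
    rw [hmid] at hadd
    change (0 : ℤ) = Curv2.deg (AdjoinRoot m) Y (S.M 0) 1 + Curv2.deg (AdjoinRoot m) Y (S.M 1) 1 at hadd
    omega
  have hU : Nonempty (F.obj (Coh.structureModule X) ≅ Coh.structureModule Y) := ⟨GrothLib.OX.pullUnitIso _⟩
  obtain ⟨eU⟩ := hU
  have hnO : ∀ i, ¬ Nonempty (S.M i ≅ Coh.structureModule Y) := fun i ⟨u⟩ =>
    hL i _ GrothLib.Euler.isInvertible_structure ⟨u ≪≫ eU.symm⟩
  have hs := GrothLib.Euler.deg_structure (X := Y) (AdjoinRoot m)
  have hto : ∀ f : Coh.structureModule X ⟶ G, f = 0 := fun f => by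
    refine GrothLib.GeomDec11.pf_faithful k (AdjoinRoot m) (GrothLib.Euler.isCoh_of_isFinLocFree (GrothLib.FinCov.isFinLocFree_of_rank hG)) f ?_
    show F.map f = 0
    have h1 : ∀ i, F.map f ≫ S.prj i = 0 := fun i => by
      rw [← cancel_epi eU.inv, comp_zero]
      exact GrothLib.AutSum11.hom_eq_zero hdK GrothLib.Euler.isInvertible_structure (hinv i) (by rw [hd0, hs])
        (fun ⟨u⟩ => hnO i ⟨u.symm⟩) _
    calc F.map f = F.map f ≫ ∑ i, S.prj i ≫ S.inc i := by rw [S.total, Category.comp_id]
      _ = 0 := by simp only [Preadditive.comp_sum, ← Category.assoc, h1, zero_comp, Finset.sum_const_zero]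
  have hfrom : ∀ f : G ⟶ Coh.structureModule X, f = 0 := fun f => by
    refine GrothLib.GeomDec11.pf_faithful k (AdjoinRoot m) (GrothLib.Euler.isCoh_of_isInvertible GrothLib.Euler.isInvertible_structure) f ?_
    show F.map f = 0
    have h1 : ∀ i, S.inc i ≫ F.map f = 0 := fun i => by
      rw [← cancel_mono eU.hom, zero_comp]
      exact GrothLib.AutSum11.hom_eq_zero hdK (hinv i) GrothLib.Euler.isInvertible_structure (by rw [hd0, hs]) (hnO i) _
    calc F.map f = (∑ i, S.prj i ≫ S.inc i) ≫ F.map f := by rw [S.total, Category.id_comp]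
      _ = 0 := by simp only [Preadditive.sum_comp, Category.assoc, h1, comp_zero, Finset.sum_const_zero]
  haveI : HasFiniteBiproducts X.Modules := Abelian.hasFiniteBiproducts
  rw [GrothLib.AutSum11.card_aut_orth _ _ hto hfrom, GrothLib.AutSum11.card_aut_one _ (RingEquiv.ofBijective _
    (GrothLib.AutSum11.endScalar_bijective hdim.le
      (GrothLib.CurveMult.bijective_resMap_of_section k O hO (IsLocalRing.closedPoint k)).2
      GrothLib.Euler.isInvertible_structure))]
  congr 1
  haveI : Module.Finite k (AdjoinRoot m) := Module.finite_of_finrank_pos (by omega)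
  rw [← Nat.card_congr ((Units.mapEquiv φ.toMulEquiv).trans (Aut.unitsEndEquivAut G)).toEquiv, Nat.card_units,
    Module.natCard_eq_pow_finrank (K := k) (V := AdjoinRoot m), hK]

end Groth.Agent.S18786
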