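import Groth.Statements.S18787
import Groth.Agent.Lib.AutSum11.Basic
import Groth.Agent.Lib.CurveRR.Main

set_option autoImplicit false
universe u
open CategoryTheory CategoryTheory.Limits AlgebraicGeometry
open VBCurve

namespace Groth.Agent.S18787

set_option backward.isDefEq.respectTransparency false


/-- Let k be a finite field and C a smooth proper geometrically integral curve over k (proper, smooth
and geometrically integral over k, of dimension one) of genus one, i.e. dim_k H^1(C, O_C) = 1, with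
a k-rational point O (an elliptic curve over k); k is finite with q elements. Let L₁ and L₂ be
invertible O_C-modules of degree 0 (χ(L) − χ(O_C) = 0) and E = O_C ⊕ L₁ ⊕ L₂. Then the number of
automorphisms of E is: (q³ − 1)(q³ − q)(q³ − q²) if L₁ ≅ L₂ ≅ O_C; (q − 1)³ (q + 1) q if L₁ ≅ L₂ and
L₁ ≇ O_C; (q − 1)³ (q + 1) q if L₁ ≇ L₂ and L₂ ≅ O_C; and (q − 1)³ if O_C, L₁, L₂ are pairwise
non-isomorphic. (In the third case the published value is (q − 1)² q³, and the published computation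
gives (q − 1)³ q²; but there E ≅ O_C ⊕ O_C ⊕ L₁ with L₁ of degree 0 and non-trivial, whose
endomorphism ring is M₂(k) × k, so Aut(E) ≅ GL₂(k) × kˣ has (q − 1)³ (q + 1) q elements, the same
count as in the second case; the row states this corrected value.) (The published setting takes k of
characteristic at least 5; the argument does not use this and the row allows every finite field.) -/
theorem result (k : Type u) [Field k] [Finite k] (X : Scheme.{u}) [X.Over (Spec (CommRingCat.of k))]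
    [IsProper (X ↘ Spec (CommRingCat.of k))] [Smooth (X ↘ Spec (CommRingCat.of k))]
    [GeometricallyIntegral (X ↘ Spec (CommRingCat.of k))] (hdim : topologicalKrullDim ↥X = 1)
    (hg : Curv2.genus k X = 1) (O : Spec (CommRingCat.of k) ⟶ X) (hO : O ≫ (X ↘ Spec (CommRingCat.of k)) = 𝟙 _)
    (L₁ L₂ : X.Modules) (hL₁ : PicF.IsInvertible L₁) (hL₂ : PicF.IsInvertible L₂)
    (hd₁ : Curv2.deg k X L₁ 1 = 0) (hd₂ : Curv2.deg k X L₂ 1 = 0) :
    (Nonempty (L₁ ≅ Coh.structureModule X) → Nonempty (L₂ ≅ Coh.structureModule X) →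
      Nat.card (Aut (Coh.structureModule X ⊞ L₁ ⊞ L₂)) =
        (Nat.card k ^ 3 - 1) * (Nat.card k ^ 3 - Nat.card k) * (Nat.card k ^ 3 - Nat.card k ^ 2)) ∧
    (Nonempty (L₁ ≅ L₂) → ¬ Nonempty (L₁ ≅ Coh.structureModule X) →
      Nat.card (Aut (Coh.structureModule X ⊞ L₁ ⊞ L₂)) = (Nat.card k - 1) ^ 3 * (Nat.card k + 1) * Nat.card k) ∧
    (¬ Nonempty (L₁ ≅ L₂) → Nonempty (L₂ ≅ Coh.structureModule X) →
      Nat.card (Aut (Coh.structureModule X ⊞ L₁ ⊞ L₂)) = (Nat.card k - 1) ^ 3 * (Nat.card k + 1) * Nat.card k) ∧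
    (¬ Nonempty (L₁ ≅ Coh.structureModule X) → ¬ Nonempty (L₂ ≅ Coh.structureModule X) → ¬ Nonempty (L₁ ≅ L₂) →
      Nat.card (Aut (Coh.structureModule X ⊞ L₁ ⊞ L₂)) = (Nat.card k - 1) ^ 3) := by
  haveI : IsLocallyNoetherian X :=
    LocallyOfFiniteType.isLocallyNoetherian (X ↘ Spec (CommRingCat.of k))
  haveI : IsIntegral X := GeometricallyIntegral.isIntegral_of_subsingleton (X ↘ Spec (CommRingCat.of k))
  haveI : HasFiniteBiproducts X.Modules := Abelian.hasFiniteBiproducts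
  have hx := (GrothLib.CurveMult.bijective_resMap_of_section k O hO (IsLocalRing.closedPoint k)).2
  have h0 : PicF.IsInvertible (Coh.structureModule X) := GrothLib.Euler.isInvertible_structure
  have hd0 := GrothLib.Euler.deg_structure (X := X) k
  let ε : ∀ {L : X.Modules}, PicF.IsInvertible L → k ≃+* End L := fun hL =>
    RingEquiv.ofBijective _ (GrothLib.AutSum11.endScalar_bijective hdim.le hx hL)
  have z : ∀ {L M : X.Modules}, PicF.IsInvertible L → PicF.IsInvertible M →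
      Curv2.deg k X L 1 = 0 → Curv2.deg k X M 1 = 0 → ¬ Nonempty (L ≅ M) → ∀ f : L ⟶ M, f = 0 :=
    fun hL hM a b h => GrothLib.AutSum11.hom_eq_zero hdim.le hL hM (by rw [a, b]) h
  have two : ∀ {L : X.Modules}, PicF.IsInvertible L →
      Nat.card (Aut (L ⊞ L)) = (Nat.card k ^ 2 - 1) * (Nat.card k ^ 2 - Nat.card k) := fun {L} hL => by
    rw [GrothLib.AutSum11.card_aut_congr (GrothLib.AutSum11.twoIso L),
      GrothLib.AutSum11.card_aut_pow L (ε hL) 2, Fin.prod_univ_two]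
    simp
  have arith : ∀ q : ℕ, 1 ≤ q → (q - 1) * ((q ^ 2 - 1) * (q ^ 2 - q)) = (q - 1) ^ 3 * (q + 1) * q := by
    intro q hq
    obtain ⟨p, rfl⟩ := Nat.exists_eq_add_of_le hq
    have e1 : (1 + p) ^ 2 - 1 = p * (p + 2) := by
      rw [show (1 + p) ^ 2 = p * (p + 2) + 1 by ring, Nat.add_sub_cancel]
    have e2 : (1 + p) ^ 2 - (1 + p) = p * (1 + p) := by
      rw [show (1 + p) ^ 2 = p * (1 + p) + (1 + p) by ring, Nat.add_sub_cancel]
    rw [e1, e2, show 1 + p - 1 = p by omega]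
    ring
  have hq1 : 1 ≤ Nat.card k := Nat.card_pos
  refine ⟨fun a b => ?_, fun a b => ?_, fun a b => ?_, fun a b c => ?_⟩
  · obtain ⟨e₁⟩ := a
    obtain ⟨e₂⟩ := b
    rw [GrothLib.AutSum11.card_aut_congr (biprod.mapIso (Iso.refl _) (biprod.mapIso e₁ e₂) ≪≫
        GrothLib.AutSum11.threeIso (Coh.structureModule X)),
      GrothLib.AutSum11.card_aut_pow _ (ε h0) 3, Fin.prod_univ_three]
    simp
  · obtain ⟨e⟩ := a
    have n₂ : ¬ Nonempty (L₂ ≅ Coh.structureModule X) := fun ⟨g⟩ => b ⟨e ≪≫ g⟩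
    rw [GrothLib.AutSum11.card_aut_congr (biprod.mapIso (Iso.refl _) (biprod.mapIso e (Iso.refl L₂))),
      GrothLib.AutSum11.card_aut_orth (Coh.structureModule X) (L₂ ⊞ L₂)
        (fun f => biprod.hom_ext _ _ (by rw [zero_comp]; exact z h0 hL₂ hd0 hd₂ (fun ⟨g⟩ => n₂ ⟨g.symm⟩) _)
          (by rw [zero_comp]; exact z h0 hL₂ hd0 hd₂ (fun ⟨g⟩ => n₂ ⟨g.symm⟩) _))
        (fun f => biprod.hom_ext' _ _ (by rw [comp_zero]; exact z hL₂ h0 hd₂ hd0 n₂ _)
          (by rw [comp_zero]; exact z hL₂ h0 hd₂ hd0 n₂ _)),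
      GrothLib.AutSum11.card_aut_one _ (ε h0), two hL₂, arith _ hq1]
  · obtain ⟨e⟩ := b
    have n₁ : ¬ Nonempty (L₁ ≅ Coh.structureModule X) := fun ⟨g⟩ => a ⟨g ≪≫ e.symm⟩
    rw [GrothLib.AutSum11.card_aut_congr (biprod.mapIso (Iso.refl _) (biprod.mapIso (Iso.refl L₁) e ≪≫
        biprod.braiding _ _) ≪≫ (GrothLib.AutSum11.assocIso _ _ _).symm ≪≫ biprod.braiding _ _),
      GrothLib.AutSum11.card_aut_orth L₁ (Coh.structureModule X ⊞ Coh.structureModule X)
        (fun f => biprod.hom_ext _ _ (by rw [zero_comp]; exact z hL₁ h0 hd₁ hd0 n₁ _)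
          (by rw [zero_comp]; exact z hL₁ h0 hd₁ hd0 n₁ _))
        (fun f => biprod.hom_ext' _ _ (by rw [comp_zero]; exact z h0 hL₁ hd0 hd₁ (fun ⟨g⟩ => n₁ ⟨g.symm⟩) _)
          (by rw [comp_zero]; exact z h0 hL₁ hd0 hd₁ (fun ⟨g⟩ => n₁ ⟨g.symm⟩) _)),
      GrothLib.AutSum11.card_aut_one _ (ε hL₁), two h0, arith _ hq1]
  · rw [GrothLib.AutSum11.card_aut_orth (Coh.structureModule X) (L₁ ⊞ L₂)
        (fun f => biprod.hom_ext _ _ (by rw [zero_comp]; exact z h0 hL₁ hd0 hd₁ (fun ⟨g⟩ => a ⟨g.symm⟩) _)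
          (by rw [zero_comp]; exact z h0 hL₂ hd0 hd₂ (fun ⟨g⟩ => b ⟨g.symm⟩) _))
        (fun f => biprod.hom_ext' _ _ (by rw [comp_zero]; exact z hL₁ h0 hd₁ hd0 a _)
          (by rw [comp_zero]; exact z hL₂ h0 hd₂ hd0 b _)),
      GrothLib.AutSum11.card_aut_orth L₁ L₂ (z hL₁ hL₂ hd₁ hd₂ c) (z hL₂ hL₁ hd₂ hd₁ (fun ⟨g⟩ => c ⟨g.symm⟩)),
      GrothLib.AutSum11.card_aut_one _ (ε h0), GrothLib.AutSum11.card_aut_one _ (ε hL₁),
      GrothLib.AutSum11.card_aut_one _ (ε hL₂)]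
    ring

end Groth.Agent.S18787
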