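import Groth.Statements.S18788
import Groth.Agent.Lib.AutSum11.Basic
import Groth.Agent.Lib.AutSum11.SelfExt
import Groth.Agent.Lib.CurveRR.Main
import Groth.Agent.Lib.CurveMult.TwistSplit
import Groth.Prelude.Def_KLin

set_option autoImplicit false
universe u
open CategoryTheory CategoryTheory.Limits AlgebraicGeometry
open VBCurve

namespace Groth.Agent.S18788

set_option backward.isDefEq.respectTransparency false


/-- Let k be a finite field and C a smooth proper geometrically integral curve over k (proper, smooth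
and geometrically integral over k, of dimension one) of genus one, i.e. dim_k H^1(C, O_C) = 1, with
a k-rational point O (an elliptic curve over k); k is finite with q elements. Let F be an O_C-module
with a short exact sequence 0 → O_C → F → O_C → 0 that does not split, and L an invertible
O_C-module of degree 0 (χ(L) − χ(O_C) = 0). Then Aut(O_C ⊕ F) has (q − 1)² q³ elements, and if L ≇
O_C then Aut(O_C ⊕ (L ⊗ F)) has (q − 1)² q elements. (The source states this for E = O_C ⊕ G with G
a geometrically indecomposable rank-2 bundle of degree 0, which it writes as L ⊗ F with F the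
non-split self-extension of O_C by a classification it quotes; the row takes G in that form
directly. The accompanying count of isomorphism classes is not restated.) (The published setting
takes k of characteristic at least 5; the argument does not use this and the row allows every finite
field.) -/
theorem result (k : Type u) [Field k] [Finite k] (X : Scheme.{u}) [X.Over (Spec (CommRingCat.of k))]
    [IsProper (X ↘ Spec (CommRingCat.of k))] [Smooth (X ↘ Spec (CommRingCat.of k))]
    [GeometricallyIntegral (X ↘ Spec (CommRingCat.of k))] (hdim : topologicalKrullDim ↥X = 1)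
    (hg : Curv2.genus k X = 1) (O : Spec (CommRingCat.of k) ⟶ X) (hO : O ≫ (X ↘ Spec (CommRingCat.of k)) = 𝟙 _)
    (T : ShortComplex X.Modules) (hT : T.ShortExact)
    (e₁ : T.X₁ ≅ Coh.structureModule X) (e₃ : T.X₃ ≅ Coh.structureModule X) (hns : ¬ IsSplitEpi T.g)
    (L : X.Modules) (hL : PicF.IsInvertible L) (hdeg : Curv2.deg k X L 1 = 0) :
    Nat.card (Aut (Coh.structureModule X ⊞ T.X₂)) = (Nat.card k - 1) ^ 2 * Nat.card k ^ 3 ∧
    (¬ Nonempty (L ≅ Coh.structureModule X) →
      Nat.card (Aut (Coh.structureModule X ⊞ CohB1.tensorMod L T.X₂)) = (Nat.card k - 1) ^ 2 * Nat.card k) := by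
  haveI : IsLocallyNoetherian X :=
    LocallyOfFiniteType.isLocallyNoetherian (X ↘ Spec (CommRingCat.of k))
  haveI : IsIntegral X := GeometricallyIntegral.isIntegral_of_subsingleton (X ↘ Spec (CommRingCat.of k))
  haveI : HasFiniteBiproducts X.Modules := Abelian.hasFiniteBiproducts
  have hx := (GrothLib.CurveMult.bijective_resMap_of_section k O hO (IsLocalRing.closedPoint k)).2
  have h0 : PicF.IsInvertible (Coh.structureModule X) := GrothLib.Euler.isInvertible_structure
  have hd0 := GrothLib.Euler.deg_structure (X := X) k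
  have hb : ∀ {M : X.Modules}, PicF.IsInvertible M → Function.Bijective fun c : k => c • 𝟙 M := fun {M} hM => by
    have h := GrothLib.AutSum11.endScalar_bijective hdim.le hx hM
    have e : (fun c : k => c • 𝟙 M) = fun c : k => (GrothLib.CurveMult.endScalar k M c : M ⟶ M) := by
      funext c
      rw [KLin.smul_id]
      rfl
    rw [e]
    exact h
  have z : ∀ {A B : X.Modules}, PicF.IsInvertible A → PicF.IsInvertible B →
      Curv2.deg k X A 1 = 0 → Curv2.deg k X B 1 = 0 → ¬ Nonempty (A ≅ B) → ∀ f : A ⟶ B, f = 0 :=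
    fun hA hB a b h => GrothLib.AutSum11.hom_eq_zero hdim.le hA hB (by rw [a, b]) h
  refine ⟨GrothLib.AutSum11.card_aut_sum_selfExt k hT e₁ e₃ (hb h0) hns, fun hne => ?_⟩
  obtain ⟨M, hM, -, ⟨e⟩, ⟨e'⟩⟩ := GrothLib.CurveMult.exists_inverse k hdim.le hL
  let P := GrothLib.Euler.tF L
  haveI : P.IsEquivalence := GrothLib.CurveMult.isEquivalence_tF e e'
  have hT' : (T.map P).ShortExact := hT.map_of_exact P
  have hns' : ¬ IsSplitEpi (T.map P).g := fun h => hns (IsSplitEpi.mk' ⟨P.preimage (section_ (T.map P).g),
    P.map_injective (by rw [P.map_comp, Functor.map_preimage, P.map_id]; exact IsSplitEpi.id _)⟩)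
  let u : P.obj (Coh.structureModule X) ≅ L := ((GrothLib.OX.tensorBraiding (X := X)).app L).app (Coh.structureModule X) ≪≫
    ((GrothLib.OX.tensorBraiding (X := X)).app (Coh.structureModule X)).app L ≪≫ GrothLib.OX.tensorUnitLeftIso L
  let a₁ : (T.map P).X₁ ≅ L := P.mapIso e₁ ≪≫ u
  let a₃ : (T.map P).X₃ ≅ L := P.mapIso e₃ ≪≫ u
  let w : CohB1.tensorMod L T.X₂ ≅ (T.map P).X₂ := (((GrothLib.OX.tensorBraiding (X := X)).app L).app T.X₂).symm
  haveI := hT'.mono_f
  haveI := hT'.epi_g
  have hto : ∀ v : Coh.structureModule X ⟶ (T.map P).X₂, v = 0 := fun v => by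
    have h1 : v ≫ (T.map P).g = 0 := by
      rw [← cancel_mono a₃.hom, zero_comp, Category.assoc]
      exact z h0 hL hd0 hdeg (fun ⟨g⟩ => hne ⟨g.symm⟩) _
    obtain ⟨t, ht⟩ := KernelFork.IsLimit.lift' hT'.fIsKernel v h1
    have h2 : t = 0 := by
      rw [← cancel_mono a₁.hom, zero_comp]
      exact z h0 hL hd0 hdeg (fun ⟨g⟩ => hne ⟨g.symm⟩) _
    rw [← ht, h2, zero_comp]
  have hfrom : ∀ v : (T.map P).X₂ ⟶ Coh.structureModule X, v = 0 := fun v => by
    have h1 : (T.map P).f ≫ v = 0 := by
      rw [← cancel_epi a₁.inv, comp_zero]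
      exact z hL h0 hdeg hd0 hne _
    obtain ⟨t, ht⟩ := CokernelCofork.IsColimit.desc' hT'.gIsCokernel v h1
    have h2 : t = 0 := by
      rw [← cancel_epi a₃.inv, comp_zero]
      exact z hL h0 hdeg hd0 hne _
    rw [← ht, h2, comp_zero]
  rw [GrothLib.AutSum11.card_aut_congr (biprod.mapIso (Iso.refl _) w),
    GrothLib.AutSum11.card_aut_orth _ _ hto hfrom,
    GrothLib.AutSum11.card_aut_one _ (RingEquiv.ofBijective _ (GrothLib.AutSum11.endScalar_bijective hdim.le hx h0)),
    GrothLib.AutSum11.card_aut_selfExt k hT' a₁ a₃ (hb hL) hns']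
  ring

end Groth.Agent.S18788
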