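import Groth.Statements.S18789
import Mathlib.RingTheory.Nakayama
import Mathlib.Algebra.Module.Projective
import Mathlib.LinearAlgebra.Matrix.NonsingularInverse
import Mathlib.LinearAlgebra.Matrix.ToLin
import Mathlib.RingTheory.Finiteness.Basic
-- import your own Groth.Agent.* helpers here

set_option autoImplicit false
universe u v w x
open TorusGr

namespace Groth.Agent.S18789

section Aux

open DirectSum

variable {k : Type u} [Field k] {M : Type v} [AddCommGroup M] [DecidableEq M]
  {A : Type w} [CommRing A] [Algebra k A] (𝒜 : M → Submodule k A) [GradedAlgebra 𝒜]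
  {P : Type x} [AddCommGroup P] [Module A P] [Module k P]
  (ℳ : M → Submodule k P) [Decomposition ℳ] [SetLike.GradedSMul 𝒜 ℳ]

/-- component -/
noncomputable def cpt (g : M) : P →+ P where
  toFun x := (decompose ℳ x g : P)
  map_zero' := by simp
  map_add' x y := by simp

omit [Module A P] in
theorem cpt_sum (y : P) : ∃ S : Finset M, y = ∑ g ∈ S, cpt ℳ g y := by
  classical
  exact ⟨_, (sum_support_decompose ℳ y).symm⟩

theorem cpt_smul (r : A) {h : M} {y : P} (hy : y ∈ ℳ h) (g : M) :
    cpt ℳ g (r • y) = cpt 𝒜 (g - h) r • y := by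
  induction r using DirectSum.Decomposition.inductionOn 𝒜 with
  | zero => simp
  | homogeneous m =>
    rename_i i
    have hm : (m : A) • y ∈ ℳ (i + h) := SetLike.GradedSMul.smul_mem m.2 hy
    change (decompose ℳ ((m : A) • y) g : P) = (decompose 𝒜 (m : A) (g - h) : A) • y
    by_cases hi : i = g - h
    · subst hi
      rw [sub_add_cancel] at hm
      rw [decompose_of_mem_same ℳ hm, decompose_of_mem_same 𝒜 m.2]
    · rw [decompose_of_mem_ne ℳ hm (fun e => hi (eq_sub_of_add_eq e)), decompose_of_mem_ne 𝒜 m.2 hi, zero_smul]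
  | add a b ha hb => rw [add_smul, map_add, map_add, ha, hb, add_smul]

end Aux

open DirectSum in
/-- Let `A` be a commutative algebra over a field `k`, graded by an additive commutative group `M` (for
`M` the character group of a split torus `T` this is a `T`-action on `Spec A`, and an `M`-graded
`A`-module is a `T`-equivariant quasi-coherent sheaf), let `P` be a finitely generated projective
`A`-module with a compatible `M`-grading (a locally free `T`-sheaf of finite rank), and let `m` be a
homogeneous maximal ideal with residue field `k` (a `T`-fixed rational point). If homogeneous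
elements `f i` of `P` reduce to a basis of `P/mP`, then there is a homogeneous `s ∉ m` such that
after inverting `s` the `f i` generate `P` and every relation among them is killed by a power of
`s`: on the invariant open `D(s)` the module is free on the homogeneous sections `f i`, with the
weights of the fibre `P/mP`. (The published statement has `M ≅ ℤ^r`, a split torus; here `M` is any
additive commutative group, i.e. any diagonalizable group.) -/
theorem result
    {k : Type u} [Field k] {M : Type v} [AddCommGroup M] [DecidableEq M]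
    {A : Type w} [CommRing A] [Algebra k A] (𝒜 : M → Submodule k A) [GradedAlgebra 𝒜]
    {P : Type x} [AddCommGroup P] [Module A P] [Module k P] [IsScalarTower k A P]
    (ℳ : M → Submodule k P) [Decomposition ℳ] [SetLike.GradedSMul 𝒜 ℳ]
    [Module.Finite A P] [Module.Projective A P]
    (m : Ideal A) [m.IsMaximal] (hm : m.IsHomogeneous 𝒜)
    (hrat : Function.Surjective (algebraMap k (A ⧸ m)))
    {n : ℕ} (wt : Fin n → M) (f : Fin n → P) (hf : ∀ i, f i ∈ ℳ (wt i))
    (hli : LinearIndependent (A ⧸ m)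
      (fun i => (Submodule.Quotient.mk (f i) : P ⧸ (m • (⊤ : Submodule A P)))))
    (hsp : Submodule.span A (Set.range f) ⊔ m • (⊤ : Submodule A P) = ⊤) :
    ∃ s : A, SetLike.IsHomogeneousElem 𝒜 s ∧ s ∉ m ∧
      (∀ p : P, ∃ (N : ℕ) (c : Fin n → A), s ^ N • p = ∑ i, c i • f i) ∧
      (∀ c : Fin n → A, ∑ i, c i • f i = 0 → ∃ N : ℕ, ∀ i, s ^ N * c i = 0) := by
  classical
  have hmix : ∀ (r : A), (∀ g, cpt 𝒜 g r ∈ m) → r ∈ m := fun r hr => by
    obtain ⟨S, hS⟩ := cpt_sum 𝒜 r
    rw [hS]; exact Ideal.sum_mem _ fun g _ => hr g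
  -- generation after inverting `s₁`
  set N := Submodule.span A (Set.range f)
  have hle : (⊤ : Submodule A (P ⧸ N)) ≤ m • ⊤ := by
    rw [← Submodule.range_mkQ N, LinearMap.range_eq_map]
    refine (Submodule.map_mono hsp.ge).trans ?_
    rw [Submodule.map_sup, Submodule.map_smul'', Submodule.mkQ_map_self, bot_sup_eq]
  obtain ⟨r, hr, hr0⟩ := Submodule.exists_sub_one_mem_and_smul_eq_zero_of_fg_of_le_smul m ⊤ Module.Finite.fg_top hle
  have hrm : r ∉ m := fun h => (inferInstance : m.IsMaximal).ne_top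
    ((Ideal.eq_top_iff_one m).2 (by simpa using m.sub_mem h hr))
  obtain ⟨g₁, hg₁⟩ : ∃ g, cpt 𝒜 g r ∉ m := by
    by_contra h
    push Not at h
    exact hrm (hmix r h)
  set s₁ := cpt 𝒜 g₁ r
  have hN : ∀ p : P, s₁ • p ∈ N := by
    have hgr : ∀ y ∈ N, ∀ g, cpt ℳ g y ∈ N := by
      intro y hy g
      obtain ⟨c, rfl⟩ := (Submodule.mem_span_range_iff_exists_fun A).1 hy
      rw [map_sum]
      refine Submodule.sum_mem _ fun i _ => ?_
      rw [cpt_smul 𝒜 ℳ (c i) (hf i)]
      exact Submodule.smul_mem _ _ (Submodule.subset_span ⟨i, rfl⟩)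
    intro p
    obtain ⟨S, hS⟩ := cpt_sum ℳ p
    rw [hS, Finset.smul_sum]
    refine Submodule.sum_mem _ fun h _ => ?_
    have hy : cpt ℳ h p ∈ ℳ h := (DirectSum.decompose ℳ p h).2
    have h1 : r • cpt ℳ h p ∈ N := by
      have := hr0 (Submodule.Quotient.mk (cpt ℳ h p)) Submodule.mem_top
      rwa [← Submodule.Quotient.mk_smul, Submodule.Quotient.mk_eq_zero] at this
    have := hgr _ h1 (g₁ + h)
    rwa [cpt_smul 𝒜 ℳ r hy, add_sub_cancel_right] at this
  -- relations
  let φ : (Fin n → A) →ₗ[A] P := Fintype.linearCombination A f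
  have hφr : LinearMap.range φ = N := Fintype.range_linearCombination A f
  obtain ⟨ψ, hψ⟩ := Module.projective_lifting_property φ.rangeRestrict
    ((s₁ • LinearMap.id : P →ₗ[A] P).codRestrict (LinearMap.range φ) fun p => by rw [hφr]; exact hN p)
    φ.surjective_rangeRestrict
  have hψ' : ∀ p, φ (ψ p) = s₁ • p := fun p => congrArg Subtype.val (LinearMap.congr_fun hψ p)
  let T : Matrix (Fin n) (Fin n) A := LinearMap.toMatrix' (ψ ∘ₗ φ)
  set d := T.det
  have hT : ∀ i j, T i j - (if i = j then s₁ else 0) ∈ m := by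
    intro i j
    have h1 : φ (ψ (φ (Pi.single j 1)) - s₁ • Pi.single j 1) = 0 := by
      rw [map_sub, map_smul, hψ', sub_self]
    rw [Fintype.linearCombination_apply] at h1
    have h2 := congrArg (Submodule.mkQ (m • (⊤ : Submodule A P))) h1
    rw [map_sum, map_zero] at h2
    have h3 := Fintype.linearIndependent_iff.1 hli
      (fun l => Ideal.Quotient.mk m ((ψ (φ (Pi.single j 1)) - s₁ • Pi.single j 1 : Fin n → A) l)) (by
        rw [← h2]
        refine Finset.sum_congr rfl fun l _ => ?_
        rw [map_smul]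
        rfl) i
    rw [Ideal.Quotient.eq_zero_iff_mem] at h3
    simpa [T, LinearMap.toMatrix'_apply, Pi.single_apply] using h3
  have hdm : d ∉ m := by
    intro hd
    refine hg₁ ((Ideal.IsPrime.mem_of_pow_mem (inferInstance : m.IsMaximal).isPrime n) ?_)
    rw [← Ideal.Quotient.eq_zero_iff_mem] at hd ⊢
    rw [RingHom.map_det] at hd
    rw [map_pow, ← hd]
    have : (Ideal.Quotient.mk m).mapMatrix T = (Ideal.Quotient.mk m s₁) • 1 := by
      refine Matrix.ext fun i j => ?_
      rw [RingHom.mapMatrix_apply, Matrix.map_apply, Ideal.Quotient.mk_eq_mk_iff_sub_mem _ _ |>.2 (hT i j),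
        Matrix.smul_apply, Matrix.one_apply]
      split_ifs <;> simp
    rw [this, Matrix.det_smul, Matrix.det_one, mul_one, Fintype.card_fin]
  have hd0 : ∀ c : Fin n → A, φ c = 0 → ∀ i, d * c i = 0 := by
    intro c hc i
    have h1 : T.mulVec c = 0 := by
      rw [LinearMap.toMatrix'_mulVec, LinearMap.comp_apply, hc, map_zero]
    have h2 := congrArg (T.adjugate.mulVec) h1
    rw [Matrix.mulVec_mulVec, Matrix.adjugate_mul, Matrix.mulVec_zero, Matrix.smul_mulVec, Matrix.one_mulVec] at h2
    exact congrFun h2 i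
  obtain ⟨g₂, hg₂⟩ : ∃ g, cpt 𝒜 g d ∉ m := by
    by_contra h
    push Not at h
    exact hdm (hmix d h)
  refine ⟨s₁ * cpt 𝒜 g₂ d, ⟨g₁ + g₂, SetLike.mul_mem_graded (DirectSum.decompose 𝒜 r g₁).2 (DirectSum.decompose 𝒜 d g₂).2⟩,
    fun h => ((inferInstance : m.IsMaximal).isPrime.mem_or_mem h).elim hg₁ hg₂, fun p => ?_, fun c hc => ?_⟩
  · obtain ⟨c, hc⟩ := (Submodule.mem_span_range_iff_exists_fun A).1 (hN p)
    refine ⟨1, fun i => cpt 𝒜 g₂ d * c i, ?_⟩
    rw [pow_one, mul_comm, mul_smul, ← hc, Finset.smul_sum]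
    exact Finset.sum_congr rfl fun i _ => smul_smul _ _ _
  · refine ⟨1, fun i => ?_⟩
    rw [pow_one, mul_assoc]
    obtain ⟨S, hS⟩ := cpt_sum 𝒜 (c i)
    rw [hS, Finset.mul_sum, Finset.mul_sum]
    refine Finset.sum_eq_zero fun h _ => ?_
    have hcomp : φ (fun l => cpt 𝒜 (h + wt i - wt l) (c l)) = 0 := by
      rw [Fintype.linearCombination_apply]
      have := congrArg (cpt ℳ (h + wt i)) hc
      rw [map_sum, map_zero] at this
      rw [← this]
      exact Finset.sum_congr rfl fun l _ => (cpt_smul 𝒜 ℳ (c l) (hf l) _).symm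
    have h1 := hd0 _ hcomp i
    rw [add_sub_cancel_right] at h1
    have h2 := congrArg (cpt 𝒜 (g₂ + h)) h1
    have hh : cpt 𝒜 h (c i) ∈ 𝒜 h := (DirectSum.decompose 𝒜 (c i) h).2
    rw [map_zero, ← smul_eq_mul, cpt_smul 𝒜 𝒜 d hh, add_sub_cancel_right, smul_eq_mul] at h2
    rw [h2, mul_zero]

end Groth.Agent.S18789
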