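import Groth.Statements.S1879
import Groth.Agent.Lib.GrpdQuot.Scheme
-- import your own Groth.Agent.* helpers here

set_option autoImplicit false
universe u
open CategoryTheory CategoryTheory.Limits AlgebraicGeometry
open Grpd

namespace Groth.Agent.S1879

/-- Let (U, R, s, t, c) be a groupoid scheme with U, R affine and s, t finite locally free. Then Γ(U) is
integral over the subring C of R-invariant functions. (A groupoid scheme carries U, R, s, t, c, e, i
over S with the groupoid axioms on T-points; 'finite locally free' is finite, flat and locally of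
finite presentation; C ⊂ Γ(U) is the ring of functions a with s♯(a) = t♯(a) and M = Spec C.) -/
theorem result (S : Scheme.{u}) (G : Grpd.GroupoidScheme S) [IsAffine G.U] [IsAffine G.R] [IsFinite G.s] [Flat G.s] [LocallyOfFinitePresentation G.s] [IsFinite G.t] [Flat G.t] [LocallyOfFinitePresentation G.t] : Algebra.IsIntegral G.invariants Γ(G.U, ⊤) := by
  haveI : letI := (GrothLib.GrpdQuot.gdata G).s.toAlgebra; Module.Finite Γ(G.U, ⊤) Γ(G.R, ⊤) :=
    GrothLib.GrpdQuot.finite_appTop_s G
  haveI : letI := (GrothLib.GrpdQuot.gdata G).s.toAlgebra; Module.Projective Γ(G.U, ⊤) Γ(G.R, ⊤) :=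
    GrothLib.GrpdQuot.projective_appTop_s G
  exact (GrothLib.GrpdQuot.gdata G).isIntegral_inv

end Groth.Agent.S1879
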