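import Groth.Statements.S18790
import Mathlib

set_option autoImplicit false
universe u v w
open TorusGr

namespace Groth.Agent.S18790

/-- Let `A` be a commutative algebra over a field `k`, graded by an additive commutative group `M` (for
`M` the character group of a split torus `T`, a `T`-action on `Spec A`), let `J` be the ideal
generated by the homogeneous elements of non-zero degree (its zero locus is the fixed-point
subscheme) and let `m ⊇ J` be a maximal ideal with residue field `k` (a fixed rational point) at
which the fixed-point subscheme is the reduced point: `J` and `m` agree after localizing at `m`.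
Then the cotangent space `m/m²` has no part of weight zero: every degree-zero element of `m` lies in
`m²`. (The published statement has `M ≅ ℤ^r`, a split torus, and phrases the conclusion as the
non-vanishing of the weights of a semi-invariant basis of `m/m²`; here `M` is any additive
commutative group, i.e. any diagonalizable group.) -/
theorem result
    {k : Type u} [Field k] {M : Type v} [AddCommGroup M] [DecidableEq M]
    {A : Type w} [CommRing A] [Algebra k A] (𝒜 : M → Submodule k A) [GradedAlgebra 𝒜]
    (m : Ideal A) [m.IsMaximal] (hrat : Function.Surjective (algebraMap k (A ⧸ m)))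
    (hfix : ∀ i : M, i ≠ 0 → ∀ a ∈ 𝒜 i, a ∈ m)
    (hred : ∀ a ∈ m, ∃ s ∉ m, s * a ∈ Ideal.span {b : A | ∃ i : M, i ≠ 0 ∧ b ∈ 𝒜 i})
    {f : A} (hf0 : f ∈ 𝒜 0) (hfm : f ∈ m) : f ∈ m ^ 2 := by
  classical
  let p0 : A →+ A := GradedRing.proj 𝒜 0
  have hp : ∀ {i : M} {x : A}, x ∈ 𝒜 i → i ≠ 0 → p0 x = 0 := fun hx hi => by
    rw [GradedRing.proj_apply]; exact DirectSum.decompose_of_mem_ne 𝒜 hx hi
  have key : ∀ x ∈ Ideal.span {b : A | ∃ i : M, i ≠ 0 ∧ b ∈ 𝒜 i}, ∀ r : A, p0 (r * x) ∈ m ^ 2 := by
    intro x hx
    induction hx using Submodule.span_induction with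
    | mem x hx =>
      obtain ⟨i, hi, hxi⟩ := hx
      intro r
      induction r using DirectSum.Decomposition.inductionOn 𝒜 with
      | zero => simp
      | add r r' hr hr' => rw [add_mul, map_add]; exact add_mem hr hr'
      | @homogeneous j r =>
        have hmem := SetLike.mul_mem_graded r.2 hxi
        by_cases h0 : j + i = 0
        · rw [GradedRing.proj_apply, DirectSum.decompose_of_mem_same 𝒜 (h0 ▸ hmem), pow_two]
          refine Ideal.mul_mem_mul (hfix j (fun hj => hi ?_) r r.2) (hfix i hi x hxi)
          rwa [hj, zero_add] at h0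
        · rw [hp hmem h0]; exact zero_mem _
    | zero => intro r; simp
    | add x y _ _ hx hy => intro r; rw [mul_add, map_add]; exact add_mem (hx r) (hy r)
    | smul s x _ ih => intro r; rw [smul_eq_mul, ← mul_assoc]; exact ih (r * s)
  obtain ⟨s, hs, hsf⟩ := hred f hfm
  have h1 : p0 (s * f) ∈ m ^ 2 := by simpa using key _ hsf 1
  rw [GradedRing.proj_apply, DirectSum.coe_decompose_mul_of_right_mem_zero (𝒜 := 𝒜) hf0] at h1
  have hs0 : (DirectSum.decompose 𝒜 s 0 : A) ∉ m := by
    intro h
    refine hs ?_
    rw [← DirectSum.sum_support_decompose 𝒜 s]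
    refine Submodule.sum_mem _ fun i _ => ?_
    rcases eq_or_ne i 0 with rfl | hi
    · exact h
    · exact hfix i hi _ (SetLike.coe_mem _)
  obtain ⟨t, u, hu, htu⟩ := ‹m.IsMaximal›.exists_inv hs0
  have : f = t * ((DirectSum.decompose 𝒜 s 0 : A) * f) + f * u := by linear_combination -f * htu
  rw [this]
  exact add_mem (Ideal.mul_mem_left _ t h1) (pow_two m ▸ Ideal.mul_mem_mul hfm hu)

end Groth.Agent.S18790
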