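import Groth.Statements.S18791
import Mathlib

set_option autoImplicit false
universe u v w x
open TorusGr

namespace Groth.Agent.S18791

/-- Let `φ : B → A` be a degree-preserving homomorphism of commutative algebras over a field `k` graded
by an additive commutative group `M` (for `M` the character group of a split torus, an equivariant
morphism `Spec A → Spec B`), and let `m` be a maximal ideal of `A` containing all homogeneous
elements of non-zero degree (a fixed point). Then the ideal of those `b` whose image is zero in the
local ring `A_m` is homogeneous: the homogeneous (weight) components of such a `b` again die in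
`A_m`. Since `A_m` embeds in its completion when `A` is Noetherian, these are the elements of `B`
that die in the completed local ring. (The published lemma asserts moreover that, for `B = k[Y_1, …,
Y_d]` mapping the `Y_i` to semi-invariant lifts of a basis of `m/m²`, the kernel of the induced
surjection of completions `k[[Y]] → Â_m` is generated by semi-invariant polynomials; generation of
that kernel by polynomials can fail, so only the statement about polynomial elements of the kernel
is recorded here. The published statement has `M ≅ ℤ^r` (a split torus) and `B` the polynomial ring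
on the lifts; here `M` is any additive commutative group and `B` any `M`-graded `k`-algebra.) -/
theorem result
    {k : Type u} [Field k] {M : Type v} [AddCommGroup M] [DecidableEq M]
    {A : Type w} [CommRing A] [Algebra k A] (𝒜 : M → Submodule k A) [GradedAlgebra 𝒜]
    {B : Type x} [CommRing B] [Algebra k B] (ℬ : M → Submodule k B) [GradedAlgebra ℬ]
    (φ : B →ₐ[k] A) (hφ : ∀ i : M, ∀ b ∈ ℬ i, φ b ∈ 𝒜 i)
    (m : Ideal A) [m.IsMaximal] (hfix : ∀ i : M, i ≠ 0 → ∀ a ∈ 𝒜 i, a ∈ m) :
    (RingHom.ker ((algebraMap A (Localization.AtPrime m)).comp (φ : B →+* A))).IsHomogeneous ℬ := by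
  classical
  intro i b hb
  rw [RingHom.mem_ker, RingHom.comp_apply, IsLocalization.map_eq_zero_iff m.primeCompl] at hb ⊢
  obtain ⟨⟨s, hs⟩, hsb⟩ := hb
  change s * φ b = 0 at hsb
  let N : Ideal A := Ideal.span ↑((DFinsupp.support (DirectSum.decompose ℬ b)).image
    fun l => φ (DirectSum.decompose ℬ b l : B))
  have hmemN : ∀ l, φ (DirectSum.decompose ℬ b l : B) ∈ N := by
    intro l
    by_cases hl : l ∈ DFinsupp.support (DirectSum.decompose ℬ b)
    · exact Ideal.subset_span (Finset.mem_coe.2 (Finset.mem_image_of_mem _ hl))
    · rw [DFinsupp.notMem_support_iff.1 hl]; simp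
  have hs0 : (DirectSum.decompose 𝒜 s 0 : A) ∉ m := by
    intro h
    refine hs ?_
    rw [← DirectSum.sum_support_decompose 𝒜 s]
    refine Submodule.sum_mem _ fun j _ => ?_
    rcases eq_or_ne j 0 with rfl | hj
    · exact h
    · exact hfix j hj _ (SetLike.coe_mem _)
  have hle : N ≤ m • N := by
    rw [Ideal.span_le]
    intro x hx
    simp only [Finset.coe_image, Set.mem_image] at hx
    obtain ⟨l, -, rfl⟩ := hx
    obtain ⟨t, u, hu, htu⟩ := ‹m.IsMaximal›.exists_inv hs0
    -- the component of degree `l` of `s * φ b`
    have hcomp : ∑ j ∈ DFinsupp.support (DirectSum.decompose 𝒜 s),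
        (DirectSum.decompose 𝒜 s j : A) * φ (DirectSum.decompose ℬ b (l - j) : B) = 0 := by
      let gr : ℬ →+*ᵍ 𝒜 := ⟨(φ : B →+* A), fun h => hφ _ _ h⟩
      have h0 := congrArg (fun z => (DirectSum.decompose 𝒜 z l : A)) hsb
      simp only [DirectSum.decompose_zero, DirectSum.zero_apply, ZeroMemClass.coe_zero] at h0
      rw [← h0]
      conv_rhs => rw [← DirectSum.sum_support_decompose 𝒜 s, Finset.sum_mul, DirectSum.decompose_sum,
        DFinsupp.finsetSum_apply, AddSubmonoidClass.coe_finsetSum]
      refine Finset.sum_congr rfl fun j _ => ?_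
      have := DirectSum.coe_decompose_mul_add_of_left_mem (𝒜 := 𝒜) (a := (DirectSum.decompose 𝒜 s j : A))
        (b := φ b) (j := l - j) (SetLike.coe_mem _)
      rw [add_sub_cancel] at this
      rw [this]
      congr 1
      exact GradedRingHom.map_directSumDecompose (𝒜 := ℬ) (ℬ := 𝒜) gr
    have hself : (DirectSum.decompose 𝒜 s 0 : A) * φ (DirectSum.decompose ℬ b l : B) ∈ m • N := by
      by_cases h0 : (0 : M) ∈ DFinsupp.support (DirectSum.decompose 𝒜 s)
      · rw [← Finset.add_sum_erase _ _ h0, sub_zero, add_eq_zero_iff_eq_neg] at hcomp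
        rw [hcomp]
        exact neg_mem (Submodule.sum_mem _ fun j hj => Submodule.smul_mem_smul
          (hfix j (Finset.mem_erase.1 hj).1 _ (SetLike.coe_mem _)) (hmemN _))
      · rw [DFinsupp.notMem_support_iff.1 h0]; simp
    have : φ (DirectSum.decompose ℬ b l : B) =
        t * ((DirectSum.decompose 𝒜 s 0 : A) * φ (DirectSum.decompose ℬ b l : B)) +
          u * φ (DirectSum.decompose ℬ b l : B) := by
      linear_combination -(φ (DirectSum.decompose ℬ b l : B)) * htu
    rw [this]
    exact add_mem (Submodule.smul_mem _ t hself) (Submodule.smul_mem_smul hu (hmemN l))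
  obtain ⟨r, hr, hrN⟩ := Submodule.exists_sub_one_mem_and_smul_eq_zero_of_fg_of_le_smul m N
    (Submodule.fg_span (Finset.finite_toSet _)) hle
  refine ⟨⟨r, fun h => ‹m.IsMaximal›.ne_top ((Ideal.eq_top_iff_one m).2 ?_)⟩, hrN _ (hmemN i)⟩
  have := sub_mem h hr
  rwa [sub_sub_cancel] at this

end Groth.Agent.S18791
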