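import Mathlib.RingTheory.Nilpotent.Exp
import Mathlib.Algebra.Module.LinearMap.End
import Groth.Statements.S18792
-- import your own Groth.Agent.* helpers here

set_option autoImplicit false
universe u
open DefMod

namespace Groth.Agent.S18792

/-- Let A be an associative unital algebra over ℚ, let a ∈ A be nilpotent and let b ∈ A. Then the
commutator map x ↦ a x − x a is a nilpotent ℚ-linear endomorphism of A, and exp(a) b exp(−a) =
exp(ad a)(b), where exp is the finite exponential series of a nilpotent element and ad a is the
commutator map. (The published statement takes A an algebra over an arbitrary commutative ring; the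
factorials in the exponential series require the rationals to act, so A is taken to be a ℚ-algebra
here. The intermediate double-sum expansion printed between the two sides is not restated.) -/
theorem result {A : Type u} [Ring A] [Algebra ℚ A] (a b : A)
    (ha : IsNilpotent a) :
    IsNilpotent (LinearMap.mulLeft ℚ a - LinearMap.mulRight ℚ a) ∧
      IsNilpotent.exp a * b * IsNilpotent.exp (-a) =
        IsNilpotent.exp (LinearMap.mulLeft ℚ a - LinearMap.mulRight ℚ a) b := by
  obtain ⟨n, hn⟩ := ha
  set L : Module.End ℚ A := LinearMap.mulLeft ℚ a with hL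
  set R : Module.End ℚ A := LinearMap.mulRight ℚ a with hR
  have hLn : L ^ n = 0 := by
    rw [hL, LinearMap.pow_mulLeft, hn]; ext; simp
  have hRn : (-R) ^ n = 0 := by
    rw [show -R = LinearMap.mulRight ℚ (-a) from LinearMap.ext fun y => by simp [hR], LinearMap.pow_mulRight, neg_pow, hn]; ext; simp
  have hc : Commute L (-R) := by
    exact Commute.neg_right (R := Module.End ℚ A) (LinearMap.commute_mulLeft_right (R := ℚ) a a)
  have hLi : IsNilpotent L := ⟨n, hLn⟩
  have hRi : IsNilpotent (-R) := ⟨n, hRn⟩
  refine ⟨by rw [sub_eq_add_neg]; exact hc.isNilpotent_add hLi hRi, ?_⟩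
  rw [sub_eq_add_neg, IsNilpotent.exp_add_of_commute hc hLi hRi, Module.End.mul_apply]
  have hna : (-a) ^ n = 0 := by rw [neg_pow, hn, mul_zero]
  have h1 : ∀ x, IsNilpotent.exp L x = IsNilpotent.exp a * x := fun x => by
    rw [IsNilpotent.exp_eq_sum hLn, IsNilpotent.exp_eq_sum hn, LinearMap.sum_apply, Finset.sum_mul]
    refine Finset.sum_congr rfl fun i _ => ?_
    rw [LinearMap.smul_apply, smul_mul_assoc, hL, LinearMap.pow_mulLeft, LinearMap.mulLeft_apply]
  have h2 : ∀ x, IsNilpotent.exp (-R) x = x * IsNilpotent.exp (-a) := fun x => by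
    rw [IsNilpotent.exp_eq_sum hRn, IsNilpotent.exp_eq_sum hna, LinearMap.sum_apply, Finset.mul_sum]
    refine Finset.sum_congr rfl fun i _ => ?_
    rw [LinearMap.smul_apply, mul_smul_comm,
      show -R = LinearMap.mulRight ℚ (-a) from LinearMap.ext fun y => by simp [hR],
      LinearMap.pow_mulRight, LinearMap.mulRight_apply]
  rw [h1, h2, mul_assoc]

end Groth.Agent.S18792
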