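import Mathlib.LinearAlgebra.TensorProduct.Tower
import Mathlib.RingTheory.IntegralClosure.IsIntegral.Basic
import Mathlib.FieldTheory.IsAlgClosed.AlgebraicClosure
import Mathlib.LinearAlgebra.Basis.VectorSpace
import Mathlib.RingTheory.TensorProduct.Maps
import Mathlib
import Groth.Statements.S18795
-- import your own Groth.Agent.* helpers here

set_option autoImplicit false
universe u v w
open scoped TensorProduct
open DefMod

namespace Groth.Agent.S18795

/-- Let E be a left module over an associative algebra D over a field K of characteristic zero. Assume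
that the D-linear endomorphisms of E form a finite-dimensional K-vector space, that E has a finite
presentation over D, and that E is absolutely irreducible: its base change K̄ ⊗_K E to an algebraic
closure K̄ of K is nonzero and its only K̄-subspaces stable under every element of D are 0 and the
whole space. Then End_D(E) = K: every D-linear endomorphism of E is multiplication by a scalar from
K. -/
theorem result
    {K : Type u} [Field K] [CharZero K]
    {D : Type v} [Ring D] [Algebra K D]
    {E : Type w} [AddCommGroup E] [Module K E] [Module D E] [IsScalarTower K D E]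
    [Module.Finite K (E →ₗ[D] E)] [Module.FinitePresentation D E]
    (habs : (Nontrivial (AlgebraicClosure K ⊗[K] E) ∧ ∀ N : Submodule (AlgebraicClosure K) (AlgebraicClosure K ⊗[K] E), (∀ (d : D) (x : AlgebraicClosure K ⊗[K] E), x ∈ N → (DistribSMul.toLinearMap K E d).baseChange (AlgebraicClosure K) x ∈ N) → N = ⊥ ∨ N = ⊤))
    (φ : E →ₗ[D] E) : ∃ c : K, ∀ x : E, φ x = c • x := by
  classical
  obtain ⟨hnt, hirr⟩ := habs
  let L := AlgebraicClosure K
  let Ψ : Module.End D E →ₐ[K] Module.End L (L ⊗[K] E) :=
    (Module.End.baseChangeHom K L E).comp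
      { toFun := fun f => f.restrictScalars K
        map_one' := rfl
        map_mul' := fun _ _ => rfl
        map_zero' := rfl
        map_add' := fun _ _ => rfl
        commutes' := fun _ => rfl }
  let g := Ψ φ
  have hint : IsIntegral K φ := @Algebra.IsIntegral.isIntegral K (Module.End D E) _ _ _ (Algebra.IsIntegral.of_finite K (Module.End D E)) φ
  set P := minpoly K φ with hP
  have h0 : Polynomial.aeval g (P.map (algebraMap K L)) = 0 := by
    rw [Polynomial.aeval_map_algebraMap, Polynomial.aeval_algHom_apply, hP, minpoly.aeval, map_zero]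
  have hprod : ∀ s : Multiset L, Polynomial.aeval g (s.map fun a => Polynomial.X - Polynomial.C a).prod = 0 →
      ∃ c : L, ¬ Function.Injective (g - algebraMap L (Module.End L (L ⊗[K] E)) c) := by
    intro s
    induction s using Multiset.induction with
    | empty =>
      intro h
      simp only [Multiset.map_zero, Multiset.prod_zero, map_one] at h
      obtain ⟨x, hx⟩ := exists_ne (0 : L ⊗[K] E)
      exact absurd (LinearMap.congr_fun h x) hx
    | cons a s ih =>
      intro h
      rw [Multiset.map_cons, Multiset.prod_cons, map_mul, map_sub, Polynomial.aeval_X, Polynomial.aeval_C] at h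
      by_cases hi : Function.Injective (g - algebraMap L (Module.End L (L ⊗[K] E)) a)
      · refine ih (LinearMap.ext fun x => hi ?_)
        rw [LinearMap.zero_apply, map_zero]
        exact LinearMap.congr_fun h x
      · exact ⟨a, hi⟩
  obtain ⟨c, hc⟩ := hprod (P.map (algebraMap K L)).roots (by
    rwa [← Polynomial.Splits.eq_prod_roots_of_monic (IsAlgClosed.splits _) ((minpoly.monic hint).map _)])
  let N : Submodule L (L ⊗[K] E) := LinearMap.ker (g - algebraMap L (Module.End L (L ⊗[K] E)) c)
  have hgt : ∀ (q : L) (e : E), g (q ⊗ₜ[K] e) = q ⊗ₜ[K] φ e := fun q e => by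
    show (φ.restrictScalars K).baseChange L (q ⊗ₜ[K] e) = _
    simp
  have hcomm : ∀ (d : D) (x : L ⊗[K] E),
      g ((DistribSMul.toLinearMap K E d).baseChange L x) = (DistribSMul.toLinearMap K E d).baseChange L (g x) := fun d x => by
    induction x using TensorProduct.induction_on with
    | zero => simp
    | add u v hu hv => simp only [map_add, hu, hv]
    | tmul q e => simp [hgt]
  have hstab : ∀ (d : D) (x : L ⊗[K] E), x ∈ N → (DistribSMul.toLinearMap K E d).baseChange L x ∈ N := fun d x hx => by
    have hx' : g x = c • x := by simpa [N, sub_eq_zero, Algebra.algebraMap_eq_smul_one] using hx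
    simp [N, hcomm, hx', Algebra.algebraMap_eq_smul_one]
  rcases hirr N hstab with h | h
  · exact absurd (LinearMap.ker_eq_bot.1 h) hc
  have hg : ∀ e : E, (1 : L) ⊗ₜ[K] φ e = c ⊗ₜ e := fun e => by
    have : (1 : L) ⊗ₜ[K] e ∈ N := h ▸ Submodule.mem_top
    simpa [N, hgt, sub_eq_zero, Algebra.algebraMap_eq_smul_one, TensorProduct.smul_tmul'] using this
  haveI : Nontrivial E := by
    by_contra hE
    rw [not_nontrivial_iff_subsingleton] at hE
    obtain ⟨x, hx⟩ := exists_ne (0 : L ⊗[K] E)
    exact hx (Subsingleton.elim _ _)
  obtain ⟨e₀, he₀⟩ := exists_ne (0 : E)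
  obtain ⟨lam, hlam⟩ := Module.Projective.exists_dual_ne_zero K he₀
  obtain ⟨c₀, hc₀⟩ : ∃ c₀ : K, algebraMap K L c₀ = c := by
    refine ⟨(lam e₀)⁻¹ * lam (φ e₀), ?_⟩
    have := congrArg (fun z => TensorProduct.rid K L (lam.lTensor L z)) (hg e₀)
    simp only [LinearMap.lTensor_tmul, TensorProduct.rid_tmul, Algebra.smul_def, mul_one] at this
    rw [map_mul, this, ← mul_assoc, ← map_mul, inv_mul_cancel₀ hlam, map_one, one_mul]
  refine ⟨c₀, fun x => sub_eq_zero.1 ?_⟩
  by_contra hne
  obtain ⟨mu, hmu⟩ := Module.Projective.exists_dual_ne_zero K hne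
  have h1 : (1 : L) ⊗ₜ[K] (φ x - c₀ • x) = 0 := by
    rw [TensorProduct.tmul_sub, hg, ← hc₀, TensorProduct.tmul_smul, TensorProduct.smul_tmul', Algebra.smul_def,
      mul_one, sub_self]
  have h2 := congrArg (fun z => TensorProduct.rid K L (mu.lTensor L z)) h1
  simp only [LinearMap.lTensor_tmul, TensorProduct.rid_tmul, Algebra.smul_def, mul_one, map_zero] at h2
  exact hmu ((algebraMap K L).injective (h2.trans (map_zero _).symm))

end Groth.Agent.S18795
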