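import Mathlib.LinearAlgebra.TensorProduct.Tower
import Mathlib.LinearAlgebra.TensorProduct.Basis
import Mathlib.LinearAlgebra.Basis.VectorSpace
import Mathlib.RingTheory.Finiteness.Basic
import Groth.Statements.S18796
-- import your own Groth.Agent.* helpers here

set_option autoImplicit false
universe u v w w' u'
open scoped TensorProduct
open DefMod

namespace Groth.Agent.S18796

/-- Let K be a field of characteristic zero, D an associative K-algebra, E a left D-module that is
finitely presented over D, F a left D-module and P a commutative K-algebra. The canonical P-linear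
map Φ : P ⊗_K Hom_D(E, F) → Hom_P(P ⊗_K E, P ⊗_K F), determined by p ⊗ f ↦ p · (1_P ⊗ f), is
injective, and its image consists exactly of the P-linear maps that commute with the action of every
element of D; in other words Φ identifies P ⊗_K Hom_D(E, F) with the module of homomorphisms P ⊗_K E
→ P ⊗_K F over P ⊗_K D. The map Φ is pinned here by its values on pure tensors. -/
theorem result
    {K : Type u} [Field K] [CharZero K]
    {D : Type v} [Ring D] [Algebra K D]
    {E : Type w} [AddCommGroup E] [Module K E] [Module D E] [IsScalarTower K D E]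
    [Module.FinitePresentation D E]
    {F : Type w'} [AddCommGroup F] [Module K F] [Module D F] [IsScalarTower K D F]
    (P : Type u') [CommRing P] [Algebra K P]
    (Φ : P ⊗[K] (E →ₗ[D] F) →ₗ[P] (P ⊗[K] E →ₗ[P] P ⊗[K] F))
    (hΦ : ∀ (p : P) (f : E →ₗ[D] F), Φ (p ⊗ₜ[K] f) = p • (f.restrictScalars K).baseChange P) :
    Function.Injective Φ ∧
      ∀ g : P ⊗[K] E →ₗ[P] P ⊗[K] F,
        g ∈ LinearMap.range Φ ↔
          ∀ d : D, g ∘ₗ (DistribSMul.toLinearMap K E d).baseChange P =
            (DistribSMul.toLinearMap K F d).baseChange P ∘ₗ g := by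
  classical
  let b := Module.Free.chooseBasis K P
  have hrepr : ∀ {M : Type max w w'} [AddCommGroup M] [Module K M] (z : P ⊗[K] M) (i : _),
      TensorProduct.equivFinsuppOfBasisLeft b z i = TensorProduct.lid K M ((b.coord i).rTensor M z) := by
    intro M _ _ z i
    induction z using TensorProduct.induction_on with
    | zero => simp
    | add x y hx hy => simp [hx, hy]
    | tmul p m => simp
  let cH := fun i => (TensorProduct.lid K (E →ₗ[D] F)).toLinearMap ∘ₗ (b.coord i).rTensor (E →ₗ[D] F)
  let cF := fun i => (TensorProduct.lid K F).toLinearMap ∘ₗ (b.coord i).rTensor F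
  have hH : ∀ z i, TensorProduct.equivFinsuppOfBasisLeft b z i = cH i z := fun z i => by
    induction z using TensorProduct.induction_on with
    | zero => simp
    | add x y hx hy => simp [hx, hy]
    | tmul p m => simp [cH]
  have hF : ∀ z i, TensorProduct.equivFinsuppOfBasisLeft b z i = cF i z := fun z i => by
    induction z using TensorProduct.induction_on with
    | zero => simp
    | add x y hx hy => simp [hx, hy]
    | tmul p m => simp [cF]
  have key : ∀ z i e, cF i (Φ z ((1 : P) ⊗ₜ e)) = cH i z e := fun z i e => by
    induction z using TensorProduct.induction_on with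
    | zero => simp
    | add x y hx hy => simp [hx, hy]
    | tmul p f => simp [cF, cH, hΦ, TensorProduct.smul_tmul']
  refine ⟨(injective_iff_map_eq_zero Φ).2 fun z hz => ?_, fun g => ⟨?_, fun hg => ?_⟩⟩
  · refine (TensorProduct.equivFinsuppOfBasisLeft b).map_eq_zero_iff.1 (Finsupp.ext fun i => LinearMap.ext fun e => ?_)
    rw [hH, ← key, hz]
    simp
  · rintro ⟨z, rfl⟩ d
    refine LinearMap.ext fun x => ?_
    simp only [LinearMap.comp_apply]
    induction z using TensorProduct.induction_on with
    | zero => simp
    | add u v hu hv => simp [hu, hv]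
    | tmul p f =>
      induction x using TensorProduct.induction_on with
      | zero => simp
      | add u v hu hv => simp only [map_add, hu, hv]
      | tmul q e => simp [hΦ, TensorProduct.smul_tmul']
  · have hcomm : ∀ i (d : D) (x : P ⊗[K] F),
        cF i ((DistribSMul.toLinearMap K F d).baseChange P x) = d • cF i x := fun i d x => by
      induction x using TensorProduct.induction_on with
      | zero => simp
      | add u v hu hv => simp only [map_add, hu, hv, smul_add]
      | tmul p y => simpa [cF] using smul_comm _ d y
    let f : _ → E →ₗ[D] F := fun i =>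
      { toFun := fun e => cF i (g ((1 : P) ⊗ₜ e))
        map_add' := fun x y => by rw [TensorProduct.tmul_add, map_add, map_add]
        map_smul' := fun d e => by
          rw [RingHom.id_apply, ← hcomm, show (1 : P) ⊗ₜ[K] (d • e) = (DistribSMul.toLinearMap K E d).baseChange P (1 ⊗ₜ e) by simp]
          exact congrArg (cF i) (LinearMap.congr_fun (hg d) _) }
    obtain ⟨n, gen, hgen⟩ := Module.Finite.exists_fin (R := D) (M := E)
    let s := Finset.univ.biUnion fun j => (TensorProduct.equivFinsuppOfBasisLeft b (g ((1 : P) ⊗ₜ gen j))).support
    have hs : ∀ i, i ∉ s → f i = 0 := fun i hi => by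
      refine LinearMap.ext_on_range hgen fun j => ?_
      simp only [s, Finset.mem_biUnion, Finset.mem_univ, true_and, not_exists, Finsupp.mem_support_iff, not_not] at hi
      exact (hF _ i).symm.trans (hi j)
    refine ⟨∑ i ∈ s, b i ⊗ₜ f i, ?_⟩
    have h1 : ∀ e, Φ (∑ i ∈ s, b i ⊗ₜ f i) ((1 : P) ⊗ₜ e) = g ((1 : P) ⊗ₜ e) := fun e => by
      refine (TensorProduct.equivFinsuppOfBasisLeft b).injective (Finsupp.ext fun i => ?_)
      rw [hF, key, map_sum, hF]
      simp only [LinearMap.sum_apply, cH, LinearMap.comp_apply, LinearEquiv.coe_coe, LinearMap.rTensor_tmul,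
        TensorProduct.lid_tmul, Module.Basis.coord_apply, Module.Basis.repr_self, Finsupp.single_apply, ite_smul,
        one_smul, zero_smul]
      by_cases hi : i ∈ s
      · rw [Finset.sum_eq_single i (fun j _ hj => by rw [if_neg hj]; rfl) (fun h => absurd hi h), if_pos rfl]
        rfl
      · rw [Finset.sum_eq_zero fun j hj => by rw [if_neg (fun h => hi (by rw [← h]; exact hj))]; rfl]
        exact (LinearMap.congr_fun (hs i hi) e).symm
    refine LinearMap.ext fun x => ?_
    induction x using TensorProduct.induction_on with
    | zero => simp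
    | add u v hu hv => simp only [map_add, hu, hv]
    | tmul q e =>
      rw [show q ⊗ₜ[K] e = q • ((1 : P) ⊗ₜ[K] e) by simp [TensorProduct.smul_tmul'], map_smul, map_smul, h1]

end Groth.Agent.S18796
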