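import Groth.Statements.S1880
import Groth.Agent.Lib.GrpdQuot.Scheme
-- import your own Groth.Agent.* helpers here

set_option autoImplicit false
universe u
open CategoryTheory CategoryTheory.Limits AlgebraicGeometry
open Grpd

namespace Groth.Agent.S1880

/-- Let (U, R, s, t, c) be a groupoid scheme with U, R affine and s, t finite locally free. For f ∈
Γ(U), the norm along s♯ of t♯(f) is an R-invariant function. (Mathlib's norm is the determinant when
Γ(R) is free over Γ(U) via s♯ and 1 otherwise; the content is the free case, e.g. after localizing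
U.) (A groupoid scheme carries U, R, s, t, c, e, i over S with the groupoid axioms on T-points;
'finite locally free' is finite, flat and locally of finite presentation; C ⊂ Γ(U) is the ring of
functions a with s♯(a) = t♯(a) and M = Spec C.) -/
theorem result (S : Scheme.{u}) (G : Grpd.GroupoidScheme S) [IsAffine G.U] [IsAffine G.R] [IsFinite G.s] [Flat G.s] [LocallyOfFinitePresentation G.s] [IsFinite G.t] [Flat G.t] [LocallyOfFinitePresentation G.t] (f : Γ(G.U, ⊤)) : G.normST f ∈ G.invariants := by
  classical
  letI := G.s.appTop.hom.toAlgebra
  by_cases h : ∃ σ : Finset Γ(G.R, ⊤), Nonempty (Module.Basis σ Γ(G.U, ⊤) Γ(G.R, ⊤))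
  · obtain ⟨σ, ⟨b⟩⟩ := h
    let b' := b.reindex σ.equivFin
    let T : GrothLib.GrpdQuot.Sys (GrothLib.GrpdQuot.gdata G).s (Fin σ.card) :=
      { b := b'
        φ := fun k => (b'.coord k).toAddMonoidHom
        φ_smul := fun k a x => by
          change b'.coord k (G.s.appTop.hom a * x) = _
          rw [show G.s.appTop.hom a * x = a • x from (Algebra.smul_def a x).symm, map_smul]
          rfl
        expand := fun x => by
          conv_rhs => rw [← b'.sum_repr x]
          exact Finset.sum_congr rfl fun k _ => (Algebra.smul_def _ _).symm }
    have e : G.normST f = (T.mat (G.t.appTop.hom f)).det := by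
      change Algebra.norm Γ(G.U, ⊤) (G.t.appTop.hom f) = _
      rw [Algebra.norm_eq_matrix_det b']
      congr 1
      ext i j
      rw [Algebra.leftMulMatrix_eq_repr_mul]
      rfl
    rw [e, Matrix.det_eq_sign_charpoly_coeff]
    exact mul_mem (pow_mem (neg_mem (one_mem _)) _)
      ((GrothLib.GrpdQuot.gdata G).charpoly_coeff_mem T f 0)
  · have e : G.normST f = 1 := Algebra.norm_eq_one_of_not_exists_basis _ h _
    rw [e]
    exact one_mem _

end Groth.Agent.S1880
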