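import Groth.Agent.Lib.DefMod26.Basic
import Groth.Statements.S18801
-- import your own Groth.Agent.* helpers here

set_option autoImplicit false
universe u v w w' w''
open CategoryTheory
open DefMod

namespace Groth.Agent.S18801

/-- Fix a field K of characteristic zero and an associative K-algebra D, and suppose E is a nonzero left
D-module whose only D-linear endomorphisms are scalars from K. Take a surjection π : R' → R between
Artinian local K-algebras, each having residue field K. Suppose (F', θ') is a deformation of E over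
R' and (F, θ) one over R (meaning: the ring and D-actions commute, the module is flat, and θ' resp.
θ is D-linear, semilinear with respect to the augmentation, onto, and has kernel m_{R'} F' resp. m_R
F). Suppose further that u : F' → F is a morphism of deformations lying over π, i.e. u is D-linear,
π-semilinear, satisfies θ ∘ u = θ', is onto, and has kernel (ker π) F' (hence u induces R ⊗_{R'} F'
≅ F). Under these assumptions the map Aut(F', θ') → Aut(F, θ) is onto: given any bijection α of F
that is both R-linear and D-linear with θ ∘ α = θ, there exists an R'-linear, D-linear bijection α'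
of F' satisfying θ' ∘ α' = θ' and u ∘ α' = α ∘ u. (The second assertion of the corollary, namely
that E has a prorepresentable deformation functor once Ext¹_D(E, E) is additionally
finite-dimensional, is not formalized here.) -/
theorem result
    {K : Type u} [Field K] [CharZero K]
    {D : Type v} [Ring D] [Algebra K D]
    {E : Type w} [AddCommGroup E] [Module K E] [Module D E] [IsScalarTower K D E] [Nontrivial E]
    (hE : ∀ ψ : E →ₗ[D] E, ∃ c : K, ∀ y : E, ψ y = c • y)
    {R' R : ArtFun.Art K K} (π : R' ⟶ R) (hπ : Function.Surjective π)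
    {F' : Type w''} [AddCommGroup F'] [Module K F'] [Module R' F'] [Module D F']
    [IsScalarTower K R' F'] [IsScalarTower K D F'] [SMulCommClass R' D F'] [Module.Flat R' F']
    (θ' : F' →ₗ[D] E) (hθ' : ∀ (r : R') (x : F'), θ' (r • x) = R'.res r • θ' x)
    (hθ'surj : Function.Surjective θ')
    (hθ'ker : ∀ x : F', θ' x = 0 ↔ x ∈ IsLocalRing.maximalIdeal R' • (⊤ : Submodule R' F'))
    {F : Type w'} [AddCommGroup F] [Module K F] [Module R F] [Module D F]
    [IsScalarTower K R F] [IsScalarTower K D F] [SMulCommClass R D F] [Module.Flat R F]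
    (θ : F →ₗ[D] E) (hθ : ∀ (r : R) (x : F), θ (r • x) = R.res r • θ x)
    (hθsurj : Function.Surjective θ)
    (hθker : ∀ x : F, θ x = 0 ↔ x ∈ IsLocalRing.maximalIdeal R • (⊤ : Submodule R F))
    (u : F' →ₗ[D] F) (huπ : ∀ (r : R') (x : F'), u (r • x) = π r • u x)
    (huθ : ∀ x : F', θ (u x) = θ' x) (husurj : Function.Surjective u)
    (huker : ∀ x : F', u x = 0 ↔ x ∈ (RingHom.ker π.toAlgHom) • (⊤ : Submodule R' F'))
    (α : F →ₗ[R] F) (hαD : ∀ (d : D) (x : F), α (d • x) = d • α x) (hαθ : ∀ x : F, θ (α x) = θ x)
    (hαbij : Function.Bijective α) :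
    ∃ α' : F' →ₗ[R'] F', (∀ (d : D) (x : F'), α' (d • x) = d • α' x) ∧ (∀ x : F', θ' (α' x) = θ' x) ∧
      Function.Bijective α' ∧ ∀ x : F', u (α' x) = α (u x) := by
  obtain ⟨r, hr⟩ := GrothLib.DefMod26.exists_smul_eq hE R θ hθ hθsurj hθker α hαD
  obtain ⟨e, he⟩ := exists_ne (0 : E)
  obtain ⟨x, rfl⟩ := hθsurj e
  have h1 : R.res r = 1 := by
    have h2 : R.res r • θ x = (1 : K) • θ x := by rw [← hθ, ← hr, hαθ, one_smul]
    rw [← sub_eq_zero, ← sub_smul] at h2
    exact sub_eq_zero.1 ((smul_eq_zero.1 h2).resolve_right he)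
  obtain ⟨r', rfl⟩ := hπ r
  have h1' : R'.res r' = 1 := by rw [← ArtFun.Art.res_app π]; exact h1
  have hu : IsUnit r' := by
    rw [← IsLocalRing.notMem_maximalIdeal, ArtFun.Art.mem_maximalIdeal_iff, h1']
    exact one_ne_zero
  obtain ⟨v, rfl⟩ := hu
  refine ⟨DistribSMul.toLinearMap R' F' (v : R'), fun d z => smul_comm (v : R') d z, fun z => ?_,
    ⟨fun a b h => ?_, fun z => ⟨(↑v⁻¹ : R') • z, ?_⟩⟩, fun z => ?_⟩
  · show θ' ((v : R') • z) = θ' z
    rw [hθ', h1', one_smul]
  · have h' : (v : R') • a = (v : R') • b := h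
    have := congrArg (fun w => (↑v⁻¹ : R') • w) h'
    simpa [← mul_smul] using this
  · show (v : R') • (↑v⁻¹ : R') • z = z
    rw [← mul_smul, Units.mul_inv, one_smul]
  · show u ((v : R') • z) = α (u z)
    rw [huπ, hr]

end Groth.Agent.S18801
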