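import Mathlib
import Groth.Statements.S18802
-- import your own Groth.Agent.* helpers here

set_option autoImplicit false
universe u v w w' w''
open DefMod

namespace Groth.Agent.S18802

/-- Let K be a field of characteristic zero, D an associative K-algebra and E, F left D-modules. A
K-linear map s : D → Hom_K(E, F) with s(ab)(e) = a s(b)(e) + s(a)(b e) (a derivation into the
bimodule Hom_K(E, F), i.e. a Hochschild 1-cocycle) defines the twisted sum F ⊕_s E = F × E with a ·
(f, e) = (a f + s(a) e, a e), an extension of E by F. Every extension of left D-modules 0 → F → Q →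
E → 0 arises this way: there are such an s and a D-linear isomorphism Q ≅ F ⊕_s E carrying the given
map F → Q to the inclusion f ↦ (f, 0) and compatible with the two projections onto E. (Together with
the splitting criterion this identifies derivations modulo principal derivations with Ext¹_D(E, F);
the compatibility of that identification with addition and scalars is not restated.) -/
theorem result
    {K : Type u} [Field K] [CharZero K]
    {D : Type v} [Ring D] [Algebra K D]
    {E : Type w} [AddCommGroup E] [Module K E] [Module D E] [IsScalarTower K D E]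
    {F : Type w'} [AddCommGroup F] [Module K F] [Module D F] [IsScalarTower K D F]
    {Q : Type w''} [AddCommGroup Q] [Module D Q]
    (i : F →ₗ[D] Q) (p : Q →ₗ[D] E) (hi : Function.Injective i) (hp : Function.Surjective p)
    (hex : Function.Exact i p) :
    ∃ (s : D →ₗ[K] E →ₗ[K] F) (hs : W4c6defoisocp1.IsHomDerivation s) (Φ : Q ≃ₗ[D] W4c6defoisocp1.TwistExt s hs),
      (∀ f : F, Φ (i f) = W4c6defoisocp1.TwistExt.inl f) ∧ ∀ q : Q, W4c6defoisocp1.TwistExt.snd (Φ q) = p q := by
  letI : Module K Q := Module.compHom Q (algebraMap K D)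
  haveI : IsScalarTower K D Q := ⟨fun c a q => by
    show (c • a) • q = algebraMap K D c • (a • q)
    rw [← mul_smul, Algebra.smul_def]⟩
  let pK : Q →ₗ[K] E := p.restrictScalars K
  let iK : F →ₗ[K] Q := i.restrictScalars K
  obtain ⟨σ, hσ⟩ := Module.projective_lifting_property pK LinearMap.id hp
  have hσ' : ∀ e, p (σ e) = e := fun e => LinearMap.congr_fun hσ e
  obtain ⟨r, hr⟩ := iK.exists_leftInverse_of_injective (LinearMap.ker_eq_bot.2 hi)
  have hr' : ∀ f, r (i f) = f := fun f => LinearMap.congr_fun hr f
  have hir : ∀ q, p q = 0 → i (r q) = q := fun q hq => by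
    obtain ⟨f, rfl⟩ := (hex q).1 hq
    rw [hr']
  let s : D →ₗ[K] E →ₗ[K] F :=
    LinearMap.mk₂ K (fun a e => r (a • σ e - σ (a • e)))
      (fun a b e => by rw [← map_add]; congr 1; rw [add_smul, add_smul, map_add]; abel)
      (fun c a e => by rw [← LinearMap.map_smul r]; congr 1; rw [smul_sub, ← smul_assoc c a (σ e), ← LinearMap.map_smul σ c (a • e), ← smul_assoc c a e])
      (fun a e e' => by rw [← map_add]; congr 1; rw [smul_add, map_add, smul_add, map_add]; abel)
      (fun c a e => by rw [← LinearMap.map_smul r]; congr 1; rw [smul_sub, LinearMap.map_smul σ c e, smul_comm a c e, LinearMap.map_smul σ c (a • e), smul_comm a c (σ e)])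
  have hs' : ∀ a e, i (s a e) = a • σ e - σ (a • e) := fun a e => hir _ (by rw [map_sub, map_smul, hσ', hσ', sub_self])
  have hs : W4c6defoisocp1.IsHomDerivation s := fun a b e => hi (by
    rw [map_add, map_smul, hs', hs', hs', smul_sub, mul_smul, mul_smul]
    abel)
  have hsplit : ∀ q, i (r (q - σ (p q))) = q - σ (p q) := fun q => hir _ (by rw [map_sub, hσ', sub_self])
  let Φ : Q ≃ₗ[D] W4c6defoisocp1.TwistExt s hs :=
    { toFun := fun q => W4c6defoisocp1.TwistExt.mk (r (q - σ (p q)), p q)
      invFun := fun x => i x.val.1 + σ x.val.2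
      map_add' := fun q q' => W4c6defoisocp1.TwistExt.ext (by simp [map_add, map_sub]; abel) (by simp)
      map_smul' := fun a q => W4c6defoisocp1.TwistExt.ext (hi (by
        simp only [RingHom.id_apply, W4c6defoisocp1.TwistExt.val_mk, W4c6defoisocp1.TwistExt.val_smul]
        rw [map_add, map_smul, hir (a • q - σ (a • p q)) (by rw [map_sub, hσ', map_smul, sub_self]), LinearMap.map_smul i, hsplit, hs', smul_sub]
        abel)) (by simp)
      left_inv := fun q => by
        show i (r (q - σ (p q))) + σ (p q) = q
        rw [hsplit, sub_add_cancel]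
      right_inv := fun x => by
        have hp0 : p (i x.val.1) = 0 := (hex _).2 ⟨_, rfl⟩
        refine W4c6defoisocp1.TwistExt.ext ?_ ?_
        · simp [map_add, hp0, hσ', hr']
        · simp [hp0, hσ'] }
  refine ⟨s, hs, Φ, fun f => ?_, fun q => rfl⟩
  have hp0 : p (i f) = 0 := (hex _).2 ⟨_, rfl⟩
  refine W4c6defoisocp1.TwistExt.ext ?_ ?_
  · simp [Φ, hp0, hr']
  · simp [Φ, hp0]

end Groth.Agent.S18802
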