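import Groth.Statements.S18803
-- import your own Groth.Agent.* helpers here

set_option autoImplicit false
universe u v w w'
open DefMod

namespace Groth.Agent.S18803

/-- Let K be a field of characteristic zero, D an associative K-algebra, E and F left D-modules, and s :
D → Hom_K(E, F) a K-linear map with s(ab)(e) = a s(b)(e) + s(a)(b e). The twisted sum F ⊕_s E (that
is F × E with a · (f, e) = (a f + s(a) e, a e)) is a trivial extension of E by F — there is a
D-linear isomorphism F ⊕_s E ≅ F × E with the direct-sum module structure, carrying the inclusion f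
↦ (f, 0) to itself and compatible with the second projections — if and only if s is principal:
s(a)(e) = a σ(e) − σ(a e) for some K-linear σ : E → F (a Hochschild 1-coboundary). -/
theorem result
    {K : Type u} [Field K] [CharZero K]
    {D : Type v} [Ring D] [Algebra K D]
    {E : Type w} [AddCommGroup E] [Module K E] [Module D E] [IsScalarTower K D E]
    {F : Type w'} [AddCommGroup F] [Module K F] [Module D F] [IsScalarTower K D F]
    (s : D →ₗ[K] E →ₗ[K] F) (hs : W4c6defoisocp1.IsHomDerivation s) :
    (∃ Ψ : W4c6defoisocp1.TwistExt s hs ≃ₗ[D] F × E,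
        (∀ f : F, Ψ (W4c6defoisocp1.TwistExt.inl f) = (f, 0)) ∧ ∀ x : W4c6defoisocp1.TwistExt s hs, (Ψ x).2 = W4c6defoisocp1.TwistExt.snd x) ↔
      W4c6defoisocp1.IsPrincipal s := by
  constructor
  · rintro ⟨Ψ, hl, hsnd⟩
    let τ : E → F := fun e => (W4c6defoisocp1.TwistExt.val (Ψ.symm (0, e))).1
    have h2 : ∀ e, (W4c6defoisocp1.TwistExt.val (Ψ.symm (0, e))).2 = e := fun e => by
      have := hsnd (Ψ.symm (0, e))
      rw [LinearEquiv.apply_symm_apply] at this
      exact this.symm
    have key : ∀ (a : D) (e : E), τ (a • e) = a • τ e + s a e := fun a e => by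
      have := congrArg (fun x => (W4c6defoisocp1.TwistExt.val x).1) (Ψ.symm.map_smul a (0, e))
      simp only [Prod.smul_mk, smul_zero, W4c6defoisocp1.TwistExt.val_smul, h2] at this
      exact this
    have hadd : ∀ e e', τ (e + e') = τ e + τ e' := fun e e' => by
      have := congrArg (fun x => (W4c6defoisocp1.TwistExt.val x).1) (Ψ.symm.map_add (0, e) (0, e'))
      simp only [Prod.mk_add_mk, add_zero, W4c6defoisocp1.TwistExt.val_add, Prod.fst_add] at this
      exact this
    refine ⟨{ toFun := fun e => -τ e, map_add' := fun e e' => ?_, map_smul' := fun c e => ?_ }, fun a e => ?_⟩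
    · rw [hadd, neg_add]
    · have h := key (algebraMap K D c) e
      rw [algebraMap_smul, algebraMap_smul] at h
      rw [show s (algebraMap K D c) e = 0 by
        rw [Algebra.algebraMap_eq_smul_one, map_smul, W4c6defoisocp1.TwistExt.map_one_eq_zero hs, smul_zero,
          LinearMap.zero_apply], add_zero] at h
      rw [h, RingHom.id_apply, smul_neg]
    · show s a e = a • -τ e - -τ (a • e)
      rw [key, smul_neg]
      abel
  · rintro ⟨σ, hσ⟩
    refine ⟨{ toFun := fun x => (x.val.1 + σ x.val.2, x.val.2)
              invFun := fun y => W4c6defoisocp1.TwistExt.mk (y.1 - σ y.2, y.2)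
              map_add' := fun x y => Prod.ext (by simp [map_add]; abel) (by simp)
              map_smul' := fun a x => Prod.ext (by
                simp only [W4c6defoisocp1.TwistExt.val_smul, RingHom.id_apply, Prod.smul_fst, smul_add, hσ]
                abel) (by simp)
              left_inv := fun x => W4c6defoisocp1.TwistExt.ext (by simp) (by simp)
              right_inv := fun y => Prod.ext (by simp) (by simp) }, fun f => ?_, fun x => rfl⟩
    exact Prod.ext (by simp) (by simp)

end Groth.Agent.S18803
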