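import Groth.Statements.S18804
import Groth.Agent.Lib.CurveMult.IdealCrit

set_option autoImplicit false
universe u
open CategoryTheory CategoryTheory.Limits AlgebraicGeometry
open Curves

namespace Groth.Agent.S18804

/-- Let k be an algebraically closed field of characteristic zero, X a smooth proper integral curve over
k (integral, proper and smooth over k, of dimension one) of genus g, and L an invertible O_X-module
of degree deg L = χ(L) − χ(O_X) at least 2g + 3. Then L is 3-very ample: every closed subscheme Z of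
X of length 4 imposes independent conditions on H^0(X, L), stated as dim_k H^0(X, L ⊗ I) + 4 = dim_k
H^0(X, L) for every quasi-coherent ideal I of O_X with dim_k H^0(X, O_X/I) = 4. -/
theorem result
    (k : Type u) [Field k] [IsAlgClosed k] [CharZero k]
    (X : Scheme.{u}) [X.Over (Spec (CommRingCat.of k))] [IsIntegral X]
    [IsProper (X ↘ Spec (CommRingCat.of k))] [Smooth (X ↘ Spec (CommRingCat.of k))]
    (hdim : topologicalKrullDim X = 1)
    (L : X.Modules) (hL : PicF.IsInvertible L)
    (hdeg : 2 * (Curv2.genus k X : ℤ) + 3 ≤ Curv2.deg k X L 1)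
    (I : X.IdealSheafData) (hI : Module.finrank k (Coh.HH X (ClSub.quotMod I) 0) = 4) :
    Module.finrank k (Coh.HH X (CohB1.tensorMod L (ClSub.idealMod I)) 0) + 4 =
      Module.finrank k (Coh.HH X L 0) := by
  haveI := GrothLib.CurveRR.regCurve_of_smooth (X ↘ (Spec (CommRingCat.of k))) hdim
  have h0 := GrothLib.CurveRR.finrank_H0_structure_eq_one k (X := X)
  have hK := GrothLib.CurveRR.isFunctionField k h0
  have hgen := GrothLib.CurveRR.genus_eq k h0
  obtain ⟨D, ⟨eD⟩⟩ := GrothLib.CurveRR.exists_iso_oD k hL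
  obtain ⟨E, hE, hdE, ⟨eI⟩⟩ := GrothLib.CurveMult.IdealCrit.exists_divisor k h0 (n := 4) (by omega) hI
  rw [GrothLib.CurveMult.IdealCrit.finrank_tensor_ideal k eD eI, GrothLib.CurveMult.OmegaApp.finrank_H0_of_iso k eD]
  rw [GrothLib.CurveMult.OmegaApp.deg_of_iso k eD] at hdeg
  obtain ⟨C, hC⟩ := GrothLib.FunFld.exists_isCanonical hK
  have hz : ∀ A : FunFld.Divisor k X.functionField, 2 * (FunFld.genus k X.functionField : ℤ) - 2 < A.deg →
      FunFld.ell (C - A) = 0 := fun A hA => by
    by_contra hne
    obtain ⟨z, -, -, hz⟩ := GrothLib.FunFld.IsFG.exists_of_ell_pos hK.1 (Nat.pos_of_ne_zero hne)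
    have h3 := GrothLib.FunFld.deg_mono hz
    rw [GrothLib.FunFld.deg_zero, GrothLib.FunFld.deg_add, GrothLib.FunFld.IsFG.deg_div hK.1,
      GrothLib.FunFld.deg_sub, (GrothLib.FunFld.ell_canonical hK hC).2] at h3
    omega
  have h1 := GrothLib.FunFld.riemann_roch' hK hC D
  have h2 := GrothLib.FunFld.riemann_roch' hK hC (D - E)
  rw [hz D (by omega)] at h1
  rw [hz (D - E) (by rw [GrothLib.FunFld.deg_sub]; omega), GrothLib.FunFld.deg_sub] at h2
  omega

end Groth.Agent.S18804
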