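import Groth.Statements.S18805
import Groth.Agent.Lib.CurveMult.IdealCrit

set_option autoImplicit false
universe u
open CategoryTheory CategoryTheory.Limits AlgebraicGeometry
open Curves

namespace Groth.Agent.S18805

/-- Let k be an algebraically closed field of characteristic zero and X a smooth proper integral curve
over k (integral, proper and smooth over k, of dimension one), with sheaf of differentials ω =
Ω_(X/k). Then ω is 3-very ample, meaning dim_k H^0(X, ω ⊗ I) + 4 = dim_k H^0(X, ω) for every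
quasi-coherent ideal I of O_X with dim_k H^0(X, O_X/I) = 4, if and only if X carries no g^1_4,
meaning that for every such I (the ideal of an effective divisor D of degree 4) every module M with
I ⊗ M ≅ O_X (so M plays the role of O_X(D)) has dim_k H^0(X, M) = 1. -/
theorem result
    (k : Type u) [Field k] [IsAlgClosed k] [CharZero k]
    (X : Scheme.{u}) [X.Over (Spec (CommRingCat.of k))] [IsIntegral X]
    [IsProper (X ↘ Spec (CommRingCat.of k))] [Smooth (X ↘ Spec (CommRingCat.of k))]
    (hdim : topologicalKrullDim X = 1) :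
    (∀ (I : X.IdealSheafData), Module.finrank k (Coh.HH X (ClSub.quotMod I) 0) = 4 →
      Module.finrank k (Coh.HH X (CohB1.tensorMod (Omega.sheaf (X ↘ Spec (CommRingCat.of k))) (ClSub.idealMod I)) 0) + 4 =
        Module.finrank k (Coh.HH X (Omega.sheaf (X ↘ Spec (CommRingCat.of k))) 0)) ↔
    (∀ (I : X.IdealSheafData), Module.finrank k (Coh.HH X (ClSub.quotMod I) 0) = 4 →
      ∀ (M : X.Modules), ClSub.IsInverseOf (ClSub.idealMod I) M →
        Module.finrank k (Coh.HH X M 0) = 1) := by
  haveI := GrothLib.CurveRR.regCurve_of_smooth (X ↘ (Spec (CommRingCat.of k))) hdim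
  have h0 := GrothLib.CurveRR.finrank_H0_structure_eq_one k (X := X)
  have hK := GrothLib.CurveRR.isFunctionField k h0
  obtain ⟨C, hC, ⟨eC⟩⟩ := GrothLib.CurveMult.OmegaCan.exists_iso_omega (k := k) (X := X)
  obtain ⟨hlC, hdC⟩ := GrothLib.FunFld.ell_canonical hK hC
  have key : ∀ {I : X.IdealSheafData} {E : FunFld.Divisor k X.functionField}
      (eI : ClSub.idealMod I ≅ GrothLib.CurveRR.oD k (-E)), E.deg = 4 →
      (Module.finrank k (Coh.HH X (CohB1.tensorMod (Omega.sheaf (X ↘ Spec (CommRingCat.of k))) (ClSub.idealMod I)) 0) + 4 =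
        Module.finrank k (Coh.HH X (Omega.sheaf (X ↘ Spec (CommRingCat.of k))) 0) ↔ FunFld.ell E = 1) := by
    intro I E eI hd
    rw [GrothLib.CurveMult.IdealCrit.finrank_tensor_ideal k eC eI, GrothLib.CurveMult.OmegaApp.finrank_H0_of_iso k eC,
      hlC]
    have h1 := GrothLib.FunFld.riemann_roch' hK hC E
    omega
  constructor
  · intro h I hI M hM
    obtain ⟨E, hE, hd, ⟨eI⟩⟩ := GrothLib.CurveMult.IdealCrit.exists_divisor k h0 (n := 4) (by omega) hI
    have hinv := GrothLib.RelProjK.isInvertible_of_iso eI (GrothLib.CurveRR.isInvertible_oD k _)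
    have hM' : PicF.IsInvertible M := GrothLib.Seesaw26.isInvertible_of_tensor_iso hM.some hinv
    obtain ⟨F, ⟨eF⟩⟩ := GrothLib.CurveRR.exists_iso_oD k hM'
    obtain ⟨t⟩ := hM
    obtain ⟨t'⟩ := GrothLib.CurveRR.nonempty_tensor_iso k eI eF
    have hmem : F - E ∈ FunFld.prinDivs k X.functionField := by
      have h1 := GrothLib.CurveMult.DivIso.sub_mem_of_iso k
        (t'.symm ≪≫ t ≪≫ (GrothLib.CurveRR.nonempty_iso_oD_zero k).some)
      rw [sub_zero] at h1
      convert h1 using 1
      abel
    obtain ⟨e⟩ := GrothLib.CurveMult.DivIso.nonempty_iso_of_sub_mem k hmem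
    rw [GrothLib.CurveMult.OmegaApp.finrank_H0_of_iso k (eF ≪≫ e)]
    exact (key eI hd).1 (h I hI)
  · intro h I hI
    obtain ⟨E, hE, hd, ⟨eI⟩⟩ := GrothLib.CurveMult.IdealCrit.exists_divisor k h0 (n := 4) (by omega) hI
    obtain ⟨t⟩ := GrothLib.CurveRR.nonempty_tensor_iso k eI (CategoryTheory.Iso.refl (GrothLib.CurveRR.oD k E))
    have h1 := h I hI (GrothLib.CurveRR.oD k E) ⟨t ≪≫ eqToIso (by rw [neg_add_cancel]) ≪≫
      (GrothLib.CurveRR.nonempty_iso_oD_zero k).some.symm⟩
    rw [GrothLib.CurveRR.finrank_H0_oD] at h1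
    exact (key eI hd).2 h1

end Groth.Agent.S18805
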