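import Groth.Statements.S18808
import Groth.Agent.Lib.Comod.Along

set_option autoImplicit false
universe u v v' w w' x
open TensorProduct
open HopfRep

namespace Groth.Agent.S18808

/-- Let k be a field, i : C → D an injective morphism of k-coalgebras and V a right D-comodule with
coaction ρ. Call a D-subcomodule K of V admissible when the induced coaction of V/K, namely ρ
followed by the projection V ⊗ D → (V/K) ⊗ D, takes all its values in the image of (V/K) ⊗ C → (V/K)
⊗ D (so that V/K comes from a C-comodule). Then there is a least admissible D-subcomodule of V: V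
has a largest quotient D-comodule coming from C, through which every D-comodule map from V to a
comodule coming from C factors. (The source states this for left comodules over the coordinate
bialgebras of an affine monoid scheme and its open schematically dense group of units, as the
existence of a universal map from a representation of the unit group to a representation of the
monoid; it uses that assumption only through the injectivity of the restriction map.) -/
theorem result (k : Type u) [Field k]
    (C : Type v) [AddCommGroup C] [Module k C] [Coalgebra k C]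
    (D : Type v') [AddCommGroup D] [Module k D] [Coalgebra k D]
    (i : C →ₗc[k] D) (hi : Function.Injective i)
    (V : Type w) [AddCommGroup V] [Module k V] [HopfRep.Comod k D V] :
    ∃ K : Submodule k V, HopfRep.IsSubcomod (k := k) (A := D) K ∧
      (∀ v : V, K.mkQ.rTensor D (HopfRep.Comod.coact (k := k) (A := D) v) ∈
        LinearMap.range ((i : C →ₗ[k] D).lTensor (V ⧸ K))) ∧
      ∀ K' : Submodule k V, HopfRep.IsSubcomod (k := k) (A := D) K' →
        (∀ v : V, K'.mkQ.rTensor D (HopfRep.Comod.coact (k := k) (A := D) v) ∈
          LinearMap.range ((i : C →ₗ[k] D).lTensor (V ⧸ K'))) → K ≤ K' := by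
  let P : Set (Submodule k V) := {K | HopfRep.IsSubcomod (k := k) (A := D) K ∧
    ∀ v : V, K.mkQ.rTensor D (HopfRep.Comod.coact (k := k) (A := D) v) ∈
      LinearMap.range ((i : C →ₗ[k] D).lTensor (V ⧸ K))}
  refine ⟨⨅ K : P, K.1, GrothLib.Comodule.isSubcomod_iInf fun K => K.2.1, fun v => ?_,
    fun K' h1 h2 => iInf_le (fun K : P => K.1) ⟨K', h1, h2⟩⟩
  let q := (LinearMap.range (i : C →ₗ[k] D)).mkQ
  have hex : ∀ M : Submodule k V, Function.Exact ((i : C →ₗ[k] D).lTensor (V ⧸ M))
      (q.lTensor (V ⧸ M)) := fun M =>
    lTensor_exact (V ⧸ M) (LinearMap.exact_map_mkQ_range _) (Submodule.mkQ_surjective _)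
  refine (hex _ _).1 ?_
  have hsw : ∀ M : Submodule k V, ∀ x : V ⊗[k] D,
      q.lTensor (V ⧸ M) (M.mkQ.rTensor D x) = M.mkQ.rTensor _ (q.lTensor V x) := fun M x => by
    rw [← LinearMap.comp_apply, LinearMap.lTensor_comp_rTensor, ← LinearMap.rTensor_comp_lTensor,
      LinearMap.comp_apply]
  rw [hsw]
  refine GrothLib.Comodule.rTensor_mkQ_iInf_eq_zero _ fun K => ?_
  rw [← hsw]
  exact (hex _ _).2 (K.2.2 v)

end Groth.Agent.S18808
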