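import Groth.Statements.S18810
import Groth.Agent.Lib.Comod.Isotypic

set_option autoImplicit false
universe u v v' w w' x
open TensorProduct
open HopfRep

namespace Groth.Agent.S18810

/-- Let k be a field, C a k-coalgebra, V a right C-comodule and (S_j) a family of simple C-comodules
which are pairwise non-isomorphic (for j ≠ j' no k-linear isomorphism S_j ≃ S_j' commutes with the
coactions). For each j let V[j] be the isotypic component of type S_j: the sum of the images of all
comodule maps S_j → V (equivalently of all simple subcomodules of V isomorphic to S_j, a nonzero
such map being injective). Then the family j ↦ V[j] is independent, so that the socle of V is the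
direct sum of its isotypic components. (The source states this for representations of an affine
monoid scheme over k, i.e. left comodules over its coordinate bialgebra; the row is the
right-comodule form over any coalgebra.) -/
theorem result (k : Type u) [Field k]
    (C : Type v) [AddCommGroup C] [Module k C] [Coalgebra k C]
    (V : Type w) [AddCommGroup V] [Module k V] [HopfRep.Comod k C V]
    {ι : Type x} (S : ι → Type w') [∀ j, AddCommGroup (S j)] [∀ j, Module k (S j)]
    [∀ j, HopfRep.Comod k C (S j)] (hS : ∀ j, HopfRep.IsSimpleComod k C (S j))
    (hne : ∀ j j', j ≠ j' → ∀ e : S j ≃ₗ[k] S j', ¬ Hoch.IsComodHom C (e : S j →ₗ[k] S j')) :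
    iSupIndep (fun j => ⨆ f : {f : S j →ₗ[k] V // Hoch.IsComodHom C f}, LinearMap.range f.1) := by
  exact GrothLib.Comodule.disjoint_isoComp S hS hne

end Groth.Agent.S18810
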