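import Groth.Statements.S18811
import Groth.Agent.Lib.AlgSp.FieldBase
import Mathlib.AlgebraicGeometry.Morphisms.Flat
import Mathlib.AlgebraicGeometry.Morphisms.QuasiSeparated

set_option autoImplicit false
universe u
open CategoryTheory CategoryTheory.Limits AlgebraicGeometry
open Variety

namespace Groth.Agent.S18811

/-- Let k be a field and X, Y quasi-compact k-schemes whose diagonal morphisms over k are affine
(semi-separated; for instance X and Y separated over k). Then the canonical map Γ(X, O_X) ⊗_k Γ(Y,
O_Y) → Γ(X ×_k Y, O) is an isomorphism: the commutative square of rings of global sections formed by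
Spec k, X, Y and X ×_k Y with the pullback maps along the structure morphisms and the two
projections is a pushout square of commutative rings. -/
theorem result (k : Type u) [Field k]
    (X : Scheme.{u}) [X.Over (Spec (CommRingCat.of k))] [CompactSpace ↥X]
    [IsAffineHom (pullback.diagonal (X ↘ (Spec (CommRingCat.of k))))]
    (Y : Scheme.{u}) [Y.Over (Spec (CommRingCat.of k))] [CompactSpace ↥Y]
    [IsAffineHom (pullback.diagonal (Y ↘ (Spec (CommRingCat.of k))))] :
    IsPushout (X ↘ (Spec (CommRingCat.of k))).appTop (Y ↘ (Spec (CommRingCat.of k))).appTop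
      (pullback.fst (X ↘ (Spec (CommRingCat.of k))) (Y ↘ (Spec (CommRingCat.of k)))).appTop
      (pullback.snd (X ↘ (Spec (CommRingCat.of k))) (Y ↘ (Spec (CommRingCat.of k)))).appTop := by
  have := GrothLib.AlgSp.flat_to_field (X ↘ (Spec (CommRingCat.of k)))
  have := GrothLib.AlgSp.flat_to_field (Y ↘ (Spec (CommRingCat.of k)))
  have : QuasiSeparated (X ↘ (Spec (CommRingCat.of k))) := ⟨inferInstance⟩
  have : QuasiSeparated (Y ↘ (Spec (CommRingCat.of k))) := ⟨inferInstance⟩
  have : QuasiSeparatedSpace X := (quasiSeparated_iff_quasiSeparatedSpace (X ↘ (Spec (CommRingCat.of k)))).mp inferInstance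
  have : QuasiSeparatedSpace Y := (quasiSeparated_iff_quasiSeparatedSpace (Y ↘ (Spec (CommRingCat.of k)))).mp inferInstance
  have hk : IsField Γ(Spec (CommRingCat.of k), ⊤) :=
    MulEquiv.isField (Field.toIsField k) (Scheme.ΓSpecIso (CommRingCat.of k)).commRingCatIsoToRingEquiv.toMulEquiv
  have hfl : ((X ↘ (Spec (CommRingCat.of k))).appLE ⊤ ⊤ le_top).hom.Flat := by
    let _ := hk.toField
    let _ := ((X ↘ (Spec (CommRingCat.of k))).appLE ⊤ ⊤ le_top).hom.toAlgebra
    exact Module.Flat.of_free
  have key := isIso_pushoutSection_of_isCompact_of_flat_right_of_ringHomFlat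
    (IsPullback.of_hasPullback (X ↘ (Spec (CommRingCat.of k))) (Y ↘ (Spec (CommRingCat.of k))))
    (US := ⊤) (UT := ⊤) (UX := ⊤) (UY := ⊤) le_top le_top (by simp) (isAffineOpen_top _)
    isCompact_univ (IsQuasiSeparated.of_quasiSeparatedSpace _)
    isCompact_univ (IsQuasiSeparated.of_quasiSeparatedSpace _) hfl
  have := (isIso_pushoutSection_iff ..).mp key
  simpa [Scheme.Hom.appLE, Scheme.Hom.appTop] using this

end Groth.Agent.S18811
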