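import Groth.Statements.S18813
import Groth.Agent.Lib.HopfAG.LRCoh

set_option autoImplicit false
universe u
open scoped TensorProduct
open HopfRep

namespace Groth.Agent.S18813

theorem of_integral {k : Type u} [Field k] {A : Type u} [CommRing A] [HopfAlgebra k A] {α : Module.Dual k A}
    (hα : GrothLib.Comodule.IsInvariant α) (h1 : α 1 = 1) : HopfRep.IsLinearlyReductive k A :=
  fun _ _ _ _ _ _ hU => GrothLib.Comodule.exists_isCompl_of_invariant α hα h1 hU (Submodule.exists_isCompl _)



open scoped TensorProduct

/-- Let k be a field, K a field extension of k and A a commutative Hopf algebra over k, the coordinate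
ring of an affine group scheme G (no finiteness assumed). Then G is linearly reductive (every
finite-dimensional A-comodule is semisimple) if and only if the base change G_K is (every
finite-dimensional comodule over the K-Hopf algebra K ⊗_k A is semisimple). (The source phrases both
sides as semisimplicity of all representations, which over a field is equivalent to semisimplicity
of the finite-dimensional ones since every comodule is the union of its finite-dimensional
subcomodules.) -/
theorem result (k K A : Type u) [Field k] [Field K]
    [Algebra k K] [CommRing A] [HopfAlgebra k A] :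
    HopfRep.IsLinearlyReductive k A ↔ HopfRep.IsLinearlyReductive K (K ⊗[k] A) := by
  let A' := K ⊗[k] A
  have hΔ : ∀ (c : K) (a : A), CoalgebraStruct.comul (R := K) (c ⊗ₜ[k] a : K ⊗[k] A) =
      TensorProduct.AlgebraTensorModule.tensorTensorTensorComm k K k K K K A A
        ((c ⊗ₜ[K] (1 : K)) ⊗ₜ[k] CoalgebraStruct.comul (R := k) a) := by
    intro c a
    rw [TensorProduct.comul_def]
    simp
    rw [show ((1 : K) ⊗ₜ[K] c) = c ⊗ₜ[K] (1 : K) by
      calc (1 : K) ⊗ₜ[K] c = (1 : K) ⊗ₜ[K] (c • (1 : K)) := by rw [smul_eq_mul, mul_one]
        _ = (c • (1 : K)) ⊗ₜ[K] (1 : K) := (TensorProduct.smul_tmul c (1 : K) (1 : K)).symm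
        _ = _ := by rw [smul_eq_mul, mul_one]]
  constructor
  · intro hG
    obtain ⟨α, hα, h1⟩ := GrothLib.LRCoh.exists_integral hG
    let β : Module.Dual K (K ⊗[k] A) :=
      (TensorProduct.AlgebraTensorModule.rid k K K).toLinearMap ∘ₗ α.baseChange K
    refine of_integral (α := β) ?_ (by simp [β, Algebra.TensorProduct.one_def, h1])
    intro z
    induction z using TensorProduct.induction_on with
    | zero => simp
    | tmul c a =>
      rw [show Coalgebra.comul (R := K) (c ⊗ₜ[k] a : K ⊗[k] A) = _ from hΔ c a]
      have key : ∀ y : A ⊗[k] A, TensorProduct.lid K (K ⊗[k] A) (β.rTensor (K ⊗[k] A)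
          (TensorProduct.AlgebraTensorModule.tensorTensorTensorComm k K k K K K A A ((c ⊗ₜ[K] (1 : K)) ⊗ₜ[k] y))) =
          c ⊗ₜ[k] TensorProduct.lid k A (α.rTensor A y) := by
        intro y
        induction y using TensorProduct.induction_on with
        | zero => simp
        | tmul p q =>
          simp [β, TensorProduct.smul_tmul']
        | add s t hs ht => simp only [TensorProduct.tmul_add, map_add, hs, ht]
      rw [key, show TensorProduct.lid k A (α.rTensor A (CoalgebraStruct.comul (R := k) a)) = α a • (1 : A) from hα a]
      simp [β, Algebra.TensorProduct.one_def, TensorProduct.smul_tmul']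
    | add s t hs ht => simp only [map_add, add_smul, hs, ht]
  · intro hG
    obtain ⟨β, hβ, h1⟩ := GrothLib.LRCoh.exists_integral hG
    obtain ⟨π, hπ⟩ := LinearMap.exists_leftInverse_of_injective (Algebra.linearMap k K)
      (LinearMap.ker_eq_bot.2 (algebraMap k K).injective)
    have hπ1 : π 1 = 1 := by
      have := LinearMap.congr_fun hπ 1
      simpa using this
    let α : Module.Dual k A := π ∘ₗ β.restrictScalars k ∘ₗ TensorProduct.mk k K A 1
    refine of_integral (α := α) ?_ ?_
    · intro a
      have h := hβ ((1 : K) ⊗ₜ[k] a)
      rw [show Coalgebra.comul (R := K) ((1 : K) ⊗ₜ[k] a : K ⊗[k] A) = _ from hΔ 1 a] at h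
      have key : ∀ y : A ⊗[k] A, TensorProduct.lid K (K ⊗[k] A) (β.rTensor (K ⊗[k] A)
          (TensorProduct.AlgebraTensorModule.tensorTensorTensorComm k K k K K K A A (((1 : K) ⊗ₜ[K] (1 : K)) ⊗ₜ[k] y))) =
          (β.restrictScalars k ∘ₗ TensorProduct.mk k K A 1).rTensor A y := by
        intro y
        induction y using TensorProduct.induction_on with
        | zero => simp
        | tmul p q => simp [TensorProduct.smul_tmul']
        | add s t hs ht => simp only [TensorProduct.tmul_add, map_add, hs, ht]
      rw [key, Algebra.TensorProduct.one_def, TensorProduct.smul_tmul', smul_eq_mul, mul_one] at h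
      have h2 := congrArg (fun z => TensorProduct.lid k A (π.rTensor A z)) h
      simp only [LinearMap.rTensor_tmul, TensorProduct.lid_tmul] at h2
      rw [← LinearMap.comp_apply, ← LinearMap.rTensor_comp] at h2
      exact h2
    · change π (β ((1 : K) ⊗ₜ[k] (1 : A))) = 1
      rw [← Algebra.TensorProduct.one_def, h1, hπ1]


end Groth.Agent.S18813
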