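import Groth.Statements.S18814
import Groth.Agent.Lib.Comod.Isotypic

set_option autoImplicit false
universe u v v' w w'
open TensorProduct
open HopfRep

namespace Groth.Agent.S18814

/-- Let k be a field, C and D commutative bialgebras over k (coordinate rings of affine monoid schemes M
and N) and V a k-vector space carrying a right C-comodule structure with coaction ρ_C : V → V ⊗ C
and a right D-comodule structure with coaction ρ_D : V → V ⊗ D which commute: (ρ_C ⊗ id_D) ∘ ρ_D and
(ρ_D ⊗ id_C) ∘ ρ_C agree in V ⊗ C ⊗ D after reassociating and swapping the last two factors (the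
actions of M and N on V commute). Assume V is semisimple as a D-comodule. Then for every simple
D-comodule S the isotypic component of V of type S, the sum of the images of all D-comodule maps S →
V, is a C-subcomodule of V. (The source works with left comodules; this is the right-comodule form.) -/
theorem result (k : Type u) [Field k]
    (C : Type v) [CommRing C] [Bialgebra k C] (D : Type v') [CommRing D] [Bialgebra k D]
    (V : Type w) [AddCommGroup V] [Module k V] [HopfRep.Comod k C V] [HopfRep.Comod k D V]
    (hcomm : (TensorProduct.assoc k V C D).toLinearMap ∘ₗ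
        (HopfRep.Comod.coact (k := k) (A := C) (V := V)).rTensor D ∘ₗ HopfRep.Comod.coact (k := k) (A := D) =
      (TensorProduct.comm k D C).toLinearMap.lTensor V ∘ₗ (TensorProduct.assoc k V D C).toLinearMap ∘ₗ
        (HopfRep.Comod.coact (k := k) (A := D) (V := V)).rTensor C ∘ₗ HopfRep.Comod.coact (k := k) (A := C))
    (hV : HopfRep.IsSemisimpleComod k D V)
    (S : Type w') [AddCommGroup S] [Module k S] [HopfRep.Comod k D S] (hS : HopfRep.IsSimpleComod k D S) :
    HopfRep.IsSubcomod (k := k) (A := C)
      (⨆ f : {f : S →ₗ[k] V // Hoch.IsComodHom D f}, LinearMap.range f.1) := by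
  rw [GrothLib.Comodule.isSubcomod_iff_mkQ]
  intro u hu
  refine GrothLib.Comodule.ext_dual fun ψ => ?_
  let a : V →ₗ[k] V := (TensorProduct.rid k V).toLinearMap ∘ₗ ψ.lTensor V ∘ₗ
    HopfRep.Comod.coact (k := k) (A := C)
  have ha : Hoch.IsComodHom D a := by
    refine LinearMap.ext fun v => ?_
    have h := congrArg (((TensorProduct.lid k D).toLinearMap ∘ₗ ψ.rTensor D).lTensor V)
      (LinearMap.congr_fun hcomm v)
    simp only [LinearMap.comp_apply, LinearEquiv.coe_coe] at h
    have h1 : ∀ x : V ⊗[k] D, ((TensorProduct.lid k D).toLinearMap ∘ₗ ψ.rTensor D).lTensor V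
        (TensorProduct.assoc k V C D ((HopfRep.Comod.coact (k := k) (A := C)).rTensor D x)) =
        a.rTensor D x := fun x => by
      induction x using TensorProduct.induction_on with
      | zero => simp
      | tmul p q =>
        rw [LinearMap.rTensor_tmul, LinearMap.rTensor_tmul]
        change _ = (TensorProduct.rid k V) (ψ.lTensor V (HopfRep.Comod.coact (k := k) (A := C) p)) ⊗ₜ[k] q
        induction (HopfRep.Comod.coact (k := k) (A := C) p) using TensorProduct.induction_on with
        | zero => simp
        | tmul b c => simp [TensorProduct.smul_tmul]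
        | add b c hb hc => simp only [TensorProduct.add_tmul, map_add, hb, hc]
      | add p q hp hq => simp only [map_add, hp, hq]
    have h2 : ∀ x : V ⊗[k] C, ((TensorProduct.lid k D).toLinearMap ∘ₗ ψ.rTensor D).lTensor V
        ((TensorProduct.comm k D C).toLinearMap.lTensor V (TensorProduct.assoc k V D C
          ((HopfRep.Comod.coact (k := k) (A := D)).rTensor C x))) =
        HopfRep.Comod.coact (k := k) (A := D) (TensorProduct.rid k V (ψ.lTensor V x)) := fun x => by
      induction x using TensorProduct.induction_on with
      | zero => simp
      | tmul p q =>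
        rw [LinearMap.rTensor_tmul, show ψ.lTensor V (p ⊗ₜ[k] q) = p ⊗ₜ[k] ψ q from rfl, TensorProduct.rid_tmul, map_smul]
        induction (HopfRep.Comod.coact (k := k) (A := D) p) using TensorProduct.induction_on with
        | zero => simp
        | tmul b c => simp
        | add b c hb hc => simp only [TensorProduct.add_tmul, map_add, hb, hc, smul_add]
      | add p q hp hq => simp only [map_add, hp, hq]
    rw [h1, h2] at h
    exact h.symm
  have h : a u ∈ GrothLib.Comodule.isoComp k D V S := GrothLib.Comodule.isoComp_le_comap ha hu
  have hq : ∀ x : V ⊗[k] C, TensorProduct.rid k _ (ψ.lTensor _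
      ((GrothLib.Comodule.isoComp k D V S).mkQ.rTensor C x)) =
      (GrothLib.Comodule.isoComp k D V S).mkQ (TensorProduct.rid k V (ψ.lTensor V x)) := fun x => by
    induction x using TensorProduct.induction_on with
    | zero => simp
    | tmul p q => simp
    | add p q hp hq => simp only [map_add, hp, hq]
  rw [map_zero, map_zero]
  exact (hq _).trans ((Submodule.Quotient.mk_eq_zero _).2 h)

end Groth.Agent.S18814
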