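import Groth.Statements.S18815
import Groth.Agent.Lib.Comod.Module

set_option autoImplicit false
universe u v w w'
open TensorProduct
open HopfRep

namespace Groth.Agent.S18815

/-- Let k be a field, C a k-coalgebra and V, W simple right C-comodules (nonzero, with no subcomodules
other than 0 and the whole space). Then every k-linear map V → W commuting with the coactions is
either zero or bijective. (The source states this for irreducible representations of an affine
monoid scheme over k, i.e. left comodules over its coordinate bialgebra.) -/
theorem result (k : Type u) [Field k]
    (C : Type v) [AddCommGroup C] [Module k C] [Coalgebra k C]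
    (V : Type w) [AddCommGroup V] [Module k V] [HopfRep.Comod k C V] (hV : HopfRep.IsSimpleComod k C V)
    (W : Type w') [AddCommGroup W] [Module k W] [HopfRep.Comod k C W] (hW : HopfRep.IsSimpleComod k C W)
    (f : V →ₗ[k] W) (hf : Hoch.IsComodHom C f) :
    f = 0 ∨ Function.Bijective f := by
  haveI := GrothLib.Comodule.isSimpleComod_iff.1 hV
  haveI := GrothLib.Comodule.isSimpleComod_iff.1 hW
  rcases LinearMap.bijective_or_eq_zero (GrothLib.Comodule.toHom f hf) with h | h
  · exact Or.inr h
  · exact Or.inl (LinearMap.ext fun v => LinearMap.congr_fun h v)

end Groth.Agent.S18815
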