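import Groth.Statements.S18830
import Mathlib.CategoryTheory.Monoidal.Cartesian.Mon
import Mathlib.AlgebraicGeometry.Morphisms.FiniteType
import Mathlib.AlgebraicGeometry.Noetherian
import Mathlib.CategoryTheory.Limits.Constructions.Over.Connected
-- import your own Groth.Agent.* helpers here

set_option autoImplicit false
universe u
open CategoryTheory MonoidalCategory CartesianMonoidalCategory MonObj AlgebraicGeometry
open AlgGrp

open Limits

namespace Groth.Agent.S18830

/-- Let k be a field and M an algebraic monoid over k (a monoid k-scheme of finite type). Let i : G → M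
be its group of units: a monomorphism of k-schemes through which a T-valued point of M factors if
and only if it is invertible in the monoid M(T). Then G is of finite type over k, i.e. the unit
group is an algebraic group. -/
theorem result (k : Type u) [Field k]
    (M G : Over (Spec (CommRingCat.of k))) [MonObj M] [LocallyOfFiniteType M.hom] [QuasiCompact M.hom]
    (i : G ⟶ M) [Mono i]
    (hi : ∀ (T : Over (Spec (CommRingCat.of k))) (m : T ⟶ M), (∃ g : T ⟶ G, g ≫ i = m) ↔ IsUnit m) :
    LocallyOfFiniteType G.hom ∧ QuasiCompact G.hom := by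
  let d : M ⊗ M ⟶ M ⊗ M := lift μ[M] ((β_ M M).hom ≫ μ[M])
  let e : 𝟙_ _ ⟶ M ⊗ M := lift η[M] η[M]
  have hmul : ∀ {T : Over (Spec (CommRingCat.of k))} (a b : T ⟶ M), lift a b ≫ μ[M] = a * b := fun a b => rfl
  have hP : HasPullback d e := inferInstance
  let j : pullback d e ⟶ M := pullback.fst d e ≫ fst M M
  have hcond : ∀ {T : Over (Spec (CommRingCat.of k))} (a b : T ⟶ M),
      lift a b ≫ d = toUnit T ≫ e ↔ a * b = 1 ∧ b * a = 1 := by
    intro T a b
    constructor
    · intro h
      have h1 := congrArg (· ≫ fst M M) h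
      have h2 := congrArg (· ≫ snd M M) h
      simp only [d, e, Category.assoc, lift_fst, lift_snd] at h1 h2
      rw [← Category.assoc, lift_braiding_hom, hmul, ← Hom.one_def] at h2
      rw [hmul, ← Hom.one_def] at h1
      exact ⟨h1, h2⟩
    · rintro ⟨h1, h2⟩
      apply CartesianMonoidalCategory.hom_ext
      · simp only [d, e, Category.assoc, lift_fst]; rw [hmul, h1, Hom.one_def]
      · simp only [d, e, Category.assoc, lift_snd]; rw [← Category.assoc, lift_braiding_hom, hmul, h2, Hom.one_def]
  have hj : IsUnit j := by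
    have h := pullback.condition (f := d) (g := e)
    rw [show pullback.fst d e = lift j (pullback.fst d e ≫ snd M M) from
        CartesianMonoidalCategory.hom_ext _ _ (by simp [j]) (by simp),
      Subsingleton.elim (pullback.snd d e) (toUnit _)] at h
    obtain ⟨h1, h2⟩ := (hcond _ _).1 h
    exact ⟨⟨j, pullback.fst d e ≫ snd M M, h1, h2⟩, rfl⟩
  obtain ⟨g, hg⟩ := (hi _ j).2 hj
  obtain ⟨u, hu⟩ := (hi G i).1 ⟨𝟙 G, Category.id_comp i⟩
  let v : G ⟶ pullback d e := pullback.lift (lift (u : G ⟶ M) (↑u⁻¹ : G ⟶ M)) (toUnit G)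
    ((hcond _ _).2 ⟨u.mul_inv, u.inv_mul⟩)
  have hvg : v ≫ g = 𝟙 G := by
    rw [← cancel_mono i, Category.assoc, hg, Category.id_comp]
    simp only [v, j]
    rw [pullback.lift_fst_assoc, lift_fst, hu]
  have hgv : g ≫ v = 𝟙 _ := by
    apply pullback.hom_ext
    · rw [Category.assoc, pullback.lift_fst, Category.id_comp]
      have hgu : g ≫ (u : G ⟶ M) = j := by rw [hu, hg]
      apply CartesianMonoidalCategory.hom_ext
      · rw [Category.assoc, lift_fst, hgu]
      · rw [Category.assoc, lift_snd]
        have h1 : (g ≫ (↑u⁻¹ : G ⟶ M)) * j = 1 := by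
          rw [← hgu, ← MonObj.comp_mul, u.inv_mul, MonObj.comp_one]
        have h := pullback.condition (f := d) (g := e)
        rw [show pullback.fst d e = lift j (pullback.fst d e ≫ snd M M) from
            CartesianMonoidalCategory.hom_ext _ _ (by simp [j]) (by simp),
          Subsingleton.elim (pullback.snd d e) (toUnit _)] at h
        exact left_inv_eq_right_inv h1 ((hcond _ _).1 h).1
    · exact Subsingleton.elim _ _
  let iso : G ≅ pullback d e := ⟨v, g, hvg, hgv⟩
  have : IsLocallyNoetherian M.left := LocallyOfFiniteType.isLocallyNoetherian M.hom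
  have : LocallyOfFiniteType (M ⊗ M).hom := by dsimp; infer_instance
  have : QuasiCompact (M ⊗ M).hom := by dsimp; infer_instance
  have : IsLocallyNoetherian (M ⊗ M).left := LocallyOfFiniteType.isLocallyNoetherian (M ⊗ M).hom
  have he : e.left ≫ (M ⊗ M).hom = 𝟙 _ := Over.w e
  have : LocallyOfFiniteType (e.left ≫ (M ⊗ M).hom) := by rw [he]; infer_instance
  have : QuasiCompact (e.left ≫ (M ⊗ M).hom) := by rw [he]; infer_instance
  have : LocallyOfFiniteType e.left := locallyOfFiniteType_of_comp e.left (M ⊗ M).hom
  have : QuasiCompact e.left := QuasiCompact.of_comp e.left (M ⊗ M).hom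
  have hsq := (IsPullback.of_hasPullback d e).map (Over.forget _)
  have h1 : LocallyOfFiniteType (pullback.fst d e).left := MorphismProperty.of_isPullback hsq.flip ‹LocallyOfFiniteType e.left›
  have h2 : QuasiCompact (pullback.fst d e).left := MorphismProperty.of_isPullback hsq.flip ‹QuasiCompact e.left›
  have : IsIso iso.hom := ⟨⟨iso.inv, iso.hom_inv_id, iso.inv_hom_id⟩⟩
  have : IsIso iso.hom.left := (Over.forget _).map_isIso iso.hom
  have e1 : G.hom = iso.hom.left ≫ (pullback.fst d e).left ≫ (M ⊗ M).hom := by
    rw [Over.w (pullback.fst d e), Over.w iso.hom]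
  rw [e1]
  exact ⟨inferInstance, inferInstance⟩


end Groth.Agent.S18830
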