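import Groth.Statements.S18817
import Groth.Agent.Lib.MonoidUnits.Open
import Groth.Agent.S18830
-- import your own Groth.Agent.* helpers here

set_option autoImplicit false
universe u
open CategoryTheory MonoidalCategory CartesianMonoidalCategory MonObj AlgebraicGeometry
open AlgGrp

namespace Groth.Agent.S18817

/-- Let k be a field and M an algebraic monoid over k, i.e. a monoid object in k-schemes whose
underlying scheme is of finite type over k, and assume M is geometrically integral. Let i : G → M be
the group of units of M: a monomorphism of k-schemes such that, for every k-scheme T, a T-valued
point of M factors through i if and only if it is invertible in the monoid M(T). Then i is an open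
immersion. -/
theorem result (k : Type u) [Field k]
    (M G : Over (Spec (CommRingCat.of k))) [MonObj M] [LocallyOfFiniteType M.hom] [QuasiCompact M.hom]
    [GeometricallyIntegral M.hom] (i : G ⟶ M) [Mono i]
    (hi : ∀ (T : Over (Spec (CommRingCat.of k))) (m : T ⟶ M), (∃ g : T ⟶ G, g ≫ i = m) ↔ IsUnit m) :
    IsOpenImmersion i.left := by
  have := (Groth.Agent.S18830.result k M G i hi).1
  exact GrothLib.MonoidUnits.isOpenImmersion i hi


end Groth.Agent.S18817
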