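import Groth.Statements.S18819
import Groth.Agent.Lib.Comod.Isotypic

set_option autoImplicit false
universe u v w w'
open TensorProduct
open HopfRep

namespace Groth.Agent.S18819

/-- Let k be a field, C a k-coalgebra and V a right C-comodule which is the sum of finitely many simple
subcomodules, given as the images of comodule maps g_i : K_i → V (i < n) from simple comodules K_i.
If S is a simple comodule and f : S → V a nonzero comodule map (so that its image is a simple
subcomodule of V), then S is isomorphic as a comodule to some K_i: there is a k-linear isomorphism S
≃ K_i commuting with the coactions. (The source states this for representations of an affine monoid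
scheme over k with the subrepresentations given as subspaces; here the simple subcomodules are
presented as images of maps from simple comodules.) -/
theorem result (k : Type u) [Field k]
    (C : Type v) [AddCommGroup C] [Module k C] [Coalgebra k C]
    (V : Type w) [AddCommGroup V] [Module k V] [HopfRep.Comod k C V]
    {n : ℕ} (K : Fin n → Type w') [∀ i, AddCommGroup (K i)] [∀ i, Module k (K i)] [∀ i, HopfRep.Comod k C (K i)]
    (hK : ∀ i, HopfRep.IsSimpleComod k C (K i)) (g : ∀ i, K i →ₗ[k] V) (hg : ∀ i, Hoch.IsComodHom C (g i))
    (hsum : (⨆ i, LinearMap.range (g i)) = ⊤)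
    (S : Type w') [AddCommGroup S] [Module k S] [HopfRep.Comod k C S] (hS : HopfRep.IsSimpleComod k C S)
    (f : S →ₗ[k] V) (hf : Hoch.IsComodHom C f) (hf0 : f ≠ 0) :
    ∃ (i : Fin n) (e : S ≃ₗ[k] K i), Hoch.IsComodHom C (e : S →ₗ[k] K i) := by
  exact GrothLib.Comodule.exists_iso_of_le_iSup K hK g hg hS hf hf0 (hsum.symm ▸ le_top)

end Groth.Agent.S18819
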