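import Groth.Statements.S18820
import Groth.Agent.Lib.GrpSchField.HomFlat

set_option autoImplicit false
universe u
open CategoryTheory MonoidalCategory CartesianMonoidalCategory AlgebraicGeometry
open AlgGrp

namespace Groth.Agent.S18820

/-- Let k be a field, M a k-scheme (in the source a monoid k-scheme) acting on a k-scheme X through a :
M ×_k X → X, and z : Z → X a closed immersion which is surjective (a closed subscheme defined by an
ideal all of whose sections are nilpotent, e.g. the reduction of X), stable under the action: a_Z :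
M ×_k Z → Z satisfies (id_M × z) followed by a = a_Z followed by z. For an open subset U of X the
following are equivalent: (i) U is stable, i.e. a maps M ×_k U into U; (ii) U ∩ Z is stable, i.e.
a_Z maps M ×_k (U ∩ Z) into U ∩ Z. (The monoid axioms of the source play no role and are not
assumed.) -/
theorem result (k : Type u) [Field k]
    (M X Z : Over (Spec (CommRingCat.of k))) (a : M ⊗ X ⟶ X) (aZ : M ⊗ Z ⟶ Z) (z : Z ⟶ X)
    [IsClosedImmersion z.left] [Surjective z.left] (hz : (M ◁ z) ≫ a = aZ ≫ z) (U : X.left.Opens) :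
    (CartesianMonoidalCategory.snd M X).left ⁻¹ᵁ U ≤ a.left ⁻¹ᵁ U ↔
      (CartesianMonoidalCategory.snd M Z).left ⁻¹ᵁ (z.left ⁻¹ᵁ U) ≤ aZ.left ⁻¹ᵁ (z.left ⁻¹ᵁ U) := by
  refine ⟨fun h p hp => ?_, fun h p hp => ?_⟩
  · show z.left (aZ.left p) ∈ U
    rw [← Scheme.Hom.comp_apply, ← Over.comp_left, ← hz, Over.comp_left, Scheme.Hom.comp_apply]
    refine h (show (CartesianMonoidalCategory.snd M X).left ((M ◁ z).left p) ∈ U from ?_)
    rw [← Scheme.Hom.comp_apply, ← Over.comp_left, whiskerLeft_snd, Over.comp_left,
      Scheme.Hom.comp_apply]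
    exact hp
  · have : Surjective (M ◁ z).left :=
      MorphismProperty.of_isPullback (GrothLib.GrpSchField.whiskerLeft_snd_isPullback M z).flip
        ‹Surjective z.left›
    obtain ⟨p, rfl⟩ := (M ◁ z).left.surjective p
    have h1 : z.left ((CartesianMonoidalCategory.snd M Z).left p) ∈ U := by
      rw [← Scheme.Hom.comp_apply, ← Over.comp_left, ← whiskerLeft_snd, Over.comp_left,
        Scheme.Hom.comp_apply]
      exact hp
    show a.left ((M ◁ z).left p) ∈ U
    rw [← Scheme.Hom.comp_apply, ← Over.comp_left, hz, Over.comp_left, Scheme.Hom.comp_apply]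
    exact h h1

end Groth.Agent.S18820
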