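import Groth.Statements.S18821
import Mathlib.AlgebraicGeometry.Pullbacks
import Mathlib.CategoryTheory.Monoidal.Cartesian.Over
-- import your own Groth.Agent.* helpers here

set_option autoImplicit false
universe u
open CategoryTheory MonoidalCategory CartesianMonoidalCategory MonObj AlgebraicGeometry
open AlgGrp

namespace Groth.Agent.S18821

/-- Let k be a commutative ring and M a monoid k-scheme (a monoid object in k-schemes). Then the group
k-functor of units T ↦ M(T)^× is representable by a k-scheme: there are a k-scheme G and a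
monomorphism i : G → M such that, for every k-scheme T, a T-valued point of M factors through i if
and only if it is invertible in the monoid M(T). If moreover M is affine then G is affine. -/
theorem result (k : Type u) [CommRing k]
    (M : Over (Spec (CommRingCat.of k))) [MonObj M] :
    ∃ (G : Over (Spec (CommRingCat.of k))) (i : G ⟶ M), Mono i ∧
      (∀ (T : Over (Spec (CommRingCat.of k))) (m : T ⟶ M), (∃ g : T ⟶ G, g ≫ i = m) ↔ IsUnit m) ∧
      (IsAffine M.left → IsAffine G.left) := by
  let f : M ⊗ M ⟶ M ⊗ M := lift μ[M] (lift (snd M M) (fst M M) ≫ μ[M])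
  let g : 𝟙_ (Over (Spec (CommRingCat.of k))) ⟶ M ⊗ M := lift η[M] η[M]
  let i : Limits.pullback f g ⟶ M := Limits.pullback.fst f g ≫ fst M M
  have hfac : ∀ (T : Over (Spec (CommRingCat.of k))) (z : T ⟶ Limits.pullback f g),
      (z ≫ i) * (z ≫ Limits.pullback.fst f g ≫ snd M M) = 1 ∧
        (z ≫ Limits.pullback.fst f g ≫ snd M M) * (z ≫ i) = 1 := by
    intro T z
    have h := congrArg (z ≫ ·) (Limits.pullback.condition (f := f) (g := g))
    have h1 := congrArg (· ≫ fst M M) h
    have h2 := congrArg (· ≫ snd M M) h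
    simp only [f, g, Category.assoc, lift_fst, lift_snd] at h1 h2
    constructor
    · rw [Hom.mul_def, Hom.one_def, ← Subsingleton.elim (z ≫ Limits.pullback.snd f g) (toUnit T)]
      rw [Category.assoc, ← h1, ← comp_lift, ← comp_lift, lift_fst_snd, Category.comp_id, Category.assoc]
    · rw [Hom.mul_def, Hom.one_def, ← Subsingleton.elim (z ≫ Limits.pullback.snd f g) (toUnit T)]
      rw [Category.assoc, ← h2, ← comp_lift, ← comp_lift, Category.assoc, Category.assoc]
  refine ⟨Limits.pullback f g, i, ⟨fun {T} z z' h => ?_⟩, fun T m => ⟨?_, ?_⟩, fun hM => ?_⟩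
  · refine Limits.pullback.hom_ext (CartesianMonoidalCategory.hom_ext _ _ ?_ ?_) (Subsingleton.elim _ _)
    · simpa only [Category.assoc] using h
    · rw [Category.assoc, Category.assoc]
      exact left_inv_eq_right_inv (h ▸ (hfac T z).2) (hfac T z').1
  · rintro ⟨z, rfl⟩
    exact ⟨⟨z ≫ i, z ≫ Limits.pullback.fst f g ≫ snd M M, (hfac T z).1, (hfac T z).2⟩, rfl⟩
  · rintro ⟨u, rfl⟩
    refine ⟨Limits.pullback.lift (lift (u : T ⟶ M) ((u⁻¹ : (T ⟶ M)ˣ) : T ⟶ M)) (toUnit T) ?_, ?_⟩
    · refine CartesianMonoidalCategory.hom_ext _ _ ?_ ?_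
      · simp only [f, g, Category.assoc, lift_fst]
        rw [← Hom.mul_def, u.mul_inv, Hom.one_def]
      · simp only [f, g, Category.assoc, lift_snd]
        rw [← Category.assoc, comp_lift, lift_fst, lift_snd, ← Hom.mul_def, u.inv_mul, Hom.one_def]
    · show _ ≫ Limits.pullback.fst f g ≫ fst M M = _
      rw [Limits.pullback.lift_fst_assoc, lift_fst]
  · have : IsAffine (M ⊗ M).left := inferInstanceAs (IsAffine (Limits.pullback M.hom M.hom))
    have : IsAffine (𝟙_ (Over (Spec (CommRingCat.of k)))).left := inferInstanceAs (IsAffine (Spec (CommRingCat.of k)))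
    have sq : IsPullback (Limits.pullback.fst f g).left (Limits.pullback.snd f g).left f.left g.left :=
      (IsPullback.of_hasPullback f g).map (Over.forget _)
    exact .of_isIso sq.isoPullback.hom


end Groth.Agent.S18821
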