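import Groth.Statements.S18822
import Groth.Agent.Lib.MagnetSheaf25.Basic
import Mathlib.AlgebraicGeometry.Sites.BigZariski
-- import your own Groth.Agent.* helpers here

set_option autoImplicit false
universe u
open CategoryTheory MonoidalCategory CartesianMonoidalCategory MonObj AlgebraicGeometry Opposite
open Magnet

namespace Groth.Agent.S18822

/-- Let k be a commutative ring, M a monoid k-scheme and X a k-scheme with an action a of M. Then the
fixed-point subpresheaf X^M of X, whose T-valued points are the k-morphisms x : T → X such that g ·
(x ∘ t) = x ∘ t for every k-scheme T', every t : T' → T and every T'-valued point g of M, is a sheaf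
for the Zariski topology on k-schemes (the topology induced on schemes over Spec k). -/
theorem result (k : Type u) [CommRing k]
    (M X : Over (Spec (CommRingCat.of k))) [MonObj M] (a : Magnet.MonAct M X) :
    Presheaf.IsSheaf (Scheme.zariskiTopology.over (Spec (CommRingCat.of k))) (Magnet.MonAct.fixedPsh a) := by
  rw [isSheaf_iff_isSheaf_of_type]
  exact GrothLib.MagnetSheaf.isSheaf_fixedPsh _ (GrothLib.MagnetSheaf.isSheaf_yoneda_over _ X) a

end Groth.Agent.S18822
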