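import Groth.Statements.S18824
import Groth.Agent.Lib.GrpSchField.Shear
import Mathlib.AlgebraicGeometry.Morphisms.UniversallyOpen
import Mathlib.AlgebraicGeometry.PullbackCarrier

set_option autoImplicit false
universe u
open CategoryTheory MonoidalCategory CartesianMonoidalCategory MonObj AlgebraicGeometry
open AlgGrp

namespace Groth.Agent.S18824

theorem isPullback_whiskerLeft {C : Type*} [Category C] [CartesianMonoidalCategory C] {A B : C}
    (f : A ⟶ B) (X : C) :
    IsPullback (X ◁ f) (CartesianMonoidalCategory.snd X A) (CartesianMonoidalCategory.snd X B) f := by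
  refine IsPullback.of_isLimit' ⟨CartesianMonoidalCategory.whiskerLeft_snd X f⟩
    (Limits.PullbackCone.IsLimit.mk _
      (fun s => CartesianMonoidalCategory.lift (s.fst ≫ CartesianMonoidalCategory.fst X B) s.snd)
      (fun s => ?_) (fun s => ?_) (fun s m h₁ h₂ => ?_))
  · ext
    · simp
    · simp [s.condition]
  · simp
  · ext
    · simp [← h₁]
    · simp [h₂]

/-- Let k be a field, G a locally algebraic group over k (a group k-scheme locally of finite type)
acting on a k-scheme X through a : G ×_k X → X, and U an open subset of X. Let G·U ⊆ X be the image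
under a of G ×_k U (the preimage of U under the projection). Then G·U is open in X, contains U, is
G-stable in the sense that a maps G ×_k (G·U) into G·U, and is the smallest such set: every G-stable
open subset of X containing U contains G·U. -/
theorem result (k : Type u) [Field k]
    (G X : Over (Spec (CommRingCat.of k))) [GrpObj G] [LocallyOfFiniteType G.hom] (a : AlgGrp.Action G X)
    (U : Set ↥X.left) (hU : IsOpen U) :
    IsOpen (a.act.left.base '' ((CartesianMonoidalCategory.snd G X).left.base ⁻¹' U)) ∧
      U ⊆ a.act.left.base '' ((CartesianMonoidalCategory.snd G X).left.base ⁻¹' U) ∧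
      a.act.left.base '' ((CartesianMonoidalCategory.snd G X).left.base ⁻¹'
          (a.act.left.base '' ((CartesianMonoidalCategory.snd G X).left.base ⁻¹' U))) ⊆
        a.act.left.base '' ((CartesianMonoidalCategory.snd G X).left.base ⁻¹' U) ∧
      ∀ W : Set ↥X.left, IsOpen W → U ⊆ W →
        a.act.left.base '' ((CartesianMonoidalCategory.snd G X).left.base ⁻¹' W) ⊆ W →
          a.act.left.base '' ((CartesianMonoidalCategory.snd G X).left.base ⁻¹' U) ⊆ W := by
  have hopen : ∀ V : Set X.left, IsOpen V → IsOpen (a.act.left.base '' ((CartesianMonoidalCategory.snd G X).left.base ⁻¹' V)) :=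
    fun V hV => by
      have := GrothLib.GrpSchField.act_property @UniversallyOpen a inferInstance
      exact a.act.left.isOpenMap _ (hV.preimage (CartesianMonoidalCategory.snd G X).left.continuous)
  refine ⟨hopen U hU, fun x hx => ?_, ?_, fun W _ hUW hW => ?_⟩
  · let e : X ⟶ G ⊗ X := CartesianMonoidalCategory.lift 1 (𝟙 X)
    have h1 : e ≫ a.act = 𝟙 X := GrothLib.GrpSchField.act_one a (𝟙 X)
    refine ⟨e.left x, ?_, ?_⟩
    · show (CartesianMonoidalCategory.snd G X).left (e.left x) ∈ U
      rw [← Scheme.Hom.comp_apply, ← Over.comp_left, CartesianMonoidalCategory.lift_snd]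
      exact hx
    · rw [← Scheme.Hom.comp_apply, ← Over.comp_left, h1]
      rfl
  · rintro _ ⟨q, ⟨r, hr, hq⟩, rfl⟩
    -- lift `(g, a (g', u))` to the triple product and use associativity
    obtain ⟨p, hp₁, hp₂⟩ := AlgebraicGeometry.Scheme.exists_preimage_of_isPullback
      ((isPullback_whiskerLeft a.act G).map (Over.forget _)) q r hq.symm
    let m : G ⊗ (G ⊗ X) ⟶ G ⊗ X := (α_ G G X).inv ≫ (μ[G] ▷ X)
    have hm : m ≫ a.act = (G ◁ a.act) ≫ a.act := by
      rw [Category.assoc, a.mul_act, Iso.inv_hom_id_assoc]
    have hm' : m ≫ CartesianMonoidalCategory.snd G X =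
        CartesianMonoidalCategory.snd G (G ⊗ X) ≫ CartesianMonoidalCategory.snd G X := by
      simp [m]
    refine ⟨m.left p, ?_, ?_⟩
    · show (CartesianMonoidalCategory.snd G X).left (m.left p) ∈ U
      rw [← Scheme.Hom.comp_apply, ← Over.comp_left, hm', Over.comp_left, Scheme.Hom.comp_apply]
      erw [hp₂]
      exact hr
    · show a.act.left (m.left p) = a.act.left q
      rw [← Scheme.Hom.comp_apply, ← Over.comp_left, hm, Over.comp_left, Scheme.Hom.comp_apply]
      erw [hp₁]
  · rintro _ ⟨q, hq, rfl⟩
    exact hW ⟨q, hUW hq, rfl⟩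

end Groth.Agent.S18824
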