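import Groth.Statements.S18825
import Groth.Agent.Lib.GrpSchField.Orbit
import Groth.Agent.Lib.GrpSchField.Open
import Mathlib.AlgebraicGeometry.Morphisms.SchemeTheoreticallyDominant
-- import your own Groth.Agent.* helpers here

set_option autoImplicit false
universe u
open CategoryTheory MonoidalCategory CartesianMonoidalCategory MonObj AlgebraicGeometry
open AlgGrp

namespace Groth.Agent.S18825

/-- Let k be a field and f : H → G a homomorphism of locally algebraic groups over k (group k-schemes
locally of finite type) which is of finite type (equivalently quasi-compact). Let H → K → G be the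
factorization of f through its scheme-theoretic image: i : K → G a closed immersion and g : H → K
with g followed by i equal to f and O_K → g_*O_H injective. Then (1) K is a closed subgroup scheme
of G: the unit section of G factors through i and, for every k-scheme T and T-valued points k₁, k₂
of K, the T-valued point (i k₁)⁻¹ · (i k₂) of G factors through i; and (2) g : H → K is surjective.
(The source also records that g is a homomorphism for the group structure induced on K; this row
does not state it.) -/
theorem result (k : Type u) [Field k]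
    (H G K : Over (Spec (CommRingCat.of k))) [GrpObj H] [GrpObj G]
    [LocallyOfFiniteType H.hom] [LocallyOfFiniteType G.hom]
    (f : H ⟶ G) [IsMonHom f] [QuasiCompact f.left]
    (i : K ⟶ G) [IsClosedImmersion i.left] (g : H ⟶ K) (hgi : g ≫ i = f)
    [IsSchemeTheoreticallyDominant g.left] :
    ((∃ e : 𝟙_ (Over (Spec (CommRingCat.of k))) ⟶ K, e ≫ i = η[G]) ∧
      ∀ (T : Over (Spec (CommRingCat.of k))) (k₁ k₂ : T ⟶ K),
        ∃ k₃ : T ⟶ K, k₃ ≫ i = (k₁ ≫ i)⁻¹ * (k₂ ≫ i)) ∧
    Surjective g.left := by
  have : QuasiCompact g.left := by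
    have : QuasiCompact (g.left ≫ i.left) := by rw [← Over.comp_left, hgi]; infer_instance
    exact QuasiCompact.of_comp g.left i.left
  have hfl : Flat (CartesianMonoidalCategory.snd H K).left :=
    inferInstanceAs (Flat (Limits.pullback.snd H.hom K.hom))
  have hfl' : Flat (CartesianMonoidalCategory.fst K H).left :=
    inferInstanceAs (Flat (Limits.pullback.fst K.hom H.hom))
  have hfl'' : Flat (CartesianMonoidalCategory.snd K K).left :=
    inferInstanceAs (Flat (Limits.pullback.snd K.hom K.hom))
  have hA : IsSchemeTheoreticallyDominant (K ◁ g).left ∧ QuasiCompact (K ◁ g).left :=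
    ⟨IsSchemeTheoreticallyDominant.of_isPullback (GrothLib.GrpSchField.whiskerLeft_snd_isPullback K g).flip,
      MorphismProperty.of_isPullback (GrothLib.GrpSchField.whiskerLeft_snd_isPullback K g).flip ‹QuasiCompact g.left›⟩
  have hB : IsSchemeTheoreticallyDominant (g ▷ H).left ∧ QuasiCompact (g ▷ H).left :=
    ⟨IsSchemeTheoreticallyDominant.of_isPullback (f := g.left)
      (g := (CartesianMonoidalCategory.fst K H).left)
      (show IsPullback (CartesianMonoidalCategory.fst H H).left (g ▷ H).left g.left
        (CartesianMonoidalCategory.fst K H).left from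
        ((GrothLib.GrpSchField.isPullback_whiskerRight g H).map (Over.forget _)).flip),
      GrothLib.GrpSchField.whiskerRight_property @QuasiCompact g H ‹QuasiCompact g.left›⟩
  have := hA.1
  have := hA.2
  have := hB.1
  have := hB.2
  let D : K ⊗ K ⟶ G :=
    (CartesianMonoidalCategory.fst K K ≫ i)⁻¹ * (CartesianMonoidalCategory.snd K K ≫ i)
  let gg : H ⊗ H ⟶ K ⊗ K := g ▷ H ≫ K ◁ g
  have hgg : gg ≫ D = ((CartesianMonoidalCategory.fst H H)⁻¹ * CartesianMonoidalCategory.snd H H) ≫ g ≫ i := by
    simp [gg, D, MonObj.comp_mul, GrpObj.comp_inv, hgi, MonObj.mul_comp, GrpObj.inv_comp]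
  let π := Limits.pullback.fst D i
  have : IsClosedImmersion π.left :=
    MorphismProperty.of_isPullback ((IsPullback.of_hasPullback D i).map (Over.forget _)).flip
      ‹IsClosedImmersion i.left›
  let l : H ⊗ H ⟶ Limits.pullback D i :=
    Limits.pullback.lift gg (((CartesianMonoidalCategory.fst H H)⁻¹ * CartesianMonoidalCategory.snd H H) ≫ g)
      (by rw [hgg, Category.assoc])
  have hl : l.left ≫ π.left = (g ▷ H).left ≫ (K ◁ g).left := by
    rw [← Over.comp_left, Limits.pullback.lift_fst, ← Over.comp_left]
  have : IsIso π.left := by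
    rw [IsClosedImmersion.isIso_iff_ker_eq_bot, ← le_bot_iff]
    calc π.left.ker ≤ (l.left ≫ π.left).ker := Scheme.Hom.le_ker_comp _ _
      _ = ⊥ := by rw [hl]; exact Scheme.Hom.ker_eq_bot _
  have : IsIso π := by
    have : IsIso ((Over.forget _).map π) := this
    exact isIso_of_reflects_iso π (Over.forget _)
  refine ⟨⟨⟨η[H] ≫ g, by rw [Category.assoc, hgi, IsMonHom.one_hom]⟩, fun T k₁ k₂ =>
    ⟨lift k₁ k₂ ≫ inv π ≫ Limits.pullback.snd D i, ?_⟩⟩, ?_⟩
  · rw [Category.assoc, Category.assoc, ← Limits.pullback.condition]
    rw [IsIso.inv_hom_id_assoc]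
    simp [D, MonObj.comp_mul, GrpObj.comp_inv]
  · have hc : IsClosed (Set.range f.left) := by
      let a : AlgGrp.Action H G :=
        { act := lift (CartesianMonoidalCategory.fst H G ≫ f) (CartesianMonoidalCategory.snd H G) ≫ μ[G]
          one_act := by
            rw [← Hom.mul_def]
            simp [MonObj.comp_mul, IsMonHom.one_hom]
            rw [Subsingleton.elim (CartesianMonoidalCategory.fst (𝟙_ _) G) (toUnit _), ← Hom.one_def,
              _root_.one_mul, leftUnitor_hom]
          mul_act := by
            rw [← Hom.mul_def]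
            have hm : μ[H] ≫ f =
                (CartesianMonoidalCategory.fst H H ≫ f) * (CartesianMonoidalCategory.snd H H ≫ f) := by
              rw [← MonObj.mul_comp]; congr 1; simp [Hom.mul_def]
            simp [MonObj.comp_mul, hm, _root_.mul_assoc] }
      have h : a.orbitMap η[G] = f := by
        simp [AlgGrp.Action.orbitMap, a, ← Hom.mul_def, MonObj.comp_mul, ← Hom.one_def]
      have : QuasiCompact (a.orbitMap η[G]).left := by rw [h]; infer_instance
      have hlc := GrothLib.GrpSchField.isLocallyClosed_range_orbitMap a η[G]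
      rw [h] at hlc
      exact GrothLib.GrpSchField.isClosed_range_of_isLocallyClosed f hlc
    have hr : Set.range f.left = i.left '' Set.range g.left := by
      rw [← hgi, Over.comp_left, Scheme.Hom.comp_base, TopCat.coe_comp, Set.range_comp]
    have hgc : IsClosed (Set.range g.left) := by
      rw [hr] at hc
      exact i.left.isClosedEmbedding.isClosed_iff_image_isClosed.mpr hc
    exact ⟨Set.range_eq_univ.mp (hgc.closure_eq.symm.trans g.left.denseRange.closure_eq)⟩

end Groth.Agent.S18825
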