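import Groth.Statements.S18826
import Groth.Agent.Lib.GrpSchField.Shear
import Groth.Agent.Lib.GrpSchField.HomFlat
import Mathlib.AlgebraicGeometry.Morphisms.UniversallyOpen
-- import your own Groth.Agent.* helpers here

set_option autoImplicit false
universe u
open CategoryTheory MonoidalCategory CartesianMonoidalCategory MonObj AlgebraicGeometry
open AlgGrp

namespace Groth.Agent.S18826

/-- Let k be a field, G a locally algebraic group over k (a group k-scheme locally of finite type)
acting on k-schemes X and Y, and f : X → Y a G-equivariant k-morphism. Let P be a property of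
morphisms of schemes which is local on the target for the Zariski topology, stable under base
change, and descends along flat surjective universally open morphisms (the published hypothesis is
descent along fpqc morphisms; the printed argument descends only along the restriction G ×_k U → G·U
of the action, which is flat, surjective and universally open). Then there is a largest open subset
V of Y such that the restriction f⁻¹(V) → V of f has P, and this V is G-stable: the action G ×_k Y →
Y maps G ×_k V into V. -/
theorem result (k : Type u) [Field k]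
    (G X Y : Over (Spec (CommRingCat.of k))) [GrpObj G] [LocallyOfFiniteType G.hom]
    (aX : AlgGrp.Action G X) (aY : AlgGrp.Action G Y) (f : X ⟶ Y) (hf : (G ◁ f) ≫ aY.act = aX.act ≫ f)
    (P : MorphismProperty Scheme.{u}) [IsZariskiLocalAtTarget P] [P.IsStableUnderBaseChange]
    [P.DescendsAlong (@Flat ⊓ @Surjective ⊓ @UniversallyOpen)] :
    ∃ V : Y.left.Opens, P (f.left ∣_ V) ∧ (∀ V' : Y.left.Opens, P (f.left ∣_ V') → V' ≤ V) ∧
      (CartesianMonoidalCategory.snd G Y).left ⁻¹ᵁ V ≤ aY.act.left ⁻¹ᵁ V := by
  let V : Y.left.Opens := ⨆ V' : {V' : Y.left.Opens // P (f.left ∣_ V')}, V'.1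
  have hmax : ∀ V' : Y.left.Opens, P (f.left ∣_ V') → V' ≤ V := fun V' h =>
    le_iSup (fun V' : {V' : Y.left.Opens // P (f.left ∣_ V')} => V'.1) ⟨V', h⟩
  have hV : P (f.left ∣_ V) := by
    refine IsZariskiLocalAtTarget.of_forall_exists_morphismRestrict fun y => ?_
    obtain ⟨⟨V', hV'⟩, hy⟩ := TopologicalSpace.Opens.mem_iSup.mp y.2
    refine ⟨V.ι ⁻¹ᵁ V', hy, ?_⟩
    rw [P.arrow_mk_iso_iff (morphismRestrictRestrict f.left V (V.ι ⁻¹ᵁ V'))]
    have : V.ι ''ᵁ (V.ι ⁻¹ᵁ V') = V' := by
      rw [Scheme.Hom.image_preimage_eq_opensRange_inf, Scheme.Opens.opensRange_ι, inf_eq_right]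
      exact hmax V' hV'
    rwa [P.arrow_mk_iso_iff (morphismRestrictEq f.left this)]
  refine ⟨V, hV, hmax, ?_⟩
  let sY := (CartesianMonoidalCategory.snd G Y).left
  let O := sY ⁻¹ᵁ V
  have hUO : UniversallyOpen sY := inferInstanceAs (UniversallyOpen (Limits.pullback.snd G.hom Y.hom))
  have hFl : Flat sY := inferInstanceAs (Flat (Limits.pullback.snd G.hom Y.hom))
  have hA : UniversallyOpen aY.act.left ∧ Flat aY.act.left := by
    have := GrothLib.GrpSchField.isIso_left (GrothLib.GrpSchField.shear aY).hom
    rw [GrothLib.GrpSchField.act_left_eq]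
    exact ⟨inferInstance, inferInstance⟩
  have := hA.1
  have := hA.2
  let W : Y.left.Opens := ⟨aY.act.left '' (O : Set _), aY.act.left.isOpenMap _ O.isOpen⟩
  let r : (O : Scheme.{u}) ⟶ W := IsOpenImmersion.lift W.ι (O.ι ≫ aY.act.left) (by
    rintro _ ⟨z, rfl⟩
    rw [Scheme.Opens.range_ι, Scheme.Hom.comp_apply]
    exact ⟨_, z.2, rfl⟩)
  have hr : r ≫ W.ι = O.ι ≫ aY.act.left := IsOpenImmersion.lift_fac _ _ _
  have hrQ : (@Flat ⊓ @Surjective ⊓ @UniversallyOpen : MorphismProperty Scheme.{u}) r := by
    have h1 : Flat (r ≫ W.ι) := by rw [hr]; infer_instance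
    have h2 : UniversallyOpen (r ≫ W.ι) := by rw [hr]; infer_instance
    refine ⟨⟨MorphismProperty.of_postcomp (W := @Flat) (W' := @IsOpenImmersion) r W.ι inferInstance h1,
      ⟨?_⟩⟩, MorphismProperty.of_postcomp (W := @UniversallyOpen) (W' := @IsOpenImmersion) r W.ι inferInstance h2⟩
    rintro ⟨_, z, hz, rfl⟩
    refine ⟨⟨z, hz⟩, W.ι.isOpenEmbedding.injective ?_⟩
    rw [← Scheme.Hom.comp_apply, hr, Scheme.Hom.comp_apply]
    rfl
  have sq1 := (GrothLib.GrpSchField.whiskerLeft_snd_isPullback G f).flip
  have hS := GrothLib.GrpSchField.isIso_left (GrothLib.GrpSchField.shear aX).hom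
  have hS' := GrothLib.GrpSchField.isIso_left (GrothLib.GrpSchField.shear aY).hom
  have sqσ : IsPullback (GrothLib.GrpSchField.shear aX).hom.left (G ◁ f).left (G ◁ f).left
      (GrothLib.GrpSchField.shear aY).hom.left := by
    refine IsPullback.of_horiz_isIso ⟨?_⟩
    rw [← Over.comp_left, ← Over.comp_left]
    refine congrArg CommaMorphism.left ?_
    apply CartesianMonoidalCategory.hom_ext <;> simp [GrothLib.GrpSchField.shear, hf]
  have sq2 : IsPullback aX.act.left (G ◁ f).left f.left aY.act.left := by
    rw [GrothLib.GrpSchField.act_left_eq, GrothLib.GrpSchField.act_left_eq]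
    exact sqσ.paste_horiz sq1
  have sqO := IsPullback.of_hasPullback (G ◁ f).left O.ι
  have hP : P (Limits.pullback.snd (G ◁ f).left O.ι) := by
    have big := sqO.paste_horiz sq1
    rw [← morphismRestrict_ι sY V] at big
    exact P.of_isPullback (IsPullback.of_right' big (isPullback_morphismRestrict f.left V).flip) hV
  have big2 := sqO.paste_horiz sq2
  rw [← hr] at big2
  have hW : P (f.left ∣_ W) :=
    MorphismProperty.of_isPullback_of_descendsAlong (Q := @Flat ⊓ @Surjective ⊓ @UniversallyOpen)
      (IsPullback.of_right' big2 (isPullback_morphismRestrict f.left W).flip).flip hrQ hP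
  intro z hz
  exact hmax W hW ⟨z, hz, rfl⟩

end Groth.Agent.S18826
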