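import Groth.Statements.S18827
import Groth.Agent.Lib.Comod.Semi

set_option autoImplicit false
universe u v w
open TensorProduct
open HopfRep

namespace Groth.Agent.S18827

/-- Let k be a field, C a k-coalgebra, V a right C-comodule which is semisimple (every subcomodule has a
complementary subcomodule, which over a field is the same as being the sum of its simple
subcomodules) and W a subcomodule of V. Then the subcomodule W with its induced structure and the
quotient comodule V/W are again semisimple. (The source states this for representations of an affine
monoid scheme over k.) -/
theorem result (k : Type u) [Field k]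
    (C : Type v) [AddCommGroup C] [Module k C] [Coalgebra k C]
    (V : Type w) [AddCommGroup V] [Module k V] [c : HopfRep.Comod k C V] (hV : HopfRep.IsSemisimpleComod k C V)
    (W : Submodule k V) (hW : HopfRep.IsSubcomod (k := k) (A := C) W) :
    @HopfRep.IsSemisimpleComod k C _ _ _ _ ↥W _ _ (ComodSub.Comod.restr c W hW) ∧
      @HopfRep.IsSemisimpleComod k C _ _ _ _ (V ⧸ W) _ _ (ComodSub.Comod.quot c W hW) := by
  exact ⟨GrothLib.Comodule.semisimple_restr c W hW hV, GrothLib.Comodule.semisimple_quot c W hW hV⟩

end Groth.Agent.S18827
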