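import Groth.Statements.S18828
import Groth.Agent.Lib.MonoidUnits.Open
import Groth.Agent.Lib.FibreLocus.Hom
-- import your own Groth.Agent.* helpers here

set_option autoImplicit false
universe u
open CategoryTheory MonoidalCategory CartesianMonoidalCategory MonObj AlgebraicGeometry
open AlgGrp

namespace Groth.Agent.S18828

/-- Let k be a field and f : H → G a homomorphism of locally algebraic groups over k (group k-schemes
locally of finite type). Write e_H for the unit point of H (the image under the unit section of the
point pt of the base Spec k) and φ : O_{G,f(e_H)} → O_{H,e_H} for the induced local homomorphism of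
local rings. Assume (1) φ induces an isomorphism of completed local rings, stated here as: for every
n, φ followed by reduction modulo the (n+1)-st power of the maximal ideal of O_{H,e_H} is
surjective, and an element of O_{G,f(e_H)} maps into that power exactly when it lies in the (n+1)-st
power of the maximal ideal of O_{G,f(e_H)}; and (2) f is a monomorphism of schemes. Then f is an
open immersion. -/
theorem result (k : Type u) [Field k]
    (H G : Over (Spec (CommRingCat.of k))) [GrpObj H] [GrpObj G]
    [LocallyOfFiniteType H.hom] [LocallyOfFiniteType G.hom] (f : H ⟶ G) [IsMonHom f] [Mono f.left]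
    (pt : ↥(𝟙_ (Over (Spec (CommRingCat.of k)))).left)
    (h : ∀ n : ℕ,
      Function.Surjective ((Ideal.Quotient.mk (IsLocalRing.maximalIdeal
          ↑(H.left.presheaf.stalk (η[H].left.base pt)) ^ (n + 1))).comp
        (f.left.stalkMap (η[H].left.base pt)).hom) ∧
      ∀ a : ↑(G.left.presheaf.stalk (f.left.base (η[H].left.base pt))),
        (f.left.stalkMap (η[H].left.base pt)).hom a ∈
            IsLocalRing.maximalIdeal ↑(H.left.presheaf.stalk (η[H].left.base pt)) ^ (n + 1) ↔
          a ∈ IsLocalRing.maximalIdeal ↑(G.left.presheaf.stalk (f.left.base (η[H].left.base pt))) ^ (n + 1)) :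
    IsOpenImmersion f.left := by
  let x := η[H].left.base pt
  let φ := (f.left.stalkMap x).hom
  have : IsLocallyNoetherian G.left := LocallyOfFiniteType.isLocallyNoetherian G.hom
  have : IsLocallyNoetherian H.left := LocallyOfFiniteType.isLocallyNoetherian H.hom
  have : LocallyOfFiniteType (f.left ≫ G.hom) := by rw [Over.w f]; infer_instance
  have : LocallyOfFiniteType f.left := locallyOfFiniteType_of_comp f.left G.hom
  have : LocallyOfFinitePresentation H.hom := GrothLib.GrpSchField.lfp_of_isLocallyNoetherian _
  have : LocallyOfFinitePresentation f.left := GrothLib.GrpSchField.lfp_of_isLocallyNoetherian _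
  have : Flat H.hom := GrothLib.DiagGrp.flat_of_field _
  have hN : IsLocalRing.maximalIdeal ↑(H.left.presheaf.stalk x) ≤
      (IsLocalRing.maximalIdeal ↑(G.left.presheaf.stalk (f.left.base x))).map φ := by
    refine Submodule.le_of_le_smul_of_le_jacobson_bot (IsNoetherian.noetherian _)
      (IsLocalRing.maximalIdeal_le_jacobson _) ?_
    intro s hs
    obtain ⟨r, hr⟩ := (h 1).1 (Ideal.Quotient.mk _ s)
    have hd : φ r - s ∈ IsLocalRing.maximalIdeal _ ^ 2 := Ideal.Quotient.eq.1 hr
    have hφr : φ r ∈ IsLocalRing.maximalIdeal ↑(H.left.presheaf.stalk x) := by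
      simpa using add_mem (Ideal.pow_le_self two_ne_zero hd) hs
    have hr' := ((h 0).2 r).1 (by simpa using hφr)
    rw [pow_one] at hr'
    rw [show s = φ r + -(φ r - s) by ring]
    refine Submodule.add_mem_sup (Ideal.mem_map_of_mem _ hr') ?_
    rw [smul_eq_mul, ← pow_two]
    exact neg_mem hd
  have hflat : φ.Flat := by
    refine GrothLib.MonoidUnits.flat_of_split φ fun n => ?_
    let q := (Ideal.Quotient.mk (IsLocalRing.maximalIdeal ↑(H.left.presheaf.stalk x) ^ (n + 1))).comp φ
    have hker : RingHom.ker q =
        IsLocalRing.maximalIdeal ↑(G.left.presheaf.stalk (f.left.base x)) ^ (n + 1) := by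
      ext a
      exact Ideal.Quotient.eq_zero_iff_mem.trans ((h n).2 a)
    let e := (Ideal.quotEquivOfEq hker.symm).trans (RingHom.quotientKerEquivOfSurjective (h n).1)
    have he : ∀ a, e (Ideal.Quotient.mk _ a) = q a := fun a => rfl
    refine ⟨e.symm.toRingHom.comp (Ideal.Quotient.mk _), ?_, fun s r hr => ?_⟩
    · ext a
      show e.symm (q a) = _
      rw [← he, RingEquiv.symm_apply_apply]
    · rw [Ideal.map_pow]
      refine Ideal.pow_right_mono hN _ (Ideal.Quotient.eq.1 ?_)
      have := congrArg e hr
      rw [he] at this
      exact ((e.apply_symm_apply _).symm.trans this.symm :)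
  obtain ⟨-, hset⟩ := GrothLib.FibreLocus.flat_locus f
  have hflat' : ∀ z, (f.left.stalkMap z).hom.Flat := fun z => by
    have hx := (Set.ext_iff.1 hset x).1 hflat
    refine (Set.ext_iff.1 hset z).2 ?_
    rw [Set.mem_preimage] at hx ⊢
    exact (Subsingleton.elim (α := Spec (CommRingCat.of k)) (H.hom x) (H.hom z)) ▸ hx
  have : Flat f.left := Flat.of_stalkMap _ hflat'
  exact IsOpenImmersion.of_flat_of_mono _


end Groth.Agent.S18828
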