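import Groth.Statements.S18829
import Groth.Agent.Lib.HopfAG.TrivHom
import Groth.Agent.Lib.Comod.Integral
-- import your own Groth.Agent.* helpers here

set_option autoImplicit false
universe u
open scoped TensorProduct
open HopfRep

namespace Groth.Agent.S18829

/-- Let k be a field and A a finitely generated commutative Hopf algebra over k, the coordinate ring of
an affine algebraic group T. Suppose T is a torus: for some algebraically closed field extension K
of k the base change K ⊗_k A is isomorphic as a K-bialgebra to the group algebra over K of a free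
abelian group ℤ^n (T_K is a split torus of rank n). Then T is linearly reductive in the sense that
every finite-dimensional A-comodule is semisimple. (The source's definition of a torus asks for such
an isomorphism over every algebraically closed extension; one suffices for the printed argument. The
source's notion of a linearly reductive algebraic group also includes smoothness of T over k, which
this row does not assert.) -/
theorem result (k K A : Type u) [Field k] [Field K]
    [Algebra k K] [IsAlgClosed K] [CommRing A] [HopfAlgebra k A] [Algebra.FiniteType k A] (n : ℕ)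
    (e : (K ⊗[k] A) ≃ₐc[K] MonoidAlgebra K (Multiplicative (Fin n → ℤ))) :
    HopfRep.IsLinearlyReductive k A := by
  classical
  intro V _ _ _ _ U hU
  let α₀ : MonoidAlgebra K (Multiplicative (Fin n → ℤ)) →ₗ[K] K := (MonoidAlgebra.basis _ K).coord 1
  have hs : ∀ g, α₀ (MonoidAlgebra.single g 1) = if g = 1 then 1 else 0 := fun g => by
    rw [show MonoidAlgebra.single g (1 : K) = MonoidAlgebra.basis _ K g by simp]
    simp [α₀, Finsupp.single_apply, eq_comm, -MonoidAlgebra.basis_apply]
  have hinv : ∀ z, TensorProduct.lid K _ (α₀.rTensor _ (Coalgebra.comul (R := K) z)) =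
      α₀ z • (1 : MonoidAlgebra K (Multiplicative (Fin n → ℤ))) := fun z => by
    refine LinearMap.congr_fun ((MonoidAlgebra.basis _ K).ext (f₁ := (TensorProduct.lid K _).toLinearMap ∘ₗ α₀.rTensor _ ∘ₗ Coalgebra.comul)
      (f₂ := α₀.smulRight (1 : MonoidAlgebra K (Multiplicative (Fin n → ℤ)))) fun g => ?_) z
    simp only [MonoidAlgebra.basis_apply, LinearMap.comp_apply, LinearMap.smulRight_apply]
    simp [hs]
    split_ifs with h <;> simp [h, MonoidAlgebra.one_def]
  let β : K ⊗[k] A →ₗ[K] K := α₀ ∘ₗ (e : (K ⊗[k] A) →ₐc[K] _).toLinearMap
  have hβ : ∀ z, TensorProduct.lid K (K ⊗[k] A) (β.rTensor _ (Coalgebra.comul (R := K) z)) = β z • (1 : K ⊗[k] A) := fun z => by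
    refine (show Function.Injective (fun w => e w) from EquivLike.injective e) ?_
    change e _ = e _
    rw [map_smul, map_one]
    refine Eq.trans ?_ (hinv (e z))
    rw [← CoalgHomClass.map_comp_comul_apply e z]
    induction Coalgebra.comul (R := K) z using TensorProduct.induction_on with
    | zero => simp
    | tmul p q =>
      simp [β]
      rfl
    | add p q hp hq => simp only [map_add, hp, hq]
  obtain ⟨r, hr⟩ : ∃ r : K →ₗ[k] k, r 1 = 1 := by
    obtain ⟨r, hr⟩ := (Algebra.linearMap k K).exists_leftInverse_of_injective
      (LinearMap.ker_eq_bot.mpr (algebraMap k K).injective)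
    refine ⟨r, ?_⟩
    have h1 := LinearMap.congr_fun hr 1
    simpa using h1
  let α : A →ₗ[k] k := r ∘ₗ (β.restrictScalars k) ∘ₗ TensorProduct.mk k K A 1
  have hα1 : α 1 = 1 := by
    change r (β ((1 : K) ⊗ₜ[k] (1 : A))) = 1
    rw [show β ((1 : K) ⊗ₜ[k] (1 : A)) = α₀ (e 1) from rfl, map_one, MonoidAlgebra.one_def, hs, if_pos rfl, hr]
  have hα : GrothLib.Comodule.IsInvariant α := by
    intro a
    have h1 := hβ ((1 : K) ⊗ₜ[k] a)
    rw [GrothLib.TrivHom.comul_tmul_one'] at h1
    have key : ∀ t : A ⊗[k] A, TensorProduct.lid k A (α.rTensor A t) = TensorProduct.lid k A (r.rTensor A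
        (TensorProduct.lid K (K ⊗[k] A) (β.rTensor _ (GrothLib.TrivHom.pairMap K t)))) := fun t => by
      induction t using TensorProduct.induction_on with
      | zero => simp
      | tmul p q =>
        simp only [GrothLib.TrivHom.pairMap_tmul, LinearMap.rTensor_tmul, TensorProduct.lid_tmul,
          TensorProduct.smul_tmul', smul_eq_mul, mul_one]
        rfl
      | add p q hp hq => simp only [map_add, hp, hq]
    rw [key, h1, Algebra.TensorProduct.one_def, TensorProduct.smul_tmul', LinearMap.rTensor_tmul,
      TensorProduct.lid_tmul, smul_eq_mul, mul_one]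
    rfl
  exact GrothLib.Comodule.exists_isCompl_of_invariant α hα hα1 hU (Submodule.exists_isCompl U)

end Groth.Agent.S18829
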