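import Groth.Statements.S18831
import Groth.Agent.Lib.WeilFin11.Semistable
import Groth.Agent.Lib.CurveRR.Tensor
import Groth.Agent.Lib.CurveRR.Stable
import Groth.Agent.Lib.CurveRR.Setup
import Groth.Agent.S7637

set_option autoImplicit false
universe u
open CategoryTheory CategoryTheory.Limits AlgebraicGeometry
open VBCurve

namespace Groth.Agent.S18831

set_option backward.isDefEq.respectTransparency false

section
open GrothLib GrothLib.CurveRR
open _root_.FunFld (Place Divisor)

theorem h0_le_mul_max {k : Type u} [Field k] [IsAlgClosed k] {X : Scheme.{u}} [X.Over (Spec (CommRingCat.of k))]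
    [IsIntegral X] [IsProper (X ↘ Spec (CommRingCat.of k))] [RegCurve X]
    {r : ℕ} (hr : 0 < r) {G : X.Modules} (hG : FlatMod.IsFinLocFreeOfRank r G)
    (hss : ModFun.IsSlopeSemistable k X G r) (n : ℕ) (hn : Curv2.deg k X G r < (n : ℤ) * r) :
    Module.finrank k (Coh.HH X G 0) ≤ r * n := by
  classical
  haveI := Euler.isNoetherian_of_proper (X := X) k
  have hd : topologicalKrullDim X ≤ 1 := RegCurve.dim.le
  have hfg := isFG k (X := X)
  obtain ⟨P⟩ := hfg.exists_place
  obtain ⟨x, -⟩ := place_surjective (k := k) (X := X) P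
  let D : Divisor k X.functionField := Finsupp.single (place k x) (n : ℤ)
  have hdD : D.deg = n := by rw [GrothLib.FunFld.deg_single, GrothLib.FunFld.IsFG.deg_eq_one hfg]; simp
  have h0D : (0 : Divisor k X.functionField) ≤ D := Finsupp.single_nonneg.2 (Nat.cast_nonneg n)
  have hle : -D ≤ (0 : Divisor k X.functionField) := neg_nonpos.2 h0D
  let O0 := oD k (0 : Divisor k X.functionField)
  let L := oD k (-D)
  let L' := oD k D
  have hL := Euler.isFinLocFreeOfRank_one_of_invertible (isInvertible_oD k (-D))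
  have hL' := Euler.isFinLocFreeOfRank_one_of_invertible (isInvertible_oD k D)
  have hO0 := Euler.isFinLocFreeOfRank_one_of_invertible (isInvertible_oD k (0 : Divisor k X.functionField))
  have hGl := FinCov.isFinLocFree_of_rank hG
  obtain ⟨e0⟩ := nonempty_iso_oD_zero (k := k) (X := X)
  let eN : CohB1.tensorMod G O0 ≅ G :=
    ((DCoh.tensorBi (X := X)).obj G).mapIso e0.symm ≪≫ Euler.tFUnitIso G
  let M := CohB1.tensorMod G L
  have hM : FlatMod.IsFinLocFreeOfRank (r * 1) M := WeilFin11.isFinLocFreeOfRank_tensor hG hL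
  have hMl := FinCov.isFinLocFree_of_rank hM
  have hflat : ∀ Q : X.Modules, FlatMod.IsFinLocFree Q →
      PreservesFiniteLimits ((DCoh.tensorBi (X := X)).flip.obj Q) := fun Q hQ => by
    let F := (DCoh.tensorBi (X := X)).flip.obj Q
    have : F.Additive := Functor.additive_of_iso ((OX.tensorBraiding (X := X)).app Q).symm
    obtain ⟨h₁, -⟩ : PreservesFiniteLimits F ∧ PreservesFiniteColimits F :=
      (F.exact_tfae.out 0 3).1 fun S hS => OX.tensor_map_shortExact (OX.flat_of_isFinLocFree hQ) hS
    exact h₁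
  have := hflat _ hGl
  haveI : PreservesFiniteLimits ((DCoh.tensorBi (X := X)).obj G) :=
    preservesFiniteLimits_of_natIso ((OX.tensorBraiding (X := X)).app G)
  haveI : Mono (CurveRR.incl (k := k) hle) := CurveRR.mono_incl hle
  let j : M ⟶ CohB1.tensorMod G O0 := ((DCoh.tensorBi (X := X)).obj G).map (CurveRR.incl (k := k) hle)
  haveI : Mono j := inferInstanceAs (Mono (((DCoh.tensorBi (X := X)).obj G).map _))
  have hN := WeilFin11.isFinLocFreeOfRank_tensor hG hO0
  have hgr : Euler.grank M = Euler.grank (CohB1.tensorMod G O0) := by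
    rw [Euler.grank_of_locFree hM, Euler.grank_of_locFree hN]
  have hNc := Euler.isCoh_of_isFinLocFree (FinCov.isFinLocFree_of_rank hN)
  obtain ⟨q, hq, hq', -⟩ := Euler.exists_cokernel_data k hd j (Euler.isCoh_of_isFinLocFree hMl) hNc
    (Euler.surjective_generic_of_mono j hNc hgr)
  have hMdeg := Groth.Agent.S7637.result k X hd r 1 G L hG hL
  rw [deg_oD, GrothLib.FunFld.deg_neg, hdD] at hMdeg
  have hN' := Euler.euler_of_iso k eN
  have hqn : q = r * n := by
    have h1 : Curv2.deg k X M (r * 1) = (r : ℤ) * -(n : ℤ) + 1 * Curv2.deg k X G r := hMdeg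
    simp only [Curv2.deg] at h1
    push_cast at h1
    have : (q : ℤ) = r * n := by
      rw [hN'] at hq
      linarith
    exact_mod_cast this
  have hzero : ∀ f : Coh.structureModule X ⟶ M, f = 0 := by
    intro f
    by_contra hf
    have hO := OX.isFinLocFree_structureModule X
    obtain ⟨K, I, a, p, i, rK, rI, -, -, -, -, -, -, -, hrk, -, h1, h2⟩ :=
      Euler.exists_image_data k pid_stalk hO hMl f
    have hone : Euler.grank (Coh.structureModule X) = 1 := by
      rw [Euler.grank_of_iso e0, Euler.grank_of_locFree hO0]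
    have hrI : rI ≠ 0 := fun e => hf (h1 e)
    haveI : Mono f := h2 (by omega)
    have := hflat _ (FinCov.isFinLocFree_of_rank hL')
    haveI : Mono (((DCoh.tensorBi (X := X)).flip.obj L').map f) := inferInstance
    obtain ⟨eL⟩ := nonempty_tensor_iso k (Iso.refl L) (Iso.refl L')
    let g : L' ⟶ G := (OX.tensorUnitLeftIso L').inv ≫ (((DCoh.tensorBi (X := X)).flip.obj L').map f) ≫
      (OX.tensorAssoc G L L').hom ≫ (((DCoh.tensorBi (X := X)).obj G).mapIso
        (eL ≪≫ eqToIso (congrArg (oD k) (neg_add_cancel D)))).hom ≫ eN.hom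
    haveI : Mono g := inferInstance
    have h3 := hss L' 1 g inferInstance one_pos hL'
    rw [deg_oD, hdD] at h3
    push_cast at h3
    linarith
  haveI : Subsingleton (Coh.HH X M 0) := by
    refine subsingleton_of_forall_eq 0 fun z => (ProjCoh.H0top M).injective ?_
    rw [map_zero]
    have h := hzero (FinCov.homOfSection (ProjCoh.H0top M z))
    have h' := FinCov.homOfSection_one (ProjCoh.H0top M z) ⊤
    rw [h] at h'
    exact ((Cohom.map_self_apply M _ _).symm.trans h'.symm).trans rfl
  rw [Module.finrank_zero_of_subsingleton (M := Coh.HH X M 0), zero_add, hqn] at hq'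
  rwa [(Euler.hhEquiv (A := k) eN 0).finrank_eq] at hq'

end


/-- Let X be a smooth projective integral curve over an algebraically closed field k of characteristic
zero, and G a finite locally free O_X-module of rank r ≥ 1 which is slope-semistable, of slope μ =
deg G / r (deg G = χ(G) − r χ(O_X)). Then dim_k H^0(X, G) ≤ r · max(⌊μ⌋ + 1, 0); in particular a
slope-semistable bundle of negative slope has no nonzero global section. -/
theorem result (k : Type u) [Field k] [IsAlgClosed k] [CharZero k]
    (X : Scheme.{u}) [X.Over (Spec (CommRingCat.of k))]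
    [IsIntegral X] [IsProper (X ↘ Spec (CommRingCat.of k))] [Smooth (X ↘ Spec (CommRingCat.of k))]
    (hdim : topologicalKrullDim X = 1)
    (r : ℕ) (hr : 0 < r) (G : X.Modules) (hG : FlatMod.IsFinLocFreeOfRank r G)
    (hss : ModFun.IsSlopeSemistable k X G r) :
    (Module.finrank k (Coh.HH X G 0) : ℤ) ≤
      (r : ℤ) * max (⌊(Curv2.deg k X G r : ℚ) / (r : ℚ)⌋ + 1) 0 := by
  haveI := GrothLib.CurveRR.regCurve_of_smooth (X ↘ Spec (CommRingCat.of k)) hdim
  let m := max (⌊(Curv2.deg k X G r : ℚ) / (r : ℚ)⌋ + 1) 0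
  have hm : (0 : ℤ) ≤ m := le_max_right _ _
  obtain ⟨n, hn⟩ := Int.eq_ofNat_of_zero_le hm
  have hlt : Curv2.deg k X G r < (n : ℤ) * r := by
    have h1 := Int.lt_floor_add_one ((Curv2.deg k X G r : ℚ) / (r : ℚ))
    have h2 : (⌊(Curv2.deg k X G r : ℚ) / (r : ℚ)⌋ + 1 : ℤ) ≤ (n : ℤ) := hn ▸ le_max_left _ _
    have h3 : (Curv2.deg k X G r : ℚ) / (r : ℚ) < (n : ℚ) := by
      refine h1.trans_le ?_
      exact_mod_cast h2
    rw [div_lt_iff₀ (by exact_mod_cast hr)] at h3
    exact_mod_cast h3
  have h := h0_le_mul_max hr hG hss n hlt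
  show _ ≤ (r : ℤ) * m
  rw [hn]
  exact_mod_cast h

end Groth.Agent.S18831
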