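import Groth.Statements.S18832
import Groth.Agent.Lib.ArtSmooth26.Jets

set_option autoImplicit false
universe u
open Polynomial
open DefT
open GrothLib.ArtSmooth26 IsLocalRing

namespace Groth.Agent.S18832

/-- Let k be an algebraically closed field of characteristic zero, A a finitely generated k-algebra and
m a maximal ideal of A. Then A_m is a regular local ring (the pointed scheme (Spec A, m) is smooth
at m) if and only if, for every l ≥ 1, every k-algebra homomorphism φ : A → k[X]/(X^l) mapping m
into the nilpotent elements extends to a k-algebra homomorphism ψ : A → k[X]/(X^(l+1)) reducing to φ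
modulo X^l. Only jets along Spec k[X]/(X^l) are tested, not all local Artinian algebras. -/
theorem result (k : Type u) [Field k] [IsAlgClosed k] [CharZero k]
    (A : Type u) [CommRing A] [Algebra k A] [Algebra.FiniteType k A]
    (m : Ideal A) [m.IsMaximal] :
    IsRegularLocalRing (Localization.AtPrime m) ↔
      ∀ (l : ℕ), 1 ≤ l →
        ∀ (φ : A →ₐ[k] (k[X] ⧸ Ideal.span {(X : k[X]) ^ l})),
          (∀ a ∈ m, IsNilpotent (φ a)) →
          ∃ ψ : A →ₐ[k] (k[X] ⧸ Ideal.span {(X : k[X]) ^ (l + 1)}),
            (Ideal.Quotient.factorₐ k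
                (Ideal.span_singleton_le_span_singleton.mpr (pow_dvd_pow (X : k[X]) (Nat.le_succ l)))).comp ψ = φ := by
  haveI : Algebra.EssFiniteType A (Localization.AtPrime m) := .of_isLocalization _ m.primeCompl
  haveI : Algebra.EssFiniteType k (Localization.AtPrime m) := .comp _ A _
  letI := Ideal.Quotient.field m
  haveI : Algebra.FiniteType k (A ⧸ m) :=
    Algebra.FiniteType.of_surjective (Ideal.Quotient.mkₐ k m) Ideal.Quotient.mk_surjective
  haveI : Module.Finite k (A ⧸ m) := finite_of_finite_type_of_isJacobsonRing k (A ⧸ m)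
  have hk : ∀ a : A, ∃ c : k, a - algebraMap k A c ∈ m := fun a => by
    obtain ⟨c, hc⟩ := (IsAlgClosed.algebraMap_bijective_of_isIntegral (k := k) (K := A ⧸ m)).2
      (Ideal.Quotient.mk m a)
    exact ⟨c, Ideal.Quotient.eq.1 hc.symm⟩
  have hres : Function.Surjective
      (algebraMap k (ResidueField (Localization.AtPrime m))) := fun z => by
    obtain ⟨z, rfl⟩ := residue_surjective z
    obtain ⟨a, ⟨s, hs⟩, rfl⟩ := IsLocalization.exists_mk'_eq m.primeCompl z
    have h : ∀ (a : A) (c : k), a - algebraMap k A c ∈ m →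
        residue (Localization.AtPrime m) (algebraMap A _ a) = algebraMap k _ c := fun a c hc => by
      rw [IsScalarTower.algebraMap_apply k (Localization.AtPrime m) (ResidueField _),
        IsScalarTower.algebraMap_apply k A (Localization.AtPrime m)]
      show _ = residue _ _
      rw [← sub_eq_zero, ← map_sub, ← map_sub, residue_eq_zero_iff]
      exact (IsLocalization.AtPrime.to_map_mem_maximal_iff _ m _).2 hc
    obtain ⟨c, hc⟩ := hk a
    obtain ⟨d, hd⟩ := hk s
    have hd0 : d ≠ 0 := fun e => hs (by simpa [e] using hd)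
    refine ⟨c / d, ?_⟩
    have h1 := congrArg (residue (Localization.AtPrime m))
      (IsLocalization.mk'_spec (Localization.AtPrime m) a (⟨s, hs⟩ : m.primeCompl))
    rw [map_mul, h a c hc, h s d hd] at h1
    refine mul_right_cancel₀ ((map_ne_zero_iff _ (RingHom.injective _)).2 hd0) (Eq.trans ?_ h1.symm)
    rw [← map_mul, div_mul_cancel₀ _ hd0]
  constructor
  · intro hA l hl φ hφ
    haveI := formallySmooth_of_isRegularLocalRing k (Localization.AtPrime m) hres
    have hu : ∀ y : m.primeCompl, IsUnit (φ y) := fun y => by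
      obtain ⟨c, hc⟩ := hk y
      have hc0 : c ≠ 0 := fun e => y.2 (by simpa [e] using hc)
      refine isUnit_jet l hl _ ?_
      rw [show (y : A) = algebraMap k A c + ((y : A) - algebraMap k A c) by ring, map_add φ,
        map_add, jetEps_eq_zero_of_isNilpotent l hl _ (hφ _ hc), add_zero, AlgHom.commutes,
        AlgHom.commutes]
      exact hc0
    let φ' : Localization.AtPrime m →ₐ[k] Jet k l :=
      IsLocalization.liftAlgHom (M := m.primeCompl) (f := φ) hu
    have hsurj : Function.Surjective (jetMap k (Nat.le_succ l)) := fun z => by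
      obtain ⟨p, rfl⟩ := Ideal.Quotient.mk_surjective z
      exact ⟨Ideal.Quotient.mk _ p, rfl⟩
    have hn : IsNilpotent (RingHom.ker (jetMap k (Nat.le_succ l))) := ⟨2, ker_jetMap_sq l hl⟩
    let ψ' := Algebra.FormallySmooth.liftOfSurjective φ' (jetMap k (Nat.le_succ l)) hsurj hn
    refine ⟨ψ'.comp (IsScalarTower.toAlgHom k A _), AlgHom.ext fun a => ?_⟩
    exact (AlgHom.congr_fun (Algebra.FormallySmooth.comp_liftOfSurjective φ'
      (jetMap k (Nat.le_succ l)) hsurj hn) _).trans (IsLocalization.lift_eq hu a)
  · intro h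
    haveI : Infinite k := inferInstance
    refine isRegularLocalRing_of_jets k _ hres fun l hl φ => ?_
    obtain ⟨ψ, hψ⟩ := h l hl (φ.comp (IsScalarTower.toAlgHom k A _)) fun a ha =>
      isNilpotent_of_jetEps_eq_zero l hl _ (algHom_eq_zero_of_mem ((jetEps k l hl).comp φ)
        ((IsLocalization.AtPrime.to_map_mem_maximal_iff _ m _).2 ha))
    have hu : ∀ y : m.primeCompl, IsUnit (ψ y) := fun y => by
      refine isUnit_jet (l + 1) (by omega) _ fun h0 => ?_
      have h1 := (isNilpotent_of_jetEps_eq_zero (l + 1) (by omega) _ h0).map (jetMap k (Nat.le_succ l))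
      rw [show jetMap k (Nat.le_succ l) (ψ y) = φ (algebraMap A _ y) from AlgHom.congr_fun hψ _] at h1
      haveI := isLocalRing_jet (k := k) l hl
      exact h1.not_isUnit ((IsLocalization.map_units _ y).map φ)
    refine ⟨IsLocalization.liftAlgHom (M := m.primeCompl) (f := ψ) hu, ?_⟩
    refine IsLocalization.algHom_ext m.primeCompl ?_
    refine AlgHom.ext fun a => ?_
    refine Eq.trans ?_ (AlgHom.congr_fun hψ a)
    exact congrArg (jetMap k (Nat.le_succ l)) (IsLocalization.lift_eq hu a)

end Groth.Agent.S18832
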