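import Groth.Statements.S18833
import Groth.Agent.Lib.Hilb20.Mu
import Groth.Agent.Lib.K0Sub.Killed
import Groth.Agent.Lib.Dim.QuasiFinite

set_option autoImplicit false
set_option linter.style.haveILetI false
open CategoryTheory CategoryTheory.Limits AlgebraicGeometry Polynomial
universe u
open ShStab

namespace Groth.Agent.S18833

/-- Let k be an algebraically closed field of characteristic zero, X a smooth projective integral
variety of dimension n ≥ 1 over k with an ample invertible sheaf L, and F a nonzero torsion-free
coherent O_X-module (pure of dimension n). Then F has exactly one increasing filtration by saturated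
subsheaves 0 ⊂ F_0 ⊂ ⋯ ⊂ F_s = F whose graded pieces are torsion-free and slope-semistable with
strictly decreasing slopes. Slopes are compared through the quantity α_(n−1)/α_n of the Hilbert
polynomials with respect to L, an increasing affine function of the slope det · L^(n−1)/rank used in
the source; the source takes L very ample, its argument using only that high twists of coherent
sheaves are globally generated, so L is taken ample here. -/
theorem result (k : Type u) [Field k] [IsAlgClosed k] [CharZero k]
    (X : Scheme.{u}) [X.Over (Spec (CommRingCat.of k))] [IsIntegral X]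
    [IsProper (X ↘ Spec (CommRingCat.of k))] [Smooth (X ↘ Spec (CommRingCat.of k))]
    (n : ℕ) (hn : 1 ≤ n) (hX : topologicalKrullDim X = (n : WithBot ℕ∞))
    (L : X.Modules) (hLi : PicF.IsInvertible L) (hL : CohB1.IsAmple L)
    (F : X.Modules) (hF : Coh.IsCoh F) (h0 : ¬ IsZero F) (htf : ShStab.IsPure X F n) :
    ∃! s : LTSeries (Subobject F),
      s.head = ⊥ ∧ s.last = ⊤ ∧
      (∀ i : Fin s.length,
        ShStab.IsPure X (StabCat.factor s i) n ∧ ShStab.IsMuSemistable k X L (StabCat.factor s i) n) ∧
      ∀ (i j : Fin s.length), i.val + 1 = j.val →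
        ∀ (p q : ℚ[X]), ShStab.IsHilbPoly k X L (StabCat.factor s i) p →
          ShStab.IsHilbPoly k X L (StabCat.factor s j) q →
          StabCat.hatSlope n q < StabCat.hatSlope n p := by
  classical
  haveI := GrothLib.Euler.isNoetherian_of_proper (X := X) k
  letI := GrothLib.Hilb20.cohSubLattice hF
  haveI : WellFoundedGT (GrothLib.Hilb20.CohSub F) := GrothLib.Hilb20.isNoetherian_cohSub hF
  have hd := GrothLib.Hilb20.isPure_self_dimLT hF htf
  let D := GrothLib.Hilb20.muData k hn hL hF hd
  obtain ⟨s, hs, huniq⟩ := GrothLib.Slope20.SlopeData.existsUnique_isHN D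
    (GrothLib.Hilb20.botC_le (GrothLib.Hilb20.topC hF)) (GrothLib.Hilb20.pure_top k hL hF hd htf)
  refine ⟨GrothLib.Hilb20.chainVal s, (GrothLib.Hilb20.isMuHN_iff k hn hL hF hd s).1 hs, fun t ht => ?_⟩
  have hc := GrothLib.Hilb20.isCoh_chain hF t ht.2.1 fun i => (ht.2.2.1 i).2.1
  rw [← huniq (GrothLib.Hilb20.chainLift t hc) ((GrothLib.Hilb20.isMuHN_iff k hn hL hF hd _).2 ht)]
  rfl

end Groth.Agent.S18833
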