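import Groth.Statements.S18835
import Groth.Agent.Lib.JumpP1.Main
-- import your own Groth.Agent.* helpers here

set_option autoImplicit false
universe u
open CategoryTheory CategoryTheory.Limits AlgebraicGeometry Polynomial
open VBCurve

namespace Groth.Agent.S18835

/-- Let k be an algebraically closed field of characteristic zero and i ≥ 0. On the projective line P
over the affine line Spec k[t] (that is A^1 × P^1 over k) there is a finite locally free module F of
rank 2 whose restriction to the fibre over t = 0 is isomorphic to O(i+1) ⊕ O(−i−1) and whose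
restriction to the fibre over every k-point t = a with a ≠ 0 is isomorphic to O(i) ⊕ O(−i). Fibres
are the copies of P^1_k mapped into P by the k-algebra maps k[t] → k, t ↦ a; in particular the
isomorphism type of the fibres of a vector bundle in a family can jump at a special point. -/
theorem result (k : Type u) [Field k] [IsAlgClosed k] [CharZero k]
    (i : ℕ) :
    ∃ F : (CohB1.ProjSpaceOver 1 (Spec (CommRingCat.of k[X]))).Modules,
      FlatMod.IsFinLocFreeOfRank 2 F ∧
      (∀ a : k,
        letI ι : CohB1.ProjSpaceOver 1 (Spec (CommRingCat.of k)) ⟶ CohB1.ProjSpaceOver 1 (Spec (CommRingCat.of k[X])) :=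
          pullback.lift (pullback.fst _ _)
            (pullback.snd _ _ ≫ Spec.map (CommRingCat.ofHom (Polynomial.evalRingHom a)))
            (specULiftZIsTerminal.hom_ext _ _)
        (a = 0 → Nonempty ((Scheme.Modules.pullback ι).obj F ≅
            Twist.twistOver 1 (Spec (CommRingCat.of k)) ((i : ℤ) + 1) ⊞
              Twist.twistOver 1 (Spec (CommRingCat.of k)) (-((i : ℤ) + 1)))) ∧
        (a ≠ 0 → Nonempty ((Scheme.Modules.pullback ι).obj F ≅
            Twist.twistOver 1 (Spec (CommRingCat.of k)) (i : ℤ) ⊞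
              Twist.twistOver 1 (Spec (CommRingCat.of k)) (-(i : ℤ))))) := by
  let T := Spec (CommRingCat.of k[X])
  let r : Γ(KRR.PY 1 T, ⊤) := (KRR.pr 1 T).appTop ((Scheme.ΓSpecIso (CommRingCat.of k[X])).inv Polynomial.X)
  refine ⟨GrothLib.JumpP1.fam T i r, GrothLib.JumpP1.isFinLocFreeOfRank_fam T i r, fun a => ?_⟩
  let ι : KRR.PY 1 (Spec (CommRingCat.of k)) ⟶ KRR.PY 1 T := pullback.lift (pullback.fst _ _)
      (pullback.snd _ _ ≫ Spec.map (CommRingCat.ofHom (Polynomial.evalRingHom a)))
      (specULiftZIsTerminal.hom_ext _ _)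
  have hι : ι ≫ GrothLib.RegSheaf.toZ 1 T = GrothLib.RegSheaf.toZ 1 (Spec (CommRingCat.of k)) := pullback.lift_fst _ _ _
  have hι2 : ι ≫ KRR.pr 1 T = KRR.pr 1 (Spec (CommRingCat.of k)) ≫ Spec.map (CommRingCat.ofHom (Polynomial.evalRingHom a)) :=
    pullback.lift_snd _ _ _
  have hr : ι.appTop r = (KRR.pr 1 (Spec (CommRingCat.of k))).appTop ((Scheme.ΓSpecIso (CommRingCat.of k)).inv a) := by
    show ((KRR.pr 1 T).appTop ≫ ι.appTop) ((Scheme.ΓSpecIso (CommRingCat.of k[X])).inv Polynomial.X) = _
    rw [← Scheme.Hom.comp_appTop, hι2, Scheme.Hom.comp_appTop, CommRingCat.comp_apply]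
    refine congrArg (KRR.pr 1 (Spec (CommRingCat.of k))).appTop ?_
    have h := congrArg (fun φ => φ Polynomial.X)
      (Scheme.ΓSpecIso_inv_naturality (CommRingCat.ofHom (Polynomial.evalRingHom a)))
    refine h.symm.trans ?_
    show (Scheme.ΓSpecIso (CommRingCat.of k)).inv ((Polynomial.evalRingHom a) Polynomial.X) = _
    rw [Polynomial.coe_evalRingHom, Polynomial.eval_X]
  obtain ⟨h1, h0⟩ := GrothLib.JumpP1.nonempty_pull_fam i r ι hι
  refine ⟨fun ha => h0 ?_, fun ha => h1 ?_⟩
  · rw [hr, ha, map_zero, map_zero]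
  · rw [hr]
    exact ((isUnit_iff_ne_zero.mpr ha).map _).map _

end Groth.Agent.S18835
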