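import Groth.Statements.S18836
-- import your own Groth.Agent.* helpers here
import Groth.Agent.Lib.FlatQuot29.Basic
import Groth.Agent.Lib.TensorPerf20.FlatKernel
import Groth.Agent.Lib.OX.LocFreeTensor
import Groth.Agent.Lib.Euler.Coh
import Groth.Agent.Lib.DegDet.Stalk

set_option autoImplicit false
universe u
open CategoryTheory CategoryTheory.Limits AlgebraicGeometry
open FGA

set_option backward.isDefEq.respectTransparency false
set_option linter.style.haveILetI false

noncomputable section

open GrothLib

namespace Groth.Agent.S18836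

/-- Let k be an algebraically closed field of characteristic zero, X a projective k-scheme (proper over
k, carrying an ample invertible sheaf), R a discrete valuation ring containing k with fraction field
K, X_R = X ×_k Spec R and X_K = X_R ×_(Spec R) Spec K with j : X_K → X_R the canonical open
immersion. If F is a coherent module on X_K which is a quotient of O^N, then there is a coherent
module F' on X_R, flat over Spec R and again a quotient of O^N, whose restriction j^*F' to X_K is
isomorphic to F. (The Hilbert polynomial of the closed fibre of F' then equals that of F by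
flatness; that clause is not restated.) The published statement is for a valuation ring R containing
k; its argument uses a uniformiser, and this row takes R a discrete valuation ring. The row asserts
only the existence of an isomorphism j^*F' ≅ F, not its compatibility with the two quotient maps. -/
theorem result (k : Type u) [Field k] [IsAlgClosed k] [CharZero k]
    (X : Scheme.{u}) [X.Over (Spec (CommRingCat.of k))] [IsProper (X ↘ Spec (CommRingCat.of k))]
    (L : X.Modules) (hLi : PicF.IsInvertible L) (hL : CohB1.IsAmple L)
    (R : Type u) [CommRing R] [IsDomain R] [IsDiscreteValuationRing R] [Algebra k R]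
    (N : ℕ)
    (F : (pullback (pullback.snd (X ↘ Spec (CommRingCat.of k))
              (Spec.map (CommRingCat.ofHom (algebraMap k R))))
            (Spec.map (CommRingCat.ofHom (algebraMap R (FractionRing R))))).Modules)
    (hF : Coh.IsCoh F)
    (q : FlatMod.freeMod _ N ⟶ F) (hq : Epi q) :
    ∃ (F' : (pullback (X ↘ Spec (CommRingCat.of k)) (Spec.map (CommRingCat.ofHom (algebraMap k R)))).Modules)
      (q' : FlatMod.freeMod _ N ⟶ F'),
      Coh.IsCoh F' ∧ Epi q' ∧
      FlatMod.IsFlatOver (pullback.snd (X ↘ Spec (CommRingCat.of k))
          (Spec.map (CommRingCat.ofHom (algebraMap k R)))) F' ∧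
      Nonempty ((Scheme.Modules.pullback
          (pullback.fst (pullback.snd (X ↘ Spec (CommRingCat.of k))
              (Spec.map (CommRingCat.ofHom (algebraMap k R))))
            (Spec.map (CommRingCat.ofHom (algebraMap R (FractionRing R)))))).obj F' ≅ F) := by
  let p := X ↘ Spec (CommRingCat.of k)
  let f := pullback.snd p (Spec.map (CommRingCat.ofHom (algebraMap k R)))
  let t : Spec (CommRingCat.of (FractionRing R)) ⟶ Spec (CommRingCat.of R) :=
    Spec.map (CommRingCat.ofHom (algebraMap R (FractionRing R)))
  let i := pullback.fst f t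
  obtain ⟨ϖ, hϖ⟩ := IsDiscreteValuationRing.exists_irreducible R
  haveI hloc : IsLocalization.Away ϖ (FractionRing R) := by
    refine IsLocalization.Away.mk ϖ (isUnit_iff_ne_zero.mpr
      ((map_ne_zero_iff _ (IsFractionRing.injective R (FractionRing R))).mpr hϖ.ne_zero)) (fun z => ?_)
      (fun a b h => ⟨0, by simpa using IsFractionRing.injective R (FractionRing R) h⟩)
    obtain ⟨a, b, hb, rfl⟩ := IsFractionRing.div_surjective (A := R) z
    obtain ⟨n, u, hu⟩ := IsDiscreteValuationRing.eq_unit_mul_pow_irreducible (nonZeroDivisors.ne_zero hb) hϖ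
    refine ⟨n, a * (u⁻¹ : Rˣ), ?_⟩
    have hb0 : algebraMap R (FractionRing R) b ≠ 0 :=
      (map_ne_zero_iff _ (IsFractionRing.injective R (FractionRing R))).mpr (nonZeroDivisors.ne_zero hb)
    have he : a * ϖ ^ n = (a * (u⁻¹ : Rˣ)) * b := by
      rw [hu, mul_assoc, ← mul_assoc ((u⁻¹ : Rˣ) : R), Units.inv_mul, one_mul]
    rw [← map_pow, div_mul_eq_mul_div, div_eq_iff hb0, ← map_mul, ← map_mul, he]
  haveI : IsOpenImmersion t := IsOpenImmersion.of_isLocalization (R := R) ϖ
  haveI : IsOpenImmersion i := MorphismProperty.pullback_fst f t inferInstance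
  haveI : IsAffineHom t := isAffineHom_of_isAffine t
  haveI : IsAffineHom i := MorphismProperty.pullback_fst f t inferInstance
  haveI : LocallyOfFiniteType f := inferInstance
  haveI : IsLocallyNoetherian (pullback p (Spec.map (CommRingCat.ofHom (algebraMap k R)))) :=
    LocallyOfFiniteType.isLocallyNoetherian f
  have hY : ∀ y : ↥(Spec (CommRingCat.of R)), IsRegularLocalRing ((Spec (CommRingCat.of R)).presheaf.stalk y) ∧
      ringKrullDim ((Spec (CommRingCat.of R)).presheaf.stalk y) ≤ 1 := by
    intro y
    let q : PrimeSpectrum R := y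
    let e := ((StructureSheaf.stalkIso R q).toRingEquiv : Localization.AtPrime q.asIdeal ≃+* _)
    constructor
    · exact IsRegularLocalRing.of_ringEquiv e
    · have h1 : ringKrullDim (Localization.AtPrime q.asIdeal) ≤ 1 := by
        rw [IsLocalization.AtPrime.ringKrullDim_eq_height q.asIdeal]
        refine (Ideal.height_le_ringKrullDim_of_ne_top q.isPrime.ne_top).trans ?_
        exact Ring.krullDimLE_iff.mp inferInstance
      exact (ringKrullDim_eq_of_ringEquiv e).symm.le.trans h1
  have hgp : genericPoint ↥(Spec (CommRingCat.of R)) = (⟨⊥, Ideal.isPrime_bot⟩ : PrimeSpectrum R) :=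
    genericPoint_eq_bot_of_affine (CommRingCat.of R)
  have ht : ∀ z, t z = genericPoint ↥(Spec (CommRingCat.of R)) := fun z => by
    rw [hgp]
    refine PrimeSpectrum.ext ?_
    show (show PrimeSpectrum (FractionRing R) from z).asIdeal.comap (algebraMap R (FractionRing R)) = ⊥
    rw [Ideal.eq_bot_of_prime (show PrimeSpectrum (FractionRing R) from z).asIdeal,
      Ideal.comap_bot_of_injective _ (IsFractionRing.injective R (FractionRing R))]
  let a := (OX.pullFreeModIso i N).hom ≫ q
  haveI := hq
  haveI : Epi a := epi_comp _ _
  haveI := hF.1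
  haveI := Euler.isQuasicoherent_freeMod (pullback p (Spec.map (CommRingCat.ofHom (algebraMap k R)))) N
  obtain ⟨⟨G, ρ, e, hρ, hGq, hGf, he⟩, -⟩ := FlatQuot29.exists_unique_flatQuot_aux f hY i
    (fun z => by rw [← Scheme.Hom.comp_apply, pullback.condition, Scheme.Hom.comp_apply]; exact ht _)
    (fun x hx => by
      show x ∈ Set.range i
      rw [Scheme.Pullback.range_fst]
      exact ⟨IsLocalRing.closedPoint _, (ht _).trans hx.symm⟩)
    (FlatMod.freeMod _ N) F a
  exact ⟨G, ρ, TensorPerf20.isCoh_of_epi ρ (DegDet.isCoh_freeMod _ N) hGq, hρ, hGf, ⟨e⟩⟩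

end Groth.Agent.S18836
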