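import Groth.Statements.S18837
import Groth.Agent.Lib.DefoTrunc26.Diff

set_option autoImplicit false
universe u
open Polynomial TensorProduct
open Deform

namespace Groth.Agent.S18837

/-- Let k be an algebraically closed field of characteristic zero, n ≥ 1, D = k[X]/(X^(n+1)) (given with
a k-algebra isomorphism e identifying the class of X with τ ∈ D), and B a finitely generated
k-algebra which is a flat D-algebra such that B/tB is smooth over k, where t is the image of τ in B
(an affine open of a flat deformation of a smooth k-scheme over Spec D); put B' = B/t^nB. Then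
Ω_(B/D) is a projective B-module, B' ⊗_B Ω_(B/k) is a projective B'-module, and the sequence 0 → B'
→ B' ⊗_B Ω_(B/k) → B' ⊗_B Ω_(B/D) → 0 is exact, the first map being b ↦ b · (1 ⊗ dt) and the second
the base change of the canonical surjection Ω_(B/k) → Ω_(B/D). The source states this for a flat
proper family over Spec D with smooth central fibre; the statement is local and is given here on an
affine open. -/
theorem result (k : Type u) [Field k] [IsAlgClosed k] [CharZero k] (n : ℕ) (hn : 1 ≤ n)
    (D : Type u) [CommRing D] [Algebra k D] (τ : D)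
    (e : (k[X] ⧸ Ideal.span {(X : k[X]) ^ (n + 1)}) ≃ₐ[k] D)
    (he : e (Ideal.Quotient.mk (Ideal.span {(X : k[X]) ^ (n + 1)}) X) = τ)
    (B : Type u) [CommRing B] [Algebra k B] [Algebra D B] [IsScalarTower k D B]
    [Algebra.FiniteType k B] [Module.Flat D B]
    (t : B) (ht : t = algebraMap D B τ) (hsm : Algebra.Smooth k (B ⧸ Ideal.span {t})) :
    Module.Projective B (Ω[B⁄D]) ∧
    Module.Projective (B ⧸ Ideal.span {t ^ n}) ((B ⧸ Ideal.span {t ^ n}) ⊗[B] Ω[B⁄k]) ∧
    Function.Injective
      (LinearMap.toSpanSingleton (B ⧸ Ideal.span {t ^ n}) ((B ⧸ Ideal.span {t ^ n}) ⊗[B] Ω[B⁄k])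
        ((1 : (B ⧸ Ideal.span {t ^ n})) ⊗ₜ[B] KaehlerDifferential.D k B t)) ∧
    Function.Exact
      (LinearMap.toSpanSingleton (B ⧸ Ideal.span {t ^ n}) ((B ⧸ Ideal.span {t ^ n}) ⊗[B] Ω[B⁄k])
        ((1 : (B ⧸ Ideal.span {t ^ n})) ⊗ₜ[B] KaehlerDifferential.D k B t))
      (LinearMap.baseChange (B ⧸ Ideal.span {t ^ n}) (KaehlerDifferential.map k D B B)) ∧
    Function.Surjective (LinearMap.baseChange (B ⧸ Ideal.span {t ^ n}) (KaehlerDifferential.map k D B B)) := by
  haveI := hsm.formallySmooth
  obtain ⟨δ, hδ⟩ := GrothLib.DefoTrunc26.exists_deriv e he ht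
  haveI := GrothLib.DefoTrunc26.projective_kaehler e he ht
  exact ⟨inferInstance, GrothLib.DefoTrunc26.projective_reduction e he ht δ hδ,
    GrothLib.DefoTrunc26.injective_dt δ hδ, GrothLib.DefoTrunc26.exact_dt e he ht,
    LinearMap.lTensor_surjective _ (KaehlerDifferential.map_surjective k D B)⟩

end Groth.Agent.S18837
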