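import Groth.Statements.S18839
import Groth.Agent.Lib.DefoTrunc26.Diff

set_option autoImplicit false
universe u
open Polynomial TensorProduct
open Deform

namespace Groth.Agent.S18839

/-- Let k be an algebraically closed field of characteristic zero, n ≥ 1, D = k[X]/(X^(n+1)) (given with
a k-algebra isomorphism e identifying the class of X with τ ∈ D), and B a finitely generated
k-algebra which is a flat D-algebra such that B/tB is smooth over k, where t is the image of τ in B
(an affine open of a flat deformation of a smooth k-scheme over Spec D); put B' = B/t^nB. The map ν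
: Ω_(B/k) → Ω_(B/D) × (B' ⊗_B Ω_(B/k)), η ↦ (η relative to D, 1 ⊗ η), is injective, and its image
consists exactly of the pairs (α, β) with the same image in Ω_(B'/D) under the canonical maps
Ω_(B/D) → Ω_(B'/D) and B' ⊗_B Ω_(B/k) → Ω_(B'/k) → Ω_(B'/D). Injectivity uses that n + 1 is
invertible in k (so that t^n dt = 0 in Ω_(B/k)). The source works with a flat proper family over
Spec D with smooth central fibre; the statement is local and is given here on an affine open. -/
theorem result (k : Type u) [Field k] [IsAlgClosed k] [CharZero k] (n : ℕ) (hn : 1 ≤ n)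
    (D : Type u) [CommRing D] [Algebra k D] (τ : D)
    (e : (k[X] ⧸ Ideal.span {(X : k[X]) ^ (n + 1)}) ≃ₐ[k] D)
    (he : e (Ideal.Quotient.mk (Ideal.span {(X : k[X]) ^ (n + 1)}) X) = τ)
    (B : Type u) [CommRing B] [Algebra k B] [Algebra D B] [IsScalarTower k D B]
    [Algebra.FiniteType k B] [Module.Flat D B]
    (t : B) (ht : t = algebraMap D B τ) (hsm : Algebra.Smooth k (B ⧸ Ideal.span {t})) :
    Function.Injective (fun η : Ω[B⁄k] =>
      ((KaehlerDifferential.map k D B B η, (1 : (B ⧸ Ideal.span {t ^ n})) ⊗ₜ[B] η) : Ω[B⁄D] × ((B ⧸ Ideal.span {t ^ n}) ⊗[B] Ω[B⁄k]))) ∧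
    Set.range (fun η : Ω[B⁄k] =>
      ((KaehlerDifferential.map k D B B η, (1 : (B ⧸ Ideal.span {t ^ n})) ⊗ₜ[B] η) : Ω[B⁄D] × ((B ⧸ Ideal.span {t ^ n}) ⊗[B] Ω[B⁄k]))) =
      {p | KaehlerDifferential.map D D B (B ⧸ Ideal.span {t ^ n}) p.1 =
        KaehlerDifferential.map k D (B ⧸ Ideal.span {t ^ n}) (B ⧸ Ideal.span {t ^ n}) (KaehlerDifferential.mapBaseChange k B (B ⧸ Ideal.span {t ^ n}) p.2)} := by
  haveI := hsm.formallySmooth
  obtain ⟨δ, hδ⟩ := GrothLib.DefoTrunc26.exists_deriv e he ht
  exact ⟨GrothLib.DefoTrunc26.injective_kaehler_pair e he ht δ hδ, GrothLib.DefoTrunc26.range_kaehler_pair e he ht⟩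

end Groth.Agent.S18839
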