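import Groth.Statements.S18840
import Groth.Agent.Lib.CurveMult.SectionSlope

set_option autoImplicit false
universe u
open CategoryTheory CategoryTheory.Limits AlgebraicGeometry Polynomial
open VBCurve

namespace Groth.Agent.S18840

set_option backward.isDefEq.respectTransparency false


/-- Let k be an algebraically closed field of characteristic zero, X a smooth projective integral curve
over k with an ample invertible sheaf L, N ≥ 0 and P a rational polynomial. There is an integer l,
depending only on X, L, N and P, such that for every vector bundle F of rank r ≥ 1 on X which is a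
quotient of O_X^N with Hilbert polynomial P (with respect to L), F is slope-semistable if and only
if dim H^0(X, F'(l)) / r' ≤ dim H^0(X, F(l)) / r for every sub-bundle (finite locally free
submodule) F' ⊂ F of rank r' ≥ 1; here G(l) = G ⊗ L^(⊗l). The source polarises X by a very ample
O_X(1); only the positivity of its degree enters, so an ample L is taken. -/
theorem result (k : Type u) [Field k] [IsAlgClosed k] [CharZero k]
    (X : Scheme.{u}) [X.Over (Spec (CommRingCat.of k))]
    [IsIntegral X] [IsProper (X ↘ Spec (CommRingCat.of k))] [Smooth (X ↘ Spec (CommRingCat.of k))]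
    (hdim : topologicalKrullDim X = 1)
    (L : X.Modules) (hLi : PicF.IsInvertible L) (hL : CohB1.IsAmple L)
    (N : ℕ) (P : ℚ[X]) :
    ∃ l : ℕ, ∀ (r : ℕ) (F : X.Modules) (q : FlatMod.freeMod X N ⟶ F),
      0 < r → FlatMod.IsFinLocFreeOfRank r F → Epi q → ShStab.IsHilbPoly k X L F P →
        (ModFun.IsSlopeSemistable k X F r ↔
          ∀ (F' : X.Modules) (r' : ℕ) (i : F' ⟶ F), Mono i → 0 < r' → FlatMod.IsFinLocFreeOfRank r' F' →
            (Module.finrank k (Coh.HH X (ShStab.twist X L F' l) 0) : ℚ) / (r' : ℚ) ≤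
              (Module.finrank k (Coh.HH X (ShStab.twist X L F l) 0) : ℚ) / (r : ℚ)) := by
  haveI := GrothLib.CurveRR.regCurve_of_smooth (X ↘ Spec (CommRingCat.of k)) hdim
  let g : ℕ := Curv2.genus k X
  obtain ⟨b, hb⟩ := exists_nat_ge |P.eval (0 : ℚ)|
  obtain ⟨a, ha⟩ := exists_nat_ge |P.eval (1 : ℚ) - P.eval (0 : ℚ)|
  refine ⟨b + a * g * (a + 1) + 2 * g, fun r F q hr hF hq hP => ?_⟩
  haveI := hq
  set l : ℕ := b + a * g * (a + 1) + 2 * g with hl
  have hM := GrothLib.Ample.isInvertible_tensorPow hLi l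
  have hMd := GrothLib.CurveMult.deg_tensorPow' k hLi l
  have he : 0 < Curv2.deg k X L 1 := (GrothLib.Euler.isAmple_iff_deg_pos k hdim hLi).1 hL
  have hP' : ∀ m : ℕ, P.eval (m : ℚ) =
      ((Curv2.deg k X F r + r * (m * Curv2.deg k X L 1) + r * (1 - (g : ℤ)) : ℤ) : ℚ) := by
    intro m
    have h1 := GrothLib.CurveMult.deg_tF k hF (GrothLib.Ample.isInvertible_tensorPow hLi m)
    rw [GrothLib.CurveMult.deg_tensorPow' k hLi m, Curv2.deg,
      GrothLib.CurveMult.euler_structure_eq k] at h1
    rw [← hP m]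
    have h2 : Curv2.euler k X (ShStab.twist X L F m) =
        Curv2.deg k X F r + r * (m * Curv2.deg k X L 1) + r * (1 - (g : ℤ)) :=
      sub_eq_iff_eq_add.1 h1
    exact_mod_cast h2
  have h0 := hP' 0
  have h1 := hP' 1
  push_cast at h0 h1
  rw [zero_mul, mul_zero, add_zero] at h0
  have hb' : -(b : ℤ) ≤ Curv2.deg k X F r + r * (1 - (g : ℤ)) := by
    have h := (neg_le_neg hb).trans (neg_abs_le _)
    rw [h0] at h
    exact_mod_cast h
  have ha' : (r : ℤ) * Curv2.deg k X L 1 ≤ a := by
    have h := (le_abs_self _).trans ha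
    rw [h0, h1] at h
    ring_nf at h
    exact_mod_cast h
  have hra : (r : ℤ) ≤ a := by nlinarith [Int.natCast_nonneg r]
  have hg0 : (0 : ℤ) ≤ g := Int.natCast_nonneg g
  have hr1 : (1 : ℤ) ≤ r := by exact_mod_cast hr
  have hl' : (l : ℤ) = b + a * g * (a + 1) + 2 * g := by simp [hl]
  refine GrothLib.CurveMult.subLe_iff_h0_div_le k q hr hF hM ?_ ?_
  · rw [hMd]
    show 2 * (g : ℤ) - 2 < _
    nlinarith [mul_nonneg (mul_nonneg (Int.natCast_nonneg a) hg0) (show (0 : ℤ) ≤ a + 1 by positivity)]
  · rw [hMd]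
    show (r : ℤ) * g * (r + 1) ≤ _
    have h2 : (l : ℤ) ≤ r * (l * Curv2.deg k X L 1) := by
      nlinarith [mul_le_mul_of_nonneg_left (show (1 : ℤ) ≤ r * Curv2.deg k X L 1 by nlinarith)
        (Int.natCast_nonneg l)]
    have h3 : (r : ℤ) * g * (r + 1) ≤ a * g * (a + 1) := by gcongr
    nlinarith

end Groth.Agent.S18840
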