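import Groth.Statements.S18848
-- import your own Groth.Agent.* helpers here
import Groth.Agent.Lib.TFSimple15.Beta
import Groth.Agent.Lib.TFSimple15.Modif
import Groth.Agent.Lib.OX.OneDegLocus
import Groth.Agent.Lib.TFSimple15.Sub

set_option autoImplicit false
universe u
open CategoryTheory CategoryTheory.Limits AlgebraicGeometry
open TFOne

namespace Groth.Agent.S18848

/-- Let R be a discrete valuation ring with residue field κ, f : X ⟶ Spec R flat and proper, and X_s its
special fibre, assumed reduced of pure dimension one with geometrically integral irreducible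
components over κ. Let I be a coherent R-flat module on X whose restriction I(s) to X_s is
torsion-free rank-1, E a locally free module of rank r > 0 on X with restriction E(s), and d an
integer with χ(I(s)) = d and deg E(s) = -r·d. For a closed subset T of X_s write I(s)_T for the
torsion-free quotient of I(s) on T (pinned by its defining property) and β(T) := r·χ(I(s)_T) +
deg(E(s)|_T) (the source's β cleared of the denominator r). Let Y be a closed subcurve of X_s (a
non-empty union of irreducible components), and let I^Y be the kernel of the composite I ⟶ i_* I(s)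
⟶ i_* I(s)_Y, with restriction I^Y(s) to X_s and quotients I^Y(s)_T and numbers β^Y(T) :=
r·χ(I^Y(s)_T) + deg(E(s)|_T) defined likewise. Assume I(s) is semistable with respect to E(s). Then
I^Y(s) is semistable with respect to E(s) if and only if β(Y) = 0 and I(s)_Y, viewed on the reduced
closed subscheme Y, is semistable with respect to E(s)|_Y. (Here β(Y) = 0 says that E(s)|_Y is a
polarisation for I(s)_Y, the source's implicit requirement for semistability with respect to
E(s)|_Y. The source states the conclusion for semistability of I^Y over Spec R, which it reduces at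
once to the special fibre since I^Y and I agree off Y; it also asserts that I^Y(s) and I(s) are then
Jordan–Hölder equivalent, which is not stated here; it takes f projective.) -/
theorem result (R : Type u) [CommRing R] [IsDomain R] [IsDiscreteValuationRing R] (X : Scheme.{u}) (f : X ⟶ Spec (CommRingCat.of R)) [Flat f] [IsProper f] (Xs : Scheme.{u}) [Xs.Over (Spec (CommRingCat.of (IsLocalRing.ResidueField R)))] (i : Xs ⟶ X) (hsq : IsPullback i (Xs ↘ Spec (CommRingCat.of (IsLocalRing.ResidueField R))) f (Spec.map (CommRingCat.ofHom (IsLocalRing.residue R)))) [IsReduced Xs] (hpure : ∀ C ∈ irreducibleComponents (Xs : Type u), topologicalKrullDim C = 1) (hgi : ∀ (C : Set Xs) (hC : C ∈ irreducibleComponents (Xs : Type u)), GeometricallyIntegral (VecSt.subschι Xs C (isClosed_of_mem_irreducibleComponents C hC) ≫ (Xs ↘ Spec (CommRingCat.of (IsLocalRing.ResidueField R))))) (I : X.Modules) (hIc : Coh.IsCoh I) (hIf : FlatMod.IsFlatOver f I) (hIs : TFOne.IsTF1 Xs ((Scheme.Modules.pullback i).obj I)) (E : X.Modules)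 (r : ℕ) (hr : 0 < r) (hE : FlatMod.IsFinLocFreeOfRank r E) (d : ℤ) (hχ : Curv2.euler (IsLocalRing.ResidueField R) Xs ((Scheme.Modules.pullback i).obj I) = d) (hEd : Curv2.deg (IsLocalRing.ResidueField R) Xs ((Scheme.Modules.pullback i).obj E) r = -(r : ℤ) * d) (hss : TFOne.IsSemistable Xs (IsLocalRing.ResidueField R) (Xs ↘ Spec (CommRingCat.of (IsLocalRing.ResidueField R))) ((Scheme.Modules.pullback i).obj I) ((Scheme.Modules.pullback i).obj E) r) (Y : Set Xs) (hY : IsClosed Y) (hYs : VecSt.IsSubcurve Xs Y) (GY : Xs.Modules) (πY : ((Scheme.Modules.pullback i).obj I) ⟶ GY) (hGY : TFOne.IsQuotOn Xs ((Scheme.Modules.pullback i).obj I) Y GY πY) (IY : X.Modules) (hIY : IY = kernel ((Scheme.Modules.pullbackPushforwardAdjunction i).unit.app I ≫ (Scheme.Modules.pushforward i).map πY)) : TFOne.IsSemistable Xs (IsLocalRing.ResidueField R) (Xs ↘ Spec (CommRingCat.of (IsLocalRing.ResidueField R))) ((Scheme.Modules.pullback i).obj IY) ((Scheme.Modules.pullback i).obj E) r ↔ (TFOne.rBeta Xs (IsLocalRing.ResidueField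 R) (Xs ↘ Spec (CommRingCat.of (IsLocalRing.ResidueField R))) Y hY ((Scheme.Modules.pullback i).obj E) r GY = 0 ∧ TFOne.IsSemistable (VecSt.subsch Xs Y hY) (IsLocalRing.ResidueField R) (VecSt.subschι Xs Y hY ≫ (Xs ↘ Spec (CommRingCat.of (IsLocalRing.ResidueField R)))) ((Scheme.Modules.pullback (VecSt.subschι Xs Y hY)).obj GY) ((Scheme.Modules.pullback (VecSt.subschι Xs Y hY)).obj ((Scheme.Modules.pullback i).obj E)) r) := by
  haveI := GrothLib.TFSimple15.isProper_special f hsq
  haveI := GrothLib.Euler.isNoetherian_of_proper (X := Xs) (IsLocalRing.ResidueField R)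
  have hd : topologicalKrullDim Xs ≤ 1 :=
    GrothLib.FibPd.topologicalKrullDim_le_of_components fun C hC => (hpure C hC).le
  have hE' : FlatMod.IsFinLocFreeOfRank r ((Scheme.Modules.pullback i).obj E) :=
    GrothLib.OX.isFinLocFreeOfRank_pullback i hE
  obtain ⟨hM', j, p, w, hS⟩ := GrothLib.TFSimple15.exists_modification_seq f hsq hIc hIf hIs hGY hIY
  have hYu := GrothLib.TFSimple15.isUnion_of_subcurve hYs
  have h0 : (r : ℤ) * Curv2.euler (IsLocalRing.ResidueField R) Xs ((Scheme.Modules.pullback i).obj I) +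
      Curv2.deg (IsLocalRing.ResidueField R) Xs ((Scheme.Modules.pullback i).obj E) r = 0 := by
    rw [hχ, hEd]; ring
  have hsupp := GrothLib.TFSimple15.mem_support_of_tf1 hIs
  have hr' : (r : ℤ) ≠ 0 := by exact_mod_cast hr.ne'
  constructor
  · intro hss'
    have hβ0 : TFOne.rBeta Xs (IsLocalRing.ResidueField R) (Xs ↘ Spec (CommRingCat.of (IsLocalRing.ResidueField R))) Y
        hY ((Scheme.Modules.pullback i).obj E) r GY = 0 := by
      by_cases hu : Y = Set.univ
      · rw [GrothLib.TFSimple15.rBeta_univ (IsLocalRing.ResidueField R) hE' hIs hY hGY hu, h0]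
      refine le_antisymm ?_ (GrothLib.TFSimple15.rBeta_nonneg (IsLocalRing.ResidueField R) hd hE' hss h0 hY hYu hGY)
      let Y' : Set Xs := ⋃₀ {C | C ∈ irreducibleComponents (Xs : Type u) ∧ ¬ C ⊆ Y}
      have hY'u : GrothLib.TFSimple15.IsUnion Y' := GrothLib.TFSimple15.isUnion_sUnion _
      obtain ⟨G', π', hG'⟩ := GrothLib.TFSimple15.exists_quotOn (IsLocalRing.ResidueField R) hM'.1 hM'.2.1
        (GrothLib.TFSimple15.mem_support_of_tf1 hM') hY'u.isClosed hY'u
      have hpos := GrothLib.TFSimple15.rBeta_nonneg (IsLocalRing.ResidueField R) hd hE' hss' (by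
        have hUu := hYu.union hY'u
        obtain ⟨Gu, πu, hGu⟩ := GrothLib.TFSimple15.exists_quotOn (IsLocalRing.ResidueField R) hM'.1 hM'.2.1
          (GrothLib.TFSimple15.mem_support_of_tf1 hM') isClosed_univ GrothLib.TFSimple15.isUnion_univ
        have h := (GrothLib.TFSimple15.euler_meet_le (IsLocalRing.ResidueField R) hd hIs hM' hGY hS hYu hY'u
          (⟨inferInstance, hM'.1, hM'.2.1, GrothLib.TFSimple15.support_eq_of_generic hM'.1 hM'.2.1
            GrothLib.TFSimple15.isUnion_univ fun η hη =>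
              iff_of_true (GrothLib.TFSimple15.mem_support_of_tf1 hM' η hη) trivial⟩ :
            TFOne.IsQuotOn Xs _ Set.univ _ (𝟙 _)) hGY hG'
          (fun η _ => ⟨fun h => ⟨h, trivial⟩, fun h => h.1⟩)
          (fun η hη => ⟨fun h => ⟨trivial, (GrothLib.TFSimple15.mem_compl_iff hη hY).1 h⟩,
            fun h => (GrothLib.TFSimple15.mem_compl_iff hη hY).2 h.2⟩)).2 (fun η _ _ => trivial)
        obtain ⟨G0, π0, hG0⟩ := GrothLib.TFSimple15.exists_quotOn (IsLocalRing.ResidueField R) hIs.1 hIs.2.1 hsupp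
          isClosed_univ GrothLib.TFSimple15.isUnion_univ
        have h' := GrothLib.TFSimple15.euler_union_eq (IsLocalRing.ResidueField R) hIs hM' hGY hS hY'u
          (⟨inferInstance, hIs.1, hIs.2.1, GrothLib.TFSimple15.support_eq_of_generic hIs.1 hIs.2.1
            GrothLib.TFSimple15.isUnion_univ fun η hη => iff_of_true (hsupp η hη) trivial⟩ :
            TFOne.IsQuotOn Xs _ Set.univ _ (𝟙 _)) hG' (fun η _ _ => trivial)
          (fun η hη => ⟨fun h => ⟨trivial, (GrothLib.TFSimple15.mem_compl_iff hη hY).1 h⟩,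
            fun h => (GrothLib.TFSimple15.mem_compl_iff hη hY).2 h.2⟩)
        rw [← h, ← h']
        exact h0) hY'u.isClosed hY'u hG'
      have hU : Y ∪ Y' = Set.univ := Set.eq_univ_of_univ_subset
        (GrothLib.TFSimple15.isUnion_univ.subset_of_generic (hY.union hY'u.isClosed) fun η hη _ =>
          (em (η ∈ Y)).imp id fun h => (GrothLib.TFSimple15.mem_compl_iff hη hY).2 h)
      have hW0 : (⋃₀ {C | C ∈ irreducibleComponents (Xs : Type u) ∧ C ⊆ Y ∩ Y'}) = ∅ :=
        Set.eq_empty_of_forall_notMem fun x hx => by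
          obtain ⟨η, hη, hηW, -⟩ := (GrothLib.TFSimple15.isUnion_sUnion (X := Xs) _).exists_generic hx
          obtain ⟨h1, h2⟩ := (GrothLib.TFSimple15.mem_meet_iff hη hY hY'u.isClosed).1 hηW
          exact (GrothLib.TFSimple15.mem_compl_iff hη hY).1 h2 h1
      have hWu : GrothLib.TFSimple15.IsUnion (⋃₀ {C | C ∈ irreducibleComponents (Xs : Type u) ∧ C ⊆ Y ∩ Y'}) :=
        GrothLib.TFSimple15.isUnion_sUnion _
      obtain ⟨GW, πW, hGW⟩ :=
        GrothLib.TFSimple15.exists_quotOn (IsLocalRing.ResidueField R) hIs.1 hIs.2.1 hsupp hWu.isClosed hWu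
      obtain ⟨GU, πU, hGU⟩ := GrothLib.TFSimple15.exists_quotOn (IsLocalRing.ResidueField R) hIs.1 hIs.2.1 hsupp
        (hY.union hY'u.isClosed) (hYu.union hY'u)
      have heq := GrothLib.TFSimple15.rBeta_excess (IsLocalRing.ResidueField R) hd hIs hM' hGY hS hE' hY hYu
        hY'u.isClosed hY'u rfl hWu.isClosed (V := Y') (Set.ext fun x => by
          constructor
          · rintro ⟨C, hC, hx⟩
            exact ⟨C, ⟨hC.1, Set.subset_sUnion_of_mem hC, hC.2⟩, hx⟩
          · rintro ⟨C, hC, hx⟩
            exact ⟨C, ⟨hC.1, hC.2.2⟩, hx⟩) hG' hGW hGU hG'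
      rw [GrothLib.TFSimple15.rBeta_empty (IsLocalRing.ResidueField R) hd hE' hWu.isClosed hGW hW0,
        GrothLib.TFSimple15.rBeta_univ (IsLocalRing.ResidueField R) hE' hIs _ hGU hU, h0,
        GrothLib.TFSimple15.euler_quot_empty (IsLocalRing.ResidueField R) (hW0 ▸ hGW)] at heq
      linarith
    exact ⟨hβ0, GrothLib.TFSimple15.isSemistable_sub (IsLocalRing.ResidueField R) hd hE' hss h0 hY hYs hGY⟩
  · rintro ⟨hβ0, -⟩
    refine ⟨hM', fun Z hZ hZs _ G π hG => ?_⟩
    have hZu := GrothLib.TFSimple15.isUnion_of_subcurve hZs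
    have hWu : GrothLib.TFSimple15.IsUnion (⋃₀ {C | C ∈ irreducibleComponents (Xs : Type u) ∧ C ⊆ Y ∩ Z}) :=
      GrothLib.TFSimple15.isUnion_sUnion _
    obtain ⟨GW, πW, hGW⟩ :=
      GrothLib.TFSimple15.exists_quotOn (IsLocalRing.ResidueField R) hIs.1 hIs.2.1 hsupp hWu.isClosed hWu
    obtain ⟨GU, πU, hGU⟩ := GrothLib.TFSimple15.exists_quotOn (IsLocalRing.ResidueField R) hIs.1 hIs.2.1 hsupp
      (hY.union hZ) (hYu.union hZu)
    have hle := GrothLib.TFSimple15.rBeta_modification_le (IsLocalRing.ResidueField R) hd hIs hM' hGY hS hE' hY hYu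
      hZ hZu rfl hWu.isClosed hG hGW hGU
    have h1 := GrothLib.TFSimple15.rBeta_nonneg (IsLocalRing.ResidueField R) hd hE' hss h0 hWu.isClosed hWu hGW
    have h2 := GrothLib.TFSimple15.rBeta_nonneg (IsLocalRing.ResidueField R) hd hE' hss h0 (hY.union hZ)
      (hYu.union hZu) hGU
    linarith

end Groth.Agent.S18848
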