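import Groth.Statements.S18859
import Groth.Agent.Lib.Torsor21.Local
import Mathlib.AlgebraicGeometry.AffineSpace

set_option autoImplicit false
universe u
open CategoryTheory MonoidalCategory CartesianMonoidalCategory MonObj GrpObj AlgebraicGeometry
open NonAbH1

namespace Groth.Agent.S18859

/-- Let S be a scheme, G a group scheme over S and X → S a G-torsor for the fpqc topology (a
pseudo-torsor under G acquiring sections on the members of some fpqc covering family of S). Then the
functions on S are the G-invariant functions on X: the ring map Γ(S, O_S) → Γ(X, O_X) is injective,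
and a global function s on X lies in its image if and only if the pullbacks of s to G ×_S X along
the action morphism and along the second projection coincide. (The source works over a scheme of
finite type over a field with G the base change of an affine group scheme over that field and states
the equality O_S = (O_X)^G as sheaves on S; applied to the restriction of the torsor over each open
of S, the present global form is that equality.) -/
theorem result {S : Scheme.{u}} {G X : Over S}
    [GrpObj G] (a : AlgGrp.Action G X) (ha : NonAbH1.IsTorsorFor Scheme.fpqcPrecoverage a) :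
    Function.Injective X.hom.appTop.hom ∧
      ∀ s : Γ(X.left, ⊤), s ∈ Set.range X.hom.appTop.hom ↔
        a.act.left.appTop.hom s = (CartesianMonoidalCategory.snd G X).left.appTop.hom s := by
  haveI : EffectiveEpi X.hom := GrothLib.TorsorDesc.effectiveEpi_of_localSections X.hom ha.2
  let ev : ∀ (T : Scheme.{u}), (T ⟶ Spec (CommRingCat.of (MvPolynomial PUnit.{u + 1} (ULift.{u} ℤ)))) ≃
      (PUnit.{u + 1} → Γ(T, ⊤)) := fun T => AffineSpace.toSpecMvPolyIntEquiv _
  have hev : ∀ {T T' : Scheme.{u}} (g : T' ⟶ T) (f : T ⟶ _), ev T' (g ≫ f) PUnit.unit = g.appTop (ev T f PUnit.unit) :=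
    fun g f => AffineSpace.toSpecMvPolyIntEquiv_comp _ g f PUnit.unit
  have hext : ∀ {T : Scheme.{u}} {f f' : T ⟶ _}, ev T f PUnit.unit = ev T f' PUnit.unit → f = f' :=
    fun h => (ev _).injective (funext fun _ => h)
  refine ⟨fun b b' h => ?_, fun s => ⟨?_, fun hs => ?_⟩⟩
  · have h1 : X.hom ≫ (ev S).symm (fun _ => b) = X.hom ≫ (ev S).symm (fun _ => b') := hext (by
      rw [hev, hev, Equiv.apply_symm_apply, Equiv.apply_symm_apply]; exact h)
    simpa using congrArg (fun f => ev S f PUnit.unit) ((cancel_epi X.hom).mp h1)
  · rintro ⟨b, rfl⟩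
    rw [← CommRingCat.comp_apply, ← CommRingCat.comp_apply, ← Scheme.Hom.comp_appTop,
      ← Scheme.Hom.comp_appTop, Over.w a.act, Over.w (CartesianMonoidalCategory.snd G X)]
  · let σ := (ev X.left).symm (fun _ => s)
    have hσ : ∀ {T : Scheme.{u}} (g₁ g₂ : T ⟶ X.left), g₁ ≫ X.hom = g₂ ≫ X.hom → g₁ ≫ σ = g₂ ≫ σ := by
      intro T g₁ g₂ e
      let p₁ : Over.mk (g₁ ≫ X.hom) ⟶ X := Over.homMk g₁ rfl
      let p₂ : Over.mk (g₁ ≫ X.hom) ⟶ X := Over.homMk g₂ e.symm
      obtain ⟨g, hg⟩ := GrothLib.TorsorDesc.exists_act_eq ha.1 p₁ p₂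
      have h1 : (CartesianMonoidalCategory.lift g p₂ ≫ a.act).left ≫ σ =
          (CartesianMonoidalCategory.lift g p₂ ≫ CartesianMonoidalCategory.snd G X).left ≫ σ := by
        refine hext ?_
        rw [hev, hev, Equiv.apply_symm_apply, Over.comp_left, Over.comp_left, Scheme.Hom.comp_appTop,
          Scheme.Hom.comp_appTop, CommRingCat.comp_apply, CommRingCat.comp_apply, hs]
      rw [hg, CartesianMonoidalCategory.lift_snd] at h1
      exact h1
    refine ⟨ev S (EffectiveEpi.desc X.hom σ hσ) PUnit.unit, ?_⟩
    rw [← hev, EffectiveEpi.fac, Equiv.apply_symm_apply]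

end Groth.Agent.S18859
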