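import Groth.Statements.S1886
import Groth.Agent.Lib.GrpSchField.GrpdField
-- import your own Groth.Agent.* helpers here

set_option autoImplicit false
universe u
open CategoryTheory CategoryTheory.Limits AlgebraicGeometry
open Grpd

namespace Groth.Agent.S1886

open CategoryTheory.Limits GrothLib.GrpSchField in
/-- The diagonal of `j` is a base change of the identity section of the stabilizer. -/
theorem exists_isPullback_diagonal {S : Scheme.{u}} (G : Grpd.GroupoidScheme S) :
    ∃ D, IsPullback G.s (pullback.diagonal G.j) G.eStab D := by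
  let a := pullback.fst G.j G.j
  let b := pullback.snd G.j G.j
  have hab : a ≫ G.j = b ≫ G.j := pullback.condition
  have hj1 : G.j ≫ pullback.fst G.pU G.pU = G.t := pullback.lift_fst _ _ _
  have hj2 : G.j ≫ pullback.snd G.pU G.pU = G.s := pullback.lift_snd _ _ _
  have hd1 : G.diag ≫ pullback.fst G.pU G.pU = 𝟙 G.U := pullback.lift_fst _ _ _
  have hd2 : G.diag ≫ pullback.snd G.pU G.pU = 𝟙 G.U := pullback.lift_snd _ _ _
  let p1 : G.stabilizer ⟶ G.R := pullback.fst G.j G.diag
  let p2 : G.stabilizer ⟶ G.U := pullback.snd G.j G.diag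
  have ext : ∀ {T : Scheme.{u}} (f g : T ⟶ G.stabilizer), f ≫ p1 = g ≫ p1 → f ≫ p2 = g ≫ p2 → f = g :=
    fun {T} f g h1 h2 => pullback.hom_ext (f := G.j) (g := G.diag) h1 h2
  have he1 : G.eStab ≫ p1 = G.e := pullback.lift_fst _ _ _
  have he2 : G.eStab ≫ p2 = 𝟙 G.U := pullback.lift_snd _ _ _
  have hs : a ≫ G.s = b ≫ G.s := by rw [← hj2, reassoc_of% hab]
  have ht : a ≫ G.t = b ≫ G.t := by rw [← hj1, reassoc_of% hab]
  have h0 : (a ≫ G.i) ≫ G.s = b ≫ G.t := by rw [Category.assoc, G.i_s, ht]
  let γ := cmp G (a ≫ G.i) b h0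
  have hγs : γ ≫ G.s = b ≫ G.s := G.comp_s _ _ h0
  have hγt : γ ≫ G.t = a ≫ G.s := by rw [G.comp_t, Category.assoc, G.i_t]
  have hγ : γ ≫ G.j = (b ≫ G.s) ≫ G.diag := by
    apply pullback.hom_ext
    · exact (Category.assoc _ _ _).trans ((congrArg (γ ≫ ·) hj1).trans (hγt.trans (hs.trans
        ((Category.comp_id _).symm.trans ((congrArg ((b ≫ G.s) ≫ ·) hd1).symm.trans (Category.assoc _ _ _).symm)))))
    · exact (Category.assoc _ _ _).trans ((congrArg (γ ≫ ·) hj2).trans (hγs.trans
        ((Category.comp_id _).symm.trans ((congrArg ((b ≫ G.s) ≫ ·) hd2).symm.trans (Category.assoc _ _ _).symm))))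
  let D : pullback G.j G.j ⟶ G.stabilizer := pullback.lift γ (b ≫ G.s) hγ
  have hD1 : D ≫ p1 = γ := pullback.lift_fst _ _ _
  have hD2 : D ≫ p2 = b ≫ G.s := pullback.lift_snd _ _ _
  have w : G.s ≫ G.eStab = pullback.diagonal G.j ≫ D := by
    apply ext
    · rw [Category.assoc, Category.assoc, hD1, he1, comp_cmp]
      refine ((Category.id_comp _).symm.trans (G.i_comp (𝟙 _)).symm).trans ?_
      exact cmp_congr G _ (by simp [a]) (by simp [b])
    · rw [Category.assoc, Category.assoc, hD2, he2]
      simp [b]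
  refine ⟨D, IsPullback.of_isLimit' ⟨w⟩ (PullbackCone.IsLimit.mk _ (fun c => c.snd ≫ a)
    (fun c => ?_) (fun c => ?_) fun c m hm hm' => ?_)⟩
  · have h2 := congrArg (· ≫ p2) c.condition
    simp only [Category.assoc, hD2, he2, Category.comp_id] at h2
    rw [h2, Category.assoc, hs]
  · have h1 := congrArg (· ≫ p1) c.condition
    simp only [Category.assoc, hD1, he1] at h1
    have h2 := congrArg (· ≫ p2) c.condition
    simp only [Category.assoc, hD2, he2, Category.comp_id] at h2
    let x := c.snd ≫ a
    let y := c.snd ≫ b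
    have hxs : x ≫ G.s = y ≫ G.s := by simp only [x, y, Category.assoc, hs]
    have hxt : x ≫ G.t = y ≫ G.t := by simp only [x, y, Category.assoc, ht]
    have hxy : (x ≫ G.i) ≫ G.s = y ≫ G.t := by
      rw [Category.assoc, G.i_s]; exact hxt
    have hg : cmp G (x ≫ G.i) y hxy = x ≫ G.s ≫ G.e := by
      refine (cmp_congr G _ (Category.assoc _ _ _) rfl).trans ((comp_cmp G c.snd _ _ h0).symm.trans ?_)
      show c.snd ≫ γ = _
      rw [← h1, h2, ← Category.assoc x, hxs]
      simp only [y, Category.assoc]
    have k1 : x ≫ G.s = (x ≫ G.i) ≫ G.t := by simp only [Category.assoc, G.i_t]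
    have k2 : x ≫ G.s = cmp G (x ≫ G.i) y hxy ≫ G.t := k1.trans (G.comp_t _ _ hxy).symm
    have e1 : cmp G x (cmp G (x ≫ G.i) y hxy) k2 = y := by
      refine (G.assoc x (x ≫ G.i) y k1 hxy).symm.trans ?_
      exact (cmp_congr G _ ((G.comp_i x).trans (by rw [← Category.assoc, hxt, Category.assoc])) rfl).trans
        (G.e_comp y)
    have e2 : cmp G x (cmp G (x ≫ G.i) y hxy) k2 = x :=
      (cmp_congr G k2 rfl hg).trans (G.comp_e x)
    apply pullback.hom_ext
    · rw [Category.assoc, pullback.diagonal_fst, Category.comp_id]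
    · rw [Category.assoc, pullback.diagonal_snd, Category.comp_id]
      exact e2.symm.trans e1
  · rw [← hm', Category.assoc]
    simp [a]

/-- Let (U, R, s, t, c) be a groupoid scheme over S with stabilizer group scheme G → U and identity
section e : U → G. Then j = (t, s) : R → U ×_S U is separated iff G → U is separated iff e is a
closed immersion; and j is quasi-separated iff G → U is quasi-separated iff e is quasi-compact. (A
groupoid scheme carries U, R, s, t, c, e, i over S with the groupoid axioms on T-points; 'finite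
locally free' is finite, flat and locally of finite presentation; C ⊂ Γ(U) is the ring of functions
a with s♯(a) = t♯(a) and M = Spec C.) -/
theorem result (S : Scheme.{u}) (G : Grpd.GroupoidScheme S) : ((IsSeparated G.j ↔ IsSeparated G.stabilizerToU) ∧ (IsSeparated G.stabilizerToU ↔ IsClosedImmersion G.eStab)) ∧ ((QuasiSeparated G.j ↔ QuasiSeparated G.stabilizerToU) ∧ (QuasiSeparated G.stabilizerToU ↔ QuasiCompact G.eStab)) := by
  obtain ⟨D, hD⟩ := exists_isPullback_diagonal G
  have he : G.eStab ≫ G.stabilizerToU = 𝟙 G.U := Limits.pullback.lift_snd _ _ _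
  refine ⟨⟨⟨fun h => ?_, fun h => ?_⟩, ⟨fun h => ?_, fun h => ?_⟩⟩,
    ⟨⟨fun h => ?_, fun h => ?_⟩, ⟨fun h => ?_, fun h => ?_⟩⟩⟩
  · exact MorphismProperty.pullback_snd (P := @IsSeparated) G.j G.diag h
  · have : IsClosedImmersion (G.eStab ≫ G.stabilizerToU) := by rw [he]; infer_instance
    have : IsClosedImmersion G.eStab := IsClosedImmersion.of_comp G.eStab G.stabilizerToU
    exact ⟨MorphismProperty.of_isPullback hD this⟩
  · have : IsClosedImmersion (G.eStab ≫ G.stabilizerToU) := by rw [he]; infer_instance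
    exact IsClosedImmersion.of_comp G.eStab G.stabilizerToU
  · have : IsSeparated G.j := ⟨MorphismProperty.of_isPullback hD h⟩
    exact MorphismProperty.pullback_snd (P := @IsSeparated) G.j G.diag this
  · exact MorphismProperty.pullback_snd (P := @QuasiSeparated) G.j G.diag h
  · have : QuasiCompact (G.eStab ≫ G.stabilizerToU) := by rw [he]; infer_instance
    have : QuasiCompact G.eStab := QuasiCompact.of_comp G.eStab G.stabilizerToU
    exact ⟨MorphismProperty.of_isPullback hD this⟩
  · have : QuasiCompact (G.eStab ≫ G.stabilizerToU) := by rw [he]; infer_instance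
    exact QuasiCompact.of_comp G.eStab G.stabilizerToU
  · have : QuasiSeparated G.j := ⟨MorphismProperty.of_isPullback hD h⟩
    exact MorphismProperty.pullback_snd (P := @QuasiSeparated) G.j G.diag this

end Groth.Agent.S1886
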