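import Groth.Statements.S18863
import Groth.Agent.Lib.Torsor21.RationalSection
import Groth.Agent.Lib.Torsor21.LimitCover
import Groth.Agent.Lib.EtSite.FpqcDescent

set_option autoImplicit false
set_option backward.isDefEq.respectTransparency false
set_option backward.isDefEq.respectTransparency.types false
universe u
open CategoryTheory CategoryTheory.Limits MonoidalCategory CartesianMonoidalCategory MonObj GrpObj AlgebraicGeometry
open NonAbH1 CartesianMonoidalCategory

namespace Groth.Agent.S18863

/-- Let k be a field and X a quasi-compact k-scheme. Let (G_i)_{i ∈ I} be a cofiltered inverse system of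
affine group schemes of finite type over k with limit G in the category of k-group schemes (a limit
cone of homomorphisms G → G_i), and (T_i)_{i ∈ I} an inverse system of X-schemes such that each T_i
is a torsor over X for the fpqc topology under the base change of G_i to X and each transition map
T_j → T_i is equivariant along G_j → G_i. Let T be a limit of the T_i over X, with an action of the
base change of G to X for which every projection T → T_i is equivariant along G → G_i. Then T is a
torsor over X under the base change of G for the fpqc topology. (The source indexes the system by a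
directed partially ordered set and also records that T is pointed over a rational point of X when
all the T_i are; the limit scheme, the limit group and the limit action, which exist and are unique,
are taken here as data.) -/
theorem result (k : Type u) [Field k]
    (X : Scheme.{u}) [X.Over (Spec (CommRingCat.of k))] [CompactSpace X]
    {I : Type u} [SmallCategory I] [IsCofiltered I]
    (DG : I ⥤ Grp (Over (Spec (CommRingCat.of k))))
    [∀ i, IsAffineHom (DG.obj i).X.hom] [∀ i, LocallyOfFiniteType (DG.obj i).X.hom]
    (cG : Cone DG) (hcG : IsLimit cG)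
    (DT : I ⥤ Over X)
    (aT : ∀ i, AlgGrp.Action (Red.bc (X ↘ Spec (CommRingCat.of k)) (DG.obj i).X) (DT.obj i))
    (hT : ∀ i, NonAbH1.IsTorsorFor Scheme.fpqcPrecoverage (aT i))
    (hDT : ∀ (i j : I) (φ : i ⟶ j), AlgGrp.Action.IsEquivariant (aT i)
      ((aT j).restrict ((Over.pullback (X ↘ Spec (CommRingCat.of k))).map (DG.map φ).hom.hom)) (DT.map φ))
    (cT : Cone DT) (hcT : IsLimit cT)
    (a : AlgGrp.Action (Red.bc (X ↘ Spec (CommRingCat.of k)) cG.pt.X) cT.pt)
    (ha : ∀ i, AlgGrp.Action.IsEquivariant a
      ((aT i).restrict ((Over.pullback (X ↘ Spec (CommRingCat.of k))).map (cG.π.app i).hom.hom)) (cT.π.app i)) :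
    NonAbH1.IsTorsorFor Scheme.fpqcPrecoverage a := by
  let s : X ⟶ Spec (CommRingCat.of k) := X ↘ Spec (CommRingCat.of k)
  let F := Over.pullback s
  haveI : MorphismProperty.DescendsAlong @Flat (@Surjective ⊓ @Flat ⊓ @QuasiCompact : MorphismProperty Scheme.{u}) :=
    HasRingHomProperty.descendsAlong_flat (P := @Flat) GrothLib.AlgSp.codescendsAlong_flat
  haveI : MorphismProperty.DescendsAlong @IsAffineHom (@Surjective ⊓ @Flat ⊓ @QuasiCompact : MorphismProperty Scheme.{u}) :=
    GrothLib.EtSite.descendsAlong_isAffineHom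
  haveI : ∀ i, IsAffineHom (DT.obj i).hom := fun i => by
    have hi : IsAffineHom (DG.obj i).X.hom := by first | assumption | infer_instance
    haveI : IsAffineHom (Red.bc s (DG.obj i).X).hom :=
      MorphismProperty.pullback_snd (P := @IsAffineHom) _ s hi
    exact GrothLib.Torsor21.property @IsAffineHom (hT i) inferInstance
  haveI : ∀ i, Flat (DT.obj i).hom := fun i => by
    haveI : Flat (Red.bc s (DG.obj i).X).hom := inferInstanceAs (Flat (pullback.snd (DG.obj i).X.hom s))
    exact GrothLib.Torsor21.property @Flat (hT i) inferInstance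
  haveI : ∀ i, Surjective (DT.obj i).hom := fun i => GrothLib.Torsor21.surjective_hom (hT i)
  obtain ⟨hLim⟩ := GrothLib.Torsor21.isLimit_forget_mapCone DG cG hcG
  obtain ⟨haff, hflat, hsurj⟩ := GrothLib.Torsor21.props_of_isLimit DT cT hcT
  let adj := Over.mapPullbackAdj s
  have eqv : ∀ {R : Over X} (g : R ⟶ Red.bc s cG.pt.X) (y : R ⟶ cT.pt) (i : I),
      lift g y ≫ a.act ≫ cT.π.app i =
        lift (g ≫ F.map (cG.π.app i).hom.hom) (y ≫ cT.π.app i) ≫ (aT i).act := fun g y i => by
    rw [ha i, lift_whiskerLeft_assoc, AlgGrp.Action.lift_restrict_act]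
  have eqvD : ∀ {R : Over X} {i j : I} (φ : i ⟶ j) (g : R ⟶ Red.bc s (DG.obj i).X) (y : R ⟶ DT.obj i),
      lift g y ≫ (aT i).act ≫ DT.map φ =
        lift (g ≫ F.map (DG.map φ).hom.hom) (y ≫ DT.map φ) ≫ (aT j).act := fun φ g y => by
    rw [hDT _ _ φ, lift_whiskerLeft_assoc, AlgGrp.Action.lift_restrict_act]
  haveI : IsAffineHom cT.pt.hom := haff
  haveI : Flat cT.pt.hom := hflat
  haveI : Surjective cT.pt.hom := hsurj
  refine ⟨GrothLib.TorsorDesc.isPseudoTorsorSch_of_points ?_ ?_,
    Presieve.singleton cT.pt.hom, cT.pt.hom.singleton_mem_fpqcPrecoverage, ?_⟩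
  · intro R y y'
    choose g hg using fun i => GrothLib.TorsorDesc.exists_act_eq (hT i).1 (y ≫ cT.π.app i) (y' ≫ cT.π.app i)
    have hc : ∀ {i j : I} (φ : i ⟶ j), g i ≫ F.map (DG.map φ).hom.hom = g j := fun {i j} φ => by
      refine GrothLib.TorsorDesc.act_left_injective (hT j).1 (p := y' ≫ cT.π.app j) ?_
      rw [hg j]
      have h1 := eqvD φ (g i) (y' ≫ cT.π.app i)
      rw [reassoc_of% (hg i)] at h1
      simpa only [Category.assoc, cT.w φ] using h1.symm
    let h : ∀ i, (Over.map s).obj R ⟶ (DG.obj i).X := fun i => (adj.homEquiv R _).symm (g i)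
    have hn : ∀ {i j : I} (φ : i ⟶ j), 𝟙 _ ≫ h j = h i ≫ (DG.map φ).hom.hom := fun {i j} φ => by
      rw [Category.id_comp]
      simp only [h]
      rw [← adj.homEquiv_naturality_right_symm]
      exact congrArg _ (hc φ).symm
    let l := hLim.lift ⟨(Over.map s).obj R, { app := h, naturality := fun i j φ => hn φ }⟩
    refine ⟨adj.homEquiv R _ l, hcT.hom_ext fun i => ?_⟩
    rw [Category.assoc]
    refine (eqv _ y' i).trans ?_
    rw [← adj.homEquiv_naturality_right]
    erw [hLim.fac]
    simp only [h, Equiv.apply_symm_apply]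
    exact hg i
  · intro R g g' y h
    have key : ∀ i, g ≫ F.map (cG.π.app i).hom.hom = g' ≫ F.map (cG.π.app i).hom.hom := fun i => by
      refine GrothLib.TorsorDesc.act_left_injective (hT i).1 (p := y ≫ cT.π.app i) ?_
      rw [← eqv g y i, ← eqv g' y i, reassoc_of% h]
    apply (adj.homEquiv R _).symm.injective
    refine hLim.hom_ext fun i => ?_
    show _ ≫ (cG.π.app i).hom.hom = _ ≫ (cG.π.app i).hom.hom
    erw [← adj.homEquiv_naturality_right_symm, ← adj.homEquiv_naturality_right_symm]
    exact congrArg _ (key i)
  · rintro Y f ⟨⟩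
    exact ⟨𝟙 _, Category.id_comp _⟩

end Groth.Agent.S18863
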