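import Groth.Statements.S18864
import Mathlib.RingTheory.FiniteType
import Mathlib.LinearAlgebra.TensorProduct.RightExactness
import Mathlib.RingTheory.Flat.Basic
import Mathlib.LinearAlgebra.FreeModule.Basic
import Mathlib.LinearAlgebra.Basis.VectorSpace

set_option autoImplicit false
universe u v w
open HopfRep

namespace Groth.Agent.S18864

open scoped TensorProduct

/-- Let k be a field and G = lim G_i a pro-algebraic group scheme over k, so that G = Spec A with A the
direct limit of the Hopf algebras A_i of the affine group schemes G_i of finite type; assume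
moreover that the maps A_i → A are injective, so that A is the directed union of the A_i, here given
as injective bialgebra maps A_i → A with directed, jointly covering images. Then every homomorphism
from G to an affine group scheme H = Spec B of finite type over k factors through some projection G
→ G_i: every bialgebra map f : B → A with B finitely generated as a k-algebra is the composite of
A_i → A with a bialgebra map B → A_i for some i. (The published statement allows arbitrary
transition maps in the system; this row assumes each A_i → A injective, the case the printed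
argument treats. The source also states the pro-finite variant with H finite, which is the case of
finite-dimensional A_i and B; finite generation of the A_i is not used.) -/
theorem result (k : Type u) [Field k]
    (A : Type v) [CommRing A] [HopfAlgebra k A] {ι : Type v} (Aι : ι → Type v)
    [∀ i, CommRing (Aι i)] [∀ i, HopfAlgebra k (Aι i)] (emb : ∀ i, Aι i →ₐc[k] A)
    (hinj : ∀ i, Function.Injective (emb i))
    (hdir : ∀ i j, ∃ l, Set.range (emb i) ⊆ Set.range (emb l) ∧ Set.range (emb j) ⊆ Set.range (emb l))
    (hcov : ∀ a : A, ∃ i, a ∈ Set.range (emb i))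
    (B : Type w) [CommRing B] [HopfAlgebra k B] [Algebra.FiniteType k B] (f : B →ₐc[k] A) :
    ∃ (i : ι) (g : B →ₐc[k] Aι i), (emb i).comp g = f := by
  classical
  obtain ⟨s, hs⟩ := (inferInstance : Algebra.FiniteType k B).out
  obtain ⟨i0, -⟩ := hcov 0
  obtain ⟨i, hi⟩ : ∃ i, ∀ b ∈ s, f b ∈ Set.range (emb i) := by
    clear hs
    induction s using Finset.induction with
    | empty => exact ⟨i0, by simp⟩
    | insert b t _ ih =>
      obtain ⟨i, hi⟩ := ih
      obtain ⟨j, hj⟩ := hcov (f b)
      obtain ⟨l, hl1, hl2⟩ := hdir i j
      refine ⟨l, fun c hc => ?_⟩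
      rcases Finset.mem_insert.1 hc with rfl | hc
      · exact hl2 hj
      · exact hl1 (hi c hc)
  let e : Aι i →ₐ[k] A := (emb i : Aι i →ₐ[k] A)
  have hrange : ∀ b : B, f b ∈ e.range := by
    have h : Algebra.adjoin k (s : Set B) ≤ e.range.comap (f : B →ₐ[k] A) :=
      Algebra.adjoin_le fun b hb => hi b hb
    rw [hs] at h
    exact fun b => h trivial
  let g : B →ₐ[k] Aι i :=
    (AlgEquiv.ofInjective e (hinj i)).symm.toAlgHom.comp ((f : B →ₐ[k] A).codRestrict e.range hrange)
  have heg : ∀ b, emb i (g b) = f b := fun b => by
    have h := AlgEquiv.ofInjective_apply e (hinj i) (g b)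
    simp only [g, AlgHom.comp_apply, AlgEquiv.coe_toAlgHom, AlgEquiv.apply_symm_apply] at h
    exact h.symm
  have hinj2 : Function.Injective (TensorProduct.map (emb i).toLinearMap (emb i).toLinearMap) :=
    TensorProduct.map_injective_of_flat_flat _ _ (hinj i) (hinj i)
  refine ⟨i, BialgHom.ofAlgHom g ?_ ?_, BialgHom.ext heg⟩
  · refine AlgHom.ext fun b => ?_
    show CoalgebraStruct.counit (R := k) (g b) = CoalgebraStruct.counit (R := k) b
    rw [← CoalgHomClass.counit_comp_apply (emb i) (g b), heg, CoalgHomClass.counit_comp_apply]
  · refine AlgHom.ext fun b => hinj2 ?_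
    show TensorProduct.map (emb i).toLinearMap (emb i).toLinearMap
        (Algebra.TensorProduct.map g g (CoalgebraStruct.comul (R := k) b)) =
      TensorProduct.map (emb i).toLinearMap (emb i).toLinearMap (CoalgebraStruct.comul (R := k) (g b))
    rw [show TensorProduct.map (emb i).toLinearMap (emb i).toLinearMap
        (CoalgebraStruct.comul (R := k) (g b)) = CoalgebraStruct.comul (R := k) (emb i (g b)) from
      CoalgHomClass.map_comp_comul_apply (emb i) (g b), heg, ← CoalgHomClass.map_comp_comul_apply f b]
    induction CoalgebraStruct.comul (R := k) b using TensorProduct.induction_on with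
    | zero => simp
    | add p q hp hq => simp only [map_add, hp, hq]
    | tmul p q => exact (congrArg₂ (· ⊗ₜ[k] ·) (heg p) (heg q))

end Groth.Agent.S18864
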