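import Groth.Statements.S18865
import Groth.Agent.Lib.Gor.Unmixed

set_option autoImplicit false
universe u
open Liaison

namespace Groth.Agent.S18865

/-- Let K be a field, R = K[x_0, …, x_n] graded by degree, c ≥ 2 an integer, 𝔠 ⊂ R a homogeneous ideal
of height c such that R/𝔠 is a Gorenstein ring, and I ⊂ R a homogeneous ideal with I ⊄ 𝔠. Then the
ideal quotient 𝔠 : I is unmixed of codimension c: it has height c and every associated prime of R/(𝔠
: I) has height c. (A Gorenstein ideal of the notes, one whose quotient is Cohen–Macaulay with last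
graded Betti number 1, is rendered as: the quotient ring is Gorenstein.) -/
theorem result (K : Type u) [Field K] (n c : ℕ) (hc : 2 ≤ c)
    (𝔠 I : Ideal (MvPolynomial (Fin (n + 1)) K))
    (h𝔠 : 𝔠.IsHomogeneous (GrSyz.stdGr K (Fin (n + 1)))) (hI : I.IsHomogeneous (GrSyz.stdGr K (Fin (n + 1))))
    [LocCoh.IsGorensteinRing (MvPolynomial (Fin (n + 1)) K ⧸ 𝔠)] (h𝔠c : 𝔠.height = c) (hI𝔠 : ¬ I ≤ 𝔠) :
    (𝔠.colon (I : Set (MvPolynomial (Fin (n + 1)) K))).height = c ∧
      ∀ p ∈ associatedPrimes (MvPolynomial (Fin (n + 1)) K) (MvPolynomial (Fin (n + 1)) K ⧸ 𝔠.colon (I : Set (MvPolynomial (Fin (n + 1)) K))), p.height = c := by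
  set R := MvPolynomial (Fin (n + 1)) K with hR
  let m : Ideal R := RingHom.ker (MvPolynomial.constantCoeff (σ := Fin (n + 1)) (R := K))
  haveI : m.IsPrime := RingHom.ker_isPrime _
  have key : ∀ J : Ideal R, J.IsHomogeneous (GrSyz.stdGr K (Fin (n + 1))) → J ≠ ⊤ → J ≤ m := by
    intro J hJ hne f hf
    rw [RingHom.mem_ker]
    by_contra h0
    have h1 : ((DirectSum.decompose (GrSyz.stdGr K (Fin (n + 1))) f 0 : GrSyz.stdGr K (Fin (n + 1)) 0) : R) =
        MvPolynomial.C (MvPolynomial.constantCoeff f) := by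
      show ((MvPolynomial.weightedDecomposition K (fun _ : Fin (n + 1) => (1 : ℤ))).decompose' f 0 : R) = _
      classical
      rw [MvPolynomial.weightedDecomposition.decompose'_apply]
      ext d
      rw [MvPolynomial.coeff_weightedHomogeneousComponent, MvPolynomial.coeff_C, MvPolynomial.constantCoeff_eq]
      have hw : Finsupp.weight (fun _ : Fin (n + 1) => (1 : ℤ)) d = 0 ↔ 0 = d := by
        rw [Finsupp.weight_apply, Finsupp.sum_fintype _ _ (fun i => zero_smul ℕ (1 : ℤ))]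
        simp only [nsmul_one]
        constructor
        · intro h
          ext i
          have := (Finset.sum_eq_zero_iff_of_nonneg (fun j _ => Int.natCast_nonneg (d j))).1 h i (Finset.mem_univ i)
          exact (by exact_mod_cast this.symm)
        · rintro rfl
          simp
      by_cases hd : (0 : Fin (n + 1) →₀ ℕ) = d
      · rw [if_pos (hw.2 hd), if_pos hd, hd]
      · rw [if_neg (fun h => hd (hw.1 h)), if_neg hd]
    exact hne (Ideal.eq_top_of_isUnit_mem _ (hJ 0 hf) (h1 ▸ (Ne.isUnit h0).map MvPolynomial.C))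
  have hne : 𝔠 ≠ ⊤ := fun h => hI𝔠 (h ▸ le_top)
  have hle : ∀ P ∈ 𝔠.minimalPrimes, P ≤ m := fun P hP => by
    haveI := hP.1.1
    have h1 : 𝔠 ≤ (P.homogeneousCore (GrSyz.stdGr K (Fin (n + 1)))).toIdeal :=
      h𝔠.toIdeal_homogeneousCore_eq_self.ge.trans (Ideal.homogeneousCore_mono _ hP.1.2)
    have h2 := hP.2 ⟨Ideal.IsPrime.homogeneousCore ‹P.IsPrime›, h1⟩ (Ideal.toIdeal_homogeneousCore_le _ P)
    exact h2.trans (key _ (Ideal.homogeneousCore _ P).isHomogeneous
      (ne_top_of_le_ne_top hP.1.1.ne_top (Ideal.toIdeal_homogeneousCore_le _ P)))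
  haveI := (GrothLib.CatCM.isCohenMacaulayRing_of_isRegularRing R).isCohenMacaulayLocalRing_localization m
  obtain ⟨g, hg⟩ := GrothLib.Gor.exists_height_of_minimalPrimes_le 𝔠 m (key 𝔠 h𝔠 hne)
  obtain ⟨P₀, hP₀⟩ := Ideal.nonempty_minimalPrimes hne
  have hall : ∀ P ∈ 𝔠.minimalPrimes, P.height = (c : ℕ∞) := by
    have hgc : (g : ℕ∞) = c := by
      rw [← h𝔠c, Ideal.height_eq_inf_minimalPrimes]
      refine le_antisymm (le_iInf₂ fun P hP => (hg P hP (hle P hP)).ge) ?_
      exact (iInf₂_le P₀ hP₀).trans (hg P₀ hP₀ (hle P₀ hP₀)).le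
    exact fun P hP => (hg P hP (hle P hP)).trans hgc
  refine ⟨le_antisymm ?_ (h𝔠c ▸ Ideal.height_mono (GrothLib.Gor.le_colon 𝔠 I)),
    fun p hp => hall p (GrothLib.Gor.mem_minimalPrimes_of_mem_associatedPrimes_colon 𝔠 I hp)⟩
  have hne' : 𝔠.colon (I : Set R) ≠ ⊤ := fun h => hI𝔠 fun a ha => by
    have := Submodule.mem_colon.1 (h ▸ Submodule.mem_top : (1 : R) ∈ 𝔠.colon (I : Set R)) a ha
    rwa [one_smul] at this
  haveI : Nontrivial (R ⧸ 𝔠.colon (I : Set R)) := Ideal.Quotient.nontrivial_iff.2 hne'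
  obtain ⟨p, hp⟩ := associatedPrimes.nonempty R (R ⧸ 𝔠.colon (I : Set R))
  refine le_trans (Ideal.height_mono ?_) (hall p (GrothLib.Gor.mem_minimalPrimes_of_mem_associatedPrimes_colon 𝔠 I hp)).le
  exact (Ideal.annihilator_quotient (I := 𝔠.colon (I : Set R))).ge.trans (Submodule.annihilator_top.symm.trans_le hp.annihilator_le)

end Groth.Agent.S18865
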