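import Groth.Statements.S18866
import Groth.Agent.Lib.Gor.Liaison

set_option autoImplicit false
universe u
open Liaison

namespace Groth.Agent.S18866

/-- Let K be a field, R = K[x_0, …, x_n] graded by degree, c ≥ 2, 𝔠 ⊂ R a homogeneous ideal of height c
such that R/𝔠 is a Gorenstein ring, and I, J ⊂ R homogeneous ideals that are directly linked by 𝔠,
that is 𝔠 : I = J and 𝔠 : J = I. If R/I and R/J have no associated prime in common, then I ∩ J = 𝔠,
so I and J are geometrically linked by 𝔠. -/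
theorem result (K : Type u) [Field K] (n c : ℕ) (hc : 2 ≤ c)
    (𝔠 I J : Ideal (MvPolynomial (Fin (n + 1)) K))
    (h𝔠 : 𝔠.IsHomogeneous (GrSyz.stdGr K (Fin (n + 1)))) (hI : I.IsHomogeneous (GrSyz.stdGr K (Fin (n + 1)))) (hJ : J.IsHomogeneous (GrSyz.stdGr K (Fin (n + 1))))
    [LocCoh.IsGorensteinRing (MvPolynomial (Fin (n + 1)) K ⧸ 𝔠)] (h𝔠c : 𝔠.height = c)
    (hIJ : 𝔠.colon (I : Set (MvPolynomial (Fin (n + 1)) K)) = J) (hJI : 𝔠.colon (J : Set (MvPolynomial (Fin (n + 1)) K)) = I)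
    (hdisj : Disjoint (associatedPrimes (MvPolynomial (Fin (n + 1)) K) (MvPolynomial (Fin (n + 1)) K ⧸ I)) (associatedPrimes (MvPolynomial (Fin (n + 1)) K) (MvPolynomial (Fin (n + 1)) K ⧸ J))) :
    I ⊓ J = 𝔠 := by
  exact GrothLib.Gor.inf_eq_of_linked 𝔠 I J hIJ hJI hdisj

end Groth.Agent.S18866
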