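import Groth.Statements.S18868
import Groth.Agent.Lib.LiaisonCM.AlmostCI
import Groth.Agent.Lib.LiaisonCM.DoubleLink
import Groth.Agent.S18865

set_option autoImplicit false
universe u
open Liaison

namespace Groth.Agent.S18868

/-- Let K be a field, R = K[x_0, …, x_n] graded by degree, c ≥ 2, 𝔠 ⊂ R a homogeneous complete
intersection of codimension c, that is a homogeneous ideal of height c generated by c elements g_1,
…, g_c, and I ⊂ R a homogeneous ideal of height c with R/I Cohen–Macaulay which properly contains 𝔠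
and has the form I = 𝔠 + fR for some f (so I is an almost complete intersection). Then the linked
ideal J = 𝔠 : I has height c and R/J is a Gorenstein ring. (A Gorenstein ideal of the notes, one
whose quotient is Cohen–Macaulay with last graded Betti number 1, is rendered as: the quotient ring
is Gorenstein.) -/
theorem result (K : Type u) [Field K] (n c : ℕ) (hc : 2 ≤ c)
    (g : Fin c → MvPolynomial (Fin (n + 1)) K) (f : MvPolynomial (Fin (n + 1)) K) (𝔠 I : Ideal (MvPolynomial (Fin (n + 1)) K)) (h𝔠g : Ideal.span (Set.range g) = 𝔠)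
    (h𝔠 : 𝔠.IsHomogeneous (GrSyz.stdGr K (Fin (n + 1)))) (hI : I.IsHomogeneous (GrSyz.stdGr K (Fin (n + 1))))
    (h𝔠c : 𝔠.height = c) (hIc : I.height = c) [LocCoh.IsCohenMacaulayRing (MvPolynomial (Fin (n + 1)) K ⧸ I)]
    (hlt : 𝔠 < I) (hIf : I = 𝔠 ⊔ Ideal.span {f}) :
    (𝔠.colon (I : Set (MvPolynomial (Fin (n + 1)) K))).height = c ∧
      LocCoh.IsGorensteinRing (MvPolynomial (Fin (n + 1)) K ⧸ 𝔠.colon (I : Set (MvPolynomial (Fin (n + 1)) K))) := by
  haveI := GrothLib.GorFlat.isGorensteinRing_of_isRegularRing (MvPolynomial (Fin (n + 1)) K)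
  haveI h𝔠G : LocCoh.IsGorensteinRing (MvPolynomial (Fin (n + 1)) K ⧸ 𝔠) := by
    subst h𝔠g
    exact GrothLib.LiaisonCM.isGorensteinRing_quot_of_height g h𝔠c
  have hcol : ∀ y, y ∈ 𝔠.colon (I : Set (MvPolynomial (Fin (n + 1)) K)) ↔ y * f ∈ 𝔠 := by
    intro y
    rw [Submodule.mem_colon]
    refine ⟨fun h => h f (hIf ▸ Ideal.mem_sup_right (Ideal.mem_span_singleton_self f)), fun h z hz => ?_⟩
    rw [SetLike.mem_coe, hIf, Submodule.mem_sup] at hz
    obtain ⟨a, ha, b, hb, rfl⟩ := hz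
    obtain ⟨r, rfl⟩ := Ideal.mem_span_singleton'.1 hb
    rw [smul_eq_mul, mul_add, mul_left_comm]
    exact add_mem (Ideal.mul_mem_left _ _ ha) (Ideal.mul_mem_left _ _ h)
  have hI𝔠 : ¬ I ≤ 𝔠 := fun h => hlt.not_ge h
  refine ⟨(Groth.Agent.S18865.result K n c hc 𝔠 I h𝔠 hI h𝔠c hI𝔠).1, ?_⟩
  have hcJ : 𝔠 ≤ 𝔠.colon (I : Set (MvPolynomial (Fin (n + 1)) K)) := GrothLib.Gor.le_colon 𝔠 I
  exact GrothLib.LiaisonCM.isGorensteinRing_quot_colon 𝔠 I _ f hIf hcol hcJ (by
    intro P hP
    haveI := hP.1.1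
    have hne : I ≠ ⊤ := fun e => by
      rw [e, Ideal.height_top] at hIc
      exact ENat.top_ne_natCast c hIc
    obtain ⟨g', d, -, hg, -, hP', -⟩ := GrothLib.LiaisonCM.exists_dim hI hne
    have hPc : P.height = c := by
      rw [hP' P (Module.associatedPrimes.minimalPrimes_annihilator_subset_associatedPrimes _ _
        (by rwa [Ideal.annihilator_quotient])), ← hg, hIc]
    haveI : P.FiniteHeight := ⟨Or.inr (by rw [hPc]; exact ENat.natCast_ne_top c)⟩
    exact Ideal.mem_minimalPrimes_of_height_le (hlt.le.trans hP.1.2) (by rw [hPc, h𝔠c]))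

end Groth.Agent.S18868
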