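import Groth.Statements.S18869
import Groth.Agent.Lib.LiaisonCM.SupGraded
import Groth.Agent.Lib.LiaisonCM.DoubleLink

set_option autoImplicit false
universe u
open Liaison

namespace Groth.Agent.S18869

/-- Let K be a field, R = K[x_0, …, x_n] graded by degree, and I₁, I₂ ⊂ R homogeneous ideals of the same
height c such that R/I₁ and R/I₂ are Cohen–Macaulay rings (they define arithmetically Cohen–Macaulay
subschemes of codimension c) and I₁, I₂ have no minimal prime in common (no common component). If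
R/(I₁ ∩ I₂) is a Gorenstein ring (the union is arithmetically Gorenstein), then I₁ + I₂ has height c
+ 1 and R/(I₁ + I₂) is a Gorenstein ring (the intersection is arithmetically Gorenstein of
codimension c + 1). (Arithmetically Gorenstein, in the notes arithmetically Cohen–Macaulay with last
graded Betti number 1, is rendered as: the quotient ring is Gorenstein.) -/
theorem result (K : Type u) [Field K] (n c : ℕ)
    (I₁ I₂ : Ideal (MvPolynomial (Fin (n + 1)) K))
    (hI₁ : I₁.IsHomogeneous (GrSyz.stdGr K (Fin (n + 1)))) (hI₂ : I₂.IsHomogeneous (GrSyz.stdGr K (Fin (n + 1))))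
    [LocCoh.IsCohenMacaulayRing (MvPolynomial (Fin (n + 1)) K ⧸ I₁)] [LocCoh.IsCohenMacaulayRing (MvPolynomial (Fin (n + 1)) K ⧸ I₂)]
    (h₁ : I₁.height = c) (h₂ : I₂.height = c) (hdisj : Disjoint I₁.minimalPrimes I₂.minimalPrimes)
    [LocCoh.IsGorensteinRing (MvPolynomial (Fin (n + 1)) K ⧸ (I₁ ⊓ I₂))] :
    (I₁ ⊔ I₂).height = c + 1 ∧ LocCoh.IsGorensteinRing (MvPolynomial (Fin (n + 1)) K ⧸ (I₁ ⊔ I₂)) := by
  haveI := GrothLib.CatCM.isCohenMacaulayRing_of_isRegularRing (MvPolynomial (Fin (n + 1)) K)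
  have hne : ∀ {I : Ideal (MvPolynomial (Fin (n + 1)) K)}, I.height = c → I ≠ ⊤ := fun h e => by
    rw [e, Ideal.height_top] at h
    exact ENat.top_ne_natCast c h
  have hass : ∀ (I : Ideal (MvPolynomial (Fin (n + 1)) K)) [LocCoh.IsCohenMacaulayRing (MvPolynomial (Fin (n + 1)) K ⧸ I)],
      I.IsHomogeneous (GrSyz.stdGr K (Fin (n + 1))) → I.height = c →
      ∀ P ∈ associatedPrimes (MvPolynomial (Fin (n + 1)) K) (MvPolynomial (Fin (n + 1)) K ⧸ I), P.height = c := by
    intro I _ hI h P hP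
    obtain ⟨g, d, -, hg, -, hP', -⟩ := GrothLib.LiaisonCM.exists_dim hI (hne h)
    rw [hP' P hP, ← hg, h]
  refine GrothLib.LiaisonCM.sup_facts (hass I₁ hI₁ h₁) (hass I₂ hI₂ h₂) hdisj ?_
  intro htop
  refine (GrothLib.LiaisonCM.irr_isMaximal K n).ne_top (top_le_iff.1 (htop ▸ ?_))
  exact sup_le (GrothLib.LiaisonCM.le_irr hI₁ (hne h₁)) (GrothLib.LiaisonCM.le_irr hI₂ (hne h₂))

end Groth.Agent.S18869
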