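import Groth.Statements.S18870
import Mathlib

set_option autoImplicit false
universe u
open Liaison

namespace Groth.Agent.S18870

/-- Let K be a field, R = K[x_0, …, x_n] graded by degree, and J ⊆ I ⊂ R homogeneous ideals with J ≠ 0,
height I = height J + 1 = h + 1 and R/J Cohen–Macaulay; let f ∈ R be homogeneous of degree d with J
: f = J, and put Ĩ = J + fI (the basic double link). Then Ĩ has the same height h + 1 as I. -/
theorem result (K : Type u) [Field K] (n h : ℕ)
    (J I : Ideal (MvPolynomial (Fin (n + 1)) K))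
    (hJ : J.IsHomogeneous (GrSyz.stdGr K (Fin (n + 1)))) (hI : I.IsHomogeneous (GrSyz.stdGr K (Fin (n + 1))))
    (hJ0 : J ≠ ⊥) (hJI : J ≤ I) (hJh : J.height = h) (hIh : I.height = h + 1)
    [LocCoh.IsCohenMacaulayRing (MvPolynomial (Fin (n + 1)) K ⧸ J)]
    (f : MvPolynomial (Fin (n + 1)) K) (d : ℕ) (hf : f ∈ GrSyz.stdGr K (Fin (n + 1)) (d : ℤ)) (hJf : J.colon {f} = J) :
    (J ⊔ Ideal.span {f} * I).height = h + 1 := by
  apply le_antisymm
  · rw [← hIh]
    exact Ideal.height_mono (sup_le hJI Ideal.mul_le_right)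
  rw [Ideal.height_eq_inf_minimalPrimes]
  refine le_iInf₂ fun P hP => ?_
  haveI := hP.1.1
  by_cases hIP : I ≤ P
  · rw [← hIh]
    exact Ideal.height_mono hIP
  have hfP : f ∈ P := by
    obtain ⟨a, haI, haP⟩ := SetLike.not_le_iff_exists.1 hIP
    refine (Ideal.IsPrime.mem_or_mem ‹P.IsPrime› (hP.1.2 (Ideal.mem_sup_right
      (Ideal.mul_mem_mul (Ideal.mem_span_singleton_self f) haI)))).resolve_right haP
  have hJP : J ≤ P := le_sup_left.trans hP.1.2
  obtain ⟨P₀, hP₀, hle⟩ := Ideal.exists_minimalPrimes_le hJP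
  haveI := hP₀.1.1
  have hf₀ : f ∉ P₀ := fun hfP₀ => by
    have hmem : P₀ ∈ associatedPrimes (MvPolynomial (Fin (n + 1)) K) (MvPolynomial (Fin (n + 1)) K ⧸ J) :=
      Module.associatedPrimes.minimalPrimes_annihilator_subset_associatedPrimes _ _
        (by rwa [Ideal.annihilator_quotient])
    obtain ⟨-, x, hx⟩ := isAssociatedPrime_iff.1 hmem
    obtain ⟨x, rfl⟩ := Submodule.Quotient.mk_surjective J x
    rw [hx, Submodule.mem_colon_singleton, Submodule.mem_bot, ← Submodule.Quotient.mk_smul,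
      Submodule.Quotient.mk_eq_zero, smul_eq_mul, mul_comm] at hfP₀
    have hxJ : x ∈ J := by
      rw [← hJf, Submodule.mem_colon_singleton]
      exact hfP₀
    apply hP₀.1.1.ne_top
    rw [hx, (Submodule.Quotient.mk_eq_zero J).2 hxJ, eq_top_iff]
    intro r _
    rw [Submodule.mem_colon_singleton, smul_zero]
    exact zero_mem _
  have hlt : P₀ < P := lt_of_le_of_ne hle fun h => hf₀ (h ▸ hfP)
  have h1 : (h : ℕ∞) ≤ P₀.height := hJh ▸ Ideal.height_mono hP₀.1.2
  exact (add_le_add h1 le_rfl).trans (Ideal.height_add_one_le_of_lt_of_isPrime hlt)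

end Groth.Agent.S18870
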