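import Groth.Statements.S18877
import Groth.Agent.Lib.Chev28.ConnOpen
import Groth.Agent.Lib.ConsLim.LimTop

set_option autoImplicit false
universe u
open Lim

namespace Groth.Agent.S18877

open CategoryTheory AlgebraicGeometry in
/-- Let S = lim S_i be a cofiltered limit of Noetherian schemes with affine transition morphisms, let X₀
→ S_{i₀} be a scheme of finite type over one stage and X → S its base change to the limit. If all
geometric fibres of X → S are connected, then for some stage S_i → S_{i₀} all geometric fibres of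
the base change X₀ ×_{S_{i₀}} S_i → S_i are connected. (Connected is read so as to allow the empty
fibre: the underlying space of each geometric fibre is preconnected; the geometric fibre of X₀
×_{S_{i₀}} S_i over Spec Ω → S_i is written as the pullback of X₀ → S_{i₀} along Spec Ω → S_i →
S_{i₀}.) -/
theorem result {I : Type u} [SmallCategory I] [IsCofiltered I]
    (D : I ⥤ Scheme.{u}) (c : Limits.Cone D) (hc : Limits.IsLimit c)
    [∀ (i j : I) (a : i ⟶ j), IsAffineHom (D.map a)] [∀ i : I, AlgebraicGeometry.IsNoetherian (D.obj i)]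
    (i₀ : I) {X₀ : Scheme.{u}} (f₀ : X₀ ⟶ D.obj i₀) [QuasiCompact f₀] [LocallyOfFiniteType f₀]
    {X : Scheme.{u}} (f : X ⟶ c.pt) (q : X ⟶ X₀) (hX : IsPullback q f f₀ (c.π.app i₀))
    (hconn : ∀ (Ω : Type u) [Field Ω] [IsAlgClosed Ω] (t : Spec (CommRingCat.of Ω) ⟶ c.pt),
      PreconnectedSpace ↥(Limits.pullback f t)) :
    ∃ (i : I) (a : i ⟶ i₀), ∀ (Ω : Type u) [Field Ω] [IsAlgClosed Ω] (t : Spec (CommRingCat.of Ω) ⟶ D.obj i),
      PreconnectedSpace ↥(Limits.pullback f₀ (t ≫ D.map a)) := by
  classical
  haveI : LocallyOfFinitePresentation f₀ := inferInstance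
  haveI : IsLocallyNoetherian X₀ := LocallyOfFiniteType.isLocallyNoetherian f₀
  haveI : QuasiSeparated f₀ := inferInstance
  have hE := GrothLib.Chev28.isLocallyConstructible_conn f₀ (fun n => n ≤ 1)
  have key : ∀ (L : Type u) [Field L] [IsAlgClosed L] (t : Spec (CommRingCat.of L) ⟶ D.obj i₀),
      MoreMor.nGeomConnComp f₀ (GrothLib.GeomRed6.pt t) ≤ 1 ↔ PreconnectedSpace ↥(Limits.pullback f₀ t) := by
    intro L _ _ t
    rw [show MoreMor.nGeomConnComp f₀ (GrothLib.GeomRed6.pt t) = _ from congrArg Prod.snd (GrothLib.GeomComp6.count_geomFiber_eq f₀ t rfl)]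
    show ENat.card (_root_.ConnectedComponents ↥(Limits.pullback f₀ t)) ≤ 1 ↔ _
    rw [ENat.card_le_one_iff_subsingleton]
    refine ⟨fun h => preconnectedSpace_iff_connectedComponent.mpr fun x => Set.eq_univ_of_forall fun y => ?_, fun _ => inferInstance⟩
    exact ConnectedComponents.coe_eq_coe'.mp (Subsingleton.elim _ _)
  obtain ⟨i, a, hi⟩ := GrothLib.ConsLim.exists_stage_forall_mem D c hc i₀
    (GrothLib.Constr.isIndConstructible_of_isLocallyConstructible hE) (fun s => by
      let Ω := AlgebraicClosure (c.pt.residueField s)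
      let t : Spec (CommRingCat.of Ω) ⟶ c.pt :=
        Spec.map (CommRingCat.ofHom (algebraMap (c.pt.residueField s) Ω)) ≫ c.pt.fromSpecResidueField s
      have hpt : GrothLib.GeomRed6.pt (t ≫ c.π.app i₀) = c.π.app i₀ s := by
        show (c.π.app i₀) ((c.pt.fromSpecResidueField s) _) = _
        rw [Scheme.fromSpecResidueField_apply]
      have h := hconn Ω t
      let e : Limits.pullback f₀ (t ≫ c.π.app i₀) ≅ Limits.pullback f t :=
        ((CategoryTheory.IsPullback.of_hasPullback f t).paste_horiz hX).isoPullback.symm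
      haveI : PreconnectedSpace ↥(Limits.pullback f₀ (t ≫ c.π.app i₀)) :=
        e.inv.surjective.denseRange.preconnectedSpace e.inv.continuous
      show MoreMor.nGeomConnComp f₀ (c.π.app i₀ s) ≤ 1
      rw [← hpt, key]
      infer_instance)
  refine ⟨i, a, fun Ω _ _ t => ?_⟩
  exact (key Ω (t ≫ D.map a)).1 (hi _)

end Groth.Agent.S18877
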