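import Groth.Agent.Lib.GrpLim14.ClosedSub
import Groth.Statements.S18878
-- import your own Groth.Agent.* helpers here

set_option autoImplicit false
universe u
open Lim

namespace Groth.Agent.S18878
open CategoryTheory.MonoidalCategory CategoryTheory.CartesianMonoidalCategory in

open CategoryTheory AlgebraicGeometry in
/-- Let S = lim S_i be a cofiltered limit of schemes with affine transition morphisms over a
quasi-compact quasi-separated stage S_{i₀}, let G₀ be a group scheme separated and of finite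
presentation over S_{i₀} and H₀ ⊆ G₀ a closed subscheme whose immersion is of finite presentation,
and write G, H (resp. G_i, H_i) for the base changes to S (resp. to a stage S_i). If H is a closed
subgroup scheme of G, that is H carries a group structure over S for which H → G is a homomorphism,
then H_i is a closed subgroup scheme of G_i for some stage i → i₀; if moreover H is normal in G, the
stage can be chosen so that H_i is normal in G_i. (The published statement is for separated finitely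
presented group algebraic spaces and an arbitrary closed subspace H₀; this row is the case of
schemes and assumes H₀ → G₀ of finite presentation: over the limit Spec k of the spectra of k[x_1,
x_2, …]/(x_1, …, x_n), k of characteristic zero, the closed subscheme of the additive group cut out
by all x_m t^m becomes the whole additive group over Spec k but is a subgroup over no stage, so a
finiteness condition on H₀ is needed, and finite presentation is what the published limit argument
uses.) -/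
theorem result
    {I : Type u} [SmallCategory I] [IsCofiltered I]
    (D : I ⥤ Scheme.{u}) (c : Limits.Cone D) (hc : Limits.IsLimit c)
    [∀ (i j : I) (a : i ⟶ j), IsAffineHom (D.map a)] (i₀ : I)
    [CompactSpace (D.obj i₀)] [QuasiSeparatedSpace (D.obj i₀)]
    (G₀ : Over (D.obj i₀)) [GrpObj G₀] [IsSeparated G₀.hom] [QuasiCompact G₀.hom]
    [LocallyOfFinitePresentation G₀.hom]
    (H₀ : Over (D.obj i₀)) (ι₀ : H₀ ⟶ G₀) [IsClosedImmersion ι₀.left]
    [LocallyOfFinitePresentation ι₀.left]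
    (hH : ∃ _ : GrpObj (Red.bc (c.π.app i₀) H₀), IsMonHom ((Over.pullback (c.π.app i₀)).map ι₀)) :
    (∃ (i : I) (a : i ⟶ i₀) (_ : GrpObj (Red.bc (D.map a) H₀)),
        IsMonHom ((Over.pullback (D.map a)).map ι₀)) ∧
    ((∃ (_ : GrpObj (Red.bc (c.π.app i₀) H₀)) (_ : IsMonHom ((Over.pullback (c.π.app i₀)).map ι₀)),
        AlgGrp.IsNormalHom ((Over.pullback (c.π.app i₀)).map ι₀)) →
      ∃ (i : I) (a : i ⟶ i₀) (_ : GrpObj (Red.bc (D.map a) H₀))
        (_ : IsMonHom ((Over.pullback (D.map a)).map ι₀)),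
        AlgGrp.IsNormalHom ((Over.pullback (D.map a)).map ι₀)) := by
  haveI : Mono ι₀.left := inferInstance
  haveI : Mono ι₀ := Over.mono_of_mono_left ι₀
  haveI : LocallyOfFinitePresentation H₀.hom := by rw [← Over.w ι₀]; infer_instance
  haveI : QuasiCompact H₀.hom := by rw [← Over.w ι₀]; infer_instance
  haveI : QuasiSeparated H₀.hom := by rw [← Over.w ι₀]; infer_instance
  haveI : QuasiCompact (H₀ ⊗ H₀).hom := by rw [Over.tensorObj_hom]; infer_instance
  haveI : QuasiSeparated (H₀ ⊗ H₀).hom := by rw [Over.tensorObj_hom]; infer_instance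
  haveI : QuasiCompact (G₀ ⊗ H₀).hom := by rw [Over.tensorObj_hom]; infer_instance
  haveI : QuasiSeparated (G₀ ⊗ H₀).hom := by rw [Over.tensorObj_hom]; infer_instance
  haveI : QuasiCompact (𝟙_ (Over (D.obj i₀))).hom := inferInstanceAs (QuasiCompact (𝟙 (D.obj i₀)))
  haveI : QuasiSeparated (𝟙_ (Over (D.obj i₀))).hom := inferInstanceAs (QuasiSeparated (𝟙 (D.obj i₀)))
  obtain ⟨hM, hE, hV⟩ := (GrothLib.GrpLim14.exists_grpObj_iff ι₀ _).1 hH
  obtain ⟨k₁, f₁, h₁⟩ := GrothLib.GrpLim14.exists_factors_over D hc ι₀ _ hM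
  obtain ⟨k₂, f₂, h₂⟩ := GrothLib.GrpLim14.exists_factors_over D hc ι₀ _ hE
  obtain ⟨k₃, f₃, h₃⟩ := GrothLib.GrpLim14.exists_factors_over D hc ι₀ _ hV
  obtain ⟨m, a₁, a₂, w₁⟩ := IsCofiltered.cospan f₁ f₂
  obtain ⟨n, b₁, b₃, w₂⟩ := IsCofiltered.cospan (a₁ ≫ f₁) f₃
  have mv : ∀ {k n : I} {f : k ⟶ i₀} (p : n ⟶ k) (q : n ⟶ i₀) {A : Over (D.obj i₀)} {w : A ⟶ G₀},
      GrothLib.GrpLim14.Factors (D.map f) ι₀ w → p ≫ f = q → GrothLib.GrpLim14.Factors (D.map q) ι₀ w :=
    fun p q _ _ h e => h.of_comp ((D.map_comp _ _).symm.trans (congrArg D.map e))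
  let q := b₁ ≫ a₁ ≫ f₁
  have hsub : GrothLib.GrpLim14.IsSubgroupAt ι₀ (D.map q) :=
    ⟨mv (b₁ ≫ a₁) q h₁ (by simp [q]), mv (b₁ ≫ a₂) q h₂ (by simp [q, w₁]), mv b₃ q h₃ w₂.symm⟩
  refine ⟨?_, ?_⟩
  · exact ⟨n, q, (GrothLib.GrpLim14.exists_grpObj_iff ι₀ _).2 hsub⟩
  · rintro ⟨_, _, hN⟩
    obtain ⟨k₄, f₄, h₄⟩ := GrothLib.GrpLim14.exists_factors_over D hc ι₀ _
      ((GrothLib.GrpLim14.normal_iff ι₀ _).1 hN)
    obtain ⟨p, c₁, c₄, w₃⟩ := IsCofiltered.cospan q f₄
    let r := c₁ ≫ q
    obtain ⟨inst, hi⟩ := (GrothLib.GrpLim14.exists_grpObj_iff ι₀ (D.map r)).2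
      ⟨mv c₁ r hsub.1 rfl, mv c₁ r hsub.2.1 rfl, mv c₁ r hsub.2.2 rfl⟩
    exact ⟨p, r, inst, hi, (GrothLib.GrpLim14.normal_iff ι₀ _).2 (mv c₄ r h₄ w₃.symm)⟩

end Groth.Agent.S18878
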