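import Groth.Statements.S18879
import Groth.Agent.Lib.Altitude.Scheme

set_option autoImplicit false
universe u
open CategoryTheory AlgebraicGeometry
open Resolve

namespace Groth.Agent.S18879

/-- Let f : Y ⟶ X be a morphism locally of finite type between Noetherian separated schemes which is
birational: it maps the maximal points of Y bijectively onto the maximal points of X, and over every
maximal point of X its fibre is one point with the same residue field. Then for every point y of Y,
the Krull dimension of the local ring of Y at y is at most the Krull dimension of the local ring of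
X at f y (the codimension of a point does not increase along f). -/
theorem result {X Y : Scheme.{u}} (f : Y ⟶ X)
    [IsNoetherian X] [X.IsSeparated] [IsNoetherian Y] [Y.IsSeparated] [LocallyOfFiniteType f]
    (hf : RadPt.IsBirational f) (y : Y) :
    ringKrullDim (Y.presheaf.stalk y) ≤ ringKrullDim (X.presheaf.stalk (f.base y)) := by
  rw [ringKrullDim, Order.krullDim]
  refine iSup_le fun c => ?_
  obtain ⟨q, hqmin, hqle⟩ := Ideal.exists_minimalPrimes_le (I := (⊥ : Ideal (Y.presheaf.stalk y)))
    (J := c.head.asIdeal) bot_le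
  let q' : Spec (Y.presheaf.stalk y) := ⟨q, hqmin.1.1⟩
  let x : Y := Y.fromSpecStalk y q'
  have h : x ⤳ y := Set.ext_iff.1 Scheme.range_fromSpecStalk x |>.1 ⟨q', rfl⟩
  obtain ⟨U, hU, hyU, -⟩ := exists_isAffineOpen_mem_and_subset (x := y) (U := ⊤) trivial
  have hxU : x ∈ U := h.mem_open U.2 hyU
  have hpr : hU.primeIdealOf ⟨x, hxU⟩ = Spec.map (Y.presheaf.germ U y hyU) q' := by
    haveI := hU.isOpenImmersion_fromSpec
    apply hU.fromSpec.isOpenEmbedding.injective
    rw [hU.fromSpec_primeIdealOf]
    show x = _
    simp only [x, ← hU.fromSpecStalk_eq_fromSpecStalk hyU]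
    rfl
  have hker : RingHom.ker (Cyc.specMap y x h) = q := by
    letI := TopCat.Presheaf.algebra_section_stalk Y.presheaf ⟨y, hyU⟩
    haveI := hU.isLocalization_stalk ⟨y, hyU⟩
    rw [← IsLocalization.map_under (hU.primeIdealOf ⟨y, hyU⟩).asIdeal.primeCompl
        (Y.presheaf.stalk y) (RingHom.ker (Cyc.specMap y x h)),
      ← IsLocalization.map_under (hU.primeIdealOf ⟨y, hyU⟩).asIdeal.primeCompl
        (Y.presheaf.stalk y) q]
    refine congrArg (Ideal.map _) ((GrothLib.Altitude.ker_specMap_comap_germ hU h hyU).trans ?_)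
    rw [hpr]
    rfl
  have hgen : x ∈ genericPoints Y := by
    refine ⟨isIrreducible_singleton.closure, fun S hS hle => ?_⟩
    obtain ⟨z, hz⟩ := QuasiSober.sober hS.closure isClosed_closure
    have hzx : z ⤳ x := hz.specializes (subset_closure (hle (subset_closure rfl)))
    obtain ⟨p, hp⟩ : z ∈ Set.range (Y.fromSpecStalk y) := by
      rw [Scheme.range_fromSpecStalk]; exact hzx.trans h
    have hpq : p ⤳ q' := by
      rw [← (Y.fromSpecStalk y).isEmbedding.toIsInducing.specializes_iff, hp]
      exact hzx
    have hpq' : p = q' := PrimeSpectrum.ext (le_antisymm ((PrimeSpectrum.le_iff_specializes p q').2 hpq)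
      (hqmin.2 ⟨p.isPrime, bot_le⟩ ((PrimeSpectrum.le_iff_specializes p q').2 hpq)))
    have hzx' : z = x := by rw [← hp, hpq']
    intro s hs
    rw [← hzx']
    exact (hz.specializes (subset_closure hs)).mem_closure
  obtain ⟨t, s, a, b, ht, -, ha, hb, hle, -⟩ := GrothLib.Altitude.dim_locQuot_add_trdeg f h
  have ht0 : t = 0 := by
    have hbij := (hf.2 (f x) (hf.1.mapsTo hgen)).2 x rfl
    letI := (f.residueFieldMap x).hom.toAlgebra
    haveI : Algebra.IsAlgebraic (X.residueField (f x)) (Y.residueField x) :=
      ⟨fun r => by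
        obtain ⟨r', rfl⟩ := hbij.2 r
        exact isAlgebraic_algebraMap r'⟩
    exact_mod_cast ht.symm.trans trdeg_eq_zero
  have hca : (c.length : WithBot ℕ∞) ≤ a := by
    rw [← ha]
    show _ ≤ ringKrullDim (Y.presheaf.stalk y ⧸ RingHom.ker (Cyc.specMap y x h))
    rw [hker, ringKrullDim_quotient]
    have hmem : ∀ i, c i ∈ PrimeSpectrum.zeroLocus (q : Set (Y.presheaf.stalk y)) := fun i =>
      (SetLike.coe_subset_coe.2 (hqle.trans (c.head_le i)) : _)
    let c' : LTSeries (PrimeSpectrum.zeroLocus (q : Set (Y.presheaf.stalk y))) :=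
      ⟨c.length, fun i => ⟨c i, hmem i⟩, fun i => c.step i⟩
    exact Order.LTSeries.length_le_krullDim c'
  refine hca.trans (le_trans ?_ (le_of_eq_of_le hb.symm (ringKrullDim_quotient_le _)))
  exact_mod_cast (show a ≤ b by omega)

end Groth.Agent.S18879
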