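import Groth.Statements.S1888
import Groth.Agent.Lib.GrpSchField.GrpdField
import Mathlib.AlgebraicGeometry.Morphisms.ClosedImmersion
-- import your own Groth.Agent.* helpers here

set_option autoImplicit false
universe u
open CategoryTheory CategoryTheory.Limits AlgebraicGeometry
open Grpd

namespace Groth.Agent.S1888

open CategoryTheory.Limits GrothLib.GrpSchField in
/-- Translation by a bisection is an automorphism of the scheme of arrows. -/
theorem exists_translate {S : Scheme.{u}} (G : Grpd.GroupoidScheme S) (σ : G.U ⟶ G.R)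
    (hσ : σ ≫ G.s = 𝟙 G.U) [IsIso (σ ≫ G.t)] : ∃ φ : G.R ≅ G.R, G.e ≫ φ.hom = σ := by
  let a := G.t ≫ σ
  let b := G.t ≫ inv (σ ≫ G.t) ≫ σ
  have ha : a ≫ G.s = 𝟙 G.R ≫ G.t := by simp [a, hσ]
  have hb : (b ≫ G.i) ≫ G.s = 𝟙 G.R ≫ G.t := by simp [b, G.i_s]
  have hb' : b ≫ G.s = G.t ≫ inv (σ ≫ G.t) := by simp [b, hσ]
  let f := cmp G a (𝟙 _) ha
  let g := cmp G (b ≫ G.i) (𝟙 _) hb
  have hft : f ≫ G.t = G.t ≫ σ ≫ G.t := by rw [G.comp_t]; simp [a]
  have hgt : g ≫ G.t = G.t ≫ inv (σ ≫ G.t) := by rw [G.comp_t, Category.assoc, G.i_t, hb']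
  have hfb : f ≫ b = a := by
    show f ≫ G.t ≫ inv (σ ≫ G.t) ≫ σ = G.t ≫ σ
    rw [← Category.assoc f, hft, Category.assoc, IsIso.hom_inv_id_assoc]
  have hga : g ≫ a = b := by simp only [a, reassoc_of% hgt, b]
  refine ⟨⟨f, g, ?_, ?_⟩, ?_⟩
  · have k2 : (a ≫ G.i) ≫ G.s = a ≫ G.t := by rw [Category.assoc, G.i_s]
    have k1 : (a ≫ G.i) ≫ G.s = f ≫ G.t := k2.trans (G.comp_t _ _ ha).symm
    refine (comp_cmp G f _ _ hb).trans ((cmp_congr G _
      ((Category.assoc _ _ _).symm.trans (congrArg (· ≫ G.i) hfb)) (Category.comp_id f)).trans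
      (show cmp G (a ≫ G.i) f k1 = 𝟙 _ from ?_))
    refine (G.assoc (a ≫ G.i) a (𝟙 _) k2 ha).symm.trans ?_
    refine (cmp_congr G _ ((G.i_comp a).trans
      (show a ≫ G.s ≫ G.e = 𝟙 G.R ≫ G.t ≫ G.e by rw [← Category.assoc, ha, Category.assoc])) rfl).trans ?_
    exact G.e_comp (𝟙 _)
  · have k1 : b ≫ G.s = g ≫ G.t := hb'.trans hgt.symm
    have k2 : b ≫ G.s = (b ≫ G.i) ≫ G.t := by rw [Category.assoc b G.i, G.i_t]
    refine (comp_cmp G g _ _ ha).trans ((cmp_congr G _ hga (Category.comp_id g)).trans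
      (show cmp G b g k1 = 𝟙 _ from ?_))
    refine (G.assoc b (b ≫ G.i) (𝟙 _) k2 hb).symm.trans ?_
    have hbt : b ≫ G.t = G.t := by
      show (G.t ≫ inv (σ ≫ G.t) ≫ σ) ≫ G.t = G.t
      rw [Category.assoc, Category.assoc, IsIso.inv_hom_id, Category.comp_id]
    refine (cmp_congr G _ ((G.comp_i b).trans
      (show b ≫ G.t ≫ G.e = 𝟙 G.R ≫ G.t ≫ G.e by rw [reassoc_of% hbt, Category.id_comp])) rfl).trans ?_
    exact G.e_comp (𝟙 _)
  · show G.e ≫ f = σ
    rw [comp_cmp]
    refine (cmp_congr G _ (show G.e ≫ a = σ by simp [a, reassoc_of% G.e_t])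
      (show G.e ≫ 𝟙 G.R = σ ≫ G.s ≫ G.e by simp [reassoc_of% hσ])).trans ?_
    exact G.comp_e σ

/-- Let (U, R, s, t, c) be a groupoid scheme over S with U the spectrum of a field k, and r a point of R
such that both s and t induce isomorphisms from k to κ(r). Then there is an automorphism of the
scheme R carrying the identity point e to r. (The source's automorphism is x ↦ c(r, x); only the
existence of an automorphism moving e to r is stated here.) (A groupoid scheme carries U, R, s, t,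
c, e, i over S with the groupoid axioms on T-points; 'finite locally free' is finite, flat and
locally of finite presentation; C ⊂ Γ(U) is the ring of functions a with s♯(a) = t♯(a) and M = Spec
C.) -/
theorem result (S : Scheme.{u}) (G : Grpd.GroupoidScheme S) (k : Type u) [Field k] (eU : G.U ≅ Spec (CommRingCat.of k)) (r : G.R) (hs : IsIso (G.s.residueFieldMap r)) (ht : IsIso (G.t.residueFieldMap r)) : ∃ φ : G.R ≅ G.R, φ.hom (G.e (eU.inv (IsLocalRing.closedPoint k))) = r := by
  have hsub : Subsingleton G.U := eU.hom.homeomorph.subsingleton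
  have : AlgebraicGeometry.IsReduced G.U := isReduced_of_isOpenImmersion eU.hom
  have hiso : ∀ (f : G.R ⟶ G.U), IsIso (f.residueFieldMap r) →
      IsIso (G.R.fromSpecResidueField r ≫ f) := by
    intro f hf
    rw [← Scheme.Hom.SpecMap_residueFieldMap_fromSpecResidueField]
    have : IsClosedImmersion (G.U.fromSpecResidueField (f r)) :=
      isClosed_singleton_iff_isClosedImmersion.mp (Set.subsingleton_of_subsingleton.isClosed)
    have : Surjective (G.U.fromSpecResidueField (f r)) :=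
      ⟨fun u => ⟨default, Subsingleton.elim _ _⟩⟩
    have := isIso_of_isClosedImmersion_of_surjective (G.U.fromSpecResidueField (f r))
    infer_instance
  have := hiso G.s hs
  have := hiso G.t ht
  let σ := inv (G.R.fromSpecResidueField r ≫ G.s) ≫ G.R.fromSpecResidueField r
  have hσ : σ ≫ G.s = 𝟙 G.U := by simp [σ]
  have : IsIso (σ ≫ G.t) := by
    simp only [σ, Category.assoc]
    infer_instance
  obtain ⟨φ, hφ⟩ := exists_translate G σ hσ
  refine ⟨φ, ?_⟩
  rw [← Scheme.Hom.comp_apply, hφ, Scheme.Hom.comp_apply, Scheme.fromSpecResidueField_apply]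

end Groth.Agent.S1888
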