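import Groth.Statements.S18884
import Mathlib.Algebra.Group.Subgroup.Basic
open CategoryTheory.Limits

set_option autoImplicit false
universe v u w
open CategoryTheory CategoryTheory.Limits
open Desc

namespace Groth.Agent.S18884

/-- Let C be a category with pullbacks equipped with a class W of morphisms, the covers, stable under
base change and under composition. An abelian cosheaf is a functor F : C ⥤ Ab such that for every
cover π : Y ⟶ X the map F(π) is surjective and its kernel is the image of F(p₁) − F(p₂), where p₁,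
p₂ : Y ×_X Y ⟶ Y are the two projections. If D is a full subcategory of C such that every object of
C is the target of a cover whose source lies in D, then the restriction functor from the full
subcategory of abelian cosheaves in C ⥤ Ab to D ⥤ Ab is full and faithful. -/
theorem result {C : Type u} [Category.{v} C]
    [HasPullbacks C] (W : MorphismProperty C) [W.IsStableUnderBaseChange] [W.IsStableUnderComposition]
    (D : ObjectProperty C) (hD : ∀ X : C, ∃ (Y : C) (π : Y ⟶ X), W π ∧ D Y) :
    (ObjectProperty.ι (fun F : C ⥤ AddCommGrpCat.{w} =>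
        ∀ ⦃Y X : C⦄ (π : Y ⟶ X), W π → Function.Surjective (F.map π).hom ∧
          (F.map π).hom.ker = ((F.map (pullback.fst π π)).hom - (F.map (pullback.snd π π)).hom).range) ⋙
      (Functor.whiskeringLeft D.FullSubcategory C AddCommGrpCat.{w}).obj D.ι).Full ∧
    (ObjectProperty.ι (fun F : C ⥤ AddCommGrpCat.{w} =>
        ∀ ⦃Y X : C⦄ (π : Y ⟶ X), W π → Function.Surjective (F.map π).hom ∧
          (F.map π).hom.ker = ((F.map (pullback.fst π π)).hom - (F.map (pullback.snd π π)).hom).range) ⋙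
      (Functor.whiskeringLeft D.FullSubcategory C AddCommGrpCat.{w}).obj D.ι).Faithful := by
  set Pp : ObjectProperty (C ⥤ AddCommGrpCat.{w}) := fun F =>
    ∀ ⦃Y X : C⦄ (π : Y ⟶ X), W π → Function.Surjective (F.map π).hom ∧
      (F.map π).hom.ker = ((F.map (pullback.fst π π)).hom - (F.map (pullback.snd π π)).hom).range with hPp
  choose cY cπ cW cD using hD
  constructor
  swap
  · constructor
    intro F G a b hab
    apply ObjectProperty.hom_ext
    ext X z
    obtain ⟨s, rfl⟩ := (F.property (cπ X) (cW X)).1 z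
    have e : a.hom.app (cY X) = b.hom.app (cY X) := congr_app hab ⟨cY X, cD X⟩
    rw [← ConcreteCategory.comp_apply, ← ConcreteCategory.comp_apply, a.hom.naturality, b.hom.naturality, e]
  · constructor
    intro F G β
    -- `β` on the objects of `D`
    let b : ∀ Y, D Y → (F.obj.obj Y ⟶ G.obj.obj Y) := fun Y hY => β.app ⟨Y, hY⟩
    have bnat : ∀ {Y Y' : C} (hY : D Y) (hY' : D Y') (q : Y ⟶ Y'), F.obj.map q ≫ b Y' hY' = b Y hY ≫ G.obj.map q :=
      fun hY hY' q => β.naturality (X := (⟨_, hY⟩ : D.FullSubcategory)) (Y := ⟨_, hY'⟩) (ObjectProperty.homMk q)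
    -- two maps to a cover become equal after composing with it
    have key : ∀ {X Y Y₁ Y₂ : C} (π : Y ⟶ X) (hY : D Y) (hY₂ : D Y₂) (q : Y₂ ⟶ Y₁) (p₁ p₂ : Y₁ ⟶ Y)
        (_ : p₁ ≫ π = p₂ ≫ π) (s : F.obj.obj Y₂),
        G.obj.map π (b Y hY (F.obj.map p₁ (F.obj.map q s))) = G.obj.map π (b Y hY (F.obj.map p₂ (F.obj.map q s))) := by
      intro X Y Y₁ Y₂ π hY hY₂ q p₁ p₂ e s
      have h1 : (F.obj.map q ≫ F.obj.map p₁) ≫ b Y hY ≫ G.obj.map π = (F.obj.map q ≫ F.obj.map p₂) ≫ b Y hY ≫ G.obj.map π := by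
        rw [← F.obj.map_comp, ← F.obj.map_comp, reassoc_of% (bnat hY₂ hY (q ≫ p₁)), reassoc_of% (bnat hY₂ hY (q ≫ p₂)),
          ← G.obj.map_comp, ← G.obj.map_comp, Category.assoc, Category.assoc, e]
      exact ConcreteCategory.congr_hom h1 s
    have hker : ∀ X, (F.obj.map (cπ X)).hom.ker ≤ (b (cY X) (cD X) ≫ G.obj.map (cπ X)).hom.ker := by
      intro X z hz
      rw [(F.property (cπ X) (cW X)).2] at hz
      obtain ⟨w', rfl⟩ := hz
      obtain ⟨s, rfl⟩ := (F.property (cπ (pullback (cπ X) (cπ X))) (cW _)).1 w'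
      rw [AddMonoidHom.mem_ker, AddMonoidHom.sub_apply, map_sub, sub_eq_zero]
      exact key (cπ X) (cD X) (cD _) (cπ _) _ _ pullback.condition s
    let α : ∀ X, F.obj.obj X ⟶ G.obj.obj X := fun X => AddCommGrpCat.ofHom
      (AddMonoidHom.liftOfRightInverseAux (F.obj.map (cπ X)).hom _ (Function.rightInverse_surjInv (F.property (cπ X) (cW X)).1)
        (b (cY X) (cD X) ≫ G.obj.map (cπ X)).hom (hker X))
    have hα : ∀ X s, α X (F.obj.map (cπ X) s) = G.obj.map (cπ X) (b (cY X) (cD X) s) := fun X s =>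
      AddMonoidHom.liftOfRightInverseAux_comp_apply (F.obj.map (cπ X)).hom _
        (Function.rightInverse_surjInv (F.property (cπ X) (cW X)).1) _ (hker X) s
    have nat : ∀ {X X' : C} (φ : X ⟶ X') (z : F.obj.obj X), α X' (F.obj.map φ z) = G.obj.map φ (α X z) := by
      intro X X' φ z
      let p := pullback.fst (cπ X ≫ φ) (cπ X')
      have hp : W (cπ _ ≫ p) := W.comp_mem _ _ (cW _) (W.pullback_fst _ _ (cW X'))
      obtain ⟨y, rfl⟩ := (F.property (cπ X) (cW X)).1 z
      obtain ⟨s, rfl⟩ := (F.property (cπ _ ≫ p) hp).1 y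
      let r := cπ (pullback (cπ X ≫ φ) (cπ X')) ≫ pullback.snd (cπ X ≫ φ) (cπ X')
      have hr : (cπ _ ≫ p) ≫ cπ X ≫ φ = r ≫ cπ X' := by simp [r, p, pullback.condition]
      have e1 : F.obj.map φ (F.obj.map (cπ X) (F.obj.map (cπ _ ≫ p) s)) = F.obj.map (cπ X') (F.obj.map r s) := by
        rw [← ConcreteCategory.comp_apply, ← ConcreteCategory.comp_apply, ← ConcreteCategory.comp_apply,
          ← F.obj.map_comp, ← F.obj.map_comp, ← F.obj.map_comp, hr]
      refine ((congrArg (α X') e1).trans (hα X' _)).trans ?_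
      refine Eq.trans ?_ (congrArg (G.obj.map φ) (hα X _)).symm
      have e2 : (F.obj.map r ≫ b _ (cD X')) ≫ G.obj.map (cπ X') =
          (F.obj.map (cπ _ ≫ p) ≫ b _ (cD X)) ≫ G.obj.map (cπ X) ≫ G.obj.map φ := by
        rw [bnat (cD _) (cD X') r, bnat (cD _) (cD X) (cπ _ ≫ p), Category.assoc, Category.assoc,
          ← G.obj.map_comp, ← G.obj.map_comp, ← G.obj.map_comp, hr]
      exact ConcreteCategory.congr_hom e2 s
    refine ⟨ObjectProperty.homMk { app := α, naturality := fun X X' φ => by ext z; exact nat φ z }, ?_⟩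
    ext Z z
    obtain ⟨s, rfl⟩ := (F.property (cπ Z.obj) (cW Z.obj)).1 z
    exact (hα Z.obj s).trans (ConcreteCategory.congr_hom (bnat (cD Z.obj) Z.property (cπ Z.obj)) s).symm

end Groth.Agent.S18884
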