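import Groth.Statements.S18887
import Mathlib.RingTheory.Norm.Defs
import Mathlib.LinearAlgebra.Matrix.Charpoly.Coeff
import Mathlib.LinearAlgebra.Dimension.FreeAndStrongRankCondition
import Mathlib.Tactic.LinearCombination

set_option autoImplicit false
universe u v
open DblCov

namespace Groth.Agent.S18887

/-- Let A be a commutative ring in which 2 is invertible and B a commutative A-algebra which is free of
rank 2 as an A-module and whose trace form tr : B → A has kernel free of rank 1 over A. Then σ(b) =
tr(b) − b defines an A-algebra endomorphism σ of B with σ ≠ id and σ ∘ σ = id, and the elements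
fixed by σ are exactly the image of A in B. -/
theorem result {A : Type u} {B : Type v} [CommRing A] [CommRing B]
    [Algebra A B] (h2 : IsUnit (2 : A)) [Module.Free A B] [Module.Finite A B]
    (hrk : Module.finrank A B = 2)
    [Module.Free A (LinearMap.ker (Algebra.trace A B))]
    (hker : Module.finrank A (LinearMap.ker (Algebra.trace A B)) = 1) :
    ∃ σ : B →ₐ[A] B, (∀ b : B, σ b = algebraMap A B (Algebra.trace A B b) - b) ∧
      σ ≠ AlgHom.id A B ∧ σ.comp σ = AlgHom.id A B ∧
      ∀ b : B, σ b = b ↔ b ∈ Set.range (algebraMap A B) := by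
  classical
  have : Nontrivial A := by
    by_contra h
    rw [not_nontrivial_iff_subsingleton] at h
    rw [Module.finrank_subsingleton] at hrk
    omega
  obtain ⟨h, hh⟩ := h2.exists_left_inv
  have h2B : algebraMap A B h * 2 = 1 := by rw [← map_ofNat (algebraMap A B) 2, ← map_mul, hh, map_one]
  set tr := Algebra.trace A B
  have htr : ∀ x : A, tr (algebraMap A B x) = x + x := fun x => by
    rw [Algebra.trace_algebraMap, hrk, two_smul]
  have : Module.Finite A (LinearMap.ker tr) := Module.finite_of_finrank_eq_succ hker
  let kb := Module.finBasisOfFinrankEq A (LinearMap.ker tr) hker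
  set d : B := (kb 0 : B)
  have hd : tr d = 0 := (kb 0).2
  have hdec : ∀ b : B, ∃ y : A, b = algebraMap A B (h * tr b) + y • d := fun b => by
    have hk : b - algebraMap A B (h * tr b) ∈ LinearMap.ker tr := by
      rw [LinearMap.mem_ker, map_sub, htr]
      linear_combination -(tr b) * hh
    refine ⟨kb.repr ⟨_, hk⟩ 0, ?_⟩
    have := congrArg Subtype.val (kb.sum_repr ⟨_, hk⟩)
    rw [Fin.sum_univ_one] at this
    rw [show kb.repr ⟨_, hk⟩ 0 • d = b - algebraMap A B (h * tr b) from this]
    ring
  obtain ⟨N, hN⟩ : ∃ N : A, d * d = algebraMap A B N := by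
    let bb := Module.finBasisOfFinrankEq A B hrk
    set M := Algebra.leftMulMatrix bb d with hM
    have ht : M 0 0 + M 1 1 = 0 := by
      rw [← hd, show tr d = _ from Algebra.trace_eq_matrix_trace bb d, Matrix.trace_fin_two]
    refine ⟨-M.det, Algebra.leftMulMatrix_injective bb ?_⟩
    rw [map_mul, AlgHom.commutes, ← hM]
    ext i j
    fin_cases i <;> fin_cases j <;>
      simp [Matrix.mul_apply, Fin.sum_univ_two, Matrix.det_fin_two, Matrix.algebraMap_matrix_apply]
    · linear_combination (M 0 0) * ht
    · linear_combination (M 0 1) * ht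
    · linear_combination (M 1 0) * ht
    · linear_combination (M 1 1) * ht
  have hs : ∀ (x y : A), tr (algebraMap A B x + y • d) = x + x := fun x y => by
    rw [map_add, map_smul, hd, smul_zero, add_zero, htr]
  let σ₀ : B → B := fun b => algebraMap A B (tr b) - b
  have hσ : ∀ (x y : A), σ₀ (algebraMap A B x + y • d) = algebraMap A B x - y • d := fun x y => by
    show algebraMap A B (tr _) - _ = _
    rw [hs, map_add]; ring
  let σ : B →ₐ[A] B :=
    { toFun := σ₀
      map_one' := by
        show algebraMap A B (tr 1) - 1 = 1
        rw [← map_one (algebraMap A B), htr, map_one, map_add, map_one]; ring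
      map_mul' := fun b c => by
        obtain ⟨y, hy⟩ := hdec b
        obtain ⟨w, hw⟩ := hdec c
        have hbc : b * c = algebraMap A B (h * tr b * (h * tr c) + y * w * N) + (h * tr b * w + y * (h * tr c)) • d := by
          conv_lhs => rw [hy, hw]
          simp only [Algebra.smul_def, map_add, map_mul]
          linear_combination algebraMap A B y * algebraMap A B w * hN
        rw [hbc, hσ]
        conv_rhs => rw [hy, hw, hσ, hσ]
        simp only [Algebra.smul_def, map_add, map_mul]
        linear_combination -(algebraMap A B y * algebraMap A B w) * hN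
      map_zero' := by show algebraMap A B (tr 0) - 0 = 0; simp
      map_add' := fun b c => by show algebraMap A B (tr _) - _ = _; simp [σ₀]; ring
      commutes' := fun x => by show algebraMap A B (tr _) - _ = _; rw [htr, map_add]; ring }
  refine ⟨σ, fun b => rfl, fun hid => ?_, AlgHom.ext fun b => ?_, fun b => ⟨fun hb => ?_, ?_⟩⟩
  · have h0 : σ₀ d = d := AlgHom.congr_fun hid d
    have h1 : algebraMap A B (tr d) - d = d := h0
    rw [hd, map_zero, zero_sub] at h1
    have h3 : d = 0 := by
      calc d = (algebraMap A B h * 2) * d := by rw [h2B, one_mul]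
        _ = algebraMap A B h * (d + d) := by ring
        _ = 0 := by nth_rw 1 [← h1]; rw [neg_add_cancel, mul_zero]
    exact kb.ne_zero 0 (Subtype.ext h3)
  · obtain ⟨y, hy⟩ := hdec b
    show σ₀ (σ₀ b) = b
    rw [hy]
    generalize h * tr b = x
    rw [hσ, sub_eq_add_neg, ← neg_smul, hσ, neg_smul, sub_neg_eq_add]
  · refine ⟨h * tr b, ?_⟩
    have h1 : algebraMap A B (tr b) - b = b := hb
    rw [map_mul]
    calc algebraMap A B h * algebraMap A B (tr b) = algebraMap A B h * 2 * b := by
          linear_combination algebraMap A B h * h1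
      _ = b := by rw [h2B, one_mul]
  · rintro ⟨x, rfl⟩
    exact σ.commutes x

end Groth.Agent.S18887
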