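import Groth.Statements.S18888
import Mathlib
-- import your own Groth.Agent.* helpers here

set_option autoImplicit false
universe u v w
open CAlg

namespace Groth.Agent.S18888

/-- Let A be a unique factorisation domain in which 2 is invertible, with fraction field K, and let L ⊇
K be a quadratic extension field (of degree 2 over K) containing an element y ∉ K whose square is a
squarefree element d of A. Then the integral closure of A in L equals the A-subalgebra A[y]
generated by y. -/
theorem result {A : Type u} {K : Type v} {L : Type w}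
    [CommRing A] [IsDomain A] [UniqueFactorizationMonoid A] [Field K] [Algebra A K] [IsFractionRing A K]
    [Field L] [Algebra K L] [Algebra A L] [IsScalarTower A K L]
    (h2 : IsUnit (2 : A)) (hL : Module.finrank K L = 2)
    (d : A) (hd : Squarefree d) (y : L) (hy : y * y = algebraMap A L d)
    (hyK : y ∉ Set.range (algebraMap K L)) :
    integralClosure A L = Algebra.adjoin A {y} := by
  have hKL : Function.Injective (algebraMap K L) := (algebraMap K L).injective
  have hAK : Function.Injective (algebraMap A K) := IsFractionRing.injective A K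
  set δ := algebraMap A K d with hδ
  have hyd : y * y = algebraMap K L δ := by rw [hy, hδ, ← IsScalarTower.algebraMap_apply]
  have hyint : IsIntegral A y :=
    ⟨Polynomial.X ^ 2 - Polynomial.C d, Polynomial.monic_X_pow_sub_C _ two_ne_zero, by simp [sq, hy]⟩
  refine le_antisymm (fun x hx => ?_) (Algebra.adjoin_le (Set.singleton_subset_iff.2 hyint))
  have : FiniteDimensional K L := FiniteDimensional.of_finrank_eq_succ hL
  have hli : LinearIndependent K ![1, y] := by
    rw [LinearIndependent.pair_iff' one_ne_zero]
    intro a ha
    exact hyK ⟨a, by rw [Algebra.algebraMap_eq_smul_one, ha]⟩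
  have hspan := hli.span_eq_top_of_card_eq_finrank (by simp [hL])
  obtain ⟨a, b, hab⟩ : ∃ a b : K, a • (1 : L) + b • y = x := by
    rw [← Submodule.mem_span_pair, ← Matrix.range_cons_cons_empty, hspan]
    trivial
  have hxA : IsIntegral A x := hx
  suffices h : (∃ a', algebraMap A K a' = a) ∧ ∃ b', algebraMap A K b' = b by
    obtain ⟨⟨a', rfl⟩, b', rfl⟩ := h
    rw [← hab]
    simp only [algebraMap_smul]
    exact add_mem (Subalgebra.smul_mem _ (one_mem _) a') (Subalgebra.smul_mem _ (Algebra.self_mem_adjoin_singleton A y) b')
  have hicl : IsIntegrallyClosed A := inferInstance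
  by_cases hb : b = 0
  · subst hb
    rw [zero_smul, add_zero, ← Algebra.algebraMap_eq_smul_one] at hab
    refine ⟨IsIntegrallyClosed.isIntegral_iff.1 ((isIntegral_algHom_iff (IsScalarTower.toAlgHom A K L) hKL).1 ?_),
      0, map_zero _⟩
    rwa [IsScalarTower.toAlgHom_apply, hab]
  · have hq : minpoly K x = Polynomial.X ^ 2 + Polynomial.C (-2 * a) * Polynomial.X + Polynomial.C (a ^ 2 - b ^ 2 * δ) := by
      refine (minpoly.unique' K x (by monicity!) ?_ fun q hq => ?_).symm
      · rw [← hab]
        simp [Algebra.smul_def, map_ofNat]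
        linear_combination (algebraMap K L b ^ 2) * hyd
      · refine or_iff_not_imp_left.2 fun hq0 hqx => ?_
        have hdeg : q.degree < 2 := lt_of_lt_of_le hq (by compute_degree!)
        rw [Polynomial.eq_X_add_C_of_degree_le_one (Order.le_of_lt_succ hdeg : q.degree ≤ 1)] at hqx hq0
        rw [← hab] at hqx
        simp only [map_add, map_mul, Polynomial.aeval_C, Polynomial.aeval_X] at hqx
        have := Fintype.linearIndependent_iff.1 hli ![q.coeff 1 * a + q.coeff 0, q.coeff 1 * b] (by
          rw [Fin.sum_univ_two]
          simp only [Matrix.cons_val_zero, Matrix.cons_val_one, Algebra.smul_def, map_add, map_mul, mul_one] at hqx ⊢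
          linear_combination hqx)
        have h1 : q.coeff 1 = 0 := by simpa [hb] using this 1
        have h0 : q.coeff 0 = 0 := by simpa [h1] using this 0
        simp [h1, h0] at hq0
    rw [minpoly.isIntegrallyClosed_eq_field_fractions' K hxA] at hq
    have c1 := congrArg (fun q => Polynomial.coeff q 1) hq
    have c0 := congrArg (fun q => Polynomial.coeff q 0) hq
    simp [Polynomial.coeff_map, Polynomial.coeff_X, Polynomial.coeff_C, ← map_pow] at c1 c0
    obtain ⟨i, hi⟩ := h2.exists_left_inv
    have hi' : algebraMap A K i * 2 = 1 := by rw [← map_ofNat (algebraMap A K) 2, ← map_mul, hi, map_one]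
    obtain ⟨a', ha⟩ : ∃ a', algebraMap A K a' = a :=
      ⟨-(i * (minpoly A x).coeff 1), by rw [map_neg, map_mul, c1]; linear_combination a * hi'⟩
    refine ⟨⟨a', ha⟩, ?_⟩
    obtain ⟨m, n, hcop, hmn⟩ := IsFractionRing.exists_reduced_fraction (A := A) b
    have hn0 : algebraMap A K (n : A) ≠ 0 :=
      (map_ne_zero_iff _ hAK).2 (nonZeroDivisors.ne_zero n.2)
    have hbn : b * algebraMap A K n = algebraMap A K m := by
      rw [← hmn, IsLocalization.mk'_spec]
    have hdvd : (n : A) ^ 2 ∣ m ^ 2 * d := ⟨a' ^ 2 - (minpoly A x).coeff 0, hAK (by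
      simp only [map_mul, map_pow, map_sub, c0, ha, ← hbn, ← hδ]
      ring)⟩
    have hnu : IsUnit (n : A) := hd _ (by
      rw [← sq]
      exact (hcop.symm.pow (m := 2) (n := 2)).dvd_of_dvd_mul_left hdvd)
    obtain ⟨j, hj⟩ := hnu.exists_left_inv
    refine ⟨j * m, ?_⟩
    rw [map_mul, ← hbn, mul_comm b, ← mul_assoc, ← map_mul, hj, map_one, one_mul]

end Groth.Agent.S18888
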