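import Groth.Statements.S18889
import Mathlib

set_option autoImplicit false
universe u v w
open CAlg

namespace Groth.Agent.S18889

/-- Let R be a commutative ring, A a commutative R-algebra of finite presentation, and G a finite group
acting on A by R-algebra automorphisms such that the order of G is invertible in R. Then the ring of
invariants A^G is an R-algebra of finite presentation. (The source takes G to be a group of
automorphisms of A; here G acts through a possibly non-faithful action, which changes nothing since
the invariants and the invertibility of the order only depend on the image of G.) -/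
theorem result {R : Type u} {A : Type v} [CommRing R] [CommRing A]
    [Algebra R A] [Algebra.FinitePresentation R A]
    {G : Type w} [Group G] [Finite G] [MulSemiringAction G A] [SMulCommClass G R A]
    (hG : IsUnit ((Nat.card G : ℕ) : R)) :
    Algebra.FinitePresentation R (FixedPoints.subalgebra R A G) := by
  classical
  cases nonempty_fintype G
  let S := FixedPoints.subalgebra R A G
  have hS : ∀ {a : A}, a ∈ S ↔ ∀ g : G, g • a = a := Iff.rfl
  obtain ⟨gens, hgens⟩ : (⊤ : Subalgebra R A).FG := Algebra.FiniteType.out
  -- coefficients of the orbit polynomials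
  let T : Finset A := gens.biUnion fun x =>
    (Finset.range (Fintype.card G + 1)).image fun n => (MulSemiringAction.charpoly G x).coeff n
  have hT : ∀ a ∈ T, a ∈ S := by
    intro a ha g
    obtain ⟨x, -, ha⟩ := Finset.mem_biUnion.1 ha
    obtain ⟨n, -, rfl⟩ := Finset.mem_image.1 ha
    exact MulSemiringAction.smul_coeff_charpoly x n g
  let ψ : MvPolynomial (Fin T.card) R →ₐ[R] S :=
    MvPolynomial.aeval fun t => (⟨(T.equivFin.symm t).1, hT _ (T.equivFin.symm t).2⟩ : S)
  letI : Algebra (MvPolynomial (Fin T.card) R) S := ψ.toRingHom.toAlgebra
  letI : Algebra (MvPolynomial (Fin T.card) R) A := (S.val.comp ψ).toRingHom.toAlgebra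
  haveI : IsScalarTower R (MvPolynomial (Fin T.card) R) S :=
    IsScalarTower.of_algebraMap_eq fun r => (ψ.commutes r).symm
  haveI : IsScalarTower R (MvPolynomial (Fin T.card) R) A :=
    IsScalarTower.of_algebraMap_eq fun r => ((S.val.comp ψ).commutes r).symm
  haveI : Algebra.FinitePresentation (MvPolynomial (Fin T.card) R) A :=
    Algebra.FinitePresentation.of_restrict_scalars_finitePresentation R _ A
  haveI : Module.Finite (MvPolynomial (Fin T.card) R) A := by
    haveI : Algebra.IsIntegral (MvPolynomial (Fin T.card) R) A := by
      refine ⟨fun a => ?_⟩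
      have hle : (⊤ : Subalgebra R A) ≤
          (integralClosure (MvPolynomial (Fin T.card) R) A).restrictScalars R := by
        rw [← hgens, Algebra.adjoin_le_iff]
        intro x hx
        show IsIntegral _ x
        have hcard : (MulSemiringAction.charpoly G x).natDegree ≤ Fintype.card G := by
          rw [MulSemiringAction.charpoly_eq_prod_smul]
          refine (Polynomial.natDegree_prod_le _ _).trans ?_
          refine (Finset.sum_le_card_nsmul _ _ 1 fun g _ => ?_).trans (by simp)
          rw [Polynomial.smul_eq_map, Polynomial.map_sub, Polynomial.map_X, Polynomial.map_C]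
          exact Polynomial.natDegree_X_sub_C_le _
        have hlift : MulSemiringAction.charpoly G x ∈
            Polynomial.lifts (algebraMap (MvPolynomial (Fin T.card) R) A) := by
          rw [Polynomial.lifts_iff_coeff_lifts]
          intro n
          rcases le_or_gt n (Fintype.card G) with hn | hn
          · have hmem : (MulSemiringAction.charpoly G x).coeff n ∈ T :=
              Finset.mem_biUnion.2 ⟨x, hx, Finset.mem_image.2
                ⟨n, Finset.mem_range.2 (by omega), rfl⟩⟩
            refine ⟨MvPolynomial.X (T.equivFin ⟨_, hmem⟩), ?_⟩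
            show S.val (ψ _) = _
            simp [ψ]
          · rw [Polynomial.coeff_eq_zero_of_natDegree_lt (lt_of_le_of_lt hcard hn)]
            exact ⟨0, map_zero _⟩
        obtain ⟨p, hp1, -, hp2⟩ := Polynomial.lifts_and_natDegree_eq_and_monic hlift
          (MulSemiringAction.monic_charpoly G x)
        exact ⟨p, hp2, by rw [← Polynomial.eval_map, hp1, MulSemiringAction.eval_charpoly]⟩
      exact hle Algebra.mem_top
    haveI : Algebra.FiniteType (MvPolynomial (Fin T.card) R) A := inferInstance
    exact Algebra.IsIntegral.finite
  haveI : Module.FinitePresentation (MvPolynomial (Fin T.card) R) A :=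
    Module.FinitePresentation.of_finite_of_finitePresentation _ A
  -- the Reynolds operator
  obtain ⟨u, hu⟩ := hG
  let ρ₀ : A → A := fun a => (↑u⁻¹ : R) • ∑ g : G, g • a
  have hρ₀ : ∀ a, ρ₀ a ∈ S := fun a => by
    rw [hS]; intro g
    simp only [ρ₀, smul_comm g, Finset.smul_sum, smul_smul]
    exact Fintype.sum_equiv (Equiv.mulLeft g) _ _ fun h => rfl
  have hρid : ∀ a ∈ S, ρ₀ a = a := fun a ha => by
    simp only [ρ₀, hS.1 ha, Finset.sum_const, Finset.card_univ]
    rw [← Nat.cast_smul_eq_nsmul R, smul_smul, ← Nat.card_eq_fintype_card, ← hu, Units.inv_mul,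
      one_smul]
  let ρ : A →ₗ[MvPolynomial (Fin T.card) R] S :=
    { toFun := fun a => ⟨ρ₀ a, hρ₀ a⟩
      map_add' := fun a b => Subtype.ext (by simp [ρ₀, Finset.sum_add_distrib])
      map_smul' := fun q a => Subtype.ext (by
        show ρ₀ (S.val (ψ q) * a) = S.val (ψ q) * ρ₀ a
        simp only [ρ₀, smul_mul', hS.1 (ψ q).2, Subalgebra.coe_val, ← Finset.mul_sum,
          mul_smul_comm]) }
  haveI : Module.FinitePresentation (MvPolynomial (Fin T.card) R) S := by
    refine Module.finitePresentation_of_surjective ρ (fun s => ⟨s, Subtype.ext (hρid _ s.2)⟩) ?_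
    let ι : S →ₗ[MvPolynomial (Fin T.card) R] A :=
      { toFun := Subtype.val, map_add' := fun _ _ => rfl, map_smul' := fun _ _ => rfl }
    have : LinearMap.ker ρ = LinearMap.range (LinearMap.id - ι.comp ρ) := by
      ext a
      constructor
      · intro ha
        exact ⟨a, by simp [LinearMap.mem_ker.1 ha]⟩
      · rintro ⟨b, rfl⟩
        rw [LinearMap.mem_ker, LinearMap.sub_apply, map_sub, sub_eq_zero]
        exact (Subtype.ext (hρid _ (ρ b).2)).symm
    rw [this]
    exact Module.Finite.iff_fg.1 inferInstance
  haveI : Algebra.FinitePresentation (MvPolynomial (Fin T.card) R) S :=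
    Algebra.FinitePresentation.of_finitePresentation _ _
  exact Algebra.FinitePresentation.trans R (MvPolynomial (Fin T.card) R) S

end Groth.Agent.S18889
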