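import Groth.Statements.S18890
import Mathlib
-- import your own Groth.Agent.* helpers here

set_option autoImplicit false
universe u v w w'
open CAlg

namespace Groth.Agent.S18890

/-- Let R be a commutative ring, G a finite group whose order is invertible in R, M an R-module with an
R-linear action ρ of G and N an arbitrary R-module. Then the natural map M^G ⊗_R N → M ⊗_R N induced
by the inclusion of the invariants is injective, and its image is the submodule of invariants of M
⊗_R N under the action ρ ⊗ 1 (G acting on the first factor). (The source lets G be a group of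
R-automorphisms of M; a possibly non-faithful linear action changes nothing.) -/
theorem result {R : Type u} [CommRing R]
    {G : Type v} [Group G] [Finite G] (hG : IsUnit ((Nat.card G : ℕ) : R))
    {M : Type w} {N : Type w'} [AddCommGroup M] [Module R M] [AddCommGroup N] [Module R N]
    (ρ : Representation R G M) :
    Function.Injective (LinearMap.rTensor N ρ.invariants.subtype) ∧
      LinearMap.range (LinearMap.rTensor N ρ.invariants.subtype) =
        (ρ.tprod (Representation.trivial R G N)).invariants := by
  have := Fintype.ofFinite G
  rw [Nat.card_eq_fintype_card] at hG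
  letI := hG.invertible
  let e : M →ₗ[R] ρ.invariants :=
    LinearMap.codRestrict ρ.invariants ρ.averageMap ρ.averageMap_invariant
  have he : e ∘ₗ ρ.invariants.subtype = LinearMap.id := by
    ext v
    exact ρ.averageMap_id v v.2
  set σ := ρ.tprod (Representation.trivial R G N) with hσ
  have hσg : ∀ g : G, σ g = (ρ g).rTensor N := fun g => by
    rw [hσ, Representation.tprod_apply]
    rfl
  refine ⟨Function.LeftInverse.injective (g := e.rTensor N) fun z => ?_, le_antisymm ?_ fun z hz => ?_⟩
  · rw [← LinearMap.comp_apply, ← LinearMap.rTensor_comp, he, LinearMap.rTensor_id, LinearMap.id_apply]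
  · rintro _ ⟨z, rfl⟩ g
    rw [hσg, ← LinearMap.comp_apply, ← LinearMap.rTensor_comp,
      show ρ g ∘ₗ ρ.invariants.subtype = ρ.invariants.subtype from LinearMap.ext fun v => v.2 g]
  · refine ⟨e.rTensor N z, ?_⟩
    rw [← LinearMap.comp_apply, ← LinearMap.rTensor_comp, LinearMap.subtype_comp_codRestrict]
    have : ρ.averageMap = (⅟(Fintype.card G : R)) • ∑ g : G, ρ g := by
      simp [GroupAlgebra.average, map_sum]
    rw [this, LinearMap.rTensor_smul, LinearMap.smul_apply]
    have hsum : (∑ g : G, ρ g).rTensor N z = (Fintype.card G : R) • z := by
      rw [← LinearMap.coe_rTensorHom, map_sum, LinearMap.sum_apply]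
      simp only [LinearMap.coe_rTensorHom, ← hσg, fun g => hz g]
      rw [Finset.sum_congr rfl fun g _ => hz g, Finset.sum_const, Finset.card_univ, Nat.cast_smul_eq_nsmul]
    rw [hsum, smul_smul, invOf_mul_self, one_smul]

end Groth.Agent.S18890
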