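import Groth.Statements.S18892
import Groth.Agent.Lib.CurveMult.InvolutionCurve
import Groth.Agent.Lib.CurveRR.Setup

set_option autoImplicit false
universe u
open CategoryTheory CategoryTheory.Limits AlgebraicGeometry
open Curves

namespace Groth.Agent.S18892

set_option backward.isDefEq.respectTransparency false


/-- Let k be an algebraically closed field of characteristic different from 2 and X a hyperelliptic
curve over k, i.e. p : X → Spec k is smooth and proper, X is connected of dimension one and of genus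
dim_k H¹(X, O_X) ≥ 2, and X admits a double cover of P¹_k (a k-morphism which is finite and flat of
rank 2 at every point). A hyperelliptic involution is a k-endomorphism σ ≠ id of X with σ ≫ h = h
for some such double cover h. Then any two hyperelliptic involutions of X coincide. -/
theorem result (k : Type u) [Field k] [IsAlgClosed k] (h2 : (2 : k) ≠ 0)
    {X : Scheme.{u}} (p : X ⟶ Spec (CommRingCat.of k)) [IsProper p] [Smooth p] [ConnectedSpace ↥X]
    (hX : topologicalKrullDim ↥X = 1) (hg : 2 ≤ @Curv2.genus k _ X ⟨p⟩)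
    (h₁ h₂ : X ⟶ CohB1.ProjSpace 1 k) (hh₁ : h₁ ≫ CohB1.ProjSpace.toSpec 1 k = p)
    (hh₂ : h₂ ≫ CohB1.ProjSpace.toSpec 1 k = p)
    [IsFinite h₁] [Flat h₁] (hr₁ : ∀ y : ↥(CohB1.ProjSpace 1 k), h₁.finrank y = 2)
    [IsFinite h₂] [Flat h₂] (hr₂ : ∀ y : ↥(CohB1.ProjSpace 1 k), h₂.finrank y = 2)
    (σ τ : X ⟶ X) (hσ : σ ≫ h₁ = h₁) (hσ₁ : σ ≠ 𝟙 X) (hτ : τ ≫ h₂ = h₂) (hτ₁ : τ ≠ 𝟙 X) :
    σ = τ := by
  letI : X.Over (Spec (CommRingCat.of k)) := ⟨p⟩
  haveI : IsProper (X ↘ Spec (CommRingCat.of k)) := ‹IsProper p›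
  haveI : Smooth (X ↘ Spec (CommRingCat.of k)) := ‹Smooth p›
  haveI := GrothLib.Euler.isIntegral_of_smooth_connected k p
  haveI : GrothLib.CurveRR.RegCurve X := GrothLib.CurveRR.regCurve_of_smooth p hX
  have h0 := GrothLib.CurveRR.finrank_H0_structure_eq_one k (X := X)
  have hF := GrothLib.CurveRR.isFunctionField k h0
  have hg' : 2 ≤ FunFld.genus k X.functionField := by rw [← GrothLib.CurveRR.genus_eq k h0]; exact hg
  have hσp : σ ≫ (X ↘ Spec (CommRingCat.of k)) = X ↘ Spec (CommRingCat.of k) := by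
    show σ ≫ p = p
    rw [← hh₁, ← Category.assoc, hσ]
  have hτp : τ ≫ (X ↘ Spec (CommRingCat.of k)) = X ↘ Spec (CommRingCat.of k) := by
    show τ ≫ p = p
    rw [← hh₂, ← Category.assoc, hτ]
  have eσ := GrothLib.CurveMult.InvolutionCurve.genericPoint_of_comp h₁ hh₁ hσ
  have eτ := GrothLib.CurveMult.InvolutionCurve.genericPoint_of_comp h₂ hh₂ hτ
  obtain ⟨x, hx, hxf⟩ := GrothLib.CurveMult.InvolutionCurve.exists_double_function h₁ hh₁ hr₁
  obtain ⟨x', hx', hxf'⟩ := GrothLib.CurveMult.InvolutionCurve.exists_double_function h₂ hh₂ hr₂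
  have heq := GrothLib.FunFld.rational_subfield_unique hF hg' x x' hx hx'
  let φ := GrothLib.CurveMult.InvolutionCurve.funHom eσ hσp
  let φ' := GrothLib.CurveMult.InvolutionCurve.funHom eτ hτp
  have hne : ∀ (f : X ⟶ X) (e : f (genericPoint X) = genericPoint X)
      (hf : f ≫ (X ↘ Spec (CommRingCat.of k)) = X ↘ Spec (CommRingCat.of k)), f ≠ 𝟙 X →
      GrothLib.CurveMult.InvolutionCurve.funHom e hf ≠ AlgHom.id k X.functionField := fun f e hf hf1 h => hf1 (by
    refine GrothLib.CurveMult.InvolutionCurve.eq_of_ψ_eq p (by rw [Category.id_comp]; exact hf) e rfl ?_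
    rw [GrothLib.CurveMult.InvolutionCurve.ψ_id rfl]
    exact RingHom.ext fun z => DFunLike.congr_fun h z)
  have hfix : φ' x = x := by
    have hmem : x ∈ IntermediateField.adjoin k ({x'} : Set X.functionField) :=
      heq ▸ IntermediateField.mem_adjoin_simple_self k x
    let S : IntermediateField k X.functionField :=
      { AlgHom.equalizer φ' (AlgHom.id k X.functionField) with
        inv_mem' := fun u (hu : φ' u = u) => show φ' u⁻¹ = u⁻¹ by rw [map_inv₀, hu] }
    exact (IntermediateField.adjoin_simple_le_iff.mpr (show x' ∈ S from hxf' τ eτ hτ) hmem :)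
  have h12 := GrothLib.FunFld.InvolutionFix.algHom_unique hx (φ := φ) (φ' := φ')
    (hxf σ eσ hσ) (hne σ eσ hσp hσ₁) hfix (hne τ eτ hτp hτ₁)
  exact GrothLib.CurveMult.InvolutionCurve.eq_of_ψ_eq p (hσp.trans hτp.symm) eσ eτ
    (RingHom.ext fun z => DFunLike.congr_fun h12 z)

end Groth.Agent.S18892
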