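import Groth.Statements.S18893
import Groth.Agent.Lib.CurveMult.InvolutionCurve
import Groth.Agent.Lib.CurveRR.Setup

set_option autoImplicit false
universe u
open CategoryTheory CategoryTheory.Limits AlgebraicGeometry
open Curves

namespace Groth.Agent.S18893

set_option backward.isDefEq.respectTransparency false


/-- Let k be an algebraically closed field of characteristic different from 2 and X a hyperelliptic
curve over k (p : X → Spec k smooth and proper, X connected of dimension one, genus dim_k H¹(X, O_X)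
≥ 2, with a double cover h : X → P¹_k, finite and flat of rank 2 everywhere) with hyperelliptic
involution σ (σ ≫ h = h, σ ≠ id). Then σ lies in the centre of the automorphism group of X over k:
it commutes with every k-automorphism τ of X. -/
theorem result (k : Type u) [Field k] [IsAlgClosed k] (h2 : (2 : k) ≠ 0)
    {X : Scheme.{u}} (p : X ⟶ Spec (CommRingCat.of k)) [IsProper p] [Smooth p] [ConnectedSpace ↥X]
    (hX : topologicalKrullDim ↥X = 1) (hg : 2 ≤ @Curv2.genus k _ X ⟨p⟩)
    (h : X ⟶ CohB1.ProjSpace 1 k) (hh : h ≫ CohB1.ProjSpace.toSpec 1 k = p)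
    [IsFinite h] [Flat h] (hr : ∀ y : ↥(CohB1.ProjSpace 1 k), h.finrank y = 2)
    (σ : X ⟶ X) (hσ : σ ≫ h = h) (hσ₁ : σ ≠ 𝟙 X)
    (τ : X ≅ X) (hτ : τ.hom ≫ p = p) :
    τ.hom ≫ σ = σ ≫ τ.hom := by
  letI : X.Over (Spec (CommRingCat.of k)) := ⟨p⟩
  haveI : IsProper (X ↘ Spec (CommRingCat.of k)) := ‹IsProper p›
  haveI : Smooth (X ↘ Spec (CommRingCat.of k)) := ‹Smooth p›
  haveI := GrothLib.Euler.isIntegral_of_smooth_connected k p
  haveI : GrothLib.CurveRR.RegCurve X := GrothLib.CurveRR.regCurve_of_smooth p hX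
  have h0 := GrothLib.CurveRR.finrank_H0_structure_eq_one k (X := X)
  have hF := GrothLib.CurveRR.isFunctionField k h0
  have hg' : 2 ≤ FunFld.genus k X.functionField := by rw [← GrothLib.CurveRR.genus_eq k h0]; exact hg
  have hσp : σ ≫ (X ↘ Spec (CommRingCat.of k)) = X ↘ Spec (CommRingCat.of k) := by
    show σ ≫ p = p
    rw [← hh, ← Category.assoc, hσ]
  have eσ := GrothLib.CurveMult.InvolutionCurve.genericPoint_of_comp h hh hσ
  have eτ : τ.hom (genericPoint X) = genericPoint X :=
    GrothLib.CurveMult.InvolutionCurve.genericPoint_of_injective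
      τ.schemeIsoToHomeo.injective τ.schemeIsoToHomeo.surjective
  have eτi : τ.inv (genericPoint X) = genericPoint X :=
    GrothLib.CurveMult.InvolutionCurve.genericPoint_of_injective
      τ.symm.schemeIsoToHomeo.injective τ.symm.schemeIsoToHomeo.surjective
  have hτi : τ.inv ≫ p = p := by rw [Iso.inv_comp_eq, hτ]
  obtain ⟨x, hx, hxf⟩ := GrothLib.CurveMult.InvolutionCurve.exists_double_function h hh hr
  let φ := GrothLib.CurveMult.InvolutionCurve.funHom eσ hσp
  let t := GrothLib.CurveMult.InvolutionCurve.funHom eτ (k := k) hτ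
  let ti := GrothLib.CurveMult.InvolutionCurve.funHom eτi (k := k) hτi
  have hψ : ∀ {a b : X ⟶ X} (ea : a (genericPoint X) = genericPoint X) (eb : b (genericPoint X) = genericPoint X)
      (c : X ⟶ X) (ec : c (genericPoint X) = genericPoint X), a ≫ b = c →
      ∀ z, GrothLib.CurveMult.Hurwitz.ψ ea (GrothLib.CurveMult.Hurwitz.ψ eb z) = GrothLib.CurveMult.Hurwitz.ψ ec z := by
    intro a b ea eb c ec hab z
    have e2 : (a ≫ b) (genericPoint X) = genericPoint X := by rw [Scheme.Hom.comp_apply, ea, eb]
    rw [← GrothLib.CurveMult.InvolutionCurve.ψ_congr hab e2 ec, GrothLib.CurveMult.InvolutionCurve.ψ_comp ea eb e2]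
    rfl
  have hti1 : ∀ z, t (ti z) = z := fun z => by
    refine (hψ eτ eτi (𝟙 X) rfl τ.hom_inv_id z).trans ?_
    rw [GrothLib.CurveMult.InvolutionCurve.ψ_id]; rfl
  have hti2 : ∀ z, ti (t z) = z := fun z => by
    refine (hψ eτi eτ (𝟙 X) rfl τ.inv_hom_id z).trans ?_
    rw [GrothLib.CurveMult.InvolutionCurve.ψ_id]; rfl
  let T : X.functionField ≃ₐ[k] X.functionField :=
    AlgEquiv.ofAlgHom t ti (AlgHom.ext hti1) (AlgHom.ext hti2)
  have hx' : Module.finrank (IntermediateField.adjoin k ({T x} : Set X.functionField)) X.functionField = 2 := by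
    rw [← hx]
    have hmap : (IntermediateField.adjoin k ({x} : Set X.functionField)).map T.toAlgHom =
        IntermediateField.adjoin k ({T x} : Set X.functionField) := by
      rw [IntermediateField.adjoin_map, Set.image_singleton]; rfl
    let e := (IntermediateField.equivMap (IntermediateField.adjoin k ({x} : Set X.functionField)) T.toAlgHom).trans
      (IntermediateField.equivOfEq hmap)
    refine (Algebra.finrank_eq_of_equiv_equiv e.toRingEquiv T.toRingEquiv ?_).symm
    ext a; rfl
  have heq := GrothLib.FunFld.rational_subfield_unique hF hg' x (T x) hx hx'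
  let φ' : X.functionField →ₐ[k] X.functionField := (t.comp φ).comp ti
  have hφ'fix : φ' x = x := by
    have hmem : x ∈ IntermediateField.adjoin k ({T x} : Set X.functionField) :=
      heq ▸ IntermediateField.mem_adjoin_simple_self k x
    let S : IntermediateField k X.functionField :=
      { AlgHom.equalizer φ' (AlgHom.id k X.functionField) with
        inv_mem' := fun u (hu : φ' u = u) => show φ' u⁻¹ = u⁻¹ by rw [map_inv₀, hu] }
    refine (IntermediateField.adjoin_simple_le_iff.mpr (show T x ∈ S from ?_) hmem :)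
    show t (φ (ti (t x))) = t x
    rw [hti2, show φ x = x from hxf σ eσ hσ]
  have hne : φ ≠ AlgHom.id k X.functionField := fun h' => hσ₁ (by
    refine GrothLib.CurveMult.InvolutionCurve.eq_of_ψ_eq p (by rw [Category.id_comp]; exact hσp) eσ rfl ?_
    rw [GrothLib.CurveMult.InvolutionCurve.ψ_id rfl]
    exact RingHom.ext fun z => DFunLike.congr_fun h' z)
  have hne' : φ' ≠ AlgHom.id k X.functionField := fun h' => hne (AlgHom.ext fun z => by
    have h1 := DFunLike.congr_fun h' (t z)
    change t (φ (ti (t z))) = t z at h1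
    rw [hti2] at h1
    have h2 := congrArg ti h1
    rwa [hti2, hti2] at h2)
  have h12 := GrothLib.FunFld.InvolutionFix.algHom_unique hx (φ := φ) (φ' := φ')
    (hxf σ eσ hσ) hne hφ'fix hne'
  have e1 : (τ.hom ≫ σ) (genericPoint X) = genericPoint X := by rw [Scheme.Hom.comp_apply, eτ, eσ]
  have e2 : (σ ≫ τ.hom) (genericPoint X) = genericPoint X := by rw [Scheme.Hom.comp_apply, eσ, eτ]
  refine GrothLib.CurveMult.InvolutionCurve.eq_of_ψ_eq p (by
    rw [Category.assoc, Category.assoc, show σ ≫ p = p from hσp, hτ, show σ ≫ p = p from hσp]) e1 e2 ?_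
  rw [GrothLib.CurveMult.InvolutionCurve.ψ_comp eτ eσ e1, GrothLib.CurveMult.InvolutionCurve.ψ_comp eσ eτ e2]
  refine RingHom.ext fun z => ?_
  show t (φ z) = φ (t z)
  rw [show φ (t z) = φ' (t z) from DFunLike.congr_fun h12 (t z)]
  show t (φ z) = t (φ (ti (t z)))
  rw [hti2]

end Groth.Agent.S18893
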