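import Groth.Statements.S3330
import Groth.Agent.Lib.ArSurf29.MinimalEngine

set_option autoImplicit false
universe u
open CategoryTheory CategoryTheory.Limits AlgebraicGeometry
open Models

namespace Groth.Agent.S3330

/-- Let R be a discrete valuation ring with fraction field K and C a smooth proper curve over K with
H^0(C, O_C) = K and positive genus dim_K H^1(C, O_C) > 0. If X₁ and X₂ are minimal models of C with
generic-fibre inclusions g₁, g₂, then there is a unique isomorphism X₁ ≅ X₂ of models (over R,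
carrying g₁ to g₂). -/
theorem result (R : Type u) [CommRing R] [IsDomain R] [IsDiscreteValuationRing R]
    (C X₁ X₂ : Scheme.{u}) (f : C ⟶ Spec (CommRingCat.of (FractionRing R)))
    (p₁ : X₁ ⟶ Spec (CommRingCat.of R)) (p₂ : X₂ ⟶ Spec (CommRingCat.of R))
    (hC : Curve.IsSmoothProperCurve (FractionRing R) C f) (hH0 : IsIso f.appTop)
    (hg : 0 < Models.curveGenus (FractionRing R) C f)
    (h₁ : Models.IsMinimalModel R X₁ p₁ C f) (h₂ : Models.IsMinimalModel R X₂ p₂ C f)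
    (g₁ : C ⟶ X₁) (hg₁ : IsPullback g₁ f p₁ (Spec.map (CommRingCat.ofHom (algebraMap R (FractionRing R)))))
    (g₂ : C ⟶ X₂) (hg₂ : IsPullback g₂ f p₂ (Spec.map (CommRingCat.ofHom (algebraMap R (FractionRing R))))) :
    ∃! e : X₁ ≅ X₂, e.hom ≫ p₂ = p₁ ∧ g₁ ≫ e.hom = g₂ := by
  obtain ⟨hfp, hfs, hCi, hCd⟩ := hC
  obtain ⟨⟨⟨h1flat, -, -, -⟩, h1p, h1reg⟩, h1min⟩ := h₁
  obtain ⟨⟨⟨h2flat, -, -, -⟩, h2p, h2reg⟩, h2min⟩ := h₂
  haveI := hCi
  have D₁ : GrothLib.ArSurf29.IsMData f X₁ p₁ g₁ := ⟨h1p, h1flat, h1reg, hg₁⟩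
  have D₂ : GrothLib.ArSurf29.IsMData f X₂ p₂ g₂ := ⟨h2p, h2flat, h2reg, hg₂⟩
  obtain ⟨a, ha, ha'⟩ := GrothLib.ArSurf29.exists_hom hCd hfp hH0 hg D₂ h2min D₁
  obtain ⟨b, hb, hb'⟩ := GrothLib.ArSurf29.exists_hom hCd hfp hH0 hg D₁ h1min D₂
  have hab : a ≫ b = 𝟙 X₁ := GrothLib.ArSurf29.hom_unique D₁ D₁ (by rw [Category.assoc, hb, ha])
    (by rw [← Category.assoc, ha', hb']) (Category.id_comp _) (Category.comp_id _)
  have hba : b ≫ a = 𝟙 X₂ := GrothLib.ArSurf29.hom_unique D₂ D₂ (by rw [Category.assoc, ha, hb])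
    (by rw [← Category.assoc, hb', ha']) (Category.id_comp _) (Category.comp_id _)
  exact ⟨⟨a, b, hab, hba⟩, ⟨ha, ha'⟩, fun e he => Iso.ext
    (GrothLib.ArSurf29.hom_unique D₂ D₁ he.1 he.2 ha ha')⟩

end Groth.Agent.S3330
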