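import Groth.Statements.S3338
import Groth.Agent.Lib.ArSurf29.SmoothFibre

set_option autoImplicit false
universe u
open CategoryTheory CategoryTheory.Limits AlgebraicGeometry
open Models

namespace Groth.Agent.S3338

/-- The step (1) implies (2) as proved there: let R be a discrete valuation ring with fraction field K,
C a smooth proper curve over K with H^0(C, O_C) = K, and X a proper smooth model of C over R. Then X
is a minimal model (regular, proper, with no exceptional curve of the first kind in its closed
fibre). -/
theorem result (R : Type u) [CommRing R] [IsDomain R] [IsDiscreteValuationRing R]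
    (C X : Scheme.{u}) (f : C ⟶ Spec (CommRingCat.of (FractionRing R))) (p : X ⟶ Spec (CommRingCat.of R))
    (hC : Curve.IsSmoothProperCurve (FractionRing R) C f) (hH0 : IsIso f.appTop)
    (hX : Models.IsModel R X p C f) [IsProper p] [Smooth p] :
    Models.IsMinimalModel R X p C f := by
  haveI : Flat (Over.mk p).hom := hX.1
  haveI : IsProper (Over.mk p).hom := ‹IsProper p›
  haveI : Smooth (Over.mk p).hom := ‹Smooth p›
  haveI : IsLocallyNoetherian (Over.mk p).left := LocallyOfFiniteType.isLocallyNoetherian (Over.mk p).hom
  have hreg : Models.IsRegularScheme X := fun x => by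
    haveI : IsRegularRing R := inferInstance
    have hx : x ∈ p.smoothLocus := by
      rw [Scheme.Hom.smoothLocus_eq_top_iff.2 ‹Smooth p›]; trivial
    haveI := GrothLib.WeilExt.isRegularLocalRing_stalk_spec R (p x)
    exact (GrothLib.LocProp.isRegularLocalRing_stalk_iff_of_mem_smoothLocus p x hx).2 inferInstance
  obtain ⟨g, hg⟩ : ∃ g, IsPullback g f p (Spec.map (CommRingCat.ofHom (algebraMap R (FractionRing R)))) := hX.2.2.2
  refine ⟨⟨hX, ‹IsProper p›, hreg⟩, fun Γ => ?_⟩
  exact GrothLib.ArSurf29.not_isExcCurve_of_smooth (X := Over.mk p) hreg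
    (GrothLib.ArSurf29.isPreconnected_fibre (X := Over.mk p) hg hH0) Γ

end Groth.Agent.S3338
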