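import Groth.Statements.S18894
import Groth.Agent.S3330
import Groth.Agent.S3338
import Groth.Agent.Lib.SecComp6.Smooth
import Groth.Agent.Lib.ArSurf29.GlobalFun
import Groth.Agent.Lib.OmegaSub11.Uniform
import Groth.Agent.Lib.CurveMult.BaseChangeH
import Groth.Agent.Lib.CurveMult.OmegaField
import Groth.Agent.Lib.RedSmooth.Basic

set_option autoImplicit false
universe u
open CategoryTheory CategoryTheory.Limits AlgebraicGeometry
open Curves

namespace Groth.Agent.S18894

open scoped TopologicalSpace

/-- The generic fibre is dense in a flat scheme over a domain. -/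
theorem isDominant_fst {R : Type u} [CommRing R] [IsDomain R] {X : Scheme.{u}}
    (f : X ⟶ Spec (CommRingCat.of R)) [Flat f] :
    IsDominant (pullback.fst f (Spec.map (CommRingCat.ofHom (algebraMap R (FractionRing R))))) := by
  refine ⟨fun x => ?_⟩
  obtain ⟨y, hy, he⟩ := Flat.generalizingMap f
    (show (⟨⊥, Ideal.isPrime_bot⟩ : PrimeSpectrum R) ⤳ f x from
      (PrimeSpectrum.le_iff_specializes (⟨⊥, Ideal.isPrime_bot⟩ : PrimeSpectrum R) (f x)).mp bot_le)
  refine closure_mono (Set.singleton_subset_iff.2 ?_) (specializes_iff_mem_closure.1 hy)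
  rw [Scheme.Pullback.range_fst]
  exact ⟨(⟨⊥, Ideal.isPrime_bot⟩ : PrimeSpectrum (FractionRing R)), he.symm ▸ PrimeSpectrum.ext
    (Ideal.comap_bot_of_injective _ (IsFractionRing.injective R (FractionRing R)))⟩

/-- The generic fibre of a smooth curve of positive genus. -/
theorem generic_data {R : Type u} [CommRing R] [IsDomain R] {X : Scheme.{u}}
    (f : X ⟶ Spec (CommRingCat.of R)) [IsProper f] [Smooth f] [GeometricallyConnected f]
    (hXdim : ∀ s : ↥(Spec (CommRingCat.of R)), topologicalKrullDim ↥(f.fiber s) = 1)
    (n : ℕ) (hn : 1 ≤ n)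
    (hXgen : ∀ s : ↥(Spec (CommRingCat.of R)),
      letI : (f.fiber s).Over (Spec ((Spec (CommRingCat.of R)).residueField s)) := ⟨f.fiberToSpecResidueField s⟩
      Curv2.genus ((Spec (CommRingCat.of R)).residueField s) (f.fiber s) = n)
    (η : Spec (CommRingCat.of (FractionRing R)) ⟶ Spec (CommRingCat.of R)) :
    Curve.IsSmoothProperCurve (FractionRing R) (pullback f η) (pullback.snd f η) ∧
      IsIso (pullback.snd f η).appTop ∧
      0 < Models.curveGenus (FractionRing R) (pullback f η) (pullback.snd f η) := by
  haveI : IsProper (pullback.snd f η) := MorphismProperty.pullback_snd f η (inferInstance : IsProper f)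
  haveI : Smooth (pullback.snd f η) := MorphismProperty.pullback_snd f η (inferInstance : Smooth f)
  haveI : GeometricallyConnected (pullback.snd f η) :=
    MorphismProperty.pullback_snd f η (inferInstance : GeometricallyConnected f)
  haveI : GeometricallyReduced (pullback.snd f η) :=
    GrothLib.SecComp6.geometricallyReduced_of_smooth _
  letI : (pullback f η).Over (Spec (CommRingCat.of (FractionRing R))) := ⟨pullback.snd f η⟩
  haveI : IsProper (pullback f η ↘ Spec (CommRingCat.of (FractionRing R))) := ‹IsProper (pullback.snd f η)›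
  haveI : Smooth (pullback f η ↘ Spec (CommRingCat.of (FractionRing R))) := ‹Smooth (pullback.snd f η)›
  haveI : GeometricallyConnected (pullback f η ↘ Spec (CommRingCat.of (FractionRing R))) :=
    ‹GeometricallyConnected (pullback.snd f η)›
  haveI : IsIntegral (pullback f η) :=
    (GrothLib.CurveMult.OmegaField.integral_and_h0 (FractionRing R) (pullback f η)).1
  refine ⟨⟨inferInstance, inferInstance, inferInstance,
    GrothLib.OmegaSub11.topologicalKrullDim_fibre_point f _ η 1 hXdim⟩,
    GrothLib.ArSurf29.isIso_appTop_of_geometrically _, ?_⟩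
  let s := η (IsLocalRing.closedPoint (FractionRing R))
  let φ := Scheme.descResidueField (Scheme.stalkClosedPointTo η)
  have hx : Spec.map φ ≫ (Spec (CommRingCat.of R)).fromSpecResidueField s = η :=
    Scheme.descResidueField_stalkClosedPointTo_fromSpecResidueField _ _ η
  let g : pullback f η ⟶ f.fiber s := pullback.lift (pullback.fst f η) (pullback.snd f η ≫ Spec.map φ)
    (by rw [Category.assoc, hx]; exact pullback.condition)
  have H : IsPullback g (pullback.snd f η) (f.fiberToSpecResidueField s) (Spec.map φ) := by
    refine IsPullback.of_right ?_ (pullback.lift_snd _ _ _)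
      (IsPullback.of_hasPullback f ((Spec (CommRingCat.of R)).fromSpecResidueField s))
    erw [pullback.lift_fst]
    rw [hx]
    exact IsPullback.of_hasPullback f η
  letI : (f.fiber s).Over (Spec (CommRingCat.of ((Spec (CommRingCat.of R)).residueField s))) :=
    ⟨f.fiberToSpecResidueField s⟩
  haveI : IsProper (f.fiber s ↘ Spec (CommRingCat.of ((Spec (CommRingCat.of R)).residueField s))) :=
    MorphismProperty.pullback_snd f _ (inferInstance : IsProper f)
  have e := GrothLib.CurveMult.finrank_HH_structure_baseChange φ.hom g H 1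
  show 0 < Module.finrank (FractionRing R) (Coh.HH (pullback f η) (Coh.structureModule (pullback f η)) 1)
  rw [e]
  exact lt_of_lt_of_eq (show 0 < n from hn) (hXgen s).symm


/-- Together with the accompanying claim: let R be a discrete valuation ring with fraction field K, η :
Spec K → Spec R the generic point, and f : X → Spec R, g : Y → Spec R two smooth curves of genus n ≥
1 (proper and smooth, with geometrically connected fibres of dimension one and genus n). Then
restriction to the generic fibre is a bijection from R-isomorphisms X ≅ Y onto K-isomorphisms X_η ≅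
Y_η: every isomorphism φ of the generic fibres over Spec K is induced by a unique morphism e : X → Y
compatible with the first projections, and this e is an isomorphism over Spec R. -/
theorem result {R : Type u} [CommRing R] [IsDomain R]
    [IsDiscreteValuationRing R] {X Y : Scheme.{u}}
    (f : X ⟶ Spec (CommRingCat.of R)) (g : Y ⟶ Spec (CommRingCat.of R))
    [IsProper f] [Smooth f] [GeometricallyConnected f] [IsProper g] [Smooth g] [GeometricallyConnected g]
    (hXdim : ∀ s : ↥(Spec (CommRingCat.of R)), topologicalKrullDim ↥(f.fiber s) = 1)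
    (hYdim : ∀ s : ↥(Spec (CommRingCat.of R)), topologicalKrullDim ↥(g.fiber s) = 1)
    (n : ℕ) (hn : 1 ≤ n)
    (hXgen : ∀ s : ↥(Spec (CommRingCat.of R)),
      letI : (f.fiber s).Over (Spec ((Spec (CommRingCat.of R)).residueField s)) := ⟨f.fiberToSpecResidueField s⟩
      Curv2.genus ((Spec (CommRingCat.of R)).residueField s) (f.fiber s) = n)
    (hYgen : ∀ s : ↥(Spec (CommRingCat.of R)),
      letI : (g.fiber s).Over (Spec ((Spec (CommRingCat.of R)).residueField s)) := ⟨g.fiberToSpecResidueField s⟩
      Curv2.genus ((Spec (CommRingCat.of R)).residueField s) (g.fiber s) = n)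
    (η : Spec (CommRingCat.of (FractionRing R)) ⟶ Spec (CommRingCat.of R))
    (hη : η = Spec.map (CommRingCat.ofHom (algebraMap R (FractionRing R))))
    (φ : pullback f η ≅ pullback g η) (hφ : φ.hom ≫ pullback.snd g η = pullback.snd f η) :
    ∃ e : X ≅ Y, e.hom ≫ g = f ∧ pullback.fst f η ≫ e.hom = φ.hom ≫ pullback.fst g η ∧
      ∀ e' : X ⟶ Y, pullback.fst f η ≫ e' = φ.hom ≫ pullback.fst g η → e' = e.hom := by
  subst hη
  obtain ⟨hC, hH0, hg⟩ := generic_data f hXdim n hn hXgen (Spec.map (CommRingCat.ofHom (algebraMap R (FractionRing R))))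
  have hY : IsPullback (φ.hom ≫ pullback.fst g (Spec.map (CommRingCat.ofHom (algebraMap R (FractionRing R))))) (pullback.snd f (Spec.map (CommRingCat.ofHom (algebraMap R (FractionRing R))))) g (Spec.map (CommRingCat.ofHom (algebraMap R (FractionRing R)))) :=
    IsPullback.of_iso (IsPullback.of_hasPullback g (Spec.map (CommRingCat.ofHom (algebraMap R (FractionRing R))))) φ.symm (Iso.refl _) (Iso.refl _) (Iso.refl _)
      (by simp) (by simp [← hφ]) (by simp) (by simp)
  have hXm : Models.IsModel R X f (pullback f (Spec.map (CommRingCat.ofHom (algebraMap R (FractionRing R))))) (pullback.snd f (Spec.map (CommRingCat.ofHom (algebraMap R (FractionRing R))))) :=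
    ⟨inferInstance, inferInstance, inferInstance, _, IsPullback.of_hasPullback f (Spec.map (CommRingCat.ofHom (algebraMap R (FractionRing R))))⟩
  have hYm : Models.IsModel R Y g (pullback f (Spec.map (CommRingCat.ofHom (algebraMap R (FractionRing R))))) (pullback.snd f (Spec.map (CommRingCat.ofHom (algebraMap R (FractionRing R))))) :=
    ⟨inferInstance, inferInstance, inferInstance, _, hY⟩
  obtain ⟨e, ⟨he, he'⟩, -⟩ := Groth.Agent.S3330.result R (pullback f (Spec.map (CommRingCat.ofHom (algebraMap R (FractionRing R))))) X Y (pullback.snd f (Spec.map (CommRingCat.ofHom (algebraMap R (FractionRing R))))) f g hC hH0 hg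
    (Groth.Agent.S3338.result R _ X _ f hC hH0 hXm) (Groth.Agent.S3338.result R _ Y _ g hC hH0 hYm)
    (pullback.fst f (Spec.map (CommRingCat.ofHom (algebraMap R (FractionRing R))))) (IsPullback.of_hasPullback f (Spec.map (CommRingCat.ofHom (algebraMap R (FractionRing R))))) _ hY
  refine ⟨e, he, he', fun e' h' => ?_⟩
  haveI : IsDominant (pullback.fst f (Spec.map (CommRingCat.ofHom (algebraMap R (FractionRing R))))) := isDominant_fst f
  haveI : IsReduced X := GrothLib.RedSmooth.isReduced_of_smooth f
  haveI : Y.IsSeparated := ⟨by
    rw [show terminal.from Y = g ≫ terminal.from _ from terminal.hom_ext _ _]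
    infer_instance⟩
  exact ext_of_isDominant (pullback.fst f (Spec.map (CommRingCat.ofHom (algebraMap R (FractionRing R))))) (h'.trans he'.symm)


end Groth.Agent.S18894
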