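import Groth.Statements.S18896
import Groth.Agent.Lib.SmCurveFam.Push

set_option autoImplicit false
universe u
open CategoryTheory CategoryTheory.Limits AlgebraicGeometry
open Curves

namespace Groth.Agent.S18896

set_option backward.isDefEq.respectTransparency false


/-- Let f : X → S be a smooth curve of genus g over a scheme S, i.e. f is proper and smooth and its
fibres are geometrically connected of dimension one and genus g (g the dimension of H¹ of the
structure sheaf of each fibre over its residue field). Then R¹f_*(O_X) is a locally free O_S-module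
of rank g. -/
theorem result {X S : Scheme.{u}} (f : X ⟶ S)
    [IsProper f] [Smooth f] [GeometricallyConnected f]
    (hdim : ∀ s : S, topologicalKrullDim ↥(f.fiber s) = 1) (g : ℕ)
    (hgen : ∀ s : S, letI : (f.fiber s).Over (Spec (S.residueField s)) := ⟨f.fiberToSpecResidueField s⟩
      Curv2.genus (S.residueField s) (f.fiber s) = g)
    [HasInjectiveResolutions X.Modules] :
    FlatMod.IsFinLocFreeOfRank g ((Coh.Rpush f 1).obj (Coh.structureModule X)) := by
  haveI : (Coh.structureModule X).IsQuasicoherent :=
    GrothLib.InvExt.isQuasicoherent_of_isInvertible GrothLib.Euler.isInvertible_structure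
  haveI : Coh.IsQCoh (Coh.structureModule X) :=
    GrothLib.InvExt.isQuasicoherent_of_isInvertible GrothLib.Euler.isInvertible_structure
  have hfp := GrothLib.LocFree8.isFP_of_isFinLocFree _
    (GrothLib.Euler.isFinLocFree_of_isInvertible (GrothLib.Euler.isInvertible_structure (X := X)))
  have hfl := GrothLib.Seesaw26.isFlatOver_structure f
  intro s
  have h2 := (GrothLib.BCCrit.goodAll_of_fiberRank_eq_zero (f := f) (F := Coh.structureModule X) 2 s
    (GrothLib.BCCrit.fiberRank_eq_zero_of_dim_lt s 1 2 (hdim s).le one_lt_two)).2
  obtain ⟨U, n, hs, hφ, hn⟩ := GrothLib.BCCrit.exists_free_near hfp hfl 1 s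
    (by simpa using GrothLib.SmCurveFam.goodAll0_structure f s) (by simpa using h2)
  obtain rfl : n = g := by rw [← hn s hs, GrothLib.SmCurveFam.fiberRank_structure f 1 s]; exact hgen s
  exact ⟨U, hs, hφ⟩

end Groth.Agent.S18896
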