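import Groth.Statements.S18897
import Groth.Agent.Lib.CurvQuot9.Main

set_option autoImplicit false
universe u
open CategoryTheory CategoryTheory.Limits AlgebraicGeometry
open Curves

namespace Groth.Agent.S18897

/-- Let k be a field, p : X → Spec k a smooth, proper, geometrically connected curve (X of dimension
one), and G a finite group acting faithfully on X by k-automorphisms, with the order of G invertible
in k. Let π : X → Y be a k-morphism which is a quotient of X by G: π is affine and G-invariant and
over every open of Y the sections of O_Y are exactly the G-invariant sections of O_X. Then Y is a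
smooth, proper, geometrically connected curve over k and π is a cover of degree |G|: finite, flat,
of rank |G| at every point. (The source says projective where this row says proper; for curves over
a field the two agree.) -/
theorem result (k : Type u) [Field k]
    {X Y : Scheme.{u}} (p : X ⟶ Spec (CommRingCat.of k)) [IsProper p] [Smooth p] [GeometricallyConnected p]
    (hX : topologicalKrullDim ↥X = 1)
    {G : Type u} [Group G] [Finite G] (hG : ((Nat.card G : ℕ) : k) ≠ 0)
    (ρ : G →* Aut X) (hρ : Function.Injective ρ) (hρk : ∀ g : G, (ρ g).hom ≫ p = p)
    (π : X ⟶ Y) (q : Y ⟶ Spec (CommRingCat.of k)) (hπ : π ≫ q = p) (hquot : SGA1.IsQuot ρ π) :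
    IsProper q ∧ Smooth q ∧ GeometricallyConnected q ∧ topologicalKrullDim ↥Y = 1 ∧
      IsFinite π ∧ Flat π ∧ ∀ y : Y, π.finrank y = Nat.card G := by
  exact GrothLib.CurvQuot9.quotient_curve p hX ρ hρ hρk π q hπ hquot

end Groth.Agent.S18897
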