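import Groth.Statements.S18898
import Groth.Agent.Lib.CurveModel9.Model

set_option autoImplicit false
universe u
open CategoryTheory CategoryTheory.Limits AlgebraicGeometry
open Curves

namespace Groth.Agent.S18898

/-- Take an affine base S and a smooth genus-g curve f : X → S over it (proper and smooth, with
geometrically connected fibres of dimension one and genus g). Then there exist an affine scheme S₀
whose ring of global sections is of finite type over ℤ (in particular S₀ is Noetherian), a morphism
u : S → S₀ which is injective on global sections (so that S₀ is the spectrum of a subring of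
O_S(S)), and a smooth curve of genus g, f₀ : X₀ → S₀, together with a cartesian square making f the
base change of f₀ along u. -/
theorem result {X S : Scheme.{u}} (f : X ⟶ S) [IsAffine S]
    [IsProper f] [Smooth f] [GeometricallyConnected f]
    (hdim : ∀ s : S, topologicalKrullDim ↥(f.fiber s) = 1) (g : ℕ)
    (hgen : ∀ s : S, letI : (f.fiber s).Over (Spec (S.residueField s)) := ⟨f.fiberToSpecResidueField s⟩
      Curv2.genus (S.residueField s) (f.fiber s) = g) :
    ∃ (S₀ X₀ : Scheme.{u}) (f₀ : X₀ ⟶ S₀) (u : S ⟶ S₀) (v : X ⟶ X₀),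
      IsAffine S₀ ∧ Algebra.FiniteType ℤ Γ(S₀, ⊤) ∧ Function.Injective (u.appTop).hom ∧
      IsPullback v f f₀ u ∧ IsProper f₀ ∧ Smooth f₀ ∧ GeometricallyConnected f₀ ∧
      (∀ s : S₀, topologicalKrullDim ↥(f₀.fiber s) = 1) ∧
      ∀ s : S₀, letI : (f₀.fiber s).Over (Spec (S₀.residueField s)) := ⟨f₀.fiberToSpecResidueField s⟩
        Curv2.genus (S₀.residueField s) (f₀.fiber s) = g := by
  obtain ⟨S₀, X₀, f₀, u, v, h1, h2, h3, h4, h5, h6, h7, h8⟩ := GrothLib.CurveModel9.exists_model_curve f hdim g hgen
  exact ⟨S₀, X₀, f₀, u, v, h1, h2, h3, h4, h5, h6, h7, fun s => (h8 s).2.1, fun s => (h8 s).2.2⟩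

end Groth.Agent.S18898
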