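import Groth.Statements.S18899
import Mathlib.RingTheory.Invariant.Basic
import Mathlib.Algebra.Polynomial.GroupRingAction
import Mathlib.RingTheory.Localization.FractionRing

set_option autoImplicit false
universe u v w
open CAlg

namespace Groth.Agent.S18899

/-- If two maps to a domain agree on invariants then on each element they differ by some group element. -/
theorem exists_eq_smul_of_field {C : Type*} [CommRing C] {G : Type*} [Group G] [Finite G]
    [MulSemiringAction G C] {L : Type*} [Field L] (F₁ F₂ : C →+* L)
    (h : ∀ c : C, (∀ g : G, g • c = c) → F₁ c = F₂ c) (b : C) :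
    ∃ g : G, F₂ b = F₁ (g • b) := by
  classical
  haveI := Fintype.ofFinite G
  have h1 : (MulSemiringAction.charpoly G b).map F₁ = (MulSemiringAction.charpoly G b).map F₂ := by
    ext n
    rw [Polynomial.coeff_map, Polynomial.coeff_map]
    exact h _ (MulSemiringAction.smul_coeff_charpoly b n)
  have h2 : ((MulSemiringAction.charpoly G b).map F₁).eval (F₂ b) = 0 := by
    rw [h1, Polynomial.eval_map, Polynomial.eval₂_at_apply, MulSemiringAction.eval_charpoly,
      map_zero]
  rw [MulSemiringAction.charpoly_eq, Polynomial.map_prod, Polynomial.eval_prod,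
    Finset.prod_eq_zero_iff] at h2
  obtain ⟨g, -, hg⟩ := h2
  exact ⟨g, by simpa [sub_eq_zero] using hg⟩


/-- Let A be a commutative ring on which a finite group G acts by ring automorphisms, with ring of
invariants A^G, and let K be a field. If two ring homomorphisms f₁, f₂ : A → K have the same
restriction to A^G, then f₂ = f₁ ∘ γ for some γ ∈ G. -/
theorem result {A : Type u} [CommRing A] {G : Type v} [Group G] [Finite G]
    [MulSemiringAction G A] {K : Type w} [Field K] (f₁ f₂ : A →+* K)
    (h : ∀ a : A, (∀ g : G, g • a = a) → f₁ a = f₂ a) :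
    ∃ γ : G, ∀ a : A, f₂ a = f₁ (γ • a) := by
  classical
  by_contra hc
  push Not at hc
  choose a ha using hc
  haveI := Fintype.ofFinite G
  let idx := Fintype.equivFin G
  let L := FractionRing (Polynomial K)
  let ι : Polynomial K →+* L := algebraMap _ L
  let F₁ : Polynomial A →+* L := ι.comp (Polynomial.mapRingHom f₁)
  let F₂ : Polynomial A →+* L := ι.comp (Polynomial.mapRingHom f₂)
  have hF : ∀ b : Polynomial A, (∀ g : G, g • b = b) → F₁ b = F₂ b := by
    intro b hb
    simp only [F₁, F₂, RingHom.comp_apply, Polynomial.coe_mapRingHom]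
    congr 1
    ext n
    rw [Polynomial.coeff_map, Polynomial.coeff_map]
    exact h _ fun g => by rw [← Polynomial.coeff_smul, hb g]
  let b : Polynomial A := ∑ g : G, Polynomial.monomial (idx g : ℕ) (a g)
  obtain ⟨γ, hγ⟩ := exists_eq_smul_of_field F₁ F₂ hF b
  apply ha γ
  have h2 := IsFractionRing.injective (Polynomial K) L hγ
  have h3 : f₂ (b.coeff (idx γ : ℕ)) = f₁ (γ • b.coeff (idx γ : ℕ)) := by
    have h3' : (b.map f₂).coeff (idx γ : ℕ) = ((γ • b).map f₁).coeff (idx γ : ℕ) :=
      congrArg (fun p => Polynomial.coeff p (idx γ : ℕ)) h2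
    rwa [Polynomial.coeff_map, Polynomial.coeff_map, Polynomial.coeff_smul] at h3' 
  have h4 : b.coeff (idx γ : ℕ) = a γ := by
    simp only [b, Polynomial.finsetSum_coeff, Polynomial.coeff_monomial]
    rw [Finset.sum_eq_single γ]
    · simp
    · intro g _ hg
      rw [if_neg]
      exact fun he => hg (idx.injective (Fin.val_injective he))
    · simp
  rwa [h4] at h3

end Groth.Agent.S18899
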