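import Groth.Statements.S1890
import Mathlib.AlgebraicGeometry.Morphisms.Immersion
import Mathlib.AlgebraicGeometry.Morphisms.ClosedImmersion
-- import your own Groth.Agent.* helpers here

set_option autoImplicit false
universe u
open CategoryTheory CategoryTheory.Limits AlgebraicGeometry
open Grpd

namespace Groth.Agent.S1890

/-- Take a quasi-compact immersion j : V → Spec A and an element f ∈ A such that j⁻¹(D(f)) is affine and
j(V) ∩ V(f) is closed in Spec A. Then V is affine. -/
theorem result (A : Type u) [CommRing A] (V : Scheme.{u}) (j : V ⟶ Spec (CommRingCat.of A)) [IsImmersion j] [QuasiCompact j] (f : A) (haff : IsAffineOpen (j ⁻¹ᵁ PrimeSpectrum.basicOpen f)) (hcl : IsClosed (Set.range ⇑j ∩ PrimeSpectrum.zeroLocus {f})) : IsAffine V := by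
  let X := Spec (CommRingCat.of A)
  let C : Set X := Set.range ⇑j ∩ PrimeSpectrum.zeroLocus {f}
  suffices h : IsAffineHom j from isAffine_of_isAffineHom j
  apply isAffineHom_of_forall_exists_isAffineOpen
  intro p
  have hbasic : ∀ Z : Set X, IsClosed Z → p ∉ Z →
      ∃ h : A, p ∈ (PrimeSpectrum.basicOpen h : X.Opens) ∧
        ∀ q ∈ Z, q ∉ (PrimeSpectrum.basicOpen h : X.Opens) := by
    intro Z hZ hp
    obtain ⟨_, ⟨h, rfl⟩, hph, hsub⟩ :=
      PrimeSpectrum.isTopologicalBasis_basic_opens.exists_subset_of_mem_open hp hZ.isOpen_compl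
    exact ⟨h, hph, fun q hq hqh => hsub hqh hq⟩
  by_cases hp : p ∈ C
  · have hT : IsClosed (closure (Set.range ⇑j) \ Set.range ⇑j) := by
      rw [← isOpen_compl_iff]
      exact j.isLocallyClosed_range.isOpen_coborder
    obtain ⟨h, hph, hh⟩ := hbasic _ hT (fun hx => hx.2 hp.1)
    refine ⟨(PrimeSpectrum.basicOpen h : X.Opens), hph, IsAffineOpen.Spec_basicOpen (R := CommRingCat.of A) h, ?_⟩
    let D : X.Opens := PrimeSpectrum.basicOpen h
    haveI : IsAffine D.toScheme := IsAffineOpen.Spec_basicOpen (R := CommRingCat.of A) h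
    haveI : IsClosedImmersion (j ∣_ D) := .of_isPreimmersion _ (by
      rw [show Set.range ⇑(j ∣_ D) = D.ι ⁻¹' closure (Set.range ⇑j) from ?_]
      · exact isClosed_closure.preimage D.ι.continuous
      ext y
      constructor
      · rintro ⟨x, rfl⟩
        exact subset_closure ⟨x.1, (morphismRestrict_base_coe j D x).symm⟩
      · intro hy
        have hyj : (y.1 : X) ∈ Set.range ⇑j := by
          by_contra hn
          exact hh _ ⟨hy, hn⟩ y.2
        obtain ⟨x, hx⟩ := hyj
        exact ⟨⟨x, show j x ∈ D from hx ▸ y.2⟩,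
          Subtype.ext ((morphismRestrict_base_coe j D _).trans hx)⟩)
    exact isAffine_of_isAffineHom (j ∣_ D)
  · obtain ⟨h, hph, hh⟩ := hbasic C hcl hp
    refine ⟨(PrimeSpectrum.basicOpen h : X.Opens), hph, IsAffineOpen.Spec_basicOpen (R := CommRingCat.of A) h, ?_⟩
    let a : Γ(V, ⊤) := j.appTop ((Scheme.ΓSpecIso (CommRingCat.of A)).inv h)
    have ha : V.basicOpen a = j ⁻¹ᵁ (PrimeSpectrum.basicOpen h : X.Opens) := by
      rw [← Scheme.preimage_basicOpen_top, basicOpen_eq_of_affine]
    have hle : V.basicOpen a ≤ j ⁻¹ᵁ PrimeSpectrum.basicOpen f := by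
      rw [ha]
      intro x hx
      by_contra hf
      exact hh _ ⟨⟨x, rfl⟩, fun b hb => Set.mem_singleton_iff.mp hb ▸ not_not.mp hf⟩ hx
    rw [← ha, show V.basicOpen a = V.basicOpen (V.presheaf.map (homOfLE le_top).op a :
      Γ(V, j ⁻¹ᵁ PrimeSpectrum.basicOpen f)) from by rw [Scheme.basicOpen_res, inf_eq_right.mpr hle]]
    exact haff.basicOpen _

end Groth.Agent.S1890
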