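import Groth.Statements.S18902
import Groth.Agent.Lib.SmCurveFam.Push

set_option autoImplicit false
universe u
open CategoryTheory CategoryTheory.Limits AlgebraicGeometry
open Curves

namespace Groth.Agent.S18902

set_option backward.isDefEq.respectTransparency false


/-- Let q : P → S be a conic bundle, i.e. a smooth curve of genus 0 over S (q proper and smooth, with
geometrically connected fibres of dimension one and genus dim H¹(P_s, O) = 0). Then the canonical
map O_S → q_*O_P is an isomorphism. -/
theorem result {P S : Scheme.{u}} (q : P ⟶ S)
    [IsProper q] [Smooth q] [GeometricallyConnected q]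
    (hPdim : ∀ s : S, topologicalKrullDim ↥(q.fiber s) = 1)
    (hPgen : ∀ s : S, letI : (q.fiber s).Over (Spec (S.residueField s)) := ⟨q.fiberToSpecResidueField s⟩
      Curv2.genus (S.residueField s) (q.fiber s) = 0) :
    IsIso (ClSub.unitToPush q) := by
  exact GrothLib.SmCurveFam.isIso_unitToPush q

end Groth.Agent.S18902
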