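import Groth.Statements.S18909
import Groth.Agent.Lib.CurvQuot9.Family

set_option autoImplicit false
universe u
open CategoryTheory CategoryTheory.Limits AlgebraicGeometry
open Curves

namespace Groth.Agent.S18909

/-- Let f : X → S be a smooth curve of genus g ≠ 1 (proper and smooth, geometrically connected fibres of
dimension one and genus g) and G a finite group acting on X by S-automorphisms, faithfully on every
fibre (rendered: every g ≠ 1 moves some point of each fibre), with the order of G invertible in
O_S(S). Let π : X → Y be a quotient of X by G over S (π affine and G-invariant, O_Y the G-invariant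
sections of O_X; the source shows such a quotient exists). Then Y → S is proper and smooth with
geometrically connected fibres of dimension one, and π is a cover of degree |G|: finite, flat,
locally of finite presentation and of rank |G| at every point of Y. -/
theorem result {X Y S : Scheme.{u}} (f : X ⟶ S)
    [IsProper f] [Smooth f] [GeometricallyConnected f]
    (hdim : ∀ s : S, topologicalKrullDim ↥(f.fiber s) = 1) (g : ℕ) (hg : g ≠ 1)
    (hgen : ∀ s : S, letI : (f.fiber s).Over (Spec (S.residueField s)) := ⟨f.fiberToSpecResidueField s⟩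
      Curv2.genus (S.residueField s) (f.fiber s) = g)
    {G : Type u} [Group G] [Finite G] (hG : IsUnit ((Nat.card G : ℕ) : Γ(S, ⊤)))
    (ρ : G →* Aut X) (hρ : ∀ a : G, (ρ a).hom ≫ f = f)
    (hfaith : ∀ (s : S) (a : G), a ≠ 1 → ∃ x : X, f x = s ∧ (ρ a).hom x ≠ x)
    (π : X ⟶ Y) (q : Y ⟶ S) (hπ : π ≫ q = f) (hquot : SGA1.IsQuot ρ π) :
    IsProper q ∧ Smooth q ∧ GeometricallyConnected q ∧ (∀ s : S, topologicalKrullDim ↥(q.fiber s) = 1) ∧
      IsFinite π ∧ Flat π ∧ LocallyOfFinitePresentation π ∧ ∀ y : Y, π.finrank y = Nat.card G := by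
  refine GrothLib.CurvQuot9.family_quotient f hdim hG q hπ hquot fun s => (injective_iff_map_eq_one _).2 fun a ha => ?_
  by_contra hne
  obtain ⟨x, hx, hxa⟩ := hfaith s a hne
  refine GrothLib.CurvQuot9.bcAction_ne_one hquot.inv (q.fiberι s) (a := a) ?_ hxa ha
  rw [q.range_fiberι]
  show q (π x) = s
  rw [← Scheme.Hom.comp_apply, hπ, hx]

end Groth.Agent.S18909
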