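import Groth.Statements.S18912
import Mathlib.RingTheory.RootsOfUnity.AlgebraicallyClosed
import Mathlib.FieldTheory.IsAlgClosed.Basic

set_option autoImplicit false
universe u
open CategoryTheory CategoryTheory.Limits AlgebraicGeometry
open TFNodal

namespace Groth.Agent.S18912

set_option backward.isDefEq.respectTransparency false


/-- Let k be an algebraically closed field of characteristic zero, X a reduced scheme locally of finite
type over k, F an O_X-module, d ≥ 1 an integer and τ, τ' : F → O_X two O_X-linear maps whose d-th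
symmetric powers agree, in the sense that for every open U and all sections a_1, …, a_d of F over U
the products τ(a_1)⋯τ(a_d) and τ'(a_1)⋯τ'(a_d) coincide in Γ(U, O_X). Then for every point η of X
whose local ring is a field (a generic point of an irreducible component) there is a d-th root of
unity ξ in k such that, for every section a of F over an open containing η, the germ of τ'(a) at η
is ξ times the germ of τ(a). The published statement is for a coherent module on a projective nodal
curve and concludes that τ' = ξ τ with one root of unity ξ on each connected component; that form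
fails for the union of two lines meeting at a node, F the ideal of the node, τ the inclusion and τ'
equal to τ on one line and to −τ on the other (d = 2), so the conclusion is stated here at each
generic point, i.e. per irreducible component, which is what the stalkwise argument yields. -/
theorem result
    (k : Type u) [Field k] [IsAlgClosed k] [CharZero k]
    (X : Scheme.{u}) [X.Over (Spec (CommRingCat.of k))]
    [LocallyOfFiniteType (X ↘ Spec (CommRingCat.of k))] [AlgebraicGeometry.IsReduced X]
    (F : X.Modules) (τ τ' : F ⟶ Coh.structureModule X) (d : ℕ) (hd : 1 ≤ d)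
    (hS : ∀ (U : X.Opens) (a : Fin d → Γ(F, U)),
      (∏ i, (τ.app U (a i) : Γ(X, U)) : Γ(X, U)) = (∏ i, (τ'.app U (a i) : Γ(X, U)) : Γ(X, U)))
    (η : X) (hη : IsField (X.presheaf.stalk η)) :
    ∃ ξ : k, ξ ^ d = 1 ∧ ∀ (U : X.Opens) (hU : η ∈ U) (a : Γ(F, U)),
      (X.presheaf.germ U η hU (τ'.app U a : Γ(X, U)) : X.presheaf.stalk η) =
        Curv2.stalkMap k X η ξ * X.presheaf.germ U η hU (τ.app U a : Γ(X, U)) := by
  classical
  letI : Field (X.presheaf.stalk η) := hη.toField
  let K := X.presheaf.stalk η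
  let val : ∀ (φ : F ⟶ Coh.structureModule X) (U : X.Opens), η ∈ U → Γ(F, U) → K := fun φ U hU a =>
    X.presheaf.germ U η hU (φ.app U a : Γ(X, U))
  have hres : ∀ (φ : F ⟶ Coh.structureModule X) (U W : X.Opens) (h : W ≤ U) (hW : η ∈ W) (a : Γ(F, U)),
      val φ W hW (F.presheaf.map (homOfLE h).op a) = val φ U (h hW) a := fun φ U W h hW a => by
    show X.presheaf.germ W η hW (φ.app W _) = _
    rw [show φ.app W (F.presheaf.map (homOfLE h).op a) = X.presheaf.map (homOfLE h).op (φ.app U a : Γ(X, U))
      from PresheafOfModules.naturality_apply φ.val (homOfLE h).op a]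
    exact X.presheaf.germ_res_apply (homOfLE h) η hW _
  have hprod : ∀ (U : X.Opens) (hU : η ∈ U) (a : Fin d → Γ(F, U)),
      ∏ i, val τ U hU (a i) = ∏ i, val τ' U hU (a i) := fun U hU a => by
    show ∏ i, (X.presheaf.germ U η hU).hom (τ.app U (a i) : Γ(X, U)) = ∏ i, (X.presheaf.germ U η hU).hom (τ'.app U (a i) : Γ(X, U))
    exact ((map_prod (X.presheaf.germ U η hU).hom _ _).symm.trans
      (congrArg (X.presheaf.germ U η hU).hom (hS U a))).trans (map_prod _ _ _)
  by_cases h0 : ∀ (U : X.Opens) (hU : η ∈ U) (a : Γ(F, U)), val τ U hU a = 0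
  · refine ⟨1, one_pow d, fun U hU a => ?_⟩
    have h := hprod U hU fun _ => a
    rw [Fin.prod_const, Fin.prod_const, h0 U hU a, zero_pow (by omega)] at h
    show val τ' U hU a = _ * val τ U hU a
    rw [h0 U hU a, mul_zero]
    exact eq_zero_of_pow_eq_zero h.symm
  push Not at h0
  obtain ⟨U₀, hU₀, a₀, ha₀⟩ := h0
  let T₀ := val τ U₀ hU₀ a₀
  let T₀' := val τ' U₀ hU₀ a₀
  have hd0 : T₀ ^ d = T₀' ^ d := by simpa only [Fin.prod_const] using hprod U₀ hU₀ fun _ => a₀
  have hT₀' : T₀' ≠ 0 := fun h => ha₀ (eq_zero_of_pow_eq_zero (hd0.trans (by rw [h, zero_pow (by omega)])))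
  let c : K := T₀' / T₀
  have hc : c ^ d = 1 := by rw [div_pow, ← hd0, div_self (pow_ne_zero _ ha₀)]
  haveI : NeZero d := ⟨by omega⟩
  haveI : NeZero (d : k) := ⟨Nat.cast_ne_zero.2 (by omega)⟩
  obtain ⟨ζ, hζ⟩ := HasEnoughRootsOfUnity.exists_primitiveRoot k d
  obtain ⟨i, -, hi⟩ := (hζ.map_of_injective (f := Curv2.stalkMap k X η) (RingHom.injective _)).eq_pow_of_pow_eq_one hc
  refine ⟨ζ ^ i, by rw [← pow_mul, mul_comm, pow_mul, hζ.pow_eq_one, one_pow], fun U hU a => ?_⟩
  show val τ' U hU a = Curv2.stalkMap k X η (ζ ^ i) * val τ U hU a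
  rw [map_pow, hi]
  have hW : η ∈ U ⊓ U₀ := ⟨hU, hU₀⟩
  obtain ⟨e, rfl⟩ : ∃ e, d = e + 1 := ⟨d - 1, by omega⟩
  have h := hprod (U ⊓ U₀) hW (Fin.cons (F.presheaf.map (homOfLE (inf_le_left : U ⊓ U₀ ≤ U)).op a)
    fun _ => F.presheaf.map (homOfLE (inf_le_right : U ⊓ U₀ ≤ U₀)).op a₀)
  simp only [Fin.prod_univ_succ, Fin.cons_zero, Fin.cons_succ, hres, Finset.prod_const, Finset.card_univ, Fintype.card_fin] at h
  change val τ U hU a * T₀ ^ e = val τ' U hU a * T₀' ^ e at h
  refine mul_right_cancel₀ (pow_ne_zero e hT₀') (h.symm.trans ?_)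
  have hT : T₀' = c * T₀ := (div_mul_cancel₀ _ ha₀).symm
  rw [hT, mul_pow, show c * val τ U hU a * (c ^ e * T₀ ^ e) = c ^ (e + 1) * (val τ U hU a * T₀ ^ e) by ring, hc, one_mul]

end Groth.Agent.S18912
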