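import Groth.Statements.S18913
import Groth.Agent.Lib.FMAdj25.MonoIntoPow
-- import your own Groth.Agent.* helpers here

set_option autoImplicit false
set_option maxHeartbeats 1000000
set_option linter.style.haveILetI false
set_option backward.isDefEq.respectTransparency false
universe u
open CategoryTheory CategoryTheory.Limits AlgebraicGeometry
open TFNodal

namespace Groth.Agent.S18913

/-- Let k be an algebraically closed field of characteristic zero, X a connected reduced proper curve
over k (a proper k-scheme of dimension one), L an ample invertible O_X-module, F a coherent
O_X-module and r a natural number. Then F is of depth one at every closed point (no closed point of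
X is an associated point of F) with stalk free of rank r at every generic point (uniform multirank
r) if and only if there are a natural number m and a monomorphism F → (L^{⊗m})^{⊕r} whose cokernel
has zero stalk at every generic point of X (a torsion cokernel). -/
theorem result
    (k : Type u) [Field k] [IsAlgClosed k] [CharZero k]
    (X : Scheme.{u}) [X.Over (Spec (CommRingCat.of k))] [IsProper (X ↘ Spec (CommRingCat.of k))]
    [AlgebraicGeometry.IsReduced X] [ConnectedSpace X] (hdim : topologicalKrullDim X = 1)
    (L : X.Modules) (hL : CohB1.IsAmple L)
    (F : X.Modules) (hF : Coh.IsCoh F) (r : ℕ) :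
    ((∀ x : X, IsClosed ({x} : Set X) → ¬ Curv2.IsAssPoint F x) ∧
      (∀ η : X, IsField (X.presheaf.stalk η) →
        Nonempty (F.presheaf.stalk η ≃ₗ[X.presheaf.stalk η] (Fin r → X.presheaf.stalk η)))) ↔
    (∃ (m : ℕ) (ι : F ⟶ ∐ fun _ : Fin r => CohB1.tensorPow L m), Mono ι ∧
      ∀ η : X, IsField (X.presheaf.stalk η) → Subsingleton ((cokernel ι).presheaf.stalk η)) := by
  exact GrothLib.FMAdj25.exists_mono_sigma_pow_iff k hdim hL hF r

end Groth.Agent.S18913
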