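import Groth.Statements.S18915
import Groth.Agent.Lib.TFCurv11.ProdDepth
import Groth.Agent.Lib.Depth.HartogsUnit
import Groth.Agent.Lib.Euler.Coh

set_option autoImplicit false
universe u
open CategoryTheory CategoryTheory.Limits AlgebraicGeometry
open TFNodal

namespace Groth.Agent.S18915

set_option backward.isDefEq.respectTransparency false


/-- Let k be an algebraically closed field of characteristic zero, X a reduced proper curve over k (a
proper k-scheme of dimension one) without isolated points (no closed point is open, i.e. X is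
one-dimensional at every point), C a smooth irreducible k-scheme of dimension one and c a closed
point of C. Put Z = X ×_k C with projections p_X and p_C, let Y be a nonempty finite set of closed
points of Z lying over c, and let j : U → Z be the inclusion of the open complement of Y. Then for
every coherent torsion free O_X-module F (every stalk a torsion free module over the local ring),
the unit map p_X^* F → j_* j^* (p_X^* F) is an isomorphism. -/
theorem result
    (k : Type u) [Field k] [IsAlgClosed k] [CharZero k]
    (X : Scheme.{u}) [X.Over (Spec (CommRingCat.of k))] [IsProper (X ↘ Spec (CommRingCat.of k))]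
    [AlgebraicGeometry.IsReduced X] (hdim : topologicalKrullDim X = 1)
    (hpure : ∀ x : X, IsClosed ({x} : Set X) → ¬ IsOpen ({x} : Set X))
    (C : Scheme.{u}) [C.Over (Spec (CommRingCat.of k))] [Smooth (C ↘ Spec (CommRingCat.of k))]
    [IrreducibleSpace C] (hdimC : topologicalKrullDim C = 1)
    (c : C) (hc : IsClosed ({c} : Set C))
    (Y : Set ↑(pullback (X ↘ Spec (CommRingCat.of k)) (C ↘ Spec (CommRingCat.of k))))
    (hYfin : Y.Finite) (hYne : Y.Nonempty) (hYcl : ∀ z ∈ Y, IsClosed ({z} : Set _))
    (hYc : ∀ z ∈ Y, (pullback.snd (X ↘ Spec (CommRingCat.of k)) (C ↘ Spec (CommRingCat.of k))).base z = c)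
    (U : (pullback (X ↘ Spec (CommRingCat.of k)) (C ↘ Spec (CommRingCat.of k))).Opens)
    (hU : (U : Set _) = Yᶜ)
    (F : X.Modules) (hF : Coh.IsCoh F) (htF : TorSh.IsTorsionFree F) :
    IsIso ((Scheme.Modules.restrictAdjunction U.ι).unit.app
      ((Scheme.Modules.pullback (pullback.fst (X ↘ Spec (CommRingCat.of k)) (C ↘ Spec (CommRingCat.of k)))).obj F)) := by
  let sX := X ↘ Spec (CommRingCat.of k)
  let sC := C ↘ Spec (CommRingCat.of k)
  haveI : IsLocallyNoetherian X := LocallyOfFiniteType.isLocallyNoetherian sX
  haveI := GrothLib.Euler.isNoetherian_of_proper (X := X) k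
  haveI : Smooth (pullback.fst sX sC) := MorphismProperty.pullback_fst _ _ (inferInstance : Smooth sC)
  haveI : IsLocallyNoetherian (pullback sX sC) := LocallyOfFiniteType.isLocallyNoetherian (pullback.fst sX sC)
  have hP : Coh.IsCoh ((Scheme.Modules.pullback (pullback.fst sX sC)).obj F) :=
    GrothLib.GeomSS.isCoh_pullback' (pullback.fst sX sC) hF
  haveI := hP.1
  haveI := hP.2
  refine GrothLib.Depth.isIso_unit_app fun z hz => ?_
  have hzY : z ∈ Y := by
    by_contra h
    exact hz (show z ∈ (U : Set _) from hU ▸ h)
  let sP := pullback.fst sX sC ≫ sX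
  haveI : LocallyOfFiniteType sP := inferInstance
  let P := pointOfClosedPoint sP z (hYcl z hzY)
  have hP1 : P ≫ pullback.fst sX sC ≫ sX = 𝟙 _ := pointOfClosedPoint_comp sP z (hYcl z hzY)
  have hP2 : P ≫ pullback.snd sX sC ≫ sC = 𝟙 _ := by rw [← pullback.condition]; exact hP1
  let σ : C ⟶ pullback sX sC := pullback.lift (sC ≫ P ≫ pullback.fst sX sC) (𝟙 C) (by
    rw [Category.assoc, Category.assoc, hP1, Category.comp_id, Category.id_comp])
  have hσ : (P ≫ pullback.snd sX sC) ≫ σ = P := by
    apply pullback.hom_ext
    · rw [Category.assoc, pullback.lift_fst, ← Category.assoc, Category.assoc P, hP2, Category.id_comp]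
    · rw [Category.assoc, pullback.lift_snd, Category.comp_id]
  have hzc : σ c = z := by
    have hPz : P (IsLocalRing.closedPoint k) = z := pointOfClosedPoint_apply sP z (hYcl z hzY) _
    have h1 := congr($hσ (IsLocalRing.closedPoint k))
    rw [Scheme.Hom.comp_apply, Scheme.Hom.comp_apply, hPz] at h1
    have h2 : pullback.snd sX sC z = c := hYc z hzY
    rw [h2] at h1
    exact h1
  rw [← hzc]
  have hzY' : σ c ∈ Y := hzc.symm ▸ hzY
  have hnC : ¬ IsField (C.presheaf.stalk c) := fun hF' => by
    haveI : JacobsonSpace C := LocallyOfFiniteType.jacobsonSpace sC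
    have hmax : ∀ y, y ⤳ c → y = c := fun y hy => by
      obtain ⟨p, hp⟩ : y ∈ Set.range (C.fromSpecStalk c) := by rw [Scheme.range_fromSpecStalk]; exact hy
      haveI : Subsingleton (PrimeSpectrum (C.presheaf.stalk c)) := by
        letI := hF'.toField
        infer_instance
      rw [← hp, Subsingleton.elim (α := PrimeSpectrum (C.presheaf.stalk c)) p (IsLocalRing.closedPoint _),
        Scheme.fromSpecStalk_closedPoint]
    have hcg : c = genericPoint C := (hmax _ (genericPoint_specializes c)).symm
    haveI : Subsingleton C := ⟨fun p q => by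
      have h : ∀ w : C, w = c := fun w =>
        ((hcg ▸ genericPoint_specializes w : c ⤳ w).mem_closed hc rfl : w ∈ ({c} : Set C))
      rw [h p, h q]⟩
    haveI : Subsingleton (TopologicalSpace.IrreducibleCloseds C) := ⟨fun A B => TopologicalSpace.IrreducibleCloseds.ext
      ((Subsingleton.eq_univ_of_nonempty A.2.nonempty).trans (Subsingleton.eq_univ_of_nonempty B.2.nonempty).symm)⟩
    have h0 : topologicalKrullDim C ≤ 0 := Order.krullDim_nonpos_of_subsingleton
    rw [hdimC] at h0
    exact absurd h0 (by norm_num)
  haveI : JacobsonSpace X := LocallyOfFiniteType.jacobsonSpace sX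
  have hx : IsClosed ({pullback.fst sX sC (σ c)} : Set X) :=
    (pullback.fst sX sC).closePoints_subset_preimage_closedPoints (hYcl _ hzY')
  exact GrothLib.ProdDepth11.two_le_depth_pullback k (P ≫ pullback.fst sX sC) ((Category.assoc _ _ _).trans hP1) c hnC F hF σ
    (pullback.lift_fst _ _ _) (pullback.lift_snd _ _ _) hx (hpure _ hx) (htF _)

end Groth.Agent.S18915
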