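import Groth.Statements.S18916
import Groth.Agent.Lib.HomSh.Eval
import Groth.Agent.Lib.Mero.Ass
import Groth.Agent.Lib.FacDiv.Principal
import Mathlib.RingTheory.Ideal.AssociatedPrime.Basic

set_option autoImplicit false
universe u
open CategoryTheory CategoryTheory.Limits AlgebraicGeometry
open TFNodal

namespace Groth.Agent.S18916

set_option backward.isDefEq.respectTransparency false


/-- Let k be an algebraically closed field of characteristic zero, X a reduced proper curve over k (a
proper k-scheme of dimension one) without isolated points (no closed point is open, i.e. X is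
one-dimensional at every point) and F a coherent O_X-module. Then the dual 𝓗om(F, O_X) is torsion
free: no closed point of X is an associated point of it. -/
theorem result
    (k : Type u) [Field k] [IsAlgClosed k] [CharZero k]
    (X : Scheme.{u}) [X.Over (Spec (CommRingCat.of k))] [IsProper (X ↘ Spec (CommRingCat.of k))]
    [AlgebraicGeometry.IsReduced X] (hdim : topologicalKrullDim X = 1)
    (hpure : ∀ x : X, IsClosed ({x} : Set X) → ¬ IsOpen ({x} : Set X))
    (F : X.Modules) (hF : Coh.IsCoh F) (x : X) (hx : IsClosed ({x} : Set X)) :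
    ¬ Curv2.IsAssPoint (RefHull.dual F) x := by
  haveI : IsLocallyNoetherian X := LocallyOfFiniteType.isLocallyNoetherian (X ↘ Spec (CommRingCat.of k))
  haveI : _root_.IsReduced (X.presheaf.stalk x) := inferInstance
  intro hass
  obtain ⟨-, θ, hθ⟩ := (isAssociatedPrime_iff (R := X.presheaf.stalk x)).1 hass
  have hann : ∀ a : X.presheaf.stalk x, a ∈ IsLocalRing.maximalIdeal (X.presheaf.stalk x) → a • θ = 0 := fun a ha => by
    rwa [hθ, Submodule.mem_colon_singleton, Submodule.mem_bot] at ha
  have hθ0 : θ ≠ 0 := fun h0 => by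
    have h1 : (1 : X.presheaf.stalk x) ∈ IsLocalRing.maximalIdeal (X.presheaf.stalk x) := by
      rw [hθ, Submodule.mem_colon_singleton, Submodule.mem_bot, h0, smul_zero]
    exact h1 isUnit_one
  have hev : RefHull.evalStalk F (Coh.structureModule X) x θ ≠ 0 := fun h0 => hθ0
    (GrothLib.HomSh.evalStalk_injective F (Coh.structureModule X) hF.2 x (by rw [h0, map_zero]))
  obtain ⟨v, hv⟩ : ∃ v, RefHull.evalStalk F (Coh.structureModule X) x θ v ≠ 0 := by
    by_contra hno
    push Not at hno
    exact hev (LinearMap.ext hno)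
  obtain ⟨e⟩ : Nonempty ((Coh.structureModule X).presheaf.stalk x ≃ₗ[X.presheaf.stalk x] X.presheaf.stalk x) :=
    (GrothLib.AssPts.exists_stalk_unit_equiv x).map LinearEquiv.symm
  set z := e (RefHull.evalStalk F (Coh.structureModule X) x θ v)
  have hz : z ≠ 0 := fun h0 => hv (e.injective (by rw [map_zero]; exact h0))
  have hmz : ∀ a ∈ IsLocalRing.maximalIdeal (X.presheaf.stalk x), a * z = 0 := fun a ha => by
    rw [← smul_eq_mul, ← map_smul, ← LinearMap.smul_apply, ← map_smul, hann a ha, map_zero, LinearMap.zero_apply,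
      map_zero]
  have hzu : IsUnit z := by
    by_contra hu
    exact hz (IsNilpotent.eq_zero (x := z) ⟨2, by rw [pow_two]; exact hmz z hu⟩)
  refine hpure x hx (GrothLib.FacDiv.isOpen_singleton_of_isolated (fun w hw => ?_) fun w hw => ?_)
  · obtain ⟨q, hq⟩ : w ∈ Set.range (X.fromSpecStalk x).base := by rw [Scheme.range_fromSpecStalk]; exact hw
    have h1 : q.asIdeal = IsLocalRing.maximalIdeal _ :=
      le_antisymm (IsLocalRing.le_maximalIdeal q.2.ne_top)
        (fun a ha => by rw [hzu.mul_left_eq_zero.1 (hmz a ha)]; exact q.asIdeal.zero_mem)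
    have h2 : q = IsLocalRing.closedPoint (X.presheaf.stalk x) := PrimeSpectrum.ext h1
    rw [← hq, h2]
    exact Scheme.fromSpecStalk_closedPoint
  · have h1 : w ∈ closure ({x} : Set X) := hw.mem_closure
    rwa [hx.closure_eq] at h1

end Groth.Agent.S18916
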