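import Groth.Statements.S18917
import Groth.Agent.Lib.ClopenDec11.Semistable
import Groth.Agent.Lib.Euler.Coh

set_option autoImplicit false
universe u
open CategoryTheory CategoryTheory.Limits AlgebraicGeometry
open VBCurve

namespace Groth.Agent.S18917

set_option backward.isDefEq.respectTransparency false


/-- Let k be an algebraically closed field of characteristic zero, Y a smooth proper k-scheme of
dimension one, possibly disconnected, L an ample invertible O_Y-module (the polarization) and E a
nonzero finite locally free O_Y-module. For an open and closed U ⊆ Y with inclusion j write E_U =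
j_*(E|_U), the part of E supported on U (a direct summand of E), χ for the Euler characteristic over
k and α(M) = χ(M ⊗ L) − χ(M) for the multiplicity. Then E is semistable of dimension one with
respect to L if and only if, for every connected component U of Y with E_U ≠ 0, the module E_U is
semistable of dimension one with respect to L and has the same reduced Hilbert polynomial as E, that
is χ(E_U) · α(E) = χ(E) · α(E_U). (Equality of reduced Hilbert polynomials is the source's condition
that the slope of E equals the slope of E|_U plus the correction term attached to the component.) -/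
theorem result
    (k : Type u) [Field k] [IsAlgClosed k] [CharZero k]
    (Y : Scheme.{u}) [Y.Over (Spec (CommRingCat.of k))] [IsProper (Y ↘ Spec (CommRingCat.of k))]
    [Smooth (Y ↘ Spec (CommRingCat.of k))] (hdim : topologicalKrullDim Y = 1)
    (L : Y.Modules) (hL : CohB1.IsAmple L)
    (E : Y.Modules) (hE : FlatMod.IsFinLocFree E) (hE0 : ¬ IsZero E) :
    ShStab.IsSemistable k Y L E 1 ↔
      ∀ U : Y.Opens, IsClopen (U : Set Y) → _root_.IsConnected (U : Set Y) →
        ¬ IsZero ((Scheme.Modules.pushforward U.ι).obj (E.restrict U.ι)) →
        ShStab.IsSemistable k Y L ((Scheme.Modules.pushforward U.ι).obj (E.restrict U.ι)) 1 ∧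
          Curv2.euler k Y ((Scheme.Modules.pushforward U.ι).obj (E.restrict U.ι)) *
              (Curv2.euler k Y (CohB1.tensorMod E L) - Curv2.euler k Y E) =
            Curv2.euler k Y E *
              (Curv2.euler k Y (CohB1.tensorMod ((Scheme.Modules.pushforward U.ι).obj (E.restrict U.ι)) L) -
                Curv2.euler k Y ((Scheme.Modules.pushforward U.ι).obj (E.restrict U.ι))) := by
  haveI := GrothLib.Euler.isNoetherian_of_proper (X := Y) k
  have hEc : Coh.IsCoh E := GrothLib.Euler.isCoh_of_isFinLocFree hE
  have hd := hdim.le
  constructor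
  · intro h U hU _ hz
    obtain ⟨e⟩ := GrothLib.ClopenDec11.nonempty_part_iso_push U hU E
    have hz' := fun h0 => hz (IsZero.of_iso h0 e.symm)
    have hc := GrothLib.ClopenDec11.isCoh_part ⟨(U : Set Y), hU⟩ hEc
    refine ⟨GrothLib.ClopenDec11.isSemistable_of_iso k hd hL.1 e.symm (GrothLib.QCoh.isCoh_of_iso e hc)
      (GrothLib.ClopenDec11.isSemistable_part k hd hL h _ hz'), ?_⟩
    have h1 := GrothLib.ClopenDec11.part_slope k hd hL.1 h ⟨(U : Set Y), hU⟩
    rw [GrothLib.Euler.euler_of_iso k e, GrothLib.DecSh20.mult_of_iso k L e] at h1
    simp only [DecSh.mult] at h1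
    linarith
  · intro h
    refine GrothLib.ClopenDec11.isSemistable_of_parts k hdim hL hEc hE0 fun S hS hz => ?_
    let U : Y.Opens := ⟨S, S.isClopen.2⟩
    obtain ⟨e⟩ := GrothLib.ClopenDec11.nonempty_part_iso_push U S.isClopen E
    obtain ⟨hss, heq⟩ := h U S.isClopen hS fun h0 => hz (IsZero.of_iso h0 e)
    have hc := GrothLib.ClopenDec11.isCoh_part S hEc
    refine ⟨GrothLib.ClopenDec11.isSemistable_of_iso k hd hL.1 e hc hss, ?_⟩
    rw [show GrothLib.ClopenDec11.part S E = GrothLib.ClopenDec11.part ⟨(U : Set Y), S.isClopen⟩ E from rfl,
      GrothLib.Euler.euler_of_iso k e, GrothLib.DecSh20.mult_of_iso k L e]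
    simp only [DecSh.mult]
    linarith

end Groth.Agent.S18917
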