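import Groth.Statements.S18919
import Groth.Agent.Lib.NodeSpread11.Basic
import Groth.Agent.Lib.NodeSpread11.Spread

set_option autoImplicit false
universe u
open CategoryTheory CategoryTheory.Limits AlgebraicGeometry
open TFNodal

namespace Groth.Agent.S18919

set_option backward.isDefEq.respectTransparency false


/-- Let k be an algebraically closed field of characteristic zero, X a connected proper curve over k (a
proper k-scheme of dimension one) whose closed points are smooth points or nodes, and F a coherent
torsion free O_X-module (every stalk a torsion free module over the local ring). Let x be a node at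
which the stalk F_x is isomorphic, as an O_{X,x}-module, to m_x^{⊕a} ⊕ O_{X,x}^{⊕b} (F of type given
by a and b at x). Then there is an open neighbourhood U of x containing no other node such that F|_U
is isomorphic to I|_U^{⊕a} ⊕ O_U^{⊕b}, where I ⊆ O_X is the ideal sheaf of the reduced closed point
x (existence of an isomorphism; the source produces one whose stalk at x is the given one). The
published statement assumes F of uniform multirank r with b = r − a; this row allows any a and b,
the argument being local at x. -/
theorem result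
    (k : Type u) [Field k] [IsAlgClosed k] [CharZero k]
    (X : Scheme.{u}) [X.Over (Spec (CommRingCat.of k))] [IsProper (X ↘ Spec (CommRingCat.of k))]
    [ConnectedSpace X] (hdim : topologicalKrullDim X = 1) (hnod : Curv2.AtWorstNodal k X)
    (F : X.Modules) (hF : Coh.IsCoh F) (htF : TorSh.IsTorsionFree F)
    (x : X) (hx : Curv2.IsNode k X x) (a b : ℕ)
    (hΦ : Nonempty (F.presheaf.stalk x ≃ₗ[X.presheaf.stalk x]
      ((Fin a → IsLocalRing.maximalIdeal (X.presheaf.stalk x)) × (Fin b → X.presheaf.stalk x)))) :
    ∃ U : X.Opens, x ∈ U ∧ (∀ y ∈ U, Curv2.IsNode k X y → y = x) ∧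
      Nonempty (F.restrict U.ι ≅
        (∐ fun _ : Fin a =>
            (ClSub.idealMod (Scheme.IdealSheafData.vanishingIdeal (⟨{x}, hx.1⟩ : TopologicalSpace.Closeds X))).restrict U.ι) ⨿
          (∐ fun _ : Fin b => Coh.structureModule (↑U : Scheme.{u}))) := by
  haveI : IsLocallyNoetherian X := LocallyOfFiniteType.isLocallyNoetherian (X ↘ (Spec (CommRingCat.of k)))
  obtain ⟨θ⟩ := hΦ
  obtain ⟨V, hxV, hV⟩ := GrothLib.NodeSpread11.exists_nhd_iso_model hF hx.1 a b θ
  have hfin := GrothLib.NodeSpread11.finite_setOf_isNode k hdim.le hnod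
  have hcl : IsClosed ({y : X | Curv2.IsNode k X y ∧ y ≠ x}) := by
    have : {y : X | Curv2.IsNode k X y ∧ y ≠ x} = ⋃ y ∈ {y : X | Curv2.IsNode k X y ∧ y ≠ x}, {y} :=
      (Set.biUnion_of_singleton _).symm
    rw [this]
    exact (hfin.subset fun y h => h.1).isClosed_biUnion fun y hy => hy.1.1
  refine ⟨V ⊓ ⟨_, hcl.isOpen_compl⟩, ⟨hxV, fun h => h.2 rfl⟩, fun y hy hn => ?_, hV _ inf_le_left⟩
  by_contra hne
  exact hy.2 ⟨hn, hne⟩

end Groth.Agent.S18919
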