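import Groth.Statements.S18921
import Groth.Agent.Lib.ClopenDec11.ZeroEuler

set_option autoImplicit false
universe u
open CategoryTheory CategoryTheory.Limits AlgebraicGeometry
open VBCurve

namespace Groth.Agent.S18921

set_option backward.isDefEq.respectTransparency false


/-- Let k be an algebraically closed field of characteristic zero, Y a smooth proper k-scheme of
dimension one, possibly disconnected but with no isolated points (every connected component is a
curve), and L an ample invertible O_Y-module. Say (Y, L) has property P when for any two finite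
locally free O_Y-modules E, F with nowhere-zero stalks (support equal to Y) that are semistable of
dimension one with respect to L, the tensor product E ⊗ F is again semistable. If (Y, L) has
property P then for every connected component U of Y, with j : U → Y the inclusion, O_U =
j_*(O_Y|_U) and L_U = j_*(L|_U), the Euler characteristics over k satisfy χ(O_U) · (χ(L) − χ(O_Y)) =
χ(O_Y) · (χ(L_U) − χ(O_U)); in words, χ(O_U)/deg(L|_U) is the same for all components and equals
χ(O_Y)/deg L. -/
theorem result
    (k : Type u) [Field k] [IsAlgClosed k] [CharZero k]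
    (Y : Scheme.{u}) [Y.Over (Spec (CommRingCat.of k))] [IsProper (Y ↘ Spec (CommRingCat.of k))]
    [Smooth (Y ↘ Spec (CommRingCat.of k))] (hdim : topologicalKrullDim Y = 1)
    (hpure : ∀ y : Y, ¬ IsOpen ({y} : Set Y))
    (L : Y.Modules) (hL : CohB1.IsAmple L)
    (hP : ∀ E F : Y.Modules, FlatMod.IsFinLocFree E → FlatMod.IsFinLocFree F →
      (∀ y : Y, ¬ Subsingleton (E.presheaf.stalk y)) → (∀ y : Y, ¬ Subsingleton (F.presheaf.stalk y)) →
      ShStab.IsSemistable k Y L E 1 → ShStab.IsSemistable k Y L F 1 →
      ShStab.IsSemistable k Y L (CohB1.tensorMod E F) 1)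
    (U : Y.Opens) (hUc : IsClopen (U : Set Y)) (hUconn : _root_.IsConnected (U : Set Y)) :
    Curv2.euler k Y ((Scheme.Modules.pushforward U.ι).obj ((Coh.structureModule Y).restrict U.ι)) *
        (Curv2.euler k Y L - Curv2.euler k Y (Coh.structureModule Y)) =
      Curv2.euler k Y (Coh.structureModule Y) *
        (Curv2.euler k Y ((Scheme.Modules.pushforward U.ι).obj (L.restrict U.ι)) -
          Curv2.euler k Y ((Scheme.Modules.pushforward U.ι).obj ((Coh.structureModule Y).restrict U.ι))) := by
  obtain ⟨E, hE⟩ := GrothLib.ClopenDec11.exists_good k hdim.le hpure hL (⊤ : TopologicalSpace.Clopens Y)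
  exact GrothLib.ClopenDec11.proportional_of_good k hdim hpure hL hE (hP E E hE.1 hE.1 (fun y => hE.2.2.1 y trivial)
    (fun y => hE.2.2.1 y trivial) (GrothLib.ClopenDec11.euler_part_good k hdim hpure hL hE).2
    (GrothLib.ClopenDec11.euler_part_good k hdim hpure hL hE).2) U hUc hUconn

end Groth.Agent.S18921
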