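import Groth.Statements.S18923
import Groth.Agent.Lib.ClopenDec11.Slope

set_option autoImplicit false
universe u
open CategoryTheory CategoryTheory.Limits AlgebraicGeometry
open VBCurve

namespace Groth.Agent.S18923

set_option backward.isDefEq.respectTransparency false


/-- Let k be an algebraically closed field of characteristic zero, Y a smooth proper k-scheme of
dimension one, possibly disconnected but with no isolated points, and L an ample invertible
O_Y-module such that for every connected component U of Y, with j : U → Y, O_U = j_*(O_Y|_U) and L_U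
= j_*(L|_U), one has χ(O_U) · (χ(L) − χ(O_Y)) = χ(O_Y) · (χ(L_U) − χ(O_U)) (all correction terms of
the components vanish). Let E and F be finite locally free O_Y-modules with nowhere-zero stalks,
both semistable of dimension one with respect to L, and write α(M) = χ(M ⊗ L) − χ(M). Then χ(E ⊗
F)/α(E ⊗ F) = χ(E)/α(E) + χ(F)/α(F) − χ(O_Y)/(χ(L) − χ(O_Y)) as rational numbers; equivalently the
slope of E ⊗ F is the sum of the slopes of E and F. The published statement speaks of any two
semistable locally free sheaves; this row takes E and F with nowhere-zero stalks (support all of Y),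
without which E ⊗ F can be zero and the slopes undefined. -/
theorem result
    (k : Type u) [Field k] [IsAlgClosed k] [CharZero k]
    (Y : Scheme.{u}) [Y.Over (Spec (CommRingCat.of k))] [IsProper (Y ↘ Spec (CommRingCat.of k))]
    [Smooth (Y ↘ Spec (CommRingCat.of k))] (hdim : topologicalKrullDim Y = 1)
    (hpure : ∀ y : Y, ¬ IsOpen ({y} : Set Y))
    (L : Y.Modules) (hL : CohB1.IsAmple L)
    (hB : ∀ U : Y.Opens, IsClopen (U : Set Y) → _root_.IsConnected (U : Set Y) →
      Curv2.euler k Y ((Scheme.Modules.pushforward U.ι).obj ((Coh.structureModule Y).restrict U.ι)) * (Curv2.euler k Y L - Curv2.euler k Y (Coh.structureModule Y)) =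
        Curv2.euler k Y (Coh.structureModule Y) * (Curv2.euler k Y ((Scheme.Modules.pushforward U.ι).obj (L.restrict U.ι)) - Curv2.euler k Y ((Scheme.Modules.pushforward U.ι).obj ((Coh.structureModule Y).restrict U.ι))))
    (E F : Y.Modules) (hE : FlatMod.IsFinLocFree E) (hF : FlatMod.IsFinLocFree F)
    (hE0 : ∀ y : Y, ¬ Subsingleton (E.presheaf.stalk y)) (hF0 : ∀ y : Y, ¬ Subsingleton (F.presheaf.stalk y))
    (hEs : ShStab.IsSemistable k Y L E 1) (hFs : ShStab.IsSemistable k Y L F 1) :
    ((Curv2.euler k Y (CohB1.tensorMod E F) : ℚ) /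
        ((Curv2.euler k Y (CohB1.tensorMod (CohB1.tensorMod E F) L) - Curv2.euler k Y (CohB1.tensorMod E F) : ℤ) : ℚ)) =
      (Curv2.euler k Y E : ℚ) / ((Curv2.euler k Y (CohB1.tensorMod E L) - Curv2.euler k Y E : ℤ) : ℚ) +
        (Curv2.euler k Y F : ℚ) / ((Curv2.euler k Y (CohB1.tensorMod F L) - Curv2.euler k Y F : ℤ) : ℚ) -
        (Curv2.euler k Y (Coh.structureModule Y) : ℚ) /
          ((Curv2.euler k Y L - Curv2.euler k Y (Coh.structureModule Y) : ℤ) : ℚ) := by
  obtain ⟨p1, p2, p3, p4, e⟩ := GrothLib.ClopenDec11.euler_tensor_slope k hdim hL hB hE hF hE0 hF0 hEs hFs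
  simp only [DecSh.mult] at p1 p2 p4 e
  have q : ∀ {z : ℤ}, 0 < z → (z : ℚ) ≠ 0 := fun hz => by exact_mod_cast hz.ne'
  have e' := congrArg (fun z : ℤ => (z : ℚ)) e
  simp only [Int.cast_mul, Int.cast_add, Int.cast_sub] at e'
  have a1 := q p1
  have a2 := q p2
  have a3 := q p3
  have a4 := q p4
  simp only [Int.cast_sub] at a1 a2 a3 a4 ⊢
  field_simp
  linear_combination e'

end Groth.Agent.S18923
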