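import Groth.Statements.S18924
import Groth.Agent.Lib.ResCount2

set_option autoImplicit false
set_option linter.all false
universe u
open ResHyp

namespace Groth.Agent.S18924

/-- Let F be a finite field with q elements and let n ≥ 3 be odd. Count the pairs (f, g) where f is a
binary quadratic form and g a binary form of degree n over F, recorded by their coefficient vectors
of lengths 3 and n + 1 (leading coefficients may vanish), whose resultant — the Sylvester
determinant of the two coefficient vectors with size parameters 2 and n — equals 1. The number of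
such pairs is q ^ (n + 3) - q ^ (n + 1). (The published statement gives q ^ (n + 3) + q ^ (n + 1);
for q = 3 and n = 3 the count is 648, not 810.) -/
theorem result (F : Type u) [Field F] [Fintype F] (n : ℕ)
    (hn : Odd n) (h3 : 3 ≤ n) :
    Nat.card {p : (Fin 3 → F) × (Fin (n + 1) → F) //
      Polynomial.resultant (∑ i : Fin 3, Polynomial.C (p.1 i) * Polynomial.X ^ (i : ℕ))
        (∑ j : Fin (n + 1), Polynomial.C (p.2 j) * Polynomial.X ^ (j : ℕ)) 2 n = 1} =
      Fintype.card F ^ (n + 3) - Fintype.card F ^ (n + 1) := by
  refine (GrothLib.ResCount2.count_one (F := F) hn (by omega)).trans ?_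
  have hq := Fintype.one_lt_card (α := F)
  obtain ⟨m, hm⟩ : ∃ m, Fintype.card F = m + 2 := ⟨_, (Nat.sub_add_cancel hq).symm⟩
  simp only [hm, show m + 2 - 1 = m + 1 by omega]
  have e1 : (m + 2) ^ (n + 3) = (m + 2) ^ (n + 1) + (m + 2) ^ (n + 1) * ((m + 1) * (m + 2 + 1)) := by ring
  omega

end Groth.Agent.S18924
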