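import Groth.Statements.S18926
import Groth.Agent.Lib.GCFun11.Basic
import Groth.Agent.Lib.Kodaira.BoundProper
import Groth.Agent.Lib.QCoh.ToSheaf
import Groth.Agent.Lib.Cohom.Exact
import Groth.Agent.Lib.ProjCoh.Generic
import Groth.Agent.Lib.Seesaw26.FieldFunctions

set_option autoImplicit false
universe u
open FinCov

namespace Groth.Agent.S18926

set_option backward.isDefEq.respectTransparency false


open CategoryTheory CategoryTheory.Limits AlgebraicGeometry in
/-- Let k be a field, Y a proper, geometrically connected and geometrically reduced scheme over k, and ρ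
: X ⟶ Y a finite, flat and surjective morphism. If the zeroth cohomology group of the cokernel of
the O_Y-module map O_Y ⟶ ρ_* O_X has at most one element, then X is geometrically connected over k.
(The published statement assumes Y projective and takes for X one of the finite locally free
Gorenstein covers of degree 3, 4 or 5 that it constructs, with the cokernel identified with a dual
vector bundle; this row assumes only that ρ is finite, flat and surjective and that Y is proper.) -/
theorem result
    (k : Type u) [Field k] (X Y : Scheme.{u}) (g : Y ⟶ Spec (CommRingCat.of k)) (ρ : X ⟶ Y)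
    [IsProper g] [GeometricallyConnected g] [GeometricallyReduced g]
    [IsFinite ρ] [Flat ρ] [Surjective ρ]
    (h0 : Subsingleton (Coh.HH Y (cokernel (ClSub.unitToPush ρ)) 0)) :
    GeometricallyConnected (ρ ≫ g) := by
  have hid : Spec.map (CommRingCat.ofHom (RingHom.id k)) = 𝟙 (Spec (CommRingCat.of k)) := Spec.map_id _
  haveI : IsIso (Spec.map (CommRingCat.ofHom (RingHom.id k))) := by rw [hid]; infer_instance
  haveI : AlgebraicGeometry.IsReduced Y := GeometricallyReduced.geometrically_isReduced (f := g)
    (Spec.map (CommRingCat.ofHom (RingHom.id k))) (𝟙 Y) g (IsPullback.of_horiz_isIso ⟨by rw [hid]; simp⟩)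
  haveI := GrothLib.Kodaira.mono_unitToPush ρ
  let S := ShortComplex.mk (ClSub.unitToPush ρ) (cokernel.π (ClSub.unitToPush ρ)) (cokernel.condition _)
  have hS : S.ShortExact :=
    ShortComplex.ShortExact.mk' (ShortComplex.exact_cokernel _) inferInstance inferInstance
  have hinj : Function.Injective (ρ.app ⊤) :=
    GrothLib.Cohom.sections_injective (GrothLib.QCoh.toAbFun_map_shortExact S hS) ⊤
  have hsurj : Function.Surjective (ρ.app ⊤) := fun z => by
    have hsub : Subsingleton Γ(cokernel (ClSub.unitToPush ρ), ⊤) :=
      (GrothLib.ProjCoh.H0top (cokernel (ClSub.unitToPush ρ))).toEquiv.symm.subsingleton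
    exact GrothLib.Cohom.sections_exact (GrothLib.QCoh.toAbFun_map_shortExact S hS) ⊤ z
      (@Subsingleton.elim _ hsub _ _)
  letI := (g.appTop.hom.comp (Scheme.ΓSpecIso (CommRingCat.of k)).inv.hom).toAlgebra
  have hfr : Module.finrank k Γ(Y, ⊤) = 1 := GrothLib.Seesaw26.finrank_functions_eq_one g
  haveI : Nontrivial Γ(Y, ⊤) := Module.nontrivial_of_finrank_eq_succ hfr
  have hY : Function.Bijective (algebraMap k Γ(Y, ⊤)) := by
    refine ⟨(algebraMap k Γ(Y, ⊤)).injective, fun z => ?_⟩
    obtain ⟨c, hc⟩ := (finrank_eq_one_iff_of_nonzero' (1 : Γ(Y, ⊤)) one_ne_zero).1 hfr z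
    exact ⟨c, by rw [← hc, Algebra.smul_def, mul_one]⟩
  refine GrothLib.GCFun11.geometricallyConnected_of_bijective (ρ ≫ g) ?_
  rw [Scheme.Hom.comp_appTop]
  exact (show Function.Bijective (ρ.app ⊤) from ⟨hinj, hsurj⟩).comp hY

end Groth.Agent.S18926
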