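import Groth.Statements.S18927
import Mathlib


set_option autoImplicit false
set_option linter.all false
set_option backward.isDefEq.respectTransparency false
universe u v
open W4c6secantcecovers

namespace Groth.Agent.S18927


open TensorProduct W4c6secantcecovers

variable {R : Type u} [CommRing R] {r : ℕ}

theorem contr_prod (j : Fin r) : ∀ (l : List (Fin r → R)) (b : SSLam R r),
    ssContr R r j ((l.map (ExteriorAlgebra.ι R)).prod * b) =
      ssContr R r j (l.map (ExteriorAlgebra.ι R)).prod * b +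
        (-1 : R) ^ l.length • ((l.map (ExteriorAlgebra.ι R)).prod * ssContr R r j b) := by
  intro l
  induction l with
  | nil => intro b; simp [ssContr, CliffordAlgebra.contractLeft_one]
  | cons a l ih =>
    intro b
    have hι : ∀ c : SSLam R r, ssContr R r j (ExteriorAlgebra.ι R a * c) =
        a j • c - ExteriorAlgebra.ι R a * ssContr R r j c := fun c =>
      CliffordAlgebra.contractLeft_ι_mul _ a c
    rw [List.map_cons, List.prod_cons, mul_assoc, hι, hι, ih, List.length_cons, mul_add, sub_mul, smul_mul_assoc,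
      mul_assoc, mul_assoc, mul_smul_comm, pow_succ, mul_neg_one, neg_smul]
    abel

theorem wedge_eq_zero {a b : ℕ} (hab : r < a + b) (e : Fin a → (Fin r → R)) (f : Fin b → (Fin r → R)) :
    ExteriorAlgebra.ιMulti R a e * ExteriorAlgebra.ιMulti R b f = 0 := by
  have h : (ExteriorAlgebra.ιMulti R (a + b) : (Fin r → R) [⋀^Fin (a + b)]→ₗ[R] SSLam R r) = 0 :=
    Module.Basis.ext_alternating (Pi.basisFun R (Fin r)) fun v hv => by
      have := Fintype.card_le_of_injective v hv
      simp only [Fintype.card_fin] at this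
      omega
  have h2 := DFunLike.congr_fun h (Fin.append e f)
  have happ : (fun i => ExteriorAlgebra.ι R (Fin.append e f i)) =
      Fin.append (fun i => ExteriorAlgebra.ι R (e i)) (fun i => ExteriorAlgebra.ι R (f i)) := by
    funext i
    refine Fin.addCases (fun i => ?_) (fun i => ?_) i <;> simp
  rw [AlternatingMap.zero_apply, ExteriorAlgebra.ιMulti_apply, happ, List.ofFn_fin_append, List.prod_append] at h2
  rw [ExteriorAlgebra.ιMulti_apply, ExteriorAlgebra.ιMulti_apply]
  exact h2

theorem contr_swap {k : ℕ} (hk : k < r) (j : Fin r) (e : Fin (k + 1) → (Fin r → R)) (f : Fin (r - k) → (Fin r → R)) :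
    ssContr R r j (ExteriorAlgebra.ιMulti R (k + 1) e) * ExteriorAlgebra.ιMulti R (r - k) f =
      (-1 : R) ^ k • (ExteriorAlgebra.ιMulti R (k + 1) e * ssContr R r j (ExteriorAlgebra.ιMulti R (r - k) f)) := by
  have h := contr_prod (R := R) j (List.ofFn e) (ExteriorAlgebra.ιMulti R (r - k) f)
  have he : ((List.ofFn e).map (ExteriorAlgebra.ι R)).prod = ExteriorAlgebra.ιMulti R (k + 1) e := by
    rw [ExteriorAlgebra.ιMulti_apply, List.map_ofFn]; rfl
  rw [he, List.length_ofFn, wedge_eq_zero (by omega) e f, map_zero, pow_succ, mul_neg_one, neg_smul] at h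
  exact eq_of_sub_eq_zero (by rw [sub_eq_add_neg]; exact h.symm)

theorem pair_tmul {N : Type v} [AddCommGroup N] [Module R N] (β : N →ₗ[R] N →ₗ[R] R) (k : ℕ)
    (a b : SSB R r) (n m : N) :
    ssPair R r N β k (a ⊗ₜ[R] n) (b ⊗ₜ[R] m) = (-1 : R) ^ (k.choose 2) • (β n m • (a * b)) := by
  simp [ssPair, ssPairAux]


open TensorProduct in
/-- Let R be a commutative ring, E = R^r the free module with its coordinate basis, S = R[X_1, …, X_r]
(the symmetric algebra of E), and N an R-module carrying R-linear operators φ_j (the action of the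
j-th basis vector of E) and an R-bilinear form β with β(φ_j n, m) = β(n, φ_j m) for every j. On (ΛE
⊗ S) ⊗ N — all terms Λ^k(S ⊗ E) ⊗ N of the Scheja–Storch complex at once — let δ be the differential
sending (e_1 ∧ ⋯ ∧ e_k) ⊗ s ⊗ n to Σ_i (-1)^(i-1) (e_1 ∧ ⋯ ê_i ⋯ ∧ e_k) ⊗ x(e_i) s ⊗ n + Σ_i (-1)^i
(e_1 ∧ ⋯ ê_i ⋯ ∧ e_k) ⊗ s ⊗ e_i · n, and pair a term u = ω ⊗ s ⊗ n of degree k with v = η ⊗ t ⊗ m by
⟨u, v⟩_k = (-1)^(k choose 2) β(n, m) · (ω ∧ η) ⊗ s t. Then the differential is adjoint to itself for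
this pairing in complementary degrees: for u = (e_0 ∧ ⋯ ∧ e_k) ⊗ s ⊗ n of degree k + 1 ≤ r and v =
(f_1 ∧ ⋯ ∧ f_(r-k)) ⊗ t ⊗ m of degree r - k, ⟨δ u, v⟩_k = ⟨u, δ v⟩_(k+1). (The source takes E
finitely generated projective and N a module over the ambient algebra with a pairing satisfying ⟨f,
g h⟩ = ⟨g f, h⟩; the proof runs on a basis, which is the form stated here, with the action of E
recorded by the operators φ_j.) -/
theorem result
    (R : Type u) [CommRing R] (r : ℕ) (N : Type v) [AddCommGroup N] [Module R N]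
    (φ : Fin r → (N →ₗ[R] N)) (β : N →ₗ[R] N →ₗ[R] R)
    (hβ : ∀ (j : Fin r) (n m : N), β (φ j n) m = β n (φ j m))
    (k : ℕ) (hk : k < r)
    (e : Fin (k + 1) → (Fin r → R)) (f : Fin (r - k) → (Fin r → R))
    (s t : MvPolynomial (Fin r) R) (n m : N) :
    W4c6secantcecovers.ssPair R r N β k
        (W4c6secantcecovers.ssDelta R r N φ ((ExteriorAlgebra.ιMulti R (k + 1) e ⊗ₜ[R] s) ⊗ₜ[R] n))
        ((ExteriorAlgebra.ιMulti R (r - k) f ⊗ₜ[R] t) ⊗ₜ[R] m) =
      W4c6secantcecovers.ssPair R r N β (k + 1)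
        ((ExteriorAlgebra.ιMulti R (k + 1) e ⊗ₜ[R] s) ⊗ₜ[R] n)
        (W4c6secantcecovers.ssDelta R r N φ ((ExteriorAlgebra.ιMulti R (r - k) f ⊗ₜ[R] t) ⊗ₜ[R] m)) := by
  have hc : (k + 1).choose 2 = k + k.choose 2 := by rw [Nat.choose_succ_succ', Nat.choose_one_right]
  simp only [ssDelta, map_sum, LinearMap.sum_apply]
  refine Finset.sum_congr rfl fun j _ => ?_
  simp only [ssDKoszul, ssDAct, LinearMap.add_apply, LinearMap.smul_apply, TensorProduct.map_tmul, LinearMap.id_apply,
    LinearMap.mulLeft_apply, map_add, map_smul, pair_tmul, Algebra.TensorProduct.tmul_mul_tmul]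
  rw [contr_swap hk, hβ, hc, pow_add, mul_assoc (MvPolynomial.X j) s t, mul_left_comm s (MvPolynomial.X j) t]
  simp only [← TensorProduct.smul_tmul', smul_smul]
  congr 1 <;> congr 1 <;> ring

end Groth.Agent.S18927
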