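import Groth.Statements.S18929
import Groth.Agent.Lib.DPowPoly.Theta

set_option autoImplicit false
universe u
open DPow

namespace Groth.Agent.S18929

/-- Let p be a prime, n a natural number, B a commutative ring in which p^n = 0, and I an ideal of B
equipped with divided powers. There is a ring homomorphism θ from the truncated Witt vectors
W_n(B/I) to B such that, for every Witt vector x over B, θ applied to the truncation of the image of
x in W_n(B/I) equals Σ_{i<n} p^i x_i^(p^(n−i)); in particular this sum depends only on the residues
of x_0, …, x_{n−1} modulo I. (The source works with a divided power thickening of an algebra over a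
perfect field and also checks linearity over the Witt vectors of that field; only the ring
homomorphism is asserted here. θ is unique, the truncation-of-reduction map being surjective.) -/
theorem result (p : ℕ) [Fact p.Prime] (n : ℕ)
    {B : Type u} [CommRing B] (hp : (p : B) ^ n = 0) {I : Ideal B} (hI : DividedPowers I) :
    ∃ θ : TruncatedWittVector p n (B ⧸ I) →+* B, ∀ x : WittVector p B, θ (WittVector.truncate n (WittVector.map (Ideal.Quotient.mk I) x)) =
        ∑ i : Fin n, (p : B) ^ (i : ℕ) * (x.coeff i) ^ (p ^ (n - i)) := by
  exact GrothLib.DPowPoly.exists_theta p n hp hI

end Groth.Agent.S18929
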