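import Groth.Statements.S1893
import Mathlib.AlgebraicGeometry.Morphisms.UniversallyOpen
-- import your own Groth.Agent.* helpers here

set_option autoImplicit false
universe u
open CategoryTheory CategoryTheory.Limits AlgebraicGeometry
open Grpd

namespace Groth.Agent.S1893

/-- Let (U, R, s, t, c) be a groupoid scheme over S with s, t quasi-compact and flat and U
quasi-separated, and W ⊆ U a quasi-compact open. Then the saturation t(s⁻¹(W)) can be written as an
intersection of quasi-compact opens of U, indexed by a nonempty set. (A groupoid scheme carries U,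
R, s, t, c, e, i over S with the groupoid axioms on T-points; 'finite locally free' is finite, flat
and locally of finite presentation; C ⊂ Γ(U) is the ring of functions a with s♯(a) = t♯(a) and M =
Spec C.) -/
theorem result (S : Scheme.{u}) (G : Grpd.GroupoidScheme S) [QuasiCompact G.s] [Flat G.s] [QuasiCompact G.t] [Flat G.t] [QuasiSeparatedSpace G.U] (W : G.U.Opens) (hW : IsCompact (W : Set G.U)) : ∃ (ι : Type u) (_ : Nonempty ι) (V : ι → G.U.Opens), (∀ i, IsCompact (V i : Set G.U)) ∧ ⇑G.t '' (⇑G.s ⁻¹' (W : Set G.U)) = ⋂ i, (V i : Set G.U) := by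
  let E : Set G.U := ⇑G.t '' (⇑G.s ⁻¹' (W : Set G.U))
  have hE : IsCompact E := (G.s.isCompact_preimage hW).image G.t.continuous
  have hgen : StableUnderGeneralization E :=
    (Flat.generalizingMap G.t).stableUnderGeneralization_image
      ((W.2.preimage G.s.continuous).stableUnderGeneralization)
  have key : ∀ O : Set G.U, IsOpen O → E ⊆ O →
      ∃ V : G.U.Opens, IsCompact (V : Set G.U) ∧ E ⊆ V ∧ (V : Set G.U) ⊆ O := by
    intro O hO hEO
    choose A hA hxA hAO using fun x : E =>
      G.U.isBasis_affineOpens.exists_subset_of_mem_open (hEO x.2) hO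
    obtain ⟨s, hs⟩ := hE.elim_finite_subcover A
      (fun x => by obtain ⟨V, -, hV⟩ := hA x; exact hV ▸ V.2)
      (fun x hx => Set.mem_iUnion.mpr ⟨⟨x, hx⟩, hxA ⟨x, hx⟩⟩)
    refine ⟨⟨⋃ x ∈ s, A x, isOpen_biUnion fun x _ => by obtain ⟨V, -, hV⟩ := hA x; exact hV ▸ V.2⟩,
      s.isCompact_biUnion fun x _ => ?_, hs, Set.iUnion₂_subset fun x _ => hAO x⟩
    obtain ⟨V, hV, hVA⟩ := hA x
    exact hVA ▸ hV.isCompact
  obtain ⟨V₀, hV₀, hEV₀, -⟩ := key Set.univ isOpen_univ (Set.subset_univ _)
  refine ⟨{V : G.U.Opens // IsCompact (V : Set G.U) ∧ E ⊆ V}, ⟨⟨V₀, hV₀, hEV₀⟩⟩, fun V => V.1,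
    fun V => V.2.1, Set.Subset.antisymm (Set.subset_iInter fun V => V.2.2) fun y hy => ?_⟩
  by_contra hyE
  obtain ⟨V, hV, hEV, hVy⟩ := key (closure {y})ᶜ isClosed_closure.isOpen_compl
    fun e he hey => hyE (hgen (specializes_iff_mem_closure.mpr hey) he)
  exact hVy (Set.mem_iInter.mp hy ⟨V, hV, hEV⟩) (subset_closure rfl)

end Groth.Agent.S1893
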