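import Groth.Statements.S18931
import Groth.Agent.Lib.DPowPoly.Theta

set_option autoImplicit false
universe u
open DPow

namespace Groth.Agent.S18931

/-- Let p be a prime, n ≥ 1, B a commutative ring with p^n = 0 and A = B/pB, and assume that the p-th
power map of A is surjective. Let θ : W_n(A) → B be the ring homomorphism which sends the reduction
of a Witt vector (x_0, …, x_{n−1}) over B to Σ_{i<n} p^i x_i^(p^(n−i)). Then every a in W_n(A) with
a_0^(p^n) = 0 lies in ker θ + (p); together with the reverse inclusion, ker θ + (p) is exactly the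
set of such a. (In the source B is the ring of global sections of a scheme over the Witt vectors of
length n of a perfect field. The printed argument subtracts a single correction term, which suffices
for n ≤ 2; in general one corrects the components one at a time.) -/
theorem result (p : ℕ) [Fact p.Prime]
    (n : ℕ) (hn : 0 < n) {B : Type u} [CommRing B] (hp : (p : B) ^ n = 0)
    (hF : Function.Surjective (fun y : B ⧸ (Ideal.span {(p : B)}) => y ^ p))
    (θ : TruncatedWittVector p n (B ⧸ (Ideal.span {(p : B)})) →+* B)
    (hθ : ∀ x : WittVector p B, θ (WittVector.truncate n (WittVector.map (Ideal.Quotient.mk (Ideal.span {(p : B)})) x)) =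
        ∑ i : Fin n, (p : B) ^ (i : ℕ) * (x.coeff i) ^ (p ^ (n - i)))
    (a : TruncatedWittVector p n (B ⧸ (Ideal.span {(p : B)}))) (ha : (TruncatedWittVector.coeff ⟨0, hn⟩ a) ^ (p ^ n) = 0) :
    a ∈ RingHom.ker θ ⊔ Ideal.span {(p : TruncatedWittVector p n (B ⧸ (Ideal.span {(p : B)})))} := by
  have h := GrothLib.DPowPoly.quot_theta θ hθ hn a
  rw [ha, Ideal.Quotient.eq_zero_iff_mem] at h
  obtain ⟨c, hc⟩ := Ideal.mem_span_singleton'.1 h
  obtain ⟨v, rfl⟩ := GrothLib.DPowPoly.theta_surjective θ hθ hp hF c
  refine Submodule.mem_sup.2 ⟨a - v * p, ?_, v * p,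
    Ideal.mul_mem_left _ _ (Ideal.mem_span_singleton_self _), sub_add_cancel _ _⟩
  rw [RingHom.mem_ker, map_sub, map_mul, map_natCast, hc, sub_self]

end Groth.Agent.S18931
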