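import Groth.Statements.S18934
import Groth.Agent.Lib.RelGCIReg.Finite

set_option autoImplicit false
universe u
open Synt

namespace Groth.Agent.S18934

open Polynomial in
/-- Let p be a prime, A a commutative ring and a an element of A. Then the A-algebra A[T]/(T^p − a) is
syntomic and faithfully flat over A. This is the step of the source's proof showing that adjoining a
p-th root of any element is a covering for the syntomic topology. -/
theorem result (p : ℕ) [Fact p.Prime]
    (A : Type u) [CommRing A] (a : A) :
    Synt.IsSyntomic A (AdjoinRoot (X ^ p - C a)) ∧ Module.FaithfullyFlat A (AdjoinRoot (X ^ p - C a)) :=   ⟨GrothLib.RelGCIReg.isSyntomic_adjoinRoot _ (Polynomial.monic_X_pow_sub_C a (Fact.out : p.Prime).ne_zero),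
    (subsingleton_or_nontrivial A).elim (fun _ => by
      haveI : Subsingleton (AdjoinRoot (X ^ p - C a)) := Module.subsingleton A _
      haveI : Unique (AdjoinRoot (X ^ p - C a)) := uniqueOfSubsingleton 0
      exact Module.FaithfullyFlat.of_linearEquiv A A (LinearEquiv.ofSubsingleton _ _)) fun _ =>
    GrothLib.RelGCIReg.faithfullyFlat_adjoinRoot _ (Polynomial.monic_X_pow_sub_C a (Fact.out : p.Prime).ne_zero)
      (by rw [Polynomial.natDegree_X_pow_sub_C]; exact (Fact.out : p.Prime).pos)⟩

end Groth.Agent.S18934
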