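import Groth.Statements.S18936
import Mathlib.RingTheory.Localization.AtPrime.Basic
import Mathlib.RingTheory.Localization.Away.Basic
import Mathlib.RingTheory.Noetherian.Basic
import Mathlib.Tactic.LinearCombination

set_option autoImplicit false
universe u
open CAlg

namespace Groth.Agent.S18936

/-- Let A be a Noetherian commutative ring, q a prime ideal of A and f an element of A whose image in
the localization A_q is a non-zero-divisor. Then there is an element b of A not in q such that the
image of f in A[1/b] is a non-zero-divisor. -/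
theorem result {A : Type u} [CommRing A] [IsNoetherianRing A]
    (q : Ideal A) [q.IsPrime] (f : A)
    (hf : algebraMap A (Localization.AtPrime q) f ∈ nonZeroDivisors (Localization.AtPrime q)) :
    ∃ b : A, b ∉ q ∧ algebraMap A (Localization.Away b) f ∈ nonZeroDivisors (Localization.Away b) := by
  classical
  let K : Ideal A := LinearMap.ker (LinearMap.mulLeft A f)
  obtain ⟨T, hT⟩ := (inferInstance : IsNoetherianRing A).noetherian K
  have h1 : ∀ x ∈ T, ∃ b : A, b ∉ q ∧ b * x = 0 := by
    intro x hx
    have hxK : f * x = 0 := LinearMap.mem_ker.1 (hT ▸ Submodule.subset_span hx : x ∈ K)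
    have h2 : algebraMap A (Localization.AtPrime q) x = 0 := by
      apply (mem_nonZeroDivisors_iff.1 hf).2
      rw [← map_mul, mul_comm, hxK, map_zero]
    obtain ⟨b, hb⟩ := (IsLocalization.map_eq_zero_iff q.primeCompl _ x).1 h2
    exact ⟨b, b.2, hb⟩
  choose! b hbq hb using h1
  refine ⟨∏ x ∈ T, b x, fun h => ?_, ?_⟩
  · obtain ⟨x, hx, hxq⟩ := (‹q.IsPrime›).prod_mem_iff.1 h
    exact hbq x hx hxq
  have hkill : ∀ x ∈ K, (∏ x ∈ T, b x) * x = 0 := by
    intro x hx
    rw [← hT] at hx
    induction hx using Submodule.span_induction with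
    | mem y hy => rw [← Finset.prod_erase_mul _ _ hy, mul_assoc, hb y hy, mul_zero]
    | zero => rw [mul_zero]
    | add y z _ _ h1 h2 => rw [mul_add, h1, h2, add_zero]
    | smul c y _ h1 => rw [smul_eq_mul, mul_left_comm, h1, mul_zero]
  set B := ∏ x ∈ T, b x
  rw [mem_nonZeroDivisors_iff_right]
  intro z hz
  obtain ⟨⟨a, s⟩, hs⟩ := IsLocalization.surj (Submonoid.powers B) z
  have h2 : algebraMap A (Localization.Away B) (a * f) = 0 := by
    rw [map_mul, ← hs]
    linear_combination algebraMap A (Localization.Away B) (s : A) * hz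
  obtain ⟨⟨c, n, rfl⟩, hc⟩ := (IsLocalization.map_eq_zero_iff (Submonoid.powers B) _ _).1 h2
  have h3 : B * (B ^ n * a) = 0 := hkill _ (by
    change f * (B ^ n * a) = 0
    change B ^ n * (a * f) = 0 at hc
    linear_combination hc)
  have h4 : algebraMap A (Localization.Away B) a = 0 :=
    (IsLocalization.map_eq_zero_iff (Submonoid.powers B) _ _).2
      ⟨⟨B ^ (n + 1), n + 1, rfl⟩, by change B ^ (n + 1) * a = 0; linear_combination h3⟩
  rw [h4] at hs
  exact (IsLocalization.map_units (Localization.Away B) s).mul_left_eq_zero.1 hs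

end Groth.Agent.S18936
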