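import Groth.Statements.S18937
-- import your own Groth.Agent.* helpers here
import Groth.Agent.Lib.CInt17.Near
import Groth.Agent.Lib.RegSeqLoc.Scheme
import Mathlib.RingTheory.Localization.Away.AdjoinRoot
import Mathlib.Algebra.MvPolynomial.Equiv
import Mathlib.RingTheory.Polynomial.Basic

set_option autoImplicit false
universe u
open CategoryTheory AlgebraicGeometry
open RegImm

open RingTheory.Sequence in
theorem isRegularIdeal_ker_localRingHom {S : Type u} [CommRing S] [IsNoetherianRing S] (I : Ideal S)
    (h : RegImm.IsRegularImmersion RegImm.Kind.regular (Spec.map (CommRingCat.ofHom (Ideal.Quotient.mk I))))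
    (q : PrimeSpectrum (S ⧸ I)) :
    ∃ rs : List (Localization.AtPrime (q.comap (Ideal.Quotient.mk I)).asIdeal),
      IsRegular (Localization.AtPrime (q.comap (Ideal.Quotient.mk I)).asIdeal) rs ∧
      I.map (algebraMap S (Localization.AtPrime (q.comap (Ideal.Quotient.mk I)).asIdeal)) = Ideal.ofList rs := by
  let f : CommRingCat.of S ⟶ CommRingCat.of (S ⧸ I) := CommRingCat.ofHom (Ideal.Quotient.mk I)
  haveI : IsClosedImmersion (Spec.map f) := IsClosedImmersion.spec_of_surjective _ Ideal.Quotient.mk_surjective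
  obtain ⟨U, hU, -, rs, hrs, hI⟩ := h.2 q
  obtain ⟨rs', hrs', hI'⟩ := (GrothLib.RegSeqLoc.exists_affine_iff (Spec.map f) q).1
    ⟨U, hU, rs, hrs, by rw [Scheme.Hom.ker_apply]; exact hI⟩
  have hreg : CInt.IsRegularIdeal (RingHom.ker ((Spec.map f).stalkMap q).hom) := ⟨rs', hrs', hI'.symm⟩
  let e : _ ≃+* Localization.AtPrime (q.comap (Ideal.Quotient.mk I)).asIdeal :=
    (Spec.stalkIso (CommRingCat.of S) (q.comap f.hom)).commRingCatIsoToRingEquiv
  obtain ⟨rs2, h2, h2'⟩ := GrothLib.CInt17.isRegularIdeal_map_ringEquiv e hreg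
  refine ⟨rs2, h2, ?_⟩
  rw [h2']
  let φ := Localization.localRingHom (q.comap f.hom).asIdeal q.asIdeal f.hom rfl
  let e₂ := (Spec.stalkIso (CommRingCat.of (S ⧸ I)) q).commRingCatIsoToRingEquiv
  have hker : RingHom.ker φ = I.map (algebraMap S (Localization.AtPrime (q.comap f.hom).asIdeal)) := by
    refine le_antisymm (fun r hr => ?_) (Ideal.map_le_iff_le_comap.2 fun a ha => ?_)
    · obtain ⟨a, s, rfl⟩ := IsLocalization.exists_mk'_eq (q.comap f.hom).asIdeal.primeCompl r
      rw [RingHom.mem_ker, Localization.localRingHom_mk', IsLocalization.mk'_eq_zero_iff] at hr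
      obtain ⟨⟨t, ht⟩, hta⟩ := hr
      obtain ⟨t, rfl⟩ := Ideal.Quotient.mk_surjective t
      rw [IsLocalization.mk'_mem_iff, IsLocalization.algebraMap_mem_map_algebraMap_iff (q.comap f.hom).asIdeal.primeCompl]
      exact ⟨t, ht, Ideal.Quotient.eq_zero_iff_mem.1 ((map_mul _ t a).trans hta)⟩
    · rw [Ideal.mem_comap, RingHom.mem_ker, Localization.localRingHom_to_map]
      exact (congrArg _ (Ideal.Quotient.eq_zero_iff_mem.2 ha)).trans (map_zero _)
  refine hker.symm.trans ?_
  have hφ : ((Spec.map f).stalkMap q).hom = (e₂.symm.toRingHom).comp (φ.comp e.toRingHom) :=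
    congrArg CommRingCat.Hom.hom (Scheme.localRingHom_comp_stalkIso f q).symm
  have hk2 : RingHom.ker ((Spec.map f).stalkMap q).hom = (RingHom.ker φ).comap e.toRingHom := by
    rw [hφ]
    exact (RingHom.ker_equiv_comp (φ.comp e.toRingHom) e₂.symm).trans (RingHom.comap_ker φ e.toRingHom).symm
  rw [hk2]
  exact (Ideal.map_comap_of_surjective e.toRingHom e.surjective (RingHom.ker φ)).symm


namespace Groth.Agent.S18937

/-- Let A be a Noetherian commutative ring, n a natural number, I an ideal of the polynomial ring A[X_1,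
…, X_n] and B = A[X_1, …, X_n]/I, and assume that the closed immersion Spec B → Spec A[X_1, …, X_n]
is a regular immersion (kind: successive non-zero-divisors). Then Spec B is covered by basic opens
D(g) with B[1/g] isomorphic, as an A-algebra, to a quotient A[X_0, …, X_n]/(P_1, …, P_d) of the
polynomial ring in one more variable by a regular sequence P_1, …, P_d. -/
theorem result
    (A : Type u) [CommRing A] [IsNoetherianRing A] (n : ℕ) (I : Ideal (MvPolynomial (Fin n) A))
    (h : RegImm.IsRegularImmersion RegImm.Kind.regular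
      (Spec.map (CommRingCat.ofHom (Ideal.Quotient.mk I))))
    (q : PrimeSpectrum (MvPolynomial (Fin n) A ⧸ I)) :
    ∃ g : MvPolynomial (Fin n) A ⧸ I, g ∉ q.asIdeal ∧
      ∃ (d : ℕ) (P : Fin d → MvPolynomial (Fin (n + 1)) A),
        RingTheory.Sequence.IsRegular (MvPolynomial (Fin (n + 1)) A) (List.ofFn P) ∧
        Nonempty (Localization.Away g ≃ₐ[A] (MvPolynomial (Fin (n + 1)) A ⧸ Ideal.ofList (List.ofFn P))) := by
  classical
  obtain ⟨rs, hreg, hI⟩ := isRegularIdeal_ker_localRingHom I h q
  set S := MvPolynomial (Fin n) A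
  let P : Ideal S := (q.comap (Ideal.Quotient.mk I)).asIdeal
  let R := Localization.AtPrime P
  choose as hs using fun i : Fin rs.length => IsLocalization.surj P.primeCompl (rs.get i)
  let a : Fin rs.length → S := fun i => (as i).1
  let u : Fin rs.length → R := fun i => algebraMap S _ (as i).2.1
  have hu : ∀ i, IsUnit (u i) := fun i => IsLocalization.map_units _ (as i).2
  have hmap : (List.ofFn a).map (algebraMap S R) = List.ofFn fun i => u i * rs.get i := by
    rw [List.map_ofFn]
    congr 1
    funext i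
    exact (hs i).symm.trans (mul_comm _ _)
  have hw : RingTheory.Sequence.IsWeaklyRegular R ((List.ofFn a).map (algebraMap S R)) := by
    rw [hmap]
    refine GrothLib.RegSeqLoc.isWeaklyRegular_ofFn_mul u hu ?_
    rw [List.ofFn_get]
    exact hreg.toIsWeaklyRegular
  have hideal : Ideal.ofList ((List.ofFn a).map (algebraMap S R)) = Ideal.ofList rs := by
    rw [hmap]
    have := GrothLib.RegSeqLoc.ofList_take_ofFn_mul u hu rs.get rs.length
    rwa [List.take_of_length_le (by simp), List.take_of_length_le (by simp), List.ofFn_get] at this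
  obtain ⟨g₁, hg₁, h₁⟩ := GrothLib.RegSeqLoc.exists_away_isWeaklyRegular P.primeCompl R (List.ofFn a) hw
  obtain ⟨g₂, hg₂, h₂⟩ := GrothLib.RegSeqLoc.exists_away_eq P.primeCompl R I (Ideal.ofList (List.ofFn a))
    (by rw [Ideal.map_ofList, hideal]; exact hI)
  let G : S := g₁ * g₂
  have hG : G ∉ P := mul_mem hg₁ hg₂
  let B := Localization.Away G
  have huG : IsUnit (algebraMap S B G) := IsLocalization.Away.algebraMap_isUnit _
  rw [map_mul, IsUnit.mul_iff] at huG
  have hBreg := h₁ (Submonoid.powers G) B huG.1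
  have hBI : I.map (algebraMap S B) = Ideal.ofList ((List.ofFn a).map (algebraMap S B)) := by
    rw [h₂ B huG.2, Ideal.map_ofList]
  set g : S ⧸ I := Ideal.Quotient.mk I G with hg
  refine ⟨g, fun hc => hG hc, rs.length + 1, ?_⟩
  let Q := Localization.Away g
  let θ : B →+* Q := IsLocalization.Away.map B Q (Ideal.Quotient.mk I) G
  have hpow : (Submonoid.powers G).map (Ideal.Quotient.mk I) = Submonoid.powers g := Submonoid.map_powers _ _
  have hθs : Function.Surjective θ := by
    intro z
    obtain ⟨b, s, rfl⟩ := IsLocalization.exists_mk'_eq (Submonoid.powers g) z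
    obtain ⟨b, rfl⟩ := Ideal.Quotient.mk_surjective b
    obtain ⟨s', k, rfl⟩ := s
    refine ⟨IsLocalization.mk' B b (⟨G ^ k, pow_mem (Submonoid.mem_powers G) k⟩ : Submonoid.powers G), ?_⟩
    refine (IsLocalization.map_mk' _ b ⟨G ^ k, pow_mem (Submonoid.mem_powers G) k⟩).trans ?_
    congr 1
  have hθk : RingHom.ker θ = I.map (algebraMap S B) := by
    rw [show RingHom.ker θ = _ from IsLocalization.ker_map Q (Ideal.Quotient.mk I) hpow, Ideal.mk_ker]
  have hθa : ∀ s : S, θ (algebraMap S B s) = algebraMap (S ⧸ I) Q (Ideal.Quotient.mk I s) := fun s =>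
    IsLocalization.map_eq _ s
  let e := Localization.awayEquivAdjoin G
  let fT : Polynomial S := Polynomial.C G * Polynomial.X - 1
  let J : Ideal (Polynomial S) := Ideal.span {fT}
  let π : Polynomial S →+* AdjoinRoot fT := AdjoinRoot.mk fT
  let L₂ : List (Polynomial S) := (List.ofFn a).map Polynomial.C
  let Φ : Polynomial S →+* Q := θ.comp ((e.symm : AdjoinRoot fT →+* B).comp π)
  have hΦs : Function.Surjective Φ := hθs.comp (e.symm.surjective.comp AdjoinRoot.mk_surjective)
  have heC : ∀ s : S, e.symm (π (Polynomial.C s)) = algebraMap S B s := fun s => e.symm.commutes s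
  have hJ : Ideal.ofList [fT] = J := by rw [Ideal.ofList_singleton]
  have hΦk : RingHom.ker Φ = Ideal.ofList (fT :: L₂) := by
    have h3 : Ideal.ofList ((List.ofFn a).map (algebraMap S B)) =
        (Ideal.ofList L₂).map ((e.symm : AdjoinRoot fT →+* B).comp π) := by
      rw [Ideal.map_ofList]
      congr 1
      rw [List.map_map]
      exact List.map_congr_left fun s _ => (heC s).symm
    have h4 : RingHom.ker ((e.symm : AdjoinRoot fT →+* B).comp π) = J := by
      rw [show RingHom.ker ((e.symm : AdjoinRoot fT →+* B).comp π) = RingHom.ker π from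
        RingHom.ker_equiv_comp π e.symm.toRingEquiv]
      exact Ideal.mk_ker
    rw [show RingHom.ker Φ = (RingHom.ker θ).comap ((e.symm : AdjoinRoot fT →+* B).comp π) from
      (RingHom.comap_ker θ _).symm, hθk, hBI, h3,
      Ideal.comap_map_of_surjective' ((e.symm : AdjoinRoot fT →+* B).comp π)
        (e.symm.surjective.comp AdjoinRoot.mk_surjective), h4, Ideal.ofList_cons, sup_comm]
  have hQ : Nontrivial Q := by
    rw [← not_subsingleton_iff_nontrivial, IsLocalization.subsingleton_iff (M := Submonoid.powers g) (S := Q)]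
    rintro ⟨k, hk⟩
    exact hG (q.2.mem_of_pow_mem k (show g ^ k ∈ q.asIdeal by rw [show g ^ k = 0 from hk]; exact zero_mem _))
  have hweak : RingTheory.Sequence.IsWeaklyRegular (Polynomial S) (fT :: L₂) := by
    rw [show fT :: L₂ = [fT] ++ L₂ from rfl, RingTheory.Sequence.isWeaklyRegular_append_iff]
    refine ⟨?_, ?_⟩
    · rw [RingTheory.Sequence.isWeaklyRegular_singleton_iff]
      intro p p' hpp
      have h0 : fT * (p - p') = 0 := by rw [mul_sub, sub_eq_zero]; exact hpp
      rw [← sub_eq_zero]
      refine Polynomial.ext fun m => ?_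
      rw [Polynomial.coeff_zero]
      induction m with
      | zero =>
        have h5 := congrArg (fun t : Polynomial S => t.coeff 0) h0
        have h6 : p'.coeff 0 - p.coeff 0 = 0 := by simpa [fT, sub_mul, mul_assoc] using h5
        rw [Polynomial.coeff_sub]
        linear_combination -h6
      | succ m ih =>
        have h5 := congrArg (fun t : Polynomial S => t.coeff (m + 1)) h0
        simp only [fT, sub_mul, one_mul, Polynomial.coeff_sub, Polynomial.coeff_zero, mul_assoc,
          Polynomial.coeff_C_mul, Polynomial.coeff_X_mul] at h5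
        rw [Polynomial.coeff_sub] at ih
        rw [ih, mul_zero, zero_sub, neg_eq_zero] at h5
        rw [Polynomial.coeff_sub]
        exact h5
    · let l : (Polynomial S ⧸ (Ideal.ofList [fT] • ⊤ : Ideal (Polynomial S))) ≃+* B :=
        (Ideal.quotEquivOfEq (by rw [smul_eq_mul, Ideal.mul_top, hJ])).trans
          (e.symm.toRingEquiv : AdjoinRoot fT ≃+* B)
      have h6 : List.Forall₂ (fun (r : Polynomial S) (s : B) => ∀ x, l.toAddEquiv (r • x) = s • l.toAddEquiv x)
          L₂ ((List.ofFn a).map (algebraMap S B)) := by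
        rw [List.forall₂_map_right_iff, List.forall₂_map_left_iff, List.forall₂_same]
        intro s _ x
        obtain ⟨x, rfl⟩ := Ideal.Quotient.mk_surjective x
        show e.symm (π (Polynomial.C s * x)) = algebraMap S B s * e.symm (π x)
        exact ((congrArg e.symm (map_mul π _ _)).trans (map_mul e.symm _ _)).trans
          (congrArg (· * e.symm (π x)) (heC s))
      exact (AddEquiv.isWeaklyRegular_congr h6).2 hBreg
  have hne : Ideal.ofList (fT :: L₂) ≠ ⊤ := hΦk ▸ RingHom.ker_ne_top Φ
  let F := MvPolynomial.finSuccEquiv A n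
  let Pf : Fin (rs.length + 1) → MvPolynomial (Fin (n + 1)) A :=
    Fin.cons (F.symm fT) fun i => F.symm (Polynomial.C (a i))
  have hPf : List.ofFn Pf = (fT :: L₂).map F.symm.toRingEquiv := by
    rw [List.ofFn_succ, List.map_cons]
    simp only [Pf, Fin.cons_zero, Fin.cons_succ, L₂, List.map_map, List.map_ofFn]
    rfl
  have hmapF : (Ideal.ofList (fT :: L₂)).map (F.symm.toRingEquiv : Polynomial S →+* MvPolynomial (Fin (n + 1)) A) =
      Ideal.ofList (List.ofFn Pf) := by
    rw [hPf, Ideal.map_ofList]; rfl
  refine ⟨Pf, ⟨?_, fun htop => hne ?_⟩, ?_⟩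
  · rw [hPf]
    have h8 : List.Forall₂ (fun (r : Polynomial S) (s : MvPolynomial (Fin (n + 1)) A) =>
        ∀ x : Polynomial S, F.symm.toRingEquiv.toAddEquiv (r • x) = s • F.symm.toRingEquiv.toAddEquiv x)
        (fT :: L₂) ((fT :: L₂).map F.symm.toRingEquiv) := by
      rw [List.forall₂_map_right_iff, List.forall₂_same]
      intro r _ x
      exact map_mul F.symm r x
    exact (AddEquiv.isWeaklyRegular_congr h8).1 hweak
  · rw [smul_eq_mul, Ideal.mul_top, ← hmapF] at htop
    have h9 := congrArg (Ideal.comap (F.symm.toRingEquiv : Polynomial S →+* MvPolynomial (Fin (n + 1)) A)) htop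
    rw [Ideal.comap_top] at h9
    exact (Ideal.comap_map_of_bijective (F.symm.toRingEquiv : Polynomial S →+* MvPolynomial (Fin (n + 1)) A)
      F.symm.bijective).symm.trans h9.symm
  · let Ψ : MvPolynomial (Fin (n + 1)) A →ₐ[A] Q :=
      { Φ.comp (F.toRingEquiv : MvPolynomial (Fin (n + 1)) A →+* Polynomial S) with
        commutes' := fun c => by
          show Φ (F (algebraMap A _ c)) = _
          rw [AlgEquiv.commutes]
          show θ (e.symm (π (Polynomial.C (MvPolynomial.C c)))) = _
          rw [heC, hθa, IsScalarTower.algebraMap_apply A (S ⧸ I) Q]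
          rfl }
    have hΨk : RingHom.ker Ψ = Ideal.ofList (List.ofFn Pf) := by
      rw [show RingHom.ker Ψ = (RingHom.ker Φ).comap (F.toRingEquiv : MvPolynomial (Fin (n + 1)) A →+* Polynomial S)
        from (RingHom.comap_ker _ _).symm, hΦk, ← hmapF]
      exact (Ideal.map_symm (f := F.toRingEquiv)).symm
    exact ⟨((Ideal.quotientEquivAlgOfEq A hΨk.symm).trans
      (Ideal.quotientKerAlgEquivOfSurjective (f := Ψ) (hΦs.comp F.surjective))).symm⟩

end Groth.Agent.S18937
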