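import Groth.Statements.S18938
import Groth.Agent.Lib.RelGCIReg.Local
import Groth.Agent.Lib.RegExch.Basic

set_option autoImplicit false
universe u
open Synt

namespace Groth.Agent.S18938

theorem result
    (A : Type u) [CommRing A] [IsNoetherianRing A] (B : Type u) [CommRing B] [Algebra A B]
    (h : Synt.IsSyntomic A B) (q : PrimeSpectrum B) :
    ∃ g : B, g ∉ q.asIdeal ∧
      ∃ (n d : ℕ) (P : Fin d → MvPolynomial (Fin n) A),
        RingTheory.Sequence.IsRegular (MvPolynomial (Fin n) A) (List.ofFn P) ∧
        Nonempty (Localization.Away g ≃ₐ[A] (MvPolynomial (Fin n) A ⧸ Ideal.ofList (List.ofFn P))) := by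
  classical
  obtain ⟨g, hg, n, c, F, hF, ⟨e⟩⟩ := GrothLib.RelGCIReg.exists_relGCI_away h q.asIdeal
  let P := MvPolynomial (Fin n) A
  let I := Ideal.span (Set.range F)
  let Bg := Localization.Away g
  have hd : Disjoint (Submonoid.powers g : Set B) (q.asIdeal : Set B) :=
    Set.disjoint_left.mpr fun y ⟨m, hm⟩ hy => hg (q.isPrime.mem_of_pow_mem m ((show g ^ m = y from hm).symm ▸ hy))
  let q' : Ideal Bg := q.asIdeal.map (algebraMap B Bg)
  haveI : q'.IsPrime := IsLocalization.isPrime_of_isPrime_disjoint (Submonoid.powers g) Bg q.asIdeal q.isPrime hd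
  let ψ : P →ₐ[A] Bg := e.symm.toAlgHom.comp (Ideal.Quotient.mkₐ A I)
  let Q : Ideal P := q'.comap ψ
  haveI : Q.IsPrime := Ideal.IsPrime.comap _
  have hIQ : I ≤ Q := fun x hx => by
    show ψ x ∈ q'
    rw [show ψ x = 0 by
      show e.symm (Ideal.Quotient.mk I x) = 0
      rw [Ideal.Quotient.eq_zero_iff_mem.mpr hx, map_zero]]
    exact q'.zero_mem
  have hreg : RingTheory.Sequence.IsWeaklyRegular (Localization.AtPrime Q)
      ((List.ofFn F).map (algebraMap P (Localization.AtPrime Q))) := by
    rw [List.map_ofFn]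
    exact (GrothLib.RelGCIReg.isRegular_atPrime (F := F) (p := Q) hF hIQ).toIsWeaklyRegular
  obtain ⟨f, hf, hspread⟩ :=
    GrothLib.RegSeqLoc.exists_away_isWeaklyRegular Q.primeCompl (Localization.AtPrime Q) (List.ofFn F) hreg
  have hw := hspread (Submonoid.powers f) (Localization.Away f) (IsLocalization.Away.algebraMap_isUnit f)
  obtain ⟨k, b, hb⟩ := IsLocalization.Away.surj g (ψ f)
  haveI : IsLocalization.Away (algebraMap B Bg b) (Localization.Away (ψ f)) :=
    IsLocalization.Away.of_associated (r := ψ f)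
      ⟨(IsLocalization.Away.algebraMap_pow_isUnit g k).unit, by rw [IsUnit.unit_spec, hb]⟩
  haveI : IsLocalization.Away (g * b) (Localization.Away (ψ f)) := IsLocalization.Away.mul' Bg _ g b
  refine ⟨g * b, ?_, n + 1, c + 1,
    Fin.cons (GrothLib.RelGCIReg.invEq f) (fun i => MvPolynomial.rename Fin.castSucc (F i)), ?_, ?_⟩
  · refine fun hmem => (q.isPrime.mem_or_mem hmem).elim hg fun hbq => hf ?_
    show ψ f ∈ q'
    refine (Ideal.mul_unit_mem_iff_mem _ (IsLocalization.Away.algebraMap_pow_isUnit g k)).mp ?_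
    rw [hb]
    exact Ideal.mem_map_of_mem _ hbq
  · rw [List.ofFn_cons]
    obtain ⟨eL, heL⟩ := GrothLib.RelGCIReg.exists_equiv_invEq f
    refine ⟨GrothLib.RegExch.isWeaklyRegular_cons ?_ ?_, ?_⟩
    · exact IsSMulRegular.of_right_eq_zero_of_smul fun z hz => GrothLib.RelGCIReg.invEq_nonZeroDivisor f z hz
    · let σ : (MvPolynomial (Fin (n + 1)) A ⧸ Ideal.ofList [GrothLib.RelGCIReg.invEq f]) ≃+*
          (MvPolynomial (Fin (n + 1)) A ⧸ Ideal.span {GrothLib.RelGCIReg.invEq f}) :=
        Ideal.quotEquivOfEq (Ideal.ofList_singleton _)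
      have hh := (AddEquiv.isWeaklyRegular_congr (e := (eL.symm.toRingEquiv.trans σ).toAddEquiv)
        (bs := ((List.ofFn F).map (algebraMap P (Localization.Away f))).map (eL.symm.toRingEquiv.trans σ))
        (List.forall₂_map_right_iff.mpr (List.forall₂_same.mpr fun r _ x => map_mul (eL.symm.toRingEquiv.trans σ) r x))).mp hw
      rw [List.map_map, List.map_ofFn] at hh
      rw [List.map_ofFn]
      refine (congrArg (RingTheory.Sequence.IsWeaklyRegular _) (congrArg List.ofFn (funext fun i => ?_))).mp hh
      show σ (eL.symm (algebraMap P _ (F i))) = _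
      rw [← heL, AlgEquiv.symm_apply_apply]
      rfl
    · intro htop
      rw [smul_eq_mul, Ideal.mul_top] at htop
      let φ : MvPolynomial (Fin (n + 1)) A →ₐ[A] Localization.Away (ψ f) :=
        MvPolynomial.aeval (Fin.snoc (fun i => algebraMap Bg _ (ψ (MvPolynomial.X i)))
          (IsLocalization.Away.invSelf (ψ f)))
      haveI : Nontrivial (Localization.Away (ψ f)) := by
        refine not_subsingleton_iff_nontrivial.mp fun hss => ?_
        have h0 : (0 : Localization.Away (ψ f)) = 1 := Subsingleton.elim _ _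
        rw [← map_zero (algebraMap Bg _), ← map_one (algebraMap Bg _)] at h0
        obtain ⟨⟨_, m, rfl⟩, hm⟩ := (IsLocalization.eq_iff_exists (Submonoid.powers (ψ f)) _).mp h0
        have hm' : ψ f ^ m = 0 := by simpa [eq_comm] using hm
        exact hf (Ideal.IsPrime.mem_of_pow_mem (show q'.IsPrime from inferInstance) m (hm'.symm ▸ q'.zero_mem : ψ f ^ m ∈ q'))
      have hren : ∀ p, φ (MvPolynomial.rename Fin.castSucc p) = algebraMap Bg _ (ψ p) := by
        intro p
        have : φ.comp (MvPolynomial.rename Fin.castSucc) = (IsScalarTower.toAlgHom A Bg _).comp ψ :=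
          MvPolynomial.algHom_ext fun i => by
            show φ (MvPolynomial.rename Fin.castSucc (MvPolynomial.X i)) = _
            rw [MvPolynomial.rename_X]
            simp [φ]
        exact AlgHom.congr_fun this p
      have hker : Ideal.ofList (GrothLib.RelGCIReg.invEq f :: List.ofFn fun i => MvPolynomial.rename Fin.castSucc (F i))
          ≤ RingHom.ker φ.toRingHom := by
        rw [Ideal.ofList, Ideal.span_le]
        intro y hy
        rw [SetLike.mem_coe, RingHom.mem_ker]
        rcases List.mem_cons.mp hy with rfl | hy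
        · show φ (GrothLib.RelGCIReg.invEq f) = 0
          rw [GrothLib.RelGCIReg.invEq, map_sub, map_mul, map_one, hren,
            show φ (MvPolynomial.X (Fin.last n)) = IsLocalization.Away.invSelf (ψ f) by simp [φ],
            IsLocalization.Away.mul_invSelf, sub_self]
        · obtain ⟨i, rfl⟩ := List.mem_ofFn.mp hy
          show φ (MvPolynomial.rename Fin.castSucc (F i)) = 0
          rw [hren]
          show algebraMap Bg _ (e.symm (Ideal.Quotient.mk I (F i))) = 0
          rw [Ideal.Quotient.eq_zero_iff_mem.mpr (show F i ∈ I from Ideal.subset_span ⟨i, rfl⟩), map_zero, map_zero]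
      have h1 : φ.toRingHom 1 = 0 := hker (htop ▸ Submodule.mem_top)
      exact one_ne_zero ((map_one φ.toRingHom).symm.trans h1)
  · obtain ⟨e₁⟩ := GrothLib.RelGCIReg.nonempty_awayEquiv F f
    have hI : Ideal.span (Set.range (GrothLib.RelGCIReg.snocSeq F f)) = Ideal.ofList (List.ofFn
        (Fin.cons (GrothLib.RelGCIReg.invEq f) fun i => MvPolynomial.rename Fin.castSucc (F i))) := by
      rw [Ideal.ofList, show {y | y ∈ List.ofFn (Fin.cons (GrothLib.RelGCIReg.invEq f)
        fun i => MvPolynomial.rename Fin.castSucc (F i))} = Set.range (Fin.cons (GrothLib.RelGCIReg.invEq f)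
        fun i => MvPolynomial.rename Fin.castSucc (F i)) from Set.ext fun y => List.mem_ofFn]
      simp [GrothLib.RelGCIReg.snocSeq, Fin.range_cons, Fin.range_snoc]
    refine ⟨((IsLocalization.algEquiv (Submonoid.powers (g * b)) (Localization.Away (g * b))
      (Localization.Away (ψ f))).restrictScalars A).trans (AlgEquiv.trans ?_ (e₁.trans (Ideal.quotientEquivAlgOfEq A hI)))⟩
    exact IsLocalization.algEquivOfAlgEquiv (M := Submonoid.powers (ψ f)) (T := Submonoid.powers (Ideal.Quotient.mk I f))
      _ _ e (by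
        rw [Submonoid.map_powers]
        exact congrArg Submonoid.powers (e.apply_symm_apply _))

end Groth.Agent.S18938
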