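import Groth.Statements.S18939
import Groth.Agent.Lib.LCI6.Descent
-- import your own Groth.Agent.* helpers here

set_option autoImplicit false
universe u
open LCI

namespace Groth.Agent.S18939

/-- Let R be a commutative ring, I a proper ideal of R and f_1, …, f_r a Koszul-regular sequence of
elements of I generating I. Then I/I² is a free R/I-module of rank r, with basis the classes of f_1,
…, f_r. -/
theorem result {R : Type u} [CommRing R] {I : Ideal R} (hI : I ≠ ⊤)
    (r : ℕ) (f : Fin r → I) (hf : LCI.IsKoszulRegularSeq R (List.ofFn (fun i => (f i : R))))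
    (hfI : Ideal.span (Set.range (fun i => (f i : R))) = I) :
    ∃ b : Module.Basis (Fin r) (R ⧸ I) I.Cotangent, ∀ i, b i = I.toCotangent (f i) := by
  classical
  set F : Fin r → R := fun i => (f i : R) with hF
  have h1 := GrothLib.SeqKinds.isH1Regular_of_isKoszulRegularSeq _ hf
  have key : ∀ (m : ℕ) (G : Fin m → R) (hm : m = r), CAlgX.IsH1Regular G → (∀ i, G i = F (Fin.cast hm i)) →
      CAlgX.IsH1Regular F := by
    intro m G hm hG hGF
    subst hm
    exact (funext hGF : G = F) ▸ hG
  have hH : CAlgX.IsH1Regular F := key _ _ List.length_ofFn h1 fun i => by simp; rfl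
  have hsum : ∀ c : Fin r → R, ((∑ i, c i • f i : I) : R) = ∑ i, c i * F i := fun c => by simp [F]
  have hsmul : ∀ (a : R) (z : I.Cotangent), (Ideal.Quotient.mk I a) • z = a • z := fun a z => rfl
  have hv : LinearIndependent (R ⧸ I) (fun i => I.toCotangent (f i)) := by
    rw [Fintype.linearIndependent_iff]
    intro g hg i
    choose a ha using fun j => Ideal.Quotient.mk_surjective (g j)
    rw [← ha i, Ideal.Quotient.eq_zero_iff_mem]
    have h0 : I.toCotangent (∑ j, a j • f j) = 0 := by
      rw [map_sum, ← hg]
      exact Finset.sum_congr rfl fun j _ => by rw [map_smul, ← ha j, hsmul]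
    rw [Ideal.toCotangent_eq_zero, pow_two, hsum] at h0
    have h2 : ∑ j, a j * F j ∈ I • Ideal.span (Set.range F) := by rw [smul_eq_mul, hfI]; exact h0
    obtain ⟨b, hb, hbs⟩ := (Submodule.mem_ideal_smul_span_iff_exists_sum I F _).mp h2
    let c : Fin r → R := fun j => a j - b j
    have hc : ∑ j, c j * F j = 0 := by
      simp only [c, sub_mul, Finset.sum_sub_distrib]
      rw [← hbs, Finsupp.sum_fintype _ _ (fun _ => by simp)]
      simp
    have hmem : ∀ v ∈ Submodule.span R {v : Fin r → R | ∃ i j : Fin r, v = Pi.single i (F j) - Pi.single j (F i)},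
        v i ∈ I := by
      intro v hv
      induction hv using Submodule.span_induction with
      | mem x hx =>
        obtain ⟨k, l, rfl⟩ := hx
        refine I.sub_mem ?_ ?_ <;>
        · rw [Pi.single_apply]
          split_ifs
          · exact (f _).2
          · exact I.zero_mem
      | zero => exact I.zero_mem
      | add x y _ _ hx hy => exact I.add_mem hx hy
      | smul t x _ hx => exact I.mul_mem_left t hx
    have := hmem c (hH c hc)
    simpa [c] using I.add_mem this (hb i)
  have hspan : ⊤ ≤ Submodule.span (R ⧸ I) (Set.range fun i => I.toCotangent (f i)) := by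
    rintro z -
    obtain ⟨x, rfl⟩ := Ideal.toCotangent_surjective I z
    obtain ⟨c, hc⟩ := Ideal.mem_span_range_iff_exists_fun.mp (show (x : R) ∈ Ideal.span (Set.range F) by rw [hfI]; exact x.2)
    rw [show x = ∑ j, c j • f j from Subtype.ext (by rw [hsum, hc]), map_sum]
    refine Submodule.sum_mem _ fun j _ => ?_
    rw [map_smul, ← hsmul]
    exact Submodule.smul_mem _ _ (Submodule.subset_span ⟨j, rfl⟩)
  exact ⟨Module.Basis.mk hv hspan, fun i => Module.Basis.mk_apply hv hspan i⟩

end Groth.Agent.S18939
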