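import Groth.Statements.S1894
import Groth.Agent.Lib.GrpdQuot.InvariantOpen
-- import your own Groth.Agent.* helpers here

set_option autoImplicit false
universe u
open CategoryTheory CategoryTheory.Limits AlgebraicGeometry
open Grpd

namespace Groth.Agent.S1894

/-- Let (U, R, s, t, c) be a groupoid scheme over S with s, t quasi-compact and flat and U
quasi-separated, and W ⊆ U a quasi-compact open. Then there are an R-invariant open V (s⁻¹V = t⁻¹V)
and a quasi-compact open W' with W ⊆ V ⊆ W'. (A groupoid scheme carries U, R, s, t, c, e, i over S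
with the groupoid axioms on T-points; 'finite locally free' is finite, flat and locally of finite
presentation; C ⊂ Γ(U) is the ring of functions a with s♯(a) = t♯(a) and M = Spec C.) -/
theorem result (S : Scheme.{u}) (G : Grpd.GroupoidScheme S) [QuasiCompact G.s] [Flat G.s] [QuasiCompact G.t] [Flat G.t] [QuasiSeparatedSpace G.U] (W : G.U.Opens) (hW : IsCompact (W : Set G.U)) : ∃ V W' : G.U.Opens, G.s ⁻¹ᵁ V = G.t ⁻¹ᵁ V ∧ IsCompact (W' : Set G.U) ∧ W ≤ V ∧ V ≤ W' := by
  have hE : IsCompact (⇑G.t '' (⇑G.s ⁻¹' (W : Set G.U))) :=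
    (G.s.isCompact_preimage hW).image G.t.continuous
  choose A hA hxA using fun x : G.U =>
    show ∃ A : G.U.Opens, IsAffineOpen A ∧ x ∈ A by
      obtain ⟨_, ⟨A, hA, rfl⟩, hx, -⟩ :=
        G.U.isBasis_affineOpens.exists_subset_of_mem_open (Set.mem_univ x) isOpen_univ
      exact ⟨A, hA, hx⟩
  obtain ⟨s, hs⟩ := hE.elim_finite_subcover (fun x => (A x : Set G.U)) (fun x => (A x).2)
    (fun x _ => Set.mem_iUnion.mpr ⟨x, hxA x⟩)
  let W' : G.U.Opens := ⟨⋃ x ∈ s, (A x : Set G.U), isOpen_biUnion fun x _ => (A x).2⟩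
  obtain ⟨V, hV, hWV, hVW⟩ := GrothLib.GrpdQuot.exists_invariant_open_between G W W' hs
  exact ⟨V, W', hV, s.isCompact_biUnion fun x _ => (hA x).isCompact, hWV, hVW⟩

end Groth.Agent.S1894
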