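import Groth.Statements.S18942
import Groth.Agent.Lib.DPowPoly.Theta

set_option autoImplicit false
universe u
open DPow

namespace Groth.Agent.S18942

/-- Let p be a prime, k a perfect field of characteristic p, n a natural number and x an element of
W_n(k), written here as the truncation of a Witt vector x over k. For any Witt vectors y_0, …,
y_{n−1} over k lifting the components of x under the map y ↦ (y_0)^(p^n) (that is, (y_i)_0^(p^n) =
x_i), one has x = Σ_{i<n} p^i y_i^(p^(n−i)) in W_n(k). -/
theorem result (p : ℕ) [Fact p.Prime]
    (k : Type u) [Field k] [CharP k p] [PerfectRing k p] (n : ℕ) (x : WittVector p k)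
    (y : Fin n → WittVector p k) (hy : ∀ i : Fin n, ((y i).coeff 0) ^ (p ^ n) = x.coeff i) :
    WittVector.truncate n x =
      WittVector.truncate n (∑ i : Fin n, (p : WittVector p k) ^ (i : ℕ) * (y i) ^ (p ^ (n - i))) := by
  exact GrothLib.DPowPoly.truncate_eq_sum x y hy

end Groth.Agent.S18942
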