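import Groth.Statements.S18943
import Mathlib.Analysis.Calculus.ParametricIntervalIntegral
import Mathlib.MeasureTheory.Integral.IntervalIntegral.FundThmCalculus
import Mathlib.MeasureTheory.Integral.DominatedConvergence
import Mathlib.Analysis.Calculus.ContDiff.Deriv

set_option autoImplicit false
open scoped ContDiff
open CInfGerm

namespace Groth.Agent.S18943

/-- Let f be an infinitely differentiable real-valued function on the real line with f(0) = 0. Then f(x)
= x·g(x) for an infinitely differentiable function g. (The source phrases this for germs at 0: the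
maximal ideal of the local ring of germs of smooth functions at the origin is generated by the
coordinate t; the global form stated here is what its argument, smooth extension of f(x)/x across 0,
gives.) -/
theorem result (f : ℝ → ℝ) (hf : ContDiff ℝ ∞ f) (h0 : f 0 = 0) :
    ∃ g : ℝ → ℝ, ContDiff ℝ ∞ g ∧ ∀ x : ℝ, f x = x * g x := by
  let F : ℕ → (ℝ → ℝ) → ℝ → ℝ := fun k h x => ∫ t in (0:ℝ)..1, t ^ k * h (t * x)
  have hcont : ∀ k (h : ℝ → ℝ), Continuous h → Continuous (Function.uncurry fun x t => t ^ k * h (t * x)) :=
    fun k h hh => by fun_prop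
  have hderiv : ∀ k (h : ℝ → ℝ), ContDiff ℝ ∞ h → ∀ x₀, HasDerivAt (F k h) (F (k + 1) (deriv h) x₀) x₀ := by
    intro k h hh x₀
    obtain ⟨hd, hh'⟩ := contDiff_infty_iff_deriv.1 hh
    have hc := hcont (k + 1) (deriv h) hh'.continuous
    obtain ⟨M, hM⟩ := ((isCompact_closedBall x₀ 1).prod (isCompact_uIcc (a := (0:ℝ)) (b := 1))).exists_bound_of_continuousOn
      hc.continuousOn
    exact (intervalIntegral.hasDerivAt_integral_of_dominated_loc_of_deriv_le (bound := fun _ => M)
      (F := fun x t => t ^ k * h (t * x)) (F' := fun x t => t ^ (k + 1) * deriv h (t * x))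
      (Metric.closedBall_mem_nhds x₀ one_pos)
      (Filter.Eventually.of_forall fun x => ((hcont k h hh.continuous).comp (Continuous.prodMk_right x)).aestronglyMeasurable)
      (((hcont k h hh.continuous).comp (Continuous.prodMk_right x₀)).intervalIntegrable _ _)
      ((hc.comp (Continuous.prodMk_right x₀)).aestronglyMeasurable)
      (Filter.Eventually.of_forall fun t ht x hx => hM (x, t) ⟨hx, Set.uIoc_subset_uIcc ht⟩)
      intervalIntegrable_const
      (Filter.Eventually.of_forall fun t _ x _ => by
        have h1 := ((hd (t * x)).hasDerivAt.comp x ((hasDerivAt_id x).const_mul t)).const_mul (t ^ k)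
        simp only [mul_one, Function.comp_apply, id] at h1
        convert h1 using 1
        · rfl
        ring)).2
  have hsm : ∀ (n : ℕ) k (h : ℝ → ℝ), ContDiff ℝ ∞ h → ContDiff ℝ n (F k h) := by
    intro n
    induction n with
    | zero => exact fun k h hh => contDiff_zero.2 (continuous_iff_continuousAt.2 fun x => (hderiv k h hh x).continuousAt)
    | succ n ih =>
      intro k h hh
      rw [show ((n + 1 : ℕ) : WithTop ℕ∞) = (n : WithTop ℕ∞) + 1 by push_cast; rfl, contDiff_succ_iff_deriv]
      refine ⟨fun x => (hderiv k h hh x).differentiableAt, fun h' => absurd h' (by simp), ?_⟩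
      rw [funext fun x => (hderiv k h hh x).deriv]
      exact ih (k + 1) (deriv h) (contDiff_infty_iff_deriv.1 hh).2
  obtain ⟨hd, hf'⟩ := contDiff_infty_iff_deriv.1 hf
  refine ⟨F 0 (deriv f), contDiff_infty.2 fun n => hsm n 0 (deriv f) hf', fun x => ?_⟩
  have hi : ∀ t ∈ Set.uIcc (0:ℝ) 1, HasDerivAt (fun s => f (s * x)) (deriv f (t * x) * x) t := fun t _ => by
    simpa [Function.comp_def] using (hd (t * x)).hasDerivAt.comp t ((hasDerivAt_id t).mul_const x)
  have := intervalIntegral.integral_eq_sub_of_hasDerivAt hi
    ((hf'.continuous.comp (continuous_id.mul continuous_const)).mul continuous_const |>.intervalIntegrable _ _)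
  rw [one_mul, zero_mul, h0, sub_zero, intervalIntegral.integral_mul_const] at this
  rw [← this, mul_comm]
  simp [F]

end Groth.Agent.S18943
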