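import Groth.Statements.S18944
-- import your own Groth.Agent.* helpers here
import Groth.Agent.Lib.RelReg.Stalk
import Groth.Agent.Lib.RegSeqLoc.Scheme

set_option autoImplicit false
universe u
open CategoryTheory AlgebraicGeometry
open RegImm

namespace Groth.Agent.S18944

/-- Let i : Z → X be a regular immersion of schemes (kind: successive non-zero-divisors). Then for every
point z of Z the kernel of the induced map of local rings O_{X, i(z)} → O_{Z, z} is generated by a
regular sequence of O_{X, i(z)}. (No Noetherian hypothesis; over a locally Noetherian X the converse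
also holds.) -/
theorem result {Z X : Scheme.{u}} (i : Z ⟶ X)
    (h : RegImm.IsRegularImmersion RegImm.Kind.regular i) (z : Z) :
    ∃ rs : List (X.presheaf.stalk (i z)),
      RingTheory.Sequence.IsRegular (X.presheaf.stalk (i z)) rs ∧
        RingHom.ker (i.stalkMap z).hom = Ideal.ofList rs := by
  obtain ⟨U, hz, hci, rs, hrs, hI⟩ := h.2 z
  refine ⟨rs.map (X.presheaf.germ U.1 (i z) hz).hom, ?_, ?_⟩
  · refine GrothLib.RegSeqLoc.isRegular_stalk U.2 hz hrs.toIsWeaklyRegular ?_
    rw [← Ideal.map_ofList, ← hI, ← GrothLib.RelReg.ker_stalkMap_eq_map i U.2 hci z hz]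
    exact IsLocalRing.le_maximalIdeal (RingHom.ker_ne_top _)
  · rw [GrothLib.RelReg.ker_stalkMap_eq_map i U.2 hci z hz, hI, Ideal.map_ofList]

end Groth.Agent.S18944
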