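import Groth.Statements.S18945
import Groth.Agent.Lib.RelGCIReg.Finite

set_option autoImplicit false
universe u
open CategoryTheory AlgebraicGeometry
open Synt

namespace Groth.Agent.S18945

theorem isSyntomicMor_specMap_fromSpec {X : Scheme.{u}} (U : X.affineOpens) (B : Type u) [CommRing B]
    [Algebra Γ(X, U.1) B] (h : Synt.IsSyntomic Γ(X, U.1) B) :
    Synt.IsSyntomicMor (Spec.map (CommRingCat.ofHom (algebraMap Γ(X, U.1) B)) ≫ U.2.fromSpec) := by
  intro y
  let φ := CommRingCat.ofHom (algebraMap Γ(X, U.1) B)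
  let f := Spec.map φ ≫ U.2.fromSpec
  have e : (⊤ : (Spec (CommRingCat.of B)).Opens) ≤ f ⁻¹ᵁ U.1 := by
    intro z _
    show U.2.fromSpec (Spec.map φ z) ∈ U.1
    exact U.2.range_fromSpec.subset ⟨_, rfl⟩
  refine ⟨⟨⊤, isAffineOpen_top _⟩, U, e, trivial, ?_⟩
  have happ : f.appLE U.1 ⊤ e = φ ≫ (Scheme.ΓSpecIso (CommRingCat.of B)).inv := by
    rw [Scheme.Hom.comp_appLE _ _ _ _ e, IsAffineOpen.fromSpec_app_self, Category.assoc,
      Scheme.Hom.map_appLE, Scheme.ΓSpecIso_inv_naturality]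
    exact congrArg (_ ≫ ·) (Scheme.Hom.app_eq_appLE (f := Spec.map φ)).symm
  letI := (f.appLE U.1 ⊤ e).hom.toAlgebra
  refine GrothLib.RelGCIReg.isSyntomic_of_algEquiv ?_ h
  refine AlgEquiv.ofRingEquiv (f := (Scheme.ΓSpecIso (CommRingCat.of B)).symm.commRingCatIsoToRingEquiv) fun a => ?_
  show (φ ≫ (Scheme.ΓSpecIso (CommRingCat.of B)).inv) a = f.appLE U.1 ⊤ e a
  rw [happ]

theorem result (p : ℕ) [Fact p.Prime] (X : Scheme.{u}) (a : Γ(X, ⊤)) :
    ∃ 𝒰 : Scheme.Cover.{u} (Scheme.precoverage @Synt.IsSyntomicMor) X,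
      ∀ i : 𝒰.I₀, ∃ b : Γ(𝒰.X i, ⊤), b ^ p = (𝒰.f i).appTop a := by
  have hp : 0 < p := (Fact.out : p.Prime).pos
  let aU : ∀ U : X.affineOpens, Γ(X, U.1) := fun U => X.presheaf.map (homOfLE le_top).op a
  let P : ∀ U : X.affineOpens, Polynomial Γ(X, U.1) := fun U => Polynomial.X ^ p - Polynomial.C (aU U)
  have hP : ∀ U, (P U).Monic := fun U => Polynomial.monic_X_pow_sub_C _ hp.ne'
  let f : ∀ U : X.affineOpens, Spec (CommRingCat.of (AdjoinRoot (P U))) ⟶ X := fun U =>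
    Spec.map (CommRingCat.ofHom (algebraMap Γ(X, U.1) (AdjoinRoot (P U)))) ≫ U.2.fromSpec
  refine ⟨Scheme.Cover.mkOfCovers X.affineOpens (fun U => Spec (CommRingCat.of (AdjoinRoot (P U)))) f ?_
    (fun U => isSyntomicMor_specMap_fromSpec U _ (GrothLib.RelGCIReg.isSyntomic_adjoinRoot _ (hP U))), fun U => ?_⟩
  · intro x
    obtain ⟨_, ⟨(U : X.Opens), hU, rfl⟩, hxU, -⟩ := X.isBasis_affineOpens.exists_subset_of_mem_open
      (Set.mem_univ x) isOpen_univ
    obtain ⟨q, hq⟩ := hU.range_fromSpec.symm.subset hxU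
    cases subsingleton_or_nontrivial Γ(X, U) with
    | inl h => exact (q.isPrime.ne_top (Subsingleton.elim _ _)).elim
    | inr h =>
      have hdeg : 0 < (P ⟨U, hU⟩).natDegree := by
        show 0 < (Polynomial.X ^ p - Polynomial.C (aU ⟨U, hU⟩)).natDegree
        rw [Polynomial.natDegree_X_pow_sub_C]
        exact hp
      haveI := GrothLib.RelGCIReg.faithfullyFlat_adjoinRoot _ (hP ⟨U, hU⟩) hdeg
      obtain ⟨z, hz⟩ := PrimeSpectrum.comap_surjective_of_faithfullyFlat (B := AdjoinRoot (P ⟨U, hU⟩)) q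
      refine ⟨⟨U, hU⟩, z, ?_⟩
      show hU.fromSpec (PrimeSpectrum.comap (algebraMap Γ(X, U) _) z) = x
      rw [hz]
      exact hq
  · show ∃ b : Γ(Spec (CommRingCat.of (AdjoinRoot (P U))), ⊤), b ^ p = (f U).appTop a
    let φ := CommRingCat.ofHom (algebraMap Γ(X, U.1) (AdjoinRoot (P U)))
    refine ⟨(Scheme.ΓSpecIso (CommRingCat.of (AdjoinRoot (P U)))).inv (AdjoinRoot.root (P U)), ?_⟩
    rw [← map_pow]
    have hroot : AdjoinRoot.root (P U) ^ p = φ (aU U) := by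
      have h : Polynomial.aeval (AdjoinRoot.root (P U)) (P U) = 0 := by
        rw [AdjoinRoot.aeval_eq, AdjoinRoot.mk_self]
      simp only [P, map_sub, map_pow, Polynomial.aeval_X, Polynomial.aeval_C] at h
      exact sub_eq_zero.mp h
    have e : (⊤ : (Spec (CommRingCat.of (AdjoinRoot (P U)))).Opens) ≤ (f U) ⁻¹ᵁ U.1 := by
      intro z _
      show U.2.fromSpec (Spec.map φ z) ∈ U.1
      exact U.2.range_fromSpec.subset ⟨_, rfl⟩
    have happ : (f U).appLE U.1 ⊤ e = φ ≫ (Scheme.ΓSpecIso (CommRingCat.of (AdjoinRoot (P U)))).inv := by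
      rw [Scheme.Hom.comp_appLE _ _ _ _ e, IsAffineOpen.fromSpec_app_self, Category.assoc,
        Scheme.Hom.map_appLE, Scheme.ΓSpecIso_inv_naturality]
      exact congrArg (_ ≫ ·) (Scheme.Hom.app_eq_appLE (f := Spec.map φ)).symm
    rw [hroot, ← CommRingCat.comp_apply, ← happ]
    show (X.presheaf.map (homOfLE le_top).op ≫ (f U).appLE U.1 ⊤ e) a = (f U).appTop a
    rw [Scheme.Hom.map_appLE]
    exact congrArg (fun g => g a) (Scheme.Hom.app_eq_appLE (f := f U) (U := ⊤)).symm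

end Groth.Agent.S18945
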