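import Groth.Statements.S18946
import Mathlib

set_option autoImplicit false
universe u
open scoped BigOperators
open InvQ

namespace Groth.Agent.S18946

/-- Let k be an algebraically closed field of characteristic zero and n a natural number, and let the
torus of (n+1)-tuples of units of k with product 1 act on the polynomial ring k[t_0, ..., t_n] by
rescaling each variable t_i by the i-th unit. A polynomial is fixed by every such rescaling if and
only if it lies in the k-subalgebra generated by the product t_0 t_1 ... t_n. (This is the
computation of the ring of functions on affine (n+1)-space invariant under the maximal diagonal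
torus of the special linear group, identified with the polynomial ring in the single coordinate t =
t_0 ... t_n of the line it maps to by the product map; invariance is tested on k-valued points of
the torus, which over an infinite field is the same as invariance under the group scheme.) -/
theorem result
    (k : Type u) [Field k] [IsAlgClosed k] [CharZero k] (n : ℕ)
    (f : MvPolynomial (Fin (n + 1)) k) :
    (∀ σ : Fin (n + 1) → kˣ, ∏ i, (σ i : k) = 1 →
        MvPolynomial.aeval (fun i => MvPolynomial.C (σ i : k) * MvPolynomial.X i) f = f) ↔
      f ∈ Algebra.adjoin k ({∏ i : Fin (n + 1), MvPolynomial.X i} : Set (MvPolynomial (Fin (n + 1)) k)) := by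
  classical
  have hcoef : ∀ (σ : Fin (n + 1) → k) (g : MvPolynomial (Fin (n + 1)) k) (d : Fin (n + 1) →₀ ℕ),
      MvPolynomial.coeff d (MvPolynomial.aeval (fun i => MvPolynomial.C (σ i) * MvPolynomial.X i) g) =
        (∏ i, σ i ^ d i) * MvPolynomial.coeff d g := by
    intro σ g d
    induction g using MvPolynomial.induction_on' with
    | add p q hp hq => rw [map_add, MvPolynomial.coeff_add, hp, hq, MvPolynomial.coeff_add, mul_add]
    | monomial e c =>
      have : MvPolynomial.aeval (fun i => MvPolynomial.C (σ i) * MvPolynomial.X i) (MvPolynomial.monomial e c) =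
          MvPolynomial.monomial e ((∏ i, σ i ^ e i) * c) := by
        rw [MvPolynomial.aeval_monomial, Finsupp.prod_fintype _ _ (fun i => by simp)]
        simp only [mul_pow, Finset.prod_mul_distrib, ← map_pow, ← map_prod]
        rw [MvPolynomial.monomial_eq, Finsupp.prod_fintype _ _ (fun i => by simp),
          MvPolynomial.algebraMap_eq, map_mul]
        ring
      rw [this, MvPolynomial.coeff_monomial, MvPolynomial.coeff_monomial]
      split_ifs with h
      · rw [h]
      · rw [mul_zero]
  constructor
  · intro h
    have hd : ∀ d ∈ f.support, ∀ i, d i = d 0 := by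
      intro d hd i
      by_contra hne
      have hi : i ≠ 0 := fun e => hne (by rw [e])
      have h2 : (2 : k) ≠ 0 := two_ne_zero
      let σ : Fin (n + 1) → kˣ := Function.update (Function.update 1 i (Units.mk0 2 h2)) 0 (Units.mk0 2 h2)⁻¹
      have hprod : ∀ e : Fin (n + 1) → ℕ, ∏ j, (σ j : k) ^ e j = 2 ^ e i * ((2 : k)⁻¹) ^ e 0 := by
        intro e
        rw [Finset.prod_eq_mul i 0 hi (fun j _ hj => by
          simp [σ, Function.update_of_ne hj.1, Function.update_of_ne hj.2]) (by simp) (by simp)]
        simp [σ, Function.update_of_ne hi]
      have hσ := h σ (by simpa using hprod (fun _ => 1))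
      have := congrArg (MvPolynomial.coeff d) hσ
      rw [hcoef, hprod] at this
      have h1 := mul_right_cancel₀ (MvPolynomial.mem_support_iff.1 hd) (this.trans (one_mul _).symm)
      rw [inv_pow, mul_inv_eq_one₀ (pow_ne_zero _ h2)] at h1
      exact hne (Nat.pow_right_injective (le_refl 2) (Nat.cast_injective (R := k) (by push_cast; exact h1)))
    rw [f.as_sum]
    refine Subalgebra.sum_mem _ fun d hd' => ?_
    have : MvPolynomial.monomial d (MvPolynomial.coeff d f) =
        algebraMap k _ (MvPolynomial.coeff d f) * (∏ i, MvPolynomial.X i) ^ d 0 := by
      rw [MvPolynomial.monomial_eq, Finsupp.prod_fintype _ _ (fun i => by simp), ← Finset.prod_pow,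
        Finset.prod_congr rfl fun i _ => by rw [hd d hd' i]]
      rfl
    rw [this]
    exact Subalgebra.mul_mem _ (Subalgebra.algebraMap_mem _ _)
      (Subalgebra.pow_mem _ (Algebra.subset_adjoin (Set.mem_singleton (∏ i : Fin (n + 1), (MvPolynomial.X i : MvPolynomial (Fin (n + 1)) k)))) (d 0))
  · intro hf σ hσ
    induction hf using Algebra.adjoin_induction with
    | mem x hx =>
      rw [Set.mem_singleton_iff.1 hx, map_prod]
      simp only [MvPolynomial.aeval_X, Finset.prod_mul_distrib, ← map_prod, hσ, map_one, one_mul]
    | algebraMap c => simp
    | add x y _ _ hx hy => rw [map_add, hx, hy]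
    | mul x y _ _ hx hy => rw [map_mul, hx, hy]

end Groth.Agent.S18946
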