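import Groth.Statements.S18948
import Mathlib.Tactic.Group

set_option autoImplicit false
universe u v
open CExt

namespace Groth.Agent.S18948

/-- Let f : E → G be a surjective homomorphism of groups whose kernel is central in E, and let x ∈ E.
Then f maps the conjugacy class of x bijectively onto the conjugacy class of f(x) if and only if
every element of G commuting with f(x) is the image of some element of E commuting with x. (In the
source E → G is the central extension, with kernel the roots of unity, attached to a Brauer class of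
the classifying stack of a finite tame étale group scheme, and a conjugacy class of E mapping
bijectively onto a given class of G is a marking; the equivalence is stated here for an arbitrary
central extension of abstract groups.) -/
theorem result {E : Type u} {G : Type v} [Group E] [Group G]
    (f : E →* G) (hf : Function.Surjective f) (hker : f.ker ≤ Subgroup.center E) (x : E) :
    Set.BijOn f (MulAction.orbit (ConjAct E) x) (MulAction.orbit (ConjAct G) (f x)) ↔
      ∀ g : G, g * f x = f x * g → ∃ e : E, f e = g ∧ e * x = x * e := by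
  have horb : ∀ e : E, e * x * e⁻¹ ∈ MulAction.orbit (ConjAct E) x := fun e =>
    ⟨ConjAct.toConjAct e, by simp [ConjAct.smul_def]⟩
  constructor
  · intro h g hg
    obtain ⟨e, rfl⟩ := hf g
    refine ⟨e, rfl, ?_⟩
    have h1 : f (e * x * e⁻¹) = f x := by
      rw [map_mul, map_mul, map_inv, hg, mul_inv_cancel_right]
    have := h.injOn (horb e) (by simpa using horb 1) h1
    exact mul_inv_eq_iff_eq_mul.mp this
  · intro h
    refine ⟨?_, ?_, ?_⟩
    · rintro y ⟨c, rfl⟩
      exact ⟨ConjAct.toConjAct (f (ConjAct.ofConjAct c)), by simp [ConjAct.smul_def]⟩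
    · rintro y ⟨c, rfl⟩ y' ⟨c', rfl⟩ heq
      simp only [ConjAct.smul_def] at heq ⊢
      set e := ConjAct.ofConjAct c
      set e' := ConjAct.ofConjAct c'
      simp only [map_mul, map_inv] at heq
      have hc : f (e'⁻¹ * e) * f x = f x * f (e'⁻¹ * e) := by
        rw [map_mul, map_inv]
        calc (f e')⁻¹ * f e * f x = (f e')⁻¹ * (f e * f x * (f e)⁻¹) * f e := by group
          _ = (f e')⁻¹ * (f e' * f x * (f e')⁻¹) * f e := by rw [heq]
          _ = f x * ((f e')⁻¹ * f e) := by group
      obtain ⟨d, hd, hdx⟩ := h _ hc
      have hk : d⁻¹ * (e'⁻¹ * e) ∈ f.ker := by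
        simp [MonoidHom.mem_ker, map_mul, map_inv, hd]
      have hz := Subgroup.mem_center_iff.mp (hker hk) x
      have : (e'⁻¹ * e) * x = x * (e'⁻¹ * e) := by
        calc (e'⁻¹ * e) * x = d * (d⁻¹ * (e'⁻¹ * e) * x) := by group
          _ = d * (x * (d⁻¹ * (e'⁻¹ * e))) := by rw [hz]
          _ = (d * x) * (d⁻¹ * (e'⁻¹ * e)) := by group
          _ = (x * d) * (d⁻¹ * (e'⁻¹ * e)) := by rw [hdx]
          _ = x * (e'⁻¹ * e) := by group
      calc e * x * e⁻¹ = e' * ((e'⁻¹ * e) * x) * e⁻¹ := by group
        _ = e' * (x * (e'⁻¹ * e)) * e⁻¹ := by rw [this]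
        _ = e' * x * e'⁻¹ := by group
    · rintro y ⟨c, rfl⟩
      obtain ⟨e, he⟩ := hf (ConjAct.ofConjAct c)
      exact ⟨_, horb e, by simp [ConjAct.smul_def, he]⟩

end Groth.Agent.S18948
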