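import Groth.Statements.S18949
import Mathlib.Tactic.Group

set_option autoImplicit false
universe u v
open CExt

namespace Groth.Agent.S18949

/-- Automorphisms over the base: let f : E → G be a surjective homomorphism of groups with central
kernel A. For every homomorphism χ : G → A the map e ↦ χ(f(e)) · e is an endomorphism of E over G
which is the identity on A; and every endomorphism α of E with f ∘ α = f and α equal to the identity
on A is of this form for exactly one χ. (In the source this identifies the automorphisms of a
central extension fixing its kernel with Hom(G, A), for extensions of profinite étale group schemes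
over a field; stated here for abstract groups.) -/
theorem result {E : Type u} {G : Type v} [Group E] [Group G]
    (f : E →* G) (hf : Function.Surjective f) (hker : f.ker ≤ Subgroup.center E) :
    (∀ χ : G →* f.ker, ∃ α : E →* E, f.comp α = f ∧ (∀ a ∈ f.ker, α a = a) ∧
        ∀ e : E, α e = (χ (f e) : E) * e) ∧
      ∀ α : E →* E, f.comp α = f → (∀ a ∈ f.ker, α a = a) →
        ∃! χ : G →* f.ker, ∀ e : E, α e = (χ (f e) : E) * e := by
  have hc : ∀ (k : f.ker) (e : E), e * (k : E) = (k : E) * e := fun k e =>
    Subgroup.mem_center_iff.mp (hker k.2) e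
  refine ⟨fun χ => ⟨{ toFun := fun e => (χ (f e) : E) * e, map_one' := by simp, map_mul' := ?_ }, ?_, ?_, fun e => rfl⟩, ?_⟩
  · intro a b
    rw [map_mul, map_mul, Subgroup.coe_mul]
    calc (χ (f a) : E) * χ (f b) * (a * b) = (χ (f a) : E) * ((χ (f b) : E) * a) * b := by group
      _ = (χ (f a) : E) * (a * χ (f b)) * b := by rw [hc]
      _ = _ := by group
  · ext e
    have : f (χ (f e) : E) = 1 := (χ (f e)).2
    simp [this]
  · intro a ha
    have : f a = 1 := ha
    simp [this]
  · intro α hα hαA
    have hk : ∀ e, α e * e⁻¹ ∈ f.ker := fun e => by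
      have : f (α e) = f e := DFunLike.congr_fun hα e
      simp [MonoidHom.mem_ker, this]
    let s := Function.surjInv hf
    have hs : ∀ g, f (s g) = g := Function.surjInv_eq hf
    have hkey : ∀ e e' : E, f e = f e' → α e * e⁻¹ = α e' * e'⁻¹ := by
      intro e e' he
      have hm : e'⁻¹ * e ∈ f.ker := by simp [MonoidHom.mem_ker, he]
      have : α e = α e' * (e'⁻¹ * e) := by
        conv_lhs => rw [show e = e' * (e'⁻¹ * e) by group]
        rw [map_mul, hαA _ hm]
      rw [this]; group
    have hmul : ∀ a b : E, α (a * b) * (a * b)⁻¹ = (α a * a⁻¹) * (α b * b⁻¹) := by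
      intro a b
      have := hc ⟨_, hk b⟩ a⁻¹
      simp only at this
      calc α (a * b) * (a * b)⁻¹ = α a * ((α b * b⁻¹) * a⁻¹) := by rw [map_mul]; group
        _ = α a * (a⁻¹ * (α b * b⁻¹)) := by rw [this]
        _ = _ := by group
    refine ⟨MonoidHom.mk' (fun g => ⟨α (s g) * (s g)⁻¹, hk _⟩) ?_, ?_, ?_⟩
    · intro g g'
      apply Subtype.ext
      simp only [Subgroup.coe_mul]
      rw [← hmul]
      exact hkey _ _ (by rw [map_mul, hs, hs, hs])
    · intro e
      show α e = α (s (f e)) * (s (f e))⁻¹ * e
      rw [← hkey e (s (f e)) (hs _).symm]; group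
    · intro χ hχ
      ext g
      show (χ g : E) = α (s g) * (s g)⁻¹
      rw [hχ, hs, mul_inv_cancel_right]

end Groth.Agent.S18949
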