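import Groth.Statements.S18950
import Mathlib.Tactic.Group

set_option autoImplicit false
universe u v
open CExt

namespace Groth.Agent.S18950

/-- Let f : E → G be a homomorphism of groups whose kernel is central in E, let α be an endomorphism of
E with f ∘ α = f which is the identity on the kernel, and let S ⊆ E be a subset fixed pointwise by α
such that f(S) generates G. Then α is the identity. (In the source S is the marking of a marked
central extension of finite tame étale group schemes and the hypothesis is that the marked conjugacy
classes generate G; the conclusion there is that a morphism of marked extensions inducing the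
identity on the kernel and on G is unique.) -/
theorem result {E : Type u} {G : Type v} [Group E] [Group G]
    (f : E →* G) (hker : f.ker ≤ Subgroup.center E) (α : E →* E) (hα : f.comp α = f)
    (hαA : ∀ a ∈ f.ker, α a = a) (S : Set E) (hS : Subgroup.closure (f '' S) = ⊤)
    (hαS : ∀ s ∈ S, α s = s) : α = MonoidHom.id E := by
  have key : ∀ e e' : E, α e = e → f e' = f e → α e' = e' := by
    intro e e' he h
    have hm : e⁻¹ * e' ∈ f.ker := by simp [MonoidHom.mem_ker, h]
    rw [show e' = e * (e⁻¹ * e') by group, map_mul, he, hαA _ hm]
  let H : Subgroup E := α.eqLocus (MonoidHom.id E)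
  have hH : ∀ g : G, g ∈ Subgroup.map f H := by
    intro g
    have : Subgroup.closure (f '' S) ≤ Subgroup.map f H := by
      rw [Subgroup.closure_le]
      rintro _ ⟨s, hs, rfl⟩
      exact ⟨s, hαS s hs, rfl⟩
    exact this (hS ▸ Subgroup.mem_top g)
  ext e
  obtain ⟨e0, he0, he⟩ := hH (f e)
  exact key e0 e he0 he.symm

end Groth.Agent.S18950
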