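import Groth.Statements.S18951
import Mathlib.Algebra.Group.Subgroup.Basic

set_option autoImplicit false
universe u
open OrbPic

namespace Groth.Agent.S18951

/-- Let G be a group and C ⊆ G a subset that generates G. Then the projection (χ, w) ↦ w from the group
of geometric partial orbifold line bundles with respect to C to functions G → ℚ is injective, its
image contains every conjugation-invariant integer-valued function vanishing at 1 and outside C, and
the group is torsion-free. (The source works with the geometric points of a tame finite étale group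
scheme, characters with values in roots of unity and weights on conjugacy classes of the Tate twist;
here these are identified with a group, homomorphisms to ℚ/ℤ and class functions as the source does
after choosing roots of unity. The case C = G ∖ {1} is the statement for full orbifold line
bundles.) -/
theorem result (G : Type u) [Group G] (C : Set G)
    (hC : Subgroup.closure C = ⊤) :
    Set.InjOn (fun p : (Additive G →+ W4c6brauerbgmalle.QmodZ) × (G → ℚ) => p.2) (W4c6brauerbgmalle.picOrb G C) ∧
      (∀ w ∈ W4c6brauerbgmalle.intWeights G C, ((0 : Additive G →+ W4c6brauerbgmalle.QmodZ), w) ∈ W4c6brauerbgmalle.picOrb G C) ∧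
      ∀ (n : ℕ) (p : (Additive G →+ W4c6brauerbgmalle.QmodZ) × (G → ℚ)), p ∈ W4c6brauerbgmalle.picOrb G C → n ≠ 0 →
        n • p = 0 → p = 0 := by
  have hinj : Set.InjOn (fun p : (Additive G →+ W4c6brauerbgmalle.QmodZ) × (G → ℚ) => p.2)
      (W4c6brauerbgmalle.picOrb G C) := by
    intro p hp q hq h
    have h' : p.2 = q.2 := h
    refine Prod.ext ?_ h'
    have hmul : p.1.toMultiplicativeRight = q.1.toMultiplicativeRight := by
      refine MonoidHom.eq_of_eqOn_dense hC fun g hg => ?_
      show Multiplicative.ofAdd (p.1 (Additive.ofMul g)) = Multiplicative.ofAdd (q.1 (Additive.ofMul g))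
      rw [← hp.2.2.2 g hg, ← hq.2.2.2 g hg, h']
    exact AddMonoidHom.toMultiplicativeRight.injective hmul
  refine ⟨hinj, fun w hw => ⟨hw.1, hw.2.1, hw.2.2.1, fun g _ => ?_⟩, fun n p hp hn h0 => ?_⟩
  · obtain ⟨z, hz⟩ := hw.2.2.2 g
    show W4c6brauerbgmalle.toQmodZ (w g) = 0
    rw [hz]
    exact (QuotientAddGroup.eq_zero_iff _).2 ⟨z, by simp⟩
  · refine hinj hp (AddSubgroup.zero_mem _) (funext fun g => ?_)
    have h := congrFun (congrArg Prod.snd h0) g
    simpa [hn] using h

end Groth.Agent.S18951
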