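import Groth.Statements.S18952
import Mathlib.GroupTheory.QuotientGroup.Basic
import Mathlib.Tactic.Abel

set_option autoImplicit false
universe u
open OrbPic

namespace Groth.Agent.S18952

/-- Let G be a group and C ⊆ G a subset stable under conjugation. Then (χ, w) ↦ χ maps the group of
geometric partial orbifold line bundles with respect to C onto all characters G → ℚ/ℤ, and a pair in
its kernel (χ trivial) has w a conjugation-invariant integer-valued function vanishing at 1 and
outside C: with the inclusion of such functions this is the exact sequence 0 → Hom(C/conj, ℤ) → Pic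
→ Hom(G, ℚ/ℤ) → 0 over a separably closed field. (As in the source after a choice of roots of unity,
the group G stands for the geometric points of a tame finite étale group scheme, characters are
homomorphisms to ℚ/ℤ and weights are class functions on G.) -/
theorem result (G : Type u) [Group G] (C : Set G)
    (hC : ∀ g h : G, g ∈ C → h * g * h⁻¹ ∈ C) :
    (∀ χ : Additive G →+ W4c6brauerbgmalle.QmodZ, ∃ w : G → ℚ, (χ, w) ∈ W4c6brauerbgmalle.picOrb G C) ∧
      (∀ p : (Additive G →+ W4c6brauerbgmalle.QmodZ) × (G → ℚ), p ∈ W4c6brauerbgmalle.picOrb G C → p.1 = 0 →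
        p.2 ∈ W4c6brauerbgmalle.intWeights G C) := by
  classical
  refine ⟨fun χ => ?_, fun p hp h0 => ⟨hp.1, hp.2.1, hp.2.2.1, fun g => ?_⟩⟩
  · choose s hs using QuotientAddGroup.mk'_surjective (AddSubgroup.zmultiples (1 : ℚ))
    refine ⟨fun g => if g ∈ C ∧ g ≠ 1 then s (χ (Additive.ofMul g)) else 0, ?_, ?_, ?_, ?_⟩
    · simp
    · intro g hg; simp [hg]
    · intro g h
      have e1 : h * g * h⁻¹ ∈ C ↔ g ∈ C :=
        ⟨fun hm => by simpa [mul_assoc] using hC _ h⁻¹ hm, hC g h⟩
      have e2 : h * g * h⁻¹ ≠ 1 ↔ g ≠ 1 := by simp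
      have e3 : χ (Additive.ofMul (h * g * h⁻¹)) = χ (Additive.ofMul g) := by
        rw [ofMul_mul, ofMul_mul, ofMul_inv, map_add, map_add, map_neg]
        abel
      show (if h * g * h⁻¹ ∈ C ∧ h * g * h⁻¹ ≠ 1 then s (χ (Additive.ofMul (h * g * h⁻¹))) else 0) = _
      rw [e3]
      simp only [e1, e2]
    · intro g hg
      by_cases h1 : g = 1
      · subst h1; simp
      · simp only [hg, h1, ne_eq, not_false_eq_true, and_self, if_true]
        exact hs _
  · by_cases hg : g ∈ C
    · have h := hp.2.2.2 g hg
      rw [h0, AddMonoidHom.zero_apply] at h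
      obtain ⟨z, hz⟩ := (QuotientAddGroup.eq_zero_iff _).1 h
      exact ⟨z, by simpa using hz.symm⟩
    · exact ⟨0, by simp [hp.2.1 g hg]⟩

end Groth.Agent.S18952
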