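import Groth.Statements.S18953
import Mathlib.Algebra.Group.Prod

set_option autoImplicit false
universe u v
open OrbPic

namespace Groth.Agent.S18953

/-- Let G₁ and G₂ be groups with subsets C₁ ⊆ G₁ and C₂ ⊆ G₂, and let C ⊆ G₁ × G₂ be the union of C₁ ×
{1} and {1} × C₂. Restricting the character and the weight along the two inclusions G₁ → G₁ × G₂ and
G₂ → G₁ × G₂ is a bijection from the geometric partial orbifold line bundles of G₁ × G₂ with respect
to C onto pairs of geometric partial orbifold line bundles of G₁ with respect to C₁ and of G₂ with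
respect to C₂. (As in the source after a choice of roots of unity, each group stands for the
geometric points of a tame finite étale group scheme, characters are homomorphisms to ℚ/ℤ and
weights are class functions; the source states the Galois-equivariant version, which follows by
taking invariants.) -/
theorem result (G₁ : Type u) (G₂ : Type v) [Group G₁] [Group G₂] (C₁ : Set G₁) (C₂ : Set G₂) :
    Set.BijOn
      (fun p : (Additive (G₁ × G₂) →+ W4c6brauerbgmalle.QmodZ) × (G₁ × G₂ → ℚ) =>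
        ((p.1.comp (MonoidHom.toAdditive (MonoidHom.inl G₁ G₂)), fun g => p.2 (g, 1)),
          (p.1.comp (MonoidHom.toAdditive (MonoidHom.inr G₁ G₂)), fun g => p.2 (1, g))))
      (W4c6brauerbgmalle.picOrb (G₁ × G₂) ((fun g => (g, (1 : G₂))) '' C₁ ∪ (fun g => ((1 : G₁), g)) '' C₂))
      ((W4c6brauerbgmalle.picOrb G₁ C₁ : Set _) ×ˢ (W4c6brauerbgmalle.picOrb G₂ C₂ : Set _)) := by
  classical
  set C : Set (G₁ × G₂) := (fun g => (g, (1 : G₂))) '' C₁ ∪ (fun g => ((1 : G₁), g)) '' C₂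
  have hC1 : ∀ g, (g, (1 : G₂)) ∈ C → g ∈ C₁ ∨ g = 1 := by
    rintro g (⟨a, ha, he⟩ | ⟨a, ha, he⟩)
    · exact Or.inl (by have h : a = g := congrArg Prod.fst he; exact h ▸ ha)
    · exact Or.inr (congrArg Prod.fst he).symm
  have hC2 : ∀ g, ((1 : G₁), g) ∈ C → g ∈ C₂ ∨ g = 1 := by
    rintro g (⟨a, ha, he⟩ | ⟨a, ha, he⟩)
    · exact Or.inr (congrArg Prod.snd he).symm
    · exact Or.inl (by have h : a = g := congrArg Prod.snd he; exact h ▸ ha)
  have hmem : ∀ p ∈ W4c6brauerbgmalle.picOrb (G₁ × G₂) C, ∀ g, g ∈ C → W4c6brauerbgmalle.toQmodZ (p.2 g) = p.1 (Additive.ofMul g) :=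
    fun p hp g hg => hp.2.2.2 g hg
  refine ⟨fun p hp => ⟨⟨hp.1, fun g hg => ?_, fun g h => ?_, fun g hg => ?_⟩, ⟨hp.1, fun g hg => ?_, fun g h => ?_, fun g hg => ?_⟩⟩, ?_, ?_⟩
  · by_cases h1 : g = 1
    · subst h1; exact hp.1
    · exact hp.2.1 _ fun h => (hC1 g h).elim hg h1
  · have := hp.2.2.1 (g, 1) (h, 1)
    simpa using this
  · exact hmem p hp _ (Or.inl ⟨g, hg, rfl⟩)
  · by_cases h1 : g = 1
    · subst h1; exact hp.1
    · exact hp.2.1 _ fun h => (hC2 g h).elim hg h1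
  · have := hp.2.2.1 (1, g) (1, h)
    simpa using this
  · exact hmem p hp _ (Or.inr ⟨g, hg, rfl⟩)
  · intro p hp q hq h
    simp only [Prod.mk.injEq] at h
    obtain ⟨⟨h1, h2⟩, h3, h4⟩ := h
    refine Prod.ext (AddMonoidHom.ext fun x => ?_) (funext fun g => ?_)
    · obtain ⟨⟨a, b⟩, rfl⟩ := Additive.ofMul.surjective x
      have e : Additive.ofMul (a, b) = Additive.ofMul (a, (1 : G₂)) + Additive.ofMul ((1 : G₁), b) := by
        rw [← ofMul_mul]; simp
      rw [e, map_add, map_add]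
      exact congrArg₂ (· + ·) (DFunLike.congr_fun h1 (Additive.ofMul a)) (DFunLike.congr_fun h3 (Additive.ofMul b))
    · by_cases hg : g ∈ C
      · rcases hg with ⟨a, -, rfl⟩ | ⟨a, -, rfl⟩
        · exact congrFun h2 a
        · exact congrFun h4 a
      · rw [hp.2.1 g hg, hq.2.1 g hg]
  · rintro ⟨⟨χ₁, w₁⟩, ⟨χ₂, w₂⟩⟩ ⟨⟨a1, a2, a3, a4⟩, ⟨b1, b2, b3, b4⟩⟩
    let w : G₁ × G₂ → ℚ := fun g => if g.2 = 1 then w₁ g.1 else if g.1 = 1 then w₂ g.2 else 0
    let χ : Additive (G₁ × G₂) →+ W4c6brauerbgmalle.QmodZ :=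
      χ₁.comp (MonoidHom.toAdditive (MonoidHom.fst G₁ G₂)) + χ₂.comp (MonoidHom.toAdditive (MonoidHom.snd G₁ G₂))
    refine ⟨(χ, w), ⟨?_, ?_, ?_, ?_⟩, Prod.ext (Prod.ext ?_ ?_) (Prod.ext ?_ ?_)⟩
    · simp only [w, Prod.snd_one, Prod.fst_one, if_true]; exact a1
    · intro g hg
      simp only [w]
      split_ifs with h1 h2
      · exact a2 _ fun h => hg (Or.inl ⟨g.1, h, by rw [← h1]⟩)
      · exact b2 _ fun h => hg (Or.inr ⟨g.2, h, by rw [← h2]⟩)
      · rfl
    · intro g h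
      have e1 : h.2 * g.2 * h.2⁻¹ = 1 ↔ g.2 = 1 := by simp
      have e2 : h.1 * g.1 * h.1⁻¹ = 1 ↔ g.1 = 1 := by simp
      show w _ = w _
      simp only [w, Prod.snd_mul, Prod.fst_mul, Prod.snd_inv, Prod.fst_inv, e1, e2]
      rw [show w₁ (h.1 * g.1 * h.1⁻¹) = w₁ g.1 from a3 _ _, show w₂ (h.2 * g.2 * h.2⁻¹) = w₂ g.2 from b3 _ _]
    · rintro g (⟨a, ha, rfl⟩ | ⟨a, ha, rfl⟩)
      · show W4c6brauerbgmalle.toQmodZ (w (a, 1)) = χ₁ (Additive.ofMul a) + χ₂ (Additive.ofMul 1)
        rw [ofMul_one, map_zero, add_zero]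
        simpa [w] using a4 a ha
      · show W4c6brauerbgmalle.toQmodZ (w (1, a)) = χ₁ (Additive.ofMul 1) + χ₂ (Additive.ofMul a)
        rw [ofMul_one, map_zero, zero_add]
        by_cases h : a = 1
        · subst h
          simp only [w, if_true]
          rw [show w₁ 1 = 0 from a1, map_zero, ofMul_one, map_zero]
        · simpa [w, h] using b4 a ha
    · refine AddMonoidHom.ext fun x => ?_
      show χ₁ x + χ₂ 0 = χ₁ x
      rw [map_zero, add_zero]
    · funext g; simp [w]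
    · refine AddMonoidHom.ext fun x => ?_
      show χ₁ 0 + χ₂ x = χ₂ x
      rw [map_zero, zero_add]
    · funext g
      by_cases h : g = 1
      · subst h; simp only [w, if_true]; exact (show w₁ 1 = 0 from a1).trans (show w₂ 1 = 0 from b1).symm
      · simp [w, h]

end Groth.Agent.S18953
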