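import Groth.Statements.S18957
import Groth.Agent.Lib.MagnetClosed25.Basic
-- import your own Groth.Agent.* helpers here

set_option autoImplicit false
universe u
open CategoryTheory MonoidalCategory CartesianMonoidalCategory MonObj AlgebraicGeometry Opposite
open Magnet

namespace Groth.Agent.S18957
open CategoryTheory CategoryTheory.Limits MonoidalCategory CartesianMonoidalCategory Magnet Magnet.MonAct
open scoped MonObj


/-- Let k be a field, M a monoid k-scheme with an action a on a k-scheme X, G a group k-scheme and i : G
→ M a homomorphism of monoids which is a quasi-compact open immersion with scheme-theoretically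
dense image. Let j : Z → X be a closed immersion and b an action of G on Z for which j is
equivariant, G acting on X through i and a (a closed G-stable subscheme). Then the G-action on Z
extends to an M-action making j equivariant: there is an action c of M on Z such that j is
equivariant for c and a and the restriction of c along i is b. (The published statement takes G to
be the group of units of M, schematically dense in M; here it is assumed only that i is a
homomorphism of monoids and a quasi-compact, scheme-theoretically dominant open immersion.) -/
theorem result (k : Type u) [Field k]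
    (M G X Z : Over (Spec (CommRingCat.of k))) [MonObj M] [GrpObj G]
    (i : G ⟶ M) [IsMonHom i] [IsOpenImmersion i.left] [QuasiCompact i.left]
    [IsSchemeTheoreticallyDominant i.left]
    (a : Magnet.MonAct M X) (b : AlgGrp.Action G Z) (j : Z ⟶ X) [IsClosedImmersion j.left]
    (hj : Magnet.MonAct.IsEquivariant (Magnet.MonAct.ofAction b) (a.restrict i) j) :
    ∃ c : Magnet.MonAct M Z, Magnet.MonAct.IsEquivariant c a j ∧ c.restrict i = Magnet.MonAct.ofAction b := by
  have := GrothLib.MagnetClosed.mono_of_left j
  have := GrothLib.MagnetClosed.isSTD_whiskerRight_field i Z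
  have hs : (i ▷ Z) ≫ ((M ◁ j) ≫ a.act) = (MonAct.ofAction b).act ≫ j := by
    unfold Magnet.MonAct.IsEquivariant at hj
    rw [hj, MonAct.restrict_act, ← whisker_exchange_assoc]
  obtain ⟨l, hl⟩ := GrothLib.MagnetClosed.exists_factor j (i ▷ Z) ((M ◁ j) ≫ a.act) _ hs
  have key : ∀ {T : Over (Spec (CommRingCat.of k))} (g : T ⟶ M) (x : T ⟶ Z),
      (lift g x ≫ l) ≫ j = lift g (x ≫ j) ≫ a.act := by
    intro T g x
    rw [Category.assoc, hl, lift_whiskerLeft_assoc]
  refine ⟨MonAct.mk' l (fun T x => ?_) (fun T g h x => ?_), hl, ?_⟩
  · rw [← cancel_mono j, key, lift_one_act]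
  · rw [← cancel_mono j, key, key, key, lift_mul_act]
  · have hbl : (i ▷ Z) ≫ l = (MonAct.ofAction b).act := by
      rw [← cancel_mono j, Category.assoc, hl, hs]
    change MonAct.mk _ _ _ = MonAct.mk _ _ _
    simp only [MonAct.mk.injEq]
    exact hbl

end Groth.Agent.S18957
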