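import Groth.Statements.S18958
import Mathlib.AlgebraicGeometry.ResidueField
import Mathlib.CategoryTheory.Limits.Types.Pullbacks
import Mathlib.AlgebraicGeometry.OpenImmersion
-- import your own Groth.Agent.* helpers here

set_option autoImplicit false
universe u
open CategoryTheory MonoidalCategory CartesianMonoidalCategory MonObj AlgebraicGeometry Opposite
open Magnet

namespace Groth.Agent.S18958

/-- Let k be a field, G a group k-scheme and M a monoid k-scheme with a homomorphism of monoids i : G →
M and a zero o : Spec k → M (m·o = o = o·m for every point m of M). Assume that for every k-scheme T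
whose underlying scheme is the spectrum of a field K, every open subset of M ×_k T which is stable
under G acting by left multiplication through i on the first factor and which contains the zero
section T → M ×_k T is the whole of M ×_k T. Let X be a k-scheme with an action aX of G and j : U →
X an open immersion, G-equivariant for an action aU of G on U (an open G-stable subscheme). For a
G-scheme W write D_W for the functor on k-schemes whose value at Y is the set of k-morphisms M ×_k Y
→ W that are G-equivariant for G acting on M ×_k Y by left multiplication through i on the first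
factor. Then the square of presheaves formed by D_U → D_X (composition with j), the restrictions D_U
→ U and D_X → X to the zero section of M, and j is cartesian. (In the source M is a Kempf monoid
with G its group of units, and the restriction to the zero section is viewed as the retraction of
D_X onto the fixed points X^G; the displayed property of the open G-stable subsets of M over field
extensions is what the argument uses about M, and the square over X^G is cartesian exactly when the
one over X is, U^G being X^G ×_X U.) -/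
theorem result (k : Type u) [Field k]
    (M G X U : Over (Spec (CommRingCat.of k))) [MonObj M] [GrpObj G] (i : G ⟶ M) [IsMonHom i]
    (o : 𝟙_ (Over (Spec (CommRingCat.of k))) ⟶ M)
    (ho : ∀ (T : Over (Spec (CommRingCat.of k))) (m : T ⟶ M), m * (toUnit T ≫ o) = toUnit T ≫ o ∧ (toUnit T ≫ o) * m = toUnit T ≫ o)
    (hM : ∀ (T : Over (Spec (CommRingCat.of k))) (K : Type u) [Field K] (eT : T.left ≅ Spec (CommRingCat.of K))
      (W : (M ⊗ T).left.Opens),
      (CartesianMonoidalCategory.snd G (M ⊗ T)).left ⁻¹ᵁ W ≤
          ((((Magnet.MonAct.regular M).restrict i).prod (Magnet.MonAct.trivial G T)).act).left ⁻¹ᵁ W →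
      (CartesianMonoidalCategory.lift (toUnit T ≫ o) (𝟙 T)).left ⁻¹ᵁ W = ⊤ → W = ⊤)
    (aX : AlgGrp.Action G X) (aU : AlgGrp.Action G U) (j : U ⟶ X) [IsOpenImmersion j.left]
    (hj : Magnet.MonAct.IsEquivariant (Magnet.MonAct.ofAction aU) (Magnet.MonAct.ofAction aX) j) :
    IsPullback
      (Magnet.MonAct.eqvHom.postcomp ((Magnet.MonAct.regular M).restrict i) j hj)
      (Magnet.MonAct.eqvHom.evalAt ((Magnet.MonAct.regular M).restrict i) (Magnet.MonAct.ofAction aU) o)
      (Magnet.MonAct.eqvHom.evalAt ((Magnet.MonAct.regular M).restrict i) (Magnet.MonAct.ofAction aX) o)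
      (yoneda.map j) := by
  let B := Over (Spec (CommRingCat.of k))
  let ρ := (Magnet.MonAct.regular M).restrict i
  let bX := Magnet.MonAct.ofAction aX
  let bU := Magnet.MonAct.ofAction aU
  haveI hmono : Mono j := ⟨fun {T} g h e => Over.OverMorphism.ext ((cancel_mono j.left).1 (congrArg CommaMorphism.left e))⟩
  refine IsPullback.of_forall_isPullback_app fun X' => ?_
  obtain ⟨T⟩ := X'
  rw [Limits.Types.isPullback_iff]
  refine ⟨?_, ?_, ?_⟩
  · refine ConcreteCategory.hom_ext _ _ fun φ => ?_
    exact (Category.assoc (lift (toUnit T ≫ o) (𝟙 T)) φ.1 j).symm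
  · intro φ ψ h
    exact Subtype.ext ((cancel_mono j).1 (congrArg Subtype.val h.1))
  intro y u h
  have h' : lift (toUnit T ≫ o) (𝟙 T) ≫ y.1 = u ≫ j := h
  have hy : Set.range y.1.left ⊆ Set.range j.left := by
    rintro _ ⟨q, rfl⟩
    let K := (M ⊗ T).left.residueField q
    let TK : B := Over.mk ((M ⊗ T).left.fromSpecResidueField q ≫ (M ⊗ T).hom)
    let v : TK ⟶ M ⊗ T := Over.homMk ((M ⊗ T).left.fromSpecResidueField q) rfl
    let t : TK ⟶ T := v ≫ snd M T
    let yK : M ⊗ TK ⟶ X := (M ◁ t) ≫ y.1
    let W : (M ⊗ TK).left.Opens := yK.left ⁻¹ᵁ j.left.opensRange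
    have hW : W = ⊤ := by
      refine hM TK K (Iso.refl _) W ?_ ?_
      · intro p hp
        let P : Scheme.{u} := ((snd G (M ⊗ TK)).left ⁻¹ᵁ W : Scheme.Opens _)
        let PO : B := Over.mk (((snd G (M ⊗ TK)).left ⁻¹ᵁ W).ι ≫ (G ⊗ (M ⊗ TK)).hom)
        let ι' : PO ⟶ G ⊗ (M ⊗ TK) := Over.homMk ((snd G (M ⊗ TK)).left ⁻¹ᵁ W).ι rfl
        have hr : Set.range (ι' ≫ snd _ _ ≫ yK).left ⊆ Set.range j.left := by
          rintro _ ⟨r, rfl⟩
          exact r.2
        let u' : PO ⟶ U := Over.homMk (IsOpenImmersion.lift j.left (ι' ≫ snd _ _ ≫ yK).left hr)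
          (by rw [← Over.w j, ← Category.assoc, IsOpenImmersion.lift_fac]; exact Over.w (ι' ≫ snd _ _ ≫ yK))
        have hu' : u' ≫ j = ι' ≫ snd _ _ ≫ yK := Over.OverMorphism.ext (IsOpenImmersion.lift_fac _ _ hr)
        have hy' : Magnet.MonAct.IsEquivariant (ρ.prod (Magnet.MonAct.trivial G TK)) bX yK :=
          (Magnet.MonAct.eqvHom ρ bX).map t.op y |>.2
        have e : ι' ≫ (ρ.prod (Magnet.MonAct.trivial G TK)).act ≫ yK =
            (lift (ι' ≫ fst _ _) u' ≫ bU.act) ≫ j := by
          rw [Category.assoc, hj, lift_whiskerLeft_assoc, hu', hy', ← Category.assoc]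
          congr 1
          apply CartesianMonoidalCategory.hom_ext <;> simp
        refine ⟨(lift (ι' ≫ fst _ _) u' ≫ bU.act).left ⟨p, hp⟩, ?_⟩
        have := congrArg (fun w : PO ⟶ X => w.left ⟨p, hp⟩) e
        exact this.symm
      · rw [eq_top_iff]
        rintro p -
        change yK.left ((lift (toUnit TK ≫ o) (𝟙 TK)).left p) ∈ Set.range j.left
        have e : lift (toUnit TK ≫ o) (𝟙 TK) ≫ yK = (t ≫ u) ≫ j := by
          rw [Category.assoc, ← h', lift_whiskerLeft_assoc, Category.id_comp, comp_lift_assoc, Category.comp_id,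
            ← Category.assoc t, toUnit_unique (t ≫ toUnit T) (toUnit TK)]
        exact ⟨(t ≫ u).left p, (congrArg (fun w : TK ⟶ X => w.left p) e).symm⟩
    let p0 : TK ⟶ M ⊗ TK := lift (v ≫ fst M T) (𝟙 TK)
    let r : TK.left := (default : Spec ((M ⊗ T).left.residueField q))
    have hmem : yK.left (p0.left r) ∈ Set.range j.left := (hW.ge (trivial : p0.left r ∈ (⊤ : (M ⊗ TK).left.Opens)) :)
    have e : p0 ≫ yK = v ≫ y.1 := by
      change p0 ≫ (M ◁ t) ≫ y.1 = _
      rw [lift_whiskerLeft_assoc, Category.id_comp, ← comp_lift, lift_fst_snd, Category.comp_id]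
    have e' : yK.left (p0.left r) = y.1.left q := by
      refine (congrArg (fun w : TK ⟶ X => w.left r) e).trans ?_
      exact congrArg y.1.left (Scheme.fromSpecResidueField_apply _ _)
    rw [← e']
    exact hmem
  let g : M ⊗ T ⟶ U := Over.homMk (IsOpenImmersion.lift j.left y.1.left hy)
    (by rw [← Over.w j, ← Category.assoc, IsOpenImmersion.lift_fac]; exact Over.w y.1)
  have hgj : g ≫ j = y.1 := Over.OverMorphism.ext (IsOpenImmersion.lift_fac j.left y.1.left hy)
  have hg : Magnet.MonAct.IsEquivariant (ρ.prod (Magnet.MonAct.trivial G T)) bU g := by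
    have h := y.2
    unfold Magnet.MonAct.IsEquivariant at hj ⊢
    rw [← cancel_mono j, Category.assoc, hgj]
    refine h.trans ?_
    rw [← hgj, whiskerLeft_comp, Category.assoc, ← hj, Category.assoc]
  refine ⟨⟨g, hg⟩, Subtype.ext hgj, ?_⟩
  apply (cancel_mono j).1
  change (lift (toUnit T ≫ o) (𝟙 T) ≫ g) ≫ j = u ≫ j
  rw [Category.assoc, hgj, h']


end Groth.Agent.S18958
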