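import Groth.Statements.S18959
import Groth.Agent.Lib.MagnetAff25.Main
-- import your own Groth.Agent.* helpers here

set_option autoImplicit false
universe u
open CategoryTheory MonoidalCategory CartesianMonoidalCategory MonObj AlgebraicGeometry Opposite
open Magnet

namespace Groth.Agent.S18959
open CategoryTheory.Limits


/-- Let k be a field and let M be the affine line A^1_k with its multiplication (the diagonalizable
monoid scheme of the additive monoid of natural numbers; the published statement covers any Kempf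
monoid over k), acting on k-schemes X and Y through a and b so that X and Y are locally linear, i.e.
every point has an affine open neighbourhood stable under the action. Let Y be locally Noetherian
and f : X → Y an equivariant k-morphism such that: (1) the induced map of fixed-point subfunctors
X^M → Y^M is an isomorphism; (2) the square formed by X^M → Y^M, the inclusions X^M → X, Y^M → Y of
functors of points and f is cartesian; (3) there is an open subset V of X on which f is étale and
through which every fixed T-valued point of X factors. Then f is an isomorphism. -/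
theorem result (k : Type u) [Field k]
    (X Y : Over (Spec (CommRingCat.of k))) (a : Magnet.MonAct (Magnet.AMonS (Spec (CommRingCat.of k)) ℕ) X) (b : Magnet.MonAct (Magnet.AMonS (Spec (CommRingCat.of k)) ℕ) Y)
    (hX : ∀ x : X.left, ∃ U : X.left.Opens, x ∈ U ∧ IsAffineOpen U ∧
      (CartesianMonoidalCategory.snd (Magnet.AMonS (Spec (CommRingCat.of k)) ℕ) X).left ⁻¹ᵁ U ≤ a.act.left ⁻¹ᵁ U)
    (hY : ∀ y : Y.left, ∃ U : Y.left.Opens, y ∈ U ∧ IsAffineOpen U ∧
      (CartesianMonoidalCategory.snd (Magnet.AMonS (Spec (CommRingCat.of k)) ℕ) Y).left ⁻¹ᵁ U ≤ b.act.left ⁻¹ᵁ U)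
    [IsLocallyNoetherian Y.left] (f : X ⟶ Y) (hf : Magnet.MonAct.IsEquivariant a b f)
    (h1 : IsIso (Magnet.MonAct.fixedPsh.map f hf))
    (h2 : IsPullback (Magnet.MonAct.fixedPsh.map f hf) (Magnet.MonAct.fixedPshι a)
      (Magnet.MonAct.fixedPshι b) (yoneda.map f))
    (V : X.left.Opens) [Etale (V.ι ≫ f.left)]
    (h3 : ∀ (T : Over (Spec (CommRingCat.of k))) (x : (Magnet.MonAct.fixedPsh a).obj (op T)), x.1.left ⁻¹ᵁ V = ⊤) :
    IsIso f := by
  have hbij : ∀ {E : Type u} [CommRing E] (p : Spec (CommRingCat.of E) ⟶ Spec (CommRingCat.of k)),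
      Function.Bijective ((Magnet.MonAct.fixedPsh.map f hf).app (op (Over.mk p))) := fun p =>
    (isIso_iff_bijective _).1 inferInstance
  have H : GrothLib.MagnetAff.FixedIso a b f V := by
    refine ⟨hf, ?_, ?_, ?_, ?_⟩
    · intro E _ x x' hx hx' he
      have hp : x' ≫ X.hom = x ≫ X.hom := by rw [← Over.w f, ← reassoc_of% he]
      let xo : Over.mk (x ≫ X.hom) ⟶ X := Over.homMk x rfl
      let xo' : Over.mk (x ≫ X.hom) ⟶ X := Over.homMk x' hp
      have := (hbij (x ≫ X.hom)).1 (a₁ := ⟨xo, (GrothLib.MagnetAff.mem_fixedPsh_iff a xo).2 hx⟩)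
        (a₂ := ⟨xo', (GrothLib.MagnetAff.mem_fixedPsh_iff a xo').2 hx'⟩) (Subtype.ext (Over.OverMorphism.ext he))
      exact congrArg (fun z => CommaMorphism.left z.1) this
    · intro E _ y hy
      let yo : Over.mk (y ≫ Y.hom) ⟶ Y := Over.homMk y rfl
      obtain ⟨z, hz⟩ := (hbij (y ≫ Y.hom)).2 ⟨yo, (GrothLib.MagnetAff.mem_fixedPsh_iff b yo).2 hy⟩
      exact ⟨z.1.left, (GrothLib.MagnetAff.mem_fixedPsh_iff a z.1).1 z.2,
        congrArg CommaMorphism.left (congrArg Subtype.val hz)⟩
    · intro E _ x hx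
      let xo : Over.mk (x ≫ X.hom) ⟶ X := Over.homMk x rfl
      have hy : GrothLib.MagnetAff.IsFix b (xo ≫ f).left := hx
      obtain ⟨z, -, hz⟩ := ((Types.isPullback_iff _ _ _ _).1 (h2.map ((evaluation _ _).obj (op (Over.mk (x ≫ X.hom)))))).2.2
        ⟨xo ≫ f, (GrothLib.MagnetAff.mem_fixedPsh_iff b _).2 hy⟩ xo rfl
      have : z.1 = xo := hz
      have hz2 := (GrothLib.MagnetAff.mem_fixedPsh_iff a z.1).1 z.2
      rw [this] at hz2
      exact hz2
    · intro E _ x p hx
      let xo : Over.mk (x ≫ X.hom) ⟶ X := Over.homMk x rfl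
      have := h3 _ ⟨xo, (GrothLib.MagnetAff.mem_fixedPsh_iff a xo).2 hx⟩
      exact (this ▸ trivial : p ∈ xo.left ⁻¹ᵁ V)
  refine GrothLib.MagnetAff.isIso_of_fixedIso ?_ ?_ H
  · intro x
    obtain ⟨U, hxU, hU, hst⟩ := hX x
    obtain ⟨C, hC⟩ := GrothLib.MagnetAff.exists_chart a U hU hst
    exact ⟨C, hC ▸ hxU⟩
  · intro y
    obtain ⟨U, hyU, hU, hst⟩ := hY y
    obtain ⟨C, hC⟩ := GrothLib.MagnetAff.exists_chart b U hU hst
    exact ⟨C, hC ▸ hyU⟩

end Groth.Agent.S18959
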