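import Groth.Statements.S18960
import Mathlib.CategoryTheory.Limits.Creates

set_option autoImplicit false
universe w' w v u
open CategoryTheory Limits
open CatLim

namespace Groth.Agent.S18960

/-- Let C be a category and T an endofunctor of C; let C(T) be the category whose objects are pairs (X,
u) with u : T X → X an isomorphism and whose morphisms (X, u) → (Y, w) are the morphisms X → Y
compatible with u and w — the full subcategory of T-algebras with invertible structure map — and let
π : C(T) → C be the forgetful functor. If T preserves colimits of shape J then π creates colimits of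
shape J. (The source assumes T preserves all small colimits and concludes for all small shapes; the
argument is shape by shape.) -/
theorem result {C : Type u} [Category.{v} C] (T : C ⥤ C)
    (J : Type w) [Category.{w'} J] [PreservesColimitsOfShape J T] :
    Nonempty (CreatesColimitsOfShape J
      ((ObjectProperty.ι (fun A : Endofunctor.Algebra T => IsIso A.str)) ⋙ Endofunctor.Algebra.forget T)) := by
  let U := (ObjectProperty.ι (fun A : Endofunctor.Algebra T => IsIso A.str)) ⋙ Endofunctor.Algebra.forget T
  refine ⟨⟨fun {K} => createsColimitOfReflectsIso fun c hc => ?_⟩⟩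
  let e : (K ⋙ U) ⋙ T ≅ K ⋙ U := NatIso.ofComponents
    (fun j => @asIso _ _ _ _ (K.obj j).obj.str (K.obj j).property)
    (fun {j k} f => (K.map f).hom.h)
  have hT : IsColimit (T.mapCocone c) := isColimitOfPreserves T hc
  let u := hT.coconePointsIsoOfNatIso hc e
  have hu : ∀ j, T.map (c.ι.app j) ≫ u.hom = (K.obj j).obj.str ≫ c.ι.app j :=
    fun j => IsColimit.comp_coconePointsIsoOfNatIso_hom hT hc e j
  let A : ObjectProperty.FullSubcategory (fun A : Endofunctor.Algebra T => IsIso A.str) :=
    ⟨⟨c.pt, u.hom⟩, inferInstanceAs (IsIso u.hom)⟩
  refine
    { liftedCocone :=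
        { pt := A
          ι :=
            { app := fun j => ObjectProperty.homMk (⟨c.ι.app j, hu j⟩ : (K.obj j).obj ⟶ A.obj)
              naturality := fun j k f => ObjectProperty.hom_ext _ (Endofunctor.Algebra.ext
                (by
                  change (K.map f).hom.f ≫ c.ι.app k = c.ι.app j ≫ 𝟙 c.pt
                  exact c.ι.naturality f)) } }
      validLift := Cocone.ext (Iso.refl _) (fun j => Category.comp_id _)
      makesColimit :=
        { desc := fun s => ObjectProperty.homMk (⟨hc.desc (U.mapCocone s), hT.hom_ext fun j => by
            change T.map (c.ι.app j) ≫ T.map (hc.desc (U.mapCocone s)) ≫ s.pt.obj.str =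
              T.map (c.ι.app j) ≫ u.hom ≫ hc.desc (U.mapCocone s)
            refine ((T.map_comp_assoc _ _ _).symm.trans
              (congrArg (fun x => T.map x ≫ s.pt.obj.str) (hc.fac _ j))).trans ?_
            refine ((s.ι.app j).hom.h).trans ?_
            refine Eq.trans ?_ ((Category.assoc _ _ _).symm.trans
              ((congrArg (· ≫ hc.desc (U.mapCocone s)) (hu j)).trans (Category.assoc _ _ _))).symm
            exact congrArg ((K.obj j).obj.str ≫ ·) (hc.fac (U.mapCocone s) j).symm⟩ : A.obj ⟶ s.pt.obj)
          fac := fun s j => ObjectProperty.hom_ext _ (Endofunctor.Algebra.ext (hc.fac (U.mapCocone s) j))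
          uniq := fun s m hm => ObjectProperty.hom_ext _ (Endofunctor.Algebra.ext
            (hc.uniq (U.mapCocone s) m.hom.f (fun j => congrArg (fun x => x.hom.f) (hm j)))) } }

end Groth.Agent.S18960
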