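import Groth.Agent.Lib.GradedSmooth.Basic
import Groth.Statements.S18961
-- import your own Groth.Agent.* helpers here

set_option autoImplicit false
universe u
open BBDec

namespace Groth.Agent.S18961


open DirectSum MvPolynomial in
private lemma main {A B : Type u} [CommRing A] [CommRing B] [Algebra A B] [IsNoetherianRing A]
    (𝒜 : ℕ → Submodule A B) [GradedAlgebra 𝒜]
    (h0 : ∀ b : B, b ∈ 𝒜 0 ↔ b ∈ Set.range (algebraMap A B)) (hinj : Function.Injective (algebraMap A B))
    (hsm : ∀ (P : Ideal B) [P.IsPrime], (HomogeneousIdeal.irrelevant 𝒜).toIdeal ≤ P → Algebra.IsSmoothAt A P)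
    {ι : Type u} [Finite ι] (e : Module.Basis ι A (HomogeneousIdeal.irrelevant 𝒜).toIdeal.Cotangent) :
    Nonempty (B ≃ₐ[A] MvPolynomial ι A) := by
  classical
  haveI := Fintype.ofFinite ι
  set I := (HomogeneousIdeal.irrelevant 𝒜).toIdeal
  have hI : ∀ x, x ∈ I ↔ (decompose 𝒜 x 0 : B) = 0 := fun x => Iff.rfl
  let pr : ℕ → B →ₗ[A] B := GradedAlgebra.proj 𝒜
  have hpr : ∀ n x, pr n x ∈ 𝒜 n := fun n x => (decompose 𝒜 x n).2
  have hsame : ∀ {n x}, x ∈ 𝒜 n → pr n x = x := fun hx => decompose_of_mem_same 𝒜 hx
  have hne : ∀ {m n x}, x ∈ 𝒜 m → m ≠ n → pr n x = 0 := fun hx h => decompose_of_mem_ne 𝒜 hx h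
  let h : B →ₗ[A] I :=
    { toFun := fun x => ⟨x - pr 0 x, (hI _).2 (show pr 0 (x - pr 0 x) = 0 by
        rw [map_sub, hsame (hpr 0 x), sub_self])⟩
      map_add' := fun x y => Subtype.ext (show x + y - pr 0 (x + y) = x - pr 0 x + (y - pr 0 y) by
        rw [map_add]; abel)
      map_smul' := fun a x => Subtype.ext (show a • x - pr 0 (a • x) = a • (x - pr 0 x) by
        rw [map_smul, smul_sub]) }
  have hh : ∀ x (hx : x ∈ I), h x = ⟨x, hx⟩ := fun x hx => Subtype.ext (show x - pr 0 x = x by
    rw [show pr 0 x = 0 from hx, sub_zero])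
  let π : B →ₗ[A] I.Cotangent := (I.toCotangent.restrictScalars A) ∘ₗ h
  have hπ : ∀ x (hx : x ∈ I), π x = 0 ↔ x ∈ I ^ 2 := fun x hx => by
    change I.toCotangent (h x) = 0 ↔ _
    rw [hh x hx, Ideal.toCotangent_eq_zero]
  choose z₀ hz₀ using fun i => I.toCotangent_surjective (e i)
  let z : ι → B := fun i => z₀ i
  have hz : ∀ i, π (z i) = e i := fun i => by
    change I.toCotangent (h (z₀ i : B)) = e i
    rw [hh _ (z₀ i).2, Subtype.coe_eta, hz₀]
  let s₀ : I.Cotangent →ₗ[A] B := e.constr A z
  have hs₀I : ∀ c, s₀ c ∈ I := fun c => by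
    rw [show s₀ c = ∑ i, e.repr c i • z i from e.constr_apply_fintype A z c]
    exact Ideal.sum_mem _ fun i _ => Submodule.smul_of_tower_mem _ _ (z₀ i).2
  have hs₀ : ∀ c, π (s₀ c) = c := fun c => by
    rw [show s₀ c = ∑ i, e.repr c i • z i from e.constr_apply_fintype A z c, map_sum]
    simp only [map_smul, hz]
    exact e.sum_repr c
  let G : B →ₗ[A] B :=
    (DirectSum.toModule A ℕ B fun d => pr d ∘ₗ s₀ ∘ₗ π ∘ₗ (𝒜 d).subtype) ∘ₗ
      (DirectSum.decomposeLinearEquiv 𝒜).toLinearMap
  have hG : ∀ {d x}, x ∈ 𝒜 d → G x = pr d (s₀ (π x)) := fun {d x} hx => by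
    change DirectSum.toModule A ℕ B _ (decompose 𝒜 x) = _
    rw [decompose_of_mem 𝒜 hx, ← DirectSum.lof_eq_of A, DirectSum.toModule_lof]
    rfl
  have hI2 : ∀ {x} d, x ∈ I ^ 2 → pr d x ∈ I ^ 2 := fun {x} d hx => by
    have hh2 : (I ^ 2).IsHomogeneous 𝒜 := by
      rw [pow_two]
      exact Ideal.IsHomogeneous.mul (HomogeneousIdeal.irrelevant 𝒜).2 (HomogeneousIdeal.irrelevant 𝒜).2
    exact hh2 d hx
  have hI2le : I ^ 2 ≤ I := Ideal.pow_le_self two_ne_zero
  have hG2 : ∀ x ∈ I ^ 2, G x = 0 := fun x hx => by
    rw [← DirectSum.sum_support_decompose 𝒜 x, map_sum]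
    refine Finset.sum_eq_zero fun d _ => ?_
    have hd : pr d x ∈ I ^ 2 := hI2 d hx
    change G (pr d x) = 0
    rw [hG (hpr d x), (hπ _ (hI2le hd)).2 hd, map_zero, map_zero]
  let y : ι → B := fun i => G (z i)
  have hGmem : ∀ x, G x ∈ I := fun x => by
    rw [← DirectSum.sum_support_decompose 𝒜 x, map_sum]
    refine Ideal.sum_mem _ fun d _ => ?_
    change G (pr d x) ∈ I
    rw [hG (hpr d x)]
    exact (HomogeneousIdeal.irrelevant 𝒜).2 d (hs₀I _)
  have hπG : ∀ x, π (G x) = π x := fun x => by
    rw [← DirectSum.sum_support_decompose 𝒜 x, map_sum, map_sum, map_sum]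
    refine Finset.sum_congr rfl fun d _ => ?_
    change π (G (pr d x)) = π (pr d x)
    have hx := hpr d x
    generalize pr d x = w at hx
    rw [hG hx]
    rcases Nat.eq_zero_or_pos d with rfl | hd
    · have h1 : pr 0 (s₀ (π w)) = 0 := hs₀I _
      have h2 : π w = 0 := by
        have : h w = 0 := Subtype.ext (show w - pr 0 w = 0 by rw [hsame hx, sub_self])
        change I.toCotangent (h w) = 0
        rw [this, map_zero]
      rw [h1, map_zero, h2]
    · have hwI : w ∈ I := HomogeneousIdeal.mem_irrelevant_of_mem 𝒜 hd hx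
      have hdiff : s₀ (π w) - w ∈ I ^ 2 :=
        (hπ _ (I.sub_mem (hs₀I _) hwI)).1 (by rw [map_sub, hs₀, sub_self])
      have := hI2 d hdiff
      rw [map_sub, hsame hx] at this
      rw [← sub_eq_zero, ← map_sub, hπ _ (hI2le this)]
      exact this
  let φ : MvPolynomial ι A →ₐ[A] B := MvPolynomial.aeval y
  have hc : ∀ p, pr 0 (φ p) = algebraMap A B (constantCoeff p) := by
    intro p
    refine RingHom.congr_fun (f := (GradedRing.projZeroRingHom 𝒜).comp φ.toRingHom)
      (g := (algebraMap A B).comp constantCoeff) (MvPolynomial.ringHom_ext (fun a => ?_) fun i => ?_) p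
    · change pr 0 (φ (C a)) = algebraMap A B (constantCoeff (C a))
      rw [constantCoeff_C, AlgHom.map_algebraMap φ a |> fun e => (by simpa using e : φ (C a) = algebraMap A B a)]
      exact hsame ((h0 _).2 ⟨a, rfl⟩)
    · change pr 0 (φ (X i)) = algebraMap A B (constantCoeff (X i))
      rw [constantCoeff_X, map_zero, MvPolynomial.aeval_X]
      exact hGmem _
  have hsurj : Function.Surjective φ := by
    have hall : ∀ d x, x ∈ 𝒜 d → x ∈ φ.range := by
      intro d
      induction d using Nat.strong_induction_on with
      | _ d ih =>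
        intro x hx
        rcases Nat.eq_zero_or_pos d with rfl | hd
        · obtain ⟨a, rfl⟩ := (h0 x).1 hx
          exact φ.range.algebraMap_mem a
        have hxI : x ∈ I := HomogeneousIdeal.mem_irrelevant_of_mem 𝒜 hd hx
        have hy : G x ∈ φ.range := by
          have hr : x - ∑ i, e.repr (π x) i • z i ∈ I ^ 2 := by
            refine (hπ _ (I.sub_mem hxI (Ideal.sum_mem _ fun i _ => Submodule.smul_of_tower_mem _ _ (z₀ i).2))).1 ?_
            rw [map_sub, map_sum]
            simp only [map_smul]
            exact sub_eq_zero.2 ((e.sum_repr (π x)).symm.trans (Finset.sum_congr rfl fun i _ => by rw [← hz i]))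
          have := hG2 _ hr
          rw [map_sub, sub_eq_zero, map_sum] at this
          rw [this]
          refine sum_mem fun i _ => ?_
          rw [map_smul]
          exact φ.range.smul_mem ⟨X i, MvPolynomial.aeval_X _ _⟩ _
        have hw : ∀ w ∈ I ^ 2, pr d w ∈ φ.range := by
          intro w hw
          rw [pow_two] at hw
          refine Submodule.mul_induction_on hw (fun a ha b hb => ?_) fun a b ha hb => ?_
          · rw [← DirectSum.sum_support_decompose 𝒜 a, ← DirectSum.sum_support_decompose 𝒜 b,
              Finset.sum_mul_sum, map_sum]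
            refine sum_mem fun i _ => ?_
            rw [map_sum]
            refine sum_mem fun j _ => ?_
            change pr d (pr i a * pr j b) ∈ φ.range
            by_cases hij : i + j = d
            · rw [hsame (hij ▸ SetLike.GradedMul.mul_mem (hpr i a) (hpr j b))]
              rcases Nat.eq_zero_or_pos i with rfl | hi
              · rw [show pr 0 a = 0 from ha, zero_mul]; exact zero_mem _
              rcases Nat.eq_zero_or_pos j with rfl | hj
              · rw [show pr 0 b = 0 from hb, mul_zero]; exact zero_mem _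
              exact mul_mem (ih i (by omega) _ (hpr i a)) (ih j (by omega) _ (hpr j b))
            · rw [hne (SetLike.GradedMul.mul_mem (hpr i a) (hpr j b)) hij]
              exact zero_mem _
          · rw [map_add]; exact add_mem ha hb
        have hxG : x - G x ∈ I ^ 2 := (hπ _ (I.sub_mem hxI (hGmem x))).1 (by rw [map_sub, hπG, sub_self])
        have := hw _ hxG
        rw [map_sub, hsame hx, hG hx, hsame (hpr _ _), ← hG hx] at this
        simpa using add_mem this hy
    intro b
    change b ∈ φ.range
    rw [← DirectSum.sum_support_decompose 𝒜 b]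
    exact sum_mem fun d _ => hall d _ (hpr d b)
  let m : Ideal (MvPolynomial ι A) := Ideal.span (Set.range X)
  have hm : ∀ p : MvPolynomial ι A, p - C (constantCoeff p) ∈ m := fun p => by
    induction p using MvPolynomial.induction_on with
    | C a => simp
    | add p q hp hq => rw [map_add, map_add, add_sub_add_comm]; exact m.add_mem hp hq
    | mul_X p i hp =>
      rw [map_mul, constantCoeff_X, mul_zero, map_zero, sub_zero]
      exact m.mul_mem_left _ (Ideal.subset_span ⟨i, rfl⟩)
  have hK : RingHom.ker φ ≤ m ^ 2 := by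
    intro p hp
    have h00 : constantCoeff p = 0 := hinj (by
      rw [← hc, show φ p = 0 from hp, map_zero, map_zero])
    have hpm : p ∈ m := by simpa [h00] using hm p
    obtain ⟨g, hg⟩ := (Ideal.mem_span_range_iff_exists_fun (R := MvPolynomial ι A)).1 hpm
    have hlin : p - ∑ i, C (constantCoeff (g i)) * X i ∈ m ^ 2 := by
      rw [← hg, ← Finset.sum_sub_distrib, pow_two]
      exact Ideal.sum_mem _ fun i _ => by
        rw [← sub_mul]; exact Ideal.mul_mem_mul (hm _) (Ideal.subset_span ⟨i, rfl⟩)
    have hmI : m.map φ ≤ I := by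
      rw [Ideal.map_span, Ideal.span_le]
      rintro _ ⟨_, ⟨i, rfl⟩, rfl⟩
      rw [MvPolynomial.aeval_X]
      exact hGmem _
    have h2 : φ (p - ∑ i, C (constantCoeff (g i)) * X i) ∈ I ^ 2 :=
      Ideal.pow_right_mono hmI 2 ((Ideal.map_pow φ m 2).le (Ideal.mem_map_of_mem φ hlin))
    have h3 : φ (p - ∑ i, C (constantCoeff (g i)) * X i) = - ∑ i, constantCoeff (g i) • y i := by
      simp [φ, show aeval y p = 0 from hp, Algebra.smul_def]
    rw [h3, Ideal.neg_mem_iff] at h2
    rw [← hπ _ (hI2le h2), map_sum] at h2
    simp only [map_smul, y, hπG, hz] at h2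
    have h4 := Fintype.linearIndependent_iff.1 e.linearIndependent _ h2
    simpa [h4] using hlin
  have hinjφ : Function.Injective φ := by
    rw [injective_iff_map_eq_zero]
    intro p hp
    let J : Ideal (MvPolynomial ι A) :=
      { carrier := {u | u * p = 0}
        add_mem' := fun {a b} ha hb => by
          change (a + b) * p = 0
          rw [add_mul, ha, hb, add_zero]
        zero_mem' := zero_mul p
        smul_mem' := fun c a ha => by
          change c * a * p = 0
          rw [mul_assoc, ha, mul_zero] }
    have htop : J ⊔ m = ⊤ := by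
      by_contra hne
      obtain ⟨q, hq, hle⟩ := Ideal.exists_le_maximal _ hne
      obtain ⟨u, hu, hup⟩ := GrothLib.GradedSmooth.exists_mul_eq_zero_of_isSmoothAt φ hsurj m hK q
        (le_sup_right.trans hle) (fun Q _ hQ => hsm Q (by
          intro b hb
          obtain ⟨r, rfl⟩ := hsurj b
          rw [hQ]
          refine Ideal.mem_map_of_mem φ (hle (Ideal.mem_sup_right ?_))
          have : constantCoeff r = 0 := hinj (by
            rw [← hc, map_zero, show pr 0 (φ r) = 0 from hb])
          simpa [this] using hm r)) (p := p) hp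
      exact hu (hle (Ideal.mem_sup_left hup))
    obtain ⟨u, hu, v, hv, huv⟩ := Submodule.mem_sup.1 (htop ▸ Submodule.mem_top : (1 : MvPolynomial ι A) ∈ J ⊔ m)
    refine GrothLib.GradedSmooth.eq_zero_of_mul_eq_zero ?_ hu
    have hv0 : constantCoeff v = 0 :=
      (Ideal.span_le (I := RingHom.ker (constantCoeff (R := A) (σ := ι)))).2
        (by rintro _ ⟨i, rfl⟩; exact MvPolynomial.constantCoeff_X ..) hv
    simpa [hv0] using congrArg constantCoeff huv
  exact ⟨(AlgEquiv.ofBijective φ ⟨hinjφ, hsurj⟩).symm⟩

/-- Let k be a field, A a finitely generated k-algebra and B a finitely generated A-algebra graded by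
the natural numbers as an A-algebra, with degree-zero part equal to the image of A and A → B
injective; let B₊ be the irrelevant ideal. So Spec B → Spec A is the retraction of an affine scheme
with an action of the multiplicative monoid of the affine line onto its fixed-point scheme, with
zero section cut out by B₊; this is the affine-local graded form, for that monoid, of the published
statement, which covers any Kempf monoid M with unit group G and a k-scheme X locally of finite
type, and concludes that the retraction X⁺ → X^G is an affine-space bundle near a fixed point at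
whose section value it is smooth. Assume that A → B is smooth at every prime ideal containing B₊ and
that B₊/B₊² is a free A-module of finite rank. Then B is isomorphic, as an A-algebra, to the
polynomial ring over A in (rank of B₊/B₊²) variables. (The published statement also makes the
isomorphism equivariant for a suitable linear action when G is linearly reductive; only the
existence of an A-algebra isomorphism is stated here. Freeness of the conormal module holds after
shrinking the base, which is how the published proof reaches this situation.) -/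
theorem result (k : Type u) [Field k]
    (A B : Type u) [CommRing A] [CommRing B] [Algebra k A] [Algebra k B] [Algebra A B] [IsScalarTower k A B]
    [Algebra.FiniteType k A] [Algebra.FiniteType A B] (𝒜 : ℕ → Submodule A B) [GradedAlgebra 𝒜]
    (h0 : ∀ b : B, b ∈ 𝒜 0 ↔ b ∈ Set.range (algebraMap A B)) (hinj : Function.Injective (algebraMap A B))
    (hsm : ∀ (P : Ideal B) [P.IsPrime], (HomogeneousIdeal.irrelevant 𝒜).toIdeal ≤ P → Algebra.IsSmoothAt A P)
    [Module.Free A (HomogeneousIdeal.irrelevant 𝒜).toIdeal.Cotangent]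
    [Module.Finite A (HomogeneousIdeal.irrelevant 𝒜).toIdeal.Cotangent] :
    Nonempty (B ≃ₐ[A]
      MvPolynomial (Fin (Module.finrank A (HomogeneousIdeal.irrelevant 𝒜).toIdeal.Cotangent)) A) := by
  haveI := Algebra.FiniteType.isNoetherianRing k A
  rcases subsingleton_or_nontrivial A with hA | hA
  · haveI : Subsingleton B := Module.subsingleton A B
    exact ⟨(AlgEquiv.ofBijective (MvPolynomial.aeval (fun _ => (0 : B)))
      ⟨Function.injective_of_subsingleton _, fun b => ⟨0, Subsingleton.elim _ _⟩⟩).symm⟩
  let e := (Module.Free.chooseBasis A (HomogeneousIdeal.irrelevant 𝒜).toIdeal.Cotangent)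
  obtain ⟨φ⟩ := main 𝒜 h0 hinj hsm e
  exact ⟨φ.trans (MvPolynomial.renameEquiv A
    (Fintype.equivFinOfCardEq (Module.finrank_eq_card_basis e).symm))⟩

end Groth.Agent.S18961
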