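import Groth.Statements.S18962
import Groth.Agent.Lib.EtaleSection26.Basic

set_option autoImplicit false
universe u
open BBDec

namespace Groth.Agent.S18962

/-- Let A be a commutative ring (the base V = Spec A) and B₁, B₂ commutative A-algebras (V-schemes X₁,
X₂) with A-algebra maps σ₁ : B₁ → A and σ₂ : B₂ → A (sections s₁, s₂ of the structure maps, closed
immersions with ideals b₁ = ker σ₁, b₂ = ker σ₂), and let B₂ → B₁ be an A-algebra map (a V-morphism
f : X₁ → X₂) with σ₁ ∘ (B₂ → B₁) = σ₂ (f s₁ = s₂). Assume B₁ is finitely presented over A and smooth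
over A at every prime containing b₁ (r₁ smooth along s₁(V)), B₂ is of finite type over A, and the
induced map b₂/b₂² → b₁/b₁² of conormal modules is bijective. Then B₂ → B₁ is étale at every prime
of B₁ containing b₁ (f étale along s₁(V)). (The published statement puts no finiteness condition on
B₂ over A, and in that generality the conclusion fails: over a field k, the square-zero extension of
k[x] by k[x, 1/x] mapping onto k[y] by x ↦ y, with the zero sections, satisfies every other
hypothesis and is not étale at the origin. Here B₂ is assumed of finite type over A.) -/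
theorem result (A B₁ B₂ : Type u)
    [CommRing A] [CommRing B₁] [CommRing B₂] [Algebra A B₁] [Algebra A B₂] [Algebra B₂ B₁]
    [IsScalarTower A B₂ B₁] [Algebra.FinitePresentation A B₁] [Algebra.FiniteType A B₂]
    (σ₁ : B₁ →ₐ[A] A) (σ₂ : B₂ →ₐ[A] A) (hσ : σ₁.comp (IsScalarTower.toAlgHom A B₂ B₁) = σ₂)
    (hle : RingHom.ker σ₂ ≤ (RingHom.ker σ₁).comap (IsScalarTower.toAlgHom A B₂ B₁))
    (hcot : Function.Bijective
      (Ideal.mapCotangent (RingHom.ker σ₂) (RingHom.ker σ₁) (IsScalarTower.toAlgHom A B₂ B₁) hle))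
    (hsm : ∀ (P : Ideal B₁) [P.IsPrime], RingHom.ker σ₁ ≤ P → Algebra.IsSmoothAt A P)
    (P : Ideal B₁) [P.IsPrime] (hP : RingHom.ker σ₁ ≤ P) : Algebra.IsEtaleAt B₂ P := by
  haveI := hsm P hP
  exact GrothLib.EtaleSection26.isEtaleAt A B₁ B₂ σ₁ σ₂ hσ hle hcot P hP

end Groth.Agent.S18962
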