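import Groth.Statements.S18963
import Groth.Agent.Lib.MagnetBB25.Main
-- import your own Groth.Agent.* helpers here

set_option autoImplicit false
universe u
open CategoryTheory MonoidalCategory CartesianMonoidalCategory MonObj AlgebraicGeometry Opposite
open Magnet

namespace Groth.Agent.S18963

/-- For the multiplicative monoid of the affine line with unit group G_m (the published statement: any
Kempf monoid M with unit group G), let k be a field, X a k-scheme with an action a of the
multiplicative group G_m = D(ℤ) over k, and Y a k-scheme. Let γ₁ and γ₂ be two k-morphisms A^1 ×_k Y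
→ X, where A^1 is the diagonalizable monoid scheme of the non-negative integers (the affine line
under multiplication), that are G_m-equivariant for G_m scaling the first factor — two Y-valued
points of the Białynicki-Birula functor D_X. Suppose γ₁ and γ₂ agree at every T-valued point (m, t)
of A^1 ×_k Y whose first coordinate m is nilpotent in the monoid A^1(T), i.e. some power of m is
absorbing (equal to its product with any element); equivalently γ₁ and γ₂ agree on all infinitesimal
neighbourhoods of {0} ×_k Y. Then γ₁ = γ₂; that is, the canonical map from D_X to the formal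
Białynicki-Birula functor is injective on Y-points. -/
theorem result (k : Type u) [Field k]
    (X Y : Over (Spec (CommRingCat.of k))) (a : AlgGrp.Action (Red.DS (Spec (CommRingCat.of k)) ℤ) X)
    (γ₁ γ₂ : (Magnet.attr (Magnet.MonAct.ofAction a) (AddSubmonoid.multiples (1 : ℤ))).obj (op Y))
    (h : ∀ (T : Over (Spec (CommRingCat.of k))) (m : T ⟶ Magnet.AMonS (Spec (CommRingCat.of k)) (AddSubmonoid.multiples (1 : ℤ))) (t : T ⟶ Y),
      (∃ n : ℕ, ∀ m' : T ⟶ Magnet.AMonS (Spec (CommRingCat.of k)) (AddSubmonoid.multiples (1 : ℤ)), m ^ (n + 1) * m' = m ^ (n + 1)) →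
      CartesianMonoidalCategory.lift m t ≫ γ₁.1 = CartesianMonoidalCategory.lift m t ≫ γ₂.1) :
    γ₁ = γ₂ := by
  exact Subtype.ext (GrothLib.MagnetBB.eq_of_agree (Magnet.MonAct.ofAction a) γ₁.2 γ₂.2 h)

end Groth.Agent.S18963
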