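import Groth.Statements.S18964
import Groth.Agent.Lib.RepOver25.Glue
import Groth.Agent.Lib.MagnetKempf25.Rep
import Groth.Agent.S18958
-- import your own Groth.Agent.* helpers here

set_option autoImplicit false
universe u
open CategoryTheory MonoidalCategory CartesianMonoidalCategory MonObj AlgebraicGeometry Opposite
open Magnet

namespace Groth.Agent.S18964

/-- Let k be a field, M an affine monoid k-scheme, G an affine group k-scheme and i : G → M a
homomorphism of monoids which is an open immersion with scheme-theoretically dense image; let o :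
Spec k → M be a zero of M (m·o = o = o·m), and assume that for every k-scheme T whose underlying
scheme is the spectrum of a field, every open subset of M ×_k T which is stable under G acting by
left multiplication through i on the first factor and contains the zero section is the whole of M
×_k T. Let X be a k-scheme with an action aX of G such that the G-stable affine open subsets U of X
cover the fixed points: for every k-scheme T and every G-fixed T-valued point x of X, the preimages
under x of the G-stable affine opens cover T (equivalently, the open subfunctors U^G cover X^G; this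
holds when X is locally linear, i.e. every point has a G-stable affine open neighbourhood). Then the
functor D_X on k-schemes, whose value at Y is the set of k-morphisms M ×_k Y → X that are
G-equivariant for G acting on M ×_k Y by left multiplication through i on the first factor, is
representable by a k-scheme. (In the source M is a Kempf monoid with G its group of units;
affineness of G, density and openness of G in M and the displayed property of G-stable opens over
field extensions are the consequences of that hypothesis which the argument uses.) -/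
theorem result (k : Type u) [Field k]
    (M G X : Over (Spec (CommRingCat.of k))) [MonObj M] [GrpObj G] [IsAffine M.left] [IsAffine G.left]
    (i : G ⟶ M) [IsMonHom i] [IsOpenImmersion i.left] [IsSchemeTheoreticallyDominant i.left]
    (o : 𝟙_ (Over (Spec (CommRingCat.of k))) ⟶ M)
    (ho : ∀ (T : Over (Spec (CommRingCat.of k))) (m : T ⟶ M), m * (toUnit T ≫ o) = toUnit T ≫ o ∧ (toUnit T ≫ o) * m = toUnit T ≫ o)
    (hM : ∀ (T : Over (Spec (CommRingCat.of k))) (K : Type u) [Field K] (eT : T.left ≅ Spec (CommRingCat.of K))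
      (W : (M ⊗ T).left.Opens),
      (CartesianMonoidalCategory.snd G (M ⊗ T)).left ⁻¹ᵁ W ≤
          ((((Magnet.MonAct.regular M).restrict i).prod (Magnet.MonAct.trivial G T)).act).left ⁻¹ᵁ W →
      (CartesianMonoidalCategory.lift (toUnit T ≫ o) (𝟙 T)).left ⁻¹ᵁ W = ⊤ → W = ⊤)
    (aX : AlgGrp.Action G X)
    (hcov : ∀ (T : Over (Spec (CommRingCat.of k))) (x : (Magnet.MonAct.fixedPsh (Magnet.MonAct.ofAction aX)).obj (op T)),
      ⨆ (U : X.left.Opens) (_ : IsAffineOpen U ∧ (CartesianMonoidalCategory.snd G X).left ⁻¹ᵁ U ≤ aX.act.left ⁻¹ᵁ U),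
        x.1.left ⁻¹ᵁ U = ⊤) :
    ∃ Z : Over (Spec (CommRingCat.of k)),
      Nonempty ((Magnet.MonAct.eqvHom ((Magnet.MonAct.regular M).restrict i) (Magnet.MonAct.ofAction aX)).RepresentableBy Z) := by
  let B := Over (Spec (CommRingCat.of k))
  let ρ := (Magnet.MonAct.regular M).restrict i
  let bX := Magnet.MonAct.ofAction aX
  let κ : Type u := {U : X.left.Opens // IsAffineOpen U ∧
    (CartesianMonoidalCategory.snd G X).left ⁻¹ᵁ U ≤ aX.act.left ⁻¹ᵁ U}
  let UO : κ → B := fun l => Over.mk (l.1.ι ≫ X.hom)
  let j : ∀ l, UO l ⟶ X := fun l => Over.homMk l.1.ι rfl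
  haveI hjo : ∀ l, IsOpenImmersion (j l).left := fun l => inferInstanceAs (IsOpenImmersion l.1.ι)
  haveI hjm : ∀ l, Mono (j l) := fun l =>
    ⟨fun {T} g h e => Over.OverMorphism.ext ((cancel_mono (j l).left).1 (congrArg CommaMorphism.left e))⟩
  have hrange : ∀ l, Set.range (j l).left = (l.1 : Set X.left) := fun l => Scheme.Opens.range_ι l.1
  have hr : ∀ l, Set.range ((G ◁ j l) ≫ aX.act).left ⊆ Set.range (j l).left := by
    rintro l _ ⟨p, rfl⟩
    rw [hrange]
    refine l.2.2 (x := (G ◁ j l).left p) ?_
    change (snd G X).left ((G ◁ j l).left p) ∈ l.1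
    have e := congrArg (fun w : G ⊗ UO l ⟶ X => w.left p) (whiskerLeft_snd G (j l))
    refine Eq.substr (p := fun z => z ∈ (l.1 : Set X.left)) e ?_
    rw [← hrange]
    exact ⟨_, rfl⟩
  let act : ∀ l, G ⊗ UO l ⟶ UO l := fun l =>
    Over.homMk (IsOpenImmersion.lift (j l).left ((G ◁ j l) ≫ aX.act).left (hr l))
      (by rw [← Over.w (j l), ← Category.assoc, IsOpenImmersion.lift_fac]; exact Over.w ((G ◁ j l) ≫ aX.act))
  have hact : ∀ l, act l ≫ j l = (G ◁ j l) ≫ aX.act := fun l =>
    Over.OverMorphism.ext (IsOpenImmersion.lift_fac _ _ (hr l))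
  let aU : ∀ l, AlgGrp.Action G (UO l) := fun l => (Magnet.MonAct.mk' (act l)
    (fun T x => by
      rw [← cancel_mono (j l), Category.assoc, hact, lift_whiskerLeft_assoc]
      exact Magnet.MonAct.lift_one_act bX _)
    (fun T g h x => by
      rw [← cancel_mono (j l), Category.assoc, Category.assoc, hact, lift_whiskerLeft_assoc, lift_whiskerLeft_assoc,
        Category.assoc, hact, lift_whiskerLeft_assoc]
      exact Magnet.MonAct.lift_mul_act bX g h _)).toAction
  have hj : ∀ l, Magnet.MonAct.IsEquivariant (Magnet.MonAct.ofAction (aU l)) bX (j l) := fun l => hact l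
  haveI haff : ∀ l, IsAffine (UO l).left := fun l => l.2.1
  have hrep := fun l => GrothLib.MagnetKempf.exists_rep i (aU l)
  choose Z jZ e hclosed hev using hrep
  let F := Magnet.MonAct.eqvHom ρ bX
  let post := fun l => Magnet.MonAct.eqvHom.postcomp ρ (j l) (hj l)
  let m : ∀ l, F.obj (op (Z l)) := fun l => (post l).app _ ((e l).homEquiv (𝟙 _))
  have hm : ∀ l {T : B} (h : T ⟶ Z l), F.map h.op (m l) = (post l).app _ ((e l).homEquiv h) := fun l T h => by
    rw [(e l).homEquiv_eq]
    exact (NatTrans.naturality_apply (post l) h.op ((e l).homEquiv (𝟙 _))).symm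
  let V : ∀ (_ : κ) {T : B} (_ : F.obj (op T)), T.left.Opens := fun l T y =>
    ((Magnet.MonAct.eqvHom.evalAt ρ bX o).app (op T) y).left ⁻¹ᵁ l.1
  have hV : ∀ (l : κ) {T : B} (a : F.obj (op T)) {T' : B} (g : T' ⟶ T),
      Set.range g.left ⊆ (V l a : Set T.left) ↔ ∃ h : T' ⟶ Z l, F.map h.op (m l) = F.map g.op a := by
    intro l T a T' g
    have sq := Groth.Agent.S18958.result k M G X (UO l) i o ho hM aX (aU l) (j l) (hj l)
    let u₀ : T ⟶ X := (Magnet.MonAct.eqvHom.evalAt ρ bX o).app (op T) a
    have hnat : (Magnet.MonAct.eqvHom.evalAt ρ bX o).app (op T') (F.map g.op a) = g ≫ u₀ :=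
      NatTrans.naturality_apply (Magnet.MonAct.eqvHom.evalAt ρ bX o) g.op a
    constructor
    · intro hg
      have hr' : Set.range (g ≫ u₀).left ⊆ Set.range (j l).left := by
        rintro _ ⟨p, rfl⟩
        rw [hrange]
        exact hg ⟨p, rfl⟩
      let v : T' ⟶ UO l := Over.homMk (IsOpenImmersion.lift (j l).left (g ≫ u₀).left hr')
        (by rw [← Over.w (j l), ← Category.assoc, IsOpenImmersion.lift_fac]; exact Over.w (g ≫ u₀))
      have hv : v ≫ j l = g ≫ u₀ := Over.OverMorphism.ext (IsOpenImmersion.lift_fac _ _ hr')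
      obtain ⟨y, hy, -⟩ := (Limits.Types.isPullback_iff _ _ _ _).1
        (sq.map ((evaluation _ _).obj (op T'))) |>.2.2 (F.map g.op a) v (hnat.trans hv.symm)
      refine ⟨(e l).homEquiv.symm y, ?_⟩
      rw [hm, Equiv.apply_symm_apply]
      exact hy
    · rintro ⟨h, hh⟩ _ ⟨p, rfl⟩
      rw [hm] at hh
      let v : T' ⟶ UO l :=
        (Magnet.MonAct.eqvHom.evalAt ρ (Magnet.MonAct.ofAction (aU l)) o).app (op T') ((e l).homEquiv h)
      have hv : v ≫ j l = g ≫ u₀ := by
        rw [← hnat, ← hh]
        exact Category.assoc _ _ _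
      have hp : (v ≫ j l).left p = (g ≫ u₀).left p := by rw [hv]
      change u₀.left (g.left p) ∈ (l.1 : Set X.left)
      rw [← hrange]
      exact ⟨v.left p, hp⟩
  refine GrothLib.RepOver.exists_representableBy ?_ Z m V hV ?_ ?_
  · exact GrothLib.MagnetSheaf.isSheaf_eqvHom _ (GrothLib.MagnetSheaf.isSheaf_yoneda_over _ X) _ _
  · intro l T h h' heq
    rw [hm, hm] at heq
    exact (e l).homEquiv.injective (Subtype.ext ((cancel_mono (j l)).1 (congrArg Subtype.val heq)))
  · intro T a z
    let x : T ⟶ X := (Magnet.MonAct.eqvHom.evalAt ρ bX o).app (op T) a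
    have hx : ∀ (T' : B) (t : T' ⟶ T) (g : T' ⟶ G), lift g (t ≫ x) ≫ bX.act = t ≫ x := by
      intro T' t g
      have h := (Magnet.MonAct.mem_eqvHom_iff a.1).1 a.2 T' g (toUnit T' ≫ o) t
      rw [Magnet.MonAct.lift_restrict_act, Magnet.MonAct.lift_regular_act, (ho T' (g ≫ i)).1] at h
      have e1 : t ≫ x = lift (toUnit T' ≫ o) t ≫ a.1 := by
        change t ≫ lift (toUnit T ≫ o) (𝟙 T) ≫ a.1 = _
        rw [comp_lift_assoc, Category.comp_id, ← Category.assoc t, toUnit_unique (t ≫ toUnit T) (toUnit T')]
      rw [e1]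
      exact h.symm
    have hz : z ∈ ⨆ (U : X.left.Opens) (_ : IsAffineOpen U ∧
        (CartesianMonoidalCategory.snd G X).left ⁻¹ᵁ U ≤ aX.act.left ⁻¹ᵁ U), x.left ⁻¹ᵁ U := by
      rw [hcov T ⟨x, hx⟩]
      trivial
    simp only [TopologicalSpace.Opens.mem_iSup] at hz
    obtain ⟨U, hU, hzU⟩ := hz
    exact ⟨⟨U, hU⟩, hzU⟩

end Groth.Agent.S18964
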