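import Groth.Statements.S18965
import Groth.Agent.Lib.Hilb20.Slope

set_option autoImplicit false
open CategoryTheory CategoryTheory.Limits AlgebraicGeometry Polynomial
universe u
open ShStab

namespace Groth.Agent.S18965

/-- Let k be an algebraically closed field of characteristic zero, X a smooth projective integral
variety of dimension n ≥ 1 over k polarised by an ample invertible sheaf L, and F, G torsion-free
coherent O_X-modules (pure of dimension n) which are slope-semistable with respect to L. If μ_L(G) <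
μ_L(F) then Hom(F, G) = 0. Slopes are compared through the quantity α_(n−1)/α_n of the Hilbert
polynomials with respect to L, which on a fixed polarised X is an increasing affine function of the
slope det · L^(n−1)/rank. -/
theorem result (k : Type u) [Field k] [IsAlgClosed k] [CharZero k]
    (X : Scheme.{u}) [X.Over (Spec (CommRingCat.of k))] [IsIntegral X]
    [IsProper (X ↘ Spec (CommRingCat.of k))] [Smooth (X ↘ Spec (CommRingCat.of k))]
    (n : ℕ) (hn : 1 ≤ n) (hX : topologicalKrullDim X = (n : WithBot ℕ∞))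
    (L : X.Modules) (hLi : PicF.IsInvertible L) (hL : CohB1.IsAmple L)
    (F G : X.Modules) (hFt : ShStab.IsPure X F n) (hGt : ShStab.IsPure X G n)
    (hF : ShStab.IsMuSemistable k X L F n) (hG : ShStab.IsMuSemistable k X L G n)
    (pF pG : ℚ[X]) (hpF : ShStab.IsHilbPoly k X L F pF) (hpG : ShStab.IsHilbPoly k X L G pG)
    (hlt : StabCat.hatSlope n pG < StabCat.hatSlope n pF) (φ : F ⟶ G) : φ = 0 := by
  by_contra hφ
  have hI := GrothLib.Hilb20.isCoh_image (k := k) φ hF.1 hG.1
  obtain ⟨pI, hpI⟩ := GrothLib.Hilb20.exists_isHilbPoly_sub (k := k) hL hGt (Abelian.image.ι φ) hI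
  have hI0 := GrothLib.Hilb20.image_not_isZero hφ
  have aI := GrothLib.Hilb20.alpha_pos_of_pure hL hGt (Abelian.image.ι φ) hI hI0 hpI
  have aF := GrothLib.Hilb20.alpha_pos_self hL hF.1 hF.2.1 hFt hpF
  haveI := GrothLib.Euler.isNoetherian_of_proper (X := X) k
  obtain ⟨w, hS⟩ := GrothLib.QCoh.shortExact_kernel_image φ
  have hK := GrothLib.QCoh.isCoh_kernel φ hF.1 hG.1
  obtain ⟨pK, hpK⟩ := GrothLib.Hilb20.exists_isHilbPoly_sub (k := k) hL hFt (kernel.ι φ) hK
  have e : pF = pK + pI := GrothLib.Hilb20.eq_add_of_shortExact hL.1 hS hK hF.1 hI hpK hpF hpI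
  have h1 : StabCat.hatSlope n pF ≤ StabCat.hatSlope n pI := by
    by_cases hz : IsZero (kernel φ)
    · rw [e, GrothLib.Hilb20.isHilbPoly_unique hpK (GrothLib.Hilb20.isHilbPoly_of_isZero hz), zero_add]
    · have aK := GrothLib.Hilb20.alpha_pos_of_pure hL hFt (kernel.ι φ) hK hz hpK
      have h := hF.2.2.2.2 (kernel φ) (kernel.ι φ) inferInstance hK pK pF hpK hpF aK
        (by rw [e, GrothLib.Hilb20.alpha_add]; linarith)
      rw [StabCat.hatSlope, StabCat.hatSlope, e, GrothLib.Hilb20.alpha_add, GrothLib.Hilb20.alpha_add, div_le_div_iff₀ aK (by linarith)] at h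
      rw [StabCat.hatSlope, StabCat.hatSlope, e, GrothLib.Hilb20.alpha_add, GrothLib.Hilb20.alpha_add, div_le_div_iff₀ (by linarith) aI]
      nlinarith [h]
  have h2 : StabCat.hatSlope n pI ≤ StabCat.hatSlope n pG := by
    have hd := GrothLib.Hilb20.isPure_self_dimLT hG.1 hGt
    rcases lt_or_eq_of_le (GrothLib.Hilb20.alpha_le_of_mono hL hI hG.1 hd (Abelian.image.ι φ) hpI hpG) with hlt' | heq
    · exact hG.2.2.2.2 _ (Abelian.image.ι φ) inferInstance hI pI pG hpI hpG aI hlt'
    · rw [StabCat.hatSlope, StabCat.hatSlope, ← heq]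
      exact div_le_div_of_nonneg_right (GrothLib.Hilb20.alpha_pred_le_of_alpha_eq hn hL hI hG.1 hd (Abelian.image.ι φ) hpI hpG heq) aI.le
  exact lt_irrefl _ (hlt.trans_le (h1.trans h2))

end Groth.Agent.S18965
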