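import Groth.Statements.S18967
import Groth.Agent.Lib.Hilb20.Mu
import Groth.Agent.Lib.K0Sub.Killed
import Groth.Agent.Lib.Dim.QuasiFinite

set_option autoImplicit false
set_option linter.style.haveILetI false
open CategoryTheory CategoryTheory.Limits AlgebraicGeometry Polynomial
universe u
open ShStab

namespace Groth.Agent.S18967

/-- Let k be an algebraically closed field of characteristic zero, X a smooth projective integral
variety of dimension n ≥ 1 over k polarised by an ample invertible sheaf L, and 0 → F → H → G → 0 a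
short exact sequence of O_X-modules with F and G torsion-free coherent (pure of dimension n) and
slope-semistable with respect to L of the same slope μ. Then H is slope-semistable of slope μ; in
particular this applies to H = F ⊕ G. Slopes are compared through the quantity α_(n−1)/α_n of the
Hilbert polynomials with respect to L, an increasing affine function of the slope det ·
L^(n−1)/rank. -/
theorem result (k : Type u) [Field k] [IsAlgClosed k] [CharZero k]
    (X : Scheme.{u}) [X.Over (Spec (CommRingCat.of k))] [IsIntegral X]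
    [IsProper (X ↘ Spec (CommRingCat.of k))] [Smooth (X ↘ Spec (CommRingCat.of k))]
    (n : ℕ) (hn : 1 ≤ n) (hX : topologicalKrullDim X = (n : WithBot ℕ∞))
    (L : X.Modules) (hLi : PicF.IsInvertible L) (hL : CohB1.IsAmple L)
    (T : ShortComplex X.Modules) (hT : T.ShortExact)
    (hFt : ShStab.IsPure X T.X₁ n) (hGt : ShStab.IsPure X T.X₃ n)
    (hF : ShStab.IsMuSemistable k X L T.X₁ n) (hG : ShStab.IsMuSemistable k X L T.X₃ n)
    (pF pG : ℚ[X]) (hpF : ShStab.IsHilbPoly k X L T.X₁ pF) (hpG : ShStab.IsHilbPoly k X L T.X₃ pG)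
    (hμ : StabCat.hatSlope n pF = StabCat.hatSlope n pG) :
    ShStab.IsMuSemistable k X L T.X₂ n ∧
      ∀ pH : ℚ[X], ShStab.IsHilbPoly k X L T.X₂ pH → StabCat.hatSlope n pH = StabCat.hatSlope n pF := by
  classical
  haveI := GrothLib.Euler.isNoetherian_of_proper (X := X) k
  haveI := hT.mono_f
  have hH : Coh.IsCoh T.X₂ := GrothLib.K0Sub.isCoh_ext T hT hF.1 hG.1
  letI := GrothLib.Hilb20.cohSubLattice hH
  have hd : GrothLib.Snapper.DimLT (CohB1.support T.X₂) (n + 1) :=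
    (GrothLib.Snapper.dimLT_of_dim_le ((GrothLib.Dim.topologicalKrullDim_univ X).trans hX).le).mono
      (Set.subset_univ _)
  let D := GrothLib.Hilb20.muData k hn hL hH hd
  let f : GrothLib.Hilb20.CohSub T.X₂ :=
    ⟨Subobject.mk T.f, GrothLib.QCoh.isCoh_of_iso (Subobject.underlyingIso T.f).symm hF.1⟩
  have e₁ : cokernel (Subobject.ofLE (GrothLib.Hilb20.botC T.X₂).1 f.1 bot_le) ≅ T.X₁ :=
    GrothLib.Hilb20.quotBot f.1 ≪≫ Subobject.underlyingIso T.f
  let ι : ((⊤ : Subobject T.X₂) : X.Modules) ≅ T.X₂ := asIso (⊤ : Subobject T.X₂).arrow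
  have e₂ : cokernel (Subobject.ofLE f.1 (GrothLib.Hilb20.topC hH).1 le_top) ≅ T.X₃ :=
    cokernel.mapIso _ T.f (Subobject.underlyingIso T.f) ι
        (by simp only [ι, asIso_hom]; rw [Subobject.underlyingIso_hom_comp_eq_mk]; exact Subobject.ofLE_arrow _) ≪≫
      ((cokernelIsCokernel T.f).coconePointUniqueUpToIso hT.gIsCokernel)
  have h1 : D.SS (GrothLib.Hilb20.botC T.X₂) f := (GrothLib.Hilb20.muSS_iff k hn hL hH hd _ _ bot_le).2
    ⟨GrothLib.Hilb20.isPure_of_iso e₁.symm hFt, GrothLib.Hilb20.isMuSemistable_of_iso k e₁.symm hF⟩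
  have h2 : D.SS f (GrothLib.Hilb20.topC hH) := (GrothLib.Hilb20.muSS_iff k hn hL hH hd _ _ le_top).2
    ⟨GrothLib.Hilb20.isPure_of_iso e₂.symm hGt, GrothLib.Hilb20.isMuSemistable_of_iso k e₂.symm hG⟩
  have q1 : pF = GrothLib.Hilb20.hp k L (f.1 : X.Modules) -
      GrothLib.Hilb20.hp k L ((GrothLib.Hilb20.botC T.X₂).1 : X.Modules) :=
    GrothLib.Hilb20.isHilbPoly_unique (GrothLib.Hilb20.isHilbPoly_congr e₁.symm hpF)
      (GrothLib.Hilb20.isHilbPoly_cokernel_ofLE k hL bot_le (GrothLib.Hilb20.botC T.X₂).2 f.2)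
  have q2 : pG = GrothLib.Hilb20.hp k L ((GrothLib.Hilb20.topC hH).1 : X.Modules) -
      GrothLib.Hilb20.hp k L (f.1 : X.Modules) :=
    GrothLib.Hilb20.isHilbPoly_unique (GrothLib.Hilb20.isHilbPoly_congr e₂.symm hpG)
      (GrothLib.Hilb20.isHilbPoly_cokernel_ofLE k hL le_top f.2 (GrothLib.Hilb20.topC hH).2)
  have a1 := GrothLib.Hilb20.alpha_pos_of_ss k hn hL hH hd h1
  have a2 := GrothLib.Hilb20.alpha_pos_of_ss k hn hL hH hd h2
  rw [q1, q2] at hμ
  obtain ⟨hss, heq⟩ := GrothLib.Slope20.SlopeData.SS.ext' h1 h2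
    ((GrothLib.Slope20.SlopeData.eq'_iff D).2
      ⟨(GrothLib.Hilb20.le_iff_hatSlope k hn hL hH hd _ _ _ _ a1 a2).2 hμ.le,
        (GrothLib.Hilb20.le_iff_hatSlope k hn hL hH hd _ _ _ _ a2 a1).2 hμ.ge⟩)
  have a3 := GrothLib.Hilb20.alpha_pos_of_ss k hn hL hH hd hss
  refine ⟨GrothLib.Hilb20.isMuSemistable_of_iso k (GrothLib.Hilb20.quotBotTop T.X₂)
    ((GrothLib.Hilb20.muSS_iff k hn hL hH hd _ _ bot_le).1 hss).2, fun pH hpH => ?_⟩
  obtain ⟨l1, l2⟩ := (GrothLib.Slope20.SlopeData.eq'_iff D).1 heq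
  have m1 := (GrothLib.Hilb20.le_iff_hatSlope k hn hL hH hd _ _ _ _ a1 a3).1 l1
  have m2 := (GrothLib.Hilb20.le_iff_hatSlope k hn hL hH hd _ _ _ _ a3 a1).1 l2
  rw [GrothLib.Hilb20.isHilbPoly_unique hpH (GrothLib.Hilb20.isHilbPoly_congr (GrothLib.Hilb20.quotBotTop T.X₂)
    (GrothLib.Hilb20.isHilbPoly_cokernel_ofLE k hL bot_le (GrothLib.Hilb20.botC T.X₂).2 (GrothLib.Hilb20.topC hH).2)), q1]
  exact le_antisymm m2 m1

end Groth.Agent.S18967
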