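import Groth.Statements.S18973
import Groth.Agent.Lib.Hilb20.EllData
import Groth.Agent.Lib.Hilb20.GiesekerRun

set_option autoImplicit false
set_option linter.style.haveILetI false
open CategoryTheory CategoryTheory.Limits AlgebraicGeometry Polynomial
universe u
open ShStab

namespace Groth.Agent.S18973

/-- Let k be a field and X an integral scheme, smooth and proper over k, with a closed immersion ι into
projective N-space over k compatible with the structure maps, polarised by the ample O_X(1) =
ι^*O(1); let 1 ≤ ℓ ≤ d. Let E be a nonzero coherent O_X-module, pure of dimension d, with an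
ℓ-Harder–Narasimhan filtration 0 = E_0 ⊂ E_1 ⊂ ⋯ ⊂ E_m = E (factors ℓ-semistable of dimension d,
reduced ℓ-truncated Hilbert polynomials of consecutive factors strictly decreasing), and let F =
E/E_(m−1) be its last factor, the minimal ℓ-destabilising quotient of E. If E → G is another
quotient with G nonzero, coherent and pure of dimension d, such that the Hilbert polynomials of F
and G have the same multiplicity α_d and the same reduced ℓ-truncation p_ℓ, then G and F are
isomorphic as quotients of E: there is an isomorphism F ≅ G carrying the quotient map of F to that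
of G. Here a sheaf is ℓ-semistable of dimension d when it is coherent, nonzero, pure of dimension d,
and p_ℓ(F') ≤ p_ℓ for every coherent submodule F' of multiplicity strictly between 0 and its own,
p_ℓ denoting the reduced truncation of the Hilbert polynomial (with respect to O_X(1)) to the
degrees d − ℓ, …, d. -/
theorem result (k : Type u) [Field k]
    (X : Scheme.{u}) [X.Over (Spec (CommRingCat.of k))] [IsIntegral X]
    [Smooth (X ↘ Spec (CommRingCat.of k))] [IsProper (X ↘ Spec (CommRingCat.of k))]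
    (N : ℕ) (ι : X ⟶ CohB1.ProjSpace N k) [IsClosedImmersion ι]
    (hι : ι ≫ CohB1.ProjSpace.toSpec N k = X ↘ Spec (CommRingCat.of k))
    (hL : CohB1.IsAmple ((Scheme.Modules.pullback ι).obj (Twist.twistProjSpace N k 1)))
    (d ℓ : ℕ) (hℓ : 1 ≤ ℓ) (hℓd : ℓ ≤ d)
    (E : X.Modules) (hE : Coh.IsCoh E) (h0 : ¬ IsZero E) (hp : ShStab.IsPure X E d)
    (s : LTSeries (Subobject E))
    (hs : StabCat.IsHNWith (fun G => ShStab.IsEllSemistable k X ((Scheme.Modules.pullback ι).obj (Twist.twistProjSpace N k 1)) G d ℓ)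
      (fun G P => ∃ Q : Polynomial ℚ, ShStab.IsHilbPoly k X ((Scheme.Modules.pullback ι).obj (Twist.twistProjSpace N k 1)) G Q ∧ P = StabCat.topPart ℓ d Q) d E s)
    (G : X.Modules) (q : E ⟶ G) [Epi q] (hG : Coh.IsCoh G) (hG0 : ¬ IsZero G) (hGp : ShStab.IsPure X G d)
    (pF pG : ℚ[X]) (hpF : ShStab.IsHilbPoly k X ((Scheme.Modules.pullback ι).obj (Twist.twistProjSpace N k 1)) (cokernel s.eraseLast.last.arrow) pF)
    (hpG : ShStab.IsHilbPoly k X ((Scheme.Modules.pullback ι).obj (Twist.twistProjSpace N k 1)) G pG)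
    (hα : StabCat.alpha d pF = StabCat.alpha d pG)
    (hred : StabCat.RedEq d (StabCat.topPart ℓ d pF) (StabCat.topPart ℓ d pG)) :
    ∃ φ : (cokernel s.eraseLast.last.arrow) ≅ G, cokernel.π s.eraseLast.last.arrow ≫ φ.hom = q := by
  classical
  haveI := GrothLib.Euler.isNoetherian_of_proper (X := X) k
  let L := (Scheme.Modules.pullback ι).obj (Twist.twistProjSpace N k 1)
  letI := GrothLib.Hilb20.cohSubLattice hE
  have hd := GrothLib.Hilb20.isPure_self_dimLT hE hp
  have hc := GrothLib.Hilb20.isCoh_chain hE s hs.2.1 fun i => (hs.2.2.1 i).1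
  let t := GrothLib.Hilb20.chainLift s hc
  let D := GrothLib.Hilb20.ellData k ℓ hL hE hd
  have hn : 0 < s.length := by
    by_contra hn
    have h01 : s.head = s.last := congrArg s.toFun (Fin.ext (by simp; omega))
    rw [hs.1, hs.2.1] at h01
    exact h0 (((isZero_zero _).of_iso Subobject.botCoeIsoZero).of_iso
      ((asIso (⊤ : Subobject E).arrow).symm ≪≫ eqToIso (congrArg (fun S : Subobject E => (S : X.Modules)) h01.symm)))
  let i : Fin s.length := ⟨s.length - 1, by omega⟩
  have hi : i.val + 1 = s.length := by simp [i]; omega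
  have hHN : D.IsHN (GrothLib.Hilb20.botC E) (GrothLib.Hilb20.topC hE) t :=
    ⟨Subtype.ext hs.1, Subtype.ext hs.2.1,
      fun a => GrothLib.Hilb20.ss_ell k ℓ hL hE hd _ _ (le_of_lt (s.step a)) (hs.2.2.1 a),
      fun a b hab => (GrothLib.Hilb20.lt_iff_ell k ℓ hL hE hd _ _ _ _).2
        (hs.2.2.2 a b hab _ _ ⟨_, GrothLib.Hilb20.isHilbPoly_factor k hL t a, rfl⟩
          ⟨_, GrothLib.Hilb20.isHilbPoly_factor k hL t b, rfl⟩)⟩
  have hlast : t i.succ = GrothLib.Hilb20.topC hE :=
    Subtype.ext ((congrArg s.toFun (Fin.ext (by simp [Fin.val_last, i]; omega))).trans hs.2.1)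
  let c : GrothLib.Hilb20.CohSub E := ⟨kernelSubobject q,
    GrothLib.QCoh.isCoh_of_iso (kernelSubobjectIso q).symm (GrothLib.QCoh.isCoh_kernel q hE hG)⟩
  have quot : ∀ S : Subobject E, cokernel (Subobject.ofLE S ⊤ le_top) ≅ cokernel S.arrow := fun S =>
    cokernel.mapIso _ _ (Iso.refl _) (asIso (⊤ : Subobject E).arrow)
      (by simp only [asIso_hom, Iso.refl_hom, Category.id_comp]; exact Subobject.ofLE_arrow _)
  let eG : cokernel c.1.arrow ≅ G := cokernel.mapIso _ (kernel.ι q) (kernelSubobjectIso q) (Iso.refl _)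
      (by simp only [Iso.refl_hom, Category.comp_id]; exact (kernelSubobject_arrow q).symm) ≪≫
    ((cokernelIsCokernel (kernel.ι q)).coconePointUniqueUpToIso
      (Abelian.epiIsCokernelOfKernel (KernelFork.ofι (kernel.ι q) (kernel.condition q)) (kernelIsKernel q)))
  have qG := GrothLib.Hilb20.isHilbPoly_unique hpG (GrothLib.Hilb20.isHilbPoly_congr (quot c.1 ≪≫ eG)
    (GrothLib.Hilb20.isHilbPoly_cokernel_ofLE k hL le_top c.2 (GrothLib.Hilb20.topC hE).2))
  have qF := GrothLib.Hilb20.isHilbPoly_unique hpF (GrothLib.Hilb20.isHilbPoly_congr (quot _)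
    (GrothLib.Hilb20.isHilbPoly_cokernel_ofLE k hL le_top (t i.castSucc).2 (GrothLib.Hilb20.topC hE).2))
  have hpure : D.Pure c (GrothLib.Hilb20.topC hE) := (GrothLib.Hilb20.pure_iff k hL hE hd c _ le_top).2
    (GrothLib.Hilb20.isPure_of_iso (quot c.1 ≪≫ eG).symm hGp)
  have hr : D.r c (GrothLib.Hilb20.topC hE) = D.r (t i.castSucc) (GrothLib.Hilb20.topC hE) := by
    have e1 := GrothLib.Hilb20.cast_r_ell k ℓ hL hE hd c (GrothLib.Hilb20.topC hE)
    have e2 := GrothLib.Hilb20.cast_r_ell k ℓ hL hE hd (t i.castSucc) (GrothLib.Hilb20.topC hE)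
    rw [qF, qG] at hα
    exact Int.cast_injective (α := ℚ) (e1.trans (hα.symm.trans e2.symm))
  have heq : D.Eq' c (GrothLib.Hilb20.topC hE) (t i.castSucc) (GrothLib.Hilb20.topC hE) := by
    rw [GrothLib.Hilb20.eq'_iff_ell]
    rw [qF, qG] at hred
    exact hred.symm
  have hcp := GrothLib.Slope20.SlopeData.IsHN.eq_of_last D hHN (i := i) hi
    (GrothLib.Hilb20.botC_le c) (GrothLib.Hilb20.le_topC hE c) hpure hr heq
  have e : c.1 = s.eraseLast.last := congrArg Subtype.val hcp
  have heG : cokernel.π c.1.arrow ≫ eG.hom = q := by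
    simp only [eG, cokernel.mapIso, Iso.trans_hom, cokernel.π_desc_assoc, Iso.refl_hom, Category.id_comp]
    exact IsColimit.comp_coconePointUniqueUpToIso_hom (cokernelIsCokernel (kernel.ι q)) _ WalkingParallelPair.one
  have key : ∀ (S : Subobject E), c.1 = S → ∃ φ : cokernel S.arrow ≅ G, cokernel.π S.arrow ≫ φ.hom = q := by
    rintro S rfl
    exact ⟨eG, heG⟩
  exact key _ e

end Groth.Agent.S18973
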