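import Groth.Statements.S18974
import Mathlib


set_option autoImplicit false
universe u
open CAlg

namespace Groth.Agent.S18974

variable {A : Type u} [CommRing A] [Algebra ℚ A] (D : Derivation ℚ A A)

theorem pow_succ_D (n : ℕ) (x : A) :
    ((D : A →ₗ[ℚ] A) ^ (n + 1)) x = D (((D : A →ₗ[ℚ] A) ^ n) x) := by
  rw [pow_succ']
  rfl

theorem pow_succ_D' (n : ℕ) (x : A) :
    ((D : A →ₗ[ℚ] A) ^ (n + 1)) x = ((D : A →ₗ[ℚ] A) ^ n) (D x) := by
  rw [pow_succ]
  rfl

theorem pow_zero_of_le {x : A} {N n : ℕ} (h : N ≤ n) (hx : ((D : A →ₗ[ℚ] A) ^ N) x = 0) :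
    ((D : A →ₗ[ℚ] A) ^ n) x = 0 := by
  induction h with
  | refl => exact hx
  | step _ ih => rw [pow_succ_D, ih, map_zero]

theorem pow_mul_D (n : ℕ) (x y : A) : ((D : A →ₗ[ℚ] A) ^ n) (x * y) =
    ∑ ij ∈ Finset.HasAntidiagonal.antidiagonal n,
      n.choose ij.1 • (((D : A →ₗ[ℚ] A) ^ ij.1) x * ((D : A →ₗ[ℚ] A) ^ ij.2) y) := by
  induction n with
  | zero => simp
  | succ n ih =>
    rw [pow_succ_D, ih, map_sum, Finset.sum_antidiagonal_choose_succ_nsmul
      (fun i j => ((D : A →ₗ[ℚ] A) ^ i) x * ((D : A →ₗ[ℚ] A) ^ j) y), ← Finset.sum_add_distrib]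
    refine Finset.sum_congr rfl fun ij hij => ?_
    rw [Nat.choose_symm_of_eq_add (Finset.HasAntidiagonal.mem_antidiagonal.1 hij).symm, map_nsmul, Derivation.leibniz,
      smul_eq_mul, smul_eq_mul, pow_succ_D, pow_succ_D, ← smul_add]
    congr 1
    ring

theorem inv_factorial_smul_mul {M : Type u} [AddCommGroup M] [Module ℚ M] {n i j : ℕ} (h : i + j = n) (z : M) :
    ((n.factorial : ℚ)⁻¹) • (n.choose i • z) = (((i.factorial : ℚ)⁻¹) * ((j.factorial : ℚ)⁻¹)) • z := by
  subst h
  rw [← Nat.cast_smul_eq_nsmul ℚ, smul_smul, Nat.choose_eq_factorial_div_factorial (Nat.le_add_right i j),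
    Nat.add_sub_cancel_left, Nat.cast_div (Nat.factorial_mul_factorial_dvd_factorial_add i j)
      (by positivity)]
  congr 1
  push_cast
  field_simp

variable (hnil : ∀ x : A, ∃ n : ℕ, ((D : A →ₗ[ℚ] A) ^ n) x = 0) (I : Ideal A)

open Classical in
/-- The series of the derivation, as a polynomial. -/
noncomputable def taylorFun (x : A) : Polynomial (A ⧸ I) :=
  ∑ n ∈ Finset.range (Nat.find (hnil x)),
    Polynomial.monomial n ((n.factorial : ℚ)⁻¹ • Ideal.Quotient.mk I (((D : A →ₗ[ℚ] A) ^ n) x))

theorem coeff_taylorFun (x : A) (m : ℕ) : (taylorFun D hnil I x).coeff m =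
    (m.factorial : ℚ)⁻¹ • Ideal.Quotient.mk I (((D : A →ₗ[ℚ] A) ^ m) x) := by
  classical
  simp only [taylorFun, Polynomial.finsetSum_coeff, Polynomial.coeff_monomial]
  rw [Finset.sum_eq_single m (fun n _ hn => if_neg hn) (fun hm => ?_), if_pos rfl]
  rw [if_pos rfl, pow_zero_of_le D (Nat.le_of_not_lt (by simpa using hm)) (Nat.find_spec (hnil x)),
    map_zero, smul_zero]

/-- The series of the derivation, as a ring homomorphism. -/
noncomputable def taylorQ : A →+* Polynomial (A ⧸ I) where
  toFun := taylorFun D hnil I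
  map_zero' := Polynomial.ext fun m => by simp [coeff_taylorFun]
  map_one' := Polynomial.ext fun m => by
    rw [coeff_taylorFun]
    cases m with
    | zero => simp
    | succ m => rw [pow_succ_D', Derivation.map_one_eq_zero, map_zero, map_zero, smul_zero,
        Polynomial.coeff_one, if_neg (Nat.succ_ne_zero m)]
  map_add' x y := Polynomial.ext fun m => by simp [coeff_taylorFun, smul_add]
  map_mul' x y := Polynomial.ext fun m => by
    rw [coeff_taylorFun, Polynomial.coeff_mul, pow_mul_D, map_sum, Finset.smul_sum]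
    refine Finset.sum_congr rfl fun ij hij => ?_
    rw [coeff_taylorFun, coeff_taylorFun, map_nsmul, map_mul,
      inv_factorial_smul_mul (Finset.HasAntidiagonal.mem_antidiagonal.1 hij), smul_mul_smul_comm]

theorem coeff_taylorQ (x : A) (m : ℕ) : (taylorQ D hnil I x).coeff m =
    (m.factorial : ℚ)⁻¹ • Ideal.Quotient.mk I (((D : A →ₗ[ℚ] A) ^ m) x) :=
  coeff_taylorFun D hnil I x m

theorem taylorQ_deriv (x : A) : taylorQ D hnil I (D x) = Polynomial.derivative (taylorQ D hnil I x) := by
  ext m
  rw [Polynomial.coeff_derivative, coeff_taylorQ, coeff_taylorQ, ← pow_succ_D',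
    mul_comm, ← Nat.cast_succ, ← nsmul_eq_mul, ← Nat.cast_smul_eq_nsmul ℚ, smul_smul]
  congr 1
  rw [Nat.factorial_succ]
  push_cast
  field_simp

variable (a : A) (ha : D a = 1)

include ha in
theorem taylorQ_self : taylorQ D hnil (Ideal.span {a}) a = Polynomial.X := by
  ext m
  rw [coeff_taylorQ, Polynomial.coeff_X]
  match m with
  | 0 =>
    rw [if_neg (by omega), pow_zero, Module.End.one_apply,
      Ideal.Quotient.eq_zero_iff_mem.2 (Ideal.subset_span rfl : a ∈ Ideal.span ({a} : Set A)), smul_zero]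
  | 1 =>
    rw [if_pos rfl, pow_one]
    show _ • Ideal.Quotient.mk _ (D a) = _
    simp [ha]
  | m + 2 =>
    rw [if_neg (by omega), pow_succ_D', ha, pow_succ_D', Derivation.map_one_eq_zero, map_zero, map_zero,
      smul_zero]

include ha in
theorem D_proj (x : A) (N : ℕ) (hN : ((D : A →ₗ[ℚ] A) ^ N) x = 0) :
    D (∑ n ∈ Finset.range N,
      (((-1 : ℚ) ^ n * (n.factorial : ℚ)⁻¹) • ((((D : A →ₗ[ℚ] A) ^ n) x) * a ^ n))) = 0 := by
  let T : ℕ → A := fun n =>
    ((-1 : ℚ) ^ n * (n.factorial : ℚ)⁻¹ * n) • ((((D : A →ₗ[ℚ] A) ^ n) x) * a ^ (n - 1))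
  have key : ∀ n, D ((((-1 : ℚ) ^ n * (n.factorial : ℚ)⁻¹) • ((((D : A →ₗ[ℚ] A) ^ n) x) * a ^ n))) =
      T n - T (n + 1) := by
    intro n
    simp only [T, Nat.add_sub_cancel]
    rw [Derivation.map_smul, Derivation.leibniz, Derivation.leibniz_pow, ha, ← pow_succ_D, smul_eq_mul,
      smul_eq_mul, smul_add, sub_eq_add_neg, ← neg_smul, ← Nat.cast_smul_eq_nsmul ℚ, smul_eq_mul, mul_one,
      Algebra.mul_smul_comm, smul_smul]
    congr 1
    rw [mul_comm (a ^ n)]
    congr 1
    rw [pow_succ, Nat.factorial_succ]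
    push_cast
    field_simp
  rw [map_sum, Finset.sum_congr rfl fun n _ => key n, Finset.sum_range_sub']
  simp [T, hN]

include ha in
theorem taylorQ_proj (x : A) (N : ℕ) (hN : ((D : A →ₗ[ℚ] A) ^ N) x = 0) :
    taylorQ D hnil (Ideal.span {a}) (∑ n ∈ Finset.range N,
      (((-1 : ℚ) ^ n * (n.factorial : ℚ)⁻¹) • ((((D : A →ₗ[ℚ] A) ^ n) x) * a ^ n))) =
      Polynomial.C (Ideal.Quotient.mk (Ideal.span {a}) x) := by
  ext m
  rw [coeff_taylorQ, Polynomial.coeff_C]
  cases m with
  | succ m => rw [pow_succ_D', D_proj D a ha x N hN, map_zero, map_zero, smul_zero, if_neg (Nat.succ_ne_zero m)]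
  | zero =>
    rw [if_pos rfl, pow_zero, Module.End.one_apply, Nat.factorial_zero, Nat.cast_one, inv_one, one_smul]
    cases N with
    | zero => rw [pow_zero, Module.End.one_apply] at hN; simp [hN]
    | succ N =>
      rw [Finset.sum_range_succ', map_add, pow_zero, pow_zero, pow_zero, Module.End.one_apply, mul_one,
        Nat.factorial_zero, Nat.cast_one, inv_one, one_mul, one_smul]
      refine add_eq_right.2 (Ideal.Quotient.eq_zero_iff_mem.2 (Ideal.sum_mem _ fun n _ => ?_))
      rw [← Algebra.smul_mul_assoc, pow_succ a n, ← mul_assoc]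
      exact Ideal.mul_mem_left _ _ (Ideal.subset_span rfl)

include hnil ha in
theorem eq_zero_of_relation {y : A} (hy : y + a * D y = 0) : y = 0 := by
  have rel : ∀ n : ℕ, (n + 1) • ((D : A →ₗ[ℚ] A) ^ n) y + a * ((D : A →ₗ[ℚ] A) ^ (n + 1)) y = 0 := by
    intro n
    induction n with
    | zero => simpa using hy
    | succ n ih =>
      have h := congrArg D ih
      rw [map_add, map_nsmul, Derivation.leibniz, ha, map_zero, smul_eq_mul, smul_eq_mul, mul_one,
        ← pow_succ_D, ← pow_succ_D] at h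
      rw [succ_nsmul, ← h]
      abel
  obtain ⟨M, hM⟩ := hnil y
  induction M with
  | zero => simpa using hM
  | succ M ih =>
    refine ih ?_
    have h := rel M
    rw [hM, mul_zero, add_zero, ← Nat.cast_smul_eq_nsmul ℚ] at h
    exact (smul_eq_zero.1 h).resolve_left (by positivity)

include ha in
theorem taylorQ_bijective : Function.Bijective (taylorQ D hnil (Ideal.span {a})) := by
  constructor
  · rw [injective_iff_map_eq_zero]
    suffices h : ∀ (M : ℕ) (x : A), ((D : A →ₗ[ℚ] A) ^ M) x = 0 →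
        taylorQ D hnil (Ideal.span {a}) x = 0 → x = 0 by
      intro x hx
      obtain ⟨M, hM⟩ := hnil x
      exact h M x hM hx
    intro M
    induction M with
    | zero => intro x hx _; simpa using hx
    | succ M ih =>
      intro x hM hx
      have hDx : D x = 0 := ih (D x) (by rw [← pow_succ_D']; exact hM)
        (by rw [taylorQ_deriv, hx, map_zero])
      have h0 := congrArg (fun p => Polynomial.coeff p 0) hx
      simp only [coeff_taylorQ, Polynomial.coeff_zero, Nat.factorial_zero, Nat.cast_one, inv_one, one_smul,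
        pow_zero, Module.End.one_apply] at h0
      obtain ⟨y, rfl⟩ := Ideal.mem_span_singleton'.1 (Ideal.Quotient.eq_zero_iff_mem.1 h0)
      rw [Derivation.leibniz, ha, smul_eq_mul, smul_eq_mul, mul_one] at hDx
      rw [eq_zero_of_relation D hnil a ha hDx, zero_mul]
  · intro p
    induction p using Polynomial.induction_on' with
    | add p q hp hq =>
      obtain ⟨u, rfl⟩ := hp
      obtain ⟨v, rfl⟩ := hq
      exact ⟨u + v, map_add _ u v⟩
    | monomial n c =>
      obtain ⟨x, rfl⟩ := Ideal.Quotient.mk_surjective c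
      obtain ⟨N, hN⟩ := hnil x
      exact ⟨(∑ i ∈ Finset.range N,
        (((-1 : ℚ) ^ i * (i.factorial : ℚ)⁻¹) • ((((D : A →ₗ[ℚ] A) ^ i) x) * a ^ i))) * a ^ n, by rw [map_mul, map_pow, taylorQ_proj D hnil a ha x N hN, taylorQ_self D hnil a ha,
        Polynomial.C_mul_X_pow_eq_monomial]⟩


/-- Let A be a commutative algebra over the rationals, D a locally nilpotent derivation of A and a an
element with D a = 1; write A' for the quotient of A by the ideal generated by a. Then there is a
ring isomorphism from A onto the polynomial ring A'[Y] which sends every x to the (finite) sum over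
n of (1/n!) (class of D^n x) Y^n; its inverse sends Y to a and the constant polynomial on the class
of x to the sum over n of ((-1)^n/n!) (D^n x) a^n, and under it D corresponds to the derivative
d/dY. (The source says only that A is a ring, in a setting over a field of characteristic zero; the
rational coefficients 1/n! require an algebra over the rationals, which is the hypothesis taken
here. Both sums are written over any range beyond which the iterates of D vanish at x.) -/
theorem result
    (A : Type u) [CommRing A] [Algebra ℚ A] (D : Derivation ℚ A A)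
    (hnil : ∀ x : A, ∃ n : ℕ, ((D : A →ₗ[ℚ] A) ^ n) x = 0) (a : A) (ha : D a = 1) :
    ∃ χ : A ≃+* Polynomial (A ⧸ Ideal.span ({a} : Set A)),
      (∀ (x : A) (N : ℕ), ((D : A →ₗ[ℚ] A) ^ N) x = 0 →
        χ x = ∑ n ∈ Finset.range N,
          ((n.factorial : ℚ)⁻¹ • Polynomial.C (Ideal.Quotient.mk (Ideal.span ({a} : Set A)) (((D : A →ₗ[ℚ] A) ^ n) x))) *
            Polynomial.X ^ n) ∧
      χ.symm Polynomial.X = a ∧
      (∀ (x : A) (N : ℕ), ((D : A →ₗ[ℚ] A) ^ N) x = 0 →
        χ.symm (Polynomial.C (Ideal.Quotient.mk (Ideal.span ({a} : Set A)) x)) =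
          ∑ n ∈ Finset.range N, (((-1 : ℚ) ^ n * (n.factorial : ℚ)⁻¹) • ((((D : A →ₗ[ℚ] A) ^ n) x) * a ^ n))) ∧
      ∀ p : Polynomial (A ⧸ Ideal.span ({a} : Set A)), χ (D (χ.symm p)) = Polynomial.derivative p := by
  classical
  have hb := taylorQ_bijective D hnil a ha
  refine ⟨RingEquiv.ofBijective (taylorQ D hnil (Ideal.span {a})) hb, ?_, ?_, ?_, ?_⟩
  · intro x N hN
    show taylorQ D hnil (Ideal.span {a}) x = _
    ext m
    rw [coeff_taylorQ, Polynomial.finsetSum_coeff]
    simp only [Algebra.smul_mul_assoc, Polynomial.coeff_smul, Polynomial.coeff_C_mul_X_pow]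
    rw [Finset.sum_eq_single m (fun n _ hn => by rw [if_neg hn.symm, smul_zero]) (fun hm => ?_), if_pos rfl]
    rw [if_pos rfl, pow_zero_of_le D (by simpa using hm) hN, map_zero, smul_zero]
  · apply hb.1
    refine ((RingEquiv.ofBijective _ hb).apply_symm_apply _).trans ?_
    exact (taylorQ_self D hnil a ha).symm
  · intro x N hN
    apply hb.1
    refine ((RingEquiv.ofBijective _ hb).apply_symm_apply _).trans ?_
    exact (taylorQ_proj D hnil a ha x N hN).symm
  · intro p
    show taylorQ D hnil (Ideal.span {a}) (D ((RingEquiv.ofBijective _ hb).symm p)) = _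
    rw [taylorQ_deriv]
    congr 1
    exact (RingEquiv.ofBijective _ hb).apply_symm_apply p

end Groth.Agent.S18974
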