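import Groth.Statements.S18977
import Groth.Agent.Lib.CartTorsor.Geom
-- import your own Groth.Agent.* helpers here

set_option autoImplicit false
universe u
open CategoryTheory MonoidalCategory CartesianMonoidalCategory MonObj AlgebraicGeometry
open GIT

namespace Groth.Agent.S18977

/-- Composition of torsors. Over an algebraically closed field k of characteristic zero, let G be an
affine group scheme of finite type over k, N a closed normal subgroup scheme which is the kernel of
a homomorphism q : G → Q, and H a closed subgroup scheme of G which q maps isomorphically onto Q (so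
G is the inner semidirect product N H). Let G act on a k-scheme X and let φ₁ : X → Y be a torsor
over Y under the restricted action of N (the square formed by the N-action, the second projection
and φ₁ twice is cartesian, and φ₁ acquires sections on the members of some fpqc covering family of
Y); let Q act on Y so that φ₁ is equivariant along q, and let φ₂ : Y → Z be a Q-torsor over Z in the
same sense. Then φ₂ ∘ φ₁ is a G-torsor over Z: the square formed by the G-action, the second
projection and φ₂ ∘ φ₁ twice is cartesian, and φ₂ ∘ φ₁ acquires sections fpqc-locally on Z. (The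
induced action of the factor group on Y is taken as a datum together with the equivariance of φ₁;
the source's second assertion, that the composite of trivial torsors is trivial, amounts to
composing sections and is not restated.) -/
theorem result
    (k : Type u) [Field k] [IsAlgClosed k] [CharZero k]
    (G N Q H X Y Z : Over (Spec (CommRingCat.of k))) [GrpObj G] [GrpObj N] [GrpObj Q] [GrpObj H]
    [IsAffine G.left] [LocallyOfFiniteType G.hom]
    (iN : N ⟶ G) [IsMonHom iN] [IsClosedImmersion iN.left] (hnorm : AlgGrp.IsNormalHom iN)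
    (q : G ⟶ Q) [IsMonHom q] (hker : AlgGrp.IsKernel iN q)
    (iH : H ⟶ G) [IsMonHom iH] [IsClosedImmersion iH.left] [IsIso (iH ≫ q)]
    (a : AlgGrp.Action G X) (φ₁ : X ⟶ Y)
    (h₁ : IsPullback (a.restrict iN).act (snd N X) φ₁ φ₁)
    (h₁loc : NonAbH1.IsLocallyTrivialFor Scheme.fpqcPrecoverage (Over.mk φ₁.left : Over Y.left))
    (aY : AlgGrp.Action Q Y) (hequiv : (q ⊗ₘ φ₁) ≫ aY.act = a.act ≫ φ₁)
    (φ₂ : Y ⟶ Z) (h₂ : IsPullback aY.act (snd Q Y) φ₂ φ₂)
    (h₂loc : NonAbH1.IsLocallyTrivialFor Scheme.fpqcPrecoverage (Over.mk φ₂.left : Over Z.left)) :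
    IsPullback a.act (snd G X) (φ₁ ≫ φ₂) (φ₁ ≫ φ₂) ∧
      NonAbH1.IsLocallyTrivialFor Scheme.fpqcPrecoverage (Over.mk (φ₁ ≫ φ₂).left : Over Z.left) := by
  haveI : IsAffineHom G.hom := isAffineHom_of_isAffine _
  haveI : Flat G.hom := GrothLib.DiagGrp.flat_of_field _
  haveI : Flat N.hom := GrothLib.DiagGrp.flat_of_field _
  haveI : Flat Q.hom := GrothLib.DiagGrp.flat_of_field _
  haveI : IsAffineHom N.hom := by rw [← Over.w iN]; infer_instance
  haveI : IsAffineHom Q.hom := by
    haveI : IsIso (iH ≫ q).left := inferInstanceAs (IsIso ((Over.forget _).map (iH ≫ q)))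
    haveI : IsAffineHom H.hom := by rw [← Over.w iH]; infer_instance
    have e : Q.hom = CategoryTheory.inv (iH ≫ q).left ≫ H.hom := by rw [IsIso.eq_inv_comp, Over.w]
    rw [e]; infer_instance
  obtain ⟨_, _, _⟩ := GrothLib.CartTorsor.affine_flat h₁ h₁loc
  obtain ⟨_, _, _⟩ := GrothLib.CartTorsor.affine_flat h₂ h₂loc
  refine ⟨?_, ?_⟩
  swap
  · haveI : Flat (φ₁ ≫ φ₂).left := by rw [Over.comp_left]; infer_instance
    haveI : Surjective (φ₁ ≫ φ₂).left := by rw [Over.comp_left]; infer_instance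
    haveI : QuasiCompact (φ₁ ≫ φ₂).left := by rw [Over.comp_left]; infer_instance
    exact GrothLib.CartTorsor.isLocallyTrivialFor_of_flat _
  have he : ∀ {T : Over (Spec (CommRingCat.of k))} (g : T ⟶ G) (x : T ⟶ X),
      lift g x ≫ a.act ≫ φ₁ = lift (g ≫ q) (x ≫ φ₁) ≫ aY.act := fun g x => by
    rw [← hequiv, lift_map_assoc]
  have hw : a.act ≫ φ₁ ≫ φ₂ = snd G X ≫ φ₁ ≫ φ₂ := by
    have e1 : (q ⊗ₘ φ₁) ≫ aY.act ≫ φ₂ = (q ⊗ₘ φ₁) ≫ snd Q Y ≫ φ₂ := by rw [h₂.w]
    rw [← reassoc_of% hequiv, e1, tensorHom_snd_assoc]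
  have hr : ∀ {T : Over (Spec (CommRingCat.of k))} (n : T ⟶ N) (x : T ⟶ X),
      lift n x ≫ (a.restrict iN).act = lift (n ≫ iN) x ≫ a.act :=
    fun n x => AlgGrp.Action.lift_restrict_act iN a n x
  have hex : ∀ {T : Over (Spec (CommRingCat.of k))} (x' x : T ⟶ X),
      x' ≫ φ₁ ≫ φ₂ = x ≫ φ₁ ≫ φ₂ → ∃ g : T ⟶ G, lift g x ≫ a.act = x' := by
    intro T x' x hx
    have hx2 : (x' ≫ φ₁) ≫ φ₂ = (x ≫ φ₁) ≫ φ₂ := by rw [Category.assoc, Category.assoc]; exact hx
    let h := h₂.lift (x' ≫ φ₁) (x ≫ φ₁) hx2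
    let g₀ : T ⟶ G := h ≫ fst Q Y ≫ CategoryTheory.inv (iH ≫ q) ≫ iH
    have hg₀ : g₀ ≫ q = h ≫ fst Q Y := by
      simp only [g₀, Category.assoc, IsIso.inv_hom_id, Category.comp_id]
    have h3 : (lift g₀ x ≫ a.act) ≫ φ₁ = x' ≫ φ₁ := by
      rw [Category.assoc, he, hg₀]
      have : lift (h ≫ fst Q Y) (x ≫ φ₁) = h := by
        rw [← h₂.lift_snd (x' ≫ φ₁) (x ≫ φ₁) hx2, ← comp_lift, lift_fst_snd, Category.comp_id]
      rw [this]
      exact h₂.lift_fst _ _ _
    let r := h₁.lift x' (lift g₀ x ≫ a.act) h3.symm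
    refine ⟨(r ≫ fst N X ≫ iN) * g₀, ?_⟩
    rw [AlgGrp.Action.lift_mul_act]
    have h4 : r = lift (r ≫ fst N X) (lift g₀ x ≫ a.act) := by
      rw [← h₁.lift_snd x' (lift g₀ x ≫ a.act) h3.symm, ← comp_lift, lift_fst_snd, Category.comp_id]
    conv_rhs => rw [← h₁.lift_fst x' (lift g₀ x ≫ a.act) h3.symm]
    change _ = r ≫ _
    rw [← Category.assoc r (fst N X) iN, ← hr, ← h4]
  have hfree : ∀ {T : Over (Spec (CommRingCat.of k))} (g : T ⟶ G) (x : T ⟶ X),
      lift g x ≫ a.act = x → g = 1 := by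
    intro T g x hgx
    have h5 : lift (g ≫ q) (x ≫ φ₁) = lift (1 : T ⟶ Q) (x ≫ φ₁) := by
      refine h₂.hom_ext ?_ (by rw [lift_snd, lift_snd])
      rw [← he, reassoc_of% hgx, AlgGrp.Action.lift_one_act]
    have h6 : g ≫ q = toUnit T ≫ η[Q] := by
      have := congrArg (· ≫ fst Q Y) h5
      simpa only [lift_fst, ← Hom.one_def] using this
    have h7 : hker.lift g (toUnit T) h6 ≫ iN = g := hker.lift_fst _ _ _
    have h8 : lift (hker.lift g (toUnit T) h6) x = lift (1 : T ⟶ N) x := by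
      refine h₁.hom_ext ?_ (by rw [lift_snd, lift_snd])
      rw [hr, hr, h7, hgx, MonObj.one_comp, AlgGrp.Action.lift_one_act]
    have h9 := congrArg (· ≫ fst N X) h8
    simp only [lift_fst] at h9
    rw [← h7, h9, MonObj.one_comp]
  have huniq : ∀ {T : Over (Spec (CommRingCat.of k))} (m m' : T ⟶ G ⊗ X),
      m ≫ a.act = m' ≫ a.act → m ≫ snd G X = m' ≫ snd G X → m = m' := by
    intro T m m' h10 h11
    have em : m = lift (m ≫ fst G X) (m ≫ snd G X) := by rw [← comp_lift, lift_fst_snd, Category.comp_id]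
    have em' : m' = lift (m' ≫ fst G X) (m ≫ snd G X) := by
      rw [h11, ← comp_lift, lift_fst_snd, Category.comp_id]
    have h12 := hfree ((m' ≫ fst G X)⁻¹ * (m ≫ fst G X)) (m ≫ snd G X) (by
      have h13 : lift (m' ≫ fst G X) (m ≫ snd G X) ≫ a.act = m' ≫ a.act := by rw [← em']
      rw [AlgGrp.Action.lift_mul_act, ← em, h10, ← h13, ← AlgGrp.Action.lift_mul_act, inv_mul_cancel,
        AlgGrp.Action.lift_one_act])
    rw [em, em', inv_mul_eq_one.mp h12]
  refine ⟨⟨hw⟩, ⟨Limits.PullbackCone.IsLimit.mk _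
    (fun s => lift (hex s.fst s.snd s.condition).choose s.snd)
    (fun s => (hex s.fst s.snd s.condition).choose_spec)
    (fun s => lift_snd _ _) (fun s m e₁ e₂ => ?_)⟩⟩
  refine huniq _ _ ?_ ?_
  · rw [(hex s.fst s.snd s.condition).choose_spec]; exact e₁
  · rw [lift_snd]; exact e₂

end Groth.Agent.S18977
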