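import Groth.Statements.S18978
import Groth.Agent.Lib.CartTorsor.Geom
import Groth.Agent.Lib.CartTorsor.OrbitStab
-- import your own Groth.Agent.* helpers here

set_option autoImplicit false
universe u
open CategoryTheory MonoidalCategory CartesianMonoidalCategory MonObj AlgebraicGeometry
open GIT

namespace Groth.Agent.S18978

/-- Over an algebraically closed field k of characteristic zero, let G be an affine group scheme of
finite type over k with a closed normal subgroup scheme N, the kernel of a surjective homomorphism q
: G → H onto an affine group scheme H of finite type over k (the factor group G/N). Let G act on a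
separated k-scheme X of finite type, let φ : X → Y be a torsor over Y under the restricted action of
N (cartesian action square, sections on the members of some fpqc covering family of Y), and let H
act on Y so that φ is equivariant along q. Then for every geometric point x of X (a point with
values in an algebraically closed field Ω) with image y in Y: the G-orbit of x is closed in X_Ω and
the stabiliser of x in G is finite if and only if the H-orbit of y is closed in Y_Ω and the
stabiliser of y in H is finite. (The induced action of the factor group on Y is taken as a datum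
together with the equivariance of φ; the points of the published statement are rendered as geometric
points.) -/
theorem result
    (k : Type u) [Field k] [IsAlgClosed k] [CharZero k]
    (G N H X Y : Over (Spec (CommRingCat.of k))) [GrpObj G] [GrpObj N] [GrpObj H]
    [IsAffine G.left] [LocallyOfFiniteType G.hom]
    (iN : N ⟶ G) [IsMonHom iN] [IsClosedImmersion iN.left] (hnorm : AlgGrp.IsNormalHom iN)
    (q : G ⟶ H) [IsMonHom q] [Surjective q.left] [IsAffine H.left] [LocallyOfFiniteType H.hom]
    (hker : AlgGrp.IsKernel iN q)
    [LocallyOfFiniteType X.hom] [QuasiCompact X.hom] [IsSeparated X.hom]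
    (a : AlgGrp.Action G X) (φ : X ⟶ Y)
    (hcart : IsPullback (a.restrict iN).act (snd N X) φ φ)
    (hloc : NonAbH1.IsLocallyTrivialFor Scheme.fpqcPrecoverage (Over.mk φ.left : Over Y.left))
    (aY : AlgGrp.Action H Y) (hequiv : (q ⊗ₘ φ) ≫ aY.act = a.act ≫ φ)
    (Ω : Type u) [Field Ω] [IsAlgClosed Ω] (P : Over (Spec (CommRingCat.of k)))
    (e : P.left ≅ Spec (CommRingCat.of Ω)) (x : P ⟶ X) :
    (IsClosed (Set.range (GIT.psi a x).left.base) ∧ IsFinite (GLinSh.stabTo a x)) ↔
      (IsClosed (Set.range (GIT.psi aY (x ≫ φ)).left.base) ∧ IsFinite (GLinSh.stabTo aY (x ≫ φ))) := by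
  haveI : IsAffineHom G.hom := isAffineHom_of_isAffine _
  haveI : IsAffineHom N.hom := by rw [← Over.w iN]; infer_instance
  haveI : Flat N.hom := GrothLib.DiagGrp.flat_of_field _
  obtain ⟨_, _, _⟩ := GrothLib.CartTorsor.affine_flat hcart hloc
  obtain ⟨hrange, hfin⟩ := GrothLib.CartTorsor.range_psi_and_finite_stab hker hcart hequiv x
  refine and_congr ?_ ?_
  · rw [hrange]
    haveI : Flat (φ ▷ P).left := GrothLib.CartTorsor.property_whiskerRight @Flat.{u} φ P ‹_›
    haveI : Surjective (φ ▷ P).left := GrothLib.CartTorsor.property_whiskerRight @Surjective.{u} φ P ‹_›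
    haveI : IsAffineHom (φ ▷ P).left := GrothLib.CartTorsor.property_whiskerRight @IsAffineHom.{u} φ P ‹_›
    exact (Flat.isQuotientMap_of_surjective (φ ▷ P).left).isClosed_preimage
  · have hG : LocallyOfFiniteType (snd G P).left :=
      MorphismProperty.pullback_snd (P := @LocallyOfFiniteType) G.hom P.hom inferInstance
    have hH : LocallyOfFiniteType (snd H P).left :=
      MorphismProperty.pullback_snd (P := @LocallyOfFiniteType) H.hom P.hom inferInstance
    have e1 : GLinSh.stabTo a x =
        Limits.pullback.fst (GIT.psi a x).left (lift x (𝟙 P)).left ≫ (snd G P).left := by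
      have hp : (GIT.psi a x).left ≫ (snd X P).left = (snd G P).left := by
        rw [← Over.comp_left, GIT.psi, lift_snd]
      rw [← hp, Limits.pullback.condition_assoc, ← Over.comp_left, lift_snd, Over.id_left]
      exact (Category.comp_id _).symm
    have e2 : GLinSh.stabTo aY (x ≫ φ) =
        Limits.pullback.fst (GIT.psi aY (x ≫ φ)).left (lift (x ≫ φ) (𝟙 P)).left ≫ (snd H P).left := by
      have hp : (GIT.psi aY (x ≫ φ)).left ≫ (snd Y P).left = (snd H P).left := by
        rw [← Over.comp_left, GIT.psi, lift_snd]
      rw [← hp, Limits.pullback.condition_assoc, ← Over.comp_left, lift_snd, Over.id_left]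
      exact (Category.comp_id _).symm
    haveI : IsImmersion (lift x (𝟙 P)).left := by
      haveI : IsImmersion ((lift x (𝟙 P)).left ≫ (snd X P).left) := by
        rw [← Over.comp_left, lift_snd]; exact (inferInstance : IsImmersion (𝟙 P.left))
      exact IsImmersion.of_comp _ (snd X P).left
    haveI : IsImmersion (lift (x ≫ φ) (𝟙 P)).left := by
      haveI : IsImmersion ((lift (x ≫ φ) (𝟙 P)).left ≫ (snd Y P).left) := by
        rw [← Over.comp_left, lift_snd]; exact (inferInstance : IsImmersion (𝟙 P.left))
      exact IsImmersion.of_comp _ (snd Y P).left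
    haveI : LocallyOfFiniteType (GLinSh.stabTo a x) := by
      rw [e1]; exact MorphismProperty.comp_mem @LocallyOfFiniteType _ _
        (MorphismProperty.pullback_fst (P := @LocallyOfFiniteType) _ _ inferInstance) hG
    haveI : LocallyOfFiniteType (GLinSh.stabTo aY (x ≫ φ)) := by
      rw [e2]; exact MorphismProperty.comp_mem @LocallyOfFiniteType _ _
        (MorphismProperty.pullback_fst (P := @LocallyOfFiniteType) _ _ inferInstance) hH
    rw [← MorphismProperty.cancel_right_of_respectsIso @IsFinite (GLinSh.stabTo a x) e.hom,
      ← MorphismProperty.cancel_right_of_respectsIso @IsFinite (GLinSh.stabTo aY (x ≫ φ)) e.hom,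
      GrothLib.CartTorsor.isFinite_iff_finite, GrothLib.CartTorsor.isFinite_iff_finite]
    exact hfin

end Groth.Agent.S18978
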