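import Groth.Statements.S19409
import Groth.Agent.Lib.OrbitDim.Formula
import Groth.Prelude.Def_ChGrp
import Mathlib.AlgebraicGeometry.AlgClosed.Basic
-- import your own Groth.Agent.* helpers here

set_option autoImplicit false
universe u
open CategoryTheory MonoidalCategory CartesianMonoidalCategory MonObj AlgebraicGeometry Topology
open NRQuot

namespace Groth.Agent.S19409

/-- Suppose k is a field that is algebraically closed (its characteristic is arbitrary, since
characteristic zero plays no role in the argument). Consider an algebraic group G over k, i.e. an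
affine group scheme of finite type over k, together with an action of G on a k-scheme X that is
locally of finite type, and assume φ : X → Y is a good quotient (meaning φ is affine and invariant,
on each open of Y the functions are precisely the invariant functions on its preimage, closed
invariant subsets are sent to closed subsets, and taking images commutes with intersecting families
of closed invariant subsets). Given any k-point y of Y, one can find a k-point x of X lying over y
whose orbit (the image of the orbit morphism G → X) is a closed subset of X; moreover, whenever x'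
is a k-point of X over y with closed orbit, x' is obtained from x by acting with some k-point of G.
In other words, each fibre of φ over a k-point contains a unique closed orbit. -/
theorem result
    (k : Type u) [Field k] [IsAlgClosed k]
    (G X Y : Over (Spec (CommRingCat.of k))) [GrpObj G] [IsAffine G.left] [LocallyOfFiniteType G.hom]
    [LocallyOfFiniteType X.hom]
    (a : AlgGrp.Action G X) (φ : X ⟶ Y) (h : NRQuot.IsGoodQuot a φ)
    (y : 𝟙_ (Over (Spec (CommRingCat.of k))) ⟶ Y) :
    ∃ x : 𝟙_ (Over (Spec (CommRingCat.of k))) ⟶ X, x ≫ φ = y ∧ IsClosed (Set.range (a.orbitMap x).left.base) ∧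
      ∀ x' : 𝟙_ (Over (Spec (CommRingCat.of k))) ⟶ X, x' ≫ φ = y → IsClosed (Set.range (a.orbitMap x').left.base) →
        ∃ g : 𝟙_ (Over (Spec (CommRingCat.of k))) ⟶ G, lift g x ≫ a.act = x' := by
  set e₀ := IsLocalRing.closedPoint k
  have hloc : ∀ (Z : Over (Spec (CommRingCat.of k))) (p : 𝟙_ (Over (Spec (CommRingCat.of k))) ⟶ Z),
      Set.range p.left.base = {p.left e₀} := fun Z p => by
    ext z
    exact ⟨fun ⟨w, hw⟩ => by rw [← hw]; exact congrArg p.left (Subsingleton.elim (α := Spec (CommRingCat.of k)) w e₀),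
      fun hz => ⟨e₀, hz.symm⟩⟩
  have hzc : IsClosed ({y.left e₀} : Set Y.left) :=
    GrothLib.OrbitDim.isClosed_pt Y.hom y.left (Over.w y)
  set F : Set X.left := φ.left ⁻¹' {y.left e₀} with hFdef
  have hFc : IsClosed F := hzc.preimage φ.left.continuous
  have heq : a.act ≫ φ = snd G X ≫ φ := h.inv
  have hsurj : Function.Surjective φ.left.base := fun p => by
    have h0 := h.inter PEmpty (fun i => i.elim) (fun i => i.elim) (fun i => i.elim)
    rw [Set.iInter_of_empty, Set.iInter_of_empty, Set.image_univ] at h0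
    exact (h0 ▸ Set.mem_univ p : p ∈ Set.range φ.left.base)
  have hFne : F.Nonempty := by
    obtain ⟨p, hp⟩ := hsurj (y.left e₀)
    exact ⟨p, hp⟩
  haveI := LocallyOfFiniteType.jacobsonSpace X.hom
  haveI : IsLocallyNoetherian X.left := LocallyOfFiniteType.isLocallyNoetherian X.hom
  -- rational points
  have hpt : ∀ p : X.left, IsClosed ({p} : Set X.left) →
      ∃ x : 𝟙_ (Over (Spec (CommRingCat.of k))) ⟶ X, x.left e₀ = p := fun p hp =>
    ⟨Over.homMk (pointOfClosedPoint X.hom p hp) (by simp), pointOfClosedPoint_apply X.hom p hp _⟩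
  have hext : ∀ x x' : 𝟙_ (Over (Spec (CommRingCat.of k))) ⟶ X, x.left e₀ = x'.left e₀ → x = x' :=
    fun x x' e => Over.OverMorphism.ext (ext_of_apply_closedPoint_eq X.hom (Over.w x) (Over.w x') e)
  have hxy : ∀ x : 𝟙_ (Over (Spec (CommRingCat.of k))) ⟶ X, x.left e₀ ∈ F → x ≫ φ = y := by
    intro x hx
    have hkey : ∀ (z : Y.left) (g g' : Y.left.residueField z ⟶ CommRingCat.of k),
        (Spec.map g ≫ Y.left.fromSpecResidueField z) ≫ Y.hom = 𝟙 _ →
        (Spec.map g' ≫ Y.left.fromSpecResidueField z) ≫ Y.hom = 𝟙 _ → g = g' := by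
      intro z g g' hg hg'
      obtain ⟨s, hs⟩ : ∃ s : CommRingCat.of k ⟶ Y.left.residueField z,
          Spec.map s = Y.left.fromSpecResidueField z ≫ Y.hom := ⟨_, Spec.map_preimage _⟩
      rw [Category.assoc, ← hs, ← Spec.map_comp, ← Spec.map_id, Spec.map_inj] at hg hg'
      ext r
      have hinj : Function.Injective g.hom := RingHom.injective _
      have hr : s (g r) = r := hinj (congrArg (fun t : CommRingCat.of k ⟶ CommRingCat.of k => t (g r)) hg)
      conv_rhs => rw [← hr]
      exact (congrArg (fun t : CommRingCat.of k ⟶ CommRingCat.of k => t (g r)) hg').symm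
    apply Over.OverMorphism.ext
    apply (Scheme.SpecToEquivOfField k Y.left).injective
    obtain ⟨⟨z, g⟩, hg⟩ := (Scheme.SpecToEquivOfField k Y.left).symm.surjective (x ≫ φ).left
    obtain ⟨⟨z', g'⟩, hg'⟩ := (Scheme.SpecToEquivOfField k Y.left).symm.surjective y.left
    rw [← hg, ← hg', Equiv.apply_symm_apply, Equiv.apply_symm_apply]
    have hz : (x ≫ φ).left e₀ = z := by
      rw [← hg]
      change (Spec.map g ≫ Y.left.fromSpecResidueField z) e₀ = z
      rw [Scheme.Hom.comp_apply, Scheme.fromSpecResidueField_apply]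
    have hz' : y.left e₀ = z' := by
      rw [← hg']
      change (Spec.map g' ≫ Y.left.fromSpecResidueField z') e₀ = z'
      rw [Scheme.Hom.comp_apply, Scheme.fromSpecResidueField_apply]
    have hx' : (x ≫ φ).left e₀ = y.left e₀ := hx
    obtain rfl : z = z' := hz.symm.trans (hx'.trans hz')
    congr 1
    exact hkey z g g'
      (by rw [show Spec.map g ≫ Y.left.fromSpecResidueField z = (x ≫ φ).left from hg]; exact Over.w _)
      (by rw [show Spec.map g' ≫ Y.left.fromSpecResidueField z = y.left from hg']; exact Over.w _)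
  -- orbits
  haveI : IsAffineHom φ.left := h.affine
  obtain ⟨W, hW, hyW⟩ : ∃ W : Y.left.Opens, IsAffineOpen W ∧ y.left e₀ ∈ W := by
    obtain ⟨_, ⟨W, hW, rfl⟩, hyW, -⟩ :=
      Y.left.isBasis_affineOpens.exists_subset_of_mem_open (Set.mem_univ (y.left e₀)) isOpen_univ
    exact ⟨W, hW, hyW⟩
  set XW : X.left.Opens := φ.left ⁻¹ᵁ W
  have hFW : F ⊆ (XW : Set X.left) := fun p hp => by
    change φ.left p ∈ W
    rw [show φ.left p = y.left e₀ from hp]
    exact hyW
  haveI : IsAffine XW.toScheme := hW.preimage φ.left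
  haveI : LocallyOfFiniteType (XW.ι ≫ X.hom) := inferInstance
  haveI : QuasiCompact (XW.ι ≫ X.hom) := (quasiCompact_iff_compactSpace _).2 inferInstance
  haveI : QuasiCompact G.hom := (quasiCompact_iff_compactSpace _).2 inferInstance
  have hqc : ∀ x : 𝟙_ (Over (Spec (CommRingCat.of k))) ⟶ X, QuasiCompact (a.orbitMap x).left := fun x => by
    haveI : QuasiSeparated X.hom := inferInstance
    haveI : QuasiCompact ((a.orbitMap x).left ≫ X.hom) := by rw [Over.w (a.orbitMap x)]; infer_instance
    exact QuasiCompact.of_comp _ X.hom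
  have horbF : ∀ x : 𝟙_ (Over (Spec (CommRingCat.of k))) ⟶ X, x ≫ φ = y →
      Set.range (a.orbitMap x).left ⊆ F := by
    rintro x hx _ ⟨g, rfl⟩
    have e : a.orbitMap x ≫ φ = toUnit G ≫ y := by
      rw [AlgGrp.Action.orbitMap, Category.assoc, heq, lift_snd_assoc, Category.assoc, hx]
    rw [hFdef, Set.mem_preimage, Set.mem_singleton_iff]
    rw [← Scheme.Hom.comp_apply, ← Over.comp_left, e, Over.comp_left, Scheme.Hom.comp_apply]
    exact congrArg y.left (Subsingleton.elim (α := Spec (CommRingCat.of k)) _ _)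
  have hself : ∀ x : 𝟙_ (Over (Spec (CommRingCat.of k))) ⟶ X, x.left e₀ ∈ Set.range (a.orbitMap x).left := by
    intro x
    refine ⟨η[G].left e₀, ?_⟩
    rw [← Scheme.Hom.comp_apply, ← Over.comp_left, AlgGrp.Action.comp_orbitMap,
      toUnit_unique (toUnit (𝟙_ (Over (Spec (CommRingCat.of k))))) (𝟙 _), Category.id_comp]
    have h1 : (η[G] : _ ⟶ G) = 1 := by
      rw [Hom.one_def, toUnit_unique (toUnit (𝟙_ (Over (Spec (CommRingCat.of k))))) (𝟙 _), Category.id_comp]
    rw [h1, AlgGrp.Action.lift_one_act]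
  -- a point with minimal orbit
  let P := {x : 𝟙_ (Over (Spec (CommRingCat.of k))) ⟶ X // x ≫ φ = y}
  haveI : Nonempty P := by
    obtain ⟨p, hp, hpc⟩ := nonempty_inter_closedPoints hFne hFc.isLocallyClosed
    obtain ⟨x, hx⟩ := hpt p hpc
    exact ⟨⟨x, hxy x (hx ▸ hp)⟩⟩
  let d : P → WithBot ℕ∞ := fun x => topologicalKrullDim (Set.range (a.orbitMap x.1).left)
  obtain ⟨⟨x, hx⟩, hmin⟩ : ∃ x : P, ∀ x' : P, d x ≤ d x' :=
    ⟨Function.argmin d, fun x' => Function.argmin_le d x'⟩
  have hcl : IsClosed (Set.range (a.orbitMap x).left) := by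
    haveI := hqc x
    have hS := GrothLib.GrpSchField.isLocallyClosed_range_orbitMap a x
    by_contra hncl
    set S := Set.range (a.orbitMap x).left with hSdef
    have hclF : closure S ⊆ F := hFc.closure_subset_iff.2 (horbF x hx)
    have hBne : (closure S \ S).Nonempty := by
      rw [Set.nonempty_iff_ne_empty, Ne, Set.sdiff_eq_empty]
      exact fun e => hncl (closure_subset_iff_isClosed.1 e)
    have hBlc : IsLocallyClosed (closure S \ S) := by
      obtain ⟨U, C, hU, hC, e⟩ := hS
      refine IsClosed.isLocallyClosed ?_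
      have hC' : closure S ⊆ C := hC.closure_subset_iff.2 (e ▸ Set.inter_subset_right)
      have : closure S \ S = closure S \ U := by
        ext z
        exact ⟨fun hz => ⟨hz.1, fun hu => hz.2 (e.symm.subset ⟨hu, hC' hz.1⟩)⟩,
          fun hz => ⟨hz.1, fun hr => hz.2 (e.subset hr).1⟩⟩
      rw [this]
      exact isClosed_closure.sdiff hU
    obtain ⟨z, hz, hzcl⟩ := nonempty_inter_closedPoints hBne hBlc
    obtain ⟨x', hx'⟩ := hpt z hzcl
    have hx'F : x' ≫ φ = y := hxy x' (hx' ▸ hclF hz.1)
    have hsub := GrothLib.OrbitDim.range_orbitMap_subset a x x' (hx' ▸ hz)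
    have hd := (hmin ⟨x', hx'F⟩).trans (GrothLib.ConnDim.dim_mono hsub)
    have hemb := XW.ι.isOpenEmbedding
    have hr : ∀ {T : Set X.left}, T ⊆ closure S →
        topologicalKrullDim ↥(XW.ι ⁻¹' T) = topologicalKrullDim ↥T := by
      intro T hT
      have hinj : IsEmbedding (XW.ι ∘ (Subtype.val : ↥(XW.ι ⁻¹' T) → XW.toScheme)) :=
        hemb.isEmbedding.comp IsEmbedding.subtypeVal
      refine GrothLib.Dim.IsEmbedding.topologicalKrullDim_eq hinj ?_
      rw [Set.range_comp, Subtype.range_coe, Set.image_preimage_eq_inter_range, Set.inter_eq_left]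
      exact hT.trans ((hclF.trans hFW).trans (Scheme.Opens.range_ι XW).symm.subset)
    have hpre : XW.ι ⁻¹' closure S = closure (XW.ι ⁻¹' S) :=
      hemb.isOpenMap.preimage_closure_eq_closure_preimage hemb.continuous S
    have := GrothLib.OrbitDim.dim_boundary_lt (XW.ι ≫ X.hom) (S := XW.ι ⁻¹' S)
      (hS.preimage hemb.continuous) (by
        obtain ⟨p, hp⟩ : S.Nonempty := ⟨_, hself x⟩
        obtain ⟨q, hq⟩ : p ∈ Set.range XW.ι := (Scheme.Opens.range_ι XW).symm ▸ hFW (hclF (subset_closure hp))
        exact ⟨q, by rw [Set.mem_preimage, hq]; exact hp⟩)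
    rw [← hpre, ← Set.preimage_sdiff, hr Set.sdiff_subset, hr subset_closure] at this
    exact absurd this hd.not_gt
  refine ⟨x, hx, hcl, fun x' hx' hcl' => ?_⟩
  have hinv : ∀ z : 𝟙_ (Over (Spec (CommRingCat.of k))) ⟶ X,
      NRQuot.IsInvariantSet a (Set.range (a.orbitMap z).left) := by
    intro z p hp
    have e := GrothLib.GrpSchField.preimage_act_range_orbitMap a z
    exact (Set.ext_iff.1 e p).2 hp
  let Wf : ULift.{u} Bool → Set X.left := fun b =>
    cond b.down (Set.range (a.orbitMap x).left) (Set.range (a.orbitMap x').left)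
  have hmeet : (⋂ b, Wf b).Nonempty := by
    have e := h.inter _ Wf (fun ⟨b⟩ => by cases b <;> assumption) (fun ⟨b⟩ => by cases b <;> exact hinv _)
    have hy : y.left e₀ ∈ ⋂ b, φ.left.base '' (Wf b) := by
      refine Set.mem_iInter.2 fun ⟨b⟩ => ?_
      cases b
      · exact ⟨_, hself x', by rw [← hx']; rfl⟩
      · exact ⟨_, hself x, by rw [← hx]; rfl⟩
    rw [← e] at hy
    obtain ⟨p, hp, -⟩ := hy
    exact ⟨p, hp⟩
  obtain ⟨p, hp, hpc⟩ := nonempty_inter_closedPoints hmeet
    (isClosed_iInter fun ⟨b⟩ => by cases b <;> assumption).isLocallyClosed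
  obtain ⟨z, hz⟩ := hpt p hpc
  rw [Set.mem_iInter] at hp
  haveI := LocallyOfFiniteType.jacobsonSpace G.hom
  have hget : ∀ w : 𝟙_ (Over (Spec (CommRingCat.of k))) ⟶ X, p ∈ Set.range (a.orbitMap w).left →
      ∃ g : 𝟙_ (Over (Spec (CommRingCat.of k))) ⟶ G, lift g w ≫ a.act = z := by
    intro w hw
    obtain ⟨g₀, hg₀, hgc⟩ := nonempty_inter_closedPoints
      (show ((a.orbitMap w).left ⁻¹' {p}).Nonempty from hw) (hpc.preimage (a.orbitMap w).left.continuous).isLocallyClosed
    obtain ⟨g, hg⟩ := GrothLib.OrbitDim.exists_ptOfClosed (G := G) hgc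
    refine ⟨g, hext _ _ ?_⟩
    have e := AlgGrp.Action.comp_orbitMap a g w
    rw [toUnit_unique (toUnit (𝟙_ (Over (Spec (CommRingCat.of k))))) (𝟙 _), Category.id_comp] at e
    rw [← e, Over.comp_left, Scheme.Hom.comp_apply, hg, hz]
    exact hg₀
  obtain ⟨g, hg⟩ := hget x (hp ⟨true⟩)
  obtain ⟨g', hg'⟩ := hget x' (hp ⟨false⟩)
  refine ⟨g'⁻¹ * g, ?_⟩
  rw [AlgGrp.Action.lift_mul_act, hg, ← hg', ← AlgGrp.Action.lift_mul_act, inv_mul_cancel,
    AlgGrp.Action.lift_one_act]

end Groth.Agent.S19409
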