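import Groth.Statements.S18982
import Groth.Agent.Lib.UnipFix19.HopfUnip
import Groth.Agent.Lib.UnipOrbit14.Basic
import Groth.Agent.Lib.FlatStab13.Restr
import Groth.Agent.Lib.OrbitDim.Formula
import Groth.Agent.S18981

set_option linter.all false
set_option backward.isDefEq.respectTransparency false

set_option autoImplicit false
universe u
open CategoryTheory MonoidalCategory CartesianMonoidalCategory MonObj AlgebraicGeometry Topology
open NRQuot

namespace Groth.Agent.S18982

/-- An action restricted along a homomorphism. -/
noncomputable def pullAct {S : Scheme.{u}} {H G' X' : Over S} [GrpObj H] [GrpObj G'] (f : H ⟶ G') [IsMonHom f]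
    (a : AlgGrp.Action G' X') : AlgGrp.Action H X' where
  act := (f ▷ X') ≫ a.act
  one_act := by rw [← comp_whiskerRight_assoc, IsMonHom.one_hom, a.one_act]
  mul_act := by
    rw [← comp_whiskerRight_assoc, IsMonHom.mul_hom, comp_whiskerRight_assoc, a.mul_act,
      MonoidalCategory.tensorHom_def, comp_whiskerRight_assoc, associator_naturality_middle_assoc,
      associator_naturality_left_assoc, MonoidalCategory.whiskerLeft_comp_assoc, ← whisker_exchange_assoc,
      ← whisker_exchange_assoc]

/-- Fix an algebraically closed field k with characteristic zero. Suppose G is a unipotent group,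
meaning an affine, smooth, connected group scheme of finite type over k with no non-trivial
subtorus, and that G acts on a finite-type k-scheme X. Assume φ : X → Y is a good quotient (φ is
affine and invariant; for each open subset of Y, its functions are precisely the invariant functions
on the preimage; images of invariant closed subsets are closed; and taking images commutes with
intersecting families of invariant closed subsets), where Y is a finite-type k-scheme. Then φ is in
fact a geometric quotient, i.e. its fibres are orbits, which on k-points says: whenever two k-points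
of X map to the same point of Y, some k-point of G carries one onto the other. (Unipotence is
encoded as the absence of a non-trivial subtorus; for smooth connected groups over k the two notions
agree.) -/
theorem result
    (k : Type u) [Field k] [IsAlgClosed k] [CharZero k]
    (G X Y : Over (Spec (CommRingCat.of k))) [GrpObj G] [IsAffine G.left] [LocallyOfFiniteType G.hom]
    [Smooth G.hom] [ConnectedSpace G.left] (hG : Red.HasNoSubtorus k G)
    [LocallyOfFiniteType X.hom] [QuasiCompact X.hom] [LocallyOfFiniteType Y.hom] [QuasiCompact Y.hom]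
    (a : AlgGrp.Action G X) (φ : X ⟶ Y) (h : NRQuot.IsGoodQuot a φ)
    (x₁ x₂ : 𝟙_ (Over (Spec (CommRingCat.of k))) ⟶ X) (hφ : x₁ ≫ φ = x₂ ≫ φ) :
    ∃ g : 𝟙_ (Over (Spec (CommRingCat.of k))) ⟶ G, lift g x₁ ≫ a.act = x₂ := by
  refine Groth.Agent.S18981.result k G X Y a φ h (fun x => ?_) x₁ x₂ hφ
  haveI := h.affine
  obtain ⟨A, _, _, ⟨e⟩⟩ := GrothLib.MultHopf14.exists_hopf G (isAffineHom_of_isAffine _)
  let iA : GrothLib.GModComod14.G k A ≅ G := (Grp.forget _).mapIso e
  haveI : IsIso iA.hom.left := inferInstanceAs (IsIso ((Over.forget _).map iA.hom))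
  haveI : IsMonHom iA.hom := e.hom.hom.isMonHom_hom
  haveI : Algebra.FiniteType k A := by
    have : LocallyOfFiniteType (GrothLib.GModComod14.G k A).hom := by rw [← Over.w iA.hom]; infer_instance
    exact RingHom.finiteType_algebraMap.1 ((HasRingHomProperty.Spec_iff (P := @LocallyOfFiniteType)).1 this)
  haveI : IsReduced G.left := GrothLib.RedSmooth.isReduced_of_smooth G.hom
  haveI : IsReduced (Spec (CommRingCat.of A)) := isReduced_of_isOpenImmersion iA.hom.left
  haveI : _root_.IsReduced A := (affine_isReduced_iff (CommRingCat.of A)).1 inferInstance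
  have hUA : HopfRep.IsUnipotent k A := GrothLib.UnipFix19.isUnipotent_hopf iA hG
  -- the invariant affine open
  let v : Y.left := φ.left (x.left (IsLocalRing.closedPoint k))
  have hv : IsClosed ({v} : Set Y.left) := GrothLib.OrbitDim.isClosed_pt Y.hom (x ≫ φ).left (Over.w (x ≫ φ))
  obtain ⟨V, hV, hvV, -⟩ := exists_isAffineOpen_mem_and_subset (x := v) (U := (⊤ : Y.left.Opens)) (TopologicalSpace.Opens.mem_top v)
  let U : X.left.Opens := φ.left ⁻¹ᵁ V
  have hUaff : IsAffineOpen U := hV.preimage φ.left
  have hinv : a.act ≫ φ = snd G X ≫ φ := h.inv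
  have hsat : a.act.left ⁻¹ᵁ U = (snd G X).left ⁻¹ᵁ U := by
    show a.act.left ⁻¹ᵁ φ.left ⁻¹ᵁ V = (snd G X).left ⁻¹ᵁ φ.left ⁻¹ᵁ V
    rw [← Scheme.Hom.comp_preimage, ← Scheme.Hom.comp_preimage, ← Over.comp_left, hinv, Over.comp_left]
  let aU := GrothLib.FlatStab13.openAct a U hsat
  let Z : Over (Spec (CommRingCat.of k)) := GrothLib.FlatStab13.openObj U
  haveI : IsAffine Z.left := hUaff
  haveI : LocallyOfFiniteType Z.hom := inferInstanceAs (LocallyOfFiniteType (U.ι ≫ X.hom))
  haveI : QuasiCompact Z.hom := inferInstance
  -- transport along the Hopf presentation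
  let aA : AlgGrp.Action (GrothLib.GModComod14.G k A) Z := pullAct iA.hom aU
  have hxU : x.left (IsLocalRing.closedPoint k) ∈ U := hvV
  have hxr : Set.range x.left ⊆ Set.range U.ι := by
    rw [Scheme.Opens.range_ι]
    rintro _ ⟨p, rfl⟩
    obtain rfl : p = IsLocalRing.closedPoint k := Subsingleton.elim (α := PrimeSpectrum k) _ _
    exact hxU
  let xU : 𝟙_ (Over (Spec (CommRingCat.of k))) ⟶ Z := Over.homMk (IsOpenImmersion.lift U.ι x.left hxr)
    (by show _ ≫ U.ι ≫ X.hom = _; rw [IsOpenImmersion.lift_fac_assoc]; exact Over.w x)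
  have hxinc : xU ≫ GrothLib.FlatStab13.openInc U = x := Over.OverMorphism.ext (IsOpenImmersion.lift_fac _ _ _)
  haveI : Scheme.IsQuasiAffine Z.left := inferInstance
  have hclZ : IsClosed (Set.range (aA.orbitMap xU).left.base) := GrothLib.UnipOrbit14.main aA xU hUA
  have horb : aA.orbitMap xU ≫ GrothLib.FlatStab13.openInc U = iA.hom ≫ a.orbitMap x := by
    have e1 : (lift (𝟙 (GrothLib.GModComod14.G k A)) (toUnit _ ≫ xU) ≫ (iA.hom ▷ Z) ≫ aU.act) ≫
        GrothLib.FlatStab13.openInc U = iA.hom ≫ lift (𝟙 G) (toUnit G ≫ x) ≫ a.act := by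
      rw [Category.assoc, Category.assoc, GrothLib.FlatStab13.openAct_inc, lift_whiskerRight_assoc,
        lift_whiskerLeft_assoc, Category.assoc, hxinc, ← Category.assoc iA.hom, comp_lift, Category.comp_id,
        Category.id_comp, ← Category.assoc iA.hom, toUnit_unique (iA.hom ≫ toUnit G) (toUnit _)]
    exact e1
  have hrange : Set.range (a.orbitMap x).left.base = U.ι '' Set.range (aA.orbitMap xU).left.base := by
    rw [← Set.range_comp]
    have hs : Function.Surjective iA.hom.left.base := iA.hom.left.homeomorph.surjective
    calc Set.range (a.orbitMap x).left.base = Set.range ((a.orbitMap x).left.base ∘ iA.hom.left.base) :=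
          (hs.range_comp _).symm
      _ = _ := by
          have e2 := congrArg (fun q => q.left) horb
          simp only [Over.comp_left] at e2
          refine congrArg Set.range (funext fun p => ?_)
          show (a.orbitMap x).left (iA.hom.left p) = U.ι ((aA.orbitMap xU).left p)
          exact (congrArg (fun q => q p) e2).symm
  -- the orbit lies in one closed fibre
  have horbφ : a.orbitMap x ≫ φ = toUnit G ≫ x ≫ φ := by
    show (lift (𝟙 G) (toUnit G ≫ x) ≫ a.act) ≫ φ = _
    rw [Category.assoc, hinv, lift_snd_assoc, Category.assoc]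
  have hfib : Set.range (a.orbitMap x).left.base ⊆ φ.left.base ⁻¹' {v} := by
    rintro _ ⟨g, rfl⟩
    have e2 := congrArg (fun q => q.left g) horbφ
    simp only [Over.comp_left, Scheme.Hom.comp_apply] at e2
    refine e2.trans ?_
    exact congrArg (fun p => φ.left (x.left p)) (Subsingleton.elim (α := PrimeSpectrum k) _ _)
  refine isClosed_of_closure_subset fun z hz => ?_
  have hzU : z ∈ U := by
    have hz' : φ.left z = v := closure_minimal hfib (hv.preimage φ.left.continuous) hz
    show φ.left z ∈ V
    rw [hz']; exact hvV
  rw [hrange] at hz ⊢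
  refine ⟨⟨z, hzU⟩, ?_, rfl⟩
  have := hclZ.closure_eq
  rw [U.ι.isOpenEmbedding.isEmbedding.closure_eq_preimage_closure_image] at this
  rw [← this]
  exact hz

end Groth.Agent.S18982
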