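import Groth.Statements.S18983
import Mathlib
-- import your own Groth.Agent.* helpers here

set_option autoImplicit false
universe u v w
open CAlg

namespace Groth.Agent.S18983

/-- Let k be a field, Λ an additive commutative group, V a finite-dimensional k-vector space which is
the internal direct sum of subspaces V_μ indexed by Λ (a representation of a torus with character
group Λ), and A a nilpotent endomorphism of V mapping each V_μ into V_{μ+χ} for a fixed χ (the
infinitesimal generator of an action of the additive group on which the torus acts through the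
character χ). Then V has a basis consisting of homogeneous vectors e_{i,l}, 0 ≤ l ≤ n_i, with A
e_{i,0} = 0 and A e_{i,l+1} = e_{i,l}: a weight basis bringing A into Jordan normal form. (The
source states this, over an algebraically closed field of characteristic zero, as a decomposition of
every representation of the semidirect product of the additive group with a torus into twists of
symmetric powers of the standard two-dimensional representation by characters; the first line of its
proof reduces that to the present statement, which is what is proved, and which holds over any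
field.) -/
theorem result
    (k : Type u) [Field k] (Λ : Type v) [AddCommGroup Λ] [DecidableEq Λ]
    (V : Type w) [AddCommGroup V] [Module k V] [FiniteDimensional k V]
    (𝒱 : Λ → Submodule k V) (h𝒱 : DirectSum.IsInternal 𝒱)
    (A : Module.End k V) (hA : IsNilpotent A) (χ : Λ)
    (hhom : ∀ (μ : Λ) (v : V), v ∈ 𝒱 μ → A v ∈ 𝒱 (μ + χ)) :
    ∃ (ι : Type w) (_ : Finite ι) (n : ι → ℕ) (b : Module.Basis (Σ i : ι, Fin (n i + 1)) k V),
      (∀ (i : ι) (l : Fin (n i + 1)), ∃ μ : Λ, b ⟨i, l⟩ ∈ 𝒱 μ) ∧
      (∀ i : ι, A (b ⟨i, 0⟩) = 0) ∧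
      ∀ (i : ι) (l : Fin (n i)), A (b ⟨i, l.succ⟩) = b ⟨i, l.castSucc⟩ := by
  classical
  letI := h𝒱.chooseDecomposition
  let π : Λ → V → V := fun μ x => (DirectSum.decompose 𝒱 x μ : V)
  have hπmem : ∀ μ x, π μ x ∈ 𝒱 μ := fun μ x => (DirectSum.decompose 𝒱 x μ).2
  have hπself : ∀ μ x, x ∈ 𝒱 μ → π μ x = x := fun μ x hx => DirectSum.decompose_of_mem_same 𝒱 hx
  have hπA : ∀ x μ, π (μ + χ) (A x) = A (π μ x) := fun x μ => by
    induction x using DirectSum.Decomposition.inductionOn 𝒱 with
    | zero => simp [π]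
    | @homogeneous ν y =>
      by_cases h : ν = μ
      · subst h
        rw [hπself ν y y.2, hπself _ _ (hhom ν y y.2)]
      · rw [show π μ y = 0 from DirectSum.decompose_of_mem_ne 𝒱 y.2 h, map_zero]
        exact DirectSum.decompose_of_mem_ne 𝒱 (hhom ν y y.2) fun he => h (add_right_cancel he)
    | add a b ha hb =>
      have hadd : ∀ ν c d, π ν (c + d) = π ν c + π ν d := fun ν c d => by simp [π]
      rw [map_add, hadd, hadd, map_add, ha, hb]
  suffices key : ∀ N : ℕ, ∀ W : Submodule k V, Module.finrank k W = N → (∀ x ∈ W, ∀ μ, π μ x ∈ W) →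
      (∀ x ∈ W, A x ∈ W) →
      ∃ (ι : Type w) (_ : Fintype ι) (n : ι → ℕ) (v : (Σ i : ι, Fin (n i + 1)) → V),
        LinearIndependent k v ∧ Submodule.span k (Set.range v) = W ∧
        (∀ p, ∃ μ : Λ, v p ∈ 𝒱 μ) ∧ (∀ i : ι, A (v ⟨i, 0⟩) = 0) ∧
        ∀ (i : ι) (l : Fin (n i)), A (v ⟨i, l.succ⟩) = v ⟨i, l.castSucc⟩ by
    obtain ⟨ι, hι, n, v, hli, hsp, h1, h2, h3⟩ := key _ ⊤ rfl (fun _ _ _ => trivial) (fun _ _ => trivial)
    refine ⟨ι, Finite.of_fintype ι, n, Module.Basis.mk hli hsp.ge, fun i l => ?_, fun i => ?_, fun i l => ?_⟩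
    · rw [Module.Basis.mk_apply]; exact h1 _
    · rw [Module.Basis.mk_apply]; exact h2 i
    · rw [Module.Basis.mk_apply, Module.Basis.mk_apply]; exact h3 i l
  intro N
  induction N using Nat.strong_induction_on with
  | _ N ih =>
    intro W hN hWπ hWA
    by_cases hW : W = ⊥
    · subst hW
      haveI : IsEmpty (Σ _ : PEmpty.{w + 1}, Fin (0 + 1)) := ⟨fun p => p.1.elim⟩
      exact ⟨PEmpty.{w + 1}, inferInstance, fun _ => 0, fun p => p.1.elim, linearIndependent_empty_type,
        by rw [Set.range_eq_empty, Submodule.span_empty], fun p => p.1.elim, fun i => i.elim, fun i => i.elim⟩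
    let W' := W.map A
    have hle : W' ≤ W := Submodule.map_le_iff_le_comap.2 hWA
    have hlt : Module.finrank k W' < N := by
      rw [← hN]
      refine Submodule.finrank_lt_finrank_of_lt (lt_of_le_of_ne hle fun he => hW ?_)
      obtain ⟨m, hm⟩ := hA
      have hpow : ∀ j, W.map (A ^ j) = W := fun j => by
        induction j with
        | zero => exact Submodule.map_id W
        | succ j ihj =>
          rw [pow_succ', Module.End.mul_eq_comp, Submodule.map_comp, ihj]; exact he
      rw [← hpow m, hm, Submodule.map_zero]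
    obtain ⟨ι, hι, n, v, hli, hsp, h1, h2, h3⟩ := ih _ hlt W' rfl
      (fun x hx μ => by
        obtain ⟨y, hy, rfl⟩ := hx
        refine ⟨π (μ - χ) y, hWπ y hy _, ?_⟩
        rw [← hπA, sub_add_cancel])
      (fun x hx => ⟨x, hle hx, rfl⟩)
    have hvW' : ∀ p, v p ∈ W' := fun p => hsp ▸ Submodule.subset_span ⟨p, rfl⟩
    have hpre : ∀ i : ι, ∃ x ∈ W, (∃ μ, x ∈ 𝒱 μ) ∧ A x = v ⟨i, Fin.last (n i)⟩ := fun i => by
      obtain ⟨μ, hμ⟩ := h1 ⟨i, Fin.last (n i)⟩
      obtain ⟨y, hy, hAy⟩ := hvW' ⟨i, Fin.last (n i)⟩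
      refine ⟨π (μ - χ) y, hWπ y hy _, ⟨_, hπmem _ _⟩, ?_⟩
      rw [← hπA, sub_add_cancel, hAy, hπself μ _ hμ]
    choose x hxW hxhom hxA using hpre
    let K := W ⊓ LinearMap.ker A
    let H : Set V := {z | z ∈ K ∧ ∃ μ, z ∈ 𝒱 μ}
    have hbot : Set.range (fun i => v ⟨i, 0⟩) ⊆ H := by
      rintro _ ⟨i, rfl⟩
      exact ⟨⟨hle (hvW' _), h2 i⟩, h1 _⟩
    have hinj : Function.Injective (fun i : ι => (⟨i, 0⟩ : Σ i : ι, Fin (n i + 1))) := fun a b h => congrArg Sigma.fst h
    obtain ⟨B, hBH, hbotB, hHB, hBli⟩ := exists_linearIndepOn_id_extension (hli.comp _ hinj).linearIndepOn_id hbot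
    have hBfin : B.Finite := hBli.setFinite
    let E : Set V := B \ Set.range (fun i => v ⟨i, 0⟩)
    haveI : Fintype E := (hBfin.subset Set.sdiff_subset).fintype
    haveI : Fintype B := hBfin.fintype
    let n' : ι ⊕ E → ℕ := Sum.elim (fun i => n i + 1) (fun _ => 0)
    let c : ∀ j : ι ⊕ E, Fin (n' j + 1) → V := fun j => match j with
      | .inl i => Fin.snoc (fun l => v ⟨i, l⟩) (x i)
      | .inr z => fun _ => z.1
    let v' : (Σ j : ι ⊕ E, Fin (n' j + 1)) → V := fun p => c p.1 p.2
    have hc : ∀ (i : ι) (l : Fin (n i + 1)), A (c (.inl i) l.succ) = v ⟨i, l⟩ := fun i l => by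
      refine Fin.lastCases ?_ (fun m => ?_) l
      · rw [Fin.succ_last]
        show A ((Fin.snoc (fun l => v ⟨i, l⟩) (x i) : Fin (n i + 2) → V) (Fin.last (n i + 1))) = _
        rw [Fin.snoc_last, hxA]
      · rw [← Fin.castSucc_succ]
        show A ((Fin.snoc (fun l => v ⟨i, l⟩) (x i) : Fin (n i + 2) → V) m.succ.castSucc) = _
        rw [Fin.snoc_castSucc, h3]
    have hc0 : ∀ i : ι, c (.inl i) 0 = v ⟨i, 0⟩ := fun i => by
      show (Fin.snoc (fun l => v ⟨i, l⟩) (x i) : Fin (n i + 2) → V) (Fin.castSucc 0) = _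
      rw [Fin.snoc_castSucc]
    have hcases : ∀ (i : ι) (P : V → Prop), P (x i) → (∀ m, P (v ⟨i, m⟩)) →
        ∀ l : Fin (n i + 2), P ((Fin.snoc (fun l => v ⟨i, l⟩) (x i) : Fin (n i + 2) → V) l) := fun i P hl hm l => by
      refine Fin.lastCases ?_ (fun m => ?_) l
      · rw [Fin.snoc_last]; exact hl
      · rw [Fin.snoc_castSucc]; exact hm m
    have hv'W : ∀ p, v' p ∈ W := by
      rintro ⟨i | z, l⟩
      · exact hcases i (· ∈ W) (hxW i) (fun m => hle (hvW' _)) l
      · exact (hBH z.2.1).1.1
    have hKB : K ≤ Submodule.span k B := fun z hz => by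
      rw [← DirectSum.sum_support_decompose 𝒱 z]
      refine Submodule.sum_mem _ fun μ _ => hHB ⟨⟨hWπ z hz.1 μ, ?_⟩, μ, hπmem μ z⟩
      show A (π μ z) = 0
      rw [← hπA, show A z = 0 from hz.2]
      simp [π]
    have hBsp : B ⊆ Submodule.span k (Set.range v') := fun z hz => by
      by_cases h : z ∈ Set.range (fun i => v ⟨i, 0⟩)
      · obtain ⟨i, rfl⟩ := h
        exact Submodule.subset_span ⟨⟨.inl i, 0⟩, hc0 i⟩
      · exact Submodule.subset_span ⟨⟨.inr ⟨z, hz, h⟩, 0⟩, rfl⟩
    have hspan : Submodule.span k (Set.range v') = W := by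
      refine le_antisymm (Submodule.span_le.2 fun z ⟨p, hp⟩ => hp ▸ hv'W p) fun z hz => ?_
      have h5 : A z ∈ (Submodule.span k (Set.range v')).map A := by
        have h6 : A z ∈ Submodule.span k (Set.range v) := hsp.ge ⟨z, hz, rfl⟩
        refine Submodule.span_le.2 ?_ h6
        rintro _ ⟨⟨i, l⟩, rfl⟩
        exact ⟨c (.inl i) l.succ, Submodule.subset_span ⟨⟨.inl i, l.succ⟩, rfl⟩, hc i l⟩
      obtain ⟨y, hy, hAy⟩ := h5
      have hyW : y ∈ W := (Submodule.span_le (R := k) (p := W)).2 (by rintro _ ⟨p, rfl⟩; exact hv'W p) hy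
      have h7 : z - y ∈ K := Submodule.mem_inf.2 ⟨W.sub_mem hz hyW, by show A (z - y) = 0; rw [map_sub, hAy, sub_self]⟩
      have h8 := Submodule.span_le.2 hBsp (hKB h7)
      simpa using add_mem h8 hy
    have hcard : Fintype.card (Σ j : ι ⊕ E, Fin (n' j + 1)) = Module.finrank k W := by
      have hK : Submodule.span k B = K := le_antisymm (Submodule.span_le.2 fun z hz => (hBH hz).1) hKB
      have e1 : Module.finrank k K = Fintype.card B := by
        rw [← hK, ← finrank_span_eq_card (b := fun z : B => (z : V)) hBli, Subtype.range_coe]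
      have e2 : Module.finrank k W' = Fintype.card (Σ i : ι, Fin (n i + 1)) := by
        rw [← hsp, finrank_span_eq_card hli]
      have e3 : Module.finrank k W' + Module.finrank k K = Module.finrank k W := by
        rw [← LinearMap.finrank_range_add_finrank_ker (A ∘ₗ W.subtype), LinearMap.range_comp,
          Submodule.range_subtype, LinearMap.ker_comp,
          ← (Submodule.comapSubtypeEquivOfLe (inf_le_left : K ≤ W)).finrank_eq,
          show K.comap W.subtype = (LinearMap.ker A).comap W.subtype by ext y; simp [K]]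
      have e4 : Fintype.card B = Fintype.card ι + Fintype.card E := by
        have hBc : B = Set.range (fun i => v ⟨i, 0⟩) ∪ E := (Set.union_sdiff_cancel hbotB).symm
        have hf : (Set.range (fun i => v ⟨i, 0⟩)).ncard = Fintype.card ι := by
          exact (Set.ncard_range_of_injective (hli.injective.comp hinj)).trans Nat.card_eq_fintype_card
        rw [← Nat.card_eq_fintype_card, Nat.card_coe_set_eq, hBc,
          Set.ncard_union_eq Set.disjoint_sdiff_right (Set.finite_range _) (hBfin.subset Set.sdiff_subset), hf,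
          ← Nat.card_eq_fintype_card (α := E), Nat.card_coe_set_eq]
      rw [← e3, e1, e2, e4]
      simp [Fintype.card_sigma, Fintype.sum_sum_type, n', Finset.sum_add_distrib]
    refine ⟨ι ⊕ E, inferInstance, n', v', ?_, hspan, ?_, ?_, ?_⟩
    · rw [linearIndependent_iff_card_eq_finrank_span, Set.finrank, hspan, hcard]
    · rintro ⟨i | z, l⟩
      · exact hcases i (fun y => ∃ μ, y ∈ 𝒱 μ) (hxhom i) (fun m => h1 ⟨i, m⟩) l
      · exact (hBH z.2.1).2
    · rintro (i | z)
      · show A (c (.inl i) 0) = 0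
        rw [hc0, h2]
      · exact (hBH z.2.1).1.2
    · rintro (i | z) l
      · show A (c (.inl i) (l : Fin (n i + 1)).succ) = (Fin.snoc (fun l => v ⟨i, l⟩) (x i) : Fin (n i + 2) → V) (l : Fin (n i + 1)).castSucc
        exact (hc i l).trans (Fin.snoc_castSucc (α := fun _ => V) (x i) (fun l => v ⟨i, l⟩) l).symm
      · exact l.elim0

end Groth.Agent.S18983
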