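import Groth.Statements.S18987
import Groth.Agent.Lib.AugId.Bridge
import Groth.Agent.Lib.HopfAG.UnipApp

set_option autoImplicit false
universe u
open TensorProduct
open HopfRep

namespace Groth.Agent.S18987

/-- In Hopf-algebra form, over an algebraically closed field k of characteristic zero, let A be a
finitely generated commutative Hopf algebra which is unipotent in the fixed-vector sense (the
coordinate ring of a unipotent group U), coacting multiplicatively on a finitely generated
commutative k-algebra R (an action of U on the affine scheme Spec R). Then an element f of R is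
invariant if and only if, for every ε-derivation ξ : A → k (every element of the Lie algebra of U),
applying ξ to the A-factor of the coaction of f gives zero (the infinitesimal action of ξ kills f). -/
theorem result
    (k : Type u) [Field k] [IsAlgClosed k] [CharZero k]
    (A : Type u) [CommRing A] [HopfAlgebra k A] [Algebra.FiniteType k A] (hU : HopfRep.IsUnipotent k A)
    (R : Type u) [CommRing R] [Algebra k R] [Algebra.FiniteType k R]
    [HopfRep.Comod k A R] [GLin.IsCoactAlg k A R] (f : R) :
    f ∈ GLin.invariants k A R ↔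
      ∀ ξ : LieHopf.Lie k A,
        LinearMap.lTensor R (ξ.toLinearMap.restrictScalars k) (HopfRep.Comod.coact (k := k) (A := A) f) = 0 := by
  constructor
  · intro hf ξ
    have hf' : HopfRep.Comod.coact (k := k) (A := A) f = f ⊗ₜ[k] (1 : A) := hf
    rw [hf', LinearMap.lTensor_tmul]
    show f ⊗ₜ[k] (ξ 1) = 0
    rw [Derivation.map_one_eq_zero, TensorProduct.tmul_zero]
  intro h
  have key := GrothLib.AugId.eq_zero_of_forall_op_mem (k := k) (A := A)
    (fun e he => GrothLib.Unip.idempotent_trivial hU he)
    {a | ∃ l : Module.Dual k R,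
      a = GrothLib.Comodule.cfMap (C := A) l f - algebraMap k A (l f)} ?_ ?_ ?_
  · show HopfRep.Comod.coact (k := k) (A := A) f = f ⊗ₜ[k] (1 : A)
    refine GrothLib.Comodule.ext_dual_left fun l => ?_
    rw [← GrothLib.Comodule.cfMap_apply, sub_eq_zero.mp (key _ ⟨l, rfl⟩)]
    simp [Algebra.algebraMap_eq_smul_one]
  · rintro _ ⟨l, rfl⟩
    rw [SetLike.mem_coe, RingHom.mem_ker, map_sub, AlgHom.commutes,
      show Bialgebra.counitAlgHom k A (GrothLib.Comodule.cfMap (C := A) l f) = l f from
        GrothLib.Comodule.counit_cfMap l f]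
    exact sub_self _
  · intro δ hδ a ha
    obtain ⟨l, rfl⟩ := ha
    obtain ⟨ξ, hξ⟩ := GrothLib.AugId.exists_lie δ hδ
    have h0 : GrothLib.Hopf.Comod.op δ f = 0 := by
      rw [show δ = GrothLib.AugId.lieForm ξ from LinearMap.ext fun a => (hξ a).symm]
      exact (GrothLib.AugId.lie_eq_zero_iff ξ f).mp (h ξ)
    refine ⟨0, ?_⟩
    rw [map_sub, GrothLib.AugId.cfMap_op, h0, map_zero, GrothLib.AugId.op_algebraMap hδ]
    simp [GrothLib.Comodule.cfMap_apply]
  · intro g hg a ha
    obtain ⟨l, rfl⟩ := ha
    have hfix : HopfRep.Comod.act k A R g f = f := by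
      rw [← sub_eq_zero, ← Module.forall_dual_apply_eq_zero_iff k]
      intro m
      have := hg _ ⟨m, rfl⟩
      have e : g (GrothLib.Comodule.cfMap (C := A) m f) = m (HopfRep.Comod.act k A R g f) :=
        GrothLib.AugId.apply_cfMap m g.toLinearMap f
      rw [map_sub, e, AlgHom.commutes] at this
      rw [map_sub]
      exact this
    refine ⟨l ∘ₗ HopfRep.Comod.act k A R g, ?_⟩
    rw [map_sub, GrothLib.AugId.tr_cfMap, AlgHom.commutes, LinearMap.comp_apply, hfix]

end Groth.Agent.S18987
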