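import Groth.Statements.S18988
import Groth.Agent.Lib.AugId.Bridge
import Groth.Agent.Lib.HopfAG.UnipApp

set_option autoImplicit false
universe u
open TensorProduct
open HopfRep

namespace Groth.Agent.S18988

/-- In Hopf-algebra form, over an algebraically closed field k of characteristic zero, let A be a
finitely generated commutative Hopf algebra which is unipotent in the fixed-vector sense (the
coordinate ring of a unipotent group U), coacting multiplicatively on a finitely generated
commutative k-algebra R. Then a k-subspace V of R is a subcomodule (is invariant under U) if and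
only if it is stable under the infinitesimal action of every ε-derivation ξ : A → k: for every v in
V, applying ξ to the A-factor of the coaction of v gives an element of the image of V ⊗ k in R ⊗ k. -/
theorem result
    (k : Type u) [Field k] [IsAlgClosed k] [CharZero k]
    (A : Type u) [CommRing A] [HopfAlgebra k A] [Algebra.FiniteType k A] (hU : HopfRep.IsUnipotent k A)
    (R : Type u) [CommRing R] [Algebra k R] [Algebra.FiniteType k R]
    [HopfRep.Comod k A R] [GLin.IsCoactAlg k A R] (V : Submodule k R) :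
    HopfRep.IsSubcomod (k := k) (A := A) V ↔
      ∀ (ξ : LieHopf.Lie k A) (v : R), v ∈ V →
        LinearMap.lTensor R (ξ.toLinearMap.restrictScalars k) (HopfRep.Comod.coact (k := k) (A := A) v) ∈
          LinearMap.range (LinearMap.rTensor (LieHopf.K k A) V.subtype) := by
  constructor
  · intro hV ξ v hv
    have h1 : GrothLib.Hopf.Comod.op (GrothLib.AugId.lieForm ξ) v ∈ V :=
      GrothLib.Comodule.isSubcomod_iff_op.mp hV _ v hv
    refine ⟨⟨_, h1⟩ ⊗ₜ[k] (1 : k), ?_⟩
    exact (TensorProduct.rid k R).injective ((one_smul k _).trans (GrothLib.AugId.rid_lie ξ v).symm)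
  intro h
  have key := GrothLib.AugId.eq_zero_of_forall_op_mem (k := k) (A := A)
    (fun e he => GrothLib.Unip.idempotent_trivial hU he)
    {a | ∃ (l : Module.Dual k R) (v : R), (∀ w ∈ V, l w = 0) ∧ v ∈ V ∧
      a = GrothLib.Comodule.cfMap (C := A) l v} ?_ ?_ ?_
  · refine GrothLib.Comodule.isSubcomod_iff_op.mpr fun φ v hv => ?_
    refine GrothLib.AugId.apply_eq_zero_of_forall_dual fun l hl => ?_
    rw [← GrothLib.AugId.apply_cfMap, key _ ⟨l, v, hl, hv, rfl⟩, map_zero]
  · rintro _ ⟨l, v, hl, hv, rfl⟩
    exact (GrothLib.Comodule.counit_cfMap l v).trans (hl v hv)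
  · intro δ hδ a ha
    obtain ⟨l, v, hl, hv, rfl⟩ := ha
    refine ⟨l, GrothLib.Hopf.Comod.op δ v, hl, ?_, GrothLib.AugId.cfMap_op l δ v⟩
    obtain ⟨ξ, hξ⟩ := GrothLib.AugId.exists_lie δ hδ
    rw [show δ = GrothLib.AugId.lieForm ξ from LinearMap.ext fun a => (hξ a).symm]
    obtain ⟨z, hz⟩ := h ξ v hv
    rw [← GrothLib.AugId.rid_lie, ← hz]
    exact (GrothLib.AugId.rid_rTensor V.subtype z).symm ▸ (TensorProduct.rid k V z).2
  · intro g hg a ha
    obtain ⟨l, v, hl, hv, rfl⟩ := ha
    refine ⟨l ∘ₗ HopfRep.Comod.act k A R g, v, fun w hw => ?_, hv, GrothLib.AugId.tr_cfMap g l v⟩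
    have e : g (GrothLib.Comodule.cfMap (C := A) l w) = l (HopfRep.Comod.act k A R g w) :=
      GrothLib.AugId.apply_cfMap l g.toLinearMap w
    rw [LinearMap.comp_apply, ← e]
    exact hg _ ⟨l, w, hl, hw, rfl⟩

end Groth.Agent.S18988
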