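import Groth.Statements.S18989
import Groth.Agent.Lib.AugId.Bridge
import Groth.Agent.Lib.HopfAG.UnipApp

set_option autoImplicit false
universe u
open TensorProduct
open HopfRep

namespace Groth.Agent.S18989

/-- An action of a unipotent group on an affine scheme is determined by its infinitesimal action. Over
an algebraically closed field k of characteristic zero, let A be a finitely generated commutative
Hopf algebra, unipotent in the fixed-vector sense, coacting multiplicatively on two finitely
generated commutative k-algebras R₁ and R₂, and let e : R₁ → R₂ be an algebra isomorphism which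
intertwines the two infinitesimal actions: for every ε-derivation ξ : A → k and every f in R₁,
applying ξ to the A-factor of the coaction of e(f) equals e ⊗ id applied to the same for f. Then e
intertwines the coactions: the coaction of e(f) is (e ⊗ id) of the coaction of f for all f. (With R₁
= R₂ and e the identity this says that two actions with the same infinitesimal action coincide,
which is the printed assertion.) -/
theorem result
    (k : Type u) [Field k] [IsAlgClosed k] [CharZero k]
    (A : Type u) [CommRing A] [HopfAlgebra k A] [Algebra.FiniteType k A] (hU : HopfRep.IsUnipotent k A)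
    (R₁ R₂ : Type u) [CommRing R₁] [Algebra k R₁] [Algebra.FiniteType k R₁]
    [HopfRep.Comod k A R₁] [GLin.IsCoactAlg k A R₁]
    [CommRing R₂] [Algebra k R₂] [Algebra.FiniteType k R₂]
    [HopfRep.Comod k A R₂] [GLin.IsCoactAlg k A R₂]
    (e : R₁ ≃ₐ[k] R₂)
    (h : ∀ (ξ : LieHopf.Lie k A) (f : R₁),
      LinearMap.lTensor R₂ (ξ.toLinearMap.restrictScalars k) (HopfRep.Comod.coact (k := k) (A := A) (e f)) =
        LinearMap.rTensor (LieHopf.K k A) e.toLinearMap
          (LinearMap.lTensor R₁ (ξ.toLinearMap.restrictScalars k) (HopfRep.Comod.coact (k := k) (A := A) f))) :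
    ∀ f : R₁, HopfRep.Comod.coact (k := k) (A := A) (e f) =
      LinearMap.rTensor A e.toLinearMap (HopfRep.Comod.coact (k := k) (A := A) f) := by
  have key := GrothLib.AugId.eq_zero_of_forall_op_mem (k := k) (A := A)
    (fun e' he => GrothLib.Unip.idempotent_trivial hU he)
    {a | ∃ (l : Module.Dual k R₂) (v : R₁),
      a = GrothLib.Comodule.cfMap (C := A) l (e v) -
        GrothLib.Comodule.cfMap (C := A) (l ∘ₗ e.toLinearMap) v} ?_ ?_ ?_
  · intro f
    refine GrothLib.Comodule.ext_dual_left fun l => ?_
    rw [← GrothLib.Comodule.cfMap_apply, sub_eq_zero.mp (key _ ⟨l, f, rfl⟩),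
      GrothLib.Comodule.cfMap_apply, LinearMap.rTensor_comp, LinearMap.comp_apply]
  · rintro _ ⟨l, v, rfl⟩
    rw [SetLike.mem_coe, RingHom.mem_ker, map_sub,
      show Bialgebra.counitAlgHom k A (GrothLib.Comodule.cfMap (C := A) l (e v)) = l (e v) from
        GrothLib.Comodule.counit_cfMap l (e v),
      show Bialgebra.counitAlgHom k A (GrothLib.Comodule.cfMap (C := A) (l ∘ₗ e.toLinearMap) v) = l (e v) from
        GrothLib.Comodule.counit_cfMap (l ∘ₗ e.toLinearMap) v]
    exact sub_self _
  · intro δ hδ a ha
    obtain ⟨l, v, rfl⟩ := ha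
    refine ⟨l, GrothLib.Hopf.Comod.op δ v, ?_⟩
    obtain ⟨ξ, hξ⟩ := GrothLib.AugId.exists_lie δ hδ
    have hδ' : δ = GrothLib.AugId.lieForm ξ := LinearMap.ext fun a => (hξ a).symm
    have h1 : GrothLib.Hopf.Comod.op δ (e v) = e (GrothLib.Hopf.Comod.op δ v) := by
      rw [hδ', ← GrothLib.AugId.rid_lie, h ξ v, ← GrothLib.AugId.rid_lie]
      exact GrothLib.AugId.rid_rTensor e.toLinearMap _
    rw [map_sub, GrothLib.AugId.cfMap_op, GrothLib.AugId.cfMap_op, h1]
  · intro g hg a ha
    obtain ⟨l, v, rfl⟩ := ha
    have hc : ∀ w, HopfRep.Comod.act k A R₂ g (e w) = e (HopfRep.Comod.act k A R₁ g w) := fun w => by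
      rw [← sub_eq_zero, ← Module.forall_dual_apply_eq_zero_iff k]
      intro m
      have e1 : g (GrothLib.Comodule.cfMap (C := A) m (e w)) = m (HopfRep.Comod.act k A R₂ g (e w)) :=
        GrothLib.AugId.apply_cfMap m g.toLinearMap (e w)
      have e2 : g (GrothLib.Comodule.cfMap (C := A) (m ∘ₗ e.toLinearMap) w) =
          m (e (HopfRep.Comod.act k A R₁ g w)) :=
        GrothLib.AugId.apply_cfMap (m ∘ₗ e.toLinearMap) g.toLinearMap w
      have := hg _ ⟨m, w, rfl⟩
      rw [map_sub, e1, e2] at this
      rwa [map_sub]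
    refine ⟨l ∘ₗ HopfRep.Comod.act k A R₂ g, v, ?_⟩
    rw [map_sub, GrothLib.AugId.tr_cfMap, GrothLib.AugId.tr_cfMap,
      show (l ∘ₗ HopfRep.Comod.act k A R₂ g) ∘ₗ e.toLinearMap = (l ∘ₗ e.toLinearMap) ∘ₗ HopfRep.Comod.act k A R₁ g from
        LinearMap.ext fun w => congrArg l (hc w)]

end Groth.Agent.S18989
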