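import Groth.Statements.S18992
-- import your own Groth.Agent.* helpers here
import Groth.Agent.Lib.LargeGrpLine15.Main

set_option autoImplicit false
universe u
open CategoryTheory MonoidalCategory CartesianMonoidalCategory MonObj GrpObj AlgebraicGeometry CategoryTheory.Limits
open AbVar

namespace Groth.Agent.S18992

/-- Let k be a perfect field, X a reduced separated k-scheme of finite type and n ≥ 0. Call large group
a commutative separated k-group scheme G locally of finite type given with a connected open subgroup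
scheme G⁰ (its neutral component) which is semiabelian: G⁰ has a closed subgroup scheme T that is a
torus and is the kernel of a flat surjective homomorphism from G⁰ onto an abelian variety (a proper
smooth connected k-group scheme). Suppose u : X → A is a k-morphism to a commutative k-group scheme
A which is universal for morphisms to large groups: every k-morphism from X to a large group G is u
followed by a unique homomorphism A → G. Then the composite of the first projection X ×_k 𝔸ⁿ_k → X
with u is universal for morphisms from X ×_k 𝔸ⁿ_k to large groups. (The Albanese scheme of X ×_k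
𝔸ⁿ_k is that of X, via the projection; the existence of u is taken as a hypothesis.) -/
theorem result (k : Type u) [Field k] [PerfectField k]
    (X : Over (Spec (CommRingCat.of k))) [IsReduced X.left] [IsSeparated X.hom] [QuasiCompact X.hom]
    [LocallyOfFiniteType X.hom] (n : ℕ)
    (A : Over (Spec (CommRingCat.of k))) [GrpObj A] [IsCommMonObj A] (u : X ⟶ A)
    (huniv : ∀ (G : Over (Spec (CommRingCat.of k))) [GrpObj G] [IsCommMonObj G] [IsSeparated G.hom] [LocallyOfFiniteType G.hom]
      (G0 : Over (Spec (CommRingCat.of k))) [GrpObj G0] (e : G0 ⟶ G) [IsMonHom e] [IsOpenImmersion e.left]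
      [ConnectedSpace ↥G0.left]
      (T : Over (Spec (CommRingCat.of k))) [GrpObj T] (i : T ⟶ G0) [IsMonHom i] [IsClosedImmersion i.left]
      (_ : Red.IsTorus T)
      (B : Over (Spec (CommRingCat.of k))) [GrpObj B] [IsProper B.hom] [Smooth B.hom] [ConnectedSpace ↥B.left]
      (q : G0 ⟶ B) [IsMonHom q] [Surjective q.left] [Flat q.left] (_ : AlgGrp.IsKernel i q)
      (φ : X ⟶ G), ∃! h : A ⟶ G, IsMonHom h ∧ u ≫ h = φ)
    (G : Over (Spec (CommRingCat.of k))) [GrpObj G] [IsCommMonObj G] [IsSeparated G.hom] [LocallyOfFiniteType G.hom]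
      (G0 : Over (Spec (CommRingCat.of k))) [GrpObj G0] (e : G0 ⟶ G) [IsMonHom e] [IsOpenImmersion e.left]
      [ConnectedSpace ↥G0.left]
      (T : Over (Spec (CommRingCat.of k))) [GrpObj T] (i : T ⟶ G0) [IsMonHom i] [IsClosedImmersion i.left]
      (_ : Red.IsTorus T)
      (B : Over (Spec (CommRingCat.of k))) [GrpObj B] [IsProper B.hom] [Smooth B.hom] [ConnectedSpace ↥B.left]
      (q : G0 ⟶ B) [IsMonHom q] [Surjective q.left] [Flat q.left] (_ : AlgGrp.IsKernel i q)
    (φ : X ⊗ Over.mk (Spec.map (CommRingCat.ofHom (algebraMap k (MvPolynomial (Fin n) k)))) ⟶ G) :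
    ∃! h : A ⟶ G, IsMonHom h ∧ fst X (Over.mk (Spec.map (CommRingCat.ofHom (algebraMap k (MvPolynomial (Fin n) k))))) ≫ u ≫ h = φ := by
  obtain ⟨ψ, hψ⟩ := GrothLib.LargeGrpLine15.factors_through_fst X n G G0 e T i ‹_› B q ‹_› φ
  obtain ⟨h, ⟨hm, hh⟩, hu⟩ := huniv G G0 e T i ‹_› B q ‹_› ψ
  let z : 𝟙_ (Over (Spec (CommRingCat.of k))) ⟶
      Over.mk (Spec.map (CommRingCat.ofHom (algebraMap k (MvPolynomial (Fin n) k)))) :=
    Over.homMk (Spec.map (CommRingCat.ofHom (MvPolynomial.aeval (fun _ => (0 : k))).toRingHom)) (by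
      show Spec.map _ ≫ Spec.map _ = 𝟙 _
      rw [← Spec.map_comp, ← Spec.map_id]
      exact congrArg Spec.map (CommRingCat.hom_ext (RingHom.ext fun r => (MvPolynomial.aeval fun _ => (0 : k)).commutes r)))
  refine ⟨h, ⟨hm, by rw [hh, hψ]⟩, fun h' hh' => hu h' ⟨hh'.1, ?_⟩⟩
  have e' := congrArg (fun w => lift (𝟙 X) (toUnit X ≫ z) ≫ w) (hh'.2.trans hψ)
  simpa only [lift_fst_assoc, Category.id_comp] using e'

end Groth.Agent.S18992
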