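import Groth.Statements.S18994
import Groth.Agent.Lib.Elem.QuadricBasis

set_option autoImplicit false
universe u
open TernForm

namespace Groth.Agent.S18994

/-- Let R be a commutative ring, j ∈ {0, 1, 2}, q a homogeneous polynomial of degree 2 in R[X_0, X_1,
X_2] whose coefficient of X_j^2 is a unit, and n a natural number. Then the family consisting of the
monomials of degree n not divisible by X_j^2 (exponent of X_j at most 1) together with the products
q · m, m running over the monomials of degree n − 2 (indexed by exponents m with |m| + 2 = n), is
linearly independent over R and spans exactly the homogeneous polynomials of degree n; in particular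
it is a basis of that module and the two parts are disjoint. (The published lemma is stated over a
field with the coefficient nonzero, the special case of a field R here; the version over a ring with
the coefficient invertible is what its change-of-basis argument gives — ordering monomials by
decreasing exponent of X_j makes the matrix triangular with diagonal entries 1 and that coefficient
— and is the form used to trivialise the bundle of degree-n forms modulo multiples of q over the
locus where the coefficient is invertible. The published lemma also allows an arbitrary monomial of
degree 2 in place of X_j^2; for the mixed monomial X_1X_2, the form q = X_1^2 + X_1X_2 + X_2^2 and n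
= 3 give the linear relation q·X_1 − q·X_2 = X_1^3 − X_2^3 among members of the family, so the claim
fails there and is stated here for the square of a variable.) -/
theorem result
    (R : Type u) [CommRing R] (j : Fin 3) (q : MvPolynomial (Fin 3) R)
    (hq : q.IsHomogeneous 2) (hqj : IsUnit (q.coeff (Finsupp.single j 2))) (n : ℕ) :
    LinearIndependent R (Sum.elim (fun m : {m : Fin 3 →₀ ℕ // m.degree = n ∧ m j < 2} => MvPolynomial.monomial m.1 (1 : R)) (fun m : {m : Fin 3 →₀ ℕ // m.degree + 2 = n} => q * MvPolynomial.monomial m.1 (1 : R))) ∧
      Submodule.span R (Set.range (Sum.elim (fun m : {m : Fin 3 →₀ ℕ // m.degree = n ∧ m j < 2} => MvPolynomial.monomial m.1 (1 : R)) (fun m : {m : Fin 3 →₀ ℕ // m.degree + 2 = n} => q * MvPolynomial.monomial m.1 (1 : R)))) = MvPolynomial.homogeneousSubmodule (Fin 3) R n := by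
  exact QuadricBasis.linearIndependent_and_span j q hq hqj n

end Groth.Agent.S18994
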