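import Groth.Statements.S1900
-- import your own Groth.Agent.* helpers here
import Groth.Agent.Lib.CycP1.Cycle

set_option autoImplicit false
universe u
open CategoryTheory AlgebraicGeometry
open CategoryTheory.Limits
open Cyc

namespace Groth.Agent.S1900

/-- Let W → P^1_X be a closed immersion with W integral of δ-dimension k + 1 (for the dimension function
on P^1_X induced from δ on X), whose generic point lies neither over the zero section nor over the
section at infinity. Let W_0, W_∞ → X be the pullbacks of W along the two sections X → P^1_X (closed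
subschemes of X). Then [W_0]_k ∼_rat [W_∞]_k on X. A pair (X, δ) with Cyc.IsSetup plays the role of
a scheme locally of finite type over a fixed base with a dimension function (X locally Noetherian
with universally catenary local rings, δ a dimension function), and Cyc.DeltaCompat records that the
dimension function upstairs is the induced one. -/
theorem result (X : Scheme.{u}) (δ : X → ℤ) (hX : Cyc.IsSetup X δ) (δP : ↥(CohB1.ProjSpaceOver 1 X) → ℤ) (hP : Cyc.DeltaCompat (CohB1.ProjSpaceOver.toBase 1 X) δP δ) (k : ℤ) (W : Scheme.{u}) [IsIntegral W] (ι : W ⟶ CohB1.ProjSpaceOver 1 X) [IsClosedImmersion ι] (hW : δP (ι (genericPoint W)) = k + 1) (h0 : ι (genericPoint W) ∉ Set.range ⇑(P1.sect X 0)) (h1 : ι (genericPoint W) ∉ Set.range ⇑(P1.sect X 1)) (α β : AlgebraicCycle X ℤ) (hα : ⇑α = Cyc.subschemeFun δ k (pullback.snd ι (P1.sect X 0))) (hβ : ⇑β = Cyc.subschemeFun δ k (pullback.snd ι (P1.sect X 1))) : Cyc.RatEquiv δ k α β := by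
  classical
  haveI := hX.1
  set ξ := ι (genericPoint W) with hξ
  have hval : ∀ x, (α - β) x = if δP ξ = δ (CohB1.ProjSpaceOver.toBase 1 X ξ) then
      Cyc.divFun δ (CohB1.ProjSpaceOver.toBase 1 X ξ)
        (Cyc.normGen (CohB1.ProjSpaceOver.toBase 1 X) ξ (GrothLib.CycP1.t h1)) x else 0 := fun x => by
    show (α x - β x : ℤ) = _
    rw [hα, hβ]
    exact GrothLib.CycP1.fibre_sub_fibre ι hX hP rfl hW h0 h1 x
  by_cases he : δP ξ = δ (CohB1.ProjSpaceOver.toBase 1 X ξ)
  · refine ⟨PUnit, fun _ => CohB1.ProjSpaceOver.toBase 1 X ξ, fun _ => _, fun _ => he.symm.trans hW,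
      fun _ => GrothLib.CycP1.normGen_t_ne_zero hP h0 h1 he,
      fun x => ⟨Set.univ, isOpen_univ, trivial, Set.toFinite _⟩, fun x => ?_⟩
    rw [hval, if_pos he, finsum_unique]
  · refine ⟨PEmpty, PEmpty.elim, fun i => i.elim, fun i => i.elim, fun i => i.elim,
      fun x => ⟨Set.univ, isOpen_univ, trivial, Set.toFinite _⟩, fun x => ?_⟩
    rw [hval, if_neg he, finsum_of_isEmpty]

end Groth.Agent.S1900
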