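import Groth.Statements.S19001
import Groth.Agent.Lib.ConstDeg29.Main

set_option autoImplicit false
universe u
open CategoryTheory CategoryTheory.Limits AlgebraicGeometry
open FBase

namespace Groth.Agent.S19001

/-- Let f : Z → X be a finite surjective morphism of integral schemes proper over a field k, with X
normal, and let d = [k(Z) : k(X)] be its degree on function fields (the residue fields at the
generic point of Z and at its image, the generic point of X). Write k_X = H^0(X, O_X) and k_Z =
H^0(Z, O_Z) (fields, finite over k). If X is geometrically reduced over k_X — X ×_{k_X} E is reduced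
for every field E over k_X, i.e. k(X) is separable over k_X — then [k_Z : k_X] divides d. (The
published statement does not assume that X is geometrically reduced over k_X; without that
hypothesis the divisibility fails: for k_0 = F_p(s, t), X the normal proper curve with function
field k_0(x, y), y^p = s + t x^p, and Z the projective line over k_0(s^{1/p}, t^{1/p}) mapping to X,
one has d = p but [k_Z : k_X] = p^2.) -/
theorem result (k : Type u) [Field k]
    (X Z : Scheme.{u}) [X.Over (Spec (CommRingCat.of k))] [Z.Over (Spec (CommRingCat.of k))]
    [IsIntegral X] [IsIntegral Z]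
    [IsProper (X ↘ Spec (CommRingCat.of k))] [IsProper (Z ↘ Spec (CommRingCat.of k))]
    (hXn : ∀ x : X, IsIntegrallyClosed (X.presheaf.stalk x))
    (f : Z ⟶ X) (hf : f ≫ (X ↘ Spec (CommRingCat.of k)) = Z ↘ Spec (CommRingCat.of k))
    [IsFinite f] [Surjective f]
    (hgr : ∀ (E : Type u) [Field E] (i : Γ(X, ⊤) →+* E),
      AlgebraicGeometry.IsReduced (pullback X.toSpecΓ (Spec.map (CommRingCat.ofHom i)))) :
    letI := f.appTop.hom.toAlgebra;
    letI := (f.residueFieldMap (genericPoint Z)).hom.toAlgebra;
    Module.finrank Γ(X, ⊤) Γ(Z, ⊤) ∣ Module.finrank (X.residueField (f.base (genericPoint Z))) (Z.residueField (genericPoint Z)) := by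
  exact GrothLib.ConstDeg29.main k hXn f hf hgr

end Groth.Agent.S19001
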