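import Groth.Statements.S19004
import Mathlib

set_option autoImplicit false
open GIT

namespace Groth.Agent.S19004

open MvPolynomial in
theorem coeff_prod_pow (n : ℕ) (σ : Equiv.Perm (Fin n)) (τ : Equiv.Perm (Fin n)) :
    coeff (Finsupp.equivFunOnFinite.symm (fun _ : Fin n => n - 1))
      ((∏ i, (X i : MvPolynomial (Fin n) ℤ) ^ (σ i : ℕ)) * ∏ i, X i ^ ((τ i).rev : ℕ)) =
      if σ = τ then 1 else 0 := by
  classical
  rw [← Finset.prod_mul_distrib]
  have : (∏ i, (X i : MvPolynomial (Fin n) ℤ) ^ (σ i : ℕ) * X i ^ ((τ i).rev : ℕ)) =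
      monomial (Finsupp.equivFunOnFinite.symm fun i => (σ i : ℕ) + ((τ i).rev : ℕ)) 1 := by
    rw [monomial_eq, C_1, one_mul, Finsupp.prod_fintype _ _ (fun i => pow_zero _)]
    exact Finset.prod_congr rfl fun i _ => by simp [pow_add]
  rw [this, coeff_monomial]
  congr 1
  apply propext
  constructor
  · intro h
    ext i
    have := congrFun (congrArg Finsupp.equivFunOnFinite h) i
    simp [Fin.val_rev] at this
    omega
  · rintro rfl
    ext i
    simp [Fin.val_rev]
    omega

open MvPolynomial in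
theorem split_prod (n : ℕ) (g : Fin n → Fin n → MvPolynomial (Fin n) ℤ) :
    ∏ i, ∏ j ∈ Finset.univ.erase i, g i j =
      (∏ i, ∏ j ∈ Finset.Ioi i, g j i) * ∏ i, ∏ j ∈ Finset.Ioi i, g i j := by
  classical
  have h : ∀ i : Fin n, Finset.univ.erase i = Finset.Iio i ∪ Finset.Ioi i := fun i => by
    ext j; simp [lt_or_lt_iff_ne]
  rw [Finset.prod_congr rfl fun i _ => by
    rw [h i, Finset.prod_union (Finset.disjoint_left.2 fun j hj hj' =>
      absurd (Finset.mem_Iio.1 hj) (not_lt.2 (Finset.mem_Ioi.1 hj').le))], Finset.prod_mul_distrib]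
  congr 1
  exact Finset.prod_comm' (fun i j => by simp)

/-- For the group PGL(n) acting on the space of n × n matrices the T-quotient is (P^{n−1})^n with Chow
ring ℚ[t_1,…,t_n]/(t_1^n,…,t_n^n), the class c_top(g/t) is the product of all roots t_i − t_j (i ≠
j), and the computation in the proof shows that this product equals n!·t_1^{n−1}⋯t_n^{n−1} in that
ring. Stated here as the equivalent coefficient identity in ℤ[t_1,…,t_n]: the coefficient of
t_1^{n−1}⋯t_n^{n−1} in the product over ordered pairs i ≠ j of (t_i − t_j) is n!. -/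
theorem result (n : ℕ) :
    MvPolynomial.coeff (Finsupp.equivFunOnFinite.symm (fun _ : Fin n => n - 1))
      (∏ i : Fin n, ∏ j ∈ Finset.univ.erase i, (MvPolynomial.X i - MvPolynomial.X j : MvPolynomial (Fin n) ℤ)) = (n.factorial : ℤ) := by
  classical
  have h2 : (Matrix.projVandermonde (fun _ => (1 : MvPolynomial (Fin n) ℤ)) MvPolynomial.X).det =
      ∏ i : Fin n, ∏ j ∈ Finset.Ioi i, (MvPolynomial.X i - MvPolynomial.X j) := by
    rw [Matrix.det_projVandermonde]
    simp
  rw [split_prod n (fun i j => (MvPolynomial.X i - MvPolynomial.X j : MvPolynomial (Fin n) ℤ)),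
    ← Matrix.det_vandermonde, ← h2, ← Matrix.det_transpose (Matrix.vandermonde _),
    ← Matrix.det_transpose (Matrix.projVandermonde _ _), Matrix.det_apply', Matrix.det_apply',
    Finset.sum_mul, MvPolynomial.coeff_sum]
  simp only [Finset.mul_sum, MvPolynomial.coeff_sum, Matrix.transpose_apply, Matrix.vandermonde_apply,
    Matrix.projVandermonde_apply, one_pow, one_mul]
  rw [Finset.sum_eq_card_nsmul (b := (1 : ℤ)), Finset.card_univ, Fintype.card_perm, Fintype.card_fin]
  · simp
  intro σ _
  rw [Finset.sum_eq_single σ]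
  · rw [mul_mul_mul_comm, ← Int.cast_mul, ← Units.val_mul, Int.units_mul_self, Units.val_one,
      Int.cast_one, one_mul, coeff_prod_pow, if_pos rfl]
  · intro τ _ hτ
    rw [mul_mul_mul_comm, ← Int.cast_mul,
      ← eq_intCast (MvPolynomial.C : ℤ →+* MvPolynomial (Fin n) ℤ), MvPolynomial.coeff_C_mul,
      coeff_prod_pow, if_neg (Ne.symm hτ), mul_zero]
  · simp

end Groth.Agent.S19004
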