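import Groth.Statements.S19005
-- no helpers

set_option autoImplicit false
open scoped TensorProduct
open K2Cent

namespace Groth.Agent.S19005

/-- For abelian groups X and M and ε in M with 2ε = 0 (in the source X is the character group of a split
torus and ε is the class of −1 among the units), the map x ↦ (x ⊗ x, −(x ⊗ ε)) into (X ⊗ X) × (X ⊗
M) is quadratic over ℤ, i.e. it underlies an integer quadratic map with exactly these values. -/
theorem result (X M : Type*) [AddCommGroup X]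
    [AddCommGroup M] (ε : M) (hε : 2 • ε = 0) :
    ∃ R : QuadraticMap ℤ X (TensorProduct ℤ X X × TensorProduct ℤ X M),
      ∀ x : X, R x = (x ⊗ₜ[ℤ] x, -(x ⊗ₜ[ℤ] ε)) := by
  refine ⟨{ toFun := fun x => (x ⊗ₜ[ℤ] x, -(x ⊗ₜ[ℤ] ε)), toFun_smul := fun a x => ?_,
            exists_companion' := ⟨LinearMap.mk₂ ℤ (fun x y => (x ⊗ₜ[ℤ] y + y ⊗ₜ[ℤ] x, (0 : TensorProduct ℤ X M))) ?_ ?_ ?_ ?_, fun x y => ?_⟩ },
          fun x => rfl⟩
  · have h2 : (2 : ℤ) • (x ⊗ₜ[ℤ] ε) = 0 := by
      rw [← TensorProduct.tmul_smul, show (2 : ℤ) • ε = (2 : ℕ) • ε from natCast_zsmul ε 2, hε, TensorProduct.tmul_zero]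
    obtain ⟨k, hk⟩ : (2 : ℤ) ∣ a * a - a := by
      rcases Int.even_or_odd a with ⟨c, rfl⟩ | ⟨c, rfl⟩
      · exact ⟨2 * c * c - c, by ring⟩
      · exact ⟨2 * c * c + c, by ring⟩
    refine Prod.ext ?_ ?_
    · simp [TensorProduct.smul_tmul', TensorProduct.tmul_smul, smul_smul]
    · simp only [Prod.smul_snd, ← TensorProduct.smul_tmul', smul_neg, neg_inj]
      have : (a * a) • (x ⊗ₜ[ℤ] ε) = ((a * a - a) + a) • (x ⊗ₜ[ℤ] ε) := by rw [sub_add_cancel]
      rw [this, add_smul, hk, mul_comm, mul_smul, h2, smul_zero, zero_add]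
  · intro x x' y; simp [TensorProduct.add_tmul, TensorProduct.tmul_add, add_add_add_comm]
  · intro c x y; simp [TensorProduct.smul_tmul', TensorProduct.tmul_smul]
  · intro x y y'; simp [TensorProduct.add_tmul, TensorProduct.tmul_add, add_add_add_comm]
  · intro c x y; simp [TensorProduct.smul_tmul', TensorProduct.tmul_smul]
  · simp [TensorProduct.add_tmul, TensorProduct.tmul_add]
    constructor <;> abel

end Groth.Agent.S19005
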