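import Groth.Statements.S19007
import Groth.Agent.Lib.RootDatum.Quad

set_option autoImplicit false
universe u v w x
open RootD

namespace Groth.Agent.S19007

open GrothLib.RootDatum


/-- Let P be a finite reduced crystallographic root pairing over an integral domain of characteristic
zero, b a base of P (a system of simple roots) and Q a quadratic form on the coweight module with
polar form B. Then Q is invariant under all root reflections (equivalently under the Weyl group) on
the span of the coroots if and only if for all pairs of distinct simple roots α_i ≠ α_j one has
B(α_i^∨, α_j^∨) = ⟨α_j, α_i^∨⟩ Q(α_j^∨). (In the source the form is integer-valued on the lattice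
spanned by the coroots and the condition says that the bilinear form lies in the kernel of the last
map of a three-term complex built from the Bruhat cells of codimension at most two; here the form
takes values in the base ring.) -/
theorem result {ι : Type u} {R : Type v} {M : Type w} {N : Type x} [CommRing R] [IsDomain R] [CharZero R]
    [AddCommGroup M] [Module R M] [AddCommGroup N] [Module R N] (P : RootPairing ι R M N)
    [Finite ι] [P.IsCrystallographic] [P.IsReduced] (b : P.Base) (Q : QuadraticMap R N R) :
    (∀ i : ι, ∀ y ∈ Submodule.span R (Set.range P.coroot), Q (P.coreflection i y) = Q y) ↔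
      ∀ i ∈ b.support, ∀ j ∈ b.support, i ≠ j →
        QuadraticMap.polar Q (P.coroot i) (P.coroot j) = P.pairing j i * Q (P.coroot j) := by
  set S := Submodule.span R (Set.range P.coroot)
  have hc : ∀ k, P.coroot k ∈ S := fun k => Submodule.subset_span ⟨k, rfl⟩
  have hstab : ∀ k, ∀ y ∈ S, P.coreflection k y ∈ S := fun k y hy => by
    rw [RootPairing.coreflection_apply]
    exact sub_mem hy (S.smul_mem _ (hc k))
  constructor
  · intro h i _ j _ _
    rw [(invariant_iff P Q S (hc j)).mp (h j) _ (hc i)]
    rfl
  · intro h
    have hsimple : ∀ j ∈ b.support, ∀ y ∈ S, Q (P.coreflection j y) = Q y := by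
      intro j hj
      refine (invariant_iff P Q S (hc j)).mpr fun y hy => ?_
      have hy' : y ∈ Submodule.span R (P.coroot '' b.support) := by
        rw [b.span_coroot_support]; exact hy
      clear hy
      induction hy' using Submodule.span_induction with
      | mem z hz =>
        obtain ⟨i, hi, rfl⟩ := hz
        rcases eq_or_ne i j with rfl | hne
        · rw [root'_coroot_self, QuadraticMap.polar_self, two_nsmul, two_mul]
        · exact h i hi j hj hne
      | zero => simp
      | add a c _ _ ha hc' => rw [QuadraticMap.polar_add_left, map_add, add_mul, ha, hc']
      | smul t a _ ha => rw [QuadraticMap.polar_smul_left, map_smul, ha, smul_eq_mul, smul_eq_mul, mul_assoc]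
    intro i
    refine b.induction_reflect i (p := fun k => ∀ y ∈ S, Q (P.coreflection k y) = Q y) ?_ hsimple ?_
    · intro k hk y hy
      rw [coreflection_reflectionPerm, hk _ (hstab k _ (hstab k _ hy)), hk _ (hstab k _ hy), hk _ hy]
    · intro k j hk hj y hy
      rw [coreflection_reflectionPerm, hsimple j hj _ (hstab k _ (hstab j _ hy)), hk _ (hstab j _ hy),
        hsimple j hj _ hy]

end Groth.Agent.S19007
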