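import Groth.Statements.S19008
import Groth.Agent.Lib.RootDatum.Cartan
import Groth.Agent.Lib.RootDatum.Base

set_option autoImplicit false
universe u v w x
open RootD

namespace Groth.Agent.S19008

open GrothLib.RootDatum in
/-- In every nonempty set of edges of the diagram some vertex meets exactly one edge, with unit coefficient. -/
theorem exists_unit_leaf {ι R M N : Type*} [CommRing R] [IsDomain R] [CharZero R] [AddCommGroup M] [Module R M]
    [AddCommGroup N] [Module R N] (P : RootPairing ι R M N) [Fintype ι] [P.IsCrystallographic]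
    (s : Finset ι) (hli : LinearIndepOn ℤ P.root (s : Set ι))
    (hnp : ∀ i ∈ s, ∀ j ∈ s, i ≠ j → pz P i j ≤ 0) (H : Finset (ι × ι)) (hne : H.Nonempty)
    (hsym : ∀ i j, (i, j) ∈ H → (j, i) ∈ H)
    (hH : ∀ i j, (i, j) ∈ H → i ∈ s ∧ j ∈ s ∧ i ≠ j ∧ pz P i j ≠ 0) :
    ∃ i j, (i, j) ∈ H ∧ pz P i j = -1 ∧ ∀ k, (i, k) ∈ H → k = j := by
  classical
  by_contra hcon
  push Not at hcon
  let D : ι → Finset ι := fun i => s.filter fun j => (i, j) ∈ H
  let x : ι → ℤ := fun i => if (D i).card = 0 then 0 else if (D i).card = 1 then 1 else 2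
  let w : ι → ℤ := fun i => if (D i).card = 1 then 2 * qf P i i else 4 * qf P i i
  have hx : ∀ i, 0 ≤ x i := fun i => by dsimp only [x]; split_ifs <;> norm_num
  have hq : ∀ i, 0 < qf P i i := fun i => qf_self_pos P i
  have hpos : ∀ i j, (i, j) ∈ H → 0 < (D i).card := fun i j h =>
    Finset.card_pos.2 ⟨j, Finset.mem_filter.2 ⟨(hH i j h).2.1, h⟩⟩
  have hedge : ∀ i j, (i, j) ∈ H → 2 * qf P i j ≤ -qf P j j ∧ ((D i).card = 1 → 2 * qf P i j ≤ -2 * qf P j j) := by
    intro i j h
    obtain ⟨hi, hj, hij, ha⟩ := hH i j h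
    have h1 : pz P i j ≤ -1 := by have := hnp i hi j hj hij; omega
    refine ⟨by rw [two_qf]; nlinarith [hq j], fun hcard => ?_⟩
    have h2 : pz P i j ≤ -2 := by
      rcases eq_or_ne (pz P i j) (-1) with he | he
      · obtain ⟨k, hk, hkj⟩ := hcon i j h he
        exact absurd (Finset.card_le_one.1 hcard.le k (Finset.mem_filter.2 ⟨(hH i k hk).2.1, hk⟩) j
          (Finset.mem_filter.2 ⟨hj, h⟩)) hkj
      · omega
    rw [two_qf]; nlinarith [hq j]
  have hpair : ∀ i j, (i, j) ∈ H → 4 * (x i * x j * qf P i j) ≤ -(w i + w j) := by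
    intro i j h
    obtain ⟨a1, a2⟩ := hedge i j h
    obtain ⟨b1, b2⟩ := hedge j i (hsym i j h)
    rw [qf_comm P j i] at b1 b2
    have c1 := hpos i j h
    have c2 := hpos j i (hsym i j h)
    have hxi : (D i).card = 1 ∧ x i = 1 ∧ w i = 2 * qf P i i ∨ x i = 2 ∧ w i = 4 * qf P i i := by
      dsimp only [x, w]; rw [if_neg c1.ne']
      rcases eq_or_ne (D i).card 1 with e | e
      · exact Or.inl ⟨e, if_pos e, if_pos e⟩
      · exact Or.inr ⟨if_neg e, if_neg e⟩
    have hxj : (D j).card = 1 ∧ x j = 1 ∧ w j = 2 * qf P j j ∨ x j = 2 ∧ w j = 4 * qf P j j := by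
      dsimp only [x, w]; rw [if_neg c2.ne']
      rcases eq_or_ne (D j).card 1 with e | e
      · exact Or.inl ⟨e, if_pos e, if_pos e⟩
      · exact Or.inr ⟨if_neg e, if_neg e⟩
    rcases hxi with ⟨ei, hxi, hwi⟩ | ⟨hxi, hwi⟩ <;> rcases hxj with ⟨ej, hxj, hwj⟩ | ⟨hxj, hwj⟩ <;>
      rw [hxi, hxj, hwi, hwj]
    · linarith [a2 ei, b2 ej]
    · linarith [a2 ei]
    · linarith [b2 ej]
    · linarith
  have hbound : ∀ i ∈ s, ∀ j ∈ s, 4 * (x i * x j * qf P i j) ≤
      (if i = j then 4 * (x i * x i * qf P i i) else 0) - (if (i, j) ∈ H then w i else 0) -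
        (if (j, i) ∈ H then w j else 0) := by
    intro i hi j hj
    rcases eq_or_ne i j with rfl | hij
    · have : (i, i) ∉ H := fun h => (hH i i h).2.2.1 rfl
      simp [this]
    · rw [if_neg hij]
      by_cases h : (i, j) ∈ H
      · rw [if_pos h, if_pos (hsym i j h)]
        linarith [hpair i j h]
      · rw [if_neg h, if_neg fun h' => h (hsym j i h')]
        have h1 : qf P i j ≤ 0 := by
          have := two_qf P i j
          nlinarith [hnp i hi j hj hij, hq j]
        nlinarith [mul_nonpos_of_nonneg_of_nonpos (mul_nonneg (hx i) (hx j)) h1]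
  have hdiag : ∀ i, 4 * (x i * x i * qf P i i) ≤ 2 * ((D i).card * w i) := by
    intro i
    dsimp only [x, w]
    rcases eq_or_ne (D i).card 0 with e0 | e0
    · simp [e0]
    rw [if_neg e0]
    rcases eq_or_ne (D i).card 1 with e1 | e1
    · rw [if_pos e1, if_pos e1, e1]; push_cast; linarith [hq i]
    · rw [if_neg e1, if_neg e1]
      have h2 : (2 : ℤ) ≤ (D i).card := by exact_mod_cast (show 2 ≤ (D i).card by omega)
      nlinarith [hq i, mul_le_mul_of_nonneg_right h2 (hq i).le]
  have hle : ∑ i ∈ s, ∑ j ∈ s, 4 * (x i * x j * qf P i j) ≤ 0 := by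
    refine (Finset.sum_le_sum fun i hi => Finset.sum_le_sum fun j hj => hbound i hi j hj).trans ?_
    simp only [Finset.sum_sub_distrib]
    rw [Finset.sum_comm (f := fun i j => if (j, i) ∈ H then w j else 0)]
    have e : ∀ i ∈ s, (∑ j ∈ s, if (i, j) ∈ H then w i else 0) = (D i).card * w i := fun i _ => by
      rw [← Finset.sum_filter, Finset.sum_const, nsmul_eq_mul]
    rw [Finset.sum_congr rfl e]
    have e' : ∀ i ∈ s, (∑ j ∈ s, if i = j then 4 * (x i * x i * qf P i i) else 0) =
        4 * (x i * x i * qf P i i) := fun i hi => by simp [hi]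
    rw [Finset.sum_congr rfl e']
    linarith [Finset.sum_le_sum (fun i (_ : i ∈ s) => hdiag i), Finset.mul_sum s (fun i => ((D i).card : ℤ) * w i) 2]
  have hsq : ∑ i ∈ s, ∑ j ∈ s, 4 * (x i * x j * qf P i j) = 4 * ∑ q, (∑ i ∈ s, x i * pz P i q) ^ 2 := by
    calc ∑ i ∈ s, ∑ j ∈ s, 4 * (x i * x j * qf P i j)
        = ∑ i ∈ s, ∑ j ∈ s, ∑ q, 4 * ((x i * pz P i q) * (x j * pz P j q)) := by
          refine Finset.sum_congr rfl fun i _ => Finset.sum_congr rfl fun j _ => ?_
          rw [qf_def, Finset.mul_sum, Finset.mul_sum]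
          exact Finset.sum_congr rfl fun q _ => by ring
      _ = ∑ i ∈ s, ∑ q, ∑ j ∈ s, 4 * ((x i * pz P i q) * (x j * pz P j q)) :=
          Finset.sum_congr rfl fun i _ => Finset.sum_comm
      _ = ∑ q, ∑ i ∈ s, ∑ j ∈ s, 4 * ((x i * pz P i q) * (x j * pz P j q)) := Finset.sum_comm
      _ = _ := by
          rw [Finset.mul_sum]
          refine Finset.sum_congr rfl fun q _ => ?_
          rw [sq, Finset.sum_mul_sum, Finset.mul_sum]
          exact Finset.sum_congr rfl fun i _ => (Finset.mul_sum _ _ _).symm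
  have hz : ∀ q, ∑ i ∈ s, x i * pz P i q = 0 := fun q => pow_eq_zero_iff (n := 2) (by norm_num) |>.1 <|
    le_antisymm (by
      have := Finset.single_le_sum (fun q _ => sq_nonneg (∑ i ∈ s, x i * pz P i q)) (Finset.mem_univ q)
      linarith [hsq ▸ hle]) (sq_nonneg _)
  have hzero : (fun a : s => x a) = 0 := pairingMat_vecMul_injective P hli (by
    ext q
    show Matrix.vecMul _ (pairingMat P s) q = Matrix.vecMul 0 (pairingMat P s) q
    rw [Matrix.zero_vecMul, Pi.zero_apply]
    refine Eq.trans ?_ (hz q)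
    simp only [Matrix.vecMul, dotProduct, pairingMat, Matrix.of_apply]
    exact Finset.sum_coe_sort s (fun i => x i * pz P i q))
  obtain ⟨⟨i, j⟩, hij⟩ := hne
  have := congrFun hzero ⟨i, (hH i j hij).1⟩
  have hd := hpos i j hij
  simp only [x, Pi.zero_apply, if_neg hd.ne'] at this
  split_ifs at this <;> omega

open GrothLib.RootDatum in
theorem exists_coeffs {ι R M N : Type*} [CommRing R] [IsDomain R] [CharZero R] [AddCommGroup M] [Module R M]
    [AddCommGroup N] [Module R N] (P : RootPairing ι R M N) [Fintype ι] [P.IsCrystallographic]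
    (s : Finset ι) (hli : LinearIndepOn ℤ P.root (s : Set ι))
    (hnp : ∀ i ∈ s, ∀ j ∈ s, i ≠ j → pz P i j ≤ 0) (d : ι → ι → ℤ) (H : Finset (ι × ι))
    (hsym : ∀ i j, (i, j) ∈ H → (j, i) ∈ H)
    (hH : ∀ i j, (i, j) ∈ H → i ∈ s ∧ j ∈ s ∧ i ≠ j ∧ pz P i j ≠ 0) :
    ∃ c : ι → ℤ, ∀ i j, (i, j) ∈ H → pz P i j * c i - pz P j i * c j = d i j - d j i := by
  classical
  induction H using Finset.strongInduction with
  | H H ih =>
    rcases H.eq_empty_or_nonempty with rfl | hne
    · exact ⟨0, by simp⟩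
    obtain ⟨i, j, hij, ha, huniq⟩ := exists_unit_leaf P s hli hnp H hne hsym hH
    let H' := (H.erase (i, j)).erase (j, i)
    obtain ⟨c, hc⟩ := ih H' ((Finset.erase_subset _ _).trans_ssubset (Finset.erase_ssubset hij))
      (fun a b h => by
        simp only [H', Finset.mem_erase, ne_eq, Prod.mk.injEq] at h ⊢
        exact ⟨fun e => h.2.1 ⟨e.2, e.1⟩, fun e => h.1 ⟨e.2, e.1⟩, hsym a b h.2.2⟩)
      (fun a b h => hH a b (Finset.mem_of_mem_erase (Finset.mem_of_mem_erase h)))
    refine ⟨Function.update c i (-(d i j - d j i + pz P j i * c j)), fun a b hab => ?_⟩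
    have hji : j ≠ i := (hH i j hij).2.2.1.symm
    by_cases h1 : a = i
    · subst h1
      obtain rfl := huniq b hab
      rw [Function.update_self, Function.update_of_ne hji, ha]
      ring
    · by_cases h2 : b = i
      · subst h2
        obtain rfl := huniq a (hsym a b hab)
        rw [Function.update_self, Function.update_of_ne hji, ha]
        ring
      · rw [Function.update_of_ne h1, Function.update_of_ne h2]
        refine hc a b ?_
        simp only [H', Finset.mem_erase, ne_eq, Prod.mk.injEq]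
        exact ⟨fun e => h2 e.2, fun e => h1 e.1, hab⟩


/-- Let P be a finite reduced crystallographic root pairing over an integral domain of characteristic
zero and b a base (simple roots α_i, i in the support of b), with Cartan integers a_ij = ⟨α_i,
α_j^∨⟩. An integer-valued bilinear form C on the lattice with basis the simple coroots is an integer
matrix C_ij = C(α_i^∨, α_j^∨), and the component of the last map of the complex at the pair (i, j),
i ≠ j, is C ↦ C(α_i^∨, α_j^∨) + C(α_j^∨, s_j(α_i^∨)) = C_ij + C_ji − a_ji C_jj; the pairs (i, j) and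
(j, i) index the same component exactly when α_i and α_j are orthogonal. This map is surjective: for
every family of integers d_ij (i ≠ j in the support) with d_ij = d_ji whenever a_ij = 0 there is an
integer matrix C with C_ij + C_ji − a_ji C_jj = d_ij for all i ≠ j in the support. -/
theorem result {ι : Type u} {R : Type v} {M : Type w} {N : Type x} [CommRing R] [IsDomain R] [CharZero R]
    [AddCommGroup M] [Module R M] [AddCommGroup N] [Module R N] (P : RootPairing ι R M N)
    [Finite ι] [P.IsCrystallographic] [P.IsReduced] (b : P.Base) (d : ι → ι → ℤ)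
    (hd : ∀ i ∈ b.support, ∀ j ∈ b.support, i ≠ j → P.pairingIn ℤ i j = 0 → d i j = d j i) :
    ∃ C : ι → ι → ℤ, ∀ i ∈ b.support, ∀ j ∈ b.support, i ≠ j →
      C i j + C j i - P.pairingIn ℤ j i * C j j = d i j := by
  classical
  haveI := Fintype.ofFinite ι
  have h := GrothLib.RootDatum.IsSimple.of_base P b
  have hnp : ∀ i ∈ b.support, ∀ j ∈ b.support, i ≠ j → GrothLib.RootDatum.pz P i j ≤ 0 :=
    fun i hi j hj hij => h.pz_nonpos hi hj hij
  let H : Finset (ι × ι) := (b.support ×ˢ b.support).filter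
    fun e => e.1 ≠ e.2 ∧ GrothLib.RootDatum.pz P e.1 e.2 ≠ 0
  obtain ⟨c, hc⟩ := exists_coeffs P b.support h.linInd hnp d H
    (fun i j hij => by
      simp only [H, Finset.mem_filter, Finset.mem_product] at hij ⊢
      exact ⟨⟨hij.1.2, hij.1.1⟩, hij.2.1.symm, fun e => hij.2.2 ((GrothLib.RootDatum.pz_eq_zero_iff P).1 e)⟩)
    (fun i j hij => by
      simp only [H, Finset.mem_filter, Finset.mem_product] at hij
      exact ⟨hij.1.1, hij.1.2, hij.2.1, hij.2.2⟩)
  let e := Fintype.equivFin ι
  refine ⟨fun i j => if i = j then c i else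
    if e i < e j then d i j + P.pairingIn ℤ j i * c j else 0, fun i hi j hj hij => ?_⟩
  have hkey : d i j + P.pairingIn ℤ j i * c j = d j i + P.pairingIn ℤ i j * c i := by
    by_cases h0 : P.pairingIn ℤ i j = 0
    · have h0' : P.pairingIn ℤ j i = 0 := (GrothLib.RootDatum.pz_eq_zero_iff P).1 h0
      rw [h0, h0', hd i hi j hj hij h0]
      ring
    · have := hc i j (Finset.mem_filter.2 ⟨Finset.mem_product.2 ⟨hi, hj⟩, hij, h0⟩)
      simp only [GrothLib.RootDatum.pz] at this
      linarith
  simp only [if_neg hij, if_neg (Ne.symm hij), if_true]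
  rcases lt_or_gt_of_ne (e.injective.ne hij) with hlt | hlt
  · rw [if_pos hlt, if_neg (not_lt_of_gt hlt)]; ring
  · rw [if_neg (not_lt_of_gt hlt), if_pos hlt]; linarith

end Groth.Agent.S19008
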