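import Groth.Statements.S19009
import Groth.Agent.Lib.RootDatum.Quad

set_option autoImplicit false
universe u v w x
open RootD

namespace Groth.Agent.S19009

open GrothLib.RootDatum


/-- Let P be a root pairing over an integral domain R of characteristic zero (roots α acting on the
coweight module N through reflections y ↦ y − ⟨α, y⟩ α^∨), D ⊆ N a submodule containing every coroot
and such that every element of D has a positive integer multiple in the span of the coroots (the
derived part), and Y₀ a complement of D in N. Let Q_d be a quadratic form on N whose restriction to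
D is invariant under all root reflections. Then there is a quadratic form on N, invariant under all
root reflections and agreeing with Q_d on D, if and only if there is an R-bilinear form Φ on N with
Φ(y₀, α^∨) = ⟨α, y₀⟩ Q_d(α^∨) for all y₀ in Y₀ and all roots α. (In the source R = ℤ, N = Y₀ ⊕ Y_der
is the cocharacter lattice of a split reductive group, and the condition is phrased as integrality
on Y₀ × Y_der of the pairing y₀, y ↦ B(q(y₀), y) deduced from the polar form B of Q_d; that pairing
is characterised by the displayed values on coroots, only the values of Φ on Y₀ × D matter, and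
forms take values in R here.) -/
theorem result {ι : Type u} {R : Type v} {M : Type w} {N : Type x} [CommRing R] [IsDomain R] [CharZero R]
    [AddCommGroup M] [Module R M] [AddCommGroup N] [Module R N] (P : RootPairing ι R M N)
    (D Y₀ : Submodule R N) (hD : ∀ i : ι, P.coroot i ∈ D)
    (hDsat : ∀ y ∈ D, ∃ n : ℕ, 0 < n ∧ n • y ∈ Submodule.span R (Set.range P.coroot))
    (hc : IsCompl Y₀ D)
    (Qd : QuadraticMap R N R) (hQd : ∀ i : ι, ∀ y ∈ D, Qd (P.coreflection i y) = Qd y) :
    (∃ Q : QuadraticMap R N R, (∀ (i : ι) (y : N), Q (P.coreflection i y) = Q y) ∧ ∀ y ∈ D, Q y = Qd y) ↔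
      ∃ Φ : N →ₗ[R] N →ₗ[R] R, ∀ y₀ ∈ Y₀, ∀ i : ι,
        Φ y₀ (P.coroot i) = P.root' i y₀ * Qd (P.coroot i) := by
  have hπ : ∀ (y : N) (i : ι), Y₀.projectionOnto D hc (P.coroot i) = 0 := fun _ i =>
    (Submodule.projectionOnto_apply_eq_zero_iff hc).mpr (hD i)
  constructor
  · rintro ⟨Q, hQ, hQD⟩
    refine ⟨Q.polarBilin, fun y₀ _ i => ?_⟩
    rw [← hQD _ (hD i)]
    exact (invariant_iff P Q ⊤ (j := i) trivial).mp (fun y _ => hQ i y) y₀ trivial
  · rintro ⟨Φ, hΦ⟩
    let πY : N →ₗ[R] N := Y₀.subtype.comp (Y₀.projectionOnto D hc)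
    let πD : N →ₗ[R] N := LinearMap.id - πY
    have hπD : ∀ y, πD y ∈ D := fun y => by
      refine (Submodule.projectionOnto_apply_eq_zero_iff hc).mp ?_
      simp only [πD, πY, LinearMap.sub_apply, LinearMap.id_apply, LinearMap.comp_apply,
        Submodule.subtype_apply, map_sub, Submodule.projectionOnto_apply_left, sub_self]
    have hYD : ∀ y ∈ D, πY y = 0 := fun y hy => by
      simp [πY, (Submodule.projectionOnto_apply_eq_zero_iff hc).mpr hy]
    let B : N →ₗ[R] N →ₗ[R] R := (LinearMap.lcomp R R πD).comp (Φ.comp πY)
    let Q : QuadraticMap R N R := LinearMap.BilinMap.toQuadraticMap B + Qd.comp πD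
    have hQ : ∀ y, Q y = Φ (πY y) (πD y) + Qd (πD y) := fun y => rfl
    refine ⟨Q, fun i y => ?_, fun y hy => ?_⟩
    · have hY : πY (P.coreflection i y) = πY y := by
        rw [RootPairing.coreflection_apply, map_sub, map_smul, hYD _ (hD i), smul_zero, sub_zero]
      have hsum : P.root' i y = P.root' i (πY y) + P.root' i (πD y) := by
        rw [← map_add]; exact congrArg _ (add_sub_cancel _ _).symm
      have hD' : πD (P.coreflection i y) = πD y - P.root' i y • P.coroot i := by
        simp only [πD, LinearMap.sub_apply, LinearMap.id_apply, hY]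
        rw [RootPairing.coreflection_apply]
        abel
      have hpol : QuadraticMap.polar Qd (πD y) (P.coroot i) = P.root' i (πD y) * Qd (P.coroot i) :=
        (invariant_iff P Qd D (hD i)).mp (hQd i) _ (hπD y)
      have hΦ' := hΦ (πY y) (Y₀.projectionOnto D hc y).2 i
      rw [hQ, hQ, hY, hD', map_sub, map_smul, sub_eq_add_neg (πD y), ← neg_smul,
        QuadraticMap.map_add Qd (πD y), QuadraticMap.polar_smul_right, Qd.map_smul]
      simp only [smul_eq_mul]
      rw [hΦ', hpol, hsum]
      ring
    · rw [hQ, hYD y hy, map_zero, LinearMap.zero_apply, zero_add]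
      congr 1
      simp [πD, hYD y hy]

end Groth.Agent.S19009
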