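import Groth.Statements.S1901
-- import your own Groth.Agent.* helpers here
import Groth.Agent.Lib.CycP1.Cycle
import Groth.Agent.Lib.CycPush.Proper

set_option autoImplicit false
universe u
open CategoryTheory AlgebraicGeometry
open CategoryTheory.Limits
open Cyc

namespace Groth.Agent.S1901

/-- If a k-cycle α on X is rationally equivalent to zero, there is a locally finite family of closed
immersions W_i → P^1_X with W_i integral of δ-dimension k + 1 and generic point over neither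
section, such that α = Σ_i ([W_{i,0}]_k − [W_{i,∞}]_k) coefficientwise. A pair (X, δ) with
Cyc.IsSetup plays the role of a scheme locally of finite type over a fixed base with a dimension
function (X locally Noetherian with universally catenary local rings, δ a dimension function), and
Cyc.DeltaCompat records that the dimension function upstairs is the induced one. -/
theorem result (X : Scheme.{u}) (δ : X → ℤ) (hX : Cyc.IsSetup X δ) (δP : ↥(CohB1.ProjSpaceOver 1 X) → ℤ) (hP : Cyc.DeltaCompat (CohB1.ProjSpaceOver.toBase 1 X) δP δ) (k : ℤ) (α : AlgebraicCycle X ℤ) (hα : α ∈ Cyc.Zk X δ k) (h0 : Cyc.RatEquivZero δ k α) : ∃ (I : Type u) (W : I → Scheme.{u}) (ι : (i : I) → (W i ⟶ CohB1.ProjSpaceOver 1 X)) (_ : ∀ i, IsIntegral (W i)) (_ : ∀ i, IsClosedImmersion (ι i)), (∀ i, δP (ι i (genericPoint (W i))) = k + 1 ∧ ι i (genericPoint (W i)) ∉ Set.range ⇑(P1.sect X 0) ∧ ι i (genericPoint (W i)) ∉ Set.range ⇑(P1.sect X 1)) ∧ (∀ p : ↥(CohB1.ProjSpaceOver 1 X), ∃ U : Set ↥(CohB1.ProjSpaceOver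 1 X), IsOpen U ∧ p ∈ U ∧ {i | (Set.range ⇑(ι i) ∩ U).Nonempty}.Finite) ∧ ∀ x : X, α x = ∑ᶠ i, (Cyc.subschemeFun δ k (pullback.snd (ι i) (P1.sect X 0)) x - Cyc.subschemeFun δ k (pullback.snd (ι i) (P1.sect X 1)) x) := by
  classical
  haveI := hX.1
  obtain ⟨I, ξ, f, hd, hf, hloc, hsum⟩ := h0
  choose p hp0 hp1 hpe hps hdiv using fun i => GrothLib.CycP1.exists_point_of_fun (δ := δ) (ξ i) (hf i)
  have hδp : ∀ i, δP (p i) = δ (CohB1.ProjSpaceOver.toBase 1 X (p i)) := fun i => by
    obtain ⟨n, hn, hnx⟩ := hP (p i)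
    have h := GrothLib.CycPush.resTrdeg_finite (CohB1.ProjSpaceOver.toBase 1 X)
      (RingHom.Finite.of_surjective _ (hps i))
    obtain rfl : n = 0 := by exact_mod_cast (hn.symm.trans h : (n : Cardinal) = 0)
    simpa using hnx
  have hk : ∀ i, δP (p i) = k + 1 := fun i => by rw [hδp i, hpe i, hd i]
  refine ⟨I, fun i => GrothLib.CycPush.clSub (p i), fun i => GrothLib.CycPush.clι (p i),
    fun i => inferInstance, fun i => inferInstance,
    fun i => ?_, fun q => ?_, fun x => ?_⟩
  · rw [GrothLib.CycPush.clι_genericPoint]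
    exact ⟨hk i, hp0 i, hp1 i⟩
  · obtain ⟨U, hU, hqU, hfin⟩ := hloc (CohB1.ProjSpaceOver.toBase 1 X q)
    refine ⟨CohB1.ProjSpaceOver.toBase 1 X ⁻¹' U, hU.preimage (CohB1.ProjSpaceOver.toBase 1 X).continuous, hqU,
      hfin.subset ?_⟩
    rintro i ⟨_, ⟨w, rfl⟩, hw⟩
    refine ⟨_, ?_, hw⟩
    rw [← hpe i]
    exact specializes_iff_mem_closure.1
      (((GrothLib.CycPush.mem_range_clι _).1 ⟨w, rfl⟩).map (CohB1.ProjSpaceOver.toBase 1 X).continuous)
  · rw [hsum x]
    refine finsum_congr fun i => ?_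
    rw [GrothLib.CycP1.fibre_sub_fibre (GrothLib.CycPush.clι (p i)) hX hP (GrothLib.CycPush.clι_genericPoint _)
      (hk i) (hp0 i) (hp1 i) x, if_pos (hδp i), hdiv i x]

end Groth.Agent.S1901
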