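import Groth.Statements.S19010
import Groth.Agent.Lib.RootDatum.Quad

set_option autoImplicit false
universe u v w x
open RootD

namespace Groth.Agent.S19010

open GrothLib.RootDatum


/-- Let P be a root pairing over an integral domain R of characteristic zero (roots α acting on the
coweight module N through reflections y ↦ y − ⟨α, y⟩ α^∨), D ⊆ N a submodule containing every coroot
and such that every element of D has a positive integer multiple in the span of the coroots (the
derived part), and Y₀ a complement of D in N. Let Q' be a quadratic form on N invariant under all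
root reflections. Then restriction to Y₀ is a bijection from the set of quadratic forms on N that
are invariant under all root reflections and agree with Q' on D onto the set of all quadratic forms
on Y₀. (In the source R = ℤ and N = Y₀ ⊕ Y_der is the cocharacter lattice of a split reductive
group; forms take values in R here.) -/
theorem result {ι : Type u} {R : Type v} {M : Type w} {N : Type x} [CommRing R] [IsDomain R] [CharZero R]
    [AddCommGroup M] [Module R M] [AddCommGroup N] [Module R N] (P : RootPairing ι R M N)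
    (D Y₀ : Submodule R N) (hD : ∀ i : ι, P.coroot i ∈ D)
    (hDsat : ∀ y ∈ D, ∃ n : ℕ, 0 < n ∧ n • y ∈ Submodule.span R (Set.range P.coroot))
    (hc : IsCompl Y₀ D)
    (Q' : QuadraticMap R N R) (hQ' : ∀ (i : ι) (y : N), Q' (P.coreflection i y) = Q' y) :
    Set.BijOn (fun Q : QuadraticMap R N R => Q.comp Y₀.subtype)
      {Q | (∀ (i : ι) (y : N), Q (P.coreflection i y) = Q y) ∧ ∀ y ∈ D, Q y = Q' y} Set.univ := by
  have hc0 : ∀ i, P.coroot i ∈ D := hD
  refine ⟨fun Q _ => trivial, fun Q₁ h₁ Q₂ h₂ e => ?_, fun Q₀ _ => ?_⟩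
  · refine QuadraticMap.ext fun y => ?_
    obtain ⟨y₀, d, rfl⟩ : ∃ (y₀ : Y₀) (d : D), (y₀ : N) + d = y := by
      obtain ⟨a, ha, c, hc', h⟩ := Submodule.mem_sup.mp (hc.sup_eq_top ▸ Submodule.mem_top : y ∈ Y₀ ⊔ D)
      exact ⟨⟨a, ha⟩, ⟨c, hc'⟩, h⟩
    have hpol : QuadraticMap.polar Q₁ (y₀ : N) d = QuadraticMap.polar Q₂ (y₀ : N) d := by
      obtain ⟨n, hn, hspan⟩ := hDsat d d.2
      have hlin : ∀ z ∈ Submodule.span R (Set.range P.coroot),
          QuadraticMap.polar Q₁ (y₀ : N) z = QuadraticMap.polar Q₂ (y₀ : N) z := by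
        intro z hz
        induction hz using Submodule.span_induction with
        | mem z hz =>
          obtain ⟨i, rfl⟩ := hz
          rw [(invariant_iff P Q₁ ⊤ (j := i) trivial).mp (fun y _ => h₁.1 i y) _ trivial,
            (invariant_iff P Q₂ ⊤ (j := i) trivial).mp (fun y _ => h₂.1 i y) _ trivial,
            h₁.2 _ (hD i), h₂.2 _ (hD i)]
        | zero => simp
        | add a c _ _ ha hc' => rw [QuadraticMap.polar_add_right, QuadraticMap.polar_add_right, ha, hc']
        | smul t a _ ha => rw [QuadraticMap.polar_smul_right, QuadraticMap.polar_smul_right, ha]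
      have h := hlin _ hspan
      rw [← QuadraticMap.polarBilin_apply_apply Q₁, ← QuadraticMap.polarBilin_apply_apply Q₂, map_nsmul,
        map_nsmul] at h
      exact nsmul_right_injective hn.ne' h
    have e0 : Q₁ (y₀ : N) = Q₂ (y₀ : N) := DFunLike.congr_fun e y₀
    rw [QuadraticMap.map_add Q₁, QuadraticMap.map_add Q₂, hpol, e0, h₁.2 _ d.2, h₂.2 _ d.2]
  · let π := Y₀.projectionOnto D hc
    let Q : QuadraticMap R N R := Q' + (Q₀ - Q'.comp Y₀.subtype).comp π
    refine ⟨Q, ⟨fun i y => ?_, fun y hy => ?_⟩, QuadraticMap.ext fun y => ?_⟩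
    · have hπ : π (P.coreflection i y) = π y := by
        rw [RootPairing.coreflection_apply, map_sub, map_smul,
          (Submodule.projectionOnto_apply_eq_zero_iff hc).mpr (hD i), smul_zero, sub_zero]
      simp [Q, hπ, hQ']
    · simp [Q, π, (Submodule.projectionOnto_apply_eq_zero_iff hc).mpr hy]
    · simp [Q, π]

end Groth.Agent.S19010
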