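import Groth.Statements.S19011
import Groth.Agent.Lib.RootDatum.Extend
import Groth.Agent.Lib.RootDatum.Flip
import Groth.Agent.Lib.RootDatum.Length

set_option autoImplicit false
universe u v w x
open RootD

namespace Groth.Agent.S19011

open GrothLib.RootDatum Finsupp in
theorem aux {ι R M N : Type*} [CommRing R] [IsDomain R] [CharZero R] [AddCommGroup M] [Module R M]
    [AddCommGroup N] [Module R N] (P : RootPairing ι R M N) [Finite ι] [P.IsCrystallographic] [P.IsReduced] :
    LinearMap.ker (Finsupp.linearCombination ℤ (fun i : ι => (P.coroot i : N))) =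
      Submodule.span ℤ (Set.range fun p : ι × ι =>
        Finsupp.single (P.reflectionPerm p.1 p.2) (1 : ℤ) - Finsupp.single p.2 1 +
          P.pairingIn ℤ p.1 p.2 • Finsupp.single p.1 1) := by
  classical
  set W := Submodule.span ℤ (Set.range fun p : ι × ι =>
        Finsupp.single (P.reflectionPerm p.1 p.2) (1 : ℤ) - Finsupp.single p.2 1 +
          P.pairingIn ℤ p.1 p.2 • Finsupp.single p.1 1) with hW
  have hle : W ≤ LinearMap.ker (linearCombination ℤ (fun i : ι => (P.coroot i : N))) := by
    rw [hW, Submodule.span_le]
    rintro _ ⟨⟨a, b⟩, rfl⟩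
    rw [SetLike.mem_coe, LinearMap.mem_ker, map_add, map_sub, map_smul, linearCombination_single,
      linearCombination_single, linearCombination_single, one_smul, one_smul, one_smul,
      P.coroot_reflectionPerm, P.coreflection_apply_coroot, ← Int.cast_smul_eq_zsmul R,
      show ((P.pairingIn ℤ a b : ℤ) : R) = P.pairing a b from P.algebraMap_pairingIn ℤ a b]
    abel
  refine le_antisymm (fun x hx => ?_) hle
  obtain ⟨S, hS⟩ := exists_isPosSys P
  have h := isSimple_simpleOf P hS
  let T : Submodule ℤ (ι →₀ ℤ) := Submodule.span ℤ ((fun i => single i (1 : ℤ)) '' simpleOf P S) ⊔ W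
  have hstep : ∀ a ∈ simpleOf P S, ∀ j : ι, single j (1 : ℤ) ∈ T →
      single (P.reflectionPerm a j) (1 : ℤ) ∈ T := by
    intro a ha j hj
    have h1 : single (P.reflectionPerm a j) (1 : ℤ) - single j 1 + P.pairingIn ℤ a j • single a 1 ∈ T :=
      Submodule.mem_sup_right (Submodule.subset_span ⟨(a, j), rfl⟩)
    have h2 : single a (1 : ℤ) ∈ T := Submodule.mem_sup_left (Submodule.subset_span ⟨a, ha, rfl⟩)
    have h3 := T.sub_mem (T.add_mem h1 hj) (T.smul_mem (P.pairingIn ℤ a j) h2)
    convert h3 using 1
    abel
  have hmove : ∀ g ∈ Subgroup.closure (refl P '' simpleOf P S), ∀ j : ι,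
      single j (1 : ℤ) ∈ T → single (g • j) (1 : ℤ) ∈ T := by
    intro g hg
    induction hg using Subgroup.closure_induction_left with
    | one => intro j hj; rwa [one_smul]
    | mul_left s hs y hy ih =>
      intro j hj
      obtain ⟨a, ha, rfl⟩ := hs
      rw [mul_smul, refl_smul]
      exact hstep a ha _ (ih j hj)
    | inv_mul_cancel s hs y hy ih =>
      intro j hj
      obtain ⟨a, ha, rfl⟩ := hs
      rw [mul_smul, inv_eq_of_mul_eq_one_right (refl_mul_self a), refl_smul]
      exact hstep a ha _ (ih j hj)
  have hall : ∀ k : ι, single k (1 : ℤ) ∈ T := fun k => by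
    obtain ⟨g, hg, i, hi, rfl⟩ := h.exists_smul_eq_of_indiv (isIndiv_of_reduced (P := P) k)
    exact hmove g hg i (Submodule.mem_sup_left (Submodule.subset_span ⟨i, hi, rfl⟩))
  have htop : x ∈ T := by
    rw [← x.sum_single]
    refine Submodule.sum_mem T fun k _ => ?_
    simpa using T.smul_mem (x k) (hall k)
  obtain ⟨c, hc, w, hw, rfl⟩ := Submodule.mem_sup.1 htop
  have hflip : ∀ i, RootD.IsIndiv P.flip i := fun i => (isIndiv_iff P.flip i).mpr fun j e =>
    not_two_smul_of_reduced (P := P) j i ((two_coroot_iff (P := P)).mp e.symm)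
  have hli : LinearIndepOn ℤ (fun i : ι => (P.coroot i : N)) (simpleOf P S) :=
    h.flip.linInd.mono fun i hi => ⟨i, hi, Or.inl ⟨rfl, hflip i⟩⟩
  have hc0 : linearCombination ℤ (fun i : ι => (P.coroot i : N)) c = 0 := by
    rw [LinearMap.mem_ker, map_add, LinearMap.mem_ker.1 (hle hw), add_zero] at hx
    exact hx
  have hcs : c ∈ Finsupp.supported ℤ ℤ (simpleOf P S) := by
    rw [Finsupp.supported_eq_span_single]; exact hc
  rw [linearIndepOn_iff.1 hli c hcs hc0, zero_add]
  exact hw


/-- For a finite reduced crystallographic root pairing over an integral domain of characteristic zero,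
the additive group generated by the coroots admits the presentation with one generator [β] for each
root β and the relations [s_α(β)] = [β] − ⟨α, β^∨⟩ [α] for all roots α, β, where ⟨α, β^∨⟩ is the
Cartan integer. Concretely: the kernel of the ℤ-linear map from the free abelian group on the index
type of the roots to the coweight module sending the generator of index β to the coroot β^∨ is the
subgroup generated by the elements [s_α(β)] − [β] + ⟨α, β^∨⟩ [α]. (The source states this for the
cocharacter lattice of a split semi-simple simply connected group, which is the group generated by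
the coroots.) -/
theorem result {ι : Type u} {R : Type v} {M : Type w} {N : Type x} [CommRing R] [IsDomain R] [CharZero R]
    [AddCommGroup M] [Module R M] [AddCommGroup N] [Module R N] (P : RootPairing ι R M N)
    [Finite ι] [P.IsCrystallographic] [P.IsReduced] :
    LinearMap.ker (Finsupp.linearCombination ℤ (fun i : ι => (P.coroot i : N))) =
      Submodule.span ℤ (Set.range fun p : ι × ι =>
        Finsupp.single (P.reflectionPerm p.1 p.2) (1 : ℤ) - Finsupp.single p.2 1 +
          P.pairingIn ℤ p.1 p.2 • Finsupp.single p.1 1) := by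
  exact aux P

end Groth.Agent.S19011
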