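import Groth.Statements.S19012
import Mathlib.LinearAlgebra.RootSystem.CartanMatrix
import Groth.Agent.Lib.RootDatum.Quad

set_option autoImplicit false
universe u v w x
open RootD

namespace Groth.Agent.S19012

open GrothLib.RootDatum


/-- Let P be a finite reduced crystallographic root pairing over a field of characteristic zero which is
irreducible, and b a base. A quadratic form on the coweight module that is invariant under all root
reflections and vanishes on some simple coroot is zero; in other words an invariant form is
determined by its value on a single simple coroot. (The source proves, component by component of the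
Dynkin diagram, that an invariant integer-valued form on the coroot lattice with prescribed value on
the first simple coroot of each component is unique; here the system is irreducible, the coroots
span the coweight module, and forms take values in the base field.) -/
theorem result {ι : Type u} {K : Type v} {M : Type w} {N : Type x} [Field K] [CharZero K]
    [AddCommGroup M] [Module K M] [AddCommGroup N] [Module K N] (P : RootPairing ι K M N)
    [Finite ι] [P.IsCrystallographic] [P.IsReduced] [P.IsIrreducible] (b : P.Base)
    (Q : QuadraticMap K N K) (hQ : ∀ (i : ι) (y : N), Q (P.coreflection i y) = Q y)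
    (i₀ : ι) (hi₀ : i₀ ∈ b.support) (h0 : Q (P.coroot i₀) = 0) : Q = 0 := by
  have hNe : Nonempty ι := ⟨i₀⟩
  have hpol : ∀ (j : ι) (y : N), QuadraticMap.polar Q y (P.coroot j) = P.root' j y * Q (P.coroot j) :=
    fun j y => (invariant_iff P Q ⊤ (j := j) trivial).mp (fun y _ => hQ j y) y trivial
  have hz : ∀ j : b.support, Q (P.coroot j) = 0 := fun j => by
    refine b.induction_on_cartanMatrix (fun j => Q (P.coroot j) = 0) (i := ⟨i₀, hi₀⟩) h0 ?_
    intro i k hi hki
    change b.cartanMatrix k i ≠ 0 at hki
    rw [ne_eq, RootPairing.Base.cartanMatrix_apply_eq_zero_iff_pairing] at hki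
    have h1 := hpol k (P.coroot i)
    have h2 := hpol i (P.coroot k)
    rw [QuadraticMap.polar_comm, hi, mul_zero] at h2
    rw [h2, eq_comm, mul_eq_zero] at h1
    refine h1.resolve_left fun h0 => hki ?_
    exact h0
  have htop : Submodule.span K (P.coroot '' b.support) = ⊤ := by
    rw [b.span_coroot_support]; exact RootPairing.IsRootSystem.span_coroot_eq_top
  refine QuadraticMap.ext fun y => ?_
  have hy : y ∈ Submodule.span K (P.coroot '' b.support) := htop ▸ Submodule.mem_top
  suffices h : Q y = 0 ∧ ∀ j ∈ b.support, QuadraticMap.polar Q y (P.coroot j) = 0 by simpa using h.1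
  refine ⟨?_, fun j hj => by rw [hpol, hz ⟨j, hj⟩, mul_zero]⟩
  induction hy using Submodule.span_induction with
  | mem z hz' => obtain ⟨j, hj, rfl⟩ := hz'; exact hz ⟨j, hj⟩
  | zero => simp
  | add a c ha hc' iha ihc =>
    rw [QuadraticMap.map_add Q a, iha, ihc, zero_add, zero_add]
    clear ihc iha ha
    induction hc' using Submodule.span_induction with
    | mem z hz' => obtain ⟨j, hj, rfl⟩ := hz'; rw [hpol, hz ⟨j, hj⟩, mul_zero]
    | zero => simp
    | add x z _ _ hx hz' => rw [QuadraticMap.polar_add_right, hx, hz', zero_add]
    | smul t x _ hx => rw [QuadraticMap.polar_smul_right, hx, smul_zero]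
  | smul t a _ iha => rw [Q.map_smul, iha, smul_zero]

end Groth.Agent.S19012
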