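import Groth.Statements.S19015
import Groth.Agent.Lib.MilnorK.Extension

set_option autoImplicit false
universe u v
open MilnorK

namespace Groth.Agent.S19015

/-- Let B be a discrete valuation ring with fraction field F, residue field κ and uniformizer π, and let
E be a field with a ring homomorphism into B, hence into F and into κ. Let ∂ : K_{n+1}(F) → K_n(κ)
be the residue map (tame symbol) on Milnor K-groups and s^π(ρ) = ∂({−π} · ρ) the specialization map
attached to π. Then s^π(x_F) = x_κ for every x in K_n(E): the product {−π} · x_F in K_{1+n}(F),
regarded in K_{n+1}(F), has residue the image of x in K_n(κ). (The published statement concerns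
discrete valuations of geometric type on fields finitely generated over a base field; it is stated
here for an arbitrary discrete valuation ring, which is all the printed computation uses.) -/
theorem result
    (B : Type u) [CommRing B] [IsDomain B] [IsDiscreteValuationRing B]
    (E F : Type v) [Field E] [Field F] [Algebra B F] [IsFractionRing B F]
    [Algebra E B] [Algebra E F] [IsScalarTower E B F]
    (n : ℕ) (d : MilK.K F (n + 1) →+ MilK.K (IsLocalRing.ResidueField B) n) (hd : MilK.IsTameSymbol B F n d)
    (ϖ : B) (hϖ : Irreducible ϖ) (x : MilK.K E n) :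
    d (MilK.cast F (Nat.add_comm 1 n)
        (MilK.mul F 1 n (MilK.symbol ![-MilK.unitFrac B F ϖ hϖ.ne_zero]) (MilK.map (algebraMap E F) n x))) =
      MilK.map ((IsLocalRing.residue B).comp (algebraMap E B)) n x := by
  open GrothLib.MilnorK in
  obtain rfl := IsTameSymbol.eq_tame ϖ hϖ hd
  open GrothLib.MilnorK in
  rw [cast_mul_one, tame_lmul_U ϖ hϖ _ (map_mem_U _ (fun a => ⟨Units.map (algebraMap E B : E →* B) a,
      Units.ext (IsScalarTower.algebraMap_apply E B F _)⟩) x),
    valHom_eq B F ϖ hϖ (i := 1) (u := -1) (by rw [unitToFrac_neg, map_one, mul_neg_one, zpow_one]),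
    one_smul]
  induction x using GrothLib.MilnorK.induction_symbol with
  | zero => simp
  | add a b ha hb => simp only [map_add, ha, hb]
  | neg a ha => simp only [map_neg, ha]
  | sym y =>
    rw [MilK.map_symbol, MilK.map_symbol, GrothLib.MilnorK.spec_symbol]
    congr 1
    funext i
    refine (GrothLib.MilnorK.resPart_eq B F ϖ hϖ (i := 0)
      (u := Units.map (algebraMap E B : E →* B) (y i)) ?_).trans rfl
    rw [zpow_zero, one_mul]
    exact Units.ext (IsScalarTower.algebraMap_apply E B F _)

end Groth.Agent.S19015
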