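import Groth.Statements.S19017
-- import your own Groth.Agent.* helpers here
import Groth.Agent.S9684
import Groth.Agent.Lib.C1.Closed
import Groth.Agent.Lib.CycDiv.Support
import Groth.Agent.Lib.Excellent.Localization
import Groth.Agent.Lib.CatCM.Basic

set_option autoImplicit false
universe u
open CategoryTheory AlgebraicGeometry
open IntTh

namespace GrothAux.S19017

open GrothLib GrothLib.C1 GrothLib.CycDiv

theorem isSetup_field (k : Type u) [Field k] : Cyc.IsSetup (Spec (CommRingCat.of k)) (fun _ => 0) := by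
  haveI : IsNoetherianRing (CommRingCat.of k : Type u) := inferInstanceAs (IsNoetherianRing k)
  refine ⟨inferInstance, fun x => ?_, fun a b _ hne => absurd ?_ hne⟩
  · let p : PrimeSpectrum k := x
    exact GrothLib.Excellent.isUniversallyCatenary_localization (A := k)
      (A' := (Spec.structureSheaf k).presheaf.stalk p) p.asIdeal.primeCompl
      (GrothLib.CatCM.isUniversallyCatenary_of_isRegularRing k)
  · exact Subsingleton.elim (α := PrimeSpectrum k) a b

theorem lf_sum {X : Scheme.{u}} [IsNoetherian X] {δ : X → ℤ} (hδ : Cyc.IsDimFun X δ)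
    {F : (z : X) → X.residueField z} (h1 : ∀ z, F z ≠ 0)
    (h2 : ∀ x : X, ∃ U : X.Opens, x ∈ U ∧ {z | z ∈ U ∧ F z ≠ 1}.Finite) :
    LF fun x => ∑ᶠ z, Cyc.divFun δ z (F z) x := by
  choose U hx hfin using h2
  obtain ⟨t, ht⟩ := CompactSpace.isCompact_univ.elim_finite_subcover (fun x => (U x : Set X)) (fun x => (U x).2)
    (fun x _ => Set.mem_iUnion.2 ⟨x, hx x⟩)
  have hF : {z | F z ≠ 1}.Finite := by
    refine (t.finite_toSet.biUnion fun x _ => hfin x).subset fun z hz => ?_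
    obtain ⟨x, hxt, hzx⟩ := Set.mem_iUnion₂.1 (ht (Set.mem_univ z))
    exact Set.mem_biUnion hxt ⟨hzx, hz⟩
  refine fun x => ⟨⊤, trivial, (hF.biUnion fun z _ => finite_support_divFun hδ z (h1 z)).subset ?_⟩
  rintro y ⟨-, hy⟩
  obtain ⟨z, hz⟩ := exists_ne_zero_of_finsum_mem_ne_zero (s := Set.univ)
    (f := fun z => Cyc.divFun δ z (F z) y) (by rwa [finsum_mem_univ])
  exact Set.mem_biUnion (fun e => hz.2 (by rw [e, divFun_one hδ])) hz.2

end GrothAux.S19017

namespace Groth.Agent.S19017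

/-- Let k be an arbitrary field and X a scheme separated and of finite type over k, with the dimension
function δ induced from Spec k. Let i_1 : X_1 → X and i_2 : X_2 → X be closed subschemes whose
images cover X, and let Y be their intersection: closed immersions j_1 : Y → X_1, j_2 : Y → X_2 with
i_1 ∘ j_1 = i_2 ∘ j_2 whose image in X is the intersection of the images of X_1 and X_2. Then the
sequence CH_n(Y) → CH_n(X_1) ⊕ CH_n(X_2) → CH_n(X) → 0, with first map γ ↦ (j_{1*}γ, −j_{2*}γ) and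
second map the sum of the push-forwards, is exact for every integer n: every n-cycle on X is a sum
i_{1*}α_1 + i_{2*}α_2 of n-cycles on X_1 and X_2, and whenever such a sum is rationally equivalent
to zero on X there is an n-cycle γ on Y with α_1 rationally equivalent to j_{1*}γ on X_1 and α_2
rationally equivalent to −j_{2*}γ on X_2. (The published statement does not require the two closed
subschemes to cover X; without that requirement the surjectivity fails already for two empty closed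
subschemes of a point, and the printed argument uses the covering, so it is assumed here. The
published statement also calls the sequence one of rings graded by codimension; stated here is the
additive sequence graded by dimension, which is what the printed argument gives.) -/
theorem result (k : Type u) [Field k]
    (X : Scheme.{u}) [X.Over (Spec (CommRingCat.of k))]
    [IsSeparated (X ↘ Spec (CommRingCat.of k))] [LocallyOfFiniteType (X ↘ Spec (CommRingCat.of k))]
    [QuasiCompact (X ↘ Spec (CommRingCat.of k))]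
    (δ : X → ℤ) (hδ : Cyc.DeltaCompat (X ↘ Spec (CommRingCat.of k)) δ (fun _ => 0))
    {X₁ X₂ Y : Scheme.{u}} (i₁ : X₁ ⟶ X) (i₂ : X₂ ⟶ X) [IsClosedImmersion i₁] [IsClosedImmersion i₂]
    (hcov : Set.range i₁ ∪ Set.range i₂ = Set.univ)
    (j₁ : Y ⟶ X₁) (j₂ : Y ⟶ X₂) [IsClosedImmersion j₁] [IsClosedImmersion j₂]
    (hcomm : j₁ ≫ i₁ = j₂ ≫ i₂) (hY : Set.range (j₁ ≫ i₁) = Set.range i₁ ∩ Set.range i₂) (n : ℤ) :
    (∀ α : AlgebraicCycle X ℤ, α ∈ Cyc.Zk X δ n →
      ∃ (α₁ : AlgebraicCycle X₁ ℤ) (α₂ : AlgebraicCycle X₂ ℤ),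
        α₁ ∈ Cyc.Zk X₁ (fun x => δ (i₁ x)) n ∧ α₂ ∈ Cyc.Zk X₂ (fun x => δ (i₂ x)) n ∧
        α = AlgebraicCycle.map i₁ (fun x => δ (i₁ x)) δ α₁ + AlgebraicCycle.map i₂ (fun x => δ (i₂ x)) δ α₂) ∧
    (∀ (α₁ : AlgebraicCycle X₁ ℤ) (α₂ : AlgebraicCycle X₂ ℤ),
      α₁ ∈ Cyc.Zk X₁ (fun x => δ (i₁ x)) n → α₂ ∈ Cyc.Zk X₂ (fun x => δ (i₂ x)) n →
      Cyc.RatEquivZero δ n
        (AlgebraicCycle.map i₁ (fun x => δ (i₁ x)) δ α₁ + AlgebraicCycle.map i₂ (fun x => δ (i₂ x)) δ α₂) →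
      ∃ γ : AlgebraicCycle Y ℤ, γ ∈ Cyc.Zk Y (fun y => δ (i₁ (j₁ y))) n ∧
        Cyc.RatEquiv (fun x => δ (i₁ x)) n α₁
          (AlgebraicCycle.map j₁ (fun y => δ (i₁ (j₁ y))) (fun x => δ (i₁ x)) γ) ∧
        Cyc.RatEquiv (fun x => δ (i₂ x)) n α₂
          (-AlgebraicCycle.map j₂ (fun y => δ (i₁ (j₁ y))) (fun x => δ (i₂ x)) γ)) := by
  open GrothLib GrothLib.C1 GrothLib.CycDiv in
  classical
  have hd : Cyc.IsDimFun X δ := Groth.Agent.S9684.result (X ↘ Spec (CommRingCat.of k)) (fun _ => 0)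
    (GrothAux.S19017.isSetup_field k) δ hδ
  haveI : IsLocallyNoetherian X := LocallyOfFiniteType.isLocallyNoetherian (X ↘ Spec (CommRingCat.of k))
  haveI : CompactSpace X := QuasiCompact.compactSpace_of_compactSpace (X ↘ Spec (CommRingCat.of k))
  haveI : IsNoetherian X := {}
  have hi1 := i₁.isClosedEmbedding
  have hi2 := i₂.isClosedEmbedding
  have hcov' : ∀ x : X, x ∉ Set.range i₁ → x ∈ Set.range i₂ := fun x hx =>
    ((hcov.symm ▸ Set.mem_univ x : x ∈ Set.range i₁ ∪ Set.range i₂)).resolve_left hx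
  have hc : ∀ y : Y, i₂ (j₂ y) = i₁ (j₁ y) := fun y => by
    have e : (j₁ ≫ i₁) y = (j₂ ≫ i₂) y := by rw [hcomm]
    simpa using e.symm
  refine ⟨fun α hα => ?_, fun α₁ α₂ hα₁ hα₂ hrat => ?_⟩
  · refine ⟨toCycle (fun d => α (i₁ d)) (lf_comp i₁ (LF.of_cycle α)),
      toCycle (fun e => if i₂ e ∈ Set.range i₁ then 0 else α (i₂ e))
        ((lf_comp i₂ (LF.of_cycle α)).mono fun e he h => he (by simp [h])),
      fun d hd => hα _ hd, fun e he => by simp [hα _ he], ?_⟩
    ext x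
    rw [Function.locallyFinsuppWithin.coe_add, Pi.add_apply]
    by_cases hx : x ∈ Set.range i₁
    · obtain ⟨d, rfl⟩ := hx
      rw [map_on i₁]
      by_cases hx2 : i₁ d ∈ Set.range i₂
      · obtain ⟨e, he⟩ := hx2
        rw [← he, map_on i₂]
        simp [he]
      · rw [map_zero_off i₂ inferInstance _ hx2]
        simp
    · obtain ⟨e, rfl⟩ := hcov' x hx
      rw [map_zero_off i₁ inferInstance _ hx, map_on i₂, zero_add]
      exact (if_neg hx).symm
  obtain ⟨F, hF0, hFlf, hFk, hFe⟩ := RZ.of_ratEquivZero hd hrat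
  let F1 : (z : X) → X.residueField z := fun z => if z ∈ Set.range i₁ then F z else 1
  let F2 : (z : X) → X.residueField z := fun z => if z ∈ Set.range i₁ then 1 else F z
  have hF1 : ∀ z, F1 z ≠ 0 := fun z => by simp only [F1]; split_ifs; exacts [hF0 z, one_ne_zero]
  have hF2 : ∀ z, F2 z ≠ 0 := fun z => by simp only [F2]; split_ifs; exacts [one_ne_zero, hF0 z]
  have h1of : ∀ z, F1 z ≠ 1 → z ∈ Set.range i₁ ∧ F z ≠ 1 := fun z hz => by
    simp only [F1] at hz; split_ifs at hz with h; exacts [⟨h, hz⟩, absurd rfl hz]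
  have h2of : ∀ z, F2 z ≠ 1 → z ∈ Set.range i₂ ∧ F z ≠ 1 := fun z hz => by
    simp only [F2] at hz; split_ifs at hz with h; exacts [absurd rfl hz, ⟨hcov' z h, hz⟩]
  have hF1lf : ∀ x : X, ∃ U : X.Opens, x ∈ U ∧ {z | z ∈ U ∧ F1 z ≠ 1}.Finite := fun x => by
    obtain ⟨U, hx, hfin⟩ := hFlf x
    exact ⟨U, hx, hfin.subset fun z hz => ⟨hz.1, (h1of z hz.2).2⟩⟩
  have hF2lf : ∀ x : X, ∃ U : X.Opens, x ∈ U ∧ {z | z ∈ U ∧ F2 z ≠ 1}.Finite := fun x => by
    obtain ⟨U, hx, hfin⟩ := hFlf x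
    exact ⟨U, hx, hfin.subset fun z hz => ⟨hz.1, (h2of z hz.2).2⟩⟩
  let a1 : X → ℤ := fun x => ∑ᶠ z, Cyc.divFun δ z (F1 z) x
  let a2 : X → ℤ := fun x => ∑ᶠ z, Cyc.divFun δ z (F2 z) x
  have hsum : ∀ x, AlgebraicCycle.map i₁ (fun x => δ (i₁ x)) δ α₁ x +
      AlgebraicCycle.map i₂ (fun x => δ (i₂ x)) δ α₂ x = a1 x + a2 x := fun x => by
    have h := hFe x
    rw [Function.locallyFinsuppWithin.coe_add, Pi.add_apply] at h
    rw [h]
    refine Eq.trans ?_ (finsum_add_distrib (finite_div_support hd hF1lf x) (finite_div_support hd hF2lf x))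
    refine finsum_congr fun z => ?_
    simp only [F1, F2]
    split_ifs <;> simp [divFun_one hd]
  have hclosed : ∀ {D : Scheme.{u}} (i : D ⟶ X) [IsClosedImmersion i] {G : (z : X) → X.residueField z},
      (∀ z, G z ≠ 1 → z ∈ Set.range i) → ∀ x, x ∉ Set.range i → (∑ᶠ z, Cyc.divFun δ z (G z) x) = 0 := by
    intro D i _ G hG x hx
    refine finsum_eq_zero_of_forall_eq_zero fun z => by_contra fun hne => hx ?_
    refine (divFun_ne_zero hne).1.mem_closed i.isClosedEmbedding.isClosed_range (hG z fun e => hne ?_)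
    rw [e, divFun_one hd]
  have hdeg : ∀ {G : (z : X) → X.residueField z}, (∀ z, G z ≠ 1 → F z ≠ 1) → ∀ x,
      (∑ᶠ z, Cyc.divFun δ z (G z) x) ≠ 0 → δ x = n := by
    intro G hG x hx
    obtain ⟨z, hz⟩ := exists_ne_zero_of_finsum_mem_ne_zero (s := Set.univ)
      (f := fun z => Cyc.divFun δ z (G z) x) (by rwa [finsum_mem_univ])
    have := (divFun_ne_zero hz.2).2
    have := hFk z (hG z fun e => hz.2 (by rw [e, divFun_one hd]))
    omega
  have r1 : RZ (fun d => δ (i₁ d)) n fun d => a1 (i₁ d) :=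
    rz_restrict i₁ hd hF1 hF1lf (fun z hz => hFk z (h1of z hz).2) (fun z hz => (h1of z hz).1) fun d => rfl
  have r2 : RZ (fun d => δ (i₂ d)) n fun d => a2 (i₂ d) :=
    rz_restrict i₂ hd hF2 hF2lf (fun z hz => hFk z (h2of z hz).2) (fun z hz => (h2of z hz).1) fun d => rfl
  haveI : IsLocallyNoetherian X₁ := LocallyOfFiniteType.isLocallyNoetherian i₁
  haveI : IsLocallyNoetherian X₂ := LocallyOfFiniteType.isLocallyNoetherian i₂
  have hγlf : LF fun y => α₁ (j₁ y) - a1 (i₁ (j₁ y)) := by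
    intro y
    obtain ⟨U, hU, hUf⟩ := lf_comp j₁ (LF.of_cycle α₁) y
    obtain ⟨V, hV, hVf⟩ := lf_comp j₁ (lf_comp i₁ (GrothAux.S19017.lf_sum hd hF1 hF1lf)) y
    refine ⟨U ⊓ V, ⟨hU, hV⟩, (hUf.union hVf).subset fun z hz => ?_⟩
    by_cases h : α₁ (j₁ z) = 0
    · exact Or.inr ⟨hz.1.2, fun h' => hz.2 (by show α₁ (j₁ z) - a1 (i₁ (j₁ z)) = 0; rw [h]; simp [a1, h'])⟩
    · exact Or.inl ⟨hz.1.1, h⟩
  haveI : IsLocallyNoetherian X₁ := LocallyOfFiniteType.isLocallyNoetherian i₁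
  haveI : IsLocallyNoetherian X₂ := LocallyOfFiniteType.isLocallyNoetherian i₂
  have hd1 := GrothLib.CycPush.isDimFun_closedImmersion i₁ hd
  have hd2 := GrothLib.CycPush.isDimFun_closedImmersion i₂ hd
  have hrY : ∀ x, x ∈ Set.range i₁ → x ∈ Set.range i₂ → ∃ y, i₁ (j₁ y) = x := fun x h1 h2 => by
    have : x ∈ Set.range (j₁ ≫ i₁) := hY.symm ▸ ⟨h1, h2⟩
    obtain ⟨y, hy⟩ := this
    exact ⟨y, by simpa using hy⟩
  refine ⟨toCycle _ hγlf, fun y hy => ?_, ratEquiv_of_RZ hd1 r1 fun d => ?_, ratEquiv_of_RZ hd2 r2 fun e => ?_⟩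
  · show α₁ (j₁ y) - a1 (i₁ (j₁ y)) = 0
    rw [hα₁ _ hy, sub_eq_zero]
    exact (by_contra fun h => hy (hdeg (fun z hz => (h1of z hz).2) _ (Ne.symm h)))
  · by_cases hd' : d ∈ Set.range j₁
    · obtain ⟨y, rfl⟩ := hd'
      rw [map_on j₁ (δ := fun x => δ (i₁ x))]
      simp
    · rw [map_zero_off j₁ inferInstance _ hd', sub_zero]
      have hx : i₁ d ∉ Set.range i₂ := fun h => hd' (by
        obtain ⟨y, hy⟩ := hrY _ ⟨d, rfl⟩ h
        exact ⟨y, hi1.injective hy⟩)
      have h := hsum (i₁ d)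
      rw [map_on i₁, map_zero_off i₂ inferInstance _ hx, add_zero] at h
      rw [h, show a2 (i₁ d) = 0 from hclosed i₂ (fun z hz => (h2of z hz).1) _ hx, add_zero]
  · have hneg : ∀ (c : AlgebraicCycle X₂ ℤ) (x : X₂), (-c) x = -(c x) := fun c x => rfl
    rw [hneg, sub_neg_eq_add]
    have h := hsum (i₂ e)
    rw [map_on i₂] at h
    by_cases he : e ∈ Set.range j₂
    · obtain ⟨y, rfl⟩ := he
      have e0 : (fun y => δ (i₁ (j₁ y))) = fun y => δ (i₂ (j₂ y)) := funext fun y => by rw [hc]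
      rw [e0, map_on j₂ (δ := fun x => δ (i₂ x))]
      rw [hc y] at h ⊢
      rw [map_on i₁] at h
      simp only [coe_toCycle]
      omega
    · rw [map_zero_off j₂ inferInstance _ he, add_zero]
      have hx : i₂ e ∉ Set.range i₁ := fun h => he (by
        obtain ⟨y, hy⟩ := hrY _ h ⟨e, rfl⟩
        exact ⟨y, hi2.injective (by rw [hc, hy])⟩)
      rw [map_zero_off i₁ inferInstance _ hx, zero_add] at h
      rw [h, show a1 (i₂ e) = 0 from hclosed i₁ (fun z hz => (h1of z hz).1) _ hx, zero_add]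


end Groth.Agent.S19017
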