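import Groth.Statements.S19018
-- import your own Groth.Agent.* helpers here
import Mathlib.RingTheory.Kaehler.Basic
import Mathlib.RingTheory.Ideal.Operations

set_option autoImplicit false
universe u
open TensorProduct
open SymTen

namespace Groth.Agent.S19018

/-- Suppose k is a field in which 2 ≠ 0 and R is a commutative k-algebra. Write I for the ideal of the
diagonal, i.e. the kernel of multiplication R ⊗_k R → R, and write S for the subalgebra of R ⊗_k R
consisting of elements invariant under interchanging the two tensor factors. Then, viewed as ideals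
of S, the swap-invariant elements of I^4 form precisely the square of the ideal of swap-invariant
elements of I^2. (The source is stated over the complex numbers; the proof needs only that 2 is
invertible.) -/
theorem result
    (k R : Type u) [Field k] [NeZero (2 : k)] [CommRing R] [Algebra k R] :
    Ideal.comap
        (AlgHom.equalizer ((Algebra.TensorProduct.comm k R R : R ⊗[k] R ≃ₐ[k] R ⊗[k] R) : R ⊗[k] R →ₐ[k] R ⊗[k] R)
          (AlgHom.id k (R ⊗[k] R))).val
        (KaehlerDifferential.ideal k R ^ 4) =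
      (Ideal.comap
        (AlgHom.equalizer ((Algebra.TensorProduct.comm k R R : R ⊗[k] R ≃ₐ[k] R ⊗[k] R) : R ⊗[k] R →ₐ[k] R ⊗[k] R)
          (AlgHom.id k (R ⊗[k] R))).val
        (KaehlerDifferential.ideal k R ^ 2)) ^ 2 := by
  open scoped Pointwise in
  classical
  set σ : R ⊗[k] R ≃ₐ[k] R ⊗[k] R := Algebra.TensorProduct.comm k R R
  set I := KaehlerDifferential.ideal k R
  set Sf := AlgHom.equalizer (σ : R ⊗[k] R →ₐ[k] R ⊗[k] R) (AlgHom.id k (R ⊗[k] R))
  set J : Ideal Sf := Ideal.comap Sf.val (I ^ 2)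
  refine le_antisymm ?_ ?_
  swap
  · rw [pow_two J, Ideal.mul_le]
    intro x hx y hy
    show Sf.val (x * y) ∈ I ^ 4
    rw [map_mul, show (4 : ℕ) = 2 + 2 from rfl, pow_add]
    exact Ideal.mul_mem_mul hx hy
  intro x hx
  let δ : R → R ⊗[k] R := fun r => (1 : R) ⊗ₜ[k] r - r ⊗ₜ[k] (1 : R)
  have hσσ : ∀ z, σ (σ z) = z := fun z => by
    induction z using TensorProduct.induction_on with
    | zero => simp
    | tmul a b => simp [σ]
    | add a b ha hb => rw [map_add, map_add, ha, hb]
  have hI : I = Ideal.span (Set.range δ) := (KaehlerDifferential.span_range_eq_ideal k R).symm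
  have hI2 : I ^ 2 = Ideal.span (Set.range δ * Set.range δ) := by rw [pow_two, hI, Ideal.span_mul_span']
  have hI4 : I ^ 4 = Ideal.span ((Set.range δ * Set.range δ) * (Set.range δ * Set.range δ)) := by
    rw [show (4 : ℕ) = 2 + 2 from rfl, pow_add, hI2, Ideal.span_mul_span']
  have hδ : ∀ d ∈ Set.range δ * Set.range δ, σ d = d ∧ d ∈ I ^ 2 := by
    intro d hd
    refine ⟨?_, hI2 ▸ Ideal.subset_span hd⟩
    obtain ⟨_, ⟨r, rfl⟩, _, ⟨s, rfl⟩, rfl⟩ := Set.mem_mul.mp hd
    simp only [δ, σ, map_mul, map_sub, Algebra.TensorProduct.comm_tmul]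
    ring
  let Q : Submodule k (R ⊗[k] R) := ((J ^ 2).restrictScalars k).map Sf.val.toLinearMap
  have key : ∀ z ∈ I ^ 4, ∀ s, s * z + σ (s * z) ∈ Q := by
    intro z hz
    rw [hI4] at hz
    induction hz using Submodule.span_induction with
    | mem z hz =>
      obtain ⟨d, hd, d', hd', rfl⟩ := Set.mem_mul.mp hz
      intro s
      obtain ⟨e1, m1⟩ := hδ d hd
      obtain ⟨e2, m2⟩ := hδ d' hd'
      have hS : σ ((s + σ s) * d') = (s + σ s) * d' := by rw [map_mul, map_add, hσσ, e2, add_comm]
      refine ⟨(⟨d, e1⟩ : Sf) * ⟨(s + σ s) * d', hS⟩, ?_, ?_⟩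
      · show _ ∈ J ^ 2
        rw [pow_two]
        exact Ideal.mul_mem_mul m1 (Ideal.mul_mem_left _ _ m2)
      · show d * ((s + σ s) * d') = _
        rw [map_mul σ, map_mul σ, e1, e2]
        ring
    | zero => intro s; rw [mul_zero, map_zero, add_zero]; exact Q.zero_mem
    | add a b _ _ ha hb =>
      intro s
      rw [mul_add, map_add, add_add_add_comm]
      exact Q.add_mem (ha s) (hb s)
    | smul r a _ ha =>
      intro s
      rw [smul_eq_mul, ← mul_assoc]
      exact ha _
  have h := key _ hx 1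
  rw [one_mul, show σ (Sf.val x) = Sf.val x from x.2] at h
  have h2 : Sf.val x ∈ Q := by
    have := Q.smul_mem (2 : k)⁻¹ h
    rwa [← two_smul k (Sf.val x), smul_smul, inv_mul_cancel₀ (NeZero.ne (2 : k)), one_smul] at this
  obtain ⟨y, hy, hyx⟩ := h2
  exact (show y = x from Subtype.ext hyx) ▸ hy

end Groth.Agent.S19018
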