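import Groth.Statements.S19019
import Mathlib.Analysis.SpecialFunctions.Integrals.Basic
import Mathlib.Topology.Algebra.Module.Cardinality
import Mathlib.Analysis.Real.Cardinality
import Mathlib.Analysis.Matrix.Hermitian
import Mathlib.LinearAlgebra.Matrix.PosDef

set_option autoImplicit false
open scoped ComplexOrder
open Toeplitz

namespace Groth.Agent.S19019

open MeasureTheory Real

/-- the character `y ↦ exp(i k y)` -/
noncomputable def E (k : ℤ) (y : ℝ) : ℂ := Complex.exp (Complex.I * (k : ℂ) * (y : ℂ))

lemma continuous_E (k : ℤ) : Continuous (E k) := by unfold E; fun_prop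

lemma E_mul (k l : ℤ) (y : ℝ) : E k y * E l y = E (k + l) y := by
  rw [E, E, E, ← Complex.exp_add]; push_cast; ring_nf

lemma E_conj (k : ℤ) (y : ℝ) : (starRingEnd ℂ) (E k y) = E (-k) y := by
  rw [E, E, ← Complex.exp_conj]; simp

lemma E_pow (n : ℕ) (y : ℝ) : E (-1) y ^ n = E (-(n : ℤ)) y := by
  rw [E, E, ← Complex.exp_nat_mul]; push_cast; ring_nf

lemma integral_E (k : ℤ) :
    ∫ y in (0 : ℝ)..(2 * π), E k y = if k = 0 then (2 * π : ℂ) else 0 := by
  split_ifs with h
  · subst h; simp [E]
  · have hc : Complex.I * (k : ℂ) ≠ 0 := mul_ne_zero Complex.I_ne_zero (Int.cast_ne_zero.2 h)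
    simp only [E]
    rw [integral_exp_mul_complex hc]
    have h2 : Complex.exp (Complex.I * k * ((2 * π : ℝ) : ℂ)) = 1 :=
      Complex.exp_eq_one_iff.2 ⟨k, by push_cast; ring⟩
    push_cast at h2
    simp [h2]

lemma E_injOn : Set.InjOn (E (-1)) (Set.Ico 0 (2 * π)) := by
  intro y hy y' hy' h
  obtain ⟨n, hn⟩ := Complex.exp_eq_exp_iff_exists_int.1 h
  have h2 : ((y' : ℂ)) = y + n * (2 * π) := by
    have := congrArg (fun z => Complex.I * z) hn
    simp [← mul_assoc] at this
    linear_combination -this + ((y' : ℂ) - (n : ℂ) * 2 * π) * Complex.I_sq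
  have h3 : y' = y + n * (2 * π) := by exact_mod_cast h2
  have hπ := Real.pi_pos
  have h4 : (-1 : ℝ) < n ∧ (n : ℝ) < 1 := by
    constructor <;> nlinarith [hy.1, hy.2, hy'.1, hy'.2]
  have hn0 : n = 0 := by
    have h5 : -1 < n := by exact_mod_cast h4.1
    have h6 : n < 1 := by exact_mod_cast h4.2
    omega
  simpa [hn0] using h3.symm

/-- Let A be an m × m complex Hermitian Toeplitz matrix, with entries A i j = t (j - i) constant along
diagonals, and let f(y) = Σ_{-m < k < m} t k · exp(i k y) be the trigonometric polynomial attached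
to it. If f has positive real part at every real y outside a countable set, then A is positive
definite (hence nondegenerate). (The source also states the mirror case: f negative off a countable
set gives A negative definite, which is this statement for -A.) -/
theorem result
    (m : ℕ) (t : ℤ → ℂ) (A : Matrix (Fin m) (Fin m) ℂ)
    (hA : ∀ i j : Fin m, A i j = t ((j : ℤ) - (i : ℤ))) (hH : A.IsHermitian)
    (hpos : Set.Countable {y : ℝ | ¬ 0 < (∑ k ∈ Finset.Ioo (-(m : ℤ)) (m : ℤ),
        t k * Complex.exp (Complex.I * (k : ℂ) * (y : ℂ))).re}) :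
    A.PosDef := by
  rw [Matrix.posDef_iff_dotProduct_mulVec]
  refine ⟨hH, fun x hx => ?_⟩
  rw [Complex.pos_iff]
  refine ⟨?_, (hH.im_star_dotProduct_mulVec_self x).symm⟩
  let f : ℝ → ℂ := fun y => ∑ k ∈ Finset.Ioo (-(m : ℤ)) (m : ℤ), t k * E k y
  let P : ℝ → ℂ := fun y => ∑ b : Fin m, x b * E (-(b : ℤ)) y
  let F : ℝ → ℂ := fun y => f y * ((starRingEnd ℂ) (P y) * P y)
  have hfc : Continuous f := continuous_finsetSum _ fun k _ => continuous_const.mul (continuous_E k)
  have hPc : Continuous P := continuous_finsetSum _ fun k _ => continuous_const.mul (continuous_E _)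
  have hFc : Continuous F := hfc.mul ((Complex.continuous_conj.comp hPc).mul hPc)
  have hF : ∫ y in (0 : ℝ)..(2 * π), F y = (2 * π : ℂ) * (star x ⬝ᵥ A.mulVec x) := by
    have hFe : F = fun y => ∑ k ∈ Finset.Ioo (-(m : ℤ)) (m : ℤ), ∑ a : Fin m, ∑ b : Fin m,
        t k * star (x a) * x b * E (k + (a : ℤ) - (b : ℤ)) y := by
      funext y
      simp only [F, f, P, map_sum, map_mul, E_conj, neg_neg, Finset.sum_mul_sum, Finset.sum_mul]
      refine Finset.sum_congr rfl fun k _ => ?_
      simp only [Finset.mul_sum]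
      refine Finset.sum_congr rfl fun a _ => Finset.sum_congr rfl fun b _ => ?_
      rw [sub_eq_add_neg, ← E_mul, ← E_mul, Complex.star_def]
      ring
    have hc : ∀ (c : ℂ) (l : ℤ), Continuous fun y => c * E l y := fun c l =>
      continuous_const.mul (continuous_E l)
    rw [hFe, intervalIntegral.integral_finsetSum]
    swap
    · intro k _
      exact (continuous_finsetSum _ fun a _ => continuous_finsetSum _ fun b _ =>
        hc _ _).intervalIntegrable _ _
    have h1 : ∀ k : ℤ, ∫ y in (0 : ℝ)..(2 * π), (∑ a : Fin m, ∑ b : Fin m,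
        t k * star (x a) * x b * E (k + (a : ℤ) - (b : ℤ)) y) =
        ∑ a : Fin m, ∑ b : Fin m,
          if k = (b : ℤ) - (a : ℤ) then (2 * π : ℂ) * (t k * star (x a) * x b) else 0 := by
      intro k
      rw [intervalIntegral.integral_finsetSum]
      swap
      · intro a _
        exact (continuous_finsetSum _ fun b _ => hc _ _).intervalIntegrable _ _
      refine Finset.sum_congr rfl fun a _ => ?_
      rw [intervalIntegral.integral_finsetSum]
      swap
      · intro b _
        exact (hc _ _).intervalIntegrable _ _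
      refine Finset.sum_congr rfl fun b _ => ?_
      rw [intervalIntegral.integral_const_mul, integral_E]
      split_ifs with h1 h2 <;> first | omega | ring
    simp only [h1]
    rw [Finset.sum_comm]
    simp only [dotProduct, Matrix.mulVec, Finset.mul_sum, Pi.star_apply]
    refine Finset.sum_congr rfl fun a _ => ?_
    rw [Finset.sum_comm]
    refine Finset.sum_congr rfl fun b _ => ?_
    rw [Finset.sum_ite_eq', if_pos (Finset.mem_Ioo.2 ⟨by omega, by omega⟩), hA]
    ring
  let g : ℝ → ℝ := fun y => (f y).re * Complex.normSq (P y)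
  have hgF : ∀ y, (F y).re = g y := fun y => by
    simp only [F, g, ← Complex.normSq_eq_conj_mul_self, Complex.re_mul_ofReal]
  have hgc : Continuous g := (Complex.continuous_re.comp hfc).mul (Complex.continuous_normSq.comp hPc)
  have hbad : Set.Countable {y : ℝ | ¬ 0 < (f y).re} := hpos
  have hg0 : ∀ y, 0 ≤ g y := by
    have hd : Dense ({y : ℝ | ¬ 0 < (f y).re}ᶜ) := hbad.dense_compl ℝ
    have hcl : IsClosed {y | 0 ≤ g y} := isClosed_le continuous_const hgc
    intro y
    refine hcl.closure_subset_iff.2 ?_ (hd y)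
    intro z hz
    exact mul_nonneg (le_of_lt (not_not.1 hz)) (Complex.normSq_nonneg _)
  have hπ := Real.pi_pos
  obtain ⟨c, hc, hgcpos⟩ : ∃ c ∈ Set.Ico (0 : ℝ) (2 * π), 0 < g c := by
    by_contra hcon
    push Not at hcon
    let Q : Polynomial ℂ := ∑ b : Fin m, Polynomial.monomial (b : ℕ) (x b)
    have hQ : Q ≠ 0 := by
      intro h
      refine hx (funext fun b => ?_)
      have := congrArg (fun q => Polynomial.coeff q (b : ℕ)) h
      simpa [Q, Polynomial.coeff_monomial, Fin.val_inj] using this
    have hPQ : ∀ y, P y = Q.eval (E (-1) y) := fun y => by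
      simp [P, Q, Polynomial.eval_finsetSum, E_pow]
    have hfin : ({y | P y = 0} ∩ Set.Ico 0 (2 * π)).Finite := by
      refine Set.Finite.of_finite_image ((Q.roots.toFinset.finite_toSet).subset ?_)
        (E_injOn.mono Set.inter_subset_right)
      rintro _ ⟨y, ⟨hy, -⟩, rfl⟩
      rw [Finset.mem_coe, Multiset.mem_toFinset, Polynomial.mem_roots hQ, Polynomial.IsRoot,
        ← hPQ]
      exact hy
    have hsub : Set.Ico (0 : ℝ) (2 * π) ⊆
        {y : ℝ | ¬ 0 < (f y).re} ∪ ({y | P y = 0} ∩ Set.Ico 0 (2 * π)) := by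
      intro y hy
      by_cases h : 0 < (f y).re
      · refine Or.inr ⟨?_, hy⟩
        by_contra hP
        exact absurd (hcon y hy) (not_le.2 (mul_pos h (Complex.normSq_pos.2 hP)))
      · exact Or.inl h
    have h0 := Cardinal.Real.Ico_countable_iff.1 ((hbad.union hfin.countable).mono hsub)
    linarith
  have hint : 0 < ∫ y in (0 : ℝ)..(2 * π), g y :=
    intervalIntegral.integral_pos (by linarith) hgc.continuousOn (fun y _ => hg0 y)
      ⟨c, Set.Ico_subset_Icc_self hc, hgcpos⟩
  have hre : ∫ y in (0 : ℝ)..(2 * π), g y = (∫ y in (0 : ℝ)..(2 * π), F y).re := by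
    simp only [← hgF]
    exact Complex.reCLM.intervalIntegral_comp_comm (hFc.intervalIntegrable _ _)
  rw [hre, hF] at hint
  simp only [Complex.mul_re, Complex.re_ofNat, Complex.ofReal_re, Complex.im_ofNat,
    Complex.ofReal_im, Complex.mul_im, mul_zero, zero_mul, sub_zero, add_zero] at hint
  exact (mul_pos_iff_of_pos_left (by linarith)).1 hint

end Groth.Agent.S19019
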