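import Groth.Statements.S19020
import Mathlib.Data.Nat.Choose.Vandermonde

set_option autoImplicit false
open Toeplitz

namespace Groth.Agent.S19020

/-- band matrix of binomial coefficients -/
def band (n r i : ℕ) : ℝ := if i ≤ r then (Nat.choose n (r - i) : ℝ) else 0

lemma gram_le (n m i j : ℕ) (hij : i ≤ j) (hj : j < m) :
    ∑ r ∈ Finset.range (m + n), band n r i * band n r j =
      (Nat.choose (2 * n) (n + (j - i)) : ℝ) := by
  obtain ⟨d, rfl⟩ := Nat.le.dest hij
  rw [Nat.add_sub_cancel_left, show m + n = (i + d) + (m + n - (i + d)) by omega,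
    Finset.sum_range_add, Finset.sum_eq_zero (fun r hr => ?_), zero_add]
  swap
  · have := Finset.mem_range.1 hr
    simp [band, show ¬ i + d ≤ r by omega]
  have e : ∀ s, band n (i + d + s) i * band n (i + d + s) (i + d) =
      ((n.choose (d + s) * n.choose s : ℕ) : ℝ) := fun s => by
    simp [band, show i ≤ i + d + s by omega, show i + d + s - i = d + s by omega]
  simp only [e]
  rw [← Nat.cast_sum, Nat.cast_inj]
  rcases le_or_gt d n with hd | hd
  · rw [← Nat.choose_symm (show n + d ≤ 2 * n by omega), show 2 * n - (n + d) = n - d by omega,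
      two_mul, Nat.add_choose_eq, Finset.Nat.sum_antidiagonal_eq_sum_range_succ_mk,
      ← Finset.sum_subset (s₁ := Finset.range (n - d + 1))
        (Finset.range_subset_range.2 (by omega)) (fun s _ hs => ?_)]
    · refine Finset.sum_congr rfl fun s hs => ?_
      have := Finset.mem_range.1 hs
      rw [mul_comm, ← Nat.choose_symm (show d + s ≤ n by omega), Nat.sub_add_eq]
    · have : ¬ s < n - d + 1 := fun h => hs (Finset.mem_range.2 h)
      rw [Nat.choose_eq_zero_of_lt (show n < d + s by omega), zero_mul]
  · rw [Nat.choose_eq_zero_of_lt (show 2 * n < n + d by omega)]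
    exact Finset.sum_eq_zero fun s _ => by
      rw [Nat.choose_eq_zero_of_lt (show n < d + s by omega), zero_mul]

lemma gram (n m : ℕ) (i j : Fin m) :
    ∑ r ∈ Finset.range (m + n), band n r i * band n r j =
      (Nat.choose (2 * n) (n + Nat.dist i j) : ℝ) := by
  rcases le_total (i : ℕ) j with h | h
  · rw [Nat.dist_eq_sub_of_le h]; exact gram_le n m i j h j.2
  · rw [Nat.dist_eq_sub_of_le_right h, ← gram_le n m j i h i.2]
    exact Finset.sum_congr rfl fun r _ => mul_comm _ _

lemma quad_pos (n m : ℕ) (x : Fin m → ℝ) (hx : x ≠ 0) :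
    0 < ∑ i : Fin m, ∑ j : Fin m, x i * (Nat.choose (2 * n) (n + Nat.dist i j) : ℝ) * x j := by
  have e : ∑ i : Fin m, ∑ j : Fin m, x i * (Nat.choose (2 * n) (n + Nat.dist i j) : ℝ) * x j =
      ∑ r ∈ Finset.range (m + n), (∑ i : Fin m, band n r i * x i) ^ 2 := by
    simp only [sq, Finset.sum_mul_sum, ← gram n m, Finset.mul_sum, Finset.sum_mul]
    conv_rhs => rw [Finset.sum_comm]
    refine Finset.sum_congr rfl fun i _ => ?_
    rw [Finset.sum_comm]
    exact Finset.sum_congr rfl fun r _ => Finset.sum_congr rfl fun j _ => by ring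
  rw [e]
  classical
  obtain ⟨i₀, hi₀⟩ := Function.ne_iff.1 hx
  obtain ⟨i, hi, hmin⟩ := Finset.exists_min_image (Finset.univ.filter fun i => x i ≠ 0)
    (fun i => (i : ℕ)) ⟨i₀, by simpa using hi₀⟩
  refine Finset.sum_pos' (fun r _ => sq_nonneg _) ⟨i, Finset.mem_range.2 (by omega), ?_⟩
  have hne : x i ≠ 0 := by simpa using hi
  rw [Finset.sum_eq_single i (fun j _ hji => ?_) (by simp)]
  · have : band n i i = 1 := by simp [band]
    rw [this, one_mul]
    exact lt_of_le_of_ne (sq_nonneg _) (Ne.symm (pow_ne_zero 2 hne))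
  · by_cases hxj : x j = 0
    · rw [hxj, mul_zero]
    · have := hmin j (by simpa using hxj)
      have : (j : ℕ) ≠ i := fun e => hji (Fin.ext e)
      simp [band, show ¬ (j : ℕ) ≤ i by omega]

/-- For natural numbers n and m, the m × m real Toeplitz matrix with (i, j) entry (-1)^(i+j) · C(2n, n +
|i - j|), i.e. with t_k = (-1)^k C(2n, n + k) on the k-th diagonal for |k| ≤ n and zero beyond, is
positive definite; in particular it is nondegenerate, which is the printed assertion (positive
definiteness is what the printed proof establishes; m = 0 is the empty matrix). -/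
theorem result (n m : ℕ) :
    (Matrix.of fun i j : Fin m =>
        (-1 : ℝ) ^ ((i : ℕ) + (j : ℕ)) * (Nat.choose (2 * n) (n + Nat.dist i j) : ℝ)).PosDef := by
  rw [Matrix.posDef_iff_dotProduct_mulVec]
  constructor
  · ext i j
    simp [Matrix.conjTranspose_apply, Nat.dist_comm (i : ℕ), add_comm (i : ℕ)]
  · intro x hx
    have hz : (fun i : Fin m => (-1 : ℝ) ^ (i : ℕ) * x i) ≠ 0 := fun h => hx (funext fun i => by
      simpa using congrFun h i)
    refine (quad_pos n m _ hz).trans_eq ?_
    simp only [dotProduct, Matrix.mulVec, Matrix.of_apply, star_trivial, Finset.mul_sum, pow_add]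
    exact Finset.sum_congr rfl fun i _ => Finset.sum_congr rfl fun j _ => by ring

end Groth.Agent.S19020
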