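import Groth.Statements.S19021
import Groth.Agent.S19020

set_option autoImplicit false
open Toeplitz

namespace Groth.Agent.S19021

/-- For natural numbers n and m, the m × m integer Toeplitz matrix with (i, j) entry (-1)^(i+j) ·
C(2n+1, n+1+i-j) (the binomial coefficient being 0 outside the range 0 ≤ n+1+i-j ≤ 2n+1;
equivalently s_k = (-1)^k C(2n+1, n+k+1) on the diagonal i - j = k for -n-1 ≤ k ≤ n and zero beyond)
is nondegenerate: its determinant is nonzero (m = 0 is the empty matrix, of determinant 1). -/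
theorem result (n m : ℕ) :
    (Matrix.of fun i j : Fin m =>
        (-1 : ℤ) ^ ((i : ℕ) + (j : ℕ)) *
          (if (j : ℕ) ≤ (i : ℕ) then (Nat.choose (2 * n + 1) (n + 1 + ((i : ℕ) - (j : ℕ))) : ℤ)
            else (Nat.choose (2 * n + 1) (n + ((j : ℕ) - (i : ℕ))) : ℤ))).det ≠ 0 := by
  intro hdet
  obtain ⟨v, hv, hMv⟩ := Matrix.exists_mulVec_eq_zero_iff.2 hdet
  let z : Fin m → ℝ := fun i => (-1 : ℝ) ^ (i : ℕ) * (v i : ℝ)
  let c : Fin m → Fin m → ℕ := fun i j =>
    if (j : ℕ) ≤ (i : ℕ) then Nat.choose (2 * n + 1) (n + 1 + ((i : ℕ) - (j : ℕ)))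
    else Nat.choose (2 * n + 1) (n + ((j : ℕ) - (i : ℕ)))
  have hsym : ∀ i j, c i j + c j i = Nat.choose (2 * (n + 1)) (n + 1 + Nat.dist i j) := by
    have key : ∀ d : ℕ, Nat.choose (2 * (n + 1)) (n + 1 + d) =
        Nat.choose (2 * n + 1) (n + d) + Nat.choose (2 * n + 1) (n + 1 + d) := fun d => by
      rw [show 2 * (n + 1) = (2 * n + 1) + 1 by omega, show n + 1 + d = (n + d) + 1 by omega,
        Nat.choose_succ_succ]
    intro i j
    rw [key]
    rcases lt_trichotomy (i : ℕ) j with h | h | h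
    · simp only [c, if_neg (show ¬ (j : ℕ) ≤ i by omega), if_pos h.le, Nat.dist_eq_sub_of_le h.le]
    · simp only [c, h, le_refl, if_true, Nat.dist_self, Nat.sub_self, add_zero]
      rw [← Nat.choose_symm (show n ≤ 2 * n + 1 by omega), show 2 * n + 1 - n = n + 1 by omega]
    · simp only [c, if_neg (show ¬ (i : ℕ) ≤ j by omega), if_pos h.le,
        Nat.dist_eq_sub_of_le_right h.le]
      ring
  have hz : z ≠ 0 := fun h => hv (funext fun i => by simpa [z] using congrFun h i)
  have hpos := Groth.Agent.S19020.quad_pos (n + 1) m z hz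
  have h0 : ∑ i : Fin m, ∑ j : Fin m, z i * (c i j : ℝ) * z j = 0 := by
    refine Finset.sum_eq_zero fun i _ => ?_
    have h := congrArg (Int.cast : ℤ → ℝ) (congrFun hMv i)
    simp only [Matrix.mulVec, dotProduct, Matrix.of_apply, Pi.zero_apply, Int.cast_zero,
      Int.cast_sum, Int.cast_mul, Int.cast_pow, Int.cast_neg, Int.cast_one] at h
    rw [← mul_zero (v i : ℝ), ← h, Finset.mul_sum]
    refine Finset.sum_congr rfl fun j _ => ?_
    simp only [z, c, pow_add]
    split_ifs <;> push_cast <;> ring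
  have h1 : ∑ i : Fin m, ∑ j : Fin m, z i * (c j i : ℝ) * z j = 0 := by
    rw [Finset.sum_comm, ← h0]
    exact Finset.sum_congr rfl fun i _ => Finset.sum_congr rfl fun j _ => by ring
  refine absurd ?_ hpos.ne'
  rw [← add_zero (0 : ℝ)]
  nth_rewrite 1 [← h0]
  rw [← h1, ← Finset.sum_add_distrib]
  refine Finset.sum_congr rfl fun i _ => ?_
  rw [← Finset.sum_add_distrib]
  refine Finset.sum_congr rfl fun j _ => ?_
  rw [← hsym i j, Nat.cast_add]
  ring

end Groth.Agent.S19021
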