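import Groth.Statements.S19022
import Groth.Agent.Lib.PicDirect26.Finite

set_option autoImplicit false
universe u
open CategoryTheory AlgebraicGeometry
open PicF

namespace Groth.Agent.S19022

/-- Let X be a scheme, L an invertible O_X-module and T a finite set of closed points of X that lies in
some affine open of X. Then T lies in an affine open U of X on which L is trivial (L restricted to U
is isomorphic to the structure sheaf). (The source states this for a smooth quasi-projective complex
surface, where every finite set of points lies in an affine open, and phrases it as: X^n and the
symmetric product S^n X are covered by the opens U^n and S^n U with U affine and L trivial on U; the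
printed argument uses only that the finitely many points lie in one affine open, which is taken as
the hypothesis here.) -/
theorem result
    (X : Scheme.{u}) (L : X.Modules) (hL : PicF.IsInvertible L)
    (T : Finset X) (hT : ∀ x ∈ T, IsClosed ({x} : Set X))
    (hU : ∃ U : X.Opens, IsAffineOpen U ∧ ∀ x ∈ T, x ∈ U) :
    ∃ U : X.Opens, IsAffineOpen U ∧ (∀ x ∈ T, x ∈ U) ∧
      Nonempty (L.restrict U.ι ≅ Coh.structureModule (↑U : Scheme.{u})) := by
  obtain ⟨U, hU, hTU⟩ := hU
  exact GrothLib.PicDirect26.exists_affine_gen_of_finite hL hU T.finite_toSet fun x hx => hTU x hx

end Groth.Agent.S19022
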