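import Groth.Statements.S19025
-- import your own Groth.Agent.* helpers here
import Mathlib.Algebra.Group.ForwardDiff
import Mathlib.Tactic.Ring
import Mathlib.Tactic.Abel

set_option autoImplicit false
universe u
open HigherRestr

namespace Groth.Agent.S19025

/-- In abstract form, the estimate its proof establishes. Let S be a commutative ring, I an ideal of S,
g₀ and g₁ elements with g₁ - g₀ ∈ I, N a natural number and y a sequence in S such that, for 1 ≤ i ≤
N, the (N-i)-fold unit-step forward difference of y taken at i lies in I^(N-i). Then g₀^N times the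
N-fold forward difference of y at 0, minus the N-fold forward difference at 0 of the twisted
sequence j ↦ g₀^(N-j) g₁^j y_j, lies in I^N. (In the source S is the ring of functions on an affine
chart of X^n, I the ideal of a pairwise diagonal, g₀ and g₁ the two pullbacks of a transition unit
of L, and y_j the components x_λ along the compositions a₀^(N-j) a₁^j μ; the estimate is what makes
the higher order restrictions D^l_L well defined on ker D^(l-1)_L independently of the
trivialisation.) -/
theorem result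
    (S : Type u) [CommRing S] (I : Ideal S) (g₀ g₁ : S) (hg : g₁ - g₀ ∈ I)
    (N : ℕ) (y : ℕ → S)
    (hy : ∀ i : ℕ, 1 ≤ i → i ≤ N → (fwdDiff (1 : ℕ))^[N - i] y i ∈ I ^ (N - i)) :
    g₀ ^ N * (fwdDiff (1 : ℕ))^[N] y 0 -
        (fwdDiff (1 : ℕ))^[N] (fun j : ℕ => g₀ ^ (N - j) * g₁ ^ j * y j) 0 ∈ I ^ N := by
  have hcongr : ∀ (n : ℕ) (f g : ℕ → S) (x : ℕ), (∀ j, j ≤ n → f (x + j) = g (x + j)) →
      (fwdDiff (1 : ℕ))^[n] f x = (fwdDiff (1 : ℕ))^[n] g x := fun n f g x h => by
    rw [fwdDiff_iter_eq_sum_shift, fwdDiff_iter_eq_sum_shift]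
    refine Finset.sum_congr rfl fun j hj => ?_
    rw [smul_eq_mul, mul_one, h j (Finset.mem_range_succ_iff.mp hj)]
  have key : ∀ (N e : ℕ) (y : ℕ → S), (∀ i : ℕ, 1 ≤ i → i ≤ N → (fwdDiff (1 : ℕ))^[N - i] y i ∈ I ^ (N - i + e)) →
      g₀ ^ N * (fwdDiff (1 : ℕ))^[N] y 0 -
        (fwdDiff (1 : ℕ))^[N] (fun j : ℕ => g₀ ^ (N - j) * g₁ ^ j * y j) 0 ∈ I ^ (N + e) := by
    intro N
    induction N with
    | zero => intro e y _; simp
    | succ N ih =>
      intro e y hy
      have hstep : (fwdDiff (1 : ℕ))^[N + 1] (fun j : ℕ => g₀ ^ (N + 1 - j) * g₁ ^ j * y j) 0 =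
          (g₁ - g₀) * (fwdDiff (1 : ℕ))^[N] (fun j : ℕ => g₀ ^ (N - j) * g₁ ^ j * y (j + 1)) 0 +
            g₀ * (fwdDiff (1 : ℕ))^[N] (fun j : ℕ => g₀ ^ (N - j) * g₁ ^ j * fwdDiff (1 : ℕ) y j) 0 := by
        rw [Function.iterate_succ_apply, ← smul_eq_mul, ← smul_eq_mul]
        have h1 := congrFun (fwdDiff_iter_const_smul (h := (1 : ℕ)) (g₁ - g₀)
          (fun j : ℕ => g₀ ^ (N - j) * g₁ ^ j * y (j + 1)) N) 0
        have h2 := congrFun (fwdDiff_iter_const_smul (h := (1 : ℕ)) g₀
          (fun j : ℕ => g₀ ^ (N - j) * g₁ ^ j * fwdDiff (1 : ℕ) y j) N) 0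
        rw [Pi.smul_apply] at h1 h2
        rw [← h1, ← h2, ← Pi.add_apply, ← fwdDiff_iter_add]
        refine hcongr N _ _ 0 fun j hj => ?_
        simp only [fwdDiff, Pi.add_apply, Pi.smul_apply, smul_eq_mul, zero_add]
        rw [show N + 1 - (j + 1) = N - j by omega, show N + 1 - j = N - j + 1 by omega, pow_succ, pow_succ]
        ring
      have hA := ih e (fun j => y (j + 1)) (fun i hi hiN => by
        rw [fwdDiff_iter_comp_add]
        have := hy (i + 1) (by omega) (by omega)
        rwa [Nat.add_sub_add_right] at this)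
      have hA0 : (fwdDiff (1 : ℕ))^[N] (fun j : ℕ => g₀ ^ (N - j) * g₁ ^ j * y (j + 1)) 0 ∈ I ^ (N + e) := by
        have h0 : g₀ ^ N * (fwdDiff (1 : ℕ))^[N] (fun j => y (j + 1)) 0 ∈ I ^ (N + e) := by
          refine Ideal.mul_mem_left _ _ ?_
          rw [fwdDiff_iter_comp_add]
          have := hy 1 le_rfl (by omega)
          rwa [Nat.add_sub_cancel] at this
        have := sub_mem h0 hA
        rwa [sub_sub_cancel] at this
      have hB := ih (e + 1) (fwdDiff (1 : ℕ) y) (fun i hi hiN => by
        rw [← Function.iterate_succ_apply]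
        have := hy i hi (by omega)
        rwa [show N + 1 - i = (N - i).succ by omega, show (N - i).succ + e = N - i + (e + 1) by omega] at this)
      rw [hstep, Function.iterate_succ_apply, show N + 1 + e = N + (e + 1) by omega]
      have h3 : (g₁ - g₀) * (fwdDiff (1 : ℕ))^[N] (fun j : ℕ => g₀ ^ (N - j) * g₁ ^ j * y (j + 1)) 0 ∈ I ^ (N + (e + 1)) := by
        rw [← add_assoc, pow_succ']
        exact Ideal.mul_mem_mul hg hA0
      have := sub_mem (Ideal.mul_mem_left _ g₀ hB) h3
      convert this using 1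
      ring
  exact key N 0 y hy

end Groth.Agent.S19025
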