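import Groth.Statements.S19026
import Groth.Agent.Lib.CurveSerre11.Balanced
import Groth.Agent.Lib.CurveSerre11.BalancedArith

set_option autoImplicit false
universe u
open CategoryTheory CategoryTheory.Limits AlgebraicGeometry
attribute [local instance] HasDerivedCategory.standard
open Curves

namespace Groth.Agent.S19026

open GrothLib.CurveSerre11
set_option backward.isDefEq.respectTransparency false
set_option maxHeartbeats 1000000


/-- Let k be an algebraically closed field and X a connected reduced Gorenstein curve over k of genus g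
≥ 2: X is proper over k, reduced, connected, of dimension one, and its dualizing module ω_X (the
degree −1 cohomology sheaf of f^! O for the structure morphism f, for any choice of the data Rf_* on
D_QCoh with its right adjoint) is invertible; g = dim_k H^1(X, O_X). A connected subcurve Z of X is
a reduced connected closed subscheme of dimension one, deg_Z of a module means the degree of its
pullback to Z, g_Z = dim_k H^1(Z, O_Z), and k_Z is the length (k-dimension of global sections of the
structure sheaf) of the scheme-theoretic intersection of Z with the reduced closed subscheme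
supported on the closure of X ∖ Z. Let L be an invertible module of degree d which is balanced: for
every connected subcurve Z, |deg_Z L − (d/(2g−2)) deg_Z ω_X| ≤ k_Z/2 (written cleared of
denominators). Assume d > g − 1. Then L is nef (deg_Z L ≥ 0 for every connected subcurve Z) if and
only if X is G-semistable (deg_Z ω_X ≥ 0 for every connected subcurve Z) and every exceptional
subcurve Z (connected, with deg_Z ω_X = 0) has deg_Z L = 0 or 1. -/
theorem result (k : Type u) [Field k] [IsAlgClosed k] (X : Scheme.{u}) [X.Over (Spec (CommRingCat.of k))]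
    [IsProper (X ↘ (Spec (CommRingCat.of k)))] [AlgebraicGeometry.IsReduced X] [ConnectedSpace X] (hdim : topologicalKrullDim X = 1)
    [DCoh.HasRpush (X ↘ (Spec (CommRingCat.of k)))] (h : DCoh.RpushPreservesQCoh (X ↘ (Spec (CommRingCat.of k)))) [DCoh.HasShriek (X ↘ (Spec (CommRingCat.of k))) h]
    (OY : DCoh.DQCoh (Spec (CommRingCat.of k)))
    (hOY : Nonempty (OY.obj ≅ DCoh.inD (Spec (CommRingCat.of k)) (Coh.structureModule (Spec (CommRingCat.of k)))))
    (hGor : PicF.IsInvertible (DCoh.dualizingMod (X ↘ (Spec (CommRingCat.of k))) h OY 1)) (hg : 2 ≤ Curv2.genus k X)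
    (L : X.Modules) (hL : PicF.IsInvertible L)
    (hbal : ∀ J : X.IdealSheafData, AlgebraicGeometry.IsReduced J.subscheme → ConnectedSpace J.subscheme →
      topologicalKrullDim J.subscheme = 1 →
      |2 * (2 * (Curv2.genus k X : ℤ) - 2) * @Curv2.deg k _ J.subscheme ⟨J.subschemeι ≫ (X ↘ (Spec (CommRingCat.of k)))⟩ ((Scheme.Modules.pullback J.subschemeι).obj L) 1
          - 2 * Curv2.deg k X L 1 * @Curv2.deg k _ J.subscheme ⟨J.subschemeι ≫ (X ↘ (Spec (CommRingCat.of k)))⟩ ((Scheme.Modules.pullback J.subschemeι).obj (DCoh.dualizingMod (X ↘ (Spec (CommRingCat.of k))) h OY 1)) 1|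
        ≤ (2 * (Curv2.genus k X : ℤ) - 2) * (Module.finrank k (Coh.HH X (ClSub.quotMod (J ⊔ (Scheme.IdealSheafData.vanishingIdeal ⟨closure ((J.support : Set X)ᶜ), isClosed_closure⟩))) 0) : ℤ))
    (hd : (Curv2.genus k X : ℤ) - 1 < Curv2.deg k X L 1) :
    (∀ J : X.IdealSheafData, AlgebraicGeometry.IsReduced J.subscheme → ConnectedSpace J.subscheme →
      topologicalKrullDim J.subscheme = 1 →
      0 ≤ @Curv2.deg k _ J.subscheme ⟨J.subschemeι ≫ (X ↘ (Spec (CommRingCat.of k)))⟩ ((Scheme.Modules.pullback J.subschemeι).obj L) 1) ↔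
      ((∀ J : X.IdealSheafData, AlgebraicGeometry.IsReduced J.subscheme → ConnectedSpace J.subscheme →
      topologicalKrullDim J.subscheme = 1 →
        0 ≤ @Curv2.deg k _ J.subscheme ⟨J.subschemeι ≫ (X ↘ (Spec (CommRingCat.of k)))⟩ ((Scheme.Modules.pullback J.subschemeι).obj (DCoh.dualizingMod (X ↘ (Spec (CommRingCat.of k))) h OY 1)) 1) ∧
      (∀ J : X.IdealSheafData, AlgebraicGeometry.IsReduced J.subscheme → ConnectedSpace J.subscheme →
      topologicalKrullDim J.subscheme = 1 →
        @Curv2.deg k _ J.subscheme ⟨J.subschemeι ≫ (X ↘ (Spec (CommRingCat.of k)))⟩ ((Scheme.Modules.pullback J.subschemeι).obj (DCoh.dualizingMod (X ↘ (Spec (CommRingCat.of k))) h OY 1)) 1 = 0 →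
        (@Curv2.deg k _ J.subscheme ⟨J.subschemeι ≫ (X ↘ (Spec (CommRingCat.of k)))⟩ ((Scheme.Modules.pullback J.subschemeι).obj L) 1 = 0 ∨ @Curv2.deg k _ J.subscheme ⟨J.subschemeι ≫ (X ↘ (Spec (CommRingCat.of k)))⟩ ((Scheme.Modules.pullback J.subschemeι).obj L) 1 = 1))) := by
  refine ⟨fun hnef => ⟨fun J hJr hJc hJ1 => ?_, fun J hJr hJc hJ1 hwz => ?_⟩, fun ⟨hnn, hex⟩ J hJr hJc hJ1 => ?_⟩
  ·
    haveI := hJr
    haveI := hJc
    obtain ⟨hw, hz⟩ := numbers k hdim h OY hOY hGor J hJ1
    have hself := deg_omega_self k hdim h OY hOY hGor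
    have h0 := fun he : (Module.finrank k (Coh.HH X (ClSub.quotMod (J ⊔ (Scheme.IdealSheafData.vanishingIdeal ⟨closure ((J.support : Set X)ᶜ), isClosed_closure⟩))) 0) : ℤ) = 0 =>
      And.intro ((hz (by exact_mod_cast he) _ hGor).trans hself) (hz (by exact_mod_cast he) L hL)
    have hb := hbal J hJr hJc hJ1
    have hl := hnef J hJr hJc hJ1
    exact Arith.nonneg_w (by omega) (Int.natCast_nonneg _) (Int.natCast_nonneg _) hw h0 (by nlinarith [mul_nonneg (show (0:ℤ) ≤ 2 * (Curv2.genus k X : ℤ) - 2 by omega) hl]) hb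
  ·
    haveI := hJr
    haveI := hJc
    obtain ⟨hw, hz⟩ := numbers k hdim h OY hOY hGor J hJ1
    have hself := deg_omega_self k hdim h OY hOY hGor
    have h0 := fun he : (Module.finrank k (Coh.HH X (ClSub.quotMod (J ⊔ (Scheme.IdealSheafData.vanishingIdeal ⟨closure ((J.support : Set X)ᶜ), isClosed_closure⟩))) 0) : ℤ) = 0 =>
      And.intro ((hz (by exact_mod_cast he) _ hGor).trans hself) (hz (by exact_mod_cast he) L hL)
    have hb := hbal J hJr hJc hJ1
    have hl := hnef J hJr hJc hJ1
    obtain ⟨-, -, -, hl1⟩ := Arith.of_w_zero (by omega) (Int.natCast_nonneg _) (Int.natCast_nonneg _) hw h0 hwz hb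
    omega
  ·
    haveI := hJr
    haveI := hJc
    obtain ⟨hw, hz⟩ := numbers k hdim h OY hOY hGor J hJ1
    have hself := deg_omega_self k hdim h OY hOY hGor
    have h0 := fun he : (Module.finrank k (Coh.HH X (ClSub.quotMod (J ⊔ (Scheme.IdealSheafData.vanishingIdeal ⟨closure ((J.support : Set X)ᶜ), isClosed_closure⟩))) 0) : ℤ) = 0 =>
      And.intro ((hz (by exact_mod_cast he) _ hGor).trans hself) (hz (by exact_mod_cast he) L hL)
    have hb := hbal J hJr hJc hJ1
    rcases (hnn J hJr hJc hJ1).eq_or_lt with hwz | hwp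
    · rcases hex J hJr hJc hJ1 hwz.symm with e | e <;> omega
    · exact Arith.nonneg_l (by omega) (by omega) (Int.natCast_nonneg _) (Int.natCast_nonneg _) hw h0 hwp hb

end Groth.Agent.S19026
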