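import Groth.Statements.S19027
import Groth.Agent.Lib.CurveSerre11.Balanced
import Groth.Agent.Lib.CurveSerre11.BalancedArith

set_option autoImplicit false
universe u
open CategoryTheory CategoryTheory.Limits AlgebraicGeometry
attribute [local instance] HasDerivedCategory.standard
open Curves

namespace Groth.Agent.S19027

open GrothLib.CurveSerre11
set_option backward.isDefEq.respectTransparency false
set_option maxHeartbeats 1000000


/-- Let k be an algebraically closed field and X a connected reduced Gorenstein curve over k of genus g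
≥ 2: X is proper over k, reduced, connected, of dimension one, and its dualizing module ω_X (the
degree −1 cohomology sheaf of f^! O for the structure morphism f, for any choice of the data Rf_* on
D_QCoh with its right adjoint) is invertible; g = dim_k H^1(X, O_X). A connected subcurve Z of X is
a reduced connected closed subscheme of dimension one, deg_Z of a module means the degree of its
pullback to Z, g_Z = dim_k H^1(Z, O_Z), and k_Z is the length (k-dimension of global sections of the
structure sheaf) of the scheme-theoretic intersection of Z with the reduced closed subscheme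
supported on the closure of X ∖ Z. Let L be an invertible module of degree d which is balanced: for
every connected subcurve Z, |deg_Z L − (d/(2g−2)) deg_Z ω_X| ≤ k_Z/2 (written cleared of
denominators). Assume d > 3(g − 1). Under this bound, ampleness of L is equivalent to X being
G-quasistable together with deg_Z L = 1 on each exceptional subcurve Z; here G-quasistable means
that deg_Z ω_X ≥ 0 for every connected subcurve Z and that every exceptional subcurve Z (connected,
with deg_Z ω_X = 0) is irreducible (for an exceptional subcurve, irreducibility is equivalent to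
being a projective line, since such a subcurve has genus zero and meets the rest of X in a scheme of
length two). -/
theorem result (k : Type u) [Field k] [IsAlgClosed k] (X : Scheme.{u}) [X.Over (Spec (CommRingCat.of k))]
    [IsProper (X ↘ (Spec (CommRingCat.of k)))] [AlgebraicGeometry.IsReduced X] [ConnectedSpace X] (hdim : topologicalKrullDim X = 1)
    [DCoh.HasRpush (X ↘ (Spec (CommRingCat.of k)))] (h : DCoh.RpushPreservesQCoh (X ↘ (Spec (CommRingCat.of k)))) [DCoh.HasShriek (X ↘ (Spec (CommRingCat.of k))) h]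
    (OY : DCoh.DQCoh (Spec (CommRingCat.of k)))
    (hOY : Nonempty (OY.obj ≅ DCoh.inD (Spec (CommRingCat.of k)) (Coh.structureModule (Spec (CommRingCat.of k)))))
    (hGor : PicF.IsInvertible (DCoh.dualizingMod (X ↘ (Spec (CommRingCat.of k))) h OY 1)) (hg : 2 ≤ Curv2.genus k X)
    (L : X.Modules) (hL : PicF.IsInvertible L)
    (hbal : ∀ J : X.IdealSheafData, AlgebraicGeometry.IsReduced J.subscheme → ConnectedSpace J.subscheme →
      topologicalKrullDim J.subscheme = 1 →
      |2 * (2 * (Curv2.genus k X : ℤ) - 2) * @Curv2.deg k _ J.subscheme ⟨J.subschemeι ≫ (X ↘ (Spec (CommRingCat.of k)))⟩ ((Scheme.Modules.pullback J.subschemeι).obj L) 1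
          - 2 * Curv2.deg k X L 1 * @Curv2.deg k _ J.subscheme ⟨J.subschemeι ≫ (X ↘ (Spec (CommRingCat.of k)))⟩ ((Scheme.Modules.pullback J.subschemeι).obj (DCoh.dualizingMod (X ↘ (Spec (CommRingCat.of k))) h OY 1)) 1|
        ≤ (2 * (Curv2.genus k X : ℤ) - 2) * (Module.finrank k (Coh.HH X (ClSub.quotMod (J ⊔ (Scheme.IdealSheafData.vanishingIdeal ⟨closure ((J.support : Set X)ᶜ), isClosed_closure⟩))) 0) : ℤ))
    (hd : 3 * ((Curv2.genus k X : ℤ) - 1) < Curv2.deg k X L 1) :
    CohB1.IsAmple L ↔
      ((∀ J : X.IdealSheafData, AlgebraicGeometry.IsReduced J.subscheme → ConnectedSpace J.subscheme →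
      topologicalKrullDim J.subscheme = 1 →
        0 ≤ @Curv2.deg k _ J.subscheme ⟨J.subschemeι ≫ (X ↘ (Spec (CommRingCat.of k)))⟩ ((Scheme.Modules.pullback J.subschemeι).obj (DCoh.dualizingMod (X ↘ (Spec (CommRingCat.of k))) h OY 1)) 1) ∧
      (∀ J : X.IdealSheafData, AlgebraicGeometry.IsReduced J.subscheme → ConnectedSpace J.subscheme →
      topologicalKrullDim J.subscheme = 1 →
        @Curv2.deg k _ J.subscheme ⟨J.subschemeι ≫ (X ↘ (Spec (CommRingCat.of k)))⟩ ((Scheme.Modules.pullback J.subschemeι).obj (DCoh.dualizingMod (X ↘ (Spec (CommRingCat.of k))) h OY 1)) 1 = 0 → IrreducibleSpace J.subscheme) ∧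
      (∀ J : X.IdealSheafData, AlgebraicGeometry.IsReduced J.subscheme → ConnectedSpace J.subscheme →
      topologicalKrullDim J.subscheme = 1 →
        @Curv2.deg k _ J.subscheme ⟨J.subschemeι ≫ (X ↘ (Spec (CommRingCat.of k)))⟩ ((Scheme.Modules.pullback J.subschemeι).obj (DCoh.dualizingMod (X ↘ (Spec (CommRingCat.of k))) h OY 1)) 1 = 0 → @Curv2.deg k _ J.subscheme ⟨J.subschemeι ≫ (X ↘ (Spec (CommRingCat.of k)))⟩ ((Scheme.Modules.pullback J.subschemeι).obj L) 1 = 1)) := by
  refine ⟨fun hamp => ?_, fun ⟨hnn, hirr0, hex⟩ => (isAmple_iff_degS k hdim hL).2 fun η hη => ?_⟩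
  ·
    refine ⟨fun J hJr hJc hJ1 => ?_, fun J hJr hJc hJ1 hwz => ?_, fun J hJr hJc hJ1 hwz => ?_⟩
    ·
      haveI := hJr
      haveI := hJc
      obtain ⟨hw, hz⟩ := numbers k hdim h OY hOY hGor J hJ1
      have hself := deg_omega_self k hdim h OY hOY hGor
      have h0 := fun he : (Module.finrank k (Coh.HH X (ClSub.quotMod (J ⊔ (Scheme.IdealSheafData.vanishingIdeal ⟨closure ((J.support : Set X)ᶜ), isClosed_closure⟩))) 0) : ℤ) = 0 =>
        And.intro ((hz (by exact_mod_cast he) _ hGor).trans hself) (hz (by exact_mod_cast he) L hL)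
      have hb := hbal J hJr hJc hJ1
      obtain ⟨hl, hirr⟩ := ample_restrict k hdim hL hamp J hJ1
      exact Arith.nonneg_w (by omega) (Int.natCast_nonneg _) (Int.natCast_nonneg _) hw h0 (by nlinarith [mul_le_mul_of_nonneg_left (show (1:ℤ) ≤ _ by exact hl) (show (0:ℤ) ≤ 2 * (Curv2.genus k X : ℤ) - 2 by omega)]) hb
    ·
      haveI := hJr
      haveI := hJc
      obtain ⟨hw, hz⟩ := numbers k hdim h OY hOY hGor J hJ1
      have hself := deg_omega_self k hdim h OY hOY hGor
      have h0 := fun he : (Module.finrank k (Coh.HH X (ClSub.quotMod (J ⊔ (Scheme.IdealSheafData.vanishingIdeal ⟨closure ((J.support : Set X)ᶜ), isClosed_closure⟩))) 0) : ℤ) = 0 =>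
        And.intro ((hz (by exact_mod_cast he) _ hGor).trans hself) (hz (by exact_mod_cast he) L hL)
      have hb := hbal J hJr hJc hJ1
      obtain ⟨-, -, -, hl1⟩ := Arith.of_w_zero (by omega) (Int.natCast_nonneg _) (Int.natCast_nonneg _) hw h0 hwz hb
      exact (ample_restrict k hdim hL hamp J hJ1).2 hl1
    ·
      haveI := hJr
      haveI := hJc
      obtain ⟨hw, hz⟩ := numbers k hdim h OY hOY hGor J hJ1
      have hself := deg_omega_self k hdim h OY hOY hGor
      have h0 := fun he : (Module.finrank k (Coh.HH X (ClSub.quotMod (J ⊔ (Scheme.IdealSheafData.vanishingIdeal ⟨closure ((J.support : Set X)ᶜ), isClosed_closure⟩))) 0) : ℤ) = 0 =>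
        And.intro ((hz (by exact_mod_cast he) _ hGor).trans hself) (hz (by exact_mod_cast he) L hL)
      have hb := hbal J hJr hJc hJ1
      obtain ⟨hl, hirr⟩ := ample_restrict k hdim hL hamp J hJ1
      obtain ⟨-, -, -, hl1⟩ := Arith.of_w_zero (by omega) (Int.natCast_nonneg _) (Int.natCast_nonneg _) hw h0 hwz hb
      omega
  · obtain ⟨hJr, -, hJc, hJ1⟩ := irreducible_JJ k hdim hη
    rw [← deg_eq_degS k hL]
    generalize hJ : GrothLib.SubCurve16.JJ ({η} : Set X) = J at hJr hJc hJ1 ⊢
    haveI := hJr
    haveI := hJc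
    obtain ⟨hw, hz⟩ := numbers k hdim h OY hOY hGor J hJ1
    have hself := deg_omega_self k hdim h OY hOY hGor
    have h0 := fun he : (Module.finrank k (Coh.HH X (ClSub.quotMod (J ⊔ (Scheme.IdealSheafData.vanishingIdeal ⟨closure ((J.support : Set X)ᶜ), isClosed_closure⟩))) 0) : ℤ) = 0 =>
      And.intro ((hz (by exact_mod_cast he) _ hGor).trans hself) (hz (by exact_mod_cast he) L hL)
    have hb := hbal J hJr hJc hJ1
    rcases (hnn J hJr hJc hJ1).eq_or_lt with hwz | hwp
    · have := hex J hJr hJc hJ1 hwz.symm
      omega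
    · exact Arith.pos_l (by omega) (by omega) (Int.natCast_nonneg _) (Int.natCast_nonneg _) hw h0 hwp hb

end Groth.Agent.S19027
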