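import Groth.Statements.S19035


set_option autoImplicit false
universe u v w x
open CAlg

namespace Groth.Agent.S19035

/-- Let p be a prime and k a perfect field of characteristic p. Let (A_i) be a directed system of
finitely generated commutative k-algebras, indexed by a nonempty directed preorder, with compatible
k-algebra transition maps, and let B be a finitely generated k-algebra with compatible k-algebra
maps A_i → B which present B as the direct limit of the system (every element of B is the image of
an element of some A_i, and two elements of some A_i with the same image in B have the same image in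
some A_j). Then the p-typical Witt vectors commute with this direct limit: every Witt vector over B
is the image of a Witt vector over some A_i, and two Witt vectors over some A_i with the same image
over B already have the same image over some A_j. (Both finiteness hypotheses matter: for an
arbitrary filtered direct limit of commutative rings either assertion can fail.) -/
theorem result
    (p : ℕ) [Fact p.Prime] (k : Type u) [Field k] [CharP k p] [PerfectRing k p]
    {ι : Type v} [Preorder ι] [IsDirected ι (· ≤ ·)] [Nonempty ι]
    (A : ι → Type w) [∀ i, CommRing (A i)] [∀ i, Algebra k (A i)]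
    [∀ i, Algebra.FiniteType k (A i)]
    (f : ∀ i j, i ≤ j → (A i →ₐ[k] A j))
    (hf : ∀ i j l (hij : i ≤ j) (hjl : j ≤ l) (x : A i),
      f j l hjl (f i j hij x) = f i l (hij.trans hjl) x)
    (B : Type x) [CommRing B] [Algebra k B] [Algebra.FiniteType k B]
    (g : ∀ i, A i →ₐ[k] B)
    (hfg : ∀ i j (hij : i ≤ j) (x : A i), g j (f i j hij x) = g i x)
    (hsurj : ∀ b : B, ∃ i, ∃ x : A i, g i x = b)
    (hinj : ∀ i (x y : A i), g i x = g i y → ∃ j, ∃ hij : i ≤ j, f i j hij x = f i j hij y) :
    (∀ w : WittVector p B, ∃ i, ∃ v : WittVector p (A i),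
        WittVector.map (g i).toRingHom v = w) ∧
    (∀ i (v v' : WittVector p (A i)),
        WittVector.map (g i).toRingHom v = WittVector.map (g i).toRingHom v' →
        ∃ j, ∃ hij : i ≤ j,
          WittVector.map (f i j hij).toRingHom v = WittVector.map (f i j hij).toRingHom v') := by
  classical
  have hkill : ∀ i, ∃ j, ∃ hij : i ≤ j, ∀ x, g i x = 0 → f i j hij x = 0 := by
    intro i
    haveI : IsNoetherianRing (A i) := Algebra.FiniteType.isNoetherianRing k (A i)
    obtain ⟨G, hG⟩ := IsNoetherian.noetherian (RingHom.ker (g i).toRingHom)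
    have h1 : ∀ x ∈ G, ∃ j, ∃ hij : i ≤ j, f i j hij x = 0 := fun x hx => by
      have hx' : g i x = g i 0 := by
        rw [map_zero]
        have : x ∈ RingHom.ker (g i).toRingHom := hG ▸ Submodule.subset_span hx
        exact this
      obtain ⟨j, hij, h⟩ := hinj i x 0 hx'
      exact ⟨j, hij, by rw [h, map_zero]⟩
    choose J hJ hJ0 using h1
    obtain ⟨j₀, hj₀⟩ := Finset.exists_le (G.attach.image fun (x : {y // y ∈ G}) => J x.1 x.2)
    obtain ⟨j, hj, hj'⟩ := exists_ge_ge i j₀
    refine ⟨j, hj, fun x hx => ?_⟩
    have hmem : x ∈ Ideal.span (G : Set (A i)) := by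
      rw [show Ideal.span (G : Set (A i)) = RingHom.ker (g i).toRingHom from hG]
      exact hx
    refine (Ideal.span_le (I := RingHom.ker (f i j hj))).2 (fun y hy => ?_) hmem
    have hle : J y hy ≤ j :=
      (hj₀ _ (Finset.mem_image.2 ⟨⟨y, hy⟩, Finset.mem_attach _ _, rfl⟩)).trans hj'
    rw [SetLike.mem_coe, RingHom.mem_ker, ← hf i (J y hy) j (hJ y hy) hle, hJ0 y hy, map_zero]
  refine ⟨fun w => ?_, fun i v v' h => ?_⟩
  · obtain ⟨G, hG⟩ := (inferInstance : Algebra.FiniteType k B).out
    choose I x hx using hsurj
    obtain ⟨i₀, hi₀⟩ := (G.image I).exists_le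
    have hg : Function.Surjective (g i₀) := by
      rw [← AlgHom.range_eq_top, eq_top_iff, ← hG, Algebra.adjoin_le_iff]
      intro b hb
      exact ⟨f (I b) i₀ (hi₀ _ (Finset.mem_image_of_mem I hb)) (x b), by
        show g i₀ _ = b
        rw [hfg, hx]⟩
    obtain ⟨j, hij, hj⟩ := hkill i₀
    let s : B →ₐ[k] A j := AlgHom.liftOfSurjective (g i₀) hg (f i₀ j hij) (fun y hy => hj y hy)
    refine ⟨j, WittVector.map s.toRingHom w, WittVector.ext fun m => ?_⟩
    rw [WittVector.map_coeff, WittVector.map_coeff]
    obtain ⟨y, hy⟩ := hg (w.coeff m)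
    show g j (s (w.coeff m)) = w.coeff m
    rw [← hy, show s (g i₀ y) = f i₀ j hij y from AlgHom.liftOfSurjective_apply .., hfg]
  · obtain ⟨j, hij, hj⟩ := hkill i
    refine ⟨j, hij, WittVector.ext fun m => ?_⟩
    have hm := congrArg (fun z : WittVector p B => z.coeff m) h
    simp only [WittVector.map_coeff, AlgHom.toRingHom_eq_coe, RingHom.coe_coe] at hm ⊢
    rw [← sub_eq_zero, ← map_sub]
    exact hj _ (by rw [map_sub, hm, sub_self])

end Groth.Agent.S19035
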