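import Groth.Statements.S19037
import Mathlib.Algebra.Polynomial.Laurent
import Mathlib.RingTheory.GradedAlgebra.Basic

set_option autoImplicit false
universe u v
open scoped Polynomial LaurentPolynomial
open Instab

namespace Groth.Agent.S19037



/-- Affine form over a ring R. Let A be a commutative ℤ-graded R-algebra and t an element of degree −1
(so A is a graded algebra over R[t] with t in degree −1), and let ψ : A[1/t] → R[T, T⁻¹] be an
R-algebra map sending t to T which is graded, in the sense that each homogeneous element of degree n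
of A goes to an element of R times T^(−n). Then ψ is obtained by inverting t from an R-algebra map χ
: A → R[T] (compared through the inclusion of R[T] in R[T, T⁻¹]) if and only if ψ kills t·a for
every homogeneous a of degree 1; such a χ is unique. (The source states this for quasi-coherent
graded algebras over an arbitrary base scheme; the statement is local on the base and is given here
over an affine base.) -/
theorem result
    {R : Type u} {A : Type v} [CommRing R] [CommRing A] [Algebra R A]
    (𝒜 : ℤ → Submodule R A) [GradedAlgebra 𝒜] (t : A) (ht : t ∈ 𝒜 (-1))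
    (ψ : Localization.Away t →ₐ[R] R[T;T⁻¹])
    (hψt : ψ (algebraMap A (Localization.Away t) t) = LaurentPolynomial.T 1)
    (hψ : ∀ (n : ℤ) (a : A), a ∈ 𝒜 n →
      ∃ r : R, ψ (algebraMap A (Localization.Away t) a) = LaurentPolynomial.C r * LaurentPolynomial.T (-n)) :
    (∃! χ : A →ₐ[R] R[X], ∀ a : A,
        ψ (algebraMap A (Localization.Away t) a) = Polynomial.toLaurentAlg (χ a)) ↔
      ∀ a ∈ 𝒜 1, ψ (algebraMap A (Localization.Away t) (t * a)) = 0 := by
  classical
  let φ : A →ₐ[R] R[T;T⁻¹] := ψ.comp (IsScalarTower.toAlgHom R A (Localization.Away t))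
  have hφt : φ t = LaurentPolynomial.T 1 := hψt
  have hinj : Function.Injective (Polynomial.toLaurentAlg (R := R)) := fun a b h => Polynomial.toLaurent_injective h
  constructor
  · rintro ⟨χ, hχ, -⟩ a ha
    obtain ⟨r, hr⟩ := hψ 1 a ha
    have hr0 : r = 0 := by
      have h := (hχ a).symm.trans hr
      have h2 : (Polynomial.X * χ a).toLaurent = (Polynomial.C r).toLaurent := by
        rw [map_mul, Polynomial.toLaurent_X, Polynomial.toLaurent_C, ← Polynomial.toLaurentAlg_apply, h,
          mul_left_comm, ← LaurentPolynomial.T_add]
        simp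
      have h3 := congrArg (fun p : R[X] => p.coeff 0) (Polynomial.toLaurent_injective h2)
      simpa using h3.symm
    show φ (t * a) = 0
    rw [map_mul, show φ a = LaurentPolynomial.C r * LaurentPolynomial.T (-1) from hr, hr0, map_zero, zero_mul, mul_zero]
  · intro hc
    have hmem : ∀ a, φ a ∈ (Polynomial.toLaurentAlg (R := R)).range := by
      intro a
      refine DirectSum.Decomposition.inductionOn 𝒜 (zero_mem _ |> fun h => by rw [map_zero]; exact h) ?_
        (fun x y hx hy => by rw [map_add]; exact add_mem hx hy) a
      intro n x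
      obtain ⟨r, hr⟩ := hψ n x x.2
      rw [show φ (x : A) = LaurentPolynomial.C r * LaurentPolynomial.T (-n) from hr]
      rcases le_or_gt n 0 with hn | hn
      · refine ⟨Polynomial.C r * Polynomial.X ^ (-n).toNat, ?_⟩
        show Polynomial.toLaurentAlg _ = _
        rw [Polynomial.toLaurentAlg_apply, Polynomial.toLaurent_C_mul_X_pow, Int.toNat_of_nonneg (neg_nonneg.2 hn)]
      · obtain ⟨j, hj⟩ : ∃ j : ℕ, n = j + 1 := ⟨(n - 1).toNat, by omega⟩
        have hy : t ^ j * (x : A) ∈ 𝒜 1 := by
          have h := SetLike.mul_mem_graded (SetLike.pow_mem_graded j ht) x.2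
          convert h using 2
          simp [hj]
        have h : φ (t * (t ^ j * (x : A))) = 0 := hc _ hy
        rw [map_mul, map_mul, map_pow, hφt, show φ (x : A) = LaurentPolynomial.C r * LaurentPolynomial.T (-n) from hr,
          LaurentPolynomial.T_pow, ← mul_assoc, ← LaurentPolynomial.T_add, mul_left_comm, ← LaurentPolynomial.T_add] at h
        have he : (1 + (j : ℤ) * 1 + -n) = 0 := by omega
        rw [he, LaurentPolynomial.T_zero, mul_one] at h
        rw [h, zero_mul]
        exact zero_mem _
    let e : R[X] ≃ₐ[R] (Polynomial.toLaurentAlg (R := R)).range := AlgEquiv.ofInjective _ hinj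
    let χ : A →ₐ[R] R[X] := e.symm.toAlgHom.comp (φ.codRestrict _ hmem)
    have hχ : ∀ a, ψ (algebraMap A (Localization.Away t) a) = Polynomial.toLaurentAlg (χ a) := fun a => by
      have h := congrArg Subtype.val (e.apply_symm_apply (φ.codRestrict _ hmem a))
      exact h.symm
    exact ⟨χ, hχ, fun χ' hχ' => AlgHom.ext fun a => hinj ((hχ' a).symm.trans (hχ a))⟩

end Groth.Agent.S19037
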