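import Groth.Statements.S19038
import Groth.Agent.Lib.CocharConst2.Main

set_option autoImplicit false
set_option linter.all false
set_option synthInstance.maxHeartbeats 400000
set_option maxHeartbeats 1000000
set_option backward.isDefEq.respectTransparency false
universe u
open Instab

namespace Groth.Agent.S19038

open CategoryTheory MonoidalCategory CartesianMonoidalCategory MonObj GrpObj AlgebraicGeometry in
/-- Let k be a perfect field, S a connected scheme of finite type over k, G a smooth affine group scheme
over k with a one-parameter subgroup λ : G_m → G, and φ : (G_m)_S → G_S a homomorphism of group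
schemes over S (here (G_m)_S and G_S are the base changes of G_m and G along S → Spec k, and λ_S is
the base change of λ). Suppose that at some k-rational point s of S the restriction of φ to the
fibre over s equals g₀·λ_S·g₀⁻¹ for a point g₀ of G over s. Then φ is étale-locally conjugate to the
constant family λ: there are an S-scheme S′ whose structure map is étale and surjective and an
S′-valued point g of G_S such that, on (G_m)_S ×_S S′, φ composed with the first projection equals
(g ∘ pr₂)·(λ_S ∘ pr₁)·(g ∘ pr₂)⁻¹ for the group law on points of G_S. (The source phrases this as: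
the sheaf of such g is a torsor under the centralizer of λ; the statement here is its final
assertion together with the étale-local existence of sections.) -/
theorem result
    (k : Type u) [Field k] [PerfectField k] (S : Scheme.{u}) (f : S ⟶ Spec (CommRingCat.of k))
    [LocallyOfFiniteType f] [QuasiCompact f] [ConnectedSpace ↥S]
    (G : Over (Spec (CommRingCat.of k))) [GrpObj G] [IsAffine G.left] [Smooth G.hom]
    (lam : Red.Gm (Spec (CommRingCat.of k)) ⟶ G) [IsMonHom lam]
    (φ : Red.bc f (Red.Gm (Spec (CommRingCat.of k))) ⟶ Red.bc f G) [IsMonHom φ]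
    (s : Spec (CommRingCat.of k) ⟶ S) (hs : s ≫ f = 𝟙 _)
    (g₀ : Over.mk s ⟶ Red.bc f G)
    (h₀ : fst (Red.bc f (Red.Gm (Spec (CommRingCat.of k)))) (Over.mk s) ≫ φ =
      (snd _ _ ≫ g₀) * (fst _ _ ≫ (Over.pullback f).map lam) * (snd _ _ ≫ g₀)⁻¹) :
    ∃ (S' : Over S), Etale S'.hom ∧ Surjective S'.hom ∧ ∃ g : S' ⟶ Red.bc f G,
      fst (Red.bc f (Red.Gm (Spec (CommRingCat.of k)))) S' ≫ φ =
        (snd _ _ ≫ g) * (fst _ _ ≫ (Over.pullback f).map lam) * (snd _ _ ≫ g)⁻¹ := by
  have hH := GrothLib.DiagGrp.hasChartsFpqc_DS (M := ℤ) (Spec (CommRingCat.of k)) (fun _ _ => True) trivial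
  obtain ⟨S', h1, h2, g, hg⟩ := GrothLib.CocharConst2.etaleLocally_conj f hH inferInstance inferInstance lam φ
    (Over.mk s) ⟨IsLocalRing.closedPoint k⟩ g₀ (fun Y p h => by
      have h' := congrArg (fun e => lift h p ≫ e) h₀
      simp only [MonObj.comp_mul, GrpObj.comp_inv, lift_fst_assoc, lift_snd_assoc] at h'
      exact h')
  exact ⟨S', h1, h2, g, (hg _ (snd _ _) (fst _ _)).trans rfl⟩

end Groth.Agent.S19038
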