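import Groth.Statements.S19039
import Groth.Agent.Lib.GmOrbit2.Main

set_option autoImplicit false
set_option linter.all false
set_option backward.isDefEq.respectTransparency false
universe u
open Instab

namespace Groth.Agent.S19039

open CategoryTheory MonoidalCategory CartesianMonoidalCategory MonObj GrpObj AlgebraicGeometry in
/-- The case n = 1 for a scheme X separated over an affine base Spec R, stated as the two facts that
identify equivariant families with maps whose orbit map extends. Let G_m act on X (a left action a :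
G_m × X → X over Spec R) and on A¹ × T through the scaling action on A¹, for an R-scheme T; write j
: G_m → A¹ for the inclusion t ↦ t. (a) If u, v : A¹ × T → X are G_m-equivariant R-morphisms with
the same restriction to the section {1} × T, then u = v. (b) If x : T → X is an R-morphism and u :
A¹ × T → X is an R-morphism whose restriction along j × T is the orbit family (g, t) ↦ g · x(t),
then u is G_m-equivariant. (The source works with an algebraic space X quasi-separated and locally
of finite presentation over a base B with an action of G_mⁿ and deduces that X⁺ → X is a locally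
finitely presented unramified monomorphism; only the elementary identification for n = 1 is stated
here, which uses separatedness alone.) -/
theorem result
    (R : Type u) [CommRing R] (X : Over (Spec (CommRingCat.of R))) [IsSeparated X.hom]
    (a : AlgGrp.Action (ThetaS.Gm R) X) (T : Over (Spec (CommRingCat.of R))) :
    (∀ u v : ThetaS.Line R ⊗ T ⟶ X,
        (α_ (ThetaS.Gm R) (ThetaS.Line R) T).inv ≫ ((ThetaS.lineAction R).act ▷ T) ≫ u = (ThetaS.Gm R ◁ u) ≫ a.act →
        (α_ (ThetaS.Gm R) (ThetaS.Line R) T).inv ≫ ((ThetaS.lineAction R).act ▷ T) ≫ v = (ThetaS.Gm R ◁ v) ≫ a.act →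
        lift ((1 : T ⟶ ThetaS.Gm R) ≫ (CoactBr.pt (ThetaS.linePt (ThetaS.zPow R 1)) : ThetaS.Gm R ⟶ ThetaS.Line R)) (𝟙 T) ≫ u =
          lift ((1 : T ⟶ ThetaS.Gm R) ≫ (CoactBr.pt (ThetaS.linePt (ThetaS.zPow R 1)) : ThetaS.Gm R ⟶ ThetaS.Line R)) (𝟙 T) ≫ v →
        u = v) ∧
    (∀ (x : T ⟶ X) (u : ThetaS.Line R ⊗ T ⟶ X),
        ((CoactBr.pt (ThetaS.linePt (ThetaS.zPow R 1)) : ThetaS.Gm R ⟶ ThetaS.Line R) ▷ T) ≫ u = (ThetaS.Gm R ◁ x) ≫ a.act →
        (α_ (ThetaS.Gm R) (ThetaS.Line R) T).inv ≫ ((ThetaS.lineAction R).act ▷ T) ≫ u =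
          (ThetaS.Gm R ◁ u) ≫ a.act) := by
  refine ⟨fun u v hu hv h => ?_, fun x u h => GrothLib.GmOrbit2.orbit_extension_equivariant a x u h⟩
  refine GrothLib.GmOrbit2.ext_whiskerRight _ (GrothLib.GmOrbit2.injective_map_linePt R) u v ?_
  let s := lift ((1 : T ⟶ ThetaS.Gm R) ≫ GrothLib.GmOrbit2.jMap R) (𝟙 T)
  have key : ∀ w : ThetaS.Line R ⊗ T ⟶ X,
      (α_ (ThetaS.Gm R) (ThetaS.Line R) T).inv ≫ ((ThetaS.lineAction R).act ▷ T) ≫ w = (ThetaS.Gm R ◁ w) ≫ a.act →
        GrothLib.GmOrbit2.jMap R ▷ T ≫ w = (ThetaS.Gm R ◁ (s ≫ w)) ≫ a.act := fun w hw => by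
    rw [← GrothLib.GmOrbit2.unit_equivariant T, Category.assoc, Category.assoc, hw, MonoidalCategory.whiskerLeft_comp,
      Category.assoc]
  exact (key u hu).trans ((congrArg (fun y => (ThetaS.Gm R ◁ y) ≫ a.act) h).trans (key v hv).symm)

end Groth.Agent.S19039
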