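import Groth.Statements.S1904
-- import your own Groth.Agent.* helpers here
import Groth.Agent.Lib.CycP1.Graph

set_option autoImplicit false
universe u
open CategoryTheory AlgebraicGeometry
open CategoryTheory.Limits
open Cyc

namespace Groth.Agent.S1904

/-- Let X be integral with δ(η) = n, U ⊆ X a nonempty open and f an invertible function on U, viewed as
a rational function on X. Let Y ⊆ P^1_X be the scheme-theoretic closure of the graph of f and Y_0,
Y_∞ → X its pullbacks along the sections at 0 and ∞. Then div_X(f) = [Y_0]_{n−1} − [Y_∞]_{n−1}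
coefficientwise. A pair (X, δ) with Cyc.IsSetup plays the role of a scheme locally of finite type
over a fixed base with a dimension function (X locally Noetherian with universally catenary local
rings, δ a dimension function), and Cyc.DeltaCompat records that the dimension function upstairs is
the induced one. The published statement has further parts, which are not stated here. -/
theorem result (X : Scheme.{u}) [IsIntegral X] (δ : X → ℤ) (hX : Cyc.IsSetup X δ) (n : ℤ) (hn : δ (genericPoint X) = n) (U : X.Opens) (hη : genericPoint X ∈ U) (f : Γ(X, U)) (hf : IsUnit f) : Cyc.divFun δ (genericPoint X) (X.evaluation U (genericPoint X) hη f) = fun x => Cyc.subschemeFun δ (n - 1) (pullback.snd (P1.graphClosureι X U f) (P1.sect X 0)) x - Cyc.subschemeFun δ (n - 1) (pullback.snd (P1.graphClosureι X U f) (P1.sect X 1)) x := by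
  classical
  haveI := hX.1
  obtain ⟨δP, hP⟩ := GrothLib.CycP1.exists_deltaCompat (CohB1.ProjSpaceOver.toBase 1 X) δ
  haveI : Nonempty (U : Scheme.{u}) := ⟨⟨genericPoint X, hη⟩⟩
  haveI : IsIntegral (U : Scheme.{u}) := isIntegral_of_isOpenImmersion U.ι
  haveI : QuasiCompact (P1.graph X U f) := by
    haveI : QuasiCompact (P1.graph X U f ≫ CohB1.ProjSpaceOver.toBase 1 X) := by
      rw [show P1.graph X U f ≫ CohB1.ProjSpaceOver.toBase 1 X = U.ι from pullback.lift_snd _ _ _]
      infer_instance
    exact QuasiCompact.of_comp _ (CohB1.ProjSpaceOver.toBase 1 X)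
  haveI : IsIntegral (P1.graph X U f).ker.subscheme := GrothLib.CycP1.isIntegral_image (P1.graph X U f)
  haveI : IsClosedImmersion (P1.graphClosureι X U f) :=
    inferInstanceAs (IsClosedImmersion (P1.graph X U f).ker.subschemeι)
  set η := genericPoint X with hηdef
  set φ := X.evaluation U η hη f with hφdef
  have hφ : φ ≠ 0 := (hf.map (X.evaluation U η hη).hom).ne_zero
  let l : Spec (X.residueField η) ⟶ (U : Scheme.{u}) := Spec.map (X.residue η) ≫ U.fromSpecStalkOfMem η hη
  have hl : l ≫ U.ι = X.fromSpecResidueField η := by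
    rw [Category.assoc, Scheme.Opens.fromSpecStalkOfMem_ι]
    rfl
  have hlpt : l (IsLocalRing.closedPoint (X.residueField η)) = genericPoint (U : Scheme.{u}) := by
    refine U.ι.isEmbedding.injective ?_
    rw [genericPoint_eq_of_isOpenImmersion U.ι, ← Scheme.Hom.comp_apply, hl]
    exact Scheme.fromSpecResidueField_apply _ _
  obtain ⟨h0, h1, he, hs, hdiv⟩ := GrothLib.CycP1.point_spec (δ := δ) hφ (l ≫ P1.graph X U f)
    (CommRingCat.ofHom (P1.chartMap 0 Γ(X, U) f) ≫ X.evaluation U η hη)
    (by
      show X.evaluation U η hη (P1.chartMap 0 Γ(X, U) f (GrothLib.CycP1.coord 0)) = φ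
      rw [GrothLib.CycP1.chartMap_coord])
    (by
      rw [Category.assoc, show P1.graph X U f ≫ GrothLib.CycP1.pr X = _ from pullback.lift_fst _ _ _,
        Category.assoc, Scheme.Opens.fromSpecStalkOfMem_toSpecΓ_assoc, Spec.map_comp, Scheme.evaluation,
        Spec.map_comp]
      simp only [Category.assoc])
    (by
      rw [Category.assoc, show P1.graph X U f ≫ CohB1.ProjSpaceOver.toBase 1 X = U.ι from
        pullback.lift_snd _ _ _, hl])
    (p := P1.graphClosureι X U f (genericPoint (P1.graph X U f).ker.subscheme))
    (by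
      rw [Scheme.Hom.comp_apply, hlpt]
      exact (GrothLib.CycP1.genericPoint_image (P1.graph X U f)).symm)
  set p := P1.graphClosureι X U f (genericPoint (P1.graph X U f).ker.subscheme)
  have hδp : δP p = δ (CohB1.ProjSpaceOver.toBase 1 X p) := by
    obtain ⟨m, hm, hmx⟩ := hP p
    have h := GrothLib.CycPush.resTrdeg_finite (CohB1.ProjSpaceOver.toBase 1 X)
      (RingHom.Finite.of_surjective _ hs)
    obtain rfl : m = 0 := by exact_mod_cast (hm.symm.trans h : (m : Cardinal) = 0)
    simpa using hmx
  funext x
  rw [GrothLib.CycP1.fibre_sub_fibre (P1.graphClosureι X U f) hX hP rfl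
    (by rw [hδp, he, hn]; ring) h0 h1 x, if_pos hδp, hdiv x]

end Groth.Agent.S1904
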