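import Groth.Statements.S19040
-- import your own Groth.Agent.* helpers here
import Groth.Agent.Lib.LinProj.P1Pow
import Groth.Agent.Lib.HilbStrat10.ProjSpace
import Groth.Agent.Lib.FibreDimAt6.Flat
import Groth.Agent.Lib.FibreDimAt6.ZeroDim

set_option autoImplicit false
universe u
open CategoryTheory CategoryTheory.Limits AlgebraicGeometry
open Cyc

open CategoryTheory CategoryTheory.Limits AlgebraicGeometry

namespace GrothAux.S19040

theorem eq_of_specializes_of_finite {A B : Scheme.{u}} (φ : A ⟶ B) [IsFinite φ] {a b : A} (h : a ⤳ b)
    (he : φ a = φ b) : a = b := by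
  have hd := φ.isDiscrete_preimage_singleton (φ b)
  haveI : DiscreteTopology (φ ⁻¹' {φ b}) := hd.to_subtype
  have h' : (⟨a, he⟩ : φ ⁻¹' {φ b}) ⤳ ⟨b, rfl⟩ := (subtype_specializes_iff _ _).2 h
  exact congrArg Subtype.val h'.eq

end GrothAux.S19040

namespace Groth.Agent.S19040

/-- Let X be an integral Noetherian scheme and n a natural number, let P be the n-fold fibre product
over X of copies of the projective line over X, with structure map to X, and let W be an integral
closed subscheme of P of codimension n, in the sense that the local ring of P at the generic point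
of W has Krull dimension n. If the induced morphism f : W → X is dominant and flat, then f is finite
and surjective, so finite and faithfully flat. (The source works with a Noetherian separated scheme
X of finite dimension over a field k, takes W to be the closure in X ×_k (P^1_k)^n of an integral
closed subscheme Z of codimension n of X × (P^1 minus the point 1)^n, and assumes the closure
dominant and flat over X; such a closure is an integral closed subscheme of codimension n of the
n-fold product of projective lines over X, which is the form stated here, and the field k plays no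
role.) -/
theorem result
    (X : Scheme.{u}) [IsIntegral X] [IsNoetherian X] (n : ℕ)
    (W : Scheme.{u}) [IsIntegral W]
    (i : W ⟶ widePullback X (fun _ : Fin n => CohB1.ProjSpaceOver 1 X)
      (fun _ => CohB1.ProjSpaceOver.toBase 1 X))
    [IsClosedImmersion i]
    (hcodim : ringKrullDim
      ((widePullback X (fun _ : Fin n => CohB1.ProjSpaceOver 1 X)
        (fun _ => CohB1.ProjSpaceOver.toBase 1 X)).presheaf.stalk (i.base (genericPoint W))) = n)
    (f : W ⟶ X)
    (hf : i ≫ WidePullback.base (fun _ : Fin n => CohB1.ProjSpaceOver.toBase 1 X) = f)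
    [IsDominant f] [Flat f] :
    IsFinite f ∧ Surjective f := by
  classical
  subst hf
  let PX := widePullback X (fun _ : Fin n => CohB1.ProjSpaceOver 1 X) (fun _ => CohB1.ProjSpaceOver.toBase 1 X)
  let bP : PX ⟶ X := WidePullback.base (fun _ : Fin n => CohB1.ProjSpaceOver.toBase 1 X)
  obtain ⟨φ, hφ, -, hφb⟩ := GrothLib.LinProj.exists_P1Pow X n
  haveI := GrothLib.Chow.isProper_toBase n X
  haveI : IsProper bP := by rw [show bP = φ ≫ CohB1.ProjSpaceOver.toBase n X from hφb.symm]; infer_instance
  haveI : IsProper (i ≫ WidePullback.base (fun _ : Fin n => CohB1.ProjSpaceOver.toBase 1 X)) :=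
    inferInstanceAs (IsProper (i ≫ bP))
  let f := i ≫ bP
  haveI : Flat f := ‹_›
  haveI : IsDominant f := ‹_›
  haveI : IsProper f := ‹_›
  refine ⟨?_, ⟨Set.range_eq_univ.1 ((f.isClosedMap.isClosed_range.closure_eq).symm.trans f.denseRange.closure_range)⟩⟩
  let η := genericPoint X
  have hgen : ∀ a : X, a ⤳ η → a = η := fun a ha => (ha.antisymm (genericPoint_specializes a)).eq
  have hone : ∀ w : W, f w = η → w = genericPoint W := by
    intro w hw
    by_contra hne
    let z := i (genericPoint W)
    have hco : Order.coheight z = (n : ℕ∞) := by
      have h1 := hcodim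
      rw [AlgebraicGeometry.ringKrullDim_stalk_eq_coheight] at h1
      exact_mod_cast h1
    obtain ⟨p, hp, hlen⟩ := Order.exists_series_of_coheight_eq_coe z hco
    have hlt : i w < z := by
      refine lt_of_le_not_ge (Scheme.le_iff_specializes.2 ((genericPoint_specializes w).map i.continuous)) fun hge => hne ?_
      exact i.isClosedEmbedding.injective
        ((Scheme.le_iff_specializes.1 hge).antisymm ((genericPoint_specializes w).map i.continuous)).eq
    let s := p.cons (i w) (show i w < p.head by rw [hp]; exact hlt)
    have hover : ∀ j, bP (s j) = η := fun j => hgen _ (by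
      have h1 : i w ≤ s j := by
        refine le_trans ?_ (LTSeries.head_le s j)
        exact (RelSeries.head_cons p (i w) _).ge
      have h2 := (Scheme.le_iff_specializes.1 h1).map bP.continuous
      rwa [show bP (i w) = η from hw] at h2)
    have hmem : ∀ j, φ (s j) ∈ Set.range ((CohB1.ProjSpaceOver.toBase n X).fiberι η) := fun j => by
      rw [Scheme.Hom.range_fiberι]
      show CohB1.ProjSpaceOver.toBase n X (φ (s j)) = η
      rw [← Scheme.Hom.comp_apply, hφb]
      exact hover j
    choose q hq using hmem
    have hmono : StrictMono q := by
      intro a b hab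
      have hsp : s b ⤳ s a := Scheme.le_iff_specializes.1 ((LTSeries.strictMono s) hab).le
      have hne' : s a ≠ s b := ((LTSeries.strictMono s) hab).ne
      have hle : q a ≤ q b := Scheme.le_iff_specializes.2 (((CohB1.ProjSpaceOver.toBase n X).fiberι η).isEmbedding.specializes_iff.1 (by
        rw [hq a, hq b]
        exact hsp.map φ.continuous))
      refine lt_of_le_not_ge hle fun hge => hne' ?_
      have he : q a = q b := ((Scheme.le_iff_specializes.1 hge).antisymm (Scheme.le_iff_specializes.1 hle)).eq
      exact (GrothAux.S19040.eq_of_specializes_of_finite φ hsp (by rw [← hq a, ← hq b, he])).symm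
    have hd : Order.krullDim ↥((CohB1.ProjSpaceOver.toBase n X).fiber η) ≤ (n : WithBot ℕ∞) := by
      exact le_of_eq_of_le (GrothLib.CurvePoints.krullDim_points_eq _) (GrothLib.HilbStrat10.dim_fiber_le n X η)
    have hl := (Order.LTSeries.length_le_krullDim (LTSeries.mk s.length q hmono)).trans hd
    have hl' : ((n + 1 : ℕ) : WithBot ℕ∞) ≤ (n : WithBot ℕ∞) := by
      simpa [s, hlen] using hl
    exact absurd (Nat.cast_le.1 hl') (by omega)
  have h0 : topologicalKrullDim ↥(f.fiber η) ≤ 0 := by
    haveI : Subsingleton ↥(f.fiber η) := ⟨fun a b => (f.fiberι η).isEmbedding.injective ((hone _ (by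
      have := Scheme.Hom.range_fiberι f η
      exact this.le ⟨a, rfl⟩)).trans (hone _ (by
      have := Scheme.Hom.range_fiberι f η
      exact this.le ⟨b, rfl⟩)).symm)⟩
    rw [← GrothLib.CurvePoints.krullDim_points_eq]
    letI := specializationPreorder ↥(f.fiber η)
    exact Order.krullDim_nonpos_of_subsingleton
  exact GrothLib.FibreDimAt6.isFinite_of_dim_fiber_le_zero f fun y =>
    (GrothLib.FibreDimAt6.dim_fiber_le_of_specializes f (genericPoint_specializes y)).trans h0

end Groth.Agent.S19040
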