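import Groth.Statements.S19041
import Mathlib.Tactic
import Groth.Agent.Lib.Elem.GcMod

set_option autoImplicit false
universe u
open Dieu

namespace Groth.Agent.S19041

/-- Let `k` be a perfect field of characteristic `2` and `c` a natural number, and consider the explicit
`2c`-dimensional `k`-space on `X_1, …, X_c, Y_1, …, Y_c` with its operators `F` and `V` (`F Y_j =
0`; `F X_j = X_{j/2}` for `j` even and `Y_{c-(j-1)/2}` for `j` odd; `V Y_j = Y_{2j}` when `2j ≤ c`,
else `0`; `V X_j = Y_{2c-2j+1}` when `2j > c`, else `0`). For `j = 2^e l` with `l` odd and `c < 2j ≤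
2c`, and for `j'` with `c < 2j' ≤ 2c` and `n` with `2^n (2c - 2j' + 1) = c - (l-1)/2`, one has
`F^{e+1} X_j + V^{n+1} X_{j'} = 0`. (Stated over any perfect field of characteristic `2`; the source
works over an algebraically closed one.) -/
theorem result (c : ℕ) (k : Type u) [Field k] [CharP k 2] [PerfectRing k 2]
    (j e l : ℕ) (hj : j = 2 ^ e * l) (hl : Odd l) (hjc : j ≤ c) (hcj : c < 2 * j)
    (j' n : ℕ) (hj'c : j' ≤ c) (hcj' : c < 2 * j') (hn : 2 ^ n * (2 * c - 2 * j' + 1) = c - (l - 1) / 2) :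
    (W4c6eohyperellchar2.F c k)^[e + 1] (W4c6eohyperellchar2.X c k j) + (W4c6eohyperellchar2.V c k)^[n + 1] (W4c6eohyperellchar2.X c k j') = 0 := by
  open GrothLib.Elem.GcMod W4c6eohyperellchar2 in
  have hF : ∀ i, i ≤ e → (F c k)^[i] (X c k j) = X c k (2 ^ (e - i) * l) := by
    intro i
    induction i with
    | zero => intro _; rw [hj]; rfl
    | succ i ih =>
      intro hi
      have h1 : 2 ^ (e - i) * l = 2 * (2 ^ (e - (i + 1)) * l) := by
        rw [← mul_assoc, ← pow_succ', show e - (i + 1) + 1 = e - i by omega]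
      have h2 : 2 ^ (e - i) * l ≤ c :=
        le_trans (Nat.mul_le_mul_right _ (Nat.pow_le_pow_right (by norm_num) (Nat.sub_le _ _))) (hj ▸ hjc)
      have hl1 : 1 ≤ 2 ^ (e - i) * l := Nat.mul_pos (Nat.two_pow_pos _) hl.pos
      rw [Function.iterate_succ_apply', ih (by omega), F_X_even h2 hl1 (by omega), h1, Nat.mul_div_cancel_left _ (by norm_num)]
  open GrothLib.Elem.GcMod W4c6eohyperellchar2 in
  have hV : ∀ i, i ≤ n → (V c k)^[i + 1] (X c k j') = Y c k (2 ^ i * (2 * c - 2 * j' + 1)) := by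
    intro i
    induction i with
    | zero => intro _; simp [V_X hj'c hcj']
    | succ i ih =>
      intro hi
      have h2 : 2 ^ (i + 1) * (2 * c - 2 * j' + 1) ≤ c :=
        le_trans (Nat.mul_le_mul_right _ (Nat.pow_le_pow_right (by norm_num) hi)) (hn ▸ Nat.sub_le _ _)
      rw [Function.iterate_succ_apply', ih (by omega),
        V_Y (Nat.mul_pos (Nat.two_pow_pos _) (Nat.succ_pos _)) (by rw [pow_succ'] at h2; rwa [mul_assoc] at h2),
        pow_succ', mul_assoc]
  open GrothLib.Elem.GcMod W4c6eohyperellchar2 in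
  rw [hV n le_rfl, hn, Function.iterate_succ_apply', hF e le_rfl, Nat.sub_self, pow_zero, one_mul,
    F_X_odd (le_trans (Nat.le_mul_of_pos_left _ (Nat.two_pow_pos e)) (hj ▸ hjc)) (Nat.odd_iff.1 hl)]
  refine Prod.ext (funext fun i => ?_) (funext fun i => ?_) <;> exact CharTwo.add_self_eq_zero _

end Groth.Agent.S19041
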