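import Groth.Statements.S19042
import Mathlib.Tactic
import Groth.Agent.Lib.Elem.GcMod

set_option autoImplicit false
universe u
open Dieu

namespace Groth.Agent.S19042

/-- Let `k` be a perfect field of characteristic `2` and `c` a natural number, and consider the explicit
`2c`-dimensional `k`-space on `X_1, …, X_c, Y_1, …, Y_c` with its operators `F` and `V` (`F Y_j =
0`; `F X_j = X_{j/2}` for `j` even and `Y_{c-(j-1)/2}` for `j` odd; `V Y_j = Y_{2j}` when `2j ≤ c`,
else `0`; `V X_j = Y_{2c-2j+1}` when `2j > c`, else `0`). The vectors `X_j` with `c < 2j ≤ 2c`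
generate it as a module over `k[F, V]`: a `k`-subspace stable under `F` and `V` containing them is
everything. (Stated over any perfect field of characteristic `2`; the source works over an
algebraically closed one.) -/
theorem result (c : ℕ) (k : Type u) [Field k] [CharP k 2] [PerfectRing k 2]
    (N : Submodule k (W4c6eohyperellchar2.GcMod c k))
    (hF : ∀ v ∈ N, W4c6eohyperellchar2.F c k v ∈ N) (hV : ∀ v ∈ N, W4c6eohyperellchar2.V c k v ∈ N)
    (hX : ∀ j : ℕ, c < 2 * j → j ≤ c → W4c6eohyperellchar2.X c k j ∈ N) : N = ⊤ := by
  open GrothLib.Elem.GcMod W4c6eohyperellchar2 in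
  have hx : ∀ d j, c - j ≤ d → 1 ≤ j → j ≤ c → X c k j ∈ N := by
    intro d
    induction d with
    | zero => intro j h h1 h2; exact hX j (by omega) h2
    | succ d ih =>
      intro j h h1 h2
      by_cases hj : c < 2 * j
      · exact hX j hj h2
      · have := hF _ (ih (2 * j) (by omega) (by omega) (by omega))
        rwa [F_X_even (by omega) (by omega) (by omega), show 2 * j / 2 = j by omega] at this
  open GrothLib.Elem.GcMod W4c6eohyperellchar2 in
  have hy : ∀ m, 1 ≤ m → m ≤ c → Y c k m ∈ N := by
    intro m
    induction m using Nat.strong_induction_on with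
    | _ m ih =>
      intro h1 h2
      rcases Nat.mod_two_eq_zero_or_one m with h | h
      · have := hV _ (ih (m / 2) (by omega) (by omega) (by omega))
        rwa [V_Y (by omega) (by omega), show 2 * (m / 2) = m by omega] at this
      · have := hV _ (hX (c - (m - 1) / 2) (by omega) (by omega))
        rwa [V_X (by omega) (by omega), show 2 * c - 2 * (c - (m - 1) / 2) + 1 = m by omega] at this
  refine eq_top_iff.2 fun v _ => ?_
  rw [GrothLib.Elem.GcMod.eq_sum v]
  exact sum_mem fun i _ => add_mem (N.smul_mem _ (hx c _ (by omega) (by omega) (by omega)))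
    (N.smul_mem _ (hy _ (by omega) (by omega)))

end Groth.Agent.S19042
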