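import Groth.Statements.S19043
import Mathlib.Tactic
import Groth.Agent.Lib.Elem.GcMod

set_option autoImplicit false
universe u
open Dieu

namespace Groth.Agent.S19043

/-- Let `k` be a perfect field of characteristic `2` and `c` a natural number, and let `M` be the
explicit `2c`-dimensional `k`-space on `X_1, …, X_c, Y_1, …, Y_c` with its operators `F` and `V` (`F
Y_j = 0`; `F X_j = X_{j/2}` for `j` even and `Y_{c-(j-1)/2}` for `j` odd; `V Y_j = Y_{2j}` when `2j
≤ c`, else `0`; `V X_j = Y_{2c-2j+1}` when `2j > c`, else `0`). The classes of the `X_j` with `c <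
2j ≤ 2c` in the quotient of `M` by the `k`-span of `F(M) ∪ V(M)` are linearly independent and span
that quotient. (Stated over any perfect field of characteristic `2`; the source works over an
algebraically closed one.) -/
theorem result (c : ℕ) (k : Type u) [Field k] [CharP k 2] [PerfectRing k 2] :
    LinearIndependent k (fun j : {j : ℕ // c < 2 * j ∧ j ≤ c} =>
        Submodule.mkQ (Submodule.span k (Set.range (W4c6eohyperellchar2.F c k) ∪ Set.range (W4c6eohyperellchar2.V c k))) (W4c6eohyperellchar2.X c k j.1)) ∧
      Submodule.span k (Set.range (fun j : {j : ℕ // c < 2 * j ∧ j ≤ c} =>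
        Submodule.mkQ (Submodule.span k (Set.range (W4c6eohyperellchar2.F c k) ∪ Set.range (W4c6eohyperellchar2.V c k))) (W4c6eohyperellchar2.X c k j.1))) = ⊤ := by
  set S := Submodule.span k (Set.range (W4c6eohyperellchar2.F c k) ∪ Set.range (W4c6eohyperellchar2.V c k))
  open GrothLib.Elem.GcMod W4c6eohyperellchar2 in
  let π : GcMod c k →ₗ[k] ({j : ℕ // c < 2 * j ∧ j ≤ c} → k) :=
    { toFun := fun v j => coefX v j.1
      map_add' := fun v w => funext fun j => by simp only [coefX, Pi.add_apply]; split_ifs <;> simp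
      map_smul' := fun r v => funext fun j => by simp only [coefX, Pi.smul_apply]; split_ifs <;> simp }
  open GrothLib.Elem.GcMod W4c6eohyperellchar2 in
  have hker : S ≤ LinearMap.ker π := by
    refine Submodule.span_le.2 ?_
    rintro _ (⟨v, rfl⟩ | ⟨v, rfl⟩) <;> refine funext fun j => ?_ <;>
      show coefX _ j.1 = (0 : k) <;> unfold coefX <;> split_ifs with hj <;> try rfl
    show coefX v _ ^ 2 = 0
    have := j.2.1
    rw [show coefX v (2 * (j.1 - 1 + 1)) = 0 from dif_neg (by omega)]
    exact zero_pow two_ne_zero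
  constructor
  · refine LinearIndependent.of_comp (S.liftQ π hker) ?_
    have : (S.liftQ π hker ∘ fun j : {j : ℕ // c < 2 * j ∧ j ≤ c} => S.mkQ (W4c6eohyperellchar2.X c k j.1)) =
        fun j => (fun l => if j = l then (1 : k) else 0) := by
      funext j l
      show W4c6eohyperellchar2.coefX _ l.1 = _
      rw [GrothLib.Elem.GcMod.coefX_X]
      have := l.2
      by_cases h : j = l
      · rw [if_pos h, if_pos ⟨by rw [h], by omega, l.2.2⟩]
      · rw [if_neg h, if_neg fun h' => h (Subtype.ext h'.1)]
    rw [this, linearIndependent_iff']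
    intro s g hg i hi
    have := congrFun hg i
    simpa [Finset.sum_apply, hi] using this
  · refine eq_top_iff.2 fun q _ => ?_
    obtain ⟨v, rfl⟩ := S.mkQ_surjective q
    open GrothLib.Elem.GcMod W4c6eohyperellchar2 in
    have hX : ∀ j, 1 ≤ j → 2 * j ≤ c → X c k j ∈ S := fun j h1 h2 =>
      Submodule.subset_span (Or.inl ⟨X c k (2 * j), by rw [F_X_even (by omega) (by omega) (by omega), Nat.mul_div_cancel_left _ (by norm_num)]⟩)
    open GrothLib.Elem.GcMod W4c6eohyperellchar2 in
    have hY : ∀ m, 1 ≤ m → m ≤ c → Y c k m ∈ S := fun m h1 h2 => by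
      rcases Nat.mod_two_eq_zero_or_one m with h | h
      · exact Submodule.subset_span (Or.inr ⟨Y c k (m / 2), by rw [V_Y (by omega) (by omega), show 2 * (m / 2) = m by omega]⟩)
      · exact Submodule.subset_span (Or.inr ⟨X c k (c - (m - 1) / 2), by
          rw [V_X (by omega) (by omega), show 2 * c - 2 * (c - (m - 1) / 2) + 1 = m by omega]⟩)
    rw [GrothLib.Elem.GcMod.eq_sum v, map_sum]
    refine sum_mem fun i _ => ?_
    have hy0 : S.mkQ (W4c6eohyperellchar2.Y c k (i.val + 1)) = 0 :=
      (Submodule.Quotient.mk_eq_zero S).2 (hY _ (by omega) (by omega))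
    rw [map_add, map_smul, map_smul, hy0, smul_zero, add_zero]
    by_cases h : c < 2 * (i.val + 1)
    · exact Submodule.smul_mem _ _ (Submodule.subset_span ⟨⟨i.val + 1, h, by omega⟩, rfl⟩)
    · rw [show S.mkQ (W4c6eohyperellchar2.X c k (i.val + 1)) = 0 from
        (Submodule.Quotient.mk_eq_zero S).2 (hX _ (by omega) (by omega)), smul_zero]
      exact zero_mem _

end Groth.Agent.S19043
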