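import Groth.Statements.S19045
import Groth.Agent.Lib.FunFld.ASPoints

set_option autoImplicit false
universe u v
open FunFld

namespace Groth.Agent.S19045

/-- Let `k` be algebraically closed of characteristic `2` and `K = k(x, y)` with `y² + y = f(x)`, `K`
separable of degree `2` over `k(x)`; let `B ⊆ k` be a finite set containing `0` such that `f` has a
pole of odd order `d_β` at `x = β` for every `β ∈ B` and is integral at all other places of `k(x)`.
Then `y` is integral at the places of `K` above `x = ∞` and has order `0` at one of them, and for `α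
∈ B` and `j ∈ ℤ` the divisor of poles of `y (x - α)^j` consists of: order `max(d_α - 2j, 0)` at the
place above `α`, order exactly `d_β` above every other `β ∈ B`, order `max(j - ord_P y, 0)` at each
place `P` above `∞`, and nothing elsewhere. -/
theorem result (k : Type u) (K : Type v)
    [Field k] [IsAlgClosed k] [CharP k 2] [Field K] [Algebra k K] [Algebra (RatFunc k) K] [IsScalarTower k (RatFunc k) K]
    (hK : FunFld.IsFunctionField k K) (hdeg : Module.finrank (RatFunc k) K = 2) [Algebra.IsSeparable (RatFunc k) K]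
    (y : K) (hy : y ∉ Set.range (algebraMap (RatFunc k) K)) (f : RatFunc k)
    (heq : y ^ 2 + y = algebraMap (RatFunc k) K f)
    (B : Finset k) (h0 : (0 : k) ∈ B) (d : k → ℕ) (hd : ∀ β ∈ B, Odd (d β))
    (hpole : ∀ (p : FunFld.Place k (RatFunc k)) (β : k), β ∈ B →
      p.1 ((RatFunc.X : RatFunc k) - RatFunc.C β) < 1 → p.ord f = -(d β : ℤ))
    (hint : ∀ p : FunFld.Place k (RatFunc k), (∀ β ∈ B, 1 ≤ p.1 ((RatFunc.X : RatFunc k) - RatFunc.C β)) → p.1 f ≤ 1) :
    (∀ P : FunFld.Place k K, 1 < P.1 (algebraMap (RatFunc k) K RatFunc.X) → 0 ≤ P.ord y) ∧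
    (∃ P : FunFld.Place k K, 1 < P.1 (algebraMap (RatFunc k) K RatFunc.X) ∧ P.ord y = 0) ∧
    ∀ (α : k), α ∈ B → ∀ (j : ℤ) (P : FunFld.Place k K),
      (P.1 ((algebraMap (RatFunc k) K RatFunc.X) - (algebraMap k K α)) < 1 →
        max (-(P.ord (y * ((algebraMap (RatFunc k) K RatFunc.X) - (algebraMap k K α)) ^ j))) 0 = max ((d α : ℤ) - 2 * j) 0) ∧
      (∀ β : k, β ∈ B → β ≠ α → P.1 ((algebraMap (RatFunc k) K RatFunc.X) - (algebraMap k K β)) < 1 →
        P.ord (y * ((algebraMap (RatFunc k) K RatFunc.X) - (algebraMap k K α)) ^ j) = -(d β : ℤ)) ∧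
      (1 < P.1 (algebraMap (RatFunc k) K RatFunc.X) → max (-(P.ord (y * ((algebraMap (RatFunc k) K RatFunc.X) - (algebraMap k K α)) ^ j))) 0 = max (j - P.ord y) 0) ∧
      (P.1 (algebraMap (RatFunc k) K RatFunc.X) ≤ 1 → (∀ β : k, β ∈ B → 1 ≤ P.1 ((algebraMap (RatFunc k) K RatFunc.X) - (algebraMap k K β))) → 0 ≤ P.ord (y * ((algebraMap (RatFunc k) K RatFunc.X) - (algebraMap k K α)) ^ j)) := by
  have H : GrothLib.FunFld.ASData y f B d := ⟨hdeg, ringChar.eq k 2, hy, heq, hd, hpole, hint⟩
  haveI := (GrothLib.FunFld.isQuad_as hdeg hy heq).finite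
  have hy0 := H.y_ne_zero
  have hv : ∀ (P : FunFld.Place k K) (p : FunFld.Place k (RatFunc k)) (e : ℕ), FunFld.IsOverWith P p e →
      ∀ r, P.1 (algebraMap (RatFunc k) K r) = p.1 r ^ e := fun P p e he => he
  have hbig : ∀ P : FunFld.Place k K, 1 < P.1 (algebraMap (RatFunc k) K RatFunc.X) →
      ∃ p : FunFld.Place k (RatFunc k), FunFld.IsOverWith P p 1 ∧
        p.ord (RatFunc.X : RatFunc k) < 0 ∧ P.1 y ≤ 1 := by
    intro P hP
    obtain ⟨p, e, he0, he⟩ := GrothLib.FunFld.exists_isOverWith (K := RatFunc k) P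
    have hX : p.ord (RatFunc.X : RatFunc k) < 0 := by
      by_contra h
      rw [not_lt] at h
      rw [hv P p e he] at hP
      exact not_le.mpr hP (pow_le_one₀ zero_le (GrothLib.FunFld.val_X_le_one h))
    obtain ⟨h1, h2⟩ := H.away ⟨e, he⟩ (H.inf_away hX)
    exact ⟨p, h1, hX, h2⟩
  refine ⟨fun P hP => ?_, ?_, fun α hα j P => ?_⟩
  · obtain ⟨p, -, -, h⟩ := hbig P hP
    exact (GrothLib.FunFld.val_le_one_iff P hy0).mp h
  · obtain ⟨p, hp⟩ := GrothLib.FunFld.exists_inf (k := k)
    obtain ⟨P, hP, hPy⟩ := H.exists_unit_at_infinity hp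
    refine ⟨P, ?_, hPy⟩
    rw [hv P p 1 (H.away hP (H.inf_away hp)).1, pow_one]
    have := GrothLib.FunFld.val_eq p (RatFunc.X_ne_zero (K := k))
    show 1 < p.1 _
    rw [show p.1 (RatFunc.X : RatFunc k) = WithZero.exp (-p.ord RatFunc.X) from this,
      ← WithZero.exp_zero, WithZero.exp_lt_exp]
    omega
  · have ht0 : algebraMap (RatFunc k) K RatFunc.X - algebraMap k K α ≠ 0 := by
      rw [← GrothLib.FunFld.map_sub_C, _root_.map_ne_zero, ← RatFunc.algebraMap_X,
        ← RatFunc.algebraMap_C, ← map_sub]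
      exact RatFunc.algebraMap_ne_zero (Polynomial.X_sub_C_ne_zero α)
    set t := algebraMap (RatFunc k) K RatFunc.X - algebraMap k K α with ht
    have hord : P.ord (y * t ^ j) = P.ord y + j * P.ord t := by
      rw [GrothLib.FunFld.ord_mul P hy0 (zpow_ne_zero j ht0), GrothLib.FunFld.ord_zpow]
    refine ⟨fun hP => ?_, fun β hβ hne hP => ?_, fun hP => ?_, fun hP hfar => ?_⟩
    · obtain ⟨p, he, hp, -, hy', -⟩ := H.at_pole hα hP
      have h1 : P.ord t = 2 := by
        rw [ht, ← GrothLib.FunFld.map_sub_C, GrothLib.FunFld.ord_of_isOverWith he,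
          GrothLib.FunFld.ord_eq_of_val_eq p hp]; rfl
      rw [hord, hy', h1]
      congr 1; ring
    · obtain ⟨p, he, -, hother, hy', -⟩ := H.at_pole hβ hP
      have h1 : P.ord t = 0 := by
        rw [ht, ← GrothLib.FunFld.map_sub_C, GrothLib.FunFld.ord_of_isOverWith he,
          GrothLib.FunFld.ord_eq_of_val_eq p (n := 0) (by rw [WithZero.exp_zero]; exact hother α hne.symm)]
        simp
      rw [hord, hy', h1]; ring
    · obtain ⟨p, he, hX, -⟩ := hbig P hP
      have h1 : P.ord t = -1 := by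
        rw [ht, ← GrothLib.FunFld.map_sub_C, GrothLib.FunFld.ord_of_isOverWith he, ← RatFunc.algebraMap_X,
          ← RatFunc.algebraMap_C, ← map_sub,
          GrothLib.FunFld.ord_poly_inf hX (Polynomial.X_sub_C_ne_zero α), Polynomial.natDegree_X_sub_C]
        simp
      rw [hord, h1]; congr 1; ring
    · obtain ⟨p, e, he0, he⟩ := GrothLib.FunFld.exists_isOverWith (K := RatFunc k) P
      have hfar' : ∀ β ∈ B, 1 ≤ p.1 ((RatFunc.X : RatFunc k) - RatFunc.C β) := fun β hβ => by
        have h := hfar β hβ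
        rw [← GrothLib.FunFld.map_sub_C, hv P p e he] at h
        exact (one_le_pow_iff he0.ne').mp h
      obtain ⟨he1, hy1⟩ := H.away ⟨e, he⟩ hfar'
      have hX : 0 ≤ p.ord (RatFunc.X : RatFunc k) := by
        rw [hv P p 1 he1, pow_one] at hP
        exact (GrothLib.FunFld.val_le_one_iff p RatFunc.X_ne_zero).mp hP
      obtain ⟨a, ha, hother⟩ := GrothLib.FunFld.exists_point hX
      have hne : α ≠ a := by
        rintro rfl
        have h := hfar' α hα
        rw [show p.1 _ = WithZero.exp (-1) from ha, ← WithZero.exp_zero, WithZero.exp_le_exp] at h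
        norm_num at h
      have h1 : P.ord t = 0 := by
        rw [ht, ← GrothLib.FunFld.map_sub_C, GrothLib.FunFld.ord_of_isOverWith he1,
          GrothLib.FunFld.ord_eq_of_val_eq p (n := 0) (by rw [WithZero.exp_zero]; exact hother α hne)]
        simp
      rw [hord, h1, mul_zero, add_zero]
      exact (GrothLib.FunFld.val_le_one_iff P hy0).mp hy1

end Groth.Agent.S19045
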