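import Groth.Statements.S19046
import Groth.Agent.Lib.FunFld.ASPoints
import Groth.Agent.Lib.FunFld.RatEta

set_option autoImplicit false
universe u v
open Classical
open FunFld

namespace Groth.Agent.S19046

/-- Let `k` be algebraically closed of characteristic `2`, `K = k(x, y)` with `y² + y = f(x)` separable
of degree `2` over `k(x)`, `B ⊆ k` a finite set containing `0` with `f` having a pole of odd order
`d_β` at `x = β` for `β ∈ B` and integral elsewhere, `c_β = (d_β - 1)/2`, and `P_β` a place of `K`
above `x = β`. Identify `H¹(X, O)` of the smooth projective model with the repartitions (adeles with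
components in `K`) modulo `W = A(0) + K` (everywhere-integral repartitions plus constants), a Čech
class with defining component `h` at `β` corresponding to the repartition with component `h` at
`P_β` and `0` elsewhere. Then the repartitions supported at `P_α` with value `y (x - α)^j` (`α ∈ B`,
`1 ≤ j ≤ c_α`) and with value `y` (`α ∈ B`, `α ≠ 0`) are adeles whose classes modulo `W` are
linearly independent over `k` and, together with `W`, span the adeles: they give a basis of `H¹(X,
O)`. -/
theorem result (k : Type u) (K : Type v)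
    [Field k] [IsAlgClosed k] [CharP k 2] [Field K] [Algebra k K] [Algebra (RatFunc k) K] [IsScalarTower k (RatFunc k) K]
    (hK : FunFld.IsFunctionField k K) (hdeg : Module.finrank (RatFunc k) K = 2) [Algebra.IsSeparable (RatFunc k) K]
    (y : K) (hy : y ∉ Set.range (algebraMap (RatFunc k) K)) (f : RatFunc k)
    (heq : y ^ 2 + y = algebraMap (RatFunc k) K f)
    (B : Finset k) (h0 : (0 : k) ∈ B) (d : k → ℕ) (hd : ∀ β ∈ B, Odd (d β))
    (hpole : ∀ (p : FunFld.Place k (RatFunc k)) (β : k), β ∈ B →
      p.1 ((RatFunc.X : RatFunc k) - RatFunc.C β) < 1 → p.ord f = -(d β : ℤ))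
    (hint : ∀ p : FunFld.Place k (RatFunc k), (∀ β ∈ B, 1 ≤ p.1 ((RatFunc.X : RatFunc k) - RatFunc.C β)) → p.1 f ≤ 1)
    (Pl : k → FunFld.Place k K) (hPl : ∀ β ∈ B, (Pl β).1 ((algebraMap (RatFunc k) K RatFunc.X) - (algebraMap k K β)) < 1) :
    (∀ i, (Sum.elim
        (fun a : {a : ↥B × ℕ // 1 ≤ a.2 ∧ 2 * a.2 + 1 ≤ d (a.1 : k)} =>
          (Pi.single (Pl (a.1.1 : k)) (y * ((algebraMap (RatFunc k) K RatFunc.X) - (algebraMap k K (a.1.1 : k))) ^ a.1.2) : FunFld.Place k K → K))
        (fun b : {b : ↥B // (b : k) ≠ 0} => (Pi.single (Pl (b.1 : k)) y : FunFld.Place k K → K))) i ∈ FunFld.adele k K) ∧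
    LinearIndependent k (fun i => Submodule.mkQ (FunFld.AD (0 : FunFld.Divisor k K) ⊔ LinearMap.range (FunFld.diag k K)) ((Sum.elim
        (fun a : {a : ↥B × ℕ // 1 ≤ a.2 ∧ 2 * a.2 + 1 ≤ d (a.1 : k)} =>
          (Pi.single (Pl (a.1.1 : k)) (y * ((algebraMap (RatFunc k) K RatFunc.X) - (algebraMap k K (a.1.1 : k))) ^ a.1.2) : FunFld.Place k K → K))
        (fun b : {b : ↥B // (b : k) ≠ 0} => (Pi.single (Pl (b.1 : k)) y : FunFld.Place k K → K))) i)) ∧
    ∀ a : FunFld.Place k K → K, a ∈ FunFld.adele k K →
      a ∈ (FunFld.AD (0 : FunFld.Divisor k K) ⊔ LinearMap.range (FunFld.diag k K)) ⊔ Submodule.span k (Set.range (Sum.elim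
        (fun a : {a : ↥B × ℕ // 1 ≤ a.2 ∧ 2 * a.2 + 1 ≤ d (a.1 : k)} =>
          (Pi.single (Pl (a.1.1 : k)) (y * ((algebraMap (RatFunc k) K RatFunc.X) - (algebraMap k K (a.1.1 : k))) ^ a.1.2) : FunFld.Place k K → K))
        (fun b : {b : ↥B // (b : k) ≠ 0} => (Pi.single (Pl (b.1 : k)) y : FunFld.Place k K → K)))) := by
  classical
  have H : GrothLib.FunFld.ASData y f B d := ⟨hdeg, ringChar.eq k 2, hy, heq, hd, hpole, hint⟩
  haveI := GrothLib.LocRes.finite_pfIdx B d
  haveI := Fintype.ofFinite (GrothLib.LocRes.PFIdx B d)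
  have hq := GrothLib.FunFld.isQuad_as hdeg hy heq
  haveI := hq.finite
  set t : k → K := fun β => algebraMap (RatFunc k) K RatFunc.X - algebraMap k K β with ht
  set fam : GrothLib.LocRes.PFIdx B d → (FunFld.Place k K → K) := Sum.elim
    (fun a => Pi.single (Pl (a.1.1 : k)) (y * t (a.1.1 : k) ^ a.1.2))
    (fun b => Pi.single (Pl (b.1 : k)) y) with hfam
  set W := FunFld.AD (0 : FunFld.Divisor k K) ⊔ LinearMap.range (FunFld.diag k K) with hW
  have hmem : ∀ i, fam i ∈ FunFld.adele k K := by
    rintro (a | b) <;> exact GrothLib.FunFld.single_mem_adele _ _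
  -- independence
  have hli : LinearIndependent k fun i => Submodule.mkQ W (fam i) := by
    rw [Fintype.linearIndependent_iff]
    intro c hc
    rw [show (∑ x, c x • Submodule.mkQ W (fam x)) = Submodule.mkQ W (∑ x, c x • fam x) by
      rw [map_sum]; simp only [map_smul]] at hc
    rw [Submodule.mkQ_apply, Submodule.Quotient.mk_eq_zero] at hc
    obtain ⟨u, hu, _, ⟨z, rfl⟩, huz⟩ := Submodule.mem_sup.mp hc
    obtain ⟨a, b, hab⟩ := hq.exists_coeff z
    -- the coefficients at one point
    let cf : k → ℕ → k := fun β i => ∑ x, if (Sum.elim (fun a : {a : ↥B × ℕ // 1 ≤ a.2 ∧ 2 * a.2 + 1 ≤ d (a.1 : k)} => ((a.1.1 : k), a.1.2)) (fun b : {b : ↥B // (b : k) ≠ 0} => ((b.1 : k), 0))) x = (β, i) then c x else 0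
    have hcomp : ∀ β ∈ B, (∑ x, c x • fam x) (Pl β) =
        (∑ i ∈ Finset.range ((d β + 1) / 2), algebraMap k K (cf β i) * t β ^ i) * y := by
      intro β hβ
      rw [Finset.sum_apply, Finset.sum_mul]
      simp only [Pi.smul_apply, cf, map_sum, Finset.sum_mul]
      rw [Finset.sum_comm (s := Finset.range ((d β + 1) / 2))]
      refine Finset.sum_congr rfl fun x _ => ?_
      have hinj : ∀ β' ∈ B, Pl β' = Pl β → β' = β := fun β' hβ' he => by
        obtain ⟨p, he₁, h1, hother, -, -⟩ := H.at_pole hβ (hPl β hβ)
        obtain ⟨p', he₂, h1', -, -, -⟩ := H.at_pole hβ' (hPl β' hβ')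
        rw [he] at he₂
        obtain ⟨rfl, -⟩ := GrothLib.FunFld.isOverWith_unique he₂ he₁
        by_contra hne
        rw [hother β' hne, ← WithZero.exp_zero, WithZero.exp_inj] at h1'
        norm_num at h1'
      rcases x with a | b
      · by_cases hβa : (a.1.1 : k) = β
        · rw [Finset.sum_eq_single a.1.2]
          · simp only [hfam, Sum.elim_inl, hβa, Pi.single_eq_same, if_true, Algebra.smul_def]
            ring
          · intro i _ hi
            simp [Ne.symm hi]
          · intro h
            exfalso
            rw [Finset.mem_range] at h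
            have := a.2.2
            rw [hβa] at this
            omega
        · rw [Finset.sum_eq_zero fun i _ => by simp [hβa]]
          simp only [hfam, Sum.elim_inl]
          rw [Pi.single_eq_of_ne (fun h => hβa (hinj _ a.1.1.2 h.symm)), smul_zero]
      · by_cases hβb : (b.1 : k) = β
        · rw [Finset.sum_eq_single 0]
          · simp only [hfam, Sum.elim_inr, hβb, Pi.single_eq_same, if_true, Algebra.smul_def,
              pow_zero, mul_one]
          · intro i _ hi
            simp [Ne.symm hi]
          · intro h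
            exfalso
            rw [Finset.mem_range] at h
            obtain ⟨r, hr⟩ := hd β hβ
            omega
        · rw [Finset.sum_eq_zero fun i _ => by simp [hβb]]
          simp only [hfam, Sum.elim_inr]
          rw [Pi.single_eq_of_ne (fun h => hβb (hinj _ b.1.2 h.symm)), smul_zero]
    have hzero : ∀ P : FunFld.Place k K, (∀ β ∈ B, Pl β ≠ P) → (∑ x, c x • fam x) P = 0 := fun P hP => by
      rw [Finset.sum_apply]
      refine Finset.sum_eq_zero fun x _ => ?_
      rcases x with a | b
      · simp only [hfam, Pi.smul_apply, Sum.elim_inl]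
        rw [Pi.single_eq_of_ne (Ne.symm (hP _ a.1.1.2)), smul_zero]
      · simp only [hfam, Pi.smul_apply, Sum.elim_inr]
        rw [Pi.single_eq_of_ne (Ne.symm (hP _ b.1.2)), smul_zero]
    have hu' : ∀ P : FunFld.Place k K,
        GrothLib.FunFld.val P ((∑ x, c x • fam x) P - z) ≤ 1 := fun P => by
      rw [← huz, Pi.add_apply, GrothLib.FunFld.diag_apply, add_sub_cancel_right]
      simpa using hu P
    -- the coefficient of `y` in `z` is constant
    have hsmall : ∀ β ∈ B, ∀ s : RatFunc k,
        (algebraMap (RatFunc k) K s) = (∑ i ∈ Finset.range ((d β + 1) / 2), algebraMap k K (cf β i) * t β ^ i) →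
        ∀ p : FunFld.Place k (RatFunc k), FunFld.IsOverWith (Pl β) p 2 →
          GrothLib.FunFld.val p (b - s) ≤ WithZero.exp (-(((d β + 1) / 2 : ℕ) : ℤ)) := by
      intro β hβ s hs p he
      obtain ⟨p', he', h1, -, hy', huniq⟩ := H.at_pole hβ (hPl β hβ)
      obtain ⟨rfl, -⟩ := GrothLib.FunFld.isOverWith_unique he he'
      obtain ⟨hpf, hneg, hodd⟩ := H.pole_at hβ (by rw [h1, ← WithZero.exp_zero, WithZero.exp_lt_exp]; norm_num)
      have hall : ∀ (P : FunFld.Place k K) (e : ℕ), FunFld.IsOverWith P p e →
          GrothLib.FunFld.val P (algebraMap (RatFunc k) K a + algebraMap (RatFunc k) K (b - s) * y) ≤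
            WithZero.exp ((e : ℤ) * 0) := by
        intro P e heP
        obtain rfl := huniq P ⟨e, heP⟩
        rw [mul_zero, WithZero.exp_zero, map_sub (algebraMap (RatFunc k) K), hs, sub_mul, ← hcomp β hβ,
          ← add_sub_assoc, ← hab, (GrothLib.FunFld.val (Pl β)).map_sub_swap]
        exact hu' _
      have h := (((GrothLib.FunFld.as_ramified H.char2 hdeg hy heq p hneg hodd).2.2 a (b - s) 0).mp hall).2
      refine h.trans (WithZero.exp_le_exp.mpr ?_)
      rw [hpf]
      obtain ⟨r, hr⟩ := hd β hβ
      omega
    have hsex : ∀ β : k, ∃ s : RatFunc k, algebraMap (RatFunc k) K s =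
        ∑ i ∈ Finset.range ((d β + 1) / 2), algebraMap k K (cf β i) * t β ^ i := fun β =>
      ⟨∑ i ∈ Finset.range ((d β + 1) / 2), algebraMap k (RatFunc k) (cf β i) *
          ((RatFunc.X : RatFunc k) - RatFunc.C β) ^ i, by
        simp only [map_sum, map_mul, map_pow, GrothLib.FunFld.map_sub_C, ht,
          ← IsScalarTower.algebraMap_apply]⟩
    have hbL : b ∈ FunFld.L (0 : FunFld.Divisor k (RatFunc k)) := by
      intro p
      show GrothLib.FunFld.val p b ≤ _
      rw [Finsupp.coe_zero, Pi.zero_apply, WithZero.exp_zero]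
      by_cases hfar : ∀ β ∈ B, 1 ≤ p.1 ((RatFunc.X : RatFunc k) - RatFunc.C β)
      · have hint' := H.ord_nonneg p hfar
        have hall : ∀ (P : FunFld.Place k K) (e : ℕ), FunFld.IsOverWith P p e →
            GrothLib.FunFld.val P (algebraMap (RatFunc k) K a + algebraMap (RatFunc k) K b * y) ≤
              WithZero.exp ((e : ℤ) * 0) := by
          intro P e heP
          rw [mul_zero, WithZero.exp_zero, ← hab]
          have hP : ∀ β ∈ B, Pl β ≠ P := by
            intro β hβ hPP
            obtain ⟨p', he', h1, -, -, -⟩ := H.at_pole hβ (hPl β hβ)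
            rw [hPP] at he'
            obtain ⟨rfl, -⟩ := GrothLib.FunFld.isOverWith_unique heP he'
            have := hfar β hβ
            rw [show p.1 _ = WithZero.exp (-1) from h1, ← WithZero.exp_zero, WithZero.exp_le_exp] at this
            norm_num at this
          have := hu' P
          rwa [hzero P hP, zero_sub, Valuation.map_neg] at this
        simpa using ((GrothLib.FunFld.as_unramified H.char2 hdeg hy heq p hint' a b 0).1.mp hall).2
      · push Not at hfar
        obtain ⟨β, hβ, hlt⟩ := hfar
        obtain ⟨p', he', h1, -, -, -⟩ := H.at_pole hβ (hPl β hβ)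
        have hpp : p = p' := by
          obtain ⟨Q, e, -, -⟩ : ∃ (Q : FunFld.Place k K) (e : ℕ), FunFld.IsOverWith Q p e ∧ True := by
            obtain ⟨Q, e, he⟩ := (hq.ramIdx_facts GrothLib.FunFld.isFG_ratFunc p).1
            exact ⟨Q, e, he, trivial⟩
          have huni := fun q (hq' : 0 < q.ord ((RatFunc.X : RatFunc k) - RatFunc.C β)) =>
            (GrothLib.FunFld.zero_of_adjoin_eq_top GrothLib.FunFld.isFG_ratFunc
              (x := (RatFunc.X : RatFunc k) - RatFunc.C β)
              (GrothLib.FunFld.transcendental_of_ord_ne_zero (P := q) hq'.ne')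
              (by
                rw [eq_top_iff, ← RatFunc.adjoin_X, IntermediateField.adjoin_simple_le_iff]
                have hm := add_mem (IntermediateField.mem_adjoin_simple_self k
                  ((RatFunc.X : RatFunc k) - RatFunc.C β))
                  (IntermediateField.algebraMap_mem _ β)
                rwa [show algebraMap k (RatFunc k) β = RatFunc.C β from rfl, sub_add_cancel] at hm)
              (P := q) hq').2.2
          have hne : (RatFunc.X : RatFunc k) - RatFunc.C β ≠ 0 := fun h => by
            rw [h, map_zero] at h1; exact WithZero.exp_ne_zero h1.symm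
          have hp0 := (GrothLib.FunFld.val_lt_one_iff p hne).mp hlt
          have hp0' : 0 < p'.ord ((RatFunc.X : RatFunc k) - RatFunc.C β) := by
            rw [GrothLib.FunFld.ord_eq_of_val_eq p' h1]; norm_num
          exact huni p' hp0' p hp0
        subst hpp
        obtain ⟨s, hs⟩ := hsex β
        have h2 := hsmall β hβ s hs p he'
        have hs1 : GrothLib.FunFld.val p s ≤ 1 := by
          have : GrothLib.FunFld.val (Pl β) (algebraMap (RatFunc k) K s) ≤ 1 := by
            rw [hs]
            refine (GrothLib.FunFld.val (Pl β)).map_sum_le fun i _ => ?_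
            rw [map_mul, map_pow]
            exact mul_le_one' ((Pl β).2.1 _) (pow_le_one₀ zero_le (hPl β hβ).le)
          rw [show GrothLib.FunFld.val (Pl β) (algebraMap (RatFunc k) K s) = GrothLib.FunFld.val p s ^ 2
            from he' s] at this
          exact (pow_le_one_iff two_ne_zero).mp this
        rw [show b = (b - s) + s by ring]
        refine ((GrothLib.FunFld.val p).map_add _ _).trans (max_le (h2.trans ?_) hs1)
        rw [← WithZero.exp_zero, WithZero.exp_le_exp]; omega
    rw [GrothLib.FunFld.L_zero_eq_one GrothLib.FunFld.isFunctionField_ratFunc, Submodule.mem_one] at hbL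
    obtain ⟨b₀, rfl⟩ := hbL
    have hcf : ∀ β ∈ B, ∀ i < (d β + 1) / 2, cf β i = if i = 0 then b₀ else 0 := by
      intro β hβ i hi
      obtain ⟨p, he, h1, -, -, -⟩ := H.at_pole hβ (hPl β hβ)
      set c' : ℕ → k := fun i => (if i = 0 then b₀ else 0) - cf β i with hc'
      have h0 : ∀ i < (d β + 1) / 2, c' i = 0 := by
        refine GrothLib.FunFld.coeff_eq_zero_of_small p h1 _ c' ?_
        refine le_of_eq_of_le ?_ (hsmall β hβ
          (∑ i ∈ Finset.range ((d β + 1) / 2), algebraMap k (RatFunc k) (cf β i) *
            ((RatFunc.X : RatFunc k) - RatFunc.C β) ^ i)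
          (by simp only [map_sum, map_mul, map_pow, GrothLib.FunFld.map_sub_C, ht,
            ← IsScalarTower.algebraMap_apply]) p he)
        congr 1
        simp only [hc', map_sub, sub_mul, Finset.sum_sub_distrib]
        congr 1
        rw [Finset.sum_eq_single 0]
        · simp
        · intro i _ hi'; simp [hi']
        · intro h; rw [Finset.mem_range] at h; omega
      have := h0 i hi
      rw [hc', sub_eq_zero] at this
      exact this.symm
    have hb0 : b₀ = 0 := by
      obtain ⟨r, hr⟩ := hd 0 h0
      have h := hcf 0 h0 0 (by omega)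
      rw [if_pos rfl] at h
      rw [← h]
      refine Finset.sum_eq_zero fun x _ => if_neg ?_
      rcases x with a | b
      · intro he; have := (Prod.ext_iff.mp he).2; simp only [Sum.elim_inl] at this; have := a.2.1; omega
      · intro he; exact b.2 (Prod.ext_iff.mp he).1
    rintro (a | b)
    · have hlt : a.1.2 < (d (a.1.1 : k) + 1) / 2 := by have := a.2.2; omega
      have h := hcf _ a.1.1.2 a.1.2 hlt
      rw [if_neg (by have := a.2.1; omega)] at h
      refine Eq.trans ?_ h
      simp only [cf]
      rw [Finset.sum_eq_single (Sum.inl a)]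
      · simp
      · intro x _ hx
        rw [if_neg]
        rcases x with a' | b'
        · intro he
          simp only [Sum.elim_inl, Prod.mk.injEq] at he
          exact hx (congrArg Sum.inl (Subtype.ext (Prod.ext (Subtype.ext he.1) he.2)))
        · intro he
          simp only [Sum.elim_inr, Prod.mk.injEq] at he
          have := a.2.1; omega
      · exact fun h => absurd (Finset.mem_univ _) h
    · obtain ⟨r, hr⟩ := hd _ b.1.2
      have h := hcf _ b.1.2 0 (by omega)
      rw [if_pos rfl, hb0] at h
      refine Eq.trans ?_ h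
      simp only [cf]
      rw [Finset.sum_eq_single (Sum.inr b)]
      · simp
      · intro x _ hx
        rw [if_neg]
        rcases x with a' | b'
        · intro he
          simp only [Sum.elim_inl, Prod.mk.injEq] at he
          have := a'.2.1; omega
        · intro he
          simp only [Sum.elim_inr, Prod.mk.injEq] at he
          exact hx (congrArg Sum.inr (Subtype.ext (Subtype.ext he.1)))
      · exact fun h => absurd (Finset.mem_univ _) h
  refine ⟨hmem, hli, fun v hv => ?_⟩
  -- the count
  have h2 : ringChar k = 2 := ringChar.eq k 2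
  obtain ⟨hfinQ, hdim⟩ := GrothLib.FunFld.finrank_adele_quot hK (0 : FunFld.Divisor k K)
  rw [GrothLib.FunFld.delta_zero hK, sub_zero] at hdim
  let fam' : GrothLib.LocRes.PFIdx B d → ↥(FunFld.adele k K) ⧸ FunFld.ADK (0 : FunFld.Divisor k K) :=
    fun i => Submodule.Quotient.mk ⟨fam i, hmem i⟩
  let incl : ↥(FunFld.adele k K) ⧸ FunFld.ADK (0 : FunFld.Divisor k K) →ₗ[k] (FunFld.Place k K → K) ⧸ W :=
    Submodule.mapQ _ _ (FunFld.adele k K).subtype le_rfl
  have hli' : LinearIndependent k fam' := LinearIndependent.of_comp incl hli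
  have hgen : (FunFld.genus k K : ℤ) = Fintype.card (GrothLib.LocRes.PFIdx B d) := by
    have hcard := GrothLib.LocRes.card_pfIdx B h0 d hd
    have hE : GrothLib.FunFld.asE f = ∑ β ∈ B, Finsupp.single (Classical.choose (GrothLib.FunFld.exists_place_point β)) (((d β + 1) / 2 : ℕ) : ℤ) := by
      ext p
      rw [GrothLib.FunFld.asE_apply, Finsupp.finsetSum_apply]
      by_cases hfar : ∀ β ∈ B, 1 ≤ p.1 ((RatFunc.X : RatFunc k) - RatFunc.C β)
      · rw [if_neg (not_lt.mpr (H.ord_nonneg p hfar)), Finset.sum_eq_zero fun β hβ => ?_]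
        rw [Finsupp.single_apply, if_neg]
        intro he
        have h1 := (Classical.choose_spec (GrothLib.FunFld.exists_place_point β)).1
        rw [he] at h1
        have := hfar β hβ
        rw [show p.1 _ = WithZero.exp (-1) from h1, ← WithZero.exp_zero, WithZero.exp_le_exp] at this
        norm_num at this
      · push Not at hfar
        obtain ⟨β, hβ, hlt⟩ := hfar
        obtain ⟨hpf, hneg, -⟩ := H.pole_at hβ hlt
        have hX : 0 ≤ p.ord (RatFunc.X : RatFunc k) := by
          by_contra hh
          rw [not_le] at hh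
          exact not_lt.mpr (H.inf_away hh β hβ) hlt
        obtain ⟨a, ha, hother⟩ := GrothLib.FunFld.exists_point hX
        have hba : β = a := by
          by_contra hne
          have := hother β hne
          exact hlt.ne this
        subst hba
        have hp : Classical.choose (GrothLib.FunFld.exists_place_point β) = p := by
          have h1 := (Classical.choose_spec (GrothLib.FunFld.exists_place_point β)).1
          set q := Classical.choose (GrothLib.FunFld.exists_place_point β)
          refine ((GrothLib.FunFld.zero_of_adjoin_eq_top GrothLib.FunFld.isFG_ratFunc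
            (x := (RatFunc.X : RatFunc k) - RatFunc.C β)
            (GrothLib.FunFld.transcendental_of_ord_ne_zero (P := p)
              (by rw [GrothLib.FunFld.ord_eq_of_val_eq p ha]; norm_num)) ?_ (P := p)
            (by rw [GrothLib.FunFld.ord_eq_of_val_eq p ha]; norm_num)).2.2 q
              (by rw [GrothLib.FunFld.ord_eq_of_val_eq q h1]; norm_num))
          rw [eq_top_iff, ← RatFunc.adjoin_X, IntermediateField.adjoin_simple_le_iff]
          have hm := add_mem (IntermediateField.mem_adjoin_simple_self k
            ((RatFunc.X : RatFunc k) - RatFunc.C β)) (IntermediateField.algebraMap_mem _ β)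
          rwa [show algebraMap k (RatFunc k) β = RatFunc.C β from rfl, sub_add_cancel] at hm
        rw [if_pos hneg, Finset.sum_eq_single β, Finsupp.single_apply, if_pos hp, hpf]
        · obtain ⟨r, hr⟩ := hd β hβ; omega
        · intro γ _ hγ
          rw [Finsupp.single_apply, if_neg]
          intro he
          have h1 := (Classical.choose_spec (GrothLib.FunFld.exists_place_point γ)).1
          rw [he, hother γ hγ, ← WithZero.exp_zero, WithZero.exp_inj] at h1
          norm_num at h1
        · exact fun h => absurd hβ h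
    have hodd : ∀ p : FunFld.Place k (RatFunc k), p.ord f < 0 → Odd (p.ord f) := fun p hneg => by
      by_cases hfar : ∀ β ∈ B, 1 ≤ p.1 ((RatFunc.X : RatFunc k) - RatFunc.C β)
      · have := H.ord_nonneg p hfar; omega
      · push Not at hfar
        obtain ⟨β, hβ, hlt⟩ := hfar
        exact (H.pole_at hβ hlt).2.2
    rw [hq.genus_eq (GrothLib.FunFld.as_splits h2 hdeg hy heq hodd) hK, hE, GrothLib.FunFld.deg_sum]
    simp only [GrothLib.FunFld.deg_single, GrothLib.FunFld.IsFG.deg_eq_one GrothLib.FunFld.isFG_ratFunc,
      Nat.cast_one, mul_one]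
    have h3 : ((∑ β ∈ B, (d β + 1) / 2 : ℕ) : ℤ) = ∑ β ∈ B, (((d β + 1) / 2 : ℕ) : ℤ) := Nat.cast_sum _ _
    omega
  have hspan : Submodule.span k (Set.range fam') = ⊤ := by
    haveI := hfinQ
    refine Submodule.eq_top_of_finrank_eq ?_
    rw [finrank_span_eq_card hli']
    exact_mod_cast hgen.symm.trans hdim.symm
  have hvq : (Submodule.Quotient.mk ⟨v, hv⟩ : ↥(FunFld.adele k K) ⧸ FunFld.ADK (0 : FunFld.Divisor k K)) ∈
      Submodule.span k (Set.range fam') := hspan ▸ Submodule.mem_top
  rw [Submodule.mem_span_range_iff_exists_fun] at hvq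
  obtain ⟨e, he⟩ := hvq
  simp only [fam', ← Submodule.mkQ_apply, ← map_smul, ← map_sum] at he
  rw [Submodule.mkQ_apply, Submodule.mkQ_apply, Submodule.Quotient.eq] at he
  have hd' : (∑ i, e i • fam i) - v ∈ W := by
    have h5 : ((∑ i, e i • (⟨fam i, hmem i⟩ : ↥(FunFld.adele k K))) - ⟨v, hv⟩ : ↥(FunFld.adele k K)).1 =
        (∑ i, e i • fam i) - v := by simp [Submodule.coe_sum]
    rw [← h5]; exact he
  rw [show v = -((∑ i, e i • fam i) - v) + ∑ i, e i • fam i by abel]
  exact add_mem (Submodule.mem_sup_left (neg_mem hd')) (Submodule.mem_sup_right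
    (sum_mem fun i _ => Submodule.smul_mem _ _ (Submodule.subset_span ⟨i, rfl⟩)))

end Groth.Agent.S19046
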