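import Groth.Statements.S19047
import Groth.Agent.Lib.FunFld.ASPoints

set_option autoImplicit false
universe u v
open Classical
open FunFld

namespace Groth.Agent.S19047

/-- Let `k` be algebraically closed of characteristic `2`, `K = k(x, y)` with `y² + y = f(x)` separable
of degree `2` over `k(x)`, `B ⊆ k` a finite set containing `0` with `f` having a pole of odd order
`d_β` at `x = β` for `β ∈ B` and integral elsewhere, `c_β = (d_β - 1)/2`, and `P_β` a place of `K`
above `x = β`. With `H¹(X, O)` of the smooth projective model written as repartitions modulo `W =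
A(0) + K` (everywhere-integral repartitions plus constants) and its Frobenius induced by
componentwise squaring, for `α ∈ B` and `j ≥ 0`: the Frobenius of the class of the repartition
supported at `P_α` with value `y (x - α)^j` is the class of the one with value `y (x - α)^{2j}` when
`2j ≤ c_α`, and is `0` when `2j > c_α`. -/
theorem result (k : Type u) (K : Type v)
    [Field k] [IsAlgClosed k] [CharP k 2] [Field K] [Algebra k K] [Algebra (RatFunc k) K] [IsScalarTower k (RatFunc k) K]
    (hK : FunFld.IsFunctionField k K) (hdeg : Module.finrank (RatFunc k) K = 2) [Algebra.IsSeparable (RatFunc k) K]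
    (y : K) (hy : y ∉ Set.range (algebraMap (RatFunc k) K)) (f : RatFunc k)
    (heq : y ^ 2 + y = algebraMap (RatFunc k) K f)
    (B : Finset k) (h0 : (0 : k) ∈ B) (d : k → ℕ) (hd : ∀ β ∈ B, Odd (d β))
    (hpole : ∀ (p : FunFld.Place k (RatFunc k)) (β : k), β ∈ B →
      p.1 ((RatFunc.X : RatFunc k) - RatFunc.C β) < 1 → p.ord f = -(d β : ℤ))
    (hint : ∀ p : FunFld.Place k (RatFunc k), (∀ β ∈ B, 1 ≤ p.1 ((RatFunc.X : RatFunc k) - RatFunc.C β)) → p.1 f ≤ 1)
    (Pl : k → FunFld.Place k K) (hPl : ∀ β ∈ B, (Pl β).1 ((algebraMap (RatFunc k) K RatFunc.X) - (algebraMap k K β)) < 1)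
    (α : k) (hα : α ∈ B) (j : ℕ) :
    (4 * j + 1 ≤ d α → (Pi.single (Pl α) ((y * ((algebraMap (RatFunc k) K RatFunc.X) - (algebraMap k K α)) ^ j) ^ 2) : FunFld.Place k K → K) - (Pi.single (Pl α) (y * ((algebraMap (RatFunc k) K RatFunc.X) - (algebraMap k K α)) ^ (2 * j)) : FunFld.Place k K → K) ∈ (FunFld.AD (0 : FunFld.Divisor k K) ⊔ LinearMap.range (FunFld.diag k K))) ∧
    (d α < 4 * j + 1 → (Pi.single (Pl α) ((y * ((algebraMap (RatFunc k) K RatFunc.X) - (algebraMap k K α)) ^ j) ^ 2) : FunFld.Place k K → K) ∈ (FunFld.AD (0 : FunFld.Divisor k K) ⊔ LinearMap.range (FunFld.diag k K))) := by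
  classical
  have H : GrothLib.FunFld.ASData y f B d := ⟨hdeg, ringChar.eq k 2, hy, heq, hd, hpole, hint⟩
  haveI : CharP K 2 := charP_of_injective_algebraMap (algebraMap k K).injective 2
  obtain ⟨p, he, hp, -, hy', -⟩ := H.at_pole hα (hPl α hα)
  set P := Pl α with hP
  set t := algebraMap (RatFunc k) K RatFunc.X - algebraMap k K α with ht
  have htL : t = algebraMap (RatFunc k) K ((RatFunc.X : RatFunc k) - RatFunc.C α) :=
    (GrothLib.FunFld.map_sub_C α).symm
  have hsq : (y * t ^ j) ^ 2 - y * t ^ (2 * j) =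
      algebraMap (RatFunc k) K (f * ((RatFunc.X : RatFunc k) - RatFunc.C α) ^ (2 * j)) := by
    rw [map_mul, map_pow, ← heq, htL]
    linear_combination -(CharTwo.two_eq_zero (R := K)) * y *
      algebraMap (RatFunc k) K ((RatFunc.X : RatFunc k) - RatFunc.C α) ^ (2 * j)
  have hdiff : (Pi.single P ((y * t ^ j) ^ 2) : FunFld.Place k K → K) - Pi.single P (y * t ^ (2 * j)) ∈
      FunFld.AD (0 : FunFld.Divisor k K) ⊔ LinearMap.range (FunFld.diag k K) := by
    rw [← Pi.single_sub, hsq]
    exact H.single_mem hα (hPl α hα) _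
  refine ⟨fun _ => hdiff, fun hlt => ?_⟩
  have hsmall : (Pi.single P (y * t ^ (2 * j)) : FunFld.Place k K → K) ∈
      FunFld.AD (0 : FunFld.Divisor k K) ⊔ LinearMap.range (FunFld.diag k K) := by
    refine Submodule.mem_sup_left (GrothLib.FunFld.single_mem_AD ?_)
    have hvy : GrothLib.FunFld.val P y = WithZero.exp (d α : ℤ) := by
      rw [GrothLib.FunFld.val_eq P H.y_ne_zero, hy', neg_neg]
    rw [Finsupp.coe_zero, Pi.zero_apply, WithZero.exp_zero, map_mul, map_pow, htL, hvy,
      show GrothLib.FunFld.val P (algebraMap (RatFunc k) K _) = GrothLib.FunFld.val p _ ^ 2 from he _,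
      hp, ← WithZero.exp_nsmul, ← WithZero.exp_nsmul, ← WithZero.exp_add, ← WithZero.exp_zero,
      WithZero.exp_le_exp]
    obtain ⟨r, hr⟩ := hd α hα
    simp only [nsmul_eq_mul]
    push_cast
    omega
  have := add_mem hdiff hsmall
  rwa [sub_add_cancel] at this

end Groth.Agent.S19047
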