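import Groth.Statements.S19050
import Groth.Agent.Lib.HomCorep20.FibreLocal
import Groth.Agent.Lib.Ample.RelAmple

set_option autoImplicit false
set_option maxHeartbeats 1000000
set_option linter.style.haveILetI false
set_option backward.isDefEq.respectTransparency false
open CategoryTheory CategoryTheory.Limits AlgebraicGeometry
universe u
open Coherent

namespace Groth.Agent.S19050

/-- Let R be a discrete valuation ring, X a projective R-scheme and I, F coherent O_X-modules flat over
R. Suppose that for each point y of Spec R the κ(y)-vector space of morphisms I_y → F_y between the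
restrictions to the fibre X_y = X ×_R Spec κ(y) has the same dimension n. Then the R-module
Hom_{O_X}(I, F) is free of rank n (finitely generated, free, of rank n), and if n ≥ 1 there is a
morphism I → F whose restriction to each fibre is nonzero. (The published statement is for the base
change to R of a smooth projective variety over a field; it is stated here for any projective
R-scheme, to which the printed argument applies unchanged. The identification of the two fibres of
Hom(I, F) with the Hom spaces on the fibres is not restated; its consequence for n ≥ 1 is.) -/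
theorem result
    (R : Type u) [CommRing R] [IsDomain R] [IsDiscreteValuationRing R]
    (X : Scheme.{u}) [X.Over (Spec (CommRingCat.of R))]
    (hproj : ∃ (m : ℕ) (ι : X ⟶ CohB1.ProjSpace m R), IsClosedImmersion ι ∧
      ι ≫ CohB1.ProjSpace.toSpec m R = X ↘ Spec (CommRingCat.of R))
    (I F : X.Modules) (hI : Coh.IsCoh I) (hF : Coh.IsCoh F)
    (hIfl : FlatMod.IsFlatOver (X ↘ Spec (CommRingCat.of R)) I)
    (hFfl : FlatMod.IsFlatOver (X ↘ Spec (CommRingCat.of R)) F)
    (n : ℕ)
    (hfib : ∀ y : ↥(Spec (CommRingCat.of R)),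
      letI : ((X ↘ Spec (CommRingCat.of R)).fiber y).Over
          (Spec (CommRingCat.of ((Spec (CommRingCat.of R)).residueField y))) :=
        ⟨(X ↘ Spec (CommRingCat.of R)).fiberToSpecResidueField y⟩
      Module.finrank ((Spec (CommRingCat.of R)).residueField y)
        ((Scheme.Modules.pullback ((X ↘ Spec (CommRingCat.of R)).fiberι y)).obj I ⟶
          (Scheme.Modules.pullback ((X ↘ Spec (CommRingCat.of R)).fiberι y)).obj F) = n) :
    Module.Finite R (I ⟶ F) ∧ Module.Free R (I ⟶ F) ∧ Module.finrank R (I ⟶ F) = n ∧
      (0 < n → ∃ φ : I ⟶ F, ∀ y : ↥(Spec (CommRingCat.of R)),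
        (Scheme.Modules.pullback ((X ↘ Spec (CommRingCat.of R)).fiberι y)).map φ ≠ 0) := by
  classical
  obtain ⟨m, ι, hι, hιc⟩ := hproj
  let f := X ↘ Spec (CommRingCat.of R)
  haveI : IsProper f := by
    show IsProper (X ↘ Spec (CommRingCat.of R))
    rw [← hιc]
    haveI := GrothLib.Chow.isProper_toSpec m R
    haveI := hι
    infer_instance
  haveI : IsLocallyNoetherian X := LocallyOfFiniteType.isLocallyNoetherian f
  haveI := hι
  have hres : PerfAux.HasResolutionProperty X :=
    GrothLib.ResProp22.hasResolutionProperty_of_isAmple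
      (GrothLib.Ample.isAmple_pullback_of_isAffineHom ι (GrothLib.Ample.isAmple_twistProjSpace_one m R))
  obtain ⟨E₀, E₁, h₀, h₁, v, π, hπ, w, hex⟩ := GrothLib.HomCorep20.exists_presentation hres hI
  haveI := hπ
  obtain ⟨Q, e₀, hQ, hmodel⟩ :=
    GrothLib.HomCorep20.exists_homModel (A := R) F hF hFfl I E₀ E₁ h₀ h₁ v π w hex
  haveI := hQ
  let S := Spec (CommRingCat.of R)
  let ψ : ∀ y : S, R →+* S.residueField y := fun y =>
    (GrothLib.HomCorep20.resHom (V := ⊤) (y := y) trivial).comp (Scheme.ΓSpecIso (CommRingCat.of R)).inv.hom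
  have hψ : ∀ y : S, Spec.map (CommRingCat.ofHom (ψ y)) = S.fromSpecResidueField y := fun y => by
    show Spec.map ((Scheme.ΓSpecIso (CommRingCat.of R)).inv ≫
      CommRingCat.ofHom (GrothLib.HomCorep20.resHom (V := ⊤) (y := y) trivial)) = _
    rw [Spec.map_comp, ← GrothLib.HomCorep20.resHom_fromSpec (isAffineOpen_top S) (show y ∈ (⊤ : S.Opens) from trivial),
      IsAffineOpen.fromSpec_top, Scheme.isoSpec_Spec_inv]
  have hker : ∀ y : S, RingHom.ker (ψ y) = y.asIdeal := fun y => by
    let x : Spec (S.residueField y) := IsLocalRing.closedPoint (S.residueField y)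
    have h2 : x.asIdeal = ⊥ := (Ideal.eq_bot_or_top x.asIdeal).resolve_right x.isPrime.ne_top
    have h4 : (Spec.map (CommRingCat.ofHom (ψ y))) x = y := by
      rw [hψ]
      exact Scheme.fromSpecResidueField_apply y x
    refine Eq.trans ?_ (congrArg PrimeSpectrum.asIdeal h4)
    show Ideal.comap (ψ y) ⊥ = Ideal.comap (ψ y) x.asIdeal
    rw [h2]
  have hfrac : ∀ (y : S) (c : S.residueField y), ∃ a b : R, ψ y b ≠ 0 ∧ c * ψ y b = ψ y a := fun y c => by
    obtain ⟨a, b, hb, hab⟩ := GrothLib.HomCorep20.exists_resHom_div (isAffineOpen_top S)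
      (show y ∈ (⊤ : S.Opens) from trivial) c
    have hs : ∀ z : Γ(S, ⊤), ψ y ((Scheme.ΓSpecIso (CommRingCat.of R)).hom z) =
        GrothLib.HomCorep20.resHom (V := ⊤) (y := y) trivial z := fun z => by
      show GrothLib.HomCorep20.resHom (V := ⊤) (y := y) trivial
        ((Scheme.ΓSpecIso (CommRingCat.of R)).inv ((Scheme.ΓSpecIso (CommRingCat.of R)).hom z)) = _
      rw [Iso.hom_inv_id_apply]
    exact ⟨(Scheme.ΓSpecIso (CommRingCat.of R)).hom a, (Scheme.ΓSpecIso (CommRingCat.of R)).hom b,
      by rw [hs]; exact hb, by rw [hs, hs]; exact hab⟩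
  have hfibre : ∀ y : S,
      letI := (ψ y).toAlgebra
      Module.finrank (S.residueField y) (TensorProduct R (S.residueField y) Q) = n ∧
        ∀ φ : I ⟶ F, (Scheme.Modules.pullback (f.fiberι y)).map φ = 0 → ∀ q, ψ y (e₀ φ q) = 0 := by
    intro y
    letI := (ψ y).toAlgebra
    letI : (f.fiber y).Over (Spec (CommRingCat.of (S.residueField y))) := ⟨f.fiberToSpecResidueField y⟩
    obtain ⟨Θ, hΘ⟩ := hmodel (S.residueField y) (hfrac y) (f.fiber y) (f.fiberι y) (by
      show IsPullback (f.fiberι y) (f.fiberToSpecResidueField y) f (Spec.map (CommRingCat.ofHom (ψ y)))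
      rw [hψ]
      exact IsPullback.of_hasPullback _ _)
    refine ⟨?_, fun φ hφ q => ?_⟩
    · rw [← GrothLib.HomCorep20.finrank_linearMap_field, ← Θ.finrank_eq]
      exact hfib y
    · exact (hΘ φ q).symm.trans (by rw [hφ, map_zero]; rfl)
  -- generators from the closed point
  let k := IsLocalRing.ResidueField R
  have hk : Module.finrank k (TensorProduct R k Q) = n := by
    let y : S := IsLocalRing.closedPoint R
    letI := (ψ y).toAlgebra
    have hle : IsLocalRing.maximalIdeal R ≤ RingHom.ker (ψ y) := (hker y).ge
    letI : Algebra k (S.residueField y) :=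
      (Ideal.Quotient.lift (IsLocalRing.maximalIdeal R) (ψ y) fun a ha => hle ha).toAlgebra
    haveI : IsScalarTower R k (S.residueField y) := IsScalarTower.of_algebraMap_eq fun _ => rfl
    rw [← (hfibre y).1, ← (TensorProduct.AlgebraTensorModule.cancelBaseChange R k (S.residueField y)
      (S.residueField y) Q).finrank_eq]
    haveI : Module.Free k (TensorProduct R k Q) := Module.Free.of_divisionRing _ _
    exact Module.finrank_baseChange.symm
  haveI : Module.Free k (TensorProduct R k Q) := Module.Free.of_divisionRing _ _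
  let b := Module.finBasisOfFinrankEq k (TensorProduct R k Q) hk
  have hsur : ∀ i, ∃ q : Q, (1 : k) ⊗ₜ[R] q = b i := fun i =>
    TensorProduct.mk_surjective R Q k Ideal.Quotient.mk_surjective (b i)
  choose s hs using hsur
  let p := Fintype.linearCombination R s
  have hp : Function.Surjective p := by
    rw [← LinearMap.range_eq_top, Fintype.range_linearCombination]
    exact IsLocalRing.span_eq_top_of_tmul_eq_basis s b hs
  -- no relations, from the generic point
  have hpinj : Function.Injective p := by
    let y : S := ⟨⊥, Ideal.isPrime_bot⟩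
    letI := (ψ y).toAlgebra
    have hψinj : Function.Injective (ψ y) := (RingHom.injective_iff_ker_eq_bot _).2 (hker y)
    let K := S.residueField y
    have hsK : Function.Surjective (p.baseChange K) := LinearMap.lTensor_surjective _ hp
    have hinjK : Function.Injective (p.baseChange K) := by
      refine (LinearMap.injective_iff_surjective_of_finrank_eq_finrank ?_).2 hsK
      rw [(hfibre y).1, Module.finrank_baseChange, Module.finrank_fin_fun]
    rw [injective_iff_map_eq_zero]
    intro x hx
    have h1 : (1 : K) ⊗ₜ[R] x = 0 := hinjK (by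
      rw [LinearMap.baseChange_tmul, hx, TensorProduct.tmul_zero, map_zero])
    have h2 := congrArg (TensorProduct.piScalarRight R K K (Fin n)) h1
    rw [map_zero, TensorProduct.piScalarRight_apply] at h2
    refine funext fun j => hψinj ((map_zero (ψ y)).symm ▸ ?_)
    have h3 := congrFun h2 j
    simp only [TensorProduct.piScalarRightHom_tmul, Algebra.smul_def, mul_one, Pi.zero_apply] at h3
    exact h3
  let eQ : (Fin n → R) ≃ₗ[R] Q := LinearEquiv.ofBijective p ⟨hpinj, hp⟩
  haveI : Module.Free R Q := Module.Free.of_equiv eQ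
  haveI : Module.Finite R (Module.Dual R Q) := inferInstance
  refine ⟨Module.Finite.equiv e₀.symm, Module.Free.of_equiv e₀.symm, ?_, fun hn => ?_⟩
  · rw [e₀.finrank_eq, ← (LinearEquiv.arrowCongr eQ (LinearEquiv.refl R R)).finrank_eq]
    exact (Module.finrank_linearMap_self R R (Fin n → R)).trans (Module.finrank_fin_fun R)
  · refine ⟨e₀.symm ((LinearMap.proj ⟨0, hn⟩).comp eQ.symm.toLinearMap), fun y hy => ?_⟩
    have h1 := (hfibre y).2 _ hy (eQ (Pi.single ⟨0, hn⟩ 1))
    rw [LinearEquiv.apply_symm_apply] at h1
    simp at h1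

end Groth.Agent.S19050
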