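import Groth.Statements.S19051
import Groth.Agent.Lib.NonPure12.EndIdeal

set_option autoImplicit false
set_option backward.isDefEq.respectTransparency false
open CategoryTheory CategoryTheory.Limits AlgebraicGeometry
universe u
open NonPure

namespace Groth.Agent.S19051

/-- Let K be a field and X an integral K-scheme, smooth, proper and geometrically irreducible over K, of
dimension at least 2, with an invertible ample O_X-module L (the polarisation for Hilbert
polynomials) and an integer ℓ ≥ 1. Let A_j (j ∈ J) be sets of closed subschemes of X (quasi-coherent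
ideal sheaves), each member integral and different from X. Assume condition (†)(1) over K — every
nonzero morphism I_{W'} → I_W between the ideal sheaves (as O_X-modules) of members W ∈ A_j, W' ∈
A_{j'} is an isomorphism — and condition (†)(2) over K: for W ∈ A_j, Y ∈ A_{j'} and every coherent
torsion-free O_Y-module G of generic rank one whose Hilbert polynomial is P_{O_Y} − ℓ, every
morphism I_W → i_*G vanishes (I_W the ideal sheaf of W as an O_X-module, i : Y → X the inclusion).
Let F be a sheaf of torsion type: a short exact sequence 0 → i_*G → F → I_W → 0 with W and Y in the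
same A_j and G a coherent torsion-free O_Y-module of generic rank one with Hilbert polynomial
P_{O_Y} − ℓ. If for some W' ∈ A_{j'} there is a nonzero morphism I_{W'} → F, then: the sequence
splits; I_W ≅ I_{W'} (existence of an isomorphism); Hom(I_W, F) is a one-dimensional K-vector space;
and every morphism I_{W'} → F factors through any splitting I_W → F. (In the published statement X
is the base change to K of a fixed smooth projective geometrically connected variety and the A_j are
the K-points of the connected components α_j of a fixed open and closed α ⊆ Hilb(X) whose points are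
geometrically integral and geometrically normal or divisors, with (†) asked over every field
extension; the row keeps exactly what the printed argument uses over K, and makes explicit that
members of α are proper closed subschemes.) -/
theorem result
    (K : Type u) [Field K] (X : Scheme.{u}) [X.Over (Spec (CommRingCat.of K))]
    [IsIntegral X] [Smooth (X ↘ Spec (CommRingCat.of K))] [IsProper (X ↘ Spec (CommRingCat.of K))]
    [GeometricallyIrreducible (X ↘ Spec (CommRingCat.of K))]
    (hdim : 2 ≤ topologicalKrullDim X)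
    (L : X.Modules) (hLi : PicF.IsInvertible L) (hLa : CohB1.IsAmple L)
    (ℓ : ℕ) (hℓ : 0 < ℓ)
    (J : Type u) (A : J → Set X.IdealSheafData)
    (hA : ∀ j, ∀ W ∈ A j, IsIntegral W.subscheme ∧ W ≠ ⊥)
    (dag1 : ∀ j j', ∀ W ∈ A j, ∀ W' ∈ A j', ∀ φ : ClSub.idealMod W' ⟶ ClSub.idealMod W,
      φ ≠ 0 → IsIso φ)
    (dag2 : ∀ j j', ∀ W ∈ A j, ∀ Y ∈ A j', ∀ (hY : IsIntegral Y.subscheme) (G : Y.subscheme.Modules),
      Coh.IsCoh G → TorSh.IsTorsionFree G →
      (haveI := hY
       Module.finrank (Y.subscheme.presheaf.stalk (genericPoint Y.subscheme))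
        (G.presheaf.stalk (genericPoint Y.subscheme)) = 1) →
      (letI : Y.subscheme.Over (Spec (CommRingCat.of K)) := ⟨Y.subschemeι ≫ (X ↘ Spec (CommRingCat.of K))⟩
       ∃ P : Polynomial ℚ,
        ShStab.IsHilbPoly K Y.subscheme ((Scheme.Modules.pullback Y.subschemeι).obj L)
          (Coh.structureModule Y.subscheme) P ∧
        ShStab.IsHilbPoly K Y.subscheme ((Scheme.Modules.pullback Y.subschemeι).obj L) G
          (P - Polynomial.C (ℓ : ℚ))) →
      ∀ φ : ClSub.idealMod W ⟶ (Coh.push Y.subschemeι).obj G, φ = 0)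
    (j : J) (W : X.IdealSheafData) (hW : W ∈ A j) (Y : X.IdealSheafData) (hYA : Y ∈ A j)
    [IsIntegral Y.subscheme] (G : Y.subscheme.Modules) (hGc : Coh.IsCoh G) (hGt : TorSh.IsTorsionFree G)
    (hGr : Module.finrank (Y.subscheme.presheaf.stalk (genericPoint Y.subscheme))
        (G.presheaf.stalk (genericPoint Y.subscheme)) = 1)
    (hGP : letI : Y.subscheme.Over (Spec (CommRingCat.of K)) := ⟨Y.subschemeι ≫ (X ↘ Spec (CommRingCat.of K))⟩
       ∃ P : Polynomial ℚ,
        ShStab.IsHilbPoly K Y.subscheme ((Scheme.Modules.pullback Y.subschemeι).obj L)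
          (Coh.structureModule Y.subscheme) P ∧
        ShStab.IsHilbPoly K Y.subscheme ((Scheme.Modules.pullback Y.subschemeι).obj L) G
          (P - Polynomial.C (ℓ : ℚ)))
    (F : X.Modules) (a : (Coh.push Y.subschemeι).obj G ⟶ F) (q : F ⟶ ClSub.idealMod W)
    (w : a ≫ q = 0) (hex : (ShortComplex.mk a q w).ShortExact)
    (j' : J) (W' : X.IdealSheafData) (hW' : W' ∈ A j')
    (hne : ∃ φ : ClSub.idealMod W' ⟶ F, φ ≠ 0) :
    (∃ σ : ClSub.idealMod W ⟶ F, σ ≫ q = 𝟙 _) ∧
    Nonempty (ClSub.idealMod W ≅ ClSub.idealMod W') ∧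
    Module.Finite K (ClSub.idealMod W ⟶ F) ∧ Module.finrank K (ClSub.idealMod W ⟶ F) = 1 ∧
    (∀ σ : ClSub.idealMod W ⟶ F, σ ≫ q = 𝟙 _ →
      ∀ f : ClSub.idealMod W' ⟶ F, ∃ g : ClSub.idealMod W' ⟶ ClSub.idealMod W, f = g ≫ σ) := by
  obtain ⟨φ, hφ⟩ := hne
  have hzero : ∀ (V : X.IdealSheafData) (jv : J), V ∈ A jv → ∀ f : ClSub.idealMod V ⟶ F, f ≫ q = 0 → f = 0 := by
    intro V jv hV f hf
    haveI := hex.mono_f
    obtain ⟨g, hg⟩ : ∃ g, g ≫ a = f := ⟨hex.fIsKernel.lift (KernelFork.ofι f hf),
      hex.fIsKernel.fac (KernelFork.ofι f hf) WalkingParallelPair.zero⟩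
    have hg0 : g = 0 := dag2 jv j V hV Y hYA ‹_› G hGc hGt hGr hGP g
    rw [← hg, hg0, zero_comp]
  have hψ : φ ≫ q ≠ 0 := fun h => hφ (hzero W' j' hW' φ h)
  haveI := dag1 j j' W hW W' hW' (φ ≫ q) hψ
  let σ : ClSub.idealMod W ⟶ F := inv (φ ≫ q) ≫ φ
  have hσ : σ ≫ q = 𝟙 _ := by simp [σ]
  haveI := GrothLib.Euler.isNoetherian_of_proper (X := X) K
  have hTF := GrothLib.NonPure12.isTF1_idealMod W (hA j W hW).2
  obtain ⟨e⟩ := hTF.2.2 (genericPoint X) (GrothLib.FinAff13.mem_genericPoints_iff.2
    fun z hz => (hz.antisymm (genericPoint_specializes z)).eq)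
  let v₀ := e.symm 1
  have hv₀ : v₀ ≠ 0 := fun h => one_ne_zero (e.symm.map_eq_zero_iff.1 h)
  have hend : ∀ f : ClSub.idealMod W ⟶ ClSub.idealMod W, ∃ c : K, f = c • 𝟙 _ := by
    intro f
    obtain ⟨c, hc⟩ := GrothLib.NonPure12.exists_scalar_idealMod K W (hA j W hW).2 f
    refine ⟨c, ?_⟩
    by_contra hne'
    haveI := dag1 j j W hW W hW (f - c • 𝟙 _) (sub_ne_zero.2 hne')
    have h0 : GrothLib.QCoh.stalkLin (f - c • 𝟙 _) (genericPoint X) v₀ = 0 := by
      have h1 := GrothLib.QCoh.stalkLin_add (f - c • 𝟙 _) (c • 𝟙 _) (genericPoint X) v₀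
      rw [sub_add_cancel, GrothLib.TFSimple15.stalkLin_smul, GrothLib.QCoh.stalkLin_id, hc] at h1
      exact right_eq_add.1 h1
    have h2 : GrothLib.QCoh.stalkLin (inv (f - c • 𝟙 _)) (genericPoint X)
        (GrothLib.QCoh.stalkLin (f - c • 𝟙 _) (genericPoint X) v₀) = v₀ := by
      rw [← GrothLib.QCoh.stalkLin_comp, IsIso.hom_inv_id, GrothLib.QCoh.stalkLin_id]
    rw [h0, map_zero] at h2
    exact hv₀ h2.symm
  have hHom : ∀ f : ClSub.idealMod W ⟶ F, ∃ c : K, f = c • σ := by
    intro f
    obtain ⟨c, hc⟩ := hend (f ≫ q)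
    refine ⟨c, sub_eq_zero.1 (hzero W j hW _ ?_)⟩
    rw [Preadditive.sub_comp, Linear.smul_comp, hσ, hc, sub_self]
  let l : K →ₗ[K] (ClSub.idealMod W ⟶ F) := LinearMap.toSpanSingleton K _ σ
  have hl : Function.Bijective l := by
    refine ⟨fun c d hcd => ?_, fun f => (hHom f).imp fun c hc => hc.symm⟩
    have h1 : (c • σ) ≫ q = (d • σ) ≫ q := congrArg (· ≫ q) hcd
    rw [Linear.smul_comp, Linear.smul_comp, hσ] at h1
    have h2 := congrArg (fun t => GrothLib.QCoh.stalkLin t (genericPoint X) v₀) h1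
    simp only [GrothLib.TFSimple15.stalkLin_smul, GrothLib.QCoh.stalkLin_id] at h2
    have h3 := congrArg e h2
    simp only [map_smul, v₀, LinearEquiv.apply_symm_apply, smul_eq_mul, mul_one] at h3
    exact (GrothLib.TFSimple15.cstAt K (genericPoint X)).injective h3
  let le := LinearEquiv.ofBijective l hl
  refine ⟨⟨σ, hσ⟩, ⟨(asIso (φ ≫ q)).symm⟩, Module.Finite.equiv le, le.finrank_eq ▸ Module.finrank_self K, ?_⟩
  intro σ' hσ' f
  refine ⟨f ≫ q, sub_eq_zero.1 (hzero W' j' hW' _ ?_)⟩
  rw [Preadditive.sub_comp, Category.assoc, Category.assoc, hσ', Category.comp_id, sub_self]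

end Groth.Agent.S19051
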