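import Groth.Statements.S19052
import Groth.Agent.Lib.NonPure12.EndIdeal
import Groth.Agent.Lib.NonPure12.HilbDiff
import Groth.Agent.Lib.NonPure12.Generic
import Groth.Agent.Lib.ExtHull28.Basic
import Groth.Agent.Lib.QCoh.Pieces
import Groth.Agent.Lib.Dim.Scheme

set_option autoImplicit false
set_option backward.isDefEq.respectTransparency false
open CategoryTheory CategoryTheory.Limits AlgebraicGeometry
universe u
open NonPure

namespace Groth.Agent.S19052

/-- Let K be a field and X an integral K-scheme, smooth, proper and geometrically irreducible over K, of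
dimension at least 2, with an invertible ample O_X-module L (the polarisation for Hilbert
polynomials) and an integer ℓ ≥ 1. Let A_j (j ∈ J) be sets of closed subschemes of X (quasi-coherent
ideal sheaves), each member integral and different from X. Assume that each A_j contains every
closed subscheme whose ideal sheaf is isomorphic, as an O_X-module, to the ideal sheaf of a member
of A_j, and condition (†)(2) over K: for W ∈ A_j, Y ∈ A_{j'} and every coherent torsion-free
O_Y-module G of generic rank one whose Hilbert polynomial is P_{O_Y} − ℓ, every morphism I_W → i_*G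
vanishes (I_W the ideal sheaf of W as an O_X-module, i : Y → X the inclusion). Let Z ⊆ X be a closed
subscheme finite locally free of degree ℓ over K, so that F = I_Z is a sheaf of ideal type. Then for
every W ∈ A_j the K-vector space Hom(I_W, I_Z) is finite-dimensional of dimension at most one. (In
the published statement X is the base change to K of a fixed smooth projective geometrically
connected variety and the A_j are the K-points of the connected components α_j of a fixed open and
closed α ⊆ Hilb(X) whose points are geometrically integral and geometrically normal or divisors,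
with (†) asked over every field extension; the row keeps exactly what the printed argument uses over
K, and makes explicit that members of α are proper closed subschemes.) -/
theorem result
    (K : Type u) [Field K] (X : Scheme.{u}) [X.Over (Spec (CommRingCat.of K))]
    [IsIntegral X] [Smooth (X ↘ Spec (CommRingCat.of K))] [IsProper (X ↘ Spec (CommRingCat.of K))]
    [GeometricallyIrreducible (X ↘ Spec (CommRingCat.of K))]
    (hdim : 2 ≤ topologicalKrullDim X)
    (L : X.Modules) (hLi : PicF.IsInvertible L) (hLa : CohB1.IsAmple L)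
    (ℓ : ℕ) (hℓ : 0 < ℓ)
    (J : Type u) (A : J → Set X.IdealSheafData)
    (hA : ∀ j, ∀ W ∈ A j, IsIntegral W.subscheme ∧ W ≠ ⊥)
    (hAiso : ∀ j, ∀ W ∈ A j, ∀ W'' : X.IdealSheafData,
      Nonempty (ClSub.idealMod W'' ≅ ClSub.idealMod W) → W'' ∈ A j)
    (dag2 : ∀ j j', ∀ W ∈ A j, ∀ Y ∈ A j', ∀ (hY : IsIntegral Y.subscheme) (G : Y.subscheme.Modules),
      Coh.IsCoh G → TorSh.IsTorsionFree G →
      (haveI := hY
       Module.finrank (Y.subscheme.presheaf.stalk (genericPoint Y.subscheme))
        (G.presheaf.stalk (genericPoint Y.subscheme)) = 1) →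
      (letI : Y.subscheme.Over (Spec (CommRingCat.of K)) := ⟨Y.subschemeι ≫ (X ↘ Spec (CommRingCat.of K))⟩
       ∃ P : Polynomial ℚ,
        ShStab.IsHilbPoly K Y.subscheme ((Scheme.Modules.pullback Y.subschemeι).obj L)
          (Coh.structureModule Y.subscheme) P ∧
        ShStab.IsHilbPoly K Y.subscheme ((Scheme.Modules.pullback Y.subschemeι).obj L) G
          (P - Polynomial.C (ℓ : ℚ))) →
      ∀ φ : ClSub.idealMod W ⟶ (Coh.push Y.subschemeι).obj G, φ = 0)
    (Z : X.IdealSheafData) (hZ : Mor2.IsFinLocFreeOfDeg ℓ (Z.subschemeι ≫ (X ↘ Spec (CommRingCat.of K))))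
    (j : J) (W : X.IdealSheafData) (hW : W ∈ A j) :
    Module.Finite K (ClSub.idealMod W ⟶ ClSub.idealMod Z) ∧
      Module.finrank K (ClSub.idealMod W ⟶ ClSub.idealMod Z) ≤ 1 := by
  haveI := GrothLib.Euler.isNoetherian_of_proper (X := X) K
  haveI hfin : Module.Finite K (ClSub.idealMod W ⟶ ClSub.idealMod Z) :=
    GrothLib.ASBun21.finite_hom K (GrothLib.RegPow.isCoh_idealMod W) (GrothLib.RegPow.isCoh_idealMod Z)
  refine ⟨hfin, ?_⟩
  by_cases h0 : ∀ f : ClSub.idealMod W ⟶ ClSub.idealMod Z, f = 0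
  · haveI : Subsingleton (ClSub.idealMod W ⟶ ClSub.idealMod Z) := ⟨fun a b => (h0 a).trans (h0 b).symm⟩
    rw [Module.finrank_zero_of_subsingleton]
    exact zero_le_one
  push Not at h0
  obtain ⟨f₁, hf₁⟩ := h0
  refine finrank_le_one f₁ fun f => ?_
  have hWne := (hA j W hW).2
  haveI : Mono f₁ := GrothLib.NonPure12.mono_of_ne_zero hWne hf₁
  haveI : Mono (ClSub.idealModι Z) := inferInstanceAs (Mono (kernel.ι _))
  obtain ⟨Y, e, he⟩ := GrothLib.ExtHull28.exists_iso_idealMod (GrothLib.RegPow.isCoh_idealMod W)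
    (f₁ ≫ ClSub.idealModι Z)
  have hYA : Y ∈ A j := hAiso j W hW Y ⟨e.symm⟩
  haveI hYint : IsIntegral Y.subscheme := (hA j Y hYA).1
  haveI : Mono (ClSub.idealModι Y) := inferInstanceAs (Mono (kernel.ι _))
  let a : ClSub.idealMod Z ⟶ ClSub.quotMod Y := ClSub.idealModι Z ≫ ClSub.toSubscheme Y
  have hfa : f₁ ≫ a = 0 := by
    show f₁ ≫ ClSub.idealModι Z ≫ ClSub.toSubscheme Y = 0
    rw [← Category.assoc, ← he, Category.assoc, show ClSub.idealModι Y ≫ ClSub.toSubscheme Y = 0 from
      kernel.condition _, comp_zero]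
  have hlift : ∀ g : ClSub.idealMod W ⟶ ClSub.idealMod Z, g ≫ a = 0 → ∃ t, g = t ≫ f₁ := by
    intro g hg
    refine ⟨kernel.lift _ (g ≫ ClSub.idealModι Z) (by rw [Category.assoc]; exact hg) ≫ e.inv, ?_⟩
    rw [← cancel_mono (ClSub.idealModι Z), Category.assoc, Category.assoc, ← he, e.inv_hom_id_assoc]
    exact (kernel.lift_ι _ _ _).symm
  have hscalar : ∀ t : ClSub.idealMod W ⟶ ClSub.idealMod W, ∃ c : K, t = c • 𝟙 _ := fun t => by
    obtain ⟨c, hc⟩ := GrothLib.NonPure12.exists_scalar_idealMod K W hWne t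
    refine ⟨c, sub_eq_zero.1 (GrothLib.NonPure12.eq_zero_of_generic _ fun v => ?_)⟩
    have h1 := GrothLib.QCoh.stalkLin_add (t - c • 𝟙 _) (c • 𝟙 _) (genericPoint X) v
    rw [sub_add_cancel, GrothLib.TFSimple15.stalkLin_smul, GrothLib.QCoh.stalkLin_id, hc] at h1
    exact right_eq_add.1 h1
  suffices hfa' : f ≫ a = 0 by
    obtain ⟨t, ht⟩ := hlift f hfa'
    obtain ⟨c, hc⟩ := hscalar t
    exact ⟨c, by rw [ht, hc, Linear.smul_comp, Category.id_comp]⟩
  have hQc : Coh.IsCoh (ClSub.quotMod Y) := GrothLib.QCoh.pushUnit_isCoh Y.subschemeι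
  let S := ShortComplex.mk (kernel.ι a) (Abelian.factorThruImage a)
    (by rw [← cancel_mono (Abelian.image.ι a), Category.assoc, Abelian.image.fac, zero_comp, kernel.condition])
  have hk1 : IsIso (kernel.lift a f₁ hfa) := by
    obtain ⟨t, ht⟩ : ∃ t : kernel a ⟶ ClSub.idealMod W, t ≫ f₁ = kernel.ι a := by
      refine ⟨kernel.lift _ (kernel.ι a ≫ ClSub.idealModι Z) (by rw [Category.assoc]; exact kernel.condition a) ≫ e.inv, ?_⟩
      rw [← cancel_mono (ClSub.idealModι Z), Category.assoc, Category.assoc, ← he, e.inv_hom_id_assoc]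
      exact kernel.lift_ι _ _ _
    refine ⟨t, ?_, ?_⟩
    · rw [← cancel_mono f₁, Category.assoc, ht, kernel.lift_ι, Category.id_comp]
    · rw [← cancel_mono (kernel.ι a), Category.assoc, kernel.lift_ι, ht, Category.id_comp]
  have hJc : Coh.IsCoh (Abelian.image a) :=
    GrothLib.QCoh.isCoh_kernel _ hQc (GrothLib.QCoh.isCoh_cokernel a (GrothLib.RegPow.isCoh_idealMod Z) hQc)
  obtain ⟨N, ιN, hιN, hNc, ⟨eN⟩⟩ :=
    GrothLib.QCoh.exists_ideal_of_mono_pushUnit Y.subschemeι hJc (Abelian.image.ι a)
  by_cases hN : IsZero N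
  · have hJ0 : IsZero (Abelian.image a) := ((Coh.push Y.subschemeι).map_isZero hN).of_iso eN.symm
    have ha0 : a = 0 := by rw [← Abelian.image.fac a, hJ0.eq_zero_of_tgt (Abelian.factorThruImage a), zero_comp]
    rw [ha0, comp_zero]
  letI : Y.subscheme.Over (Spec (CommRingCat.of K)) := ⟨Y.subschemeι ≫ (X ↘ Spec (CommRingCat.of K))⟩
  haveI : IsProper (Y.subscheme ↘ Spec (CommRingCat.of K)) :=
    inferInstanceAs (IsProper (Y.subschemeι ≫ (X ↘ Spec (CommRingCat.of K))))
  haveI := GrothLib.Euler.isNoetherian_of_proper (X := Y.subscheme) K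
  have hS : S.ShortExact :=
    { exact := ShortComplex.exact_of_f_is_kernel _ (KernelFork.IsLimit.ofι _ _
        (fun g hg => kernel.lift a g (by rw [← Abelian.image.fac a, ← Category.assoc, hg, zero_comp]))
        (fun g hg => kernel.lift_ι _ _ _)
        (fun g hg m hm => by rw [← cancel_mono (kernel.ι a), kernel.lift_ι]; exact hm)) }
  have hi : Y.subschemeι ≫ (X ↘ Spec (CommRingCat.of K)) = Y.subscheme ↘ Spec (CommRingCat.of K) := rfl
  have hP : ∃ P : Polynomial ℚ,
      ShStab.IsHilbPoly K Y.subscheme ((Scheme.Modules.pullback Y.subschemeι).obj L)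
        (Coh.structureModule Y.subscheme) P ∧
      ShStab.IsHilbPoly K Y.subscheme ((Scheme.Modules.pullback Y.subschemeι).obj L) N
        (P - Polynomial.C (ℓ : ℚ)) := by
    obtain ⟨D, hD, -⟩ := GrothLib.Dim.exists_nat_dim_open (K := K) (Y.subscheme ↘ Spec (CommRingCat.of K))
    have hd : GrothLib.Snapper.DimLT (CohB1.support (Coh.structureModule Y.subscheme)) (D + 1) :=
      GrothLib.Snapper.dimLT_of_dim_le
        (le_trans (Topology.IsInducing.topologicalKrullDim_le (f := Subtype.val) Topology.IsInducing.subtypeVal) hD.le)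
    obtain ⟨P, hP, -⟩ := GrothLib.Hilb20.exists_isHilbPoly_of_dimLT (k := K)
      (GrothLib.RelProjK.isInvertible_pullback Y.subschemeι hLi) (GrothLib.HomSh.isCoh_structureModule Y.subscheme) hd
    refine ⟨P, hP, ?_⟩
    have hO := GrothLib.HomSh.isCoh_structureModule X
    have hidY := GrothLib.RegPow.isCoh_idealMod Y
    have hidZ := GrothLib.RegPow.isCoh_idealMod Z
    have hY1 := (GrothLib.NonPure12.isHilbPoly_push_iff K Y.subschemeι hi hLi
      (GrothLib.HomSh.isCoh_structureModule Y.subscheme) P).2 hP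
    letI : Z.subscheme.Over (Spec (CommRingCat.of K)) := ⟨Z.subschemeι ≫ (X ↘ Spec (CommRingCat.of K))⟩
    have hZ1 := GrothLib.NonPure12.isHilbPoly_push_finite K Z.subschemeι rfl hZ hLi
    have hQZ : Coh.IsCoh (ClSub.quotMod Z) := GrothLib.QCoh.pushUnit_isCoh Z.subschemeι
    obtain ⟨PX, hPX⟩ := GrothLib.NonPure12.exists_hilb K hLi hO
    have hIY : ShStab.IsHilbPoly K X L (ClSub.idealMod Y) (PX - P) :=
      GrothLib.NonPure12.isHilbPoly_sub K hLi (GrothLib.ArSurf29.shortExact_ideal Y) hidY hO hQc hPX hY1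
    have hIZ : ShStab.IsHilbPoly K X L (ClSub.idealMod Z) (PX - Polynomial.C (ℓ : ℚ)) :=
      GrothLib.NonPure12.isHilbPoly_sub K hLi (GrothLib.ArSurf29.shortExact_ideal Z) hidZ hO hQZ hPX hZ1
    have hker : ShStab.IsHilbPoly K X L (kernel a) (PX - P) :=
      GrothLib.Hilb20.isHilbPoly_congr (e.symm ≪≫ asIso (kernel.lift a f₁ hfa)) hIY
    have hJ := GrothLib.NonPure12.isHilbPoly_quot_of_sub K hLi hS
      (GrothLib.QCoh.isCoh_kernel a hidZ hQc) hidZ hJc hIZ hker
    refine (GrothLib.NonPure12.isHilbPoly_push_iff K Y.subschemeι hi hLi hNc _).1 ?_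
    rw [show P - Polynomial.C (ℓ : ℚ) = (PX - Polynomial.C (ℓ : ℚ)) - (PX - P) by ring]
    exact GrothLib.Hilb20.isHilbPoly_congr eN.symm hJ
  haveI := hιN
  have hzero := dag2 j j W hW Y hYA hYint N hNc (GrothLib.NonPure12.isTorsionFree_of_mono ιN)
    (GrothLib.NonPure12.finrank_generic_of_mono ιN hN) hP (f ≫ Abelian.factorThruImage a ≫ eN.inv)
  have hzero' : f ≫ Abelian.factorThruImage a = 0 := by
    rw [← cancel_mono eN.inv, Category.assoc, hzero, zero_comp]
  rw [← Abelian.image.fac a, ← Category.assoc, hzero', zero_comp]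

end Groth.Agent.S19052
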