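import Groth.Statements.S19053
import Groth.Agent.Lib.NonPure12.CurveCase

set_option autoImplicit false
set_option backward.isDefEq.respectTransparency false
set_option linter.style.haveILetI false
set_option maxHeartbeats 1000000
open CategoryTheory CategoryTheory.Limits AlgebraicGeometry
universe u
open NonPure

namespace Groth.Agent.S19053

/-- Let K be an algebraically closed field and Y an integral K-scheme which is smooth, proper and
projective over K (a closed subscheme of some P^n_K), polarised by an invertible ample O_Y-module L,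
and whose Picard group is isomorphic to ℤ. Let ℓ ≥ 1 and let G be a coherent torsion-free O_Y-module
of generic rank one whose Hilbert polynomial with respect to L is P_{O_Y} − ℓ. Then G is isomorphic
to the ideal sheaf of a closed subscheme Z ⊆ Y which is finite locally free of degree ℓ over K (a
length-ℓ subscheme). (This is the assertion proved in the first two steps of the printed proof, for
the members Y of α, which are assumed smooth with Pic(Y) ≅ ℤ there; the surjectivity statement of
the proposition itself rests on the existence of the good moduli space and is not restated.) -/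
theorem result
    (K : Type u) [Field K] [IsAlgClosed K] (Y : Scheme.{u}) [Y.Over (Spec (CommRingCat.of K))]
    [IsIntegral Y] [Smooth (Y ↘ Spec (CommRingCat.of K))] [IsProper (Y ↘ Spec (CommRingCat.of K))]
    (hproj : ∃ (n : ℕ) (ι : Y ⟶ CohB1.ProjSpace n K), IsClosedImmersion ι ∧
      ι ≫ CohB1.ProjSpace.toSpec n K = Y ↘ Spec (CommRingCat.of K))
    (L : Y.Modules) (hLi : PicF.IsInvertible L) (hLa : CohB1.IsAmple L)
    [PicGrp.Law Y] (hPic : Nonempty (PicLoc.PicSet Y ≃* Multiplicative ℤ))
    (ℓ : ℕ) (hℓ : 0 < ℓ)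
    (G : Y.Modules) (hGc : Coh.IsCoh G) (hGt : TorSh.IsTorsionFree G)
    (hGr : Module.finrank (Y.presheaf.stalk (genericPoint Y)) (G.presheaf.stalk (genericPoint Y)) = 1)
    (hGP : ∃ P : Polynomial ℚ, ShStab.IsHilbPoly K Y L (Coh.structureModule Y) P ∧
      ShStab.IsHilbPoly K Y L G (P - Polynomial.C (ℓ : ℚ))) :
    ∃ Z : Y.IdealSheafData, Mor2.IsFinLocFreeOfDeg ℓ (Z.subschemeι ≫ (Y ↘ Spec (CommRingCat.of K))) ∧
      Nonempty (G ≅ ClSub.idealMod Z) := by
  haveI := GrothLib.Euler.isNoetherian_of_proper (X := Y) K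
  obtain ⟨n, hn, -⟩ := GrothLib.Dim.exists_nat_dim_open (K := K) (Y ↘ Spec (CommRingCat.of K))
  obtain ⟨θ₀⟩ := hPic
  let θ := (GrothLib.PicH1.picSetEquiv Y).symm.trans θ₀
  obtain ⟨gen, hgen⟩ := GrothLib.NonPure12.exists_gen_of_finrank hGr
  obtain ⟨hinv, hmono, hdim⟩ := GrothLib.NonPure12.bidual_facts_general K hn hGc hGt hgen
  haveI := hmono
  obtain ⟨P, hPO, hPG⟩ := hGP
  obtain ⟨PM, hPM, hco⟩ := GrothLib.NonPure12.coeff_bidual K hn hLi hGc hinv hdim hPG
  -- an ideal with the Hilbert polynomial of `G` is finite of the degree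
  have fin : ∀ Z : Y.IdealSheafData, Nonempty (G ≅ ClSub.idealMod Z) →
      ∃ Z : Y.IdealSheafData, Mor2.IsFinLocFreeOfDeg ℓ (Z.subschemeι ≫ (Y ↘ Spec (CommRingCat.of K))) ∧
        Nonempty (G ≅ ClSub.idealMod Z) := by
    rintro Z ⟨e⟩
    refine ⟨Z, GrothLib.NonPure12.isFinLocFreeOfDeg_of_hilb K hLa Z ?_, ⟨e⟩⟩
    have h := GrothLib.NonPure12.isHilbPoly_quot_of_sub K hLi (GrothLib.ArSurf29.shortExact_ideal Z)
      (GrothLib.RegPow.isCoh_idealMod Z) (GrothLib.HomSh.isCoh_structureModule Y)
      (GrothLib.QCoh.pushUnit_isCoh Z.subschemeι) hPO (GrothLib.Hilb20.isHilbPoly_congr e hPG)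
    rwa [sub_sub_cancel] at h
  have isoM : n ≤ 1 → Nonempty (G ≅ RefHull.ddual G) := fun hle => by
    have h0 : GrothLib.Snapper.DimLT (CohB1.support (cokernel (RefHull.bidualMap G))) 0 := by
      rwa [Nat.sub_eq_zero_of_le hle] at hdim
    haveI : Epi (RefHull.bidualMap G) := Preadditive.epi_of_cokernel_zero ((by
      rw [IsZero.iff_id_eq_zero]
      refine Scheme.Modules.hom_ext _ _ fun U => AddCommGrpCat.ext fun s => ?_
      exact GrothLib.QCoh.section_eq_zero_of_germ _ s fun x hx => @Subsingleton.elim _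
        (GrothLib.QCoh.stalk_subsingleton_of_notMem fun h =>
          absurd (h0 (RelSeries.singleton _ x) fun _ => h) (Nat.not_lt_zero _)) _ _ :
      IsZero (cokernel (RefHull.bidualMap G))).eq_zero_of_tgt _)
    haveI := isIso_of_mono_of_epi (RefHull.bidualMap G)
    exact ⟨asIso (RefHull.bidualMap G)⟩
  obtain rfl | hn1 := Nat.eq_zero_or_pos n
  · -- a point
    obtain ⟨eG⟩ := isoM zero_le_one
    exfalso
    haveI : Subsingleton Y := ⟨fun x y => by
      by_contra hxy
      have hη : ∀ z : Y, z = genericPoint Y := fun z => by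
        by_contra hz
        have h := GrothLib.Kleiman.dimLT_univ hn.le
          ((RelSeries.singleton _ z).snoc (genericPoint Y) (by
            show z < genericPoint Y
            exact lt_of_le_not_ge (genericPoint_specializes z) fun h => hz (Specializes.antisymm h (genericPoint_specializes z)).eq))
          fun _ => Set.mem_univ _
        simp at h
      exact hxy ((hη x).trans (hη y).symm)⟩
    obtain ⟨eM⟩ : Nonempty (RefHull.ddual G ≅ Coh.structureModule Y) := by
      obtain ⟨U, hxU, ⟨e⟩⟩ := hinv (genericPoint Y)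
      obtain rfl : U = ⊤ := top_unique fun z _ => (Subsingleton.elim z (genericPoint Y)).symm ▸ hxU
      exact ⟨GrothLib.NonPure12.isoOfTop (((Scheme.Modules.restrictFunctorIsoPullback _).app _).symm ≪≫ e ≪≫
        (GrothLib.OX.pullUnitIso _).symm)⟩
    have h := GrothLib.Hilb20.isHilbPoly_unique hPO (GrothLib.Hilb20.isHilbPoly_congr (eG ≪≫ eM) hPG)
    have h0 := congrArg (fun q : Polynomial ℚ => q.coeff 0) h
    simp only [Polynomial.coeff_sub, Polynomial.coeff_C_zero] at h0
    have : (ℓ : ℚ) = 0 := by linarith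
    exact hℓ.ne' (by exact_mod_cast this)
  obtain ⟨ha0, hlead, hlin⟩ := GrothLib.NonPure12.coeff_pred_eq K hn1 hn θ hLa hPO
  have hGM := hlin _ hinv PM hPM
  have hclsO : GrothLib.Cube.clsMod (GrothLib.Euler.isInvertible_structure (X := Y)) = 1 :=
    GrothLib.NonPure12.clsMod_structure
  obtain rfl | hn2 := eq_or_lt_of_le (show 1 ≤ n from hn1)
  · -- a curve
    obtain ⟨eG⟩ := isoM le_rfl
    haveI : JacobsonSpace Y := LocallyOfFiniteType.jacobsonSpace (Y ↘ Spec (CommRingCat.of K))
    obtain ⟨p, -, hp⟩ := GrothLib.NonPure12.exists_closed_point Y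
    let I := Scheme.IdealSheafData.vanishingIdeal (X := Y) ⟨{p}, hp⟩
    have hIne : I ≠ ⊥ := GrothLib.NonPure12.ptIdeal_ne_bot K hn hp
    have hTF := GrothLib.NonPure12.isTF1_idealMod I hIne
    obtain ⟨eI⟩ := hTF.2.2 (genericPoint Y) (GrothLib.FinAff13.mem_genericPoints_iff.2
      fun z hz => (hz.antisymm (genericPoint_specializes z)).eq)
    obtain ⟨genI, hgenI⟩ := GrothLib.NonPure12.exists_gen_of_finrank (N := ClSub.idealMod I)
      (eI.finrank_eq.trans (Module.finrank_self _))
    obtain ⟨hinvI, hmonoI, hdimI⟩ := GrothLib.NonPure12.bidual_facts_general K hn hTF.1 hTF.2.1 hgenI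
    haveI := hmonoI
    have hI : ShStab.IsHilbPoly K Y L (ClSub.idealMod I) (P - Polynomial.C 1) :=
      GrothLib.NonPure12.isHilbPoly_ptIdeal K hLi hp hPO
    obtain ⟨PI, hPI, hcoI⟩ := GrothLib.NonPure12.coeff_bidual K hn hLi hTF.1 hinvI hdimI hI
    have hII : PicF.IsInvertible (ClSub.idealMod I) := GrothLib.NonPure12.isInvertible_of_dim_one K hn hTF.1 hTF.2.1 hgenI
    have hIlin := hlin _ hII _ hI
    have hGi : PicF.IsInvertible G := GrothLib.NonPure12.isInvertible_of_dim_one K hn hGc hGt hgen
    have hGlin := hlin _ hGi _ hPG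
    simp only [Nat.sub_self, Polynomial.coeff_sub, Polynomial.coeff_C_zero, sub_sub_cancel_left,
      Nat.cast_one, one_mul] at hIlin hGlin
    set x := Multiplicative.toAdd (θ (GrothLib.Cube.clsMod hGi)) with hx
    set y := Multiplicative.toAdd (θ (GrothLib.Cube.clsMod hII)) with hy
    have hxy : x = (ℓ : ℤ) * y := by
      have : (x : ℚ) = (ℓ : ℚ) * (y : ℚ) := by
        refine mul_left_cancel₀ hlead ?_
        rw [← hGlin, mul_left_comm, ← hIlin]
        ring
      exact_mod_cast this
    obtain ⟨Z, ⟨eZ⟩⟩ := GrothLib.NonPure12.exists_tensorPow_idealMod hII ℓ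
    obtain ⟨e⟩ := (GrothLib.Cube.clsMod_eq_iff hGi (GrothLib.Ample.isInvertible_tensorPow hII ℓ)).1 (θ.injective
      (Multiplicative.toAdd.injective (by
        rw [GrothLib.Cube.clsMod_tensorPow hII ℓ, map_pow, toAdd_pow, ← hx, ← hy, hxy, nsmul_eq_mul])))
    exact fin Z ⟨e ≪≫ eZ⟩
  · -- dimension at least two
    have hPC : (P - Polynomial.C (ℓ : ℚ)).coeff (n - 1) = P.coeff (n - 1) := by
      rw [Polynomial.coeff_sub, Polynomial.coeff_C, if_neg (by omega), sub_zero]
    rw [hco, hPC, sub_self, zero_mul] at hGM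
    have hm : Multiplicative.toAdd (θ (GrothLib.Cube.clsMod hinv)) = 0 := by
      rcases mul_eq_zero.1 hGM.symm with h | h
      · rcases mul_eq_zero.1 h with h | h
        · exfalso
          have : n = 0 := by exact_mod_cast h
          omega
        · exact absurd h hlead
      · exact_mod_cast h
    obtain ⟨e⟩ := (GrothLib.Cube.clsMod_eq_one_iff hinv).1 (θ.injective (by
      rw [map_one]; exact Multiplicative.toAdd.injective hm))
    obtain ⟨Z, hZ⟩ := GrothLib.NonPure12.exists_idealMod_of_ddual hGc hGt e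
    exact fin Z hZ

end Groth.Agent.S19053
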