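import Groth.Statements.S19055
import Groth.Agent.Lib.CurveMult.SurfCurveDeg
import Groth.Agent.Lib.CurveMult.TFRankOne

set_option autoImplicit false
set_option linter.all false
open CategoryTheory CategoryTheory.Limits AlgebraicGeometry
universe u
open NonPure

namespace Groth.Agent.S19055

/-- Let K be an algebraically closed field and X a smooth projective surface over K — an integral
K-scheme, smooth, proper and projective over K, of dimension 2 — polarised by an invertible ample
O_X-module L. Let C₁, C₂ ⊆ X be closed subschemes which are integral of dimension one, with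
intersection number I = C₁ · C₂ (computed as χ(O_X) − χ(I_{C₁}) − χ(I_{C₂}) + χ(I_{C₁} ⊗ I_{C₂})),
and let ℓ be a natural number with I < ℓ. If G is a coherent torsion-free O_{C₂}-module of generic
rank one whose Hilbert polynomial with respect to L|_{C₂} is P_{O_{C₂}} − ℓ, then every morphism of
O_X-modules I_{C₁} → i_*G is zero, i : C₂ → X being the inclusion. (This is the verification, at the
start of the printed proof, that a family of integral curves with constant intersection number I(α)
< ℓ satisfies part (2) of condition (†); the contraction statement of the result itself rests on the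
existence of the good moduli space and is not restated.) -/
theorem result
    (K : Type u) [Field K] [IsAlgClosed K] (X : Scheme.{u}) [X.Over (Spec (CommRingCat.of K))]
    [IsIntegral X] [Smooth (X ↘ Spec (CommRingCat.of K))] [IsProper (X ↘ Spec (CommRingCat.of K))]
    (hproj : ∃ (n : ℕ) (ι : X ⟶ CohB1.ProjSpace n K), IsClosedImmersion ι ∧
      ι ≫ CohB1.ProjSpace.toSpec n K = X ↘ Spec (CommRingCat.of K))
    (hdim : topologicalKrullDim X = 2)
    (L : X.Modules) (hLi : PicF.IsInvertible L) (hLa : CohB1.IsAmple L)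
    (C₁ C₂ : X.IdealSheafData) [IsIntegral C₁.subscheme] [IsIntegral C₂.subscheme]
    (hC₁ : topologicalKrullDim ↥C₁.subscheme = 1) (hC₂ : topologicalKrullDim ↥C₂.subscheme = 1)
    (ℓ : ℕ)
    (hℓ : FGA.intNum K X 2 (fun i : Fin 2 => if i = 0 then ClSub.idealMod C₁ else ClSub.idealMod C₂)
      (Coh.structureModule X) < (ℓ : ℤ))
    (G : C₂.subscheme.Modules) (hGc : Coh.IsCoh G) (hGt : TorSh.IsTorsionFree G)
    (hGr : Module.finrank (C₂.subscheme.presheaf.stalk (genericPoint C₂.subscheme))
        (G.presheaf.stalk (genericPoint C₂.subscheme)) = 1)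
    (hGP : letI : C₂.subscheme.Over (Spec (CommRingCat.of K)) := ⟨C₂.subschemeι ≫ (X ↘ Spec (CommRingCat.of K))⟩
       ∃ P : Polynomial ℚ,
        ShStab.IsHilbPoly K C₂.subscheme ((Scheme.Modules.pullback C₂.subschemeι).obj L)
          (Coh.structureModule C₂.subscheme) P ∧
        ShStab.IsHilbPoly K C₂.subscheme ((Scheme.Modules.pullback C₂.subschemeι).obj L) G
          (P - Polynomial.C (ℓ : ℚ)))
    (φ : ClSub.idealMod C₁ ⟶ (Coh.push C₂.subschemeι).obj G) : φ = 0 := by
  let i := C₂.subschemeι
  letI : C₂.subscheme.Over (Spec (CommRingCat.of K)) := ⟨C₂.subschemeι ≫ (X ↘ Spec (CommRingCat.of K))⟩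
  haveI : IsProper (C₂.subscheme ↘ Spec (CommRingCat.of K)) :=
    inferInstanceAs (IsProper (C₂.subschemeι ≫ (X ↘ Spec (CommRingCat.of K))))
  have hdim' : topologicalKrullDim X = ((2 : ℕ) : WithBot ℕ∞) := by rw [hdim]; rfl
  have hd : ∀ (C : X.IdealSheafData), topologicalKrullDim ↥C.subscheme = 1 →
      topologicalKrullDim (C.support : Set X) = 1 := fun C hC => by
    rw [← hC, ← C.range_subschemeι]
    exact (IsHomeomorph.topologicalKrullDim_eq _
      C.subschemeι.isClosedEmbedding.isEmbedding.toHomeomorph.isHomeomorph).symm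
  have hI1 := GrothLib.HodgeIndex.inv_curve K hdim' ‹IsIntegral C₁.subscheme› (hd C₁ hC₁)
  have h1 := GrothLib.CurveMult.intNum_ker_eq K hdim' hLa i hC₂ hI1
  rw [show i.ker = C₂ from C₂.ker_subschemeι,
    GrothLib.HodgeIndex.intNum_curves K hdim' ‹IsIntegral C₂.subscheme› (hd C₂ hC₂)
      ‹IsIntegral C₁.subscheme› (hd C₁ hC₁) hLa,
    GrothLib.HodgeIndex.isect_comm,
    ← GrothLib.HodgeIndex.intNum_curves K hdim' ‹IsIntegral C₁.subscheme› (hd C₁ hC₁)
      ‹IsIntegral C₂.subscheme› (hd C₂ hC₂) hLa, Curv2.deg] at h1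
  rw [show (fun j : Fin 2 => if j = 0 then ClSub.idealMod C₁ else ClSub.idealMod C₂) =
    ![ClSub.idealMod C₁, ClSub.idealMod C₂] from by funext j; fin_cases j <;> rfl] at hℓ
  obtain ⟨P, hPO, hPG⟩ := hGP
  have eO := hPO 0
  have eG := hPG 0
  have hGe : (Curv2.euler K C₂.subscheme G : ℚ) =
      (Curv2.euler K C₂.subscheme (Coh.structureModule C₂.subscheme) : ℚ) - (ℓ : ℚ) := by
    rw [← GrothLib.Kleiman.euler_tensor_structure K G,
      ← GrothLib.Kleiman.euler_tensor_structure K (Coh.structureModule C₂.subscheme)]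
    simp only [Polynomial.eval_sub, Polynomial.eval_C] at eG
    rw [← eO] at eG
    exact eG
  have hGe' : Curv2.euler K C₂.subscheme G =
      Curv2.euler K C₂.subscheme (Coh.structureModule C₂.subscheme) - (ℓ : ℤ) := by exact_mod_cast hGe
  have hψ : ((Scheme.Modules.pullbackPushforwardAdjunction i).homEquiv _ _).symm φ = 0 := by
    by_contra hne
    have := GrothLib.CurveMult.euler_le_of_ne_zero K hC₂.le (GrothLib.Ample.isInvertible_pullback i hI1) hGc hGt hGr hne
    push_cast at h1
    omega
  have h2 := congrArg ((Scheme.Modules.pullbackPushforwardAdjunction i).homEquiv _ _) hψ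
  rw [Equiv.apply_symm_apply, Adjunction.homEquiv_apply, Functor.map_zero, comp_zero] at h2
  exact h2

end Groth.Agent.S19055
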