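import Groth.Statements.S19057
import Groth.Agent.Lib.NonPure12.Points

set_option autoImplicit false
set_option backward.isDefEq.respectTransparency false
open CategoryTheory CategoryTheory.Limits AlgebraicGeometry
universe u
open NonPure

namespace Groth.Agent.S19057

/-- Let K be a field and X an integral K-scheme which is smooth, proper, projective and geometrically
irreducible over K, of dimension at least 2, polarised by an invertible ample O_X-module L; let ℓ ≥
1. Let F be a coherent torsion-free O_X-module whose double dual Hom(Hom(F, O_X), O_X) is isomorphic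
to O_X (the sheaf Hom functors Hom(M, −) are taken as right adjoints of M ⊗ −; their existence is
the stated instance hypothesis and holds) and whose Hilbert polynomial with respect to L is P_{O_X}
− ℓ. Then there is a closed subscheme Z ⊆ X, finite locally free of degree ℓ over K, with F ≅ I_Z,
and Z is unique: two such subschemes of degree ℓ with isomorphic ideal sheaves coincide. (The
published statement is the isomorphism of stacks ψ : Hilb^ℓ(X) × B𝔾_m → Coh^tf(X)_{O_X,P_ℓ}; this
row is its shadow on K-valued points — every torsion-free sheaf with trivial determinant and Hilbert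
polynomial P_ℓ is the ideal sheaf of a unique length-ℓ subscheme — with triviality of the
determinant expressed, for a torsion-free sheaf of rank one on a smooth variety, as triviality of
the reflexive hull.) -/
theorem result
    (K : Type u) [Field K] (X : Scheme.{u}) [X.Over (Spec (CommRingCat.of K))]
    [IsIntegral X] [Smooth (X ↘ Spec (CommRingCat.of K))] [IsProper (X ↘ Spec (CommRingCat.of K))]
    [GeometricallyIrreducible (X ↘ Spec (CommRingCat.of K))]
    (hproj : ∃ (n : ℕ) (ι : X ⟶ CohB1.ProjSpace n K), IsClosedImmersion ι ∧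
      ι ≫ CohB1.ProjSpace.toSpec n K = X ↘ Spec (CommRingCat.of K))
    (hdim : 2 ≤ topologicalKrullDim X)
    (L : X.Modules) (hLi : PicF.IsInvertible L) (hLa : CohB1.IsAmple L)
    (ℓ : ℕ) (hℓ : 0 < ℓ)
    (F : X.Modules) (hFc : Coh.IsCoh F) (hFt : TorSh.IsTorsionFree F)
    [DCoh.HasSheafHom F] [DCoh.HasSheafHom ((DCoh.sheafHom F).obj (Coh.structureModule X))]
    (hdet : Nonempty ((DCoh.sheafHom ((DCoh.sheafHom F).obj (Coh.structureModule X))).obj
      (Coh.structureModule X) ≅ Coh.structureModule X))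
    (hFP : ∃ P : Polynomial ℚ, ShStab.IsHilbPoly K X L (Coh.structureModule X) P ∧
      ShStab.IsHilbPoly K X L F (P - Polynomial.C (ℓ : ℚ))) :
    (∃ Z : X.IdealSheafData, Mor2.IsFinLocFreeOfDeg ℓ (Z.subschemeι ≫ (X ↘ Spec (CommRingCat.of K))) ∧
      Nonempty (F ≅ ClSub.idealMod Z)) ∧
    (∀ Z Z' : X.IdealSheafData, Mor2.IsFinLocFreeOfDeg ℓ (Z.subschemeι ≫ (X ↘ Spec (CommRingCat.of K))) →
      Mor2.IsFinLocFreeOfDeg ℓ (Z'.subschemeι ≫ (X ↘ Spec (CommRingCat.of K))) →
      Nonempty (ClSub.idealMod Z ≅ ClSub.idealMod Z') → Z = Z') := by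
  haveI := GrothLib.Euler.isNoetherian_of_proper (X := X) K
  refine ⟨?_, ?_⟩
  · obtain ⟨e₁⟩ := GrothLib.NonPure12.nonempty_ddual_iso hFc
    obtain ⟨e₂⟩ := hdet
    obtain ⟨Z, ⟨e⟩⟩ := GrothLib.NonPure12.exists_idealMod_of_ddual hFc hFt (e₁ ≪≫ e₂)
    obtain ⟨P, hPO, hPF⟩ := hFP
    refine ⟨Z, GrothLib.NonPure12.isFinLocFreeOfDeg_of_hilb K hLa Z ?_, ⟨e⟩⟩
    have h := GrothLib.NonPure12.isHilbPoly_quot_of_sub K hLi (GrothLib.ArSurf29.shortExact_ideal Z)
      (GrothLib.RegPow.isCoh_idealMod Z) (GrothLib.HomSh.isCoh_structureModule X)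
      (GrothLib.QCoh.pushUnit_isCoh Z.subschemeι) hPO (GrothLib.Hilb20.isHilbPoly_congr e hPF)
    rwa [sub_sub_cancel] at h
  · intro Z Z' hZ hZ' ⟨e⟩
    have hfin : ∀ W : X.IdealSheafData,
        Mor2.IsFinLocFreeOfDeg ℓ (W.subschemeι ≫ (X ↘ Spec (CommRingCat.of K))) →
        (W.support : Set X).Finite ∧ ∀ x ∈ (W.support : Set X), IsClosed ({x} : Set X) := fun W hW => by
      haveI := hW.1.1
      haveI : JacobsonSpace W.subscheme :=
        LocallyOfFiniteType.jacobsonSpace (W.subschemeι ≫ (X ↘ Spec (CommRingCat.of K)))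
      haveI : Finite W.subscheme := Set.finite_univ_iff.1
        ((IsFinite.finite_preimage_singleton (W.subschemeι ≫ (X ↘ Spec (CommRingCat.of K)))
          (IsLocalRing.closedPoint K)).subset (fun z _ => Subsingleton.elim (α := PrimeSpectrum K) _ _))
      haveI : DiscreteTopology W.subscheme := inferInstance
      rw [← W.range_subschemeι]
      refine ⟨Set.finite_range _, ?_⟩
      rintro _ ⟨z, rfl⟩
      simpa using W.subschemeι.isClosedEmbedding.isClosedMap {z} (isClosed_discrete _)
    exact le_antisymm (GrothLib.NonPure12.le_of_iso_idealMod K hdim (hfin Z hZ).1 (hfin Z hZ).2 e)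
      (GrothLib.NonPure12.le_of_iso_idealMod K hdim (hfin Z' hZ').1 (hfin Z' hZ').2 e.symm)

end Groth.Agent.S19057
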