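import Groth.Statements.S19060
import Groth.Agent.Lib.BCCrit.LocalFree
import Groth.Agent.Lib.BCCrit.DimBound
import Groth.Agent.Lib.BCCoh.BaseModel

set_option autoImplicit false
universe u
open CategoryTheory CategoryTheory.Limits AlgebraicGeometry Opposite
open Curves

namespace Groth.Agent.S19060

set_option backward.isDefEq.respectTransparency false
open scoped TensorProduct


/-- Let R be a Noetherian ring and X a relative curve over Spec R (proper and smooth, with geometrically
connected fibres of dimension one, and projective: X carries an ample invertible module). Let F be a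
coherent O_X-module which is flat over Spec R (every stalk is a flat module over the local ring of
the base). If H^1(X, F) is a projective R-module, then H^0(X, F) is a projective R-module. (The
source says only that F is an O_X-module flat over the base; F is taken coherent here, as the
finiteness of its cohomology over R used there requires.) -/
theorem result (R : Type u) [CommRing R] [IsNoetherianRing R]
    (X : Scheme.{u}) [X.Over (Spec (CommRingCat.of R))] [IsProper (X ↘ Spec (CommRingCat.of R))]
    [Smooth (X ↘ Spec (CommRingCat.of R))] [GeometricallyConnected (X ↘ Spec (CommRingCat.of R))]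
    (hdim : ∀ s : Spec (CommRingCat.of R), topologicalKrullDim ↥((X ↘ Spec (CommRingCat.of R)).fiber s) = 1)
    (hproj : ∃ M : X.Modules, CohB1.IsAmple M)
    (F : X.Modules) (hF : Coh.IsCoh F) (hfl : FlatMod.IsFlatOver (X ↘ Spec (CommRingCat.of R)) F)
    (h1 : Module.Projective R (Coh.HH X F 1)) :
    Module.Projective R (Coh.HH X F 0) := by
  let f := X ↘ Spec (CommRingCat.of R)
  haveI : F.IsQuasicoherent := hF.1
  obtain ⟨m⟩ := GrothLib.BCCoh.nonempty_model f F hF hfl
  have eT : ∀ p : ℕ, Nonempty (Coh.HH X F p ≃ₗ[R] CohIII.T m.L (p : ℤ) (ModuleCat.of R R)) := fun p => by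
    obtain ⟨e, he, -⟩ := GrothLib.BCCoh.exists_linearEquiv f m.U m.cover m.aff p
    exact ⟨((e F hF.1).toLinearEquiv (he F hF.1)).trans
      ((GrothLib.BCCrit.theta m p).app (ModuleCat.of R R) ≪≫
        HomologicalComplex.homologyMapIso (GrothLib.BCCrit.unitI f F m.U) p).toLinearEquiv.symm⟩
  obtain ⟨e₁⟩ := eT 1
  obtain ⟨e₀⟩ := eT 0
  haveI := h1
  have hF1 : Module.Flat R (Coh.HH X F 1) := Module.Flat.of_projective
  have hproj : ∀ i : ℤ, (∀ x, GrothLib.BCCrit.Good m.L i x) → Module.Projective R (GrothLib.BCCrit.Cq m.L i) := by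
    intro i hi
    haveI := GrothLib.BCCrit.finitePresentation_Cq m.L m.finFree i
    exact Module.freeLocus_eq_univ_iff.1 (Set.eq_univ_of_forall hi)
  have hflat : ∀ {M : Type u} [AddCommGroup M] [Module R M], Module.Flat R M → Module.Flat R (R ⊗[R] M) :=
    fun h => Module.Flat.of_linearEquiv (TensorProduct.lid R _)
  have hC1 : Module.Flat R (R ⊗[R] GrothLib.BCCrit.Cq m.L 1) := by
    haveI := hproj 1 fun x => by
      have h2 := GrothLib.BCCrit.fiberRank_eq_zero_of_dim_lt (f := f) (F := F) x 1 2 (hdim x).le one_lt_two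
      rw [m.fiberRank_eq hF.1 2 x] at h2
      exact GrothLib.BCCrit.good_pred_of_dRank_eq_zero m.L m.finFree (i := 1) (by norm_num) x h2
    exact hflat inferInstance
  -- degree one
  have hC0 : Module.Flat R (R ⊗[R] GrothLib.BCCrit.Cq m.L 0) := by
    haveI : Module.Flat R (CohIII.T m.L ((1 : ℕ) : ℤ) (ModuleCat.of R R)) := @Module.Flat.of_linearEquiv R (Coh.HH X F 1) (CohIII.T m.L ((1 : ℕ) : ℤ) (ModuleCat.of R R)) _ _ _ _ _ hF1 e₁.symm
    exact ((GrothLib.BCCrit.flat_T_iff' m.L m.finFree (show (0 : ℤ) + 1 = 1 by norm_num) R hC1).1).1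
      (hflat inferInstance)
  -- degree zero
  have hCn : Module.Flat R (R ⊗[R] GrothLib.BCCrit.Cq m.L (-1)) := by
    haveI := hproj (-1) fun x => GrothLib.BCCrit.good_of_isZero_T m.L m.finFree (-1) x
      (m.isZero_T_neg (by norm_num) _)
    exact hflat inferInstance
  have hh := GrothLib.BCCrit.flat_T_iff' m.L m.finFree (show (-1 : ℤ) + 1 = 0 by norm_num) R hC0
  haveI := hh.1.2 hCn
  haveI := hh.2 hCn
  haveI : Module.Projective R (R ⊗[R] CohIII.T m.L (0 : ℤ) (ModuleCat.of R R)) :=
    Module.Flat.projective_of_finitePresentation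
  exact Module.Projective.of_equiv ((TensorProduct.lid R _).trans e₀.symm)

end Groth.Agent.S19060
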