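import Groth.Statements.S19063
import Groth.Agent.Lib.HypSq28.Main

set_option autoImplicit false
universe u
open CategoryTheory CategoryTheory.Limits AlgebraicGeometry Opposite
open HypSq

namespace Groth.Agent.S19063

/-- Let k be an algebraically closed field of characteristic ≠ 2 and C a hyperelliptic curve of genus g
≥ 2 over k: C ⟶ Spec k proper and smooth, C connected of dimension one with dim_k H^1(C, O_C) = g,
with a double cover κ : C ⟶ P^1_k over k (finite, flat, of rank 2 everywhere). On X = C ×_k C write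
L = κ^*O(1) and F_m = p_1^*L^m ⊗ p_2^*L^m (the divisor mF with F = p_1^*D_∞ + p_2^*D_∞, D_∞ a fibre
of κ). Then for every m ≥ g, i.e. m > g − 1, one has H^1(X, F_m) = 0 and H^2(X, F_m) = 0. -/
theorem result (k : Type u) [Field k] [IsAlgClosed k] (h2 : (2 : k) ≠ 0)
    (C : Scheme.{u}) [C.Over (Spec (CommRingCat.of k))] [IsProper (C ↘ Spec (CommRingCat.of k))] [Smooth (C ↘ Spec (CommRingCat.of k))] [ConnectedSpace ↥C]
    (hdim : topologicalKrullDim ↥C = 1) (g : ℕ) (hg : 2 ≤ g) (hgen : Curv2.genus k C = g)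
    (κ : C ⟶ CohB1.ProjSpace 1 k) (hκ : κ ≫ CohB1.ProjSpace.toSpec 1 k = (C ↘ Spec (CommRingCat.of k)))
    [IsFinite κ] [Flat κ] (hκ2 : ∀ y : ↥(CohB1.ProjSpace 1 k), κ.finrank y = 2)
    (m : ℕ) (hm : g ≤ m) :
    Subsingleton (Coh.HH (pullback (C ↘ Spec (CommRingCat.of k)) (C ↘ Spec (CommRingCat.of k))) (CohB1.tensorMod ((Scheme.Modules.pullback (pullback.fst (C ↘ Spec (CommRingCat.of k)) (C ↘ Spec (CommRingCat.of k)))).obj (CohB1.tensorPow ((Scheme.Modules.pullback κ).obj (Twist.twistProjSpace 1 k 1)) m)) ((Scheme.Modules.pullback (pullback.snd (C ↘ Spec (CommRingCat.of k)) (C ↘ Spec (CommRingCat.of k)))).obj (CohB1.tensorPow ((Scheme.Modules.pullback κ).obj (Twist.twistProjSpace 1 k 1)) m))) 1) ∧ Subsingleton (Coh.HH (pullback (C ↘ Spec (CommRingCat.of k)) (C ↘ Spec (CommRingCat.of k))) (CohB1.tensorMod ((Scheme.Modules.pullback (pullback.fst (C ↘ Spec (CommRingCat.of k)) (C ↘ Spec (CommRingCat.of k)))).obj (CohB1.tensorPow ((Scheme.Modules.pullback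 κ).obj (Twist.twistProjSpace 1 k 1)) m)) ((Scheme.Modules.pullback (pullback.snd (C ↘ Spec (CommRingCat.of k)) (C ↘ Spec (CommRingCat.of k)))).obj (CohB1.tensorPow ((Scheme.Modules.pullback κ).obj (Twist.twistProjSpace 1 k 1)) m))) 2) := by
  haveI := GrothLib.Euler.isIntegral_of_smooth_connected k (C ↘ Spec (CommRingCat.of k))
  obtain ⟨hL, hl, -, -⟩ := GrothLib.HypSq28.exists_pencil k hdim g hgen hg κ hκ hκ2
  have hLm := GrothLib.Ample.isInvertible_tensorPow hL m
  obtain ⟨hT, hTc⟩ := GrothLib.HypSq28.cls_tw₂ k hLm hLm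
  have hd' : 2 * (g : ℤ) - 2 < GrothLib.HypSq28.dg k (GrothLib.Cube.clsMod hLm) := by
    rw [GrothLib.Cube.clsMod_tensorPow hL m, GrothLib.HypSq28.dg_pow k hdim, hl]
    have : (g : ℤ) ≤ m := by exact_mod_cast hm
    linarith
  obtain ⟨h1, h2, -⟩ := GrothLib.HypSq28.box_coh k hdim g hgen hd' hd'
  letI := GrothLib.HypSq28.xOver k C
  refine ⟨GrothLib.HypSq28.subsingleton_of_finrank k hdim hT 1 ?_, GrothLib.HypSq28.subsingleton_of_finrank k hdim hT 2 ?_⟩
  · rw [GrothLib.HypSq28.finrank_eq_hX k hT, hTc]; exact h1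
  · rw [GrothLib.HypSq28.finrank_eq_hX k hT, hTc]; exact h2

end Groth.Agent.S19063
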