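import Groth.Statements.S1907
-- import your own Groth.Agent.* helpers here
import Groth.Agent.Lib.CycDiv.RatEquiv

set_option autoImplicit false
universe u
open CategoryTheory AlgebraicGeometry
open Cyc

namespace Groth.Agent.S1907

/-- Let Y be integral with δY(η_Y) = k, f : X → Y flat, locally of finite type, of relative dimension r,
and g a nonzero rational function on Y. Then f^*(div_Y g) = Σ_j n_j · div_{X_j}(g|_{X_j}) as (k + r
− 1)-cycles on X, the sum over the irreducible components X_j of X (generic points ξ_j, which map to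
η_Y) with n_j the length of O_{X,ξ_j}, and g|_{X_j} the image of g in κ(ξ_j). A pair (X, δ) with
Cyc.IsSetup plays the role of a scheme locally of finite type over a fixed base with a dimension
function (X locally Noetherian with universally catenary local rings, δ a dimension function), and
Cyc.DeltaCompat records that the dimension function upstairs is the induced one. -/
theorem result (X Y : Scheme.{u}) [IsIntegral Y] (δX : X → ℤ) (δY : Y → ℤ) (hX : Cyc.IsSetup X δX) (hY : Cyc.IsSetup Y δY) (f : X ⟶ Y) [Flat f] [LocallyOfFiniteType f] (r : ℕ) (hr : Cyc.HasRelDim f r) (hδ : Cyc.DeltaCompat f δX δY) (k : ℤ) (hk : δY (genericPoint Y) = k) (g : Y.residueField (genericPoint Y)) (hg : g ≠ 0) (x : X) : Cyc.pullFun f δX δY r (Cyc.divFun δY (genericPoint Y) g) x = ∑ᶠ ξ : {ξ : X // (∀ x' : X, x' ⤳ ξ → x' = ξ) ∧ f ξ = genericPoint Y}, ((Module.length (X.presheaf.stalk ξ.1) (X.presheaf.stalk ξ.1)).toNat : ℤ) * Cyc.divFun δX ξ.1 (f.residueFieldMap ξ.1 ((Y.residueFieldCongr ξ.2.2.symm).hom g))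 x := by
  classical
  haveI := hX.1
  haveI := hY.1
  have hc := GrothLib.CycDiv.shift_of_hasRelDim f hr hδ
  rw [GrothLib.CycDiv.pullFun_divFun f hX.2.2 hY.2.2 hc (genericPoint Y) g hg x]
  have hiff : ∀ ξ : X, ((∀ x' : X, x' ⤳ ξ → x' = ξ) ∧ f ξ = genericPoint Y) ↔
      (GrothLib.CycFlat.MaxFib f ξ ∧ f ξ = genericPoint Y) := fun ξ =>
    ⟨fun h => ⟨fun y _ hs => h.1 y hs, h.2⟩, fun h => ⟨fun y hs => h.1 y
      (by rw [h.2]; exact ((h.2 ▸ hs.map f.continuous : f y ⤳ genericPoint Y).antisymm
        (genericPoint_specializes (f y))).eq) hs, h.2⟩⟩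
  rw [← finsum_comp_equiv (Equiv.subtypeEquivRight hiff)]
  refine finsum_congr fun ξ => ?_
  have hη : ∀ (η : Y), η = genericPoint Y → IsLocalRing.maximalIdeal (Y.presheaf.stalk η) = ⊥ := by
    rintro η rfl
    exact (IsLocalRing.maximalIdeal_eq_bot : IsLocalRing.maximalIdeal Y.functionField = ⊥)
  show ((GrothLib.CycFlat.fibLength f ξ.1).toNat : ℤ) * _ = _
  rw [GrothLib.CycFlat.fibLength, hη (f ξ.1) ξ.2.2, Ideal.map_bot,
    (Submodule.quotEquivOfEqBot (⊥ : Ideal (X.presheaf.stalk ξ.1)) rfl).length_eq]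
  rfl


end Groth.Agent.S1907
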