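import Groth.Statements.S19073
import Groth.Agent.Lib.HodgeIndex.H2Vanish
import Groth.Agent.Lib.HodgeIndex.ProjConv

set_option autoImplicit false
set_option linter.all false
universe u
open CategoryTheory CategoryTheory.Limits AlgebraicGeometry
open Surf

namespace Groth.Agent.S19073

/-- Let X be a surface over an algebraically closed field k (an integral scheme of dimension two all of
whose local rings are regular, with a closed immersion into some P^n_k over k), and let L₁, L₂ be
invertible O_X-modules which are numerically equivalent: (L₁·M) = (L₂·M) for every invertible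
O_X-module M, where (L·M) = χ(O_X) − χ(L) − χ(M) + χ(L ⊗ M) is the intersection number. Then χ(X,
L₁) = χ(X, L₂). -/
theorem result (k : Type u) [Field k] [IsAlgClosed k] (X : Scheme.{u}) [X.Over (Spec (CommRingCat.of k))]
    [AlgebraicGeometry.IsIntegral X] (hdim : topologicalKrullDim X = 2) (hreg : ∀ x : X, IsRegularLocalRing (X.presheaf.stalk x))
    (hproj : ∃ (n : ℕ) (ι : X ⟶ CohB1.ProjSpace n k), IsClosedImmersion ι ∧ ι ≫ CohB1.ProjSpace.toSpec n k = (X ↘ (Spec (CommRingCat.of k))))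
    (L₁ L₂ : X.Modules) (hL₁ : PicF.IsInvertible L₁) (hL₂ : PicF.IsInvertible L₂)
    (hnum : ∀ M : X.Modules, PicF.IsInvertible M →
      FGA.intNum k X 2 ![L₁, M] (Coh.structureModule X) = FGA.intNum k X 2 ![L₂, M] (Coh.structureModule X)) :
    Curv2.euler k X L₁ = Curv2.euler k X L₂ := by
  obtain ⟨m, ι, hι, hιc⟩ := hproj
  haveI := hι
  haveI := GrothLib.HodgeIndex.isProper_of_proj ι hιc
  have hd : topologicalKrullDim X = ((2 : ℕ) : WithBot ℕ∞) := hdim
  have hH := GrothLib.HodgeIndex.isAmple_hyperplane ι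
  obtain ⟨a, ha⟩ : ∃ a, a = GrothLib.Cube.clsMod hL₁ := ⟨_, rfl⟩
  obtain ⟨b, hb⟩ : ∃ b, b = GrothLib.Cube.clsMod hL₂ := ⟨_, rfl⟩
  have hab : ∀ y, GrothLib.HodgeIndex.isect k (a * b⁻¹) y = 0 := fun y => by
    have h := hnum _ (GrothLib.HodgeIndex.isInv_rep y)
    rw [GrothLib.HodgeIndex.intNum_eq_isect k hd.le hH hL₁ (GrothLib.HodgeIndex.isInv_rep y),
      GrothLib.HodgeIndex.intNum_eq_isect k hd.le hH hL₂ (GrothLib.HodgeIndex.isInv_rep y),
      GrothLib.HodgeIndex.cls_rep, ← ha, ← hb] at h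
    rw [GrothLib.HodgeIndex.isect_mul_left k hd.le, GrothLib.HodgeIndex.isect_inv_left k hd.le, h, add_neg_cancel]
  have h1 := GrothLib.HodgeIndex.chi_eq_of_numTriv k hd hH hab
  have h2 := GrothLib.HodgeIndex.chi_mul k hd (a * b⁻¹) b
  rw [inv_mul_cancel_right, hab, h1] at h2
  rw [GrothLib.HodgeIndex.euler_eq_chi k hL₁, GrothLib.HodgeIndex.euler_eq_chi k hL₂, ← ha, ← hb, h2]
  ring

end Groth.Agent.S19073
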