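import Groth.Statements.S19075
import Groth.Agent.Lib.HypSq28.Rel

set_option autoImplicit false
universe u
open CategoryTheory CategoryTheory.Limits AlgebraicGeometry Opposite
open HypSq

namespace Groth.Agent.S19075

/-- Let k be an algebraically closed field of characteristic ≠ 2 and C a hyperelliptic curve of genus g
≥ 2 over k: C ⟶ Spec k proper and smooth, C connected of dimension one with dim_k H^1(C, O_C) = g,
with a double cover κ : C ⟶ P^1_k over k (finite, flat, of rank 2 everywhere) and hyperelliptic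
involution σ (σ ≫ κ = κ, σ ≠ id). On X = C ×_k C let N be an invertible O_X-module inverse to the
ideal sheaf of the graph Γ_σ = (id, σ) : C ⟶ X, and N_Δ an invertible O_X-module inverse to the
ideal sheaf of the diagonal Δ : C ⟶ X. Then (N·N_Δ) = 2g + 2 (the graph of σ meets the diagonal
transversally in the 2g + 2 fixed points of σ), (L·M) = χ(O_X) − χ(L) − χ(M) + χ(L ⊗ M) denoting the
intersection number of invertible modules on the surface X. -/
theorem result (k : Type u) [Field k] [IsAlgClosed k] (h2 : (2 : k) ≠ 0)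
    (C : Scheme.{u}) [C.Over (Spec (CommRingCat.of k))] [IsProper (C ↘ Spec (CommRingCat.of k))] [Smooth (C ↘ Spec (CommRingCat.of k))] [ConnectedSpace ↥C]
    (hdim : topologicalKrullDim ↥C = 1) (g : ℕ) (hg : 2 ≤ g) (hgen : Curv2.genus k C = g)
    (κ : C ⟶ CohB1.ProjSpace 1 k) (hκ : κ ≫ CohB1.ProjSpace.toSpec 1 k = (C ↘ Spec (CommRingCat.of k)))
    [IsFinite κ] [Flat κ] (hκ2 : ∀ y : ↥(CohB1.ProjSpace 1 k), κ.finrank y = 2)
    (σ : C ⟶ C) (hσ : σ ≫ κ = κ) (hσ1 : σ ≠ 𝟙 C) (hσp : σ ≫ (C ↘ Spec (CommRingCat.of k)) = (C ↘ Spec (CommRingCat.of k)))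
    (N : (pullback (C ↘ Spec (CommRingCat.of k)) (C ↘ Spec (CommRingCat.of k))).Modules) (hN : PicF.IsInvertible N)
    (hNinv : ClSub.IsInverseOf N (ClSub.idealMod (pullback.lift (𝟙 C) σ ((Category.id_comp (C ↘ Spec (CommRingCat.of k))).trans hσp.symm)).ker))
    (ND : (pullback (C ↘ Spec (CommRingCat.of k)) (C ↘ Spec (CommRingCat.of k))).Modules) (hND : PicF.IsInvertible ND)
    (hNDinv : ClSub.IsInverseOf ND (ClSub.idealMod (pullback.diagonal (C ↘ Spec (CommRingCat.of k))).ker)) :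
    letI : (pullback (C ↘ Spec (CommRingCat.of k)) (C ↘ Spec (CommRingCat.of k))).Over (Spec (CommRingCat.of k)) := ⟨pullback.fst (C ↘ Spec (CommRingCat.of k)) (C ↘ Spec (CommRingCat.of k)) ≫ (C ↘ Spec (CommRingCat.of k))⟩
    FGA.intNum k (pullback (C ↘ Spec (CommRingCat.of k)) (C ↘ Spec (CommRingCat.of k))) 2 ![N, ND] (Coh.structureModule (pullback (C ↘ Spec (CommRingCat.of k)) (C ↘ Spec (CommRingCat.of k)))) = 2 * (g : ℤ) + 2 := by
  haveI := GrothLib.Euler.isIntegral_of_smooth_connected k (C ↘ Spec (CommRingCat.of k))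
  letI := GrothLib.HypSq28.xOver k C
  obtain ⟨hpr, hsm, hint, hd2⟩ := GrothLib.HypSq28.surf k hdim
  obtain ⟨hL, hΔ, hΓ, h⟩ := GrothLib.HypSq28.diag_add_graph k hdim g hgen hg κ hκ hκ2 σ hσ hσ1 hσp
  obtain ⟨_, hI, hl, -, -, hσd, hfix, hbox, hnor, hii⟩ := GrothLib.HypSq28.setup k hdim g hgen hg κ hκ hκ2 σ hσ hσp
  refine (GrothLib.HypSq28.intNum_eq k hdim hN hND).trans ?_
  rw [GrothLib.HypSq28.cls_inverse hN hΓ hNinv, GrothLib.HypSq28.cls_inverse hND hΔ hNDinv,
    eq_mul_inv_of_mul_eq (h : _ = _), inv_inv, GrothLib.HodgeIndex.isect_comm,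
    GrothLib.HodgeIndex.isect_inv_right k hd2.le, hii, map_mul, hbox, hnor, hfix,
    GrothLib.HypSq28.dg_mul k hdim, GrothLib.HypSq28.dg_mul k hdim, GrothLib.HypSq28.dg_pow k hdim, hl, neg_neg]
  push_cast [show 1 ≤ g by omega]
  ring

end Groth.Agent.S19075
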