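import Groth.Statements.S19077
import Groth.Agent.Lib.HypSq28.Main

set_option autoImplicit false
universe u
open CategoryTheory CategoryTheory.Limits AlgebraicGeometry Opposite
open HypSq

namespace Groth.Agent.S19077

/-- Let k be an algebraically closed field of characteristic ≠ 2 and C a hyperelliptic curve of genus g
≥ 2 over k: C ⟶ Spec k proper and smooth, C connected of dimension one with dim_k H^1(C, O_C) = g,
with a double cover κ : C ⟶ P^1_k over k (finite, flat, of rank 2 everywhere) and hyperelliptic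
involution σ (σ ≫ κ = κ, σ ≠ id). On the surface X = C ×_k C write L = κ^*O(1) (the divisor D_∞ of
degree 2), F_m = p_1^*L^m ⊗ p_2^*L^m (the divisor mF, F = p_1^*D_∞ + p_2^*D_∞) and let N be an
invertible O_X-module inverse to the ideal sheaf of the graph Γ_σ = (id, σ) : C ⟶ X of σ (the
divisor class of the graph of the involution). If m ≥ g and r ≥ 0 satisfy 2m − γ r < 0 and 2m ≠ γ i
for all i ≤ r (γ = g − 1), then dim_k H^0(X, F_m ⊗ N^r) = dim_k H^0(X, F_m ⊗ N^q) where q = ⌊2m/γ⌋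
(natural-number division). -/
theorem result (k : Type u) [Field k] [IsAlgClosed k] (h2 : (2 : k) ≠ 0)
    (C : Scheme.{u}) [C.Over (Spec (CommRingCat.of k))] [IsProper (C ↘ Spec (CommRingCat.of k))] [Smooth (C ↘ Spec (CommRingCat.of k))] [ConnectedSpace ↥C]
    (hdim : topologicalKrullDim ↥C = 1) (g : ℕ) (hg : 2 ≤ g) (hgen : Curv2.genus k C = g)
    (κ : C ⟶ CohB1.ProjSpace 1 k) (hκ : κ ≫ CohB1.ProjSpace.toSpec 1 k = (C ↘ Spec (CommRingCat.of k)))
    [IsFinite κ] [Flat κ] (hκ2 : ∀ y : ↥(CohB1.ProjSpace 1 k), κ.finrank y = 2)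
    (σ : C ⟶ C) (hσ : σ ≫ κ = κ) (hσ1 : σ ≠ 𝟙 C) (hσp : σ ≫ (C ↘ Spec (CommRingCat.of k)) = (C ↘ Spec (CommRingCat.of k)))
    (N : (pullback (C ↘ Spec (CommRingCat.of k)) (C ↘ Spec (CommRingCat.of k))).Modules) (hN : PicF.IsInvertible N)
    (hNinv : ClSub.IsInverseOf N (ClSub.idealMod (pullback.lift (𝟙 C) σ ((Category.id_comp (C ↘ Spec (CommRingCat.of k))).trans hσp.symm)).ker))
    (m r : ℕ) (hm : g ≤ m) (hneg : 2 * (m : ℤ) < ((g : ℤ) - 1) * r) (hne : ∀ i : ℕ, i ≤ r → 2 * m ≠ (g - 1) * i) :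
    letI : (pullback (C ↘ Spec (CommRingCat.of k)) (C ↘ Spec (CommRingCat.of k))).Over (Spec (CommRingCat.of k)) := ⟨pullback.fst (C ↘ Spec (CommRingCat.of k)) (C ↘ Spec (CommRingCat.of k)) ≫ (C ↘ Spec (CommRingCat.of k))⟩
    Module.finrank k (Coh.HH (pullback (C ↘ Spec (CommRingCat.of k)) (C ↘ Spec (CommRingCat.of k))) (CohB1.tensorMod (CohB1.tensorMod ((Scheme.Modules.pullback (pullback.fst (C ↘ Spec (CommRingCat.of k)) (C ↘ Spec (CommRingCat.of k)))).obj (CohB1.tensorPow ((Scheme.Modules.pullback κ).obj (Twist.twistProjSpace 1 k 1)) m)) ((Scheme.Modules.pullback (pullback.snd (C ↘ Spec (CommRingCat.of k)) (C ↘ Spec (CommRingCat.of k)))).obj (CohB1.tensorPow ((Scheme.Modules.pullback κ).obj (Twist.twistProjSpace 1 k 1)) m))) (CohB1.tensorPow N r)) 0) = Module.finrank k (Coh.HH (pullback (C ↘ Spec (CommRingCat.of k)) (C ↘ Spec (CommRingCat.of k))) (CohB1.tensorMod (CohB1.tensorMod ((Scheme.Modules.pullback (pullback.fst (C ↘ Spec (CommRingCat.of k)) (C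 ↘ Spec (CommRingCat.of k)))).obj (CohB1.tensorPow ((Scheme.Modules.pullback κ).obj (Twist.twistProjSpace 1 k 1)) m)) ((Scheme.Modules.pullback (pullback.snd (C ↘ Spec (CommRingCat.of k)) (C ↘ Spec (CommRingCat.of k)))).obj (CohB1.tensorPow ((Scheme.Modules.pullback κ).obj (Twist.twistProjSpace 1 k 1)) m))) (CohB1.tensorPow N (2 * m / (g - 1)))) 0) := by
  haveI := GrothLib.Euler.isIntegral_of_smooth_connected k (C ↘ Spec (CommRingCat.of k))
  letI := GrothLib.HypSq28.xOver k C

  have key : ∀ d : ℕ, 2 * m / (g - 1) + d ≤ r →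
      Module.finrank k (Coh.HH (GrothLib.HypSq28.XX k C) (CohB1.tensorMod (CohB1.tensorMod
        ((Scheme.Modules.pullback (GrothLib.HypSq28.p₁ k)).obj (CohB1.tensorPow ((Scheme.Modules.pullback κ).obj (Twist.twistProjSpace 1 k 1)) m))
        ((Scheme.Modules.pullback (GrothLib.HypSq28.p₂ k)).obj (CohB1.tensorPow ((Scheme.Modules.pullback κ).obj (Twist.twistProjSpace 1 k 1)) m)))
        (CohB1.tensorPow N (2 * m / (g - 1) + d))) 0) =
      Module.finrank k (Coh.HH (GrothLib.HypSq28.XX k C) (CohB1.tensorMod (CohB1.tensorMod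
        ((Scheme.Modules.pullback (GrothLib.HypSq28.p₁ k)).obj (CohB1.tensorPow ((Scheme.Modules.pullback κ).obj (Twist.twistProjSpace 1 k 1)) m))
        ((Scheme.Modules.pullback (GrothLib.HypSq28.p₂ k)).obj (CohB1.tensorPow ((Scheme.Modules.pullback κ).obj (Twist.twistProjSpace 1 k 1)) m)))
        (CohB1.tensorPow N (2 * m / (g - 1)))) 0) := by
    intro d
    induction d with
    | zero => intro; rfl
    | succ d ih =>
      intro hd
      refine Eq.trans ?_ (ih (by omega))
      obtain ⟨hL, z, hz, -, -, -, -, -, -, hpred⟩ :=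
        GrothLib.HypSq28.main k hdim g hgen hg κ hκ hκ2 σ hσ hσp N hN hNinv m (2 * m / (g - 1) + (d + 1)) 0
      obtain ⟨z', hz', -, -, -, -, heq, -⟩ := hpred hm (2 * m / (g - 1) + d) rfl
      refine hz.trans ((heq ?_).trans hz'.symm)
      have h := Nat.lt_mul_div_succ (2 * m) (show 0 < g - 1 by omega)
      have h' : 2 * m < (g - 1) * (2 * m / (g - 1) + (d + 1)) := h.trans_le (Nat.mul_le_mul_left _ (by omega))
      generalize 2 * m / (g - 1) = q at h' ⊢
      zify [show 1 ≤ g by omega] at h'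
      push_cast
      exact h'
  have hq : 2 * m / (g - 1) ≤ r := by
    have h' : 2 * m < (g - 1) * r := by
      zify [show 1 ≤ g by omega]
      exact hneg
    exact Nat.div_le_of_le_mul h'.le
  have h := key (r - 2 * m / (g - 1)) (by omega)
  rw [Nat.add_sub_cancel' hq] at h
  exact h

end Groth.Agent.S19077
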