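import Groth.Statements.S19082
import Groth.Agent.Lib.HypSq28.Main

set_option autoImplicit false
universe u
open CategoryTheory CategoryTheory.Limits AlgebraicGeometry Opposite
open HypSq

namespace Groth.Agent.S19082

/-- Let k be an algebraically closed field of characteristic ≠ 2 and C a hyperelliptic curve of genus g
≥ 2 over k: C ⟶ Spec k proper and smooth, C connected of dimension one with dim_k H^1(C, O_C) = g,
with a double cover κ : C ⟶ P^1_k over k (finite, flat, of rank 2 everywhere) and hyperelliptic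
involution σ (σ ≫ κ = κ, σ ≠ id). On X = C ×_k C let N be an invertible O_X-module inverse to the
ideal sheaf of the graph Γ_σ = (id, σ) : C ⟶ X, N_Δ an invertible module inverse to the ideal sheaf
of the diagonal, x : Spec k ⟶ C a k-point with A = O_C(x) an invertible O_C-module inverse to the
ideal sheaf of x, and V = p_1^*A, H = p_2^*A the classes of the fibres {x} × C and C × {x}. Then
(V·V) = 0, (V·H) = 1, (V·N_Δ) = 1 and (V·N) = 1, with (L·M) = χ(O_X) − χ(L) − χ(M) + χ(L ⊗ M) the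
intersection number. (The source takes x to be a Weierstrass point; the entries hold for any
k-point.) -/
theorem result (k : Type u) [Field k] [IsAlgClosed k] (h2 : (2 : k) ≠ 0)
    (C : Scheme.{u}) [C.Over (Spec (CommRingCat.of k))] [IsProper (C ↘ Spec (CommRingCat.of k))] [Smooth (C ↘ Spec (CommRingCat.of k))] [ConnectedSpace ↥C]
    (hdim : topologicalKrullDim ↥C = 1) (g : ℕ) (hg : 2 ≤ g) (hgen : Curv2.genus k C = g)
    (κ : C ⟶ CohB1.ProjSpace 1 k) (hκ : κ ≫ CohB1.ProjSpace.toSpec 1 k = (C ↘ Spec (CommRingCat.of k)))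
    [IsFinite κ] [Flat κ] (hκ2 : ∀ y : ↥(CohB1.ProjSpace 1 k), κ.finrank y = 2)
    (σ : C ⟶ C) (hσ : σ ≫ κ = κ) (hσ1 : σ ≠ 𝟙 C) (hσp : σ ≫ (C ↘ Spec (CommRingCat.of k)) = (C ↘ Spec (CommRingCat.of k)))
    (N : (pullback (C ↘ Spec (CommRingCat.of k)) (C ↘ Spec (CommRingCat.of k))).Modules) (hN : PicF.IsInvertible N)
    (hNinv : ClSub.IsInverseOf N (ClSub.idealMod (pullback.lift (𝟙 C) σ ((Category.id_comp (C ↘ Spec (CommRingCat.of k))).trans hσp.symm)).ker))
    (ND : (pullback (C ↘ Spec (CommRingCat.of k)) (C ↘ Spec (CommRingCat.of k))).Modules) (hND : PicF.IsInvertible ND)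
    (hNDinv : ClSub.IsInverseOf ND (ClSub.idealMod (pullback.diagonal (C ↘ Spec (CommRingCat.of k))).ker))
    (x : Spec (CommRingCat.of k) ⟶ C) (hx : x ≫ (C ↘ Spec (CommRingCat.of k)) = 𝟙 (Spec (CommRingCat.of k)))
    (A : C.Modules) (hA : PicF.IsInvertible A) (hAinv : ClSub.IsInverseOf A (ClSub.idealMod x.ker)) :
    letI : (pullback (C ↘ Spec (CommRingCat.of k)) (C ↘ Spec (CommRingCat.of k))).Over (Spec (CommRingCat.of k)) := ⟨pullback.fst (C ↘ Spec (CommRingCat.of k)) (C ↘ Spec (CommRingCat.of k)) ≫ (C ↘ Spec (CommRingCat.of k))⟩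
    FGA.intNum k (pullback (C ↘ Spec (CommRingCat.of k)) (C ↘ Spec (CommRingCat.of k))) 2 ![((Scheme.Modules.pullback (pullback.fst (C ↘ Spec (CommRingCat.of k)) (C ↘ Spec (CommRingCat.of k)))).obj A), ((Scheme.Modules.pullback (pullback.fst (C ↘ Spec (CommRingCat.of k)) (C ↘ Spec (CommRingCat.of k)))).obj A)] (Coh.structureModule (pullback (C ↘ Spec (CommRingCat.of k)) (C ↘ Spec (CommRingCat.of k)))) = 0 ∧
      FGA.intNum k (pullback (C ↘ Spec (CommRingCat.of k)) (C ↘ Spec (CommRingCat.of k))) 2 ![((Scheme.Modules.pullback (pullback.fst (C ↘ Spec (CommRingCat.of k)) (C ↘ Spec (CommRingCat.of k)))).obj A), ((Scheme.Modules.pullback (pullback.snd (C ↘ Spec (CommRingCat.of k)) (C ↘ Spec (CommRingCat.of k)))).obj A)] (Coh.structureModule (pullback (C ↘ Spec (CommRingCat.of k)) (C ↘ Spec (CommRingCat.of k)))) = 1 ∧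
      FGA.intNum k (pullback (C ↘ Spec (CommRingCat.of k)) (C ↘ Spec (CommRingCat.of k))) 2 ![((Scheme.Modules.pullback (pullback.fst (C ↘ Spec (CommRingCat.of k)) (C ↘ Spec (CommRingCat.of k)))).obj A), ND] (Coh.structureModule (pullback (C ↘ Spec (CommRingCat.of k)) (C ↘ Spec (CommRingCat.of k)))) = 1 ∧
      FGA.intNum k (pullback (C ↘ Spec (CommRingCat.of k)) (C ↘ Spec (CommRingCat.of k))) 2 ![((Scheme.Modules.pullback (pullback.fst (C ↘ Spec (CommRingCat.of k)) (C ↘ Spec (CommRingCat.of k)))).obj A), N] (Coh.structureModule (pullback (C ↘ Spec (CommRingCat.of k)) (C ↘ Spec (CommRingCat.of k)))) = 1 := by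
  haveI := GrothLib.Euler.isIntegral_of_smooth_connected k (C ↘ Spec (CommRingCat.of k))
  letI := GrothLib.HypSq28.xOver k C
  obtain ⟨hpr, hsm, hint, hd2⟩ := GrothLib.HypSq28.surf k hdim
  obtain ⟨hL, hI, -, -, -, hσd, -, hbox, -, hii⟩ := GrothLib.HypSq28.setup k hdim g hgen hg κ hκ hκ2 σ hσ hσp
  obtain ⟨-, hID, -, hboxD, -, hiiD, -, -⟩ := GrothLib.HypSq28.graph k hdim (𝟙 C) (Category.id_comp _)
  have hIx := GrothLib.CurveProd28.isInvertible_pt k hdim x hx
  have hda : GrothLib.HypSq28.dg k (GrothLib.Cube.clsMod hA) = 1 := by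
    rw [GrothLib.HypSq28.cls_inverse hA hIx hAinv, GrothLib.HypSq28.dg_inv k hdim, ← GrothLib.HypSq28.deg_eq_dg k hIx,
      GrothLib.CurveProd28.deg_idealMod_pt k hdim x hx, neg_neg]
  have hV := GrothLib.Ample.isInvertible_pullback (GrothLib.HypSq28.p₁ k (C := C)) hA
  have hH := GrothLib.Ample.isInvertible_pullback (GrothLib.HypSq28.p₂ k (C := C)) hA
  have hVc : GrothLib.Cube.clsMod hV = GrothLib.HypSq28.box k (GrothLib.Cube.clsMod hA) 1 := by
    rw [GrothLib.Cube.clsMod_pullback _ hA, GrothLib.HypSq28.box, map_one, mul_one]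
  have hHc : GrothLib.Cube.clsMod hH = GrothLib.HypSq28.box k 1 (GrothLib.Cube.clsMod hA) := by
    rw [GrothLib.Cube.clsMod_pullback _ hA, GrothLib.HypSq28.box, map_one, one_mul]
  refine ⟨(GrothLib.HypSq28.intNum_eq k hdim hV hV).trans ?_, (GrothLib.HypSq28.intNum_eq k hdim hV hH).trans ?_,
    (GrothLib.HypSq28.intNum_eq k hdim hV hND).trans ?_, (GrothLib.HypSq28.intNum_eq k hdim hV hN).trans ?_⟩
  · rw [hVc, GrothLib.HypSq28.isect_box k hdim, GrothLib.HypSq28.dg_one]; ring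
  · rw [hVc, hHc, GrothLib.HypSq28.isect_box k hdim, GrothLib.HypSq28.dg_one, hda]; ring
  · rw [hVc, GrothLib.HypSq28.cls_inverse hND hID hNDinv, GrothLib.HodgeIndex.isect_inv_right k hd2.le, hiiD, hboxD,
      map_one, mul_one, hda, neg_neg]
  · rw [hVc, GrothLib.HypSq28.cls_inverse hN hI hNinv, GrothLib.HodgeIndex.isect_inv_right k hd2.le, hii, hbox,
      map_one, mul_one, hda, neg_neg]

end Groth.Agent.S19082
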