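import Groth.Statements.S19092
import Mathlib

set_option autoImplicit false
universe u
open FrobAlg

namespace Groth.Agent.S19092

/-- Let p be a prime and A a commutative ring of characteristic p whose absolute Frobenius a ↦ a^p is a
finite ring homomorphism. Then the same holds for every quotient and every localization of A: for
every ideal I of A such that A ⧸ I has characteristic p (every proper ideal) the absolute Frobenius
of A ⧸ I is finite, and for every submonoid S of A and every localization B of A at S of
characteristic p (every nonzero localization) the absolute Frobenius of B is finite. -/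
theorem result (p : ℕ) [Fact p.Prime]
    (A : Type u) [CommRing A] [CharP A p] (hF : (frobenius A p).Finite) :
    (∀ (I : Ideal A) [CharP (A ⧸ I) p], (frobenius (A ⧸ I) p).Finite) ∧
      ∀ (S : Submonoid A) (B : Type u) [CommRing B] [Algebra A B] [IsLocalization S B] [CharP B p],
        (frobenius B p).Finite := by
  classical
  refine ⟨fun I _ => ?_, fun S B _ _ _ _ => ?_⟩
  · have h : (frobenius (A ⧸ I) p).comp (Ideal.Quotient.mk I) = (Ideal.Quotient.mk I).comp (frobenius A p) := by
      ext a; simp [frobenius_def]
    have hfin : ((frobenius (A ⧸ I) p).comp (Ideal.Quotient.mk I)).Finite := by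
      rw [h]
      exact (RingHom.Finite.of_surjective _ Ideal.Quotient.mk_surjective).comp hF
    exact RingHom.Finite.of_comp_finite hfin
  · obtain ⟨g, hg⟩ := @Module.Finite.fg_top A A _ _ (frobenius A p).toAlgebra.toModule hF
    refine @Module.Finite.of_fg_top B B _ _ (frobenius B p).toAlgebra.toModule ⟨g.image (algebraMap A B), ?_⟩
    rw [eq_top_iff]
    rintro b -
    obtain ⟨a, s, rfl⟩ := IsLocalization.exists_mk'_eq S b
    have ha : a * (s : A) ^ (p - 1) ∈ @Submodule.span A A _ _ (frobenius A p).toAlgebra.toModule (g : Set A) := by
      rw [hg]; trivial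
    obtain ⟨c, hc⟩ := (@Submodule.mem_span_finset A A _ _ (frobenius A p).toAlgebra.toModule _ _).1 ha
    have key : IsLocalization.mk' B a s =
        ∑ x ∈ g, @HSMul.hSMul B B B (@instHSMul B B (frobenius B p).toAlgebra.toSMul)
          (IsLocalization.mk' B (c x) s) (algebraMap A B x) := by
      have hu : IsUnit (algebraMap A B (s : A) ^ p) := (IsLocalization.map_units B s).pow p
      refine hu.mul_left_cancel ?_
      change _ = _ * ∑ x ∈ g, (IsLocalization.mk' B (c x) s) ^ p * algebraMap A B x
      rw [Finset.mul_sum]
      have : ∀ x ∈ g, algebraMap A B (s : A) ^ p * ((IsLocalization.mk' B (c x) s) ^ p * algebraMap A B x) =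
          algebraMap A B ((c x) ^ p * x) := fun x _ => by
        rw [← mul_assoc, ← mul_pow, IsLocalization.mk'_spec', map_mul, map_pow]
      rw [Finset.sum_congr rfl this, ← map_sum, show (∑ x ∈ g, c x ^ p * x) = a * (s : A) ^ (p - 1) from hc.2,
        map_mul, map_pow, ← Nat.sub_add_cancel (Fact.out : p.Prime).one_le, pow_succ, Nat.add_sub_cancel,
        mul_assoc, IsLocalization.mk'_spec', mul_comm]
    rw [key]
    refine Submodule.sum_mem _ fun x hx => ?_
    exact Submodule.smul_mem _ _ (@Submodule.subset_span B B _ _ (frobenius B p).toAlgebra.toModule _ _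
      (Finset.mem_coe.2 (Finset.mem_image_of_mem _ hx)))

end Groth.Agent.S19092
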