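import Groth.Statements.S19093
import Mathlib
import Groth.Agent.S19092

set_option autoImplicit false
universe u
open FrobAlg

namespace Groth.Agent.S19093

theorem frobenius_powerSeries_finite (p : ℕ) [Fact p.Prime] (k : Type u) [Field k] [Finite k] [CharP k p]
    [CharP (PowerSeries k) p] : (frobenius (PowerSeries k) p).Finite := by
  classical
  have hp : 0 < p := (Fact.out : p.Prime).pos
  refine @Module.Finite.of_fg_top (PowerSeries k) (PowerSeries k) _ _
    (frobenius (PowerSeries k) p).toAlgebra.toModule
    ⟨(Finset.range p).image fun j => (PowerSeries.X : PowerSeries k) ^ j, ?_⟩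
  rw [eq_top_iff]
  rintro f -
  choose g hg using fun j => (show ∃ g : PowerSeries k, ∀ n, (PowerSeries.coeff n g) ^ p = PowerSeries.coeff (p * n + j) f from
    ⟨PowerSeries.mk fun n => (frobeniusEquiv k p).symm (PowerSeries.coeff (p * n + j) f),
      fun n => by rw [PowerSeries.coeff_mk]; exact frobeniusEquiv_symm_pow_p k p _⟩)
  have hmap : ∀ h : PowerSeries k, PowerSeries.map (frobenius k p) (PowerSeries.expand p hp.ne' h) = h ^ p :=
    fun h => MvPowerSeries.map_frobenius_expand p hp.ne'
  have key : f = ∑ j ∈ Finset.range p, g j ^ p * PowerSeries.X ^ j := by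
    ext N
    rw [map_sum, Finset.sum_eq_single (N % p)]
    · have hN := Nat.div_add_mod N p
      rw [show PowerSeries.coeff N (g (N % p) ^ p * PowerSeries.X ^ (N % p)) =
        PowerSeries.coeff (p * (N / p) + N % p) (g (N % p) ^ p * PowerSeries.X ^ (N % p)) by rw [hN]]
      rw [PowerSeries.coeff_mul_X_pow, ← hmap (g (N % p)), PowerSeries.coeff_map,
        PowerSeries.coeff_expand_mul, frobenius_def, hg, hN]
    · intro j hj hne
      rw [PowerSeries.coeff_mul_X_pow']
      split_ifs with h
      · rw [← hmap (g j), PowerSeries.coeff_map,
          PowerSeries.coeff_expand_of_not_dvd, map_zero]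
        intro hdvd
        refine hne ?_
        obtain ⟨c, hc⟩ := hdvd
        rw [show N = p * c + j by omega, Nat.mul_add_mod, Nat.mod_eq_of_lt (Finset.mem_range.1 hj)]
      · rfl
    · intro h
      exact absurd (Finset.mem_range.2 (Nat.mod_lt _ hp)) h
  rw [key]
  exact Submodule.sum_mem _ fun j hj =>
    @Submodule.smul_mem _ _ _ _ (frobenius (PowerSeries k) p).toAlgebra.toModule _ _ (g j)
      (@Submodule.subset_span _ _ _ _ (frobenius (PowerSeries k) p).toAlgebra.toModule _ _
        (Finset.mem_coe.2 (Finset.mem_image_of_mem _ hj)))


/-- Let p be a prime, k a finite field of characteristic p, A a commutative k[[t]]-algebra of finite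
type over the power series ring k[[t]], and P a prime ideal of A. Then the absolute Frobenius a ↦
a^p of the local ring A_P is a finite ring homomorphism. In particular every local ring of a scheme
of finite type over k[[t]] has finite absolute Frobenius. (The instance hypothesis that A_P has
characteristic p always holds, A_P being a nonzero algebra over k.) The published statement is for
the local rings of a projective strictly semistable scheme over k[[t]] and adds that such a scheme
is regular with F-finite local rings; its proof uses only that the scheme is of finite type over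
k[[t]], which is the form stated here. -/
theorem result (p : ℕ) [Fact p.Prime]
    (k : Type u) [Field k] [Finite k] [CharP k p]
    (A : Type u) [CommRing A] [Algebra (PowerSeries k) A] [Algebra.FiniteType (PowerSeries k) A]
    (P : Ideal A) [P.IsPrime] [CharP (Localization.AtPrime P) p] :
    (frobenius (Localization.AtPrime P) p).Finite := by
  classical
  have hnt : Nontrivial A := ⟨⟨0, 1, fun h => (‹P.IsPrime›).ne_top (P.eq_top_iff_one.2 (h ▸ P.zero_mem))⟩⟩
  haveI : CharP A p := charP_of_injective_ringHom ((algebraMap (PowerSeries k) A).comp (PowerSeries.C)).injective p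
  haveI : CharP (PowerSeries k) p := charP_of_injective_ringHom (PowerSeries.C (R := k)).injective p
  have hcomm : (frobenius A p).comp (algebraMap (PowerSeries k) A) =
      (algebraMap (PowerSeries k) A).comp (frobenius (PowerSeries k) p) :=
    RingHom.ext fun a => by simp [frobenius_def]
  have hft : (frobenius A p).FiniteType := by
    refine RingHom.FiniteType.of_comp_finiteType (f := algebraMap (PowerSeries k) A) ?_
    rw [hcomm]
    exact RingHom.FiniteType.comp (RingHom.finiteType_algebraMap.2 inferInstance)
      (frobenius_powerSeries_finite p k).finiteType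
  have hint : (frobenius A p).IsIntegral := fun a =>
    ⟨Polynomial.X ^ p - Polynomial.C a, Polynomial.monic_X_pow_sub_C a (Fact.out : p.Prime).ne_zero, by
      simp [frobenius_def]⟩
  exact (Groth.Agent.S19092.result p A (hint.to_finite hft)).2 P.primeCompl (Localization.AtPrime P)

end Groth.Agent.S19093
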