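import Groth.Statements.S19098
import Groth.Agent.Lib.TorsorDesc.Pseudo
-- import your own Groth.Agent.* helpers here

set_option autoImplicit false
universe u
open CategoryTheory MonoidalCategory CartesianMonoidalCategory MonObj AlgebraicGeometry
open ChGrp

namespace Groth.Agent.S19098

/-- Let S be a scheme, G an S-group scheme acting on an S-scheme X through a, and h an S-point of G. Let
i : Z → G be a homomorphism and ψ : Ψ → G a monomorphism with a G-action on Ψ under which ψ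
intertwines with conjugation, and o an S-point of Ψ over h, such that (Ψ, o) is the homogeneous
space G/Z for the fppf topology through the orbit map g ↦ g h g⁻¹ (so Z is the centralizer of h and
Ψ its conjugacy class). Let incl : X^h → X be a monomorphism whose points are the points of X fixed
by h, with the Z-action restricted from a; let σ : S_Ψ → G ×_S X be a monomorphism whose points are
the pairs (g, x) with g a point of Ψ and g x = x (the part of the global stabilizer over Ψ), with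
the G-action by conjugation on the first entry and by a on the second; and let Φ : G ×_S X^h → S_Ψ
be the morphism (g, x) ↦ (g h g⁻¹, g x). Then Φ makes S_Ψ, with its G-action, the balanced product G
×^Z X^h for the fppf topology: Φ is G-equivariant, it is a Z-torsor for the action z (g, x) = (g
z⁻¹, z x), and it has sections fppf-locally on S_Ψ. (The source works with algebraic spaces of
finite type over the complex numbers and a semisimple conjugacy class Ψ, where the identification of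
Ψ with G/Z comes from the theory of algebraic groups; here that identification is the hypothesis
hhom, the base is arbitrary and X is a scheme.) -/
theorem result
    {S : Scheme.{u}} {G X Z Ψ Xh SΨ : Over S} [GrpObj G] [GrpObj Z]
    (a : AlgGrp.Action G X) (h : 𝟙_ (Over S) ⟶ G)
    (i : Z ⟶ G) [IsMonHom i]
    (ψ : Ψ ⟶ G) [Mono ψ] (aΨ : AlgGrp.Action G Ψ)
    (hψ : aΨ.act ≫ ψ = fst G Ψ * (snd G Ψ ≫ ψ) * (fst G Ψ)⁻¹)
    (o : 𝟙_ (Over S) ⟶ Ψ) (ho : o ≫ ψ = h)
    (hhom : ChGrp.IsHomog Scheme.fppfPrecoverage i aΨ o)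
    (incl : Xh ⟶ X) [Mono incl]
    (hXh : ∀ (T : Over S) (x : T ⟶ X), (∃ y : T ⟶ Xh, y ≫ incl = x) ↔ lift (toUnit T ≫ h) x ≫ a.act = x)
    (aXh : AlgGrp.Action Z Xh) (hincl : AlgGrp.Action.IsEquivariant aXh (a.restrict i) incl)
    (σ : SΨ ⟶ G ⊗ X) [Mono σ]
    (hSΨ : ∀ (T : Over S) (g : T ⟶ G) (x : T ⟶ X),
      (∃ q : T ⟶ SΨ, q ≫ σ = lift g x) ↔ ((∃ y : T ⟶ Ψ, y ≫ ψ = g) ∧ lift g x ≫ a.act = x))
    (aS : AlgGrp.Action G SΨ)
    (hσ : aS.act ≫ σ = lift (fst G SΨ * (snd G SΨ ≫ σ ≫ fst G X) * (fst G SΨ)⁻¹)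
      (lift (fst G SΨ) (snd G SΨ ≫ σ ≫ snd G X) ≫ a.act))
    (Φ : G ⊗ Xh ⟶ SΨ)
    (hΦ : Φ ≫ σ = lift (fst G Xh * (toUnit (G ⊗ Xh) ≫ h) * (fst G Xh)⁻¹)
      (lift (fst G Xh) (snd G Xh ≫ incl) ≫ a.act)) :
    ChGrp.IsBalProd Scheme.fppfPrecoverage i aXh aS Φ := by
  obtain ⟨-, hpb, hloc⟩ := hhom
  have horb : ∀ {T : Over S} (g : T ⟶ G), (g ≫ aΨ.orbitMap o) ≫ ψ = g * (toUnit T ≫ h) * g⁻¹ := by
    intro T g
    rw [AlgGrp.Action.comp_orbitMap, Category.assoc, hψ]
    simp [MonObj.comp_mul, GrpObj.comp_inv, ho]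
  have hact : ∀ {T : Over S} (z : T ⟶ Z) (x : T ⟶ Xh),
      (lift z x ≫ aXh.act) ≫ incl = lift (z ≫ i) (x ≫ incl) ≫ a.act := by
    intro T z x
    rw [Category.assoc, show aXh.act ≫ incl = _ from hincl, lift_whiskerLeft_assoc, AlgGrp.Action.lift_restrict_act]
  have hΦp : ∀ {T : Over S} (g : T ⟶ G) (x : T ⟶ Xh),
      (lift g x ≫ Φ) ≫ σ = lift (g * (toUnit T ≫ h) * g⁻¹) (lift g (x ≫ incl) ≫ a.act) := by
    intro T g x
    rw [Category.assoc, hΦ]
    simp [MonObj.comp_mul, GrpObj.comp_inv, comp_lift_assoc]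
  have hSp : ∀ {T : Over S} (g : T ⟶ G) (q : T ⟶ SΨ),
      (lift g q ≫ aS.act) ≫ σ = lift (g * ((q ≫ σ) ≫ fst G X) * g⁻¹) (lift g ((q ≫ σ) ≫ snd G X) ≫ a.act) := by
    intro T g q
    rw [Category.assoc, hσ]
    simp [MonObj.comp_mul, GrpObj.comp_inv, comp_lift_assoc]
  have hpair : ∀ {T : Over S} {A B : Over S} (p : T ⟶ A ⊗ B), p = lift (p ≫ fst A B) (p ≫ snd A B) := fun p => by
    rw [← comp_lift, lift_fst_snd, Category.comp_id]
  -- the translation square
  have hfib : ∀ {T : Over S} (g g' : T ⟶ G), g ≫ aΨ.orbitMap o = g' ≫ aΨ.orbitMap o →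
      ∃ z : T ⟶ Z, g * (z ≫ i) = g' := by
    intro T g g' e
    refine ⟨hpb.lift g g' e ≫ snd G Z, ?_⟩
    have e1 := hpb.lift_fst g g' e
    have e2 := hpb.lift_snd g g' e
    generalize hpb.lift g g' e = w at e1 e2
    rw [hpair w, lift_whiskerLeft_assoc, e1] at e2
    rw [Hom.mul_def]
    exact e2
  refine ⟨?_, ?_, ?_⟩
  · unfold AlgGrp.Action.IsEquivariant
    rw [← cancel_mono σ]
    apply AlgGrp.Action.hom_ext_lift₂
    intro T g p
    rw [hpair p]
    simp only [Category.assoc]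
    rw [← Category.assoc (lift g _), AlgGrp.Action.lift_prod_act, AlgGrp.Action.lift_trivial_act,
      lift_whiskerLeft_assoc, ← Category.assoc (lift g _), hSp, hΦp, lift_fst, lift_snd, ← Category.assoc (lift _ _),
      hΦp, show lift g (p ≫ fst G Xh) ≫ (NonAbH1.trivialAction G).act = g * (p ≫ fst G Xh) from rfl]
    simp only [_root_.mul_inv_rev, _root_.mul_assoc, AlgGrp.Action.lift_mul_act]
  · have hw : (ChGrp.twist i aXh).act ≫ Φ = snd Z (G ⊗ Xh) ≫ Φ := by
      rw [← cancel_mono σ]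
      apply AlgGrp.Action.hom_ext_lift₂
      intro T z p
      rw [hpair p]
      simp only [Category.assoc]
      rw [lift_snd_assoc, ← Category.assoc (lift z _), ChGrp.lift_twist_act, ← Category.assoc, hΦp,
        ← Category.assoc (lift (p ≫ fst G Xh) _), hΦp, hact, ← AlgGrp.Action.lift_mul_act, inv_mul_cancel_right]
      congr 1
      -- conjugation by an element of the centralizer
      have hz : (z ≫ i) * (toUnit T ≫ h) * (z ≫ i)⁻¹ = toUnit T ≫ h := by
        have e : lift (1 : T ⟶ G) z ≫ fst G Z ≫ aΨ.orbitMap o =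
            lift (1 : T ⟶ G) z ≫ ((G ◁ i) ≫ μ[G]) ≫ aΨ.orbitMap o := by rw [hpb.w]
        rw [lift_fst_assoc, Category.assoc, lift_whiskerLeft_assoc, ← Category.assoc, ← Hom.mul_def,
          _root_.one_mul] at e
        have e' := congrArg (· ≫ ψ) e
        simp only [horb] at e'
        rw [← e']
        simp
      calc _ = (p ≫ fst G Xh) * ((z ≫ i)⁻¹ * (toUnit T ≫ h) * (z ≫ i)) * (p ≫ fst G Xh)⁻¹ := by
              simp only [_root_.mul_inv_rev, _root_.inv_inv, _root_.mul_assoc]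
        _ = _ := by
              conv_lhs => rw [← hz]
              group
    have hex : ∀ {T : Over S} (p q : T ⟶ G ⊗ Xh), p ≫ Φ = q ≫ Φ →
        ∃ z : T ⟶ Z, lift z q ≫ (ChGrp.twist i aXh).act = p := by
      intro T p q e
      rw [hpair p, hpair q] at e
      have e' := congrArg (· ≫ σ) e
      simp only [hΦp] at e'
      have e1 := congrArg (· ≫ fst G X) e'
      have e2 := congrArg (· ≫ snd G X) e'
      simp only [lift_fst, lift_snd] at e1 e2
      obtain ⟨z, hz⟩ := hfib (p ≫ fst G Xh) (q ≫ fst G Xh)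
        (by rw [← cancel_mono ψ, horb, horb]; exact e1)
      refine ⟨z, ?_⟩
      conv_lhs => rw [hpair q]
      conv_rhs => rw [hpair p]
      rw [ChGrp.lift_twist_act, ← hz, mul_inv_cancel_right]
      congr 1
      rw [← cancel_mono incl, hact]
      rw [← hz, AlgGrp.Action.lift_mul_act] at e2
      have e3 := congrArg (fun t => lift (p ≫ fst G Xh)⁻¹ t ≫ a.act) e2
      simpa [← AlgGrp.Action.lift_mul_act, AlgGrp.Action.lift_one_act] using e3.symm
    choose f hf using fun (s : Limits.PullbackCone Φ Φ) => hex s.fst s.snd s.condition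
    refine IsPullback.mk ⟨hw⟩ ⟨Limits.PullbackCone.IsLimit.mk _ (fun s => lift (f s) s.snd) hf
      (fun s => lift_snd _ _) fun s m h₁ h₂ => ?_⟩
    have hm : m = lift (m ≫ fst _ _) s.snd := by rw [← h₂]; exact hpair m
    rw [hm, ← hf s] at h₁
    rw [hm]
    congr 1
    rw [hpair s.snd, ChGrp.lift_twist_act, ChGrp.lift_twist_act] at h₁
    have e0 := congrArg (· ≫ fst G Xh) h₁
    simp only [lift_fst, mul_right_inj, inv_inj] at e0
    have e4 : lift (s.snd ≫ fst G Xh) (m ≫ fst Z (G ⊗ Xh)) = lift (s.snd ≫ fst G Xh) (f s) := by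
      apply hpb.hom_ext
      · simp
      · rw [lift_whiskerLeft_assoc, lift_whiskerLeft_assoc, e0]
    simpa using congrArg (· ≫ snd G Z) e4
  · -- base change of the orbit map
    have hq : ∀ {T : Over S} (q : T ⟶ SΨ), ∃ y : T ⟶ Ψ, y ≫ ψ = (q ≫ σ) ≫ fst G X ∧
        lift ((q ≫ σ) ≫ fst G X) ((q ≫ σ) ≫ snd G X) ≫ a.act = (q ≫ σ) ≫ snd G X := by
      intro T q
      obtain ⟨⟨y, hy⟩, hfix⟩ := (hSΨ T _ _).1 ⟨q, hpair (q ≫ σ)⟩
      exact ⟨y, hy, hfix⟩
    obtain ⟨π, hπ, -⟩ := hq (𝟙 SΨ)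
    rw [Category.id_comp] at hπ
    have hsq : IsPullback (fst G Xh) Φ (aΨ.orbitMap o) π := by
      have hw : fst G Xh ≫ aΨ.orbitMap o = Φ ≫ π := by
        rw [← cancel_mono ψ, horb, Category.assoc, hπ, ← Category.assoc, hΦ, lift_fst]
      have hex : ∀ {T : Over S} (g : T ⟶ G) (q : T ⟶ SΨ), g ≫ aΨ.orbitMap o = q ≫ π →
          ∃ x : T ⟶ Xh, lift g x ≫ Φ = q := by
        intro T g q e
        obtain ⟨y, -, hfix⟩ := hq q
        have hc : g * (toUnit T ≫ h) * g⁻¹ = (q ≫ σ) ≫ fst G X := by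
          rw [← horb, e, Category.assoc, hπ, Category.assoc]
        obtain ⟨x, hx⟩ := (hXh T (lift g⁻¹ ((q ≫ σ) ≫ snd G X) ≫ a.act)).2 (by
          rw [← AlgGrp.Action.lift_mul_act]
          conv_rhs => rw [← hfix, ← AlgGrp.Action.lift_mul_act, ← hc]
          congr 2
          group)
        refine ⟨x, ?_⟩
        rw [← cancel_mono σ, hΦp, hx, ← AlgGrp.Action.lift_mul_act, mul_inv_cancel, AlgGrp.Action.lift_one_act, hc,
          ← hpair]
      choose f hf using fun (s : Limits.PullbackCone (aΨ.orbitMap o) π) => hex s.fst s.snd s.condition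
      refine IsPullback.mk ⟨hw⟩ ⟨Limits.PullbackCone.IsLimit.mk _ (fun s => lift s.fst (f s)) (fun s => lift_fst _ _)
        hf fun s m h₁ h₂ => ?_⟩
      apply CartesianMonoidalCategory.hom_ext
      · rw [h₁, lift_fst]
      · rw [lift_snd, ← cancel_mono incl]
        have e' : (lift (m ≫ fst G Xh) (m ≫ snd G Xh) ≫ Φ) ≫ σ = (lift s.fst (f s) ≫ Φ) ≫ σ := by
          rw [← hpair, hf, h₂]
        rw [hΦp, hΦp, h₁] at e'
        have e2 := congrArg (fun t => lift s.fst⁻¹ (t ≫ snd G X) ≫ a.act) e'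
        simpa [← AlgGrp.Action.lift_mul_act, AlgGrp.Action.lift_one_act] using e2
    exact GrothLib.TorsorDesc.isLocallyTrivialFor_of_isPullback _ (hsq.map (Over.forget S)) hloc

end Groth.Agent.S19098
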