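import Groth.Statements.S19099
import Groth.Agent.Lib.LocalSecDesc13.Basic
import Groth.Agent.Lib.TorsorDesc.Basic
-- import your own Groth.Agent.* helpers here

set_option autoImplicit false
universe u
open CategoryTheory MonoidalCategory CartesianMonoidalCategory MonObj AlgebraicGeometry
open ChGrp

namespace Groth.Agent.S19099

/-- Let S be a scheme, i : G → Q a monomorphic homomorphism of S-group schemes (a closed subgroup), h an
S-point of G whose image in Q is central, and X an S-scheme with a G-action a. Let incl : X^h → X be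
a monomorphism whose points are the points of X fixed by h, with a G-action making incl equivariant
(X^h is G-stable since h is central in G). Let Y with its Q-action and j : Q ×_S X → Y be the
balanced product Q ×^G X for the fppf topology, Y' with j' : Q ×_S X^h → Y' the balanced product Q
×^G X^h, and m : Y' → Y the morphism under which j' followed by m is Q × incl followed by j. Then m
is a monomorphism, a point of Y factors through m exactly when it is fixed by h acting on Y through
the Q-action, and m is a closed immersion if incl is one: Q ×^G X^h is the fixed locus of h in Q ×^G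
X. (The source states this for a smooth algebraic space X of finite type over the complex numbers,
as an equality of closed subspaces, and argues on closed points; the form here is the one its
computation gives for the fppf quotients over any base, with X a scheme.) -/
theorem result
    {S : Scheme.{u}} {Q G X Xh Y Y' : Over S} [GrpObj Q] [GrpObj G]
    (i : G ⟶ Q) [IsMonHom i] [Mono i]
    (h : 𝟙_ (Over S) ⟶ G)
    (hcent : ∀ (T : Over S) (q : T ⟶ Q), q * (toUnit T ≫ h ≫ i) = (toUnit T ≫ h ≫ i) * q)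
    (a : AlgGrp.Action G X)
    (incl : Xh ⟶ X) [Mono incl]
    (hXh : ∀ (T : Over S) (x : T ⟶ X), (∃ y : T ⟶ Xh, y ≫ incl = x) ↔ lift (toUnit T ≫ h) x ≫ a.act = x)
    (aXh : AlgGrp.Action G Xh) (hincl : AlgGrp.Action.IsEquivariant aXh a incl)
    (aY : AlgGrp.Action Q Y) (j : Q ⊗ X ⟶ Y) (hY : ChGrp.IsBalProd Scheme.fppfPrecoverage i a aY j)
    (aY' : AlgGrp.Action Q Y') (j' : Q ⊗ Xh ⟶ Y') (hY' : ChGrp.IsBalProd Scheme.fppfPrecoverage i aXh aY' j')
    (m : Y' ⟶ Y) (hm : j' ≫ m = (Q ◁ incl) ≫ j) :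
    Mono m ∧
      (∀ (T : Over S) (y : T ⟶ Y), (∃ y' : T ⟶ Y', y' ≫ m = y) ↔ lift (toUnit T ≫ h ≫ i) y ≫ aY.act = y) ∧
      (IsClosedImmersion incl.left → IsClosedImmersion m.left) := by
  obtain ⟨heq, hcart, hloc⟩ := hY
  obtain ⟨heq', hcart', hloc'⟩ := hY'
  haveI : Mono (Q ◁ incl) := ⟨fun {T} u v e => by
    apply CartesianMonoidalCategory.hom_ext
    · simpa using congrArg (· ≫ fst Q X) e
    · rw [← cancel_mono incl]; simpa using congrArg (· ≫ snd Q X) e⟩
  have hjg : ∀ {T : Over S} (q q' : T ⟶ Q) (x : T ⟶ X),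
      lift q (lift q' x ≫ j) ≫ aY.act = lift (q * q') x ≫ j := by
    intro T q q' x
    have e := congrArg (lift q (lift q' x) ≫ ·) heq
    simp only [lift_whiskerLeft_assoc] at e
    rw [← e, ← Category.assoc, AlgGrp.Action.lift_prod_act, AlgGrp.Action.lift_trivial_act]
    rfl
  have hfix : ∀ {T : Over S} (q : T ⟶ Q) (x : T ⟶ X),
      lift (toUnit T ≫ h ≫ i) (lift q x ≫ j) ≫ aY.act = lift q (lift (toUnit T ≫ h) x ≫ a.act) ≫ j := by
    intro T q x
    rw [hjg, ← hcent T q]
    have e : lift (toUnit T ≫ h) (lift (q * (toUnit T ≫ h ≫ i)) x) ≫ (ChGrp.twist i a).act ≫ j =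
        lift (toUnit T ≫ h) (lift (q * (toUnit T ≫ h ≫ i)) x) ≫ snd G (Q ⊗ X) ≫ j := by rw [hcart.w]
    rw [lift_snd_assoc, ← Category.assoc, ChGrp.lift_twist_act, Category.assoc (toUnit T) h i,
      mul_inv_cancel_right] at e
    exact e.symm
  have hpair : ∀ {T A B : Over S} (p : T ⟶ A ⊗ B), p = lift (p ≫ fst A B) (p ≫ snd A B) := fun p => by
    rw [← comp_lift, lift_fst_snd, Category.comp_id]
  have hlifts : ∀ {A B : Over S} (jA : A ⟶ B), NonAbH1.IsLocallyTrivialFor Scheme.fppfPrecoverage (Over.mk jA.left : Over B.left) →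
      ∀ {T : Over S} (y : T ⟶ B), ∃ (P : Over S) (p : P ⟶ T) (b : P ⟶ A), EffectiveEpi p.left ∧ b ≫ jA = p ≫ y := by
    intro A B jA hA T y
    let P : Over S := Limits.pullback jA y
    refine ⟨P, Limits.pullback.snd jA y, Limits.pullback.fst jA y, ?_, Limits.pullback.condition⟩
    refine GrothLib.TorsorDesc.effectiveEpi_of_localSections _ (GrothLib.TorsorDesc.isLocallyTrivialFor_mono
      Scheme.fppfPrecoverage_le_fpqcPrecoverage ?_)
    exact GrothLib.TorsorDesc.isLocallyTrivialFor_of_isPullback _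
      ((IsPullback.of_hasPullback jA y).map (Over.forget S)) hA
  have hjm : ∀ {T : Over S} (q : T ⟶ Q) (z : T ⟶ Xh),
      lift q z ≫ j' ≫ m = lift q (z ≫ incl) ≫ j := by
    intro T q z
    rw [hm, lift_whiskerLeft_assoc]
  -- `m` is a monomorphism
  have hmono : Mono m := ⟨fun {T} u v e => by
    obtain ⟨P, p, b, hp, hb⟩ := hlifts j' hloc' u
    haveI := hp
    refine GrothLib.TorsorDesc.cancel_of_effectiveEpi p ?_
    obtain ⟨P', p', b', hp', hb'⟩ := hlifts j' hloc' (p ≫ v)
    haveI := hp'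
    refine GrothLib.TorsorDesc.cancel_of_effectiveEpi p' ?_
    have e1 : ((p' ≫ b) ≫ (Q ◁ incl)) ≫ j = (b' ≫ (Q ◁ incl)) ≫ j := by
      simp only [Category.assoc, ← hm, reassoc_of% hb, reassoc_of% hb', e]
    let w := hcart.lift _ _ e1
    have w1 : w ≫ (ChGrp.twist i a).act = (p' ≫ b) ≫ (Q ◁ incl) := hcart.lift_fst _ _ e1
    have w2 : w ≫ snd G (Q ⊗ X) = b' ≫ (Q ◁ incl) := hcart.lift_snd _ _ e1
    have htw : (ChGrp.twist i aXh).act ≫ (Q ◁ incl) = (G ◁ Q ◁ incl) ≫ (ChGrp.twist i a).act := by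
      apply AlgGrp.Action.hom_ext_lift₂
      intro T g pp
      rw [hpair pp, ← Category.assoc, ChGrp.lift_twist_act, lift_whiskerLeft_assoc, lift_whiskerLeft,
        lift_whiskerLeft, ChGrp.lift_twist_act]
      congr 1
      rw [Category.assoc, show aXh.act ≫ incl = _ from hincl, lift_whiskerLeft_assoc]
    have w3 : lift (w ≫ fst G _) b' ≫ (ChGrp.twist i aXh).act = p' ≫ b := by
      rw [← cancel_mono (Q ◁ incl), Category.assoc, htw, lift_whiskerLeft_assoc, ← w2, ← hpair w, w1]
    rw [← hb, ← hb']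
    calc p' ≫ b ≫ j' = (lift (w ≫ fst G _) b' ≫ (ChGrp.twist i aXh).act) ≫ j' := by rw [w3, Category.assoc]
      _ = b' ≫ j' := by rw [Category.assoc, hcart'.w, lift_snd_assoc]⟩
  haveI := hmono
  -- fixed points of `j`
  have hfp : ∀ {T : Over S} (b : T ⟶ Q ⊗ X), lift (toUnit T ≫ h ≫ i) (b ≫ j) ≫ aY.act = b ≫ j →
      ∃ z : T ⟶ Xh, z ≫ incl = b ≫ snd Q X := by
    intro T b e
    refine (hXh T _).2 ?_
    rw [hpair b, hfix] at e
    let w := hcart.lift _ _ e
    have w1 : w ≫ (ChGrp.twist i a).act = _ := hcart.lift_fst _ _ e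
    have w2 : w ≫ snd G (Q ⊗ X) = _ := hcart.lift_snd _ _ e
    rw [hpair w, w2, ChGrp.lift_twist_act] at w1
    have h1 := congrArg (· ≫ fst Q X) w1
    have h2 := congrArg (· ≫ snd Q X) w1
    simp only [lift_fst, lift_snd, mul_eq_left, inv_eq_one] at h1 h2
    have hg : w ≫ fst G (Q ⊗ X) = 1 := by
      rw [← cancel_mono i, h1, MonObj.one_comp]
    rw [hg, AlgGrp.Action.lift_one_act] at h2
    exact h2.symm
  have hfac : ∀ (T : Over S) (y : T ⟶ Y),
      (∃ y' : T ⟶ Y', y' ≫ m = y) ↔ lift (toUnit T ≫ h ≫ i) y ≫ aY.act = y := by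
    intro T y
    constructor
    · rintro ⟨y', rfl⟩
      obtain ⟨P, p, b, hp, hb⟩ := hlifts j' hloc' y'
      haveI := hp
      refine GrothLib.TorsorDesc.cancel_of_effectiveEpi p ?_
      rw [comp_lift_assoc, ← Category.assoc p (toUnit T), toUnit_unique (p ≫ toUnit T) (toUnit P),
        ← Category.assoc p y', ← hb, hpair b, Category.assoc, hjm, hfix,
        (hXh P _).1 ⟨b ≫ snd Q Xh, rfl⟩]
    · intro e
      obtain ⟨P, p, b, hp, hb⟩ := hlifts j hloc y
      haveI := hp
      obtain ⟨z, hz⟩ := hfp b (by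
        have e' := congrArg (p ≫ ·) e
        simp only [comp_lift_assoc] at e'
        rwa [← Category.assoc p (toUnit T), toUnit_unique (p ≫ toUnit T) (toUnit P), ← hb] at e')
      have hψ : (lift (b ≫ fst Q X) z ≫ j') ≫ m = p ≫ y := by
        rw [Category.assoc, hjm, hz, ← hpair b, hb]
      obtain ⟨y', hy', -⟩ := GrothLib.TorsorDesc.existsUnique_desc p (lift (b ≫ fst Q X) z ≫ j') (fun R u v huv => by
        rw [← cancel_mono m, Category.assoc u, hψ, Category.assoc v, hψ, reassoc_of% huv])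
      refine ⟨y', GrothLib.TorsorDesc.cancel_of_effectiveEpi p ?_⟩
      rw [← Category.assoc, hy', hψ]
  refine ⟨hmono, hfac, fun hincl' => ?_⟩
  have hsq : IsPullback (Q ◁ incl) j' j m := by
    have hex : ∀ (s : Limits.PullbackCone j m), ∃ l : s.pt ⟶ Q ⊗ Xh, l ≫ (Q ◁ incl) = s.fst ∧ l ≫ j' = s.snd := by
      intro s
      obtain ⟨z, hz⟩ := hfp s.fst ((hfac _ _).1 ⟨s.snd, s.condition.symm⟩)
      refine ⟨lift (s.fst ≫ fst Q X) z, ?_, ?_⟩
      · rw [lift_whiskerLeft, hz, ← hpair s.fst]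
      · rw [← cancel_mono m, Category.assoc, hjm, hz, ← hpair s.fst, s.condition]
    choose l hl₁ hl₂ using hex
    exact IsPullback.mk ⟨hm.symm⟩ ⟨Limits.PullbackCone.IsLimit.mk _ l hl₁ hl₂ fun s u h₁ h₂ => by
      rw [← cancel_mono (Q ◁ incl), h₁, hl₁]⟩
  haveI := hincl'
  have hbc : IsPullback (snd Q Xh) (Q ◁ incl) incl (snd Q X) := by
    refine IsPullback.mk ⟨(whiskerLeft_snd Q incl).symm⟩ ⟨Limits.PullbackCone.IsLimit.mk _ (fun s =>
      lift (s.snd ≫ fst Q X) s.fst) (fun s => lift_snd _ _) (fun s => ?_) fun s u h₁ h₂ => ?_⟩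
    · apply CartesianMonoidalCategory.hom_ext
      · rw [Category.assoc, whiskerLeft_fst, lift_fst]
      · rw [Category.assoc, whiskerLeft_snd, lift_snd_assoc, s.condition]
    · apply CartesianMonoidalCategory.hom_ext
      · rw [lift_fst, ← h₂, Category.assoc, whiskerLeft_fst]
      · rw [lift_snd, h₁]
  exact GrothLib.LocalSecDesc13.of_localSections @IsClosedImmersion
    (sq := (hsq.map (Over.forget S)).flip)
    (GrothLib.TorsorDesc.isLocallyTrivialFor_mono Scheme.fppfPrecoverage_le_fpqcPrecoverage hloc)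
    (MorphismProperty.of_isPullback (P := @IsClosedImmersion) (hbc.map (Over.forget S)) hincl')


end Groth.Agent.S19099
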