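import Groth.Statements.S1910
-- import your own Groth.Agent.* helpers here
import Groth.Agent.Lib.PBDeg17.SpSub

set_option autoImplicit false
universe u
open CategoryTheory AlgebraicGeometry
open CategoryTheory.Limits
open Cyc

namespace Groth.Agent.S1910

/-- Let W → X be a closed immersion with W flat over R and dim W_η ≤ r. Then dim W_s ≤ r and sp([W_η]_r)
= [W_s]_r. Here R is a discrete valuation ring, a : X → Spec R is locally of finite type, X_η and
X_s are the fibres over the generic and closed points (Mathlib's Scheme.Hom.fiber) with their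
dimension functions δη, δs (transcendence degree of residue fields), r-cycles on X_η are cycles
supported at points with δη = r, and sp is the specialization map Z_r(X_η) → Z_r(X_s) on coefficient
functions (Cyc.spFun). -/
theorem result (R : Type u) [CommRing R] [IsDomain R] [IsDiscreteValuationRing R] (X : Scheme.{u}) (a : X ⟶ Spec (CommRingCat.of R)) [LocallyOfFiniteType a] (δη : ↥(a.fiber (genericPoint ↥(Spec (CommRingCat.of R)))) → ℤ) (δs : ↥(a.fiber (IsLocalRing.closedPoint R)) → ℤ) (hδη : Cyc.DeltaCompat (a.fiberToSpecResidueField (genericPoint ↥(Spec (CommRingCat.of R)))) δη (fun _ => 0)) (hδs : Cyc.DeltaCompat (a.fiberToSpecResidueField (IsLocalRing.closedPoint R)) δs (fun _ => 0)) (r : ℤ) (W : Scheme.{u}) (ι : W ⟶ X) [IsClosedImmersion ι] [Flat (ι ≫ a)] (hdim : ∀ ζ : ↥(a.fiber (genericPoint ↥(Spec (CommRingCat.of R)))), a.fiberι (genericPoint ↥(Spec (CommRingCat.of R))) ζ ∈ Set.range ⇑ι → δη ζ ≤ r) : (∀ x : ↥(a.fiber (IsLocalRing.closedPoint R)), a.fiberι (IsLocalRing.closedPoint R) x ∈ Set.range ⇑ι → δs x ≤ r)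 ∧ Cyc.spFun a (genericPoint ↥(Spec (CommRingCat.of R))) (IsLocalRing.closedPoint R) δη δs r (Cyc.subschemeFun δη r (pullback.snd ι (a.fiberι (genericPoint ↥(Spec (CommRingCat.of R)))))) = Cyc.subschemeFun δs r (pullback.snd ι (a.fiberι (IsLocalRing.closedPoint R))) := by
  exact GrothLib.SpSheaf17.spFun_subscheme a δη δs hδη hδs r ι hdim

end Groth.Agent.S1910
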