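import Groth.Agent.Lib.RelDiv.Cancel
import Groth.Statements.S19105
-- import your own Groth.Agent.* helpers here

set_option autoImplicit false
open CategoryTheory CategoryTheory.Limits AlgebraicGeometry
universe u
open HilbD

namespace Groth.Agent.S19105

/-- Let f : X ⟶ S be smooth of relative dimension 1, μ a non-empty Young diagram and n a reversed plane
partition of shape μ (a labelling of the cells by naturals, non-decreasing along rows and columns).
Call relative divisor of degree d a closed subscheme of X, given by a quasi-coherent ideal sheaf,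
whose projection to S is finite locally free of degree d; sums of divisors are products of ideal
sheaves. Let edge data of type n be given: a relative divisor Z_00 of degree n_00, for each cell
(i,j) with i ≥ 1 a relative divisor X_ij of degree n_ij − n_{i−1,j} and for each cell with j ≥ 1 a
relative divisor Y_ij of degree n_ij − n_{i,j−1}, such that for every cell with i, j ≥ 1 the divisor
Y_ij + X_{i,j−1} is contained in X_ij + Y_{i−1,j} (containment of ideal sheaves the other way). Then
there is exactly one flag (Z_c)_{c ∈ μ} of relative divisors of degrees n_c, growing along rows and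
columns, with corner Z_00 and with Z_ij = Z_{i−1,j} + X_ij and Z_ij = Z_{i,j−1} + Y_ij throughout.
(The published statement is for X = C × T ⟶ T with C a smooth irreducible quasi-projective complex
curve and T a complex scheme, and identifies, through T-points, the scheme of such flags with the
zero scheme of a section of a vector bundle on the product of symmetric powers that carries the edge
data; the vanishing of the pulled-back section at a T-point amounts to the stated containment of
divisors. Here f is any smooth morphism of relative dimension 1, and neither the bundle nor its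
section is formed.) -/
theorem result {X S : Scheme.{u}} (f : X ⟶ S) [SmoothOfRelativeDimension 1 f]
    (μ : YoungDiagram) (h00 : ((0, 0) : ℕ × ℕ) ∈ μ) (n : ℕ × ℕ → ℕ) (hn : HilbD.IsRevPlanePartition μ n)
    (E : HilbD.DnEdgeData μ X) (hE : E.IsOfType f n)
    (hcomm : ∀ (c : ℕ × ℕ) (hc : c ∈ μ) (hi : 1 ≤ c.1) (hj : 1 ≤ c.2), E.gammaOne c hc hi hj ≤ E.gammaTwo c hc hi hj) :
    ∃! Z : ∀ c : ℕ × ℕ, c ∈ μ → X.IdealSheafData, HilbD.IsDnFlag f μ n Z ∧ E.IsEdgesOf h00 Z := by
  obtain ⟨hb, hv, hh⟩ := hE
  have hdown : ∀ {c c' : ℕ × ℕ}, c' ∈ μ → c ≤ c' → c ∈ μ := fun h hle => μ.isLowerSet hle h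
  classical
  let v : ℕ → ℕ → X.IdealSheafData := fun i j => if h : ((i + 1, j) : ℕ × ℕ) ∈ μ then E.vert (i + 1, j) h (by simp) else ⊤
  let w : ℕ → ℕ → X.IdealSheafData := fun i j => if h : ((i, j + 1) : ℕ × ℕ) ∈ μ then E.horiz (i, j + 1) h (by simp) else ⊤
  let r : ℕ → X.IdealSheafData := fun j => Nat.rec E.base (fun j ih => ih * w 0 j) j
  let G : ℕ → ℕ → X.IdealSheafData := fun i j => Nat.rec (r j) (fun i ih => ih * v i j) i
  have vv : ∀ i j (h : ((i + 1, j) : ℕ × ℕ) ∈ μ), v i j = E.vert (i + 1, j) h (by simp) := fun i j h => dif_pos h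
  have ww : ∀ i j (h : ((i, j + 1) : ℕ × ℕ) ∈ μ), w i j = E.horiz (i, j + 1) h (by simp) := fun i j h => dif_pos h
  have deg : ∀ i j, ((i, j) : ℕ × ℕ) ∈ μ → IsDivOfDeg f (n (i, j)) (G i j) := by
    intro i
    induction i with
    | zero =>
      intro j
      induction j with
      | zero => exact fun _ => hb
      | succ j ih =>
        intro h
        have hm := hdown h (show ((0, j) : ℕ × ℕ) ≤ (0, j + 1) from ⟨le_rfl, Nat.le_succ j⟩)
        have hle : n (0, j) ≤ n (0, j + 1) := hn hm h ⟨le_rfl, Nat.le_succ j⟩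
        rw [← Nat.add_sub_cancel' hle]
        show IsDivOfDeg f _ (G 0 j * w 0 j)
        rw [ww 0 j h]
        exact GrothLib.RelDiv.isFinLocFreeOfDeg_mul f (ih hm) (hh (0, j + 1) h (by simp))
    | succ i ih =>
      intro j h
      have hm := hdown h (show ((i, j) : ℕ × ℕ) ≤ (i + 1, j) from ⟨Nat.le_succ i, le_rfl⟩)
      have hle : n (i, j) ≤ n (i + 1, j) := hn hm h ⟨Nat.le_succ i, le_rfl⟩
      rw [← Nat.add_sub_cancel' hle]
      show IsDivOfDeg f _ (G i j * v i j)
      rw [vv i j h]
      exact GrothLib.RelDiv.isFinLocFreeOfDeg_mul f (ih j hm) (hv (i + 1, j) h (by simp))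
  have hor : ∀ i j, ((i, j + 1) : ℕ × ℕ) ∈ μ → G i (j + 1) = G i j * w i j := by
    intro i
    induction i with
    | zero => exact fun j _ => rfl
    | succ i ih =>
      intro j h
      have hup : ((i, j + 1) : ℕ × ℕ) ∈ μ := hdown h ⟨Nat.le_succ i, le_rfl⟩
      have hl : ((i + 1, j) : ℕ × ℕ) ∈ μ := hdown h ⟨le_rfl, Nat.le_succ j⟩
      have hd : ((i, j) : ℕ × ℕ) ∈ μ := hdown hup ⟨le_rfl, Nat.le_succ j⟩
      have e1 := hn hd hup ⟨le_rfl, Nat.le_succ j⟩
      have e2 := hn hup h ⟨Nat.le_succ i, le_rfl⟩
      have e3 := hn hd hl ⟨Nat.le_succ i, le_rfl⟩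
      have e4 := hn hl h ⟨le_rfl, Nat.le_succ j⟩
      have d1 : IsDivOfDeg f (n (i + 1, j + 1) - n (i, j)) (E.gammaOne (i + 1, j + 1) h (by simp) (by simp)) := by
        rw [show n (i + 1, j + 1) - n (i, j) = (n (i + 1, j + 1) - n (i, j + 1)) + (n (i, j + 1) - n (i, j)) by omega]
        exact GrothLib.RelDiv.isFinLocFreeOfDeg_mul f (hv (i + 1, j + 1) h (by simp)) (hh (i, j + 1) hup (by simp))
      have d2 : IsDivOfDeg f (n (i + 1, j + 1) - n (i, j)) (E.gammaTwo (i + 1, j + 1) h (by simp) (by simp)) := by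
        rw [show n (i + 1, j + 1) - n (i, j) = (n (i + 1, j + 1) - n (i + 1, j)) + (n (i + 1, j) - n (i, j)) by omega]
        exact GrothLib.RelDiv.isFinLocFreeOfDeg_mul f (hh (i + 1, j + 1) h (by simp)) (hv (i + 1, j) hl (by simp))
      have hg := GrothLib.RelDiv.eq_of_le_of_deg_eq f (hcomm (i + 1, j + 1) h (by simp) (by simp)) d2 d1
      show G i (j + 1) * v i (j + 1) = G i j * v i j * w (i + 1) j
      rw [ih j hup, vv i (j + 1) h, vv i j hl, ww (i + 1) j h, ww i j hup, mul_assoc, mul_assoc]
      exact congrArg (G i j * ·) ((mul_comm _ _).trans (hg.trans (mul_comm _ _)))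
  have mono : ∀ i j a b, ((i + a, j + b) : ℕ × ℕ) ∈ μ → G (i + a) (j + b) ≤ G i j := by
    intro i j a
    induction a with
    | zero =>
      intro b
      induction b with
      | zero => exact fun _ => le_rfl
      | succ b ih =>
        intro h
        show G i (j + b + 1) ≤ _
        rw [hor i (j + b) h]
        exact (GrothLib.RelDiv.mul_le_self _ _).trans (ih (hdown h ⟨le_rfl, Nat.le_succ _⟩))
    | succ a ih =>
      intro b h
      exact (GrothLib.RelDiv.mul_le_self _ _).trans (ih b (hdown h ⟨Nat.le_succ _, le_rfl⟩))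
  refine ⟨fun c _ => G c.1 c.2, ⟨⟨fun c hc => deg c.1 c.2 hc, fun c c' hc hc' hle => ?_⟩, rfl, ?_, ?_⟩, ?_⟩
  · obtain ⟨a, ha⟩ := Nat.exists_eq_add_of_le hle.1
    obtain ⟨b, hb'⟩ := Nat.exists_eq_add_of_le hle.2
    show G c'.1 c'.2 ≤ G c.1 c.2
    rw [ha, hb']
    exact mono _ _ a b (by rw [← ha, ← hb']; exact hc')
  · rintro ⟨_ | i, j⟩ hc hi
    · simp at hi
    · show G i j * v i j = _
      rw [vv i j hc]
      rfl
  · rintro ⟨i, _ | j⟩ hc hj
    · simp at hj
    · show G i (j + 1) = _
      rw [hor i j hc, ww i j hc]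
      rfl
  · rintro Z ⟨-, h0, hZv, hZh⟩
    have : ∀ i j (h : ((i, j) : ℕ × ℕ) ∈ μ), Z (i, j) h = G i j := by
      intro i
      induction i with
      | zero =>
        intro j
        induction j with
        | zero => exact fun h => h0
        | succ j ih =>
          intro h
          show _ = G 0 j * w 0 j
          rw [hZh (0, j + 1) h (by simp), ww 0 j h, ← ih (hdown h ⟨le_rfl, Nat.le_succ j⟩)]
          rfl
      | succ i ih =>
        intro j h
        show _ = G i j * v i j
        rw [hZv (i + 1, j) h (by simp), vv i j h, ← ih j (hdown h ⟨Nat.le_succ i, le_rfl⟩)]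
        rfl
    funext c hc
    exact this c.1 c.2 hc

end Groth.Agent.S19105
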