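import Mathlib.Combinatorics.Young.YoungDiagram
import Groth.Statements.S19106
-- import your own Groth.Agent.* helpers here

set_option autoImplicit false
open HilbD

namespace Groth.Agent.S19106

/-- Let μ be a non-empty Young diagram, V the number of its cells, E the number of unordered pairs of
cells sharing a side (a cell together with the cell immediately below it, or immediately to its
right, both in μ) and Q the number of 2 × 2 blocks of cells of μ (cells c such that the cell
diagonally below-right of c is in μ, the other two corners being in μ automatically). Then V − E + Q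
− 1 = 0, stated as V + Q = E + 1 in the naturals. (The empty diagram, for which the count reads 0 −
0 + 0 − 1, is excluded.) -/
theorem result (μ : YoungDiagram) (hμ : μ ≠ ⊥) :
    μ.cells.card + (μ.cells.filter (fun c => (c.1 + 1, c.2 + 1) ∈ μ)).card =
      (μ.cells.filter (fun c => (c.1 + 1, c.2) ∈ μ)).card + (μ.cells.filter (fun c => (c.1, c.2 + 1) ∈ μ)).card + 1 := by
  classical
  have h00 : (0, 0) ∈ μ := by
    obtain ⟨c, hc⟩ : μ.cells.Nonempty := by
      rw [Finset.nonempty_iff_ne_empty]
      intro h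
      exact hμ (YoungDiagram.ext (by simpa using h))
    exact μ.up_left_mem (Nat.zero_le _) (Nat.zero_le _) ((show (c.1, c.2) ∈ μ from hc))
  have shift : ∀ (P : ℕ × ℕ → Prop) [DecidablePred P] (a b : ℕ),
      (∀ c : ℕ × ℕ, P c → a ≤ c.1 ∧ b ≤ c.2) →
      (μ.cells.filter (fun c => (c.1 + a, c.2 + b) ∈ μ ∧ P (c.1 + a, c.2 + b))).card = (μ.cells.filter P).card := by
    intro P _ a b hP
    refine Finset.card_bij (fun c _ => (c.1 + a, c.2 + b)) (fun c hc => ?_) (fun c _ d _ h => ?_) (fun c hc => ?_)
    · rw [Finset.mem_filter] at hc ⊢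
      exact ⟨hc.2.1, hc.2.2⟩
    · simp only [Prod.mk.injEq, add_left_inj] at h
      exact Prod.ext h.1 h.2
    · rw [Finset.mem_filter] at hc
      obtain ⟨ha, hb⟩ := hP c hc.2
      refine ⟨(c.1 - a, c.2 - b), ?_, by simp [Nat.sub_add_cancel ha, Nat.sub_add_cancel hb]⟩
      rw [Finset.mem_filter]
      simp only [Nat.sub_add_cancel ha, Nat.sub_add_cancel hb]
      exact ⟨μ.up_left_mem (Nat.sub_le _ _) (Nat.sub_le _ _) hc.1, hc.1, hc.2⟩
  have hQ := shift (fun c => 1 ≤ c.1 ∧ 1 ≤ c.2) 1 1 (fun c h => h)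
  have hD := shift (fun c => 1 ≤ c.1) 1 0 (fun c h => ⟨h, Nat.zero_le _⟩)
  have hR := shift (fun c => 1 ≤ c.2) 0 1 (fun c h => ⟨Nat.zero_le _, h⟩)
  simp only [Nat.le_add_left, and_true, and_self, add_zero] at hQ hD hR
  rw [hQ, hD, hR]
  have h1 := Finset.card_union_add_card_inter (μ.cells.filter fun c => 1 ≤ c.1) (μ.cells.filter fun c => 1 ≤ c.2)
  rw [← Finset.filter_or, ← Finset.filter_and] at h1
  have h2 : μ.cells = insert (0, 0) (μ.cells.filter fun c => 1 ≤ c.1 ∨ 1 ≤ c.2) := by
    ext ⟨i, j⟩
    simp only [Finset.mem_insert, Finset.mem_filter, Prod.mk.injEq]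
    constructor
    · intro h
      by_cases hh : 1 ≤ i ∨ 1 ≤ j
      · exact Or.inr ⟨h, hh⟩
      · exact Or.inl ⟨by omega, by omega⟩
    · rintro (⟨rfl, rfl⟩ | h)
      · exact h00
      · exact h.1
  have h3 := congrArg Finset.card h2
  rw [Finset.card_insert_of_notMem (by simp)] at h3
  omega

end Groth.Agent.S19106
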