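import Groth.Statements.S19116
import Groth.Agent.Lib.AlgSt.QCMor
import Groth.Agent.Lib.AlgSp.PointsUniv
-- import your own Groth.Agent.* helpers here

set_option autoImplicit false
universe u
open CategoryTheory AlgebraicGeometry
open StMod

namespace Groth.Agent.S19116

open CategoryTheory CategoryTheory.Limits AlgebraicGeometry Opposite in
/-- An affine morphism of spaces is quasi-compact. -/
theorem isQuasiCompactMor_of_isAffineMor {S : Scheme.{u}} {F G : AlgSp.Sp S} {f : F ⟶ G} (hf : AlgSp.IsAffineMor f) :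
    AlgSp.IsQuasiCompactMor f :=
  GrothLib.AlgSp.isQuasiCompactMor_of_affine fun T hT g P fst snd sq => by
    obtain ⟨W, i, fst', sq', hW⟩ := hf hT g
    haveI := hW
    have := GrothLib.AlgSp.isQuasiCompactSp_yon W
    exact GrothLib.AlgSp.isQuasiCompactSp_of_iso this (sq'.isoIsPullback _ _ sq)

open CategoryTheory CategoryTheory.Limits AlgebraicGeometry Opposite AlgSt in
/-- Affine base changes give cohomological affineness. -/
theorem isCohAffine_of_rep {S : Scheme.{u}} {𝒳 : AlgSt.Cat S} {M : AlgSp.Sp S} (π : 𝒳 ⥤ᵇ AlgSt.ofSp M)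
    (hπ : AlgSt.RepByAlgSpWith AlgSp.IsAffineMor π) : StMod.IsCohAffine π := by
  intro F G u hu E hE s
  let U := E.obj.left
  let y : FibCat.overCat U ⥤ᵇ AlgSt.ofSp M := BasedFunctor.comp (AlgSt.ofOverCat U) (AlgSt.ofSpMap E.obj.hom)
  obtain ⟨F₀, e, he, haff⟩ := hπ U y
  obtain ⟨W, i, fst, sq, hW⟩ := haff (Z := U) hE (𝟙 _)
  haveI : IsIso fst := sq.isIso_fst_of_isIso
  let a₀ : (AlgSt.ofSp F₀.obj).obj := ⟨W, fst.hom.app (op W) ⟨𝟙 W⟩⟩
  have hbij : ∀ T : Over S, Function.Bijective (fst.hom.app (op T)) := fun T => by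
    haveI : IsIso fst.hom := inferInstanceAs (IsIso ((sheafToPresheaf _ _).map fst))
    exact (ConcreteCategory.isIso_iff_bijective _).1 inferInstance
  have hnat : ∀ (T : Over S) (l : T ⟶ W),
      F₀.obj.obj.map l.op (fst.hom.app (op W) ⟨𝟙 W⟩) = fst.hom.app (op T) ⟨l⟩ := fun T l => by
    rw [← NatTrans.naturality_apply fst.hom l.op]
    congr 1
  have hex : ∀ a : (AlgSt.ofSp F₀.obj).obj, Nonempty (a ⟶ a₀) := fun a => by
    obtain ⟨⟨l⟩, hl⟩ := (hbij a.base).2 a.sec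
    exact ⟨⟨l, (hnat _ l).trans hl⟩⟩
  have huniq : ∀ (a : (AlgSt.ofSp F₀.obj).obj) (l l' : a ⟶ a₀), l = l' := fun a l l' =>
    Stk.EltObj.hom_ext (congrArg ULift.down ((hbij a.base).1
      (((hnat _ l.hom).symm.trans l.map_sec).trans ((hnat _ l'.hom).symm.trans l'.map_sec).symm)))
  let z := e.obj a₀
  have := GrothLib.FibCat.IsEquivOver.full he
  have zex : ∀ x : (FibCat.fp y π).obj, Nonempty (x ⟶ z) := fun x => by
    obtain ⟨a, ea, -⟩ := GrothLib.FibCat.IsEquivOver.essSurj he x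
    obtain ⟨k⟩ := hex a
    exact ⟨ea.inv ≫ e.map k⟩
  have zuniq : ∀ (x : (FibCat.fp y π).obj) (f g : x ⟶ z), f = g := fun x f g => by
    obtain ⟨a, ea, -⟩ := GrothLib.FibCat.IsEquivOver.essSurj he x
    obtain ⟨f', hf'⟩ := e.toFunctor.map_surjective (ea.hom ≫ f)
    obtain ⟨g', hg'⟩ := e.toFunctor.map_surjective (ea.hom ≫ g)
    exact (cancel_epi ea.hom).1 (hf'.symm.trans ((congrArg e.map (huniq a f' g')).trans hg'))
  let ξ₀ := z.obj.snd
  have hbase : 𝒳.p.obj ξ₀ = W :=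
    ((FibCat.fpSnd y π).w_obj z).trans (e.w_obj a₀)
  haveI : IsAffine (StMod.sch 𝒳 ξ₀) := by
    show IsAffine (𝒳.p.obj ξ₀).left
    rw [hbase]
    exact hW
  have hmc : ∀ {A B C : Over S} (f : A ⟶ B) (g : B ⟶ C) (v : M.obj.obj (op C)),
      M.obj.map f.op (M.obj.map g.op v) = M.obj.map (f ≫ g).op v := fun f g v => by simp
  have hid : ∀ {A : Over S} (v : M.obj.obj (op A)), M.obj.map (𝟙 A).op v = v := fun v => by simp
  let c : y.obj (Over.mk (𝟙 U)) ⟶ StMod.etaOf E := ⟨𝟙 U, (hid (StMod.etaOf E).sec).trans rfl⟩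
  let α₀ : π.obj ξ₀ ⟶ StMod.etaOf E :=
    z.obj.iso.inv ≫ y.map (Over.homMk z.obj.fst.hom (Category.comp_id _) : z.obj.fst ⟶ Over.mk (𝟙 U)) ≫ c
  let xiso : ∀ (ξ : 𝒳.obj) (α : π.obj ξ ⟶ StMod.etaOf E),
      y.obj (Over.mk (StMod.baseOver π ξ α)) ≅ π.obj ξ := fun ξ α =>
    have hs : M.obj.map (eqToHom (π.w_obj ξ).symm).op (π.obj ξ).sec =
        (y.obj (Over.mk (StMod.baseOver π ξ α))).sec := by
      refine (congrArg _ α.map_sec.symm).trans ((hmc _ _ _).trans ?_)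
      refine (NatTrans.naturality_apply E.obj.hom.hom (StMod.baseOver π ξ α).op ⟨𝟙 U⟩).symm.trans ?_
      exact congrArg (E.obj.hom.hom.app _) (ULift.ext _ _ (Category.comp_id (show 𝒳.p.obj ξ ⟶ U from StMod.baseOver π ξ α) :))
    { hom := ⟨eqToHom (π.w_obj ξ).symm, hs⟩
      inv := ⟨eqToHom (π.w_obj ξ), (congrArg _ hs.symm).trans ((hmc _ _ _).trans ((congrArg (fun k : (π.obj ξ).base ⟶ (π.obj ξ).base => M.obj.map k.op (π.obj ξ).sec) (eqToHom_trans _ _)).trans (hid _)))⟩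
      hom_inv_id := Stk.EltObj.hom_ext ((eqToHom_trans (π.w_obj ξ).symm (π.w_obj ξ)).trans rfl)
      inv_hom_id := Stk.EltObj.hom_ext ((eqToHom_trans (π.w_obj ξ) (π.w_obj ξ).symm).trans rfl) }
  let x : ∀ (ξ : 𝒳.obj), (π.obj ξ ⟶ StMod.etaOf E) → (FibCat.fp y π).obj := fun ξ α =>
    ⟨{ fst := Over.mk (StMod.baseOver π ξ α), snd := ξ, iso := xiso ξ α },
      IsHomLift.of_fac' _ _ _ rfl (π.w_obj ξ) (by simp [xiso])⟩
  let k := fun x => Classical.choice (zex x)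
  let φ : ∀ (ξ : 𝒳.obj) (α : π.obj ξ ⟶ StMod.etaOf E), ξ ⟶ ξ₀ := fun ξ α => (k (x ξ α)).hom.snd
  have hφ : ∀ ξ α, π.map (φ ξ α) ≫ α₀ = α := fun ξ α => by
    have w := (k (x ξ α)).hom.w
    have h1 : π.map (φ ξ α) ≫ z.obj.iso.inv = (xiso ξ α).inv ≫ y.map (k (x ξ α)).hom.fst := by
      rw [Iso.comp_inv_eq, Category.assoc, Iso.eq_inv_comp]
      exact w.symm
    have h2 : (k (x ξ α)).hom.fst ≫ (Over.homMk z.obj.fst.hom (Category.comp_id _) : z.obj.fst ⟶ Over.mk (𝟙 U)) =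
        Over.homMk (StMod.baseOver π ξ α) (Category.comp_id _) :=
      Over.OverMorphism.ext (Over.w (k (x ξ α)).hom.fst)
    show π.map (φ ξ α) ≫ z.obj.iso.inv ≫ _ = α
    rw [reassoc_of% h1, ← Functor.map_comp_assoc, h2]
    apply Stk.EltObj.hom_ext
    show eqToHom (π.w_obj ξ) ≫ StMod.baseOver π ξ α ≫ 𝟙 U = α.hom
    simp [StMod.baseOver]
    exact Category.comp_id α.hom
  have hcomp : ∀ {ξ' ξ : 𝒳.obj} (ψ : ξ' ⟶ ξ) (α : π.obj ξ ⟶ StMod.etaOf E),
      φ ξ' (π.map ψ ≫ α) = ψ ≫ φ ξ α := fun {ξ' ξ} ψ α => by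
    let m : x ξ' (π.map ψ ≫ α) ⟶ x ξ α := ObjectProperty.homMk
      { fst := Over.homMk (𝒳.p.map ψ) (StMod.map_comp_baseOver π ψ α)
        snd := ψ
        w := by
          apply Stk.EltObj.hom_ext
          have e : (π.map ψ).hom = eqToHom (π.w_obj ξ') ≫ 𝒳.p.map ψ ≫ eqToHom (π.w_obj ξ).symm :=
            Functor.congr_hom π.w ψ
          show 𝒳.p.map ψ ≫ eqToHom (π.w_obj ξ).symm = eqToHom (π.w_obj ξ').symm ≫ (π.map ψ).hom
          rw [e]
          exact (eqToHom_comp_iff _ _ _).1 rfl }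
    exact congrArg (fun f => f.hom.snd) (zuniq _ (k _) (m ≫ k _))
  obtain ⟨t, ht⟩ := hu ξ₀ inferInstance (s.1 ξ₀ α₀)
  refine ⟨⟨fun ξ α => F.obj.mapTop (φ ξ α) t, fun ξ' ξ ψ α => ?_⟩, StMod.Mod.RelSect.ext _ _ _ fun ξ α => ?_⟩
  · show F.obj.mapTop ψ (F.obj.mapTop (φ ξ α) t) = F.obj.mapTop (φ ξ' (π.map ψ ≫ α)) t
    rw [hcomp ψ α, StMod.Mod.mapTop_comp]
  · show (u.hom.app ξ).app ⊤ (F.obj.mapTop (φ ξ α) t) = s.1 ξ α
    rw [← StMod.Mod.mapTop_app, ht, s.2 (φ ξ α) α₀, hφ]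

/-- In the case of a morphism to an algebraic space, let `S` be a quasi-separated scheme, `𝒳` an
algebraic stack over `(Sch/S)` for the fppf topology, `M` an algebraic space over `S` that is
quasi-separated over `S`, and `π : 𝒳 ⟶ M` a morphism that is representable by algebraic spaces and
affine. Then `π` is cohomologically affine and quasi-compact: pushforward along `π` takes
surjections of quasi-coherent modules to maps surjective on sections over every affine scheme etale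
over `M`. (The printed item is for affine morphisms between arbitrary algebraic stacks; the target
is an algebraic space here. Standing conventions of the source: all algebraic spaces and morphisms
are quasi-separated.) -/
theorem result
    (S : Scheme.{u}) [QuasiSeparatedSpace S]
    (𝒳 : AlgSt.Cat S) (h𝒳 : AlgSt.IsAlgStack Scheme.fppfPrecoverage 𝒳)
    (M : AlgSp.Space S) (hM : AlgSp.IsQuasiSeparatedSp M.obj) (π : 𝒳 ⥤ᵇ AlgSt.ofSp M.obj)
    (hπ : AlgSt.RepByAlgSpWith AlgSp.IsAffineMor π) :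
    StMod.IsCohAffine π ∧ AlgSt.IsQuasiCompactMor Scheme.fppfPrecoverage π := by
  refine ⟨isCohAffine_of_rep π hπ, ?_⟩
  exact GrothLib.AlgSt.isQuasiCompactMor_of_repByAlgSpWith h𝒳
    (GrothLib.AlgSt.isDM_of_repByAlgSp (GrothLib.AlgSt.repByAlgSp_ofSp M.property)).1 π
    (GrothLib.AlgSt.repByAlgSpWith_mono (fun _ _ a _ _ h => isQuasiCompactMor_of_isAffineMor h) hπ)

end Groth.Agent.S19116
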