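import Groth.Statements.S1912
-- import your own Groth.Agent.* helpers here
import Groth.Agent.Lib.PBDeg17.SpPush

set_option autoImplicit false
universe u
open CategoryTheory AlgebraicGeometry
open CategoryTheory.Limits
open Cyc

namespace Groth.Agent.S1912

/-- Over a discrete valuation ring R, let f : X → Y be proper with Y (hence X) locally of finite type
over R, and let f_η : X_η → Y_η, f_s : X_s → Y_s be the induced morphisms of generic and closed
fibres. Then for every r-cycle α on X_η, sp_Y(f_{η,*} α) = f_{s,*}(sp_X α) coefficientwise (for any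
cycle on X_s with the coefficients of sp_X α). Here sp is Cyc.spFun for X → Spec R and for Y → Spec
R, fibres are Mathlib's Scheme.Hom.fiber with dimension functions given by transcendence degree, and
the maps of fibres are the base changes of f. -/
theorem result (R : Type u) [CommRing R] [IsDomain R] [IsDiscreteValuationRing R] (X Y : Scheme.{u}) (b : Y ⟶ Spec (CommRingCat.of R)) [LocallyOfFiniteType b] (f : X ⟶ Y) [IsProper f] (δXη : ↥((f ≫ b).fiber (genericPoint ↥(Spec (CommRingCat.of R)))) → ℤ) (δXs : ↥((f ≫ b).fiber (IsLocalRing.closedPoint R)) → ℤ) (δYη : ↥(b.fiber (genericPoint ↥(Spec (CommRingCat.of R)))) → ℤ) (δYs : ↥(b.fiber (IsLocalRing.closedPoint R)) → ℤ) (hXη : Cyc.DeltaCompat ((f ≫ b).fiberToSpecResidueField (genericPoint ↥(Spec (CommRingCat.of R)))) δXη (fun _ => 0)) (hXs : Cyc.DeltaCompat ((f ≫ b).fiberToSpecResidueField (IsLocalRing.closedPoint R)) δXs (fun _ => 0)) (hYη : Cyc.DeltaCompat (b.fiberToSpecResidueField (genericPoint ↥(Spec (CommRingCat.of R)))) δYη (fun _ => 0)) (hYs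 : Cyc.DeltaCompat (b.fiberToSpecResidueField (IsLocalRing.closedPoint R)) δYs (fun _ => 0)) [QuasiCompact (pullback.map (f ≫ b) ((Spec (CommRingCat.of R)).fromSpecResidueField (genericPoint ↥(Spec (CommRingCat.of R)))) b ((Spec (CommRingCat.of R)).fromSpecResidueField (genericPoint ↥(Spec (CommRingCat.of R)))) f (𝟙 _) (𝟙 _) (Category.comp_id _) ((Category.comp_id _).trans (Category.id_comp _).symm))] [QuasiCompact (pullback.map (f ≫ b) ((Spec (CommRingCat.of R)).fromSpecResidueField (IsLocalRing.closedPoint R)) b ((Spec (CommRingCat.of R)).fromSpecResidueField (IsLocalRing.closedPoint R)) f (𝟙 _) (𝟙 _) (Category.comp_id _) ((Category.comp_id _).trans (Category.id_comp _).symm))] (r : ℤ) (α : AlgebraicCycle ((f ≫ b).fiber (genericPoint ↥(Spec (CommRingCat.of R)))) ℤ) (hα : α ∈ Cyc.Zk ((f ≫ b).fiber (genericPoint ↥(Spec (CommRingCat.of R)))) δXη r) (β : AlgebraicCycle ((f ≫ b).fiber (IsLocalRing.closedPoint R)) ℤ) (hβ : ⇑β = Cyc.spFun (f ≫ b) (genericPoint ↥(Spec (CommRingCat.of R))) (IsLocalRing.closedPoint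 R) δXη δXs r ⇑α) : Cyc.spFun b (genericPoint ↥(Spec (CommRingCat.of R))) (IsLocalRing.closedPoint R) δYη δYs r ⇑(AlgebraicCycle.map (pullback.map (f ≫ b) ((Spec (CommRingCat.of R)).fromSpecResidueField (genericPoint ↥(Spec (CommRingCat.of R)))) b ((Spec (CommRingCat.of R)).fromSpecResidueField (genericPoint ↥(Spec (CommRingCat.of R)))) f (𝟙 _) (𝟙 _) (Category.comp_id _) ((Category.comp_id _).trans (Category.id_comp _).symm)) δXη δYη α) = ⇑(AlgebraicCycle.map (pullback.map (f ≫ b) ((Spec (CommRingCat.of R)).fromSpecResidueField (IsLocalRing.closedPoint R)) b ((Spec (CommRingCat.of R)).fromSpecResidueField (IsLocalRing.closedPoint R)) f (𝟙 _) (𝟙 _) (Category.comp_id _) ((Category.comp_id _).trans (Category.id_comp _).symm)) δXs δYs β) := by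
  rename_i hq1 hq2
  haveI : IsNoetherianRing (CommRingCat.of R : Type u) := inferInstanceAs (IsNoetherianRing R)
  haveI : IsLocallyNoetherian Y := LocallyOfFiniteType.isLocallyNoetherian b
  haveI : IsLocallyNoetherian X := LocallyOfFiniteType.isLocallyNoetherian f
  exact @GrothLib.SpSheaf17.spFun_map R _ _ _ X Y b f _ _ _ _ _ hq1 (pullback.lift_fst _ _ _) _ hq2 (pullback.lift_fst _ _ _)
    δXη δXs δYη δYs hXη hXs hYη hYs r α hα β hβ

end Groth.Agent.S1912
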