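import Groth.Statements.S19130
import Groth.Agent.Lib.FlasqueEt18.Basic
import Groth.Agent.Lib.EtDer.NormalConst
import Groth.Agent.Lib.EtBasicB.SepClosedNormal
-- import your own Groth.Agent.* helpers here

set_option autoImplicit false
universe u
open CategoryTheory CategoryTheory.Limits AlgebraicGeometry Opposite
open EtCoh

namespace Groth.Agent.S19130

/-- Let p be a prime and Y an integral scheme which is normal (every local ring is integrally closed in
its fraction field) and whose function field is algebraically closed. Then the étale cohomology of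
the constant sheaf Z/p on Y is Z/p in degree 0 and vanishes in positive degrees: H^0(Y_et, Z/p) has
exactly p elements and H^i(Y_et, Z/p) = 0 for i > 0. Moreover, for every nonempty open subscheme j :
U → Y, the unit morphism from the constant sheaf Z/p on Y_et to j_* of its restriction to U is an
isomorphism. -/
theorem result
    (p : ℕ) [Fact p.Prime] (Y : Scheme.{u}) [IsIntegral Y]
    (hnorm : ∀ y : Y, IsIntegrallyClosed (Y.presheaf.stalk y)) [IsAlgClosed Y.functionField] :
    Nat.card (EtCoh.H Y (EtCoh.const Y (ZMod p)) 0) = p ∧
      (∀ i : ℕ, 0 < i → Subsingleton (EtCoh.H Y (EtCoh.const Y (ZMod p)) i)) ∧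
      ∀ U : Y.Opens, (U : Set Y).Nonempty →
        IsIso ((EtCoh.pullPushAdj U.ι).unit.app (EtCoh.const Y (ZMod p))) := by
  haveI : IsSepClosed Y.functionField := inferInstance
  let M : AddCommGrpCat.{u + 1} := AddCommGrpCat.of (ULift.{u + 1} (ZMod p))
  refine ⟨?_, fun i hi => ?_, fun U hU => ?_⟩
  · have e : EtCoh.H Y (EtCoh.const Y (ZMod p)) 0 ≃ ULift.{u + 1} (ZMod p) :=
      (CategoryTheory.Abelian.Ext.addEquiv₀.toEquiv).trans
        ((Equiv.ofBijective _ (GrothLib.EtColim.bijective_evOne (EtCoh.const Y (ZMod p)))).trans
          { toFun := fun s => GrothLib.EtDer.val M (EtCoh.top Y) s (genericPoint Y)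
            invFun := fun c => GrothLib.EtDer.cst M (EtCoh.top Y) c
            left_inv := fun s => GrothLib.EtDer.ext_val M _ _ _ fun v => by
              rw [GrothLib.EtDer.val_cst]
              exact (GrothLib.EtDer.apply_eq_of_specializes (GrothLib.EtDer.isLocallyConstant_val M _ s)
                (genericPoint_specializes (α := Y) v))
            right_inv := fun c => GrothLib.EtDer.val_cst M _ c _ })
    rw [Nat.card_congr e, Nat.card_congr Equiv.ulift, Nat.card_eq_fintype_card, ZMod.card]
  · obtain ⟨n, rfl⟩ : ∃ n, i = n + 1 := ⟨i - 1, by omega⟩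
    exact GrothLib.FlasqueEt18.subsingleton_H (GrothLib.EtBasicB.stalk_strictlyHenselian Y hnorm) n _
      (GrothLib.FlasqueEt18.flasque_const M)
  · have hgen : genericPoint Y ∈ U :=
      ((genericPoint_spec Y).mem_open_set_iff U.isOpen).2 (by simpa using hU)
    let pt := Y.fromSpecResidueField (genericPoint Y)
    have hr : Set.range pt ⊆ Set.range U.ι := by
      rw [Scheme.range_fromSpecResidueField, Scheme.Opens.range_ι]
      exact Set.singleton_subset_iff.2 hgen
    let e := IsOpenImmersion.lift U.ι pt hr
    haveI : Subsingleton (Spec (Y.residueField (genericPoint Y))) :=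
      inferInstanceAs (Subsingleton (PrimeSpectrum (Y.residueField (genericPoint Y))))
    haveI : Finite (Spec (Y.residueField (genericPoint Y))) := Finite.of_subsingleton
    haveI : QuasiCompact (e ≫ U.ι) := GrothLib.EtDer.quasiCompact_of_finite _
    refine GrothLib.EtDer.isIso_unit_const M U.ι e (GrothLib.EtDer.isNormalScheme_of_isIntegral hnorm)
      (GrothLib.EtDer.mem_range_of_minimal (e ≫ U.ι) ?_)
    rw [IsOpenImmersion.lift_fac, Scheme.range_fromSpecResidueField]
    exact rfl

end Groth.Agent.S19130
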