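import Groth.Statements.S19131
import Groth.Agent.Lib.THeart.Quotient
import Mathlib.CategoryTheory.Triangulated.Subcategory
import Mathlib.CategoryTheory.Localization.CalculusOfFractions

set_option autoImplicit false
universe v u v' u'
open CategoryTheory CategoryTheory.Limits CategoryTheory.Pretriangulated CategoryTheory.Triangulated
open PervT

namespace Groth.Agent.S19131

/-- Let C be a triangulated category (octahedron axiom included) carrying a bounded t-structure t (every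
object is ≥ a and ≤ b for some integers a, b), and let D be a strictly full triangulated subcategory
of C (a property of objects containing zero, stable under shifts, extensions and isomorphisms) such
that (1) for X in D and every integer n the n-th cohomology object of X for t, realised as τ^{≥ n}
τ^{≤ n} X, lies in D, and (2) the objects of D in the heart of t are closed under subobjects and
quotients in the heart: for every distinguished triangle X → Y → Z → X[1] whose three vertices lie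
in the heart, if Y is in D then so are X and Z. Let q : C ⥤ E be a triangulated functor to a
pretriangulated category E which exhibits E as the localization of C at the class of morphisms whose
cone lies in D (the Verdier quotient of C by D). Then E carries exactly one t-structure for which q
is t-exact (q sends objects ≤ n to objects ≤ n and objects ≥ n to objects ≥ n), and for this
t-structure an object of E is ≤ n, respectively ≥ n, if and only if it is isomorphic to q X for some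
X ≤ n, respectively X ≥ n, in C. (The source also identifies the heart of this t-structure with the
quotient of the heart of t by its intersection with D; that identification is not asserted here.) -/
theorem result
    {C : Type u} [Category.{v} C] [Preadditive C] [HasZeroObject C] [HasShift C ℤ]
    [∀ n : ℤ, (shiftFunctor C n).Additive] [Pretriangulated C] [IsTriangulated C]
    (t : TStructure C) (hb : ∀ X : C, t.bounded X)
    (D : ObjectProperty C) [D.IsTriangulated] [D.IsClosedUnderIsomorphisms]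
    (h1 : ∀ X : C, D X → ∀ n : ℤ, D ((t.truncGELE n n).obj X))
    (h2 : ∀ (X Y Z : C) (f : X ⟶ Y) (g : Y ⟶ Z) (h : Z ⟶ X⟦(1 : ℤ)⟧),
      Triangle.mk f g h ∈ distTriang C → t.heart X → t.heart Y → t.heart Z → D Y → D X ∧ D Z)
    {E : Type u'} [Category.{v'} E] [Preadditive E] [HasZeroObject E] [HasShift E ℤ]
    [∀ n : ℤ, (shiftFunctor E n).Additive] [Pretriangulated E]
    (q : C ⥤ E) [q.CommShift ℤ] [q.IsTriangulated] [q.IsLocalization D.trW] :
    ∃ t' : TStructure E,
      (∀ (X : C) (n : ℤ), t.IsLE X n → t'.IsLE (q.obj X) n) ∧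
      (∀ (X : C) (n : ℤ), t.IsGE X n → t'.IsGE (q.obj X) n) ∧
      (∀ (Y : E) (n : ℤ), t'.IsLE Y n ↔ ∃ X : C, t.IsLE X n ∧ Nonempty (q.obj X ≅ Y)) ∧
      (∀ (Y : E) (n : ℤ), t'.IsGE Y n ↔ ∃ X : C, t.IsGE X n ∧ Nonempty (q.obj X ≅ Y)) ∧
      ∀ t'' : TStructure E,
        (∀ (X : C) (n : ℤ), t.IsLE X n → t''.IsLE (q.obj X) n) →
        (∀ (X : C) (n : ℤ), t.IsGE X n → t''.IsGE (q.obj X) n) → t'' = t' := by
  letI := t.hasHeartFullSubcategory
  letI : Abelian t.heart.FullSubcategory := GrothLib.THeart.abelian t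
  have hh : ∀ X : C, t.heart ((t.truncGE 0 ⋙ t.truncLE 0).obj X) := fun X => by
    rw [t.mem_heart_iff]
    exact ⟨(inferInstance : t.IsLE ((t.truncLE 0).obj ((t.truncGE 0).obj X)) 0),
      (inferInstance : t.IsGE ((t.truncLE 0).obj ((t.truncGE 0).obj X)) 0)⟩
  let H0 := t.heart.lift (t.truncGE 0 ⋙ t.truncLE 0) hh
  let e : H0 ⋙ t.ιHeart ≅ t.truncGE 0 ⋙ t.truncLE 0 := t.heart.liftCompιIso _ hh
  haveI := GrothLib.THeart.isHomological t H0 e
  have key : ∀ {X X' : C} (s : X' ⟶ X), D.trW s → t.IsLE X 0 → D.trW ((t.truncLEι 0).app X') := by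
    intro X X' s hs hX
    haveI := hX
    rw [ObjectProperty.trW_iff'] at hs
    obtain ⟨W, a, b, hT, hW⟩ := hs
    refine (ObjectProperty.trW_iff D _).2 ⟨_, _, _, t.triangleLEGE_distinguished 0 1 (by omega) X', ?_⟩
    refine GrothLib.THeart.prop_of_cohomology t H0 e hb _ fun n => ?_
    by_cases hn : 1 ≤ n
    · haveI : t.IsLE (((t.truncLE 0).obj X')⟦n⟧) (-n) := t.isLE_shift _ 0 n (-n)
      haveI : t.IsLE (((t.truncLE 0).obj X')⟦n + 1⟧) (-n - 1) := t.isLE_shift _ 0 (n + 1) (-n - 1)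
      obtain ⟨eI⟩ := GrothLib.THeart.isIso_H0_shift t H0 e (t.triangleLEGE_distinguished 0 1 (by omega) X') n
        (GrothLib.THeart.isZero_H0 t H0 e (-n) (.inl ⟨(inferInstance : t.IsLE (((t.truncLE 0).obj X')⟦n⟧) (-n)), by omega⟩))
        (GrothLib.THeart.isZero_H0 t H0 e (-n - 1) (.inl ⟨(inferInstance : t.IsLE (((t.truncLE 0).obj X')⟦n + 1⟧) (-n - 1)), by omega⟩))
      refine D.prop_of_iso (t.ιHeart.mapIso eI) ?_
      let T := (Triangle.shiftFunctor C n).obj (Triangle.mk a s b)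
      have hS := H0.map_distinguished_exact T (Triangle.shift_distinguished _ hT n)
      haveI : t.IsLE (X⟦n⟧) (-n) := t.isLE_shift X 0 n (-n)
      have hz : IsZero (H0.obj (X⟦n⟧)) := GrothLib.THeart.isZero_H0 t H0 e (-n) (.inl ⟨inferInstance, by omega⟩)
      have hepi : Epi (H0.map T.mor₁) := hS.epi_f (hz.eq_of_tgt _ _)
      refine GrothLib.THeart.prop_of_epi t (D := D) h2 (A := H0.obj T.obj₁) (B := H0.obj T.obj₂) (H0.map T.mor₁) (hA := ?_)
      exact GrothLib.THeart.prop_H0 t H0 e h1 (D.le_shift n W hW)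
    · refine D.prop_of_isZero (t.ιHeart.map_isZero (GrothLib.THeart.isZero_H0 t H0 e (1 - n) (.inr ⟨?_, by omega⟩)))
      exact t.isGE_shift ((t.truncGE 1).obj X') 1 n (1 - n)
  haveI : q.EssSurj := Localization.essSurj q D.trW
  let le' : ℤ → ObjectProperty E := fun n Y => ∃ X : C, t.IsLE X n ∧ Nonempty (q.obj X ≅ Y)
  let ge' : ℤ → ObjectProperty E := fun n Y => ∃ X : C, t.IsGE X n ∧ Nonempty (q.obj X ≅ Y)
  haveI : ∀ n, (le' n).IsClosedUnderIsomorphisms := fun n => ⟨fun i ⟨X, hX, ⟨j⟩⟩ => ⟨X, hX, ⟨j ≪≫ i⟩⟩⟩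
  haveI : ∀ n, (ge' n).IsClosedUnderIsomorphisms := fun n => ⟨fun i ⟨X, hX, ⟨j⟩⟩ => ⟨X, hX, ⟨j ≪≫ i⟩⟩⟩
  let t' : TStructure E :=
    { le := le'
      ge := ge'
      le_shift := fun n a n' h Y ⟨X, hX, ⟨j⟩⟩ => ⟨X⟦a⟧, @TStructure.isLE_shift _ _ _ _ _ _ _ t X n a n' h hX,
        ⟨(q.commShiftIso a).app X ≪≫ (shiftFunctor E a).mapIso j⟩⟩
      ge_shift := fun n a n' h Y ⟨X, hX, ⟨j⟩⟩ => ⟨X⟦a⟧, @TStructure.isGE_shift _ _ _ _ _ _ _ t X n a n' h hX,
        ⟨(q.commShiftIso a).app X ≪≫ (shiftFunctor E a).mapIso j⟩⟩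
      zero' := fun A B f ⟨X, hX, ⟨i⟩⟩ ⟨Y, hY, ⟨j⟩⟩ => by
        haveI := hX; haveI := hY
        obtain ⟨φ, hφ⟩ := Localization.exists_rightFraction q D.trW (i.hom ≫ f ≫ j.inv)
        haveI : IsIso (q.map ((t.truncLEι 0).app φ.X')) := Localization.inverts q D.trW _ (key φ.s φ.hs hX)
        have h0 : (t.truncLEι 0).app φ.X' ≫ φ.f = 0 := t.zero _ 0 1
        have h1 : q.map φ.f = 0 := by
          rw [← cancel_epi (q.map ((t.truncLEι 0).app φ.X')), ← q.map_comp, h0, q.map_zero]
          exact comp_zero.symm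
        haveI := Localization.inverts q D.trW φ.s φ.hs
        have hmap : φ.map q (Localization.inverts q D.trW) = 0 :=
          (cancel_epi (q.map φ.s)).1 (by rw [MorphismProperty.RightFraction.map_s_comp_map, h1, comp_zero])
        rw [hmap, ← Category.assoc] at hφ
        haveI : IsIso j.inv := inferInstance
        have h2 : i.hom ≫ f = 0 := by rw [← cancel_mono j.inv, hφ, zero_comp]
        rw [← cancel_epi i.hom, h2, comp_zero]
      le_zero_le := fun Y ⟨X, hX, j⟩ => ⟨X, by haveI := hX; exact t.isLE_of_le X 0 1, j⟩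
      ge_one_le := fun Y ⟨X, hX, j⟩ => ⟨X, by haveI := hX; exact t.isGE_of_ge X 0 1, j⟩
      exists_triangle_zero_one := fun A => by
        let i := q.objObjPreimageIso A
        have hT := q.map_distinguished _ (t.triangleLEGE_distinguished 0 1 (by omega) (q.objPreimage A))
        let T := q.mapTriangle.obj ((t.triangleLEGE 0 1 (by omega)).obj (q.objPreimage A))
        refine ⟨T.obj₁, T.obj₃, ⟨_, (inferInstance : t.IsLE ((t.truncLE 0).obj (q.objPreimage A)) 0), ⟨Iso.refl _⟩⟩,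
          ⟨_, (inferInstance : t.IsGE ((t.truncGE 1).obj (q.objPreimage A)) 1), ⟨Iso.refl _⟩⟩,
          T.mor₁ ≫ i.hom, i.inv ≫ T.mor₂, T.mor₃, isomorphic_distinguished _ hT _
            (Triangle.isoMk _ _ (Iso.refl _) i.symm (Iso.refl _) ?_ ?_ ?_)⟩
        · change (T.mor₁ ≫ i.hom) ≫ i.inv = 𝟙 _ ≫ T.mor₁
          exact ((Category.assoc _ _ _).trans ((congrArg (T.mor₁ ≫ ·) i.hom_inv_id).trans (Category.comp_id _))).trans (Category.id_comp _).symm
        · change (i.inv ≫ T.mor₂) ≫ 𝟙 _ = i.inv ≫ T.mor₂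
          simp
        · change T.mor₃ ≫ (shiftFunctor E (1 : ℤ)).map (𝟙 _) = 𝟙 _ ≫ T.mor₃
          simp }
  have hle : ∀ (Y : E) (n : ℤ), t'.IsLE Y n ↔ ∃ X : C, t.IsLE X n ∧ Nonempty (q.obj X ≅ Y) :=
    fun Y n => ⟨fun h => h.le, fun h => ⟨h⟩⟩
  have hge : ∀ (Y : E) (n : ℤ), t'.IsGE Y n ↔ ∃ X : C, t.IsGE X n ∧ Nonempty (q.obj X ≅ Y) :=
    fun Y n => ⟨fun h => h.ge, fun h => ⟨h⟩⟩
  refine ⟨t', fun X n h => (hle _ n).2 ⟨X, h, ⟨Iso.refl _⟩⟩, fun X n h => (hge _ n).2 ⟨X, h, ⟨Iso.refl _⟩⟩,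
    hle, hge, fun t'' hL hG => ?_⟩
  haveI : IsTriangulated E := Triangulated.Localization.isTriangulated q D.trW
  have hle2 : ∀ Y n, t'.IsLE Y n → t''.IsLE Y n := fun Y n h => by
    obtain ⟨X, hX, ⟨i⟩⟩ := (hle Y n).1 h
    haveI := hL X n hX
    exact t''.isLE_of_iso i n
  have hge2 : ∀ Y n, t'.IsGE Y n → t''.IsGE Y n := fun Y n h => by
    obtain ⟨X, hX, ⟨i⟩⟩ := (hge Y n).1 h
    haveI := hG X n hX
    exact t''.isGE_of_iso i n
  have h3 : ∀ Y n, t''.le n Y ↔ t'.le n Y := fun Y n => by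
    refine ⟨fun h => ?_, fun h => (hle2 Y n ⟨h⟩).le⟩
    haveI : t''.IsLE Y n := ⟨h⟩
    refine ((t'.isLE_iff_orthogonal n (n + 1) rfl Y).2 fun Z f hZ => ?_).le
    haveI := hge2 Z (n + 1) hZ
    exact t''.zero f n (n + 1)
  have h4 : ∀ Y n, t''.ge n Y ↔ t'.ge n Y := fun Y n => by
    refine ⟨fun h => ?_, fun h => (hge2 Y n ⟨h⟩).ge⟩
    haveI : t''.IsGE Y n := ⟨h⟩
    refine ((t'.isGE_iff_orthogonal (n - 1) n (by omega) Y).2 fun Z f hZ => ?_).ge
    haveI := hle2 Z (n - 1) hZ
    exact t''.zero f (n - 1) n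
  have hl : t''.le = t'.le := funext fun n => funext fun Y => propext (h3 Y n)
  have hg : t''.ge = t'.ge := funext fun n => funext fun Y => propext (h4 Y n)
  cases t''
  cases hl
  cases hg
  rfl

end Groth.Agent.S19131
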