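import Groth.Statements.S19132
import Groth.Agent.Lib.DualRing.Local
-- import your own Groth.Agent.* helpers here

set_option autoImplicit false
universe u
open CategoryTheory
attribute [local instance] HasDerivedCategory.standard
open Dual

namespace Groth.Agent.S19132

/-- In the case of a local ring whose dualizing complex is normalized, let A be a Noetherian local ring
with residue field k and ω a normalized dualizing complex over A (Hom(k, ω[i]) = 0 in D(A) for i ≠
0), and let N be an object of D(A) which is bounded with finitely generated cohomology modules and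
concentrated in nonnegative degrees (H^i(N) = 0 for i < 0). Then RHom_A(N, ω) is concentrated in
nonpositive degrees: the group of morphisms N → ω[i] in D(A) vanishes for every i > 0. (For the
local ring at a point x of a scheme of finite type over the base, whose dualizing complex is
normalized only up to the shift by the integer d(x), the corresponding bound is degree −d(x); that
case is this statement applied to the shifted complex.) -/
theorem result
    (A : Type u) [CommRing A] [IsLocalRing A] [IsNoetherianRing A]
    (ω : Dual.D A) (hω : Dual.IsDualizing A ω) (hn : Dual.IsNormalized A ω)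
    (N : Dual.D A) (hfin : ∀ i : ℤ, Module.Finite A (Dual.HD A N i))
    (b : ℤ) (hb : ∀ i : ℤ, b < i → Subsingleton (Dual.HD A N i))
    (hge : ∀ i : ℤ, i < 0 → Subsingleton (Dual.HD A N i))
    (i : ℤ) (hi : 0 < i) :
    Subsingleton (N ⟶ ω⟦i⟧) := by
  have key : ∀ (n : ℕ) (K : Dual.D A) (b : ℤ), b + 1 ≤ (n : ℤ) → (∀ j, Module.Finite A (Dual.HD A K j)) →
      (∀ j, j < 0 ∨ b < j → Subsingleton (Dual.HD A K j)) → Subsingleton (GrothLib.DualRing.EH ω K i) := by
    intro n
    induction n with
    | zero =>
      intro K b hb' _ hK
      have hZ : CategoryTheory.Limits.IsZero K := GrothLib.DR.isZero_of_homology K fun j =>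
        (GrothLib.DR.subsingleton_iff_isZero _).1 (hK j (by omega))
      exact ⟨fun f g => hZ.eq_of_src f g⟩
    | succ n ih =>
      intro K b hb' hfK hK
      by_cases h : 0 ≤ b
      swap
      · exact ih K b (by omega) hfK hK
      obtain ⟨T, hT, rfl, ⟨e⟩, hlt, hge⟩ := GrothLib.DualRing.exists_top_triangle K b fun j hj => hK j (Or.inr hj)
      have h1 : Subsingleton (GrothLib.DualRing.EH ω T.obj₁ i) := by
        refine ih T.obj₁ (b - 1) (by omega) (fun j => ?_) fun j hj => ?_
        · by_cases hj' : j < b
          · haveI := hfK j; exact Module.Finite.equiv (hlt j hj').some.symm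
          · haveI := hge j (not_lt.1 hj'); infer_instance
        · by_cases hj' : j < b
          · haveI := hK j (by omega); exact (hlt j hj').some.toEquiv.subsingleton
          · exact hge j (not_lt.1 hj')
      have h3 : Subsingleton (GrothLib.DualRing.EH ω T.obj₃ i) := by
        haveI := hfK b
        haveI := GrothLib.DualRing.subsingleton_EH_pos hω hn (Dual.HD A T.obj₂ b) (i := i + b) (by omega)
        exact ((GrothLib.DualRing.congrLeft e _).trans (GrothLib.DualRing.shiftLeft ω _ (-b) i (i + b) (by omega))).toEquiv.subsingleton
      refine ⟨fun f g => sub_eq_zero.1 ?_⟩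
      obtain ⟨β, hβ⟩ := CategoryTheory.Pretriangulated.Triangle.yoneda_exact₂ T hT (f - g) (h1.elim _ _)
      rw [hβ, h3.elim β 0, CategoryTheory.Limits.comp_zero]
  exact key (b + 1).toNat N b (by omega) hfin fun j hj => hj.elim (hge j) (hb j)

end Groth.Agent.S19132
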