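import Groth.Statements.S19138
import Mathlib.LinearAlgebra.Basis.VectorSpace
import Mathlib.Analysis.Convex.StdSimplex
import Mathlib.Analysis.SpecificLimits.Basic
import Mathlib.Algebra.BigOperators.Field


set_option autoImplicit false
open Instab

namespace Groth.Agent.S19138

theorem exists_rat_functional {ι : Type*} [Finite ι] (z : ι → ℝ) (hz : ∀ i, 0 ≤ z i) :
    ∃ φ : ℝ →ₗ[ℚ] ℚ, φ 1 = 1 ∧ ∀ i, (0 < z i → 0 < φ (z i)) := by
  classical
  haveI := Fintype.ofFinite ι
  have hs : LinearIndepOn ℚ id ({(1 : ℝ)} : Set ℝ) := LinearIndepOn.singleton one_ne_zero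
  let b := Module.Basis.extend hs
  let i₁ : hs.extend (Set.subset_univ _) :=
    ⟨1, Module.Basis.subset_extend hs (Set.mem_singleton 1)⟩
  have hb1 : b i₁ = 1 := Module.Basis.extend_apply_self hs i₁
  have happrox : ∀ (N : ℕ) (x : ℝ), ∃ r : ℚ, |(r : ℝ) - x| < 1 / ((N : ℝ) + 1) := by
    intro N x
    have hN : (0 : ℝ) < 1 / ((N : ℝ) + 1) := by positivity
    obtain ⟨r, hr⟩ := Rat.denseRange_cast.exists_dist_lt x hN
    exact ⟨r, by rw [abs_sub_comm]; exact hr⟩
  choose r hr using happrox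
  let φ : ℕ → ℝ →ₗ[ℚ] ℚ := fun N => b.constr ℚ (fun k => if k = i₁ then 1 else r N (b k))
  have hφ1 : ∀ N, φ N 1 = 1 := fun N => by
    rw [← hb1]; simp [φ, Module.Basis.constr_basis]
  have hφb : ∀ k, Filter.Tendsto (fun N => (φ N (b k) : ℝ)) Filter.atTop (nhds (b k)) := by
    intro k
    simp only [φ, Module.Basis.constr_basis]
    by_cases hk : k = i₁
    · subst hk; simp [hb1]
    · simp only [hk, if_false]
      exact tendsto_iff_norm_sub_tendsto_zero.2 (squeeze_zero (fun _ => norm_nonneg _)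
        (fun N => le_of_lt (by simpa [Real.norm_eq_abs] using hr N (b k)))
        tendsto_one_div_add_atTop_nhds_zero_nat)
  have hφ : ∀ v : ℝ, Filter.Tendsto (fun N => (φ N v : ℝ)) Filter.atTop (nhds v) := by
    intro v
    have hv := b.linearCombination_repr v
    rw [Finsupp.linearCombination_apply, Finsupp.sum] at hv
    conv => enter [3]; rw [← hv]
    have : (fun N => (φ N v : ℝ)) =
        fun N => ∑ k ∈ (b.repr v).support, ((b.repr v k : ℚ) : ℝ) * (φ N (b k) : ℝ) := by
      funext N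
      conv_lhs => rw [← hv]
      simp [map_sum, map_smul, smul_eq_mul]
    rw [this]
    refine tendsto_finsetSum _ fun k _ => ?_
    rw [Rat.smul_def]
    exact (hφb k).const_mul _
  have : ∀ᶠ N in Filter.atTop, ∀ i, (0 < z i → 0 < φ N (z i)) := by
    rw [Filter.eventually_all]
    intro i
    by_cases hi : 0 < z i
    · filter_upwards [(hφ (z i)).eventually_const_lt hi] with N hN _
      exact_mod_cast hN
    · exact Filter.Eventually.of_forall fun N h => absurd h hi
  obtain ⟨N, hN⟩ := this.exists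
  exact ⟨φ N, hφ1 N, hN⟩

theorem lin_coeff_eq_zero {a b δ : ℝ} (hδ : 0 < δ)
    (h : ∀ s : ℝ, |s| ≤ δ → 0 ≤ a * s ^ 2 + b * s) : b = 0 := by
  by_contra hb
  have hb' : 0 < |b| := abs_pos.2 hb
  have hA : 0 < |a| + 1 := by positivity
  set t : ℝ := min δ (|b| / (2 * (|a| + 1))) with ht
  have ht0 : 0 < t := lt_min hδ (by positivity)
  have htδ : t ≤ δ := min_le_left _ _
  have htb : t * (2 * (|a| + 1)) ≤ |b| := (le_div_iff₀ (by positivity)).1 (min_le_right _ _)
  have h1 := h t (by rwa [abs_of_pos ht0])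
  have h2 := h (-t) (by rwa [abs_neg, abs_of_pos ht0])
  have hat : a * t ≤ |a| * t := mul_le_mul_of_nonneg_right (le_abs_self a) ht0.le
  rcases lt_or_gt_of_ne hb with hn | hp
  · rw [abs_of_neg hn] at htb hb'
    have : t * (a * t + b) < 0 := mul_neg_of_pos_of_neg ht0 (by nlinarith)
    nlinarith
  · rw [abs_of_pos hp] at htb hb'
    have : t * (a * t - b) < 0 := mul_neg_of_pos_of_neg ht0 (by nlinarith)
    nlinarith



open Matrix in
/-- Let ℓ ∈ ℚⁿ and let B be a rational n × n matrix whose real quadratic form q(y) = y · (B y) is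
non-negative on ℝⁿ and positive at every non-zero point of the non-negative orthant. If ℓ · y > 0 at
some point of the orthant, then the function ℓ · y / √q(y) on the non-zero points of the orthant
attains its maximum at a point with rational coordinates. (The published lemma says that the
numerical invariant attached to a rational degree-two class and such a norm on graded points attains
its maximum on each rational simplex at a rational point whenever it is positive somewhere on that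
simplex; on one rational simplex that invariant is this function, so this is what is asked there.
The case of a piecewise rational linear norm is not stated here.) -/
theorem result (n : ℕ) (ℓ : Fin n → ℚ)
    (B : Matrix (Fin n) (Fin n) ℚ)
    (hnn : ∀ y : Fin n → ℝ, 0 ≤ y ⬝ᵥ (B.map (fun r : ℚ => (r : ℝ))) *ᵥ y)
    (hpos : ∀ y : Fin n → ℝ, (∀ i, 0 ≤ y i) → y ≠ 0 → 0 < y ⬝ᵥ (B.map (fun r : ℚ => (r : ℝ))) *ᵥ y)
    (hℓ : ∃ y : Fin n → ℝ, (∀ i, 0 ≤ y i) ∧ 0 < (fun i => (ℓ i : ℝ)) ⬝ᵥ y) :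
    ∃ x : Fin n → ℚ, (∀ i, 0 ≤ x i) ∧ x ≠ 0 ∧
      ∀ y : Fin n → ℝ, (∀ i, 0 ≤ y i) → y ≠ 0 →
        (fun i => (ℓ i : ℝ)) ⬝ᵥ y / Real.sqrt (y ⬝ᵥ (B.map (fun r : ℚ => (r : ℝ))) *ᵥ y) ≤
          (fun i => (ℓ i : ℝ)) ⬝ᵥ (fun i => (x i : ℝ)) /
            Real.sqrt ((fun i => (x i : ℝ)) ⬝ᵥ (B.map (fun r : ℚ => (r : ℝ))) *ᵥ (fun i => (x i : ℝ))) := by
  classical
  set Q : (Fin n → ℝ) → ℝ := fun y => y ⬝ᵥ (B.map (fun r : ℚ => (r : ℝ))) *ᵥ y with hQdef
  set L : (Fin n → ℝ) → ℝ := fun y => (fun i => (ℓ i : ℝ)) ⬝ᵥ y with hLdef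
  have hQsum : ∀ y, Q y = ∑ i, ∑ j, y i * ((B i j : ℝ) * y j) := fun y => by
    simp [Q, dotProduct, Matrix.mulVec, Finset.mul_sum]
  have hLsum : ∀ y, L y = ∑ i, (ℓ i : ℝ) * y i := fun y => by simp [L, dotProduct]
  have hQs : ∀ (c : ℝ) y, Q (c • y) = c ^ 2 * Q y := fun c y => by
    simp [Q, Matrix.mulVec_smul, dotProduct_smul, smul_dotProduct]; ring
  have hLs : ∀ (c : ℝ) y, L (c • y) = c * L y := fun c y => by
    simp [L, dotProduct_smul]
  obtain ⟨y₀, hy₀, hy₀ℓ⟩ := hℓ
  have hy₀0 : y₀ ≠ 0 := by rintro rfl; simp at hy₀ℓ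
  haveI : Nonempty (Fin n) := by
    by_contra hne
    rw [not_nonempty_iff] at hne
    exact hy₀0 (funext fun i => (hne.false i).elim)
  -- maximum on the simplex
  have hcont : ContinuousOn (fun y => L y / Real.sqrt (Q y)) (stdSimplex ℝ (Fin n)) := by
    have hQc : Continuous Q := by simp only [funext hQsum]; fun_prop
    have hLc : Continuous L := by simp only [funext hLsum]; fun_prop
    refine hLc.continuousOn.div (hQc.sqrt).continuousOn fun y hy => ?_
    exact (Real.sqrt_pos.2 (hpos y hy.1 (by rintro rfl; simpa using hy.2))).ne'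
  obtain ⟨z, hz, hzmax⟩ := (isCompact_stdSimplex ℝ (Fin n)).exists_isMaxOn
    ⟨Pi.single (Classical.arbitrary (Fin n)) 1, single_mem_stdSimplex ℝ _⟩ hcont
  have hz0 : z ≠ 0 := by rintro rfl; simpa using hz.2
  have hmax : ∀ y, (∀ i, 0 ≤ y i) → y ≠ 0 →
      L y / Real.sqrt (Q y) ≤ L z / Real.sqrt (Q z) := by
    intro y hy hy0
    have hs : 0 < ∑ i, y i := by
      refine lt_of_le_of_ne (Finset.sum_nonneg fun i _ => hy i) fun h => hy0 (funext fun i => ?_)
      exact (Finset.sum_eq_zero_iff_of_nonneg fun i _ => hy i).1 h.symm i (Finset.mem_univ i)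
    have hmem : (∑ i, y i)⁻¹ • y ∈ stdSimplex ℝ (Fin n) := by
      refine ⟨fun i => mul_nonneg (inv_nonneg.2 hs.le) (hy i), ?_⟩
      simp [← Finset.mul_sum, inv_mul_cancel₀ hs.ne']
    have h := hzmax hmem
    simp only [Set.mem_ofPred_eq] at h
    rwa [hLs, hQs, Real.sqrt_mul (sq_nonneg _), Real.sqrt_sq (inv_nonneg.2 hs.le),
      mul_div_mul_left _ _ (inv_ne_zero hs.ne')] at h
  have hQz : 0 < Q z := hpos z hz.1 hz0
  have hLz : 0 < L z := by
    have h1 : 0 < L y₀ / Real.sqrt (Q y₀) := div_pos hy₀ℓ (Real.sqrt_pos.2 (hpos y₀ hy₀ hy₀0))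
    have h2 := lt_of_lt_of_le h1 (hmax y₀ hy₀ hy₀0)
    exact (div_pos_iff_of_pos_right (Real.sqrt_pos.2 hQz)).1 h2
  set S : Fin n → Fin n → ℚ := fun j i => (B j i + B i j) / 2 with hSdef
  -- first order conditions
  have hfoc : ∀ j, 0 < z j → L z ^ 2 * (∑ i, (S j i : ℝ) * z i) = Q z * L z * ℓ j := by
    intro j hj
    set e : Fin n → ℝ := Pi.single j 1 with he
    set T : ℝ := ∑ i, (S j i : ℝ) * z i with hT
    have hT1 : 2 * T = (∑ i, (B j i : ℝ) * z i) + ∑ i, z i * (B i j : ℝ) := by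
      rw [hT, Finset.mul_sum, ← Finset.sum_add_distrib]
      refine Finset.sum_congr rfl fun i _ => ?_
      simp only [S]; push_cast; ring
    have h1 : e ⬝ᵥ (B.map (fun r : ℚ => (r : ℝ))) *ᵥ z = ∑ i, (B j i : ℝ) * z i := by
      simp only [e, single_dotProduct, one_mul]; rfl
    have h2 : z ⬝ᵥ (B.map (fun r : ℚ => (r : ℝ))) *ᵥ e = ∑ i, z i * (B i j : ℝ) := by
      simp only [e, Matrix.mulVec_single_one]; rfl
    have hQe : ∀ s : ℝ, Q (z + s • e) = Q z + 2 * T * s + Q e * s ^ 2 := by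
      intro s
      rw [hT1, ← h1, ← h2]
      simp only [Q, Matrix.mulVec_add, Matrix.mulVec_smul, add_dotProduct, dotProduct_add,
        smul_dotProduct, dotProduct_smul, smul_eq_mul]
      ring
    have hLe : ∀ s : ℝ, L (z + s • e) = L z + s * ℓ j := by
      intro s
      have : (fun i => (ℓ i : ℝ)) ⬝ᵥ e = ℓ j := by simp [e]
      simp only [L, dotProduct_add, dotProduct_smul, smul_eq_mul, this]
    obtain ⟨δ, hδ, hδj, hδL⟩ : ∃ δ > 0, δ ≤ z j ∧ ∀ s : ℝ, |s| ≤ δ → 0 < L z + s * ℓ j := by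
      have hK : 0 < |(ℓ j : ℝ)| + 1 := by positivity
      refine ⟨min (z j) (L z / (2 * (|(ℓ j : ℝ)| + 1))), lt_min hj (by positivity),
        min_le_left _ _, fun s hs => ?_⟩
      have h1 : |s| * (2 * (|(ℓ j : ℝ)| + 1)) ≤ L z :=
        (le_div_iff₀ (by positivity)).1 (hs.trans (min_le_right _ _))
      have h2 : |s * (ℓ j : ℝ)| ≤ |s| * (|(ℓ j : ℝ)| + 1) := by
        rw [abs_mul]; nlinarith [abs_nonneg s]
      nlinarith [neg_abs_le (s * (ℓ j : ℝ))]
    have key : (2 * T * L z ^ 2 - 2 * (L z * ℓ j) * Q z) = 0 := by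
      refine lin_coeff_eq_zero (a := Q e * L z ^ 2 - (ℓ j : ℝ) ^ 2 * Q z) hδ fun s hs => ?_
      have hnn' : ∀ i, 0 ≤ (z + s • e) i := by
        intro i
        by_cases hi : i = j
        · subst hi
          simp [e]
          linarith [neg_abs_le s]
        · simp [e, hi, hz.1 i]
      have hL' : 0 < L (z + s • e) := by rw [hLe]; exact hδL s hs
      have hne : z + s • e ≠ 0 := fun h => by rw [h] at hL'; simp [L] at hL'
      have hQ' : 0 < Q (z + s • e) := hpos _ hnn' hne
      have h := hmax _ hnn' hne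
      rw [div_le_div_iff₀ (Real.sqrt_pos.2 hQ') (Real.sqrt_pos.2 hQz)] at h
      have h2 := pow_le_pow_left₀ (mul_nonneg hL'.le (Real.sqrt_nonneg _)) h 2
      rw [mul_pow, mul_pow, Real.sq_sqrt hQz.le, Real.sq_sqrt hQ'.le, hLe, hQe] at h2
      nlinarith
    linarith
  set c : ℝ := L z / Q z with hc
  have hcpos : 0 < c := div_pos hLz hQz
  set z' : Fin n → ℝ := c • z with hz'
  have hz'nn : ∀ i, 0 ≤ z' i := fun i => mul_nonneg hcpos.le (hz.1 i)
  obtain ⟨φ, hφ1, hφpos⟩ := exists_rat_functional z' hz'nn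
  have hφrat : ∀ q : ℚ, φ (q : ℝ) = q := by
    intro q
    have := φ.map_smul q 1
    rwa [Rat.smul_def, mul_one, hφ1, smul_eq_mul, mul_one] at this
  set x : Fin n → ℚ := fun i => φ (z' i) with hx
  have hx0 : ∀ i, z i = 0 → x i = 0 := fun i hi => by simp [x, z', hi]
  have hxpos : ∀ i, 0 < z i → 0 < x i := fun i hi => hφpos i (mul_pos hcpos hi)
  have hSx : ∀ j, 0 < z j → ∑ i, S j i * x i = ℓ j := by
    intro j hj
    have h1 : ∑ i, (S j i : ℝ) * z' i = ℓ j := by
      have h := hfoc j hj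
      have : ∑ i, (S j i : ℝ) * z' i = c * ∑ i, (S j i : ℝ) * z i := by
        simp [z', Finset.mul_sum]; exact Finset.sum_congr rfl fun i _ => by ring
      rw [this, hc]
      field_simp
      nlinarith
    have h2 := congrArg φ h1
    rw [map_sum, hφrat] at h2
    rw [← h2]
    refine Finset.sum_congr rfl fun i _ => ?_
    rw [← Rat.smul_def, map_smul, smul_eq_mul]
  have hxnn : ∀ i, 0 ≤ x i := fun i => by
    rcases (hz.1 i).eq_or_lt with h | h
    · rw [hx0 i h.symm]
    · exact (hxpos i h).le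
  have hxne : x ≠ 0 := by
    obtain ⟨i, hi⟩ : ∃ i, z i ≠ 0 := Function.ne_iff.1 hz0
    exact fun h => (hxpos i (lt_of_le_of_ne (hz.1 i) (Ne.symm hi))).ne' (congrFun h i)
  refine ⟨x, hxnn, hxne, fun y hy hy0 => (hmax y hy hy0).trans (le_of_eq ?_)⟩
  set xr : Fin n → ℝ := fun i => (x i : ℝ) with hxr
  show L z / Real.sqrt (Q z) = L xr / Real.sqrt (Q xr)
  have hQx : Q xr = L xr := by
    rw [hQsum, hLsum]
    have h1 : ∑ i, ∑ j, x i * (B i j * x j) = ∑ i, x i * ∑ j, S i j * x j := by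
      have hswap : ∑ i, ∑ j, x i * (B i j * x j) = ∑ i, ∑ j, x i * (B j i * x j) := by
        rw [Finset.sum_comm]
        exact Finset.sum_congr rfl fun i _ => Finset.sum_congr rfl fun j _ => by ring
      have : ∑ i, x i * ∑ j, S i j * x j =
          ((∑ i, ∑ j, x i * (B i j * x j)) + ∑ i, ∑ j, x i * (B j i * x j)) / 2 := by
        simp only [Finset.mul_sum, S, Finset.sum_div, ← Finset.sum_add_distrib]
        exact Finset.sum_congr rfl fun i _ => Finset.sum_congr rfl fun j _ => by ring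
      rw [this, ← hswap]; ring
    have h2 : ∑ i, ∑ j, x i * (B i j * x j) = ∑ i, ℓ i * x i := by
      rw [h1]
      refine Finset.sum_congr rfl fun i _ => ?_
      rcases (hz.1 i).eq_or_lt with h | h
      · simp [hx0 i h.symm]
      · rw [hSx i h]; ring
    simpa [xr] using congrArg (fun q : ℚ => (q : ℝ)) h2
  have hLx : L xr = c * L z := by
    have h1 : ∀ j, 0 < z j → ∑ i, (S j i : ℝ) * xr i = ℓ j := fun j hj => by
      simpa [xr] using congrArg (fun q : ℚ => (q : ℝ)) (hSx j hj)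
    have h2 : ∀ j, 0 < z j → ∑ i, (S j i : ℝ) * z i = ℓ j / c := fun j hj => by
      have := hfoc j hj
      rw [hc]
      field_simp
      nlinarith
    calc L xr = ∑ j, (∑ i, (S j i : ℝ) * z' i) * xr j := by
          rw [hLsum]
          refine Finset.sum_congr rfl fun j _ => ?_
          rcases (hz.1 j).eq_or_lt with h | h
          · simp [xr, hx0 j h.symm]
          · have : ∑ i, (S j i : ℝ) * z' i = c * ∑ i, (S j i : ℝ) * z i := by
              simp [z', Finset.mul_sum]; exact Finset.sum_congr rfl fun i _ => by ring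
            rw [this, h2 j h, mul_div_cancel₀ _ hcpos.ne']
      _ = ∑ i, z' i * ∑ j, (S i j : ℝ) * xr j := by
          simp only [Finset.sum_mul, Finset.mul_sum]
          rw [Finset.sum_comm]
          refine Finset.sum_congr rfl fun i _ => Finset.sum_congr rfl fun j _ => ?_
          have : (S j i : ℝ) = (S i j : ℝ) := by simp [S, add_comm]
          rw [this]; ring
      _ = c * L z := by
          rw [hLsum, Finset.mul_sum]
          refine Finset.sum_congr rfl fun i _ => ?_
          rcases (hz.1 i).eq_or_lt with h | h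
          · simp [z', ← h]
          · rw [h1 i h]; simp [z']; ring
  rw [hQx, hLx, Real.div_sqrt, hc, div_mul_eq_mul_div, Real.sqrt_div (mul_self_nonneg _),
    Real.sqrt_mul_self hLz.le]

end Groth.Agent.S19138
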