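import Groth.Statements.S19145
import Groth.Agent.Lib.TorsorTriv19.TwStruct
import Groth.Agent.S19144
-- import your own Groth.Agent.* helpers here

set_option autoImplicit false
open CategoryTheory MonoidalCategory CartesianMonoidalCategory MonObj GrpObj AlgebraicGeometry
universe u
open TwC

namespace Groth.Agent.S19145

/-- Let S be an irreducible scheme whose local rings are all geometrically unibranch, η its generic
point, and X a quasi-isotrivial twisted constant S-scheme (etale-locally on S isomorphic to a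
constant scheme). Then X is the disjoint union, over the points λ of the generic fibre X_η, of the
closures X(λ) of λ: every point of X lies in the closure of exactly one such λ, each X(λ) is open
and closed in X and, as an open subscheme, is a finite etale cover of S (finite, etale and
surjective); and restricting a section of X ⟶ S to the generic point is a bijection from the
sections of X over S onto the sections of X_η over η. -/
theorem result {S : Scheme.{u}} [IrreducibleSpace S]
    (hS : ∀ s : S, CAlg2.IsGeomUnibranch (S.presheaf.stalk s))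
    (X : Over S) (hX : TwC.IsTwConst TwC.Topology.etale X) :
    (∀ x : X.left, ∃! l : X.left, X.hom.base l = genericPoint S ∧ x ∈ closure ({l} : Set X.left)) ∧
    (∀ l : X.left, X.hom.base l = genericPoint S →
      ∃ U : X.left.Opens, (U : Set X.left) = closure ({l} : Set X.left) ∧ IsClosed (U : Set X.left) ∧
        IsFinite (U.ι ≫ X.hom) ∧ Etale (U.ι ≫ X.hom) ∧ Surjective (U.ι ≫ X.hom)) ∧
    (∀ σ₁ σ₂ : S ⟶ X.left, σ₁ ≫ X.hom = 𝟙 S → σ₂ ≫ X.hom = 𝟙 S →
      S.fromSpecResidueField (genericPoint S) ≫ σ₁ = S.fromSpecResidueField (genericPoint S) ≫ σ₂ → σ₁ = σ₂) ∧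
    (∀ τ : Spec (S.residueField (genericPoint S)) ⟶ X.left, τ ≫ X.hom = S.fromSpecResidueField (genericPoint S) →
      ∃ σ : S ⟶ X.left, σ ≫ X.hom = 𝟙 S ∧ S.fromSpecResidueField (genericPoint S) ≫ σ = τ) := by
  obtain ⟨hsep, het, -⟩ := Groth.Agent.S19144.result X hX
  haveI := hsep
  haveI := het
  obtain ⟨h1, h2⟩ := GrothLib.TorsorTriv19.component_facts X.hom hS
  have hloc : ∀ s : S, ∃ (S' : Scheme.{u}) (f : S' ⟶ S), Etale f ∧ s ∈ Set.range f ∧
      ∃ I : Type u, Nonempty (Over.mk (Limits.pullback.snd X.hom f) ≅ TwC.const S' I) := fun s => by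
    obtain ⟨S', f, hf, hs, I, ⟨e⟩⟩ := hX s
    exact ⟨S', f, hf, hs, I, ⟨e⟩⟩
  have key : ∀ l : X.left, X.hom.base l = genericPoint S →
      ∃ U : X.left.Opens, (U : Set X.left) = closure ({l} : Set X.left) ∧ IsClosed (U : Set X.left) ∧
        IsFinite (U.ι ≫ X.hom) ∧ Etale (U.ι ≫ X.hom) ∧ Surjective (U.ι ≫ X.hom) := fun l hl => by
    let U : X.left.Opens := ⟨closure {l}, h2 l hl⟩
    haveI hfin : IsFinite (U.ι ≫ X.hom) := GrothLib.TorsorTriv19.isFinite_component X.hom hS rfl hl hloc
    refine ⟨U, rfl, isClosed_closure, hfin, inferInstance, ⟨fun s => ?_⟩⟩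
    exact (genericPoint_specializes s).mem_closed (U.ι ≫ X.hom).isClosedMap.isClosed_range
      ⟨⟨l, subset_closure rfl⟩, hl⟩
  refine ⟨h1, key, fun σ₁ σ₂ hσ₁ hσ₂ h => ?_, fun τ hτ => ?_⟩
  · exact GrothLib.Torsor21.hom_ext_etale X.hom (hσ₁.trans hσ₂.symm) _
      (fun z => S.fromSpecResidueField_apply _ z) h
  · let p₀ : Spec (S.residueField (genericPoint S)) := IsLocalRing.closedPoint _
    have hl : X.hom.base (τ p₀) = genericPoint S := by
      rw [← Scheme.Hom.comp_apply, hτ]
      exact S.fromSpecResidueField_apply _ _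
    obtain ⟨U, hU, -, -, -, hsurj⟩ := key (τ p₀) hl
    haveI := hsurj
    haveI : IsIso (U.ι ≫ X.hom) := GrothLib.TorsorTriv19.isIso_component X.hom hS hU hl
      (GrothLib.TorsorTriv19.surjective_residueFieldMap_of_comp τ X.hom _ hτ p₀)
    have hrange : Set.range τ ⊆ Set.range U.ι := by
      rw [Scheme.Opens.range_ι]
      rintro _ ⟨p, rfl⟩
      rw [Subsingleton.elim p p₀, hU]
      exact subset_closure rfl
    refine ⟨inv (U.ι ≫ X.hom) ≫ U.ι, by rw [Category.assoc]; exact IsIso.inv_hom_id _, ?_⟩
    have hlift : IsOpenImmersion.lift U.ι τ hrange ≫ (U.ι ≫ X.hom) = S.fromSpecResidueField (genericPoint S) := by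
      rw [← Category.assoc, IsOpenImmersion.lift_fac, hτ]
    rw [← hlift, Category.assoc, IsIso.hom_inv_id_assoc, IsOpenImmersion.lift_fac]

end Groth.Agent.S19145
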