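import Groth.Statements.S19147
import Groth.Agent.Lib.MonoMT14.MultImage
import Groth.Agent.Lib.MultDef14.Affine
-- import your own Groth.Agent.* helpers here

set_option autoImplicit false
open CategoryTheory MonoidalCategory CartesianMonoidalCategory MonObj GrpObj AlgebraicGeometry
universe u
open SGA3x

namespace Groth.Agent.S19147

/-- Let Γ be a torsion-free commutative group, G an S-group separated and of finite presentation over S,
and f : D_S(Γ) ⟶ G a homomorphism. Then the image of f (the closed subgroup of G through which f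
factors by a faithfully flat homomorphism) is a locally trivial subtorus of G: f = f' ≫ j with f'
flat and surjective, j the inclusion of a closed subgroup scheme Q, and Q Zariski-locally on S
isomorphic as a group to D(ℤ^r) for some r (depending on the open). -/
theorem result {S : Scheme.{u}} (Γ : Type) [AddCommGroup Γ] [IsAddTorsionFree Γ]
    (G : Over S) [GrpObj G] [IsSeparated G.hom] [QuasiCompact G.hom] [LocallyOfFinitePresentation G.hom]
    (f : Red.DS S Γ ⟶ G) [IsMonHom f] :
    ∃ (Q : Over S) (_ : GrpObj Q) (j : Q ⟶ G) (_ : IsMonHom j) (f' : Red.DS S Γ ⟶ Q) (_ : IsMonHom f'),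
      IsClosedImmersion j.left ∧ Flat f'.left ∧ Surjective f'.left ∧ f' ≫ j = f ∧
      TwC.Locally S TwC.Topology.zariski (fun S' g => ∃ r : ℕ, Red.IsSplitTorusWith (Fin r → ℤ) (Red.bc g Q)) := by
  haveI : IsAffineHom (Red.DS S Γ).hom := GrothLib.DiagGrp.isAffineHom_DS S Γ
  haveI : IsAffineHom (f.left ≫ G.hom) := by rw [Over.w]; infer_instance
  haveI : IsAffineHom f.left := IsAffineHom.of_comp _ G.hom
  haveI : Flat (𝟙 S) := inferInstance
  obtain ⟨Q, gQ, j, hj, f', hf', hjc, hf1, hf2, hfac, hch⟩ :=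
    GrothLib.MonoMT14.exists_image_of_charts (𝟙 S) ‹LocallyOfFinitePresentation G.hom› f
      (fun M i => letI := i; IsAddTorsionFree M)
      (fun s => ⟨⊤, trivial, Γ, inferInstance, ‹IsAddTorsionFree Γ›,
        ⟨GrothLib.SubTorus14.bcChart ((⊤ : S.Opens).ι ≫ 𝟙 S) Γ⟩⟩)
  refine ⟨Q, gQ, j, hj, f', hf', hjc, hf1, hf2, hfac, fun s => ?_⟩
  obtain ⟨M, i, W, hW, htf, Λ, hΛ, ⟨e⟩⟩ := hch s
  letI := i
  haveI : IsAddTorsionFree M := htf
  haveI : Module.Finite ℤ Λ := Module.Finite.iff_addGroup_fg.mpr ((AddGroup.fg_iff_addSubgroup_fg Λ).mpr hΛ)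
  obtain ⟨e'⟩ := GrothLib.QuotTorus14.exists_iso_DS (W : Scheme.{u})
    ((Module.finBasis ℤ Λ).equivFun.toAddEquiv.symm)
  rw [Category.comp_id] at e
  exact ⟨W, hW, _, ⟨e ≪≫ e'⟩⟩

end Groth.Agent.S19147
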