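import Groth.Statements.S19148
import Mathlib
import Groth.Agent.TensPow2.Basic

set_option autoImplicit false
open scoped TensorProduct
universe u v
open FiltMod

namespace Groth.Agent.S19148

open Groth.Agent.TensPow2

private lemma le_of_range {R : Type u} [CommRing R] {M : Type v} [AddCommGroup M] [Module R M]
    [Module.Finite R M] [Module.Projective R M] {F₁ F₂ C₁ C₂ : Submodule R M}
    (h₁ : IsCompl F₁ C₁) (h₂ : IsCompl F₂ C₂) (m : ℕ)
    (h : LinearMap.range (PiTensorProduct.map (R := R) (fun _ : Fin (m + 1) => F₁.subtype)) =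
      LinearMap.range (PiTensorProduct.map (R := R) (fun _ : Fin (m + 1) => F₂.subtype))) :
    F₁ ≤ F₂ := by
  let p : M →ₗ[R] M := F₂.subtype ∘ₗ Submodule.projectionOnto F₂ C₂ h₂
  let q : M →ₗ[R] M := LinearMap.id - p
  let p₁ : M →ₗ[R] M := F₁.subtype ∘ₗ Submodule.projectionOnto F₁ C₁ h₁
  have hp : ∀ y, p y ∈ F₂ := fun y => (Submodule.projectionOnto F₂ C₂ h₂ y).2
  have hpid : ∀ y ∈ F₂, p y = y := fun y hy =>
    congrArg Subtype.val (Submodule.projectionOnto_apply_left h₂ ⟨y, hy⟩)
  have hq : ∀ y ∈ F₂, q y = 0 := fun y hy => by simp [q, hpid y hy]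
  have hp₁ : ∀ y, p₁ y ∈ F₁ := fun y => (Submodule.projectionOnto F₁ C₁ h₁ y).2
  have hp₁id : ∀ y ∈ F₁, p₁ y = y := fun y hy =>
    congrArg Subtype.val (Submodule.projectionOnto_apply_left h₁ ⟨y, hy⟩)
  let q₁ : M →ₗ[R] M := LinearMap.id - p₁
  have hq₁ : ∀ y ∈ F₁, q₁ y = 0 := fun y hy => by simp [q₁, hp₁id y hy]
  have hmem : ∀ x : Fin (m + 1) → M, (∀ i, x i ∈ F₁) → PiTensorProduct.tprod R x ∈
      ⨆ _c : Unit, LinearMap.range (PiTensorProduct.map (R := R) (fun _ : Fin (m + 1) => F₂.subtype)) := by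
    intro x hx
    rw [iSup_const, ← h]
    exact tprod_mem_range (fun _ => F₁) x hx
  have hnil : ∀ v ∈ F₁, ∀ φ : M →ₗ[R] R, IsNilpotent (φ (q v)) := fun v hv φ =>
    isNilpotent_of_mem (Nat.le_add_left 1 m) (fun (_ : Unit) _ => F₂) q
      (fun _ => ⟨0, hq⟩) v (hmem _ fun _ => hv) φ
  have hnil₁ : ∀ g ∈ F₂, ∀ φ : M →ₗ[R] R, IsNilpotent (φ (q₁ g)) := fun g hg φ =>
    isNilpotent_of_mem (Nat.le_add_left 1 m) (fun (_ : Unit) _ => F₁) q₁
      (fun _ => ⟨0, hq₁⟩) g (by
        rw [iSup_const, h]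
        exact tprod_mem_range (fun _ => F₂) _ fun _ => hg) φ
  have hrange : LinearMap.range p = F₂ := le_antisymm (by rintro _ ⟨y, rfl⟩; exact hp y)
    (fun y hy => ⟨y, hpid y hy⟩)
  have hfg : F₂.FG := by
    rw [← hrange, ← Submodule.map_top]
    exact Module.Finite.fg_top.map _
  have hsurj : F₂ ≤ F₁.map p := by
    refine Submodule.le_of_le_smul_of_le_jacobson_bot hfg
      (Ideal.radical_le_jacobson (I := (⊥ : Ideal R))) ?_
    intro g hg
    have hd : p (q₁ g) ∈ (nilradical R) • F₂ := by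
      have := Submodule.mem_map_of_mem (f := p) (mem_nilradical_smul_top (hnil₁ g hg))
      rwa [Submodule.map_smul'', Submodule.map_top, hrange] at this
    refine Submodule.mem_sup.2 ⟨p (p₁ g), Submodule.mem_map_of_mem (hp₁ g), _, hd, ?_⟩
    rw [← map_add, show p₁ g + q₁ g = g by simp [q₁], hpid g hg]
  have key : ∀ j ≤ m, ∀ v ∈ F₁, ∀ (φ : M →ₗ[R] R) (ψ : Fin j → (M →ₗ[R] R)) (g : Fin j → M),
      (∀ i, g i ∈ F₂) → φ (q v) * ∏ i, ψ i (g i) = 0 := by
    intro j hj
    induction hd : m - j generalizing j with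
    | zero =>
      obtain rfl : j = m := by omega
      intro v hv φ ψ g hg
      choose u hu hug using fun i => Submodule.mem_map.1 (hsurj (hg i))
      have := prod_eq_zero_of_mem (fun (_ : Unit) _ => F₂) (Fin.cons q (fun _ => p))
        (fun _ => ⟨0, fun y hy => by simpa using hq y hy⟩) (Fin.cons v u)
        (hmem _ (Fin.cases (by simpa using hv) (fun i => by simpa using hu i))) (Fin.cons φ ψ)
      rw [Fin.prod_univ_succ] at this
      simpa [hug] using this
    | succ d ih =>
      intro v hv φ ψ g hg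
      have ih' := ih (j + 1) (by omega) (by omega)
      obtain ⟨n, b, θ, hb⟩ := exists_dual_gens (R := R) (M := M)
      set a := ∏ i, ψ i (g i) with ha
      have hexp : ∀ (w : M) (φ : M →ₗ[R] R), w ∈ F₁ →
          φ (q w) = ∑ t, θ t w * φ (q (p₁ (b t))) := fun w φ hw => by
        conv_lhs => rw [← hp₁id w hw, hb w]
        simp [map_sum, map_smul]
      have hexp' : ∀ (w : M) (φ : M →ₗ[R] R), φ w = ∑ s, θ s w * φ (b s) := fun w φ => by
        conv_lhs => rw [hb w]
        simp [map_sum, map_smul]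
      let J : Ideal R := Ideal.span (Set.range fun st : Fin n × Fin n => θ st.1 (q (p₁ (b st.2))) * a)
      have hgen : ∀ (φ : M →ₗ[R] R) t, φ (q (p₁ (b t))) * a ∈ J := fun φ t => by
        rw [hexp' (q (p₁ (b t))) φ, Finset.sum_mul]
        refine Ideal.sum_mem _ fun s _ => ?_
        rw [mul_right_comm]
        exact Ideal.mul_mem_right _ _ (Ideal.subset_span ⟨(s, t), rfl⟩)
      have hN : ∀ (w : M) (φ : M →ₗ[R] R), w ∈ F₁ → φ (q w) * a ∈ (nilradical R) • J := by
        intro w φ hw
        rw [hexp w φ hw, Finset.sum_mul]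
        refine Submodule.sum_mem _ fun t _ => ?_
        have hsplit : θ t w = θ t (p w) + θ t (q w) := by rw [← map_add]; simp [q]
        have hzero : θ t (p w) * φ (q (p₁ (b t))) * a = 0 := by
          have := ih' (p₁ (b t)) (hp₁ _) φ (Fin.cons (θ t) ψ) (Fin.cons (p w) g) (Fin.cases (hp w) hg)
          rw [Fin.prod_univ_succ] at this
          simp only [Fin.cons_zero, Fin.cons_succ, ← ha] at this
          linear_combination this
        rw [hsplit, add_mul, add_mul, hzero, zero_add, mul_assoc, ← smul_eq_mul]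
        exact Submodule.smul_mem_smul (mem_nilradical.2 (hnil w hw _)) (hgen φ t)
      have hJ : J = ⊥ := by
        refine Submodule.eq_bot_of_le_smul_of_le_jacobson_bot (nilradical R) J
          (Submodule.fg_span (Set.finite_range _)) ?_ (Ideal.radical_le_jacobson (I := (⊥ : Ideal R)))
        refine Submodule.span_le.2 ?_
        rintro _ ⟨⟨s, t⟩, rfl⟩
        exact hN _ _ (hp₁ _)
      have := hN v φ hv
      rwa [hJ, Submodule.smul_bot, Submodule.mem_bot] at this
  intro v hv
  have h0 : q v = 0 := eq_zero_of_forall_dual fun φ => by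
    simpa using key 0 (Nat.zero_le m) v hv φ Fin.elim0 Fin.elim0 (fun i => i.elim0)
  have : v = p v := by simpa [q, sub_eq_zero] using h0
  rw [this]
  exact hp v


/-- In affine form, let R be a commutative ring, M a finitely generated projective R-module (a finite
locally free sheaf on Spec R), F₁ and F₂ direct summands of M and k ≥ 1. Then the images of F₁^{⊗k}
and F₂^{⊗k} in the k-th tensor power M^{⊗k} are equal if and only if F₁ = F₂. (The source states
this for local direct factors of a finite locally free sheaf on a scheme; equality of subsheaves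
being local, this is the affine case with global direct summands, to which it reduces.) -/
theorem result {R : Type u} [CommRing R] {M : Type v} [AddCommGroup M] [Module R M]
    [Module.Finite R M] [Module.Projective R M] (F₁ F₂ : Submodule R M)
    (h₁ : ∃ C : Submodule R M, IsCompl F₁ C) (h₂ : ∃ C : Submodule R M, IsCompl F₂ C) (k : ℕ) (hk : 1 ≤ k) :
    LinearMap.range (PiTensorProduct.map (R := R) (fun _ : Fin k => F₁.subtype)) =
      LinearMap.range (PiTensorProduct.map (R := R) (fun _ : Fin k => F₂.subtype)) ↔ F₁ = F₂ := by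
  refine ⟨fun h => ?_, fun h => by rw [h]⟩
  obtain ⟨C₁, hC₁⟩ := h₁
  obtain ⟨C₂, hC₂⟩ := h₂
  obtain ⟨m, rfl⟩ : ∃ m, k = m + 1 := ⟨k - 1, by omega⟩
  exact le_antisymm (le_of_range hC₁ hC₂ m h) (le_of_range hC₂ hC₁ m h.symm)

end Groth.Agent.S19148
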