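import Groth.Statements.S19149
import Mathlib.RingTheory.Smooth.Local
import Mathlib.RingTheory.Etale.Kaehler
import Mathlib.RingTheory.Smooth.Locus
import Groth.Agent.Lib.SmoothAug.Deriv
-- import your own Groth.Agent.* helpers here

set_option autoImplicit false
universe u
open GrpSch

namespace Groth.Agent.S19149

/-- In affine form, let R be a commutative ring, A a smooth R-algebra with an augmentation ε : A → R
(the unit section of G = Spec A over S = Spec R), I = ker ε its augmentation ideal, and J ⊆ I an
ideal (defining a closed subscheme H of G through the unit section) such that (1) J is finitely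
generated, (2) J ∩ I² = I·J in A, and (3) I/(J + I²) is a finitely generated projective R-module
(finite locally free on S). Then H = Spec (A/J) is smooth over S at every point of the unit section:
for every prime P of A/J containing the image of I, the localization (A/J)_P is formally smooth over
R. (The source states this for G an affine smooth group scheme over a scheme S and H a closed
subgroup, concluding that the neutral component H° is a smooth open subgroup scheme; that conclusion
is smoothness of H along the unit section, which is the statement here in affine form; the group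
structure is not used.) -/
theorem result (R A : Type u) [CommRing R] [CommRing A] [Algebra R A]
    [Algebra.Smooth R A] (ε : A →ₐ[R] R) (J : Ideal A) (hJI : J ≤ RingHom.ker ε)
    (h1 : J.FG)
    (h2 : J ⊓ RingHom.ker ε ^ 2 = RingHom.ker ε * J)
    (h3 : Module.Finite R (↥(RingHom.ker ε) ⧸ Submodule.comap (RingHom.ker ε).subtype (J ⊔ RingHom.ker ε ^ 2)) ∧
      Module.Projective R (↥(RingHom.ker ε) ⧸ Submodule.comap (RingHom.ker ε).subtype (J ⊔ RingHom.ker ε ^ 2)))
    (P : Ideal (A ⧸ J)) [P.IsPrime] (hP : (RingHom.ker ε).map (Ideal.Quotient.mk J) ≤ P) :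
    Algebra.IsSmoothAt R P := by
  classical
  set I := RingHom.ker ε with hI
  set Q : Ideal A := P.comap (Ideal.Quotient.mk J) with hQdef
  have hIQ : I ≤ Q := fun x hx => hP (Ideal.mem_map_of_mem _ hx)
  let S := Localization.AtPrime P
  let B := Localization.AtPrime Q
  let φ : B →+* S := Localization.localRingHom Q P (Ideal.Quotient.mk J) rfl
  letI algBS : Algebra B S := φ.toAlgebra
  have hφ : ∀ a : A, algebraMap B S (algebraMap A B a) = algebraMap (A ⧸ J) S (Ideal.Quotient.mk J a) :=
    fun a => Localization.localRingHom_to_map Q P (Ideal.Quotient.mk J) rfl a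
  haveI : IsScalarTower R B S := IsScalarTower.of_algebraMap_eq fun r => by
    rw [IsScalarTower.algebraMap_apply R A B, hφ, Ideal.Quotient.mk_algebraMap,
      ← IsScalarTower.algebraMap_apply R (A ⧸ J) S]
  haveI : Algebra.FormallyEtale A B := Algebra.FormallyEtale.of_isLocalization (Rₘ := B) Q.primeCompl
  haveI : Algebra.FormallySmooth R B := Algebra.FormallySmooth.comp R A B
  haveI hΩfin : Module.Finite B Ω[B⁄R] :=
    @Module.Finite.equiv _ _ _ _ _ _ _ _ (Module.Finite.base_change A B Ω[A⁄R])
      (KaehlerDifferential.isBaseChange_of_formallyEtale (R := R) (S := A) (T := B)).equiv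
  haveI : Module.Free B Ω[B⁄R] := Module.free_of_flat_of_isLocalRing
  -- surjectivity and kernel
  have hsurj : Function.Surjective (algebraMap B S) := by
    intro y
    obtain ⟨⟨a, s⟩, rfl⟩ := IsLocalization.mk'_surjective P.primeCompl y
    obtain ⟨a, rfl⟩ := Ideal.Quotient.mk_surjective a
    obtain ⟨s, hs⟩ := s
    obtain ⟨s, rfl⟩ := Ideal.Quotient.mk_surjective s
    exact ⟨IsLocalization.mk' B a (⟨s, hs⟩ : Q.primeCompl), Localization.localRingHom_mk' Q P _ rfl a ⟨s, hs⟩⟩
  have hker : RingHom.ker (algebraMap B S) = J.map (algebraMap A B) := by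
    refine le_antisymm (fun x hx => ?_) (Ideal.map_le_iff_le_comap.mpr fun j hj => ?_)
    · obtain ⟨a, s, rfl⟩ := IsLocalization.exists_mk'_eq Q.primeCompl x
      have h4 : algebraMap (A ⧸ J) S (Ideal.Quotient.mk J a) = 0 := by
        rw [← hφ, ← IsLocalization.mk'_spec B a s, map_mul, RingHom.mem_ker.mp hx, zero_mul]
      obtain ⟨⟨t, ht⟩, hta⟩ := (IsLocalization.map_eq_zero_iff P.primeCompl S _).mp h4
      obtain ⟨t, rfl⟩ := Ideal.Quotient.mk_surjective t
      have hta' : t * a ∈ J := Ideal.Quotient.eq_zero_iff_mem.mp (by rw [map_mul]; exact hta)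
      obtain ⟨v, hv⟩ := (IsLocalization.map_units B (⟨t, ht⟩ : Q.primeCompl))
      have h5 : IsLocalization.mk' B a s = (↑v⁻¹ * IsLocalization.mk' B (1 : A) s) * algebraMap A B (t * a) := by
        have : algebraMap A B t = ↑v := hv.symm
        rw [map_mul, this, IsLocalization.mk'_eq_mul_mk'_one a s,
          show (↑v⁻¹ * IsLocalization.mk' B (1 : A) s) * (↑v * algebraMap A B a) =
            (↑v⁻¹ * ↑v) * (algebraMap A B a * IsLocalization.mk' B (1 : A) s) by ring, v.inv_mul, one_mul]
      rw [h5]
      exact Ideal.mul_mem_left _ _ (Ideal.mem_map_of_mem _ hta')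
    · rw [Ideal.mem_comap, RingHom.mem_ker, hφ, Ideal.Quotient.eq_zero_iff_mem.mpr hj, map_zero]
  have hfg : (RingHom.ker (algebraMap B S)).FG := hker ▸ h1.map _
  change Algebra.FormallySmooth R S
  let K := IsLocalRing.ResidueField S
  rw [Algebra.FormallySmooth.iff_injective_cotangentComplexBaseChange_residueField B hsurj hfg]
  let M := TensorProduct B K (RingHom.ker (algebraMap B S))
  letI algAK : Algebra A K := ((algebraMap B K).comp (algebraMap A B)).toAlgebra
  -- elements of I act as zero
  have hI0 : ∀ x ∈ I, algebraMap B K (algebraMap A B x) = 0 := by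
    intro x hx
    rw [IsScalarTower.algebraMap_apply B S K, hφ, IsLocalRing.ResidueField.algebraMap_eq]
    refine (IsLocalRing.residue_eq_zero_iff _).mpr ?_
    exact (IsLocalization.AtPrime.to_map_mem_maximal_iff S P _).mpr (hIQ hx)
  have hmemK : ∀ j : J, algebraMap A B j.1 ∈ RingHom.ker (algebraMap B S) := fun j =>
    hker ▸ Ideal.mem_map_of_mem _ j.2
  have hK0 : ∀ (x : A), x ∈ I → ∀ m : M, algebraMap A B x • m = 0 := by
    intro x hx m
    induction m using TensorProduct.induction_on with
    | zero => exact smul_zero _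
    | tmul c z => rw [TensorProduct.smul_tmul', Algebra.smul_def, hI0 x hx, zero_mul, TensorProduct.zero_tmul]
    | add p q hp hq => rw [smul_add, hp, hq, add_zero]
  letI modAM : Module A M := Module.compHom M (algebraMap A B)
  haveI : IsScalarTower A B M := ⟨fun a b m => by
    change (a • b) • m = algebraMap A B a • b • m
    rw [Algebra.smul_def, mul_smul]⟩
  haveI : IsScalarTower R A M := ⟨fun c a m => by
    change algebraMap A B (c • a) • m = c • (algebraMap A B a • m)
    rw [Algebra.smul_def, map_mul, mul_smul, ← IsScalarTower.algebraMap_apply R A B, algebraMap_smul]⟩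
  let ι₀ : J →ₗ[A] RingHom.ker (algebraMap B S) :=
    { toFun := fun j => ⟨algebraMap A B j.1, hmemK j⟩
      map_add' := fun j j' => Subtype.ext (map_add (algebraMap A B) j.1 j'.1)
      map_smul' := fun a j => Subtype.ext (by
        change algebraMap A B (a * j.1) = a • algebraMap A B j.1
        rw [map_mul, Algebra.smul_def]) }
  let κ : J →ₗ[A] M := ((TensorProduct.mk B K (RingHom.ker (algebraMap B S)) 1).restrictScalars A).comp ι₀
  obtain ⟨Dder, hDder⟩ := GrothLib.SmoothAug.exists_derivation (M := M) ε J hJI h2 h3.2 hK0 κ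
  let L₀ : Ω[B⁄R] →ₗ[B] M :=
    (KaehlerDifferential.isBaseChange_of_formallyEtale (R := R) (S := A) (T := B)).lift Dder.liftKaehlerDifferential
  have hL₀ : ∀ a : A, L₀ (KaehlerDifferential.D R B (algebraMap A B a)) = Dder a := fun a => by
    rw [← KaehlerDifferential.map_D R R A B a, IsBaseChange.lift_eq, Derivation.liftKaehlerDifferential_comp_D]
  let L : TensorProduct B K Ω[B⁄R] →ₗ[K] M := L₀.liftBaseChange K
  have hL : ∀ z : M, L (KaehlerDifferential.cotangentComplexBaseChange R S B K z) = z := by
    have key : ∀ j : J, L₀ (KaehlerDifferential.D R B (algebraMap A B j.1)) = κ j := fun j => by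
      rw [hL₀, hDder]
    intro z
    induction z using TensorProduct.induction_on with
    | zero => simp
    | add p q hp hq => rw [map_add, map_add, hp, hq]
    | tmul c z =>
      obtain ⟨z, hz⟩ := z
      have hz' : z ∈ J.map (algebraMap A B) := hker ▸ hz
      refine Submodule.span_induction (p := fun w _ => ∀ hw : w ∈ RingHom.ker (algebraMap B S),
        L (KaehlerDifferential.cotangentComplexBaseChange R S B K (c ⊗ₜ ⟨w, hw⟩)) = c ⊗ₜ ⟨w, hw⟩) ?_ ?_ ?_ ?_ hz' hz
      · rintro w ⟨j, hj, rfl⟩ hw
        rw [KaehlerDifferential.cotangentComplexBaseChange_tmul]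
        rw [map_smul, KaehlerDifferential.kerToTensor_apply, LinearMap.liftBaseChange_tmul, one_smul, key ⟨j, hj⟩]
        change c • ((1 : K) ⊗ₜ[B] _) = _
        rw [TensorProduct.smul_tmul', smul_eq_mul, mul_one]
        rfl
      · intro hw
        rw [show (⟨0, hw⟩ : RingHom.ker (algebraMap B S)) = 0 from rfl, TensorProduct.tmul_zero, map_zero, map_zero]
      · intro w w' hw hw' h h' hs
        have e1 : w ∈ RingHom.ker (algebraMap B S) := hker.symm ▸ hw
        have e2 : w' ∈ RingHom.ker (algebraMap B S) := hker.symm ▸ hw'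
        rw [show (⟨w + w', hs⟩ : RingHom.ker (algebraMap B S)) = ⟨w, e1⟩ + ⟨w', e2⟩ from rfl, TensorProduct.tmul_add,
          map_add, map_add, h e1, h' e2]
      · intro b w hw h hs
        have e1 : w ∈ RingHom.ker (algebraMap B S) := hker.symm ▸ hw
        rw [show (⟨b • w, hs⟩ : RingHom.ker (algebraMap B S)) = b • ⟨w, e1⟩ from rfl, TensorProduct.tmul_smul,
          LinearMap.map_smul_of_tower, LinearMap.map_smul_of_tower, h e1]
  exact Function.LeftInverse.injective hL

end Groth.Agent.S19149
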