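import Groth.Statements.S19154
import Mathlib
import Groth.Agent.FiltSplit2.Basic

set_option autoImplicit false
open scoped TensorProduct
universe u v w
open FiltMod

namespace Groth.Agent.S19154

open TensorProduct


/-- (1) ⇔ (4): in affine form, let Γ be a non-trivial totally ordered commutative group, R a commutative
ring, M a finitely generated projective R-module (a finite locally free sheaf on X = Spec R) and F a
non-increasing Γ-indexed family of submodules of M; write F^γ_+ for the sum of the F^η with η > γ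
and Gr^γ = F^γ/F^γ_+. Then the following are equivalent: (1) there is a Γ-grading M = ⊕_γ G_γ by
submodules (internal direct sum) with F^γ = Σ_{η ≥ γ} G_η for every γ; (4) every Gr^γ is finitely
generated projective over R and, for every prime p of R, dim_{κ(p)} (κ(p) ⊗ M) = Σ_γ dim_{κ(p)} Gr^γ
of the image filtration on κ(p) ⊗ M (whose γ-th term F_x^γ is the image of κ(p) ⊗ F^γ; dim Gr^γ is
written as dim F_x^γ − dim F_x^γ_+, and the sum has finitely many non-zero terms). (The source's
conditions (2), (3) are the Zariski- and fpqc-local forms of (1) on a general scheme; its further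
assertions on F^γ ⊗ κ(x) are not stated.) -/
theorem result
    {Γ : Type w} [AddCommGroup Γ] [LinearOrder Γ] [IsOrderedAddMonoid Γ] [Nontrivial Γ]
    {R : Type u} [CommRing R] {M : Type v} [AddCommGroup M] [Module R M] [Module.Finite R M] [Module.Projective R M]
    (F : Γ → Submodule R M) (hF : Antitone F)
    (Fp : Γ → Submodule R M) (hFp : ∀ γ, Fp γ = ⨆ η ∈ Set.Ioi γ, F η) :
    (∃ G : Γ → Submodule R M, DirectSum.IsInternal G ∧ ∀ γ, F γ = ⨆ η ∈ Set.Ici γ, G η) ↔
    ((∀ γ, Module.Finite R (↥(F γ) ⧸ Submodule.comap (F γ).subtype (Fp γ)) ∧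
        Module.Projective R (↥(F γ) ⧸ Submodule.comap (F γ).subtype (Fp γ))) ∧
      ∀ (p : PrimeSpectrum R) (Fx : Γ → Submodule p.asIdeal.ResidueField (p.asIdeal.ResidueField ⊗[R] M)),
        (∀ γ, Fx γ = LinearMap.range ((F γ).subtype.baseChange p.asIdeal.ResidueField)) →
        Module.finrank p.asIdeal.ResidueField (p.asIdeal.ResidueField ⊗[R] M) =
          ∑ᶠ γ, (Module.finrank p.asIdeal.ResidueField ↥(Fx γ) -
            Module.finrank p.asIdeal.ResidueField ↥(⨆ η ∈ Set.Ioi γ, Fx η))) := by
  classical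
  constructor
  · rintro ⟨G, hG, hFG⟩
    have hind := hG.submodule_iSupIndep
    have htop := hG.submodule_iSup_eq_top
    have hGFp : ∀ γ, Fp γ = ⨆ η ∈ Set.Ioi γ, G η := by
      intro γ
      rw [hFp]
      refine le_antisymm (iSup₂_le fun η hη => ?_) (iSup₂_le fun η hη => ?_)
      · rw [hFG]
        exact iSup₂_le fun ξ hξ =>
          le_iSup₂ (f := fun ξ (_ : ξ ∈ Set.Ioi γ) => G ξ) ξ (lt_of_lt_of_le hη hξ)
      · refine le_iSup₂_of_le η hη ?_
        rw [hFG]
        exact le_iSup₂ (f := fun ξ (_ : ξ ∈ Set.Ici η) => G ξ) η (le_refl η)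
    have hcompl : ∀ γ, IsCompl (G γ) (⨆ (η) (_ : η ≠ γ), G η) := fun γ =>
      ⟨hind γ, codisjoint_iff.2 (by
        refine top_unique (htop.ge.trans (iSup_le fun η => ?_))
        rcases eq_or_ne η γ with rfl | hne
        · exact le_sup_left
        · exact (le_iSup₂ (f := fun η (_ : η ≠ γ) => G η) η hne).trans le_sup_right)⟩
    have hFsup : ∀ γ, F γ = G γ ⊔ Fp γ := by
      intro γ
      rw [hFG, hGFp]
      refine le_antisymm (iSup₂_le fun η hη => ?_) (sup_le
        (le_iSup₂ (f := fun ξ (_ : ξ ∈ Set.Ici γ) => G ξ) γ (le_refl γ))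
        (iSup₂_le fun η hη => le_iSup₂ (f := fun ξ (_ : ξ ∈ Set.Ici γ) => G ξ) η (le_of_lt hη)))
      rcases eq_or_lt_of_le (show γ ≤ η from hη) with rfl | hlt
      · exact le_sup_left
      · exact (le_iSup₂ (f := fun ξ (_ : ξ ∈ Set.Ioi γ) => G ξ) η hlt).trans le_sup_right
    refine ⟨fun γ => ?_, fun p Fx hFx => ?_⟩
    · let e : ↥(G γ) →ₗ[R] ↥(F γ) ⧸ Submodule.comap (F γ).subtype (Fp γ) :=
        (Submodule.mkQ _).comp (Submodule.inclusion (hFsup γ ▸ le_sup_left))
      have hbij : Function.Bijective e := by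
        constructor
        · rw [injective_iff_map_eq_zero]
          intro x hx
          have h1 : (x : M) ∈ Fp γ := (Submodule.Quotient.mk_eq_zero (Submodule.comap (F γ).subtype (Fp γ))).1 hx
          rw [hGFp] at h1
          have h2 : (x : M) ∈ ⨆ (η) (_ : η ≠ γ), G η := by
            suffices hle : (⨆ η ∈ Set.Ioi γ, G η) ≤ ⨆ (η) (_ : η ≠ γ), G η from hle h1
            refine iSup₂_le fun η hη => ?_
            exact le_iSup₂ (f := fun η (_ : η ≠ γ) => G η) η (ne_of_gt hη)
          exact Subtype.ext (Submodule.disjoint_def.1 (hind γ) _ x.2 h2)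
        · intro y
          obtain ⟨⟨y, hy⟩, rfl⟩ := Submodule.mkQ_surjective _ y
          obtain ⟨g, hg, f, hf, rfl⟩ := Submodule.mem_sup.1 ((hFsup γ).le hy)
          refine ⟨⟨g, hg⟩, (Submodule.Quotient.eq _).2 ?_⟩
          simpa using hf
      have hfin : Module.Finite R (G γ) :=
        Module.Finite.of_surjective _ (Submodule.projectionOnto_surjective (hcompl γ))
      have hproj : Module.Projective R (G γ) :=
        Module.Projective.of_split (G γ).subtype (Submodule.projectionOnto _ _ (hcompl γ))
          (LinearMap.ext fun x => Submodule.projectionOnto_apply_left (hcompl γ) x)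
      exact ⟨Module.Finite.equiv (LinearEquiv.ofBijective e hbij),
        Module.Projective.of_equiv (LinearEquiv.ofBijective e hbij)⟩
    · let Gx : Γ → Submodule p.asIdeal.ResidueField (p.asIdeal.ResidueField ⊗[R] M) :=
        fun η => (G η).baseChange p.asIdeal.ResidueField
      have hindx : iSupIndep Gx := by
        intro a
        rw [Submodule.disjoint_def]
        intro x hxa hxo
        let π : M →ₗ[R] M := (G a).subtype ∘ₗ Submodule.projectionOnto _ _ (hcompl a)
        have h1 : π.baseChange p.asIdeal.ResidueField x = x := by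
          obtain ⟨y, rfl⟩ := hxa
          rw [← LinearMap.comp_apply, ← LinearMap.baseChange_comp]
          congr 1
          refine congrArg (fun f : ↥(G a) →ₗ[R] M => f.baseChange p.asIdeal.ResidueField) ?_
          exact LinearMap.ext fun z => congrArg Subtype.val (Submodule.projectionOnto_apply_left (hcompl a) z)
        have h2 : (⨆ (η) (_ : η ≠ a), Gx η) ≤ LinearMap.ker (π.baseChange p.asIdeal.ResidueField) := by
          refine iSup₂_le fun η hη => ?_
          rintro _ ⟨y, rfl⟩
          have h0 : π ∘ₗ (G η).subtype = 0 := by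
            refine LinearMap.ext fun z => ?_
            have : (z : M) ∈ ⨆ (ξ) (_ : ξ ≠ a), G ξ :=
              le_iSup₂ (f := fun ξ (_ : ξ ≠ a) => G ξ) η hη z.2
            change ((Submodule.projectionOnto _ _ (hcompl a) z : G a) : M) = 0
            rw [Submodule.projectionOnto_apply_right (hcompl a) ⟨(z : M), this⟩]
            rfl
          rw [LinearMap.mem_ker, ← LinearMap.comp_apply, ← LinearMap.baseChange_comp, h0,
            LinearMap.baseChange_zero, LinearMap.zero_apply]
        rw [← h1]
        exact h2 hxo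
      have hdim : ∀ t : Finset Γ, Module.finrank p.asIdeal.ResidueField ↥(⨆ η ∈ t, Gx η) =
          ∑ η ∈ t, Module.finrank p.asIdeal.ResidueField (Gx η) := by
        intro t
        induction t using Finset.induction_on with
        | empty => simp
        | insert a t hat ih =>
          have hdis : Gx a ⊓ (⨆ η ∈ t, Gx η) = ⊥ := disjoint_iff.1 ((hindx a).mono_right
            (iSup₂_le fun η hη => le_iSup₂ (f := fun η (_ : η ≠ a) => Gx η) η
              (fun h => hat (h ▸ hη))))
          have := Submodule.finrank_sup_add_finrank_inf_eq (Gx a) (⨆ η ∈ t, Gx η)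
          rw [hdis, finrank_bot, add_zero, ih] at this
          rw [Finset.iSup_insert, Finset.sum_insert hat, this]
      obtain ⟨n, gen, hgen⟩ := Module.Finite.exists_fin (R := R) (M := M)
      have hmem : ∀ i, gen i ∈ ⨆ η, G η := fun i => by rw [htop]; trivial
      choose T hT using fun i => Submodule.mem_iSup_iff_exists_finset.1 (hmem i)
      let S := Finset.univ.biUnion T
      have hS : (⨆ η ∈ S, G η) = ⊤ := by
        rw [eq_top_iff, ← hgen, Submodule.span_le]
        rintro _ ⟨i, rfl⟩
        suffices hle : (⨆ η ∈ T i, G η) ≤ ⨆ η ∈ S, G η from hle (hT i)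
        refine iSup₂_le fun η hη => ?_
        exact le_iSup₂ (f := fun η (_ : η ∈ S) => G η) η
          (Finset.mem_biUnion.2 ⟨i, Finset.mem_univ _, hη⟩)
      have hSx : (⨆ η ∈ S, Gx η) = ⊤ := by
        have := congrArg (Submodule.baseChange p.asIdeal.ResidueField) hS
        rwa [Submodule.baseChange_top, Groth.Agent.FiltSplit2.baseChange_iSup,
          show (⨆ η, Submodule.baseChange p.asIdeal.ResidueField (⨆ (_ : η ∈ S), G η)) =
            ⨆ η, ⨆ (_ : η ∈ S), Gx η from iSup_congr fun η =>
              Groth.Agent.FiltSplit2.baseChange_iSup _ _] at this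
      have hout : ∀ η ∉ S, Gx η = ⊥ := fun η hη => by
        refine eq_bot_iff.2 fun x hx => ?_
        refine (Submodule.disjoint_def.1 (hindx η) x hx ?_)
        have : (⨆ ξ ∈ S, Gx ξ) ≤ ⨆ (ξ) (_ : ξ ≠ η), Gx ξ := iSup₂_le fun ξ hξ =>
          le_iSup₂ (f := fun ξ (_ : ξ ≠ η) => Gx ξ) ξ (fun h => hη (h ▸ hξ))
        exact this (by rw [hSx]; trivial)
      have hFx' : ∀ γ, Fx γ = ⨆ η ∈ Set.Ici γ, Gx η := fun γ => by
        rw [hFx]
        change (F γ).baseChange p.asIdeal.ResidueField = _
        rw [hFG, Groth.Agent.FiltSplit2.baseChange_iSup]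
        exact iSup_congr fun η => Groth.Agent.FiltSplit2.baseChange_iSup _ _
      have hjump : ∀ γ, Module.finrank p.asIdeal.ResidueField ↥(Fx γ) -
          Module.finrank p.asIdeal.ResidueField ↥(⨆ η ∈ Set.Ioi γ, Fx η) =
            Module.finrank p.asIdeal.ResidueField (Gx γ) := by
        intro γ
        have hP : (⨆ η ∈ Set.Ioi γ, Fx η) = ⨆ η ∈ Set.Ioi γ, Gx η := by
          refine le_antisymm (iSup₂_le fun η hη => ?_) (iSup₂_le fun η hη => ?_)
          · rw [hFx']
            exact iSup₂_le fun ξ hξ =>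
              le_iSup₂ (f := fun ξ (_ : ξ ∈ Set.Ioi γ) => Gx ξ) ξ (lt_of_lt_of_le hη hξ)
          · refine le_iSup₂_of_le η hη ?_
            rw [hFx']
            exact le_iSup₂ (f := fun ξ (_ : ξ ∈ Set.Ici η) => Gx ξ) η (le_refl η)
        have hsup : Fx γ = Gx γ ⊔ ⨆ η ∈ Set.Ioi γ, Gx η := by
          rw [hFx']
          refine le_antisymm (iSup₂_le fun η hη => ?_) (sup_le
            (le_iSup₂ (f := fun ξ (_ : ξ ∈ Set.Ici γ) => Gx ξ) γ (le_refl γ))
            (iSup₂_le fun η hη => le_iSup₂ (f := fun ξ (_ : ξ ∈ Set.Ici γ) => Gx ξ) η (le_of_lt hη)))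
          rcases eq_or_lt_of_le (show γ ≤ η from hη) with rfl | hlt
          · exact le_sup_left
          · exact (le_iSup₂ (f := fun ξ (_ : ξ ∈ Set.Ioi γ) => Gx ξ) η hlt).trans le_sup_right
        have hdis : Gx γ ⊓ (⨆ η ∈ Set.Ioi γ, Gx η) = ⊥ := disjoint_iff.1 ((hindx γ).mono_right
          (iSup₂_le fun η hη => le_iSup₂ (f := fun η (_ : η ≠ γ) => Gx η) η (ne_of_gt hη)))
        have := Submodule.finrank_sup_add_finrank_inf_eq (Gx γ) (⨆ η ∈ Set.Ioi γ, Gx η)
        rw [hdis, finrank_bot, add_zero, ← hsup] at this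
        rw [hP, this, Nat.add_sub_cancel]
      rw [finsum_congr hjump, finsum_eq_sum_of_support_subset _ (s := S) (fun η hη => by
        by_contra hηS
        exact hη (by simp [hout η hηS])), ← hdim S, hSx, finrank_top]
  · rintro ⟨hgr, hrank⟩
    choose s hs using fun γ =>
      haveI := (hgr γ).2
      Module.projective_lifting_property (Submodule.comap (F γ).subtype (Fp γ)).mkQ LinearMap.id
        (Submodule.mkQ_surjective _)
    let G : Γ → Submodule R M := fun γ => LinearMap.range ((F γ).subtype ∘ₗ s γ)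
    have hGF : ∀ γ, G γ ≤ F γ := fun γ => by
      rintro _ ⟨y, rfl⟩; exact (s γ y).2
    refine ⟨G, Groth.Agent.FiltSplit2.isInternal_of_sections F G hF hGF (fun γ => ?_) ?_⟩
    · rw [← hFp, eq_bot_iff]
      rintro _ ⟨⟨y, rfl⟩, hy⟩
      have : y = 0 := by
        refine (LinearMap.congr_fun (hs γ) y).symm.trans ?_
        exact (Submodule.Quotient.mk_eq_zero (Submodule.comap (F γ).subtype (Fp γ))).2 hy
      simp [this]
    · refine Groth.Agent.FiltSplit2.eq_top_of_baseChange_residueField _ fun p => ?_
      refine Groth.Agent.FiltSplit2.finsum_jump_eq_top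
        (A := fun γ => (F γ).baseChange p.asIdeal.ResidueField)
        (fun a b hab => Submodule.baseChange_mono _ (hF hab)) _ (fun γ => ?_)
        (hrank p _ fun γ => rfl)
      have hle : F γ ≤ G γ ⊔ Fp γ := by
        intro x hx
        refine Submodule.mem_sup.2 ⟨(s γ (Submodule.Quotient.mk ⟨x, hx⟩) : M), ⟨_, rfl⟩,
          x - (s γ (Submodule.Quotient.mk ⟨x, hx⟩) : M), ?_, add_sub_cancel _ _⟩
        have := LinearMap.congr_fun (hs γ) (Submodule.Quotient.mk ⟨x, hx⟩)
        exact (Submodule.Quotient.eq (Submodule.comap (F γ).subtype (Fp γ))).1 this.symm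
      refine (Submodule.baseChange_mono _ hle).trans ?_
      rw [sup_eq_iSup (G γ), Groth.Agent.FiltSplit2.baseChange_iSup]
      refine iSup_le fun b => ?_
      cases b
      · refine le_trans ?_ le_sup_right
        simp only [cond_false, hFp, Groth.Agent.FiltSplit2.baseChange_iSup, le_refl]
      · refine le_trans ?_ le_sup_left
        simp only [cond_true]
        exact le_inf (Submodule.baseChange_mono _ (le_iSup G γ))
          (Submodule.baseChange_mono _ (hGF γ))

end Groth.Agent.S19154
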