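import Groth.Statements.S19155
import Groth.Agent.Lib.RootDatum.Dominant

set_option autoImplicit false
open RootPairing
open RootD

namespace Groth.Agent.S19155

open GrothLib.RootDatum


/-- Let P be a root datum (root pairing over ℤ with finitely many roots, roots in M), S a system of
positive roots, Γ a non-trivial totally ordered commutative group and f : M → Γ additive. Call f
dominant when f(α) ≥ 0 for every positive root α. Then the dominant maps form a fundamental domain
for the Weyl group W acting on Hom(M, Γ) through M: there is w ∈ W with f ∘ w dominant, and if f and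
f ∘ w are both dominant (w ∈ W) then f ∘ w = f. -/
theorem result {ι M N : Type*} [AddCommGroup M] [AddCommGroup N]
    (P : RootPairing ι ℤ M N) [Finite ι] (S : Set ι) (hS : RootD.IsPosSys P S)
    {Γ : Type*} [AddCommGroup Γ] [LinearOrder Γ] [IsOrderedAddMonoid Γ] [Nontrivial Γ] (f : M →+ Γ) :
    (∃ g : P.Aut, g ∈ P.weylGroup ∧ ∀ i ∈ S, 0 ≤ f (RootPairing.Equiv.weightHom P g (P.root i))) ∧
    (∀ g : P.Aut, g ∈ P.weylGroup → (∀ i ∈ S, 0 ≤ f (P.root i)) →
      (∀ i ∈ S, 0 ≤ f (RootPairing.Equiv.weightHom P g (P.root i))) →
      ∀ m : M, f (RootPairing.Equiv.weightHom P g m) = f m) := by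
  classical
  have hb := isSimple_simpleOf P hS
  have hpos := posOf_simpleOf hS
  refine ⟨?_, ?_⟩
  · obtain ⟨g, hg, hsub⟩ := exists_weylGroup_image_subset (P' := {i | 0 ≤ f (P.root i)}) hS
      (fun i => (le_total 0 (f (P.root i))).imp id fun h => by
        show 0 ≤ f (P.root (nr P i))
        rw [root_nr, map_neg]; exact neg_nonneg.mpr h)
      (fun i j k (hi : 0 ≤ f (P.root i)) (hj : 0 ≤ f (P.root j)) e => by
        show 0 ≤ f (P.root k)
        rw [e, map_add]; exact add_nonneg hi hj)
    refine ⟨g, hg, fun i hi => ?_⟩
    show 0 ≤ f (g • P.root i)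
    rw [smul_root]
    exact hsub ⟨i, hi, rfl⟩
  · intro g hg hf hfg
    obtain ⟨l, hl, rfl⟩ := hb.exists_minWord hg
    clear hg
    induction l using List.reverseRecOn with
    | nil => intro m; exact congrArg f (one_smul P.Aut m)
    | append_singleton t a ih =>
      obtain ⟨hp, -⟩ := hb.minWord_last hl
      rw [hpos] at hp
      have haS : a ∈ S := simpleOf_subset S (hl.1 a (by simp))
      have h1 := hfg a haS
      change 0 ≤ f (word P (t ++ [a]) • P.root a) at h1
      rw [word_concat, mul_smul, RootPairing.Equiv.reflection_smul, RootPairing.reflection_apply_self,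
        smul_neg, smul_root, map_neg, neg_nonneg] at h1
      have h0 : f (P.root (word P t • a)) = 0 := le_antisymm h1 (hf _ hp)
      have hfix : ∀ x : M, f (word P (t ++ [a]) • x) = f (word P t • x) := fun x => by
        rw [word_concat, mul_smul, RootPairing.Equiv.reflection_smul, RootPairing.reflection_apply, smul_sub (word P t),
          smul_comm (word P t) (P.coroot' a x), smul_root, map_sub, map_zsmul, h0, smul_zero, sub_zero]
      have hdom : ∀ i ∈ S, 0 ≤ f (RootPairing.Equiv.weightHom P (word P t) (P.root i)) := fun i hi => by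
        have := hfg i hi
        change 0 ≤ f (word P (t ++ [a]) • P.root i) at this
        rw [hfix] at this
        exact this
      intro m
      change f (word P (t ++ [a]) • m) = f m
      rw [hfix]
      exact ih (hb.minWord_dropLast hl) hdom m

end Groth.Agent.S19155
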