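import Groth.Statements.S19156
import Groth.Agent.Lib.RootDatum.Dominant

set_option autoImplicit false
open RootPairing
open RootD

namespace Groth.Agent.S19156

open GrothLib.RootDatum


/-- Let P be a root datum (root pairing over ℤ with finitely many roots indexed by ι), S a system of
positive roots, Γ a non-trivial totally ordered commutative group and f : M → Γ additive. Then f is
dominant (non-negative on the positive roots) if and only if, for every w in the Weyl group, f − f ∘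
w is a combination m ↦ Σ_{α ∈ S} ⟨m, α∨⟩ c_α of the positive coroots with coefficients c_α ≥ 0 in Γ
(f ∘ w is strongly dominated by f); and f is dominant if and only if f(w m) ≤ f(m) for every w ∈ W
and every dominant weight m (weak dominance). -/
theorem result {ι M N : Type*} [AddCommGroup M] [AddCommGroup N]
    (P : RootPairing ι ℤ M N) [Fintype ι] (S : Set ι) (hS : RootD.IsPosSys P S)
    {Γ : Type*} [AddCommGroup Γ] [LinearOrder Γ] [IsOrderedAddMonoid Γ] [Nontrivial Γ] (f : M →+ Γ) :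
    ((∀ i ∈ S, 0 ≤ f (P.root i)) ↔
      ∀ g : P.Aut, g ∈ P.weylGroup → ∃ c : ι → Γ, (∀ i, 0 ≤ c i) ∧ (∀ i, i ∉ S → c i = 0) ∧
        ∀ m : M, f m - f (RootPairing.Equiv.weightHom P g m) = ∑ i, (P.coroot' i m) • c i) ∧
    ((∀ i ∈ S, 0 ≤ f (P.root i)) ↔
      ∀ g : P.Aut, g ∈ P.weylGroup → ∀ m : M, (∀ i ∈ S, 0 ≤ P.coroot' i m) →
        f (RootPairing.Equiv.weightHom P g m) ≤ f m) := by
  classical
  have hb := isSimple_simpleOf P hS
  have hpos := posOf_simpleOf hS
  have main : (∀ i ∈ S, 0 ≤ f (P.root i)) → ∀ g : P.Aut, g ∈ P.weylGroup → ∃ c : ι → Γ, (∀ i, 0 ≤ c i) ∧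
      (∀ i, i ∉ S → c i = 0) ∧ ∀ m : M, f m - f (g • m) = ∑ i, (P.coroot' i m) • c i := by
    intro hf g hg
    obtain ⟨l, hl, rfl⟩ := hb.exists_minWord hg
    have := hb.exists_sub_eq_sum f (by rwa [hpos]) hl
    rwa [hpos] at this
  have hle : ∀ {g : P.Aut} {c : ι → Γ} {m : M}, (∀ i, 0 ≤ c i) → (∀ i, i ∉ S → c i = 0) →
      f m - f (g • m) = ∑ i, (P.coroot' i m) • c i → (∀ i ∈ S, 0 ≤ P.coroot' i m) → f (g • m) ≤ f m := by
    intro g c m hc0 hcS hc hm
    rw [← sub_nonneg, hc]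
    refine Finset.sum_nonneg fun i _ => ?_
    by_cases hi : i ∈ S
    · obtain ⟨n, hn⟩ := Int.eq_ofNat_of_zero_le (hm i hi)
      rw [hn, natCast_zsmul]
      exact nsmul_nonneg (hc0 i) n
    · rw [hcS i hi, smul_zero]
  have hrho : ∀ i ∈ S, 0 ≤ P.coroot' i (∑ k ∈ posFinset P (simpleOf P S), P.root k) := fun i hi =>
    hb.coroot'_rho_nonneg (hpos.symm ▸ hi)
  refine ⟨⟨main, fun H i hi => hb.dominant_of_rho f (fun a ha => ?_) (hpos.symm ▸ hi)⟩,
    ⟨fun hf g hg m hm => ?_, fun H i hi => hb.dominant_of_rho f (fun a ha => ?_) (hpos.symm ▸ hi)⟩⟩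
  · obtain ⟨c, hc0, hcS, hc⟩ := H _ (P.reflection_mem_weylGroup a)
    exact hle hc0 hcS (hc _) hrho
  · obtain ⟨c, hc0, hcS, hc⟩ := main hf g hg
    exact hle hc0 hcS (hc m) hm
  · exact H _ (P.reflection_mem_weylGroup a) _ hrho

end Groth.Agent.S19156
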