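import Groth.Statements.S19157
import Mathlib
import Groth.Agent.TensPow2.Basic

set_option autoImplicit false
open scoped TensorProduct
universe u v w
open FiltMod

namespace Groth.Agent.S19157

open Groth.Agent.TensPow2 DirectSum

section
variable {Γ : Type w} [AddCommGroup Γ] [LinearOrder Γ] [IsOrderedAddMonoid Γ]
  {R : Type u} [CommRing R] {M : Type v} [AddCommGroup M] [Module R M]

/-- The induced filtration on the tensor power. -/
private noncomputable abbrev tfil (F : Γ → Submodule R M) (k : ℕ) (γ : Γ) : Submodule R (⨂[R] _ : Fin k, M) :=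
  ⨆ c : {c : Fin k → Γ // ∑ i, c i = γ},
    LinearMap.range (PiTensorProduct.map (R := R) (fun i => (F (c.1 i)).subtype))

private lemma proj_eq_zero {G F : Γ → Submodule R M} (hG : DirectSum.IsInternal G)
    (hF : ∀ γ, F γ = ⨆ η ∈ Set.Ici γ, G η) {η γ : Γ} (hlt : η < γ) {y : M} (hy : y ∈ F γ) :
    proj hG η y = 0 := by
  rw [hF] at hy
  have hle : (⨆ ξ ∈ Set.Ici γ, G ξ) ≤ LinearMap.ker (proj hG η) := iSup₂_le fun ξ hξ z hz => by
    rw [LinearMap.mem_ker, proj_of_mem hG hz, if_neg]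
    exact (lt_of_lt_of_le hlt hξ).ne'
  exact hle hy

private lemma mem_filt {G F : Γ → Submodule R M} (hG : DirectSum.IsInternal G)
    (hF : ∀ γ, F γ = ⨆ η ∈ Set.Ici γ, G η) {γ : Γ} (S : Submodule R M) {v : M}
    (h : ∀ η, η < γ → proj hG η v ∈ S) : v ∈ F γ ⊔ S := by
  refine mem_of_forall_proj hG fun η => ?_
  rcases lt_or_ge η γ with hη | hη
  · exact Submodule.mem_sup_right (h η hη)
  · refine Submodule.mem_sup_left ?_
    rw [hF]
    exact Submodule.mem_iSup_of_mem η (Submodule.mem_iSup_of_mem hη (proj_mem hG η v))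

variable [Module.Finite R M] [Module.Projective R M]

private lemma le_sup_nil (m : ℕ) {F F' G' : Γ → Submodule R M} (hG : DirectSum.IsInternal G')
    (hF : ∀ γ, F' γ = ⨆ η ∈ Set.Ici γ, G' η) (h : ∀ γ, tfil F (m + 1) γ ≤ tfil F' (m + 1) γ)
    (γ : Γ) : F γ ≤ F' γ ⊔ (nilradical R) • (⊤ : Submodule R M) := by
  intro v hv
  refine mem_filt hG hF _ fun η hη => mem_nilradical_smul_top fun φ => ?_
  refine isNilpotent_of_mem (k := m + 1) (Nat.le_add_left 1 m)
    (fun (c : {c : Fin (m + 1) → Γ // ∑ i, c i = ∑ _i : Fin (m + 1), γ}) i => F' (c.1 i))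
    (proj hG η) (fun c => ?_) v (h _ ?_) φ
  · obtain ⟨i, -, hi⟩ := Finset.exists_le_of_sum_le (s := (Finset.univ : Finset (Fin (m + 1))))
      (f := fun _ => γ) (g := c.1) Finset.univ_nonempty c.2.ge
    exact ⟨i, fun y hy => proj_eq_zero hG hF (lt_of_lt_of_le hη hi) hy⟩
  · exact le_iSup (fun c : {c : Fin (m + 1) → Γ // ∑ i, c i = ∑ _i : Fin (m + 1), γ} =>
      LinearMap.range (PiTensorProduct.map (R := R) (fun i => (F (c.1 i)).subtype)))
      ⟨fun _ => γ, rfl⟩ (tprod_mem_range (fun _ => F γ) _ fun _ => hv)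

private lemma le_of_tfil (m : ℕ) {F F' G G' : Γ → Submodule R M} (hG₀ : DirectSum.IsInternal G)
    (hF₀ : ∀ γ, F γ = ⨆ η ∈ Set.Ici γ, G η) (hG : DirectSum.IsInternal G')
    (hF : ∀ γ, F' γ = ⨆ η ∈ Set.Ici γ, G' η)
    (h : ∀ γ, tfil F (m + 1) γ = tfil F' (m + 1) γ) (γ : Γ) : F γ ≤ F' γ := by
  intro v hv
  suffices ∀ η, η < γ → proj hG η v ∈ (⊥ : Submodule R M) by
    simpa using mem_filt hG hF ⊥ this
  intro η hη
  rw [Submodule.mem_bot]
  have hrange : LinearMap.range (proj hG η) = G' η := le_antisymm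
    (by rintro _ ⟨y, rfl⟩; exact proj_mem hG η y)
    (fun y hy => ⟨y, by rw [proj_of_mem hG hy, if_pos rfl]⟩)
  have hfg : (G' η).FG := by
    rw [← hrange, ← Submodule.map_top]
    exact Module.Finite.fg_top.map _
  have hsurj : G' η ≤ Submodule.map (proj hG η) (F η) := by
    refine Submodule.le_of_le_smul_of_le_jacobson_bot hfg
      (Ideal.radical_le_jacobson (I := (⊥ : Ideal R))) ?_
    intro g hg
    have hg' : g ∈ F' η := by
      rw [hF]
      exact Submodule.mem_iSup_of_mem η (Submodule.mem_iSup_of_mem (le_refl η) hg)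
    have := Submodule.mem_map_of_mem (f := proj hG η)
      (le_sup_nil m hG₀ hF₀ (fun δ => (h δ).ge) η hg')
    rwa [proj_of_mem hG hg, if_pos rfl, Submodule.map_sup, Submodule.map_smul'',
      Submodule.map_top, hrange] at this
  refine dual_mul_eq_zero_of_prod (G' η) (proj hG η) (proj_mem hG η) _ ?_ m fun φ ψ g hg => ?_
  · rw [proj_of_mem hG (proj_mem hG η v), if_pos rfl]
  choose u hu hug using fun i => Submodule.mem_map.1 (hsurj (hg i))
  have := prod_eq_zero_of_mem (k := m + 1)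
    (fun (c : {c : Fin (m + 1) → Γ // ∑ i, c i = γ + ∑ _i : Fin m, η}) i => F' (c.1 i))
    (fun _ => proj hG η) (fun c => ?_) (Fin.cons v u) ?_ (Fin.cons φ ψ)
  · rw [Fin.prod_univ_succ] at this
    simpa [hug] using this
  · obtain ⟨i, -, hi⟩ := Finset.exists_lt_of_sum_lt (s := (Finset.univ : Finset (Fin (m + 1))))
      (f := fun _ => η) (g := c.1) (by
        rw [c.2, Fin.sum_univ_succ]
        exact add_lt_add_of_lt_of_le hη le_rfl)
    exact ⟨i, fun y hy => proj_eq_zero hG hF hi hy⟩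
  · refine (h _).le (le_iSup (fun c : {c : Fin (m + 1) → Γ // ∑ i, c i = γ + ∑ _i : Fin m, η} =>
      LinearMap.range (PiTensorProduct.map (R := R) (fun i => (F (c.1 i)).subtype)))
      ⟨Fin.cons γ (fun _ => η), by rw [Fin.sum_univ_succ]; simp⟩ (tprod_mem_range _ _ ?_))
    exact Fin.cases (by simpa using hv) (fun i => by simpa using hu i)

end


/-- In affine form, let Γ be a non-trivial totally ordered commutative group, R a commutative ring, M a
finitely generated projective R-module, k ≥ 1, and F₁, F₂ two Γ-filtrations of M each admitting a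
splitting (a grading M = ⊕_γ G_γ by submodules with F^γ = Σ_{η ≥ γ} G_η). If the filtrations they
induce on the k-th tensor power M^{⊗k} coincide, i.e. for every γ the sum over γ₁ + ⋯ + γ_k = γ of
the images of F₁^{γ₁} ⊗ ⋯ ⊗ F₁^{γ_k} in M^{⊗k} equals the corresponding sum for F₂, then F₁ = F₂.
(The source states this for Γ-filtrations of a finite locally free sheaf on a scheme, which split
Zariski-locally; this is the affine split case to which it reduces.) -/
theorem result
    {Γ : Type w} [AddCommGroup Γ] [LinearOrder Γ] [IsOrderedAddMonoid Γ] [Nontrivial Γ]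
    {R : Type u} [CommRing R] {M : Type v} [AddCommGroup M] [Module R M] [Module.Finite R M] [Module.Projective R M]
    (F₁ F₂ : Γ → Submodule R M)
    (h₁ : ∃ G : Γ → Submodule R M, DirectSum.IsInternal G ∧ ∀ γ, F₁ γ = ⨆ η ∈ Set.Ici γ, G η)
    (h₂ : ∃ G : Γ → Submodule R M, DirectSum.IsInternal G ∧ ∀ γ, F₂ γ = ⨆ η ∈ Set.Ici γ, G η)
    (k : ℕ) (hk : 1 ≤ k)
    (h : ∀ γ : Γ,
      (⨆ c : {c : Fin k → Γ // ∑ i, c i = γ}, LinearMap.range (PiTensorProduct.map (R := R) (fun i => (F₁ (c.1 i)).subtype))) =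
      (⨆ c : {c : Fin k → Γ // ∑ i, c i = γ}, LinearMap.range (PiTensorProduct.map (R := R) (fun i => (F₂ (c.1 i)).subtype)))) :
    F₁ = F₂ := by
  obtain ⟨G₁, hG₁, hF₁⟩ := h₁
  obtain ⟨G₂, hG₂, hF₂⟩ := h₂
  obtain ⟨m, rfl⟩ : ∃ m, k = m + 1 := ⟨k - 1, by omega⟩
  funext γ
  exact le_antisymm (le_of_tfil m hG₁ hF₁ hG₂ hF₂ h γ)
    (le_of_tfil m hG₂ hF₂ hG₁ hF₁ (fun δ => (h δ).symm) γ)

end Groth.Agent.S19157
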