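import Groth.Statements.S19158
import Mathlib

set_option autoImplicit false
universe u v w
open FiltMod

namespace Groth.Agent.S19158

/-- In affine form, let Γ be a non-trivial totally ordered commutative group, R a commutative ring and
(M_a) a finite family of finitely generated projective R-modules, each carrying a non-increasing
Γ-indexed family of submodules F_a; give M = Π_a M_a the family F^γ = Π_a F_a^γ. Then F is split by
a Γ-grading of M (an internal direct sum decomposition M = ⊕_γ G_γ with F^γ = Σ_{η ≥ γ} G_η for all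
γ) if and only if each F_a is split by a Γ-grading of M_a. (The published statement is for finite
locally free sheaves on a scheme, where a filtration counts as split when it is split by a grading
locally on the scheme; this row is the affine case, in which that is the same as being split by one
global grading.) -/
theorem result
    {Γ : Type w} [AddCommGroup Γ] [LinearOrder Γ] [IsOrderedAddMonoid Γ] [Nontrivial Γ]
    {R : Type u} [CommRing R] {A : Type v} [Fintype A] (M : A → Type v) [∀ a, AddCommGroup (M a)] [∀ a, Module R (M a)]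
    [∀ a, Module.Finite R (M a)] [∀ a, Module.Projective R (M a)]
    (F : ∀ a, Γ → Submodule R (M a)) (hF : ∀ a, Antitone (F a)) :
    (∃ G : Γ → Submodule R (∀ a, M a), DirectSum.IsInternal G ∧
        ∀ γ, Submodule.pi Set.univ (fun a => F a γ) = ⨆ η ∈ Set.Ici γ, G η) ↔
    ∀ a, ∃ G : Γ → Submodule R (M a), DirectSum.IsInternal G ∧ ∀ γ, F a γ = ⨆ η ∈ Set.Ici γ, G η := by
  classical
  have hpi : ∀ (S : Γ → ∀ a, Submodule R (M a)) (s : Set Γ),
      Submodule.pi Set.univ (fun a => ⨆ η ∈ s, S η a) = ⨆ η ∈ s, Submodule.pi Set.univ (S η) := by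
    intro S s
    simp only [← Submodule.iSup_map_single, Submodule.map_iSup]
    rw [iSup_comm]
    refine iSup_congr fun η => ?_
    rw [iSup_comm]
  constructor
  · rintro ⟨G, hG, hFG⟩ a
    let e := LinearEquiv.ofBijective (DirectSum.coeLinearMap G) hG
    let comp : Γ → (∀ a, M a) →ₗ[R] (∀ a, M a) := fun γ =>
      (G γ).subtype.comp ((DirectSum.component R Γ (fun γ => G γ) γ).comp e.symm.toLinearMap)
    have hcomp : ∀ {γ : Γ} {y}, y ∈ G γ → ∀ η, comp η y = if γ = η then y else 0 := by
      intro γ y hy η
      split_ifs with h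
      · subst h
        show ((e.symm y γ : G γ) : ∀ a, M a) = y
        rw [hG.ofBijective_coeLinearMap_of_mem hy]
      · show ((e.symm y η : G η) : ∀ a, M a) = 0
        rw [hG.ofBijective_coeLinearMap_of_mem_ne h hy]; rfl
    have hcmem : ∀ γ y, comp γ y ∈ G γ := fun γ y => ((e.symm y) γ).2
    have hsum : ∀ (y : ∀ a, M a) (s : Finset Γ), DFinsupp.support (e.symm y) ⊆ s →
        y = ∑ η ∈ s, comp η y := by
      intro y s hs
      conv_lhs => rw [← e.apply_symm_apply y]
      show DirectSum.coeLinearMap G (e.symm y) = _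
      rw [DirectSum.coeLinearMap_eq_dfinsuppSum, DFinsupp.sum]
      refine Finset.sum_subset hs fun η _ hη => ?_
      rw [DFinsupp.notMem_support_iff.1 hη]; rfl
    -- a finite set containing all the jumps
    obtain ⟨gs, hgs⟩ : (⊤ : Submodule R (∀ a, M a)).FG := Module.Finite.fg_top
    let T : Finset Γ := gs.biUnion fun y => DFinsupp.support (e.symm y)
    have hT : ∀ y η, η ∉ T → comp η y = 0 := by
      intro y η hη
      have h : Submodule.span R (gs : Set (∀ a, M a)) ≤ LinearMap.ker (comp η) := by
        rw [Submodule.span_le]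
        intro z hz
        have : (e.symm z) η = 0 := DFinsupp.notMem_support_iff.1 fun h =>
          hη (Finset.mem_biUnion.2 ⟨z, hz, h⟩)
        show ((e.symm z η : G η) : ∀ a, M a) = 0
        rw [this]; rfl
      rw [hgs] at h
      exact h Submodule.mem_top
    have hsumT : ∀ y, y = ∑ η ∈ T, comp η y := by
      intro y
      refine hsum y T fun η hη => ?_
      by_contra h
      exact DFinsupp.mem_support_iff.1 hη (Subtype.ext (hT y η h))
    have hmemF : ∀ γ y, (∀ η, η < γ → comp η y = 0) →
        y ∈ Submodule.pi Set.univ (fun a => F a γ) := by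
      intro γ y hy
      rw [hsumT y, hFG]
      refine Submodule.sum_mem _ fun η _ => ?_
      rcases lt_or_ge η γ with h | h
      · rw [hy η h]; exact zero_mem _
      · exact Submodule.mem_iSup_of_mem η (Submodule.mem_iSup_of_mem h (Subtype.mem _))
    have hFmem : ∀ γ y, y ∈ Submodule.pi Set.univ (fun a => F a γ) → ∀ η, η < γ → comp η y = 0 := by
      intro γ y hy η hη
      rw [hFG] at hy
      have h : (⨆ ζ ∈ Set.Ici γ, G ζ) ≤ LinearMap.ker (comp η) := by
        refine iSup₂_le fun ζ hζ z hz => ?_
        show comp η z = 0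
        rw [hcomp hz, if_neg (lt_of_lt_of_le hη hζ).ne']
      exact h hy
    let L : Γ → M a →ₗ[R] M a := fun γ =>
      (LinearMap.proj a).comp ((comp γ).comp (LinearMap.single R M a))
    have hsingle : ∀ {γ x}, x ∈ F a γ → (Pi.single a x : ∀ a, M a) ∈ Submodule.pi Set.univ (fun a => F a γ) := by
      intro γ x hx b _
      rcases eq_or_ne b a with rfl | hb
      · simpa using hx
      · simp [Pi.single_eq_of_ne hb]
    have hLmem : ∀ γ x, L γ x ∈ F a γ := by
      intro γ x
      have : comp γ (Pi.single a x) ∈ Submodule.pi Set.univ (fun a => F a γ) :=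
        hmemF _ _ fun η hη => by rw [hcomp (hcmem γ _), if_neg hη.ne']
      exact this a trivial
    -- one step
    have hstep : ∀ γ x, x ∈ F a γ → x - L γ x = 0 ∨ ∃ γ₁ ∈ T, γ < γ₁ ∧ x - L γ x ∈ F a γ₁ := by
      intro γ x hx
      set y : ∀ a, M a := Pi.single a x - comp γ (Pi.single a x)
      have hy : ∀ η, η ≤ γ → comp η y = 0 := by
        intro η hη
        rw [map_sub, hcomp (hcmem γ _)]
        rcases hη.lt_or_eq with h | rfl
        · rw [hFmem γ _ (hsingle hx) η h, if_neg h.ne', sub_zero]
        · rw [if_pos rfl, sub_self]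
      have hya : y a = x - L γ x := by simp [y, L]
      rcases (T.filter fun η => comp η y ≠ 0).eq_empty_or_nonempty with h | h
      · left
        rw [← hya, hsumT y, Finset.sum_eq_zero (fun η hη => ?_), Pi.zero_apply]
        by_contra h0
        exact absurd (Finset.mem_filter.2 ⟨hη, h0⟩) (by rw [h]; simp)
      · right
        refine ⟨_, (Finset.mem_filter.1 (Finset.min'_mem _ h)).1, ?_, ?_⟩
        · by_contra hle
          exact (Finset.mem_filter.1 (Finset.min'_mem _ h)).2 (hy _ (not_lt.1 hle))
        · rw [← hya]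
          refine hmemF _ y (fun η hη => ?_) a trivial
          by_contra h0
          have hηT : η ∈ T := by
            by_contra h'
            exact h0 (hT _ _ h')
          exact absurd (Finset.min'_le _ _ (Finset.mem_filter.2 ⟨hηT, h0⟩)) (not_le.2 hη)
    let G' : Γ → Submodule R (M a) := fun γ => (F a γ).map (L γ)
    have hspan : ∀ (m : ℕ) γ x, (T.filter fun η => γ < η).card ≤ m → x ∈ F a γ →
        x ∈ ⨆ η ∈ Set.Ici γ, G' η := by
      intro m
      induction m with
      | zero =>
        intro γ x hm hx
        rcases hstep γ x hx with h | ⟨γ₁, h1, h2, -⟩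
        · rw [sub_eq_zero.1 h]
          exact Submodule.mem_iSup_of_mem γ (Submodule.mem_iSup_of_mem Set.self_mem_Ici ⟨x, hx, rfl⟩)
        · exact absurd (Finset.mem_filter.2 ⟨h1, h2⟩)
            (by rw [Finset.card_eq_zero.1 (Nat.le_zero.1 hm)]; simp)
      | succ m ih =>
        intro γ x hm hx
        have hL : L γ x ∈ ⨆ η ∈ Set.Ici γ, G' η :=
          Submodule.mem_iSup_of_mem γ (Submodule.mem_iSup_of_mem Set.self_mem_Ici ⟨x, hx, rfl⟩)
        rcases hstep γ x hx with h | ⟨γ₁, h1, h2, h3⟩
        · rwa [sub_eq_zero.1 h]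
        · rw [show x = L γ x + (x - L γ x) by abel]
          refine add_mem hL (?_ : x - L γ x ∈ _)
          have hlt : (T.filter fun η => γ₁ < η).card < (T.filter fun η => γ < η).card := by
            refine Finset.card_lt_card ⟨fun η hη => ?_, fun hsub => ?_⟩
            · exact Finset.mem_filter.2 ⟨(Finset.mem_filter.1 hη).1, h2.trans (Finset.mem_filter.1 hη).2⟩
            · exact lt_irrefl _ (Finset.mem_filter.1 (hsub (Finset.mem_filter.2 ⟨h1, h2⟩))).2
          exact SetLike.le_def.1 (biSup_mono fun η hη => le_trans h2.le hη) (ih γ₁ _ (by omega) h3)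
    refine ⟨G', DirectSum.isInternal_submodule_of_iSupIndep_of_iSup_eq_top ?_ ?_, fun γ => ?_⟩
    · rw [iSupIndep_iff_dfinsupp_lsum_injective, injective_iff_map_eq_zero]
      intro z hz
      by_contra hne
      set s := DFinsupp.support z
      have hs : s.Nonempty := Finset.nonempty_of_ne_empty fun h => hne (DFinsupp.support_eq_empty.1 h)
      set γ₀ := s.min' hs
      obtain ⟨x, hx, hxz⟩ := (z γ₀).2
      have hrest : ∀ w : M a, (w ∈ ⨆ η ∈ Set.Ioi γ₀, F a η) → comp γ₀ (Pi.single a w) = 0 := by
        intro w hw
        have h : (⨆ η ∈ Set.Ioi γ₀, F a η) ≤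
            LinearMap.ker ((comp γ₀).comp (LinearMap.single R M a)) :=
          iSup₂_le fun η hη v hv => hFmem η _ (hsingle hv) γ₀ hη
        exact h hw
      have h0 : (z γ₀ : M a) = - ∑ η ∈ s.erase γ₀, (z η : M a) := by
        rw [eq_neg_iff_add_eq_zero, Finset.add_sum_erase s (fun η => (z η : M a)) (show γ₀ ∈ s from Finset.min'_mem s hs)]
        have hz' := hz
        rw [DFinsupp.lsum_apply_apply, DFinsupp.sumAddHom_apply, DFinsupp.sum] at hz'
        simpa using hz'
      have h1 : comp γ₀ (Pi.single a (z γ₀ : M a)) = 0 := by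
        refine hrest _ ?_
        rw [h0]
        refine neg_mem (Submodule.sum_mem _ fun η hη => ?_)
        obtain ⟨v, -, hv⟩ := (z η).2
        refine Submodule.mem_iSup_of_mem η (Submodule.mem_iSup_of_mem ?_ (hv ▸ hLmem η v))
        exact lt_of_le_of_ne (Finset.min'_le _ _ (Finset.mem_of_mem_erase hη))
          (Finset.ne_of_mem_erase hη).symm
      have h2 : comp γ₀ (Pi.single a (x - L γ₀ x)) = 0 := by
        rcases hstep γ₀ x hx with h | ⟨γ₁, -, hlt, h3⟩
        · rw [h, Pi.single_zero, map_zero]
        · exact hrest _ (Submodule.mem_iSup_of_mem γ₁ (Submodule.mem_iSup_of_mem hlt h3))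
      rw [hxz, Pi.single_sub, map_sub, h1, sub_zero] at h2
      have h4 : (z γ₀ : M a) = 0 := by rw [← hxz]; simp [L, h2]
      exact DFinsupp.mem_support_iff.1 (Finset.min'_mem s hs) (Subtype.ext h4)
    · rw [eq_top_iff]
      intro x _
      rcases T.eq_empty_or_nonempty with h | h
      · have hx := congrFun (hsumT (Pi.single a x)) a
        rw [h, Finset.sum_empty, Pi.single_eq_same] at hx
        rw [hx]; exact zero_mem _
      · have hx : x ∈ F a (T.min' h) := by
          simpa using hmemF (T.min' h) (Pi.single a x) (fun η hη => hT _ _ fun h' =>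
            absurd (Finset.min'_le _ _ h') (not_le.2 hη)) a trivial
        exact (iSup₂_le fun η _ => le_iSup G' η) (hspan _ _ x le_rfl hx)
    · refine le_antisymm (fun x hx => hspan _ _ x le_rfl hx) (iSup₂_le fun η hη => ?_)
      rintro _ ⟨v, -, rfl⟩
      exact hF a hη (hLmem η v)
  · intro h
    choose G hG hFG using h
    refine ⟨fun γ => Submodule.pi Set.univ (fun a => G a γ),
      DirectSum.isInternal_submodule_of_iSupIndep_of_iSup_eq_top ?_ ?_, fun γ => ?_⟩
    · intro η
      have h1 : (⨆ j, ⨆ (_ : j ≠ η), Submodule.pi Set.univ fun a => G a j)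
          = Submodule.pi Set.univ (fun a => ⨆ j ∈ {j | j ≠ η}, G a j) :=
        (hpi (fun j a => G a j) {j | j ≠ η}).symm
      rw [disjoint_iff, h1]
      rw [eq_bot_iff]
      rintro x ⟨hx1, hx2⟩
      rw [Submodule.mem_bot]
      funext a
      have := (hG a).submodule_iSupIndep η
      exact Submodule.disjoint_def.1 this _ (hx1 a trivial) (hx2 a trivial)
    · have h1 := hpi (fun j a => G a j) Set.univ
      simp only [Set.mem_univ, iSup_pos] at h1
      rw [← h1]
      ext x
      simp [(hG _).submodule_iSup_eq_top]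
    · simp only [hFG]
      exact hpi (fun j a => G a j) (Set.Ici γ)

end Groth.Agent.S19158
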