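import Groth.Statements.S19161
import Groth.Agent.Lib.RootDatum.Dominant
import Groth.Agent.S19156

set_option autoImplicit false
open RootPairing
open RootD

namespace Groth.Agent.S19161

open GrothLib.RootDatum


/-- Let P be a root datum (root pairing over ℤ, finitely many roots), S a system of positive roots, W
the Weyl group, Γ a non-trivial totally ordered commutative group and f₁, f₂ : M → Γ additive maps
which are dominant (f_i(α) ≥ 0 for α ∈ S). Then f₁ ≤ f₂ in the weak dominance order (f₁(m) ≤ f₂(m)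
for every dominant weight m, i.e. every m with ⟨m, α∨⟩ ≥ 0 for all α ∈ S) if and only if, for every
non-empty finite W-stable subset X ⊆ M, the maximum of f₁ on X is at most the maximum of f₂ on X.
(The source phrases the right-hand side through W-invariant elements x of ℕ[M] and the largest
element of the support of f_i(x) in ℤ[Γ]; for ℕ-coefficients that largest element is the maximum of
f_i over the support of x.) -/
theorem result {ι M N : Type*} [AddCommGroup M] [AddCommGroup N]
    (P : RootPairing ι ℤ M N) [Finite ι] (S : Set ι) (hS : RootD.IsPosSys P S)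
    {Γ : Type*} [AddCommGroup Γ] [LinearOrder Γ] [IsOrderedAddMonoid Γ] [Nontrivial Γ] (f₁ f₂ : M →+ Γ)
    (hf₁ : ∀ i ∈ S, 0 ≤ f₁ (P.root i)) (hf₂ : ∀ i ∈ S, 0 ≤ f₂ (P.root i)) :
    (∀ m : M, (∀ i ∈ S, 0 ≤ P.coroot' i m) → f₁ m ≤ f₂ m) ↔
    ∀ (X : Finset M) (hX : X.Nonempty), (∀ g : P.Aut, g ∈ P.weylGroup → ∀ m ∈ X, RootPairing.Equiv.weightHom P g m ∈ X) →
      X.sup' hX f₁ ≤ X.sup' hX f₂ := by
  classical
  haveI := Fintype.ofFinite ι
  have key : ∀ {f : M →+ Γ}, (∀ i ∈ S, 0 ≤ f (P.root i)) → ∀ g : P.Aut, g ∈ P.weylGroup →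
      ∀ m : M, (∀ i ∈ S, 0 ≤ P.coroot' i m) → f (g • m) ≤ f m :=
    fun {f} hf => (Groth.Agent.S19156.result P S hS f).2.mp hf
  constructor
  · intro H X hX hstab
    obtain ⟨x, hx, hmax⟩ := Finset.exists_mem_eq_sup' hX f₁
    rw [hmax]
    obtain ⟨g, hg, hdom⟩ := exists_dominant_conj hS x
    have h1 : f₁ x ≤ f₁ (g • x) := by
      have := key hf₁ g⁻¹ (inv_mem hg) (g • x) hdom
      rwa [inv_smul_smul] at this
    exact h1.trans ((H _ hdom).trans (Finset.le_sup' f₂ (hstab g hg x hx)))
  · intro H m hm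
    let X : Finset M := (finite_weylGroup P).toFinset.image fun g => g • m
    have hmX : m ∈ X := Finset.mem_image.mpr ⟨1, by simp, one_smul _ m⟩
    have hle := H X ⟨m, hmX⟩ (fun g hg y hy => by
      obtain ⟨g', hg', rfl⟩ := Finset.mem_image.mp hy
      refine Finset.mem_image.mpr ⟨g * g', ?_, mul_smul g g' m⟩
      simp only [Set.Finite.mem_toFinset, Set.mem_ofPred_eq] at hg' ⊢
      exact mul_mem hg hg')
    refine (Finset.le_sup' f₁ hmX).trans (hle.trans ?_)
    refine Finset.sup'_le _ _ fun y hy => ?_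
    obtain ⟨g, hg, rfl⟩ := Finset.mem_image.mp hy
    simp only [Set.Finite.mem_toFinset, Set.mem_ofPred_eq] at hg
    exact key hf₂ g hg m hm

end Groth.Agent.S19161
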