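import Groth.Statements.S19163
import Groth.Agent.Lib.EssFree.Transporter

set_option autoImplicit false
open CategoryTheory MonoidalCategory CartesianMonoidalCategory MonObj GrpObj AlgebraicGeometry
universe u
open SGA3x

namespace Groth.Agent.S19163


open CategoryTheory.Limits

/-- Diagonalisable groups are essentially free. -/
theorem essFree_DS (S : Scheme.{u}) (M : Type) [AddCommGroup M] :
    SGA3x.IsEssentiallyFree (Red.DS S M).hom := by
  intro s
  obtain ⟨U, hU, hsU, -⟩ := exists_isAffineOpen_mem_and_subset (x := s) (U := (⊤ : S.Opens)) trivial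
  haveI : IsAffine (U : Scheme.{u}) := hU
  haveI : IsAffine (Red.diag (ULift.{u} ℤ) M).left := inferInstanceAs (IsAffine (Spec _))
  let f : (U : Scheme.{u}) ⟶ S := 𝟙 _ ≫ U.ι
  have sq : IsPullback (pullback.fst (Red.DS S M).hom f ≫ pullback.fst (Red.diag (ULift.{u} ℤ) M).hom
      (Limits.IsTerminal.from specULiftZIsTerminal S)) (pullback.snd (Red.DS S M).hom f)
      (Red.diag (ULift.{u} ℤ) M).hom (f ≫ Limits.IsTerminal.from specULiftZIsTerminal S) :=
    (IsPullback.of_hasPullback _ _).paste_horiz (IsPullback.of_hasPullback _ _)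
  haveI : IsAffineHom (Red.diag (ULift.{u} ℤ) M).hom := isAffineHom_of_isAffine _
  haveI : IsAffineHom (pullback.snd (Red.DS S M).hom f) := MorphismProperty.of_isPullback sq inferInstance
  haveI : IsAffine (pullback (Red.DS S M).hom f) := isAffine_of_isAffineHom (pullback.snd (Red.DS S M).hom f)
  refine ⟨U, hsU, hU, U, inferInstance, 𝟙 _, inferInstance, inferInstance, fun x => ⟨⊤, trivial, isAffineOpen_top _, ?_⟩⟩
  haveI : IsIso (⊤ : (pullback (Red.DS S M).hom f).Opens).ι := inferInstanceAs (IsIso (Scheme.topIso _).hom)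
  exact (GrothLib.EssFree.projHom_of_finLocFree (⊤ : (pullback (Red.DS S M).hom f).Opens).ι).comp
    (GrothLib.EssFree.projHom_of_isPullback sq (GrothLib.EssFree.projHom_diag M))


/-- Let Γ be a non-trivial totally ordered commutative group and H ⟶ G a closed immersion of reductive
S-groups (a homomorphism which is a closed immersion). Let A_H with υ_H, resp. A_G with υ_G,
represent the functor of group homomorphisms D_S(Γ) ⟶ H, resp. D_S(Γ) ⟶ G, and let φ : A_H ⟶ A_G be
the S-morphism induced by composing with H ⟶ G (the universal family over A_H followed by H ⟶ G is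
the pull-back of υ_G along φ). Then φ is a closed immersion, locally of finite presentation. -/
theorem result {S : Scheme.{u}}
    (Γ : Type) [AddCommGroup Γ] [LinearOrder Γ] [IsOrderedAddMonoid Γ] [Nontrivial Γ]
    (H G : Over S) [GrpObj H] [GrpObj G] (hH : Red.IsReductive H) (hG : Red.IsReductive G)
    (k : H ⟶ G) [IsMonHom k] (hk : IsClosedImmersion k.left)
    (AH : Over S) (υH : Red.DS S Γ ⊗ AH ⟶ H) (hAH : AutFam.RepresentsHom (Red.DS S Γ) H AH υH)
    (AG : Over S) (υG : Red.DS S Γ ⊗ AG ⟶ G) (hAG : AutFam.RepresentsHom (Red.DS S Γ) G AG υG)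
    (φ : AH ⟶ AG) (hφ : (Red.DS S Γ ◁ φ) ≫ υG = υH ≫ k) :
    IsClosedImmersion φ.left ∧ LocallyOfFinitePresentation φ.left := by
  haveI := hk
  haveI : IsAffineHom H.hom := hH.1
  haveI : Smooth H.hom := hH.2.1
  haveI : IsAffineHom G.hom := hG.1
  haveI : Smooth G.hom := hG.2.1
  haveI : LocallyOfFinitePresentation k.left := by
    haveI : LocallyOfFinitePresentation (k.left ≫ G.hom) := by rw [Over.w k]; infer_instance
    exact GrothLib.DiagGrp.lfp_of_comp_of_lft k.left G.hom inferInstance inferInstance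
  haveI : Mono k := Over.mono_of_mono_left k
  let D := Red.DS S Γ
  let ev : AG ⊗ D ⟶ G := lift (snd AG D) (fst AG D) ≫ υG
  let e : pullback ev k ⟶ AG ⊗ D := pullback.fst ev k
  have sqE := (IsPullback.of_hasPullback ev k).map (Over.forget S)
  haveI : IsClosedImmersion e.left := MorphismProperty.of_isPullback sqE.flip hk
  have hefp : LocallyOfFinitePresentation e.left := MorphismProperty.of_isPullback sqE.flip (inferInstanceAs (LocallyOfFinitePresentation k.left))
  obtain ⟨Z, z, hz, hzfp, hZ⟩ := GrothLib.EssFree.exists_closed_forall_points_essFree e (essFree_DS S Γ)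
  haveI := hz
  haveI : Mono z := Over.mono_of_mono_left z
  haveI : QuasiCompact D.hom := by
    haveI : IsAffine (Red.diag (ULift.{u} ℤ) Γ).left := inferInstanceAs (IsAffine (Spec _))
    haveI : IsAffineHom (Red.diag (ULift.{u} ℤ) Γ).hom := isAffineHom_of_isAffine _
    haveI : IsAffineHom D.hom := MorphismProperty.pullback_snd (P := @IsAffineHom) _ _ inferInstance
    infer_instance
  haveI := hzfp inferInstance hefp
  obtain ⟨w, hw⟩ := (hZ AH φ).2 fun T' t y => ⟨pullback.lift (lift (t ≫ φ) y) (lift y t ≫ υH) (by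
    rw [Category.assoc, ← hφ, lift_whiskerLeft_assoc]
    simp only [ev]
    rw [← Category.assoc, comp_lift, lift_snd, lift_fst]), pullback.lift_fst _ _ _⟩
  obtain ⟨l, hl⟩ := (hZ Z z).1 ⟨𝟙 Z, Category.id_comp z⟩ (D ⊗ Z) (snd D Z) (fst D Z)
  let ψ : D ⊗ Z ⟶ H := l ≫ pullback.snd ev k
  have hψ : ψ ≫ k = (D ◁ z) ≫ υG := by
    rw [Category.assoc, ← pullback.condition, ← Category.assoc l, hl]
    simp only [ev, comp_lift_assoc, lift_fst, lift_snd]
    congr 1
  have hψf : AutFam.IsHomFamily D H ψ := fun X g₁ g₂ t => by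
    rw [← cancel_mono k, MonObj.mul_comp]
    simp only [Category.assoc, hψ, lift_whiskerLeft_assoc]
    exact hAG.1 X g₁ g₂ (t ≫ z)
  obtain ⟨a, ha, -⟩ := hAH.2 Z ψ hψf
  have haz : a ≫ φ = z := by
    have hf : AutFam.IsHomFamily D G (ψ ≫ k) := fun X g₁ g₂ t => by
      simp only [hψ, lift_whiskerLeft_assoc]
      exact hAG.1 X g₁ g₂ (t ≫ z)
    obtain ⟨b, -, hb⟩ := hAG.2 Z (ψ ≫ k) hf
    rw [hb (a ≫ φ) (by beta_reduce; rw [MonoidalCategory.whiskerLeft_comp, Category.assoc, hφ, ← Category.assoc, ha]),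
      hb z hψ.symm]
  have hwa : w ≫ a = 𝟙 AH := by
    obtain ⟨b, -, hb⟩ := hAH.2 AH υH hAH.1
    rw [hb (w ≫ a) ?_, hb (𝟙 AH) (by simp)]
    beta_reduce
    rw [← cancel_mono k, MonoidalCategory.whiskerLeft_comp, Category.assoc (Red.DS S Γ ◁ w), ha, Category.assoc, hψ, ← hφ,
      ← Category.assoc, ← MonoidalCategory.whiskerLeft_comp, hw]
  have haw : a ≫ w = 𝟙 Z := by rw [← cancel_mono z, Category.assoc, hw, haz, Category.id_comp]
  haveI : IsIso w := ⟨a, hwa, haw⟩
  haveI : IsIso w.left := inferInstanceAs (IsIso ((Over.forget S).map w))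
  rw [← hw, Over.comp_left]
  exact ⟨inferInstance, inferInstance⟩


end Groth.Agent.S19163
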