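import Groth.Statements.S19167
import Mathlib.Algebra.Module.CharacterModule
import Mathlib.Topology.Algebra.OpenSubgroup

set_option autoImplicit false
universe u v
open ProCompl

namespace Groth.Agent.S19167

open Topology in
/-- Let i : A → B be an injective continuous homomorphism of topological abelian groups inducing the
topology of A from that of B (a strict injection), with open image. Then every character χ : A → ℚ/ℤ
with open kernel extends along i to a character ψ : B → ℚ/ℤ with open kernel. Here ℚ/ℤ is regarded
as a discrete group, so that continuity of a character means that its kernel is open. -/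
theorem result
    {A : Type u} {B : Type v} [AddCommGroup A] [TopologicalSpace A] [IsTopologicalAddGroup A]
    [AddCommGroup B] [TopologicalSpace B] [IsTopologicalAddGroup B]
    (i : A →+ B) (hi : Continuous i) (hinj : Function.Injective i) (hind : IsInducing i)
    (hopen : IsOpen (Set.range i))
    (χ : A →+ ℚ ⧸ AddSubgroup.zmultiples (1 : ℚ)) (hχ : IsOpen (χ.ker : Set A)) :
    ∃ ψ : B →+ ℚ ⧸ AddSubgroup.zmultiples (1 : ℚ), IsOpen (ψ.ker : Set B) ∧ ψ.comp i = χ := by
  obtain ⟨ψ, hψ⟩ := CharacterModule.dual_surjective_of_injective (R := ℤ) i.toIntLinearMap hinj χ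
  have hψi : ψ.comp i = χ := hψ
  refine ⟨ψ, ?_, hψi⟩
  have ho : IsOpenMap i := hind.isOpenMap hopen
  have hle : (χ.ker.map i : AddSubgroup B) ≤ ψ.ker := by
    rintro _ ⟨a, ha, rfl⟩
    show ψ (i a) = 0
    exact (DFunLike.congr_fun hψi a).trans ha
  exact AddSubgroup.isOpen_mono hle (ho _ hχ)

end Groth.Agent.S19167
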