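import Groth.Statements.S19169
import Groth.Agent.Lib.LCGroup21.Basic

set_option autoImplicit false
universe u
open ProCompl

namespace Groth.Agent.S19169

/-- Let B be a Hausdorff, locally compact, totally disconnected topological abelian group which is
compactly generated, i.e. generated as a group by a compact subset. Then the open subgroups of
finite index of B have trivial intersection: every nonzero b lies outside some open subgroup of
finite index. Equivalently, the natural map from B to its completion with respect to open subgroups
of finite index is injective. -/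
theorem result
    {B : Type u} [AddCommGroup B] [TopologicalSpace B] [IsTopologicalAddGroup B]
    [T2Space B] [LocallyCompactSpace B] [TotallyDisconnectedSpace B]
    (hcg : ∃ K : Set B, IsCompact K ∧ AddSubgroup.closure K = ⊤) (b : B) (hb : b ≠ 0) :
    ∃ B' : AddSubgroup B, IsOpen (B' : Set B) ∧ B'.FiniteIndex ∧ b ∉ B' := by
  obtain ⟨K, hK, hKg⟩ := hcg
  obtain ⟨H, hH, hHb⟩ := GrothLib.LCGroup21.exists_addSubgroup_subset (isOpen_compl_singleton (x := b)) (Ne.symm hb)
  haveI := GrothLib.LCGroup21.fg_quotient hK hKg hH
  obtain ⟨N, hN, hbN⟩ := GrothLib.LCGroup21.exists_finiteIndex_not_mem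
    (x := (b : B ⧸ H)) (fun h => hHb ((QuotientAddGroup.eq_zero_iff b).1 h) rfl)
  refine ⟨N.comap (QuotientAddGroup.mk' H), AddSubgroup.isOpen_mono (fun x hx => ?_) hH, ⟨?_⟩, hbN⟩
  · show (x : B ⧸ H) ∈ N
    rw [(QuotientAddGroup.eq_zero_iff x).2 hx]
    exact N.zero_mem
  · rw [AddSubgroup.index_comap_of_surjective _ (QuotientAddGroup.mk'_surjective H)]
    exact hN.index_ne_zero

end Groth.Agent.S19169
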