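import Groth.Statements.S1917
-- import your own Groth.Agent.* helpers here
import Groth.Agent.Lib.ExtP17.Main

set_option autoImplicit false
universe u
open CategoryTheory CategoryTheory.Limits AlgebraicGeometry
open IntMult

namespace Groth.Agent.S1917

/-- Let X, Y be varieties over an algebraically closed field K (integral, separated, of finite type), α
an r-cycle on X and β an s-cycle on Y. If α or β is rationally equivalent to zero then so is the
exterior product α × β, an (r + s)-cycle on X ×_K Y (any cycle with the exterior-product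
coefficients). Dimension functions are transcendence degrees of residue fields over K. -/
theorem result (K : Type u) [Field K] [IsAlgClosed K] (X Y : Scheme.{u}) (f : X ⟶ Spec (CommRingCat.of K)) (g : Y ⟶ Spec (CommRingCat.of K)) [IsIntegral X] [IsIntegral Y] [IsSeparated f] [IsSeparated g] [LocallyOfFiniteType f] [LocallyOfFiniteType g] [QuasiCompact f] [QuasiCompact g] (δX : X → ℤ) (δY : Y → ℤ) (δ : ↥(pullback f g) → ℤ) (hX : Cyc.DeltaCompat f δX (fun _ => 0)) (hY : Cyc.DeltaCompat g δY (fun _ => 0)) (hXY : Cyc.DeltaCompat (pullback.fst f g ≫ f) δ (fun _ => 0)) (r s : ℤ) (α : AlgebraicCycle X ℤ) (β : AlgebraicCycle Y ℤ) (hα : α ∈ Cyc.Zk X δX r) (hβ : β ∈ Cyc.Zk Y δY s) (h0 : Cyc.RatEquivZero δX r α ∨ Cyc.RatEquivZero δY s β) (γ : AlgebraicCycle (pullback f g) ℤ) (hγ : ⇑γ = IntMult.extProd f g δX δY δ ⇑α ⇑β) : Cyc.RatEquivZero δ (r + s) γ := by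
  haveI : CompactSpace X := QuasiCompact.compactSpace_of_compactSpace f
  haveI : CompactSpace Y := QuasiCompact.compactSpace_of_compactSpace g
  have hsq : IsPullback (pullback.fst f g) (pullback.snd f g) f g := IsPullback.of_hasPullback f g
  obtain ⟨-, -, hPs⟩ := GrothLib.ExtP17.setups hX hY hsq hXY
  haveI := hPs.1
  rcases h0 with h | h
  · exact GrothLib.C1.RZ.to_ratEquivZero hPs.2.2
      (GrothLib.ExtP17.rz_extProd hX hY hsq hXY hβ h fun z => congrFun hγ z)
  · refine GrothLib.C1.RZ.to_ratEquivZero hPs.2.2 (add_comm s r ▸ GrothLib.ExtP17.rz_extProd hY hX hsq.flip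
      (hsq.w ▸ hXY) hα h fun z => ?_)
    rw [congrFun hγ z, IntMult.extProd, add_comm (δX _) (δY _), sup_comm, mul_comm (α _) (β _)]

end Groth.Agent.S1917
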