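import Groth.Statements.S19170
import Mathlib.Topology.LocallyConstant.Basic
import Mathlib.GroupTheory.FiniteAbelian.Basic

set_option autoImplicit false
universe u
open ProCompl

namespace Groth.Agent.S19170

/-- Let B be a topological abelian group generated as a group by a compact subset. Then every character
χ : B → ℚ/ℤ with open kernel (a continuous character for discrete ℚ/ℤ) has kernel of finite index;
consequently each such character factors through B^∧, the completion of B taken along its
finite-index open subgroups, i.e. (B^∧)^D = B^D. (The published statement assumes moreover that B is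
Hausdorff, locally compact and totally disconnected; only compact generation is needed for this
assertion, so those assumptions are dropped here.) -/
theorem result
    {B : Type u} [AddCommGroup B] [TopologicalSpace B] [IsTopologicalAddGroup B]
    (hcg : ∃ K : Set B, IsCompact K ∧ AddSubgroup.closure K = ⊤)
    (χ : B →+ ℚ ⧸ AddSubgroup.zmultiples (1 : ℚ)) (hχ : IsOpen (χ.ker : Set B)) : χ.ker.FiniteIndex := by
  obtain ⟨K, hK, hKg⟩ := hcg
  have hlc : IsLocallyConstant χ := IsLocallyConstant.iff_isOpen_fiber_apply.mpr fun x => by
    have : χ ⁻¹' {χ x} = (fun y => y - x) ⁻¹' (χ.ker : Set B) := by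
      ext y; simp [sub_eq_zero]
    rw [this]; exact hχ.preimage (by fun_prop)
  haveI := isCompact_iff_compactSpace.mp hK
  have hfin : (χ '' K).Finite := by
    have := (hlc.comp_continuous continuous_subtype_val).range_finite (X := K)
    rwa [Set.range_comp, Subtype.range_coe] at this
  have hrange : χ.range = AddSubgroup.closure (χ '' K) := by
    rw [← AddMonoidHom.map_closure, hKg, ← AddMonoidHom.range_eq_map]
  haveI : AddGroup.FG χ.range := by
    rw [AddGroup.fg_iff_addSubgroup_fg]
    exact ⟨hfin.toFinset, by rw [hrange, Set.Finite.coe_toFinset]⟩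
  have ht : IsAddTorsion χ.range := by
    intro x
    obtain ⟨q, hq⟩ := QuotientAddGroup.mk_surjective (x : ℚ ⧸ AddSubgroup.zmultiples (1 : ℚ))
    rw [isOfFinAddOrder_iff_nsmul_eq_zero]
    refine ⟨q.den, q.den_pos, Subtype.ext ?_⟩
    rw [AddSubgroup.coe_nsmul, ← hq, AddSubgroup.coe_zero, ← QuotientAddGroup.mk_nsmul,
      QuotientAddGroup.eq_zero_iff]
    exact ⟨q.num, by simp only [zsmul_one, nsmul_eq_mul]; rw [mul_comm]; exact (Rat.mul_den_eq_num q).symm⟩
  haveI : Finite χ.range := AddCommGroup.finite_of_fg_isAddTorsion _ ht
  constructor
  rw [AddSubgroup.index_ker]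
  exact Nat.card_pos.ne'

end Groth.Agent.S19170
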