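import Groth.Statements.S19172
import Groth.Agent.Lib.LCGroup21.Basic

set_option autoImplicit false
universe u v w
open ProCompl

namespace Groth.Agent.S19172

open W4c61motalbduality in
/-- Let i : A → B and p : B → C be continuous homomorphisms of topological abelian groups with p
surjective and open and with the kernel of p equal to the image of i. Then the induced sequence of
completions with respect to open subgroups of finite index, A^∧ → B^∧ → C^∧ → 0, is exact: the map
B^∧ → C^∧ is surjective and its kernel is the image of A^∧. The completion is the group of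
compatible families of residues modulo all open subgroups of finite index. (The published statement
takes i injective, as the first map of an exact sequence 0 → A → B → C → 0 of topological abelian
groups; here it is only assumed that the image of i is the kernel of p, which is all the proof
uses.) -/
theorem result
    {A : Type u} {B : Type v} {C : Type w}
    [AddCommGroup A] [TopologicalSpace A] [IsTopologicalAddGroup A]
    [AddCommGroup B] [TopologicalSpace B] [IsTopologicalAddGroup B]
    [AddCommGroup C] [TopologicalSpace C] [IsTopologicalAddGroup C]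
    (i : A →+ B) (hi : Continuous i) (p : B →+ C) (hp : Continuous p)
    (hpo : IsOpenMap p) (hps : Function.Surjective p) (hex : p.ker = i.range) :
    Function.Surjective (FICompl.map p hp) ∧ (FICompl.map p hp).ker = (FICompl.map i hi).range := by
  refine ⟨fun y => GrothLib.LCGroup21.mem_range_map p hp y fun V => ?_, le_antisymm (fun x hx => ?_) ?_⟩
  · obtain ⟨c, hc⟩ := QuotientAddGroup.mk_surjective (y.1 V)
    obtain ⟨b, rfl⟩ := hps c
    exact ⟨b, hc⟩
  · refine GrothLib.LCGroup21.mem_range_map i hi x fun U => ?_
    haveI := U.finiteIndex'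
    let V : OpenFI C :=
      { toAddSubgroup := U.toAddSubgroup.map p
        isOpen' := hpo _ U.isOpen'
        finiteIndex' := ⟨fun h0 => U.finiteIndex'.index_ne_zero
          (Nat.eq_zero_of_zero_dvd (h0 ▸ U.toAddSubgroup.index_map_dvd hps))⟩ }
    have hle : U.toAddSubgroup ≤ (V.comap p hp).toAddSubgroup := fun u hu => ⟨u, hu, rfl⟩
    obtain ⟨b, hb⟩ := QuotientAddGroup.mk_surjective (x.1 U)
    have h1 := x.2 U (V.comap p hp) hle
    rw [← hb, QuotientAddGroup.map_mk, AddMonoidHom.id_apply] at h1
    have h2 : QuotientAddGroup.map (V.comap p hp).toAddSubgroup V.toAddSubgroup p (V.comap_le p)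
        (x.1 (V.comap p hp)) = 0 :=
      congrFun (congrArg Subtype.val (show FICompl.map p hp x = 0 from hx)) V
    rw [← h1, QuotientAddGroup.map_mk, QuotientAddGroup.eq_zero_iff] at h2
    obtain ⟨u, hu, hub⟩ := h2
    have h3 : b - u ∈ p.ker := by rw [AddMonoidHom.mem_ker, map_sub, hub, sub_self]
    rw [hex] at h3
    obtain ⟨a, ha⟩ := h3
    refine ⟨a, ?_⟩
    rw [ha, ← hb, QuotientAddGroup.eq_iff_sub_mem, sub_sub_cancel_left]
    exact U.toAddSubgroup.neg_mem hu
  · rintro _ ⟨z, rfl⟩
    refine Subtype.ext (funext fun V => ?_)
    show QuotientAddGroup.map _ _ p _ (QuotientAddGroup.map _ _ i _ (z.1 ((V.comap p hp).comap i hi))) = 0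
    obtain ⟨a, ha⟩ := QuotientAddGroup.mk_surjective (z.1 ((V.comap p hp).comap i hi))
    rw [← ha, QuotientAddGroup.map_mk, QuotientAddGroup.map_mk,
      show p (i a) = 0 from hex.ge ⟨a, rfl⟩, QuotientAddGroup.mk_zero]

end Groth.Agent.S19172
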