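import Groth.Statements.S19173
import Groth.Agent.Lib.LCGroup21.Basic

set_option autoImplicit false
universe u v
open ProCompl

namespace Groth.Agent.S19173

open W4c61motalbduality Topology in
/-- Let B be a Hausdorff, locally compact, totally disconnected topological abelian group generated as a
group by a compact subset, and let i : A → B be an injective continuous homomorphism inducing the
topology of A from that of B (a strict injection) with closed image. Then the map induced by i on
completions with respect to open subgroups of finite index is injective; together with right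
exactness for open surjections this makes 0 → A^∧ → B^∧ → C^∧ → 0 exact for a topological exact
sequence 0 → A → B → C → 0 with such B, strict closed i and open p. -/
theorem result
    {A : Type u} {B : Type v} [AddCommGroup A] [TopologicalSpace A] [IsTopologicalAddGroup A]
    [AddCommGroup B] [TopologicalSpace B] [IsTopologicalAddGroup B]
    [T2Space B] [LocallyCompactSpace B] [TotallyDisconnectedSpace B]
    (hcg : ∃ K : Set B, IsCompact K ∧ AddSubgroup.closure K = ⊤)
    (i : A →+ B) (hi : Continuous i) (hinj : Function.Injective i) (hind : IsInducing i)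
    (hcl : IsClosed (Set.range i)) :
    Function.Injective (FICompl.map i hi) := by
  obtain ⟨K, hK, hKg⟩ := hcg
  rw [injective_iff_map_eq_zero]
  intro x hx
  refine Subtype.ext (funext fun U => ?_)
  obtain ⟨H, hH, hHU⟩ := GrothLib.LCGroup21.exists_open_comap_eq i hind U.isOpen'
  haveI := GrothLib.LCGroup21.fg_quotient hK hKg hH
  haveI := U.finiteIndex'
  let f : A ⧸ U.toAddSubgroup →+ B ⧸ H := QuotientAddGroup.map U.toAddSubgroup H i hHU.ge
  have hf : Function.Injective f := by
    rw [injective_iff_map_eq_zero]
    intro a ha
    obtain ⟨a, rfl⟩ := QuotientAddGroup.mk_surjective a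
    rw [QuotientAddGroup.map_mk, QuotientAddGroup.eq_zero_iff] at ha
    rw [QuotientAddGroup.eq_zero_iff, ← hHU]
    exact ha
  choose N hN hNa using fun a : {a : A ⧸ U.toAddSubgroup // a ≠ 0} =>
    GrothLib.LCGroup21.exists_finiteIndex_not_mem (x := f a.1) fun h => a.2 (hf (h.trans f.map_zero.symm))
  haveI : (⨅ a, N a).FiniteIndex := AddSubgroup.finiteIndex_iInf hN
  let V : OpenFI B :=
    { toAddSubgroup := (⨅ a, N a).comap (QuotientAddGroup.mk' H)
      isOpen' := AddSubgroup.isOpen_mono (fun b hb => by
        show (b : B ⧸ H) ∈ ⨅ a, N a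
        rw [(QuotientAddGroup.eq_zero_iff b).2 hb]; exact zero_mem _) hH
      finiteIndex' := ⟨by
        rw [AddSubgroup.index_comap_of_surjective _ (QuotientAddGroup.mk'_surjective H)]
        exact AddSubgroup.FiniteIndex.index_ne_zero⟩ }
  have hle : (V.comap i hi).toAddSubgroup ≤ U.toAddSubgroup := fun a ha => by
    by_contra h
    exact hNa ⟨(a : A ⧸ U.toAddSubgroup), fun h0 => h ((QuotientAddGroup.eq_zero_iff a).1 h0)⟩
      (AddSubgroup.mem_iInf.1 ha _)
  obtain ⟨a, ha⟩ := QuotientAddGroup.mk_surjective (x.1 (V.comap i hi))
  have h2 : QuotientAddGroup.map (V.comap i hi).toAddSubgroup V.toAddSubgroup i (V.comap_le i)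
      (x.1 (V.comap i hi)) = 0 :=
    congrFun (congrArg Subtype.val hx) V
  rw [← ha, QuotientAddGroup.map_mk, QuotientAddGroup.eq_zero_iff] at h2
  show x.1 U = 0
  rw [← x.2 (V.comap i hi) U hle, ← ha, QuotientAddGroup.map_mk, AddMonoidHom.id_apply, QuotientAddGroup.eq_zero_iff]
  exact hle h2

end Groth.Agent.S19173
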