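import Groth.Statements.S19174
import Groth.Agent.Lib.H1Sub9.Main
import Groth.Agent.Lib.DelPezzoH112.Main
import Groth.Agent.Lib.CMReg.StructureMain
import Groth.Agent.Lib.Chow.Prod

set_option autoImplicit false
universe u
open CategoryTheory CategoryTheory.Limits AlgebraicGeometry
open Curves

namespace Groth.Agent.S19174

/-- Let k be an algebraically closed field of characteristic zero and C a proper reduced connected
one-dimensional scheme over k with at-worst-nodal singularities and dim_k H^1(C, O_C) = 1 (a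
connected nodal curve of arithmetic genus one). Let π : C → P^1_k be a morphism over k contracting
no connected subcurve of arithmetic genus one: for every reduced connected one-dimensional closed
subscheme Y of C on which π is constant, dim_k H^1(Y, O_Y) = 0. Then H^1(C, π^*O(1)) = 0 and H^1(C,
π^*O(2)) = 0, where O(d) is the d-th twisting sheaf of P^1_k. -/
theorem result (k : Type u) [Field k] [IsAlgClosed k] [CharZero k]
    (C : Scheme.{u}) [C.Over (Spec (CommRingCat.of k))] [IsProper (C ↘ (Spec (CommRingCat.of k)))]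
    [AlgebraicGeometry.IsReduced C] [ConnectedSpace C] (hdim : topologicalKrullDim C = 1)
    (hC : Curv2.AtWorstNodal k C) (hg : Curv2.genus k C = 1)
    (π : C ⟶ CohB1.ProjSpace 1 k) (hπ : π ≫ CohB1.ProjSpace.toSpec 1 k = C ↘ (Spec (CommRingCat.of k)))
    (hcontr : ∀ J : C.IdealSheafData, AlgebraicGeometry.IsReduced J.subscheme → ConnectedSpace J.subscheme →
      topologicalKrullDim J.subscheme = 1 →
      (∀ x y : J.subscheme, (J.subschemeι ≫ π).base x = (J.subschemeι ≫ π).base y) →
      @Curv2.genus k _ J.subscheme ⟨J.subschemeι ≫ (C ↘ (Spec (CommRingCat.of k)))⟩ = 0) :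
    Subsingleton (Coh.HH C ((Scheme.Modules.pullback π).obj (Twist.twistProjSpace 1 k 1)) 1) ∧
      Subsingleton (Coh.HH C ((Scheme.Modules.pullback π).obj (Twist.twistProjSpace 1 k 2)) 1) := by
  haveI := GrothLib.Euler.isNoetherian_of_proper (X := C) k
  haveI : IsProper (π ≫ CohB1.ProjSpace.toSpec 1 k) := by rw [hπ]; infer_instance
  haveI : IsProper (CohB1.ProjSpace.toSpec 1 k) := GrothLib.Chow.isProper_toSpec 1 k
  haveI : IsProper π := IsProper.of_comp π (CohB1.ProjSpace.toSpec 1 k)
  let O1 := Twist.twistProjSpace 1 k 1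
  have hA : CohB1.IsAmple O1 := GrothLib.Ample.isAmple_twistProjSpace_one 1 k
  let L := (Scheme.Modules.pullback π).obj O1
  have hL : PicF.IsInvertible L := GrothLib.Kleiman.isInv_pullback π hA.1
  have hgg : Curv2.IsGloballyGenerated L :=
    GrothLib.GGDesc10.isGloballyGenerated_pullback π (GrothLib.DelPezzoH112.tw_one_gg 1 k)
  have h1 : Subsingleton (Coh.HH C L 1) := by
    refine GrothLib.H1Sub9.subsingleton_H1 k C hdim hg.le hL hgg fun J hJr hJc hJd hgne => ⟨fun e => hgne ?_⟩
    haveI := hJr
    haveI := hJc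
    letI : J.subscheme.Over (Spec (CommRingCat.of k)) := ⟨J.subschemeι ≫ C ↘ Spec (CommRingCat.of k)⟩
    haveI : IsProper (J.subscheme ↘ Spec (CommRingCat.of k)) :=
      inferInstanceAs (IsProper (J.subschemeι ≫ C ↘ Spec (CommRingCat.of k)))
    exact hcontr J hJr hJc hJd (GrothLib.H1Sub9.const_of_pullback_trivial k hJd (J.subschemeι ≫ π) hA
      ⟨((Scheme.Modules.pullbackComp J.subschemeι π).app O1).symm ≪≫ e⟩)
  refine ⟨h1, ?_⟩
  obtain ⟨t⟩ := GrothLib.CMReg.nonempty_twist_add (n := 1) (k := k) (show (1 : ℤ) + 1 = 2 from rfl)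
  obtain ⟨p⟩ := GrothLib.Ample.nonempty_pullback_tensorMod π hA.1 hA.1
  have hcL : Coh.IsCoh L := GrothLib.Euler.isCoh_of_isInvertible hL
  obtain ⟨N, q, hq⟩ := GrothLib.CurveMult.exists_epi_freeMod hcL hgg
  haveI := hq
  haveI : PreservesColimitsOfSize.{0, 0} (GrothLib.Euler.tF L) := preservesColimitsOfSize_shrink.{0, u, 0, u} _
  haveI : Epi ((GrothLib.Euler.tF L).map q) := (GrothLib.Euler.tF L).map_epi q
  have h2 : Subsingleton (Coh.HH C (CohB1.tensorMod L L) 1) :=
    by
      have hsrc : Subsingleton (Coh.HH C ((GrothLib.Euler.tF L).obj (FlatMod.freeMod C N)) 1) :=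
        GrothLib.CMReg.subsingleton_of_iso (GrothLib.CMReg.tensorSigmaIso (fun _ : Fin N => Coh.structureModule C) L).symm
          (GrothLib.CMReg.subsingleton_HH_sigma _ fun _ =>
            GrothLib.CMReg.subsingleton_of_iso (GrothLib.OX.tensorUnitLeftIso L).symm h1)
      have h3 := GrothLib.CurveMult.subsingleton_H1_of_epi k hdim.le ((GrothLib.Euler.tF L).map q) hsrc
      exact h3
  exact GrothLib.CMReg.subsingleton_of_iso (p.symm ≪≫ (Scheme.Modules.pullback π).mapIso t) h2

end Groth.Agent.S19174
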