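import Groth.Statements.S19175
import Groth.Agent.Lib.Seesaw26.Main
import Groth.Agent.Lib.Seesaw26.Closed
import Groth.Agent.Lib.Seesaw26.TrivLocus
import Groth.Agent.Lib.Seesaw26.FieldFunctions
import Groth.Agent.Lib.Sect28.Generic
import Groth.Agent.Lib.HodgeIndex.Pullback
import Groth.Agent.Lib.HodgeIndex.Fibration
import Groth.Agent.Lib.SurfRR28.Proper
import Groth.Agent.Lib.HypSq28.Curve
import Groth.Agent.Lib.PointIdeal16.Main
import Groth.Agent.Lib.Goodman.Main
import Groth.Agent.Lib.NefGrowth.IntNum
import Groth.Agent.Lib.RegLoc.Normal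
-- import your own Groth.Agent.* helpers here

set_option autoImplicit false
set_option backward.isDefEq.respectTransparency false
set_option maxHeartbeats 2000000
universe u
open CategoryTheory CategoryTheory.Limits AlgebraicGeometry
open Surf

namespace Groth.Agent.S19175

open TopologicalSpace
open GrothLib
open GrothLib.Cube (Pic clsMod pull)
open GrothLib.HodgeIndex (rep isInv_rep cls_rep isect deg)
open GrothLib.HypSq28 (dg)
open GrothLib.Kodaira (PLe)

/-- A class of degree zero on every curve pairs to zero with every class. -/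
theorem isect_eq_zero_of_deg (k : Type u) [Field k] {X : Scheme.{u}} [X.Over (Spec (CommRingCat.of k))]
    [IsProper (X ↘ Spec (CommRingCat.of k))] [IsIntegral X]
    (hdim : topologicalKrullDim X = ((2 : ℕ) : WithBot ℕ∞)) {H : X.Modules} (hH : CohB1.IsAmple H)
    {x : Pic X} (hx : ∀ y, Snapper.IsTop 1 y → deg k y x = 0) (z : Pic X) : isect k x z = 0 := by
  have heff : ∀ w : Pic X, PLe (1 : Pic X) w → isect k x w = 0 := fun w hw => by
    obtain ⟨s, hs, T, m, hT, hsum⟩ := HodgeIndex.eff_decomp_pic k hdim hw
    have h0 := hsum x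
    rw [Finset.sum_eq_zero fun y hy => by rw [hx y (hT y hy).1, mul_zero]] at h0
    exact_mod_cast h0
  obtain ⟨j₁, h₁⟩ := Kodaira.exists_pLe_pow hH z
  obtain ⟨j₂, h₂⟩ := Kodaira.exists_pLe_pow hH (1 : Pic X)
  have a := heff _ (h₂ (max j₁ j₂) (le_max_right _ _))
  have c : PLe (z * z⁻¹) (clsMod hH.1 ^ max j₁ j₂ * z⁻¹) := (h₁ (max j₁ j₂) (le_max_left _ _)).mul_right z⁻¹
  rw [mul_inv_cancel] at c
  have b := heff _ c
  rw [HodgeIndex.isect_mul_right k hdim.le, a, HodgeIndex.isect_inv_right k hdim.le] at b
  linarith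

theorem isect_zpow_left (k : Type u) [Field k] {X : Scheme.{u}} [X.Over (Spec (CommRingCat.of k))]
    [IsProper (X ↘ Spec (CommRingCat.of k))] (hd : topologicalKrullDim X ≤ ((2 : ℕ) : WithBot ℕ∞))
    (x z : Pic X) (n : ℤ) : isect k (x ^ n) z = n * isect k x z := by
  obtain ⟨n, rfl | rfl⟩ := Int.eq_nat_or_neg n
  · rw [zpow_natCast, HodgeIndex.isect_pow_left k hd]
  · rw [zpow_neg, zpow_natCast, HodgeIndex.isect_inv_left k hd, HodgeIndex.isect_pow_left k hd]; ring

theorem dg_zpow (k : Type u) [Field k] {C : Scheme.{u}} [C.Over (Spec (CommRingCat.of k))]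
    [IsProper (C ↘ Spec (CommRingCat.of k))] [IsIntegral C] (hd : topologicalKrullDim C = 1)
    (x : Pic C) (n : ℤ) : dg k (x ^ n) = n * dg k x := by
  obtain ⟨n, rfl | rfl⟩ := Int.eq_nat_or_neg n
  · rw [zpow_natCast, HypSq28.dg_pow k hd]
  · rw [zpow_neg, zpow_natCast, HypSq28.dg_inv k hd, HypSq28.dg_pow k hd]; ring


/-- Let k be an algebraically closed field of characteristic zero, X a smooth proper integral surface
over k and B a smooth proper integral curve over k, and f : X → B a k-morphism each of whose fibres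
over a closed point is an integral one-dimensional scheme with at-worst-nodal singularities and
arithmetic genus one (an elliptic fibration all of whose fibres are smooth elliptic or irreducible
nodal). Let s be a section of f and L_S an invertible O_X-module inverse to the ideal of the closed
immersion s (the class of the curve S = s(B)); let L_F be the pullback along f of an invertible
O_B-module inverse to the ideal of a closed point (the class of a fibre); and let L_C be an
invertible O_X-module whose restriction to the fibre over every closed point of some nonempty open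
subset of B is isomorphic to the restriction of L_S (a class agreeing with S on the general fibre).
Then there is an integer m with 2m = (L_S·L_S) − (L_C·L_C) and (L_S·N) = (L_C·N) + m·(L_F·N) for
every invertible O_X-module N: numerically S ≡ C + ((S² − C²)/2)·F. Here (L·N) = χ(O_X) − χ(L) −
χ(N) + χ(L ⊗ N) is the intersection number of invertible modules on the proper surface X. -/
theorem result (k : Type u) [Field k] [IsAlgClosed k] [CharZero k]
    (X B : Scheme.{u}) [X.Over (Spec (CommRingCat.of k))] [B.Over (Spec (CommRingCat.of k))]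
    [IsProper (X ↘ (Spec (CommRingCat.of k)))] [Smooth (X ↘ (Spec (CommRingCat.of k)))] [AlgebraicGeometry.IsIntegral X] (hX2 : topologicalKrullDim X = 2)
    [IsProper (B ↘ (Spec (CommRingCat.of k)))] [Smooth (B ↘ (Spec (CommRingCat.of k)))] [AlgebraicGeometry.IsIntegral B] (hB1 : topologicalKrullDim B = 1)
    (f : X ⟶ B) (hf : f ≫ (B ↘ (Spec (CommRingCat.of k))) = X ↘ (Spec (CommRingCat.of k)))
    (hfib : ∀ b : B, IsClosed ({b} : Set B) →
      AlgebraicGeometry.IsIntegral (f.fiber b) ∧ topologicalKrullDim (f.fiber b) = 1 ∧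
        @Curv2.AtWorstNodal (B.residueField b) _ (f.fiber b) ⟨f.fiberToSpecResidueField b⟩ ∧
        @Curv2.genus (B.residueField b) _ (f.fiber b) ⟨f.fiberToSpecResidueField b⟩ = 1)
    (s : B ⟶ X) (hs : s ≫ f = 𝟙 B)
    (LS : X.Modules) (hLS : PicF.IsInvertible LS) (hLSinv : ClSub.IsInverseOf LS (ClSub.idealMod s.ker))
    (b₀ : B) (hb₀ : IsClosed ({b₀} : Set B)) (M : B.Modules) (hM : PicF.IsInvertible M)
    (hMinv : ClSub.IsInverseOf M (ClSub.idealMod (Scheme.IdealSheafData.vanishingIdeal ⟨{b₀}, hb₀⟩)))
    (LC : X.Modules) (hLC : PicF.IsInvertible LC)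
    (hgen : ∃ U : B.Opens, (U : Set B).Nonempty ∧ ∀ b ∈ U, IsClosed ({b} : Set B) →
      Nonempty ((Scheme.Modules.pullback (f.fiberι b)).obj LC ≅ (Scheme.Modules.pullback (f.fiberι b)).obj LS)) :
    ∃ m : ℤ, 2 * m = FGA.intNum k X 2 ![LS, LS] (Coh.structureModule X) - FGA.intNum k X 2 ![LC, LC] (Coh.structureModule X) ∧
      ∀ N : X.Modules, PicF.IsInvertible N →
        FGA.intNum k X 2 ![LS, N] (Coh.structureModule X) =
          FGA.intNum k X 2 ![LC, N] (Coh.structureModule X) +
            m * FGA.intNum k X 2 ![(Scheme.Modules.pullback f).obj M, N] (Coh.structureModule X) := by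
  haveI := Euler.isNoetherian_of_proper (X := X) k
  haveI := Euler.isNoetherian_of_proper (X := B) k
  haveI : JacobsonSpace B := LocallyOfFiniteType.jacobsonSpace (B ↘ Spec (CommRingCat.of k))
  haveI : IsProper (f ≫ B ↘ Spec (CommRingCat.of k)) := hf.symm ▸ ‹IsProper (X ↘ Spec (CommRingCat.of k))›
  haveI : IsProper f := IsProper.of_comp f (B ↘ Spec (CommRingCat.of k))
  haveI : LocallyOfFinitePresentation f := inferInstance
  have hdim : topologicalKrullDim X = ((2 : ℕ) : WithBot ℕ∞) := hX2.trans (by norm_num)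
  have hd : topologicalKrullDim X ≤ ((2 : ℕ) : WithBot ℕ∞) := hdim.le
  have hsf : ∀ b, f (s b) = b := fun b => by rw [← Scheme.Hom.comp_apply, hs]; rfl
  have hsurj : Function.Surjective f := fun b => ⟨s b, hsf b⟩
  set η := genericPoint B with hηdef
  have hη : f (genericPoint X) = η := by
    obtain ⟨w, hw⟩ := hsurj η
    have h := (genericPoint_specializes (α := X) w).map f.continuous
    rw [hw] at h
    exact (h.antisymm (genericPoint_specializes _)).eq
  haveI : Flat f := CurvePoints.flat_of_dominant hB1.le (fun y => by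
    haveI := HodgeIndex.regular_of_smooth (X := B) k y
    exact RegLoc.isIntegrallyClosed_of_isRegularLocalRing _) f hη
  have hint : ∀ y : B, IsIntegral (f.fiber y) := fun y => by
    by_cases hy : IsClosed ({y} : Set B)
    · exact (hfib y hy).1
    · rw [HodgeIndex.eq_genericPoint_of_not_closed hB1.le hy]
      exact (Sect28.generic_fibre f hη).1
  have hne : ∀ y : B, Nonempty ↥(f.fiber y) := fun y => by haveI := hint y; infer_instance
  have h0 : ∀ y : B, Module.finrank (B.residueField y) Γ(f.fiber y, ⊤) = 1 :=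
    Seesaw26.finrank_eq_one_of_closedPoints f hne fun y hy => by
      haveI := hint y
      exact Seesaw26.finrank_eq_one_of_isAlgClosed f (B ↘ Spec (CommRingCat.of k)) y hy
  -- the classes
  set σ := clsMod hLS with hσ
  set γ := clsMod hLC with hγ
  set d := σ * γ⁻¹ with hddef
  have htriv : ∀ y, Nonempty ((Scheme.Modules.pullback (f.fiberι y)).obj (rep d) ≅
      Coh.structureModule (f.fiber y)) := by
    obtain ⟨U, hUne, hU⟩ := hgen
    have hcl := Seesaw26.isClosed_trivial_fibres f hint (rep d) (isInv_rep d)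
    have hsub : (U : Set B) ∩ closedPoints B ⊆ {y : B | Nonempty ((Scheme.Modules.pullback (f.fiberι y)).obj (rep d) ≅
        Coh.structureModule (f.fiber y))} := by
      rintro y ⟨hyU, hyc⟩
      refine (Cube.clsMod_eq_one_iff (Ample.isInvertible_pullback (f.fiberι y) (isInv_rep d))).1 ?_
      rw [Cube.clsMod_pullback _ (isInv_rep d), cls_rep, hddef, map_mul, map_inv, mul_inv_eq_one, hσ, hγ,
        ← Cube.clsMod_pullback _ hLS, ← Cube.clsMod_pullback _ hLC]
      exact ((Cube.clsMod_eq_iff _ _).2 (hU y hyU hyc)).symm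
    intro y
    have h1 := hcl.closure_subset_iff.2 hsub
    rw [JacobsonSpace.closure_inter_closedPoints_eq_closure (show IsLocallyClosed (U : Set B) from U.2.isLocallyClosed),
      ((show IsOpen (U : Set B) from U.2).dense hUne).closure_eq] at h1
    exact h1 (Set.mem_univ y)
  obtain ⟨Q, hQ, ⟨eQ⟩⟩ := Seesaw26.exists_base f h0 (rep d) (isInv_rep d) htriv
  have hdq : d = pull f (clsMod hQ) := by
    rw [← cls_rep d, ← Cube.clsMod_pullback f hQ]
    exact ((Cube.clsMod_eq_iff (Ample.isInvertible_pullback f hQ) (isInv_rep d)).2 ⟨eQ⟩).symm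
  -- the point
  haveI := isClosed_singleton_iff_isClosedImmersion.1 hb₀
  let I₀ := Scheme.IdealSheafData.vanishingIdeal (⟨{b₀}, hb₀⟩ : Closeds B)
  have hI₀ : PicF.IsInvertible (ClSub.idealMod I₀) := by
    refine PointIdeal16.isInvertible_of_regular hb₀ (HodgeIndex.regular_of_smooth k b₀) ?_
    rw [GrpSchField.ringKrullDim_stalk_eq_of_isClosed (B ↘ Spec (CommRingCat.of k)) isClosed_univ isOpen_univ
        (IrreducibleSpace.isIrreducible_univ B) (Set.mem_univ b₀) hb₀]
    exact (IsHomeomorph.topologicalKrullDim_eq _ (Homeomorph.Set.univ B).isHomeomorph).trans hB1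
  obtain ⟨hM', hMI⟩ := NefGrowth.cls_inverse hI₀ hMinv
  set μ := clsMod hM with hμdef
  have hμ : μ = (clsMod hI₀)⁻¹ := eq_inv_of_mul_eq_one_left hMI
  have hdμ : dg k μ = 1 := by
    rw [hμ, HypSq28.dg_inv k hB1, ← HypSq28.deg_eq_dg k hI₀,
      show ClSub.idealMod I₀ = ClSub.idealMod (PointIdeal16.ptI hb₀) from rfl, PointIdeal16.deg_ptI hb₀ k]
    rfl
  set δ := dg k (clsMod hQ) with hδ
  obtain ⟨A, hA⟩ := Goodman.exists_ample_of_smooth_surface (X := X) k hdim
  set F := pull f μ with hF
  -- numerically a multiple of the fibre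
  have hnum : ∀ z : Pic X, isect k d z = δ * isect k F z := by
    intro z
    set ξ := clsMod hQ * (μ ^ δ)⁻¹ with hξdef
    have hξ : dg k ξ = 0 := by
      rw [hξdef, HypSq28.dg_mul k hB1, HypSq28.dg_inv k hB1, dg_zpow k hB1, hdμ]; ring
    have hmix : Snapper.mixed 1 (Snapper.phi k 1 (fun _ => rep ξ) (Snapper.ptMod η)) = 0 := by
      have hd' : topologicalKrullDim B = ((1 : ℕ) : WithBot ℕ∞) := hB1.trans (by norm_num)
      obtain ⟨-, e1⟩ := Kleiman.curveDeg_pullback_eq k (isInv_rep ξ) (𝟙 B) (Category.id_comp _) hd'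
        (Snapper.isTop_genericPoint hd')
      rw [Kleiman.residueDegree_id, Nat.cast_one, one_mul,
        Kleiman.curveDeg_eq_euler k hB1.le (Kleiman.isInv_pullback _ (isInv_rep ξ)),
        HodgeIndex.euler_eq_chi k (Kleiman.isInv_pullback _ (isInv_rep ξ)), ← HodgeIndex.chi_one,
        Cube.clsMod_pullback _ (isInv_rep ξ), cls_rep, Cube.pull_id] at e1
      exact e1.symm.trans (by exact_mod_cast hξ)
    have hzero : isect k (pull f ξ) z = 0 := isect_eq_zero_of_deg k hdim hA (fun y hy => by
      rw [← cls_rep ξ, ← Cube.clsMod_pullback f (isInv_rep ξ)]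
      obtain ⟨h1, h2⟩ := HodgeIndex.deg_pullback k f hf (isInv_rep ξ) hy
      by_cases hfy : Snapper.IsTop 1 (f y)
      · obtain ⟨r, -, hr⟩ := h2 hfy
        have hfη : f y = η := HodgeIndex.eq_genericPoint_of_not_closed hB1.le
          fun hc => HodgeIndex.not_isTop_of_isClosed hc hfy
        exact hr.trans (by rw [hfη, hmix, mul_zero])
      · exact h1 hfy) z
    rw [hξdef, map_mul, ← hdq, map_inv, map_zpow, HodgeIndex.isect_mul_left k hd,
      HodgeIndex.isect_inv_left k hd, isect_zpow_left k hd, ← hF] at hzero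
    linarith
  -- the square of the fibre
  have hFF : isect k F F = 0 := by
    have hJ := Ample.isInvertible_pullback f hI₀
    have hbij : Function.Bijective (QCoh.stalkLin (OmegaBC.pullι f I₀) (genericPoint X)) := by
      have hsup : f (genericPoint X) ∉ (I₀.support : Set B) := by
        rw [hη, Scheme.IdealSheafData.coe_support_vanishingIdeal]
        show η ∉ ({b₀} : Set B)
        intro h
        have ht : Snapper.IsTop 1 η := Snapper.isTop_genericPoint (hB1.trans (by norm_num))
        rw [Set.mem_singleton_iff.1 h] at ht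
        exact HodgeIndex.not_isTop_of_isClosed hb₀ ht
      have hs' := HodgeIndex.surjective_pullι f I₀ hsup
      refine Euler.stalkLin_genericPoint_bijective hJ Euler.isInvertible_structure fun h0' => ?_
      rw [h0'] at hs'
      obtain ⟨t, ht⟩ := hs' ((OmegaBC.ouni (genericPoint X)) 1)
      rw [show QCoh.stalkLin (0 : (Scheme.Modules.pullback f).obj (ClSub.idealMod I₀) ⟶ _) (genericPoint X) t = 0 from by
        show ((OX.stalk (genericPoint X)).map _).hom t = 0
        rw [Functor.map_zero]; rfl] at ht
      exact one_ne_zero ((OmegaBC.ouni (genericPoint X)).injective (by rw [← ht, map_zero]))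
    have h := HodgeIndex.isect_eq_zero_of_support k hdim hJ (OmegaBC.pullι f I₀) hbij F fun z hz hns => by
      have hz0 : f z ∈ (I₀.support : Set B) := by
        by_contra hc
        exact hns (HodgeIndex.surjective_pullι f I₀ hc)
      rw [Scheme.IdealSheafData.coe_support_vanishingIdeal] at hz0
      rw [hF, hμdef, ← Cube.clsMod_pullback f hM]
      refine (HodgeIndex.deg_pullback k f hf hM hz).1 fun hT => ?_
      rw [Set.mem_singleton_iff.1 hz0] at hT
      exact HodgeIndex.not_isTop_of_isClosed hb₀ hT
    rwa [Cube.clsMod_pullback f hI₀, ← map_inv, ← hμ] at h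
  -- the section
  haveI : IsSeparated f := inferInstance
  haveI : IsClosedImmersion s := by
    haveI : IsClosedImmersion (s ≫ f) := hs.symm ▸ inferInstance
    exact IsClosedImmersion.of_comp s f
  have hsk : s ≫ (X ↘ Spec (CommRingCat.of k)) = B ↘ Spec (CommRingCat.of k) := by
    rw [← hf, ← Category.assoc, hs, Category.id_comp]
  haveI : IsIntegral s.ker.subscheme := by
    haveI : Nonempty ↥s.ker.subscheme := ⟨s.toImage (genericPoint B)⟩
    haveI : IsIso s.toImage := inferInstance
    exact isIntegral_of_isOpenImmersion (inv s.toImage)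
  have hsd : topologicalKrullDim (s.ker.support : Set X) = 1 := by
    rw [Scheme.Hom.support_ker, s.isClosedEmbedding.isClosed_range.closure_eq]
    exact ((IsHomeomorph.topologicalKrullDim_eq _
      s.isClosedEmbedding.isEmbedding.toHomeomorph.isHomeomorph).symm).trans hB1
  have hIs := HodgeIndex.inv_curve k hdim (C := s.ker) inferInstance hsd
  obtain ⟨hLS', hSI⟩ := NefGrowth.cls_inverse hIs hLSinv
  have hσc : HodgeIndex.cCl s.ker = σ := by
    rw [HodgeIndex.cCl, dif_pos hIs, hσ]
    exact (eq_inv_of_mul_eq_one_left hSI).symm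
  have hFσ : isect k F σ = 1 := by
    have h := HodgeIndex.euler_sub_eq_isect k hdim (C := s.ker) inferInstance hsd (Ample.isInvertible_pullback f hM)
    rw [hσc, Cube.clsMod_pullback f hM, ← hμdef, ← hF] at h
    rw [← h, ← Kleiman.euler_pullback_eq_quotMod k s hsk (Ample.isInvertible_pullback f hM),
      ← Kleiman.euler_tensor_structure k (ClSub.quotMod s.ker),
      ← Kleiman.euler_pullback_eq_quotMod k s hsk Euler.isInvertible_structure,
      Euler.euler_of_iso k (Ample.nonempty_pullback_structureModule s).some,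
      HodgeIndex.euler_eq_chi k (Ample.isInvertible_pullback s (Ample.isInvertible_pullback f hM)),
      Cube.clsMod_pullback s (Ample.isInvertible_pullback f hM), Cube.clsMod_pullback f hM, Cube.pull_comp, hs,
      Cube.pull_id, ← HodgeIndex.chi_one]
    exact hdμ
  have hσγ : σ = γ * d := by rw [hddef, mul_comm σ, mul_inv_cancel_left]
  have hdF : isect k d F = 0 := by rw [hnum, hFF, mul_zero]
  have hFγ : isect k F γ = 1 := by
    have h := hFσ
    rw [hσγ, HodgeIndex.isect_mul_right k hd, HodgeIndex.isect_comm k F d, hdF, add_zero] at h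
    exact h
  refine ⟨δ, ?_, fun N hN => ?_⟩
  · rw [SurfRR28.intNum_eq_isect' k hd hLS hLS, SurfRR28.intNum_eq_isect' k hd hLC hLC, ← hσ, ← hγ]
    have h1 : isect k σ σ = isect k γ σ + isect k d σ := by
      conv_lhs => arg 2; rw [hσγ]
      exact HodgeIndex.isect_mul_left k hd γ d σ
    have h2 : isect k γ σ = isect k γ γ + isect k d γ := by
      conv_lhs => arg 3; rw [hσγ]
      rw [HodgeIndex.isect_mul_right k hd, HodgeIndex.isect_comm k γ d]
    rw [h1, h2, hnum σ, hnum γ, hFσ, hFγ]
    ring
  · rw [SurfRR28.intNum_eq_isect' k hd hLS hN, SurfRR28.intNum_eq_isect' k hd hLC hN,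
      SurfRR28.intNum_eq_isect' k hd (Ample.isInvertible_pullback f hM) hN, Cube.clsMod_pullback f hM,
      ← hσ, ← hγ, ← hμdef, ← hF, hσγ, HodgeIndex.isect_mul_left k hd, hnum]

end Groth.Agent.S19175
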