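import Groth.Statements.S19176
import Groth.Agent.Lib.Elem.CuspQuot

set_option autoImplicit false
universe u
open PlaneCurve

namespace Groth.Agent.S19176

open MvPolynomial in
/-- Let k be a field of characteristic p (p = 0 allowed) and F = y² − x³ in k[x, y] (x the variable of
index 0, y of index 1). The singular subscheme of the plane curve F = 0, cut out by F and its two
partial derivatives, is finite over k of degree 4 when p = 2, of degree 3 when p = 3, and of degree
2 otherwise: the k-dimension of k[x, y]/(F, ∂F/∂x, ∂F/∂y) is that number. (The source phrases this
through the complete local ring of a cusp; the row is the computation for the standard cusp y² =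
x³.) -/
theorem result (k : Type u) [Field k] (p : ℕ) [CharP k p] :
    Module.finrank k (MvPolynomial (Fin 2) k ⧸ Ideal.span
      ({X 1 ^ 2 - X 0 ^ 3, pderiv 0 (X 1 ^ 2 - X 0 ^ 3), pderiv 1 (X 1 ^ 2 - X 0 ^ 3)} :
        Set (MvPolynomial (Fin 2) k))) = (if p = 2 then 4 else if p = 3 then 3 else 2) := by
  exact CuspQuot.finrank_jacobian_quotient_cusp p

end Groth.Agent.S19176
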