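import Groth.Statements.S19177
import Mathlib

set_option autoImplicit false
universe u
open CAlg

namespace Groth.Agent.S19177

/-- Let S → R be a homomorphism of commutative rings making R a finitely generated projective S-module
of rank 2 at every prime of S (the affine form of a finite locally free morphism of degree 2). Then
the cokernel of the (injective) structure map S → R, the S-module R/S, is a projective S-module of
rank 1 at every prime of S (locally free of rank 1). -/
theorem result
    (S R : Type u) [CommRing S] [CommRing R] [Algebra S R] [Module.Finite S R] [Module.Projective S R]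
    (h2 : ∀ p : PrimeSpectrum S, Module.rankAtStalk (R := S) R p = 2) :
    Module.Projective S (R ⧸ LinearMap.range (Algebra.linearMap S R)) ∧
      ∀ p : PrimeSpectrum S,
        Module.rankAtStalk (R := S) (R ⧸ LinearMap.range (Algebra.linearMap S R)) p = 1 := by
  classical
  have h1 : Ideal.span (Set.range fun l : R →ₗ[S] S => l 1) = ⊤ := by
    by_contra hne
    obtain ⟨m, hm, hle⟩ := Ideal.exists_le_maximal _ hne
    haveI := hm.isPrime
    obtain ⟨n, f, g, hf, hg, hfg⟩ := Module.Finite.exists_comp_eq_id_of_projective S R
    have h1m : (1 : R) ∈ m • (⊤ : Submodule S R) := by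
      have e : (1 : R) = ∑ i, g 1 i • f (Pi.single i 1) := by
        conv_lhs => rw [← LinearMap.id_apply (R := S) (1 : R), ← hfg, LinearMap.comp_apply,
          pi_eq_sum_univ' (g 1), map_sum]
        simp
      rw [e]
      exact Submodule.sum_mem _ fun i _ => Submodule.smul_mem_smul
        (hle (Ideal.subset_span ⟨LinearMap.proj i ∘ₗ g, rfl⟩)) Submodule.mem_top
    have htop : (⊤ : Submodule S R) ≤ m • ⊤ := fun x _ => by
      have hx : ∀ y ∈ m • (⊤ : Submodule S R), x * y ∈ m • (⊤ : Submodule S R) := fun y hy => by
        refine Submodule.smul_induction_on hy (fun r hr z _ => ?_) fun a b ha hb => ?_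
        · rw [mul_smul_comm]
          exact Submodule.smul_mem_smul hr Submodule.mem_top
        · rw [mul_add]
          exact Submodule.add_mem _ ha hb
      simpa using hx 1 h1m
    obtain ⟨s, hs, hs0⟩ := Submodule.exists_sub_one_mem_and_smul_eq_zero_of_fg_of_le_smul m ⊤
      Module.Finite.fg_top htop
    have hsm : s ∈ m.primeCompl := fun h => hm.ne_top
      ((Ideal.eq_top_iff_one _).2 (by simpa using m.sub_mem h hs))
    haveI : Subsingleton (LocalizedModule m.primeCompl R) :=
      LocalizedModule.subsingleton_iff.2 fun x => ⟨s, hsm, hs0 x Submodule.mem_top⟩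
    have := h2 ⟨m, inferInstance⟩
    rw [Module.rankAtStalk, Module.finrank_zero_of_subsingleton] at this
    omega
  obtain ⟨c, hc⟩ := Finsupp.mem_span_range_iff_exists_finsupp.1
    (h1 ▸ Submodule.mem_top : (1 : S) ∈ Ideal.span (Set.range fun l : R →ₗ[S] S => l 1))
  let r : R →ₗ[S] S := c.sum fun l a => a • l
  have hr : r ∘ₗ Algebra.linearMap S R = LinearMap.id := by
    refine LinearMap.ext_ring ?_
    rw [LinearMap.comp_apply, Algebra.linearMap_apply, map_one, LinearMap.id_apply]
    simpa [r, Finsupp.sum, LinearMap.sum_apply] using hc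
  let i := Algebra.linearMap S R
  let P := R ⧸ LinearMap.range i
  let σ : P →ₗ[S] R := (LinearMap.range i).liftQ (LinearMap.id - i ∘ₗ r) (by
    rintro _ ⟨a, rfl⟩
    have := LinearMap.congr_fun hr a
    simp only [LinearMap.comp_apply, LinearMap.id_apply] at this
    change i a - i (r (i a)) = 0
    rw [show r (i a) = a from this, sub_self])
  have hσ : (LinearMap.range i).mkQ ∘ₗ σ = LinearMap.id := by
    refine Submodule.linearMap_qext _ (LinearMap.ext fun x => ?_)
    simp [σ, Submodule.Quotient.mk_sub, (Submodule.Quotient.mk_eq_zero _).2 (LinearMap.mem_range_self i _)]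
  haveI hP : Module.Projective S P := Module.Projective.of_split σ _ hσ
  refine ⟨hP, fun p => ?_⟩
  have ha : ∀ a, r (i a) = a := LinearMap.congr_fun hr
  have hσx : ∀ x, σ ((LinearMap.range i).mkQ x) = x - i (r x) := fun x => rfl
  let fwd : R →ₗ[S] S × P := r.prod (LinearMap.range i).mkQ
  have e : R ≃ₗ[S] S × P := LinearEquiv.ofLinear fwd (i.coprod σ) (by
    refine LinearMap.ext fun z => ?_
    obtain ⟨a, q⟩ := z
    obtain ⟨x, rfl⟩ := Submodule.mkQ_surjective _ q
    simp only [fwd, LinearMap.comp_apply, LinearMap.coprod_apply, LinearMap.prod_apply, Function.prod, Prod.mk_add_mk, Prod.mk_sub_mk,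
      LinearMap.id_apply, hσx, map_add, map_sub, ha, sub_self, add_zero]
    rw [show (LinearMap.range i).mkQ (i a) = 0 from
        (Submodule.Quotient.mk_eq_zero _).2 (LinearMap.mem_range_self i _),
      show (LinearMap.range i).mkQ (i (r x)) = 0 from
        (Submodule.Quotient.mk_eq_zero _).2 (LinearMap.mem_range_self i _), sub_zero, zero_add])
    (LinearMap.ext fun x => by
      simp only [fwd, LinearMap.comp_apply, LinearMap.coprod_apply, LinearMap.prod_apply, Function.prod, Prod.mk_add_mk, Prod.mk_sub_mk,
        LinearMap.id_apply, hσx, add_sub_cancel])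
  haveI : Nontrivial S := p.nontrivial
  have := h2 p
  rw [Module.rankAtStalk_eq_of_equiv e, Module.rankAtStalk_prod, Pi.add_apply,
    Module.rankAtStalk_self, Pi.one_apply] at this
  show Module.rankAtStalk (R := S) P p = 1
  omega

end Groth.Agent.S19177
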