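import Groth.Statements.S19178
import Mathlib

set_option autoImplicit false
universe u
open Curves

namespace Groth.Agent.S19178

open MvPolynomial

theorem S19178tmp.core (k : Type u) [Field k] (W : WeierstrassCurve k) :
    Irreducible (WeierstrassCurve.Projective.polynomial W) := by
  let F := WeierstrassCurve.Projective.polynomial W
  have hF0 : F ≠ 0 := fun h => by
    have := congrArg (eval ![-1, 0, 0]) h
    simp [F, WeierstrassCurve.Projective.polynomial] at this
  let φ : MvPolynomial (Fin 3) k →ₐ[k] Polynomial (MvPolynomial (Fin 3) k) :=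
    aeval fun i => Polynomial.C (X i) * Polynomial.X
  have hφF : φ F = Polynomial.C F * Polynomial.X ^ 3 := by
    simp [φ, F, WeierstrassCurve.Projective.polynomial]
    ring
  have hev : ∀ G : MvPolynomial (Fin 3) k, Polynomial.eval 1 (φ G) = G := by
    intro G
    induction G using MvPolynomial.induction_on with
    | C a => simp [φ]
    | add p q hp hq => simp [hp, hq]
    | mul_X p i hp => simp [map_mul, hp]; simp [φ]
  let δ : MvPolynomial (Fin 3) k →ₐ[k] Polynomial (Polynomial k) :=
    aeval ![Polynomial.C Polynomial.X, Polynomial.X, 1]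
  have hδF : δ F = WeierstrassCurve.Affine.polynomial W.toAffine := by
    simp [δ, F, WeierstrassCurve.Projective.polynomial, WeierstrassCurve.Affine.polynomial]
    ring
  have hirr := WeierstrassCurve.Affine.irreducible_polynomial (W := W.toAffine)
  have key : ∀ G H : MvPolynomial (Fin 3) k, F = G * H → IsUnit (δ G) → IsUnit G := by
    intro G H hGH hu
    have hG0 : G ≠ 0 := fun h => hF0 (by rw [hGH, h, zero_mul])
    have hH0 : H ≠ 0 := fun h => hF0 (by rw [hGH, h, mul_zero])
    have hφ0 : ∀ P, P ≠ 0 → φ P ≠ 0 := fun P hP h => hP (by rw [← hev P, h, Polynomial.eval_zero])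
    have hprod : φ G * φ H = Polynomial.C F * Polynomial.X ^ 3 := by rw [← map_mul, ← hGH, hφF]
    have hd := congrArg Polynomial.natDegree hprod
    have ht := congrArg Polynomial.natTrailingDegree hprod
    rw [Polynomial.natDegree_mul (hφ0 G hG0) (hφ0 H hH0), Polynomial.natDegree_C_mul_X_pow 3 F hF0] at hd
    rw [Polynomial.natTrailingDegree_mul (hφ0 G hG0) (hφ0 H hH0), Polynomial.C_mul_X_pow_eq_monomial,
      Polynomial.natTrailingDegree_monomial hF0] at ht
    have h1 := Polynomial.natTrailingDegree_le_natDegree (φ G)
    have h2 := Polynomial.natTrailingDegree_le_natDegree (φ H)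
    let d := (φ G).natDegree
    have hmono : φ G = Polynomial.C G * Polynomial.X ^ d := by
      have heq : φ G = Polynomial.monomial d ((φ G).coeff d) := by
        ext1 n
        rw [Polynomial.coeff_monomial]
        split_ifs with hn
        · rw [hn]
        · rcases lt_or_gt_of_ne hn with h | h
          · exact Polynomial.coeff_eq_zero_of_natDegree_lt h
          · exact Polynomial.coeff_eq_zero_of_lt_natTrailingDegree (by omega)
      have := hev G
      rw [heq, Polynomial.eval_monomial, one_pow, mul_one] at this
      rw [heq, this, Polynomial.C_mul_X_pow_eq_monomial]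
    obtain ⟨c₁, hc₁, hc₁'⟩ := Polynomial.isUnit_iff.1 hu
    obtain ⟨c, hc, rfl⟩ := Polynomial.isUnit_iff.1 hc₁
    let Q := FractionRing (MvPolynomial (Fin 3) k)
    let ι : MvPolynomial (Fin 3) k →ₐ[k] Q := IsScalarTower.toAlgHom k _ _
    have hι : Function.Injective ι := IsFractionRing.injective _ _
    let Z := ι (X 2)
    have hZ : Z ≠ 0 := (map_ne_zero_iff _ hι).2 (X_ne_zero _)
    let σ : MvPolynomial (Fin 3) k →ₐ[k] Q := aeval fun i => ι (X i) / Z
    have hσ : σ G = algebraMap k Q c := by
      let τ : Polynomial (Polynomial k) →+* Q :=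
        Polynomial.eval₂RingHom (Polynomial.eval₂RingHom (algebraMap k Q) (ι (X 0) / Z)) (ι (X 1) / Z)
      have hτ : ∀ P, τ (δ P) = σ P := by
        intro P
        induction P using MvPolynomial.induction_on with
        | C a => simp [τ, δ, σ]
        | add p q hp hq => simp [hp, hq]
        | mul_X p i hp =>
          simp only [map_mul, hp]
          congr 1
          fin_cases i <;> simp [τ, δ, σ, hZ, Z]
      rw [← hτ, ← hc₁']
      simp [τ]
    have hfull : ι G = σ G * Z ^ d := by
      let θ : Polynomial (MvPolynomial (Fin 3) k) →+* Q := Polynomial.eval₂RingHom σ.toRingHom Z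
      have hθ : ∀ P, θ (φ P) = ι P := by
        intro P
        induction P using MvPolynomial.induction_on with
        | C a => simp [θ, φ, σ, ι]
        | add p q hp hq => simp [hp, hq]
        | mul_X p i hp =>
          simp only [map_mul, hp]
          congr 1
          simp [θ, φ, σ]
          exact div_mul_cancel₀ _ hZ
      rw [← hθ, hmono]
      simp [θ]
    have hGeq : G = C c * X 2 ^ d := hι (by
      rw [hfull, hσ, map_mul, map_pow]
      simp [ι, Z, IsScalarTower.algebraMap_apply k (MvPolynomial (Fin 3) k) Q])
    have hd0 : d = 0 := by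
      by_contra h
      have := congrArg (eval ![-1, 0, 0]) hGH
      rw [hGeq] at this
      simp [F, WeierstrassCurve.Projective.polynomial, h] at this
    rw [hGeq, hd0, pow_zero, mul_one]
    exact hc.map C
  refine ⟨fun hu => ?_, fun G H hGH => ?_⟩
  · exact hirr.not_isUnit (hδF ▸ hu.map δ)
  · rcases hirr.isUnit_or_isUnit (a := δ G) (b := δ H) (by rw [← map_mul, ← hGH, hδF]) with h | h
    · exact Or.inl (key G H hGH h)
    · exact Or.inr (key H G (hGH.trans (mul_comm G H)) h)


/-- For every field k and every choice of coefficients a₁, a₂, a₃, a₄, a₆ in k, the homogeneous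
Weierstrass cubic Y²Z + a₁XYZ + a₃YZ² − (X³ + a₂X²Z + a₄XZ² + a₆Z³) is an irreducible polynomial in
k[X, Y, Z]. Applied to all fields, this says every fibre of the Weierstrass family over the affine
space of coefficients is geometrically integral. -/
theorem result (k : Type u) [Field k]
    (W : WeierstrassCurve k) :
    Irreducible (WeierstrassCurve.Projective.polynomial W) := by
  exact S19178tmp.core k W

end Groth.Agent.S19178
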