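import Groth.Statements.S1918
-- import your own Groth.Agent.* helpers here
import Groth.Agent.Lib.CycPush.Family
import Mathlib.AlgebraicGeometry.PullbackCarrier

set_option autoImplicit false
universe u
open CategoryTheory AlgebraicGeometry
open CategoryTheory.Limits
open Cyc

namespace Groth.Agent.S1918

open GrothLib.CycPush

theorem exists_pull {X C : Scheme.{u}} (i : C ⟶ X) [IsClosedImmersion i] [IsLocallyNoetherian X]
    [IsLocallyNoetherian C] {δ : X → ℤ} (hδ : Cyc.IsDimFun X δ) {ξ : X} {f : X.residueField ξ} (hf : f ≠ 0)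
    {c : C} (hc : i c = ξ) :
    ∃ g : C.residueField c, g ≠ 0 ∧ ∀ z, Cyc.divFun (δ ∘ i) c g z = Cyc.divFun δ ξ f (i z) := by
  subst hc
  exact ⟨i.residueFieldMap c f, (map_ne_zero (i.residueFieldMap c).hom).2 hf,
    fun z => divFun_preimmersion i hδ (isDimFun_closedImmersion i hδ) c z hf⟩

theorem divFun_zero_of_notMem {X C : Scheme.{u}} (i : C ⟶ X) [IsClosedImmersion i] (δ : X → ℤ) {ξ : X}
    (f : X.residueField ξ) (hξ : ξ ∈ Set.range i) {x : X} (hx : x ∉ Set.range i) :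
    Cyc.divFun δ ξ f x = 0 := by
  rw [Cyc.divFun, dif_neg]
  exact fun h => hx (h.1.mem_closed i.isClosedEmbedding.isClosed_range hξ)

theorem locFin_pull {X C : Scheme.{u}} (i : C ⟶ X) {ι κ : Type*} {ξ : ι → X}
    (hloc : ∀ x : X, ∃ U : Set X, IsOpen U ∧ x ∈ U ∧ {j | (closure {ξ j} ∩ U).Nonempty}.Finite)
    {c : κ → C} (v : κ → ι) (hv : Function.Injective v) (hc : ∀ l, i (c l) = ξ (v l)) (z : C) :
    ∃ U : Set C, IsOpen U ∧ z ∈ U ∧ {l | (closure {c l} ∩ U).Nonempty}.Finite := by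
  obtain ⟨U, hU, hzU, hfin⟩ := hloc (i z)
  refine ⟨i ⁻¹' U, hU.preimage i.continuous, hzU, (hfin.preimage hv.injOn).subset fun l hl => ?_⟩
  obtain ⟨w, hw, hwU⟩ := hl
  refine ⟨i w, ?_, hwU⟩
  rw [← hc l, ← Set.image_singleton]
  exact image_closure_subset_closure_image i.continuous ⟨w, hw, rfl⟩

/-- A cycle composed with an embedding. -/
noncomputable def compCycle {X C : Scheme.{u}} (i : C ⟶ X) [IsPreimmersion i] (A : AlgebraicCycle X ℤ) :
    AlgebraicCycle C ℤ where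
  toFun z := A (i z)
  supportWithinDomain' := Set.subset_univ _
  supportLocallyFiniteWithinDomain' := fun z _ => by
    obtain ⟨t, ht, hfin⟩ := A.supportLocallyFiniteWithinDomain' (i z) trivial
    refine ⟨i ⁻¹' t, i.continuous.continuousAt.preimage_mem_nhds ht, ?_⟩
    exact (hfin.preimage i.isEmbedding.injective.injOn).subset fun w hw => ⟨hw.1, hw.2⟩

end Groth.Agent.S1918

namespace Groth.Agent.S1918

/-- Mayer–Vietoris for Chow groups, exactness in the middle: let i₁ : X₁ → X, i₂ : X₂ → X be closed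
immersions covering X set-theoretically and X₁₂ = X₁ ×_X X₂ their scheme-theoretic intersection. If
k-cycles α₁ on X₁ and α₂ on X₂ have rationally equivalent pushforwards on X, then there is a k-cycle
β on X₁₂ with α₁ ∼_rat (pr₁)_*β on X₁ and α₂ ∼_rat (pr₂)_*β on X₂. (The published statement also
asserts that CH_k(X₁) ⊕ CH_k(X₂) → CH_k(X) is surjective; that is not asserted here.) Here a pair
(X, δ) with Cyc.IsSetup plays the role of a scheme locally of finite type over a fixed base with a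
dimension function (X locally Noetherian with universally catenary local rings, δ a dimension
function). -/
theorem result (X : Scheme.{u}) (δ : X → ℤ) (hX : Cyc.IsSetup X δ) (X₁ X₂ : Scheme.{u}) (i₁ : X₁ ⟶ X) (i₂ : X₂ ⟶ X) [IsClosedImmersion i₁] [IsClosedImmersion i₂] (hcov : Set.range ⇑i₁ ∪ Set.range ⇑i₂ = Set.univ) (k : ℤ) (α₁ : AlgebraicCycle X₁ ℤ) (α₂ : AlgebraicCycle X₂ ℤ) (h₁ : α₁ ∈ Cyc.Zk X₁ (fun x => δ (i₁ x)) k) (h₂ : α₂ ∈ Cyc.Zk X₂ (fun x => δ (i₂ x)) k) (h : Cyc.RatEquiv δ k (AlgebraicCycle.map i₁ (fun x => δ (i₁ x)) δ α₁) (AlgebraicCycle.map i₂ (fun x => δ (i₂ x)) δ α₂)) : ∃ β : AlgebraicCycle (pullback i₁ i₂) ℤ, β ∈ Cyc.Zk (pullback i₁ i₂) (fun z => δ (i₁ (pullback.fst i₁ i₂ z))) k ∧ Cyc.RatEquiv (fun x => δ (i₁ x)) k α₁ (AlgebraicCycle.map (pullback.fst i₁ i₂) (fun z => δ (i₁ (pullback.fst i₁ i₂ z))) (fun x => δ (i₁ x)) β) ∧ Cyc.RatEquiv (fun x => δ (i₂ x)) k α₂ (AlgebraicCycle.map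 (pullback.snd i₁ i₂) (fun z => δ (i₁ (pullback.fst i₁ i₂ z))) (fun x => δ (i₂ x)) β) := by
  classical
  haveI := hX.1
  haveI : IsLocallyNoetherian X₁ := LocallyOfFiniteType.isLocallyNoetherian i₁
  haveI : IsLocallyNoetherian X₂ := LocallyOfFiniteType.isLocallyNoetherian i₂
  obtain ⟨ι, ξ, f, hdim, hf, hloc, hsum⟩ := h
  let J₁ : Set ι := {j | ξ j ∈ Set.range i₁}
  have hc₁ : ∀ l : J₁, ∃ c, i₁ c = ξ l.1 := fun l => l.2
  have hc₂ : ∀ l : ↥J₁ᶜ, ∃ c, i₂ c = ξ l.1 := fun l =>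
    (hcov.ge (Set.mem_univ (ξ l.1))).resolve_left l.2
  choose c₁ hc₁ using hc₁
  choose c₂ hc₂ using hc₂
  have hd₁ := GrothLib.CycPush.isDimFun_closedImmersion i₁ hX.2.2
  have hd₂ := GrothLib.CycPush.isDimFun_closedImmersion i₂ hX.2.2
  choose g₁ hg₁ hg₁' using fun l => exists_pull i₁ hX.2.2 (hf l.1) (hc₁ l)
  choose g₂ hg₂ hg₂' using fun l => exists_pull i₂ hX.2.2 (hf l.1) (hc₂ l)
  have hl₁ := locFin_pull i₁ hloc Subtype.val Subtype.val_injective hc₁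
  have hl₂ := locFin_pull i₂ hloc Subtype.val Subtype.val_injective hc₂
  have hdim₁ : ∀ l, (δ ∘ i₁) (c₁ l) = k + 1 := fun l => (congrArg δ (hc₁ l)).trans (hdim l.1)
  have hdim₂ : ∀ l, (δ ∘ i₂) (c₂ l) = k + 1 := fun l => (congrArg δ (hc₂ l)).trans (hdim l.1)
  let S₁ := GrothLib.CycPush.famCycle hd₁ g₁ hg₁ hl₁
  let S₂ := GrothLib.CycPush.famCycle hd₂ (fun l => (g₂ l)⁻¹) (fun l => inv_ne_zero (hg₂ l)) hl₂
  let A₁ := α₁ - S₁
  let A₂ := α₂ - S₂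
  have hS₁ : ∀ z, S₁ z = ∑ᶠ l : J₁, Cyc.divFun δ (ξ l.1) (f l.1) (i₁ z) := fun z =>
    finsum_congr fun l => hg₁' l z
  have hS₂ : ∀ z, S₂ z = -∑ᶠ l : ↥J₁ᶜ, Cyc.divFun δ (ξ l.1) (f l.1) (i₂ z) := fun z => by
    rw [← finsum_neg_distrib]
    exact finsum_congr fun l => by rw [GrothLib.CycPush.divFun_inv hd₂ _ (hg₂ l), hg₂' l z]
  have hsplit : ∀ x, ∑ᶠ j, Cyc.divFun δ (ξ j) (f j) x =
      (∑ᶠ l : J₁, Cyc.divFun δ (ξ l.1) (f l.1) x) + ∑ᶠ l : ↥J₁ᶜ, Cyc.divFun δ (ξ l.1) (f l.1) x := fun x => by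
    have hfin := GrothLib.CycPush.finite_support_at (δ := δ) f hloc x
    rw [← finsum_mem_univ, ← Set.union_compl_self J₁, finsum_mem_union' disjoint_compl_right
      (hfin.subset Set.inter_subset_right) (hfin.subset Set.inter_subset_right)]
    exact congrArg₂ (· + ·) (finsum_set_coe_eq_finsum_mem (f := fun j => Cyc.divFun δ (ξ j) (f j) x) J₁).symm
      (finsum_set_coe_eq_finsum_mem (f := fun j => Cyc.divFun δ (ξ j) (f j) x) J₁ᶜ).symm
  have htot : ∀ x, AlgebraicCycle.map i₁ (fun x => δ (i₁ x)) δ α₁ x - AlgebraicCycle.map i₂ (fun x => δ (i₂ x)) δ α₂ x =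
      (∑ᶠ l : J₁, Cyc.divFun δ (ξ l.1) (f l.1) x) + ∑ᶠ l : ↥J₁ᶜ, Cyc.divFun δ (ξ l.1) (f l.1) x := fun x => by
    rw [← hsplit, ← hsum x, Function.locallyFinsuppWithin.coe_sub, Pi.sub_apply]
  have hz₁ : ∀ x, x ∉ Set.range i₁ → ∑ᶠ l : J₁, Cyc.divFun δ (ξ l.1) (f l.1) x = 0 := fun x hx =>
    finsum_eq_zero_of_forall_eq_zero fun l => divFun_zero_of_notMem i₁ δ _ l.2 hx
  have hz₂ : ∀ x, x ∉ Set.range i₂ → ∑ᶠ l : ↥J₁ᶜ, Cyc.divFun δ (ξ l.1) (f l.1) x = 0 := fun x hx =>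
    finsum_eq_zero_of_forall_eq_zero fun l => divFun_zero_of_notMem i₂ δ _ ⟨c₂ l, hc₂ l⟩ hx
  have hA₁ : ∀ z, A₁ z = α₁ z - S₁ z := fun z => by
    simp only [A₁, Function.locallyFinsuppWithin.coe_sub, Pi.sub_apply]
  have hA₂ : ∀ z, A₂ z = α₂ z - S₂ z := fun z => by
    simp only [A₂, Function.locallyFinsuppWithin.coe_sub, Pi.sub_apply]
  have hagree : ∀ z₁ z₂, i₁ z₁ = i₂ z₂ → A₁ z₁ = A₂ z₂ := fun z₁ z₂ e => by
    have h1 := htot (i₁ z₁)
    rw [GrothLib.CycPush.map_apply_of_preimmersion i₁ δ (fun _ => rfl)] at h1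
    rw [e, GrothLib.CycPush.map_apply_of_preimmersion i₂ δ (fun _ => rfl), ← e] at h1
    rw [hA₁, hA₂, hS₁, hS₂, ← e]
    omega
  have hoff₁ : ∀ z₁, i₁ z₁ ∉ Set.range i₂ → A₁ z₁ = 0 := fun z₁ hz => by
    have h1 := htot (i₁ z₁)
    rw [GrothLib.CycPush.map_apply_of_preimmersion i₁ δ (fun _ => rfl),
      GrothLib.CycPush.map_apply_of_notMem_range i₂ δ _ α₂ hz, hz₂ _ hz] at h1
    rw [hA₁, hS₁]
    omega
  have hoff₂ : ∀ z₂, i₂ z₂ ∉ Set.range i₁ → A₂ z₂ = 0 := fun z₂ hz => by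
    have h1 := htot (i₂ z₂)
    rw [GrothLib.CycPush.map_apply_of_preimmersion i₂ δ (fun _ => rfl),
      GrothLib.CycPush.map_apply_of_notMem_range i₁ δ _ α₁ hz, hz₁ _ hz] at h1
    rw [hA₂, hS₂]
    omega
  have hcond : ∀ w : ↥(pullback i₁ i₂), i₁ (pullback.fst i₁ i₂ w) = i₂ (pullback.snd i₁ i₂ w) := fun w => by
    rw [← Scheme.Hom.comp_apply, pullback.condition, Scheme.Hom.comp_apply]
  let B := compCycle (pullback.fst i₁ i₂) A₁
  have hB : ∀ w, B w = A₁ (pullback.fst i₁ i₂ w) := fun w => rfl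
  refine ⟨B, fun w hw => ?_,
    ⟨J₁, c₁, g₁, hdim₁, hg₁, hl₁, fun z => ?_⟩,
    ⟨↥J₁ᶜ, c₂, fun l => (g₂ l)⁻¹, hdim₂, fun l => inv_ne_zero (hg₂ l), hl₂, fun z => ?_⟩⟩
  · rw [hB, hA₁, h₁ _ hw, GrothLib.CycPush.famCycle_mem_Zk hd₁ g₁ hg₁ hl₁ hdim₁ _ hw, sub_zero]
  · rw [Function.locallyFinsuppWithin.coe_sub, Pi.sub_apply]
    show _ = S₁ z
    by_cases hz : z ∈ Set.range (pullback.fst i₁ i₂)
    · obtain ⟨w, rfl⟩ := hz
      rw [GrothLib.CycPush.map_apply_of_preimmersion (pullback.fst i₁ i₂) (fun x => δ (i₁ x))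
        (δC := fun z => δ (i₁ (pullback.fst i₁ i₂ z))) (fun _ => rfl), hB, hA₁]
      abel
    · rw [GrothLib.CycPush.map_apply_of_notMem_range (pullback.fst i₁ i₂) _ _ B hz, sub_zero]
      have h0 := hoff₁ z fun ⟨z₂, e⟩ => hz (by
        obtain ⟨w, hw, -⟩ := Scheme.Pullback.exists_preimage_pullback z z₂ e.symm
        exact ⟨w, hw⟩)
      rw [hA₁] at h0
      omega
  · rw [Function.locallyFinsuppWithin.coe_sub, Pi.sub_apply]
    show _ = S₂ z
    by_cases hz : z ∈ Set.range (pullback.snd i₁ i₂)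
    · obtain ⟨w, rfl⟩ := hz
      rw [GrothLib.CycPush.map_apply_of_preimmersion (pullback.snd i₁ i₂) (fun x => δ (i₂ x))
        (δC := fun z => δ (i₁ (pullback.fst i₁ i₂ z))) (fun w => congrArg δ (hcond w)), hB,
        hagree _ _ (hcond w), hA₂]
      abel
    · rw [GrothLib.CycPush.map_apply_of_notMem_range (pullback.snd i₁ i₂) _ _ B hz, sub_zero]
      have h0 := hoff₂ z fun ⟨z₁, e⟩ => hz (by
        obtain ⟨w, -, hw⟩ := Scheme.Pullback.exists_preimage_pullback z₁ z e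
        exact ⟨w, hw⟩)
      rw [hA₂] at h0
      omega

end Groth.Agent.S1918
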