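import Groth.Statements.S19180
import Groth.Agent.Lib.CurveMult.TwistHom
import Groth.Agent.Lib.ProjCohom.Results
import Groth.Agent.Lib.NegTwist.H0
import Groth.Agent.Lib.FinCov.FrameFree

set_option autoImplicit false
set_option maxHeartbeats 1000000
set_option linter.style.haveILetI false
set_option backward.isDefEq.respectTransparency.types false
universe u
open Coherent

namespace Groth.Agent.S19180

open CategoryTheory AlgebraicGeometry in
/-- Let R be a local ring and m ≥ 1, and consider the projective line P¹_R with its structure sheaf O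
and twisting sheaf O(m). For every O-module F and every short exact sequence 0 → O(m) → F → O → 0 of
O-modules, the surjection F → O admits a section; consequently F is isomorphic to O(m) ⊕ O. -/
theorem result (R : Type u) [CommRing R] [IsLocalRing R]
    (m : ℕ) (hm : 1 ≤ m) (F : (CohB1.ProjSpace 1 R).Modules)
    (i : Twist.twistProjSpace 1 R (m : ℤ) ⟶ F) (p : F ⟶ Coh.structureModule (CohB1.ProjSpace 1 R))
    (w : i ≫ p = 0) (hex : (ShortComplex.mk i p w).ShortExact) :
    ∃ s : Coh.structureModule (CohB1.ProjSpace 1 R) ⟶ F, s ≫ p = 𝟙 _ := by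
  haveI := GrothLib.ProjCohom.subsingleton_HH (n := 1) (R := R) (d := (m : ℤ)) (q := 1) (by omega) (by omega)
  obtain ⟨z, hz⟩ := (GrothLib.Cohom.exact₃ (A := R) hex 0
    ((GrothLib.ProjCoh.H0top _).symm (GrothLib.FinCov.one (CohB1.ProjSpace 1 R) ⊤))).1 (Subsingleton.elim _ _)
  refine ⟨GrothLib.FinCov.homOfSection (GrothLib.ProjCoh.H0top F z), GrothLib.CurveMult.hom_ext_one _ _ ?_⟩
  have h1 : p.app ⊤ (GrothLib.ProjCoh.H0top F z) = GrothLib.FinCov.one (CohB1.ProjSpace 1 R) ⊤ := by
    refine Eq.trans ?_ ((GrothLib.ProjCoh.H0top _).apply_symm_apply _)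
    rw [← hz]
    exact (GrothLib.ProjCoh.H0top_map ((GrothLib.QCoh.toAbFun _).map p) z).symm
  refine Eq.trans ?_ h1
  show p.app ⊤ ((GrothLib.FinCov.homOfSection _).app ⊤ _) = _
  rw [GrothLib.FinCov.homOfSection_one]
  exact congrArg (p.app ⊤) (show F.presheaf.map (𝟙 _) _ = _ by rw [CategoryTheory.Functor.map_id]; rfl)

end Groth.Agent.S19180
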