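import Groth.Statements.S19181
import Mathlib


set_option autoImplicit false
universe u
open CAlg

namespace Groth.Agent.S19181

open MvPolynomial

variable {R : Type u} [CommRing R]

/-- Setting the first variable to zero. -/
noncomputable def ev : MvPolynomial (Fin 2) R →ₐ[R] Polynomial R :=
  aeval fun i => if i = 0 then 0 else Polynomial.X

lemma X_dvd_of_ev {q : MvPolynomial (Fin 2) R} (h : ev q = 0) : (X 0 : MvPolynomial (Fin 2) R) ∣ q := by
  rw [← Ideal.mem_span_singleton, ← Ideal.Quotient.eq_zero_iff_mem]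
  have : ((Ideal.Quotient.mkₐ R (Ideal.span {(X 0 : MvPolynomial (Fin 2) R)})).comp
      ((Polynomial.aeval (X 1 : MvPolynomial (Fin 2) R)).comp ev)) = Ideal.Quotient.mkₐ R _ := by
    apply algHom_ext
    intro i
    fin_cases i
    · simpa [ev] using (Ideal.Quotient.eq_zero_iff_mem.2 (Ideal.mem_span_singleton_self (X 0 : MvPolynomial (Fin 2) R))).symm
    · simp [ev]
  have h2 := DFunLike.congr_fun this q
  simp [h] at h2
  exact h2.symm

/-- The saturation lemma. -/
lemma sat (g : MvPolynomial (Fin 2) R) (hg : ∀ a : R, a • ev g = 0 → a = 0)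
    (s : MvPolynomial (Fin 2) R) :
    (∃ n : ℕ, X 0 ^ n * s ∈ Ideal.span ({X 0 ^ 2 * g} : Set (MvPolynomial (Fin 2) R))) ↔
      s ∈ Ideal.span ({g} : Set (MvPolynomial (Fin 2) R)) := by
  simp only [Ideal.mem_span_singleton]
  refine ⟨fun ⟨n, hn⟩ => ?_, fun ⟨q, hq⟩ => ⟨2, q, by rw [hq]; ring⟩⟩
  have hn' : g ∣ X 0 ^ n * s := (dvd_mul_left g _).trans hn
  clear hn
  induction n with
  | zero => simpa using hn'
  | succ n ih =>
    obtain ⟨q, hq⟩ := hn'
    have h0 : ev g * ev q = 0 := by rw [← map_mul, ← hq]; simp [ev]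
    have hg' : ev g ∈ nonZeroDivisors (Polynomial R) := by
      by_contra h
      obtain ⟨a, ha, ha'⟩ := Polynomial.notMem_nonZeroDivisors_iff.1 h
      exact ha (hg a ha')
    obtain ⟨q', rfl⟩ := X_dvd_of_ev ((mul_left_mem_nonZeroDivisors_eq_zero_iff hg').1 h0)
    refine ih ⟨q', ?_⟩
    have : (X 0 : MvPolynomial (Fin 2) R) * (X 0 ^ n * s) = X 0 * (g * q') := by
      linear_combination hq
    exact (isRegular_X (n := (0 : Fin 2))).left this


open MvPolynomial in
/-- Let R be a commutative ring, a₁, a₂ ∈ R, and C ⊂ A²_R the curve y² + a₁xy = x³ + a₂x², blown up at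
the section x = y = 0. In the chart where x = yα (variables y = X 0, α = X 1) the equation of C
becomes y²·g₁ with g₁ = 1 + a₁α − yα³ − a₂α², and the y-saturation of the ideal (y²g₁) is (g₁): for
s ∈ R[y, α], some yⁿs lies in (y²g₁) if and only if s ∈ (g₁). In the chart where y = xβ (variables x
= X 0, β = X 1) the equation becomes x²·g₂ with g₂ = β² + a₁β − x − a₂, and some xⁿs lies in (x²g₂)
if and only if s ∈ (g₂). In other words the strict transform of C is cut out by g₁, resp. g₂, in the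
two charts. -/
theorem result (R : Type u) [CommRing R] (a₁ a₂ : R) :
    (∀ s : MvPolynomial (Fin 2) R,
      (∃ n : ℕ, X 0 ^ n * s ∈ Ideal.span ({X 0 ^ 2 * (1 + C a₁ * X 1 - X 0 * X 1 ^ 3 - C a₂ * X 1 ^ 2)} :
        Set (MvPolynomial (Fin 2) R))) ↔
      s ∈ Ideal.span ({1 + C a₁ * X 1 - X 0 * X 1 ^ 3 - C a₂ * X 1 ^ 2} : Set (MvPolynomial (Fin 2) R))) ∧
    (∀ s : MvPolynomial (Fin 2) R,
      (∃ n : ℕ, X 0 ^ n * s ∈ Ideal.span ({X 0 ^ 2 * (X 1 ^ 2 + C a₁ * X 1 - X 0 - C a₂)} :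
        Set (MvPolynomial (Fin 2) R))) ↔
      s ∈ Ideal.span ({X 1 ^ 2 + C a₁ * X 1 - X 0 - C a₂} : Set (MvPolynomial (Fin 2) R))) := by
  refine ⟨fun s => sat _ (fun a ha => ?_) s, fun s => sat _ (fun a ha => ?_) s⟩
  · simpa [ev] using congrArg (Polynomial.coeff · 0) ha
  · simpa [ev, Polynomial.coeff_X, Polynomial.coeff_C] using congrArg (Polynomial.coeff · 2) ha

end Groth.Agent.S19181
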