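import Groth.Statements.S19182
import Mathlib
import Groth.Agent.Lib.HypersurfaceSmooth

set_option autoImplicit false
universe u
open CAlg

namespace Groth.Agent.S19182

open MvPolynomial

open MvPolynomial in
/-- Let R be a commutative ring and a₁, a₂ ∈ R. The two affine charts of the blow-up of the plane curve
y² + a₁xy = x³ + a₂x² at the section x = y = 0, with coordinate rings R[y, α]/(1 + a₁α − yα³ − a₂α²)
and R[x, β]/(β² + a₁β − x − a₂) (variables indexed 0 and 1 in this order), are smooth R-algebras
(formally smooth of finite presentation). This is the local computation behind the statement that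
the blow-up of a Weierstrass curve along a section through its singular locus is a smooth proper
curve of genus 0. -/
theorem result (R : Type u) [CommRing R] (a₁ a₂ : R) :
    Algebra.Smooth R (MvPolynomial (Fin 2) R ⧸
      Ideal.span ({1 + C a₁ * X 1 - X 0 * X 1 ^ 3 - C a₂ * X 1 ^ 2} : Set (MvPolynomial (Fin 2) R))) ∧
    Algebra.Smooth R (MvPolynomial (Fin 2) R ⧸
      Ideal.span ({X 1 ^ 2 + C a₁ * X 1 - X 0 - C a₂} : Set (MvPolynomial (Fin 2) R))) := by
  classical
  have main : ∀ (f : MvPolynomial (Fin 2) R) (D : Derivation R (MvPolynomial (Fin 2) R) (MvPolynomial (Fin 2) R)),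
      D f - 1 ∈ Ideal.span {f} → Algebra.Smooth R (MvPolynomial (Fin 2) R ⧸ Ideal.span ({f} : Set _)) := by
    intro f D hD
    haveI := GrothLib.HypersurfaceSmooth.formallySmooth_quotient (k := R) f D.liftKaehlerDifferential
      (by rw [Derivation.liftKaehlerDifferential_comp_D]; exact hD)
    haveI : Algebra.FinitePresentation R (MvPolynomial (Fin 2) R ⧸ Ideal.span ({f} : Set _)) :=
      Algebra.FinitePresentation.quotient (Submodule.fg_span_singleton f)
    exact ⟨inferInstance, inferInstance⟩
  let c : MvPolynomial (Fin 2) R := C a₁ - X 0 * X 1 ^ 2 - C a₂ * X 1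
  refine ⟨main _ (c ^ 3 • pderiv 0) ?_, main _ (-pderiv 0) ?_⟩
  · have h : pderiv (R := R) (0 : Fin 2) (1 + C a₁ * X 1 - X 0 * X 1 ^ 3 - C a₂ * X 1 ^ 2) = - X 1 ^ 3 := by
      simp [pderiv_mul, pderiv_pow]
    rw [Derivation.smul_apply, h, smul_eq_mul]
    refine Ideal.mem_span_singleton'.mpr ⟨-(c ^ 2 * X 1 ^ 2 - c * X 1 + 1), ?_⟩
    simp only [c]
    ring
  · have h : pderiv (R := R) (0 : Fin 2) (X 1 ^ 2 + C a₁ * X 1 - X 0 - C a₂) = -1 := by
      simp [pderiv_mul, pderiv_pow]
    rw [Derivation.neg_apply, h, neg_neg, sub_self]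
    exact zero_mem _

end Groth.Agent.S19182
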