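import Groth.Statements.S19183
import Mathlib.LinearAlgebra.Dimension.Constructions
import Mathlib.LinearAlgebra.FreeModule.StrongRankCondition
import Mathlib.RingTheory.Ideal.Span
import Mathlib.Tactic.LinearCombination

set_option autoImplicit false
universe u
open CAlg

namespace Groth.Agent.S19183

/-- Let A be a non-zero commutative ring and f ∈ A a non-zero-divisor. The fibre product A ×_{A/(f)} A
of two copies of A over A/(f) — the A-submodule of A × A of pairs (x, y) with x − y ∈ (f), which is
the coordinate ring of two copies of Spec A glued along the Cartier divisor f = 0 — is a free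
A-module of rank 2. (This is what makes the gluing of two copies of a curve along an effective
Cartier divisor finite locally free of degree 2 over the curve.) -/
theorem result (A : Type u) [CommRing A] [Nontrivial A]
    (f : A) (hf : f ∈ nonZeroDivisors A) :
    Module.Free A (Submodule.comap (LinearMap.fst A A A - LinearMap.snd A A A) (Ideal.span ({f} : Set A))) ∧
      Module.finrank A (Submodule.comap (LinearMap.fst A A A - LinearMap.snd A A A) (Ideal.span ({f} : Set A))) = 2 := by
  let N := Submodule.comap (LinearMap.fst A A A - LinearMap.snd A A A) (Ideal.span ({f} : Set A))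
  let Φ : (A × A) →ₗ[A] N := LinearMap.codRestrict N
    (LinearMap.prod (LinearMap.fst A A A) (LinearMap.fst A A A - f • LinearMap.snd A A A)) (by
      rintro ⟨x, t⟩
      simp only [N, Submodule.mem_comap]
      exact Ideal.mem_span_singleton.2 ⟨t, by simp⟩)
  have hΦ : Function.Bijective Φ := by
    constructor
    · rw [injective_iff_map_eq_zero]
      rintro ⟨x, t⟩ h
      have h' := Subtype.ext_iff.1 h
      simp [Φ] at h'
      obtain ⟨rfl, h'⟩ := h'
      have : t * f = 0 := by linear_combination -h'
      rw [(mem_nonZeroDivisors_iff.1 hf).2 t this]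
      rfl
    · rintro ⟨⟨x, y⟩, hxy⟩
      obtain ⟨t, ht⟩ := Ideal.mem_span_singleton.1 hxy
      refine ⟨(x, t), Subtype.ext ?_⟩
      simp [Φ] at ht ⊢
      linear_combination ht
  let e := LinearEquiv.ofBijective Φ hΦ
  refine ⟨Module.Free.of_equiv e, ?_⟩
  rw [← e.finrank_eq, Module.finrank_prod, Module.finrank_self]

end Groth.Agent.S19183
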