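import Groth.Statements.S19184
import Mathlib.Tactic.LinearCombination
import Mathlib.LinearAlgebra.FreeModule.Basic
import Mathlib.LinearAlgebra.Basis.Prod


set_option autoImplicit false
universe u
open CAlg

namespace Groth.Agent.S19184

open Polynomial in
/-- Let S be a commutative ring, a, b ∈ S, f = x² + ax + b ∈ S[x] and R = S[x]/(f), a free S-algebra of
rank 2. Let A ⊂ S[x] be the S-subalgebra of polynomials whose class in R lies in the image of S → R;
it is the fibre product S[x] ×_R S, the coordinate ring of the affine line over S with the degree-2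
subscheme Spec R collapsed onto Spec S. Then A is a free S-module and S[x] is a finitely generated
A-module. -/
theorem result (S : Type u) [CommRing S] (a b : S) :
    Module.Free S ((⊥ : Subalgebra S (S[X] ⧸ Ideal.span ({X ^ 2 + C a * X + C b} : Set S[X]))).comap
        (Ideal.Quotient.mkₐ S (Ideal.span ({X ^ 2 + C a * X + C b} : Set S[X])))) ∧
      Module.Finite ((⊥ : Subalgebra S (S[X] ⧸ Ideal.span ({X ^ 2 + C a * X + C b} : Set S[X]))).comap
        (Ideal.Quotient.mkₐ S (Ideal.span ({X ^ 2 + C a * X + C b} : Set S[X])))) S[X] := by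
  set f : S[X] := X ^ 2 + C a * X + C b with hf
  set A := (⊥ : Subalgebra S (S[X] ⧸ Ideal.span ({f} : Set S[X]))).comap
    (Ideal.Quotient.mkₐ S (Ideal.span ({f} : Set S[X]))) with hA
  have hmem : ∀ p : S[X], p ∈ A ↔ ∃ c : S, ∃ q : S[X], p = C c + f * q := by
    intro p
    rw [hA, Subalgebra.mem_comap, Algebra.mem_bot]
    constructor
    · rintro ⟨c, hc⟩
      have hc' : Ideal.Quotient.mk (Ideal.span {f}) (C c) = Ideal.Quotient.mk (Ideal.span {f}) p := hc
      obtain ⟨q, hq⟩ := Ideal.mem_span_singleton'.1 (Ideal.Quotient.eq.1 hc'.symm)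
      exact ⟨c, q, by linear_combination -hq⟩
    · rintro ⟨c, q, rfl⟩
      refine ⟨c, ?_⟩
      show Ideal.Quotient.mk (Ideal.span {f}) (C c) =
        Ideal.Quotient.mk (Ideal.span {f}) (C c + f * q)
      exact Ideal.Quotient.eq.2 (Ideal.mem_span_singleton'.2 ⟨-q, by ring⟩)
  have hdeg : (C a * X + C b).degree ≤ ((1 : ℕ) : WithBot ℕ) := degree_linear_le
  have hlt : (C a * X + C b).degree < ((2 : ℕ) : WithBot ℕ) :=
    lt_of_le_of_lt hdeg (by exact_mod_cast one_lt_two)
  have hm : f.Monic := by
    rw [hf, add_assoc]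
    exact monic_X_pow_add hlt
  constructor
  · let φ : S × S[X] →ₗ[S] S[X] :=
      (Algebra.linearMap S S[X]).coprod (LinearMap.mulLeft S f)
    have hinj : Function.Injective φ := by
      rw [injective_iff_map_eq_zero]
      rintro ⟨c, q⟩ h
      have h' : C c + f * q = 0 := h
      rcases subsingleton_or_nontrivial S with hS | hS
      · exact Prod.ext (Subsingleton.elim _ _) (Subsingleton.elim _ _)
      · have h2 : f.degree = ((2 : ℕ) : WithBot ℕ) := by
          rw [hf, add_assoc, degree_add_eq_left_of_degree_lt (by rwa [degree_X_pow]), degree_X_pow]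
        have hq : q = 0 := by
          by_contra hq
          have := congrArg degree (eq_neg_of_add_eq_zero_right h')
          rw [mul_comm, hm.degree_mul, degree_neg, h2] at this
          have h3 : (q.degree + ((2 : ℕ) : WithBot ℕ)) ≤ 0 := this ▸ degree_C_le
          rw [degree_eq_natDegree hq] at h3
          exact absurd (WithBot.coe_le_coe.1 h3) (by simp)
        subst hq
        exact Prod.ext (C_eq_zero.1 (by simpa using h')) rfl
    have hrange : LinearMap.range φ = A.toSubmodule := by
      ext p
      rw [Subalgebra.mem_toSubmodule, hmem]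
      constructor
      · rintro ⟨⟨c, q⟩, rfl⟩; exact ⟨c, q, rfl⟩
      · rintro ⟨c, q, rfl⟩; exact ⟨(c, q), rfl⟩
    exact Module.Free.of_equiv ((LinearEquiv.ofInjective φ hinj).trans (LinearEquiv.ofEq _ _ hrange))
  · classical
    refine ⟨⟨{1, X}, ?_⟩⟩
    rw [eq_top_iff]
    intro p _
    have h1 := modByMonic_add_div p f
    have hr : (p %ₘ f).natDegree ≤ 1 := by
      rcases subsingleton_or_nontrivial S with hS | hS
      · simp [Subsingleton.elim (p %ₘ f) 0]
      · have h2 : f.natDegree = 2 := by
          refine natDegree_eq_of_degree_eq_some ?_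
          rw [hf, add_assoc, degree_add_eq_left_of_degree_lt (by rwa [degree_X_pow]), degree_X_pow]
        have h := natDegree_modByMonic_lt p hm (fun h1 => by simp [h1] at h2)
        omega
    obtain ⟨c₁, c₀, he⟩ := exists_eq_X_add_C_of_natDegree_le_one hr
    have hA0 : C c₀ + f * (p /ₘ f) ∈ A := (hmem _).2 ⟨_, _, rfl⟩
    have hA1 : C c₁ ∈ A := (hmem _).2 ⟨c₁, 0, by simp⟩
    have hp : p = (⟨_, hA0⟩ : A) • (1 : S[X]) + (⟨_, hA1⟩ : A) • (X : S[X]) := by
      show p = (C c₀ + f * (p /ₘ f)) * 1 + C c₁ * X
      conv_lhs => rw [← h1, he]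
      ring
    rw [hp]
    refine add_mem (Submodule.smul_mem _ _ ?_) (Submodule.smul_mem _ _ ?_) <;>
      exact Submodule.subset_span (by simp)

end Groth.Agent.S19184
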