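import Groth.Statements.S19185
import Mathlib
import Groth.Agent.Lib.HypSurf.AffSmooth

set_option autoImplicit false
universe u
open Curves

namespace Groth.Agent.S19185

open Polynomial

universe v

set_option maxHeartbeats 1000000

variable {k : Type v} [Field k]

theorem pderiv_aeval_X (i : Fin 2) (Q : k[X]) :
    MvPolynomial.pderiv i (aeval (MvPolynomial.X 0 : MvPolynomial (Fin 2) k) Q) =
      if i = 0 then aeval (MvPolynomial.X 0 : MvPolynomial (Fin 2) k) (derivative Q) else 0 := by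
  rw [Derivation.map_aeval]
  split_ifs with h
  · subst h; simp
  · simp [MvPolynomial.pderiv_X_of_ne (Ne.symm h)]

/-- Smoothness of the two charts over one open of the base line. -/
theorem chart_iff (Q Ξ : k[X]) (h0 : Q ≠ 0 ∨ Ξ ≠ 0) :
    (Algebra.Smooth k (MvPolynomial (Fin 2) k ⧸ Ideal.span {aeval (MvPolynomial.X 0 : MvPolynomial (Fin 2) k) Q + aeval (MvPolynomial.X 0) Ξ * MvPolynomial.X 1}) ∧
      Algebra.Smooth k (MvPolynomial (Fin 2) k ⧸ Ideal.span {aeval (MvPolynomial.X 0 : MvPolynomial (Fin 2) k) Q * MvPolynomial.X 1 + aeval (MvPolynomial.X 0) Ξ})) ↔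
    IsCoprime Q Ξ := by
  classical
  let ι : k[X] →ₐ[k] MvPolynomial (Fin 2) k := aeval (MvPolynomial.X 0)
  let σ : MvPolynomial (Fin 2) k → k → k[X] := fun g c => MvPolynomial.aeval ![(X : k[X]), C c] g
  have hσ : ∀ (c : k) (P : k[X]), MvPolynomial.aeval ![(X : k[X]), C c] (ι P) = P := fun c P => by
    rw [← aeval_algHom_apply]; simp
  have hg1 : ι Q + ι Ξ * MvPolynomial.X 1 ≠ 0 := fun h => by
    have a := congrArg (MvPolynomial.aeval ![(X : k[X]), C 0]) h
    have b := congrArg (MvPolynomial.aeval ![(X : k[X]), C 1]) h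
    rw [map_add, map_mul, hσ, hσ, MvPolynomial.aeval_X] at a b
    simp at a b
    simp_all
  have hg2 : ι Q * MvPolynomial.X 1 + ι Ξ ≠ 0 := fun h => by
    have a := congrArg (MvPolynomial.aeval ![(X : k[X]), C 0]) h
    have b := congrArg (MvPolynomial.aeval ![(X : k[X]), C 1]) h
    rw [map_add, map_mul, hσ, hσ, MvPolynomial.aeval_X] at a b
    simp at a b
    simp_all
  rw [GrothLib.HypSurf.smooth_hypersurface_iff _ hg1, GrothLib.HypSurf.smooth_hypersurface_iff _ hg2]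
  constructor
  · rintro ⟨h1, h2⟩
    let K := AlgebraicClosure k
    rw [Polynomial.isCoprime_iff_aeval_ne_zero_of_isAlgClosed k K]
    intro t
    by_contra! hc
    obtain ⟨hQ, hΞ⟩ := hc
    let e : K → (MvPolynomial (Fin 2) k →ₐ[k] K) := fun w => MvPolynomial.aeval ![t, w]
    have he : ∀ (w : K) (P : k[X]), e w (ι P) = aeval t P := fun w P => by
      rw [← aeval_algHom_apply]; simp [e]
    by_cases hd : aeval t (derivative Ξ) = 0
    · obtain ⟨i, hi⟩ := h2 (RingHom.ker (e 0)) (RingHom.ker_isPrime _) (by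
        rw [RingHom.mem_ker]; simp [ι, e, hQ, hΞ, ← aeval_algHom_apply])
      apply hi
      rw [RingHom.mem_ker]
      fin_cases i
      · simp [ι, pderiv_aeval_X, ← aeval_algHom_apply, e, hd]
      · simp [ι, pderiv_aeval_X, ← aeval_algHom_apply, e, hQ]
    · let w : K := -(aeval t (derivative Q)) / aeval t (derivative Ξ)
      obtain ⟨i, hi⟩ := h1 (RingHom.ker (e w)) (RingHom.ker_isPrime _) (by
        rw [RingHom.mem_ker]; simp [ι, e, hQ, hΞ, ← aeval_algHom_apply])
      apply hi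
      rw [RingHom.mem_ker]
      fin_cases i
      · simp [ι, pderiv_aeval_X, ← aeval_algHom_apply, e, w, neg_div, div_mul_cancel₀ _ hd]
      · simp [ι, pderiv_aeval_X, ← aeval_algHom_apply, e, hΞ]
  · rintro ⟨a, b, hab⟩
    refine ⟨fun q hq hg => ?_, fun q hq hg => ?_⟩
    · refine ⟨1, fun h => hq.ne_top ((Ideal.eq_top_iff_one q).2 ?_)⟩
      have hΞ : ι Ξ ∈ q := by simpa [ι, pderiv_aeval_X] using h
      have hQ : ι Q ∈ q := (Submodule.add_mem_iff_left q (q.mul_mem_right _ hΞ)).1 hg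
      rw [← map_one ι, ← hab, map_add, map_mul, map_mul]
      exact q.add_mem (q.mul_mem_left _ hQ) (q.mul_mem_left _ hΞ)
    · refine ⟨1, fun h => hq.ne_top ((Ideal.eq_top_iff_one q).2 ?_)⟩
      have hQ : ι Q ∈ q := by simpa [ι, pderiv_aeval_X] using h
      have hΞ : ι Ξ ∈ q := (Submodule.add_mem_iff_right q (q.mul_mem_right _ hQ)).1 hg
      rw [← map_one ι, ← hab, map_add, map_mul, map_mul]
      exact q.add_mem (q.mul_mem_left _ hQ) (q.mul_mem_left _ hΞ)

theorem resultant_ne_zero_iff (Q Ξ : k[X]) (h0 : Q ≠ 0 ∨ Ξ ≠ 0) (n : ℕ) (hQ : Q.natDegree ≤ 2) (hΞ : Ξ.natDegree ≤ n) (hn : 0 < n) :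
    resultant Q Ξ 2 n ≠ 0 ↔ IsCoprime Q Ξ ∧ (Q.coeff 2 ≠ 0 ∨ Ξ.coeff n ≠ 0) := by
  have hcop : resultant Q Ξ ≠ 0 ↔ IsCoprime Q Ξ := by
    rw [ne_eq, resultant_eq_zero_iff]; simp [h0]
  by_cases h2 : Q.coeff 2 ≠ 0
  · have e : Q.natDegree = 2 := le_antisymm hQ (le_natDegree_of_ne_zero h2)
    obtain ⟨j, rfl⟩ := Nat.exists_eq_add_of_le hΞ
    rw [resultant_add_right_deg _ _ _ _ _ le_rfl, mul_ne_zero_iff]
    have hres : resultant Q Ξ 2 Ξ.natDegree = resultant Q Ξ := by rw [e]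
    rw [hres, hcop]
    exact ⟨fun h => ⟨h.2, Or.inl h2⟩, fun h => ⟨pow_ne_zero _ h2, h.1⟩⟩
  push Not at h2
  by_cases hn' : Ξ.coeff n ≠ 0
  · have e : Ξ.natDegree = n := le_antisymm hΞ (le_natDegree_of_ne_zero hn')
    obtain ⟨j, hj⟩ := Nat.exists_eq_add_of_le hQ
    subst e
    rw [hj, resultant_add_left_deg _ _ _ _ _ le_rfl, mul_ne_zero_iff, hcop, mul_ne_zero_iff]
    exact ⟨fun h => ⟨h.2, Or.inr hn'⟩, fun h => ⟨⟨pow_ne_zero _ (by simp), pow_ne_zero _ hn'⟩, h.1⟩⟩
  push Not at hn'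
  have hlt : ∀ (P : k[X]) (m : ℕ), 0 < m → P.natDegree ≤ m → P.coeff m = 0 → P.natDegree < m := fun P m hm hle hc => by
    refine lt_of_le_of_ne hle fun e => ?_
    rw [← e] at hc
    have := leadingCoeff_eq_zero.1 hc
    rw [this, natDegree_zero] at e
    omega
  simp [resultant_eq_zero_of_lt_lt Q Ξ 2 n (hlt Q 2 two_pos hQ h2) (hlt Ξ n hn hΞ hn'), h2, hn']


/-- Let k be a field, n ≥ 3, q a binary quadratic form and ξ a binary form of degree n over k, given by
coefficient vectors (q_i the coefficient of x^i y^(2−i), ξ_j that of x^j y^(n−j)), not both zero.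
The pair (q, ξ) is a global section of O(2) ⊕ O(n) on P¹_k, i.e. of the line bundle of class e + nf
on the Hirzebruch surface F_{n−2} = P(O ⊕ O(n−2)) → P¹_k, and cuts out the curve W : q·u + ξ·v = 0
there ([u : v] the fibre coordinates). Over the two standard opens of P¹ (t = x/y, s = y/x) and the
two opens u ≠ 0, v ≠ 0 of the fibres, W is covered by four affine charts with coordinate rings k[t,
w]/(q(t,1) + ξ(t,1)·w), k[t, w]/(q(t,1)·w + ξ(t,1)), k[s, w]/(q(1,s) + ξ(1,s)·w) and k[s,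
w]/(q(1,s)·w + ξ(1,s)) (variables indexed 0 for t or s and 1 for w). Then W is smooth over k — all
four chart algebras are smooth k-algebras — if and only if the resultant of q and ξ (the Sylvester
determinant of the two coefficient vectors with size parameters 2 and n) is nonzero. (The published
statement is over a general base scheme B, for a section (q, ξ) vanishing on no fibre, with 'the
resultant is a unit on B' in place of 'nonzero'; its proof reduces at once to the statement over a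
field given here, which is the case B = Spec k.) -/
theorem result (k : Type u) [Field k] (n : ℕ) (hn : 3 ≤ n)
    (q : Fin 3 → k) (ξ : Fin (n + 1) → k) (hqξ : q ≠ 0 ∨ ξ ≠ 0) :
    (Algebra.Smooth k (MvPolynomial (Fin 2) k ⧸ Ideal.span ({(∑ i : Fin 3, MvPolynomial.C (q i) * MvPolynomial.X 0 ^ (i : ℕ)) + (∑ j : Fin (n + 1), MvPolynomial.C (ξ j) * MvPolynomial.X 0 ^ (j : ℕ)) * MvPolynomial.X 1} : Set (MvPolynomial (Fin 2) k))) ∧
      Algebra.Smooth k (MvPolynomial (Fin 2) k ⧸ Ideal.span ({(∑ i : Fin 3, MvPolynomial.C (q i) * MvPolynomial.X 0 ^ (i : ℕ)) * MvPolynomial.X 1 + (∑ j : Fin (n + 1), MvPolynomial.C (ξ j) * MvPolynomial.X 0 ^ (j : ℕ))} : Set (MvPolynomial (Fin 2) k))) ∧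
      Algebra.Smooth k (MvPolynomial (Fin 2) k ⧸ Ideal.span ({(∑ i : Fin 3, MvPolynomial.C (q i) * MvPolynomial.X 0 ^ (2 - (i : ℕ))) + (∑ j : Fin (n + 1), MvPolynomial.C (ξ j) * MvPolynomial.X 0 ^ (n - (j : ℕ))) * MvPolynomial.X 1} : Set (MvPolynomial (Fin 2) k))) ∧
      Algebra.Smooth k (MvPolynomial (Fin 2) k ⧸ Ideal.span ({(∑ i : Fin 3, MvPolynomial.C (q i) * MvPolynomial.X 0 ^ (2 - (i : ℕ))) * MvPolynomial.X 1 + (∑ j : Fin (n + 1), MvPolynomial.C (ξ j) * MvPolynomial.X 0 ^ (n - (j : ℕ)))} : Set (MvPolynomial (Fin 2) k)))) ↔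
    Polynomial.resultant (∑ i : Fin 3, Polynomial.C (q i) * Polynomial.X ^ (i : ℕ))
      (∑ j : Fin (n + 1), Polynomial.C (ξ j) * Polynomial.X ^ (j : ℕ)) 2 n ≠ 0 := by
  classical
  let Q : Polynomial k := ∑ i : Fin 3, Polynomial.C (q i) * Polynomial.X ^ (i : ℕ)
  let Ξ : Polynomial k := ∑ j : Fin (n + 1), Polynomial.C (ξ j) * Polynomial.X ^ (j : ℕ)
  let Qr : Polynomial k := ∑ i : Fin 3, Polynomial.C (q i) * Polynomial.X ^ (2 - (i : ℕ))
  let Ξr : Polynomial k := ∑ j : Fin (n + 1), Polynomial.C (ξ j) * Polynomial.X ^ (n - (j : ℕ))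
  have hι : ∀ (m : ℕ) (c : Fin m → k) (e : Fin m → ℕ),
      (∑ i : Fin m, MvPolynomial.C (c i) * MvPolynomial.X 0 ^ e i : MvPolynomial (Fin 2) k) =
        Polynomial.aeval (MvPolynomial.X 0 : MvPolynomial (Fin 2) k) (∑ i : Fin m, Polynomial.C (c i) * Polynomial.X ^ e i) := fun m c e => by
    simp [map_sum, MvPolynomial.algebraMap_eq]
  rw [hι 3 q (fun i => (i : ℕ)), hι (n + 1) ξ (fun i => (i : ℕ)), hι 3 q (fun i => 2 - (i : ℕ)), hι (n + 1) ξ (fun i => n - (i : ℕ))]
  have hco : ∀ (m : ℕ) (c : Fin m → k) (j : Fin m), (∑ i : Fin m, Polynomial.C (c i) * Polynomial.X ^ (i : ℕ)).coeff (j : ℕ) = c j := fun m c j => by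
    simp [Polynomial.finsetSum_coeff, Polynomial.coeff_X_pow, Fin.val_inj]
  have hcr : ∀ (m : ℕ) (c : Fin (m + 1) → k) (j : Fin (m + 1)), (∑ i : Fin (m + 1), Polynomial.C (c i) * Polynomial.X ^ (m - (i : ℕ))).coeff (m - (j : ℕ)) = c j := fun m c j => by
    rw [Polynomial.finsetSum_coeff, Finset.sum_eq_single j (fun i _ hi => by
      rw [Polynomial.coeff_C_mul, Polynomial.coeff_X_pow, if_neg (fun h => hi (Fin.ext (by have := i.2; have := j.2; omega))), mul_zero]) (by simp)]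
    simp
  have h0 : Q ≠ 0 ∨ Ξ ≠ 0 := hqξ.imp
    (fun h e => h (funext fun i => by have := hco 3 q i; rw [show (∑ i : Fin 3, Polynomial.C (q i) * Polynomial.X ^ (i : ℕ)) = Q from rfl, e] at this; simpa using this.symm))
    (fun h e => h (funext fun i => by have := hco (n + 1) ξ i; rw [show (∑ i : Fin (n + 1), Polynomial.C (ξ i) * Polynomial.X ^ (i : ℕ)) = Ξ from rfl, e] at this; simpa using this.symm))
  have h0r : Qr ≠ 0 ∨ Ξr ≠ 0 := hqξ.imp
    (fun h e => h (funext fun i => by have := hcr 2 q i; rw [show (∑ i : Fin (2 + 1), Polynomial.C (q i) * Polynomial.X ^ (2 - (i : ℕ))) = Qr from rfl, e] at this; simpa using this.symm))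
    (fun h e => h (funext fun i => by have := hcr n ξ i; rw [show (∑ i : Fin (n + 1), Polynomial.C (ξ i) * Polynomial.X ^ (n - (i : ℕ))) = Ξr from rfl, e] at this; simpa using this.symm))
  have hdeg : ∀ (m : ℕ) (c : Fin (m + 1) → k), (∑ i : Fin (m + 1), Polynomial.C (c i) * Polynomial.X ^ (i : ℕ)).natDegree ≤ m := fun m c =>
    Polynomial.natDegree_sum_le_of_forall_le _ _ fun i _ => (Polynomial.natDegree_C_mul_X_pow_le _ _).trans (Nat.le_of_lt_succ i.2)
  rw [resultant_ne_zero_iff Q Ξ h0 n (hdeg 2 q) (hdeg n ξ) (by omega),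
    show Q.coeff 2 = q 2 from hco 3 q 2, show Ξ.coeff n = ξ (Fin.last n) from hco (n + 1) ξ (Fin.last n)]
  rw [← and_assoc, chart_iff Q Ξ h0]
  rw [show (∑ i : Fin (n + 1), Polynomial.C (ξ i) * Polynomial.X ^ (n - (i : ℕ))) = Ξr from rfl, show (∑ i : Fin 3, Polynomial.C (q i) * Polynomial.X ^ (2 - (i : ℕ))) = Qr from rfl, chart_iff Qr Ξr h0r]
  refine and_congr_right fun hcop => ?_
  let K := AlgebraicClosure k
  have hrev : ∀ (m : ℕ) (c : Fin (m + 1) → k) (s : K), s ≠ 0 →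
      Polynomial.aeval s (∑ i : Fin (m + 1), Polynomial.C (c i) * Polynomial.X ^ (m - (i : ℕ))) =
        s ^ m * Polynomial.aeval s⁻¹ (∑ i : Fin (m + 1), Polynomial.C (c i) * Polynomial.X ^ (i : ℕ)) := fun m c s hs => by
    simp only [map_sum, map_mul, map_pow, Polynomial.aeval_C, Polynomial.aeval_X]
    rw [Finset.mul_sum]
    refine Finset.sum_congr rfl fun i _ => ?_
    rw [pow_sub₀ s hs (Nat.le_of_lt_succ i.2), inv_pow]
    ring
  have hzero : ∀ (m : ℕ) (c : Fin (m + 1) → k),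
      Polynomial.aeval (0 : K) (∑ i : Fin (m + 1), Polynomial.C (c i) * Polynomial.X ^ (m - (i : ℕ))) = algebraMap k K (c (Fin.last m)) := fun m c => by
    have h := hcr m c (Fin.last m)
    rw [Fin.val_last, Nat.sub_self] at h
    rw [← Polynomial.coeff_zero_eq_aeval_zero', h]
  constructor
  · intro h
    by_contra! hc
    refine ((Polynomial.isCoprime_iff_aeval_ne_zero_of_isAlgClosed k K Qr Ξr).1 h 0).elim (fun h' => h' ?_) (fun h' => h' ?_)
    · rw [hzero 2 q, show q (Fin.last 2) = 0 from hc.1, map_zero]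
    · rw [hzero n ξ, hc.2, map_zero]
  · intro hl
    rw [Polynomial.isCoprime_iff_aeval_ne_zero_of_isAlgClosed k K]
    intro s
    rcases eq_or_ne s 0 with rfl | hs
    · refine hl.imp (fun h e => h ?_) (fun h e => h ?_)
      · rw [hzero 2 q] at e; exact (map_eq_zero (algebraMap k K)).1 e
      · rw [hzero n ξ] at e; exact (map_eq_zero (algebraMap k K)).1 e
    · rw [hrev 2 q s hs, hrev n ξ s hs, mul_ne_zero_iff, mul_ne_zero_iff]
      exact ((Polynomial.isCoprime_iff_aeval_ne_zero_of_isAlgClosed k K Q Ξ).1 hcop s⁻¹).imp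
        (fun h => ⟨pow_ne_zero _ hs, h⟩) (fun h => ⟨pow_ne_zero _ hs, h⟩)


end Groth.Agent.S19185
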