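import Groth.Statements.S19186
import Mathlib.RingTheory.Coprime.Lemmas
import Mathlib.Tactic.Abel
import Mathlib.Data.Nat.Prime.Basic

set_option autoImplicit false
universe u
open OneMot

namespace Groth.Agent.S19186

/-- Let p and ℓ be distinct prime numbers, r and n natural numbers, and f : A → B a homomorphism of
abelian groups whose kernel and cokernel are annihilated by p^r (f a = 0 implies p^r • a = 0, and
every p^r • b lies in the image of f). Then f induces a bijection between the ℓ^n-torsion subgroups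
of A and B and a bijection A/ℓ^n A → B/ℓ^n B. Spelled out without quotients: every ℓ^n-torsion
element of B has exactly one ℓ^n-torsion preimage; an element of A whose image is an ℓ^n-multiple is
itself an ℓ^n-multiple; and every element of B is the sum of an image and an ℓ^n-multiple. -/
theorem result {A B : Type u} [AddCommGroup A] [AddCommGroup B] (f : A →+ B) (p ℓ r n : ℕ) (hp : p.Prime) (hl : ℓ.Prime) (hne : ℓ ≠ p) (hker : ∀ a : A, f a = 0 → p ^ r • a = 0) (hcoker : ∀ b : B, ∃ a : A, f a = p ^ r • b) : (∀ b : B, ℓ ^ n • b = 0 → ∃! a : A, ℓ ^ n • a = 0 ∧ f a = b) ∧ (∀ a : A, (∃ b' : B, f a = ℓ ^ n • b') → ∃ a' : A, a = ℓ ^ n • a') ∧ (∀ b : B, ∃ (a : A) (b' : B), b = f a + ℓ ^ n • b') := by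
  have hcop : IsCoprime ((p : ℤ) ^ r) ((ℓ : ℤ) ^ n) := by
    have h := (Nat.isCoprime_iff_coprime.2 ((Nat.coprime_primes hp hl).2 (Ne.symm hne)))
    exact h.pow
  obtain ⟨u, v, huv⟩ := hcop
  have sA : ∀ a : A, u • (p ^ r • a) + v • (ℓ ^ n • a) = a := fun a => by
    rw [← natCast_zsmul, ← natCast_zsmul, smul_smul, smul_smul, ← add_smul]
    push_cast; rw [huv, one_smul]
  have sB : ∀ b : B, u • (p ^ r • b) + v • (ℓ ^ n • b) = b := fun b => by
    rw [← natCast_zsmul, ← natCast_zsmul, smul_smul, smul_smul, ← add_smul]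
    push_cast; rw [huv, one_smul]
  have hinj : ∀ a : A, ℓ ^ n • a = 0 → f a = 0 → a = 0 := fun a h1 h2 => by
    rw [← sA a, hker a h2, h1, smul_zero, smul_zero, add_zero]
  refine ⟨fun b hb => ?_, fun a ⟨b', hb'⟩ => ?_, fun b => ?_⟩
  · obtain ⟨a₀, ha₀⟩ := hcoker b
    have hk : p ^ r • (ℓ ^ n • a₀) = 0 := hker _ (by rw [map_nsmul, ha₀, smul_comm, hb, smul_zero])
    refine ⟨u • u • (p ^ r • a₀), ⟨?_, ?_⟩, fun a' ha' => ?_⟩
    · rw [smul_comm, smul_comm (ℓ ^ n) u, smul_comm (ℓ ^ n) (p ^ r), hk, smul_zero, smul_zero]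
    · have h2 : u • (p ^ r • b) = b := by
        conv_rhs => rw [← sB b]
        rw [hb, smul_zero, add_zero]
      rw [map_zsmul, map_zsmul, map_nsmul, ha₀, smul_comm u (p ^ r), h2]
      exact h2
    · refine sub_eq_zero.1 (hinj _ ?_ ?_)
      · rw [smul_sub, ha'.1, smul_comm, smul_comm (ℓ ^ n) u, smul_comm (ℓ ^ n) (p ^ r), hk, smul_zero,
          smul_zero, sub_zero]
      · have h2 : u • (p ^ r • b) = b := by
          conv_rhs => rw [← sB b]
          rw [hb, smul_zero, add_zero]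
        rw [map_sub, ha'.2, map_zsmul, map_zsmul, map_nsmul, ha₀, smul_comm u (p ^ r), h2, h2, sub_self]
  · obtain ⟨a₀, ha₀⟩ := hcoker b'
    have hk : p ^ r • (p ^ r • a - ℓ ^ n • a₀) = 0 := hker _ (by
      rw [map_sub, map_nsmul, map_nsmul, hb', ha₀, smul_comm, sub_self])
    rw [smul_sub, sub_eq_zero, smul_comm (p ^ r) (ℓ ^ n)] at hk
    refine ⟨u • u • (p ^ r • a₀) + (u • v • (p ^ r • a) + v • a), ?_⟩
    conv_lhs => rw [← sA a, ← sA (p ^ r • a)]
    rw [hk]
    simp only [smul_add, smul_comm (ℓ ^ n) u, smul_comm (ℓ ^ n) v]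
    abel
  · obtain ⟨a₀, ha₀⟩ := hcoker b
    exact ⟨u • a₀, v • b, by rw [map_zsmul, ha₀, smul_comm (ℓ ^ n) v, sB]⟩

end Groth.Agent.S19186
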