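import Groth.Statements.S19187
import Mathlib.AlgebraicGeometry.Morphisms.Proper

set_option autoImplicit false
universe u
open Cpct

namespace Groth.Agent.S19187

open CategoryTheory AlgebraicGeometry in
/-- Let k be a field, X̄ and Ȳ schemes proper over Spec k, j : X → X̄ an open immersion with dense image
and v : Y → Ȳ an open immersion (compactifications of X and Y), f : X → Y a proper morphism and f̄ :
X̄ → Ȳ a morphism over Spec k with f̄ ∘ j = v ∘ f. Then the preimage under f̄ of the open v(Y) is
the open j(X); equivalently, the complement of X in X̄ is the preimage of the complement of Y in Ȳ.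
(The base field k is arbitrary: no perfectness assumption is needed.) -/
theorem result {k : Type u} [Field k] {X Y Xb Yb : Scheme.{u}} (a : Xb ⟶ Spec (CommRingCat.of k)) (b : Yb ⟶ Spec (CommRingCat.of k)) [IsProper a] [IsProper b] (j : X ⟶ Xb) [IsOpenImmersion j] (hj : Dense (Set.range j.base)) (v : Y ⟶ Yb) [IsOpenImmersion v] (f : X ⟶ Y) [IsProper f] (fb : Xb ⟶ Yb) (hfb : fb ≫ b = a) (hsq : j ≫ fb = f ≫ v) : fb ⁻¹ᵁ v.opensRange = j.opensRange := by
  apply le_antisymm ?_ ?_
  · let U := fb ⁻¹ᵁ v.opensRange
    have hr : ∀ x, j x ∈ U := fun x => by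
      refine ⟨f x, ?_⟩
      have := congrArg (fun m : X ⟶ Yb => m x) hsq
      exact this.symm
    let jU : X ⟶ U.toScheme := IsOpenImmersion.lift U.ι j (by
      rintro _ ⟨x, rfl⟩
      rw [Scheme.Opens.range_ι]
      exact hr x)
    have hfac : jU ≫ U.ι = j := IsOpenImmersion.lift_fac _ _ _
    let g : U.toScheme ⟶ Y := IsOpenImmersion.lift v (U.ι ≫ fb) (by
      rintro _ ⟨x, rfl⟩
      exact x.2)
    have hg : g ≫ v = U.ι ≫ fb := IsOpenImmersion.lift_fac _ _ _
    haveI : IsSeparated fb := by
      haveI : IsSeparated (fb ≫ b) := hfb ▸ inferInstance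
      exact IsSeparated.of_comp fb b
    haveI : IsSeparated g := by
      haveI : IsSeparated (g ≫ v) := hg ▸ inferInstance
      exact IsSeparated.of_comp g v
    have hjg : jU ≫ g = f := by
      rw [← cancel_mono v, Category.assoc, hg, ← Category.assoc, hfac, hsq]
    haveI : IsProper (jU ≫ g) := hjg ▸ inferInstance
    haveI : IsProper jU := IsProper.of_comp jU g
    have hcl : IsClosed (Set.range jU) := jU.isClosedMap.isClosed_range
    haveI : IsOpenImmersion jU := by
      haveI : IsOpenImmersion (jU ≫ U.ι) := hfac ▸ inferInstance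
      exact IsOpenImmersion.of_comp jU U.ι
    intro x hx
    obtain ⟨C, hC, hCeq⟩ := Topology.IsInducing.isClosed_iff (U.ι.isOpenEmbedding.toIsEmbedding.toIsInducing) |>.1 hcl
    have hjC : Set.range j.base ⊆ C := by
      rintro _ ⟨y, rfl⟩
      have : jU y ∈ Set.range jU := ⟨y, rfl⟩
      rw [← hCeq] at this
      have e := congrArg (fun m : X ⟶ Xb => m y) hfac
      exact e ▸ this
    have hxC : x ∈ C := by
      have := (hC.closure_subset_iff.2 hjC) (hj x)
      exact this
    have : (⟨x, hx⟩ : U.toScheme) ∈ Set.range jU := by rw [← hCeq]; exact hxC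
    obtain ⟨y, hy⟩ := this
    refine ⟨y, ?_⟩
    have e := congrArg (fun m : X ⟶ Xb => m y) hfac
    exact e.symm.trans (congrArg U.ι hy)
  · rintro _ ⟨x, rfl⟩
    exact ⟨f x, (congrArg (fun m : X ⟶ Yb => m x) hsq).symm⟩

end Groth.Agent.S19187
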