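import Groth.Statements.S1919
-- import your own Groth.Agent.* helpers here
import Groth.Agent.Lib.PerfClosCyc.Fibre
import Groth.Agent.Lib.CycLimit.Basic
import Mathlib.FieldTheory.IsPerfectClosure

set_option autoImplicit false
universe u
open CategoryTheory AlgebraicGeometry
open CategoryTheory.Limits
open RelCyc

namespace Groth.Agent.S1919

/-- For a scheme X of finite type over a field k of characteristic p > 0, with base change X' = X ×_k k'
to the perfect closure k', the base change map Z_r(X) → Z_r(X') (flat pullback along the projection)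
has p-power torsion cokernel: for every r-cycle β on X' some p^n β is the base change of an r-cycle
on X. Dimension functions are transcendence degrees of residue fields over the ground fields. -/
theorem result (k : Type u) [Field k] (p : ℕ) [Fact p.Prime] [CharP k p] (X : Scheme.{u}) (f : X ⟶ Spec (CommRingCat.of k)) [LocallyOfFiniteType f] [QuasiCompact f] (δ : X → ℤ) (hδ : Cyc.DeltaCompat f δ (fun _ => 0)) (δ' : ↥(pullback f (Spec.map (CommRingCat.ofHom (PerfectClosure.of k p)))) → ℤ) (hδ' : Cyc.DeltaCompat (pullback.snd f (Spec.map (CommRingCat.ofHom (PerfectClosure.of k p)))) δ' (fun _ => 0)) (r : ℤ) (β : AlgebraicCycle (pullback f (Spec.map (CommRingCat.ofHom (PerfectClosure.of k p)))) ℤ) (hβ : β ∈ Cyc.Zk _ δ' r) : ∃ (n : ℕ) (α : AlgebraicCycle X ℤ), α ∈ Cyc.Zk X δ r ∧ (p : ℤ) ^ n • ⇑β = Cyc.pullFun (pullback.fst f (Spec.map (CommRingCat.ofHom (PerfectClosure.of k p)))) δ' δ 0 ⇑α := by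
  classical
  letI : Algebra k (PerfectClosure k p) := (PerfectClosure.of k p).toAlgebra
  haveI : CharP (PerfectClosure k p) p := charP_of_injective_ringHom (PerfectClosure.of k p).injective p
  haveI : IsPurelyInseparable k (PerfectClosure k p) := by
    haveI : ExpChar k p := ExpChar.prime Fact.out
    refine (isPurelyInseparable_iff_pow_mem k p).2 fun x => ?_
    exact IsPRadical.pow_mem (PerfectClosure.of k p) p x
  have htU : UniversallyInjective (Spec.map (CommRingCat.ofHom (PerfectClosure.of k p))) :=
    GrothLib.PerfClosCyc.universallyInjective_specMap k (PerfectClosure k p)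
  let t := Spec.map (CommRingCat.ofHom (PerfectClosure.of k p))
  let g := pullback.fst f t
  haveI : UniversallyInjective g := MorphismProperty.pullback_fst f t htU
  haveI : IsLocallyNoetherian (pullback f t) := LocallyOfFiniteType.isLocallyNoetherian (pullback.snd f t)
  haveI : CompactSpace ↥(pullback f t) := QuasiCompact.compactSpace_of_compactSpace (pullback.snd f t)
  have hbij : ∀ x : X, ∃! x', g x' = x := GrothLib.PerfClosCyc.existsUnique_over (K := PerfectClosure k p) p f
  have hlen : ∀ x', ∃ a : ℕ, GrothLib.CycFlat.fibLength g x' = (p ^ a : ℕ) :=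
    GrothLib.PerfClosCyc.exists_fibLength_eq_pow (K := PerfectClosure k p) p f
  choose sec hsec huniq using hbij
  choose a ha using hlen
  have hδeq : ∀ x', δ' x' = δ (g x') := by
    intro x'
    obtain ⟨n, hn, hnx⟩ := hδ (g x')
    obtain ⟨m, hm, hmx⟩ := hδ' x'
    have h1 := GrothLib.CycFlat.resTrdeg_comp g f x'
    have h2 := GrothLib.CycFlat.resTrdeg_comp (pullback.snd f t) t x'
    have h3 : GrothLib.CycFlat.resTrdeg (g ≫ f) x' = GrothLib.CycFlat.resTrdeg (pullback.snd f t ≫ t) x' := by
      congr 1
      exact pullback.condition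
    rw [h1, h2, GrothLib.PerfClosCyc.resTrdeg_eq_zero g x'] at h3
    haveI := htU
    rw [GrothLib.PerfClosCyc.resTrdeg_eq_zero t, zero_add, add_zero] at h3
    have h4 : (n : Cardinal.{u}) = m := hn.symm.trans (h3.trans hm)
    have h5 : n = m := by exact_mod_cast h4
    rw [hnx, hmx, h5]
  have hfin := GrothLib.CycLimit.finite_support β
  let n := hfin.toFinset.sup a
  have hle : ∀ x', β x' ≠ 0 → a x' ≤ n := fun x' hx' => Finset.le_sup (hfin.mem_toFinset.2 hx')
  let F : X → ℤ := fun x => (p : ℤ) ^ (n - a (sec x)) * β (sec x)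
  have hsupp : Function.support F ⊆ g '' {x' | β x' ≠ 0} := fun x hx =>
    ⟨sec x, right_ne_zero_of_mul (Function.mem_support.1 hx), hsec x⟩
  let α : AlgebraicCycle X ℤ :=
    { toFun := F
      supportWithinDomain' := Set.subset_univ _
      supportLocallyFiniteWithinDomain' := fun z _ =>
        ⟨Set.univ, Filter.univ_mem, by
          rw [Set.univ_inter]
          exact (hfin.image g).subset hsupp⟩ }
  refine ⟨n, α, fun x hx => ?_, ?_⟩
  · show F x = 0
    refine mul_eq_zero_of_right _ (hβ _ ?_)
    rw [hδeq, hsec x]
    exact hx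
  · funext x'
    rw [GrothLib.CycFlat.pullFun_apply, if_pos (by rw [add_zero]; exact hδeq x')]
    show (p : ℤ) ^ n • β x' = F (g x') * _
    rw [ha x', ENat.toNat_coe]
    rcases eq_or_ne (β x') 0 with h0 | h0
    · simp only [F]
      rw [show sec (g x') = x' from (huniq (g x') x' rfl).symm, h0]
      simp
    · simp only [F]
      rw [show sec (g x') = x' from (huniq (g x') x' rfl).symm, smul_eq_mul]
      push_cast
      rw [mul_right_comm, ← pow_add, Nat.sub_add_cancel (hle x' h0)]


end Groth.Agent.S1919
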