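import Groth.Statements.S19190
import Mathlib.CategoryTheory.Triangulated.Subcategory
import Mathlib.CategoryTheory.Localization.CalculusOfFractions
import Mathlib.CategoryTheory.Linear.LinearFunctor
import Mathlib.Algebra.Module.LocalizedModule.Basic
-- import your own Groth.Agent.* helpers here

set_option autoImplicit false
universe w v u v' u'
open CategoryTheory CategoryTheory.Limits CategoryTheory.Pretriangulated CategoryTheory.Triangulated
open CohDer

namespace Groth.Agent.S19190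

/-- Let `A` be a commutative ring, `S` a multiplicative subset of `A` and `T` an `A`-linear triangulated
category (octahedron axiom included; the shift functors are `A`-linear). Call an object of `T`
`S`-torsion when it lies in the smallest thick subcategory `U` of `T` (a property of objects
containing zero, stable under shifts, extensions, isomorphisms and direct factors) containing every
cone of an endomorphism `f • 𝟙 X` with `f ∈ S`. Let `Q : T ⥤ E` exhibit `E` as the localization of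
`T` at the morphisms whose cone lies in `U` (the Verdier quotient `T/U`), where `E` is preadditive
and `A`-linear and `Q` is `A`-linear. Then for all objects `X`, `Y` of `T` the `A`-linear map
`Hom_T(X, Y) → Hom_E(Q X, Q Y)` given by `Q` exhibits its target as the localization of `Hom_T(X,
Y)` at `S`. Since `Q` is essentially surjective, this says that the comparison functor from `T/U` to
the category having the objects of `T` and morphism modules `Hom_T(X, Y) ⊗_A S⁻¹A` is an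
equivalence. -/
theorem result
    {A : Type w} [CommRing A] (S : Submonoid A)
    {T : Type u} [Category.{v} T] [Preadditive T] [Linear A T] [HasZeroObject T] [HasShift T ℤ]
    [∀ n : ℤ, (shiftFunctor T n).Additive] [∀ n : ℤ, (shiftFunctor T n).Linear A]
    [Pretriangulated T] [IsTriangulated T]
    (U : ObjectProperty T) [U.IsTriangulated] [U.IsClosedUnderIsomorphisms] [U.IsStableUnderRetracts]
    (hU : ∀ (X : T) (f : A), f ∈ S → ∀ (Z : T) (g : X ⟶ Z) (h : Z ⟶ X⟦(1 : ℤ)⟧),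
      Triangle.mk (f • 𝟙 X) g h ∈ distTriang T → U Z)
    (hmin : ∀ (U' : ObjectProperty T) [U'.IsTriangulated] [U'.IsClosedUnderIsomorphisms]
      [U'.IsStableUnderRetracts],
      (∀ (X : T) (f : A), f ∈ S → ∀ (Z : T) (g : X ⟶ Z) (h : Z ⟶ X⟦(1 : ℤ)⟧),
        Triangle.mk (f • 𝟙 X) g h ∈ distTriang T → U' Z) → U ≤ U')
    {E : Type u'} [Category.{v'} E] [Preadditive E] [Linear A E]
    (Q : T ⥤ E) [Q.Additive] [Q.Linear A] [Q.IsLocalization U.trW] (X Y : T) :
    IsLocalizedModule S (Q.mapLinearMap A : (X ⟶ Y) →ₗ[A] (Q.obj X ⟶ Q.obj Y)) := by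
  classical
  let K : ObjectProperty T := fun Z => ∃ a ∈ S, a • 𝟙 Z = 0
  have hK0 : ∀ Z : T, IsZero Z → K Z := fun Z hZ => ⟨1, S.one_mem, hZ.eq_of_src _ _⟩
  haveI : K.IsClosedUnderIsomorphisms := ⟨fun {X Y} e ⟨a, ha, h⟩ => ⟨a, ha, by
    calc a • 𝟙 Y = e.inv ≫ (a • 𝟙 X) ≫ e.hom := by simp
      _ = 0 := by rw [h]; simp⟩⟩
  haveI : K.IsStableUnderRetracts := ⟨fun {X Y} r ⟨a, ha, h⟩ => ⟨a, ha, by
    calc a • 𝟙 X = r.i ≫ (a • 𝟙 Y) ≫ r.r := by simp
      _ = 0 := by rw [h]; simp⟩⟩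
  haveI : K.ContainsZero := ⟨⟨_, (HasZeroObject.zero (C := T)).choose_spec, hK0 _ (HasZeroObject.zero (C := T)).choose_spec⟩⟩
  haveI : K.IsStableUnderShift ℤ := ⟨fun n => ⟨fun X hX => by
    obtain ⟨a, ha, h⟩ := hX
    refine ⟨a, ha, ?_⟩
    rw [← (shiftFunctor T n).map_id, ← Functor.map_smul, h, Functor.map_zero]⟩⟩
  haveI : K.IsTriangulatedClosed₂ := ⟨fun Tr hT ⟨a, ha, h1⟩ ⟨b, hb, h3⟩ => K.le_isoClosure _ (by
    have h0 : (b • 𝟙 Tr.obj₂) ≫ Tr.mor₂ = 0 := by
      rw [Linear.smul_comp, Category.id_comp, ← Category.comp_id Tr.mor₂, ← Linear.comp_smul, h3, comp_zero]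
    obtain ⟨g, hg⟩ := Triangle.coyoneda_exact₂ Tr hT _ h0
    refine ⟨a * b, S.mul_mem ha hb, ?_⟩
    rw [mul_smul, hg, ← Linear.comp_smul, ← Category.id_comp Tr.mor₁, ← Linear.smul_comp, h1, zero_comp,
      comp_zero])⟩
  haveI : K.IsTriangulated := {}
  have hUK : U ≤ K := hmin K fun X f hf Z g h hT => by
    have h31 : h ≫ (f • 𝟙 X)⟦(1 : ℤ)⟧' = 0 := comp_distTriang_mor_zero₃₁ _ hT
    have h3 : (f • 𝟙 Z) ≫ h = 0 := by
      rw [Linear.smul_comp, Category.id_comp, ← Category.comp_id h, ← Linear.comp_smul, ← (shiftFunctor T (1 : ℤ)).map_id,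
        ← Functor.map_smul, h31]
    obtain ⟨k, hk⟩ : ∃ k : Z ⟶ X, f • 𝟙 Z = k ≫ g := Triangle.coyoneda_exact₃ _ hT (f • 𝟙 Z) h3
    refine ⟨f * f, S.mul_mem hf hf, ?_⟩
    have h12 : (f • 𝟙 X) ≫ g = 0 := comp_distTriang_mor_zero₁₂ _ hT
    rw [mul_smul, hk]
    rw [Linear.smul_comp, Category.id_comp] at h12
    change f • (k ≫ g) = 0
    rw [← Linear.comp_smul, h12, comp_zero]
  refine ⟨fun a => ?_, fun y => ?_, fun {x₁ x₂} hx => ?_⟩
  · have hW : U.trW ((a : A) • 𝟙 X) := by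
      obtain ⟨Z, g, h, hT⟩ := distinguished_cocone_triangle ((a : A) • 𝟙 X)
      exact ⟨Z, g, h, hT, hU X a a.2 Z g h hT⟩
    haveI : IsIso (Q.map ((a : A) • 𝟙 X)) := Localization.inverts Q U.trW _ hW
    rw [Module.End.isUnit_iff]
    have e : ∀ y : Q.obj X ⟶ Q.obj Y, algebraMap A (Module.End A (Q.obj X ⟶ Q.obj Y)) a y =
        Q.map ((a : A) • 𝟙 X) ≫ y := fun y => by
      rw [Module.algebraMap_end_apply, Functor.map_smul, Linear.smul_comp, Q.map_id, Category.id_comp]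
    exact ⟨fun y z hyz => by rwa [e, e, cancel_epi] at hyz,
      fun z => ⟨inv (Q.map ((a : A) • 𝟙 X)) ≫ z, by rw [e, IsIso.hom_inv_id_assoc]⟩⟩
  · obtain ⟨φ, hφ⟩ := Localization.exists_leftFraction Q U.trW y
    obtain ⟨Z, g, h, hT, hZ⟩ := φ.hs
    obtain ⟨a, ha, haZ⟩ := hUK _ hZ
    have h0 : (a • 𝟙 φ.Y') ≫ g = 0 := by
      rw [Linear.smul_comp, Category.id_comp, ← Category.comp_id g, ← Linear.comp_smul, haZ, comp_zero]
    obtain ⟨t, ht⟩ : ∃ t : φ.Y' ⟶ Y, a • 𝟙 φ.Y' = t ≫ φ.s := Triangle.coyoneda_exact₂ _ hT _ h0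
    refine ⟨⟨φ.f ≫ t, ⟨a, ha⟩⟩, ?_⟩
    haveI : IsIso (Q.map φ.s) := Localization.inverts Q U.trW _ φ.hs
    change a • y = Q.map (φ.f ≫ t)
    rw [hφ, ← cancel_mono (Q.map φ.s), Linear.smul_comp, MorphismProperty.LeftFraction.map_comp_map_s,
      ← Q.map_smul, ← Q.map_comp, Category.assoc]
    congr 1
    change a • φ.f = φ.f ≫ t ≫ φ.s
    calc a • φ.f = φ.f ≫ (a • 𝟙 φ.Y') := by simp
      _ = _ := congrArg (φ.f ≫ ·) ht
  · change Q.map x₁ = Q.map x₂ at hx
    obtain ⟨Z, s, hs, hsx⟩ := (MorphismProperty.map_eq_iff_postcomp Q U.trW x₁ x₂).1 hx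
    obtain ⟨X0, f0, h0, hT, hX0⟩ := (U.trW_iff' s).1 hs
    obtain ⟨a, ha, haX⟩ := hUK _ hX0
    have hzero : (x₁ - x₂) ≫ s = 0 := by rw [Preadditive.sub_comp, hsx, sub_self]
    obtain ⟨q, hq⟩ : ∃ q : X ⟶ X0, x₁ - x₂ = q ≫ f0 := Triangle.coyoneda_exact₂ _ hT _ hzero
    refine ⟨⟨a, ha⟩, ?_⟩
    change a • x₁ = a • x₂
    rw [← sub_eq_zero, ← smul_sub, hq]
    change a • (q ≫ f0) = 0
    rw [← Linear.comp_smul, ← Category.id_comp f0, ← Linear.smul_comp, haX, zero_comp, comp_zero]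

end Groth.Agent.S19190
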