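import Groth.Statements.S19191
import Mathlib.CategoryTheory.Triangulated.Subcategory
import Mathlib.CategoryTheory.Localization.CalculusOfFractions
import Mathlib.CategoryTheory.Linear.LinearFunctor
import Mathlib.RingTheory.Ideal.Maximal

set_option autoImplicit false
universe w v u v' u'
open CategoryTheory CategoryTheory.Limits CategoryTheory.Pretriangulated CategoryTheory.Triangulated
open CohDer

namespace Groth.Agent.S19191

/-- Let `A` be a commutative ring, `T` an `A`-linear triangulated category (octahedron axiom included;
shift functors `A`-linear), `U` a thick subcategory of `T` (a property of objects containing zero,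
stable under shifts, extensions, isomorphisms and direct factors), and `Q : T ⥤ E` a localization of
`T` at the morphisms whose cone lies in `U` (the Verdier quotient `T/U`), where `E` is preadditive
and `A`-linear and `Q` is `A`-linear. For an object `X` of `T` the following two conditions are
equivalent: (i) `X` lies in `U`; (ii) for every maximal ideal `m` of `A` the image of `X` in the
category obtained from `T/U` by tensoring the morphism modules with `A_m` is zero, i.e. some element
of `A` outside `m` annihilates the identity of `Q X`. (The published statement also lists a third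
equivalent condition, phrased with idempotent completions of the localized categories; it is not
asserted here.) -/
theorem result
    {A : Type w} [CommRing A]
    {T : Type u} [Category.{v} T] [Preadditive T] [Linear A T] [HasZeroObject T] [HasShift T ℤ]
    [∀ n : ℤ, (shiftFunctor T n).Additive] [∀ n : ℤ, (shiftFunctor T n).Linear A]
    [Pretriangulated T] [IsTriangulated T]
    (U : ObjectProperty T) [U.IsTriangulated] [U.IsClosedUnderIsomorphisms] [U.IsStableUnderRetracts]
    {E : Type u'} [Category.{v'} E] [Preadditive E] [Linear A E]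
    (Q : T ⥤ E) [Q.Additive] [Q.Linear A] [Q.IsLocalization U.trW] (X : T) :
    U X ↔ ∀ m : Ideal A, m.IsMaximal → ∃ s : A, s ∉ m ∧ s • 𝟙 (Q.obj X) = 0 := by
  constructor
  · intro hX m hm
    refine ⟨1, fun h => hm.ne_top ((Ideal.eq_top_iff_one m).2 h), ?_⟩
    obtain ⟨z, hz⟩ := HasZeroObject.zero (C := T)
    have hW : U.trW (0 : z ⟶ X) := by
      refine ⟨X, 𝟙 X, 0, ?_, hX⟩
      exact isomorphic_distinguished _ (contractible_distinguished₁ X) _
        (Triangle.isoMk _ _ hz.isoZero (Iso.refl _) (Iso.refl _) (hz.eq_of_src _ _)
          ((Category.comp_id _).trans (Category.id_comp _).symm)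
          (zero_comp.trans comp_zero.symm))
    have := Localization.inverts Q U.trW _ hW
    rw [one_smul, ← cancel_epi (Q.map (0 : z ⟶ X)), Q.map_zero, zero_comp, zero_comp]
  · intro h
    let I : Ideal A :=
      { carrier := {a | a • 𝟙 (Q.obj X) = 0}
        add_mem' := fun {a b} (ha : a • _ = 0) (hb : b • _ = 0) => show (a + b) • _ = 0 by
          rw [add_smul, ha, hb, add_zero]
        zero_mem' := zero_smul _ _
        smul_mem' := fun c a (ha : a • _ = 0) => show (c • a) • _ = 0 by rw [smul_assoc, ha, smul_zero] }
    have hI : I = ⊤ := by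
      by_contra hne
      obtain ⟨m, hm, hle⟩ := I.exists_le_maximal hne
      obtain ⟨s, hs, hs0⟩ := h m hm
      exact hs (hle hs0)
    have h1 : (1 : A) • 𝟙 (Q.obj X) = 0 := (Ideal.eq_top_iff_one I).1 hI
    have h0 : Q.map (𝟙 X) = Q.map 0 := by
      rw [Q.map_id, Q.map_zero, ← h1, one_smul]
    obtain ⟨Z, t, ht, heq⟩ := (MorphismProperty.map_eq_iff_postcomp Q U.trW (𝟙 X) 0).1 h0
    rw [Category.id_comp, zero_comp] at heq
    subst heq
    obtain ⟨K, g, k, hT, hK⟩ := (U.trW_iff _).1 ht
    obtain ⟨φ, hφ⟩ := Triangle.coyoneda_exact₃ _ (rot_of_distTriang _ hT) (𝟙 (X⟦(1 : ℤ)⟧))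
      ((Category.id_comp _).trans (by change -(shiftFunctor T (1 : ℤ)).map (0 : X ⟶ Z) = 0; rw [Functor.map_zero, neg_zero]))
    have hX1 : U (X⟦(1 : ℤ)⟧) := U.prop_of_retract { i := φ, r := k, retract := hφ.symm } hK
    exact (U.prop_shift_iff_of_isStableUnderShift X (1 : ℤ)).1 hX1

end Groth.Agent.S19191
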