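import Groth.Statements.S19195
import Groth.Agent.Lib.RegS16.Main
-- import your own Groth.Agent.* helpers here

set_option autoImplicit false
universe u
open TensorProduct
open RelS1

namespace Groth.Agent.S19195

/-- Let A be a commutative ring, B a finitely presented A-algebra and M a finitely presented B-module
which is flat over A. Suppose that for every prime p of A, with residue field κ(p), the fibre module
(B ⊗_A κ(p)) ⊗_B M over the fibre ring B ⊗_A κ(p) satisfies Serre's condition (S_1) in the form:
each of its associated primes is a minimal prime of its annihilator. Let a be an element of B whose
image a ⊗ 1 in every fibre ring B ⊗_A κ(p) lies in no minimal prime of the annihilator of the fibre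
module. Then a is a non-zero-divisor on M. (Since all hypotheses are preserved by base change of A
and by passing to affine opens, this expresses that a flat finitely presented sheaf with (S_1)
fibres is pure relative to the base after every base change. The published statement is an
equivalence for sheaves on a locally finitely presented morphism, quantified over all base changes;
this row states its direct implication in affine form.) -/
theorem result (A B M : Type u) [CommRing A] [CommRing B] [Algebra A B]
    [Algebra.FinitePresentation A B] [AddCommGroup M] [Module B M] [Module A M]
    [IsScalarTower A B M] [Module.FinitePresentation B M] [Module.Flat A M]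
    (hS1 : ∀ (p : Ideal A) [p.IsPrime],
      associatedPrimes (B ⊗[A] p.ResidueField) ((B ⊗[A] p.ResidueField) ⊗[B] M) ⊆
        (Module.annihilator (B ⊗[A] p.ResidueField) ((B ⊗[A] p.ResidueField) ⊗[B] M)).minimalPrimes)
    (a : B)
    (ha : ∀ (p : Ideal A) [p.IsPrime],
      ∀ P ∈ (Module.annihilator (B ⊗[A] p.ResidueField) ((B ⊗[A] p.ResidueField) ⊗[B] M)).minimalPrimes,
        a ⊗ₜ[A] (1 : p.ResidueField) ∉ P) :
    IsSMulRegular M a := by
    exact GrothLib.RegS16.isSMulRegular_of_fibres hS1 a ha

end Groth.Agent.S19195
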