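import Groth.Statements.S19197
import Groth.Agent.Lib.FlatFP.ProjDim
import Groth.Agent.Lib.CAlgMisc.FlatSquare
import Mathlib.RingTheory.Spectrum.Prime.FreeLocus
import Mathlib.RingTheory.Spectrum.Prime.Module
import Mathlib.Topology.Semicontinuity.Basic

set_option autoImplicit false
universe u
open TensorProduct CategoryTheory
open RelS1

namespace Groth.Agent.S19197


open TensorProduct GrothLib.FlatFP GrothLib.Serre

section Local

variable {A R : Type u} [CommRing A] [CommRing R] [Algebra A R] (𝔭 : Ideal A)

theorem one_tmul_eq_zero_iff {N : Type u} [AddCommGroup N] [Module R N] (I : Ideal R) (x : N) :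
    ((1 : R ⧸ I) ⊗ₜ[R] x) = 0 ↔ x ∈ I • (⊤ : Submodule R N) := by
  rw [← LinearMap.ker_tensorProductMk]
  rfl

theorem mem_map_smul_top_iff {N : Type u} [AddCommGroup N] [Module R N] [Module A N] [IsScalarTower A R N] (x : N) :
    x ∈ (𝔭.map (algebraMap A R)) • (⊤ : Submodule R N) ↔ x ∈ 𝔭 • (⊤ : Submodule A N) := by
  rw [← Submodule.restrictScalars_mem A, Ideal.smul_restrictScalars, Submodule.restrictScalars_top]

/-- Tensoring with the fibre is exact on sequences ending in a flat module. -/
theorem injective_lTensor_fib {K G L : Type u} [AddCommGroup K] [Module R K] [AddCommGroup G] [Module R G]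
    [AddCommGroup L] [Module R L] [Module A K] [IsScalarTower A R K] [Module A G] [IsScalarTower A R G]
    [Module A L] [IsScalarTower A R L] [Module.Flat A L] (ι : K →ₗ[R] G) (g : G →ₗ[R] L)
    (hι : Function.Injective ι) (hg : Function.Surjective g) (hex : Function.Exact ι g) :
    Function.Injective (ι.lTensor (R ⧸ 𝔭.map (algebraMap A R))) := by
  refine (injective_iff_map_eq_zero _).2 fun z hz => ?_
  obtain ⟨k, rfl⟩ := TensorProduct.mk_surjective R K (R ⧸ 𝔭.map (algebraMap A R)) Ideal.Quotient.mk_surjective z
  rw [TensorProduct.mk_apply, LinearMap.lTensor_tmul, one_tmul_eq_zero_iff, mem_map_smul_top_iff] at hz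
  rw [TensorProduct.mk_apply, one_tmul_eq_zero_iff, mem_map_smul_top_iff,
    ← one_tmul_eq_zero_iff (R := A) 𝔭]
  refine LinearMap.lTensor_injective_of_exact_of_flat (g.restrictScalars A) hg (ι.restrictScalars A) hι
    (fun x => hex x) (A ⧸ 𝔭) ?_
  rw [map_zero, LinearMap.lTensor_tmul, LinearMap.coe_restrictScalars]
  exact (one_tmul_eq_zero_iff (R := A) 𝔭 _).2 hz

/-- A finitely presented module, flat over the base, with free fibre is free. -/
theorem free_of_fibre [IsLocalRing R] (L : Type u) [AddCommGroup L] [Module R L] [Module A L] [IsScalarTower A R L]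
    [Module.FinitePresentation R L] [Module.Flat A L]
    (hJ : 𝔭.map (algebraMap A R) ≤ IsLocalRing.maximalIdeal R)
    (h : Module.Free (R ⧸ 𝔭.map (algebraMap A R)) ((R ⧸ 𝔭.map (algebraMap A R)) ⊗[R] L)) : Module.Free R L := by
  classical
  set J := 𝔭.map (algebraMap A R) with hJdef
  haveI : Nontrivial (R ⧸ J) :=
    Ideal.Quotient.nontrivial_iff.2 (ne_top_of_le_ne_top (IsLocalRing.maximalIdeal.isMaximal R).ne_top hJ)
  let b := Module.Free.chooseBasis (R ⧸ J) ((R ⧸ J) ⊗[R] L)
  haveI : Finite (Module.Free.ChooseBasisIndex (R ⧸ J) ((R ⧸ J) ⊗[R] L)) := Module.Finite.finite_basis b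
  letI := Fintype.ofFinite (Module.Free.ChooseBasisIndex (R ⧸ J) ((R ⧸ J) ⊗[R] L))
  have hmk := TensorProduct.mk_surjective R L (R ⧸ J) Ideal.Quotient.mk_surjective
  let v := fun i => (hmk (b i)).choose
  have hv : ∀ i, (1 : R ⧸ J) ⊗ₜ[R] v i = b i := fun i => (hmk (b i)).choose_spec
  let f : (Module.Free.ChooseBasisIndex (R ⧸ J) ((R ⧸ J) ⊗[R] L) → R) →ₗ[R] L := Fintype.linearCombination R v
  have hfv : ∀ c, (1 : R ⧸ J) ⊗ₜ[R] f c = ∑ i, (Ideal.Quotient.mk J (c i)) • b i := by
    intro c
    simp only [f, Fintype.linearCombination_apply, TensorProduct.tmul_sum, TensorProduct.tmul_smul, hv]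
    exact Finset.sum_congr rfl fun i _ => (algebraMap_smul (R ⧸ J) (c i) (b i)).symm
  have hjac : J ≤ Ideal.jacobson (⊥ : Ideal R) := hJ.trans (IsLocalRing.jacobson_eq_maximalIdeal ⊥ bot_ne_top).ge
  have hf : Function.Surjective f := by
    have hle : (⊤ : Submodule R L) ≤ LinearMap.range f := by
      refine Submodule.le_of_le_smul_of_le_jacobson_bot Module.Finite.fg_top hjac fun x _ => ?_
      choose c hc using fun i => Ideal.Quotient.mk_surjective (b.repr ((1 : R ⧸ J) ⊗ₜ[R] x) i)
      refine Submodule.mem_sup.2 ⟨f c, LinearMap.mem_range_self f c, x - f c, ?_, add_sub_cancel _ _⟩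
      rw [← one_tmul_eq_zero_iff, TensorProduct.tmul_sub, hfv, sub_eq_zero]
      simp only [hc]
      exact (b.sum_repr _).symm
    exact fun x => hle (Submodule.mem_top (x := x))
  have hinj : Function.Injective f := by
    rw [← LinearMap.ker_eq_bot]
    refine Submodule.eq_bot_of_le_smul_of_le_jacobson_bot J _ (Module.FinitePresentation.fg_ker f hf) ?_ hjac
    intro x hx
    have h1 := hfv x
    rw [LinearMap.mem_ker.1 hx, TensorProduct.tmul_zero] at h1
    have h2 : ∀ i, x i ∈ J := fun i => Ideal.Quotient.eq_zero_iff_mem.1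
      (Fintype.linearIndependent_iff.1 b.linearIndependent (fun i => Ideal.Quotient.mk J (x i)) h1.symm i)
    have h3 : x ∈ J • (⊤ : Submodule R (Module.Free.ChooseBasisIndex (R ⧸ J) ((R ⧸ J) ⊗[R] L) → R)) := by
      rw [pi_eq_sum_univ x]
      exact sum_mem fun i _ => Submodule.smul_mem_smul (h2 i) trivial
    have h4 : ((1 : R ⧸ J) ⊗ₜ[R] (⟨x, hx⟩ : LinearMap.ker f)) = 0 := by
      refine injective_lTensor_fib 𝔭 (LinearMap.ker f).subtype f Subtype.val_injective hf
        (LinearMap.exact_subtype_ker_map f) ?_
      rw [map_zero, LinearMap.lTensor_tmul]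
      exact (one_tmul_eq_zero_iff J _).2 h3
    rw [one_tmul_eq_zero_iff] at h4
    have h5 := Submodule.mem_map_of_mem (f := (LinearMap.ker f).subtype) h4
    rwa [Submodule.map_smul'', Submodule.map_top, Submodule.range_subtype] at h5
  exact Module.Free.of_equiv (LinearEquiv.ofBijective f ⟨hinj, hf⟩)

end Local

variable (A B : Type u) [CommRing A] [CommRing B] [Algebra A B]

/-- The local ring of the fibre at a prime. -/
abbrev FibLoc (P : PrimeSpectrum B) : Type u :=
  Localization.AtPrime P.asIdeal ⧸ (P.asIdeal.under A).map (algebraMap A (Localization.AtPrime P.asIdeal))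

variable {A B}

theorem map_le_maximalIdeal (P : PrimeSpectrum B) :
    (P.asIdeal.under A).map (algebraMap A (Localization.AtPrime P.asIdeal)) ≤
      IsLocalRing.maximalIdeal (Localization.AtPrime P.asIdeal) := by
  rw [Ideal.map_le_iff_le_comap]
  intro a ha
  rw [Ideal.mem_comap, IsScalarTower.algebraMap_apply A B]
  exact (IsLocalization.AtPrime.to_map_mem_maximal_iff (Localization.AtPrime P.asIdeal) P.asIdeal _).2 ha

theorem mem_freeLocus_iff_fibre (M : Type u) [AddCommGroup M] [Module B M] [Module A M] [IsScalarTower A B M]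
    [Module.FinitePresentation B M] [Module.Flat A M] (P : PrimeSpectrum B) :
    Module.Projective (FibLoc A B P) (FibLoc A B P ⊗[B] M) ↔ P ∈ Module.freeLocus B M := by
  rw [Module.mem_freeLocus_iff_tensor P (Localization.AtPrime P.asIdeal)]
  let e := AlgebraTensorModule.cancelBaseChange B (Localization.AtPrime P.asIdeal) (FibLoc A B P) (FibLoc A B P) M
  constructor
  · intro h
    haveI : IsLocalRing (FibLoc A B P) :=
      haveI : Nontrivial (FibLoc A B P) := Ideal.Quotient.nontrivial_iff.2
        (ne_top_of_le_ne_top (IsLocalRing.maximalIdeal.isMaximal _).ne_top (map_le_maximalIdeal P))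
      IsLocalRing.of_surjective' (Ideal.Quotient.mk _) Ideal.Quotient.mk_surjective
    haveI : Module.Flat A (Localization.AtPrime P.asIdeal ⊗[B] M) :=
      GrothLib.CAlgMisc.flat_tensor_left A B (Localization.AtPrime P.asIdeal) M
    have h' : Module.Projective (FibLoc A B P)
        (FibLoc A B P ⊗[Localization.AtPrime P.asIdeal] (Localization.AtPrime P.asIdeal ⊗[B] M)) :=
      Module.Projective.of_equiv e.symm
    exact free_of_fibre (P.asIdeal.under A) _ (map_le_maximalIdeal P) Module.free_of_flat_of_isLocalRing
  · intro h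
    exact Module.Projective.of_equiv e

theorem subsingleton_iff_notMem_support (M : Type u) [AddCommGroup M] [Module B M] [Module.Finite B M]
    (P : PrimeSpectrum B) : Subsingleton (FibLoc A B P ⊗[B] M) ↔ P ∉ Module.support B M := by
  let R := Localization.AtPrime P.asIdeal
  let J := (P.asIdeal.under A).map (algebraMap A R)
  let e := AlgebraTensorModule.cancelBaseChange B R (FibLoc A B P) (FibLoc A B P) M
  rw [Module.notMem_support_iff,
    ← (AlgebraTensorModule.cancelBaseChange B R (FibLoc A B P) (FibLoc A B P) M).toEquiv.subsingleton_congr,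
    ((IsLocalizedModule.iso P.asIdeal.primeCompl (TensorProduct.mk B R M 1)).toEquiv).subsingleton_congr]
  constructor
  · intro h
    have hle : (⊤ : Submodule R (R ⊗[B] M)) ≤ J • ⊤ := fun x _ =>
      (one_tmul_eq_zero_iff J x).1 (Subsingleton.elim _ _)
    have := Submodule.eq_bot_of_le_smul_of_le_jacobson_bot J ⊤ Module.Finite.fg_top hle
      ((map_le_maximalIdeal P).trans (IsLocalRing.jacobson_eq_maximalIdeal ⊥ bot_ne_top).ge)
    exact subsingleton_of_forall_eq 0 fun x => (Submodule.mem_bot R).1 (this ▸ Submodule.mem_top)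
  · intro h
    refine subsingleton_of_forall_eq 0 fun x => ?_
    induction x using TensorProduct.induction_on with
    | zero => rfl
    | add a b ha hb => rw [ha, hb, add_zero]
    | tmul a b => rw [Subsingleton.elim b 0, tmul_zero]

variable [Algebra.FinitePresentation A B] [Module.Flat A B]

theorem injective_incl (S : FlatFPMod A B) (P : PrimeSpectrum B) :
    Function.Injective (S.incl.lTensor (FibLoc A B P)) := by
  let R := Localization.AtPrime P.asIdeal
  haveI : Module.Flat A (R ⊗[B] S.carrier) := GrothLib.CAlgMisc.flat_tensor_left A B R S.carrier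
  have h1 : Function.Exact (S.incl.baseChange R) (S.aug.baseChange R) :=
    Module.Flat.lTensor_exact R S.exact_incl_aug
  have h2 := injective_lTensor_fib (P.asIdeal.under A) (S.incl.baseChange R) (S.aug.baseChange R)
    (Module.Flat.lTensor_preserves_injective_linearMap _ S.incl_injective)
    (LinearMap.lTensor_surjective R S.aug_surjective) h1
  let e := fun (N : Type u) [AddCommGroup N] [Module B N] =>
    AlgebraTensorModule.cancelBaseChange B R (FibLoc A B P) (FibLoc A B P) N
  have hc : ∀ z, S.incl.lTensor (FibLoc A B P) (e S.next.carrier z) =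
      e (Fin S.rk → B) ((S.incl.baseChange R).lTensor (FibLoc A B P) z) := by
    intro z
    induction z using TensorProduct.induction_on with
    | zero => simp only [map_zero]
    | add a b ha hb => simp only [map_add, ha, hb]
    | tmul a y =>
      induction y using TensorProduct.induction_on with
      | zero => simp only [tmul_zero, map_zero]
      | add y y' hy hy' => simp only [tmul_add, map_add, hy, hy']
      | tmul r n => rfl
  intro x y hxy
  obtain ⟨x, rfl⟩ := (e S.next.carrier).surjective x
  obtain ⟨y, rfl⟩ := (e S.next.carrier).surjective y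
  rw [hc, hc] at hxy
  exact congrArg _ (h2 ((e (Fin S.rk → B)).injective hxy))

theorem pdLE_iff_mem_freeLocus : ∀ (n : ℕ) (S : FlatFPMod A B) (P : PrimeSpectrum B),
    PdLE (FibLoc A B P) (FibLoc A B P ⊗[B] S.carrier) n ↔ P ∈ Module.freeLocus B (S.syz n).carrier
  | 0, S, P => pdLE_zero_iff.trans (mem_freeLocus_iff_fibre S.carrier P)
  | n + 1, S, P => by
    rw [S.syz_succ n, ← pdLE_iff_mem_freeLocus n S.next P]
    exact pdLE_baseChange_succ_iff (FibLoc A B P) S.aug S.aug_surjective (injective_incl S P) n


/-- In affine form, let A be a commutative ring, B a finitely presented A-algebra which is flat over A,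
and M a finitely presented B-module which is flat over A. For a prime P of B lying over the prime p
of A, let B_P/pB_P be the local ring of the fibre at P and M_P/pM_P = (B_P/pB_P) ⊗_B M the fibre
stalk module. Then the function sending P to the projective dimension of M_P/pM_P over B_P/pB_P
(valued in WithBot ℕ∞, the zero module having dimension ⊥) is upper semicontinuous on Spec B: for
every bound, the set of P where the fibre projective dimension is below the bound is open. -/
theorem result (A B M : Type u) [CommRing A] [CommRing B] [Algebra A B]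
    [Algebra.FinitePresentation A B] [Module.Flat A B] [AddCommGroup M] [Module B M] [Module A M]
    [IsScalarTower A B M] [Module.FinitePresentation B M] [Module.Flat A M] :
    UpperSemicontinuous fun P : PrimeSpectrum B => projectiveDimension (ModuleCat.of
      (Localization.AtPrime P.asIdeal ⧸ (P.asIdeal.under A).map (algebraMap A (Localization.AtPrime P.asIdeal)))
      ((Localization.AtPrime P.asIdeal ⧸ (P.asIdeal.under A).map (algebraMap A (Localization.AtPrime P.asIdeal))) ⊗[B] M)) := by
  rw [upperSemicontinuous_iff_isOpen_preimage]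
  intro y
  let S : FlatFPMod A B := { carrier := M }
  have hlt : ∀ n : ℕ, IsOpen {P : PrimeSpectrum B |
      HasProjectiveDimensionLT (ModuleCat.of (FibLoc A B P) (FibLoc A B P ⊗[B] M)) n} := by
    rintro (_ | n)
    · simp only [hasProjectiveDimensionLT_zero_iff_isZero, ModuleCat.isZero_iff_subsingleton,
        subsingleton_iff_notMem_support]
      exact Module.isClosed_support.isOpen_compl
    · have he : {P : PrimeSpectrum B | HasProjectiveDimensionLT
          (ModuleCat.of (FibLoc A B P) (FibLoc A B P ⊗[B] M)) (n + 1)} =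
          Module.freeLocus B (S.syz n).carrier := Set.ext fun P => pdLE_iff_mem_freeLocus n S P
      rw [he]
      exact Module.isOpen_freeLocus
  cases y with
  | bot => simp
  | coe y =>
    cases y with
    | top =>
      have he : (fun P : PrimeSpectrum B => projectiveDimension
          (ModuleCat.of (FibLoc A B P) (FibLoc A B P ⊗[B] M))) ⁻¹' Set.Iio ((⊤ : ℕ∞) : WithBot ℕ∞) =
          ⋃ n : ℕ, {P : PrimeSpectrum B | HasProjectiveDimensionLT
            (ModuleCat.of (FibLoc A B P) (FibLoc A B P ⊗[B] M)) (n + 1)} := by
        ext P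
        simp only [Set.mem_preimage, Set.mem_Iio, Set.mem_iUnion, Set.mem_ofPred_eq]
        rw [WithBot.coe_top, lt_top_iff_ne_top, projectiveDimension_ne_top_iff]
      exact he ▸ isOpen_iUnion fun n => hlt (n + 1)
    | coe n =>
      have he : (fun P : PrimeSpectrum B => projectiveDimension
          (ModuleCat.of (FibLoc A B P) (FibLoc A B P ⊗[B] M))) ⁻¹' Set.Iio (((n : ℕ∞)) : WithBot ℕ∞) =
          {P : PrimeSpectrum B | HasProjectiveDimensionLT
            (ModuleCat.of (FibLoc A B P) (FibLoc A B P ⊗[B] M)) n} := by
        ext P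
        exact projectiveDimension_lt_iff
      exact he ▸ hlt n

end Groth.Agent.S19197
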