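import Groth.Statements.S19198
import Groth.Agent.Lib.SpreadIso29.Basic


set_option autoImplicit false
universe u
open CategoryTheory AlgebraicGeometry
open Models

namespace Groth.Agent.S19198

/-- Form over the valuation ring: let R be a discrete valuation ring with a uniformizer ϖ, let C → Spec
R be flat and locally of finite type, f : X → C proper, and Z → X a closed immersion with Z flat
over R such that the composite Z → C restricts to an isomorphism over the generic fibre, the
preimage of the open set D(ϖ) of Spec R. Then for every point c of C whose local ring is an
integrally closed domain of Krull dimension one (a codimension-one point at which C is normal, for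
instance a generic point of the closed fibre lying in the smooth locus), there is an open
neighbourhood V of c over which Z → C is an isomorphism. (The published statement, that the closed
fibre of such a Z maps isomorphically onto the closed fibre of C over every generic point of its
smooth locus, also after a finite extension of R, follows by restriction to the closed fibre and
flat descent.) -/
theorem result (R : Type u) [CommRing R] [IsDomain R]
    [IsDiscreteValuationRing R] {C X Z : Scheme.{u}} (πC : C ⟶ Spec (CommRingCat.of R)) [Flat πC]
    [LocallyOfFiniteType πC] (f : X ⟶ C) [IsProper f] (i : Z ⟶ X) [IsClosedImmersion i]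
    [Flat ((i ≫ f) ≫ πC)] (ϖ : R) (hϖ : Irreducible ϖ)
    (hgen : IsIso ((i ≫ f) ∣_ (πC ⁻¹ᵁ (PrimeSpectrum.basicOpen ϖ))))
    (c : C) (hdom : IsDomain (C.presheaf.stalk c)) (hnorm : IsIntegrallyClosed (C.presheaf.stalk c))
    (hdim : ringKrullDim (C.presheaf.stalk c) = 1) :
    ∃ V : C.Opens, c ∈ V ∧ IsIso ((i ≫ f) ∣_ V) := by
  haveI : IsProper (i ≫ f) := inferInstance
  exact GrothLib.SpreadIso29.exists_nhds_isIso πC (i ≫ f) ϖ hϖ.ne_zero hgen c hdom hnorm hdim

end Groth.Agent.S19198
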