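import Groth.Statements.S19203
import Groth.Agent.Lib.GGGrowth9.Main
import Groth.Agent.Lib.NefGrowth.Growth

set_option autoImplicit false
universe u
open CategoryTheory AlgebraicGeometry
open Coh

namespace Groth.Agent.S19203

/-- Let X be a scheme proper over a field k with dim X = r, and L an invertible O_X-module generated by
its global sections. Then for each i ≥ 1 the dimensions dim_k H^i(X, L^{⊗n}) are O(n^{r-1}): there
is a real constant C with dim_k H^i(X, L^{⊗n}) ≤ C·n^{r-1} for every n ≥ 1. (For r = 0 the exponent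
r − 1 is read as 0; k is any field.) -/
theorem result (k : Type u) [Field k] (X : Scheme.{u})
    [X.Over (Spec (CommRingCat.of k))] [IsProper (X ↘ (Spec (CommRingCat.of k)))]
    (r : ℕ) (hdim : topologicalKrullDim X = r)
    (L : X.Modules) (hL : PicF.IsInvertible L) (hgen : Curv2.IsGloballyGenerated L)
    (i : ℕ) (hi : 1 ≤ i) :
    ∃ C : ℝ, ∀ n : ℕ, 1 ≤ n →
      (Module.finrank k (Coh.HH X (CohB1.tensorPow L n) i) : ℝ) ≤ C * (n : ℝ) ^ (r - 1) := by
  open GrothLib in
  classical
  haveI := Euler.isNoetherian_of_proper (X := X) k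
  have hd : Snapper.DimLT (Set.univ : Set X) (r + 1) := Kleiman.dimLT_univ (le_of_eq hdim)
  obtain ⟨C, hC⟩ := GGGrowth9.growth_hpos_gg (k := k) hL hgen r (Coh.structureModule X)
    (Kleiman.isCoh_O (X := X) k) (hd.mono fun _ _ => trivial)
  obtain ⟨N, hN⟩ := Euler.exists_bound (X := X) k
  refine ⟨(C : ℝ) * 2 ^ (r - 1), fun n hn => ?_⟩
  have hcoh := Snapper.isCoh_twist k hL (Kleiman.isCoh_O (X := X) k) n
  haveI := hcoh.1
  have h0 := hC n
  rw [Snapper.hpos_eq_sum k (N := max N i)
    (fun j hj => hN ((Euler.tF (CohB1.tensorPow L n)).obj (Coh.structureModule X)) j (le_trans (le_max_left N i) hj))] at h0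
  have h1 := le_trans (Finset.single_le_sum
    (f := fun j => Module.finrank k (Coh.HH X ((Euler.tF (CohB1.tensorPow L n)).obj (Coh.structureModule X)) (j + 1)))
    (fun j _ => Nat.zero_le _) (Finset.mem_range.2 (show i - 1 < max N i by omega))) h0
  rw [show i - 1 + 1 = i from Nat.sub_add_cancel hi] at h1
  have e : (Euler.tF (CohB1.tensorPow L n)).obj (Coh.structureModule X) ≅ CohB1.tensorPow L n :=
    OX.tensorUnitLeftIso _
  have h3 : Module.finrank k (Coh.HH X (CohB1.tensorPow L n) i) ≤ C * (n + 1) ^ (r - 1) :=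
    (le_of_eq (NefGrowth.hl_iso k e.symm i)).trans h1
  calc (Module.finrank k (Coh.HH X (CohB1.tensorPow L n) i) : ℝ) ≤ ((C * (n + 1) ^ (r - 1) : ℕ) : ℝ) := by
        exact_mod_cast h3
    _ = (C : ℝ) * ((n : ℝ) + 1) ^ (r - 1) := by push_cast; ring
    _ ≤ (C : ℝ) * (2 ^ (r - 1) * (n : ℝ) ^ (r - 1)) := by
        rw [← mul_pow]
        refine mul_le_mul_of_nonneg_left (pow_le_pow_left₀ (by positivity) ?_ _) (by positivity)
        have : (1 : ℝ) ≤ n := by exact_mod_cast hn
        linarith
    _ = (C : ℝ) * 2 ^ (r - 1) * (n : ℝ) ^ (r - 1) := by ring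

end Groth.Agent.S19203
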