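import Groth.Statements.S19206
import Groth.Agent.Lib.Lech3.Comb
-- import your own Groth.Agent.* helpers here

set_option autoImplicit false
universe u
open Filter
open LocAlg

namespace Groth.Agent.S19206

/-- Let O be a Noetherian local ring of Krull dimension r which contains a field, with maximal ideal m,
and let I be an m-primary ideal (I ⊆ m and m^N ⊆ I for some N). Write e(I) for the Samuel
multiplicity of I, the limit of r!·length(O/I^n)/n^r, and e(O) for that of m. Then e(I) ≤
r!·e(O)·length(O/I); consequently the supremum of e(I)/(r!·length(O/I)) over such I is at most e(O).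
(Stated for real numbers e(I), e(O) equal to those limits; the hypothesis that O contains a field is
the standing equicharacteristic convention of the section and is not needed for the inequality.) -/
theorem result (O : Type u) [CommRing O] [IsNoetherianRing O] [IsLocalRing O]
    (K : Type u) [Field K] [Algebra K O] (r : ℕ) (hr : ringKrullDim O = r)
    (I : Ideal O) (hI : I ≤ IsLocalRing.maximalIdeal O) (hIN : ∃ N : ℕ, IsLocalRing.maximalIdeal O ^ N ≤ I)
    (eI eO : ℝ)
    (heI : Tendsto (fun n : ℕ => (r.factorial : ℝ) * ((Module.length O (O ⧸ I ^ n)).toNat : ℝ) / (n : ℝ) ^ r)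
      atTop (nhds eI))
    (heO : Tendsto (fun n : ℕ => (r.factorial : ℝ) *
        ((Module.length O (O ⧸ IsLocalRing.maximalIdeal O ^ n)).toNat : ℝ) / (n : ℝ) ^ r) atTop (nhds eO)) :
    eI ≤ (r.factorial : ℝ) * eO * ((Module.length O (O ⧸ I)).toNat : ℝ) := by
  classical
  obtain ⟨N, hN⟩ := hIN
  obtain ⟨m, x, hx⟩ := Submodule.fg_iff_exists_fin_generating_family.1 (IsNoetherian.noetherian (IsLocalRing.maximalIdeal O))
  let E : Set (Fin m → ℕ) := {a | GrothLib.Lech3.Red x ⊥ a}
  obtain ⟨M, hM⟩ := GrothLib.Lech3.exists_bound (E := E) fun a ha b hb => ha.of_le hb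
  have hpow : ∀ n, (Module.length O (O ⧸ IsLocalRing.maximalIdeal O ^ n)).toNat = (GrothLib.Lech3.simplexOut E n).card := fun n => by
    rw [GrothLib.Lech3.length_eq_card hx _ n le_rfl, ENat.toNat_natCast, GrothLib.Lech3.simplexOut]
    refine congrArg Finset.card (Finset.filter_congr fun a ha => not_congr ?_)
    rw [← hx]
    exact GrothLib.Lech3.red_pow_iff (GrothLib.Lech3.mem_simplex.1 ha)
  simp only [hpow] at heO
  refine GrothLib.Lech3.le_of_bound hM r eO (Module.length O (O ⧸ I)).toNat
    (fun n => (Module.length O (O ⧸ I ^ n)).toNat) eI heO (fun n hn => ?_) heI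
  have hNn : IsLocalRing.maximalIdeal O ^ (N * n) ≤ I ^ n := by
    rw [pow_mul]; exact Ideal.pow_right_mono hN n
  rw [GrothLib.Lech3.length_eq_card hx I N hN, GrothLib.Lech3.length_eq_card hx (I ^ n) (N * n) hNn,
    ENat.toNat_natCast, ENat.toNat_natCast, ← Finset.card_product]
  refine Finset.card_le_card_of_injOn (fun a => ((fun i => a i / n), fun i => a i % n)) (fun a ha => ?_) ?_
  · simp only [Finset.mem_coe, Finset.mem_filter] at ha
    have hmul : (n • fun i => a i / n) ≤ a := fun i => Nat.mul_div_le (a i) n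
    have hT : ¬ GrothLib.Lech3.Red x I (fun i => a i / n) := fun h => ha.2 ((h.pow n).of_le hmul)
    simp only [Finset.mem_coe, Finset.mem_product, Finset.mem_filter, GrothLib.Lech3.boxOut, Fintype.mem_piFinset,
      Finset.mem_range, GrothLib.Lech3.mem_simplex]
    refine ⟨⟨?_, hT⟩, fun i => Nat.mod_lt _ hn, fun h => ha.2 ?_⟩
    · by_contra hlt
      push Not at hlt
      exact hT ((GrothLib.Lech3.red_of_mem_pow (K := IsLocalRing.maximalIdeal O)
        (fun i => hx ▸ Ideal.subset_span ⟨i, rfl⟩) hlt).mono_ideal hN)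
    · exact (GrothLib.Lech3.Red.of_le h fun i => Nat.mod_le _ _).mono_ideal bot_le
  · intro a _ b _ h
    funext i
    rw [← Nat.div_add_mod (a i) n, ← Nat.div_add_mod (b i) n]
    simp only [Prod.mk.injEq, funext_iff] at h
    rw [h.1 i, h.2 i]

end Groth.Agent.S19206
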