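import Groth.Statements.S19207
import Groth.Agent.Lib.DblPtMult1.Mult

set_option autoImplicit false
universe u
open Filter
open LocAlg

namespace Groth.Agent.S19207

/-- Let k be a field and n ≥ 3, and let A = k[[x, y, t]]/(x^2 − y^n), the power-series ring in t over
the higher double point O = k[[x, y]]/(x^2 − y^n), a two-dimensional local ring. The ideal I = (x^2,
xy, y^2, xt, yt^2, t^4) of A has length(A/I) = 7 and Samuel multiplicity e(I) = 16, in the sense
that 2·length(A/I^m)/m^2 tends to 16. Hence e(I)/(2!·length(A/I)) = 8/7, which gives the bound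
e_1(O) ≥ 8/7 for the first flat multiplicity of a higher double point (the supremum of
e(I)/(2!·length(A/I)) over ideals of finite colength of A = O[[t]]). Here x, y, t are the
power-series variables indexed 0, 1, 2. -/
theorem result (k : Type u) [Field k] (n : ℕ) (hn : 3 ≤ n)
    (I : Ideal (MvPowerSeries (Fin 3) k ⧸ Ideal.span {(MvPowerSeries.X 0 ^ 2 - MvPowerSeries.X 1 ^ n : MvPowerSeries (Fin 3) k)}))
    (hI : I = Ideal.map (Ideal.Quotient.mk (Ideal.span {(MvPowerSeries.X 0 ^ 2 - MvPowerSeries.X 1 ^ n : MvPowerSeries (Fin 3) k)}))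
      (Ideal.span {(MvPowerSeries.X 0 ^ 2 : MvPowerSeries (Fin 3) k), MvPowerSeries.X 0 * MvPowerSeries.X 1,
        MvPowerSeries.X 1 ^ 2, MvPowerSeries.X 0 * MvPowerSeries.X 2,
        MvPowerSeries.X 1 * MvPowerSeries.X 2 ^ 2, MvPowerSeries.X 2 ^ 4})) :
    Module.length (MvPowerSeries (Fin 3) k ⧸ Ideal.span {(MvPowerSeries.X 0 ^ 2 - MvPowerSeries.X 1 ^ n : MvPowerSeries (Fin 3) k)}) ((MvPowerSeries (Fin 3) k ⧸ Ideal.span {(MvPowerSeries.X 0 ^ 2 - MvPowerSeries.X 1 ^ n : MvPowerSeries (Fin 3) k)}) ⧸ I) = 7 ∧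
      Tendsto (fun m : ℕ => (2 : ℝ) * ((Module.length (MvPowerSeries (Fin 3) k ⧸ Ideal.span {(MvPowerSeries.X 0 ^ 2 - MvPowerSeries.X 1 ^ n : MvPowerSeries (Fin 3) k)}) ((MvPowerSeries (Fin 3) k ⧸ Ideal.span {(MvPowerSeries.X 0 ^ 2 - MvPowerSeries.X 1 ^ n : MvPowerSeries (Fin 3) k)}) ⧸ I ^ m)).toNat : ℝ) / (m : ℝ) ^ 2)
        atTop (nhds 16) := by
  have e : I = DblPtMult1.I k n := by
    rw [hI, DblPtMult1.I, DblPtMult1.mI]
    refine congrArg (fun J => Ideal.map _ (Ideal.span J)) ?_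
    ext f
    simp [DblPtMult1.wit, DblPtMult1.mo, eq_comm]
  subst e
  exact ⟨DblPtMult1.length_I hn, DblPtMult1.tendsto_mult hn⟩

end Groth.Agent.S19207
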