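import Groth.Statements.S19208
import Groth.Agent.Lib.HilbSam.Asymp

set_option autoImplicit false
universe u
open Filter
open LocAlg

namespace Groth.Agent.S19208

/-- Let O be a Noetherian local ring of Krull dimension r containing a field, with maximal ideal m. The
zeroth flat multiplicity e_0(O), the supremum over m-primary ideals I of e(I)/(r!·length(O/I)) with
e(I) the Samuel multiplicity, is at least 1: for every ε > 0 there is an m-primary ideal I (I ⊆ m,
m^N ⊆ I for some N) whose multiplicity e(I), the limit of r!·length(O/I^n)/n^r, satisfies e(I) ≥ (1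
− ε)·r!·length(O/I). (The same statement for the power-series rings O[[t_1, …, t_k]] is the bound
e_k(O) ≥ 1 for the k-th flat multiplicity.) -/
theorem result (O : Type u) [CommRing O] [IsNoetherianRing O]
    [IsLocalRing O] (K : Type u) [Field K] [Algebra K O] (r : ℕ) (hr : ringKrullDim O = r)
    (ε : ℝ) (hε : 0 < ε) :
    ∃ (I : Ideal O) (e : ℝ), I ≤ IsLocalRing.maximalIdeal O ∧
      (∃ N : ℕ, IsLocalRing.maximalIdeal O ^ N ≤ I) ∧
      Tendsto (fun n : ℕ => (r.factorial : ℝ) * ((Module.length O (O ⧸ I ^ n)).toNat : ℝ) / (n : ℝ) ^ r)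
        atTop (nhds e) ∧
      (1 - ε) * ((r.factorial : ℝ) * ((Module.length O (O ⧸ I)).toNat : ℝ)) ≤ e := by
  set m := IsLocalRing.maximalIdeal O with hm
  have hdef : GrothLib.HilbSam.IsDefining m O :=
    GrothLib.HilbSam.IsDefining.of_pow_le (n := 1) (by rw [pow_one]) O
  obtain ⟨P, hP⟩ := GrothLib.HilbSam.exists_polynomial m O hdef.isFiniteLength
  have hdeg : P.natDegree = r := by
    have h := GrothLib.HilbSam.natDegree_eq_supportDim
      (IsLocalRing.ringJacobson_eq_maximalIdeal (R := O)).ge hdef hP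
    rw [Module.supportDim_self_eq_ringKrullDim, hr] at h
    exact_mod_cast h
  have hT := GrothLib.HilbSam.tendsto_samuel_of_eval hdeg.le hP
  set c : ℝ := (P.coeff r : ℝ) with hc
  have hc0 : 0 < c := by
    have hne : c ≠ 0 := by
      intro h0
      have h1 : P.coeff P.natDegree = 0 := by rw [hdeg]; exact_mod_cast hc.symm.trans h0
      have h2 : P = 0 := Polynomial.leadingCoeff_eq_zero.mp h1
      obtain ⟨t, ht, ht0⟩ := (hP.and (eventually_gt_atTop 0)).exists
      have h3 := GrothLib.HilbSam.samuel_pos (M := O)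
        (IsLocalRing.ringJacobson_eq_maximalIdeal (R := O)).ge hdef.isFiniteLength ht0.ne'
      rw [h2, Polynomial.eval_zero] at ht
      exact h3.ne' (by exact_mod_cast ht)
    refine lt_of_le_of_ne (ge_of_tendsto hT (Eventually.of_forall fun t => ?_)) hne.symm
    have := GrothLib.HilbSam.samuel_nonneg m O t
    exact div_nonneg (by exact_mod_cast this) (by positivity)
  obtain ⟨k, hk, hk0⟩ : ∃ k : ℕ, (1 - ε) * (GrothLib.HilbSam.samuel m O k : ℝ) ≤ c * (k : ℝ) ^ r ∧
      0 < k := by
    have h1 : (1 - ε) * c < c := by nlinarith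
    obtain ⟨k, hk, hk0⟩ := ((hT.const_mul (1 - ε)).eventually_le_const h1 |>.and
      (eventually_gt_atTop 0)).exists
    refine ⟨k, ?_, hk0⟩
    rw [← mul_div_assoc, div_le_iff₀ (by positivity)] at hk
    exact hk
  refine ⟨m ^ k, (r.factorial : ℝ) * ((k : ℝ) ^ r * c), Ideal.pow_le_self hk0.ne', ⟨k, le_rfl⟩, ?_, ?_⟩
  · have hmul : Tendsto (fun n : ℕ => k * n) atTop atTop :=
      tendsto_atTop_mono (fun n => Nat.le_mul_of_pos_left n hk0) tendsto_id
    refine (((hT.comp hmul).const_mul ((k : ℝ) ^ r)).const_mul (r.factorial : ℝ)).congr'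
      ((eventually_gt_atTop 0).mono fun n hn => ?_)
    have hk' : (k : ℝ) ^ r ≠ 0 := by positivity
    simp only [Function.comp_apply, GrothLib.HilbSam.samuel_self, GrothLib.HilbSam.len,
      Int.cast_natCast, Nat.cast_mul, mul_pow]
    field_simp
    rw [← pow_mul]
  · rw [GrothLib.HilbSam.samuel_self, GrothLib.HilbSam.len, Int.cast_natCast] at hk
    have : (0 : ℝ) ≤ r.factorial := by positivity
    nlinarith

end Groth.Agent.S19208
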