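import Groth.Statements.S19210
import Mathlib.Tactic
import Mathlib.Algebra.Field.GeomSum
import Mathlib.Algebra.Order.BigOperators.Group.Finset
import Mathlib.Analysis.SpecificLimits.Basic

set_option autoImplicit false
universe u
open LocAlg

namespace Groth.Agent.S19210

theorem pow_step (j : ℕ) (x : ℝ) (hx : 0 ≤ x) :
    ((j : ℝ) + 1) * x ^ j ≤ (x + 1) ^ (j + 1) - x ^ (j + 1) ∧
      (x + 1) ^ (j + 1) - x ^ (j + 1) ≤ ((j : ℝ) + 1) * (x + 1) ^ j := by
  have h := geom_sum₂_mul (x + 1) x (j + 1)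
  rw [add_sub_cancel_left, mul_one, add_tsub_cancel_right] at h
  rw [← h]
  have hlo : ∀ i ∈ Finset.range (j + 1), x ^ j ≤ (x + 1) ^ i * x ^ (j - i) := fun i hi => by
    rw [Finset.mem_range] at hi
    calc x ^ j = x ^ i * x ^ (j - i) := by rw [← pow_add]; congr 1; omega
      _ ≤ _ := by gcongr; linarith
  have hhi : ∀ i ∈ Finset.range (j + 1), (x + 1) ^ i * x ^ (j - i) ≤ (x + 1) ^ j := fun i hi => by
    rw [Finset.mem_range] at hi
    calc (x + 1) ^ i * x ^ (j - i) ≤ (x + 1) ^ i * (x + 1) ^ (j - i) := by gcongr; linarith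
      _ = _ := by rw [← pow_add]; congr 1; omega
  have h1 := Finset.card_nsmul_le_sum _ _ _ hlo
  have h2 := Finset.sum_le_card_nsmul _ _ _ hhi
  simp only [Finset.card_range, nsmul_eq_mul, Nat.cast_add, Nat.cast_one] at h1 h2
  exact ⟨h1, h2⟩

theorem sum_pow_bound (j n : ℕ) :
    |(∑ i ∈ Finset.range n, (i : ℝ) ^ j) - (n : ℝ) ^ (j + 1) / ((j : ℝ) + 1)| ≤ (n : ℝ) ^ j := by
  have hj : (0 : ℝ) < (j : ℝ) + 1 := by positivity
  have htel : ((n : ℝ) ^ (j + 1)) = ∑ i ∈ Finset.range n, (((i : ℝ) + 1) ^ (j + 1) - (i : ℝ) ^ (j + 1)) := by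
    have := Finset.sum_range_sub (fun i : ℕ => (i : ℝ) ^ (j + 1)) n
    simp only [Nat.cast_add, Nat.cast_one, Nat.cast_zero, zero_pow (Nat.succ_ne_zero j), sub_zero] at this
    exact this.symm
  have h1 : ((j : ℝ) + 1) * ∑ i ∈ Finset.range n, (i : ℝ) ^ j ≤ (n : ℝ) ^ (j + 1) := by
    rw [htel, Finset.mul_sum]
    exact Finset.sum_le_sum fun i _ => (pow_step j i (Nat.cast_nonneg i)).1
  have h2 : (n : ℝ) ^ (j + 1) ≤ ((j : ℝ) + 1) * ∑ i ∈ Finset.range n, ((i : ℝ) + 1) ^ j := by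
    rw [htel, Finset.mul_sum]
    exact Finset.sum_le_sum fun i _ => (pow_step j i (Nat.cast_nonneg i)).2
  have h3 : ∑ i ∈ Finset.range n, ((i : ℝ) + 1) ^ j ≤ (∑ i ∈ Finset.range n, (i : ℝ) ^ j) + (n : ℝ) ^ j := by
    have e1 := Finset.sum_range_succ' (fun i : ℕ => (i : ℝ) ^ j) n
    have e2 := Finset.sum_range_succ (fun i : ℕ => (i : ℝ) ^ j) n
    simp only [Nat.cast_add, Nat.cast_one, Nat.cast_zero] at e1
    have : (0 : ℝ) ≤ (0 : ℝ) ^ j := by positivity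
    linarith
  rw [abs_le]
  constructor
  · rw [neg_le_sub_iff_le_add, div_le_iff₀ hj]
    nlinarith
  · rw [sub_le_iff_le_add]
    have : (∑ i ∈ Finset.range n, (i : ℝ) ^ j) ≤ (n : ℝ) ^ (j + 1) / ((j : ℝ) + 1) := by
      rw [le_div_iff₀ hj]; linarith
    have : (0 : ℝ) ≤ (n : ℝ) ^ j := by positivity
    linarith

theorem main_bound (a : ℕ) : ∀ j : ℕ, ∃ C : ℝ, ∀ n : ℕ,
    |(∑ i ∈ Finset.range n, ((n : ℝ) - (i : ℝ)) ^ a * (i : ℝ) ^ j) -
      (a.factorial : ℝ) * (j.factorial : ℝ) / ((a + j + 1).factorial : ℝ) * (n : ℝ) ^ (a + j + 1)| ≤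
      C * (n : ℝ) ^ (a + j) := by
  induction a with
  | zero =>
    intro j
    refine ⟨1, fun n => ?_⟩
    have := sum_pow_bound j n
    simp only [pow_zero, one_mul, Nat.factorial_zero, Nat.cast_one, zero_add]
    rw [Nat.factorial_succ, Nat.cast_mul, div_mul_eq_div_div_swap,
      div_self (by positivity : (j.factorial : ℝ) ≠ 0), one_div_mul_eq_div]
    simpa using this
  | succ a ih =>
    intro j
    obtain ⟨C₁, h₁⟩ := ih j
    obtain ⟨C₂, h₂⟩ := ih (j + 1)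
    refine ⟨C₁ + C₂, fun n => ?_⟩
    have hs : (∑ i ∈ Finset.range n, ((n : ℝ) - (i : ℝ)) ^ (a + 1) * (i : ℝ) ^ j) =
        (n : ℝ) * (∑ i ∈ Finset.range n, ((n : ℝ) - (i : ℝ)) ^ a * (i : ℝ) ^ j) -
          ∑ i ∈ Finset.range n, ((n : ℝ) - (i : ℝ)) ^ a * (i : ℝ) ^ (j + 1) := by
      rw [Finset.mul_sum, ← Finset.sum_sub_distrib]
      exact Finset.sum_congr rfl fun i _ => by ring
    have hc : ((a + 1).factorial : ℝ) * (j.factorial : ℝ) / ((a + 1 + j + 1).factorial : ℝ) =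
        (a.factorial : ℝ) * (j.factorial : ℝ) / ((a + j + 1).factorial : ℝ) -
          (a.factorial : ℝ) * ((j + 1).factorial : ℝ) / ((a + (j + 1) + 1).factorial : ℝ) := by
      rw [show a + 1 + j + 1 = (a + j + 1) + 1 by ring, show a + (j + 1) + 1 = (a + j + 1) + 1 by ring,
        Nat.factorial_succ (a + j + 1), Nat.factorial_succ a, Nat.factorial_succ j]
      push_cast
      field_simp
      ring
    have e1 := h₁ n
    have e2 := h₂ n
    rw [show a + (j + 1) + 1 = a + j + 1 + 1 by ring, show a + (j + 1) = a + j + 1 by ring] at e2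
    rw [hs, hc, show a + 1 + j + 1 = a + j + 1 + 1 by ring, show a + 1 + j = a + j + 1 by ring,
      show a + (j + 1) + 1 = a + j + 1 + 1 by ring]
    have e1' := mul_le_mul_of_nonneg_left e1 (Nat.cast_nonneg n : (0 : ℝ) ≤ n)
    rw [← abs_of_nonneg (Nat.cast_nonneg n : (0 : ℝ) ≤ n), ← abs_mul,
      abs_of_nonneg (Nat.cast_nonneg n : (0 : ℝ) ≤ n)] at e1'
    refine le_trans (le_of_eq ?_) ((abs_sub _ _).trans (le_trans (add_le_add e1' e2) (le_of_eq ?_)))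
    · congr 1
      ring
    · ring

/-- For natural numbers j ≤ r, the sums Σ_{i=0}^{n−1} (n − i)^{r−j} i^j equal n^{r+1}·(r − j)!·j!/(r +
1)! up to O(n^r): there is a real constant C with |Σ_{i<n} (n − i)^{r−j} i^j − ((r − j)!·j!/(r +
1)!)·n^{r+1}| ≤ C·n^r for all n ≥ 1. -/
theorem result (r j : ℕ) (hj : j ≤ r) :
    ∃ C : ℝ, ∀ n : ℕ, 1 ≤ n →
      |(∑ i ∈ Finset.range n, ((n : ℝ) - (i : ℝ)) ^ (r - j) * (i : ℝ) ^ j) -
          ((r - j).factorial : ℝ) * (j.factorial : ℝ) / ((r + 1).factorial : ℝ) * (n : ℝ) ^ (r + 1)| ≤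
        C * (n : ℝ) ^ r := by
  obtain ⟨C, hC⟩ := main_bound (r - j) j
  refine ⟨C, fun n _ => ?_⟩
  have := hC n
  rwa [Nat.sub_add_cancel hj] at this

end Groth.Agent.S19210
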