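import Groth.Statements.S19212
import Groth.Agent.Lib.DiagForms.Basic
import Mathlib.Tactic.Module

set_option autoImplicit false
universe u v
open TensorProduct
open DiagIdeal

namespace Groth.Agent.S19212

variable (k : Type u) [Field k] (A : Type v) [CommRing A] [Algebra k A]

/-- tensors fixed by both swaps -/
noncomputable def fixed : Submodule k (A ⊗[k] (A ⊗[k] A)) :=
  LinearMap.eqLocus (TensorProduct.leftComm k A A A).toLinearMap LinearMap.id ⊓
    LinearMap.eqLocus (LinearMap.lTensor A (TensorProduct.comm k A A).toLinearMap) LinearMap.id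

lemma mem_fixed {x : A ⊗[k] (A ⊗[k] A)} : x ∈ fixed k A ↔ TensorProduct.leftComm k A A A x = x ∧
    LinearMap.lTensor A (TensorProduct.comm k A A).toLinearMap x = x := Iff.rfl

variable {k A} [CharZero k]

lemma rel_mem (r : A ⊗[k] (A ⊗[k] A) →ₗ[k] A ⊗[k] A)
    (hr : ∀ a b c : A, r (a ⊗ₜ[k] (b ⊗ₜ[k] c)) = (a * b) ⊗ₜ[k] c) (a b c : A) :
    (a * b) ⊗ₜ[k] c + (a * c) ⊗ₜ[k] b + (b * c) ⊗ₜ[k] a ∈ (fixed k A).map r := by
  let z : A ⊗[k] (A ⊗[k] A) := a ⊗ₜ (b ⊗ₜ c) + a ⊗ₜ (c ⊗ₜ b) + b ⊗ₜ (a ⊗ₜ c) + b ⊗ₜ (c ⊗ₜ a) +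
    c ⊗ₜ (a ⊗ₜ b) + c ⊗ₜ (b ⊗ₜ a)
  refine ⟨(2 : k)⁻¹ • z, Submodule.smul_mem _ _ ⟨?_, ?_⟩, ?_⟩
  · show TensorProduct.leftComm k A A A z = z
    simp only [z, map_add, TensorProduct.leftComm_tmul]
    abel
  · show LinearMap.lTensor A (TensorProduct.comm k A A).toLinearMap z = z
    simp only [z, map_add, LinearMap.lTensor_tmul, LinearEquiv.coe_coe, TensorProduct.comm_tmul]
    abel
  · rw [map_smul]
    simp only [z, map_add, hr]
    rw [mul_comm b a, mul_comm c a, mul_comm c b, inv_smul_eq_iff₀ two_ne_zero, two_smul]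
    abel

/-- Let k be an algebraically closed field of characteristic zero and A a smooth k-algebra which is a
domain. Let the symmetric group on three letters permute the factors of A ⊗ A ⊗ A (it is generated
by the swap of the first two factors and the swap of the last two), let r : A ⊗ (A ⊗ A) → A ⊗ A be
the k-linear map a ⊗ b ⊗ c ↦ ab ⊗ c, and let D : A ⊗ A → Ω_{A/k} be the k-linear map a ⊗ b ↦ 2a·db −
b·da. Then an element y of A ⊗ A satisfies D y = 0 if and only if y = r x for some x fixed by both
swaps, and D is surjective. (This is exactness at the last two places of the four-term right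
resolution of the invariants of the ideal of the big diagonal on the symmetric cube of X = Spec A,
namely invariant functions on X³, then functions on X × X through restriction to a diagonal, then
one-forms on X; exactness at the first two places is immediate. The published statement is the sheaf
version on the symmetric cube of a smooth complex variety of any dimension; an algebraically closed
field of characteristic zero is used here.) -/
theorem result (k : Type u) [Field k] [IsAlgClosed k] [CharZero k]
    (A : Type v) [CommRing A] [Algebra k A] [Algebra.Smooth k A] [IsDomain A]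
    (r : A ⊗[k] (A ⊗[k] A) →ₗ[k] A ⊗[k] A)
    (hr : ∀ a b c : A, r (a ⊗ₜ[k] (b ⊗ₜ[k] c)) = (a * b) ⊗ₜ[k] c)
    (D : A ⊗[k] A →ₗ[k] Ω[A⁄k])
    (hD : ∀ a b : A, D (a ⊗ₜ[k] b) = (2 : A) • (a • KaehlerDifferential.D k A b) - b • KaehlerDifferential.D k A a) :
    (∀ y : A ⊗[k] A, D y = 0 ↔ ∃ x : A ⊗[k] (A ⊗[k] A),
        TensorProduct.leftComm k A A A x = x ∧
        LinearMap.lTensor A (TensorProduct.comm k A A).toLinearMap x = x ∧ r x = y) ∧
    Function.Surjective D := by
  let F := GrothLib.DiagForms.forms k A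
  let τ : A ⊗[k] A →ₗ[k] A ⊗[k] A := (TensorProduct.comm k A A).toLinearMap
  have hτ : ∀ a b : A, τ (a ⊗ₜ b) = b ⊗ₜ a := fun a b => TensorProduct.comm_tmul k A A a b
  have hD' : D = (2 : k) • F - F.comp τ := TensorProduct.ext' fun a b => by
    rw [hD, LinearMap.sub_apply, LinearMap.smul_apply, LinearMap.comp_apply, hτ]
    simp only [F, GrothLib.DiagForms.forms_tmul]
    rw [two_smul, two_smul]
  let S := (fixed k A).map r
  have hrel : ∀ a b c : A, (a * b) ⊗ₜ[k] c + (a * c) ⊗ₜ[k] b + (b * c) ⊗ₜ[k] a ∈ S := rel_mem r hr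
  let u1 : A ⊗[k] A →ₗ[k] A ⊗[k] A := ((TensorProduct.mk k A A).flip 1).comp (LinearMap.mul' k A)
  have hu1 : ∀ a b : A, u1 (a ⊗ₜ b) = (a * b) ⊗ₜ 1 := fun a b => by simp [u1]
  refine ⟨fun y => ⟨fun hy => ?_, ?_⟩, ?_⟩
  · -- `y` lies in the span of the restrictions of symmetric tensors
    let φ : A ⊗[k] A →ₗ[k] (A ⊗[k] A) ⧸ S := S.mkQ.comp (LinearMap.id - u1)
    have hφ : ∀ a b c : A, φ (a ⊗ₜ (b * c)) = φ ((a * b) ⊗ₜ c) + φ ((a * c) ⊗ₜ b) := by
      intro a b c
      simp only [φ, LinearMap.comp_apply, LinearMap.sub_apply, LinearMap.id_apply, hu1]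
      rw [← map_add, ← sub_eq_zero, ← map_sub, Submodule.mkQ_apply, Submodule.Quotient.mk_eq_zero]
      have h := Submodule.sub_mem S (hrel a (b * c) 1) (hrel a b c)
      rw [mul_one, mul_one] at h
      rw [show a * c * b = a * (b * c) by ring, show a * b * c = a * (b * c) by ring]
      convert h using 1
      abel
    have hFy : F ((2 : k) • y - τ y) = 0 := by
      rw [hD'] at hy
      simpa using hy
    have h0 := GrothLib.DiagForms.eq_zero_of_leibniz φ hφ hFy
    have hsym : ∀ z, τ z + z + u1 z ∈ S := by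
      intro z
      induction z using TensorProduct.induction_on with
      | zero => simp
      | tmul a b =>
        rw [hτ, hu1]
        have h := hrel a b 1
        rw [mul_one, mul_one] at h
        convert h using 1
        abel
      | add z z' hz hz' => simp only [map_add]; convert S.add_mem hz hz' using 1; abel
    have h3 : ∀ z, φ ((2 : k) • z - τ z) = S.mkQ ((3 : k) • z) := by
      intro z
      have hu : u1 (τ z) = u1 z := by
        induction z using TensorProduct.induction_on with
        | zero => simp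
        | tmul a b => rw [hτ, hu1, hu1, mul_comm]
        | add z z' hz hz' => simp only [map_add, hz, hz']
      simp only [φ, LinearMap.comp_apply, LinearMap.sub_apply, LinearMap.id_apply, map_sub u1,
        map_smul u1, hu, Submodule.mkQ_apply, Submodule.Quotient.eq]
      rw [show (2 : k) • z - τ z - ((2 : k) • u1 z - u1 z) - (3 : k) • z = -(τ z + z + u1 z) by
        rw [show (3 : k) = 2 + 1 by norm_num, add_smul, one_smul, two_smul, two_smul]; abel]
      exact S.neg_mem (hsym z)
    rw [h3, Submodule.mkQ_apply, Submodule.Quotient.mk_eq_zero] at h0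
    obtain ⟨x, hx, hxy⟩ := (S.smul_mem_iff (by norm_num : (3 : k) ≠ 0)).1 h0
    exact ⟨x, hx.1, hx.2, hxy⟩
  · rintro ⟨x, hx1, hx2, rfl⟩
    -- six times a symmetric tensor is its symmetrisation
    let P : A ⊗[k] (A ⊗[k] A) →ₗ[k] A ⊗[k] (A ⊗[k] A) := (TensorProduct.leftComm k A A A).toLinearMap
    let T : A ⊗[k] (A ⊗[k] A) →ₗ[k] A ⊗[k] (A ⊗[k] A) := LinearMap.lTensor A (TensorProduct.comm k A A).toLinearMap
    have hP : P x = x := hx1
    have hT : T x = x := hx2
    let Z := LinearMap.id + T + P + P.comp T + T.comp P + P.comp (T.comp P)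
    have hZ : ∀ w, D (r (Z w)) = 0 := by
      have : D.comp (r.comp Z) = 0 := TensorProduct.ext_threefold' fun a b c => by
        simp only [Z, P, T, LinearMap.comp_apply, LinearMap.add_apply, LinearMap.id_apply,
          LinearMap.zero_apply, map_add, LinearMap.lTensor_tmul, LinearEquiv.coe_coe,
          TensorProduct.comm_tmul, TensorProduct.leftComm_tmul, hr, hD, Derivation.leibniz]
        module
      exact fun w => LinearMap.congr_fun this w
    have h6 : Z x = (6 : k) • x := by
      simp only [Z, LinearMap.comp_apply, LinearMap.add_apply, LinearMap.id_apply, hP, hT]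
      rw [show (6 : k) = 1 + 1 + 1 + 1 + 1 + 1 by norm_num]
      simp only [add_smul, one_smul]
    have := hZ x
    rw [h6, map_smul, map_smul, smul_eq_zero] at this
    exact this.resolve_left (by norm_num)
  · intro ω
    obtain ⟨z, rfl⟩ := GrothLib.DiagForms.forms_surjective k A ω
    refine ⟨(3 : k)⁻¹ • ((2 : k) • z + τ z), ?_⟩
    rw [map_smul, inv_smul_eq_iff₀ (by norm_num : (3 : k) ≠ 0)]
    induction z using TensorProduct.induction_on with
    | zero => simp
    | tmul a b =>
      rw [hτ, map_add, map_smul, hD, hD, GrothLib.DiagForms.forms_tmul]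
      rw [show (3 : k) = 2 + 1 by norm_num, add_smul, one_smul]
      simp only [two_smul, smul_sub]
      abel
    | add z z' hz hz' =>
      simp only [map_add, smul_add] at hz hz' ⊢
      rw [← hz, ← hz']
      abel

end Groth.Agent.S19212
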