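import Groth.Statements.S19213
import Groth.Agent.Lib.DiagForms.Basic
import Mathlib.Tactic.Module

set_option autoImplicit false
universe u v
open TensorProduct
open DiagIdeal

namespace Groth.Agent.S19213

variable (k : Type u) [Field k] (A : Type v) [CommRing A] [Algebra k A]

/-- tensors fixed by the swap of the last two factors -/
noncomputable def fixed : Submodule k (A ⊗[k] (A ⊗[k] A)) :=
  LinearMap.eqLocus (LinearMap.lTensor A (TensorProduct.comm k A A).toLinearMap) LinearMap.id

variable {k A}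

lemma rel_mem (r₁₂ r₂₃ : A ⊗[k] (A ⊗[k] A) →ₗ[k] A ⊗[k] A)
    (h₁₂ : ∀ a u v : A, r₁₂ (a ⊗ₜ[k] (u ⊗ₜ[k] v)) = (a * u) ⊗ₜ[k] v)
    (h₂₃ : ∀ a u v : A, r₂₃ (a ⊗ₜ[k] (u ⊗ₜ[k] v)) = (u * v) ⊗ₜ[k] a) (a u v : A) :
    ((a * u) ⊗ₜ[k] v + (a * v) ⊗ₜ[k] u, (u * v) ⊗ₜ[k] a + (u * v) ⊗ₜ[k] a) ∈
      (fixed k A).map (r₁₂.prod r₂₃) := by
  refine ⟨a ⊗ₜ (u ⊗ₜ v) + a ⊗ₜ (v ⊗ₜ u), ?_, ?_⟩
  · show LinearMap.lTensor A (TensorProduct.comm k A A).toLinearMap _ = _
    simp only [map_add, LinearMap.lTensor_tmul, LinearEquiv.coe_coe, TensorProduct.comm_tmul,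
      LinearMap.id_apply]
    abel
  · rw [map_add, LinearMap.prod_apply, LinearMap.prod_apply]
    simp only [Function.prod_apply, h₁₂, h₂₃, Prod.mk_add_mk, mul_comm v u]

/-- Let k be an algebraically closed field of characteristic zero and A a smooth k-algebra which is a
domain. Let r₁₂, r₂₃ : A ⊗ (A ⊗ A) → A ⊗ A be the k-linear maps a ⊗ u ⊗ v ↦ au ⊗ v and a ⊗ u ⊗ v ↦
uv ⊗ a (restriction to the diagonal of factors 1, 2, resp. 2, 3, the repeated coordinate written
first), let m : A ⊗ A → A be multiplication, and let ψ : (A ⊗ A) × (A ⊗ A) → Ω_{A/k} be the k-linear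
map with ψ(a ⊗ u, b ⊗ v) = 2a·du − v·db. Then for p, q in A ⊗ A with m p = m q one has ψ(p, q) = 0
if and only if (p, q) = (r₁₂ x, r₂₃ x) for some x fixed by the swap of the last two tensor factors;
and every element of Ω_{A/k} is ψ(p, q) for some pair with m p = m q. (This is exactness at the last
two places of the right resolution, on the symmetric cube of X = Spec A, of the invariants of the
ideal of the big diagonal under the transposition of the last two factors; exactness at the first
two places is immediate. The published statement is the sheaf version for a smooth complex variety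
of any dimension; an algebraically closed field of characteristic zero is used here.) -/
theorem result (k : Type u) [Field k] [IsAlgClosed k] [CharZero k]
    (A : Type v) [CommRing A] [Algebra k A] [Algebra.Smooth k A] [IsDomain A]
    (r₁₂ r₂₃ : A ⊗[k] (A ⊗[k] A) →ₗ[k] A ⊗[k] A)
    (h₁₂ : ∀ a u v : A, r₁₂ (a ⊗ₜ[k] (u ⊗ₜ[k] v)) = (a * u) ⊗ₜ[k] v)
    (h₂₃ : ∀ a u v : A, r₂₃ (a ⊗ₜ[k] (u ⊗ₜ[k] v)) = (u * v) ⊗ₜ[k] a)
    (ψ : (A ⊗[k] A) × (A ⊗[k] A) →ₗ[k] Ω[A⁄k])
    (hψ : ∀ a u b v : A, ψ (a ⊗ₜ[k] u, b ⊗ₜ[k] v) =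
      (2 : A) • (a • KaehlerDifferential.D k A u) - v • KaehlerDifferential.D k A b) :
    (∀ p q : A ⊗[k] A, LinearMap.mul' k A p = LinearMap.mul' k A q →
      (ψ (p, q) = 0 ↔ ∃ x : A ⊗[k] (A ⊗[k] A),
        LinearMap.lTensor A (TensorProduct.comm k A A).toLinearMap x = x ∧ r₁₂ x = p ∧ r₂₃ x = q)) ∧
    (∀ ω : Ω[A⁄k], ∃ p q : A ⊗[k] A, LinearMap.mul' k A p = LinearMap.mul' k A q ∧ ψ (p, q) = ω) := by
  let F := GrothLib.DiagForms.forms k A
  let τ : A ⊗[k] A →ₗ[k] A ⊗[k] A := (TensorProduct.comm k A A).toLinearMap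
  have hτ : ∀ a b : A, τ (a ⊗ₜ b) = b ⊗ₜ a := fun a b => TensorProduct.comm_tmul k A A a b
  let m := LinearMap.mul' k A
  have hm : ∀ a b : A, m (a ⊗ₜ b) = a * b := fun a b => LinearMap.mul'_apply
  let u1 : A ⊗[k] A →ₗ[k] A ⊗[k] A := ((TensorProduct.mk k A A).flip 1).comp m
  have hu1 : ∀ a b : A, u1 (a ⊗ₜ b) = (a * b) ⊗ₜ 1 := fun a b => by simp [u1, hm]
  have hψ1 : ∀ p, ψ (p, 0) = (2 : k) • F p := by
    have h : ψ.comp (LinearMap.inl k _ _) = (2 : k) • F := TensorProduct.ext' fun a u => by
      have h := hψ a u 0 0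
      rw [zero_tmul, zero_smul, sub_zero, two_smul] at h
      rw [LinearMap.comp_apply, LinearMap.inl_apply, h, LinearMap.smul_apply]
      simp only [F, GrothLib.DiagForms.forms_tmul, two_smul]
    exact fun p => LinearMap.congr_fun h p
  have hψ2 : ∀ q, ψ (0, q) = -F (τ q) := by
    have h : ψ.comp (LinearMap.inr k _ _) = -(F.comp τ) := TensorProduct.ext' fun b v => by
      have h := hψ 0 0 b v
      rw [zero_tmul, zero_smul, smul_zero, zero_sub] at h
      rw [LinearMap.comp_apply, LinearMap.inr_apply, h]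
      simp only [F, LinearMap.neg_apply, LinearMap.comp_apply, hτ, GrothLib.DiagForms.forms_tmul]
    exact fun p => LinearMap.congr_fun h p
  let S := (fixed k A).map (r₁₂.prod r₂₃)
  have hrel : ∀ a u v : A,
      ((a * u) ⊗ₜ[k] v + (a * v) ⊗ₜ[k] u, (u * v) ⊗ₜ[k] a + (u * v) ⊗ₜ[k] a) ∈ S :=
    rel_mem r₁₂ r₂₃ h₁₂ h₂₃
  have h2 : (2 : k) ≠ 0 := two_ne_zero
  have hker : ∀ s ∈ S, ψ s = 0 := by
    rintro _ ⟨x, hx, rfl⟩
    let T : A ⊗[k] (A ⊗[k] A) →ₗ[k] A ⊗[k] (A ⊗[k] A) :=
      LinearMap.lTensor A (TensorProduct.comm k A A).toLinearMap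
    have hT : T x = x := hx
    have hZ : (ψ.comp (r₁₂.prod r₂₃)).comp (LinearMap.id + T) = 0 :=
      TensorProduct.ext_threefold' fun a u v => by
        simp only [T, LinearMap.comp_apply, LinearMap.add_apply, LinearMap.id_apply,
          LinearMap.zero_apply, map_add, LinearMap.lTensor_tmul, LinearEquiv.coe_coe,
          TensorProduct.comm_tmul, LinearMap.prod_apply, Function.prod_apply, h₁₂, h₂₃, hψ, Derivation.leibniz]
        module
    have := LinearMap.congr_fun hZ x
    simp only [LinearMap.comp_apply, LinearMap.add_apply, LinearMap.id_apply, hT,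
      LinearMap.zero_apply, map_add, ← two_smul k, map_smul] at this
    exact (smul_eq_zero.1 this).resolve_left h2
  refine ⟨fun p q hpq => ⟨fun h0 => ?_, ?_⟩, fun ω => ?_⟩
  · let φ : A ⊗[k] A →ₗ[k] ((A ⊗[k] A) × (A ⊗[k] A)) ⧸ S :=
      S.mkQ.comp ((LinearMap.inl k _ _).comp (LinearMap.id - u1))
    have hφ : ∀ a b c : A, φ (a ⊗ₜ (b * c)) = φ ((a * b) ⊗ₜ c) + φ ((a * c) ⊗ₜ b) := by
      intro a b c
      simp only [φ, LinearMap.comp_apply, LinearMap.sub_apply, LinearMap.id_apply, hu1]
      rw [← map_add, ← map_add, ← sub_eq_zero, ← map_sub, ← map_sub, Submodule.mkQ_apply,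
        Submodule.Quotient.mk_eq_zero, LinearMap.inl_apply]
      have h := Submodule.sub_mem S (hrel a (b * c) 1) (hrel a b c)
      rw [mul_one, mul_one, Prod.mk_sub_mk, sub_self] at h
      rw [show a * c * b = a * (b * c) by ring, show a * b * c = a * (b * c) by ring]
      convert h using 2
      abel
    have hJ : ∀ z, (u1 z + τ z, z + z) ∈ S := by
      intro z
      induction z using TensorProduct.induction_on with
      | zero => rw [map_zero, map_zero, add_zero]; exact S.zero_mem
      | tmul u a =>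
        rw [hu1, hτ]
        have h := hrel a u 1
        rw [mul_one, mul_one, mul_comm a u] at h
        exact h
      | add z z' hz hz' =>
        convert S.add_mem hz hz' using 1
        rw [Prod.mk_add_mk, map_add, map_add]
        congr 1 <;> abel
    have hmu : ∀ z, m (u1 z) = m z := by
      intro z
      induction z using TensorProduct.induction_on with
      | zero => simp
      | tmul a b => rw [hu1, hm, hm, mul_one]
      | add z z' hz hz' => simp only [map_add, hz, hz']
    have hmτ : ∀ z, m (τ z) = m z := by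
      intro z
      induction z using TensorProduct.induction_on with
      | zero => simp
      | tmul a b => rw [hτ, hm, hm, mul_comm]
      | add z z' hz hz' => simp only [map_add, hz, hz']
    let p' := (p + p) - (u1 q + τ q)
    have hsplit : ((p, q) + (p, q)) = (p', 0) + (u1 q + τ q, q + q) := by
      rw [Prod.mk_add_mk, Prod.mk_add_mk, sub_add_cancel, zero_add]
    have hFp : F p' = 0 := by
      have h := congrArg ψ hsplit
      rw [map_add, map_add, h0, hker _ (hJ q), hψ1, add_zero, add_zero] at h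
      exact (smul_eq_zero.1 h.symm).resolve_left h2
    have hmp : u1 p' = 0 := by
      have : m p' = 0 := by
        simp only [p', map_sub, map_add, hmu, hmτ]
        rw [show m p = m q from hpq, sub_self]
      change ((TensorProduct.mk k A A).flip 1) (m p') = 0
      rw [this, map_zero]
    have hφp := GrothLib.DiagForms.eq_zero_of_leibniz φ hφ hFp
    simp only [φ, LinearMap.comp_apply, LinearMap.sub_apply, LinearMap.id_apply, hmp, sub_zero,
      Submodule.mkQ_apply, Submodule.Quotient.mk_eq_zero, LinearMap.inl_apply] at hφp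
    have hpq2 : (p, q) + (p, q) ∈ S := by rw [hsplit]; exact S.add_mem hφp (hJ q)
    rw [← two_smul k, S.smul_mem_iff h2] at hpq2
    obtain ⟨x, hx, hxy⟩ := hpq2
    rw [LinearMap.prod_apply] at hxy
    simp only [Function.prod_apply, Prod.mk.injEq] at hxy
    exact ⟨x, hx, hxy.1, hxy.2⟩
  · rintro ⟨x, hx, rfl, rfl⟩
    exact hker _ ⟨x, hx, rfl⟩
  · obtain ⟨z, rfl⟩ := GrothLib.DiagForms.forms_surjective k A ω
    refine ⟨(2 : k)⁻¹ • (z - u1 z), 0, ?_, ?_⟩
    · rw [map_zero, map_smul, map_sub]
      have : m (u1 z) = m z := by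
        induction z using TensorProduct.induction_on with
        | zero => simp
        | tmul a b => rw [hu1, hm, hm, mul_one]
        | add z z' hz hz' => simp only [map_add, hz, hz']
      change (2 : k)⁻¹ • (m z - m (u1 z)) = 0
      rw [this, sub_self, smul_zero]
    · rw [hψ1, map_smul, smul_smul, mul_inv_cancel₀ h2, one_smul, map_sub, sub_eq_self]
      induction z using TensorProduct.induction_on with
      | zero => simp
      | tmul a b => simp [F, hu1]
      | add z z' hz hz' => simp only [map_add, hz, hz', add_zero]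

end Groth.Agent.S19213
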