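import Groth.Statements.S19214
import Mathlib.RingTheory.Filtration
import Mathlib.RingTheory.Smooth.Basic
import Mathlib.RingTheory.Kaehler.Basic

set_option autoImplicit false
universe u v
open TensorProduct
open DiagIdeal

namespace Groth.Agent.S19214

open KaehlerDifferential

attribute [-simp] PiTensorProduct.singleAlgHom_apply
set_option maxHeartbeats 800000

variable {k : Type u} [Field k] {A : Type v} [CommRing A] [Algebra k A]

local notation "R3" => ⨂[k] _ : Fin 3, A

/-- the i-th factor -/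
noncomputable abbrev sg (i : Fin 3) : A →ₐ[k] ⨂[k] _ : Fin 3, A :=
  PiTensorProduct.singleAlgHom (R := k) (A := fun _ : Fin 3 => A) i

variable (k A) in
/-- ideal of the diagonal of two factors -/
noncomputable abbrev Id (i j : Fin 3) : Ideal (⨂[k] _ : Fin 3, A) :=
  Ideal.span (Set.range fun a : A =>
    PiTensorProduct.singleAlgHom (R := k) (A := fun _ : Fin 3 => A) i a -
    PiTensorProduct.singleAlgHom (R := k) (A := fun _ : Fin 3 => A) j a)

theorem tprod_eq (v : Fin 3 → A) :
    PiTensorProduct.tprod k v = sg 0 (v 0) * sg 1 (v 1) * sg 2 (v 2) := by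
  conv_lhs => rw [← Finset.univ_prod_mulSingle v]
  rw [PiTensorProduct.tprod_prod, Fin.prod_univ_three]
  rfl

section lift

variable {S : Type*} [CommRing S] [Algebra k S]

/-- algebra map from the values on the three factors -/
noncomputable def mk3 (f : Fin 3 → A →ₐ[k] S) : R3 →ₐ[k] S :=
  PiTensorProduct.liftAlgHom
    ((MultilinearMap.mkPiAlgebra k (Fin 3) S).compLinearMap fun i => (f i).toLinearMap)
    (by simp) (fun x y => by simp [Finset.prod_mul_distrib])

theorem mk3_tprod (f : Fin 3 → A →ₐ[k] S) (v : Fin 3 → A) :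
    mk3 f (PiTensorProduct.tprod k v) = f 0 (v 0) * f 1 (v 1) * f 2 (v 2) := by
  simp [mk3, Fin.prod_univ_three]

theorem mk3_sg (f : Fin 3 → A →ₐ[k] S) (i : Fin 3) (a : A) : mk3 f (sg i a) = f i a := by
  change mk3 f (PiTensorProduct.tprod k (Pi.mulSingle i a)) = _
  rw [mk3_tprod]
  fin_cases i <;> simp

end lift

/-- first two factors -/
noncomputable def s2 : A ⊗[k] A →ₐ[k] R3 :=
  Algebra.TensorProduct.lift (sg 0) (sg 1) fun _ _ => Commute.all _ _

/-- first and last factor -/
noncomputable def s3 : A ⊗[k] A →ₐ[k] R3 :=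
  Algebra.TensorProduct.lift (sg 0) (sg 2) fun _ _ => Commute.all _ _

/-- merge the last two factors -/
noncomputable def merge : R3 →ₐ[k] A ⊗[k] A :=
  mk3 ![Algebra.TensorProduct.includeLeft, Algebra.TensorProduct.includeRight,
    Algebra.TensorProduct.includeRight]

/-- swap the last two factors -/
noncomputable def swp : R3 →ₐ[k] R3 := mk3 ![sg 0, sg 2, sg 1]

theorem merge_s2 (p : A ⊗[k] A) : merge (s2 p) = p := by
  induction p using TensorProduct.induction_on with
  | zero => simp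
  | tmul a b => simp [s2, merge, mk3_sg]
  | add a b ha hb => rw [map_add, map_add, ha, hb]

theorem merge_s3 (p : A ⊗[k] A) : merge (s3 p) = p := by
  induction p using TensorProduct.induction_on with
  | zero => simp
  | tmul a b => simp [s3, merge, mk3_sg]
  | add a b ha hb => rw [map_add, map_add, ha, hb]

theorem swp_s2 (p : A ⊗[k] A) : swp (s2 p) = s3 p := by
  induction p using TensorProduct.induction_on with
  | zero => simp
  | tmul a b => simp [s2, s3, swp, mk3_sg]
  | add a b ha hb => rw [map_add, map_add, map_add, ha, hb]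

theorem swp_s3 (p : A ⊗[k] A) : swp (s3 p) = s2 p := by
  induction p using TensorProduct.induction_on with
  | zero => simp
  | tmul a b => simp [s2, s3, swp, mk3_sg]
  | add a b ha hb => rw [map_add, map_add, map_add, ha, hb]

theorem swp_eq_reindex (x : R3) :
    swp x = PiTensorProduct.reindex k (fun _ : Fin 3 => A) (Equiv.swap 1 2) x := by
  induction x using PiTensorProduct.induction_on with
  | smul_tprod r v =>
    rw [map_smul, map_smul, PiTensorProduct.reindex_tprod, swp, mk3_tprod]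
    congr 1
    refine Eq.trans ?_ (tprod_eq _).symm
    simp [Equiv.swap_apply_def]
    ring
  | add a b ha hb => rw [map_add, map_add, ha, hb]

theorem sub_s2_merge (r : R3) : r - s2 (merge r) ∈ Id k A 1 2 := by
  rw [← Ideal.Quotient.eq]
  refine AlgHom.congr_fun (?_ : Ideal.Quotient.mkₐ k (Id k A 1 2) =
    (Ideal.Quotient.mkₐ k (Id k A 1 2)).comp (s2.comp merge)) r
  refine PiTensorProduct.algHom_ext fun i => AlgHom.ext fun a => ?_
  simp only [AlgHom.comp_apply, Ideal.Quotient.mkₐ_eq_mk]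
  rw [Ideal.Quotient.eq]
  have h : sg 2 a - sg 1 a ∈ Id k A 1 2 := by
    rw [← neg_sub]
    exact neg_mem (Ideal.subset_span ⟨a, rfl⟩)
  fin_cases i
  · simp [merge, mk3_sg, s2]
  · simp [merge, mk3_sg, s2]
  · simpa [merge, mk3_sg, s2] using h

theorem s3_sub_s2 (p : A ⊗[k] A) : s3 p - s2 p ∈ Id k A 1 2 := by
  have h := sub_s2_merge (s3 p)
  rwa [merge_s3] at h

theorem s2_sub_s3 (p : A ⊗[k] A) : s2 p - s3 p ∈ Id k A 1 2 := by
  rw [← neg_sub]
  exact neg_mem (s3_sub_s2 p)

theorem map_s2_ideal : (KaehlerDifferential.ideal k A).map s2 = Id k A 0 1 := by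
  rw [← KaehlerDifferential.span_range_eq_ideal, Ideal.map_span]
  refine le_antisymm (Ideal.span_le.2 ?_) (Ideal.span_le.2 ?_)
  · rintro _ ⟨_, ⟨a, rfl⟩, rfl⟩
    rw [SetLike.mem_coe, ← neg_mem_iff]
    exact Ideal.subset_span ⟨a, by simp [s2]⟩
  · rintro _ ⟨a, rfl⟩
    rw [SetLike.mem_coe, ← neg_mem_iff]
    exact Ideal.subset_span ⟨_, ⟨a, rfl⟩, by simp [s2]⟩

theorem map_s3_ideal : (KaehlerDifferential.ideal k A).map s3 = Id k A 0 2 := by
  rw [← KaehlerDifferential.span_range_eq_ideal, Ideal.map_span]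
  refine le_antisymm (Ideal.span_le.2 ?_) (Ideal.span_le.2 ?_)
  · rintro _ ⟨_, ⟨a, rfl⟩, rfl⟩
    rw [SetLike.mem_coe, ← neg_mem_iff]
    exact Ideal.subset_span ⟨a, by simp [s3]⟩
  · rintro _ ⟨a, rfl⟩
    rw [SetLike.mem_coe, ← neg_mem_iff]
    exact Ideal.subset_span ⟨_, ⟨a, rfl⟩, by simp [s3]⟩

theorem merge_eq_zero {u : R3} (hu : u ∈ Id k A 1 2) : merge u = 0 := by
  refine (Ideal.span_le.2 ?_ : Id k A 1 2 ≤ RingHom.ker merge) hu
  rintro _ ⟨a, rfl⟩
  simp [merge, mk3_sg]

theorem merge_mem {u : R3} (hu : u ∈ Id k A 0 1) : merge u ∈ KaehlerDifferential.ideal k A := by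
  refine (Ideal.span_le.2 ?_ : Id k A 0 1 ≤ (KaehlerDifferential.ideal k A).comap merge) hu
  rintro _ ⟨a, rfl⟩
  simp [merge, mk3_sg, RingHom.mem_ker]

theorem merge_mem' {u : R3} (hu : u ∈ Id k A 0 2) : merge u ∈ KaehlerDifferential.ideal k A := by
  refine (Ideal.span_le.2 ?_ : Id k A 0 2 ≤ (KaehlerDifferential.ideal k A).comap merge) hu
  rintro _ ⟨a, rfl⟩
  simp [merge, mk3_sg, RingHom.mem_ker]

variable (k A) in
/-- the product of the three diagonal ideals -/
noncomputable abbrev J3 : Ideal (⨂[k] _ : Fin 3, A) := Id k A 0 1 * Id k A 0 2 * Id k A 1 2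

theorem mem_J3 {u v w : R3} (hu : u ∈ Id k A 0 1) (hv : v ∈ Id k A 0 2) (hw : w ∈ Id k A 1 2) :
    u * v * w ∈ J3 k A :=
  Ideal.mul_mem_mul (Ideal.mul_mem_mul hu hv) hw

theorem swp_J3 {u : R3} (hu : u ∈ J3 k A) : swp u ∈ J3 k A := by
  have h1 : Id k A 0 1 ≤ (Id k A 0 2).comap swp := Ideal.span_le.2 (by
    rintro _ ⟨a, rfl⟩
    exact Ideal.subset_span ⟨a, by simp [swp, mk3_sg]⟩)
  have h2 : Id k A 0 2 ≤ (Id k A 0 1).comap swp := Ideal.span_le.2 (by
    rintro _ ⟨a, rfl⟩
    exact Ideal.subset_span ⟨a, by simp [swp, mk3_sg]⟩)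
  have h3 : Id k A 1 2 ≤ (Id k A 1 2).comap swp := Ideal.span_le.2 (by
    rintro _ ⟨a, rfl⟩
    rw [SetLike.mem_coe, Ideal.mem_comap, ← neg_mem_iff]
    exact Ideal.subset_span ⟨a, by simp [swp, mk3_sg]⟩)
  refine Submodule.mul_induction_on hu (fun a ha b hb => ?_) fun a b ha hb => by
    rw [map_add]; exact add_mem ha hb
  rw [map_mul]
  refine Submodule.mul_induction_on ha (fun c hc d hd => ?_) fun c d hc hd => by
    rw [map_add, add_mul]; exact add_mem hc hd
  rw [map_mul, mul_comm (swp c)]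
  exact mem_J3 (h2 hd) (h1 hc) (h3 hb)

theorem merge_J3 {u : R3} (hu : u ∈ J3 k A) : merge u = 0 := by
  refine Submodule.mul_induction_on hu (fun a ha b hb => ?_) fun a b ha hb => by
    rw [map_add, ha, hb, add_zero]
  rw [map_mul, merge_eq_zero hb, mul_zero]

/-- an element of two of the ideals lies in their product -/
theorem mem_mul_of_mem {x : R3} (h1 : x ∈ Id k A 0 1) (h2 : x ∈ Id k A 0 2) :
    x ∈ Id k A 0 1 * Id k A 0 2 := by
  let α : R3 →ₐ[k] R3 := mk3 ![sg 0, sg 0, sg 2]
  let β : R3 →ₐ[k] R3 := mk3 ![sg 0, sg 1, sg 0]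
  have hα : α x = 0 := by
    refine (Ideal.span_le.2 ?_ : Id k A 0 1 ≤ RingHom.ker α) h1
    rintro _ ⟨a, rfl⟩
    simp [α, mk3_sg]
  have hβ : β x = 0 := by
    refine (Ideal.span_le.2 ?_ : Id k A 0 2 ≤ RingHom.ker β) h2
    rintro _ ⟨a, rfl⟩
    simp [β, mk3_sg]
  have key : ∀ r : R3, r - α r - β r + α (β r) ∈ Id k A 0 1 * Id k A 0 2 := by
    intro r
    induction r using PiTensorProduct.induction_on with
    | smul_tprod c v =>
      simp only [map_smul, ← smul_sub, ← smul_add]
      refine Submodule.smul_of_tower_mem _ c ?_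
      rw [tprod_eq]
      have e : sg 0 (v 0) * sg 1 (v 1) * sg 2 (v 2) - α (sg 0 (v 0) * sg 1 (v 1) * sg 2 (v 2))
          - β (sg 0 (v 0) * sg 1 (v 1) * sg 2 (v 2)) + α (β (sg 0 (v 0) * sg 1 (v 1) * sg 2 (v 2)))
          = sg 0 (v 0) * ((sg 0 (v 1) - sg 1 (v 1)) * (sg 0 (v 2) - sg 2 (v 2))) := by
        simp [α, β, mk3_sg]
        ring
      rw [e]
      exact Ideal.mul_mem_left _ _ (Ideal.mul_mem_mul (Ideal.subset_span ⟨_, rfl⟩) (Ideal.subset_span ⟨_, rfl⟩))
    | add a b ha hb =>
      convert add_mem ha hb using 1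
      simp only [map_add]
      abel
  simpa [hα, hβ] using key x

/-- multiplication by the first ideal, modulo the product -/
theorem s2_mul_sub_mem {u : R3} (hu : u ∈ Id k A 0 1 * Id k A 0 2) {a : A ⊗[k] A}
    (ha : a ∈ KaehlerDifferential.ideal k A) : s2 a * u - s2 a * s3 (merge u) ∈ J3 k A := by
  have ha' : s2 a ∈ Id k A 0 1 := map_s2_ideal (k := k) (A := A) ▸ Ideal.mem_map_of_mem _ ha
  refine Submodule.mul_induction_on hu (fun g hg h hh => ?_) fun g h hg hh => by
    convert add_mem hg hh using 1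
    simp only [map_add]
    ring
  have d1 : g - s3 (merge g) ∈ Id k A 1 2 := by
    have := add_mem (sub_s2_merge g) (s2_sub_s3 (merge g))
    rwa [sub_add_sub_cancel] at this
  have d2 : h - s3 (merge h) ∈ Id k A 1 2 := by
    have := add_mem (sub_s2_merge h) (s2_sub_s3 (merge h))
    rwa [sub_add_sub_cancel] at this
  have hg' : s3 (merge g) ∈ Id k A 0 2 :=
    map_s3_ideal (k := k) (A := A) ▸ Ideal.mem_map_of_mem _ (merge_mem hg)
  have e : s2 a * (g * h) - s2 a * s3 (merge (g * h)) =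
      s2 a * h * (g - s3 (merge g)) + s2 a * s3 (merge g) * (h - s3 (merge h)) := by
    rw [map_mul, map_mul]
    ring
  rw [e]
  exact add_mem (mem_J3 ha' hh d1) (mem_J3 ha' hg' d2)

variable (k A) in
/-- the filtration -/
noncomputable abbrev Lf (n : ℕ) : Ideal (⨂[k] _ : Fin 3, A) :=
  ((KaehlerDifferential.ideal k A) ^ (n + 1)).map s2 * (KaehlerDifferential.ideal k A).map s3 ⊔ J3 k A

theorem cross_mem {i j n : ℕ} (hij : i + j = n + 1) {c e : A ⊗[k] A}
    (hc : c ∈ KaehlerDifferential.ideal k A) (hci : c ∈ KaehlerDifferential.ideal k A ^ i)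
    (he : e ∈ KaehlerDifferential.ideal k A ^ j * KaehlerDifferential.ideal k A) :
    s2 c * s3 e ∈ Lf k A n := by
  have hc' : s2 c ∈ Id k A 0 1 := map_s2_ideal (k := k) (A := A) ▸ Ideal.mem_map_of_mem _ hc
  refine Submodule.mul_induction_on he (fun g hg h hh => ?_) fun g h hg hh => by
    rw [map_add, mul_add]; exact add_mem hg hh
  have e : s2 c * s3 (g * h) = s2 (c * g) * s3 h + s2 c * s3 h * (s3 g - s2 g) := by
    rw [map_mul, map_mul]
    ring
  rw [e]
  refine Submodule.add_mem_sup (Ideal.mul_mem_mul (Ideal.mem_map_of_mem _ ?_) (Ideal.mem_map_of_mem _ hh))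
    (mem_J3 hc' (map_s3_ideal (k := k) (A := A) ▸ Ideal.mem_map_of_mem _ hh) (s3_sub_s2 g))
  rw [← hij, pow_add]
  exact Ideal.mul_mem_mul hci hg

theorem finiteType [Algebra.FiniteType k A] : Algebra.FiniteType k R3 := by
  classical
  obtain ⟨s, hs⟩ := (Algebra.FiniteType.out : (⊤ : Subalgebra k A).FG)
  refine ⟨⟨Finset.univ.biUnion fun i => s.image (sg i), top_le_iff.1 fun x _ => ?_⟩⟩
  have hg : ∀ i a, sg i a ∈ Algebra.adjoin k
      ((Finset.univ.biUnion fun i => s.image (sg (k := k) (A := A) i) : Finset R3) : Set R3) := by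
    intro i a
    have : (Algebra.adjoin k (s : Set A)).map (sg (k := k) i) ≤ Algebra.adjoin k
        ((Finset.univ.biUnion fun i => s.image (sg (k := k) (A := A) i) : Finset R3) : Set R3) := by
      rw [AlgHom.map_adjoin]
      refine Algebra.adjoin_mono ?_
      rintro y ⟨z, hz, e⟩
      exact Finset.mem_coe.2 (Finset.mem_biUnion.2 ⟨i, Finset.mem_univ _, Finset.mem_image.2 ⟨z, hz, e⟩⟩)
    exact this ⟨a, by simp [hs], rfl⟩
  induction x using PiTensorProduct.induction_on with
  | smul_tprod c v =>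
    rw [tprod_eq]
    exact Subalgebra.smul_mem _ (mul_mem (mul_mem (hg _ _) (hg _ _)) (hg _ _)) c
  | add a b ha hb => exact add_mem (ha trivial) (hb trivial)

/-- the Euler operator: it acts on the n-th power of the diagonal ideal by n -/
theorem euler [Module.Projective A Ω[A⁄k]] [Module.Finite A Ω[A⁄k]] :
    ∃ (m : ℕ) (d : Fin m → A ⊗[k] A →ₗ[k] A ⊗[k] A) (ζ : Fin m → A ⊗[k] A),
      (∀ j p q, d j (p * q) = p * d j q + q * d j p) ∧
      (∀ j, ζ j ∈ KaehlerDifferential.ideal k A) ∧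
      ∀ n : ℕ, ∀ f ∈ KaehlerDifferential.ideal k A ^ n,
        (∑ j, d j f * ζ j) - (n : A ⊗[k] A) * f ∈ KaehlerDifferential.ideal k A ^ (n + 1) := by
  classical
  let I := KaehlerDifferential.ideal k A
  have htop : (Submodule.span A (Set.range (KaehlerDifferential.D k A))).FG := by
    rw [KaehlerDifferential.span_range_derivation]
    exact Module.Finite.fg_top
  obtain ⟨t, ht, hspan⟩ := (Submodule.fg_span_iff_fg_span_finset_subset _).1 htop
  let w : Fin t.card → Ω[A⁄k] := fun j => (t.equivFin.symm j).1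
  have hwD : ∀ j, ∃ z, KaehlerDifferential.D k A z = w j := fun j => ht (t.equivFin.symm j).2
  choose z hz using hwD
  have hsurj : Function.Surjective (Fintype.linearCombination A w) := by
    rw [← LinearMap.range_eq_top, Fintype.range_linearCombination, eq_top_iff,
      ← KaehlerDifferential.span_range_derivation, hspan]
    exact Submodule.span_mono fun y hy => ⟨t.equivFin ⟨y, hy⟩, by simp [w]⟩
  obtain ⟨σ, hσ⟩ := Module.projective_lifting_property _ LinearMap.id hsurj
  let δ : Fin t.card → Derivation k A A := fun j =>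
    ((LinearMap.proj j).comp σ).compDer (KaehlerDifferential.D k A)
  let d : Fin t.card → A ⊗[k] A →ₗ[k] A ⊗[k] A := fun j => LinearMap.lTensor A (δ j : A →ₗ[k] A)
  let ζ : Fin t.card → A ⊗[k] A := fun j => 1 ⊗ₜ[k] z j - z j ⊗ₜ[k] 1
  have hζ : ∀ j, ζ j ∈ I := fun j => KaehlerDifferential.one_smul_sub_smul_one_mem_ideal k (z j)
  have hleib : ∀ j p q, d j (p * q) = p * d j q + q * d j p := by
    intro j p q
    induction p using TensorProduct.induction_on with
    | zero => simp
    | tmul a b =>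
      induction q using TensorProduct.induction_on with
      | zero => simp
      | tmul c e =>
        simp [d, TensorProduct.tmul_add, mul_comm a c]
      | add u v hu hv => simp only [mul_add, map_add, hu, hv, add_mul]; abel
    | add u v hu hv => simp only [add_mul, map_add, hu, hv, mul_add]; abel
  refine ⟨t.card, d, ζ, hleib, hζ, ?_⟩
  let E : A ⊗[k] A → A ⊗[k] A := fun f => ∑ j, d j f * ζ j
  have hE : ∀ f, E f ∈ I := fun f => sum_mem fun j _ => I.mul_mem_left _ (hζ j)
  have hEmul : ∀ f g, E (f * g) = f * E g + g * E f := by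
    intro f g
    simp only [E, hleib, add_mul, Finset.sum_add_distrib, Finset.mul_sum, mul_assoc]
  have h1 : ∀ f ∈ I, E f - f ∈ I ^ 2 := by
    intro f hf
    have hf' : f ∈ Ideal.span (Set.range fun a : A => (1 : A) ⊗ₜ[k] a - a ⊗ₜ[k] (1 : A)) := by
      rw [KaehlerDifferential.span_range_eq_ideal]; exact hf
    induction hf' using Submodule.span_induction with
    | mem y hy =>
      obtain ⟨a, rfl⟩ := hy
      have hEa : E (1 ⊗ₜ[k] a - a ⊗ₜ[k] 1) = ∑ j, (1 ⊗ₜ[k] δ j a) * ζ j := by
        simp [E, d]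
      let y : I := (∑ j, ((δ j a ⊗ₜ[k] (1 : A)) : A ⊗[k] A) • (⟨ζ j, hζ j⟩ : I)) -
        ⟨1 ⊗ₜ[k] a - a ⊗ₜ[k] 1, KaehlerDifferential.one_smul_sub_smul_one_mem_ideal k a⟩
      have hy : KaehlerDifferential.fromIdeal k A y = 0 := by
        simp only [y, map_sub, map_sum, map_smul, sub_eq_zero]
        have h := LinearMap.congr_fun hσ (KaehlerDifferential.D k A a)
        rw [LinearMap.comp_apply, Fintype.linearCombination_apply, LinearMap.id_apply] at h
        refine Eq.trans ?_ (h.trans (KaehlerDifferential.D_apply k A a))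
        refine Finset.sum_congr rfl fun j _ => ?_
        rw [← hz j, KaehlerDifferential.D_apply k A (z j)]
        exact algebraMap_smul (A ⊗[k] A) (δ j a) _
      have hy2 : (y : A ⊗[k] A) ∈ I ^ 2 := (Ideal.toCotangent_eq_zero _ _).1 hy
      rw [hEa]
      have : ∑ j, ((1 ⊗ₜ[k] δ j a - δ j a ⊗ₜ[k] 1) : A ⊗[k] A) * ζ j ∈ I ^ 2 := sum_mem fun j _ => by
        rw [pow_two]
        exact Ideal.mul_mem_mul (KaehlerDifferential.one_smul_sub_smul_one_mem_ideal k _) (hζ j)
      convert add_mem this hy2 using 1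
      simp [y, sub_mul, Finset.sum_sub_distrib]
    | zero => simp [E]
    | add u v hu hv ihu ihv =>
      have h' : ∀ w, w ∈ Submodule.span (A ⊗[k] A) (Set.range fun a : A => (1 : A) ⊗ₜ[k] a - a ⊗ₜ[k] (1 : A)) → w ∈ I := fun w hw => by
        rw [show I = Ideal.span _ from (KaehlerDifferential.span_range_eq_ideal k A).symm]; exact hw
      convert add_mem (ihu (h' _ hu)) (ihv (h' _ hv)) using 1
      simp [E, add_mul, Finset.sum_add_distrib]
      abel
    | smul r u hu ihu =>
      have hu' : u ∈ I := by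
        rw [show I = Ideal.span _ from (KaehlerDifferential.span_range_eq_ideal k A).symm]; exact hu
      rw [smul_eq_mul, hEmul, show r * E u + u * E r - r * u = r * (E u - u) + u * E r by ring]
      refine add_mem (Ideal.mul_mem_left _ _ (ihu hu')) ?_
      rw [pow_two]
      exact Ideal.mul_mem_mul hu' (hE r)
  intro n
  induction n with
  | zero =>
    intro f _
    rw [Nat.cast_zero, zero_mul, sub_zero, zero_add, pow_one]
    exact hE f
  | succ n ih =>
    intro f hf
    rw [pow_succ] at hf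
    refine Submodule.mul_induction_on hf (fun g hg h hh => ?_) fun g h hg hh => ?_
    · show E (g * h) - ((n + 1 : ℕ) : A ⊗[k] A) * (g * h) ∈ I ^ (n + 1 + 1)
      rw [hEmul, show g * E h + h * E g - ((n + 1 : ℕ) : A ⊗[k] A) * (g * h) = g * (E h - h) + h * (E g - (n : A ⊗[k] A) * g) by
        push_cast; ring]
      refine add_mem ?_ ?_
      · rw [show n + 1 + 1 = n + 2 by ring, pow_add]
        exact Ideal.mul_mem_mul hg (h1 h hh)
      · rw [pow_succ' _ (n + 1)]
        exact Ideal.mul_mem_mul hh (ih g hg)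
    · convert add_mem hg hh using 1
      simp [add_mul, Finset.sum_add_distrib, mul_add]
      abel


/-- n = 3, affine form: let k be an algebraically closed field of characteristic zero and A a smooth
k-algebra which is a domain. In the triple tensor power of A over k, indexed by Fin 3, let I_{ij} be
the ideal generated by the elements a_i − a_j (a ∈ A put in factor i, resp. j, and 1 elsewhere), the
ideal of the diagonal of factors i and j. Then every element fixed by all permutations of the three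
factors and lying in I₁₂ ∩ I₁₃ ∩ I₂₃ lies in the product I₁₂ I₁₃ I₂₃: on the symmetric cube of Spec
A the invariants of the product of the three diagonal ideals and of their intersection coincide.
(The published statement is the sheaf version for a smooth complex variety; an algebraically closed
field of characteristic zero is used here.) -/
theorem result (k : Type u) [Field k] [IsAlgClosed k] [CharZero k]
    (A : Type v) [CommRing A] [Algebra k A] [Algebra.Smooth k A] [IsDomain A]
    (x : ⨂[k] _ : Fin 3, A)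
    (hx : ∀ σ : Equiv.Perm (Fin 3), PiTensorProduct.reindex k (fun _ : Fin 3 => A) σ x = x)
    (hmem : ∀ p : Fin 3 × Fin 3, p.1 < p.2 → x ∈ Ideal.span (Set.range fun a : A =>
        PiTensorProduct.singleAlgHom (R := k) (A := fun _ : Fin 3 => A) p.1 a -
        PiTensorProduct.singleAlgHom (R := k) (A := fun _ : Fin 3 => A) p.2 a)) :
    x ∈ ∏ p ∈ Finset.univ.filter (fun p : Fin 3 × Fin 3 => p.1 < p.2), Ideal.span (Set.range fun a : A =>
        PiTensorProduct.singleAlgHom (R := k) (A := fun _ : Fin 3 => A) p.1 a -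
        PiTensorProduct.singleAlgHom (R := k) (A := fun _ : Fin 3 => A) p.2 a) := by
  classical
  have hP : (Finset.univ.filter (fun p : Fin 3 × Fin 3 => p.1 < p.2)) = {((0 : Fin 3), (1 : Fin 3)), (0, 2), (1, 2)} := by
    decide
  rw [hP, Finset.prod_insert (by decide), Finset.prod_insert (by decide), Finset.prod_singleton, ← mul_assoc]
  change x ∈ J3 k A
  have h12 : x ∈ Id k A 0 1 := hmem (0, 1) (by decide)
  have h13 : x ∈ Id k A 0 2 := hmem (0, 2) (by decide)
  have h23 : x ∈ Id k A 1 2 := hmem (1, 2) (by decide)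
  have hπ : merge x = 0 := merge_eq_zero h23
  have hsw : swp x = x := by rw [swp_eq_reindex]; exact hx _
  have hxm := mem_mul_of_mem h12 h13
  obtain ⟨m, d, ζ, hleib, hζ, heul⟩ := euler (k := k) (A := A)
  let Φ : A ⊗[k] A → ⨂[k] _ : Fin 3, A := fun p => ∑ j, s2 (d j p) * s3 (ζ j)
  have hΦadd : ∀ p q, Φ (p + q) = Φ p + Φ q := fun p q => by
    simp [Φ, add_mul, Finset.sum_add_distrib]
  have hmain : ∀ n, ∀ u ∈ Lf k A n, Φ (merge u) - ((n + 1 : ℕ) : ⨂[k] _ : Fin 3, A) * swp u - u ∈ Lf k A (n + 1) := by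
    intro n
    have hJ : ∀ u ∈ J3 k A, Φ (merge u) - ((n + 1 : ℕ) : ⨂[k] _ : Fin 3, A) * swp u - u ∈ Lf k A (n + 1) := fun u hu => by
      rw [merge_J3 hu, show Φ 0 = 0 by simp [Φ]]
      exact sub_mem (sub_mem (zero_mem _) (Ideal.mul_mem_left _ _ (Submodule.mem_sup_right (swp_J3 hu))))
        (Submodule.mem_sup_right hu)
    have hgen : ∀ f ∈ KaehlerDifferential.ideal k A ^ (n + 1), ∀ b ∈ KaehlerDifferential.ideal k A,
        Φ (f * b) - ((n + 1 : ℕ) : ⨂[k] _ : Fin 3, A) * (s3 f * s2 b) - s2 f * s3 b ∈ Lf k A (n + 1) := by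
      intro f hf b hb
      have hf1 : f ∈ KaehlerDifferential.ideal k A := Ideal.pow_le_self (Nat.succ_ne_zero n) hf
      have e1 : Φ (f * b) = s2 b * s3 (∑ j, d j f * ζ j) + s2 f * s3 (∑ j, d j b * ζ j) +
          ∑ j, (s2 f * s3 (ζ j) * (s2 (d j b) - s3 (d j b)) + s2 b * s3 (ζ j) * (s2 (d j f) - s3 (d j f))) := by
        simp only [Φ, hleib, map_sum, Finset.mul_sum, ← Finset.sum_add_distrib, map_add, map_mul]
        exact Finset.sum_congr rfl fun j _ => by ring
      have e2 : Φ (f * b) - ((n + 1 : ℕ) : ⨂[k] _ : Fin 3, A) * (s3 f * s2 b) - s2 f * s3 b =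
          s2 b * s3 ((∑ j, d j f * ζ j) - ((n + 1 : ℕ) : A ⊗[k] A) * f) + s2 f * s3 ((∑ j, d j b * ζ j) - ((1 : ℕ) : A ⊗[k] A) * b) +
          ∑ j, (s2 f * s3 (ζ j) * (s2 (d j b) - s3 (d j b)) + s2 b * s3 (ζ j) * (s2 (d j f) - s3 (d j f))) := by
        rw [e1]
        rw [map_sub, map_sub, map_mul s3 (((n + 1 : ℕ) : A ⊗[k] A)), map_natCast, map_mul s3 (((1 : ℕ) : A ⊗[k] A)), map_natCast, Nat.cast_one]
        ring
      rw [e2]
      refine add_mem (add_mem ?_ ?_) (sum_mem fun j _ => Submodule.mem_sup_right (add_mem ?_ ?_))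
      · refine cross_mem (i := 1) (j := n + 1) (by ring) hb (by rwa [pow_one]) ?_
        rw [← pow_succ]
        exact heul _ f hf
      · refine cross_mem (i := n + 1) (j := 1) (by ring) hf1 hf ?_
        rw [← pow_succ]
        exact heul 1 b (by rwa [pow_one])
      · exact mem_J3 (map_s2_ideal (k := k) (A := A) ▸ Ideal.mem_map_of_mem _ hf1)
          (map_s3_ideal (k := k) (A := A) ▸ Ideal.mem_map_of_mem _ (hζ j)) (s2_sub_s3 _)
      · exact mem_J3 (map_s2_ideal (k := k) (A := A) ▸ Ideal.mem_map_of_mem _ hb)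
          (map_s3_ideal (k := k) (A := A) ▸ Ideal.mem_map_of_mem _ (hζ j)) (s2_sub_s3 _)
    intro u hu
    obtain ⟨v, hv, w, hw, rfl⟩ := Submodule.mem_sup.1 hu
    have hadd : ∀ a b : ⨂[k] _ : Fin 3, A, Φ (merge (a + b)) - ((n + 1 : ℕ) : ⨂[k] _ : Fin 3, A) * swp (a + b) - (a + b) =
        (Φ (merge a) - ((n + 1 : ℕ) : ⨂[k] _ : Fin 3, A) * swp a - a) + (Φ (merge b) - ((n + 1 : ℕ) : ⨂[k] _ : Fin 3, A) * swp b - b) := fun a b => by
      rw [map_add, hΦadd, map_add]
      ring
    rw [hadd]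
    refine add_mem ?_ (hJ w hw)
    rw [Ideal.map, Ideal.map, Ideal.span_mul_span'] at hv
    clear hu
    suffices h : ∀ r, Φ (merge (r * v)) - ((n + 1 : ℕ) : ⨂[k] _ : Fin 3, A) * swp (r * v) - r * v ∈ Lf k A (n + 1) by
      simpa using h 1
    induction hv using Submodule.span_induction with
    | mem y hy =>
      intro r
      obtain ⟨_, ⟨f, hf, rfl⟩, _, ⟨b, hb, rfl⟩, rfl⟩ := Set.mem_mul.1 hy
      have hjJ : s2 f * s3 b * (r - s2 (merge r)) ∈ J3 k A :=
        mem_J3 (map_s2_ideal (k := k) (A := A) ▸ Ideal.mem_map_of_mem _ (Ideal.pow_le_self (Nat.succ_ne_zero n) hf))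
          (map_s3_ideal (k := k) (A := A) ▸ Ideal.mem_map_of_mem _ hb) (sub_s2_merge r)
      rw [show r * (s2 f * s3 b) = s2 (merge r * f) * s3 b + s2 f * s3 b * (r - s2 (merge r)) by
        rw [map_mul]; ring, hadd]
      refine add_mem ?_ (hJ _ hjJ)
      have := hgen (merge r * f) (Ideal.mul_mem_left _ _ hf) b hb
      rwa [map_mul swp, map_mul merge, merge_s2, merge_s3, swp_s2, swp_s3]
    | zero => intro r; simp [Φ]
    | add a b ha hb iha ihb =>
      intro r
      rw [mul_add, hadd]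
      exact add_mem (iha r) (ihb r)
    | smul c a ha iha =>
      intro r
      rw [smul_eq_mul, ← mul_assoc]
      exact iha _
  have hL : ∀ n, x ∈ Lf k A n := by
    intro n
    induction n with
    | zero =>
      refine Submodule.mem_sup_left ?_
      rw [zero_add, pow_one, map_s2_ideal, map_s3_ideal]
      exact hxm
    | succ n ih =>
      have h := hmain n x ih
      rw [hπ, hsw, show Φ 0 = 0 by simp [Φ]] at h
      have hne : ((n + 1 + 1 : ℕ) : k) ≠ 0 := Nat.cast_ne_zero.2 (Nat.succ_ne_zero _)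
      have e : x = algebraMap k (⨂[k] _ : Fin 3, A) (-((n + 1 + 1 : ℕ) : k)⁻¹) *
          (0 - ((n + 1 : ℕ) : ⨂[k] _ : Fin 3, A) * x - x) := by
        have e1 : algebraMap k (⨂[k] _ : Fin 3, A) ((n + 1 + 1 : ℕ) : k)⁻¹ *
            algebraMap k (⨂[k] _ : Fin 3, A) ((n + 1 + 1 : ℕ) : k) = 1 := by
          rw [← map_mul, inv_mul_cancel₀ hne, map_one]
        rw [map_natCast] at e1
        rw [map_neg]
        push_cast at e1 ⊢
        linear_combination (-x) * e1
      rw [e]
      exact Ideal.mul_mem_left _ _ h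
  haveI : Algebra.FiniteType k (⨂[k] _ : Fin 3, A) := finiteType
  haveI : IsNoetherianRing (⨂[k] _ : Fin 3, A) := Algebra.FiniteType.isNoetherianRing k _
  let Q := Ideal.Quotient.mk (J3 k A)
  have hinf : Q x ∈ (⨅ n : ℕ, ((Id k A 0 1).map Q) ^ n • (⊤ : Submodule ((⨂[k] _ : Fin 3, A) ⧸ J3 k A) ((⨂[k] _ : Fin 3, A) ⧸ J3 k A))) := by
    rw [Submodule.mem_iInf]
    intro n
    rw [smul_eq_mul, Ideal.mul_top, ← Ideal.map_pow]
    obtain ⟨v, hv, w, hw, e⟩ := Submodule.mem_sup.1 (hL n)
    rw [← e, map_add, show Q w = 0 from Ideal.Quotient.eq_zero_iff_mem.2 hw, add_zero]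
    refine Ideal.mem_map_of_mem _ (Ideal.pow_le_pow_right (Nat.le_succ n) ?_)
    rw [← map_s2_ideal, ← Ideal.map_pow]
    refine Submodule.mul_induction_on hv (fun a ha b _ => ?_) fun a b ha hb => add_mem ha hb
    exact Ideal.mul_mem_right b _ ha
  obtain ⟨⟨e, he⟩, hex⟩ := (Ideal.mem_iInf_smul_pow_eq_bot_iff _ _).1 hinf
  obtain ⟨e', he', rfl⟩ := (Ideal.mem_map_iff_of_surjective _ Ideal.Quotient.mk_surjective).1 he
  have hzero : ∀ c ∈ Id k A 0 1, c * x ∈ J3 k A := by
    intro c hc
    rw [← map_s2_ideal] at hc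
    induction hc using Submodule.span_induction with
    | mem y hy =>
      obtain ⟨a, ha, rfl⟩ := hy
      have := s2_mul_sub_mem hxm ha
      rwa [hπ, map_zero, mul_zero, sub_zero] at this
    | zero => simp
    | add a b _ _ iha ihb => rw [add_mul]; exact add_mem iha ihb
    | smul r a _ iha => rw [smul_eq_mul, mul_assoc]; exact Ideal.mul_mem_left _ _ iha
  have hmem' : Q (e' * x) = 0 := Ideal.Quotient.eq_zero_iff_mem.2 (hzero e' he')
  refine Ideal.Quotient.eq_zero_iff_mem.1 ?_
  rw [← hmem', map_mul]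
  exact hex.symm


end Groth.Agent.S19214
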