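import Groth.Statements.S19218
import Mathlib.RingTheory.PiTensorProduct

set_option autoImplicit false
universe u v
open TensorProduct
open DiagIdeal

namespace Groth.Agent.S19218

variable {k : Type u} [CommRing k] {A : Type v} [CommRing A] [Algebra k A] {n : ℕ}

open PiTensorProduct in
lemma reindex_mul (σ : Equiv.Perm (Fin n)) (x y : ⨂[k] _ : Fin n, A) :
    reindex k (fun _ : Fin n => A) σ (x * y) =
      reindex k (fun _ : Fin n => A) σ x * reindex k (fun _ : Fin n => A) σ y := by
  induction x using PiTensorProduct.induction_on with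
  | smul_tprod r a =>
    induction y using PiTensorProduct.induction_on with
    | smul_tprod s b =>
      simp only [smul_mul_assoc, mul_smul_comm, map_smul, reindex_tprod, tprod_mul_tprod]
      rfl
    | add y y' hy hy' => simp only [mul_add, map_add, hy, hy']
  | add x x' hx hx' => simp only [add_mul, map_add, hx, hx']

open PiTensorProduct in
/-- reindexing as an algebra map -/
noncomputable def perm (σ : Equiv.Perm (Fin n)) : (⨂[k] _ : Fin n, A) →ₐ[k] ⨂[k] _ : Fin n, A :=
  AlgHom.ofLinearMap (reindex k (fun _ : Fin n => A) σ).toLinearMap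
    (by
      rw [show (1 : ⨂[k] _ : Fin n, A) = tprod k 1 from rfl]
      exact reindex_tprod σ _)
    (reindex_mul σ)

open PiTensorProduct in
lemma perm_single (σ : Equiv.Perm (Fin n)) (i : Fin n) (a : A) :
    perm σ (singleAlgHom (R := k) (A := fun _ : Fin n => A) i a) =
      singleAlgHom (R := k) (A := fun _ : Fin n => A) (σ i) a := by
  change reindex k (fun _ : Fin n => A) σ (tprod k (MonoidHom.mulSingle (fun _ : Fin n => A) i a)) = _
  rw [reindex_tprod]
  change tprod k _ = tprod k (MonoidHom.mulSingle (fun _ : Fin n => A) (σ i) a)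
  congr 1
  funext j
  simp only [MonoidHom.mulSingle_apply, Pi.mulSingle_apply, Equiv.symm_apply_eq]

/-- the ideal of a pair diagonal -/
noncomputable def J (i j : Fin n) : Ideal (⨂[k] _ : Fin n, A) := Ideal.span (Set.range fun a : A =>
    PiTensorProduct.singleAlgHom (R := k) (A := fun _ : Fin n => A) i a -
    PiTensorProduct.singleAlgHom (R := k) (A := fun _ : Fin n => A) j a)

lemma perm_sub_mem (i j : Fin n) (y : ⨂[k] _ : Fin n, A) :
    perm (Equiv.swap i j) y - y ∈ J i j := by
  rw [← Ideal.Quotient.eq]
  have h : (Ideal.Quotient.mkₐ k (J i j)).comp (perm (Equiv.swap i j)) =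
      Ideal.Quotient.mkₐ k (J (k := k) (A := A) i j) := by
    refine PiTensorProduct.algHom_ext fun l => AlgHom.ext fun a => ?_
    simp only [AlgHom.comp_apply, perm_single, Ideal.Quotient.mkₐ_eq_mk]
    have hmem : PiTensorProduct.singleAlgHom (R := k) (A := fun _ : Fin n => A) i a -
        PiTensorProduct.singleAlgHom (R := k) (A := fun _ : Fin n => A) j a ∈ J (k := k) i j :=
      Ideal.subset_span ⟨a, rfl⟩
    rw [Ideal.Quotient.eq]
    rcases eq_or_ne l i with rfl | hi
    · rw [Equiv.swap_apply_left, ← neg_sub]; exact neg_mem hmem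
    rcases eq_or_ne l j with rfl | hj
    · rw [Equiv.swap_apply_right]; exact hmem
    · rw [Equiv.swap_apply_of_ne_of_ne hi hj, sub_self]; exact zero_mem _
  exact AlgHom.congr_fun h y

lemma perm_mem {i j : Fin n} {b : ⨂[k] _ : Fin n, A} (hb : b ∈ J i j) :
    perm (Equiv.swap i j) b ∈ J i j := by
  simpa using add_mem (perm_sub_mem i j b) hb

lemma perm_add_mem_sq {i j : Fin n} {b : ⨂[k] _ : Fin n, A} (hb : b ∈ J i j) :
    perm (Equiv.swap i j) b + b ∈ J i j ^ 2 := by
  unfold J at hb
  induction hb using Submodule.span_induction with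
  | mem g hg =>
    obtain ⟨a, rfl⟩ := hg
    simp only [map_sub, perm_single, Equiv.swap_apply_left, Equiv.swap_apply_right]
    rw [sub_add_sub_cancel, sub_self]
    exact zero_mem _
  | zero => simp
  | add b c _ _ hb hc => rw [map_add, add_add_add_comm]; exact add_mem hb hc
  | smul r b hb' hb =>
    rw [smul_eq_mul, map_mul, show perm (Equiv.swap i j) r * perm (Equiv.swap i j) b + r * b =
      perm (Equiv.swap i j) r * (perm (Equiv.swap i j) b + b) - (perm (Equiv.swap i j) r - r) * b by ring]
    refine sub_mem (Ideal.mul_mem_left _ _ hb) ?_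
    rw [pow_two]
    exact Ideal.mul_mem_mul (perm_sub_mem i j r) hb'

lemma perm_pow {i j : Fin n} : ∀ (s : ℕ) {y : ⨂[k] _ : Fin n, A}, y ∈ J i j ^ s →
    perm (Equiv.swap i j) y - (-1) ^ s * y ∈ J i j ^ (s + 1) := by
  intro s
  induction s with
  | zero => intro y _; simpa using perm_sub_mem i j y
  | succ s ih =>
    intro y hy
    rw [pow_succ] at hy
    induction hy using Submodule.mul_induction_on' with
    | mem_mul_mem a ha b hb =>
      rw [show perm (Equiv.swap i j) (a * b) - (-1) ^ (s + 1) * (a * b) =
          (perm (Equiv.swap i j) a - (-1) ^ s * a) * perm (Equiv.swap i j) b +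
            (-1) ^ s * (a * (perm (Equiv.swap i j) b + b)) by rw [map_mul, pow_succ]; ring]
      refine add_mem ?_ (Ideal.mul_mem_left _ _ ?_)
      · rw [pow_succ (J i j) (s + 1)]
        exact Ideal.mul_mem_mul (ih ha) (perm_mem hb)
      · rw [show s + 1 + 1 = s + 2 from rfl, pow_add]
        exact Ideal.mul_mem_mul ha (perm_add_mem_sq hb)
    | add a _ b _ ha hb =>
      rw [map_add, mul_add, add_sub_add_comm]; exact add_mem ha hb

/-- Let k be an algebraically closed field of characteristic zero and A a smooth k-algebra which is a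
domain of Krull dimension 2. In the n-fold tensor power R of A over k, indexed by Fin n, let I_p (p
= (i, j), i < j) be the ideal generated by the a_i − a_j, a ∈ A, and let I be the intersection of
the I_p, the ideal of the big diagonal. Assume that for every s ≥ 0 the power I ^ s is the
intersection of the powers I_p ^ s (a property of the big diagonal of a smooth surface that the
source takes from the literature). Then for m ≥ 1 every element of R fixed by all permutations of
the n factors and lying in I ^ (2m − 1) lies in I ^ (2m): on the symmetric product the invariants of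
the odd power and of the next even power of the ideal of the big diagonal coincide. (The source
states the sheaf version for a smooth quasi-projective complex surface, using the displayed property
of the powers without restating it as a hypothesis.) -/
theorem result (k : Type u) [Field k] [IsAlgClosed k] [CharZero k]
    (A : Type v) [CommRing A] [Algebra k A] [Algebra.Smooth k A] [IsDomain A]
    (hdim : ringKrullDim A = 2) (n : ℕ)
    (I : Fin n × Fin n → Ideal (⨂[k] _ : Fin n, A))
    (hI : ∀ p, I p = Ideal.span (Set.range fun a : A =>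
        PiTensorProduct.singleAlgHom (R := k) (A := fun _ : Fin n => A) p.1 a -
        PiTensorProduct.singleAlgHom (R := k) (A := fun _ : Fin n => A) p.2 a))
    (IΔ : Ideal (⨂[k] _ : Fin n, A))
    (hIΔ : IΔ = ⨅ p ∈ Finset.univ.filter (fun p : Fin n × Fin n => p.1 < p.2), I p)
    (hpow : ∀ s : ℕ, IΔ ^ s = ⨅ p ∈ Finset.univ.filter (fun p : Fin n × Fin n => p.1 < p.2), (I p) ^ s)
    (m : ℕ) (hm : 1 ≤ m) (x : ⨂[k] _ : Fin n, A)
    (hx : ∀ σ : Equiv.Perm (Fin n), PiTensorProduct.reindex k (fun _ : Fin n => A) σ x = x)
    (hmem : x ∈ IΔ ^ (2 * m - 1)) :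
    x ∈ IΔ ^ (2 * m) := by
  rw [hpow] at hmem ⊢
  simp only [Submodule.mem_iInf] at hmem ⊢
  intro p hp
  have h := hmem p hp
  rw [show I p = J p.1 p.2 from hI p] at h ⊢
  have h2 := perm_pow _ h
  rw [show perm (Equiv.swap p.1 p.2) x = x from hx _, show 2 * m - 1 + 1 = 2 * m by omega] at h2
  obtain ⟨l, rfl⟩ : ∃ l, m = l + 1 := ⟨m - 1, by omega⟩
  rw [show 2 * (l + 1) - 1 = 2 * l + 1 by omega, Odd.neg_one_pow ⟨l, rfl⟩,
    neg_one_mul, sub_neg_eq_add, ← two_smul k x] at h2
  have h3 := Submodule.smul_of_tower_mem _ (2 : k)⁻¹ h2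
  rwa [smul_smul, inv_mul_cancel₀ (two_ne_zero : (2 : k) ≠ 0), one_smul] at h3

end Groth.Agent.S19218
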