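import Groth.Statements.S19221
import Groth.Agent.Lib.SymRep28.Cycles

set_option autoImplicit false
universe u
open SymRep

namespace Groth.Agent.S19221

/-- Let k be a field of characteristic zero and F the k-space of functions Fin 2 → Fin 4 → Fin 4 → k,
with the symmetric group of Fin 4 acting through P σ f c a b = f c (σ⁻¹ a) (σ⁻¹ b). The signed edge
vectors of the complete graph on four vertices live in F as the functions antisymmetric in the two
vertex arguments, and for a colour c and an oriented 3-cycle i → j → l → i the cycle vector z c i j
l is the function equal, in colour c, to +1 at (i,j), (j,l), (l,i), to −1 at (j,i), (l,j), (i,l) and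
to 0 elsewhere (and 0 in the other colour); these cycle vectors span k² ⊗ (cycle space), the
representation written C² ⊗ q in the published text. Let Γ be the graph with edges 01, 02, 03, 12,
23 (a 4-cycle with one chord), whose cycle space is spanned by the cycles (0,1,2) and (0,2,3), and
let ω be the product in the exterior algebra of F of the four vectors z 0 0 1 2, z 1 0 1 2, z 0 0 2
3, z 1 0 2 3 (a generator of the top exterior power of k² ⊗ q_Γ). Then ω is fixed by the stabiliser
of Γ in the symmetric group (generated by the transpositions (0 2) and (1 3)), and the sum over all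
24 permutations σ of the images of ω under the maps induced by P σ is nonzero: the projection of ω
to the invariants of the fourth exterior power of k² ⊗ q_{K₄} does not vanish. (The published
statement is over the complex numbers; a field of characteristic zero is used here. The published
statement also asserts that this map is an isomorphism onto the one-dimensional space of
S₄-invariants of the fourth exterior power of k² ⊗ q_{K₄}; only its non-vanishing is stated here.) -/
theorem result (k : Type u) [Field k] [CharZero k]
    (P : Equiv.Perm (Fin 4) → ((Fin 2 → Fin 4 → Fin 4 → k) →ₗ[k] (Fin 2 → Fin 4 → Fin 4 → k)))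
    (hP : ∀ (σ : Equiv.Perm (Fin 4)) (f : Fin 2 → Fin 4 → Fin 4 → k) (c : Fin 2) (a b : Fin 4),
      P σ f c a b = f c (σ.symm a) (σ.symm b))
    (z : Fin 2 → Fin 4 → Fin 4 → Fin 4 → (Fin 2 → Fin 4 → Fin 4 → k))
    (hz : ∀ (c : Fin 2) (i j l : Fin 4) (c' : Fin 2) (a b : Fin 4), z c i j l c' a b =
      if c' = c then
        ((if a = i ∧ b = j then 1 else 0) + (if a = j ∧ b = l then 1 else 0) + (if a = l ∧ b = i then 1 else 0)
          - (if a = j ∧ b = i then 1 else 0) - (if a = l ∧ b = j then 1 else 0) - (if a = i ∧ b = l then 1 else 0))
      else 0)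
    (ω : ExteriorAlgebra k (Fin 2 → Fin 4 → Fin 4 → k))
    (hω : ω = ExteriorAlgebra.ι k (z 0 0 1 2) * ExteriorAlgebra.ι k (z 1 0 1 2) *
      ExteriorAlgebra.ι k (z 0 0 2 3) * ExteriorAlgebra.ι k (z 1 0 2 3)) :
    ExteriorAlgebra.map (P (Equiv.swap 0 2)) ω = ω ∧
    ExteriorAlgebra.map (P (Equiv.swap 1 3)) ω = ω ∧
    (∑ σ : Equiv.Perm (Fin 4), ExteriorAlgebra.map (P σ) ω) ≠ 0 := by
  exact GrothLib.SymRep28.cycles_main k P hP z hz ω hω

end Groth.Agent.S19221
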