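import Groth.Statements.S19223
import Groth.Agent.Lib.GroupCohAvg.Basic
import Mathlib.RepresentationTheory.Homological.GroupCohomology.LongExactSequence
import Mathlib.RingTheory.Henselian

set_option autoImplicit false
set_option backward.isDefEq.respectTransparency false
set_option linter.style.haveILetI false
attribute [local instance] Units.mulDistribMulActionRight
open GalCoh

namespace Groth.Agent.S19223

open CategoryTheory CategoryTheory.Limits

theorem exists_preimage {k G : Type} [CommRing k] [Group G] {X : ShortComplex (Rep.{0} k G)} (hX : X.ShortExact)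
    (y : X.X₂) (h : X.g.hom y = 0) : ∃ b, X.f.hom b = y := by
  have e : LinearMap.range X.f.hom.toLinearMap = LinearMap.ker X.g.hom.toLinearMap :=
    (hX.exact.map (forget₂ (Rep.{0} k G) (ModuleCat.{0} k))).moduleCat_range_eq_ker
  exact e.ge (show y ∈ LinearMap.ker X.g.hom.toLinearMap from h)

theorem isZero_of_bijective_card {k G : Type} [CommRing k] [Group G] [Fintype G] (K : Rep k G)
    (h : Function.Bijective fun a : K => Fintype.card G • a) (n : ℕ) :
    IsZero (groupCohomology K (n + 1)) := by
  let e : K ≃ₗ[k] K := LinearEquiv.ofBijective ((Fintype.card G : k) • LinearMap.id) (by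
    convert h using 1
    funext a
    exact Nat.cast_smul_eq_nsmul k _ a)
  haveI : Subsingleton (groupCohomology K (n + 1)) := by
    suffices ∀ x : groupCohomology K (n + 1), x = 0 from ⟨fun a b => (this a).trans (this b).symm⟩
    intro x
    obtain ⟨z, rfl⟩ := (ModuleCat.epi_iff_surjective (groupCohomology.π K (n + 1))).1
      (inferInstanceAs (Epi ((groupCohomology.inhomogeneousCochains K).homologyπ (n + 1)))) x
    have hT : ∀ (g y : G) (a : K), K.ρ g (e.symm a) = e.symm (K.ρ g a) := fun g y a => e.injective (by
      rw [e.apply_symm_apply]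
      show (Fintype.card G : k) • K.ρ g (e.symm a) = K.ρ g a
      rw [← map_smul]
      exact congrArg (K.ρ g) (e.apply_symm_apply a))
    obtain ⟨b, hb⟩ := GrothLib.GroupCohAvg.exists_cochain_eq K (fun _ => e.symm.toLinearMap) hT LinearMap.id
      (fun a => by
        rw [Finset.sum_const, Finset.card_univ, LinearMap.id_apply]
        refine Eq.trans ?_ (e.apply_symm_apply a)
        exact (Nat.cast_smul_eq_nsmul k _ _).symm) z
    exact GrothLib.GroupCohAvg.π_eq_zero_of_cochain K z b hb
  exact ModuleCat.isZero_of_subsingleton _

/-- For a strictly henselian local ring R whose residue field k has characteristic p ≥ 0, and a finite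
group G of order prime to p acting on R by ring automorphisms (hence on the unit groups R^× and
k^×), consider the homomorphism H^n(G, R^×) → H^n(G, k^×) induced by the reduction map. It is
bijective for every n ≥ 2; it is also bijective for n = 1 provided that p = 0 or the only p-power
root of unity in R is 1. (The reduction map on cohomology is pinned by its values on units; groups,
rings and modules are taken in the lowest universe, as integral coefficients in the group-cohomology
library require.) -/
theorem result (R : Type) [CommRing R]
    [HenselianLocalRing R] [IsSepClosed (IsLocalRing.ResidueField R)] (p : ℕ) [CharP (IsLocalRing.ResidueField R) p]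
    (G : Type) [Group G] [Finite G] [MulSemiringAction G R] (hp : ¬ p ∣ Nat.card G)
    (φ : Rep.ofMulDistribMulAction G Rˣ ⟶ Rep.ofMulDistribMulAction G (IsLocalRing.ResidueField R)ˣ)
    (hφ : ∀ x : Rˣ, Additive.toMul (φ.hom (Additive.ofMul x)) = Units.map (IsLocalRing.residue R).toMonoidHom x)
    (n : ℕ) (hn : 1 ≤ n) (h1 : n = 1 → p ≠ 0 → ∀ (ζ : Rˣ) (m : ℕ), ζ ^ p ^ m = 1 → ζ = 1) :
    Function.Bijective ((groupCohomology.functor ℤ G n).map φ).hom := by
  classical
  haveI := Fintype.ofFinite G
  let N := Fintype.card G
  let k := IsLocalRing.ResidueField R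
  let res : R →+* k := IsLocalRing.residue R
  have hN : (N : k) ≠ 0 := fun h => hp (by
    rw [Nat.card_eq_fintype_card]; exact (CharP.cast_eq_zero_iff k p N).1 h)
  haveI : Epi φ := (Rep.epi_iff_surjective φ).2 fun a => by
    obtain ⟨r, hr⟩ := IsLocalRing.residue_surjective (R := R) ((Additive.toMul a : kˣ) : k)
    have hu : IsUnit r := by
      by_contra hc
      exact (Additive.toMul a : kˣ).ne_zero (hr.symm.trans ((IsLocalRing.residue_eq_zero_iff r).2 hc))
    exact ⟨Additive.ofMul hu.unit, Additive.toMul.injective ((hφ hu.unit).trans (Units.ext hr))⟩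
  let X : ShortComplex (Rep ℤ G) := ShortComplex.mk (kernel.ι φ) φ (kernel.condition φ)
  have hX : X.ShortExact := { exact := X.exact_of_f_is_kernel (kernelIsKernel φ) }
  have hι : Function.Injective X.f.hom := (Rep.mono_iff_injective X.f).1 inferInstance
  have hrange : ∀ y, φ.hom y = 0 → ∃ b, X.f.hom b = y := fun y hy => exists_preimage hX y hy
  have hK : Function.Bijective fun a : X.X₁ => N • a := by
    constructor
    · refine (injective_iff_map_eq_zero
        (AddMonoidHom.mk' (fun a : X.X₁ => N • a) (fun a b => nsmul_add a b N))).2 fun a ha => ?_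
      apply hι
      rw [map_zero]
      let u : Rˣ := Additive.toMul (X.f.hom a)
      have hu : u ^ N = 1 := by
        have := congrArg (fun b => Additive.toMul (X.f.hom b : Additive Rˣ)) ha
        simp only [AddMonoidHom.mk'_apply, map_nsmul, map_zero] at this
        exact this
      have hres : res u = 1 := by
        have h0 : φ.hom (X.f.hom a) = 0 := congr($(X.zero) a)
        have := (hφ u).symm.trans (congrArg Additive.toMul h0)
        exact congrArg Units.val this
      have h1 : ((u : R) - 1) * ∑ i ∈ Finset.range N, (u : R) ^ i = 0 := by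
        rw [mul_geom_sum, ← Units.val_pow_eq_pow_val, hu, Units.val_one, sub_self]
      have h2 : IsUnit (∑ i ∈ Finset.range N, (u : R) ^ i) := by
        refine IsLocalRing.notMem_maximalIdeal.1 fun hc => hN ?_
        have := (IsLocalRing.residue_eq_zero_iff _).2 hc
        simpa [map_sum, map_pow, show IsLocalRing.residue R (u : R) = 1 from hres] using this
      have h3 : (u : R) = 1 := sub_eq_zero.1 (by simpa using (h2.mul_left_eq_zero).1 h1)
      exact Additive.toMul.injective (show u = 1 from Units.ext h3)
    · intro a
      let u : Rˣ := Additive.toMul (X.f.hom a)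
      have hres : res u = 1 := by
        have h0 : φ.hom (X.f.hom a) = 0 := congr($(X.zero) a)
        exact congrArg Units.val ((hφ u).symm.trans (congrArg Additive.toMul h0))
      obtain ⟨v, hv, hv1⟩ := HenselianLocalRing.is_henselian (Polynomial.X ^ N - Polynomial.C (u : R))
        (Polynomial.monic_X_pow_sub_C _ Fintype.card_ne_zero) 1 (by
          rw [← IsLocalRing.residue_eq_zero_iff]
          simp [show IsLocalRing.residue R (u : R) = 1 from hres]) (by
          refine IsLocalRing.notMem_maximalIdeal.1 fun hc => hN ?_
          have := (IsLocalRing.residue_eq_zero_iff _).2 hc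
          simpa [Polynomial.derivative_X_pow] using this)
      have hv1' : res v = 1 := by
        have := (IsLocalRing.residue_eq_zero_iff _).2 hv1
        rwa [map_sub, sub_eq_zero, map_one] at this
      have hvu : IsUnit v := IsLocalRing.notMem_maximalIdeal.1 fun hc =>
        one_ne_zero (hv1'.symm.trans ((IsLocalRing.residue_eq_zero_iff _).2 hc))
      obtain ⟨b, hb⟩ := hrange (Additive.ofMul hvu.unit)
        (Additive.toMul.injective ((hφ hvu.unit).trans (show Units.map res.toMonoidHom hvu.unit = 1 from Units.ext ((congrArg res hvu.unit_spec).trans hv1'))))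
      refine ⟨b, hι ?_⟩
      simp only [map_nsmul]
      rw [show X.f.hom b = Additive.ofMul hvu.unit from hb]
      refine Additive.toMul.injective (Units.ext ?_)
      show v ^ N = (u : R)
      simpa [sub_eq_zero] using hv
  obtain ⟨m, rfl⟩ := Nat.exists_eq_succ_of_ne_zero (by omega : n ≠ 0)
  haveI : Mono ((groupCohomology.functor ℤ G (m + 1)).map φ) :=
    (groupCohomology.mapShortComplex₂_exact hX (m + 1)).mono_g
      ((isZero_of_bijective_card X.X₁ hK m).eq_of_src _ _)
  haveI : Epi ((groupCohomology.functor ℤ G (m + 1)).map φ) :=
    (groupCohomology.mapShortComplex₃_exact hX (rfl : m + 1 + 1 = m + 2)).epi_f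
      ((isZero_of_bijective_card X.X₁ hK (m + 1)).eq_of_tgt _ _)
  exact ⟨(ModuleCat.mono_iff_injective _).1 inferInstance, (ModuleCat.epi_iff_surjective _).1 inferInstance⟩

end Groth.Agent.S19223
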