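import Groth.Statements.S19224
import Mathlib

set_option autoImplicit false
open GalCoh

namespace Groth.Agent.S19224

open CategoryTheory groupCohomology

/-- a 2-cochain killed by multiplication: averaging for a trivial action -/
theorem card_smul_mem {Q : Type} [Group Q] [Fintype Q] {M : Type*} [AddCommGroup M] (c : Q → Q → M)
    (hc : ∀ g h j, c (g * h) j + c g h = c h j + c g (h * j)) :
    ∀ g h, (Fintype.card Q) • c g h = (∑ j, c h j) - (∑ j, c (g * h) j) + (∑ j, c g j) := by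
  intro g h
  have h1 := Finset.sum_congr (rfl : (Finset.univ : Finset Q) = Finset.univ) (fun j _ => hc g h j)
  rw [Finset.sum_add_distrib, Finset.sum_add_distrib, Finset.sum_const, Finset.card_univ] at h1
  rw [show (∑ j, c g (h * j)) = ∑ j, c g j from Fintype.sum_equiv (Equiv.mulLeft h) _ _ fun j => rfl] at h1
  rw [eq_sub_of_add_eq' h1]
  abel


/-- Let Q be a finite group such that H^3(Q, ℤ) = 0 for the trivial action, and let k be a separably
closed field of characteristic p ≥ 0 with p not dividing the order of Q. Then H^2(Q, k^×) = 0, where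
Q acts trivially on the units of k. (Groups and fields are taken in the lowest universe, as integral
coefficients in the group-cohomology library require.) -/
theorem result (Q : Type) [Group Q] [Finite Q]
    (hQ : Subsingleton (groupCohomology (Rep.trivial ℤ Q ℤ) 3)) (k : Type) [Field k] [IsSepClosed k]
    (p : ℕ) [CharP k p] (hp : ¬ p ∣ Nat.card Q) :
    Subsingleton (groupCohomology (Rep.trivial ℤ Q (Additive kˣ)) 2) := by
  classical
  haveI := Fintype.ofFinite Q
  let n := Fintype.card Q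
  have hnQ : Nat.card Q = n := Nat.card_eq_fintype_card
  have hn0 : n ≠ 0 := Fintype.card_ne_zero
  have hnk : (n : k) ≠ 0 := fun h => hp (by rw [hnQ]; exact (CharP.cast_eq_zero_iff k p n).1 h)
  have hroot : ∀ x : kˣ, ∃ y : kˣ, y ^ n = x := fun x => by
    obtain ⟨y, hy⟩ := IsSepClosed.exists_pow_nat_eq (x : k) n (hn := ⟨hnk⟩)
    have hy0 : y ≠ 0 := fun h => x.ne_zero (by rw [← hy, h, zero_pow hn0])
    exact ⟨Units.mk0 y hy0, Units.ext (by simpa using hy)⟩
  haveI : NeZero (n : k) := ⟨hnk⟩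
  obtain ⟨ζ₀, hζ₀⟩ : ∃ z : k, IsPrimitiveRoot z n := by
    obtain ⟨z, hz⟩ := IsSepClosed.exists_root (Polynomial.cyclotomic n k)
      (ne_of_gt (Polynomial.degree_cyclotomic_pos n k (Nat.pos_of_ne_zero hn0)))
      (Polynomial.separable_cyclotomic n k)
    exact ⟨z, Polynomial.isRoot_cyclotomic_iff.1 hz⟩
  let A := Rep.trivial ℤ Q (Additive kˣ)
  let Z := Rep.trivial ℤ Q ℤ
  suffices hall : ∀ c : cocycles₂ A, H2π A c = 0 by
    refine ⟨fun x y => ?_⟩
    have h0 : ∀ z : groupCohomology A 2, z = 0 := fun z => H2_induction_on z hall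
    rw [h0 x, h0 y]
  intro c
  rw [H2π_eq_zero_iff]
  let f : Q → Q → Additive kˣ := fun g h => c (g, h)
  have hf : ∀ g h j, f (g * h) j + f g h = f h j + f g (h * j) := fun g h j => by
    exact (mem_cocycles₂_iff _).1 c.2 g h j
  let β : Q → kˣ := fun g => (∑ j, f g j : Additive kˣ).toMul
  choose β' hβ' using fun g => hroot (β g)
  let u : Q → Q → kˣ := fun g h => (f g h).toMul * (β' h)⁻¹ * β' (g * h) * (β' g)⁻¹
  have hu : ∀ g h, u g h ^ n = 1 := fun g h => by
    have h1 := congrArg Additive.toMul (card_smul_mem f hf g h)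
    rw [toMul_nsmul, toMul_add, toMul_sub] at h1
    show ((f g h).toMul * (β' h)⁻¹ * β' (g * h) * (β' g)⁻¹) ^ n = 1
    rw [mul_pow, mul_pow, mul_pow, inv_pow, inv_pow, hβ', hβ', hβ', h1]
    show β h / β (g * h) * β g * (β h)⁻¹ * β (g * h) * (β g)⁻¹ = 1
    rw [div_eq_mul_inv]
    calc _ = (β h * (β h)⁻¹) * ((β (g * h))⁻¹ * β (g * h)) * (β g * (β g)⁻¹) := by apply Units.ext; push_cast; ring
      _ = 1 := by simp
  let ζ : kˣ := Units.mk0 ζ₀ (hζ₀.ne_zero hn0)
  have hexp : ∀ g h, ∃ i : ℕ, u g h = ζ ^ i := fun g h => by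
    obtain ⟨i, -, hi⟩ := hζ₀.eq_pow_of_pow_eq_one (ξ := (u g h : k)) (by
      rw [← Units.val_pow_eq_pow_val, hu, Units.val_one])
    exact ⟨i, Units.ext (by rw [Units.val_pow_eq_pow_val, ← hi]; rfl)⟩
  choose e he using hexp
  let E : Q × Q → ℤ := fun x => e x.1 x.2
  -- the coboundary of the lift is divisible by `n`
  have hdiv : ∀ g h j, (n : ℤ) ∣ E (h, j) - E (g * h, j) + E (g, h * j) - E (g, h) := fun g h j => by
    have hu' : u (g * h) j * u g h = u h j * u g (h * j) := by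
      show (f (g * h) j).toMul * (β' j)⁻¹ * β' (g * h * j) * (β' (g * h))⁻¹ * ((f g h).toMul * (β' h)⁻¹ * β' (g * h) * (β' g)⁻¹) =
        (f h j).toMul * (β' j)⁻¹ * β' (h * j) * (β' h)⁻¹ * ((f g (h * j)).toMul * (β' (h * j))⁻¹ * β' (g * (h * j)) * (β' g)⁻¹)
      have hm : (f (g * h) j).toMul * (f g h).toMul = (f h j).toMul * (f g (h * j)).toMul := by
        rw [← toMul_add, ← toMul_add, hf]
      rw [mul_assoc g h j]
      calc _ = ((f (g * h) j).toMul * (f g h).toMul) * ((β' j)⁻¹ * β' (g * (h * j)) * (β' h)⁻¹ * (β' g)⁻¹) *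
            ((β' (g * h))⁻¹ * β' (g * h)) := by ac_rfl
        _ = ((f h j).toMul * (f g (h * j)).toMul) * ((β' j)⁻¹ * β' (g * (h * j)) * (β' h)⁻¹ * (β' g)⁻¹) *
            ((β' (h * j))⁻¹ * β' (h * j)) := by rw [hm]; simp
        _ = _ := by ac_rfl
    rw [he, he, he, he, ← pow_add, ← pow_add] at hu'
    have hz : IsPrimitiveRoot ζ n := IsPrimitiveRoot.coe_units_iff.1 hζ₀
    have h3 : ζ ^ ((e h j : ℤ) - e (g * h) j + e g (h * j) - e g h) = 1 := by
      rw [show ((e h j : ℤ) - e (g * h) j + e g (h * j) - e g h) = ((e h j + e g (h * j) : ℕ) : ℤ) - ((e (g * h) j + e g h : ℕ) : ℤ) by push_cast; ring,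
        zpow_sub, zpow_natCast, zpow_natCast, hu', mul_inv_cancel]
    exact (hz.zpow_eq_one_iff_dvd _).1 h3
  choose w hw using hdiv
  let W : Q × Q × Q → ℤ := fun x => w x.1 x.2.1 x.2.2
  have hW : (d₂₃ Z).hom E = (n : ℤ) • W := funext fun x => by
    show E (x.2.1, x.2.2) - E (x.1 * x.2.1, x.2.2) + E (x.1, x.2.1 * x.2.2) - E (x.1, x.2.1) = _
    rw [hw]
    rfl
  have hexact : ((inhomogeneousCochains Z).sc' 2 3 4).Exact := by
    rw [← HomologicalComplex.exactAt_iff' _ 2 3 4 (by simp) (by simp), HomologicalComplex.exactAt_iff_isZero_homology]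
    haveI : Subsingleton ((inhomogeneousCochains Z).homology 3) := hQ
    exact ModuleCat.isZero_of_subsingleton _
  let W' := (cochainsIso₃ Z).inv.hom W
  have hW' : ((inhomogeneousCochains Z).d 3 4).hom W' = 0 := by
    have h1 : ((inhomogeneousCochains Z).d 2 3).hom ((cochainsIso₂ Z).inv.hom E) = (n : ℤ) • W' := by
      have := congrArg (fun φ => φ.hom E) (eq_d₂₃_comp_inv Z)
      simp only [ModuleCat.hom_comp, LinearMap.comp_apply] at this
      rw [this, hW, map_smul]
    have h2 : (n : ℤ) • ((inhomogeneousCochains Z).d 3 4).hom W' = 0 := by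
      rw [← map_smul, ← h1, ← LinearMap.comp_apply, ← ModuleCat.hom_comp, HomologicalComplex.d_comp_d]
      rfl
    funext x
    have h3 := congrFun h2 x
    exact (mul_eq_zero.1 h3).resolve_left (Int.natCast_ne_zero.2 hn0)
  obtain ⟨γ', hγ'⟩ := (ShortComplex.moduleCat_exact_iff _).1 hexact W' hW'
  let γ : Q × Q → ℤ := (cochainsIso₂ Z).hom.hom γ'
  have hγ : (d₂₃ Z).hom γ = W := by
    have := congrArg (fun φ => φ.hom γ') (comp_d₂₃_eq Z)
    simp only [ModuleCat.hom_comp, LinearMap.comp_apply] at this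
    refine this.trans ?_
    rw [show ((inhomogeneousCochains Z).d 2 3).hom γ' = W' from hγ']
    exact (cochainsIso₃ Z).toLinearEquiv.apply_symm_apply W
  -- an integral cocycle lifting the torsion cocycle
  let z : Q → Q → ℤ := fun g h => E (g, h) - n * γ (g, h)
  have hz : ∀ g h j, z (g * h) j + z g h = z h j + z g (h * j) := fun g h j => by
    have h1 : E (h, j) - E (g * h, j) + E (g, h * j) - E (g, h) = n * W (g, h, j) := congrFun hW (g, h, j)
    have h2 : γ (h, j) - γ (g * h, j) + γ (g, h * j) - γ (g, h) = W (g, h, j) := congrFun hγ (g, h, j)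
    show E (g * h, j) - n * γ (g * h, j) + (E (g, h) - n * γ (g, h)) = E (h, j) - n * γ (h, j) + (E (g, h * j) - n * γ (g, h * j))
    linear_combination -h1 + (n : ℤ) * h2
  obtain ⟨η, hη⟩ := hroot ζ
  refine ⟨fun g => Additive.ofMul (β' g * η ^ (∑ j, z g j)), funext fun x => ?_⟩
  obtain ⟨g, h⟩ := x
  show Additive.ofMul (β' h * η ^ (∑ j, z h j)) - Additive.ofMul (β' (g * h) * η ^ (∑ j, z (g * h) j)) +
    Additive.ofMul (β' g * η ^ (∑ j, z g j)) = f g h
  apply Additive.toMul.injective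
  rw [toMul_add, toMul_sub, toMul_ofMul, toMul_ofMul, toMul_ofMul]
  have h1 : u g h = η ^ ((∑ j, z h j) - (∑ j, z (g * h) j) + ∑ j, z g j) := by
    rw [← card_smul_mem z hz g h, nsmul_eq_mul, show ((Fintype.card Q : ℕ) : ℤ) * z g h = (n : ℤ) * z g h from rfl,
      zpow_mul, zpow_natCast, hη, he]
    show _ = ζ ^ ((e g h : ℤ) - n * γ (g, h))
    rw [zpow_sub, zpow_natCast, zpow_mul, zpow_natCast, (IsPrimitiveRoot.coe_units_iff.1 hζ₀ : IsPrimitiveRoot ζ n).pow_eq_one,
      one_zpow, inv_one, mul_one]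
  rw [zpow_add, zpow_sub] at h1
  have h2 : (f g h).toMul = u g h * β' h * (β' (g * h))⁻¹ * β' g := by
    show _ = (f g h).toMul * (β' h)⁻¹ * β' (g * h) * (β' g)⁻¹ * β' h * (β' (g * h))⁻¹ * β' g
    calc (f g h).toMul = (f g h).toMul * ((β' h)⁻¹ * β' h) * (β' (g * h) * (β' (g * h))⁻¹) * ((β' g)⁻¹ * β' g) := by simp
      _ = _ := by ac_rfl
  rw [h2, h1, div_eq_mul_inv, mul_inv]
  apply Units.ext
  push_cast
  ring


end Groth.Agent.S19224
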