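import Groth.Statements.S19228
import Groth.Agent.Lib.MuPairing3.Alg
import Groth.Agent.Lib.DiagGrp.Points
import Mathlib.AlgebraicGeometry.Sites.Fpqc

set_option autoImplicit false
universe u
open CategoryTheory MonoidalCategory CartesianMonoidalCategory MonObj GrpObj AlgebraicGeometry
open GrpSch

namespace Groth.Agent.S19228

section Aux

variable {R : Type u} [CommRing R]

/-- Points of a diagonalisable group commute. -/
theorem diag_comm {M : Type} [AddCommGroup M] {T : Over (Spec (CommRingCat.of R))} (a b : T ⟶ Red.diag R M) :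
    a * b = b * a := mul_comm a b

theorem whiskerLeft_isPullback {C D : Over (Spec (CommRingCat.of R))}
    (A : Over (Spec (CommRingCat.of R))) (f : C ⟶ D) :
    IsPullback (A ◁ f).left (snd A C).left (snd A D).left f.left := by
  have hw : (A ◁ f).left ≫ (snd A D).left = (snd A C).left ≫ f.left := by
    rw [← Over.comp_left, ← Over.comp_left, whiskerLeft_snd]
  have h1 : (A ◁ f).left ≫ Limits.pullback.fst A.hom D.hom = Limits.pullback.fst A.hom C.hom := by
    show (A ◁ f).left ≫ (fst A D).left = (fst A C).left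
    rw [← Over.comp_left, whiskerLeft_fst]
  refine IsPullback.of_right (h₁₂ := Limits.pullback.fst A.hom D.hom) (v₁₃ := A.hom) (h₂₂ := D.hom)
    ?_ hw (IsPullback.of_hasPullback A.hom D.hom)
  rw [h1, Over.w f]
  exact IsPullback.of_hasPullback A.hom C.hom

/-- A point of the target of a flat surjection lifts after a flat surjective base change. -/
theorem exists_lift {A B T : Over (Spec (CommRingCat.of R))} (f : A ⟶ B) [Flat f.left] [Surjective f.left]
    (x : T ⟶ B) : ∃ (T' : Over (Spec (CommRingCat.of R))) (j : T' ⟶ T) (x' : T' ⟶ A),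
      Epi j.left ∧ j ≫ x = x' ≫ f := by
  let T' : Over (Spec (CommRingCat.of R)) := Over.mk (Limits.pullback.fst x.left f.left ≫ T.hom)
  refine ⟨T', Over.homMk (Limits.pullback.fst x.left f.left) rfl, Over.homMk (Limits.pullback.snd x.left f.left) (by
      change _ = Limits.pullback.fst x.left f.left ≫ T.hom
      rw [← Over.w f, ← Over.w x, Limits.pullback.condition_assoc]), ?_,
    Over.OverMorphism.ext Limits.pullback.condition⟩
  change Epi (Limits.pullback.fst x.left f.left)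
  exact Flat.epi_of_flat_of_surjective _

/-- Descent of a morphism along a faithfully flat morphism, checked on points. -/
theorem exists_desc {A B Q : Over (Spec (CommRingCat.of R))} (c : A ⟶ B) [Flat c.left] [Surjective c.left]
    [LocallyOfFinitePresentation c.left] [CompactSpace B.left] [QuasiSeparatedSpace B.left] (l : A ⟶ Q)
    (w : ∀ (T : Over (Spec (CommRingCat.of R))) (a a' : T ⟶ A), a ≫ c = a' ≫ c → a ≫ l = a' ≫ l) :
    ∃ d : B ⟶ Q, c ≫ d = l := by
  obtain ⟨U, hUc, hUs⟩ : ∃ U : A.left.Opens, IsCompact (U : Set A.left) ∧ Surjective (U.ι ≫ c.left) := by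
    have hV : ∀ a : A.left, ∃ V : A.left.Opens, IsAffineOpen V ∧ a ∈ V := fun a => by
      obtain ⟨_, ⟨V, hV, rfl⟩, ha, -⟩ :=
        A.left.isBasis_affineOpens.exists_subset_of_mem_open (Set.mem_univ a) isOpen_univ
      exact ⟨V, hV, ha⟩
    choose V hV ha using hV
    obtain ⟨t, ht⟩ := (isCompact_univ (X := B.left)).elim_finite_subcover
      (fun a => c.left.base '' (V a : Set A.left)) (fun a => c.left.isOpenMap _ (V a).isOpen)
      (fun b _ => by
        obtain ⟨a, rfl⟩ := c.left.surjective b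
        exact Set.mem_iUnion.mpr ⟨a, a, ha a, rfl⟩)
    refine ⟨⨆ a ∈ t, V a, ?_, ⟨fun b => ?_⟩⟩
    · simp only [TopologicalSpace.Opens.coe_iSup]
      exact t.isCompact_biUnion fun a _ => (hV a).isCompact
    · obtain ⟨a, hat, x, hx, rfl⟩ : ∃ a ∈ t, b ∈ c.left.base '' (V a : Set A.left) := by
        simpa using ht (Set.mem_univ b)
      refine ⟨⟨x, ?_⟩, rfl⟩
      exact TopologicalSpace.Opens.mem_iSup.mpr ⟨a, TopologicalSpace.Opens.mem_iSup.mpr ⟨hat, hx⟩⟩
  haveI := hUs
  haveI : CompactSpace (U : Scheme.{u}) := isCompact_iff_compactSpace.mp hUc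
  haveI : QuasiCompact (U.ι ≫ c.left) := quasiCompact_of_compactSpace _
  let d₀ : B.left ⟶ Q.left := EffectiveEpi.desc (U.ι ≫ c.left) (U.ι ≫ l.left) fun {Z} g₁ g₂ hg => by
    let T : Over (Spec (CommRingCat.of R)) := Over.mk (g₁ ≫ U.ι ≫ A.hom)
    have h2 : g₂ ≫ U.ι ≫ A.hom = g₁ ≫ U.ι ≫ A.hom := by rw [← Over.w c, ← reassoc_of% hg]
    have := congrArg (fun t => t.left) (w T (Over.homMk (g₁ ≫ U.ι) (Category.assoc _ _ _))
      (Over.homMk (g₂ ≫ U.ι) ((Category.assoc _ _ _).trans h2))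
      (Over.OverMorphism.ext ((Category.assoc _ _ _).trans (hg.trans (Category.assoc _ _ _).symm))))
    exact (Category.assoc _ _ _).symm.trans (this.trans (Category.assoc _ _ _))
  have hd₀ : (U.ι ≫ c.left) ≫ d₀ = U.ι ≫ l.left := EffectiveEpi.fac _ _ _
  have hd : c.left ≫ d₀ = l.left := by
    haveI : Epi (Limits.pullback.fst c.left (U.ι ≫ c.left)) := Flat.epi_of_flat_of_surjective _
    let T : Over (Spec (CommRingCat.of R)) := Over.mk (Limits.pullback.fst c.left (U.ι ≫ c.left) ≫ A.hom)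
    let a : T ⟶ A := Over.homMk (Limits.pullback.fst c.left (U.ι ≫ c.left)) rfl
    let a' : T ⟶ A := Over.homMk (Limits.pullback.snd c.left (U.ι ≫ c.left) ≫ U.ι) (by
      change _ = Limits.pullback.fst c.left (U.ι ≫ c.left) ≫ A.hom
      rw [← Over.w c, Limits.pullback.condition_assoc]; simp)
    have haa : a ≫ c = a' ≫ c :=
      Over.OverMorphism.ext (Limits.pullback.condition.trans (Category.assoc _ _ _).symm)
    have hl := congrArg (fun t => t.left) (w T a a' haa)
    change Limits.pullback.fst c.left (U.ι ≫ c.left) ≫ l.left = (_ ≫ U.ι) ≫ l.left at hl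
    rw [← cancel_epi (Limits.pullback.fst c.left (U.ι ≫ c.left)), hl, Limits.pullback.condition_assoc]
    simp only [Category.assoc] at hd₀ ⊢
    rw [hd₀]
  refine ⟨Over.homMk d₀ ?_, Over.OverMorphism.ext hd⟩
  haveI : Epi c.left := Flat.epi_of_flat_of_surjective _
  rw [← cancel_epi c.left, reassoc_of% hd, Over.w l]
  exact (Over.w c).symm

theorem cancel_epi_left {T' T B : Over (Spec (CommRingCat.of R))} (j : T' ⟶ T) (hj : Epi j.left) {a b : T ⟶ B}
    (h : j ≫ a = j ≫ b) : a = b :=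
  Over.OverMorphism.ext ((cancel_epi j.left).mp (congrArg (fun t => t.left) h))

theorem specPoint_natural (M : Type) [AddCommGroup M] {C D : Type u} [CommRing C] [Algebra R C] [CommRing D]
    [Algebra R D] (h : C →ₐ[R] D) (χ : Multiplicative M →* C) :
    ∃ j : (Spec (CommRingCat.of D)).asOver (Spec (CommRingCat.of R)) ⟶
        (Spec (CommRingCat.of C)).asOver (Spec (CommRingCat.of R)),
      j.left = Spec.map (CommRingCat.ofHom h.toRingHom) ∧
      j ≫ GrothLib.DiagGrp.specPoint R M C χ = GrothLib.DiagGrp.specPoint R M D ((h : C →* D).comp χ) := by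
  refine ⟨Over.homMk (Spec.map (CommRingCat.ofHom h.toRingHom)) ?_, rfl, Over.OverMorphism.ext ?_⟩
  · change Spec.map (CommRingCat.ofHom h.toRingHom) ≫ Spec.map (CommRingCat.ofHom (algebraMap R C)) =
      Spec.map (CommRingCat.ofHom (algebraMap R D))
    rw [← Spec.map_comp, ← CommRingCat.ofHom_comp]
    exact congrArg (fun g => Spec.map (CommRingCat.ofHom g)) h.comp_algebraMap
  · rw [Over.comp_left, GrothLib.DiagGrp.specPoint_left, GrothLib.DiagGrp.specPoint_left]
    change Spec.map (CommRingCat.ofHom h.toRingHom) ≫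
        Spec.map (CommRingCat.ofHom (MonoidAlgebra.lift R C (Multiplicative M) χ).toRingHom) = _
    refine (Spec.map_comp _ _).symm.trans (congrArg (fun g => Spec.map (CommRingCat.ofHom g)) ?_)
    exact congrArg AlgHom.toRingHom (show h.comp (MonoidAlgebra.lift R C (Multiplicative M) χ) =
      MonoidAlgebra.lift R D (Multiplicative M) ((h : C →* D).comp χ) from
        MonoidAlgebra.algHom_ext (fun m => by simp) (Subsingleton.elim _ _))

variable {n : ℕ} [NeZero n]

/-- An alternating bimultiplicative morphism `μ_n × μ_n ⟶ 𝔾_m` is trivial. -/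
theorem pairing_morphism_trivial (e : Red.diag R (ZMod n) ⊗ Red.diag R (ZMod n) ⟶ Red.diag R ℤ)
    (hl : ∀ (T : Over (Spec (CommRingCat.of R))) (a a' b : T ⟶ Red.diag R (ZMod n)),
      lift (a * a') b ≫ e = (lift a b ≫ e) * (lift a' b ≫ e))
    (hr : ∀ (T : Over (Spec (CommRingCat.of R))) (a b b' : T ⟶ Red.diag R (ZMod n)),
      lift a (b * b') ≫ e = (lift a b ≫ e) * (lift a b' ≫ e))
    (halt : ∀ (T : Over (Spec (CommRingCat.of R))) (a : T ⟶ Red.diag R (ZMod n)), lift a a ≫ e = 1) :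
    e = 1 := by
  let sp := fun (C : Type u) [CommRing C] [Algebra R C] => GrothLib.DiagGrp.specPoint R (ZMod n) C
  let sz := fun (C : Type u) [CommRing C] [Algebra R C] => GrothLib.DiagGrp.specPoint R ℤ C
  let u : ∀ (C : Type u) [CommRing C] [Algebra R C],
      (Multiplicative (ZMod n) →* C) → (Multiplicative (ZMod n) →* C) → C := fun C _ _ a b =>
    (sz C).symm (lift (sp C a) (sp C b) ≫ e) (Multiplicative.ofAdd 1)
  have hr1 : ∀ (T : Over (Spec (CommRingCat.of R))) (a : T ⟶ Red.diag R (ZMod n)), lift a 1 ≫ e = 1 := by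
    intro T a
    have h := hr T a 1 1
    rw [_root_.mul_one] at h
    calc lift a (1 : T ⟶ Red.diag R (ZMod n)) ≫ e
        = (lift a 1 ≫ e) * (lift a 1 ≫ e) * (lift a (1 : T ⟶ Red.diag R (ZMod n)) ≫ e)⁻¹ :=
          (_root_.mul_inv_cancel_right (lift a (1 : T ⟶ Red.diag R (ZMod n)) ≫ e) _).symm
      _ = (lift a 1 ≫ e) * (lift a (1 : T ⟶ Red.diag R (ZMod n)) ≫ e)⁻¹ := congrArg (· * _) h.symm
      _ = 1 := _root_.mul_inv_cancel _
  have htriv : ∀ (C : Type u) [CommRing C] [Algebra R C] (a b : Multiplicative (ZMod n) →* C),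
      lift (sp C a) (sp C b) ≫ e = 1 := by
    intro C _ _ a b
    have h := GrothLib.MuPairing3.pairing_trivial u ?_ ?_ ?_ ?_ ?_ C a b
    · apply (sz C).symm.injective
      rw [map_one]
      exact MonoidHom.ext_mint h
    · intro C D _ _ _ _ h a b
      obtain ⟨j, hj, ha⟩ := specPoint_natural (ZMod n) h a
      obtain ⟨j', hj', hb⟩ := specPoint_natural (ZMod n) h b
      obtain rfl : j' = j := Over.OverMorphism.ext (hj'.trans hj.symm)
      obtain ⟨j'', hj'', hc⟩ := specPoint_natural ℤ h ((sz C).symm (lift (sp C a) (sp C b) ≫ e))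
      obtain rfl : j'' = j' := Over.OverMorphism.ext (hj''.trans hj'.symm)
      simp only [u, sp, sz] at hc ⊢
      rw [← ha, ← hb, ← comp_lift_assoc]
      rw [MulEquiv.apply_symm_apply] at hc
      rw [hc, MulEquiv.symm_apply_apply]
      rfl
    · intro C _ _ a a' b
      simp only [u, map_mul, hl]
      rfl
    · intro C _ _ a b b'
      simp only [u, map_mul, hr]
      rfl
    · intro C _ _ a
      simp only [u, map_one, hr1]
      rfl
    · intro C _ _ a
      simp only [u, halt, map_one]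
      rfl
  -- the universal affine point
  let Y := Red.diag R (ZMod n) ⊗ Red.diag R (ZMod n)
  haveI : IsAffine (Red.diag R (ZMod n)).left := inferInstanceAs (IsAffine (Spec _))
  haveI : IsAffine Y.left := inferInstanceAs
    (IsAffine (Limits.pullback (Red.diag R (ZMod n)).hom (Red.diag R (ZMod n)).hom))
  let C := Γ(Y.left, ⊤)
  obtain ⟨φ, hφ⟩ := Spec.map_surjective (R := CommRingCat.of R) (S := C) (Y.left.isoSpec.inv ≫ Y.hom)
  letI : Algebra R C := φ.hom.toAlgebra
  let j : (Spec (CommRingCat.of C)).asOver (Spec (CommRingCat.of R)) ⟶ Y :=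
    Over.homMk Y.left.isoSpec.inv hφ.symm
  refine cancel_epi_left j (inferInstanceAs (Epi Y.left.isoSpec.inv)) ?_
  rw [MonObj.comp_one]
  have hj : j = lift (j ≫ fst _ _) (j ≫ snd _ _) := by
    apply CartesianMonoidalCategory.hom_ext <;> simp
  obtain ⟨a, ha⟩ := (sp C).surjective (j ≫ fst _ _)
  obtain ⟨b, hb⟩ := (sp C).surjective (j ≫ snd _ _)
  rw [hj, ← ha, ← hb]
  exact htriv C a b

end Aux

section Comm

variable {Γ : Type*} [Group Γ] (Z : Set Γ)

theorem comm_mul_left {g g' h : Γ} (hc : ∀ x : Γ, x * (g' * h * g'⁻¹ * h⁻¹) = (g' * h * g'⁻¹ * h⁻¹) * x) :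
    g * g' * h * (g * g')⁻¹ * h⁻¹ = (g * h * g⁻¹ * h⁻¹) * (g' * h * g'⁻¹ * h⁻¹) := by
  calc g * g' * h * (g * g')⁻¹ * h⁻¹ = (g * (g' * h * g'⁻¹ * h⁻¹)) * h * g⁻¹ * h⁻¹ := by group
    _ = ((g' * h * g'⁻¹ * h⁻¹) * g) * h * g⁻¹ * h⁻¹ := by rw [hc g]
    _ = (g' * h * g'⁻¹ * h⁻¹) * (g * h * g⁻¹ * h⁻¹) := by group
    _ = (g * h * g⁻¹ * h⁻¹) * (g' * h * g'⁻¹ * h⁻¹) := (hc _).symm

theorem comm_mul_right {g h h' : Γ} (hc : ∀ x : Γ, x * (g * h' * g⁻¹ * h'⁻¹) = (g * h' * g⁻¹ * h'⁻¹) * x) :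
    g * (h * h') * g⁻¹ * (h * h')⁻¹ = (g * h * g⁻¹ * h⁻¹) * (g * h' * g⁻¹ * h'⁻¹) := by
  calc g * (h * h') * g⁻¹ * (h * h')⁻¹ = g * h * g⁻¹ * ((g * h' * g⁻¹ * h'⁻¹)) * h⁻¹ := by group
    _ = g * h * g⁻¹ * ((g * h' * g⁻¹ * h'⁻¹) * h⁻¹) := by group
    _ = g * h * g⁻¹ * (h⁻¹ * (g * h' * g⁻¹ * h'⁻¹)) := by rw [hc h⁻¹]
    _ = _ := by group

theorem comm_translate {g h z w : Γ} (hz : ∀ x : Γ, x * z = z * x) (hw : ∀ x : Γ, x * w = w * x) :
    g * z * (h * w) * (g * z)⁻¹ * (h * w)⁻¹ = g * h * g⁻¹ * h⁻¹ := by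
  have e1 : g * z * (h * w) = g * h * (z * w) := by
    rw [mul_assoc g z, ← mul_assoc z h, ← hz h]; group
  rw [e1, _root_.mul_inv_rev, _root_.mul_inv_rev]
  calc g * h * (z * w) * (z⁻¹ * g⁻¹) * (w⁻¹ * h⁻¹) = g * h * (z * (w * z⁻¹)) * g⁻¹ * (w⁻¹ * h⁻¹) := by group
    _ = g * h * (w * g⁻¹) * (w⁻¹ * h⁻¹) := by rw [hz (w * z⁻¹) |>.symm]; group
    _ = g * h * (g⁻¹ * w) * (w⁻¹ * h⁻¹) := by rw [hw g⁻¹]
    _ = g * h * g⁻¹ * h⁻¹ := by group

end Comm

/-- Let R be a strictly henselian local ring and n ≥ 1, and let E be a group scheme over Spec R which is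
an extension of μ_n = D(ℤ/n) by the multiplicative group G_m = D(ℤ): there are homomorphisms i : G_m
→ E and q : E → μ_n with q flat, surjective and locally of finite presentation (an epimorphism of
fppf sheaves), i a kernel of q, and i(G_m) central in E. Then E is commutative: any two points of E
with values in an R-scheme commute. (The published statement speaks of an extension of abelian fppf
sheaves and also asserts that E is representable; its argument, through the commutator pairing, is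
for an extension of sheaves of groups with G_m central, which is what this row assumes, with E a
group scheme from the start, so only commutativity is stated. Centrality of G_m is essential: when 2
is invertible the orthogonal group O_2 is a non-commutative extension of μ_2 by G_m = SO_2.) -/
theorem result (R : Type u) [CommRing R] [HenselianLocalRing R]
    [IsSepClosed (IsLocalRing.ResidueField R)] (n : ℕ) (hn : 1 ≤ n)
    (E : Over (Spec (CommRingCat.of R))) [GrpObj E]
    (i : Red.diag R ℤ ⟶ E) [IsMonHom i] (q : E ⟶ Red.diag R (ZMod n)) [IsMonHom q]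
    (hker : AlgGrp.IsKernel i q) (hq : Flat q.left ∧ Surjective q.left ∧ LocallyOfFinitePresentation q.left)
    (hcent : ∀ (T : Over (Spec (CommRingCat.of R))) (g : T ⟶ E) (t : T ⟶ Red.diag R ℤ), g * (t ≫ i) = (t ≫ i) * g)
    (T : Over (Spec (CommRingCat.of R))) (g h : T ⟶ E) : g * h = h * g := by
  haveI : NeZero n := ⟨by omega⟩
  obtain ⟨_, _, _⟩ := hq
  have hqm : ∀ {T : Over (Spec (CommRingCat.of R))} (a b : T ⟶ E), (a * b) ≫ q = (a ≫ q) * (b ≫ q) :=
    fun a b => MonObj.mul_comp a b q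
  have hqi : ∀ {T : Over (Spec (CommRingCat.of R))} (a : T ⟶ E), a⁻¹ ≫ q = (a ≫ q)⁻¹ :=
    fun a => GrpObj.inv_comp a q
  haveI hmono : Mono i := ⟨fun a b hab => hker.hom_ext hab (toUnit_unique _ _)⟩
  have hc : ∀ (T : Over (Spec (CommRingCat.of R))) (g h : T ⟶ E), (g * h * g⁻¹ * h⁻¹) ≫ q = toUnit T ≫ η := by
    intro T g h
    rw [hqm, hqm, hqm, hqi, hqi, ← Hom.one_def]
    exact (congrArg (fun z : T ⟶ Red.diag R (ZMod n) => z * (g ≫ q)⁻¹ * (h ≫ q)⁻¹)
      (diag_comm (g ≫ q) (h ≫ q))).trans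
      ((congrArg (fun z : T ⟶ Red.diag R (ZMod n) => z * (h ≫ q)⁻¹)
        (_root_.mul_inv_cancel_right (h ≫ q) (g ≫ q))).trans (_root_.mul_inv_cancel (h ≫ q)))
  let gu : E ⊗ E ⟶ E := fst E E
  let hu : E ⊗ E ⟶ E := snd E E
  let c : E ⊗ E ⟶ Red.diag R ℤ := hker.lift (gu * hu * gu⁻¹ * hu⁻¹) (toUnit _) (hc _ _ _)
  have hci : ∀ (T : Over (Spec (CommRingCat.of R))) (g h : T ⟶ E), lift g h ≫ c ≫ i = g * h * g⁻¹ * h⁻¹ := by
    intro T g h
    rw [hker.lift_fst]
    simp [gu, hu, MonObj.comp_mul, GrpObj.comp_inv]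
  have hcen : ∀ (T : Over (Spec (CommRingCat.of R))) (g h x : T ⟶ E),
      x * (g * h * g⁻¹ * h⁻¹) = (g * h * g⁻¹ * h⁻¹) * x := by
    intro T g h x
    rw [← hci, ← Category.assoc]
    exact hcent T x _
  let qq : E ⊗ E ⟶ Red.diag R (ZMod n) ⊗ Red.diag R (ZMod n) := (E ◁ q) ≫ (q ▷ Red.diag R (ZMod n))
  have hqr : Flat (q ▷ Red.diag R (ZMod n)).left ∧ Surjective (q ▷ Red.diag R (ZMod n)).left ∧
      LocallyOfFinitePresentation (q ▷ Red.diag R (ZMod n)).left := by
    have e : q ▷ Red.diag R (ZMod n) = (β_ E _).hom ≫ (Red.diag R (ZMod n) ◁ q) ≫ (β_ _ _).hom := by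
      rw [← BraidedCategory.braiding_naturality_left_assoc, SymmetricCategory.symmetry, Category.comp_id]
    have sq := (whiskerLeft_isPullback (Red.diag R (ZMod n)) q).flip
    have : Flat (Red.diag R (ZMod n) ◁ q).left := MorphismProperty.of_isPullback sq ‹_›
    have : Surjective (Red.diag R (ZMod n) ◁ q).left := MorphismProperty.of_isPullback sq ‹_›
    have : LocallyOfFinitePresentation (Red.diag R (ZMod n) ◁ q).left := MorphismProperty.of_isPullback sq ‹_›
    have : IsIso (β_ E (Red.diag R (ZMod n))).hom.left :=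
      inferInstanceAs (IsIso ((Over.forget _).mapIso (β_ E (Red.diag R (ZMod n)))).hom)
    have : IsIso (β_ (Red.diag R (ZMod n)) (Red.diag R (ZMod n))).hom.left :=
      inferInstanceAs (IsIso ((Over.forget _).mapIso (β_ (Red.diag R (ZMod n)) (Red.diag R (ZMod n)))).hom)
    rw [e, Over.comp_left, Over.comp_left]
    exact ⟨inferInstance, inferInstance, inferInstance⟩
  obtain ⟨_, _, _⟩ := hqr
  have sq := (whiskerLeft_isPullback E q).flip
  have : Flat (E ◁ q).left := MorphismProperty.of_isPullback sq ‹_›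
  have : Surjective (E ◁ q).left := MorphismProperty.of_isPullback sq ‹_›
  have : LocallyOfFinitePresentation (E ◁ q).left := MorphismProperty.of_isPullback sq ‹_›
  obtain ⟨_, _, _⟩ : Flat qq.left ∧ Surjective qq.left ∧ LocallyOfFinitePresentation qq.left := by
    rw [Over.comp_left]; exact ⟨inferInstance, inferInstance, inferInstance⟩
  have hqq : ∀ (T : Over (Spec (CommRingCat.of R))) (g h : T ⟶ E), lift g h ≫ qq = lift (g ≫ q) (h ≫ q) := by
    intro T g h
    apply CartesianMonoidalCategory.hom_ext <;> simp [qq]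
  have hker' : ∀ (T : Over (Spec (CommRingCat.of R))) (g g' : T ⟶ E), g ≫ q = g' ≫ q →
      ∃ t : T ⟶ Red.diag R ℤ, g' = g * (t ≫ i) := by
    intro T g g' he
    have hk : (g⁻¹ * g') ≫ q = toUnit T ≫ η := by
      rw [hqm, hqi, he, inv_mul_cancel, Hom.one_def]
    exact ⟨hker.lift (g⁻¹ * g') (toUnit T) hk, by rw [hker.lift_fst, mul_inv_cancel_left]⟩
  haveI : IsAffine (Red.diag R (ZMod n)).left := inferInstanceAs (IsAffine (Spec _))
  haveI : IsAffine (Red.diag R (ZMod n) ⊗ Red.diag R (ZMod n)).left := inferInstanceAs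
    (IsAffine (Limits.pullback (Red.diag R (ZMod n)).hom (Red.diag R (ZMod n)).hom))
  haveI : CompactSpace (Red.diag R (ZMod n) ⊗ Red.diag R (ZMod n)).left :=
    ⟨(isAffineOpen_top _).isCompact⟩
  obtain ⟨e, he⟩ := exists_desc qq c fun T a a' haa => by
    have ha : a = lift (a ≫ fst _ _) (a ≫ snd _ _) := by apply CartesianMonoidalCategory.hom_ext <;> simp
    have ha' : a' = lift (a' ≫ fst _ _) (a' ≫ snd _ _) := by apply CartesianMonoidalCategory.hom_ext <;> simp
    rw [ha, ha', hqq, hqq] at haa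
    obtain ⟨t, ht⟩ := hker' T (a ≫ fst _ _) (a' ≫ fst _ _) (by simpa using congrArg (· ≫ fst _ _) haa)
    obtain ⟨s, hs⟩ := hker' T (a ≫ snd _ _) (a' ≫ snd _ _) (by simpa using congrArg (· ≫ snd _ _) haa)
    rw [← cancel_mono i, Category.assoc, Category.assoc, ha, ha', hci, hci, ht, hs,
      comm_translate (fun x => hcent T x t) (fun x => hcent T x s)]
  have hev : ∀ (T : Over (Spec (CommRingCat.of R))) (g h : T ⟶ E),
      (lift (g ≫ q) (h ≫ q) ≫ e) ≫ i = g * h * g⁻¹ * h⁻¹ := by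
    intro T g h
    rw [← hci, ← he, ← hqq]
    simp only [Category.assoc]
  have he1 : e = 1 := by
    refine pairing_morphism_trivial e (fun T a a' b => ?_) (fun T a b b' => ?_) (fun T a => ?_)
    · obtain ⟨T₁, j₁, x, hj₁, hx⟩ := exists_lift q a
      obtain ⟨T₂, j₂, x', hj₂, hx'⟩ := exists_lift q (j₁ ≫ a')
      obtain ⟨T₃, j₃, y, hj₃, hy⟩ := exists_lift q (j₂ ≫ j₁ ≫ b)
      refine cancel_epi_left j₁ hj₁ (cancel_epi_left j₂ hj₂ (cancel_epi_left j₃ hj₃ ?_))
      rw [← cancel_mono i]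
      simp only [MonObj.comp_mul, comp_lift_assoc, hy, hx, hx', reassoc_of% hx']
      simp only [← Category.assoc]
      simp only [← MonObj.mul_comp, MonObj.mul_comp _ _ i, hev]
      exact comm_mul_left (hcen _ _ _)
    · obtain ⟨T₁, j₁, x, hj₁, hx⟩ := exists_lift q a
      obtain ⟨T₂, j₂, y, hj₂, hy⟩ := exists_lift q (j₁ ≫ b)
      obtain ⟨T₃, j₃, y', hj₃, hy'⟩ := exists_lift q (j₂ ≫ j₁ ≫ b')
      refine cancel_epi_left j₁ hj₁ (cancel_epi_left j₂ hj₂ (cancel_epi_left j₃ hj₃ ?_))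
      rw [← cancel_mono i]
      simp only [MonObj.comp_mul, comp_lift_assoc, hy, hx, hy', reassoc_of% hy]
      simp only [← Category.assoc]
      simp only [← MonObj.mul_comp, MonObj.mul_comp _ _ i, hev]
      exact comm_mul_right (hcen _ _ _)
    · obtain ⟨T₁, j₁, x, hj₁, hx⟩ := exists_lift q a
      refine cancel_epi_left j₁ hj₁ ?_
      rw [← cancel_mono i, comp_lift_assoc, hx, hev, MonObj.comp_one, MonObj.one_comp]
      group
  have h1 := hev T g h
  rw [he1, MonObj.comp_one, MonObj.one_comp] at h1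
  calc g * h = (g * h * g⁻¹ * h⁻¹) * (h * g) := by group
    _ = h * g := by rw [← h1, _root_.one_mul]

end Groth.Agent.S19228
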