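import Groth.Statements.S1923
-- import your own Groth.Agent.* helpers here
import Groth.Agent.Lib.C1.Ops


set_option autoImplicit false
universe u
open CategoryTheory AlgebraicGeometry
open Cyc

namespace Groth.Agent.S1923

/-- Let X be integral with δ(η) = n, L an invertible O_X-module and s a global section of L whose germ
at η is nonzero. Then div_L(s) = [Z(s)]_{n−1} as (n − 1)-cycles, where s is viewed as a rational
section through its image in L(η). Here L(ξ) = L_ξ/𝔪_ξ L_ξ is the space of rational sections of L on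
the closure of ξ, div_{L|W}(s) and c_1(L) ∩ α are computed as coefficient functions from chosen
nonzero rational sections (Cyc.secDivFun, Cyc.c1CapFun), and results are compared up to rational
equivalence for any cycles with those coefficients. A pair (X, δ) with Cyc.IsSetup plays the role of
a scheme locally of finite type over a fixed base with a dimension function (X locally Noetherian
with universally catenary local rings, δ a dimension function), and Cyc.DeltaCompat records that the
dimension function upstairs is the induced one. -/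
theorem result (X : Scheme.{u}) [IsIntegral X] (δ : X → ℤ) (hX : Cyc.IsSetup X δ) (n : ℤ) (hn : δ (genericPoint X) = n) (L : X.Modules) (hL : PicF.IsInvertible L) (s : L.presheaf.obj (Opposite.op ⊤)) (hs : (L.presheaf.germ ⊤ (genericPoint X) trivial) s ≠ 0) : Cyc.secDivFun δ L (genericPoint X) (Submodule.Quotient.mk ((L.presheaf.germ ⊤ (genericPoint X) trivial) s)) = Cyc.zeroSectionFun δ (n - 1) L s := by
  classical
  haveI : IsLocallyNoetherian X := hX.1
  funext x
  have hη : genericPoint X ⤳ x := genericPoint_specializes x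
  unfold Cyc.secDivFun Cyc.zeroSectionFun
  by_cases hx : δ x = n - 1
  swap
  · rw [if_neg hx, dif_neg fun h => hx (by have := h.2; omega)]
  obtain ⟨t, ht⟩ := GrothLib.C1.exists_gen hL x
  have hex : ∃ t', Submodule.span (X.presheaf.stalk x) {t'} = ⊤ := ⟨t, ht.span⟩
  have ht' : GrothLib.Ref1.Gen L x hex.choose := GrothLib.C1.gen_of_span hL hex.choose_spec
  set σ := (L.presheaf.germ ⊤ (genericPoint X) trivial) s with hσ
  obtain ⟨f, hf⟩ := ht'.2 ((L.presheaf.germ ⊤ x trivial) s)
  have hexf : ∃ f : X.presheaf.stalk x, (L.presheaf.germ ⊤ x trivial) s = f • hex.choose := ⟨f, hf.symm⟩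
  have hd : δ x + 1 = δ (genericPoint X) := by omega
  rw [if_pos hx, dif_pos ⟨hη, hd⟩, dif_pos hex, dif_pos hexf,
    GrothLib.C1.secOrdAt_eq hX.2.2 hη hd hL ht']
  set g := hexf.choose
  have hg : (L.presheaf.germ ⊤ x trivial) s = g • hex.choose := hexf.choose_spec
  have hσg : σ = GrothLib.Ref1.spR hη g • GrothLib.Ref1.sp L hη hex.choose := by
    rw [hσ, ← GrothLib.Ref1.sp_smul, ← hg, GrothLib.Ref1.sp_germ]
  have hgen := GrothLib.C1.gen_sp hL hη ht'
  have hbot : GrothLib.CycDiv.primeOf hη = ⊥ := (Submodule.eq_bot_iff _).2 fun r hr => by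
    have hinj : Function.Injective (GrothLib.Ref1.spR hη) :=
      GrothLib.Ref1.spR_injective x
    rw [GrothLib.CycDiv.mem_primeOf_iff, GrothLib.Ref1.maximalIdeal_generic, Ideal.mem_bot] at hr
    exact hinj (hr.trans (map_zero _).symm)
  have hg0 : g ∉ GrothLib.CycDiv.primeOf hη := fun h => hs (by
    rw [hbot, Ideal.mem_bot] at h
    rw [hσg, h, map_zero, zero_smul])
  have h1 : (1 : X.presheaf.stalk x) ∉ GrothLib.CycDiv.primeOf hη := fun h =>
    (inferInstance : (GrothLib.CycDiv.primeOf hη).IsPrime).ne_top ((Ideal.eq_top_iff_one _).2 h)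
  show Cyc.ordAt x (genericPoint X) hη (GrothLib.C1.coord _ (Submodule.Quotient.mk σ)) = _
  rw [hσg, Submodule.Quotient.mk_smul, GrothLib.C1.coord_smul_cls hgen, GrothLib.C1.residue_spR,
    GrothLib.CycDiv.ordAt_eq_sub hX.2.2 hη hd hg0 h1 (by rw [map_one, mul_one]), map_one, Ring.ord_of_isUnit isUnit_one]
  have hq : Ring.ord (Cyc.LocQuot x (genericPoint X) hη) (Ideal.Quotient.mk _ g) =
      Module.length (X.presheaf.stalk x) (↥(X.presheaf.stalk x) ⧸ Ideal.span {g}) := by
    unfold Ring.ord
    rw [← Module.length_eq_of_surjective (S := X.presheaf.stalk x) (R := Cyc.LocQuot x (genericPoint X) hη)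
      Ideal.Quotient.mk_surjective]
    refine LinearEquiv.length_eq ?_
    refine (Submodule.quotEquivOfEq _ ((Ideal.span {g}).map (Ideal.Quotient.mkₐ (X.presheaf.stalk x) (GrothLib.CycDiv.primeOf hη))) ?_).restrictScalars (X.presheaf.stalk x) ≪≫ₗ
      (DoubleQuot.quotQuotEquivQuotSupₐ (X.presheaf.stalk x) (GrothLib.CycDiv.primeOf hη) (Ideal.span {g})).toLinearEquiv ≪≫ₗ
      (Submodule.quotEquivOfEq _ _ (by rw [hbot, bot_sup_eq]))
    rw [Ideal.map_span, Set.image_singleton]
    rfl
  rw [hq, ENat.toNat_zero, Nat.cast_zero, sub_zero]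

end Groth.Agent.S1923
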