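import Groth.Statements.S19238
import Groth.Agent.Lib.SigmaLin.AlgClosed

set_option autoImplicit false
universe u v
open SigmaLin

namespace Groth.Agent.S19238

/-- Let k be an algebraically closed field of characteristic p > 0 and n a natural number; let M be a
finitely generated module over the ring W_n(k) of truncated Witt vectors and T : M → M an additive
map with T (c • m) = σ(c) • T m, where σ is either the Frobenius endomorphism of W_n(k) or its
inverse. Then the set of T-fixed elements of M is finite. (The printed statement says that the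
T-fixed elements form a finitely generated module over the σ-fixed subring of W_n(k), which is the
finite ring of integers modulo p^n.) -/
theorem result
    (p : ℕ) [Fact p.Prime] (k : Type u) [Field k] [CharP k p] [IsAlgClosed k] (n : ℕ)
    (σ : TruncatedWittVector p n k →+* TruncatedWittVector p n k)
    (hσ : σ = WittGrp.truncMap p n (frobenius k p) ∨
      σ = WittGrp.truncMap p n (frobeniusEquiv k p).symm.toRingHom)
    (M : Type v) [AddCommGroup M] [Module (TruncatedWittVector p n k) M] [Module.Finite (TruncatedWittVector p n k) M]
    (T : M →ₛₗ[σ] M) :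
    {m : M | T m = m}.Finite := by
  classical
  rcases n with _ | n
  · haveI : Subsingleton (TruncatedWittVector p 0 k) := ⟨fun a b => TruncatedWittVector.ext fun i => i.elim0⟩
    haveI : Subsingleton M := Module.subsingleton (TruncatedWittVector p 0 k) M
    exact Set.toFinite _
  obtain ⟨τ, hτ, rfl, hτfix⟩ := GrothLib.SigmaLin.exists_langHyp p hσ
  let R := TruncatedWittVector p (n + 1) k
  let σ : R →+* R := WittGrp.truncMap p (n + 1) τ
  have hlift : ∀ x : k, τ x = x → ∃ r : R, σ r = r ∧ GrothLib.SigmaLin.truncResidue p n r = x := fun x hx => by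
    refine ⟨TruncatedWittVector.mk p fun _ => x, ?_, by simp⟩
    ext i
    simp [σ, WittGrp.truncMap, WittGrp.truncMapFun, hx]
  obtain ⟨s, -, hs⟩ := GrothLib.SigmaLin.exists_fixed_generators (GrothLib.SigmaLin.truncResidue p n)
      (GrothLib.SigmaLin.truncResidue_surjective p n) p (GrothLib.SigmaLin.ker_truncResidue p n) τ
      (GrothLib.SigmaLin.truncResidue_truncMap p n τ) hτ hlift (n + 1) M
      (GrothLib.SigmaLin.natCast_pow_eq_zero p (n + 1))
      (fun m => by rw [GrothLib.SigmaLin.natCast_pow_eq_zero p (n + 1), zero_smul]) T
  let F : Set k := {x | frobenius k p x = x}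
  haveI : Finite F := (GrothLib.SigmaLin.finite_fixed_frobenius_symm p).to_subtype
  haveI : Finite (σ.eqLocus (RingHom.id R)) := by
    refine Finite.of_injective (β := Fin (n + 1) → F) (fun r i => ⟨(r : R).coeff i, (hτfix _).1 ?_⟩) ?_
    · simpa [σ, WittGrp.truncMap, WittGrp.truncMapFun] using congrArg (fun z : R => z.coeff i) (r.2 : σ r = r)
    · intro a b hab
      exact Subtype.ext (TruncatedWittVector.ext fun i => congrArg Subtype.val (congrFun hab i))
  refine (Set.finite_range fun c : s → σ.eqLocus (RingHom.id R) => ∑ x, (c x : R) • (x : M)).subset fun m hm => ?_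
  obtain ⟨c, -, hc⟩ := Submodule.mem_span_finset.1 (hs m hm)
  refine ⟨fun x => c x, ?_⟩
  simp only
  rw [Finset.sum_coe_sort s (fun x => (c x : R) • x)]
  exact hc


end Groth.Agent.S19238
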