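import Groth.Statements.S1924
-- import your own Groth.Agent.* helpers here
import Groth.Agent.Lib.C1.Fundamental
import Groth.Agent.Lib.C1.Push

set_option autoImplicit false
universe u
open CategoryTheory AlgebraicGeometry
open Cyc

namespace Groth.Agent.S1924

/-- Let L be invertible on X, ι : Y → X a closed immersion with δ ≤ k + 1 on Y, and s a global section
of L|_Y = ι^*L such that the points of its zero locus have δ ≤ k and, at every such point ξ with
δ(ξ) = k, multiplication by the germ of s is injective on O_{Y,ξ}. Then c_1(L) ∩ [Y]_{k+1} ∼_rat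
ι_*[Z(s)]_k as k-cycles on X (for any nonzero rational sections used to compute the left side and
any cycle on Y with the coefficients of [Z(s)]_k). Here L(ξ) = L_ξ/𝔪_ξ L_ξ is the space of rational
sections of L on the closure of ξ, div_{L|W}(s) and c_1(L) ∩ α are computed as coefficient functions
from chosen nonzero rational sections (Cyc.secDivFun, Cyc.c1CapFun), and results are compared up to
rational equivalence for any cycles with those coefficients. A pair (X, δ) with Cyc.IsSetup plays
the role of a scheme locally of finite type over a fixed base with a dimension function (X locally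
Noetherian with universally catenary local rings, δ a dimension function), and Cyc.DeltaCompat
records that the dimension function upstairs is the induced one. -/
theorem result (X Y : Scheme.{u}) (δ : X → ℤ) (hX : Cyc.IsSetup X δ) (L : X.Modules) (hL : PicF.IsInvertible L) (ι : Y ⟶ X) [IsClosedImmersion ι] (k : ℤ) (hY : ∀ y : Y, δ (ι y) ≤ k + 1) (s : ((Scheme.Modules.pullback ι).obj L).presheaf.obj (Opposite.op ⊤)) (hZ : ∀ y : Y, (((Scheme.Modules.pullback ι).obj L).presheaf.germ ⊤ y trivial) s ∈ IsLocalRing.maximalIdeal (Y.presheaf.stalk y) • (⊤ : Submodule (Y.presheaf.stalk y) (((Scheme.Modules.pullback ι).obj L).presheaf.stalk y)) → δ (ι y) ≤ k) (hreg : ∀ y : Y, δ (ι y) = k → Function.Injective (fun a : Y.presheaf.stalk y => a • (((Scheme.Modules.pullback ι).obj L).presheaf.germ ⊤ y trivial) s)) (v : (ξ : X) → Cyc.secFibre L ξ) (hv : ∀ ξ, v ξ ≠ 0) (γ : AlgebraicCycle X ℤ) (hγ : ⇑γ = Cyc.c1CapFun δ L (Cyc.subschemeFun δ (k + 1) ι) v) (ζ : AlgebraicCycle Y ℤ) (hζ : ⇑ζ = Cyc.zeroSectionFun (fun y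 => δ (ι y)) k ((Scheme.Modules.pullback ι).obj L) s) : Cyc.RatEquiv δ k γ (AlgebraicCycle.map ι (fun y => δ (ι y)) δ ζ) := by
  classical
  haveI : IsLocallyNoetherian X := hX.1
  haveI : IsLocallyNoetherian Y := LocallyOfFiniteType.isLocallyNoetherian ι
  have hδY : Cyc.IsDimFun Y (fun y => δ (ι y)) := GrothLib.CycPush.isDimFun_closedImmersion ι hX.2.2
  have hL' : PicF.IsInvertible ((Scheme.Modules.pullback ι).obj L) := GrothLib.C1.isInvertible_pullback ι hL
  set δY : Y → ℤ := fun y => δ (ι y)
  set α := Cyc.subschemeFun δ (k + 1) ι with hαdef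
  have hsupp : ∀ x, α x ≠ 0 → x ∈ Set.range ι := fun x hx => by
    by_contra h
    refine hx ?_
    rw [hαdef, Cyc.subschemeFun]
    split_ifs
    · exact finsum_mem_eq_zero_of_forall_eq_zero fun d hd => absurd ⟨d, hd⟩ h
    · rfl
  set αY : Y → ℤ := fun d => α (ι d) with hαYdef
  have hαY : αY = Cyc.subschemeFun δY (k + 1) (𝟙 Y) := funext fun d => by
    rw [GrothLib.C1.subschemeFun_id, hαYdef, hαdef]
    show Cyc.subschemeFun δ (k + 1) ι (ι d) = _
    unfold Cyc.subschemeFun
    rw [show {z : Y | ι z = ι d} = {d} from Set.ext fun z => ⟨fun h => ι.isClosedEmbedding.injective h, fun h => by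
      rw [Set.mem_singleton_iff.1 h]; rfl⟩, finsum_mem_singleton]
  have hk : ∀ d, αY d ≠ 0 → δY d = k + 1 := fun d hd => by
    rw [hαY] at hd
    by_contra h
    exact hd (if_neg h)
  have hlf : GrothLib.C1.LF αY := GrothLib.C1.lf_of_top hδY (m := k + 1) hY hk
  have hZ' : ∀ d : Y, GrothLib.C1.gcls s d = 0 → δY d ≤ k :=
    fun d hd => hZ d ((Submodule.Quotient.mk_eq_zero _).1 hd)
  let w : (d : Y) → Cyc.secFibre ((Scheme.Modules.pullback ι).obj L) d := fun d =>
    if GrothLib.C1.gcls s d = 0 then GrothLib.C1.pullChoice ι hL v d else GrothLib.C1.gcls s d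
  have hw : ∀ d, w d ≠ 0 := fun d => by
    show ite _ _ _ ≠ 0
    split_ifs with h
    · exact GrothLib.C1.pullFib_ne_zero ι hL (hv _)
    · exact h
  have hwg : Cyc.c1CapFun δY ((Scheme.Modules.pullback ι).obj L) αY w = Cyc.c1CapFun δY ((Scheme.Modules.pullback ι).obj L) αY (GrothLib.C1.gcls s) := funext fun x =>
    finsum_congr fun d => by
      by_cases h0 : αY d = 0
      · rw [h0, zero_mul, zero_mul]
      · rw [show w d = GrothLib.C1.gcls s d from if_neg fun h => by have := hZ' d h; have := hk d h0; omega]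
  have hrz := GrothLib.C1.rz_change_closed ι hX.2.2 hL hlf hk hv hw
  refine GrothLib.C1.ratEquiv_of_RZ hX.2.2 (GrothLib.C1.rz_push ι hX.2.2 hrz
    (b := fun x => γ x - AlgebraicCycle.map ι δY δ ζ x) (fun d => ?_) fun x hx => ?_) fun x => rfl
  · show γ (ι d) - AlgebraicCycle.map ι δY δ ζ (ι d) = _
    rw [Pi.sub_apply, hwg, GrothLib.C1.map_on, hγ, hζ, GrothLib.C1.c1Cap_closed ι hX.2.2 hL hsupp hv d,
      GrothLib.C1.zeroSectionFun_eq_c1Cap hδY hL' k hY s hZ' hreg, ← hαY]
  · show γ x - AlgebraicCycle.map ι δY δ ζ x = 0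
    rw [GrothLib.C1.map_zero_off ι inferInstance ζ hx, sub_zero, hγ]
    by_contra h
    obtain ⟨ξ, h0, hsp, -, -⟩ := GrothLib.C1.c1Cap_ne_zero h
    exact hx (hsp.mem_closed ι.isClosedEmbedding.isClosed_range (hsupp ξ h0))

end Groth.Agent.S1924
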