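import Groth.Statements.S19243
import Groth.Agent.Lib.RlimMod25.Basic
-- import your own Groth.Agent.* helpers here

set_option autoImplicit false
universe u
open CohTop

namespace Groth.Agent.S19243

open CategoryTheory CategoryTheory.Limits TopologicalSpace Opposite in
/-- Let X be a topological space with a sheaf of (not necessarily commutative) rings R, E = (E_n)_{n ≥
0} an inverse system of R-modules indexed by the natural numbers and B a basis of the topology of X.
Write R^i lim for the i-th right derived functor of the limit functor from ℕ-indexed inverse systems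
of R-modules to R-modules (the limit functor is additive and the category of inverse systems has
injective resolutions; both facts are carried as instance hypotheses). (1) If H^i(U, E_n) = 0 for
every U in B, every n and every i ≥ 1, then R^i lim E = 0 for every i ≥ 2. (2) If in addition, for
every U in B, the inverse system of abelian groups (H^0(U, E_n))_n satisfies the Mittag-Leffler
condition, then R^i lim E = 0 for every i ≥ 1. (The source states this for a ringed space, with a
commutative structure sheaf, and indexes the system by the integers n ≥ 1; commutativity plays no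
role.) -/
theorem result
    (X : TopCat.{u}) (R : Sheaf (Opens.grothendieckTopology X) RingCat.{u})
    [(lim : (ℕᵒᵖ ⥤ SheafOfModules.{u} R) ⥤ SheafOfModules.{u} R).Additive]
    [HasInjectiveResolutions (ℕᵒᵖ ⥤ SheafOfModules.{u} R)]
    (E : ℕᵒᵖ ⥤ SheafOfModules.{u} R) (B : Set (Opens X)) (hB : Opens.IsBasis B)
    (ha : ∀ U ∈ B, ∀ (n i : ℕ), 1 ≤ i →
      Subsingleton (CohTop.HU ((SheafOfModules.toSheaf R).obj (E.obj (op n))) i U)) :
    (∀ i : ℕ, 2 ≤ i →
      IsZero (((lim : (ℕᵒᵖ ⥤ SheafOfModules.{u} R) ⥤ SheafOfModules.{u} R).rightDerived i).obj E)) ∧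
    ((∀ U ∈ B, (E ⋙ SheafOfModules.toSheaf R ⋙
        (sheafSections (Opens.grothendieckTopology X) AddCommGrpCat.{u}).obj (op U) ⋙
          forget AddCommGrpCat.{u}).IsMittagLeffler) →
      ∀ i : ℕ, 1 ≤ i →
        IsZero (((lim : (ℕᵒᵖ ⥤ SheafOfModules.{u} R) ⥤ SheafOfModules.{u} R).rightDerived i).obj E)) := by
  have hG : GrothLib.RlimMod25.Good B E := fun n =>
    GrothLib.LimCoh25.acycOn_of_HU B _ fun V hV i hi => ha V hV n i hi
  refine ⟨fun i hi => ?_, fun hML i hi => ?_⟩
  · obtain ⟨j, rfl⟩ : ∃ j, i = j + 1 + 1 := ⟨i - 2, by omega⟩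
    exact GrothLib.RlimMod25.isZero_rightDerived_lim B hB (j + 1) E hG (fun h => absurd h (by omega))
  · obtain ⟨j, rfl⟩ : ∃ j, i = j + 1 := ⟨i - 1, by omega⟩
    exact GrothLib.RlimMod25.isZero_rightDerived_lim B hB j E hG (fun _ V hV => hML V hV)

end Groth.Agent.S19243
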