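import Groth.Statements.S19244
import Mathlib.CategoryTheory.Abelian.SerreClass.Localization

set_option autoImplicit false
set_option linter.all false
universe v v' u u'
open HomAlg3

namespace Groth.Agent.S19244

open CategoryTheory in
/-- Let A be an abelian category and let P be the class of bounded-torsion objects of A, those X with n
• 𝟙_X = 0 for some nonzero integer n; assume P is a Serre class. Let L : A ⥤ D be an additive
functor to a preadditive category exhibiting D as the localization of A at the morphisms whose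
kernel and cokernel are in P (so D is the quotient category A_ℚ = A ⧸ A_{b-tor}; the source assumes
A well-powered, which guarantees that this quotient exists). Then for all objects X, Y of A: (1) for
every nonzero integer n, multiplication by n is bijective on Hom_D(L X, L Y), so that this group is
naturally a ℚ-vector space; (2) a morphism f : X ⟶ Y satisfies L f = 0 if and only if n • f = 0 for
some nonzero integer n; (3) for every g : L X ⟶ L Y there are a nonzero integer n and f : X ⟶ Y with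
n • g = L f. Equivalently, the natural map Hom_A(X, Y) ⊗_ℤ ℚ → Hom_D(L X, L Y) is an isomorphism. -/
theorem result
    {A : Type u} [Category.{v} A] [Abelian A] {D : Type u'} [Category.{v'} D] [Preadditive D]
    (P : ObjectProperty A) (hP : ∀ X : A, P X ↔ ∃ n : ℤ, n ≠ 0 ∧ n • (𝟙 X) = 0) [P.IsSerreClass]
    (L : A ⥤ D) [L.Additive] [L.IsLocalization P.isoModSerre] (X Y : A) :
    (∀ n : ℤ, n ≠ 0 → Function.Bijective (fun g : L.obj X ⟶ L.obj Y => n • g)) ∧
    (∀ f : X ⟶ Y, L.map f = 0 ↔ ∃ n : ℤ, n ≠ 0 ∧ n • f = 0) ∧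
    (∀ g : L.obj X ⟶ L.obj Y, ∃ (n : ℤ) (f : X ⟶ Y), n ≠ 0 ∧ n • g = L.map f) := by
  classical
  have hW : ∀ (Z : A) (n : ℤ), n ≠ 0 → P.isoModSerre (n • (𝟙 Z)) := by
    intro Z n hn
    rw [ObjectProperty.isoModSerre_iff, P.monoModSerre_iff, P.epiModSerre_iff]
    refine ⟨(hP _).2 ⟨n, hn, ?_⟩, (hP _).2 ⟨n, hn, ?_⟩⟩
    · rw [← cancel_mono (Limits.kernel.ι (n • (𝟙 Z))), Preadditive.zsmul_comp, Category.id_comp,
        Limits.zero_comp]
      have := Limits.kernel.condition (n • (𝟙 Z))
      rwa [Preadditive.comp_zsmul, Category.comp_id] at this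
    · rw [← cancel_epi (Limits.cokernel.π (n • (𝟙 Z))), Preadditive.comp_zsmul, Category.comp_id,
        Limits.comp_zero]
      have := Limits.cokernel.condition (n • (𝟙 Z))
      rwa [Preadditive.zsmul_comp, Category.id_comp] at this
  have hiso : ∀ n : ℤ, n ≠ 0 → IsIso (n • 𝟙 (L.obj X)) := by
    intro n hn
    have := Localization.inverts L P.isoModSerre _ (hW X n hn)
    rwa [L.map_zsmul, L.map_id] at this
  have key : ∀ {X' : A} (s : X' ⟶ X), P.isoModSerre s →
      ∃ (n : ℤ) (k : X ⟶ X'), n ≠ 0 ∧ k ≫ s = n • 𝟙 X := by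
    intro X' s hs
    obtain ⟨m, hm, hm'⟩ := (hP _).1 ((P.monoModSerre_iff s).1 hs.1)
    obtain ⟨n, hn, hn'⟩ := (hP _).1 ((P.epiModSerre_iff s).1 hs.2)
    have h1 : (n • 𝟙 X) ≫ Limits.cokernel.π s = 0 := by
      rw [Preadditive.zsmul_comp, Category.id_comp]
      have := Limits.cokernel.π s ≫= hn'
      rwa [Preadditive.comp_zsmul, Category.comp_id, Limits.comp_zero] at this
    let l : X ⟶ Abelian.image s := Limits.kernel.lift _ (n • 𝟙 X) h1
    have hl : l ≫ Abelian.image.ι s = n • 𝟙 X := Limits.kernel.lift_ι _ _ _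
    have h2 : Limits.kernel.ι s ≫ (m • 𝟙 X') = 0 := by
      rw [Preadditive.comp_zsmul, Category.comp_id]
      have := hm' =≫ Limits.kernel.ι s
      rwa [Preadditive.zsmul_comp, Category.id_comp, Limits.zero_comp] at this
    let q : Abelian.coimage s ⟶ X' := Limits.cokernel.desc _ (m • 𝟙 X') h2
    have hq : Abelian.coimage.π s ≫ q = m • 𝟙 X' := Limits.cokernel.π_desc _ _ _
    have h3 : (Abelian.coimageIsoImage s).inv ≫ q ≫ s = m • Abelian.image.ι s := by
      rw [Iso.inv_comp_eq, ← cancel_epi (Abelian.coimage.π s), ← Category.assoc, hq]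
      simp [Preadditive.zsmul_comp, Preadditive.comp_zsmul]
    refine ⟨n * m, l ≫ (Abelian.coimageIsoImage s).inv ≫ q, mul_ne_zero hn hm, ?_⟩
    rw [Category.assoc, Category.assoc, h3, Preadditive.comp_zsmul, hl, smul_smul, mul_comm]
  refine ⟨fun n hn => ?_, fun f => ⟨fun hf => ?_, ?_⟩, fun g => ?_⟩
  · haveI := hiso n hn
    have e : (fun g : L.obj X ⟶ L.obj Y => n • g) = fun g => (n • 𝟙 (L.obj X)) ≫ g := by
      funext g
      rw [Preadditive.zsmul_comp, Category.id_comp]
    rw [e]
    exact ⟨fun g g' h => (cancel_epi _).1 h, fun g => ⟨inv (n • 𝟙 (L.obj X)) ≫ g, IsIso.hom_inv_id_assoc _ g⟩⟩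
  · obtain ⟨X', s, hs, h⟩ := (MorphismProperty.map_eq_iff_precomp L P.isoModSerre f 0).1 (hf.trans (L.map_zero _ _).symm)
    rw [Limits.comp_zero] at h
    obtain ⟨n, k, hn, hk⟩ := key s hs
    refine ⟨n, hn, ?_⟩
    have h' := hk =≫ f
    rw [Category.assoc, h, Limits.comp_zero, Preadditive.zsmul_comp, Category.id_comp] at h'
    exact h'.symm
  · rintro ⟨n, hn, hf⟩
    haveI := hiso n hn
    rw [← cancel_epi (n • 𝟙 (L.obj X)), Preadditive.zsmul_comp, Category.id_comp, Limits.comp_zero,
      ← L.map_zsmul, hf, L.map_zero]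
  · obtain ⟨φ, hφ⟩ := Localization.exists_rightFraction L P.isoModSerre g
    obtain ⟨n, k, hn, hk⟩ := key φ.s φ.hs
    refine ⟨n, k ≫ φ.f, hn, ?_⟩
    have h1 : L.map φ.s ≫ g = L.map φ.f := by
      rw [hφ, MorphismProperty.RightFraction.map_s_comp_map]
    rw [L.map_comp, ← h1, ← Category.assoc, ← L.map_comp, hk, L.map_zsmul, L.map_id,
      Preadditive.zsmul_comp, Category.id_comp]

end Groth.Agent.S19244
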