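import Groth.Statements.S1925
-- import your own Groth.Agent.* helpers here
import Groth.Agent.Lib.C1.Fundamental

set_option autoImplicit false
universe u
open CategoryTheory AlgebraicGeometry
open Cyc

namespace Groth.Agent.S1925

/-- Let L be an invertible O_Y-module and s a global section of L; assume δ ≤ k + 1 on Y, δ ≤ k on the
zero locus of s, and multiplication by the germ of s injective on O_{Y,ξ} at the points ξ of
δ-dimension k. Writing [Y]_{k+1} = Σ n_i[Y_i] over the irreducible components of δ-dimension k + 1,
one has [Z(s)]_k = Σ n_i [Z(s|_{Y_i})]_k as k-cycles on Y; here the right side is computed as c_1(L)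
∩ [Y]_{k+1} with the rational sections induced by s. Here L(ξ) = L_ξ/𝔪_ξ L_ξ is the space of
rational sections of L on the closure of ξ, div_{L|W}(s) and c_1(L) ∩ α are computed as coefficient
functions from chosen nonzero rational sections (Cyc.secDivFun, Cyc.c1CapFun), and results are
compared up to rational equivalence for any cycles with those coefficients. A pair (X, δ) with
Cyc.IsSetup plays the role of a scheme locally of finite type over a fixed base with a dimension
function (X locally Noetherian with universally catenary local rings, δ a dimension function), and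
Cyc.DeltaCompat records that the dimension function upstairs is the induced one. -/
theorem result (Y : Scheme.{u}) (δ : Y → ℤ) (hY : Cyc.IsSetup Y δ) (L : Y.Modules) (hL : PicF.IsInvertible L) (k : ℤ) (hdim : ∀ y : Y, δ y ≤ k + 1) (s : L.presheaf.obj (Opposite.op ⊤)) (hZ : ∀ y : Y, (L.presheaf.germ ⊤ y trivial) s ∈ IsLocalRing.maximalIdeal (Y.presheaf.stalk y) • (⊤ : Submodule (Y.presheaf.stalk y) (L.presheaf.stalk y)) → δ y ≤ k) (hreg : ∀ y : Y, δ y = k → Function.Injective (fun a : Y.presheaf.stalk y => a • (L.presheaf.germ ⊤ y trivial) s)) : Cyc.zeroSectionFun δ k L s = Cyc.c1CapFun δ L (Cyc.subschemeFun δ (k + 1) (𝟙 Y)) (fun ξ => Submodule.Quotient.mk ((L.presheaf.germ ⊤ ξ trivial) s)) := by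
  haveI : IsLocallyNoetherian Y := hY.1
  funext x
  exact GrothLib.C1.zeroSectionFun_eq_c1Cap hY.2.2 hL k hdim s
    (fun y hy => hZ y ((Submodule.Quotient.mk_eq_zero _).1 hy)) hreg x

end Groth.Agent.S1925
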