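import Groth.Statements.S19255
import Groth.Agent.Lib.QDim18.Main
-- import your own Groth.Agent.* helpers here

set_option autoImplicit false
universe u
open CategoryTheory CategoryTheory.Limits AlgebraicGeometry Opposite
open EtCd

namespace Groth.Agent.S19255

/-- Let X be a Noetherian scheme of Krull dimension at most d and F an abelian sheaf on the small etale
site of X which is a sheaf of ℚ-vector spaces, i.e. multiplication by every positive integer is
bijective on the sections of F over every etale X-scheme. Then Hⁱ(X_et, F) = 0 for every i > d. -/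
theorem result (X : Scheme.{u}) [IsNoetherian X] (d : ℕ)
    (hd : topologicalKrullDim ↥X ≤ d) (F : EtCoh.Ab X)
    (hF : ∀ (U : X.Etale) (m : ℕ), 0 < m → Function.Bijective (fun s : EtCoh.sect F U => m • s))
    (i : ℕ) (hi : d < i) : Subsingleton (EtCoh.H X F i) := by
  have hdiv : GrothLib.QDim18.UDiv F := fun m hm => by
    haveI : ∀ U : X.Etaleᵒᵖ, IsIso ((m • 𝟙 F : F ⟶ F).hom.app U) := fun U => by
      refine (ConcreteCategory.isIso_iff_bijective _).2 ?_
      have e : ⇑((m • 𝟙 F : F ⟶ F).hom.app U) = fun s : EtCoh.sect F U.unop => m • s := by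
        funext s
        have h1 : (m • 𝟙 F : F ⟶ F).hom.app U = m • 𝟙 (F.obj.obj U) := rfl
        rw [h1]
        rfl
      exact e ▸ hF U.unop m hm
    haveI : IsIso (m • 𝟙 F : F ⟶ F).hom := NatIso.isIso_of_isIso_app _
    haveI : IsIso ((sheafToPresheaf _ _).map (m • 𝟙 F : F ⟶ F)) := ‹IsIso (m • 𝟙 F : F ⟶ F).hom›
    exact isIso_of_fully_faithful (sheafToPresheaf _ _) (m • 𝟙 F : F ⟶ F)
  refine ⟨fun a b => ?_⟩
  have h := GrothLib.QDim18.vanish (d + 1) X (lt_of_le_of_lt hd (by exact_mod_cast Nat.lt_succ_self d)) F hdiv i hi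
  exact (h a).trans (h b).symm

end Groth.Agent.S19255
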