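import Groth.Statements.S19256
import Groth.Agent.Lib.CdP18.Lefschetz
import Groth.Agent.Lib.OX.LocFreeTensor
-- import your own Groth.Agent.* helpers here

set_option autoImplicit false
universe u
open CategoryTheory CategoryTheory.Limits AlgebraicGeometry
open EtCoh

namespace Groth.Agent.S19256

/-- In the case q = 0 (constant p-torsion coefficients), let k be a field of characteristic p > 0 whose
Frobenius endomorphism is finite (an F-finite field), X a scheme smooth and proper over k of
relative dimension N, and 𝓘 a quasi-coherent ideal of X whose ideal module is invertible with an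
ample tensor-inverse L, such that the closed subscheme Y defined by 𝓘 is smooth over k (a smooth
ample effective Cartier divisor, such as a smooth hypersurface section for a projective embedding).
Assume H^i(X, 𝓘^{⊗ n}) = 0 for all n ≥ 1 and all i ≤ N - 1. Then for every m ≥ 1 the restriction map
H^i_et(X, Z/p^m) → H^i_et(Y, Z/p^m) along the closed immersion Y → X is bijective for i ≤ N - 2 and
injective for i = N - 1. (The logarithmic Hodge–Witt sheaf of degree zero is the constant sheaf
Z/p^m; the source asks for the vanishing of H^i(X, Ω^q_X(-nY)) for all i + q ≤ N - 1 with Ω the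
absolute differentials, of which the degree-zero statement uses only the part q = 0. Exactness of
pullback of abelian étale sheaves is carried as an instance hypothesis.) -/
theorem result
    (k : Type u) [Field k] (p : ℕ) [Fact p.Prime] [CharP k p] (hF : (frobenius k p).Finite)
    (X : Scheme.{u}) (f : X ⟶ Spec (CommRingCat.of k)) [IsProper f] (N : ℕ) [SmoothOfRelativeDimension N f]
    (𝓘 : X.IdealSheafData) (L : X.Modules) (hL : ClSub.IsInverseOf L (ClSub.idealMod 𝓘)) (hamp : CohB1.IsAmple L)
    [Smooth (𝓘.subschemeι ≫ f)]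
    (hvan : ∀ n i : ℕ, 1 ≤ n → i + 1 ≤ N → Subsingleton (Coh.HH X (CohB1.tensorPow (ClSub.idealMod 𝓘) n) i))
    (m : ℕ) (hm : 1 ≤ m) [PreservesFiniteLimits (EtCoh.pull 𝓘.subschemeι)] :
    (∀ i : ℕ, i + 2 ≤ N → Function.Bijective (EtCore.Hpull 𝓘.subschemeι (EtCoh.const X (ZMod (p ^ m))) i)) ∧
    (∀ i : ℕ, i + 1 = N → Function.Injective (EtCore.Hpull 𝓘.subschemeι (EtCoh.const X (ZMod (p ^ m))) i)) := by
  have h0 : (p : Γ(X, ⊤)) = 0 := GrothLib.CdP18.natCast_eq_zero_of_hom f (by
    rw [← map_natCast (Scheme.ΓSpecIso (CommRingCat.of k)).inv.hom,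
      show ((p : ℕ) : CommRingCat.of k) = (0 : k) from CharP.cast_eq_zero k p]
    exact map_zero _)
  let e : CohB1.tensorPow (ClSub.idealMod 𝓘) 1 ≅ ClSub.idealMod 𝓘 := GrothLib.OX.tensorUnitLeftIso _
  refine GrothLib.CdP18.Hpull_belowBij 𝓘.subschemeι _ N
    (GrothLib.CdP18.belowBij_unit_pow 𝓘 p h0 N (fun i hi => ?_) m hm)
  exact @Equiv.subsingleton _ _ (((CategoryTheory.Sheaf.functorH _ i).mapIso
    ((SheafOfModules.toSheaf X.ringCatSheaf).mapIso e.symm)).addCommGroupIsoToAddEquiv).toEquiv (hvan 1 i le_rfl hi)

end Groth.Agent.S19256
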