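import Groth.Statements.S19258
import Mathlib.Topology.Instances.AddCircle.Defs
import Mathlib.Topology.Constructions
import Mathlib.GroupTheory.SpecificGroups.Cyclic

set_option autoImplicit false
universe u
open PontDual

namespace Groth.Agent.S19258

/-- Let G and G' be abelian groups such that every element of G' has finite order, and let β : G' →
Hom(G, ℚ/ℤ) be an injective homomorphism (equivalently a pairing G' × G → ℚ/ℤ with no left kernel).
Endow G with the weak topology defined by G': the coarsest topology for which every character β(f),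
f ∈ G', is continuous when ℚ/ℤ carries the discrete topology. Then every homomorphism χ : G → ℚ/ℤ
that is continuous for this topology on G and the discrete topology on ℚ/ℤ equals β(f) for some f ∈
G', so that β is a bijection from G' onto the group of continuous characters of G. -/
theorem result
    (G : Type u) (G' : Type u) [AddCommGroup G] [AddCommGroup G'] (hG' : IsAddTorsion G')
    (β : G' →+ (G →+ AddCircle (1 : ℚ))) (hβ : Function.Injective β)
    (χ : G →+ AddCircle (1 : ℚ))
    (hχ : @Continuous G (AddCircle (1 : ℚ)) (⨅ f' : G', TopologicalSpace.induced (fun x : G => β f' x) ⊥) ⊥ χ) :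
    ∃ f' : G', β f' = χ := by
  classical
  have key : ∀ (m : ℕ) (y x : AddCircle (1 : ℚ)), 0 < m → addOrderOf y = m → m • x = 0 →
      x ∈ AddSubgroup.zmultiples y := by
    intro m y x hm hy hx
    have hfin : {u : AddCircle (1 : ℚ) | m • u = 0}.Finite := AddCircle.finite_torsion 1 hm
    have hsub : (AddSubgroup.zmultiples y : Set (AddCircle (1 : ℚ))) ⊆ {u | m • u = 0} := by
      rintro _ ⟨a, rfl⟩
      change m • a • y = 0
      rw [smul_comm, ← hy, addOrderOf_nsmul_eq_zero, zsmul_zero]
    have hcard : {u : AddCircle (1 : ℚ) | m • u = 0}.ncard ≤ (AddSubgroup.zmultiples y : Set (AddCircle (1 : ℚ))).ncard := by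
      have := AddCircle.card_torsion_le_of_isSMulRegular (1 : ℚ) m hm.ne'
        (fun a b h => mul_left_cancel₀ (Nat.cast_ne_zero.2 hm.ne') (by simpa [nsmul_eq_mul] using h))
      refine le_of_le_of_eq ?_ (((Nat.card_coe_set_eq _).symm.trans (Nat.card_zmultiples y)).trans hy).symm
      rw [← Nat.card_coe_set_eq]
      simp only [Set.coe_setOf, Nat.card_coe_set_eq] at this ⊢
      rw [← hfin.cast_ncard_eq] at this
      exact_mod_cast this
    have heq := Set.eq_of_subset_of_ncard_le hsub hcard hfin
    change x ∈ (AddSubgroup.zmultiples y : Set (AddCircle (1 : ℚ)))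
    rw [heq]
    exact hx
  have span : ∀ (F : Finset G') (χ : G →+ AddCircle (1 : ℚ)), (∀ g : G, (∀ f ∈ F, β f g = 0) → χ g = 0) →
      ∃ f' : G', β f' = χ := by
    intro F
    induction F using Finset.induction_on with
    | empty => exact fun χ h => ⟨0, by ext g; simp [h g (by simp)]⟩
    | @insert f F hf ih =>
      intro χ h
      let K : AddSubgroup G := ⨅ f' ∈ F, (β f').ker
      have hK : ∀ g, g ∈ K ↔ ∀ f' ∈ F, β f' g = 0 := by simp [K, AddSubgroup.mem_iInf]
      let n := addOrderOf f
      have hn : 0 < n := (hG' f).addOrderOf_pos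
      let e : AddCircle (1 : ℚ) := ((1 / n : ℚ) : AddCircle (1 : ℚ))
      have he : addOrderOf e = n := AddCircle.addOrderOf_period_div hn
      have hle : K.map (β f) ≤ AddSubgroup.zmultiples e := by
        rintro _ ⟨g, _, rfl⟩
        refine key n e _ hn he ?_
        rw [← AddMonoidHom.nsmul_apply, ← map_nsmul, addOrderOf_nsmul_eq_zero, map_zero, AddMonoidHom.zero_apply]
      haveI : IsAddCyclic (K.map (β f)) :=
        isAddCyclic_of_injective (AddSubgroup.inclusion hle) (AddSubgroup.inclusion_injective hle)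
      obtain ⟨⟨_, k₀, hk₀, rfl⟩, hgen⟩ := IsAddCyclic.exists_generator (α := K.map (β f))
      have hgen' : ∀ k ∈ K, ∃ a : ℤ, β f k = β f (a • k₀) := fun k hk => by
        obtain ⟨a, ha⟩ := hgen ⟨β f k, k, hk, rfl⟩
        exact ⟨a, (congrArg Subtype.val ha).symm.trans (map_zsmul _ _ _).symm⟩
      have hzero : ∀ k ∈ K, β f k = 0 → χ k = 0 := fun k hk h0 => h k fun f' hf' => by
        rcases Finset.mem_insert.1 hf' with rfl | hf'
        · exact h0
        · exact (hK k).1 hk f' hf'
      let m := addOrderOf (β f k₀)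
      have hm : 0 < m := by
        refine IsOfFinAddOrder.addOrderOf_pos ?_
        exact isOfFinAddOrder_iff_nsmul_eq_zero.2 ⟨n, hn, by
          rw [← AddMonoidHom.nsmul_apply, ← map_nsmul, addOrderOf_nsmul_eq_zero, map_zero, AddMonoidHom.zero_apply]⟩
      have hmx : m • χ k₀ = 0 := by
        rw [← map_nsmul]
        exact hzero _ (K.nsmul_mem hk₀ m) ((map_nsmul _ _ _).trans (addOrderOf_nsmul_eq_zero _))
      obtain ⟨c, hc⟩ := key m _ _ hm rfl hmx
      obtain ⟨g', hg'⟩ := ih (χ - c • β f) (fun g hg => by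
        have hgK : g ∈ K := (hK g).2 hg
        obtain ⟨a, ha⟩ := hgen' g hgK
        have h1 : χ g = χ (a • k₀) := by
          rw [← sub_eq_zero, ← map_sub]
          refine hzero _ (K.sub_mem hgK (K.zsmul_mem hk₀ a)) ?_
          rw [map_sub, ha, sub_self]
        change χ g - c • β f g = 0
        rw [h1, ha, map_zsmul, map_zsmul, ← hc, smul_comm, sub_self])
      exact ⟨g' + c • f, by rw [map_add, hg', map_zsmul, sub_add_cancel]⟩
  letI τ : TopologicalSpace G := ⨅ f' : G', TopologicalSpace.induced (fun x : G => β f' x) ⊥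
  have hopen : @IsOpen G (⨅ f' : G', TopologicalSpace.induced (fun x : G => β f' x) ⊥) (χ ⁻¹' {0}) :=
    @Continuous.isOpen_preimage G (AddCircle (1 : ℚ)) _ ⊥ χ hχ {0} trivial
  have hnhds : χ ⁻¹' {0} ∈ ⨅ f' : G', Filter.comap (fun x : G => β f' x) (pure 0) := by
    have := hopen.mem_nhds (x := (0 : G)) (map_zero χ)
    rw [nhds_iInf] at this
    refine Filter.le_def.1 (iInf_mono fun f' => ?_) _ this
    letI : TopologicalSpace (AddCircle (1 : ℚ)) := ⊥
    haveI : DiscreteTopology (AddCircle (1 : ℚ)) := ⟨rfl⟩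
    refine le_trans ?_ (nhds_induced (fun x : G => β f' x) 0).ge
    rw [nhds_discrete, map_zero]
  obtain ⟨I, hI, V, hV, -, hIV, -⟩ := Filter.mem_iInf'.1 hnhds
  refine span hI.toFinset χ fun g hg => ?_
  have : g ∈ ⋂ i ∈ I, V i := Set.mem_iInter₂.2 fun i hi => by
    obtain ⟨s, hs, hsV⟩ := Filter.mem_comap.1 (hV i)
    exact hsV (show β i g ∈ s from (hg i (hI.mem_toFinset.2 hi)).symm ▸ hs)
  rw [← hIV] at this
  exact this

end Groth.Agent.S19258
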