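import Groth.Statements.S1926
-- import your own Groth.Agent.* helpers here
import Groth.Agent.Lib.C1.ProperPush

set_option autoImplicit false
universe u
open CategoryTheory AlgebraicGeometry
open Cyc

namespace Groth.Agent.S1926

/-- Let p : X → Y be proper, L an invertible O_Y-module and α a (k + 1)-cycle on X. Then p_*(c_1(p^*L) ∩
α) ∼_rat c_1(L) ∩ p_*α as k-cycles on Y, the two sides computed with any nonzero rational sections
of p^*L on X and of L on Y respectively. Here L(ξ) = L_ξ/𝔪_ξ L_ξ is the space of rational sections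
of L on the closure of ξ, div_{L|W}(s) and c_1(L) ∩ α are computed as coefficient functions from
chosen nonzero rational sections (Cyc.secDivFun, Cyc.c1CapFun), and results are compared up to
rational equivalence for any cycles with those coefficients. A pair (X, δ) with Cyc.IsSetup plays
the role of a scheme locally of finite type over a fixed base with a dimension function (X locally
Noetherian with universally catenary local rings, δ a dimension function), and Cyc.DeltaCompat
records that the dimension function upstairs is the induced one. -/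
theorem result (X Y : Scheme.{u}) (δX : X → ℤ) (δY : Y → ℤ) (hX : Cyc.IsSetup X δX) (hY : Cyc.IsSetup Y δY) (p : X ⟶ Y) [IsProper p] (hδ : Cyc.DeltaCompat p δX δY) (L : Y.Modules) (hL : PicF.IsInvertible L) (k : ℤ) (α : AlgebraicCycle X ℤ) (hα : α ∈ Cyc.Zk X δX (k + 1)) (u : (ξ : X) → Cyc.secFibre ((Scheme.Modules.pullback p).obj L) ξ) (hu : ∀ ξ, u ξ ≠ 0) (v : (η : Y) → Cyc.secFibre L η) (hv : ∀ η, v η ≠ 0) (γ : AlgebraicCycle X ℤ) (hγ : ⇑γ = Cyc.c1CapFun δX ((Scheme.Modules.pullback p).obj L) ⇑α u) (γ' : AlgebraicCycle Y ℤ) (hγ' : ⇑γ' = Cyc.c1CapFun δY L ⇑(AlgebraicCycle.map p δX δY α) v) : Cyc.RatEquiv δY k (AlgebraicCycle.map p δX δY γ) γ' := by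
  haveI : IsLocallyNoetherian X := hX.1
  haveI : IsLocallyNoetherian Y := hY.1
  have hL' := GrothLib.C1.isInvertible_pullback p hL
  have hv' : ∀ ξ, GrothLib.C1.pullChoice p hL v ξ ≠ 0 := fun ξ => GrothLib.C1.pullFib_ne_zero p hL (hv _)
  let γ₀ : AlgebraicCycle X ℤ := GrothLib.C1.toCycle _
    (GrothLib.C1.lf_c1Cap hX.2.2 hL' (GrothLib.C1.LF.of_cycle α) hv')
  have hrz : Cyc.RatEquiv δX k γ γ₀ := GrothLib.C1.ratEquiv_of_RZ hX.2.2
    (GrothLib.C1.rz_change hX.2.2 hL' (GrothLib.C1.LF.of_cycle α) (fun ξ hξ => by_contra fun h => hξ (hα ξ h)) hu hv')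
    fun x => by rw [hγ]; rfl
  have h := GrothLib.C1.ratEquivZero_map p hX.2.2 hY.2.2 hδ hrz
  have he : AlgebraicCycle.map p δX δY γ₀ = γ' := by
    ext y
    rw [GrothLib.C1.map_c1Cap_pull p hL hX.2.2 hY.2.2 hδ α hv γ₀ rfl, hγ']
  rw [GrothLib.CycPush.map_sub, he] at h
  exact h

end Groth.Agent.S1926
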