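import Groth.Statements.S19263
import Groth.Agent.Lib.WittFiltr.Basic
import Mathlib

set_option autoImplicit false
universe u
open WittFil

namespace Groth.Agent.S19263

/-- Let A be a unique factorisation domain of characteristic p, x_1, …, x_r pairwise non-associate prime
elements of A, B the localisation A[1/(x_1⋯x_r)] with u_i the unit of B defined by x_i, n ∈ ℤ^r and
m ≥ 0. The filtered piece of the length-m truncated p-typical Witt vectors of B cut out by c = ∏ u_i
^ n_i, namely the set of vectors whose j-th coordinate y_j satisfies y_j ^ (p ^ (m-1-j)) · c ∈ A for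
every j < m, is closed under subtraction (so it is an additive subgroup). (The published setting is
a regular local ring A and the prime elements cutting out the components of a divisor; the argument
uses only unique factorisation.) -/
theorem result (p : ℕ) [Fact p.Prime] {A B : Type u} [CommRing A] [IsDomain A]
    [UniqueFactorizationMonoid A] [CharP A p] [CommRing B] [Algebra A B] {r : ℕ} (x : Fin r → A)
    (hx : ∀ i, Prime (x i)) (hxa : ∀ i j, Associated (x i) (x j) → i = j)
    [IsLocalization.Away (∏ i, x i) B] (u : Fin r → Bˣ)
    (hu : ∀ i, (u i : B) = algebraMap A B (x i)) (n : Fin r → ℤ) (m : ℕ)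
    (a b : TruncatedWittVector p m B) (ha : a ∈ WittFil.fil p m (A := A) (WittFil.zmon u n))
    (hb : b ∈ WittFil.fil p m (A := A) (WittFil.zmon u n)) :
    a - b ∈ WittFil.fil p m (A := A) (WittFil.zmon u n) := by
  haveI := GrothLib.WittFiltr.isDomain (B := B) x hx
  haveI : CharP B p := charP_of_injective_algebraMap (GrothLib.WittFiltr.algebraMap_injective (B := B) x hx) p
  have hrc : ∀ (w : B) (k : ℕ), w ^ p ^ k ∈ (algebraMap A B).range → w ∈ (algebraMap A B).range :=
    fun w k => GrothLib.WittFiltr.rootClosed x hx hxa u hu w (p ^ k) (pow_pos (Fact.out : p.Prime).pos _)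
  exact GrothLib.WittFiltr.sub_mem hrc ha hb

end Groth.Agent.S19263
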