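import Groth.Statements.S19264
import Groth.Agent.Lib.WittFiltr.Basic
import Mathlib

set_option autoImplicit false
universe u
open WittFil

namespace Groth.Agent.S19264

/-- Let A be a unique factorisation domain of characteristic p, x_1, …, x_r pairwise non-associate prime
elements of A, B = A[1/(x_1⋯x_r)] with u_i the unit of B defined by x_i, n ∈ ℤ^r and m ≥ 0. The
restriction map from truncated p-typical Witt vectors of length m+1 to those of length m over B
(forgetting the last coordinate) maps the filtered piece cut out by ∏ u_i ^ n_i onto the filtered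
piece cut out by ∏ u_i ^ ⌊n_i / p⌋; that is, the image is exactly that piece. (The other parts of
the exact sequence, injectivity of the (m-fold) Verschiebung from the fractional ideal generated by
(∏ u_i ^ n_i)⁻¹ and exactness in the middle, are immediate from the definition and are not restated.
The published setting is a regular local ring; only unique factorisation is used.) -/
theorem result (p : ℕ) [Fact p.Prime] {A B : Type u} [CommRing A] [IsDomain A]
    [UniqueFactorizationMonoid A] [CharP A p] [CommRing B] [Algebra A B] {r : ℕ} (x : Fin r → A)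
    (hx : ∀ i, Prime (x i)) (hxa : ∀ i j, Associated (x i) (x j) → i = j)
    [IsLocalization.Away (∏ i, x i) B] (u : Fin r → Bˣ)
    (hu : ∀ i, (u i : B) = algebraMap A B (x i)) (n : Fin r → ℤ) (m : ℕ) :
    (TruncatedWittVector.truncate (Nat.le_succ m)) '' WittFil.fil p (m + 1) (A := A) (WittFil.zmon u n) =
      WittFil.fil p m (A := A) (WittFil.zmon u (fun i => n i / (p : ℤ))) := by
  have hp : 0 < p := (Fact.out : p.Prime).pos
  have key : ∀ (y : B) (j : ℕ), j < m →
      (y ^ p ^ (m - j) * WittFil.zmon u n ∈ (algebraMap A B).range ↔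
        y ^ p ^ (m - 1 - j) * WittFil.zmon u (fun i => n i / (p : ℤ)) ∈ (algebraMap A B).range) := fun y j hj => by
    rw [GrothLib.WittFiltr.pow_mul_mem_iff x hx hxa u hu y _ (pow_pos hp _) n,
      GrothLib.WittFiltr.pow_mul_mem_iff x hx hxa u hu y _ (pow_pos hp _) (fun i => n i / (p : ℤ))]
    have e : (fun i => n i / ((p ^ (m - j) : ℕ) : ℤ)) = fun i => n i / (p : ℤ) / ((p ^ (m - 1 - j) : ℕ) : ℤ) := funext fun i => by
      rw [Int.ediv_ediv_of_nonneg (Int.natCast_nonneg p), show m - j = (m - 1 - j) + 1 by omega, pow_succ', Nat.cast_mul]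
    rw [e]
  ext a
  constructor
  · rintro ⟨b, hb, rfl⟩ j
    rw [TruncatedWittVector.coeff_truncate, ← key _ _ j.2]
    exact hb (Fin.castLE (Nat.le_succ m) j)
  · intro ha
    refine ⟨TruncatedWittVector.mk p (fun j => if h : (j : ℕ) < m then TruncatedWittVector.coeff ⟨j, h⟩ a else 0), fun j => ?_, ?_⟩
    · rw [TruncatedWittVector.coeff_mk]
      split_ifs with h
      · rw [show m + 1 - 1 - (j : ℕ) = m - (j : ℕ) by omega, key _ _ h]
        exact ha ⟨j, h⟩
      · rw [zero_pow (pow_ne_zero _ hp.ne'), zero_mul]
        exact Subring.zero_mem _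
    · refine TruncatedWittVector.ext fun j => ?_
      rw [TruncatedWittVector.coeff_truncate, TruncatedWittVector.coeff_mk, dif_pos (show ((Fin.castLE (Nat.le_succ m) j : Fin (m + 1)) : ℕ) < m from j.2)]
      rfl

end Groth.Agent.S19264
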