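import Groth.Statements.S19269
import Groth.Agent.Lib.AdicExtra.Finite
-- import your own Groth.Agent.* helpers here

set_option autoImplicit false
universe u
open CAlg

namespace Groth.Agent.S19269

open IsLocalRing in
/-- Let R be a Noetherian local ring with maximal ideal 𝔪, M a finitely generated R-module and M^ its
𝔪-adic completion, a module over the 𝔪-adic completion R^ of R. Let N' be an R^-submodule of M^ and
N an R-submodule of M whose image in M^ is contained in N' and is dense in N' for the 𝔪-adic
topology, in the sense that for every y in N' and every k there is x in N with y ≡ x modulo the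
kernel of M^ → M/𝔪^k M. Then N' equals the image of the completion of N under the map induced by the
inclusion N → M (so N' is the completion of N), and N is the set of elements of M whose image in M^
lies in N'. -/
theorem result {R : Type u} [CommRing R]
    [IsNoetherianRing R] [IsLocalRing R] {M : Type u} [AddCommGroup M] [Module R M]
    [Module.Finite R M] (N : Submodule R M)
    (N' : Submodule (AdicCompletion (maximalIdeal R) R) (AdicCompletion (maximalIdeal R) M))
    (hle : ∀ x ∈ N, AdicCompletion.of (maximalIdeal R) M x ∈ N')
    (hdense : ∀ y ∈ N', ∀ k : ℕ, ∃ x ∈ N,
      AdicCompletion.eval (maximalIdeal R) M k y = Submodule.Quotient.mk x) :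
    (N'.restrictScalars R =
        (LinearMap.range (AdicCompletion.map (maximalIdeal R) N.subtype)).restrictScalars R) ∧
      (∀ x : M, x ∈ N ↔ AdicCompletion.of (maximalIdeal R) M x ∈ N') := by
  obtain ⟨h1, h2⟩ := GrothLib.AdicExtra.eq_range_map_of_dense N N' hle hdense
  exact ⟨by rw [h1], h2⟩

end Groth.Agent.S19269
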