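import Groth.Statements.S19270
import Groth.Agent.Lib.SepField.Smooth
import Groth.Agent.Lib.RegLoc.Basic
import Mathlib.RingTheory.LocalRing.Module
import Mathlib.LinearAlgebra.Dimension.OrzechProperty
import Mathlib.LinearAlgebra.Basis.VectorSpace
-- import your own Groth.Agent.* helpers here

set_option autoImplicit false
universe u
open CAlg

namespace Groth.Agent.S19270
open TensorProduct

open IsLocalRing in
/-- Let A be a regular local ring of prime characteristic p, of Krull dimension N, with maximal ideal
generated by x_1, …, x_N, and assume that the module Ω_A of absolute Kähler differentials of A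
(differentials relative to ℤ, equivalently relative to the prime field) is a free A-module of finite
rank. Then dx_1, …, dx_N are part of a basis of Ω_A: there exist a basis b of Ω_A and an injection e
of the indices 1, …, N into the index type of b with b (e i) = d(x_i) for all i. (In the published
statement A is a regular local F-finite algebra over the prime field and the freeness and finiteness
of Ω_A form the first assertion, taken there from the literature; here they are hypotheses.) -/
theorem result (p : ℕ) [Fact p.Prime]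
    {A : Type u} [CommRing A] [IsRegularLocalRing A] [CharP A p]
    [Module.Free A (KaehlerDifferential ℤ A)] [Module.Finite A (KaehlerDifferential ℤ A)]
    {N : ℕ} (x : Fin N → A) (hx : Ideal.span (Set.range x) = maximalIdeal A)
    (hN : ringKrullDim A = (N : WithBot ℕ∞)) :
    ∃ (ι : Type u) (b : Module.Basis ι A (KaehlerDifferential ℤ A)) (e : Fin N ↪ ι),
      ∀ i : Fin N, b (e i) = KaehlerDifferential.D ℤ A (x i) := by
  classical
  -- a field of representatives modulo the square of the maximal ideal
  let P := GrothLib.SepField.PrimeFld.{u} p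
  haveI : CharP P p := charP_of_injective_ringHom
    (f := (ULift.ringEquiv.symm : ZMod p ≃+* P).toRingHom) ULift.ringEquiv.symm.injective p
  haveI : PerfectRing P p := PerfectRing.ofFiniteOfIsReduced p _
  letI : Algebra P A := ((ZMod.castHom (dvd_refl p) A).comp ULift.ringEquiv.toRingHom).toAlgebra
  haveI : CharP (IsLocalRing.ResidueField A) p :=
    charP_of_injective_algebraMap (algebraMap P (IsLocalRing.ResidueField A)).injective p
  haveI : Algebra.FormallySmooth P (IsLocalRing.ResidueField A) :=
    GrothLib.SepField.formallySmooth_perfect p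
  set m := IsLocalRing.maximalIdeal A with hm
  let π : A ⧸ m ^ 2 →ₐ[P] IsLocalRing.ResidueField A :=
    Ideal.Quotient.factorₐ P (Ideal.pow_le_self two_ne_zero)
  have hπ : Function.Surjective π := Ideal.Quotient.factor_surjective (Ideal.pow_le_self two_ne_zero)
  have hnil : IsNilpotent (RingHom.ker (π : A ⧸ m ^ 2 →+* IsLocalRing.ResidueField A)) := by
    refine ⟨2, le_bot_iff.1 ?_⟩
    have hk : RingHom.ker (π : A ⧸ m ^ 2 →+* IsLocalRing.ResidueField A) ≤ m.map (Ideal.Quotient.mk (m ^ 2)) := by
      intro y hy
      obtain ⟨z, rfl⟩ := Ideal.Quotient.mk_surjective y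
      exact Ideal.mem_map_of_mem _ ((IsLocalRing.residue_eq_zero_iff z).1 hy)
    refine (Ideal.pow_right_mono hk 2).trans ?_
    rw [← Ideal.map_pow, Ideal.map_quotient_self]
  let s := Algebra.FormallySmooth.liftOfSurjective (AlgHom.id P (IsLocalRing.ResidueField A)) π hπ hnil
  have hs : ∀ c, π (s c) = c := fun c => Algebra.FormallySmooth.liftOfSurjective_apply _ _ _ _ c
  let ι0 : m.Cotangent →ₗ[A] A ⧸ m ^ 2 := m.cotangentToQuotientSquare
  let q : A →ₐ[P] A ⧸ m ^ 2 := Ideal.Quotient.mkₐ P (m ^ 2)
  let T : A →ₐ[P] A ⧸ m ^ 2 := s.comp (IsScalarTower.toAlgHom P A (IsLocalRing.ResidueField A))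
  have hdiff : ∀ a, ∃ c : m.Cotangent, ι0 c = q a - T a := by
    intro a
    obtain ⟨z, hz⟩ := Ideal.Quotient.mk_surjective (T a)
    have hzm : a - z ∈ m := by
      have h1 : π (Ideal.Quotient.mk (m ^ 2) z) = IsLocalRing.residue A a := by rw [hz]; exact hs _
      rw [hm, ← IsLocalRing.residue_eq_zero_iff, map_sub, sub_eq_zero]
      exact h1.symm
    refine ⟨m.toCotangent ⟨a - z, hzm⟩, ?_⟩
    show Ideal.Quotient.mk (m ^ 2) (a - z) = _
    rw [map_sub, hz]
    rfl
  choose d hd using hdiff
  have hinj : Function.Injective ι0 := m.cotangentToQuotientSquare_injective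
  let D0 : Derivation ℤ A m.Cotangent := Derivation.mk'
    (AddMonoidHom.toIntLinearMap
      { toFun := d
        map_zero' := hinj (by rw [hd, map_zero, map_zero, map_zero, sub_zero])
        map_add' := fun a b => hinj (by rw [map_add, hd, hd, hd, map_add, map_add]; ring) })
    (fun a b => hinj (by
      show ι0 (d (a * b)) = ι0 (a • d b + b • d a)
      rw [map_add, map_smul, map_smul, hd, hd, hd, map_mul, map_mul, Algebra.smul_def, Algebra.smul_def]
      show q a * q b - T a * T b = q a * (q b - T b) + q b * (q a - T a)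
      have h0 : (q a - T a) * (q b - T b) = 0 := by
        obtain ⟨u, hu⟩ := m.toCotangent_surjective (d a)
        obtain ⟨v, hv⟩ := m.toCotangent_surjective (d b)
        rw [← hd, ← hd, ← hu, ← hv]
        show Ideal.Quotient.mk (m ^ 2) (u : A) * Ideal.Quotient.mk (m ^ 2) (v : A) = 0
        rw [← map_mul, Ideal.Quotient.eq_zero_iff_mem, pow_two]
        exact Ideal.mul_mem_mul u.2 v.2
      linear_combination -h0))
  have hD0 : ∀ a (ha : a ∈ m), D0 a = m.toCotangent ⟨a, ha⟩ := fun a ha => hinj (by
    show ι0 (d a) = _
    rw [hd]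
    show q a - s (IsLocalRing.residue A a) = Ideal.Quotient.mk (m ^ 2) a
    rw [(IsLocalRing.residue_eq_zero_iff a).2 ha, map_zero, sub_zero]
    rfl)
  let L : IsLocalRing.ResidueField A ⊗[A] (KaehlerDifferential ℤ A) →ₗ[IsLocalRing.ResidueField A]
      IsLocalRing.CotangentSpace A := LinearMap.liftBaseChange _ D0.liftKaehlerDifferential
  have hxm : ∀ i, x i ∈ m := fun i => hx ▸ Ideal.subset_span ⟨i, rfl⟩
  let w : Fin N → IsLocalRing.ResidueField A ⊗[A] (KaehlerDifferential ℤ A) :=
    fun i => 1 ⊗ₜ KaehlerDifferential.D ℤ A (x i)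
  have hLw : ∀ i, L (w i) = m.toCotangent ⟨x i, hxm i⟩ := fun i => by
    simp only [L, w, LinearMap.liftBaseChange_tmul, one_smul]
    rw [Derivation.liftKaehlerDifferential_comp_D]
    exact hD0 _ _
  have hcot : LinearIndependent (IsLocalRing.ResidueField A)
      (fun i => m.toCotangent ⟨x i, hxm i⟩ : Fin N → IsLocalRing.CotangentSpace A) := by
    refine linearIndependent_of_top_le_span_of_card_eq_finrank (fun z _ => ?_) ?_
    · obtain ⟨⟨a, ha⟩, rfl⟩ := m.toCotangent_surjective z
      obtain ⟨r, hr⟩ := (Ideal.mem_span_range_iff_exists_fun (v := x)).1 (hx.ge ha)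
      have : (⟨a, ha⟩ : m) = ∑ i, r i • (⟨x i, hxm i⟩ : m) := Subtype.ext (by simp [hr])
      rw [this, map_sum]
      refine Submodule.sum_mem _ fun i _ => ?_
      rw [map_smul, ← algebraMap_smul (IsLocalRing.ResidueField A) (r i)]
      exact Submodule.smul_mem _ _ (Submodule.subset_span ⟨i, rfl⟩)
    · rw [Fintype.card_fin, ← IsLocalRing.spanFinrank_maximalIdeal_eq_finrank_cotangentSpace]
      rw [← IsRegularLocalRing.spanFinrank_maximalIdeal, Nat.cast_inj] at hN
      exact hN.symm
  have hw : LinearIndependent (IsLocalRing.ResidueField A) w :=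
    LinearIndependent.of_comp L (by
      rw [show ⇑L ∘ w = fun i => m.toCotangent ⟨x i, hxm i⟩ from funext hLw]
      exact hcot)
  let S := hw.linearIndepOn_id.extend (Set.subset_univ _)
  let bk := Module.Basis.extend hw.linearIndepOn_id
  have hmem : ∀ i, w i ∈ S := fun i => hw.linearIndepOn_id.subset_extend _ ⟨i, rfl⟩
  have hsurj : ∀ y : IsLocalRing.ResidueField A ⊗[A] (KaehlerDifferential ℤ A), ∃ z, 1 ⊗ₜ z = y :=
    TensorProduct.mk_surjective A _ _ IsLocalRing.residue_surjective
  let v : S → KaehlerDifferential ℤ A := fun y =>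
    if h : ∃ i, w i = y.1 then KaehlerDifferential.D ℤ A (x h.choose) else (hsurj y.1).choose
  have hv : TensorProduct.mk A (IsLocalRing.ResidueField A) _ 1 ∘ v = fun y : S => (y.1) := by
    funext y
    simp only [Function.comp_apply, v, TensorProduct.mk_apply]
    split_ifs with h
    · exact h.choose_spec
    · exact (hsurj y.1).choose_spec
  have : Module.FinitePresentation A (KaehlerDifferential ℤ A) :=
    Module.finitePresentation_of_projective A _
  obtain ⟨b, hb⟩ := Module.exists_basis_of_basis_baseChange v
    (by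
      rw [hv]
      have h := bk.linearIndependent
      rwa [Module.Basis.coe_extend] at h)
    (by
      rw [hv]
      have h := bk.span_eq
      rwa [Module.Basis.coe_extend] at h)
    (Module.Flat.rTensor_preserves_injective_linearMap _ Subtype.val_injective)
  refine ⟨S, b, ⟨fun i => ⟨w i, hmem i⟩, fun i j h => hw.injective (congrArg Subtype.val h)⟩, fun i => ?_⟩
  rw [hb]
  have h : ∃ j, w j = w i := ⟨i, rfl⟩
  show (if h : ∃ j, w j = w i then _ else _) = _
  rw [dif_pos h, hw.injective h.choose_spec]

end Groth.Agent.S19270
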