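import Groth.Statements.S19273
import Mathlib


set_option autoImplicit false
set_option linter.all false
universe u
open CAlg

namespace Groth.Agent.S19273

open KaehlerDifferential in
/-- Let A be an integral domain of prime characteristic p, x_1, …, x_N elements of A, r ≤ N, B =
A[1/(x_1⋯x_r)] with u_i the unit of B defined by x_i for i ≤ r, and suppose that the module Ω_A of
absolute Kähler differentials of A is free with a basis b indexed by {1, …, N} ⊔ ι whose i-th vector
is d(x_i) for i ≤ N. Then the module of logarithmic 1-forms — the A-submodule of Ω_B spanned by the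
image of Ω_A and the forms u_i⁻¹ · d(x_i), i ≤ r — is a free A-module: it has a basis indexed by {1,
…, N} ⊔ ι whose vector at i ≤ r is u_i⁻¹ · d(x_i), at r < i ≤ N is d(x_i), and at k ∈ ι is the image
of b_k. (In the published statement A is a regular local F-finite algebra over the prime field with
maximal ideal (x_1, …, x_N), the basis of Ω_A comes from the preceding lemma, and the assertion
covers the logarithmic q-forms for all q together with their identification with the log de Rham
complex of the log ring; only the degree-one freeness is stated here, from the properties of A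
actually used.) -/
theorem result (p : ℕ) [Fact p.Prime]
    {A B : Type u} [CommRing A] [IsDomain A] [CharP A p] [CommRing B] [Algebra A B] {r N : ℕ}
    (hr : r ≤ N) (x : Fin N → A) [IsLocalization.Away (∏ i : Fin r, x (Fin.castLE hr i)) B]
    (u : Fin r → Bˣ) (hu : ∀ i, (u i : B) = algebraMap A B (x (Fin.castLE hr i)))
    {ι : Type u} (b : Module.Basis (Fin N ⊕ ι) A (Ω[A⁄ℤ])) (hb : ∀ i, b (Sum.inl i) = D ℤ A (x i)) :
    ∃ e : Module.Basis (Fin N ⊕ ι) A
        (W4c6katofilta.logForms1 (fun i : Fin r => x (Fin.castLE hr i)) u),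
      (∀ i : Fin r, (e (Sum.inl (Fin.castLE hr i)) : Ω[B⁄ℤ]) =
          ((u i)⁻¹ : Bˣ) • KaehlerDifferential.map ℤ ℤ A B (D ℤ A (x (Fin.castLE hr i)))) ∧
      (∀ i : Fin N, r ≤ (i : ℕ) →
          (e (Sum.inl i) : Ω[B⁄ℤ]) = KaehlerDifferential.map ℤ ℤ A B (D ℤ A (x i))) ∧
      (∀ k : ι, (e (Sum.inr k) : Ω[B⁄ℤ]) = KaehlerDifferential.map ℤ ℤ A B (b (Sum.inr k))) := by
  classical
  set d : A := ∏ i : Fin r, x (Fin.castLE hr i) with hd
  have hx : ∀ i, x i ≠ 0 := by
    intro i h
    have := b.ne_zero (Sum.inl i)
    rw [hb, h, map_zero] at this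
    exact this rfl
  have hd0 : d ≠ 0 := Finset.prod_ne_zero_iff.2 fun i _ => hx _
  have hinj : Function.Injective (algebraMap A B) :=
    IsLocalization.injective B (powers_le_nonZeroDivisors_of_noZeroDivisors hd0)
  set f := KaehlerDifferential.map ℤ ℤ A B with hf
  haveI : IsLocalizedModule (Submonoid.powers d) f :=
    KaehlerDifferential.isLocalizedModule_map ℤ A B (Submonoid.powers d)
  have hli : LinearIndependent B (f ∘ b) :=
    b.linearIndependent.of_isLocalizedModule B (Submonoid.powers d) f
  let w : Fin N ⊕ ι → Bˣ := Sum.elim (fun i => if h : (i : ℕ) < r then (u ⟨i, h⟩)⁻¹ else 1) fun _ => 1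
  let e' : Fin N ⊕ ι → Ω[B⁄ℤ] := w • (f ∘ b)
  have hliA : LinearIndependent A e' := by
    refine (hli.units_smul w).restrict_scalars ?_
    intro a₁ a₂ h
    apply hinj
    simpa [Algebra.smul_def] using h
  have hw : ∀ i : Fin r, e' (Sum.inl (Fin.castLE hr i)) = ((u i)⁻¹ : Bˣ) • f (D ℤ A (x (Fin.castLE hr i))) := by
    intro i
    show w _ • f (b _) = _
    rw [hb]
    congr 1
    show dite _ _ _ = _
    rw [dif_pos (show ((Fin.castLE hr i : Fin N) : ℕ) < r from i.2)]
    exact congrArg (fun j => (u j)⁻¹) (Fin.ext rfl)
  have hspan : Submodule.span A (Set.range e') =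
      W4c6katofilta.logForms1 (fun i : Fin r => x (Fin.castLE hr i)) u := by
    refine le_antisymm (Submodule.span_le.2 ?_) (Submodule.span_le.2 ?_)
    · rintro _ ⟨j, rfl⟩
      rcases j with i | k
      · by_cases h : (i : ℕ) < r
        · have hi : Fin.castLE hr ⟨i, h⟩ = i := Fin.ext rfl
          exact Submodule.subset_span (Or.inr ⟨⟨i, h⟩, (hw ⟨i, h⟩).symm.trans (congrArg (fun j => e' (Sum.inl j)) hi)⟩)
        · refine Submodule.subset_span (Or.inl ⟨b (Sum.inl i), ?_⟩)
          show _ = w _ • f (b _)
          simp [w, h, hf]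
      · refine Submodule.subset_span (Or.inl ⟨b (Sum.inr k), ?_⟩)
        show _ = w _ • f (b _)
        simp [w, hf]
    · rintro _ (⟨z, rfl⟩ | ⟨i, rfl⟩)
      · have hz : z ∈ Submodule.span A (Set.range b) := by rw [b.span_eq]; exact Submodule.mem_top
        refine (Submodule.span_le (p := (Submodule.span A (Set.range e')).comap f)).2 ?_ hz
        rintro _ ⟨j, rfl⟩
        show f (b j) ∈ Submodule.span A (Set.range e')
        rcases j with i | k
        · by_cases h : (i : ℕ) < r
          · have hi : Fin.castLE hr ⟨i, h⟩ = i := Fin.ext rfl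
            have : f (b (Sum.inl i)) = x i • e' (Sum.inl i) := by
              have h2 := hw ⟨i, h⟩
              rw [hi] at h2
              rw [h2, hb, ← smul_comm, Units.smul_def, ← algebraMap_smul B (x i)]
              have h3 := hu ⟨i, h⟩
              rw [hi] at h3
              rw [← h3, smul_smul, Units.inv_mul, one_smul]
            rw [this]
            exact Submodule.smul_mem _ _ (Submodule.subset_span ⟨_, rfl⟩)
          · refine Submodule.subset_span ⟨Sum.inl i, ?_⟩
            show w _ • f (b _) = _
            simp [w, h]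
        · refine Submodule.subset_span ⟨Sum.inr k, ?_⟩
          show w _ • f (b _) = _
          simp [w]
      · exact Submodule.subset_span ⟨_, hw i⟩
  refine ⟨(Module.Basis.span hliA).map (LinearEquiv.ofEq _ _ hspan), fun i => ?_, fun i hi => ?_, fun k => ?_⟩
  · rw [Module.Basis.map_apply]
    exact (Module.Basis.coe_span_apply hliA _).trans (hw i)
  · rw [Module.Basis.map_apply]
    refine (Module.Basis.coe_span_apply hliA _).trans ?_
    show w _ • f (b _) = _
    rw [hb]
    simp [w, Nat.not_lt.2 hi, hf]
  · rw [Module.Basis.map_apply]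
    refine (Module.Basis.coe_span_apply hliA _).trans ?_
    show w _ • f (b _) = _
    simp [w, hf]

end Groth.Agent.S19273
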