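import Groth.Statements.S19274
import Groth.Agent.Lib.WittFiltr.Basic
import Mathlib

set_option autoImplicit false
universe u
open WittFil

namespace Groth.Agent.S19274

/-- Let A be a unique factorisation domain of characteristic p, x a prime element of A, B = A[1/x] with
u the unit of B defined by x, m ≥ 1, and n an integer NOT divisible by p^m. For e in B and k ≥ 0
write fil_k(e) for the set of truncated p-typical Witt vectors of length k over B whose j-th
coordinate y_j satisfies y_j ^ (p ^ (k−1−j)) · e ∈ A for all j < k (the filtered piece; fil_k(u^n)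
is the piece of index n). Then fil_{m+1}(u^n) is contained in fil_{m+1}(u^(n−1)) + V(fil_m(u^n))
(the reverse inclusion is immediate): every a in fil_{m+1}(u^n) can be written a = b + V(y) with b
in fil_{m+1}(u^(n−1)) and y a Witt vector over B whose length-m truncation lies in fil_m(u^n), V(y)
being truncated to length m+1. (In the source A is a henselian discrete valuation ring, n = p^r·l >
1 with p not dividing l, and the condition reads m ≥ r + 1.) -/
theorem result (p : ℕ) [Fact p.Prime]
    {A B : Type u} [CommRing A] [IsDomain A] [UniqueFactorizationMonoid A] [CharP A p]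
    [CommRing B] [Algebra A B] (x : A) (hx : Prime x) [IsLocalization.Away x B] (u : Bˣ)
    (hu : (u : B) = algebraMap A B x) (m : ℕ) (hm : 0 < m) (n : ℤ) (hn : ¬ ((p : ℤ) ^ m ∣ n)) :
    ∀ a ∈ WittFil.fil p (m + 1) (A := A) ((u ^ n : Bˣ) : B),
      ∃ b ∈ WittFil.fil p (m + 1) (A := A) ((u ^ (n - 1) : Bˣ) : B),
        ∃ y : WittVector p B,
          WittVector.truncate m y ∈ WittFil.fil p m (A := A) ((u ^ n : Bˣ) : B) ∧
            a = b + WittVector.truncate (m + 1) (WittVector.verschiebung y) := by
  have hp : 0 < p := (Fact.out : p.Prime).pos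
  haveI hloc : IsLocalization.Away (∏ _i : Fin 1, x) B := by rw [Fin.prod_univ_one]; infer_instance
  have hxa : ∀ i j : Fin 1, Associated x x → i = j := fun i j _ => Subsingleton.elim i j
  have key : ∀ (y : B) (P : ℕ), 0 < P → ∀ k : ℤ,
      (y ^ P * ((u ^ k : Bˣ) : B) ∈ (algebraMap A B).range ↔ y * ((u ^ (k / (P : ℤ)) : Bˣ) : B) ∈ (algebraMap A B).range) := fun y P hP k => by
    have h := GrothLib.WittFiltr.pow_mul_mem_iff (fun _ : Fin 1 => x) (fun _ => hx) hxa (fun _ => u) (fun _ => hu) y P hP (fun _ => k)
    simpa [WittFil.zmon] using h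
  intro a ha
  obtain ⟨X, rfl⟩ := WittVector.truncate_surjective p (m + 1) B a
  refine ⟨WittVector.truncate (m + 1) (WittVector.teichmuller p (X.coeff 0)), fun j => ?_, X.shift 1, fun j => ?_, ?_⟩
  · rw [WittVector.coeff_truncate]
    rcases Nat.eq_zero_or_pos (j : ℕ) with h0 | h0
    · have h := ha 0
      rw [WittVector.coeff_truncate, Fin.val_zero, Nat.sub_zero, Nat.add_sub_cancel] at h
      rw [h0, WittVector.teichmuller_coeff_zero, Nat.sub_zero, Nat.add_sub_cancel, key _ _ (pow_pos hp _)]
      rw [key _ _ (pow_pos hp _)] at h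
      have hk : (n - 1) / ((p ^ m : ℕ) : ℤ) = n / ((p ^ m : ℕ) : ℤ) := by
        push_cast
        have hpos : (0 : ℤ) < (p : ℤ) ^ m := by positivity
        have h1 := Int.emod_lt_of_pos n hpos
        have h2 := Int.emod_nonneg n hpos.ne'
        have h3 : n % (p : ℤ) ^ m ≠ 0 := fun hh => hn (Int.dvd_of_emod_eq_zero hh)
        rw [show n - 1 = (n % (p : ℤ) ^ m - 1) + n / (p : ℤ) ^ m * (p : ℤ) ^ m by
          linarith [Int.mul_ediv_add_emod n ((p : ℤ) ^ m), mul_comm ((p : ℤ) ^ m) (n / (p : ℤ) ^ m)],
          Int.add_mul_ediv_right _ _ hpos.ne', Int.ediv_eq_zero_of_lt (by omega) (by omega), zero_add]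
      rw [hk]
      exact h
    · rw [WittVector.teichmuller_coeff_pos p _ _ h0, zero_pow (pow_ne_zero _ hp.ne'), zero_mul]
      exact Subring.zero_mem _
  · have h := ha j.succ
    rw [WittVector.coeff_truncate, Fin.val_succ, show m + 1 - 1 - ((j : ℕ) + 1) = m - 1 - (j : ℕ) by omega] at h
    rw [WittVector.coeff_truncate, WittVector.shift_coeff, add_comm 1 (j : ℕ)]
    exact h
  · rw [← map_add, ← GrothLib.DispRigid.eq_teich_add]

end Groth.Agent.S19274
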