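import Groth.Statements.S19275
import Mathlib.RingTheory.Flat.Basic
import Mathlib.LinearAlgebra.TensorProduct.RightExactness
import Mathlib.LinearAlgebra.Isomorphisms

set_option autoImplicit false
universe u v w
open Hoch

namespace Groth.Agent.S19275

open TensorProduct in
/-- In the case of an affine group scheme over a field (a K-groupoid acting on Spec K itself),
cohomology commutes with arbitrary base change. Precisely: let K be a field, A a commutative Hopf
algebra over K (the coordinate ring of an affine K-group scheme G), V a right A-comodule (a linear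
representation of G) and R any commutative K-algebra. Give R ⊗ V the base-changed comodule structure
over the R-bialgebra R ⊗ A, whose coaction sends r ⊗ v to the image of r ⊗ ρ(v) under the canonical
identification of R ⊗ (V ⊗ A) with (R ⊗ V) ⊗_R (R ⊗ A), and let φ_n : R ⊗ C^n(A, V) → C^n(R ⊗ A, R ⊗
V) be the canonical R-linear maps between the Hochschild cochain modules, determined by φ_0 = id and
φ_{n+1}(r ⊗ (c ⊗ a)) = φ_n(r ⊗ c) ⊗ (1 ⊗ a). Then every φ_n is bijective, the φ_n commute with the
Hochschild differentials, and for every n there is an R-linear isomorphism R ⊗ H^n(A, V) ≅ H^n(R ⊗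
A, R ⊗ V) sending r ⊗ [z] to [φ_n(r ⊗ z)] for every n-cocycle z. (The published statement is for an
affine K-groupoid acting on the spectrum of a finite extension L of K and its coherent
representations, with K of characteristic 0; this is its case L = K, in which the cochain complex of
a representation is the Hochschild complex of the comodule; V is not assumed finite-dimensional and
K may be any field.) -/
theorem result
    (K : Type u) [Field K] (A : Type v) [CommRing A] [HopfAlgebra K A]
    (V : Type v) [AddCommGroup V] [Module K V] [HopfRep.Comod K A V]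
    (R : Type w) [CommRing R] [Algebra K R]
    (φ : ∀ n : ℕ, R ⊗[K] (Hoch.cochain K A V n) →ₗ[R] (Hoch.cochain R (R ⊗[K] A) (R ⊗[K] V) n))
    (hφ0 : ∀ x : R ⊗[K] V, φ 0 x = x)
    (hφs : ∀ (n : ℕ) (r : R) (c : Hoch.cochain K A V n) (a : A),
      φ (n + 1) (r ⊗ₜ[K] (c ⊗ₜ[K] a)) = (φ n (r ⊗ₜ[K] c)) ⊗ₜ[R] ((1 : R) ⊗ₜ[K] a)) :
    letI := CoactBr.Comod.baseChange K R A V
    (∀ n : ℕ, Function.Bijective (φ n)) ∧
    (∀ (n : ℕ) (x : R ⊗[K] (Hoch.cochain K A V n)),
        φ (n + 1) ((Hoch.d K A V n).baseChange R x) = Hoch.d R (R ⊗[K] A) (R ⊗[K] V) n (φ n x)) ∧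
      ∀ n : ℕ, ∃ e : R ⊗[K] Hoch.H K A V n ≃ₗ[R] Hoch.H R (R ⊗[K] A) (R ⊗[K] V) n,
        ∀ (r : R) (z : Hoch.cocycles K A V n)
          (hz : φ n (r ⊗ₜ[K] (z : Hoch.cochain K A V n)) ∈ Hoch.cocycles R (R ⊗[K] A) (R ⊗[K] V) n),
          e (r ⊗ₜ[K] Hoch.H.mk K A V n z) = Hoch.H.mk R (R ⊗[K] A) (R ⊗[K] V) n ⟨φ n (r ⊗ₜ[K] (z : Hoch.cochain K A V n)), hz⟩ := by
  letI := CoactBr.Comod.baseChange K R A V
  let E : ∀ n : ℕ, R ⊗[K] (Hoch.cochain K A V n) ≃ₗ[R] (Hoch.cochain R (R ⊗[K] A) (R ⊗[K] V) n) :=
    Nat.rec (LinearEquiv.refl R _) fun n e =>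
      (TensorProduct.AlgebraTensorModule.distribBaseChange K R (Hoch.cochain K A V n) A).trans
        (TensorProduct.congr e (LinearEquiv.refl R _))
  have hφE : ∀ n, ∀ x, φ n x = E n x := by
    intro n
    induction n with
    | zero => exact fun x => hφ0 x
    | succ n ih =>
      intro x
      induction x using TensorProduct.induction_on with
      | zero => rw [map_zero, map_zero]
      | tmul r y =>
        induction y using TensorProduct.induction_on with
        | zero => rw [TensorProduct.tmul_zero, map_zero, map_zero]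
        | tmul c a =>
          rw [hφs, ih]
          rfl
        | add p q hp hq => rw [TensorProduct.tmul_add, map_add, map_add, hp, hq]
      | add p q hp hq => rw [map_add, map_add, hp, hq]
  have hbij : ∀ n, Function.Bijective (φ n) := fun n => by
    rw [show ⇑(φ n) = ⇑(E n) from funext (hφE n)]; exact (E n).bijective
  have hcomm : ∀ (n : ℕ) (x : R ⊗[K] (Hoch.cochain K A V n)),
      φ (n + 1) ((Hoch.d K A V n).baseChange R x) = Hoch.d R (R ⊗[K] A) (R ⊗[K] V) n (φ n x) := by
    intro n
    induction n with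
    | zero =>
      intro x
      induction x using TensorProduct.induction_on with
      | zero => simp only [map_zero]
      | tmul r v =>
        rw [LinearMap.baseChange_tmul, Hoch.d_zero_apply, hφ0, Hoch.d_zero_apply, TensorProduct.tmul_sub, map_sub,
          hφs, hφ0, CoactBr.baseChange_coact_tmul]
        congr 1
        generalize HopfRep.Comod.coact (k := K) (A := A) v = t
        induction t using TensorProduct.induction_on with
        | zero => simp
        | tmul b a =>
          rw [hφs, hφ0]
          change _ = ((1 : R) ⊗ₜ[K] b) ⊗ₜ[R] (r ⊗ₜ[K] a)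
          rw [show r ⊗ₜ[K] b = r • ((1 : R) ⊗ₜ[K] b) by rw [TensorProduct.smul_tmul', smul_eq_mul, mul_one],
            show r ⊗ₜ[K] a = r • ((1 : R) ⊗ₜ[K] a) by rw [TensorProduct.smul_tmul', smul_eq_mul, mul_one],
            TensorProduct.smul_tmul]
        | add p q hp hq => simp only [TensorProduct.tmul_add, map_add, hp, hq]
      | add p q hp hq => simp only [map_add, hp, hq]
    | succ n ih =>
      have ht : ∀ (r : R) (c : Hoch.cochain K A V n) (a : A),
          φ (n + 2) (r ⊗ₜ[K] Hoch.tail K A (Hoch.cochain K A V n) (c ⊗ₜ[K] a)) =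
            Hoch.tail R (R ⊗[K] A) (Hoch.cochain R (R ⊗[K] A) (R ⊗[K] V) n) (φ n (r ⊗ₜ[K] c) ⊗ₜ[R] ((1 : R) ⊗ₜ[K] a)) := by
        intro r c a
        have key : ∀ t : A ⊗[K] A, φ (n + 2) (r ⊗ₜ[K] (TensorProduct.assoc K _ A A).symm (c ⊗ₜ[K] t)) =
            (TensorProduct.assoc R _ _ _).symm (φ n (r ⊗ₜ[K] c) ⊗ₜ[R]
              (TensorProduct.AlgebraTensorModule.distribBaseChange K R A A ((1 : R) ⊗ₜ[K] t))) := by
          intro t
          induction t using TensorProduct.induction_on with
          | zero => simp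
          | tmul p q => rw [TensorProduct.assoc_symm_tmul, hφs, hφs]; rfl
          | add p q hp hq => simp only [TensorProduct.tmul_add, map_add, hp, hq]
        rw [Hoch.tail_tmul, Hoch.tail_tmul, key]
        have e : TensorProduct.AlgebraTensorModule.distribBaseChange K R A A ((1 : R) ⊗ₜ[K] Coalgebra.comul (R := K) a) =
            Coalgebra.comul (R := R) ((1 : R) ⊗ₜ[K] a) := by
          rw [TensorProduct.comul_tmul]
          simp only [CommSemiring.comul_apply]
          generalize Coalgebra.comul (R := K) a = t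
          induction t using TensorProduct.induction_on with
          | zero => simp
          | tmul p q => rfl
          | add p q hp hq => simp only [TensorProduct.tmul_add, map_add, hp, hq]
        simp only [TensorProduct.tmul_sub, map_sub, e]
        rfl
      intro x
      induction x using TensorProduct.induction_on with
      | zero => simp only [map_zero]
      | tmul r y =>
        induction y using TensorProduct.induction_on with
        | zero => simp only [TensorProduct.tmul_zero, map_zero]
        | tmul c a =>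
          have ih' := ih (r ⊗ₜ[K] c)
          rw [LinearMap.baseChange_tmul] at ih'
          rw [LinearMap.baseChange_tmul, Hoch.d_succ, Hoch.d_succ, LinearMap.add_apply, LinearMap.smul_apply,
            LinearMap.rTensor_tmul, TensorProduct.tmul_add, map_add, hφs, ih', TensorProduct.tmul_smul,
            ← algebraMap_smul R ((-1 : K) ^ (n + 1)), map_smul, ht, map_pow, map_neg, map_one, hφs]
          rfl
        | add p q hp hq => simp only [TensorProduct.tmul_add, map_add, hp, hq]
      | add p q hp hq => simp only [map_add, hp, hq]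
  refine ⟨hbij, hcomm, fun n => ?_⟩
  let B' := Hoch.coboundaries R (R ⊗[K] A) (R ⊗[K] V) n
  let q := (Hoch.coboundaries K A V n).mkQ
  have hB' : ∀ (m : ℕ) x, φ m x ∈ Hoch.coboundaries R (R ⊗[K] A) (R ⊗[K] V) m ↔
      (Hoch.coboundaries K A V m).mkQ.baseChange R x = 0 := by
    intro m x
    cases m with
    | zero =>
      have h := Module.Flat.lTensor_preserves_injective_linearMap (M := R) (Hoch.coboundaries K A V 0).mkQ
        (LinearMap.ker_eq_bot.1 (Submodule.ker_mkQ _))
      refine ⟨fun hx => ?_, fun hx => ?_⟩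
      · rw [(hbij 0).1 ((Submodule.mem_bot R).1 hx |>.trans (map_zero _).symm), map_zero]
      · have h0 : x = 0 := h (hx.trans (map_zero _).symm)
        rw [h0, map_zero]; exact zero_mem _
    | succ m =>
      have h := lTensor_exact R (LinearMap.exact_map_mkQ_range (Hoch.d K A V m)) (Submodule.mkQ_surjective _) x
      refine ⟨fun ⟨y, hy⟩ => ?_, fun hx => ?_⟩
      · obtain ⟨c, rfl⟩ := (hbij m).2 y
        rw [← hcomm] at hy
        exact h.2 ⟨c, (hbij (m + 1)).1 hy⟩
      · obtain ⟨c, hc⟩ := h.1 hx
        exact ⟨φ m c, (hcomm m c).symm.trans (congrArg _ hc)⟩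
  have hB : ∀ x, φ n x ∈ B' ↔ q.baseChange R x = 0 := hB' n
  let Z := Hoch.cocycles K A V n
  let Z' := Hoch.cocycles R (R ⊗[K] A) (R ⊗[K] V) n
  let i := Z.subtype.baseChange R
  have hex := Module.Flat.lTensor_exact R (LinearMap.exact_subtype_ker_map (Hoch.d K A V n))
  have hi : Function.Injective i := Module.Flat.lTensor_preserves_injective_linearMap (M := R) _ Subtype.val_injective
  have hmem : ∀ z, φ n (i z) ∈ Z' := fun z => by
    refine LinearMap.mem_ker.2 ?_
    rw [← hcomm, show (Hoch.d K A V n).baseChange R (i z) = 0 from (hex (i z)).2 ⟨z, rfl⟩, map_zero]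
  let g : R ⊗[K] Z →ₗ[R] Z' := (φ n ∘ₗ i).codRestrict Z' hmem
  have hgs : Function.Surjective g := fun ⟨w, hw⟩ => by
    obtain ⟨x, rfl⟩ := (hbij n).2 w
    have h0 : (Hoch.d K A V n).baseChange R x = 0 := (hbij (n + 1)).1 (by rw [hcomm, map_zero]; exact hw)
    obtain ⟨z, rfl⟩ := (hex x).1 h0
    exact ⟨z, rfl⟩
  let Φ := Hoch.H.mk R (R ⊗[K] A) (R ⊗[K] V) n ∘ₗ g
  let Ψ := (Hoch.H.mk K A V n).baseChange R
  have hΦ : Function.Surjective Φ := (Submodule.mkQ_surjective _).comp hgs
  have hΨ : Function.Surjective Ψ := LinearMap.lTensor_surjective R (Submodule.mkQ_surjective _)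
  let W := (Hoch.coboundaries K A V n).comap Z.subtype
  have hker : LinearMap.ker Φ = LinearMap.ker Ψ := by
    ext z
    have h1 : Φ z = 0 ↔ φ n (i z) ∈ B' := (Submodule.Quotient.mk_eq_zero _)
    have hq : LinearMap.ker (q ∘ₗ Z.subtype) = W := by rw [LinearMap.ker_comp, Submodule.ker_mkQ]
    have hex1 : Function.Exact W.subtype (q ∘ₗ Z.subtype) :=
      LinearMap.exact_iff.2 (by rw [hq, Submodule.range_subtype])
    have h2 := Module.Flat.lTensor_exact R hex1 z
    have h3 := lTensor_exact R (LinearMap.exact_subtype_mkQ W) (Submodule.mkQ_surjective _) z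
    rw [LinearMap.mem_ker, LinearMap.mem_ker, h1, hB]
    have h4 : q.baseChange R (i z) = (q ∘ₗ Z.subtype).lTensor R z := by
      rw [LinearMap.lTensor_comp]; rfl
    rw [h4]
    exact h2.trans h3.symm
  let e := (LinearMap.quotKerEquivOfSurjective Ψ hΨ).symm ≪≫ₗ Submodule.quotEquivOfEq _ _ hker.symm ≪≫ₗ
    LinearMap.quotKerEquivOfSurjective Φ hΦ
  refine ⟨e, fun r z hz => ?_⟩
  have he : (LinearMap.quotKerEquivOfSurjective Ψ hΨ).symm (r ⊗ₜ[K] Hoch.H.mk K A V n z) =
      Submodule.Quotient.mk (r ⊗ₜ[K] z) := by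
    rw [LinearEquiv.symm_apply_eq]
    rfl
  change LinearMap.quotKerEquivOfSurjective Φ hΦ (Submodule.quotEquivOfEq _ _ hker.symm _) = _
  erw [he]
  rfl


end Groth.Agent.S19275
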