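import Groth.Statements.S19278
import Groth.Agent.Lib.GrpAlgCyc.Basic
import Mathlib

set_option autoImplicit false
universe u v
open GrpAlg

namespace Groth.Agent.S19278

/-- Let `M` be a commutative group, `B₀` a subgroup of finite index, `B` a subgroup of finite index with
`M ⧸ B` cyclic and `B₀` not contained in `B`, and `Λ` a commutative ring in which the indices of
`B₀` and `B` are invertible. Then the localization of the `Λ[M]`-module `Λ[M ⧸ B₀]` at the
multiplicative subset of `Λ[M]` of elements with image `1` in `Λ[M ⧸ B]/(Φ_{|M/B|})` is zero. (In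
terms of group schemes: for a finite closed subgroup T' = D(M/B₀) of the diagonalizable group with
character group `M` and a dual cyclic subgroup σ = D(M/B) not contained in T', the representation
ring of T' with coefficients in `Λ` vanishes after localization at σ. The published statement has a
split torus and `Λ = ℤ[1/N]`; here `M` is any commutative group and `Λ` any commutative ring in
which the orders of T' and σ are invertible.) -/
theorem result (Λ : Type u) [CommRing Λ]
    (M : Type v) [AddCommGroup M] (B₀ B : AddSubgroup M) [B₀.FiniteIndex] [B.FiniteIndex]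
    [IsAddCyclic (M ⧸ B)] (hle : ¬ B₀ ≤ B) (hu : IsUnit ((B₀.index * B.index : ℕ) : Λ)) :
    Subsingleton (LocalizedModule (W4c6equivkfinstab.locSubmonoid Λ M B)
      (AddMonoidAlgebra Λ (M ⧸ B₀))) := by
  obtain ⟨s, hs, hs'⟩ := GrothLib.GrpAlgCyc.exists_sep_quot Λ B₀ B hle (isUnit_of_dvd_unit (Nat.cast_dvd_cast (dvd_mul_left _ _)) hu)
  refine GrothLib.GrpAlgCyc.subsingleton_loc Λ B hs fun n => ?_
  show W4c6equivkfinstab.quotMap Λ M B₀ s * n = 0
  rw [hs', zero_mul]

end Groth.Agent.S19278
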