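import Groth.Statements.S19279
import Groth.Agent.Lib.GrpAlgCyc.Basic
import Mathlib

set_option autoImplicit false
universe u v
open GrpAlg

namespace Groth.Agent.S19279

/-- Let `M` be a commutative group, `B₀` a subgroup of finite index and `Λ` a commutative ring in which
the index of `B₀` is invertible. Then the `Λ[M]`-linear map from `Λ[M ⧸ B₀]` to the product, over
the subgroups `B ⊇ B₀` with `M ⧸ B` cyclic, of the localizations of `Λ[M ⧸ B₀]` at the
multiplicative subsets of `Λ[M]` of elements with image `1` in `Λ[M ⧸ B]/(Φ_{|M/B|})`, with
components the localization maps, is bijective. (In terms of group schemes: for a finite closed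
subgroup T' = D(M/B₀) of the diagonalizable group with character group `M`, the representation ring
of T' with coefficients in `Λ` is the product of its localizations at the dual cyclic subgroups of
T'. The published statement has a split torus and `Λ = ℤ[1/|T'|]`; here `M` is any commutative group
and `Λ` any commutative ring in which the order of T' is invertible.) -/
theorem result (Λ : Type u) [CommRing Λ]
    (M : Type v) [AddCommGroup M] (B₀ : AddSubgroup M) [B₀.FiniteIndex]
    (hu : IsUnit ((B₀.index : ℕ) : Λ)) :
    Function.Bijective (LinearMap.pi (R := AddMonoidAlgebra Λ M)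
      fun B : {B : AddSubgroup M // B₀ ≤ B ∧ IsAddCyclic (M ⧸ B)} =>
        LocalizedModule.mkLinearMap (W4c6equivkfinstab.locSubmonoid Λ M B.1)
          (AddMonoidAlgebra Λ (M ⧸ B₀))) := by
  exact GrothLib.GrpAlgCyc.loc_bijective Λ B₀ hu

end Groth.Agent.S19279
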