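import Groth.Statements.S19280
import Groth.Agent.Lib.Repr.DiagConj
-- import your own Groth.Agent.* helpers here

set_option autoImplicit false
universe u
open CategoryTheory MonoidalCategory CartesianMonoidalCategory MonObj GrpObj AlgebraicGeometry
open AlgGrp

namespace Groth.Agent.S19280

/-- Let `k` be a field with an algebraic closure `K`, `m ≥ 0`, `n > 0`, and let `σ`, `τ` be closed
subgroup schemes of `GL_{m,k}`, each isomorphic as a `k`-group scheme to `μ_n = D(ℤ/n)`. If after
base change to `K` there are a `K`-point `g` of `GL_m` and an isomorphism `σ_K ≅ τ_K` through which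
conjugation by `g` carries the inclusion of `σ_K` to that of `τ_K`, then there are already a
`k`-rational point of `GL_{m,k}` and an isomorphism `σ ≅ τ` with the same property. (This is the
first of the two rationality conditions, stated for all dual cyclic subgroups rather than only for
those with a fixed point on a given algebraic space, which is what the printed argument establishes
and which gives the printed statement for every action of `GL_m`.) -/
theorem result (k : Type u) [Field k]
    (K : Type u) [Field K] [Algebra k K] [IsAlgClosure k K] (m n : ℕ) (hn : 0 < n)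
    (σ τ : Over (Spec (CommRingCat.of k))) [GrpObj σ] [GrpObj τ]
    (i : σ ⟶ CoactBr.sp k (CoordGrp.GLn m k)) (j : τ ⟶ CoactBr.sp k (CoordGrp.GLn m k))
    [IsMonHom i] [IsMonHom j] (hi : IsClosedImmersion i.left) (hj : IsClosedImmersion j.left)
    (hσ : Red.IsSplitTorusWith (ZMod n) σ) (hτ : Red.IsSplitTorusWith (ZMod n) τ)
    (h : ∃ (g : 𝟙_ (Over (Spec (CommRingCat.of K))) ⟶
        Red.bc (Spec.map (CommRingCat.ofHom (algebraMap k K))) (CoactBr.sp k (CoordGrp.GLn m k)))
      (φ : Red.bc (Spec.map (CommRingCat.ofHom (algebraMap k K))) σ ≅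
        Red.bc (Spec.map (CommRingCat.ofHom (algebraMap k K))) τ),
      AGF.conjBy g ((Over.pullback (Spec.map (CommRingCat.ofHom (algebraMap k K)))).map i) =
        φ.hom ≫ (Over.pullback (Spec.map (CommRingCat.ofHom (algebraMap k K)))).map j) :
    ∃ (g : 𝟙_ (Over (Spec (CommRingCat.of k))) ⟶ CoactBr.sp k (CoordGrp.GLn m k)) (φ : σ ≅ τ),
      AGF.conjBy g i = φ.hom ≫ j := by
  open GrothLib.Repr in
  haveI : NeZero n := ⟨hn.ne'⟩
  classical
  obtain ⟨eσ, heσ, heσ'⟩ := GrothLib.Repr.exists_chart hσ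
  obtain ⟨eτ, heτ, heτ'⟩ := GrothLib.Repr.exists_chart hτ
  obtain ⟨g₀, φ, hφ⟩ := h
  open GrothLib.Repr in
  let α : dsch k (ZMod n) ⟶ GLsch k m := eσ.inv ≫ i
  open GrothLib.Repr in
  let β : dsch k (ZMod n) ⟶ GLsch k m := eτ.inv ≫ j
  haveI : Mono i := (Over.forget _).mono_of_mono_map (inferInstanceAs (Mono i.left))
  haveI : Mono j := (Over.forget _).mono_of_mono_map (inferInstanceAs (Mono j.left))
  haveI : IsMonHom α := inferInstanceAs (IsMonHom (eσ.inv ≫ i))
  haveI : IsMonHom β := inferInstanceAs (IsMonHom (eτ.inv ≫ j))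
  haveI : Mono α := inferInstanceAs (Mono (eσ.inv ≫ i))
  haveI : Mono β := inferInstanceAs (Mono (eτ.inv ≫ j))
  let A := GrothLib.Repr.dWeight α
  let B := GrothLib.Repr.dWeight β
  have hA : GrothLib.Repr.IsIdemFamily A := GrothLib.Repr.isIdemFamily_dWeight α
  have hB : GrothLib.Repr.IsIdemFamily B := GrothLib.Repr.isIdemFamily_dWeight β
  open GrothLib.Repr in
  let P : VecGrp.pt k K ⟶ GLsch k m := (qPt (K := K) (R := K) _).symm ((selfPt K).inv ≫ g₀)
  open GrothLib.Repr in
  have hg₀ : g₀ = (selfPt K).hom ≫ qPt (K := K) (R := K) _ P := by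
    rw [Equiv.apply_symm_apply]
    exact ((selfPt K).hom_inv_id_assoc g₀).symm
  let G := GrothLib.Repr.pMat P
  let G' := GrothLib.Repr.pMat P⁻¹
  have hGG : G' * G = 1 ∧ G * G' = 1 := GrothLib.Repr.pMat_inv_mul P
  let A' := fun a => G * (A a).map (algebraMap k K) * G'
  let B' := fun a => (B a).map (algebraMap k K)
  have hA'i : GrothLib.Repr.IsIdemFamily A' := by
    refine ⟨fun a b => ?_, ?_⟩
    · simp only [A']
      have e : G * (A a).map (algebraMap k K) * G' * (G * (A b).map (algebraMap k K) * G') =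
          G * (A a * A b).map (algebraMap k K) * G' := by
        simp only [Matrix.map_mul, Matrix.mul_assoc]
        rw [← Matrix.mul_assoc G', hGG.1, Matrix.one_mul]
      rw [e, hA.mul]
      split_ifs with hab
      · rfl
      · rw [Matrix.map_zero _ (map_zero _), Matrix.mul_zero, Matrix.zero_mul]
    · simp only [A', ← Matrix.sum_mul, ← Matrix.mul_sum]
      rw [show ∑ a, (A a).map (algebraMap k K) = 1 by
        rw [← Matrix.map_one (algebraMap k K) (map_zero _) (map_one _), ← hA.sum]
        exact (map_sum (algebraMap k K).mapMatrix A Finset.univ).symm, Matrix.mul_one, hGG.2]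
  have hB'i : GrothLib.Repr.IsIdemFamily B' := by
    refine ⟨fun a b => ?_, ?_⟩
    · simp only [B', ← Matrix.map_mul, hB.mul]
      split_ifs
      · rfl
      · rw [Matrix.map_zero _ (map_zero _)]
    · rw [← Matrix.map_one (algebraMap k K) (map_zero _) (map_one _), ← hB.sum]
      exact (map_sum (algebraMap k K).mapMatrix B Finset.univ).symm
  open GrothLib.Repr in
  have hA'd : ∀ (R : Type u) [CommRing R] [Algebra K R] [Algebra k R] [IsScalarTower k K R]
      (χ : Multiplicative (ZMod n) →* R), dMat A' χ = G.map (algebraMap K R) * dMat A χ * G'.map (algebraMap K R) :=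
    fun R _ _ _ _ χ => by rw [← conj_dMat (k := K) G G' (fun a => (A a).map (algebraMap k K)), dMat_tower]
  open GrothLib.Repr in
  have hA'f : Faithful A' := fun R _ _ χ χ' hh => by
    letI := towerAlg k K R
    haveI : IsScalarTower k K R := IsScalarTower.of_algebraMap_eq' rfl
    refine faithful_of_mono α R ?_
    rw [hA'd, hA'd] at hh
    have h1 : G'.map (algebraMap K R) * G.map (algebraMap K R) = 1 := by
      rw [← Matrix.map_mul, hGG.1, Matrix.map_one _ (map_zero _) (map_one _)]
    have h2 := congrArg (fun X => G'.map (algebraMap K R) * X * G.map (algebraMap K R)) hh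
    simp only [Matrix.mul_assoc, h1, Matrix.mul_one] at h2
    simpa only [← Matrix.mul_assoc, h1, Matrix.one_mul] using h2
  open GrothLib.Repr in
  have hB'f : Faithful B' := fun R _ _ χ χ' hh => by
    letI := towerAlg k K R
    haveI : IsScalarTower k K R := IsScalarTower.of_algebraMap_eq' rfl
    refine faithful_of_mono β R ?_
    rw [dMat_tower, dMat_tower] at hh
    exact hh
  open GrothLib.Repr in
  have key : ∀ (R : Type u) [CommRing R] [Algebra K R] [Algebra k R] [IsScalarTower k K R]
      (u : VecGrp.pt k R ⟶ σ) (v : VecGrp.pt k R ⟶ τ), qPt (K := K) σ u ≫ φ.hom = qPt τ v →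
      dMat A' ((dPt k (ZMod n)).symm (u ≫ eσ.hom)) = dMat B' ((dPt k (ZMod n)).symm (v ≫ eτ.hom)) := by
    intro R _ _ _ _ u v huv
    have h1 := congrArg (qPt (K := K) σ u ≫ ·) hφ
    rw [hg₀, conjBy_pullback_qPt, ← Category.assoc, huv, qPt_comp] at h1
    have h2 := congrArg pMat ((qPt (K := K) _).injective h1)
    rw [pMat_mul, pMat_mul, ← map_pMat, show (VecGrp.ptMap (IsScalarTower.toAlgHom k K R) ≫ P)⁻¹ =
      VecGrp.ptMap (IsScalarTower.toAlgHom k K R) ≫ P⁻¹ from (GrpObj.comp_inv _ _).symm, ← map_pMat] at h2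
    have ha : pMat (u ≫ i) = dMat A ((dPt k (ZMod n)).symm (u ≫ eσ.hom)) := by
      refine Eq.trans ?_ (matOf_dPt α _)
      simp [matOf, α]
    have hb : pMat (v ≫ j) = dMat B ((dPt k (ZMod n)).symm (v ≫ eτ.hom)) := by
      refine Eq.trans ?_ (matOf_dPt β _)
      simp [matOf, β]
    rw [ha, hb] at h2
    rw [hA'd, dMat_tower]
    exact h2
  open GrothLib.Repr in
  obtain ⟨c, hc⟩ := exists_equiv hA'i hB'i hA'f hB'f
    (fun R _ _ χ => by
      letI := towerAlg k K R
      haveI : IsScalarTower k K R := IsScalarTower.of_algebraMap_eq' rfl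
      have h1 := key R (dPt k (ZMod n) χ ≫ eσ.inv) ((qPt (K := K) τ).symm (qPt σ (dPt k (ZMod n) χ ≫ eσ.inv) ≫ φ.hom))
        (Equiv.apply_symm_apply _ _).symm
      rw [Category.assoc, eσ.inv_hom_id, Category.comp_id, MulEquiv.symm_apply_apply] at h1
      exact ⟨_, h1⟩)
    (fun R _ _ χ => by
      letI := towerAlg k K R
      haveI : IsScalarTower k K R := IsScalarTower.of_algebraMap_eq' rfl
      have h1 := key R ((qPt (K := K) σ).symm (qPt τ (dPt k (ZMod n) χ ≫ eτ.inv) ≫ φ.inv)) (dPt k (ZMod n) χ ≫ eτ.inv)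
        (by rw [Equiv.apply_symm_apply, Category.assoc, φ.inv_hom_id, Category.comp_id])
      rw [Category.assoc, eτ.inv_hom_id, Category.comp_id, MulEquiv.symm_apply_apply] at h1
      exact ⟨_, h1.symm⟩)
  open GrothLib.Repr in
  have hrank : ∀ a, (A a).rank = (B (c.symm a)).rank := fun a => by
    rw [← rank_map_of_idempotent (algebraMap k K) (A a) (by rw [hA.mul, if_pos rfl]),
      ← rank_map_of_idempotent (algebraMap k K) (B (c.symm a)) (by rw [hB.mul, if_pos rfl]),
      ← rank_conj G G' ((A a).map (algebraMap k K)) hGG.1]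
    have e := hc (c.symm a)
    rw [c.apply_symm_apply] at e
    exact congrArg Matrix.rank e
  have hBc : GrothLib.Repr.IsIdemFamily (fun a => B (c.symm a)) :=
    ⟨fun a b => by simp only [hB.mul, c.symm.injective.eq_iff], (Equiv.sum_comp c.symm.toEquiv B).trans hB.sum⟩
  obtain ⟨g, g', hgg, -, hgc⟩ := GrothLib.Repr.exists_conj hA hBc hrank
  obtain ⟨p, hp⟩ := GrothLib.Repr.exists_point g g' hgg
  open GrothLib.Repr in
  refine ⟨(selfPt k).hom ≫ p, eσ ≪≫ dsIso c ≪≫ eτ.symm, hom_ext_pts fun R _ _ u => pMat_injective ?_⟩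
  open GrothLib.Repr in
  obtain ⟨χ, hχ⟩ := (dPt k (ZMod n)).surjective (u ≫ eσ.hom)
  open GrothLib.Repr in
  have hq : toUnit (VecGrp.pt k R) ≫ (selfPt k).hom ≫ p = VecGrp.ptMap (Algebra.ofId k R) ≫ p := by
    rw [← Category.assoc, toUnit_selfPt]
  open GrothLib.Repr in
  have hg' : pMat p⁻¹ = g' := by
    have h1 := (pMat_inv_mul p).1
    rw [hp] at h1
    exact left_inv_eq_right_inv h1 hgg
  open GrothLib.Repr in
  rw [AGF.conjBy, MonObj.comp_mul, MonObj.comp_mul, GrpObj.comp_inv, ← Category.assoc u (toUnit σ), comp_toUnit, hq,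
    pMat_mul, pMat_mul, ← GrpObj.comp_inv, ← map_pMat, ← map_pMat, hp, hg',
    show pMat (u ≫ i) = dMat A χ by refine Eq.trans ?_ (matOf_dPt α χ); simp [matOf, α, hχ],
    show (g.map (Algebra.ofId k R)) = g.map (algebraMap k R) from rfl,
    show (g'.map (Algebra.ofId k R)) = g'.map (algebraMap k R) from rfl, conj_dMat,
    show (fun a => g * A a * g') = fun a => B (c.symm a) from funext hgc, dMat_comp]
  open GrothLib.Repr in
  refine (matOf_dPt β _).symm.trans ?_
  open GrothLib.Repr in
  rw [← dPt_DSmap, hχ]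
  simp [matOf, β, GrothLib.Repr.dsIso]

end Groth.Agent.S19280
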