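import Groth.Statements.S19281
import Groth.Agent.Lib.Repr.DiagTower
import Groth.Agent.Lib.Repr.Quotient
-- import your own Groth.Agent.* helpers here

set_option autoImplicit false
universe u
open CategoryTheory MonoidalCategory CartesianMonoidalCategory MonObj GrpObj AlgebraicGeometry
open AlgGrp

namespace Groth.Agent.S19281

/-- Let `k` be a field with an algebraic closure `K`, `m ≥ 0`, `n > 0`, and let `σ'` be a closed
subgroup scheme of the base change of `GL_{m,k}` to `K` which is isomorphic as a `K`-group scheme to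
`μ_n = D(ℤ/n)`. Then there are a closed subgroup scheme `σ` of `GL_{m,k}` isomorphic to `μ_n` over
`k`, a `K`-point `g` of `GL_m` and an isomorphism `σ' ≅ σ_K` through which conjugation by `g`
carries the inclusion of `σ'` to the base change of the inclusion of `σ`. (This is the second
rationality condition, stated for all dual cyclic subgroups rather than only for those with a fixed
point on a given algebraic space, which is what the printed argument establishes and which gives the
printed statement for every action of `GL_m`.) -/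
theorem result (k : Type u) [Field k]
    (K : Type u) [Field K] [Algebra k K] [IsAlgClosure k K] (m n : ℕ) (hn : 0 < n)
    (σ' : Over (Spec (CommRingCat.of K))) [GrpObj σ']
    (i' : σ' ⟶ Red.bc (Spec.map (CommRingCat.ofHom (algebraMap k K))) (CoactBr.sp k (CoordGrp.GLn m k)))
    [IsMonHom i'] (hi' : IsClosedImmersion i'.left) (hσ' : Red.IsSplitTorusWith (ZMod n) σ') :
    ∃ (σ : Over (Spec (CommRingCat.of k))) (_ : GrpObj σ) (i : σ ⟶ CoactBr.sp k (CoordGrp.GLn m k))
      (_ : IsMonHom i), IsClosedImmersion i.left ∧ Red.IsSplitTorusWith (ZMod n) σ ∧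
      ∃ (g : 𝟙_ (Over (Spec (CommRingCat.of K))) ⟶
          Red.bc (Spec.map (CommRingCat.ofHom (algebraMap k K))) (CoactBr.sp k (CoordGrp.GLn m k)))
        (φ : σ' ≅ Red.bc (Spec.map (CommRingCat.ofHom (algebraMap k K))) σ),
        AGF.conjBy g i' = φ.hom ≫ (Over.pullback (Spec.map (CommRingCat.ofHom (algebraMap k K)))).map i := by
  open GrothLib.Repr in
  haveI : NeZero n := ⟨hn.ne'⟩
  classical
  obtain ⟨eσ, heσ, heσ'⟩ := GrothLib.Repr.exists_chart hσ'
  obtain ⟨θ, hθm, hθmono, hθ⟩ := GrothLib.Repr.exists_glTower k K m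
  obtain ⟨δ, hδ⟩ := GrothLib.Repr.exists_dsTower k K (ZMod n)
  haveI : Mono i' := (Over.forget _).mono_of_mono_map (inferInstanceAs (Mono i'.left))
  open GrothLib.Repr in
  let α : dsch K (ZMod n) ⟶ GLsch K m := eσ.inv ≫ i' ≫ θ
  haveI : IsMonHom α := inferInstanceAs (IsMonHom (eσ.inv ≫ i' ≫ θ))
  haveI : Mono α := inferInstanceAs (Mono (eσ.inv ≫ i' ≫ θ))
  let A := GrothLib.Repr.dWeight α
  have hA : GrothLib.Repr.IsIdemFamily A := GrothLib.Repr.isIdemFamily_dWeight α
  obtain ⟨E, hE, hEr⟩ := GrothLib.Repr.exists_diag (k := k) hA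
  let E' := fun a => (E a).map (algebraMap k K)
  have hE' : GrothLib.Repr.IsIdemFamily E' := by
    refine ⟨fun a b => ?_, ?_⟩
    · simp only [E', ← Matrix.map_mul, hE.mul]
      split_ifs
      · rfl
      · rw [Matrix.map_zero _ (map_zero _)]
    · rw [← Matrix.map_one (algebraMap k K) (map_zero _) (map_one _), ← hE.sum]
      exact (map_sum (algebraMap k K).mapMatrix E Finset.univ).symm
  obtain ⟨g, g', hgg, hg'g, hgc⟩ := GrothLib.Repr.exists_conj hA hE' (fun a => by
    rw [GrothLib.Repr.rank_map_of_idempotent (algebraMap k K) (E a) (by rw [hE.mul, if_pos rfl]), hEr])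
  obtain ⟨β, hβm, hβ⟩ := GrothLib.Repr.exists_hom_of_idem hE
  open GrothLib.Repr in
  have hfE : Faithful E := by
    intro R _ _ χ χ' hh
    let f : R →ₐ[k] TensorProduct k K R := Algebra.TensorProduct.includeRight
    have hinj : Function.Injective f :=
      Algebra.TensorProduct.includeRight_injective (algebraMap k K).injective
    have hc : ∀ ψ : Multiplicative (ZMod n) →* TensorProduct k K R,
        g.map (algebraMap K _) * dMat A ψ * g'.map (algebraMap K _) = dMat E ψ := fun ψ => by
      rw [conj_dMat, show (fun a => g * A a * g') = E' from funext hgc, dMat_tower]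
    have h1 := congrArg (fun X : Matrix (Fin m) (Fin m) R => X.map f) hh
    simp only [map_dMat, ← hc] at h1
    have h2 := congrArg (fun X => g'.map (algebraMap K (TensorProduct k K R)) * X * g.map (algebraMap K _)) h1
    have hone : g'.map (algebraMap K (TensorProduct k K R)) * g.map (algebraMap K _) = 1 := by
      rw [← Matrix.map_mul, hg'g, Matrix.map_one _ (map_zero _) (map_one _)]
    simp only [Matrix.mul_assoc, hone, Matrix.mul_one] at h2
    simp only [← Matrix.mul_assoc, hone, Matrix.one_mul] at h2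
    have h3 := faithful_of_mono α _ h2
    exact MonoidHom.ext fun a => hinj congr($h3 a)
  haveI : Mono β := GrothLib.Repr.mono_of_faithful hfE β hβ
  open GrothLib.Repr in
  haveI : LocallyOfFiniteType (GLsch k m).hom := (GrothLib.Repr.finiteType_GLsch (k := k) (N := m))
  haveI : IsAffineHom (GrothLib.Repr.dsch k (ZMod n)).hom :=
    MorphismProperty.of_isPullback (P := @IsAffineHom) (IsPullback.of_hasPullback _ _) (inferInstanceAs (IsAffineHom (Spec.map (CommRingCat.ofHom (algebraMap (ULift.{u} ℤ) (MonoidAlgebra (ULift.{u} ℤ) (Multiplicative (ZMod n))))))))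
  haveI : QuasiCompact (GrothLib.Repr.dsch k (ZMod n)).hom := inferInstance
  open GrothLib.Repr in
  let p : VecGrp.pt k K ⟶ GLsch k m :=
    Spec.mapMulEquiv (WithConv.toConv (GrothLib.HMG.ofMat (k := k) g (Matrix.isUnit_det_of_right_inverse hgg)))
  have hp : GrothLib.Repr.pMat p = g :=
    (GrothLib.Repr.pMat_mapMulEquiv _).trans (GrothLib.HMG.mat_ofMat _ _)
  open GrothLib.Repr in
  have hp' : pMat p⁻¹ = g' := by
    have h1 := (pMat_inv_mul p).1
    rw [hp] at h1
    exact left_inv_eq_right_inv h1 hgg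
  open GrothLib.Repr in
  refine ⟨dsch k (ZMod n), inferInstance, β, hβm, GrothLib.MonoHom.isClosedImmersion_left β,
    ⟨Iso.refl _⟩, (selfPt K).hom ≫ qPt (K := K) (R := K) _ p, eσ ≪≫ δ, ?_⟩
  open GrothLib.Repr in
  refine hom_ext_pts fun R _ _ u => ?_
  letI := GrothLib.Repr.towerAlg k K R
  haveI : IsScalarTower k K R := IsScalarTower.of_algebraMap_eq' rfl
  open GrothLib.Repr in
  obtain ⟨χ, hχ⟩ := (dPt K (ZMod n)).surjective (u ≫ eσ.hom)
  open GrothLib.Repr in
  obtain ⟨w, hw⟩ := (qPt (k := k) (K := K) (GLsch k m)).surjective (u ≫ i')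
  open GrothLib.Repr in
  have hq : toUnit (VecGrp.pt K R) ≫ (selfPt K).hom ≫ qPt (K := K) (R := K) _ p =
      qPt (K := K) _ (VecGrp.ptMap (IsScalarTower.toAlgHom k K R) ≫ p) := by
    rw [← Category.assoc, toUnit_selfPt, qPt_natural]
    rfl
  open GrothLib.Repr in
  have hL : u ≫ AGF.conjBy ((selfPt K).hom ≫ qPt (K := K) (R := K) _ p) i' =
      qPt (K := K) _ ((VecGrp.ptMap (IsScalarTower.toAlgHom k K R) ≫ p) * w *
        (VecGrp.ptMap (IsScalarTower.toAlgHom k K R) ≫ p)⁻¹) := by
    rw [AGF.conjBy, MonObj.comp_mul, MonObj.comp_mul, GrpObj.comp_inv, ← Category.assoc u (toUnit σ'),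
      comp_toUnit, hq, ← hw]
    exact (((map_mul (qPtHom (K := K) (GLsch k m)) _ _).trans (congrArg₂ (· * ·)
      (map_mul (qPtHom (K := K) (GLsch k m)) _ _) (map_inv (qPtHom (K := K) (GLsch k m)) _)))).symm
  open GrothLib.Repr in
  rw [hL, Iso.trans_hom, ← Category.assoc, ← Category.assoc, ← hχ, hδ, qPt_comp]
  open GrothLib.Repr in
  refine congrArg (qPt (K := K) (GLsch k m)) (pMat_injective ?_)
  open GrothLib.Repr in
  have hwm : pMat w = dMat A χ := by
    rw [← hθ R w, hw]
    refine Eq.trans ?_ (matOf_dPt α χ)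
    simp [matOf, α, hχ]
  open GrothLib.Repr in
  rw [pMat_mul, pMat_mul, ← GrpObj.comp_inv, ← map_pMat, ← map_pMat, hp, hp', hwm,
    show g.map (IsScalarTower.toAlgHom k K R) = g.map (algebraMap K R) from rfl,
    show g'.map (IsScalarTower.toAlgHom k K R) = g'.map (algebraMap K R) from rfl, conj_dMat,
    show (fun a => g * A a * g') = E' from funext hgc, dMat_tower]
  exact (hβ R χ).symm

end Groth.Agent.S19281
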