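import Groth.Statements.S19282
import Groth.Agent.Lib.DegOne28.Near

set_option autoImplicit false
universe u
open scoped TensorProduct
open NumberField

namespace Groth.Agent.S19282

/-- Take number fields k ⊆ L with L finite over k, and finite sets S_f (of finite places of k) and S_∞
(of infinite places of k); and for each v in S_f ∪ S_∞ let t_v be a nonzero element of the
completion k_v which is a norm from the k_v-algebra k_v ⊗_k L, together with an open neighbourhood
U_v of t_v in k_v. Then there is a nonzero t ∈ k whose image in k_v lies in U_v for every v ∈ S_f ∪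
S_∞ and such that, for every finite place v of k outside S_f, either t is a unit at v or L admits a
k-algebra embedding into k_v (equivalently, L has a place of degree 1 over v). -/
theorem result (k L : Type u) [Field k] [NumberField k]
    [Field L] [NumberField L] [Algebra k L]
    (Sf : Finset (IsDedekindDomain.HeightOneSpectrum (NumberField.RingOfIntegers k)))
    (Si : Finset (NumberField.InfinitePlace k))
    (tf : (v : IsDedekindDomain.HeightOneSpectrum (NumberField.RingOfIntegers k)) → v.adicCompletion k)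
    (ti : (w : NumberField.InfinitePlace k) → w.Completion)
    (htf : ∀ v ∈ Sf, tf v ≠ 0 ∧ ∃ x : (v.adicCompletion k) ⊗[k] L, Algebra.norm (v.adicCompletion k) x = tf v)
    (hti : ∀ w ∈ Si, ti w ≠ 0 ∧ ∃ x : w.Completion ⊗[k] L, Algebra.norm w.Completion x = ti w)
    (Uf : (v : IsDedekindDomain.HeightOneSpectrum (NumberField.RingOfIntegers k)) → Set (v.adicCompletion k))
    (hUf : ∀ v ∈ Sf, IsOpen (Uf v) ∧ tf v ∈ Uf v)
    (Ui : (w : NumberField.InfinitePlace k) → Set w.Completion)
    (hUi : ∀ w ∈ Si, IsOpen (Ui w) ∧ ti w ∈ Ui w) :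
    ∃ t : k, t ≠ 0 ∧ (∀ v ∈ Sf, algebraMap k (v.adicCompletion k) t ∈ Uf v) ∧
      (∀ w ∈ Si, algebraMap k w.Completion t ∈ Ui w) ∧
      ∀ v : IsDedekindDomain.HeightOneSpectrum (NumberField.RingOfIntegers k), v ∉ Sf →
        v.valuation k t = 1 ∨ Nonempty (L →ₐ[k] v.adicCompletion k) := by
  obtain ⟨v₀, hv₀, hLv₀⟩ := GrothLib.DegOne28.exists_degreeOne (k := k) L Sf
  obtain ⟨t, h0, h1, h2, -, h3⟩ := GrothLib.DegOne28.near L Sf Si tf ti htf hti Uf hUf Ui hUi v₀ hv₀ hLv₀
  exact ⟨t, h0, h1, h2, h3⟩

end Groth.Agent.S19282
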