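import Groth.Statements.S19284
import Groth.Agent.Lib.NumFld28.Affine

set_option autoImplicit false
universe u
open NumberField

namespace Groth.Agent.S19284

/-- Let L/K be a finite extension of number fields and Ω an algebraic closure of K. Suppose that L/K is
almost abelian in the non-abelian way: for some prime number p there is a bijection between the set
of K-embeddings L → Ω and Z/p under which every K-automorphism of Ω acts by an affine transformation
x ↦ a x + b with a ≠ 0, and L/K is not an abelian extension (it is not Galois with commutative
automorphism group). Then there is an intermediate extension K ⊂ E ⊂ Ω contained in the normal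
closure of L, Galois over K with nontrivial cyclic group, such that for every finite place w of K
which is unramified in L (every prime of the integers of L above w has ramification index 1), either
E admits a K-algebra embedding into the completion K_w (since E/K is Galois: w splits completely in
E) or L admits a K-algebra embedding into K_w (L has a place of degree 1 over w). (Only finite
places are treated here.) -/
theorem result (K L Ω : Type u) [Field K] [NumberField K]
    [Field L] [NumberField L] [Algebra K L] [Field Ω] [Algebra K Ω] [IsAlgClosure K Ω]
    (p : ℕ) (hp : p.Prime) (e : (L →ₐ[K] Ω) ≃ ZMod p)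
    (haff : ∀ σ : Ω ≃ₐ[K] Ω, ∃ a b : ZMod p, a ≠ 0 ∧
      ∀ φ : L →ₐ[K] Ω, e (σ.toAlgHom.comp φ) = a * e φ + b)
    (hnab : IsGalois K L → ∃ σ τ : L ≃ₐ[K] L, σ * τ ≠ τ * σ) :
    ∃ E : IntermediateField K Ω, E ≤ IntermediateField.normalClosure K L Ω ∧
      FiniteDimensional K E ∧ IsGalois K E ∧ IsCyclic (E ≃ₐ[K] E) ∧ 1 < Module.finrank K E ∧
      ∀ w : IsDedekindDomain.HeightOneSpectrum (NumberField.RingOfIntegers K),
        (∀ P : Ideal (NumberField.RingOfIntegers L), P.IsPrime → P.LiesOver w.asIdeal →
          P.ramificationIdx (NumberField.RingOfIntegers K) = 1) →
        Nonempty (E →ₐ[K] w.adicCompletion K) ∨ Nonempty (L →ₐ[K] w.adicCompletion K) := by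
  exact GrothLib.NumFld28.main K L Ω p hp e haff hnab

end Groth.Agent.S19284
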