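import Groth.Statements.S19285
import Groth.Agent.Lib.LocSplit28.Pair

set_option autoImplicit false
universe u
open scoped TensorProduct
open NumberField

namespace Groth.Agent.S19285

/-- A conjectured statement on locally split values of the polynomials t − a_i holds unconditionally
when the degrees [k_i : k] sum to at most 2. Precisely: let k be a number field, n ≥ 1, and for each
i let k_i = k(a_i) be a finite extension generated by a_i, the minimal polynomials of the a_i over k
being pairwise distinct and the degrees [k_i : k] summing to at most 2; let L_i/k_i be finite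
extensions and b_i ∈ k_i nonzero. Let S_f, S_∞ be finite sets of finite and infinite places of k
such that S_∞ contains every real place and S_f contains every finite place of k below a finite
place of some k_i at which b_i is not a unit or below a prime of some L_i ramified over k_i. For v ∈
S_f ∪ S_∞ let t_v ∈ k_v, with an open neighbourhood U_v, be such that for every i the element b_i
(t_v − a_i) of k_v ⊗_k k_i is the norm of a unit of the (k_v ⊗_k k_i)-algebra k_v ⊗_k L_i. Then
there is t_0 ∈ k whose image lies in U_v for all v ∈ S_f ∪ S_∞ and such that for every i and every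
finite place w of k_i at which t_0 − a_i has positive valuation, either w lies above a place of S_f
or L_i admits a k_i-algebra embedding into the completion (k_i)_w (a place of L_i of degree 1 over
w). -/
theorem result (k : Type u) [Field k] [NumberField k]
    (n : ℕ) (hn : 1 ≤ n)
    (kf : Fin n → Type u) [∀ i, Field (kf i)] [∀ i, NumberField (kf i)] [∀ i, Algebra k (kf i)]
    (Lf : Fin n → Type u) [∀ i, Field (Lf i)] [∀ i, NumberField (Lf i)] [∀ i, Algebra (kf i) (Lf i)]
    [∀ i, Algebra k (Lf i)] [∀ i, IsScalarTower k (kf i) (Lf i)]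
    (a : (i : Fin n) → kf i) (ha : ∀ i, IntermediateField.adjoin k {a i} = ⊤)
    (hdist : ∀ i j, i ≠ j → minpoly k (a i) ≠ minpoly k (a j))
    (hdeg : ∑ i, Module.finrank k (kf i) ≤ 2)
    (b : (i : Fin n) → kf i) (hb : ∀ i, b i ≠ 0)
    (Sf : Finset (IsDedekindDomain.HeightOneSpectrum (NumberField.RingOfIntegers k)))
    (Si : Finset (NumberField.InfinitePlace k))
    (hSreal : ∀ w : NumberField.InfinitePlace k, w.IsReal → w ∈ Si)
    (hSb : ∀ i, ∀ W : IsDedekindDomain.HeightOneSpectrum (NumberField.RingOfIntegers (kf i)),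
      W.valuation (kf i) (b i) ≠ 1 → ∃ v ∈ Sf, W.asIdeal.LiesOver v.asIdeal)
    (hSram : ∀ i, ∀ Q : Ideal (NumberField.RingOfIntegers (Lf i)), Q.IsPrime → Q ≠ ⊥ →
      Q.ramificationIdx (NumberField.RingOfIntegers (kf i)) ≠ 1 → ∃ v ∈ Sf, Q.LiesOver v.asIdeal)
    (tf : (v : IsDedekindDomain.HeightOneSpectrum (NumberField.RingOfIntegers k)) → v.adicCompletion k)
    (ti : (w : NumberField.InfinitePlace k) → w.Completion)
    (htf : ∀ i, ∀ v ∈ Sf,
      letI := (Algebra.TensorProduct.map (AlgHom.id k (v.adicCompletion k))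
        (IsScalarTower.toAlgHom k (kf i) (Lf i))).toRingHom.toAlgebra
      ∃ x : (v.adicCompletion k) ⊗[k] Lf i, IsUnit x ∧
        Algebra.norm ((v.adicCompletion k) ⊗[k] kf i) x =
          (1 : v.adicCompletion k) ⊗ₜ[k] b i * (tf v ⊗ₜ[k] (1 : kf i) - (1 : v.adicCompletion k) ⊗ₜ[k] a i))
    (hti : ∀ i, ∀ w ∈ Si,
      letI := (Algebra.TensorProduct.map (AlgHom.id k w.Completion)
        (IsScalarTower.toAlgHom k (kf i) (Lf i))).toRingHom.toAlgebra
      ∃ x : w.Completion ⊗[k] Lf i, IsUnit x ∧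
        Algebra.norm (w.Completion ⊗[k] kf i) x =
          (1 : w.Completion) ⊗ₜ[k] b i * (ti w ⊗ₜ[k] (1 : kf i) - (1 : w.Completion) ⊗ₜ[k] a i))
    (Uf : (v : IsDedekindDomain.HeightOneSpectrum (NumberField.RingOfIntegers k)) → Set (v.adicCompletion k))
    (hUf : ∀ v ∈ Sf, IsOpen (Uf v) ∧ tf v ∈ Uf v)
    (Ui : (w : NumberField.InfinitePlace k) → Set w.Completion)
    (hUi : ∀ w ∈ Si, IsOpen (Ui w) ∧ ti w ∈ Ui w) :
    ∃ t₀ : k, (∀ v ∈ Sf, algebraMap k (v.adicCompletion k) t₀ ∈ Uf v) ∧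
      (∀ w ∈ Si, algebraMap k w.Completion t₀ ∈ Ui w) ∧
      ∀ i, ∀ W : IsDedekindDomain.HeightOneSpectrum (NumberField.RingOfIntegers (kf i)),
        W.valuation (kf i) (algebraMap k (kf i) t₀ - a i) < 1 →
          (∃ v ∈ Sf, W.asIdeal.LiesOver v.asIdeal) ∨ Nonempty (Lf i →ₐ[kf i] W.adicCompletion (kf i)) := by
  classical
  haveI : ∀ i, FiniteDimensional k (kf i) := fun i => Module.Finite.of_restrictScalars_finite ℚ _ _
  have hgood : ∀ i, GrothLib.LocSplit28.Good (kf i) (Lf i) Sf (b i) := fun i =>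
    GrothLib.LocSplit28.good_of (hSb i) (hSram i)
  have choice : ∀ Z, ∃ v₀ : IsDedekindDomain.HeightOneSpectrum (NumberField.RingOfIntegers k), v₀ ∉ Z ∧
      ∀ i, ∀ W : IsDedekindDomain.HeightOneSpectrum (NumberField.RingOfIntegers (kf i)),
        W.under (NumberField.RingOfIntegers k) = v₀ → Nonempty (Lf i →ₐ[kf i] W.adicCompletion (kf i)) := fun Z =>
    GrothLib.LocSplit28.exists_split_place kf Lf Z
  have hpos : ∀ i, 1 ≤ Module.finrank k (kf i) := fun i => Module.finrank_pos
  have conv : ∀ i, ∀ W : IsDedekindDomain.HeightOneSpectrum (NumberField.RingOfIntegers (kf i)),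
      (W.under (NumberField.RingOfIntegers k) ∈ Sf ∨ Nonempty (Lf i →ₐ[kf i] W.adicCompletion (kf i))) →
        (∃ v ∈ Sf, W.asIdeal.LiesOver v.asIdeal) ∨ Nonempty (Lf i →ₐ[kf i] W.adicCompletion (kf i)) :=
    fun i W h => h.imp_left fun h => ⟨_, h, (GrothLib.LocSplit28.liesOver_iff _ W).mpr rfl⟩
  have hle : n ≤ 2 := by
    refine le_trans ?_ hdeg
    calc n = ∑ _i : Fin n, 1 := by simp
      _ ≤ _ := Finset.sum_le_sum fun i _ => hpos i
  interval_cases n
  · rcases (by have := hpos 0; rw [Fin.sum_univ_one] at hdeg; omega :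
        Module.finrank k (kf 0) = 1 ∨ Module.finrank k (kf 0) = 2) with h | h
    · obtain ⟨v₀, hv₀, hsplit⟩ := choice Sf
      obtain ⟨t, h1, h2, h3⟩ := GrothLib.LocSplit28.caseOne h (a 0) (hb 0) (hgood 0) Si tf ti (htf 0) (hti 0) Uf hUf Ui hUi
        v₀ hv₀ (hsplit 0)
      refine ⟨t, h1, h2, fun i W hW => ?_⟩
      obtain rfl : i = 0 := Subsingleton.elim i 0
      exact conv 0 W (h3 W hW)
    · obtain ⟨t, h1, h2, h3⟩ := GrothLib.LocSplit28.caseTwo h (a 0) (ha 0) (hb 0) (hgood 0) Si tf ti (htf 0) (hti 0) Uf hUf Ui hUi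
        (fun Z => let ⟨v, hv, hs⟩ := choice Z; ⟨v, hv, hs 0⟩)
      refine ⟨t, h1, h2, fun i W hW => ?_⟩
      obtain rfl : i = 0 := Subsingleton.elim i 0
      exact conv 0 W (h3 W hW)
  · obtain ⟨e0, e1⟩ : Module.finrank k (kf 0) = 1 ∧ Module.finrank k (kf 1) = 1 := by
      have := hpos 0; have := hpos 1; rw [Fin.sum_univ_two] at hdeg; omega
    obtain ⟨α, hα⟩ := GrothLib.LocSplit28.exists_eq_algebraMap e0 (a 0)
    obtain ⟨β, hβ⟩ := GrothLib.LocSplit28.exists_eq_algebraMap e1 (a 1)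
    have hne : α ≠ β := fun h => hdist 0 1 (by decide) (by
      rw [← hα, ← hβ, h, minpoly.eq_X_sub_C, minpoly.eq_X_sub_C])
    obtain ⟨t, h1, h2, h3, h4⟩ := GrothLib.LocSplit28.casePair e0 e1 α β hne (b 0) (hb 0) (hgood 0) (b 1) (hb 1) (hgood 1)
      Si tf ti (hα.symm ▸ htf 0) (hα.symm ▸ hti 0) (hβ.symm ▸ htf 1) (hβ.symm ▸ hti 1) Uf hUf Ui hUi
      (fun Z => let ⟨v, hv, hs⟩ := choice Z; ⟨v, hv, hs 0, hs 1⟩)
    refine ⟨t, h1, h2, fun i W hW => ?_⟩
    fin_cases i
    · exact conv _ W (h3 W (by rw [hα]; exact hW))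
    · exact conv _ W (h4 W (by rw [hβ]; exact hW))

end Groth.Agent.S19285
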