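import Groth.Statements.S19286
import Groth.Agent.Lib.LocSplit28.Moebius

set_option autoImplicit false
universe u
open scoped TensorProduct
open NumberField

namespace Groth.Agent.S19286

/-- Invariance, under a linear change of coordinate on the projective line, of the hypotheses (the data
listed next) of a conjecture on locally split values. Data: k a number field, n ≥ 1, k_i = k(a_i)
with pairwise distinct minimal polynomials, L_i/k_i finite, b_i ∈ k_i nonzero, finite sets S_f ⊇
(finite places below a non-unit place of some b_i or a ramified prime of some L_i/k_i), S_∞ ⊇ real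
places, t_v ∈ k_v for v ∈ S_f ∪ S_∞ with b_i(t_v − a_i) the norm of a unit of k_v ⊗_k L_i over k_v
⊗_k k_i. Let α, β, γ, δ ∈ k with αδ − βγ ≠ 0 satisfy: (i) γa_i + δ ≠ 0 for all i and γt_v + δ ≠ 0
for v ∈ S_f ∪ S_∞; (ii) α is a unit at every finite place outside S_f and αa_i + β is a unit at
every finite place of k_i not above S_f; (iii) for every i and v ∈ S_f ∪ S_∞, (αδ − βγ)/(γt_v + δ)
is the norm of a unit of k_v ⊗_k L_i. Put a'_i = (αa_i + β)/(γa_i + δ), b'_i = b_i(γa_i + δ); let
S'_f ⊇ S_f be a finite set of finite places containing those where α or γ is not integral and those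
below a place of some k_i where a'_i is not integral or b'_i is not a unit; put t'_v = (αt_v +
β)/(γt_v + δ) for v ∈ S_f ∪ S_∞ and t'_v = 0 for v ∈ S'_f ∖ S_f; for t'_0 ∈ k with α ≠ γt'_0 write
t_0 = (δt'_0 − β)/(α − γt'_0). Then: (1) for every i and v ∈ S'_f ∪ S_∞, b'_i(t'_v − a'_i) is the
norm of a unit of k_v ⊗_k L_i over k_v ⊗_k k_i; (2) for v ∈ S_f ∪ S_∞ and every neighbourhood U of
t_v there is a neighbourhood U' of t'_v such that t'_0 ∈ U' forces t_0 ∈ U; (4) there are
neighbourhoods U'_v of 0 in k_v for v ∈ S'_f ∖ S_f such that whenever t'_0 ∈ U'_v for all such v,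
every finite place w of some k_i with w(t_0 − a_i) > 0 either lies above S_f, or does not lie above
S'_f and satisfies w(t'_0 − a'_i) > 0. (The published statement's S' may also contain further
infinite places, and it has a further conclusion on signs at real places; both are omitted here.) -/
theorem result (k : Type u) [Field k] [NumberField k]
    (n : ℕ) (hn : 1 ≤ n)
    (kf : Fin n → Type u) [∀ i, Field (kf i)] [∀ i, NumberField (kf i)] [∀ i, Algebra k (kf i)]
    (Lf : Fin n → Type u) [∀ i, Field (Lf i)] [∀ i, NumberField (Lf i)] [∀ i, Algebra (kf i) (Lf i)]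
    [∀ i, Algebra k (Lf i)] [∀ i, IsScalarTower k (kf i) (Lf i)]
    (a : (i : Fin n) → kf i) (ha : ∀ i, IntermediateField.adjoin k {a i} = ⊤)
    (hdist : ∀ i j, i ≠ j → minpoly k (a i) ≠ minpoly k (a j))
    (b : (i : Fin n) → kf i) (hb : ∀ i, b i ≠ 0)
    (Sf : Finset (IsDedekindDomain.HeightOneSpectrum (NumberField.RingOfIntegers k)))
    (Si : Finset (NumberField.InfinitePlace k))
    (hSreal : ∀ w : NumberField.InfinitePlace k, w.IsReal → w ∈ Si)
    (hSb : ∀ i, ∀ W : IsDedekindDomain.HeightOneSpectrum (NumberField.RingOfIntegers (kf i)),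
      W.valuation (kf i) (b i) ≠ 1 → ∃ v ∈ Sf, W.asIdeal.LiesOver v.asIdeal)
    (hSram : ∀ i, ∀ Q : Ideal (NumberField.RingOfIntegers (Lf i)), Q.IsPrime → Q ≠ ⊥ →
      Q.ramificationIdx (NumberField.RingOfIntegers (kf i)) ≠ 1 → ∃ v ∈ Sf, Q.LiesOver v.asIdeal)
    (tf : (v : IsDedekindDomain.HeightOneSpectrum (NumberField.RingOfIntegers k)) → v.adicCompletion k)
    (ti : (w : NumberField.InfinitePlace k) → w.Completion)
    (htf : ∀ i, ∀ v ∈ Sf,
      letI := (Algebra.TensorProduct.map (AlgHom.id k (v.adicCompletion k))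
        (IsScalarTower.toAlgHom k (kf i) (Lf i))).toRingHom.toAlgebra
      ∃ x : (v.adicCompletion k) ⊗[k] Lf i, IsUnit x ∧
        Algebra.norm ((v.adicCompletion k) ⊗[k] kf i) x =
          (1 : v.adicCompletion k) ⊗ₜ[k] b i * (tf v ⊗ₜ[k] (1 : kf i) - (1 : v.adicCompletion k) ⊗ₜ[k] a i))
    (hti : ∀ i, ∀ w ∈ Si,
      letI := (Algebra.TensorProduct.map (AlgHom.id k w.Completion)
        (IsScalarTower.toAlgHom k (kf i) (Lf i))).toRingHom.toAlgebra
      ∃ x : w.Completion ⊗[k] Lf i, IsUnit x ∧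
        Algebra.norm (w.Completion ⊗[k] kf i) x =
          (1 : w.Completion) ⊗ₜ[k] b i * (ti w ⊗ₜ[k] (1 : kf i) - (1 : w.Completion) ⊗ₜ[k] a i))
    (α β γ δ : k) (hdet : α * δ - β * γ ≠ 0)
    (hia : ∀ i, algebraMap k (kf i) γ * a i + algebraMap k (kf i) δ ≠ 0)
    (hitf : ∀ v ∈ Sf, algebraMap k (v.adicCompletion k) γ * tf v + algebraMap k (v.adicCompletion k) δ ≠ 0)
    (hiti : ∀ w ∈ Si, algebraMap k w.Completion γ * ti w + algebraMap k w.Completion δ ≠ 0)
    (hiiα : ∀ v : IsDedekindDomain.HeightOneSpectrum (NumberField.RingOfIntegers k), v ∉ Sf → v.valuation k α = 1)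
    (hiia : ∀ i, ∀ W : IsDedekindDomain.HeightOneSpectrum (NumberField.RingOfIntegers (kf i)),
      (¬ ∃ v ∈ Sf, W.asIdeal.LiesOver v.asIdeal) →
        W.valuation (kf i) (algebraMap k (kf i) α * a i + algebraMap k (kf i) β) = 1)
    (hiiif : ∀ i, ∀ v ∈ Sf,
      letI := (Algebra.TensorProduct.map (AlgHom.id k (v.adicCompletion k))
        (IsScalarTower.toAlgHom k (kf i) (Lf i))).toRingHom.toAlgebra
      ∃ y : (v.adicCompletion k) ⊗[k] Lf i, IsUnit y ∧
        Algebra.norm ((v.adicCompletion k) ⊗[k] kf i) y =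
          (algebraMap k (v.adicCompletion k) (α * δ - β * γ) /
            (algebraMap k (v.adicCompletion k) γ * tf v + algebraMap k (v.adicCompletion k) δ)) ⊗ₜ[k] (1 : kf i))
    (hiiii : ∀ i, ∀ w ∈ Si,
      letI := (Algebra.TensorProduct.map (AlgHom.id k w.Completion)
        (IsScalarTower.toAlgHom k (kf i) (Lf i))).toRingHom.toAlgebra
      ∃ y : w.Completion ⊗[k] Lf i, IsUnit y ∧
        Algebra.norm (w.Completion ⊗[k] kf i) y =
          (algebraMap k w.Completion (α * δ - β * γ) /
            (algebraMap k w.Completion γ * ti w + algebraMap k w.Completion δ)) ⊗ₜ[k] (1 : kf i))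
    (a' b' : (i : Fin n) → kf i)
    (ha' : ∀ i, a' i = (algebraMap k (kf i) α * a i + algebraMap k (kf i) β) /
      (algebraMap k (kf i) γ * a i + algebraMap k (kf i) δ))
    (hb' : ∀ i, b' i = b i * (algebraMap k (kf i) γ * a i + algebraMap k (kf i) δ))
    (Sf' : Finset (IsDedekindDomain.HeightOneSpectrum (NumberField.RingOfIntegers k))) (hSS' : Sf ⊆ Sf')
    (hS'αγ : ∀ v : IsDedekindDomain.HeightOneSpectrum (NumberField.RingOfIntegers k), v ∉ Sf' →
      v.valuation k α ≤ 1 ∧ v.valuation k γ ≤ 1)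
    (hS'ab : ∀ i, ∀ W : IsDedekindDomain.HeightOneSpectrum (NumberField.RingOfIntegers (kf i)),
      (¬ ∃ v ∈ Sf', W.asIdeal.LiesOver v.asIdeal) → W.valuation (kf i) (a' i) ≤ 1 ∧ W.valuation (kf i) (b' i) = 1)
    (tf' : (v : IsDedekindDomain.HeightOneSpectrum (NumberField.RingOfIntegers k)) → v.adicCompletion k)
    (htf'S : ∀ v ∈ Sf, tf' v = (algebraMap k (v.adicCompletion k) α * tf v + algebraMap k (v.adicCompletion k) β) /
      (algebraMap k (v.adicCompletion k) γ * tf v + algebraMap k (v.adicCompletion k) δ))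
    (htf'S' : ∀ v ∈ Sf', v ∉ Sf → tf' v = 0)
    (ti' : (w : NumberField.InfinitePlace k) → w.Completion)
    (hti' : ∀ w ∈ Si, ti' w = (algebraMap k w.Completion α * ti w + algebraMap k w.Completion β) /
      (algebraMap k w.Completion γ * ti w + algebraMap k w.Completion δ)) :
    (∀ i, ∀ v ∈ Sf',
      letI := (Algebra.TensorProduct.map (AlgHom.id k (v.adicCompletion k))
        (IsScalarTower.toAlgHom k (kf i) (Lf i))).toRingHom.toAlgebra
      ∃ x : (v.adicCompletion k) ⊗[k] Lf i, IsUnit x ∧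
        Algebra.norm ((v.adicCompletion k) ⊗[k] kf i) x =
          (1 : v.adicCompletion k) ⊗ₜ[k] b' i * (tf' v ⊗ₜ[k] (1 : kf i) - (1 : v.adicCompletion k) ⊗ₜ[k] a' i)) ∧
    (∀ i, ∀ w ∈ Si,
      letI := (Algebra.TensorProduct.map (AlgHom.id k w.Completion)
        (IsScalarTower.toAlgHom k (kf i) (Lf i))).toRingHom.toAlgebra
      ∃ x : w.Completion ⊗[k] Lf i, IsUnit x ∧
        Algebra.norm (w.Completion ⊗[k] kf i) x =
          (1 : w.Completion) ⊗ₜ[k] b' i * (ti' w ⊗ₜ[k] (1 : kf i) - (1 : w.Completion) ⊗ₜ[k] a' i)) ∧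
    (∀ v ∈ Sf, ∀ U : Set (v.adicCompletion k), IsOpen U → tf v ∈ U →
      ∃ U' : Set (v.adicCompletion k), IsOpen U' ∧ tf' v ∈ U' ∧
        ∀ t₀' : k, α ≠ γ * t₀' → algebraMap k (v.adicCompletion k) t₀' ∈ U' →
          algebraMap k (v.adicCompletion k) ((δ * t₀' - β) / (α - γ * t₀')) ∈ U) ∧
    (∀ w ∈ Si, ∀ U : Set w.Completion, IsOpen U → ti w ∈ U →
      ∃ U' : Set w.Completion, IsOpen U' ∧ ti' w ∈ U' ∧
        ∀ t₀' : k, α ≠ γ * t₀' → algebraMap k w.Completion t₀' ∈ U' →
          algebraMap k w.Completion ((δ * t₀' - β) / (α - γ * t₀')) ∈ U) ∧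
    (∃ U' : (v : IsDedekindDomain.HeightOneSpectrum (NumberField.RingOfIntegers k)) → Set (v.adicCompletion k),
      (∀ v ∈ Sf', v ∉ Sf → IsOpen (U' v) ∧ (0 : v.adicCompletion k) ∈ U' v) ∧
      ∀ t₀' : k, α ≠ γ * t₀' → (∀ v ∈ Sf', v ∉ Sf → algebraMap k (v.adicCompletion k) t₀' ∈ U' v) →
        ∀ i, ∀ W : IsDedekindDomain.HeightOneSpectrum (NumberField.RingOfIntegers (kf i)),
          W.valuation (kf i) (algebraMap k (kf i) ((δ * t₀' - β) / (α - γ * t₀')) - a i) < 1 →
            (∃ v ∈ Sf, W.asIdeal.LiesOver v.asIdeal) ∨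
            ((¬ ∃ v ∈ Sf', W.asIdeal.LiesOver v.asIdeal) ∧
              W.valuation (kf i) (algebraMap k (kf i) t₀' - a' i) < 1)) := by
  classical
  haveI : ∀ i, FiniteDimensional k (kf i) := fun i => Module.Finite.of_restrictScalars_finite ℚ _ _
  haveI : ∀ i, FiniteDimensional (kf i) (Lf i) := fun i => Module.Finite.of_restrictScalars_finite ℚ _ _
  have hgood : ∀ i, GrothLib.LocSplit28.Good (kf i) (Lf i) Sf (b i) := fun i =>
    GrothLib.LocSplit28.good_of (hSb i) (hSram i)
  have hnot : ∀ (S : Finset (IsDedekindDomain.HeightOneSpectrum (NumberField.RingOfIntegers k))) i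
      (W : IsDedekindDomain.HeightOneSpectrum (NumberField.RingOfIntegers (kf i))),
      (¬ ∃ v ∈ S, W.asIdeal.LiesOver v.asIdeal) ↔ W.under (NumberField.RingOfIntegers k) ∉ S := fun S i W =>
    ⟨fun h h' => h ⟨_, h', (GrothLib.LocSplit28.liesOver_iff _ W).mpr rfl⟩,
      fun h ⟨v, hv, hl⟩ => h (((GrothLib.LocSplit28.liesOver_iff v W).mp hl).symm ▸ hv)⟩
  refine ⟨fun i v hv' => ?_, fun i w hw => ?_, fun v hv U hU htU => ?_, fun w hw U hU htU => ?_, ?_⟩
  · by_cases hv : v ∈ Sf
    · have h := GrothLib.LocSplit28.exists_unit_norm_mul (htf i v hv) (hiiif i v hv)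
      rw [GrothLib.LocSplit28.moebius_value (hitf v hv) (hia i)] at h
      rw [htf'S v hv, ha' i, hb' i]
      exact h
    · rw [htf'S' v hv' hv]
      have hc0 : -(b' i * a' i) = -(b i * (algebraMap k (kf i) α * a i + algebraMap k (kf i) β)) := by
        rw [ha' i, hb' i, mul_assoc, mul_div_cancel₀ _ (hia i)]
      have hunit : ∀ W : IsDedekindDomain.HeightOneSpectrum (NumberField.RingOfIntegers (kf i)),
          W.under (NumberField.RingOfIntegers k) = v → W.valuation (kf i) (-(b' i * a' i)) = 1 := fun W hW => by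
        rw [hc0, Valuation.map_neg, map_mul, (hgood i).unit W (hW ▸ hv), hiia i W ((hnot Sf i W).mpr (hW ▸ hv)), one_mul]
      have hne : -(b' i * a' i) ≠ 0 := fun h => by
        obtain ⟨Q, hQ⟩ := Ideal.exists_ideal_over_prime_of_isIntegral v.asIdeal (⊥ : Ideal (NumberField.RingOfIntegers (kf i)))
          (by rw [Ideal.comap_bot_of_injective _ (FaithfulSMul.algebraMap_injective _ _)]; exact bot_le)
        have hQ0 : Q ≠ ⊥ := fun h0 => v.ne_bot (by
          rw [← hQ.2.2, h0, Ideal.comap_bot_of_injective _ (FaithfulSMul.algebraMap_injective _ _)])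
        have := hunit ⟨Q, hQ.2.1, hQ0⟩ (IsDedekindDomain.HeightOneSpectrum.ext hQ.2.2)
        rw [h, map_zero] at this
        exact zero_ne_one this
      have h := GrothLib.LocSplit28.exists_norm_eq (L := Lf i) v (fun W hW => (hgood i).unram W (hW ▸ hv)) _ hne hunit
      rw [mul_sub, TensorProduct.zero_tmul, mul_zero, zero_sub, Algebra.TensorProduct.tmul_mul_tmul, one_mul,
        ← TensorProduct.tmul_neg]
      exact h
  · have h := GrothLib.LocSplit28.exists_unit_norm_mul (hti i w hw) (hiiii i w hw)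
    rw [GrothLib.LocSplit28.moebius_value (hiti w hw) (hia i)] at h
    rw [hti' w hw, ha' i, hb' i]
    exact h
  · rw [htf'S v hv]
    exact GrothLib.LocSplit28.exists_open_pullback _ hdet (hitf v hv) hU htU
  · rw [hti' w hw]
    exact GrothLib.LocSplit28.exists_open_pullback _ hdet (hiti w hw) hU htU
  have hex : ∀ v : IsDedekindDomain.HeightOneSpectrum (NumberField.RingOfIntegers k), ∃ N : ℕ, ∀ x : k,
      v.valuation k x ≤ WithZero.exp (-(N : ℤ)) → v.valuation k (γ * x) < 1 ∧
        ∀ i, ∀ W : IsDedekindDomain.HeightOneSpectrum (NumberField.RingOfIntegers (kf i)),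
          W.under (NumberField.RingOfIntegers k) = v →
            W.valuation (kf i) ((algebraMap k (kf i) γ * a i + algebraMap k (kf i) δ) * algebraMap k (kf i) x) < 1 := fun v => by
    refine ⟨(WithZero.log (v.valuation k γ)).toNat + 1 + ∑ i, ∑ W ∈ (GrothLib.LocSplit28.finite_over (k₁ := kf i) v).toFinset,
      ((WithZero.log (W.valuation (kf i) (algebraMap k (kf i) γ * a i + algebraMap k (kf i) δ))).toNat + 1), fun x hx => ⟨?_, fun i W hW => ?_⟩⟩
    · rw [map_mul]
      rcases eq_or_ne (v.valuation k γ) 0 with h | h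
      · rw [h, zero_mul]; exact zero_lt_one
      · refine (mul_le_mul_right hx _).trans_lt ?_
        rw [← WithZero.exp_log h, ← WithZero.exp_add, ← WithZero.exp_zero, WithZero.exp_lt_exp]
        simp only [WithZero.log_exp] at *
        omega
    · rw [map_mul]
      obtain ⟨e, he, hpow⟩ := GrothLib.LocSplit28.exists_valuation_pow (k := k) W
      have h1 : ((WithZero.log (W.valuation (kf i) (algebraMap k (kf i) γ * a i + algebraMap k (kf i) δ))).toNat + 1) ≤
          ∑ i, ∑ W ∈ (GrothLib.LocSplit28.finite_over (k₁ := kf i) v).toFinset,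
            ((WithZero.log (W.valuation (kf i) (algebraMap k (kf i) γ * a i + algebraMap k (kf i) δ))).toNat + 1) :=
        (Finset.single_le_sum (f := fun W => ((WithZero.log (W.valuation (kf i) (algebraMap k (kf i) γ * a i + algebraMap k (kf i) δ))).toNat + 1))
          (fun _ _ => Nat.zero_le _) ((GrothLib.LocSplit28.finite_over v).mem_toFinset.mpr hW)).trans
          (Finset.single_le_sum (f := fun i => ∑ W ∈ (GrothLib.LocSplit28.finite_over (k₁ := kf i) v).toFinset,
            ((WithZero.log (W.valuation (kf i) (algebraMap k (kf i) γ * a i + algebraMap k (kf i) δ))).toNat + 1))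
            (fun _ _ => Nat.zero_le _) (Finset.mem_univ i))
      have h0 : W.valuation (kf i) (algebraMap k (kf i) γ * a i + algebraMap k (kf i) δ) ≠ 0 :=
        (Valuation.ne_zero_iff _).mpr (hia i)
      rw [hpow, hW]
      refine (mul_le_mul_right ((pow_le_pow_left₀ zero_le hx e).trans (pow_le_of_le_one zero_le
        (by rw [← WithZero.exp_zero, WithZero.exp_le_exp]; omega) he)) _).trans_lt ?_
      rw [← WithZero.exp_log h0, ← WithZero.exp_add, ← WithZero.exp_zero, WithZero.exp_lt_exp]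
      omega
  choose N hN using hex
  choose π hπ using fun v : IsDedekindDomain.HeightOneSpectrum (NumberField.RingOfIntegers k) => v.valuation_exists_uniformizer k
  refine ⟨fun v => {y | Valued.v (algebraMap k (v.adicCompletion k) ((π v)⁻¹ ^ N v) * y - 0) < 1},
    fun v _ _ => ⟨(GrothLib.StrongApproxNF28.isOpen_v_lt_one v 0).preimage (continuous_const.mul continuous_id), by simp⟩,
    fun s hs hU' i W hW => ?_⟩
  by_cases hWS : W.under (NumberField.RingOfIntegers k) ∈ Sf
  · exact Or.inl ⟨_, hWS, (GrothLib.LocSplit28.liesOver_iff _ W).mpr rfl⟩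
  refine Or.inr ?_
  have hd : algebraMap k (kf i) α - algebraMap k (kf i) γ * algebraMap k (kf i) s ≠ 0 := by
    rw [← map_mul, ← map_sub]; exact (_root_.map_ne_zero _).mpr (sub_ne_zero.mpr hs)
  have hW' : W.valuation (kf i) ((algebraMap k (kf i) δ * algebraMap k (kf i) s - algebraMap k (kf i) β) /
      (algebraMap k (kf i) α - algebraMap k (kf i) γ * algebraMap k (kf i) s) - a i) < 1 := by
    simpa only [map_div₀, map_sub, map_mul] using hW
  by_cases hWS' : W.under (NumberField.RingOfIntegers k) ∈ Sf'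
  · exfalso
    have h := hU' _ hWS' hWS
    rw [Set.mem_ofPred_eq, sub_zero, ← map_mul, GrothLib.DegOne28.valued_algebraMap, map_mul, map_pow, map_inv₀, hπ,
      ← WithZero.exp_neg, ← WithZero.exp_nsmul] at h
    have h2 := mul_le_mul_right h.le (WithZero.exp (-(N (W.under (NumberField.RingOfIntegers k)) : ℤ)))
    rw [mul_one, ← mul_assoc, ← WithZero.exp_add, nsmul_eq_mul] at h2
    obtain ⟨hγs, hgs⟩ := hN _ s (by simpa using h2)
    have hα1 : W.valuation (kf i) (algebraMap k (kf i) α) = 1 :=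
      (GrothLib.LocSplit28.val_eq_one_iff W).mpr (hiiα _ hWS)
    have hnum : W.valuation (kf i) ((algebraMap k (kf i) γ * a i + algebraMap k (kf i) δ) * algebraMap k (kf i) s -
        (algebraMap k (kf i) α * a i + algebraMap k (kf i) β)) = 1 := by
      have h1 := hiia i W ((hnot Sf i W).mpr hWS)
      rw [Valuation.map_sub_eq_of_lt_right _ ((hgs i W rfl).trans_eq h1.symm), h1]
    have hden : W.valuation (kf i) (algebraMap k (kf i) α - algebraMap k (kf i) γ * algebraMap k (kf i) s) = 1 := by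
      rw [Valuation.map_sub_eq_of_lt_left _ (by rw [hα1, ← map_mul]; exact (GrothLib.LocSplit28.val_lt_one_iff W).mpr hγs), hα1]
    rw [div_sub' hd, map_div₀, hden, div_one] at hW'
    refine hW'.ne ?_
    rw [← hnum]
    congr 1
    ring
  · refine ⟨(hnot Sf' i W).mpr hWS', ?_⟩
    obtain ⟨ha1, hb1⟩ := hS'ab i W ((hnot Sf' i W).mpr hWS')
    rw [ha' i] at ha1 ⊢
    rw [hb' i] at hb1
    exact GrothLib.LocSplit28.val_moebius_lt_one _ hd (hia i)
      ((GrothLib.LocSplit28.val_le_one_iff W).mpr (hS'αγ _ hWS').1) ((GrothLib.LocSplit28.val_le_one_iff W).mpr (hS'αγ _ hWS').2)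
      ((hgood i).unit W hWS) hb1 ha1 hW'

end Groth.Agent.S19286
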