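import Groth.Statements.S19288
-- import your own Groth.Agent.* helpers here
import Groth.Agent.Lib.EtBasicB.Sections
import Groth.Agent.Lib.Rigidity.Relative.Hom

set_option autoImplicit false
universe u
open CategoryTheory CategoryTheory.Limits MonoidalCategory CartesianMonoidalCategory MonObj AlgebraicGeometry
open AbSch

namespace Groth.Agent.S19288

/-- Let S be a scheme, X a commutative S-group scheme which is etale and separated over S (hence locally
of finite presentation), and P a commutative S-group scheme of finite presentation over S all of
whose fibres are connected. Then every homomorphism of S-group schemes from P to X is trivial (it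
factors through the unit section). -/
theorem result {S : Scheme.{u}} (P X : Over S)
    [GrpObj P] [IsCommMonObj P] [GrpObj X] [IsCommMonObj X]
    [Etale X.hom] [IsSeparated X.hom]
    [QuasiCompact P.hom] [QuasiSeparated P.hom] [LocallyOfFinitePresentation P.hom]
    (hP : ∀ s : S, ConnectedSpace ↥(P.hom.fiber s))
    (f : P ⟶ X) [IsMonHom f] : f = 1 := by
  let e := η[X].left
  have he : e ≫ X.hom = 𝟙 S := Over.w η[X]
  haveI := GrothLib.EtBasicB.isOpenImmersion_section X.hom e he
  have hclopen : IsClopen (f.left.base ⁻¹' Set.range e.base) :=
    ⟨(GrothLib.EtBasicB.isClopen_range_section X.hom e he).1.preimage f.left.continuous,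
      (GrothLib.EtBasicB.isClopen_range_section X.hom e he).2.preimage f.left.continuous⟩
  have hone : η[P].left ≫ f.left = e := by
    rw [← Over.comp_left, IsMonHom.one_hom]
  have hall : Set.range f.left.base ⊆ Set.range e.base := by
    rintro _ ⟨p, rfl⟩
    have hconn : _root_.IsPreconnected (P.hom.base ⁻¹' {P.hom.base p}) := by
      haveI := hP (P.hom.base p)
      have h := isPreconnected_range (P.hom.fiberι (P.hom.base p)).continuous
      rwa [Scheme.Hom.range_fiberι] at h
    refine hconn.subset_isClopen hclopen ⟨η[P].left (P.hom p), ?_, ?_⟩ rfl
    · show P.hom (η[P].left (P.hom p)) = P.hom p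
      rw [GrothLib.Rigidity.left_apply_hom η[P]]
      rfl
    · refine ⟨P.hom p, ?_⟩
      show e (P.hom p) = f.left (η[P].left (P.hom p))
      rw [← hone]
      rfl
  let l := IsOpenImmersion.lift e f.left hall
  have hl : l ≫ e = f.left := IsOpenImmersion.lift_fac _ _ _
  have hl' : l = P.hom := by
    have h := congrArg (· ≫ X.hom) hl
    simpa [he, Category.assoc] using h
  refine Over.OverMorphism.ext ?_
  rw [← GrothLib.Rigidity.toUnit_comp_one', Over.comp_left, GrothLib.Rigidity.toUnit_left, ← hl, hl']

end Groth.Agent.S19288
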