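import Groth.Statements.S19290
-- import your own Groth.Agent.* helpers here
import Groth.Agent.Lib.Rigidity.Smooth.Torus
import Groth.Agent.Lib.GrpSchField.Points

set_option autoImplicit false
universe u
open CategoryTheory CategoryTheory.Limits MonoidalCategory CartesianMonoidalCategory MonObj AlgebraicGeometry
open AbSch

namespace Groth.Agent.S19290

/-- Let S be a scheme, T an S-torus and A an abelian S-scheme (smooth, proper, with connected fibres).
Then the S-sheaf of homomorphisms from T to A is trivial: the internal Hom sheaf, on the big fppf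
site of S, from the abelian sheaf of points of T to that of A is the zero sheaf. -/
theorem result {S : Scheme.{u}} (T A : Over S)
    [GrpObj T] [IsCommMonObj T] (hT : Red.IsTorus T)
    [GrpObj A] [IsCommMonObj A] [Smooth A.hom] [IsProper A.hom]
    (hA : ∀ s : S, ConnectedSpace ↥(A.hom.fiber s)) :
    IsZero (HomSh.homSh (QuotSh.J Scheme.fppfPrecoverage S) (CGrpSh.pts Scheme.fppfPrecoverage T) (CGrpSh.pts Scheme.fppfPrecoverage A)) := by
  let J := QuotSh.J Scheme.fppfPrecoverage S
  let F := CGrpSh.pts Scheme.fppfPrecoverage T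
  let G := CGrpSh.pts Scheme.fppfPrecoverage A
  suffices key : ∀ (X : Over S) (φ : F.over X ⟶ G.over X), φ = 0 by
    rw [IsZero.iff_id_eq_zero]
    exact Sheaf.hom_ext (NatTrans.ext (funext fun X => AddCommGrpCat.ext fun φ => key X.unop φ))
  intro X φ
  have hnat : ∀ {Y Y' : Over X} (m : Y' ⟶ Y) (x : Y.left ⟶ T),
      ((φ.hom.app (Opposite.op Y') (ULift.up (Additive.ofMul (m.left ≫ x)))).down.toMul : Y'.left ⟶ A) =
        m.left ≫ ((φ.hom.app (Opposite.op Y) (ULift.up (Additive.ofMul x))).down.toMul : Y.left ⟶ A) := fun m x =>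
    congrArg (fun z => z.down.toMul) (ConcreteCategory.congr_hom (φ.hom.naturality m.op) (ULift.up (Additive.ofMul x)))
  have hadd : ∀ {Y : Over X} (x x' : Y.left ⟶ T),
      ((φ.hom.app (Opposite.op Y) (ULift.up (Additive.ofMul (x * x')))).down.toMul : Y.left ⟶ A) =
        ((φ.hom.app (Opposite.op Y) (ULift.up (Additive.ofMul x))).down.toMul : Y.left ⟶ A) *
          ((φ.hom.app (Opposite.op Y) (ULift.up (Additive.ofMul x'))).down.toMul : Y.left ⟶ A) := fun x x' =>
    congrArg (fun z => z.down.toMul) (map_add (φ.hom.app (Opposite.op _)).hom (ULift.up (Additive.ofMul x)) (ULift.up (Additive.ofMul x')))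
  let Ym : Over X.left → Over X := fun P => Over.mk (Over.homMk P.hom rfl : (Over.map X.hom).obj P ⟶ X)
  let TX := Red.bc X.hom T
  let pt : (Over.map X.hom).obj TX ⟶ T := (GrothLib.DiagGrp.bcPoint X.hom T TX).symm (𝟙 TX)
  let ψ : (Over.map X.hom).obj TX ⟶ A := (φ.hom.app (Opposite.op (Ym TX)) (ULift.up (Additive.ofMul pt))).down.toMul
  let u : TX ⟶ Red.bc X.hom A := GrothLib.DiagGrp.bcPoint X.hom A TX ψ
  have hu : ∀ {P : Over X.left} (g : P ⟶ TX),
      ((φ.hom.app (Opposite.op (Ym P)) (ULift.up (Additive.ofMul ((GrothLib.DiagGrp.bcPoint X.hom T P).symm g)))).down.toMul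
        : (Over.map X.hom).obj P ⟶ A) = (GrothLib.DiagGrp.bcPoint X.hom A P).symm (g ≫ u) := by
    intro P g
    let m : Ym P ⟶ Ym TX := Over.homMk ((Over.map X.hom).map g) (Over.OverMorphism.ext (Over.w g))
    have e : (GrothLib.DiagGrp.bcPoint X.hom T P).symm g = m.left ≫ pt := by
      apply (GrothLib.DiagGrp.bcPoint X.hom T P).injective
      show _ = GrothLib.DiagGrp.bcPoint X.hom T P ((Over.map X.hom).map g ≫ pt)
      rw [Equiv.apply_symm_apply, GrothLib.DiagGrp.bcPoint_comp, Equiv.apply_symm_apply, Category.comp_id]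
    rw [e]
    refine (hnat m pt).trans ?_
    apply (GrothLib.DiagGrp.bcPoint X.hom A P).injective
    rw [Equiv.apply_symm_apply]
    exact GrothLib.DiagGrp.bcPoint_comp X.hom g ψ
  haveI : IsMonHom u := by
    refine GrothLib.GrpSchField.isMonHom_of_mul u ?_
    have e : μ[TX] = fst TX TX * snd TX TX := by rw [Hom.mul_def, lift_fst_snd, Category.id_comp]
    rw [e, show (u ⊗ₘ u) ≫ μ[Red.bc X.hom A] = (fst TX TX ≫ u) * (snd TX TX ≫ u) by
      rw [Hom.mul_def, ← tensorHom_fst u u, ← tensorHom_snd u u, ← comp_lift_assoc, lift_fst_snd, Category.id_comp]]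
    apply (GrothLib.DiagGrp.bcPointMulEquiv X.hom A _).symm.injective
    rw [map_mul]
    show (GrothLib.DiagGrp.bcPoint X.hom A _).symm _ = (GrothLib.DiagGrp.bcPoint X.hom A _).symm _ *
      (GrothLib.DiagGrp.bcPoint X.hom A _).symm _
    rw [← hu, ← hu, ← hu, show (GrothLib.DiagGrp.bcPoint X.hom T _).symm (fst TX TX * snd TX TX) =
      (GrothLib.DiagGrp.bcPoint X.hom T _).symm (fst TX TX) * (GrothLib.DiagGrp.bcPoint X.hom T _).symm (snd TX TX)
      from map_mul (GrothLib.DiagGrp.bcPointMulEquiv X.hom T _).symm _ _]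
    exact hadd (Y := Ym (TX ⊗ TX)) _ _
  haveI : IsProper (Red.bc X.hom A).hom := inferInstanceAs (IsProper (pullback.snd A.hom X.hom))
  have h1 : u = 1 := GrothLib.Rigidity.hom_eq_one_of_charts TX (Red.bc X.hom A)
    ((GrothLib.Rigidity.hasChartsFpqc_freeM_of_isTorus hT).baseChange X.hom) u
  have hψ : ψ = 1 := by
    apply (GrothLib.DiagGrp.bcPoint X.hom A TX).injective
    exact h1.trans (map_one (GrothLib.DiagGrp.bcPointMulEquiv X.hom A TX)).symm
  refine Sheaf.hom_ext (NatTrans.ext (funext fun Y => AddCommGrpCat.ext fun x => ?_))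
  let x' : Y.unop.left ⟶ T := x.down.toMul
  let l : Y.unop.left ⟶ (Over.map X.hom).obj TX :=
    Over.homMk (pullback.lift x'.left Y.unop.hom.left ((Over.w x').trans (Over.w Y.unop.hom).symm)) (by
      show pullback.lift _ _ _ ≫ pullback.snd T.hom X.hom ≫ X.hom = _
      rw [pullback.lift_snd_assoc, Over.w])
  let m : Y.unop ⟶ Ym TX := Over.homMk l (Over.OverMorphism.ext (pullback.lift_snd _ _ _))
  have e : x' = m.left ≫ pt := by
    apply Over.OverMorphism.ext
    show x'.left = pullback.lift _ _ _ ≫ pt.left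
    have : pt.left = pullback.fst T.hom X.hom := by
      simp [pt, GrothLib.DiagGrp.bcPoint, Adjunction.homEquiv_counit, Over.mapPullbackAdj]
    rw [this, pullback.lift_fst]
  have h2 : ((φ.hom.app Y x).down.toMul : Y.unop.left ⟶ A) = 1 := by
    have hx : x = ULift.up (Additive.ofMul x') := rfl
    rw [hx, e]
    refine (hnat m pt).trans ?_
    show m.left ≫ ψ = 1
    rw [hψ, MonObj.comp_one]
  exact ULift.ext _ _ (congrArg Additive.ofMul h2)

end Groth.Agent.S19290
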