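import Groth.Statements.S19291
-- import your own Groth.Agent.* helpers here
import Groth.Agent.Lib.Rigidity.Relative.AbScheme

set_option autoImplicit false
universe u
open CategoryTheory CategoryTheory.Limits MonoidalCategory CartesianMonoidalCategory MonObj AlgebraicGeometry
open AbSch

namespace Groth.Agent.S19291

/-- Let S be a scheme and A, B, C three abelian S-schemes (smooth proper S-group schemes with connected
fibres). Then the group of homomorphisms from A to the S-sheaf of homomorphisms from B to C is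
trivial: on the big fppf site of S, every morphism of abelian sheaves from the sheaf of points of A
to the internal Hom sheaf of the sheaves of points of B and C is zero (equivalently, there is no
non-zero biadditive morphism from A × B to C). -/
theorem result {S : Scheme.{u}} (A B C : Over S)
    [GrpObj A] [IsCommMonObj A] [Smooth A.hom] [IsProper A.hom]
    (hA : ∀ s : S, ConnectedSpace ↥(A.hom.fiber s))
    [GrpObj B] [IsCommMonObj B] [Smooth B.hom] [IsProper B.hom]
    (hB : ∀ s : S, ConnectedSpace ↥(B.hom.fiber s))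
    [GrpObj C] [IsCommMonObj C] [Smooth C.hom] [IsProper C.hom]
    (hC : ∀ s : S, ConnectedSpace ↥(C.hom.fiber s))
    (φ : (CGrpSh.pts Scheme.fppfPrecoverage A) ⟶ HomSh.homSh (QuotSh.J Scheme.fppfPrecoverage S) (CGrpSh.pts Scheme.fppfPrecoverage B) (CGrpSh.pts Scheme.fppfPrecoverage C)) : φ = 0 := by
  have : GeometricallyConnected A.hom := GrothLib.Rigidity.geometricallyConnected_of_connected_fibers A hA
  have : GeometricallyConnected B.hom := GrothLib.Rigidity.geometricallyConnected_of_connected_fibers B hB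
  have : GeometricallyReduced A.hom := GrothLib.Rigidity.geometricallyReduced_of_smooth' A.hom
  let φA := φ.hom.app (Opposite.op A) (ULift.up (Additive.ofMul (𝟙 A)))
  let β : A ⊗ B ⟶ C :=
    (φA.hom.app (Opposite.op (Over.mk (fst A B))) (ULift.up (Additive.ofMul (snd A B)))).down.toMul
  have hval : ∀ (X : Over S) (a : X ⟶ A) (Y : Over X) (b : Y.left ⟶ B),
      (((φ.hom.app (Opposite.op X) (ULift.up (Additive.ofMul a))).hom.app (Opposite.op Y)
        (ULift.up (Additive.ofMul b))).down.toMul : Y.left ⟶ C) = lift (Y.hom ≫ a) b ≫ β := by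
    intro X a Y b
    have h1 := ConcreteCategory.congr_hom (φ.hom.naturality a.op) (ULift.up (Additive.ofMul (𝟙 A)))
    have e1 : φ.hom.app (Opposite.op X) (ULift.up (Additive.ofMul a)) =
        ((QuotSh.J Scheme.fppfPrecoverage S).overMapPullback AddCommGrpCat.{u + 1} a).map φA := by
      refine Eq.trans ?_ h1
      show φ.hom.app (Opposite.op X) (ULift.up (Additive.ofMul a)) =
        φ.hom.app (Opposite.op X) (ULift.up (Additive.ofMul (a ≫ 𝟙 A)))
      rw [Category.comp_id]
    rw [e1]
    let m : (Over.map a).obj Y ⟶ Over.mk (fst A B) := Over.homMk (lift (Y.hom ≫ a) b) (lift_fst _ _)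
    have h2 := congrArg (fun z => z.down.toMul)
      (ConcreteCategory.congr_hom (φA.hom.naturality m.op) (ULift.up (Additive.ofMul (snd A B))))
    refine Eq.trans ?_ h2
    show _ = (φA.hom.app (Opposite.op ((Over.map a).obj Y))
      (ULift.up (Additive.ofMul (lift (Y.hom ≫ a) b ≫ snd A B)))).down.toMul
    rw [lift_snd]
    rfl
  have hB1 : lift (toUnit B ≫ η[A]) (𝟙 B) ≫ β = (1 : B ⟶ C) := by
    have h := hval B (1 : B ⟶ A) (Over.mk (𝟙 B)) (𝟙 B)
    have e : lift ((Over.mk (𝟙 B)).hom ≫ (1 : B ⟶ A)) (𝟙 B) = lift (toUnit B ≫ η[A]) (𝟙 B) := by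
      rw [GrothLib.Rigidity.toUnit_comp_one']
      exact congrArg (lift · (𝟙 B)) (Category.id_comp _)
    rw [← e]
    refine h.symm.trans ?_
    rw [show φ.hom.app (Opposite.op B) (ULift.up (Additive.ofMul (1 : B ⟶ A))) = 0 from
      map_zero (φ.hom.app (Opposite.op B)).hom]
    rfl
  have hA1 : lift (𝟙 A) (toUnit A ≫ η[B]) ≫ β = (1 : A ⟶ C) := by
    have h := hval A (𝟙 A) (Over.mk (𝟙 A)) (1 : A ⟶ B)
    have e : lift ((Over.mk (𝟙 A)).hom ≫ 𝟙 A) (1 : A ⟶ B) = lift (𝟙 A) (toUnit A ≫ η[B]) := by
      rw [GrothLib.Rigidity.toUnit_comp_one']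
      exact congrArg (lift · _) (Category.comp_id _)
    rw [← e]
    refine h.symm.trans ?_
    exact congrArg (fun z => z.down.toMul)
      (map_zero ((φ.hom.app (Opposite.op A) (ULift.up (Additive.ofMul (𝟙 A)))).hom.app
        (Opposite.op (Over.mk (𝟙 A)))).hom)
  have hβ : β = 1 := by
    rw [GrothLib.Rigidity.eq_mul_of_slices' β η[A] η[B] ?_, hA1, hB1, MonObj.comp_one, MonObj.comp_one,
      _root_.mul_one]
    have e : lift η[A] η[B] ≫ β = η[B] ≫ lift (toUnit B ≫ η[A]) (𝟙 B) ≫ β := by
      rw [comp_lift_assoc, Category.comp_id]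
      congr 2
      rw [← Category.assoc, Subsingleton.elim (η[B] ≫ toUnit B) (𝟙 _), Category.id_comp]
    rw [e, hB1, MonObj.comp_one, Hom.one_def, Subsingleton.elim (toUnit (𝟙_ (Over S))) (𝟙 _), Category.id_comp]
  refine Sheaf.hom_ext (NatTrans.ext (funext fun X => AddCommGrpCat.ext fun x => ?_))
  refine Sheaf.hom_ext (NatTrans.ext (funext fun Y => AddCommGrpCat.ext fun y => ?_))
  refine ULift.ext _ _ (congrArg Additive.ofMul ?_)
  show ((φ.hom.app X x).hom.app Y y).down.toMul = (1 : Y.unop.left ⟶ C)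
  refine (hval X.unop x.down.toMul Y.unop y.down.toMul).trans ?_
  rw [hβ, MonObj.comp_one]

end Groth.Agent.S19291
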