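import Groth.Statements.S1930
-- import your own Groth.Agent.* helpers here
import Groth.Agent.Lib.C1.Fundamental
import Groth.Agent.S1923

set_option autoImplicit false
universe u
open CategoryTheory AlgebraicGeometry
open Cyc

theorem GrothS1930.length_quot_ker {A B : Type u} [CommRing A] [CommRing B] (f : A →+* B) (hf : Function.Surjective f) :
    Module.length A (A ⧸ RingHom.ker f) = Module.length B B := by
  letI := f.toAlgebra
  rw [← Module.length_eq_of_surjective (M := B) (R := B) hf]
  exact ((Algebra.linearMap A B).quotKerEquivOfSurjective hf).length_eq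

namespace Groth.Agent.S1930

/-- Let X be integral with generic point η and δ(η) = n, i : D → X an effective Cartier divisor given as
the zero scheme of a global section s of an invertible module L which is a nonzerodivisor at every
point, N an invertible O_X-module and t ∈ N(η) a nonzero rational section. Then i^*(div_N t) ∼_rat
c_1(N|_D) ∩ [D]_{n−1} as (n − 2)-cycles on D, the right side computed with any nonzero rational
sections of i^*N on D. Here i : D → X is the zero scheme of a global section s of the invertible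
module L (Cyc.IsZeroSchemeOf), the Gysin map i^* : Z_{k+1}(X) → CH_k(D) is computed on coefficient
functions as c_1(L) ∩ − with the rational sections taken to be s where it is nonzero
(Cyc.gysinChoice) and restricted to the points of D, and classes on D are compared up to rational
equivalence on D for the restricted dimension function. Here a pair (X, δ) satisfying Cyc.IsSetup (X
locally Noetherian with universally catenary local rings, δ a dimension function) plays the role of
a scheme locally of finite type over a fixed base equipped with a dimension function. -/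
theorem result (X D : Scheme.{u}) [IsIntegral X] (δ : X → ℤ) (hX : Cyc.IsSetup X δ) (n : ℤ) (hn : δ (genericPoint X) = n) (L : X.Modules) (hL : PicF.IsInvertible L) (s : L.presheaf.obj (Opposite.op ⊤)) (hreg : ∀ x : X, Function.Injective (fun a : X.presheaf.stalk x => a • (L.presheaf.germ ⊤ x trivial) s)) (i : D ⟶ X) [IsClosedImmersion i] (hD : Cyc.IsZeroSchemeOf i L s) (N : X.Modules) (hN : PicF.IsInvertible N) (t : Cyc.secFibre N (genericPoint X)) (ht : t ≠ 0) (w : (ξ : X) → Cyc.secFibre L ξ) (hw : ∀ ξ, w ξ ≠ 0) (u : (d : D) → Cyc.secFibre ((Scheme.Modules.pullback i).obj N) d) (hu : ∀ d, u d ≠ 0) (γ₁ γ₂ : AlgebraicCycle D ℤ) (h₁ : ∀ d : D, γ₁ d = Cyc.c1CapFun δ L (Cyc.secDivFun δ N (genericPoint X) t) (Cyc.gysinChoice L s w) (i d)) (h₂ : ⇑γ₂ = Cyc.c1CapFun (fun d => δ (i d)) ((Scheme.Modules.pullback i).obj N) (Cyc.subschemeFun (fun d => δ (i d)) (n - 1) (𝟙 D)) u) : Cyc.RatEquiv (fun d => δ (i d)) (n - 2) γ₁ γ₂ := by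
  classical
  haveI : IsLocallyNoetherian X := hX.1
  haveI : IsLocallyNoetherian D := LocallyOfFiniteType.isLocallyNoetherian i
  have hδ := hX.2.2
  set η := genericPoint X with hη
  have hgerm : (L.presheaf.germ ⊤ η trivial) s ≠ 0 := fun h => one_ne_zero (α := X.presheaf.stalk η)
    (hreg η (show (1 : X.presheaf.stalk η) • _ = (0 : X.presheaf.stalk η) • _ by rw [h, smul_zero, smul_zero]))
  obtain ⟨g, hg⟩ := GrothLib.C1.exists_gen hL η
  obtain ⟨c, hc⟩ := hg.2 ((L.presheaf.germ ⊤ η trivial) s)
  replace hc : c • g = (L.presheaf.germ ⊤ η trivial) s := hc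
  have hgne : GrothLib.C1.gcls s η ≠ 0 := fun h => hgerm (by
    rw [GrothLib.C1.gcls_eq_zero_iff hL s (specializes_refl η) hg hc.symm, GrothLib.CycCut.primeOf_self,
      GrothLib.Ref1.maximalIdeal_generic, Ideal.mem_bot] at h
    rw [← hc, h, zero_smul])
  set v := Cyc.gysinChoice L s w with hv
  have hvne : ∀ ξ, v ξ ≠ 0 := GrothLib.C1.gysinChoice_ne_zero hw
  have hvη : v η = GrothLib.C1.gcls s η := GrothLib.C1.gysinChoice_pos w hgne
  obtain ⟨uX, huX⟩ : ∃ uX : (ξ : X) → Cyc.secFibre N ξ, ∀ ξ, uX ξ ≠ 0 := by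
    choose e he using fun ξ => GrothLib.C1.exists_gen hN ξ
    exact ⟨fun ξ => GrothLib.C1.cls (e ξ), fun ξ h => one_ne_zero (α := X.residueField ξ) ((GrothLib.C1.coord_cls (he ξ)).symm.trans
      ((congrArg (GrothLib.C1.coord (e ξ)) (h.trans (zero_smul (X.presheaf.stalk ξ) (GrothLib.C1.cls (e ξ))).symm)).trans
        ((GrothLib.C1.coord_smul_cls (he ξ) 0).trans (map_zero _))))⟩
  obtain ⟨H1, H2, H3, H4⟩ := GrothLib.C1.rz_comm hδ hL hN (hvne η) ht huX hvne
  set β := Cyc.secDivFun δ L η (v η) with hβdef
  have hβ : β = Cyc.zeroSectionFun δ (n - 1) L s := by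
    rw [hβdef, hvη]
    exact Groth.Agent.S1923.result X δ hX n hn L hL s hgerm
  have hcomp : ∀ x, β x ≠ 0 → δ x = n - 1 := fun x hx => by
    rw [hβ] at hx
    by_contra h
    exact hx (if_neg h)
  have hsupp : ∀ x, β x ≠ 0 → x ∈ Set.range i := fun x hx => by
    rw [GrothLib.C1.mem_range_iff i hD]
    by_contra h
    obtain ⟨e, he⟩ := GrothLib.C1.exists_gen hL x
    obtain ⟨f, hf⟩ := he.2 ((L.presheaf.germ ⊤ x trivial) s)
    replace hf : f • e = (L.presheaf.germ ⊤ x trivial) s := hf
    have hu : IsUnit f := by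
      rw [GrothLib.C1.gcls_eq_zero_iff hL s (specializes_refl x) he hf.symm, GrothLib.CycCut.primeOf_self] at h
      exact IsLocalRing.notMem_maximalIdeal.1 h
    refine hx ?_
    rw [hβ, GrothLib.C1.zeroSectionFun_eq hL (n - 1) s (hcomp x hx) he hf.symm, Ideal.span_singleton_eq_top.2 hu,
      Module.length_eq_zero, ENat.toNat_zero, Nat.cast_zero]
  have hβD : (fun d => β (i d)) = Cyc.subschemeFun (fun d => δ (i d)) (n - 1) (𝟙 D) := funext fun d => by
    rw [GrothLib.C1.subschemeFun_id]
    by_cases hd : δ (i d) = n - 1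
    swap
    · rw [if_neg hd]
      exact by_contra fun h => hd (hcomp _ h)
    rw [if_pos hd]
    obtain ⟨e, f, he, hf, hker⟩ := hD.2 d
    rw [show β (i d) = _ from congrFun hβ (i d), GrothLib.C1.zeroSectionFun_eq hL (n - 1) s hd
      (GrothLib.C1.gen_of_span hL he) hf, ← hker]
    exact congrArg (fun m : ℕ∞ => (m.toNat : ℤ)) (GrothS1930.length_quot_ker (i.stalkMap d).hom (i.stalkMap_surjective d))
  have hlf : GrothLib.C1.LF fun d => β (i d) :=
    GrothLib.C1.lf_comp i (GrothLib.C1.lf_secDivFun hδ hL (hvne η))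
  have hδD : Cyc.IsDimFun D (fun d => δ (i d)) := GrothLib.CycPush.isDimFun_closedImmersion i hδ
  have hN' := GrothLib.C1.isInvertible_pullback i hN
  have key : GrothLib.C1.RZ (fun d => δ (i d)) (n - 2)
      (fun d => Cyc.c1CapFun δ N β uX (i d) - γ₁ d) := by
    refine GrothLib.C1.rz_restrict i hδ H1 H2 (fun z hz => ?_) (fun z hz => ?_) fun d => ?_
    · have := (H3 z hz).2
      rw [hn] at this
      omega
    · rw [GrothLib.C1.mem_range_iff i hD]
      exact by_contra fun h => hz (GrothLib.C1.commFun_eq_one hδ hL hN ht huX hvne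
        (GrothLib.C1.secOn_gysin hL w h))
    · rw [← H4 (i d), h₁]
  have key2 := GrothLib.C1.rz_change_closed i hδ hN hlf (k := n - 2) (fun d hd => by rw [hcomp _ hd]; omega) huX hu
  refine GrothLib.C1.ratEquiv_of_RZ hδD (key2.sub hδD key) fun d => ?_
  rw [Pi.sub_apply, Pi.sub_apply, GrothLib.C1.c1Cap_closed i hδ hN hsupp huX d, h₂, ← hβD]
  abel

end Groth.Agent.S1930
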