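import Groth.Statements.S19302
import Groth.Agent.S19290
import Groth.Agent.Lib.HomShAb14.Basic
import Groth.Agent.Lib.HomShExact13.Dual
import Groth.Agent.Lib.EssFree.Transporter
import Groth.Agent.Lib.QuotTorus14.Split
import Groth.Agent.Lib.DiagGrp.Torus
-- import your own Groth.Agent.* helpers here

set_option autoImplicit false
universe u
open CategoryTheory CategoryTheory.Limits MonoidalCategory CartesianMonoidalCategory MonObj AlgebraicGeometry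
open AbSch

namespace Groth.Agent.S19302

/-- Let S be a scheme and, for i = 1, 2, let G_i be a commutative S-group scheme given as an extension
of an abelian S-scheme A_i (smooth, proper, connected fibres) by an S-torus T_i: homomorphisms T_i →
G_i → A_i composing to the trivial map whose sequence of sheaves of points on the big fppf site of S
is short exact. Then, for the internal Hom sheaves of the sheaves of points on that site: the map
Hom(A₁, A₂) → Hom(G₁, A₂) induced by G₁ → A₁ is an isomorphism; the map Hom(T₁, T₂) → Hom(T₁, G₂)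
induced by T₂ → G₂ is an isomorphism; the map Hom(G₁, T₂) → Hom(T₁, T₂) induced by T₁ → G₁ is a
monomorphism; and the map Hom(A₁, G₂) → Hom(A₁, A₂) induced by G₂ → A₂ is a monomorphism. -/
theorem result {S : Scheme.{u}} (T₁ G₁ A₁ T₂ G₂ A₂ : Over S)
    [GrpObj T₁] [IsCommMonObj T₁] (hT₁ : Red.IsTorus T₁) [GrpObj G₁] [IsCommMonObj G₁]
    [GrpObj A₁] [IsCommMonObj A₁] [Smooth A₁.hom] [IsProper A₁.hom]
    (hA₁ : ∀ s : S, ConnectedSpace ↥(A₁.hom.fiber s))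
    [GrpObj T₂] [IsCommMonObj T₂] (hT₂ : Red.IsTorus T₂) [GrpObj G₂] [IsCommMonObj G₂]
    [GrpObj A₂] [IsCommMonObj A₂] [Smooth A₂.hom] [IsProper A₂.hom]
    (hA₂ : ∀ s : S, ConnectedSpace ↥(A₂.hom.fiber s))
    (ι₁ : T₁ ⟶ G₁) (π₁ : G₁ ⟶ A₁) [IsMonHom ι₁] [IsMonHom π₁] (w₁ : ι₁ ≫ π₁ = 1)
    (hex₁ : (CGrpSh.seq Scheme.fppfPrecoverage ι₁ π₁ w₁).ShortExact)
    (ι₂ : T₂ ⟶ G₂) (π₂ : G₂ ⟶ A₂) [IsMonHom ι₂] [IsMonHom π₂] (w₂ : ι₂ ≫ π₂ = 1)
    (hex₂ : (CGrpSh.seq Scheme.fppfPrecoverage ι₂ π₂ w₂).ShortExact) :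
    IsIso (HomSh.homShMap (QuotSh.J Scheme.fppfPrecoverage S) (CGrpSh.ptsMap Scheme.fppfPrecoverage π₁) (𝟙 (CGrpSh.pts Scheme.fppfPrecoverage A₂))) ∧
    IsIso (HomSh.homShMap (QuotSh.J Scheme.fppfPrecoverage S) (𝟙 (CGrpSh.pts Scheme.fppfPrecoverage T₁)) (CGrpSh.ptsMap Scheme.fppfPrecoverage ι₂)) ∧
    Mono (HomSh.homShMap (QuotSh.J Scheme.fppfPrecoverage S) (CGrpSh.ptsMap Scheme.fppfPrecoverage ι₁) (𝟙 (CGrpSh.pts Scheme.fppfPrecoverage T₂))) ∧
    Mono (HomSh.homShMap (QuotSh.J Scheme.fppfPrecoverage S) (𝟙 (CGrpSh.pts Scheme.fppfPrecoverage A₁)) (CGrpSh.ptsMap Scheme.fppfPrecoverage π₂)) := by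
  haveI : IsAffineHom T₂.hom := GrothLib.EssFree.isAffineHom_multTypeFT T₂
    (GrothLib.QuotTorus14.isMultTypeFT_of_charts (GrothLib.DiagGrp.hasChartsFpqc_of_isTorus hT₂))
  have hTA := Groth.Agent.S19290.result T₁ A₂ hT₁ hA₂
  have hAT := GrothLib.HomShAb14.isZero_homSh A₁ T₂ hA₁
  haveI : Epi (CGrpSh.ptsMap Scheme.fppfPrecoverage π₁) := hex₁.epi_g
  haveI : Mono (CGrpSh.ptsMap Scheme.fppfPrecoverage ι₂) := hex₂.mono_f
  have e1 := GrothLib.HomShExact13.exact_homShMap_left hex₁ (CGrpSh.pts Scheme.fppfPrecoverage A₂)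
  have e3 := GrothLib.HomShExact13.exact_homShMap_left hex₁ (CGrpSh.pts Scheme.fppfPrecoverage T₂)
  have e2 := GrothLib.HomShExact13.exact_homShMap_right (CGrpSh.pts Scheme.fppfPrecoverage T₁) hex₂.exact hex₂.mono_f
  have e4 := GrothLib.HomShExact13.exact_homShMap_right (CGrpSh.pts Scheme.fppfPrecoverage A₁) hex₂.exact hex₂.mono_f
  refine ⟨?_, ?_, e3.mono_g (hAT.eq_of_src _ _), e4.mono_g (hAT.eq_of_src _ _)⟩
  · haveI := GrothLib.HomShExact13.mono_homShMap_left (CGrpSh.ptsMap Scheme.fppfPrecoverage π₁) (CGrpSh.pts Scheme.fppfPrecoverage A₂)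
    haveI : Epi (HomSh.homShMap (QuotSh.J Scheme.fppfPrecoverage S) (CGrpSh.ptsMap Scheme.fppfPrecoverage π₁) (𝟙 (CGrpSh.pts Scheme.fppfPrecoverage A₂))) :=
      e1.epi_f (hTA.eq_of_tgt _ _)
    exact isIso_of_mono_of_epi _
  · haveI := GrothLib.HomShExact13.mono_homShMap_right (CGrpSh.pts Scheme.fppfPrecoverage T₁) (CGrpSh.ptsMap Scheme.fppfPrecoverage ι₂)
    haveI : Epi (HomSh.homShMap (QuotSh.J Scheme.fppfPrecoverage S) (𝟙 (CGrpSh.pts Scheme.fppfPrecoverage T₁)) (CGrpSh.ptsMap Scheme.fppfPrecoverage ι₂)) :=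
      e2.epi_f (hTA.eq_of_tgt _ _)
    exact isIso_of_mono_of_epi _

end Groth.Agent.S19302
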