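import Groth.Statements.S19305
import Groth.Agent.Lib.FppfExt14.Basic
import Groth.Agent.Lib.Chev24.Divisible
import Groth.Agent.Lib.Chev24.Tori
import Groth.Agent.Lib.Chev24.AffPart
import Groth.Agent.Lib.Chevalley.AffineQuot
import Groth.Agent.Lib.Flag27.UnipSplit
import Groth.Agent.Lib.Flag27.UnipRad
import Groth.Agent.Lib.AbAff14.Core
import Groth.Agent.Lib.SubPre14.Basic
import Groth.Agent.Lib.QuotTorus14.Basic
import Groth.Agent.Lib.KerDiag14.Basic
import Groth.Agent.Lib.GrpSchField.HomFlat
import Groth.Agent.Lib.Neutral.ArtinHom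
import Groth.Agent.Lib.Neutral.QCHom
import Groth.Agent.Lib.GrpDeligne.AbVar
import Groth.Agent.Lib.RedSmooth.Basic
import Groth.Agent.Lib.DiagGrp.KernelFP
import Groth.Agent.Lib.CentMT14.Reductive
import Groth.Agent.Lib.DiagGrp.CharHom
-- import your own Groth.Agent.* helpers here

set_option autoImplicit false
universe u
open CategoryTheory CategoryTheory.Limits MonoidalCategory CartesianMonoidalCategory MonObj AlgebraicGeometry
open AbSch

namespace Groth.Agent.S19305

open GrothLib in
private theorem isFinite_of_kernel {k : Type u} [Field k] {T A E T₀ : Over (Spec (CommRingCat.of k))}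
    [GrpObj T] [GrpObj A] [GrpObj E] [GrpObj T₀] [LocallyOfFiniteType T.hom] [IsSeparated T.hom]
    [LocallyOfFiniteType E.hom] [IsSeparated E.hom] [IsProper A.hom]
    [IsAffine T₀.left] [LocallyOfFiniteType T₀.hom]
    (u : A ⟶ E) (v : E ⟶ T) [IsMonHom v] (hker : AlgGrp.IsKernel u v)
    (i : T₀ ⟶ E) [IsMonHom i] [IsClosedImmersion i.left] : IsFinite (i ≫ v).left := by
  haveI : IsAffineHom T₀.hom := isAffineHom_of_isAffine _
  haveI : QuasiCompact (i ≫ v).left := by
    haveI : QuasiCompact ((i ≫ v).left ≫ T.hom) := by rw [Over.w]; infer_instance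
    exact QuasiCompact.of_comp (i ≫ v).left T.hom
  haveI : IsMonHom (i ≫ v) := inferInstance
  obtain ⟨K₀, iK, hK₀⟩ : ∃ (K₀ : Over (Spec (CommRingCat.of k))) (iK : K₀ ⟶ T₀), AlgGrp.IsKernel iK (i ≫ v) := by
    refine ⟨_, pullback.fst (i ≫ v) η[T], ?_⟩
    show IsPullback _ _ _ _
    rw [Subsingleton.elim (toUnit _) (pullback.snd (i ≫ v) η[T])]
    exact IsPullback.of_hasPullback _ _
  obtain ⟨_, _⟩ := GrpDeligne.exists_grpObj_kernel (i ≫ v) iK hK₀
  haveI := GrpSchField.unit_isClosedImmersion T
  haveI : IsClosedImmersion iK.left :=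
    MorphismProperty.of_isPullback (hK₀.map (Over.forget _)).flip (inferInstanceAs (IsClosedImmersion η[T].left))
  have hw : (iK ≫ i) ≫ v = toUnit K₀ ≫ η[T] := by rw [Category.assoc]; exact hK₀.w
  obtain ⟨l, hl, -⟩ := hker.exists_lift (iK ≫ i) (toUnit K₀) hw
  haveI : IsClosedImmersion l.left := by
    haveI : IsClosedImmersion (l.left ≫ u.left) := by
      rw [← Over.comp_left, hl, Over.comp_left]; infer_instance
    haveI : IsSeparated u.left := by
      haveI : IsSeparated (u.left ≫ E.hom) := by rw [Over.w]; infer_instance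
      exact IsSeparated.of_comp u.left E.hom
    exact IsClosedImmersion.of_comp l.left u.left
  haveI : IsAffine K₀.left := isAffine_of_isAffineHom iK.left
  haveI : IsProper K₀.hom := by rw [← Over.w l]; infer_instance
  haveI : IsFinite K₀.hom := IsFinite.iff_isProper_and_isAffineHom.2 ⟨‹_›, isAffineHom_of_isAffine _⟩
  haveI : LocallyOfFiniteType (i ≫ v).left := by
    haveI : LocallyOfFiniteType ((i ≫ v).left ≫ T.hom) := by rw [Over.w]; infer_instance
    exact locallyOfFiniteType_of_comp _ T.hom
  haveI : LocallyQuasiFinite (i ≫ v).left := (KerDiag14.lqf_iff (i ≫ v) iK hK₀).2.1.2 inferInstance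
  exact Neutral.isFinite_of_quasiCompact (i ≫ v)

set_option synthInstance.maxHeartbeats 100000 in
set_option maxHeartbeats 1000000 in

/-- Let k be an algebraically closed field, T a k-torus, A an abelian variety over k (smooth proper
k-group scheme with connected fibres over Spec k) and E a commutative k-group scheme which is an
extension of T by A: homomorphisms A → E → T composing to the trivial map whose sequence of sheaves
of points on the big fppf site of Spec k is short exact. Then E is a connected smooth k-group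
scheme, and every maximal torus T₀ of E maps onto T by an isogeny: the composite T₀ → E → T is
finite, flat and surjective (so T₀ and T have the same dimension). (The source lets E be a sheaf
extension and first shows it is a scheme; here E is taken to be a scheme.) -/
theorem result (k : Type u) [Field k] [IsAlgClosed k] (T A E : Over (Spec (CommRingCat.of k)))
    [GrpObj T] [IsCommMonObj T] (hT : Red.IsTorus T)
    [GrpObj A] [IsCommMonObj A] [Smooth A.hom] [IsProper A.hom]
    (hA : ∀ s : Spec (CommRingCat.of k), ConnectedSpace ↥(A.hom.fiber s))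
    [GrpObj E] [IsCommMonObj E]
    (u : A ⟶ E) (v : E ⟶ T) [IsMonHom u] [IsMonHom v] (w : u ≫ v = 1)
    (hex : (CGrpSh.seq Scheme.fppfPrecoverage u v w).ShortExact) :
    Smooth E.hom ∧ ConnectedSpace ↥E.left ∧
      ∀ (T₀ : Over (Spec (CommRingCat.of k))) [GrpObj T₀] (i : T₀ ⟶ E), Red.IsMaximalTorus i →
        IsFinite (i ≫ v).left ∧ Flat (i ≫ v).left ∧ Surjective (i ≫ v).left := by
  obtain ⟨hTa, hTl⟩ := GrothLib.OneMotFaith14.isAffine_of_isTorus hT
  haveI := hTa; haveI := hTl
  haveI := GrothLib.TorusNorm25.smooth_of_isTorus hT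
  haveI : ConnectedSpace T.left := (GrothLib.Rigidity.smooth_connected_of_isTorus T hT).2
  haveI : IsAffineHom T.hom := isAffineHom_of_isAffine _
  -- the abelian variety is connected
  let x₀ : ↥(Spec (CommRingCat.of k)) := IsLocalRing.closedPoint k
  haveI := hA x₀
  haveI : Surjective (Scheme.fromSpecResidueField (Spec (CommRingCat.of k)) x₀) :=
    ⟨fun y => ⟨IsLocalRing.closedPoint _, Subsingleton.elim (α := PrimeSpectrum k) _ _⟩⟩
  haveI : Surjective (A.hom.fiberι x₀) :=
    inferInstanceAs (Surjective (pullback.fst A.hom (Scheme.fromSpecResidueField (Spec (CommRingCat.of k)) x₀)))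
  haveI : ConnectedSpace A.left := (A.hom.fiberι x₀).surjective.connectedSpace (A.hom.fiberι x₀).continuous
  haveI : Surjective A.hom := ⟨fun y => ⟨η[A].left y, Subsingleton.elim (α := PrimeSpectrum k) _ _⟩⟩
  obtain ⟨hvs, hvj, hvq⟩ := GrothLib.FppfExt14.smooth_right u v w hex
  haveI := hvs; haveI := hvj; haveI := hvq
  haveI hEs : Smooth E.hom := by rw [← Over.w v]; infer_instance
  haveI : QuasiCompact E.hom := by rw [← Over.w v]; infer_instance
  haveI : IsSeparated E.hom := GrothLib.GrpSchField.isSeparated E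
  have hker := GrothLib.FppfExt14.isKernel u v w hex
  haveI hEc : ConnectedSpace E.left := by
    obtain ⟨l, hl⟩ := GrothLib.FppfExt14.exists_factor u v w hex ((pullback.fst v v)⁻¹ * pullback.snd v v) (by
      rw [MonObj.mul_comp, GrpObj.inv_comp, pullback.condition, inv_mul_cancel])
    exact GrothLib.SubPre14.connected_field v v.left.isOpenMap u
      ⟨pullback v v, pullback.fst v v, pullback.snd v v, l, IsPullback.of_hasPullback v v, hl⟩
  refine ⟨hEs, hEc, ?_⟩
  intro T₀ _ i hi
  obtain ⟨hm, hmono, hT₀, hmax⟩ := GrothLib.Chev24.isMaxTorus_of_isMaximalTorus hi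
  haveI := hm; haveI := hmono
  obtain ⟨hic, hia, his, hik⟩ := GrothLib.Chev24.torus_facts' hT₀ i
  haveI := hic; haveI := hia; haveI := his; haveI := hik
  -- the affine part of `E`
  obtain ⟨N, _, n, hn, hnc, hNs, hNk, hNa, hNn, hNmax⟩ := GrothLib.Chev24.exists_affPart (G := E)
  haveI := hn; haveI := hnc; haveI := hNs; haveI := hNk; haveI := hNa
  haveI : Mono n := Over.mono_of_mono_left n
  haveI := GrothLib.AbAff14.isCommMonObj_of_mono n
  haveI : IsAffineHom N.hom := isAffineHom_of_isAffine _
  obtain ⟨t, ht⟩ := GrothLib.Chev24.factor_affine n hNmax hNn T₀ i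
  haveI : IsMonHom (t ≫ n) := by rw [ht]; infer_instance
  haveI : IsMonHom t := GrothLib.CentMT14.isMonHom_of_comp t n
  have hsolv : IsSolvable (𝟙_ (Over (Spec (CommRingCat.of k))) ⟶ N) := isSolvable_of_comm fun a b => _root_.mul_comm a b
  obtain ⟨D, _, U, _, p, s, u', r, hp, hs, hu', hsp, hDt, hDa, hDs, hDk, huc, hup, hur, hru, hU, hUs, hUk⟩ :=
    GrothLib.Flag27.hasSplit_of_solvable hsolv
  haveI := hp; haveI := hs; haveI := hu'; haveI := hDa; haveI := hDs; haveI := hDk; haveI := huc
  haveI : Mono u' := Over.mono_of_mono_left u'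
  haveI : IsMonHom (r ≫ u') := by
    rw [hru]; exact GrothLib.DiagGrp.isMonHom_mul_inv (fun Y a b => _root_.mul_comm a b) _ _
  haveI : IsMonHom r := GrothLib.CentMT14.isMonHom_of_comp r u'
  have htr : t = t ≫ p ≫ s := by
    have h1 : t ≫ r ≫ u' = 1 := by rw [← Category.assoc, hU.torus_hom_eq_one hT₀ (t ≫ r), MonObj.one_comp]
    rwa [hru, MonObj.comp_mul, GrpObj.comp_inv, Category.comp_id, mul_inv_eq_one] at h1
  haveI : Mono s := (SplitMono.mk p hsp).mono
  haveI : IsMonHom (s ≫ n) := inferInstance
  haveI : Mono (s ≫ n) := mono_comp _ _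
  haveI : IsIso (t ≫ p) := hmax D (s ≫ n) (t ≫ p) hDt (by
    rw [Category.assoc, ← ht]; conv_rhs => rw [htr]
    simp only [Category.assoc])
  -- the affine part surjects to the torus
  let φ : N ⟶ T := n ≫ v
  haveI : QuasiCompact φ.left := by
    haveI : QuasiCompact (φ.left ≫ T.hom) := by rw [Over.w]; infer_instance
    exact QuasiCompact.of_comp φ.left T.hom
  obtain ⟨I, _, pI, jI, hpI, hjI, hpj, hpIs, hpIf, -, hIm, hIlft, -⟩ := GrothLib.Neutral.exists_factor_field φ
  haveI := hpI; haveI := hjI; haveI := hIm; haveI := hpIs; haveI := hIlft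
  haveI := (GrothLib.Neutral.isClosedImmersion_factor φ hpj).1
  have hIn : AlgGrp.IsNormalHom jI := fun T g n => ⟨n, by rw [mul_inv_eq_iff_eq_mul, _root_.mul_comm]⟩
  obtain ⟨Q, _, qT, hqT, hQs, hQq, hqf, hqs, -, hkT⟩ := GrothLib.Chev24.exists_quot jI hIn
  haveI := hqT; haveI := hQs; haveI := hQq; haveI := hqf; haveI := hqs
  haveI : IsSeparated Q.hom := GrothLib.GrpSchField.isSeparated Q
  haveI : IsAffine Q.left := GrothLib.Chevalley.isAffine_of_surjective_hom qT
  obtain ⟨A', _, qE, hqE, hA's, hA'q, hqEf, hqEs, -, hkE⟩ := GrothLib.Chev24.exists_quot n hNn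
  haveI := hqE; haveI := hA's; haveI := hA'q; haveI := hqEf; haveI := hqEs
  haveI : IsProper A'.hom := GrothLib.Chev24.isProper_quotient n hNmax qE hkE
  haveI : LocallyOfFinitePresentation qE.left := by
    haveI : IsNoetherianRing (CommRingCat.of k) := inferInstanceAs (IsNoetherianRing k)
    haveI : LocallyOfFinitePresentation (qE.left ≫ A'.hom) := by rw [Over.w]; infer_instance
    exact GrothLib.DiagGrp.lfp_of_comp_of_lft _ A'.hom ‹_› inferInstance
  have hφq : φ ≫ qT = 1 := by
    rw [← hpj, Category.assoc, GrothLib.GrpSchField.comp_eq_one hkT, MonObj.comp_one]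
  obtain ⟨d, hd⟩ := GrothLib.QuotTorus14.exists_desc qE (v ≫ qT) fun C _ x a a' h => by
    have h1 : (a⁻¹ * a') ≫ qE = 1 := by rw [MonObj.mul_comp, GrpObj.inv_comp, h, inv_mul_cancel]
    rw [Hom.one_def] at h1
    have h2 : IsPullback.lift hkE (a⁻¹ * a') (toUnit _) h1 ≫ n = a⁻¹ * a' := IsPullback.lift_fst hkE _ _ h1
    have h3 : (a⁻¹ * a') ≫ v ≫ qT = 1 := by
      rw [← h2, Category.assoc, show n ≫ v ≫ qT = φ ≫ qT from (Category.assoc _ _ _).symm, hφq, MonObj.comp_one]
    rwa [MonObj.mul_comp, GrpObj.inv_comp, inv_mul_eq_one] at h3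
  haveI : Surjective d.left := by
    haveI : Surjective (qE.left ≫ d.left) := by rw [← Over.comp_left, hd, Over.comp_left]; infer_instance
    exact Surjective.of_comp qE.left d.left
  haveI : UniversallyClosed Q.hom := by
    haveI : UniversallyClosed (d.left ≫ Q.hom) := by rw [Over.w]; infer_instance
    exact UniversallyClosed.of_comp_surjective d.left Q.hom
  haveI : IsProper Q.hom := { }
  haveI : IsFinite Q.hom := IsFinite.iff_isProper_and_isAffineHom.2 ⟨‹_›, isAffineHom_of_isAffine _⟩
  haveI : ConnectedSpace Q.left := qT.left.surjective.connectedSpace qT.left.continuous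
  haveI : Subsingleton ↥Q.left := by
    haveI : DiscreteTopology ↥Q.left := by
      have hu : ∀ s, Q.hom ⁻¹' {s} = Set.univ := fun s => Set.eq_univ_of_forall fun _ => Subsingleton.elim _ _
      refine discreteTopology_iff_isOpen_singleton.mpr fun z => ?_
      have h1 := Q.hom.isDiscrete_preimage_singleton (Q.hom z)
      rw [hu] at h1
      haveI := isDiscrete_univ_iff.mp h1
      exact isOpen_discrete _
    exact PreconnectedSpace.trivial_of_discrete
  haveI : Surjective jI.left := by
    haveI : Surjective η[Q].left := ⟨fun x => ⟨IsLocalRing.closedPoint k, Subsingleton.elim _ _⟩⟩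
    exact MorphismProperty.of_isPullback (hkT.map (Over.forget _)).flip ‹Surjective η[Q].left›
  haveI : Surjective φ.left := by rw [← hpj, Over.comp_left]; infer_instance
  have hsplit : φ = p ≫ s ≫ φ := by
    have h1 : r ≫ (u' ≫ φ) = 1 := by rw [hU.hom_torus_eq_one hT (u' ≫ φ), MonObj.comp_one]
    rwa [← Category.assoc, hru, MonObj.mul_comp, GrpObj.inv_comp, Category.id_comp, Category.assoc,
      mul_inv_eq_one] at h1
  haveI : Surjective (s ≫ φ).left := by
    haveI : Surjective (p.left ≫ (s ≫ φ).left) := by rw [← Over.comp_left, ← hsplit]; infer_instance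
    exact Surjective.of_comp p.left (s ≫ φ).left
  have hiv : i ≫ v = (t ≫ p) ≫ (s ≫ φ) := by
    rw [← ht]; conv_lhs => rw [htr]
    simp only [Category.assoc]; rfl
  haveI : IsIso (t ≫ p).left := inferInstanceAs (IsIso ((Over.forget _).map (t ≫ p)))
  haveI : Surjective (i ≫ v).left := by rw [hiv, Over.comp_left]; infer_instance
  -- flat
  haveI : IsAffineHom T₀.hom := isAffineHom_of_isAffine _
  haveI : QuasiCompact (i ≫ v).left := by
    haveI : QuasiCompact ((i ≫ v).left ≫ T.hom) := by rw [Over.w]; infer_instance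
    exact QuasiCompact.of_comp (i ≫ v).left T.hom
  haveI : IsReduced T.left := GrothLib.RedSmooth.isReduced_of_smooth T.hom
  haveI hflat : Flat (i ≫ v).left := GrothLib.GrpSchField.flat_hom (i ≫ v)
  exact ⟨isFinite_of_kernel u v hker i, hflat, inferInstance⟩

end Groth.Agent.S19305
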