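import Groth.Statements.S19306
import Mathlib
-- import your own Groth.Agent.* helpers here

set_option autoImplicit false
universe u
open PowerSeries
open CAlg

namespace Groth.Agent.S19306

section
variable {R : Type u} [CommRing R]

/-- `f ↦ (f - (terms of degree < M)) / X^M`. -/
noncomputable def shiftM (M : ℕ) : R⟦X⟧ →ₗ[R] R⟦X⟧ where
  toFun f := PowerSeries.mk fun j => PowerSeries.coeff (j + M) f
  map_add' f g := by ext j; simp
  map_smul' r f := by ext j; simp

theorem shiftM_X_pow_mul (M : ℕ) (f : R⟦X⟧) : shiftM M ((X : R⟦X⟧) ^ M * f) = f := by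
  ext j
  simp [shiftM, PowerSeries.coeff_X_pow_mul]

theorem eq_sum_add_shiftM (M : ℕ) (f : R⟦X⟧) :
    f = (∑ j : Fin M, PowerSeries.coeff (j : ℕ) f • (X : R⟦X⟧) ^ (j : ℕ)) + X ^ M * shiftM M f := by
  ext t
  rw [map_add, map_sum, PowerSeries.coeff_X_pow_mul']
  simp only [map_smul, PowerSeries.coeff_X_pow, smul_eq_mul, mul_ite, mul_one, mul_zero]
  by_cases h : M ≤ t
  · rw [if_pos h, Finset.sum_eq_zero fun (j : Fin M) _ => if_neg (by omega), zero_add]
    simp [shiftM, Nat.sub_add_cancel h]
  · rw [if_neg h, add_zero, Finset.sum_eq_single ⟨t, by omega⟩]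
    · simp
    · intro b _ hb
      exact if_neg fun h' => hb (Fin.ext h'.symm)
    · simp

end



/-- Let k be a field, R a commutative k-algebra, n, M natural numbers and Λ an R⟦X⟧-submodule of the
free module R⟦X⟧^n with X^M · R⟦X⟧^n ⊆ Λ. Then Λ is a finitely generated projective R⟦X⟧-module if
and only if the quotient R⟦X⟧^n / Λ is projective as an R-module. (The published statement
identifies, functorially in R, the families of lattices between t^N Λ₀ and t^{-N} Λ₀ in R((t))^n, Λ₀
the standard lattice, with the R⟦t⟧-submodules in that range whose quotient t^{-N} Λ₀ / Λ is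
R-projective; after multiplying by t^N this is the pointwise statement here, with 2N replaced by any
exponent M; a submodule containing X^M · R⟦X⟧^n automatically spans R((X))^n.) -/
theorem result
    (k : Type u) [Field k] (R : Type u) [CommRing R] [Algebra k R] (n M : ℕ)
    (Λ : Submodule R⟦X⟧ (Fin n → R⟦X⟧))
    (hΛ : ∀ v : Fin n → R⟦X⟧, ((PowerSeries.X : R⟦X⟧) ^ M) • v ∈ Λ) :
    (Module.Finite R⟦X⟧ Λ ∧ Module.Projective R⟦X⟧ Λ) ↔
      Module.Projective R ((Fin n → R⟦X⟧) ⧸ Λ) := by
  classical
  let F := Fin n → R⟦X⟧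
  let low : (Fin n → Fin M → R) →ₗ[R] F :=
    { toFun := fun c i => ∑ j : Fin M, c i j • (X : R⟦X⟧) ^ (j : ℕ)
      map_add' := fun c c' => by funext i; simp [add_smul, Finset.sum_add_distrib] <;> rfl
      map_smul' := fun r c => by funext i; simp [mul_smul, Finset.smul_sum] <;> exact Finset.smul_sum.symm }
  let co : F →ₗ[R] (Fin n → Fin M → R) :=
    LinearMap.pi fun i => LinearMap.pi fun j => (PowerSeries.coeff (j : ℕ)) ∘ₗ LinearMap.proj i
  have hlow : ∀ f : F, f - low (co f) ∈ Λ := by
    intro f
    have h : f - low (co f) = ((X : R⟦X⟧) ^ M) • (fun i => shiftM M (f i)) := by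
      funext i
      rw [Pi.sub_apply, Pi.smul_apply, smul_eq_mul, sub_eq_iff_eq_add']
      exact eq_sum_add_shiftM M (f i)
    rw [h]
    exact hΛ _
  let mkQ : F →ₗ[R] F ⧸ Λ := (Submodule.mkQ Λ).restrictScalars R
  have hmk : ∀ f, mkQ f = 0 ↔ f ∈ Λ := fun f => Submodule.Quotient.mk_eq_zero Λ
  have hmkQ : ∀ f, mkQ (low (co f)) = mkQ f := fun f => by
    rw [eq_comm, ← sub_eq_zero, ← map_sub, hmk]
    exact hlow f
  constructor
  · rintro ⟨hfin, hproj⟩
    obtain ⟨r, q, hq⟩ := Module.Finite.exists_fin' R⟦X⟧ Λ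
    obtain ⟨s, hs⟩ := Module.projective_lifting_property q LinearMap.id hq
    let sh : (Fin r → R⟦X⟧) →ₗ[R] (Fin r → R⟦X⟧) :=
      LinearMap.pi fun i => shiftM M ∘ₗ LinearMap.proj i
    let ρ : F →ₗ[R] Λ :=
      (q.restrictScalars R ∘ₗ sh ∘ₗ s.restrictScalars R) ∘ₗ
        (((X : R⟦X⟧) ^ M • (LinearMap.id : F →ₗ[R⟦X⟧] F)).codRestrict Λ hΛ).restrictScalars R
    have hρ : ∀ v : Λ, ρ v = v := by
      intro v
      have h1 : (((X : R⟦X⟧) ^ M • (LinearMap.id : F →ₗ[R⟦X⟧] F)).codRestrict Λ hΛ) v =
          (X : R⟦X⟧) ^ M • v := Subtype.ext rfl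
      show q (sh (s ((((X : R⟦X⟧) ^ M • (LinearMap.id : F →ₗ[R⟦X⟧] F)).codRestrict Λ hΛ) v))) = v
      rw [h1, map_smul]
      have h2 : sh ((X : R⟦X⟧) ^ M • s v) = s v := by
        funext i
        exact shiftM_X_pow_mul M (s v i)
      rw [h2]
      exact LinearMap.congr_fun hs v
    let a : F →ₗ[R] (Fin n → Fin M → R) := co ∘ₗ (LinearMap.id - (Λ.subtype.restrictScalars R) ∘ₗ ρ)
    have ha : ∀ v ∈ Λ, a v = 0 := fun v hv => by
      show co (v - (ρ v : F)) = 0
      rw [show (ρ v : F) = v from congrArg Subtype.val (hρ ⟨v, hv⟩), sub_self, map_zero]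
    let abar : (F ⧸ Λ) →ₗ[R] (Fin n → Fin M → R) :=
      (Submodule.liftQ (Λ.restrictScalars R) a fun v hv => ha v hv) ∘ₗ
        (Submodule.Quotient.restrictScalarsEquiv R Λ).symm.toLinearMap
    refine Module.Projective.of_split abar (mkQ ∘ₗ low) (LinearMap.ext fun z => ?_)
    obtain ⟨f, rfl⟩ := Submodule.mkQ_surjective Λ z
    have h3 : abar (Submodule.mkQ Λ f) = a f := by
      simp [abar]
    show mkQ (low (abar (Submodule.mkQ Λ f))) = Submodule.mkQ Λ f
    rw [h3]
    show mkQ (low (co (f - (ρ f : F)))) = _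
    rw [hmkQ, map_sub, (hmk _).2 (ρ f).2, sub_zero]
    rfl
  · intro hQ
    obtain ⟨σ, hσ⟩ := Module.projective_lifting_property mkQ LinearMap.id (Submodule.mkQ_surjective Λ)
    have hmkσ : ∀ z, mkQ (σ z) = z := fun z => LinearMap.congr_fun hσ z
    let ρ : F →ₗ[R] Λ.restrictScalars R :=
      (LinearMap.id - σ ∘ₗ mkQ).codRestrict _ fun f => by
        refine (hmk _).1 ?_
        simp [hmkσ]
    have hρ : ∀ v ∈ Λ, (ρ v : F) = v := fun v hv => by
      simp [ρ, (hmk v).2 hv]
    have hfinΛ : Module.Finite R⟦X⟧ Λ := by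
      rw [Module.Finite.iff_fg]
      refine ⟨Finset.univ.image (fun p : Fin n × Fin M => (ρ (low (Pi.single p.1 (Pi.single p.2 1))) : F)) ∪
        Finset.univ.image (fun i : Fin n => (X : R⟦X⟧) ^ M • (Pi.single i 1 : F)), le_antisymm ?_ ?_⟩
      · rw [Submodule.span_le]
        intro v hv
        simp only [Finset.coe_union, Finset.coe_image, Set.mem_union, Set.mem_image] at hv
        rcases hv with ⟨p, -, rfl⟩ | ⟨i, -, rfl⟩
        · exact (ρ _).2
        · exact hΛ _
      · intro v hv
        have hw : v - low (co v) = (X : R⟦X⟧) ^ M • (fun i => shiftM M (v i)) := by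
          funext i
          rw [Pi.sub_apply, Pi.smul_apply, smul_eq_mul, sub_eq_iff_eq_add']
          exact eq_sum_add_shiftM M (v i)
        have hv2 : v = (ρ (low (co v)) : F) + (X : R⟦X⟧) ^ M • (fun i => shiftM M (v i)) := by
          rw [← hw]
          conv_lhs => rw [← hρ v hv]
          rw [← hρ (v - low (co v)) (hlow v), map_sub]
          simp
        rw [hv2]
        refine add_mem ?_ ?_
        · have hc : co v = ∑ p : Fin n × Fin M, co v p.1 p.2 • (Pi.single p.1 (Pi.single p.2 1) : Fin n → Fin M → R) := by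
            funext i j
            rw [Finset.sum_apply, Finset.sum_apply, Finset.sum_eq_single (i, j)]
            · simp
            · rintro ⟨a, b⟩ _ hne
              by_cases ha : i = a
              · subst ha
                have hb : j ≠ b := fun h => hne (by rw [h])
                simp [hb]
              · simp [ha]
            · simp
          rw [hc, map_sum, map_sum, Submodule.coe_sum]
          refine sum_mem fun p _ => ?_
          rw [map_smul, map_smul, Submodule.coe_smul]
          exact Submodule.smul_of_tower_mem _ _ (Submodule.subset_span (by simp))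
        · rw [pi_eq_sum_univ' (fun i => shiftM M (v i)), Finset.smul_sum]
          refine sum_mem fun i _ => ?_
          rw [smul_comm]
          exact Submodule.smul_mem _ _ (Submodule.subset_span (by simp))
    refine ⟨hfinΛ, ?_⟩
    haveI := hfinΛ
    -- `P = Λ / XΛ` is a retract of `Rⁿ × Q`
    let XΛ : Submodule R⟦X⟧ Λ := LinearMap.range ((X : R⟦X⟧) • (LinearMap.id : Λ →ₗ[R⟦X⟧] Λ))
    let p : Λ →ₗ[R] (Λ ⧸ XΛ) := XΛ.mkQ.restrictScalars R
    have hp : ∀ w : Λ, p ((X : R⟦X⟧) • w) = 0 := fun w =>
      (Submodule.Quotient.mk_eq_zero XΛ).2 ⟨w, rfl⟩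
    let cst : (Fin n → R) →ₗ[R] F := LinearMap.pi fun i => (Algebra.linearMap R R⟦X⟧) ∘ₗ LinearMap.proj i
    let Xm : F →ₗ[R] F := ((X : R⟦X⟧) • (LinearMap.id : F →ₗ[R⟦X⟧] F)).restrictScalars R
    let dn : (Fin n → R) × (F ⧸ Λ) →ₗ[R] F := cst.coprod (Xm ∘ₗ σ)
    let up : Λ →ₗ[R] (Fin n → R) × (F ⧸ Λ) :=
      ((LinearMap.pi fun i => PowerSeries.coeff 0 ∘ₗ LinearMap.proj i).prod
        (mkQ ∘ₗ LinearMap.pi fun i => shiftM 1 ∘ₗ LinearMap.proj i)) ∘ₗ Λ.subtype.restrictScalars R
    let back : (Fin n → R) × (F ⧸ Λ) →ₗ[R] (Λ ⧸ XΛ) := p ∘ₗ (ρ ∘ₗ dn)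
    have hdecomp : ∀ f : F, f = cst (fun i => PowerSeries.coeff 0 (f i)) + Xm (fun i => shiftM 1 (f i)) := by
      intro f
      funext i
      refine (eq_sum_add_shiftM 1 (f i)).trans ?_
      simp [cst, Xm, Algebra.smul_def]
      rfl
    have hback : ∀ v : Λ, back (up v) = p v := by
      intro v
      let f : F := v
      let w : F := fun i => shiftM 1 (f i)
      have h1 : dn (up v) = cst (fun i => PowerSeries.coeff 0 (f i)) + Xm (σ (mkQ w)) := rfl
      have h2 : dn (up v) = f - Xm (w - σ (mkQ w)) := by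
        rw [h1, map_sub]
        conv_rhs => rw [hdecomp f]
        abel
      have h3 : w - σ (mkQ w) ∈ Λ := (hmk _).1 (by rw [map_sub, hmkσ, sub_self])
      have h4 : dn (up v) ∈ Λ := by
        rw [h2]
        exact sub_mem v.2 (Λ.smul_mem _ h3)
      show p (ρ (dn (up v))) = p v
      have h5 : (ρ (dn (up v)) : Λ) = v - (X : R⟦X⟧) • (⟨_, h3⟩ : Λ) :=
        Subtype.ext ((hρ _ h4).trans h2)
      rw [show p (ρ (dn (up v))) = p (v - (X : R⟦X⟧) • (⟨_, h3⟩ : Λ)) from congrArg p h5, map_sub, hp, sub_zero]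
    haveI : Module.Finite R (F ⧸ Λ) := Module.Finite.of_surjective (mkQ ∘ₗ low) fun z => by
      obtain ⟨f, rfl⟩ := Submodule.mkQ_surjective Λ z
      exact ⟨co f, hmkQ f⟩
    let upbar : (Λ ⧸ XΛ) →ₗ[R] (Fin n → R) × (F ⧸ Λ) :=
      (Submodule.liftQ (XΛ.restrictScalars R) up (by
        rintro _ ⟨w, rfl⟩
        rw [LinearMap.mem_ker]
        refine Prod.ext ?_ ?_
        · funext i
          show PowerSeries.coeff 0 ((X : R⟦X⟧) * (w : F) i) = 0
          simp
        · show mkQ (fun i => shiftM 1 ((X : R⟦X⟧) * (w : F) i)) = 0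
          rw [show (fun i => shiftM 1 ((X : R⟦X⟧) * (w : F) i)) = (w : F) from funext fun i => by
            simpa using shiftM_X_pow_mul 1 ((w : F) i)]
          exact (hmk _).2 w.2)) ∘ₗ (Submodule.Quotient.restrictScalarsEquiv R XΛ).symm.toLinearMap
    have hretract : back ∘ₗ upbar = LinearMap.id := by
      apply LinearMap.ext
      intro z
      obtain ⟨v, rfl⟩ := Submodule.mkQ_surjective XΛ z
      show back (upbar (XΛ.mkQ v)) = XΛ.mkQ v
      rw [show upbar (XΛ.mkQ v) = up v by simp [upbar], hback]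
      rfl
    haveI : Module.Projective R (Λ ⧸ XΛ) := Module.Projective.of_split upbar back hretract
    haveI : Module.Finite R (Λ ⧸ XΛ) :=
      Module.Finite.of_surjective back fun z => ⟨upbar z, LinearMap.congr_fun hretract z⟩
    -- lift to a free module
    obtain ⟨r, q, hq⟩ := Module.Finite.exists_fin' R (Λ ⧸ XΛ)
    obtain ⟨i, hi⟩ := Module.projective_lifting_property q LinearMap.id hq
    obtain ⟨s, hs⟩ := Module.projective_lifting_property p LinearMap.id (Submodule.mkQ_surjective XΛ)
    let g : Fin r → Λ := fun l => s (q (Pi.single l 1))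
    let α : (Fin r → R⟦X⟧) →ₗ[R⟦X⟧] Λ := Fintype.linearCombination R⟦X⟧ g
    let e : Matrix (Fin r) (Fin r) R := LinearMap.toMatrix' (i ∘ₗ q)
    let E : (Fin r → R⟦X⟧) →ₗ[R⟦X⟧] (Fin r → R⟦X⟧) := (e.map (PowerSeries.C (R := R))).mulVecLin
    have hαC : ∀ c : Fin r → R, α (fun l => PowerSeries.C (c l)) = s (q c) := by
      intro c
      conv_rhs => rw [pi_eq_sum_univ' c]
      simp only [α, Fintype.linearCombination_apply, map_sum, map_smul, g]
      refine Finset.sum_congr rfl fun l _ => ?_
      exact algebraMap_smul R⟦X⟧ (c l) _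
    have hαE : α ∘ₗ E = α := by
      refine LinearMap.pi_ext' fun l => LinearMap.ext_ring ?_
      simp only [LinearMap.comp_apply, LinearMap.single_apply]
      have hE : E (Pi.single l 1) = fun k => PowerSeries.C ((i (q (Pi.single l 1))) k) := by
        funext k
        simp [E, e, LinearMap.toMatrix'_apply]
      rw [hE, hαC, show q (i (q (Pi.single l 1))) = q (Pi.single l 1) from LinearMap.congr_fun hi _]
      simp [α, g, Fintype.linearCombination_apply_single]
    have hαsurj : Function.Surjective α := by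
      rw [← LinearMap.range_eq_top, eq_top_iff]
      refine Submodule.le_of_le_smul_of_le_jacobson_bot (I := Ideal.span {(X : R⟦X⟧)}) Module.Finite.fg_top ?_ ?_
      · rw [Ideal.span_le, Set.singleton_subset_iff, SetLike.mem_coe, Ideal.mem_jacobson_bot]
        intro y
        exact PowerSeries.isUnit_iff_constantCoeff.2 (by simp)
      · intro v _
        have h1 : v - α (fun l => PowerSeries.C (i (p v) l)) ∈ XΛ := by
          rw [← Submodule.Quotient.mk_eq_zero XΛ]
          show p (v - α _) = 0
          rw [map_sub, hαC, show q (i (p v)) = p v from LinearMap.congr_fun hi _,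
            show p (s (p v)) = p v from LinearMap.congr_fun hs _, sub_self]
        obtain ⟨w, hw⟩ := h1
        rw [← sub_add_cancel v (α (fun l => PowerSeries.C (i (p v) l))), ← hw, add_comm]
        exact Submodule.add_mem_sup ⟨_, rfl⟩ (Submodule.smul_mem_smul (Ideal.mem_span_singleton_self _) trivial)
    have hXreg : ∀ {ι : Type} (a b : ι → R⟦X⟧), (X : R⟦X⟧) • a = (X : R⟦X⟧) • b → a = b := fun a b h => by
      funext j
      have h' := congrArg (shiftM 1) (congrFun h j)
      simp only [Pi.smul_apply, smul_eq_mul] at h'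
      rwa [← pow_one (X : R⟦X⟧), shiftM_X_pow_mul, shiftM_X_pow_mul] at h'
    have hEcc : ∀ c l, PowerSeries.coeff 0 (E c l) = i (q (fun k => PowerSeries.coeff 0 (c k))) l := by
      intro c l
      rw [show i (q fun k => PowerSeries.coeff 0 (c k)) = e.mulVec (fun k => PowerSeries.coeff 0 (c k)) from
        (LinearMap.toMatrix'_mulVec (i ∘ₗ q) _).symm]
      simp [E, Matrix.mulVec, dotProduct]
    have hker : ∀ t c, α c = 0 → E c = c → ∀ l, PowerSeries.coeff t (c l) = 0 := by
      intro t
      induction t using Nat.strong_induction_on with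
      | _ t ih =>
        intro c hc hEc l
        let cc : Fin r → R := fun k => PowerSeries.coeff 0 (c k)
        let c' : Fin r → R⟦X⟧ := fun k => shiftM 1 (c k)
        have hdec : c = (fun k => PowerSeries.C (cc k)) + (X : R⟦X⟧) • c' := by
          funext k
          refine (eq_sum_add_shiftM 1 (c k)).trans ?_
          simp [cc, c', Algebra.smul_def]
        have hq0 : q cc = 0 := by
          have h1 := congrArg p hc
          rw [hdec, map_add, map_add, hαC, map_smul, hp, add_zero, map_zero,
            show p (s (q cc)) = q cc from LinearMap.congr_fun hs _] at h1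
          exact h1
        have hcc : cc = 0 := by
          funext k
          have h1 := hEcc c k
          rw [hEc, show q (fun k => PowerSeries.coeff 0 (c k)) = 0 from hq0, map_zero] at h1
          exact h1
        have hc' : c = (X : R⟦X⟧) • c' := by
          refine hdec.trans ?_
          rw [hcc]
          funext k
          simp
        rcases t with _ | t
        · exact congrFun hcc l
        have hα' : α c' = 0 := by
          rw [hc', map_smul] at hc
          exact Subtype.ext (hXreg (α c' : F) 0 (by rw [smul_zero]; exact congrArg Subtype.val hc))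
        have hE' : E c' = c' := hXreg _ _ (by rw [← map_smul, ← hc', hEc])
        rw [hc', Pi.smul_apply, smul_eq_mul, PowerSeries.coeff_succ_X_mul]
        exact ih t (by omega) c' hα' hE' l
    have hEE : ∀ c, E (E c) = E c := by
      have he : e * e = e := by
        rw [← LinearMap.toMatrix'_comp]
        congr 1
        exact LinearMap.ext fun x => congrArg i (LinearMap.congr_fun hi (q x))
      intro c
      simp only [E, Matrix.mulVecLin_apply, Matrix.mulVec_mulVec]
      rw [← Matrix.map_mul, he]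
    let β := α ∘ₗ (LinearMap.range E).subtype
    have hβ : Function.Bijective β := by
      refine ⟨?_, fun v => ?_⟩
      · rw [injective_iff_map_eq_zero]
        rintro ⟨_, c, rfl⟩ hc
        refine Subtype.ext (funext fun l => PowerSeries.ext fun t => ?_)
        show PowerSeries.coeff t (E c l) = PowerSeries.coeff t 0
        rw [hker t (E c) hc (hEE c) l, map_zero]
      · obtain ⟨c, rfl⟩ := hαsurj v
        exact ⟨⟨E c, c, rfl⟩, LinearMap.congr_fun hαE c⟩
    exact Module.Projective.of_split ((LinearMap.range E).subtype ∘ₗ (LinearEquiv.ofBijective β hβ).symm.toLinearMap) α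
      (LinearMap.ext fun v => (LinearEquiv.ofBijective β hβ).apply_symm_apply v)

end Groth.Agent.S19306
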