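import Groth.Statements.S19307
import Groth.Agent.Lib.Torsor21.RationalSection
import Groth.Agent.Lib.Torsor21.SmoothSection
import Groth.Agent.Lib.AlgSp.SourceDescent
import Groth.Agent.Lib.SecSeries.Basic
import Groth.Agent.Lib.EtSite.FpqcDescent

set_option autoImplicit false
set_option backward.isDefEq.respectTransparency false
set_option backward.isDefEq.respectTransparency.types false
universe u
open CategoryTheory MonoidalCategory CartesianMonoidalCategory MonObj GrpObj AlgebraicGeometry PowerSeries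
open NonAbH1

namespace Groth.Agent.S19307

theorem isAdicComplete_X (S : Type u) [CommRing S] :
    IsAdicComplete (Ideal.span {(PowerSeries.X : S⟦X⟧)}) S⟦X⟧ := by
  set I : Ideal S⟦X⟧ := Ideal.span {PowerSeries.X}
  have hmem : ∀ (n : ℕ) (x y : S⟦X⟧), x ≡ y [SMOD (I ^ n • ⊤ : Submodule S⟦X⟧ S⟦X⟧)] ↔
      ∀ m < n, PowerSeries.coeff m x = PowerSeries.coeff m y := by
    intro n x y
    rw [smul_eq_mul, Ideal.mul_top, SModEq.sub_mem, Ideal.span_singleton_pow, Ideal.mem_span_singleton,
      PowerSeries.X_pow_dvd_iff]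
    simp only [map_sub, sub_eq_zero]
  refine { haus' := fun x hx => ?_, prec' := fun f hf => ?_ }
  · ext m
    simpa using (hmem (m + 1) x 0).1 (hx (m + 1)) m (Nat.lt_succ_self m)
  · refine ⟨PowerSeries.mk fun m => PowerSeries.coeff m (f (m + 1)), fun n => (hmem n _ _).2 fun m hm => ?_⟩
    rw [PowerSeries.coeff_mk]
    exact ((hmem (m + 1) _ _).1 (hf hm) m (Nat.lt_succ_self m)).symm

theorem exists_lift_complete {k B A : Type u} [CommRing k] [CommRing B] [CommRing A] [Algebra k A] [Algebra k B]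
    [Algebra.FormallySmooth k B] (I : Ideal A) [IsAdicComplete I A] (u : B →ₐ[k] A ⧸ I) :
    ∃ v : B →ₐ[k] A, (Ideal.Quotient.mkₐ k I).comp v = u := by
  let fs := fun n => (Ideal.Quotient.factorₐ k
    (Ideal.pow_le_pow_right (Nat.le_succ (n + 1)) : I ^ (n + 1 + 1) ≤ I ^ (n + 1)))
  have step : ∀ (n : ℕ) (g : B →ₐ[k] A ⧸ I ^ (n + 1)), ∃ g', (fs n).comp g' = g := fun n g =>
    ⟨_, Algebra.FormallySmooth.comp_liftOfSurjective g (fs n) (Ideal.Quotient.factor_surjective (Ideal.pow_le_pow_right (Nat.le_succ (n + 1)) : I ^ (n + 1 + 1) ≤ I ^ (n + 1)))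
      (GrothLib.SecSeries.isNilpotent_ker_step (k := k) I n)⟩
  choose next hnext using step
  let g : ∀ n, B →ₐ[k] A ⧸ I ^ (n + 1) := fun n =>
    Nat.rec ((Ideal.Quotient.factorₐ k (le_of_eq (pow_one I).symm : I ≤ I ^ 1)).comp u) next n
  have hgd : ∀ {m n : ℕ} (h : m ≤ n),
      (Ideal.Quotient.factorₐ k (Ideal.pow_le_pow_right (Nat.succ_le_succ h))).comp (g n) = g m := by
    intro m n h
    induction n, h using Nat.le_induction with
    | base =>
      refine AlgHom.ext fun b => ?_
      obtain ⟨a, ha⟩ := Ideal.Quotient.mk_surjective (g m b)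
      rw [AlgHom.comp_apply, ← ha]
      rfl
    | succ n h ih =>
      refine AlgHom.ext fun b => ?_
      rw [← ih, ← hnext n (g n)]
      obtain ⟨a, ha⟩ := Ideal.Quotient.mk_surjective (g (n + 1) b)
      simp only [fs, AlgHom.comp_apply]
      show _ = Ideal.Quotient.factorₐ k _ (Ideal.Quotient.factorₐ k _ (g (n + 1) b))
      rw [← ha]
      rfl
  let F : ∀ n, B →ₐ[k] A ⧸ I ^ n := fun n =>
    (Ideal.Quotient.factorₐ k (Ideal.pow_le_pow_right (Nat.le_succ n))).comp (g n)
  have hcompat : ∀ {m n : ℕ} (h : m ≤ n),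
      (Ideal.Quotient.factorₐ k (Ideal.pow_le_pow_right h)).comp (F n) = F m := by
    intro m n h
    refine AlgHom.ext fun b => ?_
    obtain ⟨a, ha⟩ := Ideal.Quotient.mk_surjective (g n b)
    show _ = Ideal.Quotient.factorₐ k (Ideal.pow_le_pow_right (Nat.le_succ m)) (g m b)
    rw [← hgd h]
    simp only [F, AlgHom.comp_apply, ← ha]
    rfl
  refine ⟨IsAdicComplete.liftAlgHom I F hcompat, AlgHom.ext fun b => ?_⟩
  have h1 := IsAdicComplete.mk_liftAlgHom I F hcompat 1 b
  have h0 : ∀ c, Ideal.Quotient.mk (I ^ (0 + 1)) c = g 0 b → Ideal.Quotient.mk I c = u b := fun c hc => by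
    obtain ⟨c', hc'⟩ := Ideal.Quotient.mk_surjective (u b)
    rw [← hc', Ideal.Quotient.eq]
    have : Ideal.Quotient.mk (I ^ (0 + 1)) c = Ideal.Quotient.mk (I ^ (0 + 1)) c' := by
      rw [hc]
      show Ideal.Quotient.factorₐ k (le_of_eq (pow_one I).symm : I ≤ I ^ 1) (u b) = _
      rw [← hc']
      rfl
    rwa [Ideal.Quotient.eq, zero_add, pow_one] at this
  refine h0 _ ?_
  rw [← hgd (Nat.zero_le 1)]
  exact h1

/-- Let R be a commutative ring, G an affine smooth group scheme over the power series ring R⟦X⟧ and P a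
G-torsor over Spec R⟦X⟧ for the fpqc topology. Then there is an étale and faithfully flat R-algebra
R' such that P has a section over Spec R'⟦X⟧. (The published statement takes R an algebra over a
field and G the base change to R⟦X⟧ of a smooth affine group scheme over the power series ring of
that field; the statement here allows any affine smooth group scheme over R⟦X⟧, to which the
published proof applies unchanged.) -/
theorem result
    (R : Type u) [CommRing R]
    (G : Over (Spec (CommRingCat.of R⟦X⟧))) [GrpObj G] [IsAffine G.left] [Smooth G.hom]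
    (P : Over (Spec (CommRingCat.of R⟦X⟧))) (a : AlgGrp.Action G P)
    (hP : NonAbH1.IsTorsorFor Scheme.fpqcPrecoverage a) :
    ∃ (R' : Type u) (_ : CommRing R') (_ : Algebra R R'),
      Algebra.Etale R R' ∧ Module.FaithfullyFlat R R' ∧
      NonAbH1.HasSectionOver P (Spec.map (CommRingCat.ofHom (PowerSeries.map (algebraMap R R')))) := by
  haveI : MorphismProperty.DescendsAlong @IsAffineHom (@Surjective ⊓ @Flat ⊓ @QuasiCompact : MorphismProperty Scheme.{u}) :=
    GrothLib.EtSite.descendsAlong_isAffineHom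
  haveI : IsAffineHom G.hom := inferInstance
  haveI : Smooth P.hom := GrothLib.Torsor21.property @Smooth hP inferInstance
  haveI : IsAffineHom P.hom := GrothLib.Torsor21.property @IsAffineHom hP inferInstance
  haveI : Surjective P.hom := GrothLib.Torsor21.surjective_hom hP
  haveI : IsAffine P.left := isAffine_of_isAffineHom P.hom
  let B := Γ(P.left, ⊤)
  let π0 : Spec (CommRingCat.of R) ⟶ Spec (CommRingCat.of R⟦X⟧) :=
    Spec.map (CommRingCat.ofHom (PowerSeries.constantCoeff (R := R)))
  let q0 : Limits.pullback P.hom π0 ⟶ Spec (CommRingCat.of R) := Limits.pullback.snd P.hom π0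
  obtain ⟨U, p, hU⟩ := GrothLib.Torsor21.exists_etale_sections q0
  rw [Scheme.etalePrecoverage, Scheme.ofArrows_mem_precoverage_iff] at hU
  let c : (∐ U) ⟶ Spec (CommRingCat.of R) := Limits.Sigma.desc fun s => p s ≫ q0
  haveI : Etale c := IsZariskiLocalAtSource.sigmaDesc (P := @Etale) hU.2
  haveI : Surjective c := ⟨fun x => by
    obtain ⟨i, z, hz⟩ := hU.1 x
    exact ⟨Limits.Sigma.ι U i z, by rw [← Scheme.Hom.comp_apply, Limits.Sigma.ι_desc]; exact hz⟩⟩
  obtain ⟨T, q, _, _, _⟩ := GrothLib.AlgSp.exists_affine_etale_cover c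
  let R' := Γ(T, ⊤)
  let f : CommRingCat.of R ⟶ R' := Spec.preimage (T.isoSpec.inv ≫ q ≫ c)
  have hf : Spec.map f = T.isoSpec.inv ≫ q ≫ c := Spec.map_preimage _
  letI : Algebra R R' := f.hom.toAlgebra
  haveI : Etale (Spec.map f) := hf ▸ inferInstance
  haveI : Surjective (Spec.map f) := hf ▸ inferInstance
  have het : f.hom.Etale := (HasRingHomProperty.Spec_iff (P := @Etale)).1 inferInstance
  haveI : Algebra.Etale R R' := het
  refine ⟨R', inferInstance, inferInstance, inferInstance, ?_, ?_⟩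
  · have hfl : f.hom.Flat := (HasRingHomProperty.Spec_iff (P := @Flat)).1 inferInstance
    haveI : Module.Flat R R' := hfl
    exact Module.FaithfullyFlat.of_comap_surjective (fun x => (Spec.map f).surjective x)
  let ψ : CommRingCat.of R⟦X⟧ ⟶ B := Spec.preimage (P.left.isoSpec.inv ≫ P.hom)
  have hψ : Spec.map ψ = P.left.isoSpec.inv ≫ P.hom := Spec.map_preimage _
  letI : Algebra R⟦X⟧ B := ψ.hom.toAlgebra
  haveI : Smooth (Spec.map ψ) := hψ ▸ inferInstance
  have hsm : ψ.hom.Smooth := (HasRingHomProperty.Spec_iff (P := @Smooth)).1 inferInstance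
  haveI : Algebra.Smooth R⟦X⟧ B := hsm
  let toP : T ⟶ P.left := q ≫ Limits.Sigma.desc p ≫ Limits.pullback.fst P.hom π0
  have hq0 : Limits.Sigma.desc p ≫ q0 = c := Limits.Sigma.hom_ext _ _ fun i => by simp [c]
  let φ0 : B ⟶ R' := Spec.preimage (T.isoSpec.inv ≫ toP ≫ P.left.isoSpec.hom)
  have hφ0 : ψ ≫ φ0 = CommRingCat.ofHom (PowerSeries.constantCoeff (R := R)) ≫ f := by
    apply Spec.map_injective
    rw [Spec.map_comp, Spec.map_comp, hψ, hf, Spec.map_preimage]
    simp only [Category.assoc, Iso.hom_inv_id_assoc, toP, Limits.pullback.condition]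
    rw [← hq0, Category.assoc]
  let mu : R⟦X⟧ →+* (R' : Type u)⟦X⟧ := PowerSeries.map (algebraMap R R')
  letI algC : Algebra R⟦X⟧ (R' : Type u)⟦X⟧ := mu.toAlgebra
  let I : Ideal (R' : Type u)⟦X⟧ := Ideal.span {PowerSeries.X}
  haveI : IsAdicComplete I (R' : Type u)⟦X⟧ := isAdicComplete_X _
  let u0 : B →ₐ[R⟦X⟧] (R' : Type u)⟦X⟧ ⧸ I :=
    { ((Ideal.Quotient.mk I).comp PowerSeries.C).comp φ0.hom with
      commutes' := fun a => by
        show Ideal.Quotient.mk I (PowerSeries.C (φ0 (ψ a))) = Ideal.Quotient.mk I (mu a)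
        rw [Ideal.Quotient.eq, Ideal.mem_span_singleton, PowerSeries.X_dvd_iff, map_sub,
          PowerSeries.constantCoeff_C, ← CommRingCat.comp_apply, hφ0, sub_eq_zero]
        show f (PowerSeries.constantCoeff a) = PowerSeries.constantCoeff (PowerSeries.map (algebraMap R R') a)
        rw [← PowerSeries.coeff_zero_eq_constantCoeff_apply, ← PowerSeries.coeff_zero_eq_constantCoeff_apply,
          PowerSeries.coeff_map]
        rfl }
  obtain ⟨v, -⟩ := exists_lift_complete I u0
  refine ⟨Spec.map (CommRingCat.ofHom v.toRingHom) ≫ P.left.isoSpec.inv, ?_⟩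
  rw [Category.assoc, ← hψ, ← Spec.map_comp]
  congr 1
  ext1
  exact v.comp_algebraMap

end Groth.Agent.S19307
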