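import Groth.Statements.S19308
import Groth.Agent.Lib.GrpSchField.TensorDomain
import Mathlib

set_option autoImplicit false
universe u
open TensorProduct
open CAlg

namespace Groth.Agent.S19308

open scoped TensorProduct

lemma exists_leftInverse {S : Type u} [CommRing S] {m n : Type u} [Fintype m] [Fintype n] [DecidableEq m] [DecidableEq n]
    (H : Matrix m n S)
    (hH : ∀ q : Ideal S, q.IsMaximal → Function.Injective (H.map (Ideal.Quotient.mk q)).mulVec) :
    ∃ L : Matrix n m S, L * H = 1 := by
  let I : Ideal S :=
    { carrier := {d | ∃ L : Matrix n m S, L * H = d • 1}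
      add_mem' := by
        rintro a b ⟨L, hL⟩ ⟨L', hL'⟩
        exact ⟨L + L', by rw [Matrix.add_mul, hL, hL', add_smul]⟩
      zero_mem' := ⟨0, by simp⟩
      smul_mem' := by
        rintro c a ⟨L, hL⟩
        exact ⟨c • L, by rw [Matrix.smul_mul, hL, smul_smul, smul_eq_mul]⟩ }
  suffices h : I = ⊤ by
    obtain ⟨L, hL⟩ : (1 : S) ∈ I := h ▸ Submodule.mem_top
    exact ⟨L, by simpa using hL⟩
  by_contra hne
  obtain ⟨q, hq, hle⟩ := Ideal.exists_le_maximal I hne
  letI : Field (S ⧸ q) := Ideal.Quotient.field q
  let Hq := H.map (Ideal.Quotient.mk q)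
  obtain ⟨G, hG⟩ := LinearMap.exists_leftInverse_of_injective (Matrix.toLin' Hq)
    (LinearMap.ker_eq_bot.2 (hH q hq))
  let g : Matrix n m (S ⧸ q) := LinearMap.toMatrix' G
  have hg : g * Hq = 1 := by
    have := congrArg LinearMap.toMatrix' hG
    rwa [LinearMap.toMatrix'_comp, LinearMap.toMatrix'_toLin', LinearMap.toMatrix'_id] at this
  choose L hL using fun i j => Ideal.Quotient.mk_surjective (g i j)
  have hE : ((Matrix.of L) * H).map (Ideal.Quotient.mk q) = 1 := by
    rw [Matrix.map_mul, show (Matrix.of L).map (Ideal.Quotient.mk q) = g from Matrix.ext hL, hg]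
  have hdet : ((Matrix.of L) * H).det ∉ q := by
    intro hd
    have := RingHom.map_det (Ideal.Quotient.mk q) ((Matrix.of L) * H)
    rw [RingHom.mapMatrix_apply, hE, Matrix.det_one, Ideal.Quotient.eq_zero_iff_mem.2 hd] at this
    exact zero_ne_one this
  exact hdet (hle ⟨((Matrix.of L) * H).adjugate * Matrix.of L, by rw [Matrix.mul_assoc, Matrix.adjugate_mul]⟩)

variable {k : Type u} [Field k] [IsAlgClosed k] {A : Type u} [CommRing A] [Algebra k A] [IsDomain A]

lemma fib_nzd {S : Type u} [CommRing S] [Algebra k S] {ι : Type u} (e : Module.Basis ι k A)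
    (f b : S ⊗[k] A) (hf : ∃ i, IsUnit ((Algebra.TensorProduct.basis S e).repr f i))
    (hfb : f * b = 0) : b = 0 := by
  classical
  let E := Algebra.TensorProduct.basis S e
  let J := (E.repr b).support
  let T := J.biUnion fun j => (E.repr (f * E j)).support
  let H : Matrix T J S := fun i j => E.repr (f * E j) i
  have hexp : ∀ v : J → S, f * (∑ j, v j • E j) = ∑ i : T, (H.mulVec v i) • E i := by
    intro v
    rw [Finset.mul_sum]
    simp only [mul_smul_comm, Matrix.mulVec, dotProduct, Finset.sum_smul]
    rw [Finset.sum_comm]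
    refine Finset.sum_congr rfl fun j _ => ?_
    have e1 : f * E j = ∑ i : T, E.repr (f * E j) i • E i := by
      conv_lhs => rw [← E.linearCombination_repr (f * E j), Finsupp.linearCombination_apply,
        Finsupp.sum_of_support_subset (s := T) _ (fun x hx => Finset.mem_biUnion.2 ⟨j.1, j.2, hx⟩) _ (by simp)]
      exact (Finset.sum_coe_sort T (fun i => E.repr (f * E j) i • E i)).symm
    conv_lhs => rw [e1, Finset.smul_sum]
    exact Finset.sum_congr rfl fun i _ => by rw [smul_smul, mul_comm]
  obtain ⟨L, hL⟩ := exists_leftInverse H (fun q hq => by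
    letI : Field (S ⧸ q) := Ideal.Quotient.field q
    refine (injective_iff_map_eq_zero (Matrix.mulVecLin (H.map (Ideal.Quotient.mk q)))).2 ?_
    intro v hv
    haveI : IsDomain ((S ⧸ q) ⊗[k] A) := GrothLib.GrpSchField.isDomain_tensorProduct
    choose w hw using fun j => Ideal.Quotient.mk_surjective (v j)
    let φ : S ⊗[k] A →ₐ[k] (S ⧸ q) ⊗[k] A := Algebra.TensorProduct.map (Ideal.Quotient.mkₐ k q) (AlgHom.id k A)
    let E' := Algebra.TensorProduct.basis (S ⧸ q) e
    have hφE : ∀ (c : S) (i : ι), φ (c • E i) = Ideal.Quotient.mk q c • E' i := by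
      intro c i
      simp [φ, E, E', Algebra.TensorProduct.basis_apply, TensorProduct.smul_tmul']
    have hrepr : ∀ (x : S ⊗[k] A) (i : ι), E'.repr (φ x) i = Ideal.Quotient.mk q (E.repr x i) := by
      intro x i
      conv_lhs => rw [← E.linearCombination_repr x, Finsupp.linearCombination_apply, Finsupp.sum, map_sum,
        map_sum, Finsupp.finsetSum_apply]
      simp only [hφE, map_smul, Module.Basis.repr_self, Finsupp.smul_apply, Finsupp.single_apply, smul_eq_mul,
        mul_ite, mul_one, mul_zero, Finset.sum_ite_eq']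
      split_ifs with h
      · rfl
      · rw [Finsupp.notMem_support_iff.1 h, map_zero]
    have hφf : φ f ≠ 0 := by
      obtain ⟨i, hi⟩ := hf
      intro h0
      have h1 := hrepr f i
      rw [h0, map_zero] at h1
      exact (hi.map (Ideal.Quotient.mk q)).ne_zero h1.symm
    have h2 : φ f * ∑ j, v j • E' j = 0 := by
      have h3 := congrArg φ (hexp w)
      rw [map_mul, map_sum, map_sum] at h3
      simp only [hφE, hw] at h3
      rw [h3]
      refine Finset.sum_eq_zero fun i _ => ?_
      have h4 : Ideal.Quotient.mk q (H.mulVec w i) = (H.map (Ideal.Quotient.mk q)).mulVec v i := by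
        simp [Matrix.mulVec, dotProduct, map_sum, hw]
      rw [h4, show (H.map (Ideal.Quotient.mk q)).mulVec v = 0 from hv, Pi.zero_apply, zero_smul]
    have h5 := (mul_eq_zero.1 h2).resolve_left hφf
    exact funext fun j => Fintype.linearIndependent_iff.1
      (E'.linearIndependent.comp _ Subtype.val_injective) v h5 j)
  have hb : b = ∑ j : J, E.repr b j • E j := by
    conv_lhs => rw [← E.linearCombination_repr b, Finsupp.linearCombination_apply, Finsupp.sum]
    exact (Finset.sum_coe_sort J (fun j => E.repr b j • E j)).symm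
  let v : J → S := fun j => E.repr b j
  have h0 := hexp v
  rw [← hb, hfb] at h0
  have hHv : H.mulVec v = 0 := funext fun i =>
    Fintype.linearIndependent_iff.1 (E.linearIndependent.comp _ Subtype.val_injective) _ h0.symm i
  have hv : v = 0 := by
    have := congrArg L.mulVec hHv
    rwa [Matrix.mulVec_mulVec, hL, Matrix.one_mulVec, Matrix.mulVec_zero] at this
  rw [hb]
  refine Finset.sum_eq_zero fun j _ => ?_
  rw [show E.repr b j = v j from rfl, hv, Pi.zero_apply, zero_smul]

lemma flat_cokernel {R M N Q : Type u} [CommRing R] [AddCommGroup M] [Module R M] [AddCommGroup N] [Module R N]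
    [AddCommGroup Q] [Module R Q] [Module.Flat R N] (f : M →ₗ[R] N) (g : N →ₗ[R] Q)
    (hg : Function.Surjective g) (hfg : Function.Exact f g)
    (hI : ∀ I : Ideal R, Function.Injective (f.lTensor (R ⧸ I))) : Module.Flat R Q := by
  rw [Module.Flat.iff_rTensor_injective']
  intro I
  rw [injective_iff_map_eq_zero]
  intro x hx
  obtain ⟨y, rfl⟩ := LinearMap.lTensor_surjective I hg x
  have h1 : g.lTensor R (I.subtype.rTensor N y) = 0 := by
    rw [← hx, ← LinearMap.comp_apply, ← LinearMap.comp_apply, LinearMap.lTensor_comp_rTensor,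
      LinearMap.rTensor_comp_lTensor]
  obtain ⟨z, hz⟩ := (lTensor_exact R hfg hg _).1 h1
  have h2 : (Submodule.mkQ I).rTensor M z = 0 := by
    refine hI I ?_
    rw [map_zero, ← LinearMap.comp_apply, LinearMap.lTensor_comp_rTensor, ← LinearMap.rTensor_comp_lTensor,
      LinearMap.comp_apply, hz]
    exact (rTensor_exact N (LinearMap.exact_subtype_mkQ I) (Submodule.mkQ_surjective I)).apply_apply_eq_zero y
  obtain ⟨w, rfl⟩ := (rTensor_exact M (LinearMap.exact_subtype_mkQ I) (Submodule.mkQ_surjective I) z).1 h2
  have h3 : I.subtype.rTensor N (f.lTensor I w) = I.subtype.rTensor N y := by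
    rw [← hz, ← LinearMap.comp_apply, ← LinearMap.comp_apply, LinearMap.rTensor_comp_lTensor,
      LinearMap.lTensor_comp_rTensor]
  have h4 := Module.Flat.rTensor_preserves_injective_linearMap I.subtype Subtype.val_injective h3
  rw [← h4]
  exact (lTensor_exact I hfg hg).apply_apply_eq_zero w

lemma repr_map {S S' : Type u} [CommRing S] [Algebra k S] [CommRing S'] [Algebra k S'] {ι : Type u}
    (e : Module.Basis ι k A) (φ : S →ₐ[k] S') (x : S ⊗[k] A) (i : ι) :
    (Algebra.TensorProduct.basis S' e).repr (Algebra.TensorProduct.map φ (AlgHom.id k A) x) i =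
      φ ((Algebra.TensorProduct.basis S e).repr x i) := by
  induction x using TensorProduct.induction_on with
  | zero => simp
  | tmul s a => simp [Algebra.TensorProduct.basis_repr_tmul, Finsupp.smul_apply]
  | add x y hx hy => simp only [map_add, Finsupp.add_apply, hx, hy]

lemma flat_quot {S : Type u} [CommRing S] [Algebra k S] {ι : Type u} (e : Module.Basis ι k A)
    (f : S ⊗[k] A) (hf : ∃ i, IsUnit ((Algebra.TensorProduct.basis S e).repr f i)) :
    Module.Flat S (S ⊗[k] A ⧸ Ideal.span {f}) := by
  let mf : S ⊗[k] A →ₗ[S] S ⊗[k] A := LinearMap.mulLeft S f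
  let g : S ⊗[k] A →ₗ[S] S ⊗[k] A ⧸ Ideal.span {f} := (Ideal.Quotient.mkₐ S (Ideal.span {f})).toLinearMap
  refine flat_cokernel mf g Ideal.Quotient.mk_surjective ?_ fun I => ?_
  · intro x
    constructor
    · intro hx
      obtain ⟨y, hy⟩ := Ideal.mem_span_singleton.1 (Ideal.Quotient.eq_zero_iff_mem.1 hx)
      exact ⟨y, hy.symm⟩
    · rintro ⟨y, rfl⟩
      exact Ideal.Quotient.eq_zero_iff_mem.2 (Ideal.mul_mem_right _ _ (Ideal.mem_span_singleton_self f))
  · let ε := TensorProduct.AlgebraTensorModule.cancelBaseChange k S S (S ⧸ I) A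
    let φ : S ⊗[k] A →ₐ[k] (S ⧸ I) ⊗[k] A := Algebra.TensorProduct.map (Ideal.Quotient.mkₐ k I) (AlgHom.id k A)
    have hε : ∀ (s : S ⧸ I) (x : S ⊗[k] A), ε (s ⊗ₜ[S] x) = (s ⊗ₜ[k] 1) * φ x := by
      intro s x
      induction x using TensorProduct.induction_on with
      | zero => simp
      | tmul t a => simp [ε, φ, Algebra.smul_def, mul_comm]
      | add x y hx hy => rw [TensorProduct.tmul_add, map_add, map_add, hx, hy, mul_add]
    have hcomm : ∀ z, ε (mf.lTensor (S ⧸ I) z) = φ f * ε z := by
      intro z
      induction z using TensorProduct.induction_on with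
      | zero => simp
      | tmul s x =>
        rw [LinearMap.lTensor_tmul, hε, hε, show mf x = f * x from rfl, map_mul]
        ring
      | add x y hx hy => rw [map_add, map_add, map_add, hx, hy, mul_add]
    rw [injective_iff_map_eq_zero]
    intro z hz
    have h1 := hcomm z
    rw [hz, map_zero] at h1
    refine ε.injective ?_
    rw [map_zero]
    obtain ⟨i, hi⟩ := hf
    refine fib_nzd e (φ f) (ε z) ⟨i, ?_⟩ h1.symm
    rw [repr_map]
    exact hi.map _


/-- Let k be an algebraically closed field, A a finitely generated k-algebra which is an integral domain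
(an affine variety X = Spec A), Z a finite (possibly empty) set of k-points of A, R a commutative
k-algebra and U an open dense subset of Spec (R ⊗_k A) = X_R containing every point of Z_R and
meeting every fibre of X_R → Spec R. Then locally on Spec R there is a principal relative effective
Cartier divisor missing Z_R whose complement lies in U: for every prime p of R there are r ∉ p and f
∈ R[1/r] ⊗_k A such that f is a non-zero-divisor, (R[1/r] ⊗_k A)/(f) is flat over R[1/r], f maps to
a unit under every point of Z, and the basic open set D(f) of X_{R[1/r]} maps into U. (The published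
statement is for a quasi-projective variety X and asks for relative Cartier divisors D_i over an
open cover of Spec R; this row is the affine case, to which the published proof reduces, where the
divisors produced are principal.) -/
theorem result
    (k : Type u) [Field k] [IsAlgClosed k]
    (A : Type u) [CommRing A] [Algebra k A] [IsDomain A] [Algebra.FiniteType k A]
    (Z : Finset (A →ₐ[k] k))
    (R : Type u) [CommRing R] [Algebra k R]
    (U : TopologicalSpace.Opens (PrimeSpectrum (TensorProduct k R A)))
    (hU : Dense (U : Set (PrimeSpectrum (TensorProduct k R A))))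
    (hZ : ∀ z ∈ Z, ∀ q : PrimeSpectrum R,
      PrimeSpectrum.comap (Algebra.TensorProduct.lift (AlgHom.id k R) ((Algebra.ofId k R).comp z)
        (fun _ _ => Commute.all _ _)).toRingHom q ∈ U)
    (hsurj : ∀ q : PrimeSpectrum R, ∃ P ∈ U,
      PrimeSpectrum.comap (Algebra.TensorProduct.includeLeftRingHom : R →+* TensorProduct k R A) P = q)
    (p : PrimeSpectrum R) :
    ∃ r : R, r ∉ p.asIdeal ∧
      ∃ f : TensorProduct k (Localization.Away r) A,
        f ∈ nonZeroDivisors (TensorProduct k (Localization.Away r) A) ∧
        Module.Flat (Localization.Away r)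
          (TensorProduct k (Localization.Away r) A ⧸ Ideal.span {f}) ∧
        (∀ z ∈ Z, IsUnit (Algebra.TensorProduct.lift (AlgHom.id k (Localization.Away r))
          ((Algebra.ofId k (Localization.Away r)).comp z) (fun _ _ => Commute.all _ _) f)) ∧
        (∀ P : PrimeSpectrum (TensorProduct k (Localization.Away r) A), f ∉ P.asIdeal →
          PrimeSpectrum.comap (Algebra.TensorProduct.map
            (IsScalarTower.toAlgHom k R (Localization.Away r)) (AlgHom.id k A)).toRingHom P ∈ U) := by
  classical
  let ι := Module.Free.ChooseBasisIndex k A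
  let e : Module.Basis ι k A := Module.Free.chooseBasis k A
  obtain ⟨J, hJ⟩ : ∃ J : Ideal (TensorProduct k R A), ∀ P : PrimeSpectrum (TensorProduct k R A), P ∉ U ↔ J ≤ P.asIdeal := by
    obtain ⟨J, hJ⟩ := (PrimeSpectrum.isClosed_iff_zeroLocus_ideal _).1 U.isOpen.isClosed_compl
    exact ⟨J, fun P => by
      have := Set.ext_iff.1 hJ P
      simpa [PrimeSpectrum.mem_zeroLocus] using this⟩
  let K := p.asIdeal.ResidueField
  haveI : IsDomain (K ⊗[k] A) := GrothLib.GrpSchField.isDomain_tensorProduct
  let φ : TensorProduct k R A →ₐ[k] K ⊗[k] A :=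
    Algebra.TensorProduct.map (IsScalarTower.toAlgHom k R K) (AlgHom.id k A)
  let z' : (A →ₐ[k] k) → (TensorProduct k R A →ₐ[k] R) := fun z =>
    Algebra.TensorProduct.lift (AlgHom.id k R) ((Algebra.ofId k R).comp z) (fun _ _ => Commute.all _ _)
  have hgen : ¬ J ≤ RingHom.ker φ.toRingHom := by
    intro hle
    obtain ⟨P, hPU, hPp⟩ := hsurj p
    refine absurd hPU ((hJ P).2 (hle.trans fun x hx => ?_))
    let E := Algebra.TensorProduct.basis R e
    rw [← E.linearCombination_repr x, Finsupp.linearCombination_apply]
    refine Ideal.sum_mem _ fun i _ => ?_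
    simp only [Algebra.smul_def]
    refine Ideal.mul_mem_right _ _ ?_
    have hi : E.repr x i ∈ p.asIdeal := by
      have h1 := repr_map e (IsScalarTower.toAlgHom k R K) x i
      rw [show Algebra.TensorProduct.map (IsScalarTower.toAlgHom k R K) (AlgHom.id k A) x = 0 from hx, map_zero] at h1
      exact Ideal.algebraMap_residueField_eq_zero.1 h1.symm
    rw [← hPp] at hi
    exact hi
  obtain ⟨f, hfJ, hfφ, hfz⟩ : ∃ f ∈ J, φ f ≠ 0 ∧ ∀ z ∈ Z, z' z f ∉ p.asIdeal := by
    by_contra hcon
    push Not at hcon
    let g : Option (A →ₐ[k] k) → Ideal (TensorProduct k R A) := fun o =>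
      o.elim (RingHom.ker φ.toRingHom) (fun z => p.asIdeal.comap (z' z).toRingHom)
    obtain ⟨o, ho, hle⟩ := (Ideal.subset_union_prime (s := insert none (Z.image some)) (f := g) none none
      (fun o _ _ _ => by
        cases o with
        | none => exact RingHom.ker_isPrime _
        | some z => exact Ideal.IsPrime.comap _)).1 (fun x hx => by
          by_cases h : φ x = 0
          · exact Set.mem_biUnion (Finset.mem_insert_self none _) h
          · obtain ⟨z, hz, hzx⟩ := hcon x hx h
            exact Set.mem_biUnion (Finset.mem_insert_of_mem (Finset.mem_image_of_mem some hz)) hzx)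
    rcases Finset.mem_insert.1 ho with rfl | ho
    · exact hgen hle
    · obtain ⟨z, hz, rfl⟩ := Finset.mem_image.1 ho
      exact (hJ ⟨p.asIdeal.comap (z' z).toRingHom, inferInstance⟩).2 hle (hZ z hz p)
  obtain ⟨i, hi⟩ : ∃ i, (Algebra.TensorProduct.basis R e).repr f i ∉ p.asIdeal := by
    by_contra hcon
    push Not at hcon
    refine hfφ ((Algebra.TensorProduct.basis K e).repr.injective ?_)
    rw [map_zero]
    ext i
    rw [repr_map, Finsupp.zero_apply]
    exact Ideal.algebraMap_residueField_eq_zero.2 (hcon i)
  let r : R := (Algebra.TensorProduct.basis R e).repr f i * ∏ z ∈ Z, z' z f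
  have hr : r ∉ p.asIdeal := fun h => (p.2.mem_or_mem h).elim hi (fun h' => by
    obtain ⟨z, hz, hzm⟩ := (Ideal.IsPrime.prod_mem_iff (hp := p.2)).1 h'
    exact hfz z hz hzm)
  have hu : IsUnit (algebraMap R (Localization.Away r) r) := IsLocalization.Away.algebraMap_isUnit r
  rw [show algebraMap R (Localization.Away r) r = _ from map_mul _ _ _, IsUnit.mul_iff] at hu
  let ψ := IsScalarTower.toAlgHom k R (Localization.Away r)
  let f' : TensorProduct k (Localization.Away r) A := Algebra.TensorProduct.map ψ (AlgHom.id k A) f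
  have hcoef : ∃ j, IsUnit ((Algebra.TensorProduct.basis (Localization.Away r) e).repr f' j) :=
    ⟨i, by rw [repr_map]; exact hu.1⟩
  refine ⟨r, hr, f', ?_, flat_quot e f' hcoef, fun z hz => ?_, fun P hP => ?_⟩
  · rw [mem_nonZeroDivisors_iff]
    exact ⟨fun x hx => fib_nzd e f' x hcoef hx, fun x hx => fib_nzd e f' x hcoef (mul_comm x f' ▸ hx)⟩
  · have hcomm : (Algebra.TensorProduct.lift (AlgHom.id k (Localization.Away r))
        ((Algebra.ofId k (Localization.Away r)).comp z) (fun _ _ => Commute.all _ _)).comp
          (Algebra.TensorProduct.map ψ (AlgHom.id k A)) = ψ.comp (z' z) := by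
      refine Algebra.TensorProduct.ext' fun a b => ?_
      simp [z', ψ, IsScalarTower.algebraMap_apply k R (Localization.Away r)]
    have h1 := DFunLike.congr_fun hcomm f
    rw [AlgHom.comp_apply, AlgHom.comp_apply] at h1
    rw [show f' = Algebra.TensorProduct.map ψ (AlgHom.id k A) f from rfl, h1]
    exact isUnit_of_dvd_unit (map_dvd _ (Finset.dvd_prod_of_mem (fun z => z' z f) hz)) hu.2
  · by_contra hU'
    exact hP ((hJ _).1 hU' hfJ)

end Groth.Agent.S19308
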