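import Groth.Statements.S19309
import Mathlib
-- import your own Groth.Agent.* helpers here

set_option autoImplicit false
universe u
open PowerSeries LaurentSeries
open CAlg

namespace Groth.Agent.S19309

/-- Let k be a field, R a commutative k-algebra, B a finitely presented R⟦X⟧-algebra (an affine scheme V
= Spec B of finite presentation over the disc D_R = Spec R⟦X⟧) and s : B → R((X)) an R⟦X⟧-algebra
map (a section of V over the punctured disc). Then there is an ideal I of R such that for every ring
map φ : R → R', writing θ : R((X)) → R'((X)) for the ring map compatible with R⟦X⟧ → R'⟦X⟧, the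
section s extends to a section over D_{R'} — an R⟦X⟧-algebra map s' : B → R'⟦X⟧ whose composite with
R'⟦X⟧ → R'((X)) is θ ∘ s — if and only if φ kills I. In other words the sub-presheaf of Spec R where
s extends over the disc is the closed subscheme defined by I. -/
theorem result
    (k : Type u) [Field k] (R : Type u) [CommRing R] [Algebra k R]
    (B : Type u) [CommRing B] [Algebra R⟦X⟧ B] [Algebra.FinitePresentation R⟦X⟧ B]
    (s : B →ₐ[R⟦X⟧] R⸨X⸩) :
    ∃ I : Ideal R, ∀ (R' : Type u) [CommRing R'] (φ : R →+* R') (θ : R⸨X⸩ →+* R'⸨X⸩),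
      θ.comp (algebraMap R⟦X⟧ R⸨X⸩) = (algebraMap R'⟦X⟧ R'⸨X⸩).comp (PowerSeries.map φ) →
      ((∃ s' : B →+* R'⟦X⟧, s'.comp (algebraMap R⟦X⟧ B) = PowerSeries.map φ ∧
          (algebraMap R'⟦X⟧ R'⸨X⸩).comp s' = θ.comp s.toRingHom) ↔ I ≤ RingHom.ker φ) := by
  classical
  obtain ⟨S, hS⟩ := (inferInstance : Algebra.FiniteType R⟦X⟧ B).out
  choose f hf using fun b : B => IsLocalization.surj (M := Submonoid.powers (PowerSeries.X : R⟦X⟧)) (s b)
  choose n hn using fun b : B => ((Submonoid.mem_powers_iff _ _).mp (f b).2.2)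
  refine ⟨Ideal.span (⋃ b ∈ S, (fun i => PowerSeries.coeff i (f b).1) '' Set.Iio (n b)), ?_⟩
  intro R' _ φ θ hθ
  set ι' := algebraMap R'⟦X⟧ R'⸨X⸩ with hι'
  have hinj : Function.Injective ι' := HahnSeries.ofPowerSeries_injective
  have hθ' : ∀ z : R⟦X⟧, θ (algebraMap _ R⸨X⸩ z) = ι' (PowerSeries.map φ z) :=
    fun z => RingHom.congr_fun hθ z
  have key : ∀ b, θ (s b) * ι' (PowerSeries.X ^ n b) = ι' (PowerSeries.map φ (f b).1) := by
    intro b
    have h := congrArg θ (hf b)
    rw [map_mul, ← hn b, hθ', hθ', map_pow (PowerSeries.map φ), PowerSeries.map_X] at h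
    exact h
  have hiff : ∀ b, (∀ i < n b, φ (PowerSeries.coeff i (f b).1) = 0) ↔ ∃ g, ι' g = θ (s b) := by
    intro b
    constructor
    · intro h
      have hd : PowerSeries.X ^ n b ∣ PowerSeries.map φ (f b).1 := by
        rw [PowerSeries.X_pow_dvd_iff]
        intro i hi
        rw [PowerSeries.coeff_map]
        exact h i hi
      obtain ⟨g, hg⟩ := hd
      refine ⟨g, ?_⟩
      have hu : IsUnit (ι' (PowerSeries.X ^ n b)) :=
        IsLocalization.map_units (M := Submonoid.powers (PowerSeries.X : R'⟦X⟧)) R'⸨X⸩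
          ⟨_, n b, rfl⟩
      apply hu.mul_right_cancel
      rw [key, hg, map_mul, mul_comm]
    · rintro ⟨g, hg⟩ i hi
      have h1 : PowerSeries.map φ (f b).1 = g * PowerSeries.X ^ n b := hinj (by rw [← key, ← hg, map_mul])
      rw [← PowerSeries.coeff_map, h1, PowerSeries.coeff_mul_X_pow', if_neg (not_le.mpr hi)]
  constructor
  · rintro ⟨s', -, h2⟩
    rw [Ideal.span_le]
    intro r hr
    simp only [Set.mem_iUnion] at hr
    obtain ⟨b, hb, i, hi, rfl⟩ := hr
    exact RingHom.mem_ker.mpr ((hiff b).mpr ⟨s' b, RingHom.congr_fun h2 b⟩ i hi)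
  · intro hI
    have hall : ∀ b : B, ∃ g, ι' g = θ (s b) := by
      intro b
      have hb : b ∈ Algebra.adjoin R⟦X⟧ (S : Set B) := hS ▸ trivial
      induction hb using Algebra.adjoin_induction with
      | mem x hx =>
        refine (hiff x).mp fun i hi => RingHom.mem_ker.mp (hI (Ideal.subset_span ?_))
        exact Set.mem_biUnion hx ⟨i, hi, rfl⟩
      | algebraMap r => exact ⟨PowerSeries.map φ r, by rw [AlgHom.commutes, hθ']⟩
      | add x y _ _ hx hy =>
        obtain ⟨g, hg⟩ := hx
        obtain ⟨g', hg'⟩ := hy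
        exact ⟨g + g', by rw [map_add, map_add, map_add, hg, hg']⟩
      | mul x y _ _ hx hy =>
        obtain ⟨g, hg⟩ := hx
        obtain ⟨g', hg'⟩ := hy
        exact ⟨g * g', by rw [map_mul, map_mul, map_mul, hg, hg']⟩
    choose g hg using hall
    refine ⟨{ toFun := g
              map_one' := hinj (by rw [hg, map_one, map_one, map_one])
              map_mul' := fun x y => hinj (by rw [hg, map_mul, map_mul, map_mul, hg, hg])
              map_zero' := hinj (by rw [hg, map_zero, map_zero, map_zero])
              map_add' := fun x y => hinj (by rw [hg, map_add, map_add, map_add, hg, hg]) }, ?_, ?_⟩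
    · refine RingHom.ext fun r => hinj ?_
      change ι' (g _) = _
      rw [hg, AlgHom.commutes, hθ']
    · exact RingHom.ext fun b => hg b

end Groth.Agent.S19309
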