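import Groth.Statements.S1931
-- import your own Groth.Agent.* helpers here
import Groth.Agent.Lib.C1.ZeroScheme


set_option autoImplicit false
universe u
open CategoryTheory AlgebraicGeometry
open CategoryTheory.Limits
open Cyc

namespace Groth.Agent.S1931

/-- Let (L, s, i : D → X) and (L', s', i' : D' → X) be two invertible modules with global sections and
their zero schemes, and D ∩ D' = D ×_X D' with projections j to D and j' to D' (the zero schemes of
the restricted sections). For a k-cycle α on X, (j')^*(i^*α) ∼_rat j^*((i')^*α) as (k − 2)-cycles on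
D ∩ D'. The Gysin maps on D and D' are computed from any global sections σ' of L'|_D and σ of
L|_{D'} whose zero schemes are j and j'. Here i : D → X is the zero scheme of a global section s of
the invertible module L (Cyc.IsZeroSchemeOf), the Gysin map i^* : Z_{k+1}(X) → CH_k(D) is computed
on coefficient functions as c_1(L) ∩ − with the rational sections taken to be s where it is nonzero
(Cyc.gysinChoice) and restricted to the points of D, and classes on D are compared up to rational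
equivalence on D for the restricted dimension function. A pair (X, δ) with Cyc.IsSetup plays the
role of a scheme locally of finite type over a base with a dimension function (X locally Noetherian
with universally catenary local rings, δ a dimension function), and Cyc.DeltaCompat records that the
dimension function upstairs is the induced one. -/
theorem result (X D D' : Scheme.{u}) (δ : X → ℤ) (hX : Cyc.IsSetup X δ) (L L' : X.Modules) (hL : PicF.IsInvertible L) (hL' : PicF.IsInvertible L') (s : L.presheaf.obj (Opposite.op ⊤)) (s' : L'.presheaf.obj (Opposite.op ⊤)) (i : D ⟶ X) (i' : D' ⟶ X) [IsClosedImmersion i] [IsClosedImmersion i'] (hD : Cyc.IsZeroSchemeOf i L s) (hD' : Cyc.IsZeroSchemeOf i' L' s') (σ' : ((Scheme.Modules.pullback i).obj L').presheaf.obj (Opposite.op ⊤)) (hσ' : Cyc.IsZeroSchemeOf (pullback.fst i i') ((Scheme.Modules.pullback i).obj L') σ') (σ : ((Scheme.Modules.pullback i').obj L).presheaf.obj (Opposite.op ⊤)) (hσ : Cyc.IsZeroSchemeOf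 (pullback.snd i i') ((Scheme.Modules.pullback i').obj L) σ) (k : ℤ) (α : AlgebraicCycle X ℤ) (hα : α ∈ Cyc.Zk X δ k) (w : (ξ : X) → Cyc.secFibre L ξ) (hw : ∀ ξ, w ξ ≠ 0) (w' : (ξ : X) → Cyc.secFibre L' ξ) (hw' : ∀ ξ, w' ξ ≠ 0) (w₁ : (d : D) → Cyc.secFibre ((Scheme.Modules.pullback i).obj L') d) (hw₁ : ∀ d, w₁ d ≠ 0) (w₂ : (d : D') → Cyc.secFibre ((Scheme.Modules.pullback i').obj L) d) (hw₂ : ∀ d, w₂ d ≠ 0) (γ : D → ℤ) (hγ : γ = fun d => Cyc.c1CapFun δ L ⇑α (Cyc.gysinChoice L s w) (i d)) (γ' : D' → ℤ) (hγ' : γ' = fun d => Cyc.c1CapFun δ L' ⇑α (Cyc.gysinChoice L' s' w') (i' d)) (ζ₁ ζ₂ : AlgebraicCycle (pullback i i') ℤ) (h₁ : ∀ z, ζ₁ z = Cyc.c1CapFun (fun d => δ (i d)) ((Scheme.Modules.pullback i).obj L') γ (Cyc.gysinChoice ((Scheme.Modules.pullback i).obj L') σ' w₁) (pullback.fst i i' z)) (h₂ : ∀ z, ζ₂ z = Cyc.c1CapFun (fun d => δ (i' d)) ((Scheme.Modules.pullback i').obj L) γ' (Cyc.gysinChoice ((Scheme.Modules.pullback i').obj L) σ w₂) (pullback.snd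 i i' z)) : Cyc.RatEquiv (fun z => δ (i (pullback.fst i i' z))) (k - 2) ζ₁ ζ₂ := by
  haveI : IsLocallyNoetherian X := hX.1
  haveI : IsLocallyNoetherian D := LocallyOfFiniteType.isLocallyNoetherian i
  haveI : IsLocallyNoetherian D' := LocallyOfFiniteType.isLocallyNoetherian i'
  set J := pullback.fst i i' ≫ i with hJ
  haveI : IsLocallyNoetherian (pullback i i' : Scheme.{u}) := LocallyOfFiniteType.isLocallyNoetherian J
  have hδ := hX.2.2
  have hδD : Cyc.IsDimFun D (fun d => δ (i d)) := GrothLib.CycPush.isDimFun_closedImmersion i hδ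
  have hδD' : Cyc.IsDimFun D' (fun d => δ (i' d)) := GrothLib.CycPush.isDimFun_closedImmersion i' hδ
  have hJ' : ∀ z, i' (pullback.snd i i' z) = J z := fun z => by
    show (pullback.snd i i' ≫ i') z = (pullback.fst i i' ≫ i) z
    rw [pullback.condition]
  have hδfun : (fun z => δ (i' (pullback.snd i i' z))) = fun z => δ (i (pullback.fst i i' z)) :=
    funext fun z => congrArg δ (hJ' z)
  have hδP : Cyc.IsDimFun (pullback i i') fun z => δ (i (pullback.fst i i' z)) :=
    GrothLib.CycPush.isDimFun_closedImmersion J hδ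
  have hαk : ∀ ξ, α ξ ≠ 0 → δ ξ = k := fun ξ hξ => by_contra fun h => hξ (hα ξ h)
  have hg : ∀ ξ, Cyc.gysinChoice L s w ξ ≠ 0 := GrothLib.C1.gysinChoice_ne_zero hw
  have hg' : ∀ ξ, Cyc.gysinChoice L' s' w' ξ ≠ 0 := GrothLib.C1.gysinChoice_ne_zero hw'
  obtain ⟨F, f1, f2, f3, f4, f5⟩ := GrothLib.C1.exists_comm_family hδ hL hL' (GrothLib.C1.LF.of_cycle α) (k := k - 2)
    (fun ξ hξ => by have := hαk ξ hξ; omega) hg hg hg' hg'
  have hA := GrothLib.C1.rz_restrict J hδ f1 f2 f3 (fun z hz => by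
      obtain ⟨d, hd⟩ : z ∈ Set.range i := (GrothLib.C1.mem_range_iff i hD).2
        (by_contra fun h => hz (f4 z (Or.inl ⟨rfl, GrothLib.C1.secOn_gysin hL w h⟩)))
      obtain ⟨d', hd'⟩ : z ∈ Set.range i' := (GrothLib.C1.mem_range_iff i' hD').2
        (by_contra fun h => hz (f4 z (Or.inr ⟨rfl, GrothLib.C1.secOn_gysin hL' w' h⟩)))
      obtain ⟨p, hp, -⟩ := Scheme.Pullback.exists_preimage_pullback d d' (hd.trans hd'.symm)
      exact ⟨p, by show i (pullback.fst i i' p) = z; rw [hp, hd]⟩)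
    (a := fun p => (Cyc.c1CapFun δ L (Cyc.c1CapFun δ L' ⇑α (Cyc.gysinChoice L' s' w')) (Cyc.gysinChoice L s w) -
      Cyc.c1CapFun δ L' (Cyc.c1CapFun δ L ⇑α (Cyc.gysinChoice L s w)) (Cyc.gysinChoice L' s' w')) (J p)) fun p => f5 (J p)
  have hlf : GrothLib.C1.LF γ := hγ ▸ GrothLib.C1.lf_comp i (GrothLib.C1.lf_c1Cap hδ hL (GrothLib.C1.LF.of_cycle α) hg)
  have hlf' : GrothLib.C1.LF γ' := hγ' ▸ GrothLib.C1.lf_comp i' (GrothLib.C1.lf_c1Cap hδ hL' (GrothLib.C1.LF.of_cycle α) hg')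
  have hdeg : ∀ d, γ d ≠ 0 → δ (i d) = k - 2 + 1 := fun d hd => by
    rw [hγ] at hd
    obtain ⟨ξ, hξ, -, hd', -⟩ := GrothLib.C1.c1Cap_ne_zero hd
    have := hαk ξ hξ
    omega
  have hdeg' : ∀ d, γ' d ≠ 0 → δ (i' d) = k - 2 + 1 := fun d hd => by
    rw [hγ'] at hd
    obtain ⟨ξ, hξ, -, hd', -⟩ := GrothLib.C1.c1Cap_ne_zero hd
    have := hαk ξ hξ
    omega
  have hB := GrothLib.C1.rz_gysin_change (pullback.fst i i') hδD (GrothLib.C1.isInvertible_pullback i hL') hσ'
    (GrothLib.C1.isZeroSchemeOf_pullback i i' hL' hD') hlf hdeg hw₁ (w' := GrothLib.C1.pullChoice i hL' w')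
    fun d => GrothLib.C1.pullFib_ne_zero i hL' (hw' _)
  have hC := GrothLib.C1.rz_gysin_change (pullback.snd i i') hδD' (GrothLib.C1.isInvertible_pullback i' hL) hσ
    (GrothLib.C1.isZeroSchemeOf_pullback_snd i' i hL hD) hlf' hdeg' hw₂ (w' := GrothLib.C1.pullChoice i' hL w)
    fun d => GrothLib.C1.pullFib_ne_zero i' hL (hw _)
  rw [hδfun] at hC
  have hD1 := GrothLib.C1.RZ.sub hδP (GrothLib.C1.RZ.sub hδP hB hC) hA
  refine GrothLib.C1.ratEquiv_of_RZ hδP hD1 fun p => ?_
  rw [h₁, h₂]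
  simp only [Pi.sub_apply]
  rw [← funext (GrothLib.C1.gysinChoice_pullback i hL' w'), ← funext (GrothLib.C1.gysinChoice_pullback i' hL w)]
  have e1 := GrothLib.C1.c1Cap_closed i hδ hL' (fun x hx => GrothLib.C1.gysin_supp i hδ hL hD w hx) hg' (pullback.fst i i' p)
    (α := Cyc.c1CapFun δ L ⇑α (Cyc.gysinChoice L s w))
  have e2 := GrothLib.C1.c1Cap_closed i' hδ hL (fun x hx => GrothLib.C1.gysin_supp i' hδ hL' hD' w' hx) hg (pullback.snd i i' p)
    (α := Cyc.c1CapFun δ L' ⇑α (Cyc.gysinChoice L' s' w'))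
  rw [hJ'] at e2
  subst hγ hγ'
  rw [← e1, ← e2]
  show _ = _ - (Cyc.c1CapFun δ L (Cyc.c1CapFun δ L' ⇑α (Cyc.gysinChoice L' s' w')) (Cyc.gysinChoice L s w) (J p) -
    Cyc.c1CapFun δ L' (Cyc.c1CapFun δ L ⇑α (Cyc.gysinChoice L s w)) (Cyc.gysinChoice L' s' w') (i (pullback.fst i i' p)))
  ring

end Groth.Agent.S1931
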