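import Groth.Statements.S19310
import Mathlib

set_option autoImplicit false
universe u
open TensorProduct
open CAlg

namespace Groth.Agent.S19310

open TensorProduct

variable (k : Type u) [Field k] (A : Type u) [CommRing A] [Algebra k A]

lemma exists_point [IsAlgClosed k] [IsDomain A] [Algebra.FiniteType k A] (a : A) (ha : a ≠ 0) :
    ∃ ev : A →ₐ[k] k, ev a ≠ 0 := by
  have : IsJacobsonRing A := isJacobsonRing_of_finiteType (A := k) (B := A)
  have hjac : a ∉ (⊥ : Ideal A).jacobson := by
    rw [IsJacobsonRing.out (inferInstance : IsJacobsonRing A) ((Ideal.isPrime_bot (α := A)).isRadical)]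
    exact ha
  simp only [Ideal.jacobson, Ideal.mem_sInf, Set.mem_setOf_eq, not_forall] at hjac
  obtain ⟨m, ⟨-, hm⟩, ham⟩ := hjac
  let := Ideal.Quotient.field m
  have : Module.Finite k (A ⧸ m) := finite_of_finite_type_of_isJacobsonRing k (A ⧸ m)
  let e : k ≃ₐ[k] (A ⧸ m) := AlgEquiv.ofBijective (Algebra.ofId k (A ⧸ m))
    IsAlgClosed.algebraMap_bijective_of_isIntegral
  refine ⟨e.symm.toAlgHom.comp (Ideal.Quotient.mkₐ k m), fun h => ham (Ideal.Quotient.eq_zero_iff_mem.1 ?_)⟩
  exact e.symm.injective (h.trans (map_zero _).symm)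

/-- Independent vectors stay independent modulo a high power of a proper ideal. -/
lemma sep [IsDomain A] [Algebra.FiniteType k A] (I : Ideal A) (hI : I ≠ ⊤) {ι : Type*} (s : Finset ι)
    (b : Module.Basis ι k A) :
    ∃ N : ℕ, ∀ (R : Type u) [CommRing R] [Algebra k R] (c : ι → R),
      (∑ i ∈ s, c i ⊗ₜ[k] Ideal.Quotient.mk (I ^ N) (b i)) = 0 → ∀ i ∈ s, c i = 0 := by
  classical
  have : IsNoetherianRing A := Algebra.FiniteType.isNoetherianRing k A
  let V := Submodule.span k (b '' (s : Set ι))
  have : FiniteDimensional k V := FiniteDimensional.span_of_finite k (s.finite_toSet.image b)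
  let D : ℕ → Submodule k V := fun N => ((I ^ N).restrictScalars k).comap V.subtype
  obtain ⟨N, hN⟩ : ∃ N, D N = ⊥ := by
    obtain ⟨N, -, hN⟩ := wellFounded_lt.has_min (Set.range D) (Set.range_nonempty D)|> fun ⟨x, ⟨N, hx⟩, h⟩ =>
      (⟨N, trivial, fun M => hx ▸ h (D M) ⟨M, rfl⟩⟩ : ∃ N, True ∧ ∀ M, ¬ D M < D N)
    refine ⟨N, eq_bot_iff.2 fun x hx => ?_⟩
    have hall : ∀ M, (x : A) ∈ I ^ M := fun M => by
      have hle : D (max M N) ≤ D N := fun y hy => Ideal.pow_le_pow_right (le_max_right M N) hy
      have he : D (max M N) = D N := eq_of_le_of_not_lt hle (hN _)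
      rw [← he] at hx
      exact Ideal.pow_le_pow_right (le_max_left M N) hx
    have h0 : (x : A) ∈ (⨅ M, I ^ M : Ideal A) := (Submodule.mem_iInf _).2 hall
    rw [Ideal.iInf_pow_eq_bot_of_isDomain (I := I) hI] at h0
    exact Subtype.ext h0
  refine ⟨N, fun R _ _ c hc i₀ hi₀ => ?_⟩
  let v : s → A ⧸ I ^ N := fun i => Ideal.Quotient.mk (I ^ N) (b i)
  have hv : LinearIndependent k v := by
    refine Fintype.linearIndependent_iff.2 fun g hg => ?_
    have hx : (∑ i, g i • b i : A) ∈ V :=
      Submodule.sum_mem _ fun i _ => Submodule.smul_mem _ _ (Submodule.subset_span ⟨i, i.2, rfl⟩)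
    have hD : (⟨_, hx⟩ : V) ∈ D N := by
      show (∑ i, g i • b i : A) ∈ I ^ N
      rw [← Ideal.Quotient.eq_zero_iff_mem, ← hg, map_sum]
      exact Finset.sum_congr rfl fun i _ => map_smul (Ideal.Quotient.mkₐ k (I ^ N)) _ _
    rw [hN, Submodule.mem_bot] at hD
    exact Fintype.linearIndependent_iff.1 (b.linearIndependent.comp _ Subtype.val_injective) g (congrArg Subtype.val hD)
  obtain ⟨L, hL⟩ := (Fintype.linearCombination k v).exists_leftInverse_of_injective
    (LinearMap.ker_eq_bot.2 hv.fintypeLinearCombination_injective)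
  let φ : A ⧸ I ^ N →ₗ[k] k := (LinearMap.proj ⟨i₀, hi₀⟩).comp L
  have hφ : ∀ j : s, φ (v j) = if j = ⟨i₀, hi₀⟩ then 1 else 0 := fun j => by
    have := congrFun (DFunLike.congr_fun hL (Pi.single j 1)) ⟨i₀, hi₀⟩
    simpa [φ, Fintype.linearCombination_apply, Pi.single_apply, Finset.sum_ite_eq', eq_comm] using this
  have := congrArg (TensorProduct.rid k R ∘ φ.lTensor R) hc
  simp only [Function.comp_apply, map_sum, map_zero, LinearMap.lTensor_tmul, TensorProduct.rid_tmul] at this
  rw [Finset.sum_eq_single i₀] at this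
  · rwa [show φ (Ideal.Quotient.mk (I ^ N) (b i₀)) = 1 from by simpa [v] using hφ ⟨i₀, hi₀⟩, one_smul] at this
  · intro j hj hne
    rw [show φ (Ideal.Quotient.mk (I ^ N) (b j)) = 0 from by simpa [v, hne] using hφ ⟨j, hj⟩, zero_smul]
  · exact fun h => absurd hi₀ h


/-- Let k be an algebraically closed field, A a finitely generated k-algebra which is an integral domain
(X = Spec A an affine variety), R a commutative k-algebra, possibly non-reduced, and U an open
subset of X_R = Spec (R ⊗_k A) meeting every fibre of X_R → Spec R (a very dense open subset). Then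
a regular function on X_R whose restriction to U vanishes is zero: if f ∈ R ⊗_k A maps to 0 in the
localisation (R ⊗_k A)[1/g] for every g with D(g) ⊆ U, then f = 0. (The published statement is that
automorphisms of a torsor under a smooth affine group scheme over X_R which are the identity over a
very dense open subset are the identity, for X a smooth projective curve; its proof reduces this to
the present assertion about functions, for quasi-projective X; this row is the affine case.) -/
theorem result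
    (k : Type u) [Field k] [IsAlgClosed k]
    (A : Type u) [CommRing A] [Algebra k A] [IsDomain A] [Algebra.FiniteType k A]
    (R : Type u) [CommRing R] [Algebra k R]
    (U : TopologicalSpace.Opens (PrimeSpectrum (TensorProduct k R A)))
    (hsurj : ∀ q : PrimeSpectrum R, ∃ P ∈ U,
      PrimeSpectrum.comap (Algebra.TensorProduct.includeLeftRingHom : R →+* TensorProduct k R A) P = q)
    (f : TensorProduct k R A)
    (hf : ∀ g : TensorProduct k R A, (PrimeSpectrum.basicOpen g : Set (PrimeSpectrum (TensorProduct k R A))) ⊆ U →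
      algebraMap (TensorProduct k R A) (Localization.Away g) f = 0) :
    f = 0 := by
  classical
  let b := Module.Free.chooseBasis k A
  let bR := Algebra.TensorProduct.basis R b
  have hbR : ∀ z : TensorProduct k R A, z = ∑ i ∈ (bR.repr z).support, (bR.repr z i) ⊗ₜ[k] b i := fun z => by
    conv_lhs => rw [← bR.linearCombination_repr z]
    rw [Finsupp.linearCombination_apply, Finsupp.sum]
    refine Finset.sum_congr rfl fun i _ => ?_
    rw [Algebra.TensorProduct.basis_apply, TensorProduct.smul_tmul', smul_eq_mul, mul_one]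
  suffices h : ∀ i, bR.repr f i = 0 by
    exact bR.repr.injective (by ext i; simp [h i])
  intro i₀
  by_contra hi₀
  -- a maximal ideal containing the annihilator of the coefficient
  obtain ⟨q, hq, hann⟩ := Ideal.exists_le_maximal (Ideal.torsionOf R R (bR.repr f i₀))
    (fun h => hi₀ (by
      have : (1 : R) ∈ Ideal.torsionOf R R (bR.repr f i₀) := h ▸ Submodule.mem_top
      simpa [Ideal.mem_torsionOf_iff] using this))
  obtain ⟨P, hPU, hPq⟩ := hsurj ⟨q, hq.isPrime⟩
  obtain ⟨_, ⟨g, rfl⟩, hgP, hgU⟩ :=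
    PrimeSpectrum.isTopologicalBasis_basic_opens.exists_subset_of_mem_open hPU U.2
  have hgP' : g ∉ P.asIdeal := hgP
  obtain ⟨i₁, hi₁⟩ : ∃ i, bR.repr g i ∉ q := by
    by_contra h
    push Not at h
    refine hgP' ?_
    rw [hbR g]
    refine Ideal.sum_mem _ fun i _ => ?_
    have : (bR.repr g i) ⊗ₜ[k] b i = ((bR.repr g i) ⊗ₜ[k] (1 : A)) * ((1 : R) ⊗ₜ[k] b i) := by
      rw [Algebra.TensorProduct.tmul_mul_tmul, mul_one, one_mul]
    rw [this]
    refine Ideal.mul_mem_right _ _ ?_
    have := h i
    rw [show q = (PrimeSpectrum.comap (Algebra.TensorProduct.includeLeftRingHom : R →+* TensorProduct k R A) P).asIdeal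
      from congrArg PrimeSpectrum.asIdeal hPq.symm] at this
    exact this
  -- a rational point at which `g` does not vanish modulo `q`
  have hi₁' : Ideal.Quotient.mk q (bR.repr g i₁) ≠ 0 := fun h => hi₁ (Ideal.Quotient.eq_zero_iff_mem.1 h)
  obtain ⟨φ, hφ⟩ : ∃ φ : R ⧸ q →ₗ[k] k, φ (Ideal.Quotient.mk q (bR.repr g i₁)) ≠ 0 := by
    by_contra h
    push Not at h
    exact hi₁' ((Module.forall_dual_apply_eq_zero_iff k _).1 h)
  let a₀ : A := ∑ i ∈ (bR.repr g).support, φ (Ideal.Quotient.mk q (bR.repr g i)) • b i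
  have ha₀ : a₀ ≠ 0 := fun h => by
    have := linearIndependent_iff'.1 b.linearIndependent _ _ h i₁
      (Finsupp.mem_support_iff.2 fun h0 => hi₁ (by rw [h0]; exact zero_mem _))
    exact hφ this
  obtain ⟨ev, hev⟩ : ∃ ev : A →ₐ[k] k, ev a₀ ≠ 0 := exists_point k A a₀ ha₀
  set c : R := ∑ i ∈ (bR.repr g).support, ev (b i) • bR.repr g i
  have hc : c ∉ q := fun hcq => hev (by
    have h0 : φ (Ideal.Quotient.mk q c) = 0 := by rw [Ideal.Quotient.eq_zero_iff_mem.2 hcq, map_zero]
    rw [← h0]
    simp only [a₀, c, map_sum, map_smul]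
    refine Finset.sum_congr rfl fun i _ => ?_
    rw [show Ideal.Quotient.mk q (ev (b i) • bR.repr g i) = ev (b i) • Ideal.Quotient.mk q (bR.repr g i)
      from map_smul (Ideal.Quotient.mkₐ k q) _ _, map_smul, smul_eq_mul, smul_eq_mul, mul_comm])
  -- `f` dies in a neighbourhood of the point
  obtain ⟨⟨_, m, rfl⟩, hm⟩ := (IsLocalization.map_eq_zero_iff (Submonoid.powers g) (Localization.Away g) f).1
    (hf g hgU)
  haveI := hq.isPrime
  let Rq := Localization.AtPrime q
  let mA : Ideal A := RingHom.ker ev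
  obtain ⟨N, hN⟩ := sep k A mA (RingHom.ker_ne_top _) (bR.repr f).support b
  let π : TensorProduct k R A →ₐ[k] TensorProduct k Rq (A ⧸ mA ^ N) :=
    Algebra.TensorProduct.map (IsScalarTower.toAlgHom k R Rq) (Ideal.Quotient.mkₐ k (mA ^ N))
  have hπg : IsUnit (π g) := by
    have hu : IsUnit ((algebraMap R Rq c) ⊗ₜ[k] (1 : A ⧸ mA ^ N)) :=
      ((IsLocalization.map_units Rq (⟨c, hc⟩ : q.primeCompl)).map
        (Algebra.TensorProduct.includeLeftRingHom : Rq →+* TensorProduct k Rq (A ⧸ mA ^ N)))
    have hnil : IsNilpotent (π g - (algebraMap R Rq c) ⊗ₜ[k] (1 : A ⧸ mA ^ N)) := by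
      have e : π g - (algebraMap R Rq c) ⊗ₜ[k] (1 : A ⧸ mA ^ N) = ∑ i ∈ (bR.repr g).support,
          (algebraMap R Rq (bR.repr g i)) ⊗ₜ[k] (Ideal.Quotient.mk (mA ^ N) (b i - algebraMap k A (ev (b i)))) := by
        conv_lhs => rw [hbR g]
        simp only [c, map_sum, TensorProduct.sum_tmul, ← Finset.sum_sub_distrib]
        refine Finset.sum_congr rfl fun i _ => ?_
        rw [map_sub, TensorProduct.tmul_sub]
        congr 1
        rw [Ideal.Quotient.mk_algebraMap, Algebra.algebraMap_eq_smul_one (ev (b i)), TensorProduct.tmul_smul,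
          TensorProduct.smul_tmul']
        congr 1
        exact map_smul (IsScalarTower.toAlgHom k R Rq) _ _
      rw [e]
      refine isNilpotent_sum fun i _ => ⟨N, ?_⟩
      have hz : Ideal.Quotient.mk (mA ^ N) (b i - algebraMap k A (ev (b i))) ^ N = 0 := by
        rw [← map_pow, Ideal.Quotient.eq_zero_iff_mem]
        exact Ideal.pow_mem_pow (show _ ∈ mA by simp [mA, RingHom.mem_ker]) N
      rw [Algebra.TensorProduct.tmul_pow, hz, TensorProduct.tmul_zero]
    have := hnil.isUnit_add_right_of_commute hu (Commute.all _ _)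
    rwa [sub_add_cancel] at this
  have hπf : π f = 0 := by
    have := congrArg π hm
    rw [map_mul, map_pow, map_zero] at this
    exact (hπg.pow m).mul_right_eq_zero.1 this
  have hcoef := hN Rq (fun i => algebraMap R Rq (bR.repr f i)) (by
    rw [← hπf]
    conv_rhs => rw [hbR f]
    rw [map_sum]
    rfl) i₀ (Finsupp.mem_support_iff.2 hi₀)
  obtain ⟨⟨u, hu⟩, hu0⟩ := (IsLocalization.map_eq_zero_iff q.primeCompl Rq _).1 hcoef
  exact hu (hann ((Ideal.mem_torsionOf_iff _ _).2 hu0))

end Groth.Agent.S19310
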