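import Groth.Statements.S19312
import Groth.Agent.Lib.DecSh20.Stability

set_option autoImplicit false
set_option maxHeartbeats 1000000
set_option linter.style.haveILetI false
set_option backward.isDefEq.respectTransparency.types false
universe u
open CategoryTheory CategoryTheory.Limits AlgebraicGeometry
open DecSh

namespace Groth.Agent.S19312

/-- Let k be an algebraically closed field of characteristic zero, X a reduced proper k-scheme of
dimension one without isolated points, L an ample invertible O_X-module, E a coherent O_X-module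
with torsion free stalks, α(M) = χ(M ⊗ L) − χ(M) the multiplicity, and T a tensor field on E of type
(a, b) with values in a module D. Let (F•, m) be a weighted filtration of E by coherent subsheaves
and let (F•¹, m¹) be a sub-filtration of it: its pieces are F¹_j = F_{e(j)} and its weights m¹_j =
m_{e(j)} for a map e of index sets (necessarily a strictly increasing injection). Then μ(F•, m, φ) ≤
μ(F•¹, m¹, φ) + (Σ_i m_i − Σ_j m¹_j) · a · (α(E) − 1): dropping steps of total weight w raises μ by
at most w · a · (α(E) − 1). (The published lemma is for a nodal curve and a coherent module of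
uniform multirank, not necessarily torsion free, with a locally free target D; this row assumes E
torsion free and allows any target. The same inequality serves on a smooth possibly disconnected
curve, where the source uses the opposite sign convention for μ.) -/
theorem result
    (k : Type u) [Field k] [IsAlgClosed k] [CharZero k]
    (X : Scheme.{u}) [X.Over (Spec (CommRingCat.of k))] [IsProper (X ↘ Spec (CommRingCat.of k))]
    [AlgebraicGeometry.IsReduced X] (hdim : topologicalKrullDim X = 1)
    (hpure : ∀ x : X, ¬ IsOpen ({x} : Set X))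
    (L : X.Modules) (hL : CohB1.IsAmple L)
    (E : X.Modules) (hE : Coh.IsCoh E) (htf : TorSh.IsTorsionFree E)
    {D : X.Modules} {a b : ℕ} (T : DecSh.TF E a b D)
    (𝓕 𝓕₁ : DecSh.WFilt E) (e : Fin 𝓕₁.t → Fin 𝓕.t)
    (hpiece : ∀ j, 𝓕₁.piece j = 𝓕.piece (e j)) (hwt : ∀ j, 𝓕₁.wt j = 𝓕.wt (e j))
    (hcoh : ∀ i, Coh.IsCoh ((𝓕.piece i : Subobject E) : X.Modules)) :
    T.mu k L 𝓕 ≤ T.mu k L 𝓕₁ + ((∑ i, 𝓕.wt i) - ∑ j, 𝓕₁.wt j) * (a : ℚ) * ((DecSh.mult k X L E : ℚ) - 1) := by
  haveI := GrothLib.Euler.isNoetherian_of_proper (X := X) k
  have hp := GrothLib.DecSh20.isPure_of_torsionFree hdim hpure htf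
  exact GrothLib.DecSh20.mu_le_mu_sub 𝓕 _ (fun P => DecSh.mult k X L (P : X.Modules)) T.nv
    (fun i => (GrothLib.DecSh20.piece_mult k hdim.le hL hE hp 𝓕 hcoh i).1)
    (fun i => (GrothLib.DecSh20.piece_mult k hdim.le hL hE hp 𝓕 hcoh i).2) 𝓕₁ e hpiece hwt

end Groth.Agent.S19312
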