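import Groth.Statements.S19314
import Groth.Agent.Lib.DecSh20.Stability

set_option autoImplicit false
set_option maxHeartbeats 1000000
set_option linter.style.haveILetI false
set_option backward.isDefEq.respectTransparency.types false
universe u
open CategoryTheory CategoryTheory.Limits AlgebraicGeometry
open DecSh

namespace Groth.Agent.S19314

/-- Let k be an algebraically closed field of characteristic zero, X a reduced proper k-scheme of
dimension one without isolated points, L an ample invertible O_X-module, χ the Euler characteristic
over k and α(M) = χ(M ⊗ L) − χ(M) the multiplicity. Fix δ > 0, integers α and e, natural numbers a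
and b and an O_X-module D. Then the family of coherent O_X-modules F with torsion free stalks, α(F)
= α and χ(F) = e (fixed Hilbert polynomial) for which there is a δ-semistable tensor field of type
(a, b) on F with values in D is bounded: there are a k-scheme T of finite type and a coherent module
on X ×_k T among whose fibres at k-points every member occurs up to isomorphism. (The published
corollary is for a reduced projective curve with D locally free, in a section whose polarisation is
very ample. The bound on the maximal slope that drives the proof uses none of these, and boundedness
for an ample L follows from the very ample case by passing to a power of L, which rescales all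
multiplicities.) -/
theorem result
    (k : Type u) [Field k] [IsAlgClosed k] [CharZero k]
    (X : Scheme.{u}) [X.Over (Spec (CommRingCat.of k))] [IsProper (X ↘ Spec (CommRingCat.of k))]
    [AlgebraicGeometry.IsReduced X] (hdim : topologicalKrullDim X = 1)
    (hpure : ∀ x : X, ¬ IsOpen ({x} : Set X))
    (L : X.Modules) (hL : CohB1.IsAmple L)
    (δ : ℚ) (hδ : 0 < δ) (α e : ℤ) (a b : ℕ) (D : X.Modules) :
    Pic13.IsBounded k X (fun F => Coh.IsCoh F ∧ TorSh.IsTorsionFree F ∧ DecSh.mult k X L F = α ∧
      Curv2.euler k X F = e ∧ ∃ T : DecSh.TF F a b D, T.IsSemistable k L δ) := by
  haveI := GrothLib.Euler.isNoetherian_of_proper (X := X) k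
  refine GrothLib.BddFam20.isBounded_mono
    (GrothLib.DecSh20.isBounded_fam k hdim.le hL {(α, e)} (Set.finite_singleton _) (|(e : ℚ)| + δ * a)) ?_
  rintro F ⟨hF, htf, rfl, rfl, T, hT⟩
  exact ⟨_, rfl, hF, GrothLib.DecSh20.isPure_of_torsionFree hdim hpure htf, rfl, rfl,
    GrothLib.DecSh20.subLe_of_semistable k hdim.le hL hF
      (GrothLib.DecSh20.isPure_of_torsionFree hdim hpure htf) T hδ hT⟩

end Groth.Agent.S19314
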