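import Groth.Statements.S19316
import Groth.Agent.Lib.DecSh20.Parabolic

set_option autoImplicit false
set_option maxHeartbeats 1000000
set_option linter.style.haveILetI false
set_option backward.isDefEq.respectTransparency.types false
universe u
open CategoryTheory CategoryTheory.Limits AlgebraicGeometry
open DecSh

namespace Groth.Agent.S19316

/-- Let k be an algebraically closed field of characteristic zero, Y a smooth proper k-scheme of
dimension one without isolated points (possibly disconnected) and L an ample invertible O_Y-module.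
Fix finitely many effective Cartier ideal sheaves I_1, …, I_ν on Y (the divisors D_i), rational
weights κ_i with 0 < κ_i < 1, δ > 0, natural numbers r, a, b and an integer d. Consider the locally
free O_Y-modules E of rank r and degree d (χ(E) − r·χ(O_Y) = d) for which there exist k-subspaces
K_i ⊂ H⁰(E ⊗ O_{D_i}) with quotients of dimension r and a tensor field of type (a, b) on E with
values in some O_Y-module, (κ, δ)-semistable with respect to L. This family is bounded: there is n₀
such that for every such E and every n ≥ n₀, H¹(Y, E ⊗ L^{⊗n}) = 0 and E ⊗ L^{⊗n} is globally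
generated. (The published statement fixes the target det(E)^{⊗c} ⊗ L' of the tensor field and takes
the D_i to be the pairs of points over the nodes; allowing any target and any effective divisors
gives a larger family, bounded by the same argument.) -/
theorem result
    (k : Type u) [Field k] [IsAlgClosed k] [CharZero k]
    (Y : Scheme.{u}) [Y.Over (Spec (CommRingCat.of k))] [IsProper (Y ↘ Spec (CommRingCat.of k))]
    [Smooth (Y ↘ Spec (CommRingCat.of k))] (hdim : topologicalKrullDim Y = 1)
    (hpure : ∀ y : Y, ¬ IsOpen ({y} : Set Y))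
    (L : Y.Modules) (hL : CohB1.IsAmple L)
    {ν : ℕ} (I : Fin ν → Y.IdealSheafData) (hI : ∀ i, FGA.IsEffCartier (I i))
    (κ : Fin ν → ℚ) (hκ : ∀ i, 0 < κ i ∧ κ i < 1) (δ : ℚ) (hδ : 0 < δ)
    (r a b : ℕ) (d : ℤ) :
    ∃ n₀ : ℕ, ∀ n : ℕ, n₀ ≤ n → ∀ E : Y.Modules,
      (FlatMod.IsFinLocFreeOfRank r E ∧ Curv2.deg k Y E r = d ∧
        ∃ (K : ∀ i, Submodule k (ParSh.fibD Y (I i) E)),
          (∀ i, Module.finrank k (ParSh.fibD Y (I i) E ⧸ K i) = r) ∧
          ∃ (D : Y.Modules) (T : DecSh.TF E a b D), T.IsParSemistable k I K κ L δ) →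
      Subsingleton (Coh.HH Y (CohB1.tensorMod E (CohB1.tensorPow L n)) 1) ∧
        Curv2.IsGloballyGenerated (CohB1.tensorMod E (CohB1.tensorPow L n)) := by
  haveI := GrothLib.Euler.isNoetherian_of_proper (X := Y) k
  haveI := GrothLib.Rigidity.isReduced_of_smooth (Y ↘ Spec (CommRingCat.of k))
  let χ : ℤ := d + r * Curv2.euler k Y (Coh.structureModule Y)
  obtain ⟨N, hN⟩ := GrothLib.DecSh20.exists_regular k hdim.le hL
    ((r : ℤ) * DecSh.mult k Y L (Coh.structureModule Y)) χ (|(χ : ℚ)| + ((r : ℚ) * ν + δ * a))
  refine ⟨N, fun n hn E ⟨hE, hd, K, hK, D, T, hT⟩ => hN n hn E ?_⟩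
  have hEc := GrothLib.Euler.isCoh_of_isFinLocFree (GrothLib.FinCov.isFinLocFree_of_rank hE)
  have hp := GrothLib.DecSh20.isPure_of_torsionFree hdim hpure (GrothLib.DecSh20.isTorsionFree_of_locFree hE)
  have hχ : Curv2.euler k Y E = χ := by
    simp only [χ, ← hd, Curv2.deg]
    ring
  refine ⟨hEc, hp, GrothLib.DecSh20.mult_locFree k hdim.le hL.1 hE, hχ, ?_⟩
  rw [← hχ]
  exact GrothLib.DecSh20.par_subLe k hdim.le I K hK κ hκ hL hEc hp T hδ hT hE

end Groth.Agent.S19316
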