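import Groth.Statements.S19318
import Groth.Agent.Lib.DecSh20.Parabolic

set_option autoImplicit false
set_option maxHeartbeats 1000000
set_option linter.style.haveILetI false
set_option backward.isDefEq.respectTransparency.types false
universe u
open CategoryTheory CategoryTheory.Limits AlgebraicGeometry
open DecSh

namespace Groth.Agent.S19318

/-- Let k be an algebraically closed field of characteristic zero, Y a smooth proper k-scheme of
dimension one without isolated points (possibly disconnected) and L an ample invertible O_Y-module;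
write χ for the Euler characteristic over k, M(n) = M ⊗ L^{⊗n}, h⁰(M) = dim_k H⁰(Y, M), α(M) = χ(M ⊗
L) − χ(M). Fix effective Cartier ideal sheaves I_1, …, I_ν (divisors D_j), rational weights 0 < κ_j
< 1, δ > 0, natural numbers r, a, b and an integer d. Then there is n₁ such that for every n > n₁
the following holds. Let E be locally free of rank r and degree d (χ(E) − r χ(O_Y) = d) with
k-subspaces K_j ⊂ H⁰(E ⊗ O_{D_j}) whose quotients q_j have dimension r, let T be a tensor field of
type (a, b) on E with values in an O_Y-module D such that (E, K, T) is (κ, δ)-semistable with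
respect to L, and let (E•, m•) be a weighted filtration of E by coherent subsheaves E_i with weights
m_i. For a subsheaf P ⊆ E put c(P) = Σ_j κ_j · dim q_j(image of H⁰(P ⊗ O_{D_j})), so that the
κ-parabolic Euler characteristic is parχ(P) = χ(P) − c(P); put parh⁰(E_i(n)) = h⁰(E_i(n)) − c(E_i)
and parχ(E(n)) = χ(E(n)) − c(E). Then Σ_i m_i (α(E) · parh⁰(E_i(n)) − α(E_i) · parχ(E(n))) + δ ·
μ(E•, m•, φ) ≤ 0, with μ taken in the sign convention where δ-semistability reads 'linear part + δ μ
≤ 0' (the source writes this chapter with the opposite signs). (Only the semistable version is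
stated; the published target of the tensor field is det(E)^{⊗c} ⊗ L' and the D_j are the pairs of
points over the nodes of the curve being normalised — the argument uses neither.) -/
theorem result
    (k : Type u) [Field k] [IsAlgClosed k] [CharZero k]
    (Y : Scheme.{u}) [Y.Over (Spec (CommRingCat.of k))] [IsProper (Y ↘ Spec (CommRingCat.of k))]
    [Smooth (Y ↘ Spec (CommRingCat.of k))] (hdim : topologicalKrullDim Y = 1)
    (hpure : ∀ y : Y, ¬ IsOpen ({y} : Set Y))
    (L : Y.Modules) (hL : CohB1.IsAmple L)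
    {ν : ℕ} (I : Fin ν → Y.IdealSheafData) (hI : ∀ i, FGA.IsEffCartier (I i))
    (κ : Fin ν → ℚ) (hκ : ∀ i, 0 < κ i ∧ κ i < 1) (δ : ℚ) (hδ : 0 < δ)
    (r a b : ℕ) (d : ℤ) :
    ∃ n₁ : ℕ, ∀ n : ℕ, n₁ < n → ∀ (E : Y.Modules), FlatMod.IsFinLocFreeOfRank r E → Curv2.deg k Y E r = d →
      ∀ (K : ∀ i, Submodule k (ParSh.fibD Y (I i) E)),
        (∀ i, Module.finrank k (ParSh.fibD Y (I i) E ⧸ K i) = r) →
        ∀ (D : Y.Modules) (T : DecSh.TF E a b D), T.IsParSemistable k I K κ L δ →
          ∀ 𝓕 : DecSh.WFilt E, (∀ i, Coh.IsCoh ((𝓕.piece i : Subobject E) : Y.Modules)) →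
            (∑ i, 𝓕.wt i *
              ((DecSh.mult k Y L E : ℚ) *
                  ((Module.finrank k (Coh.HH Y (ShStab.twist Y L ((𝓕.piece i : Subobject E) : Y.Modules) n) 0) : ℚ) -
                    ((Curv2.euler k Y ((𝓕.piece i : Subobject E) : Y.Modules) : ℚ) -
                      DecSh.parChi k I K κ (𝓕.piece i).arrow)) -
                (DecSh.mult k Y L ((𝓕.piece i : Subobject E) : Y.Modules) : ℚ) *
                  ((Curv2.euler k Y (ShStab.twist Y L E n) : ℚ) -
                    ((Curv2.euler k Y E : ℚ) - DecSh.parChi k I K κ (𝟙 E))))) +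
              δ * T.mu k L 𝓕 ≤ 0 := by
  haveI := GrothLib.Euler.isNoetherian_of_proper (X := Y) k
  haveI := GrothLib.Rigidity.isReduced_of_smooth (Y ↘ Spec (CommRingCat.of k))
  let χ : ℤ := d + r * Curv2.euler k Y (Coh.structureModule Y)
  let αE : ℤ := (r : ℤ) * DecSh.mult k Y L (Coh.structureModule Y)
  obtain ⟨N, hN⟩ := GrothLib.DecSh20.exists_dichotomy k hdim.le hL αE (|(χ : ℚ)| + ((r : ℚ) * ν + δ * a))
    (|(χ : ℚ)| + (r : ℚ) * ν + δ * a + 1)
  refine ⟨N, fun n hn E hE hd K hK D T hT 𝓕 hcoh => ?_⟩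
  have hEc := GrothLib.Euler.isCoh_of_isFinLocFree (GrothLib.FinCov.isFinLocFree_of_rank hE)
  have hp := GrothLib.DecSh20.isPure_of_torsionFree hdim hpure (GrothLib.DecSh20.isTorsionFree_of_locFree hE)
  have hχ : Curv2.euler k Y E = χ := by
    simp only [χ, ← hd, Curv2.deg]
    ring
  have hα : DecSh.mult k Y L E = αE := GrothLib.DecSh20.mult_locFree k hdim.le hL.1 hE
  have hr : 0 < r := GrothLib.DecSh20.eq_pos_of_sub hE (𝓕.piece ⟨0, 𝓕.t_pos⟩).arrow (𝓕.piece_nonzero _)
  have hsub := GrothLib.DecSh20.par_subLe k hdim.le I K hK κ hκ hL hEc hp T hδ hT hE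
  rw [hχ] at hsub
  have h12 := GrothLib.DecSh20.piece_mult k hdim.le hL hEc hp 𝓕 hcoh
  have hbE := GrothLib.DecSh20.parChi_bounds k I K hK κ hκ (𝟙 E) hr
  exact (GrothLib.DecSh20.sum_add_mu_le 𝓕 (DecSh.mult k Y L E) (fun P => DecSh.mult k Y L (P : Y.Modules)) T.nv
    (fun i => (h12 i).1) (fun i => (h12 i).2) hδ
    (fun P => (DecSh.mult k Y L E : ℚ) * DecSh.parChi k I K κ P.arrow -
      (DecSh.mult k Y L (P : Y.Modules) : ℚ) * DecSh.parChi k I K κ (𝟙 E))
    (fun P => (DecSh.mult k Y L E : ℚ) *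
        ((Module.finrank k (Coh.HH Y (ShStab.twist Y L (P : Y.Modules) n) 0) : ℚ) -
          ((Curv2.euler k Y (P : Y.Modules) : ℚ) - DecSh.parChi k I K κ P.arrow)) -
      (DecSh.mult k Y L (P : Y.Modules) : ℚ) *
        ((Curv2.euler k Y (ShStab.twist Y L E n) : ℚ) - ((Curv2.euler k Y E : ℚ) - DecSh.parChi k I K κ (𝟙 E))))
    (fun i => (Module.finrank k (Coh.HH Y (ShStab.twist Y L ((𝓕.piece i : Subobject E) : Y.Modules) n) 0) : ℚ) =
      (Curv2.euler k Y ((𝓕.piece i : Subobject E) : Y.Modules) : ℚ) +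
        n * (DecSh.mult k Y L ((𝓕.piece i : Subobject E) : Y.Modules) : ℚ))
    (fun i hi => by
      simp only [hi, GrothLib.DecSh20.euler_twist k hdim.le hL.1 hEc]
      push_cast
      ring)
    (fun i hi => by
      rcases hN n hn.le ((𝓕.piece i : Subobject E) : Y.Modules) (hcoh i)
        (GrothLib.DecSh20.isPure_of_mono (𝓕.piece i).arrow hp) (h12 i).1 (hα ▸ (h12 i).2)
        (GrothLib.DecSh20.subLe_of_mono k (𝓕.piece i).arrow hsub) with h | h
      · exact absurd (by exact_mod_cast h.1) hi
      · have h1 : (1 : ℚ) ≤ DecSh.mult k Y L ((𝓕.piece i : Subobject E) : Y.Modules) := by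
          exact_mod_cast (h12 i).1
        have h2 : (DecSh.mult k Y L ((𝓕.piece i : Subobject E) : Y.Modules) : ℚ) ≤ DecSh.mult k Y L E := by
          exact_mod_cast (h12 i).2
        have hb := (GrothLib.DecSh20.parChi_bounds k I K hK κ hκ (𝓕.piece i).arrow hr).2
        have hA : (0 : ℚ) ≤ DecSh.mult k Y L E := by linarith
        have hh := mul_le_mul_of_nonneg_left h hA
        have hb' := mul_le_mul_of_nonneg_left hb hA
        have hP0 : (0 : ℚ) ≤ DecSh.mult k Y L ((𝓕.piece i : Subobject E) : Y.Modules) := zero_le_one.trans h1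
        have hc := mul_le_mul_of_nonneg_left hbE.1 hP0
        have he : -((DecSh.mult k Y L E : ℚ) * |(χ : ℚ)|) ≤
            (DecSh.mult k Y L ((𝓕.piece i : Subobject E) : Y.Modules) : ℚ) * (χ : ℚ) := by
          have := mul_le_mul_of_nonneg_left (neg_abs_le (χ : ℚ)) hP0
          have := mul_le_mul_of_nonneg_right h2 (abs_nonneg (χ : ℚ))
          linarith
        have hrn := mul_le_mul_of_nonneg_right h2 (show (0 : ℚ) ≤ (r : ℚ) * ν by positivity)
        have hda : 0 ≤ δ * a := by positivity
        rw [hχ] at hc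
        simp only [GrothLib.DecSh20.euler_twist k hdim.le hL.1 hEc, hχ]
        push_cast
        linarith)
    (fun 𝓕₁ h₁ => hT 𝓕₁ fun j => by obtain ⟨i, hi⟩ := h₁ j; rw [hi]; exact hcoh i)).1

end Groth.Agent.S19318
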