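import Groth.Statements.S1932
-- import your own Groth.Agent.* helpers here
import Groth.Agent.Lib.C1.ProperPush
import Groth.Agent.Lib.C1.ZeroScheme
import Groth.Agent.Lib.C1.Closed
import Groth.Agent.Lib.CycBasic.Push

set_option autoImplicit false
universe u
open CategoryTheory AlgebraicGeometry
open CategoryTheory.Limits
open Cyc

namespace Groth.Agent.S1932

/-- Gysin maps commute with proper push-forward: let f : X' → X be a proper morphism, L an invertible
O_X-module with a global section s whose zero scheme is the closed immersion i : D → X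
(Cyc.IsZeroSchemeOf), and D' = X' ×_X D with projections i' : D' → X' and g : D' → D, where i' is
the zero scheme of some global section s' of f^*L. For a (k + 1)-cycle α' on X', i^*(f_*α') ∼_rat
g_*((i')^*α') as k-cycles on D. Here the Gysin map i^* : Z_{k+1}(X) → CH_k(D) is computed on
coefficient functions as c_1(L) ∩ − with the rational sections taken to be s where it is nonzero
(Cyc.gysinChoice, completed by arbitrary nonzero choices elsewhere) and restricted to the points of
D, likewise for (i')^* with f^*L and s', and classes on D are compared up to rational equivalence on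
D for the restricted dimension function. A pair (X, δ) with Cyc.IsSetup (X locally Noetherian with
universally catenary local rings, δ a dimension function) plays the role of a scheme locally of
finite type over a base equipped with a dimension function, and Cyc.DeltaCompat records that the
dimension function δ' on X' is the one induced from δ along f. -/
theorem result (X X' D : Scheme.{u}) (δ : X → ℤ) (δ' : X' → ℤ) (hX : Cyc.IsSetup X δ) (hX' : Cyc.IsSetup X' δ') (f : X' ⟶ X) [IsProper f] (hδ : Cyc.DeltaCompat f δ' δ) (L : X.Modules) (hL : PicF.IsInvertible L) (s : L.presheaf.obj (Opposite.op ⊤)) (i : D ⟶ X) [IsClosedImmersion i] (hD : Cyc.IsZeroSchemeOf i L s) (s' : ((Scheme.Modules.pullback f).obj L).presheaf.obj (Opposite.op ⊤)) (hD' : Cyc.IsZeroSchemeOf (pullback.fst f i) ((Scheme.Modules.pullback f).obj L) s') (k : ℤ) (α' : AlgebraicCycle X' ℤ) (hα' : α' ∈ Cyc.Zk X' δ' (k + 1)) (w : (ξ : X) → Cyc.secFibre L ξ) (hw : ∀ ξ, w ξ ≠ 0) (w' : (ξ : X') → Cyc.secFibre ((Scheme.Modules.pullback f).obj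 L) ξ) (hw' : ∀ ξ, w' ξ ≠ 0) (γ : AlgebraicCycle D ℤ) (hγ : ∀ d, γ d = Cyc.c1CapFun δ L ⇑(AlgebraicCycle.map f δ' δ α') (Cyc.gysinChoice L s w) (i d)) (γ' : AlgebraicCycle (pullback f i) ℤ) (hγ' : ∀ z, γ' z = Cyc.c1CapFun δ' ((Scheme.Modules.pullback f).obj L) ⇑α' (Cyc.gysinChoice ((Scheme.Modules.pullback f).obj L) s' w') (pullback.fst f i z)) : Cyc.RatEquiv (fun d => δ (i d)) k γ (AlgebraicCycle.map (pullback.snd f i) (fun z => δ' (pullback.fst f i z)) (fun d => δ (i d)) γ') := by
  classical
  haveI : IsLocallyNoetherian X := hX.1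
  haveI : IsLocallyNoetherian X' := hX'.1
  haveI : IsLocallyNoetherian D := LocallyOfFiniteType.isLocallyNoetherian i
  haveI : IsLocallyNoetherian (pullback f i) := LocallyOfFiniteType.isLocallyNoetherian (pullback.fst f i)
  set δD : D → ℤ := fun d => δ (i d) with hδDdef
  set δP : ↥(pullback f i) → ℤ := fun z => δ' (pullback.fst f i z) with hδPdef
  have hdimD : Cyc.IsDimFun D δD := GrothLib.CycPush.isDimFun_closedImmersion i hX.2.2
  have hdimP : Cyc.IsDimFun (pullback f i : Scheme.{u}) δP :=
    GrothLib.CycPush.isDimFun_closedImmersion (pullback.fst f i) hX'.2.2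
  have hg : Cyc.DeltaCompat (pullback.snd f i) δP δD :=
    GrothLib.C1.deltaCompat_of_square (pullback.fst f i) f (pullback.snd f i) i pullback.condition δ' δ hδ
  have hi : Cyc.DeltaCompat i δD δ := GrothLib.CycPush.deltaCompat_comp i δ
  have hi' : Cyc.DeltaCompat (pullback.fst f i) δP δ' := GrothLib.CycPush.deltaCompat_comp (pullback.fst f i) δ'
  have hk : ∀ ξ, α' ξ ≠ 0 → δ' ξ = k + 1 := fun ξ hξ => by_contra fun h => hξ (hα' ξ h)
  have hL' := GrothLib.C1.isInvertible_pullback f hL
  have hD0 := GrothLib.C1.isZeroSchemeOf_pullback f i hL hD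
  have hw0 : ∀ ξ, GrothLib.C1.pullChoice f hL w ξ ≠ 0 := fun ξ => GrothLib.C1.pullFib_ne_zero f hL (hw _)
  set v := Cyc.gysinChoice L s w
  have hv : ∀ ξ, v ξ ≠ 0 := GrothLib.C1.gysinChoice_ne_zero hw
  have hv' : ∀ ξ, GrothLib.C1.pullChoice f hL v ξ ≠ 0 := fun ξ => GrothLib.C1.pullFib_ne_zero f hL (hv _)
  have hlf := GrothLib.C1.lf_c1Cap hX'.2.2 hL' (GrothLib.C1.LF.of_cycle α') hv'
  let γ0 : AlgebraicCycle X' ℤ := GrothLib.C1.toCycle _ hlf
  let γ0' : AlgebraicCycle (pullback f i : Scheme.{u}) ℤ :=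
    GrothLib.C1.toCycle _ (GrothLib.C1.lf_comp (pullback.fst f i) hlf)
  have hpc : GrothLib.C1.pullChoice f hL v = Cyc.gysinChoice ((Scheme.Modules.pullback f).obj L)
      (GrothLib.C1.pullSec f L s) (GrothLib.C1.pullChoice f hL w) :=
    funext (GrothLib.C1.gysinChoice_pullback f hL w)
  have hpush : AlgebraicCycle.map (pullback.fst f i) δP δ' γ0' = γ0 := by
    ext x
    by_cases hx : x ∈ Set.range (pullback.fst f i)
    · obtain ⟨z, rfl⟩ := hx
      exact GrothLib.C1.map_on (pullback.fst f i) γ0' z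
    · rw [GrothLib.C1.map_zero_off (pullback.fst f i) inferInstance γ0' hx]
      by_contra h
      refine hx (GrothLib.C1.gysin_supp (pullback.fst f i) hX'.2.2 hL' hD0 (α := ⇑α')
        (GrothLib.C1.pullChoice f hL w) ?_)
      rw [← hpc]
      exact fun h0 => h h0.symm
  have hγd : ∀ d, γ d = AlgebraicCycle.map (pullback.snd f i) δP δD γ0' d := fun d => by
    rw [hγ, ← GrothLib.C1.map_c1Cap_pull f hL hX'.2.2 hX.2.2 hδ α' hv γ0 rfl, ← hpush,
      GrothLib.CycBasic.map_map (pullback.fst f i) f δP δ' δ hi' hδ,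
      ← GrothLib.C1.map_on (δ := δ) i (AlgebraicCycle.map (pullback.snd f i) δP δD γ0') d,
      GrothLib.CycBasic.map_map (pullback.snd f i) i δP δD δ hg hi,
      GrothLib.C1.map_congr pullback.condition δP δ γ0']
  have hγeq : γ = AlgebraicCycle.map (pullback.snd f i) δP δD γ0' := by
    ext d
    exact hγd d
  have hrz := GrothLib.C1.rz_gysin_change (pullback.fst f i) hX'.2.2 hL' hD0 hD' (GrothLib.C1.LF.of_cycle α') hk hw0 hw'
  have hr : Cyc.RatEquiv δP k γ0' γ' := GrothLib.C1.ratEquiv_of_RZ hdimP hrz fun z => by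
    show Cyc.c1CapFun δ' _ ⇑α' (GrothLib.C1.pullChoice f hL v) (pullback.fst f i z) - γ' z = _
    rw [hγ', hpc]
  have h := GrothLib.C1.ratEquivZero_map (pullback.snd f i) hdimP hdimD hg hr
  rw [GrothLib.CycPush.map_sub, ← hγeq] at h
  exact h

end Groth.Agent.S1932
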