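import Groth.Statements.S19321
import Groth.Agent.Lib.DecSh20.Sectional

set_option autoImplicit false
set_option maxHeartbeats 1000000
set_option linter.style.haveILetI false
set_option backward.isDefEq.respectTransparency.types false
universe u
open CategoryTheory CategoryTheory.Limits AlgebraicGeometry
open DecSh

namespace Groth.Agent.S19321

/-- Let k be an algebraically closed field of characteristic zero, X a reduced proper k-scheme of
dimension one without isolated points, and L an ample invertible O_X-module which is very ample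
relative to some projective space over k; write χ for the Euler characteristic over k, M(m) = M ⊗
L^{⊗m}, h⁰(M) = dim_k H⁰(X, M), α(M) = χ(M ⊗ L) − χ(M). Fix δ > 0, integers α and e, natural numbers
a, b and a finite locally free O_X-module D. Then there is N₁ such that for every rational number C
the following family of coherent O_X-modules F′ is bounded: F′ admits a monomorphism with torsion
free cokernel (a saturated subsheaf) into some coherent F with torsion free stalks, α(F) = α, χ(F) =
e, which carries a tensor field T of type (a, b) with values in D that is δ-semistable with respect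
to L or satisfies for some m ≥ N₁ the quotient sectional condition Σ_i m_i (α(F/F_i) · χ(F(m)) − α ·
h⁰((F/F_i)(m))) + δ μ ≤ 0 for all weighted filtrations of F by coherent subsheaves; and |χ(F′) −
α(F′) · (e − aδ)/α| ≤ C. (The last condition is the source's |deg F′ − α(F′) μ_s| ≤ C with μ_s =
(deg F − aδ)/α, rewritten through χ: the correction terms by the rational rank cancel. The published
setting is a reduced projective curve with a very ample polarisation and a locally free D, as here.) -/
theorem result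
    (k : Type u) [Field k] [IsAlgClosed k] [CharZero k]
    (X : Scheme.{u}) [X.Over (Spec (CommRingCat.of k))] [IsProper (X ↘ Spec (CommRingCat.of k))]
    [AlgebraicGeometry.IsReduced X] (hdim : topologicalKrullDim X = 1)
    (hpure : ∀ x : X, ¬ IsOpen ({x} : Set X))
    (L : X.Modules) (hL : CohB1.IsAmple L) (hva : RelAmple.IsRelVeryAmplePn (X ↘ Spec (CommRingCat.of k)) L)
    (δ : ℚ) (hδ : 0 < δ) (α e : ℤ) (a b : ℕ) (D : X.Modules) (hD : FlatMod.IsFinLocFree D) :
    ∃ N₁ : ℕ, ∀ C : ℚ, Pic13.IsBounded k X (fun F' => Coh.IsCoh F' ∧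
      (∃ (F : X.Modules) (ι : F' ⟶ F), Mono ι ∧ TorSh.IsTorsionFree (cokernel ι) ∧
        Coh.IsCoh F ∧ TorSh.IsTorsionFree F ∧ DecSh.mult k X L F = α ∧ Curv2.euler k X F = e ∧
          ∃ T : DecSh.TF F a b D, (T.IsSemistable k L δ ∨ ∃ m : ℕ, N₁ ≤ m ∧
            ∀ 𝓕 : DecSh.WFilt F, (∀ i, Coh.IsCoh ((𝓕.piece i : Subobject F) : X.Modules)) →
              (∑ i, 𝓕.wt i * ((DecSh.mult k X L (cokernel (𝓕.piece i).arrow) : ℚ) *
                  (Curv2.euler k X (ShStab.twist X L F m) : ℚ) -
                (α : ℚ) * (Module.finrank k (Coh.HH X (ShStab.twist X L (cokernel (𝓕.piece i).arrow) m) 0) : ℚ))) +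
                δ * T.mu k L 𝓕 ≤ 0)) ∧
      |(Curv2.euler k X F' : ℚ) - (DecSh.mult k X L F' : ℚ) * (((e : ℚ) - (a : ℚ) * δ) / (α : ℚ))| ≤ C) := by
  haveI := GrothLib.Euler.isNoetherian_of_proper (X := X) k
  have hp : ∀ {F : X.Modules}, TorSh.IsTorsionFree F → ShStab.IsPure X F 1 := fun htf =>
    GrothLib.DecSh20.isPure_of_torsionFree hdim hpure htf
  obtain ⟨N₁, B, hB⟩ := GrothLib.DecSh20.exists_subLe k hdim.le hL hδ α e a
  refine ⟨N₁, fun C => ?_⟩
  let s : ℚ := ((e : ℚ) - (a : ℚ) * δ) / (α : ℚ)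
  let R : ℤ := ⌈|C| + |(α : ℚ)| * |s|⌉
  refine GrothLib.BddFam20.isBounded_mono (GrothLib.DecSh20.isBounded_fam k hdim.le hL
    (Set.Icc 0 α ×ˢ Set.Icc (-R) R) ((Set.finite_Icc _ _).prod (Set.finite_Icc _ _)) B) ?_
  rintro F' ⟨hF', ⟨F, ι, hι, -, hF, htf, hα, he, T, hT⟩, hC⟩
  haveI := hι
  have hα0 := GrothLib.DecSh20.mult_nonneg k hdim.le hL hF'
  have hα1 : DecSh.mult k X L F' ≤ α := hα ▸ GrothLib.DecSh20.mult_le_of_mono k hdim.le hL ι hF' hF
  refine ⟨(DecSh.mult k X L F', Curv2.euler k X F'), ⟨⟨hα0, hα1⟩, ?_⟩, hF',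
    hp (GrothLib.DecSh20.isTorsionFree_of_mono ι htf), rfl, rfl,
    GrothLib.DecSh20.subLe_of_mono k ι (hB F D b T hF (hp htf) hα he hT)⟩
  have h1 : |(DecSh.mult k X L F' : ℚ) * s| ≤ |(α : ℚ)| * |s| := by
    rw [abs_mul]
    refine mul_le_mul_of_nonneg_right ?_ (abs_nonneg _)
    have ha0 : (0 : ℚ) ≤ (DecSh.mult k X L F' : ℚ) := by exact_mod_cast hα0
    rw [abs_of_nonneg ha0]
    exact le_trans (by exact_mod_cast hα1) (le_abs_self _)
  have h2 : |(Curv2.euler k X F' : ℚ)| ≤ |C| + |(α : ℚ)| * |s| := by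
    have h := abs_sub_abs_le_abs_sub (Curv2.euler k X F' : ℚ) ((DecSh.mult k X L F' : ℚ) * s)
    have h3 := le_abs_self C
    linarith
  have h4 := h2.trans (Int.le_ceil _)
  have h5 : |Curv2.euler k X F'| ≤ ⌈|C| + |(α : ℚ)| * |s|⌉ := by exact_mod_cast h4
  exact abs_le.1 h5

end Groth.Agent.S19321
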