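import Groth.Statements.S19322
import Groth.Agent.Lib.SpSeqBasic25.Stationary
import Mathlib.Algebra.Category.ModuleCat.Kernels
import Mathlib.Algebra.Category.ModuleCat.Abelian
import Mathlib.LinearAlgebra.FiniteDimensional.Lemmas
import Mathlib.RingTheory.Finiteness.Basic
-- import your own Groth.Agent.* helpers here

set_option autoImplicit false
universe v u
open CategoryTheory CategoryTheory.Limits
open SpSeq

namespace Groth.Agent.S19322

open GrothLib.SpSeqBasic25

variable {K : Type u} [Field K]

theorem finrank_homology {κ : Type} {c : ComplexShape κ} (P : HomologicalComplex (ModuleCat.{v} K) c)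
    (i : κ) [Module.Finite K (P.X i)] :
    Module.Finite K (P.homology i) ∧ Module.finrank K (P.homology i) ≤ Module.finrank K (P.X i) ∧
      (Module.finrank K (P.homology i) = Module.finrank K (P.X i) →
        (∀ j, P.d j i = 0) ∧ ∀ j, P.d i j = 0) := by
  have hi : Function.Injective (P.iCycles i) := (ModuleCat.mono_iff_injective _).1 inferInstance
  have hp : Function.Surjective (P.homologyπ i) := (ModuleCat.epi_iff_surjective _).1 inferInstance
  haveI : Module.Finite K (P.cycles i) := Module.Finite.of_injective (P.iCycles i).hom hi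
  haveI : Module.Finite K (P.homology i) := Module.Finite.of_surjective (P.homologyπ i).hom hp
  have h1 := LinearMap.finrank_le_finrank_of_injective (f := (P.iCycles i).hom) hi
  have h2 := LinearMap.finrank_le_finrank_of_surjective (f := (P.homologyπ i).hom) hp
  refine ⟨inferInstance, h2.trans h1, fun he => ?_⟩
  have hie : Function.Surjective (P.iCycles i) :=
    (LinearMap.injective_iff_surjective_of_finrank_eq_finrank (f := (P.iCycles i).hom) (by omega)).1 hi
  have hpe : Function.Injective (P.homologyπ i) :=
    (LinearMap.injective_iff_surjective_of_finrank_eq_finrank (f := (P.homologyπ i).hom) (by omega)).2 hp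
  haveI : Mono (P.homologyπ i) := (ModuleCat.mono_iff_injective _).2 hpe
  haveI : Epi (P.iCycles i) := (ModuleCat.epi_iff_surjective _).2 hie
  refine ⟨fun j => ?_, fun j => ?_⟩
  · rw [← P.toCycles_i j i, show P.toCycles j i = 0 from by
      rw [← cancel_mono (P.homologyπ i), zero_comp, P.toCycles_comp_homologyπ]]
    exact zero_comp
  · rw [← cancel_epi (P.iCycles i), comp_zero, P.iCycles_d]

variable {r₀ : ℤ} (E : CohomologicalSpectralSequence (ModuleCat.{v} K) r₀) (pq : ℤ × ℤ)

theorem finrank_page (hfd : Module.Finite K ((E.page r₀ le_rfl).X pq)) :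
    ∀ (r : ℤ) (hr : r₀ ≤ r), Module.Finite K ((E.page r hr).X pq) ∧
      Module.finrank K ((E.page r hr).X pq) ≤ Module.finrank K ((E.page r₀ le_rfl).X pq) ∧
      (Module.finrank K ((E.page r hr).X pq) = Module.finrank K ((E.page r₀ le_rfl).X pq) →
        ∀ (r' : ℤ) (h₀ : r₀ ≤ r'), r' < r →
          (E.page r' h₀).d (pq - (r', 1 - r')) pq = 0 ∧ (E.page r' h₀).d pq (pq + (r', 1 - r')) = 0) := by
  intro r hr
  induction r, hr using Int.le_induction with
  | base => exact ⟨hfd, le_rfl, fun _ r' h₀ h => absurd h (by omega)⟩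
  | succ n hn ih =>
    obtain ⟨h1, h2, h3⟩ := ih
    obtain ⟨g1, g2, g3⟩ := finrank_homology (E.page n hn) pq
    let e := (E.iso n (n + 1) pq rfl hn).toLinearEquiv
    have he := e.finrank_eq
    refine ⟨Module.Finite.equiv e, by omega, fun h r' h₀ hlt => ?_⟩
    rcases lt_or_eq_of_le (Int.lt_add_one_iff.1 hlt) with hl | rfl
    · exact h3 (by omega) r' h₀ hl
    · exact ⟨(g3 (by omega)).1 _, (g3 (by omega)).2 _⟩

theorem finrank_fil {X : ModuleCat.{v} K} [Module.Finite K X] (F : ℤ → Subobject X) (hF : Antitone F) (p : ℤ) :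
    Module.finrank K (F p : ModuleCat.{v} K) =
      Module.finrank K (F (p + 1) : ModuleCat.{v} K) + Module.finrank K (SpSeq.grPiece F hF p : ModuleCat.{v} K) := by
  let f := (F (p + 1)).ofLE (F p) (hF (Int.le_add_one le_rfl))
  haveI : Module.Finite K (F p : ModuleCat.{v} K) :=
    Module.Finite.of_injective (F p).arrow.hom ((ModuleCat.mono_iff_injective _).1 inferInstance)
  have hf : Function.Injective f.hom := (ModuleCat.mono_iff_injective f).1 inferInstance
  have h1 := LinearMap.finrank_range_of_inj hf
  have h2 := (LinearMap.range f.hom).finrank_quotient_add_finrank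
  have h3 := (ModuleCat.cokernelIsoRangeQuotient f).toLinearEquiv.finrank_eq
  have h4 : Module.finrank K ↥(cokernel f : ModuleCat.{v} K) =
      Module.finrank K ((F p : ModuleCat.{v} K) ⧸ LinearMap.range f.hom) := h3
  change _ = _ + Module.finrank K ↥(cokernel f : ModuleCat.{v} K)
  rw [h4, ← h2, h1]
  omega



/-- Let K be a field and E a cohomological spectral sequence of K-vector spaces, pages from r₀,
concentrated in the first quadrant on page r₀ and with all terms of page r₀ finite-dimensional, and
let H be abutment data for E whose filtration in degree n is finite, H n finite-dimensional. If the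
dimensions of the page-r₀ terms E^{s, n-s}, 0 ≤ s ≤ n, add up to the dimension of H n, then every
position of total degree n is stationary from page r₀ on: all differentials into and out of it
vanish on every page. (The printed statement takes r₀ a positive integer and n ≥ 0; neither
restriction is needed.) -/
theorem result
    {K : Type u} [Field K] {r₀ : ℤ}
    (E : CohomologicalSpectralSequence (ModuleCat.{v} K) r₀) (H : ℤ → ModuleCat.{v} K)
    (a : SpSeq.Abutment E H) (n : ℤ) (hfin : a.IsFinite n)
    (hquad : ∀ pq : ℤ × ℤ, pq.1 < 0 ∨ pq.2 < 0 → IsZero ((E.page r₀ le_rfl).X pq))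
    (hfd : ∀ pq : ℤ × ℤ, Module.Finite K ((E.page r₀ le_rfl).X pq))
    (hH : Module.Finite K (H n))
    (hsum : ∑ s ∈ Finset.Icc (0 : ℤ) n, Module.finrank K ((E.page r₀ le_rfl).X (s, n - s)) =
      Module.finrank K (H n)) :
    ∀ s : ℤ, SpSeq.StationaryAt E (s, n - s) r₀ := by
  haveI := hH
  have hgr : ∀ p : ℤ, Module.finrank K (SpSeq.grPiece (a.fil n) (a.anti n) p : ModuleCat.{v} K) =
      Module.finrank K ((E.page (a.rk (p, n - p)) (a.stat (p, n - p)).1).X (p, n - p)) := by
    intro p
    have e : ∀ m : ℤ, m = n → Module.finrank K (SpSeq.grPiece (a.fil n) (a.anti n) p : ModuleCat.{v} K) =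
        Module.finrank K (SpSeq.grPiece (a.fil m) (a.anti m) p : ModuleCat.{v} K) := by
      rintro _ rfl
      rfl
    exact (e _ (by change p + (n - p) = n; omega)).trans (a.β (p, n - p)).toLinearEquiv.finrank_eq.symm
  have hout : ∀ p : ℤ, p ∉ Finset.Icc (0 : ℤ) n →
      Module.finrank K (SpSeq.grPiece (a.fil n) (a.anti n) p : ModuleCat.{v} K) = 0 := by
    intro p hp
    rw [hgr]
    simp only [Finset.mem_Icc, not_and_or, not_le] at hp
    haveI := ModuleCat.subsingleton_of_isZero (isZero_of_le E le_rfl (p, n - p)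
      (hquad _ (by change p < 0 ∨ n - p < 0; omega)) (a.rk (p, n - p)) (a.stat (p, n - p)).1 (a.stat (p, n - p)).1)
    exact Module.finrank_zero_of_subsingleton
  obtain ⟨⟨t, ht⟩, ⟨b, hb⟩⟩ := hfin
  let t' := min t 0
  let b' := max b (max (n + 1) t')
  have ht' : a.fil n t' = ⊤ := le_antisymm le_top (ht.symm.le.trans (a.anti n (min_le_left _ _)))
  have hb' : a.fil n b' = ⊥ := le_antisymm ((a.anti n (le_max_left _ _)).trans hb.le) bot_le
  have hsum' : ∀ k : ℤ, t' ≤ k → Module.finrank K (a.fil n t' : ModuleCat.{v} K) =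
      Module.finrank K (a.fil n k : ModuleCat.{v} K) +
        ∑ p ∈ Finset.Ico t' k, Module.finrank K (SpSeq.grPiece (a.fil n) (a.anti n) p : ModuleCat.{v} K) := by
    intro k hk
    induction k, hk using Int.le_induction with
    | base => simp
    | succ m hm ih =>
      rw [ih, finrank_fil (a.fil n) (a.anti n) m, show Finset.Ico t' (m + 1) = insert m (Finset.Ico t' m) from by
        ext x; simp only [Finset.mem_Ico, Finset.mem_insert]; omega,
        Finset.sum_insert (by simp)]
      omega
  have hX := hsum' b' (le_max_of_le_right (le_max_right _ _))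
  rw [ht', hb'] at hX
  have htop : Module.finrank K ((⊤ : Subobject (H n)) : ModuleCat.{v} K) = Module.finrank K (H n) :=
    (asIso (⊤ : Subobject (H n)).arrow).toLinearEquiv.finrank_eq
  have hbot : Module.finrank K ((⊥ : Subobject (H n)) : ModuleCat.{v} K) = 0 := by
    haveI := ModuleCat.subsingleton_of_isZero
      ((isZero_zero (ModuleCat.{v} K)).of_iso (Subobject.botCoeIsoZero (B := H n)))
    exact Module.finrank_zero_of_subsingleton
  rw [htop, hbot, zero_add, ← Finset.sum_subset (s₁ := Finset.Icc (0 : ℤ) n) (by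
    intro x hx
    simp only [Finset.mem_Icc] at hx
    simp only [Finset.mem_Ico]
    omega) (fun p _ hp => hout p hp), ← hsum, Finset.sum_congr rfl (fun p _ => hgr p)] at hX
  intro s
  refine ⟨le_rfl, fun r' h₀ _ => ?_⟩
  by_cases hs : s ∈ Finset.Icc (0 : ℤ) n
  · obtain ⟨_, _, h3⟩ := finrank_page E (s, n - s) (hfd _) (max (a.rk (s, n - s)) r₀) (le_max_right _ _)
    rcases lt_or_ge r' (a.rk (s, n - s)) with hl | hl
    · refine (finrank_page E (s, n - s) (hfd _) (a.rk (s, n - s)) (a.stat _).1).2.2 ?_ r' h₀ hl
      exact (Finset.sum_eq_sum_iff_of_le (fun p _ =>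
        (finrank_page E (p, n - p) (hfd _) (a.rk (p, n - p)) (a.stat _).1).2.1)).1 hX.symm s hs
    · exact (a.stat (s, n - s)).2 r' h₀ hl
  · simp only [Finset.mem_Icc, not_and_or, not_le] at hs
    have hz := isZero_of_le E le_rfl (s, n - s) (hquad _ (by change s < 0 ∨ n - s < 0; omega)) r' h₀ h₀
    exact ⟨hz.eq_of_tgt _ _, hz.eq_of_src _ _⟩

end Groth.Agent.S19322
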