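import Groth.Statements.S19323
import Mathlib.Algebra.Homology.ShortComplex.HomologicalComplex
-- import your own Groth.Agent.* helpers here

set_option autoImplicit false
universe v u
open CategoryTheory CategoryTheory.Limits
open SpSeq

namespace Groth.Agent.S19323

variable {C : Type u} [Category.{v} C] [Abelian C]

theorem isZero_of_two (E : E₂CohomologicalSpectralSequence C) (pq : ℤ × ℤ)
    (h : IsZero ((E.page 2 le_rfl).X pq)) : ∀ (r : ℤ) (hr : 2 ≤ r), IsZero ((E.page r hr).X pq) := by
  intro r hr
  induction r, hr using Int.le_induction with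
  | base => exact h
  | succ n hn ih =>
    exact ((HomologicalComplex.exactAt_iff_isZero_homology _ _).1
      (ShortComplex.exact_of_isZero_X₂ _ ih)).of_iso (E.iso n (n + 1) pq rfl hn).symm



/-- In an abelian category let E and E' be first-quadrant E₂ cohomological spectral sequences and φ : E
⟶ E' a morphism of spectral sequences such that (i) every differential of E' leaving a position
whose first coordinate is nonzero vanishes, (ii) on every page the map φ at each position followed
by the outgoing differential of E' is zero, and (iii) φ is a monomorphism at every position of page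
2. Then E degenerates at page 2. -/
theorem result
    {C : Type u} [Category.{v} C] [Abelian C]
    (E E' : E₂CohomologicalSpectralSequence C) (φ : E ⟶ E')
    (hE : ∀ pq : ℤ × ℤ, pq.1 < 0 ∨ pq.2 < 0 → IsZero ((E.page 2 le_rfl).X pq))
    (hE' : ∀ pq : ℤ × ℤ, pq.1 < 0 ∨ pq.2 < 0 → IsZero ((E'.page 2 le_rfl).X pq))
    (hd' : ∀ (r : ℤ) (hr : 2 ≤ r) (pq : ℤ × ℤ), pq.1 ≠ 0 →
      (E'.page r hr).d pq (pq + (r, 1 - r)) = 0)
    (hφd : ∀ (r : ℤ) (hr : 2 ≤ r) (pq : ℤ × ℤ),
      (φ.hom r hr).f pq ≫ (E'.page r hr).d pq (pq + (r, 1 - r)) = 0)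
    (hmono : ∀ pq : ℤ × ℤ, Mono ((φ.hom 2 le_rfl).f pq)) :
    SpSeq.Degenerates E 2 := by
  have key : ∀ (r : ℤ) (hr : 2 ≤ r), (∀ pq : ℤ × ℤ, r ≤ pq.1 → Mono ((φ.hom r hr).f pq)) →
      ∀ pq pq' : ℤ × ℤ, (E.page r hr).d pq pq' = 0 := by
    intro r hr hm pq pq'
    by_cases hrel : (ComplexShape.up' ((⟨r, 1 - r⟩ : ℤ × ℤ))).Rel pq pq'
    · obtain rfl : pq + (r, 1 - r) = pq' := hrel
      by_cases hp : pq.1 < 0
      · exact (isZero_of_two E pq (hE pq (Or.inl hp)) r hr).eq_of_src _ _
      · haveI := hm (pq + (r, 1 - r)) (by simp only [Prod.fst_add]; omega)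
        rw [← cancel_mono ((φ.hom r hr).f (pq + (r, 1 - r))), zero_comp, ← (φ.hom r hr).comm, hφd]
    · exact (E.page r hr).shape _ _ hrel
  have main : ∀ (r : ℤ) (hr : 2 ≤ r), ∀ pq : ℤ × ℤ, r ≤ pq.1 → Mono ((φ.hom r hr).f pq) := by
    intro r hr
    induction r, hr using Int.le_induction with
    | base => exact fun pq _ => hmono pq
    | succ n hn ih =>
      intro pq hpq
      let K := E.page n hn
      let K' := E'.page n hn
      have hd : ∀ a b, K.d a b = 0 := key n hn ih
      have hd0 : ∀ a, K'.d a pq = 0 := fun a => by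
        by_cases hrel : (ComplexShape.up' ((⟨n, 1 - n⟩ : ℤ × ℤ))).Rel a pq
        · obtain rfl : a + (n, 1 - n) = pq := hrel
          refine hd' n hn a ?_
          simp only [Prod.fst_add] at hpq
          omega
        · exact K'.shape _ _ hrel
      haveI := ih pq (by omega)
      haveI : IsIso (K.homologyπ pq) := K.isIso_homologyπ _ pq rfl (hd _ _)
      haveI : IsIso (K'.homologyπ pq) := K'.isIso_homologyπ _ pq rfl (hd0 _)
      haveI : Mono (HomologicalComplex.cyclesMap (φ.hom n hn) pq ≫ K'.iCycles pq) := by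
        rw [HomologicalComplex.cyclesMap_i]
        infer_instance
      haveI : Mono (HomologicalComplex.cyclesMap (φ.hom n hn) pq) := mono_of_mono _ (K'.iCycles pq)
      have hn' : HomologicalComplex.homologyMap (φ.hom n hn) pq =
          inv (K.homologyπ pq) ≫ HomologicalComplex.cyclesMap (φ.hom n hn) pq ≫ K'.homologyπ pq := by
        rw [IsIso.eq_inv_comp]
        exact HomologicalComplex.homologyπ_naturality _ _
      have e : (φ.hom (n + 1) (by omega)).f pq = (E.iso n (n + 1) pq rfl hn).inv ≫
          HomologicalComplex.homologyMap (φ.hom n hn) pq ≫ (E'.iso n (n + 1) pq rfl hn).hom := by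
        rw [Iso.eq_inv_comp, φ.comm n (n + 1) pq rfl hn]
      rw [e, hn']
      infer_instance
  exact ⟨le_rfl, fun r h₀ _ pq pq' => key r h₀ (main r h₀) pq pq'⟩

end Groth.Agent.S19323
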