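import Groth.Statements.S19326
import Groth.Agent.Lib.AffQuot.Torus

set_option autoImplicit false
universe u
open TensorProduct
open GLin

namespace Groth.Agent.S19326

/-- Let k be a field, M a finite abelian group and D = Spec k[M] the finite diagonalizable group scheme
it defines, acting on an affine k-scheme U = Spec R through a multiplicative coaction R → R ⊗ k[M];
write R_a for the weight space of a ∈ M (elements with coaction f ⊗ a). For an ideal J of R the
induced action of D on the closed subscheme V(J) is trivial, meaning that the coaction followed by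
reduction modulo J equals f ↦ (f mod J) ⊗ 1, exactly when J contains the ideal generated by the
weight spaces R_a for a ≠ 0; in other words that ideal defines the largest closed subscheme of U on
which D acts trivially. (The printed setting has U smooth, which plays no role here and is not
assumed; the further assertion that the construction commutes with flat base change on U/D is not
part of this statement.) -/
theorem result
    {k : Type u} [Field k] {M : Type u} [AddCommGroup M] [Finite M]
    {R : Type u} [CommRing R] [Algebra k R] [HopfRep.Comod k (AddMonoidAlgebra k M) R]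
    [GLin.IsCoactAlg k (AddMonoidAlgebra k M) R] (J : Ideal R) :
    (∀ f : R, LinearMap.rTensor (AddMonoidAlgebra k M) (Ideal.Quotient.mkₐ k J).toLinearMap
        (HopfRep.Comod.coact (k := k) (A := AddMonoidAlgebra k M) f) =
        (Ideal.Quotient.mk J f) ⊗ₜ[k] (1 : AddMonoidAlgebra k M)) ↔
      Ideal.span (⋃ (a : M) (_ : a ≠ 0),
        (HopfRep.eigenspace k (AddMonoidAlgebra k M) R (AddMonoidAlgebra.single a 1) : Set R)) ≤ J := by
  classical
  let χ : M → AddMonoidAlgebra k M →ₗ[k] k := fun a =>
    Finsupp.lapply a ∘ₗ (AddMonoidAlgebra.coeffLinearEquiv k).toLinearMap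
  constructor
  · intro h
    rw [Ideal.span_le]
    refine Set.iUnion₂_subset fun a ha f hf => ?_
    have hf' : HopfRep.Comod.coact (k := k) (A := AddMonoidAlgebra k M) f =
        f ⊗ₜ[k] AddMonoidAlgebra.single a 1 := hf
    have h1 := congrArg (fun y => TensorProduct.rid k (R ⧸ J) ((χ a).lTensor (R ⧸ J) y)) (h f)
    simp only [hf', LinearMap.rTensor_tmul, LinearMap.lTensor_tmul, TensorProduct.rid_tmul, χ,
      LinearMap.comp_apply, LinearEquiv.coe_coe, AddMonoidAlgebra.coeffLinearEquiv_apply,
      AddMonoidAlgebra.one_def, AddMonoidAlgebra.coeff_single, Finsupp.lapply_apply,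
      Finsupp.single_apply, ha.symm, if_true, if_false, one_smul, zero_smul] at h1
    exact Ideal.Quotient.eq_zero_iff_mem.1 h1
  · intro h f
    have hz : ∀ w : M, w ≠ 0 → Ideal.Quotient.mk J (GrothLib.AffQuot.Torus.comp (k := k) w f) = 0 :=
      fun w hw => Ideal.Quotient.eq_zero_iff_mem.2 <| h <| Ideal.subset_span <|
        Set.mem_iUnion₂.2 ⟨w, hw, GrothLib.AffQuot.Torus.comp_mem w f⟩
    let q : R →ₗ[k] R ⧸ J := (Ideal.Quotient.mkₐ k J).toLinearMap
    have hs : Ideal.Quotient.mk J f =
        (GrothLib.AffQuot.Torus.coords (k := k) (Λ := M) (HopfRep.Comod.coact (k := k) (A := AddMonoidAlgebra k M) f)).sum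
          fun _ r => q r := by
      conv_lhs => rw [← GrothLib.AffQuot.Torus.sum_comp (k := k) (Λ := M) f]
      rw [map_finsuppSum]
      rfl
    conv_lhs => rw [GrothLib.AffQuot.Torus.coact_eq f, map_finsuppSum]
    rw [hs, Finsupp.sum, Finsupp.sum, TensorProduct.sum_tmul]
    refine Finset.sum_congr rfl fun w _ => ?_
    rw [LinearMap.rTensor_tmul]
    by_cases hw : w = 0
    · subst hw; rfl
    · have e : q (GrothLib.AffQuot.Torus.coords (k := k) (Λ := M)
        (HopfRep.Comod.coact (k := k) (A := AddMonoidAlgebra k M) f) w) = 0 := hz w hw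
      rw [e, TensorProduct.zero_tmul, TensorProduct.zero_tmul]

end Groth.Agent.S19326
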