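import Groth.Statements.S19329
import Groth.Agent.Lib.ModPair19.Closure
import Groth.Agent.S18731
-- import your own Groth.Agent.* helpers here

set_option autoImplicit false
universe u
open CategoryTheory CategoryTheory.Limits AlgebraicGeometry TopologicalSpace
open ModPair

namespace Groth.Agent.S19329

/-- Let (X, I), (Y, J), (Z, K) be modulus pairs, i.e. schemes with quasi-coherent ideal sheaves of
effective Cartier divisors, and let f : X ⟶ Y and g : Y ⟶ Z satisfy the modulus conditions I ≤
J.comap f and J ≤ K.comap g. Suppose the composite X ⟶ Z is minimal, I = K.comap (f ≫ g). Then f is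
minimal, and there is an open subset U of Y whose inclusion is quasi-compact, which contains the
image of f, and such that U ⟶ Z is minimal for the modulus of Y restricted to U. -/
theorem result {X Y Z : Scheme.{u}}
    (I : X.IdealSheafData) (J : Y.IdealSheafData) (K : Z.IdealSheafData)
    (hI : BlowUp.IsEffCartierIdeal I) (hJ : BlowUp.IsEffCartierIdeal J)
    (hK : BlowUp.IsEffCartierIdeal K) (f : X ⟶ Y) (g : Y ⟶ Z)
    (hf : ModPair.IsAmbient I J f) (hg : ModPair.IsAmbient J K g)
    (hfg : ModPair.IsMinimal I K (f ≫ g)) :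
    ModPair.IsMinimal I J f ∧
      ∃ U : Y.Opens, QuasiCompact U.ι ∧ Set.range f.base ⊆ (U : Set Y) ∧
        ModPair.IsMinimal (J.comap U.ι) K (U.ι ≫ g) := by
  have hle : J ≤ K.comap g := hg
  have he : I = J.comap f := le_antisymm hf (hfg ▸ (by
    rw [Scheme.IdealSheafData.comap_comp]; exact Scheme.IdealSheafData.comap_mono f hle))
  have hK' : BlowUp.IsEffCartierIdeal (K.comap g) := Groth.Agent.S18731.result J K hJ hK g hg
  obtain ⟨Q, hQ, hJQ⟩ := GrothLib.RelDiv.exists_eq_mul hK' hJ hle
  have hfK : (K.comap g).comap f = I := by rw [← Scheme.IdealSheafData.comap_comp]; exact hfg.symm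
  have hQ1 : Q.comap f = ⊤ := by
    refine GrothLib.RelDiv.eq_of_mul_eq_mul_left hI ?_
    rw [← Scheme.IdealSheafData.one_eq_top, mul_one]
    nth_rw 1 [← hfK]
    rw [← GrothLib.BlowUp.comap_mul, ← hJQ, ← he]
  refine ⟨he, ModPair.interior Q, ?_, ?_, ?_⟩
  · haveI := GrothLib.ModPair19.isAffineHom_interior hQ
    infer_instance
  · rintro _ ⟨x, rfl⟩
    have h := (GrothLib.ModPair19.interior_eq_top_iff.2 hQ1).ge (show x ∈ (⊤ : X.Opens) from trivial)
    rw [GrothLib.ModPair19.interior_comap] at h
    exact h
  · change _ = _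
    rw [hJQ, GrothLib.BlowUp.comap_mul, GrothLib.ModPair19.comap_ι_interior, ← Scheme.IdealSheafData.one_eq_top,
      mul_one, ← Scheme.IdealSheafData.comap_comp]

end Groth.Agent.S19329
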