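import Groth.Statements.S1933
-- import your own Groth.Agent.* helpers here
import Groth.Agent.Lib.C1.FlatGysin

set_option autoImplicit false
universe u
open CategoryTheory AlgebraicGeometry
open CategoryTheory.Limits
open Cyc

namespace Groth.Agent.S1933

/-- Gysin maps commute with flat pullback. Let f : X' → X be flat, locally of finite type, of relative
dimension r, (L, s, i : D → X) as in the Gysin construction and D' = X' ×_X D with i' : D' → X' (the
zero scheme of a section of f^*L) and g : D' → D. For a (k + 1)-cycle α on X, (i')^*(f^*α) ∼_rat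
g^*(i^*α) as (k + r)-cycles on D', flat pullbacks being taken coefficientwise. Here i : D → X is the
zero scheme of a global section s of the invertible module L (Cyc.IsZeroSchemeOf), the Gysin map i^*
: Z_{k+1}(X) → CH_k(D) is computed on coefficient functions as c_1(L) ∩ − with the rational sections
taken to be s where it is nonzero (Cyc.gysinChoice) and restricted to the points of D, and classes
on D are compared up to rational equivalence on D for the restricted dimension function. A pair (X,
δ) with Cyc.IsSetup plays the role of a scheme locally of finite type over a base (S, δ) (X locally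
Noetherian with universally catenary local rings, δ a dimension function), and Cyc.DeltaCompat
records that the dimension function upstairs is the induced one. -/
theorem result (X X' D : Scheme.{u}) (δ : X → ℤ) (δ' : X' → ℤ) (hX : Cyc.IsSetup X δ) (hX' : Cyc.IsSetup X' δ') (f : X' ⟶ X) [Flat f] [LocallyOfFiniteType f] (r : ℕ) (hr : Cyc.HasRelDim f r) (hδ : Cyc.DeltaCompat f δ' δ) (L : X.Modules) (hL : PicF.IsInvertible L) (s : L.presheaf.obj (Opposite.op ⊤)) (i : D ⟶ X) [IsClosedImmersion i] (hD : Cyc.IsZeroSchemeOf i L s) (s' : ((Scheme.Modules.pullback f).obj L).presheaf.obj (Opposite.op ⊤)) (hD' : Cyc.IsZeroSchemeOf (pullback.fst f i) ((Scheme.Modules.pullback f).obj L) s') (k : ℤ) (α : AlgebraicCycle X ℤ) (hα : α ∈ Cyc.Zk X δ (k + 1)) (w : (ξ : X) → Cyc.secFibre L ξ) (hw : ∀ ξ, w ξ ≠ 0) (w' : (ξ : X') → Cyc.secFibre ((Scheme.Modules.pullback f).obj L) ξ) (hw' : ∀ ξ, w' ξ ≠ 0) (ζ₁ ζ₂ : AlgebraicCycle (pullback f i) ℤ) (h₁ : ∀ z, ζ₁ z = Cyc.c1CapFun δ' ((Scheme.Modules.pullback f).obj L)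 (Cyc.pullFun f δ' δ r ⇑α) (Cyc.gysinChoice ((Scheme.Modules.pullback f).obj L) s' w') (pullback.fst f i z)) (h₂ : ⇑ζ₂ = Cyc.pullFun (pullback.snd f i) (fun z => δ' (pullback.fst f i z)) (fun d => δ (i d)) r (fun d => Cyc.c1CapFun δ L ⇑α (Cyc.gysinChoice L s w) (i d))) : Cyc.RatEquiv (fun z => δ' (pullback.fst f i z)) (k + r) ζ₁ ζ₂ := by
  classical
  haveI : IsLocallyNoetherian X := hX.1
  haveI : IsLocallyNoetherian X' := hX'.1
  haveI : IsLocallyNoetherian D := LocallyOfFiniteType.isLocallyNoetherian i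
  haveI : IsLocallyNoetherian (pullback f i) := LocallyOfFiniteType.isLocallyNoetherian (pullback.fst f i)
  have hc := GrothLib.CycDiv.shift_of_hasRelDim f hr hδ
  have hk : ∀ ξ, α ξ ≠ 0 → δ ξ = k + 1 := fun ξ hξ => by_contra fun h => hξ (hα ξ h)
  have hlf := GrothLib.C1.lf_pullFun f hX'.2.2 hc (GrothLib.C1.LF.of_cycle α)
  have hk' : ∀ ξ, Cyc.pullFun f δ' δ r ⇑α ξ ≠ 0 → δ' ξ = (k + r) + 1 := fun ξ hξ => by
    rw [GrothLib.CycFlat.pullFun_apply] at hξ
    split_ifs at hξ with h
    · rw [h, hk _ (left_ne_zero_of_mul hξ)]; ring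
    · exact absurd rfl hξ
  have hL' := GrothLib.C1.isInvertible_pullback f hL
  have hD0 := GrothLib.C1.isZeroSchemeOf_pullback f i hL hD
  have hw0 : ∀ ξ, GrothLib.C1.pullChoice f hL w ξ ≠ 0 := fun ξ => GrothLib.C1.pullFib_ne_zero f hL (hw _)
  have hrz := GrothLib.C1.rz_gysin_change (pullback.fst f i) hX'.2.2 hL' hD' hD0 hlf hk' hw' hw0
  refine GrothLib.C1.ratEquiv_of_RZ (GrothLib.CycPush.isDimFun_closedImmersion (pullback.fst f i) hX'.2.2) hrz fun z => ?_
  have hx : f (pullback.fst f i z) = i (pullback.snd f i z) := by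
    show (pullback.fst f i ≫ f) z = (pullback.snd f i ≫ i) z
    rw [pullback.condition]
  rw [h₁, h₂, sub_right_inj]
  rw [← (funext (GrothLib.C1.gysinChoice_pullback f hL w) :
      GrothLib.C1.pullChoice f hL (Cyc.gysinChoice L s w) = _),
    ← GrothLib.C1.c1Cap_pullFun f hL hX'.2.2 hX.2.2 hc (GrothLib.C1.LF.of_cycle α)
      (GrothLib.C1.gysinChoice_ne_zero hw) (pullback.fst f i z),
    GrothLib.CycFlat.pullFun_apply, GrothLib.CycFlat.pullFun_apply, GrothLib.C1.fibLength_pullback_snd, hx]

end Groth.Agent.S1933
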