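import Groth.Statements.S19330
import Groth.Agent.Lib.ModPair19.Image
import Groth.Agent.Lib.GrpdQuot.InvariantOpen
-- import your own Groth.Agent.* helpers here

set_option autoImplicit false
universe u
open CategoryTheory CategoryTheory.Limits AlgebraicGeometry TopologicalSpace
open ModPair

namespace Groth.Agent.S19330

/-- Let (S, I) be a modulus pair, i.e. a scheme with the quasi-coherent ideal sheaf of an effective
Cartier divisor, with interior U, and let g_i : V_i ⟶ U be a jointly surjective family of closed
immersions into the interior. Let V̄_i be the scheme-theoretic image of V_i ⟶ U ⟶ S. Then the closed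
immersions V̄_i ⟶ S are jointly surjective, the modulus restricted to each V̄_i is again the ideal
sheaf of an effective Cartier divisor (so that V̄_i ⟶ S is a minimal morphism of modulus pairs), and
the interior of V̄_i is V_i: the canonical morphism V_i ⟶ V̄_i is an open immersion whose image is
the preimage of U. -/
theorem result {S : Scheme.{u}} (I : S.IdealSheafData)
    (hI : BlowUp.IsEffCartierIdeal I) {ι : Type u} (V : ι → Scheme.{u})
    (g : ∀ i, V i ⟶ (ModPair.interior I : Scheme.{u})) [∀ i, IsClosedImmersion (g i)]
    (hsurj : ∀ u : (ModPair.interior I : Scheme.{u}), ∃ (i : ι) (v : V i), (g i).base v = u) :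
    (∀ s : S, ∃ (i : ι) (v : (g i ≫ (ModPair.interior I).ι).image),
        (g i ≫ (ModPair.interior I).ι).imageι.base v = s) ∧
      (∀ i, BlowUp.IsEffCartierIdeal (I.comap (g i ≫ (ModPair.interior I).ι).imageι)) ∧
      ∀ i, IsOpenImmersion (g i ≫ (ModPair.interior I).ι).toImage ∧
        Set.range (g i ≫ (ModPair.interior I).ι).toImage.base =
          (g i ≫ (ModPair.interior I).ι).imageι.base ⁻¹' (ModPair.interior I : Set S) := by
  haveI := GrothLib.ModPair19.isAffineHom_interior hI
  haveI := GrothLib.ModPair19.dominant_interior hI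
  refine ⟨fun s => ?_, fun i => ?_, fun i => GrothLib.ModPair19.toImage_of_closed (g i)⟩
  · have hd := (inferInstance : IsDominant (ModPair.interior I).ι).denseRange
    obtain ⟨z, -, hz⟩ := GrothLib.GrpdQuot.exists_specializes_of_mem_closure (ModPair.interior I).ι Set.univ
      isClosed_univ s (by rw [Set.image_univ]; exact hd s)
    obtain ⟨i, v, hv⟩ := hsurj z
    refine ⟨i, ?_⟩
    have hmem : (ModPair.interior I).ι z ∈ Set.range (g i ≫ (ModPair.interior I).ι).imageι := by
      refine ⟨(g i ≫ (ModPair.interior I).ι).toImage v, ?_⟩
      rw [← Scheme.Hom.comp_apply, Scheme.Hom.toImage_imageι, Scheme.Hom.comp_apply, hv]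
    exact hz.mem_closed (g i ≫ (ModPair.interior I).ι).imageι.isClosedEmbedding.isClosed_range hmem
  · refine GrothLib.ModPair19.eff_image (GrothLib.ModPair19.isLocPrincipal_of_eff hI) _ ?_
    rintro _ ⟨v, rfl⟩
    rw [Scheme.Hom.comp_apply]
    exact ((g i) v).2

end Groth.Agent.S19330
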