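import Groth.Statements.S19331
import Groth.Agent.Lib.AbsApprox.ModApprox
import Groth.Agent.Lib.AbsApprox.FiniteApprox
import Groth.Agent.Lib.AbsApprox.ClosedStage
import Groth.Agent.Lib.QuasiDom6.Main
import Mathlib.AlgebraicGeometry.ZariskisMainTheorem

set_option autoImplicit false
set_option backward.isDefEq.respectTransparency false
universe u
open CategoryTheory CategoryTheory.Limits AlgebraicGeometry TopologicalSpace
open ModPair

namespace Groth.Agent.S19331

/-- Let (S, I) be a modulus pair, i.e. a scheme with the quasi-coherent ideal sheaf of an effective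
Cartier divisor, with S quasi-compact and quasi-separated and with interior U, and let t₀ : T₀ ⟶ U
be a finite surjective morphism. Then there are a finite surjective morphism t : T ⟶ S such that the
pulled-back modulus I.comap t is again the ideal sheaf of an effective Cartier divisor, making T ⟶ S
a minimal morphism of modulus pairs, and an open immersion j : T₀ ⟶ T with image t⁻¹(U) and j ≫ t =
t₀ ≫ (U ⟶ S), so that t₀ is the interior of t. -/
theorem result {S : Scheme.{u}}
    [CompactSpace S] [QuasiSeparatedSpace S] (I : S.IdealSheafData)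
    (hI : BlowUp.IsEffCartierIdeal I) {T₀ : Scheme.{u}}
    (t₀ : T₀ ⟶ (ModPair.interior I : Scheme.{u})) [IsFinite t₀] [Surjective t₀] :
    ∃ (T : Scheme.{u}) (t : T ⟶ S) (j : T₀ ⟶ T), IsFinite t ∧ Surjective t ∧
      BlowUp.IsEffCartierIdeal (I.comap t) ∧ IsOpenImmersion j ∧
      Set.range j.base = t.base ⁻¹' (ModPair.interior I : Set S) ∧
      j ≫ t = t₀ ≫ (ModPair.interior I).ι := by
  classical
  let V := ModPair.interior I
  let f : T₀ ⟶ S := t₀ ≫ V.ι
  have hIfg := GrothLib.AbsApprox.fg_of_isEffCartierIdeal hI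
  haveI : QuasiCompact V.ι := by
    obtain ⟨κ, _, U, hU⟩ := GrothLib.AbsApprox.exists_affine_cover_compl_support I hIfg
    have hVc : IsCompact (V : Set S) := by
      show IsCompact ((I.support.compl : S.Opens) : Set S)
      rw [← hU, Opens.coe_iSup]
      exact isCompact_iUnion fun k => (U k).2.isCompact
    haveI : CompactSpace V.toScheme := isCompact_iff_compactSpace.1 hVc
    exact quasiCompact_of_compactSpace _
  haveI : QuasiCompact f := inferInstanceAs (QuasiCompact (t₀ ≫ V.ι))
  haveI : IsSeparated f := inferInstanceAs (IsSeparated (t₀ ≫ V.ι))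
  haveI : LocallyOfFiniteType f := inferInstanceAs (LocallyOfFiniteType (t₀ ≫ V.ι))
  haveI : LocallyQuasiFinite f := inferInstanceAs (LocallyQuasiFinite (t₀ ≫ V.ι))
  haveI : CompactSpace T₀ := QuasiCompact.compactSpace_of_compactSpace f
  haveI : IsOpenImmersion f.toNormalization := by
    have h : IsOpenImmersion (f.quasiFiniteLocus.ι ≫ f.toNormalization) := inferInstance
    have e : f.quasiFiniteLocus = ⊤ := f.quasiFiniteLocus_eq_top
    rw [e] at h
    haveI : IsIso (⊤ : T₀.Opens).ι := GrothLib.Nagata6.isIso_ι_top T₀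
    exact (MorphismProperty.cancel_left_of_respectsIso @IsOpenImmersion (⊤ : T₀.Opens).ι f.toNormalization).1 h
  haveI : CompactSpace f.normalization := QuasiCompact.compactSpace_of_compactSpace f.fromNormalization
  obtain ⟨J, _, _, _, D, π, hl, hfin, htr⟩ := GrothLib.AbsApprox.exists_finite_system_of_integral f.fromNormalization
  let F := D ⋙ Over.forget S
  let cF := (Over.forget S).mapCone (Cone.mk (Over.mk f.fromNormalization) π)
  have hF : IsLimit cF := isLimitOfPreserves _ hl
  haveI : ∀ {i j} (a : i ⟶ j), IsAffineHom (F.map a) := fun {i j} a => htr i j a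
  haveI : ∀ i, IsFinite (D.obj i).hom := fun i => (hfin i).1
  haveI : ∀ i, CompactSpace ↥(F.obj i) := fun i => QuasiCompact.compactSpace_of_compactSpace (D.obj i).hom
  haveI : ∀ i, QuasiSeparatedSpace ↥(F.obj i) := fun i => quasiSeparatedSpace_of_quasiSeparated (D.obj i).hom
  let o : T₀ ⟶ cF.pt := f.toNormalization
  haveI : IsOpenImmersion o := ‹IsOpenImmersion f.toNormalization›
  obtain ⟨i, U, hUc, hU⟩ := exists_preimage_eq F cF hF o.opensRange (isCompact_range o.continuous)
  let G := opensDiagram F i U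
  let cG := opensCone F cF i U
  haveI : ∀ (j k : Over i) (a : j ⟶ k), IsAffineHom (G.map a) := fun j k a => inferInstance
  haveI : ∀ j, CompactSpace ↥(G.obj j) := fun j =>
    isCompact_iff_compactSpace.mp (QuasiCompact.isCompact_preimage (f := F.map j.hom) _ U.2 hUc)
  have hr : Set.range o ⊆ Set.range (cF.π.app i ⁻¹ᵁ U).ι := by
    rw [Scheme.Opens.range_ι, hU]
    exact subset_rfl
  let h : T₀ ⟶ cG.pt := IsOpenImmersion.lift (cF.π.app i ⁻¹ᵁ U).ι o hr
  have hh : h ≫ (cF.π.app i ⁻¹ᵁ U).ι = o := IsOpenImmersion.lift_fac _ _ _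
  haveI : IsIso h := by
    haveI : IsOpenImmersion (h ≫ (cF.π.app i ⁻¹ᵁ U).ι) := hh.symm ▸ inferInstance
    haveI : IsOpenImmersion h := IsOpenImmersion.of_comp h (cF.π.app i ⁻¹ᵁ U).ι
    refine isIso_of_isOpenImmersion_of_opensRange_eq_top h ?_
    apply Scheme.Hom.image_injective (cF.π.app i ⁻¹ᵁ U).ι
    beta_reduce
    rw [← Scheme.Hom.opensRange_comp, Scheme.Hom.image_top_eq_opensRange, Scheme.Opens.opensRange_ι]
    refine Eq.trans ?_ hU.symm
    exact Opens.ext (congrArg (fun m : T₀ ⟶ cF.pt => Set.range m) hh)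
  have hπ : ∀ j : Over i, (h ≫ cG.π.app j) ≫ (F.map j.hom ⁻¹ᵁ U).ι = o ≫ cF.π.app j.left := by
    intro j
    rw [← hh, Category.assoc, Category.assoc]
    simp [cG]
  have hfw : ∀ k, (o ≫ cF.π.app k) ≫ (D.obj k).hom = f := by
    intro k
    rw [Category.assoc]
    show f.toNormalization ≫ (π.app k).left ≫ (D.obj k).hom = f
    rw [Over.w (π.app k)]
    exact f.toNormalization_fromNormalization
  haveI : LocallyOfFiniteType (h ≫ cG.π.app (Over.mk (𝟙 i))) := by
    haveI : LocallyOfFiniteType ((h ≫ cG.π.app (Over.mk (𝟙 i))) ≫ ((F.map (𝟙 i) ⁻¹ᵁ U).ι ≫ (D.obj i).hom)) := by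
      rw [← Category.assoc]
      have := hπ (Over.mk (𝟙 i))
      change (h ≫ cG.π.app (Over.mk (𝟙 i))) ≫ (F.map (𝟙 i) ⁻¹ᵁ U).ι = o ≫ cF.π.app i at this
      rw [this, hfw]
      infer_instance
    exact locallyOfFiniteType_of_comp _ ((F.map (𝟙 i) ⁻¹ᵁ U).ι ≫ (D.obj i).hom)
  obtain ⟨k, hk⟩ := GrothLib.AbsApprox.exists_isClosedImmersion_stage G cG (isLimitOpensCone F cF hF i U) h (Over.mk (𝟙 i))
  haveI : IsClosedImmersion (h ≫ cG.π.app k) := hk k (𝟙 k)
  let g : T₀ ⟶ F.obj k.left := o ≫ cF.π.app k.left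
  haveI : IsImmersion g := by
    show IsImmersion (o ≫ cF.π.app k.left)
    rw [← hπ k]
    infer_instance
  haveI : QuasiCompact g := quasiCompact_of_compactSpace g
  let t := g.imageι ≫ (D.obj k.left).hom
  let j := g.toImage
  have hjt : j ≫ t = t₀ ≫ V.ι := by
    show g.toImage ≫ g.imageι ≫ (D.obj k.left).hom = _
    rw [← Category.assoc, Scheme.Hom.toImage_imageι]
    exact hfw k.left
  haveI : IsFinite t := inferInstanceAs (IsFinite (g.imageι ≫ (D.obj k.left).hom))
  haveI : IsOpenImmersion j := inferInstanceAs (IsOpenImmersion g.toImage)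
  have hrj : Set.range j = t ⁻¹' (V : Set S) := by
    refine subset_antisymm ?_ ?_
    · rintro _ ⟨x, rfl⟩
      show t (j x) ∈ V
      rw [← Scheme.Hom.comp_apply, hjt, Scheme.Hom.comp_apply]
      exact (t₀ x).2
    have hjl : Set.range j ⊆ Set.range (t ⁻¹ᵁ V).ι := by
      rintro _ ⟨x, rfl⟩
      rw [Scheme.Opens.range_ι]
      show t (j x) ∈ V
      rw [← Scheme.Hom.comp_apply, hjt, Scheme.Hom.comp_apply]
      exact (t₀ x).2
    let j' := IsOpenImmersion.lift (t ⁻¹ᵁ V).ι j hjl
    have hj' : j' ≫ (t ⁻¹ᵁ V).ι = j := IsOpenImmersion.lift_fac _ _ _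
    haveI : IsProper (j' ≫ (t ∣_ V)) := by
      have e : j' ≫ (t ∣_ V) = t₀ := by
        rw [← cancel_mono V.ι, Category.assoc, morphismRestrict_ι, ← Category.assoc, hj', hjt]
      rw [e]
      infer_instance
    haveI : IsProper j' := IsProper.of_comp j' (t ∣_ V)
    intro y hy
    have hy' : (⟨y, hy⟩ : t ⁻¹ᵁ V) ∈ closure (Set.range j') := by
      rw [(t ⁻¹ᵁ V).ι.isEmbedding.isInducing.closure_eq_preimage_closure_image, ← Set.range_comp]
      show y ∈ closure (Set.range ((t ⁻¹ᵁ V).ι ∘ j'))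
      have e : ((t ⁻¹ᵁ V).ι ∘ j' : T₀ → g.image) = j := by
        funext x
        exact (Scheme.Hom.comp_apply j' (t ⁻¹ᵁ V).ι x).symm.trans congr($hj' x)
      rw [e]
      exact g.toImage.denseRange y
    rw [j'.isClosedMap.isClosed_range.closure_eq] at hy'
    obtain ⟨x, hx⟩ := hy'
    exact ⟨x, (congr($hj' x)).symm.trans ((Scheme.Hom.comp_apply _ _ x).trans (congrArg (t ⁻¹ᵁ V).ι hx))⟩
  refine ⟨g.image, t, j, inferInstance, ⟨fun s => ?_⟩, fun x => ?_, inferInstance, hrj, hjt⟩
  · have hd := GrothLib.QuasiDom6.dense_compl_support hI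
    have hsub : (I.support : Set S)ᶜ ⊆ Set.range t := by
      intro u hu
      obtain ⟨x, hx⟩ := t₀.surjective (⟨u, hu⟩ : V)
      refine ⟨j x, ?_⟩
      rw [← Scheme.Hom.comp_apply, hjt, Scheme.Hom.comp_apply, hx]
      rfl
    exact (t.isClosedMap.isClosed_range.closure_subset_iff.2 hsub) (hd s)
  · obtain ⟨W, hxW, e, he, heI⟩ := hI (t x)
    let P : (D.obj k.left).left.affineOpens := ⟨(D.obj k.left).hom ⁻¹ᵁ W.1, W.2.preimage _⟩
    let W' : g.image.affineOpens := ⟨g.imageι ⁻¹ᵁ P.1, P.2.preimage g.imageι⟩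
    refine ⟨W', hxW, (t.appLE W.1 W'.1 le_rfl) e, ?_, ?_⟩
    · rw [mem_nonZeroDivisors_iff_right]
      intro a ha
      apply g.toImage_app_injective P
      rw [map_zero]
      have hu : IsUnit ((g.toImage.app (g.imageι ⁻¹ᵁ P.1)) ((t.appLE W.1 W'.1 le_rfl) e)) := by
        have hle : j ⁻¹ᵁ W'.1 ≤ f ⁻¹ᵁ S.basicOpen e := by
          intro z hz
          have hzW : f z ∈ W.1 := by
            have e2 : f z = t (j z) := by rw [← Scheme.Hom.comp_apply, hjt]
            rw [e2]
            exact hz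
          by_contra hne
          have hsupp : f z ∈ (I.support : Set S) := by
            show f z ∈ I.support
            rw [Scheme.IdealSheafData.mem_support_iff_of_mem (U := W) hzW, heI, Scheme.zeroLocus_span,
              Scheme.mem_zeroLocus_iff]
            intro g' hg'
            rw [Set.mem_singleton_iff] at hg'
            subst hg'
            exact hne
          have : f z ∈ V := (t₀ z).2
          exact this hsupp
        rw [← CommRingCat.comp_apply, Scheme.Hom.app_eq_appLE, Scheme.Hom.appLE_comp_appLE]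
        have hu0 := (RingedSpace.isUnit_res_basicOpen S.toLocallyRingedSpace.toRingedSpace e).map
          (f.appLE (S.basicOpen e) (j ⁻¹ᵁ W'.1) hle).hom
        refine (congrArg IsUnit ?_).mp hu0
        show (S.presheaf.map (homOfLE (S.basicOpen_le e)).op ≫ f.appLE (S.basicOpen e) (j ⁻¹ᵁ W'.1) hle) e = _
        rw [Scheme.Hom.map_appLE]
        simp only [show f = j ≫ t from hjt.symm]
        rfl
      have h0 := congrArg (g.toImage.app (g.imageι ⁻¹ᵁ P.1)) ha
      rw [map_mul, map_zero] at h0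
      exact (IsUnit.mul_left_eq_zero hu).1 h0
    · rw [GrothLib.BlowUp.ideal_comap_eq_map I t W W' le_rfl, heI, Ideal.map_span, Set.image_singleton]

end Groth.Agent.S19331
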