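import Groth.Statements.S19333
import Mathlib.RingTheory.Valuation.LocalSubring
import Mathlib.Algebra.Polynomial.Reverse
import Mathlib.RingTheory.Localization.FractionRing

set_option autoImplicit false
universe u
open ModPair

namespace Groth.Agent.S19333

/-- Let A → B be any homomorphism of commutative rings. An element x of B is integral over A if and only
if for every field K, every valuation subring R of K and every ring homomorphism φ : B → K which
sends the image of A into R, the element φ(x) lies in R. In other words the integral closure of A in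
B is the intersection of the subrings R ×_K B taken over all commutative squares A → R ⊆ K ← B with
R a valuation ring of the field K. -/
theorem result {A B : Type u} [CommRing A]
    [CommRing B] [Algebra A B] (x : B) :
    x ∈ integralClosure A B ↔
      ∀ (K : Type u) [Field K] (R : ValuationSubring K) (φ : B →+* K),
        (∀ a : A, φ (algebraMap A B a) ∈ R) → φ x ∈ R := by
  constructor
  · intro hx K _ R φ hφ
    obtain ⟨p, hpm, hp⟩ := hx
    let ψ : A →+* R := (φ.comp (algebraMap A B)).codRestrict R.toSubring hφ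
    have hint : IsIntegral R (φ x) := by
      refine ⟨p.map ψ, hpm.map _, ?_⟩
      rw [Polynomial.eval₂_map, show (algebraMap R K).comp ψ = φ.comp (algebraMap A B) from rfl,
        ← Polynomial.hom_eval₂, hp, map_zero]
    obtain ⟨r, hr⟩ := IsIntegrallyClosed.isIntegral_iff.mp hint
    exact hr ▸ r.2
  intro H
  by_contra hx
  let B' := Localization.Away x
  let x' : B' := algebraMap B B' x
  have hxu : IsUnit x' := IsLocalization.Away.algebraMap_isUnit x
  let y : B' := ↑hxu.unit⁻¹
  have hxy : x' * y = 1 := hxu.mul_val_inv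
  have hnint : ¬ IsIntegral A x' := by
    rintro ⟨p, hpm, hp⟩
    have h1 : algebraMap B B' (Polynomial.eval₂ (algebraMap A B) x p) = 0 := by
      rw [Polynomial.hom_eval₂, ← IsScalarTower.algebraMap_eq]
      exact hp
    obtain ⟨⟨_, N, rfl⟩, hN⟩ := (IsLocalization.map_eq_zero_iff (Submonoid.powers x) B' _).mp h1
    exact hx ⟨Polynomial.X ^ N * p, (Polynomial.monic_X_pow N).mul hpm, by
      rw [Polynomial.eval₂_mul, Polynomial.eval₂_X_pow]; exact hN⟩
  let C := Algebra.adjoin A ({y} : Set B')
  let yC : C := ⟨y, Algebra.self_mem_adjoin_singleton _ _⟩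
  have hyC : ¬ IsUnit yC := by
    intro hu
    obtain ⟨c, hc⟩ := hu.exists_right_inv
    have hc' : y * (c : B') = 1 := congrArg Subtype.val hc
    have hcx : (c : B') = x' := by
      calc (c : B') = x' * y * c := by rw [hxy, one_mul]
        _ = x' := by rw [mul_assoc, hc', mul_one]
    have hmem : x' ∈ Algebra.adjoin A ({y} : Set B') := hcx ▸ c.2
    rw [Algebra.adjoin_singleton_eq_range_aeval] at hmem
    obtain ⟨p, hp⟩ := hmem
    refine hnint ?_
    let _ : Invertible y := ⟨x', hxy, by rw [mul_comm]; exact hxy⟩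
    have h2 := Polynomial.eval₂_reverse_mul_pow (algebraMap A B') y p
    have hp' : Polynomial.eval₂ (algebraMap A B') y p = x' := hp
    rw [hp'] at h2
    have hyn : x' ^ p.natDegree * y ^ p.natDegree = 1 := by rw [← mul_pow, hxy, one_pow]
    have hrev : Polynomial.eval₂ (algebraMap A B') x' p.reverse = x' ^ (p.natDegree + 1) := by
      have h3 : Polynomial.eval₂ (algebraMap A B') x' p.reverse * y ^ p.natDegree = x' := h2
      calc Polynomial.eval₂ (algebraMap A B') x' p.reverse
          = (Polynomial.eval₂ (algebraMap A B') x' p.reverse * y ^ p.natDegree) * x' ^ p.natDegree := by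
            rw [mul_assoc, mul_comm (y ^ _), hyn, mul_one]
        _ = x' ^ (p.natDegree + 1) := by rw [h3, pow_succ']
    refine ⟨Polynomial.X ^ (p.natDegree + 1) - p.reverse, Polynomial.monic_X_pow_sub ?_, ?_⟩
    · calc p.reverse.degree ≤ p.reverse.natDegree := Polynomial.degree_le_natDegree
        _ ≤ p.natDegree := by exact_mod_cast Polynomial.reverse_natDegree_le p
        _ < ((p.natDegree + 1 : ℕ) : WithBot ℕ) := by exact_mod_cast Nat.lt_succ_self _
    · rw [Polynomial.eval₂_sub, Polynomial.eval₂_X_pow, hrev, sub_self]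
  obtain ⟨P, hP, hyP⟩ := Ideal.exists_le_maximal _ (Ideal.span_singleton_eq_top.not.mpr hyC)
  obtain ⟨p, hp, hpP⟩ := Ideal.exists_minimalPrimes_le (bot_le : (⊥ : Ideal C) ≤ P)
  obtain ⟨Q, hQ, -, hQp⟩ := Ideal.exists_comap_eq_of_mem_minimalPrimes C.val.toRingHom (I := (⊥ : Ideal B')) p
    (by rw [← RingHom.ker_eq_comap_bot, (RingHom.injective_iff_ker_eq_bot _).mp Subtype.val_injective]; exact hp)
  let K := FractionRing (B' ⧸ Q)
  let φ : B' →+* K := (algebraMap (B' ⧸ Q) K).comp (Ideal.Quotient.mk Q)
  let ψ : C →+* K := φ.comp C.val.toRingHom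
  have hψ : ∀ c : C, c ∉ P → IsUnit (ψ c) := fun c hc ↦ by
    refine isUnit_iff_ne_zero.mpr fun h0 ↦ hc (hpP ?_)
    rw [← hQp, Ideal.mem_comap, ← Ideal.Quotient.eq_zero_iff_mem]
    exact (IsFractionRing.injective (B' ⧸ Q) K).eq_iff' (map_zero _) |>.mp h0
  let L : Localization.AtPrime P →+* K := IsLocalization.lift (M := P.primeCompl) (g := ψ) (fun c ↦ hψ c.1 c.2)
  obtain ⟨R, hR, hl⟩ := IsLocalRing.exists_factor_valuationRing (R := Localization.AtPrime P) (K := K) (id L)
  have hLC : ∀ c : C, L (algebraMap C _ c) = ψ c := fun c ↦ IsLocalization.lift_eq _ _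
  have hmem := H K R (φ.comp (algebraMap B B')) fun a ↦ by
    have h3 := hR (algebraMap C _ (algebraMap A C a))
    simp only [id, hLC] at h3
    have e : φ (algebraMap B B' (algebraMap A B a)) = ψ (algebraMap A C a) := by
      rw [← IsScalarTower.algebraMap_apply]; rfl
    rw [RingHom.comp_apply, e]
    exact h3
  let z := algebraMap C (Localization.AtPrime P) yC
  have hz : ¬ IsUnit z := by
    rw [IsLocalization.AtPrime.isUnit_to_map_iff (Localization.AtPrime P) P yC]
    exact fun h ↦ h (hyP (Ideal.mem_span_singleton_self yC))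
  apply hz
  refine hl.map_nonunit z (isUnit_iff_exists_inv.mpr ⟨⟨_, hmem⟩, Subtype.ext ?_⟩)
  show L z * φ x' = 1
  rw [hLC]
  show φ y * φ x' = 1
  rw [← map_mul, mul_comm, hxy, map_one]

end Groth.Agent.S19333
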