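import Groth.Statements.S19334
import Groth.Agent.Lib.ValPoint.Basic

set_option autoImplicit false
universe u
open CategoryTheory CategoryTheory.Limits AlgebraicGeometry TopologicalSpace
open ModPair

namespace Groth.Agent.S19334

/-- Let (X, I) be a modulus pair, i.e. a scheme X with the quasi-coherent ideal sheaf I of an effective
Cartier divisor. Suppose that for every valuation ring R and every morphism p : Spec R ⟶ X along
which the divisor of I pulls back to an effective Cartier divisor on Spec R (so that p is a minimal
morphism of modulus pairs for the pulled-back modulus), the pulled-back divisor is empty, I.comap p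
= ⊤. Then the divisor of I is empty: I = ⊤. -/
theorem result {X : Scheme.{u}}
    (I : X.IdealSheafData) (hI : BlowUp.IsEffCartierIdeal I)
    (h : ∀ (R : Type u) [CommRing R] [IsDomain R] [ValuationRing R]
      (p : Spec (CommRingCat.of R) ⟶ X), BlowUp.IsEffCartierIdeal (I.comap p) → I.comap p = ⊤) :
    I = ⊤ := by
  by_contra hne
  obtain ⟨x, hx⟩ : ∃ x, x ∈ I.support := by
    by_contra! hh
    exact hne ((Scheme.IdealSheafData.support_eq_bot_iff (I := I)).mp
      (TopologicalSpace.Closeds.ext (Set.eq_empty_iff_forall_notMem.mpr hh)))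
  obtain ⟨U, hxU, a, ha, hIU⟩ := hI x
  have hau : ¬ IsUnit ((X.presheaf.germ U.1 x hxU).hom a) := fun hu ↦ by
    have h1 := (Scheme.IdealSheafData.mem_support_iff_of_mem (U := U) hxU).mp hx
    rw [hIU, Scheme.zeroLocus_span, Scheme.mem_zeroLocus_iff] at h1
    exact h1 a rfl ((X.mem_basicOpen a x hxU).mpr hu)
  obtain ⟨R, _, _, _, φ, hφ, hu, -⟩ := GrothLib.ValPoint.exists_valuation_detecting U x hxU ha hau
  have h2 := h R _ (GrothLib.ValPoint.isEffCartierIdeal_comap_of_ne_zero I U φ hIU hφ)
  rw [← Scheme.IdealSheafData.comap_top (Spec.map φ ≫ U.2.fromSpec),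
    GrothLib.ValPoint.comap_eq_comap_iff, hIU, Ideal.map_span, Set.image_singleton] at h2
  simp only [Scheme.IdealSheafData.ideal_top, Pi.top_apply, Ideal.map_top] at h2
  exact hu a hau (Ideal.span_singleton_eq_top.mp h2)

end Groth.Agent.S19334
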