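import Groth.Statements.S19335
import Groth.Agent.Lib.ValPoint.Basic

set_option autoImplicit false
universe u
open CategoryTheory CategoryTheory.Limits AlgebraicGeometry TopologicalSpace
open ModPair

namespace Groth.Agent.S19335

/-- Let X be a scheme and I, J quasi-coherent ideal sheaves of effective Cartier divisors D_I ≤ D_J on
X, i.e. J ≤ I. Suppose that for every valuation ring R and every morphism p : Spec R ⟶ X such that
I.comap p is the ideal sheaf of an effective Cartier divisor on Spec R (so p is a minimal morphism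
of modulus pairs for (X, I)) whose open complement consists of the generic point of Spec R only, the
two divisors agree after pull-back, I.comap p = J.comap p. Then I = J. -/
theorem result {X : Scheme.{u}} (I J : X.IdealSheafData)
    (hI : BlowUp.IsEffCartierIdeal I) (hJ : BlowUp.IsEffCartierIdeal J) (hJI : J ≤ I)
    (h : ∀ (R : Type u) [CommRing R] [IsDomain R] [ValuationRing R]
      (p : Spec (CommRingCat.of R) ⟶ X), BlowUp.IsEffCartierIdeal (I.comap p) →
        (∀ x : Spec (CommRingCat.of R),
          x ∈ (ModPair.interior (I.comap p) : Set (Spec (CommRingCat.of R))) ↔ x.asIdeal = ⊥) →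
        I.comap p = J.comap p) :
    I = J := by
  have key : ∀ x : X, ∃ V : X.affineOpens, x ∈ V.1 ∧ I.ideal V = J.ideal V := by
    intro x
    obtain ⟨U, hxU, b, hb, hJU⟩ := hJ x
    obtain ⟨V, hxV, hVU, a, ha, hIV⟩ := GrothLib.BlowUp.exists_cartierOn_le hI (W := U.1) (x := x) hxU
    obtain ⟨b, hb, hJV⟩ : GrothLib.BlowUp.CartierOn J V := GrothLib.BlowUp.CartierOn.mono ⟨b, hb, hJU⟩ hVU
    obtain ⟨c, hc⟩ := Ideal.mem_span_singleton.mp (hIV.le (hJI V (hJV.ge (Ideal.mem_span_singleton_self b))))
    subst hc
    have hcu : IsUnit ((X.presheaf.germ V.1 x hxV).hom c) := by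
      by_contra hcu
      by_cases hau : IsUnit ((X.presheaf.germ V.1 x hxV).hom a)
      · let φ : Γ(X, V.1) ⟶ .of (X.residueField x) := X.presheaf.germ V.1 x hxV ≫ X.residue x
        have hφa : φ.hom a ≠ 0 := ((hau.map (X.residue x).hom).ne_zero :)
        have hsupp : ∀ z : Spec (CommRingCat.of (X.residueField x)),
            z ∈ (ModPair.interior (I.comap (Spec.map φ ≫ V.2.fromSpec)) : Set _) ↔ z.asIdeal = ⊥ := by
          intro z
          show z ∉ (I.comap (Spec.map φ ≫ V.2.fromSpec)).support ↔ _
          rw [GrothLib.ValPoint.mem_support_comap_iff I V φ hIV]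
          refine iff_of_true ?_ ((Ideal.eq_bot_or_top z.asIdeal).resolve_right z.isPrime.ne_top)
          rw [(Ideal.eq_bot_or_top z.asIdeal).resolve_right z.isPrime.ne_top, Ideal.mem_bot]
          exact hφa
        have h1 := h (X.residueField x) _ (GrothLib.ValPoint.isEffCartierIdeal_comap_of_ne_zero I V φ hIV hφa) hsupp
        rw [GrothLib.ValPoint.comap_eq_comap_iff, hIV, hJV, Ideal.map_span, Ideal.map_span,
          Set.image_singleton, Set.image_singleton, map_mul] at h1
        have hφc : φ.hom c = 0 := (IsLocalRing.residue_eq_zero_iff _).mpr ((IsLocalRing.mem_maximalIdeal _).mpr hcu)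
        rw [hφc, mul_zero, Ideal.span_singleton_eq_span_singleton.mpr (Associated.refl (0 : X.residueField x))] at h1
        simp only [Ideal.span_singleton_eq_bot, Ideal.span_singleton_zero] at h1
        exact hφa h1
      · obtain ⟨R, _, _, _, φ, hφ, hu, hP⟩ := GrothLib.ValPoint.exists_valuation_detecting V x hxV ha hau
        have hsupp : ∀ z : Spec (CommRingCat.of R),
            z ∈ (ModPair.interior (I.comap (Spec.map φ ≫ V.2.fromSpec)) : Set _) ↔ z.asIdeal = ⊥ := by
          intro z
          show z ∉ (I.comap (Spec.map φ ≫ V.2.fromSpec)).support ↔ _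
          rw [GrothLib.ValPoint.mem_support_comap_iff I V φ hIV, hP _ z.isPrime]
          exact not_not
        have h1 := h R _ (GrothLib.ValPoint.isEffCartierIdeal_comap_of_ne_zero I V φ hIV hφ) hsupp
        rw [GrothLib.ValPoint.comap_eq_comap_iff, hIV, hJV, Ideal.map_span, Ideal.map_span,
          Set.image_singleton, Set.image_singleton, map_mul] at h1
        obtain ⟨d, hd⟩ := Ideal.mem_span_singleton.mp (h1.le (Ideal.mem_span_singleton_self _))
        refine hu c hcu (isUnit_iff_exists_inv.mpr ⟨d, mul_left_cancel₀ hφ ?_⟩)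
        rw [← mul_assoc, ← hd, mul_one]
    obtain ⟨W, hxW, hW⟩ := GrothLib.BlowUp.exists_affine_mem_le (W := X.basicOpen c)
      (x := x) ((X.mem_basicOpen c x hxV).mpr hcu)
    have hWV : W.1 ≤ V.1 := hW.trans (X.basicOpen_le c)
    refine ⟨W, hxW, ?_⟩
    rw [← I.map_ideal (U := W) (V := V) hWV, ← J.map_ideal (U := W) (V := V) hWV, hIV, hJV,
      Ideal.map_span, Ideal.map_span, Set.image_singleton, Set.image_singleton]
    have hcW : IsUnit ((X.presheaf.map (homOfLE hWV).op).hom c) := by
      have h2 := RingedSpace.isUnit_res_basicOpen X.toRingedSpace c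
      have h3 := h2.map (X.presheaf.map (homOfLE hW).op).hom
      have h4 : X.presheaf.map (homOfLE hWV).op =
          X.presheaf.map (homOfLE (X.basicOpen_le c)).op ≫ X.presheaf.map (homOfLE hW).op := by
        rw [← Functor.map_comp]; rfl
      rw [h4]
      exact h3
    rw [map_mul]
    exact (Ideal.span_singleton_mul_right_unit hcW _).symm
  choose V hxV hV using key
  exact Scheme.IdealSheafData.ext_of_iSup_eq_top V
    (top_le_iff.mp fun x _ ↦ TopologicalSpace.Opens.mem_iSup.mpr ⟨x, hxV x⟩) hV

end Groth.Agent.S19335
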