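import Groth.Statements.S19336
import Groth.Agent.Lib.ModPair19.Basic
import Groth.Agent.Lib.FgSupport6.Exists
import Groth.Agent.Lib.BlowUp.Exists

set_option autoImplicit false
set_option backward.isDefEq.respectTransparency false
universe u
open CategoryTheory CategoryTheory.Limits AlgebraicGeometry TopologicalSpace
open ModPair

namespace Groth.Agent.S19336

/-- Let (S, I) be a modulus pair, i.e. a scheme S with the quasi-coherent ideal sheaf I of an effective
Cartier divisor, with S quasi-compact and quasi-separated and with interior U, and let (V_i) be a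
covering of U by quasi-compact open subsets. Then there are a quasi-coherent ideal sheaf F of finite
type on S whose support is disjoint from U, a blow-up b : Y ⟶ S of S in F (an admissible blow-up)
such that I.comap b is again the ideal sheaf of an effective Cartier divisor, and a covering of Y by
quasi-compact open subsets W_j such that each W_j ∩ b⁻¹(U) is contained in b⁻¹(V_i) for some i: the
Zariski covering of the interior extends, after an admissible blow-up, to a Zariski covering of the
total space. -/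
theorem result {S : Scheme.{u}}
    [CompactSpace S] [QuasiSeparatedSpace S] (I : S.IdealSheafData)
    (hI : BlowUp.IsEffCartierIdeal I) {ι : Type u} (V : ι → S.Opens)
    (hVU : ∀ i, V i ≤ ModPair.interior I) (hVqc : ∀ i, IsCompact (V i : Set S))
    (hcov : ModPair.interior I ≤ ⨆ i, V i) :
    ∃ (F : S.IdealSheafData) (Y : Scheme.{u}) (b : Y ⟶ S) (κ : Type u) (W : κ → Y.Opens),
      BlowUp.IsAdmissibleFor (ModPair.interior I) F ∧ BlowUp.IsBlowUp b F ∧
        BlowUp.IsEffCartierIdeal (I.comap b) ∧ (∀ k, IsCompact (W k : Set Y)) ∧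
        (⨆ k, W k) = ⊤ ∧ ∀ k, ∃ i, W k ⊓ b ⁻¹ᵁ ModPair.interior I ≤ b ⁻¹ᵁ V i := by
  classical
  have := GrothLib.ModPair19.isAffineHom_interior hI
  have : CompactSpace (ModPair.interior I : Scheme.{u}) := QuasiCompact.compactSpace_of_compactSpace (ModPair.interior I).ι
  have hUc : IsCompact ((ModPair.interior I : S.Opens) : Set S) := isCompact_iff_compactSpace.mpr this
  obtain ⟨s, hs⟩ := hUc.elim_finite_subcover (fun i => (V i : Set S)) (fun i => (V i).2) fun x hx =>
    Set.mem_iUnion.2 (TopologicalSpace.Opens.mem_iSup.1 (hcov hx))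
  choose G hG hGs using fun i : s => GrothLib.FgSupport6.exists_fg_support_eq (V i) (hVqc i)
  let F : S.IdealSheafData := ⨆ i, G i
  have hFft : BlowUp.IsFiniteTypeIdeal F := fun W => by
    show ((⨆ i, G i).ideal W).FG
    rw [Scheme.IdealSheafData.ideal_iSup, iSup_apply]
    exact Submodule.fg_iSup _ fun i => hG i W
  have hFs : ∀ x : S, x ∈ (F.support : Set S) ↔ ∀ i : s, x ∉ V i := fun x => by
    show x ∈ ((⨆ i, G i).support : Set S) ↔ _
    rw [Scheme.IdealSheafData.support_iSup, TopologicalSpace.Closeds.coe_iInf, Set.mem_iInter]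
    exact forall_congr' fun i => by rw [hGs i]; rfl
  have hFU : (F.support : Set S) = ((ModPair.interior I : S.Opens) : Set S)ᶜ := by
    ext x
    rw [hFs]
    refine ⟨fun h hx => ?_, fun hx i hi => hx (hVU i hi)⟩
    obtain ⟨i, hi, hxi⟩ := Set.mem_iUnion₂.1 (hs hx)
    exact h ⟨i, hi⟩ hxi
  have hadm : BlowUp.IsAdmissibleFor (ModPair.interior I) F :=
    ⟨hFft, by rw [hFU]; exact disjoint_compl_left⟩
  obtain ⟨Y, b, hb⟩ := GrothLib.BlowUp.exists_isBlowUp S F
  let E := F.comap b
  have hint : ModPair.interior (I.comap b) = ModPair.interior E := by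
    rw [GrothLib.ModPair19.interior_comap, GrothLib.ModPair19.interior_comap]
    refine congrArg (b ⁻¹ᵁ ·) (TopologicalSpace.Opens.ext ?_)
    show _ = (F.support : Set S)ᶜ
    rw [hFU, compl_compl]
  have hIb : BlowUp.IsEffCartierIdeal (I.comap b) :=
    GrothLib.ModPair19.eff_of_dominant
      (GrothLib.ModPair19.isLocPrincipal_comap (GrothLib.ModPair19.isLocPrincipal_of_eff hI) b)
      (hint ▸ GrothLib.ModPair19.dominant_interior hb.1)
  refine ⟨F, Y, b, {W : Y.affineOpens // ∃ i, W.1 ⊓ b ⁻¹ᵁ ModPair.interior I ≤ b ⁻¹ᵁ V i}, fun k => k.1.1,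
    hadm, hb, hIb, fun k => k.1.2.isCompact, ?_, fun k => k.2⟩
  refine eq_top_iff.2 fun y _ => ?_
  obtain ⟨W, hyW, a, ha, haW⟩ := hb.1 y
  have hsum : E.ideal W = ⨆ i, ((G i).comap b).ideal W := by
    show ((⨆ i, G i).comap b).ideal W = _
    rw [(Scheme.IdealSheafData.map_gc b).l_iSup, Scheme.IdealSheafData.ideal_iSup, iSup_apply]
  have haE : a ∈ ⨆ i, ((G i).comap b).ideal W := hsum ▸ haW ▸ Ideal.mem_span_singleton_self a
  obtain ⟨r, hr, hsumr⟩ := (Submodule.mem_iSup_iff_exists_finsupp _ a).1 haE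
  have hdvd : ∀ i, ∃ t : Γ(Y, W.1), r i = a * t := fun i => by
    have h1 : r i ∈ E.ideal W := hsum ▸ le_iSup (fun i => ((G i).comap b).ideal W) i (hr i)
    change r i ∈ (F.comap b).ideal W at h1
    rw [haW, Ideal.mem_span_singleton] at h1
    exact h1
  choose t ht using hdvd
  have h1 : (∑ i ∈ r.support, t i) = 1 := by
    refine sub_eq_zero.1 (mul_left_mem_nonZeroDivisors_eq_zero_iff ha |>.1 ?_)
    rw [mul_sub, Finset.mul_sum, mul_one, sub_eq_zero]
    exact (Finset.sum_congr rfl fun i _ => (ht i).symm).trans hsumr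
  obtain ⟨i, hi⟩ : ∃ i, y ∈ Y.basicOpen (t i) := by
    by_contra hne
    simp only [not_exists] at hne
    have h2 : (Y.evaluation W.1 y hyW).hom (∑ i ∈ r.support, t i) = 0 := by
      rw [map_sum]
      exact Finset.sum_eq_zero fun i _ =>
        (Scheme.evaluation_eq_zero_iff_notMem_basicOpen ..).mpr (hne i)
    rw [h1, map_one] at h2
    exact one_ne_zero h2
  refine TopologicalSpace.Opens.mem_iSup.2
    ⟨⟨⟨Y.basicOpen (t i), W.2.basicOpen (t i)⟩, (i : ι), fun z hz => ?_⟩, hi⟩
  by_contra hzV
  have hzW : z ∈ W.1 := Y.basicOpen_le _ hz.1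
  have h3 : z ∈ (((G i).comap b).support : Set Y) := by
    rw [Scheme.IdealSheafData.support_comap]
    show b.base z ∈ ((G i).support : Set S)
    rw [hGs i]
    exact hzV
  have h4 := ((Scheme.IdealSheafData.mem_support_iff_of_mem hzW).1 h3)
  have h5 := (Scheme.mem_zeroLocus_iff _ _ _).1 h4 (r i) (hr i)
  rw [ht i, Scheme.basicOpen_mul] at h5
  have h6 : z ∉ (E.support : Set Y) := by
    have hzi : z ∈ ModPair.interior (F.comap b) := by
      rw [← hint, GrothLib.ModPair19.interior_comap]
      exact hz.2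
    exact hzi
  have h7 : z ∈ Y.basicOpen a := by
    by_contra hza
    refine h6 ((Scheme.IdealSheafData.mem_support_iff_of_mem hzW).2 ?_)
    show z ∈ Y.zeroLocus ((F.comap b).ideal W : Set Γ(Y, W.1))
    rw [haW, Scheme.zeroLocus_span]
    rw [Scheme.mem_zeroLocus_iff]
    intro q hq
    rw [Set.mem_singleton_iff.1 hq]
    exact hza
  exact h5 ⟨h7, hz.1⟩

end Groth.Agent.S19336
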