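import Groth.Statements.S19338
-- import your own Groth.Agent.* helpers here

set_option autoImplicit false
universe w v u
open CategoryTheory
open ModPair

namespace Groth.Agent.S19338

/-- Let C be a category and S a class of morphisms which contains the identities, is closed under
composition, admits a right calculus of fractions, and consists of monomorphisms. Then the sieves
containing a morphism of S are the covering sieves of a Grothendieck topology on C, and for every
such topology J a presheaf of types F on C is a J-sheaf if and only if it is S-local, i.e. F sends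
every morphism of S to a bijection. -/
theorem result {C : Type u} [Category.{v} C]
    (S : MorphismProperty C) [S.HasRightCalculusOfFractions]
    (hmono : ∀ ⦃X Y : C⦄ (s : X ⟶ Y), S s → Mono s) :
    (∃ J : GrothendieckTopology C, ∀ (X : C) (T : Sieve X),
        T ∈ J X ↔ ∃ (Y : C) (s : Y ⟶ X), S s ∧ T s) ∧
      ∀ J : GrothendieckTopology C, (∀ (X : C) (T : Sieve X),
          T ∈ J X ↔ ∃ (Y : C) (s : Y ⟶ X), S s ∧ T s) →
        ∀ F : Cᵒᵖ ⥤ Type w,
          Presheaf.IsSheaf J F ↔ ∀ ⦃X Y : C⦄ (s : X ⟶ Y), S s → IsIso (F.map s.op) := by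
  refine ⟨⟨{
      sieves := fun X T => ∃ (Y : C) (s : Y ⟶ X), S s ∧ T s
      top_mem' := fun X => ⟨X, 𝟙 X, S.id_mem X, trivial⟩
      pullback_stable' := ?_
      transitive' := ?_ }, fun X T => Iff.rfl⟩, fun J hJ F => ?_⟩
  · rintro X Y T f ⟨Z, s, hs, hT⟩
    obtain ⟨ψ, hψ⟩ := (MorphismProperty.LeftFraction.mk f s hs).exists_rightFraction
    dsimp at hψ
    exact ⟨_, ψ.s, ψ.hs, by
      show T (ψ.s ≫ f)
      rw [hψ]; exact T.downward_closed hT _⟩
  · rintro X T ⟨Y, s, hs, hT⟩ R hR
    obtain ⟨Z, t, ht, hRt⟩ := hR hT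
    exact ⟨Z, t ≫ s, S.comp_mem _ _ ht hs, hRt⟩
  · rw [isSheaf_iff_isSheaf_of_type]
    constructor
    · intro hF X Y s hs
      have h := hF (Sieve.generate (Presieve.singleton s))
        ((hJ _ _).2 ⟨_, s, hs, Sieve.le_generate _ _ _ (Presieve.singleton_self s)⟩)
      rw [← Presieve.isSheafFor_iff_generate, Presieve.isSheafFor_singleton] at h
      rw [isIso_iff_bijective]
      refine ⟨fun a b hab => ?_, fun z => ?_⟩
      · obtain ⟨y, -, hy⟩ := h (F.map s.op a) (fun {Z} p₁ p₂ hp => by
          rw [(hmono s hs).right_cancellation p₁ p₂ hp])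
        exact (hy a rfl).trans (hy b hab.symm).symm
      · obtain ⟨y, hy, -⟩ := h z (fun {Z} p₁ p₂ hp => by
          rw [(hmono s hs).right_cancellation p₁ p₂ hp])
        exact ⟨y, hy⟩
    · intro hF X T hT x hx
      obtain ⟨Y, s, hs, hTs⟩ := (hJ _ _).1 hT
      have hb := fun {A B : C} (t : A ⟶ B) (ht : S t) => (isIso_iff_bijective _).1 (hF t ht)
      obtain ⟨y, hy⟩ := (hb s hs).2 (x s hTs)
      refine ⟨y, fun Z g hg => ?_, fun y' hy' => (hb s hs).1 ((hy' s hTs).trans hy.symm)⟩
      obtain ⟨ψ, hψ⟩ := (MorphismProperty.LeftFraction.mk g s hs).exists_rightFraction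
      dsimp at hψ
      refine (hb ψ.s ψ.hs).1 ?_
      rw [← Functor.map_comp_apply, ← op_comp, hψ, op_comp, Functor.map_comp_apply, hy]
      exact (hx ψ.f ψ.s hTs hg hψ.symm).trans rfl

end Groth.Agent.S19338
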