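import Groth.Statements.S19339
import Groth.Agent.Lib.FppfTower8.Main

set_option autoImplicit false
universe u
open CategoryTheory CategoryTheory.Limits AlgebraicGeometry TopologicalSpace
open ModPair

namespace Groth.Agent.S19339

/-- Let X be a scheme and (w_j : W_j ⟶ X) an fppf covering, i.e. a jointly surjective family of
morphisms each of which is flat and of finite presentation (locally of finite presentation,
quasi-compact and quasi-separated). Then it is refined by a family of composites V_k ⟶ U_k ⟶ X in
which the u_k : U_k ⟶ X are étale morphisms such that every point of X is the image of a point of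
some U_k with trivial residue field extension, and the v_k : V_k ⟶ U_k are finite, flat and
surjective: each composite v_k ≫ u_k factors through some w_j. (The covering condition on the family
(u_k) is stated here pointwise, every point lifting to some U_k with the same residue field; a
Nisnevich covering in the stronger sense with members of finite presentation and a finite splitting
stratification is not asserted.) -/
theorem result {X : Scheme.{u}}
    {ι : Type u} (W : ι → Scheme.{u}) (w : ∀ j, W j ⟶ X)
    (hw : Presieve.ofArrows W w ∈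
      Scheme.precoverage (@Flat ⊓ @LocallyOfFinitePresentation ⊓ @QuasiCompact ⊓ @QuasiSeparated) X) :
    ∃ (κ : Type u) (U V : κ → Scheme.{u}) (u : ∀ k, U k ⟶ X) (v : ∀ k, V k ⟶ U k),
      (∀ k, Etale (u k)) ∧
        (∀ x : X, ∃ (k : κ) (y : U k), (u k).base y = x ∧ IsIso ((u k).residueFieldMap y)) ∧
        (∀ k, IsFinite (v k) ∧ Flat (v k) ∧ Surjective (v k)) ∧
        ∀ k, ∃ (j : ι) (r : V k ⟶ W j), r ≫ w j = v k ≫ u k := by
  rw [Scheme.ofArrows_mem_precoverage_iff] at hw
  obtain ⟨hsurj, hP⟩ := hw
  choose i hi using hsurj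
  choose x' hx' using hi
  have hch : ∀ x : X, ∃ (S Q : Scheme.{u}) (j : S ⟶ X) (u : S) (g : Q ⟶ S) (h : Q ⟶ W (i x)),
      Hens2.IsEtaleNbhd j u x ∧ Mor2.IsFinLocFree g ∧ Surjective g ∧ h ≫ w (i x) = g ≫ j := by
    intro x
    haveI : Flat (w (i x)) := (hP (i x)).1.1.1
    haveI : LocallyOfFinitePresentation (w (i x)) := (hP (i x)).1.1.2
    obtain ⟨S, Q, j, u, g, h, hj, rest⟩ := GrothLib.FppfTower8.exists_chart_of_mem_range (w (i x)) (x' x)
    exact ⟨S, Q, j, u, g, h, (hx' x) ▸ hj, rest⟩
  choose U V u y v r hj hg hs hc using hch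
  refine ⟨X, U, V, u, v, fun x => (hj x).etale, fun x => ⟨x, y x, (hj x).base_eq, ?_⟩,
    fun x => ⟨(hg x).1, (hg x).2.1, hs x⟩, fun x => ⟨i x, r x, hc x⟩⟩
  exact (ConcreteCategory.isIso_iff_bijective _).mpr (hj x).residue_bijective

end Groth.Agent.S19339
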