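import Groth.Statements.S19343
import Groth.Agent.Lib.ModVal8.Hens

set_option autoImplicit false
universe u
open CategoryTheory CategoryTheory.Limits AlgebraicGeometry TopologicalSpace
open ModPair

namespace Groth.Agent.S19343

/-- Let P be a modulus pair (a scheme P̄ with the quasi-coherent ideal sheaf of an effective Cartier
divisor) whose total space P̄ is quasi-compact and quasi-separated. Then P is local both for étale
coverings of modulus pairs (for every pair X, every jointly surjective family of minimal morphisms
U_i ⟶ X whose underlying morphisms are étale, quasi-compact and quasi-separated, and every morphism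
of pairs P ⟶ X, the latter factors through some U_i) and for abstract admissible blow-ups (every P ⟶
X lifts along every abstract admissible blow-up Q ⟶ X) if and only if (1) P̄ is affine and A = Γ(P̄)
is a strictly henselian local ring, (2) the interior P° is affine and its ring of global sections is
a henselian local ring, and, writing p for the closed point of P° and 𝔮 ⊂ A for its prime ideal, (3)
A/𝔮 is a valuation ring which is strictly henselian and (4) the localisation map sends 𝔮 bijectively
onto the maximal ideal of A_𝔮, i.e. A = A/𝔮 ×_{k(𝔮)} A_𝔮 and P̄ is the gluing of the closure of p to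
P° along p. The published statement allows any modulus pair P; this row assumes the total space P̄
quasi-compact and quasi-separated. -/
theorem result (P : ModPair.Pair.{u})
    [CompactSpace P.total] [QuasiSeparatedSpace P.total] :
    ((∀ (X : ModPair.Pair.{u}) (ι : Type u) (U : ι → ModPair.Pair.{u}) (v : ∀ i, U i ⟶ X),
        (∀ i, ModPair.IsMinimal (U i).mod X.mod (v i).hom ∧ Etale (v i).hom ∧
          QuasiCompact (v i).hom ∧ QuasiSeparated (v i).hom) →
        (∀ x : X.total, ∃ (i : ι) (y : (U i).total), (v i).hom.base y = x) →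
        ∀ g : P ⟶ X, ∃ (i : ι) (h : P ⟶ U i), h ≫ v i = g) ∧
      (∀ (Q X : ModPair.Pair.{u}) (q : Q ⟶ X), ModPair.Pair.admBlowup q →
        ∀ g : P ⟶ X, ∃ h : P ⟶ Q, h ≫ q = g)) ↔
    (IsAffine P.total ∧ EtCoh.IsStrictlyHenselianLocalRing Γ(P.total, ⊤) ∧
      IsAffine (ModPair.interior P.mod : Scheme.{u}) ∧
      HenselianLocalRing Γ((ModPair.interior P.mod : Scheme.{u}), ⊤) ∧
      ∀ p : (ModPair.interior P.mod : Scheme.{u}),
        IsClosed ({p} : Set (ModPair.interior P.mod : Scheme.{u})) →
          ValuationRing (Γ(P.total, ⊤) ⧸ (P.total.toSpecΓ.base ((ModPair.interior P.mod).ι.base p)).asIdeal) ∧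
          EtCoh.IsStrictlyHenselianLocalRing (Γ(P.total, ⊤) ⧸ (P.total.toSpecΓ.base ((ModPair.interior P.mod).ι.base p)).asIdeal) ∧
          Set.BijOn (algebraMap Γ(P.total, ⊤) (Localization.AtPrime (P.total.toSpecΓ.base ((ModPair.interior P.mod).ι.base p)).asIdeal))
            ((P.total.toSpecΓ.base ((ModPair.interior P.mod).ι.base p)).asIdeal : Set Γ(P.total, ⊤))
            (IsLocalRing.maximalIdeal (Localization.AtPrime (P.total.toSpecΓ.base ((ModPair.interior P.mod).ι.base p)).asIdeal) :
              Set (Localization.AtPrime (P.total.toSpecΓ.base ((ModPair.interior P.mod).ι.base p)).asIdeal))) := by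
  constructor
  · rintro ⟨hE, hB⟩
    have hL' := GrothLib.ModVal8.isLocalFor_of_pair (Q := @Etale ⊓ @QuasiCompact ⊓ @QuasiSeparated)
      (fun X ι U v h => hE X ι U v fun i => ⟨(h i).1, (h i).2.1.1, (h i).2.1.2, (h i).2.2⟩)
    have hL : GrothLib.RLpsi8.ZarFinLocal.IsLocalFor (@IsOpenImmersion ⊓ @QuasiCompact) P.total := fun X R hR g =>
      hL' X R ⟨hR.1, fun {Y} f hf => by
        haveI : IsOpenImmersion f := (hR.2 hf).1
        haveI : QuasiCompact f := (hR.2 hf).2
        exact ⟨⟨inferInstance, inferInstance⟩, inferInstance⟩⟩ g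
    obtain ⟨haff, hloc⟩ := GrothLib.RLpsi8.ZarFinLocal.isLocalRing_of_local hL
    haveI := haff
    haveI := hloc
    have hA := GrothLib.ModVal8.strict_of_local hL'
    haveI := hA.choose
    obtain ⟨h1, h2, h3⟩ := GrothLib.ModVal8.pushout_of_isBlowupLocal hB
    exact ⟨haff, hA, h1, GrothLib.ModVal8.henselian_interior hB, fun p hp =>
      ⟨(h3 p hp).1, GrothLib.ModVal8.strict_quotient hA _, (h3 p hp).2⟩⟩
  · rintro ⟨haff, hA, -, h2, h3⟩
    haveI := haff
    haveI := hA.choose
    exact ⟨fun X ι U v h hs g => GrothLib.ModVal8.exists_lift_pair (Q := @Etale) v (fun i => (h i).1) g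
        (GrothLib.ModVal8.local_of_strict hA fun _ hf => hf) hs (fun i => (h i).2.1),
      GrothLib.ModVal8.isBlowupLocal_of_interior h2.toIsLocalRing fun p hp => ⟨(h3 p hp).1, (h3 p hp).2.2⟩⟩

end Groth.Agent.S19343
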