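import Groth.Statements.S19344
import Groth.Agent.Lib.ModVal8.Fppf

set_option autoImplicit false
universe u
open CategoryTheory CategoryTheory.Limits AlgebraicGeometry TopologicalSpace
open ModPair

namespace Groth.Agent.S19344

/-- Let P be a modulus pair (a scheme P̄ with the quasi-coherent ideal sheaf of an effective Cartier
divisor) whose total space P̄ is quasi-compact and quasi-separated. Call a scheme T fppf-local when
for every scheme X, every jointly surjective family of morphisms to X that are flat and of finite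
presentation (locally of finite presentation, quasi-compact, quasi-separated) and every T ⟶ X, the
latter factors through a member of the family. Then P is local both for fppf coverings of modulus
pairs (families of minimal morphisms U_i ⟶ X whose underlying morphisms form such a family, with the
same factorisation property for morphisms of pairs P ⟶ X) and for abstract admissible blow-ups
(every P ⟶ X lifts along every abstract admissible blow-up Q ⟶ X) if and only if (1) P̄ is
fppf-local, (2) the interior P° is fppf-local, (3) P° is affine with local ring of global sections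
and, writing p for its closed point and 𝔮 ⊂ A = Γ(P̄) for the prime ideal of p, the ring A/𝔮 is a
valuation ring with algebraically closed fraction field, and (4) the localisation map sends 𝔮
bijectively onto the maximal ideal of A_𝔮, i.e. A = A/𝔮 ×_{k(𝔮)} A_𝔮 and P̄ is the gluing of the
closure of p to P° along p. (The affine-local clause in (3) is a consequence of (2) and only serves
to name p.) The published statement allows any modulus pair P; this row assumes the total space P̄
quasi-compact and quasi-separated. -/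
theorem result (P : ModPair.Pair.{u})
    [CompactSpace P.total] [QuasiSeparatedSpace P.total] :
    ((∀ (X : ModPair.Pair.{u}) (ι : Type u) (U : ι → ModPair.Pair.{u}) (v : ∀ i, U i ⟶ X),
        (∀ i, ModPair.IsMinimal (U i).mod X.mod (v i).hom ∧ Flat (v i).hom ∧
          LocallyOfFinitePresentation (v i).hom ∧ QuasiCompact (v i).hom ∧
          QuasiSeparated (v i).hom) →
        (∀ x : X.total, ∃ (i : ι) (y : (U i).total), (v i).hom.base y = x) →
        ∀ g : P ⟶ X, ∃ (i : ι) (h : P ⟶ U i), h ≫ v i = g) ∧
      (∀ (Q X : ModPair.Pair.{u}) (q : Q ⟶ X), ModPair.Pair.admBlowup q →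
        ∀ g : P ⟶ X, ∃ h : P ⟶ Q, h ≫ q = g)) ↔
    ((∀ (X : Scheme.{u}) (R : Presieve X), R ∈ Scheme.precoverage (@Flat ⊓ @LocallyOfFinitePresentation ⊓ @QuasiCompact ⊓ @QuasiSeparated) X →
        ∀ g : P.total ⟶ X, ∃ (Y : Scheme.{u}) (w : Y ⟶ X) (h : P.total ⟶ Y), R w ∧ h ≫ w = g) ∧
      (∀ (X : Scheme.{u}) (R : Presieve X), R ∈ Scheme.precoverage (@Flat ⊓ @LocallyOfFinitePresentation ⊓ @QuasiCompact ⊓ @QuasiSeparated) X →
        ∀ g : (ModPair.interior P.mod : Scheme.{u}) ⟶ X, ∃ (Y : Scheme.{u}) (w : Y ⟶ X) (h : (ModPair.interior P.mod : Scheme.{u}) ⟶ Y), R w ∧ h ≫ w = g) ∧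
      IsAffine (ModPair.interior P.mod : Scheme.{u}) ∧
      IsLocalRing Γ((ModPair.interior P.mod : Scheme.{u}), ⊤) ∧
      ∀ p : (ModPair.interior P.mod : Scheme.{u}),
        IsClosed ({p} : Set (ModPair.interior P.mod : Scheme.{u})) →
          ValuationRing (Γ(P.total, ⊤) ⧸ (P.total.toSpecΓ.base ((ModPair.interior P.mod).ι.base p)).asIdeal) ∧
          IsAlgClosed (FractionRing (Γ(P.total, ⊤) ⧸ (P.total.toSpecΓ.base ((ModPair.interior P.mod).ι.base p)).asIdeal)) ∧
          Set.BijOn (algebraMap Γ(P.total, ⊤) (Localization.AtPrime (P.total.toSpecΓ.base ((ModPair.interior P.mod).ι.base p)).asIdeal))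
            ((P.total.toSpecΓ.base ((ModPair.interior P.mod).ι.base p)).asIdeal : Set Γ(P.total, ⊤))
            (IsLocalRing.maximalIdeal (Localization.AtPrime (P.total.toSpecΓ.base ((ModPair.interior P.mod).ι.base p)).asIdeal) :
              Set (Localization.AtPrime (P.total.toSpecΓ.base ((ModPair.interior P.mod).ι.base p)).asIdeal))) := by
  constructor
  · rintro ⟨hF, hB⟩
    have hP := GrothLib.ModVal8.isLocalFor_of_pair (Q := GrothLib.ModVal8.fppf)
      (fun X ι U v h => hF X ι U v fun i => ⟨(h i).1, (h i).2.1.1.1, (h i).2.1.1.2, (h i).2.1.2, (h i).2.2⟩)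
    obtain ⟨haff, hloc⟩ := GrothLib.RLpsi8.ZarFinLocal.isLocalRing_of_local (GrothLib.ModVal8.isLocalFor_zariski hP)
    haveI := haff
    haveI := hloc
    obtain ⟨h1, h2, h3⟩ := GrothLib.ModVal8.pushout_of_isBlowupLocal hB
    exact ⟨hP, GrothLib.ModVal8.fppfLocal_interior hP hB, h1, h2, fun p hp => ⟨(h3 p hp).1,
      GrothLib.ModVal8.isAlgClosed_fractionRing_of_local (GrothLib.ModVal8.IsLocalFor.of_iso P.total.isoSpec hP) _,
      (h3 p hp).2⟩⟩
  · rintro ⟨hP, -, -, h2, h3⟩
    obtain ⟨haff, hloc⟩ := GrothLib.RLpsi8.ZarFinLocal.isLocalRing_of_local (GrothLib.ModVal8.isLocalFor_zariski hP)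
    haveI := haff
    haveI := hloc
    exact ⟨fun X ι U v h hs g => GrothLib.ModVal8.exists_lift_pair (Q := GrothLib.ModVal8.fppf) v (fun i => (h i).1) g
        hP hs (fun i => ⟨⟨⟨(h i).2.1, (h i).2.2.1⟩, (h i).2.2.2.1⟩, (h i).2.2.2.2⟩),
      GrothLib.ModVal8.isBlowupLocal_of_interior h2 fun p hp => ⟨(h3 p hp).1, (h3 p hp).2.2⟩⟩

end Groth.Agent.S19344
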