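import Groth.Statements.S19346
import Groth.Agent.Lib.ModVal8.Aic

set_option autoImplicit false
universe u
open CategoryTheory CategoryTheory.Limits AlgebraicGeometry TopologicalSpace
open ModPair

namespace Groth.Agent.S19346

/-- Let P be a modulus pair (a scheme P̄ with the quasi-coherent ideal sheaf of an effective Cartier
divisor) whose total space P̄ is quasi-compact and quasi-separated. Then P is local for Zariski
coverings of modulus pairs (jointly surjective families of minimal morphisms U_i ⟶ X whose
underlying morphisms are quasi-compact open immersions: every morphism of pairs P ⟶ X factors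
through some U_i), for finite coverings of modulus pairs (the same with finite underlying morphisms)
— locality for both kinds being locality for the rqfh coverings, their finite composites — and for
abstract admissible blow-ups (every P ⟶ X lifts along every abstract admissible blow-up Q ⟶ X) if
and only if (1) P̄ is affine and A = Γ(P̄) is a local integral domain in which every monic
polynomial of positive degree has a root, (2) the interior P° is affine and Γ(P°) is likewise a
local integral domain in which every monic polynomial of positive degree has a root, and, writing p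
for the closed point of P° and 𝔮 ⊂ A for its prime ideal, (3) A/𝔮 is a valuation ring with
algebraically closed fraction field and (4) the localisation map sends 𝔮 bijectively onto the
maximal ideal of A_𝔮, i.e. A = A/𝔮 ×_{k(𝔮)} A_𝔮 and P̄ is the gluing of the closure of p to P° along
p. The published statement allows any modulus pair P; this row assumes the total space P̄
quasi-compact and quasi-separated. -/
theorem result (P : ModPair.Pair.{u})
    [CompactSpace P.total] [QuasiSeparatedSpace P.total] :
    ((∀ (X : ModPair.Pair.{u}) (ι : Type u) (U : ι → ModPair.Pair.{u}) (v : ∀ i, U i ⟶ X),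
        (∀ i, ModPair.IsMinimal (U i).mod X.mod (v i).hom ∧ IsOpenImmersion (v i).hom ∧ QuasiCompact (v i).hom) →
        (∀ x : X.total, ∃ (i : ι) (y : (U i).total), (v i).hom.base y = x) →
        ∀ g : P ⟶ X, ∃ (i : ι) (h : P ⟶ U i), h ≫ v i = g) ∧
      (∀ (X : ModPair.Pair.{u}) (ι : Type u) (U : ι → ModPair.Pair.{u}) (v : ∀ i, U i ⟶ X),
        (∀ i, ModPair.IsMinimal (U i).mod X.mod (v i).hom ∧ IsFinite (v i).hom) →
        (∀ x : X.total, ∃ (i : ι) (y : (U i).total), (v i).hom.base y = x) →
        ∀ g : P ⟶ X, ∃ (i : ι) (h : P ⟶ U i), h ≫ v i = g) ∧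
      (∀ (Q : ModPair.Pair.{u}) (X : ModPair.Pair.{u}) (q : Q ⟶ X), ModPair.Pair.admBlowup q →
        ∀ g : P ⟶ X, ∃ h : P ⟶ Q, h ≫ q = g)) ↔
    (IsAffine P.total ∧ IsLocalRing Γ(P.total, ⊤) ∧ IsDomain Γ(P.total, ⊤) ∧
      Curves.IsAIC Γ(P.total, ⊤) ∧
      IsAffine (ModPair.interior P.mod : Scheme.{u}) ∧
      IsLocalRing Γ((ModPair.interior P.mod : Scheme.{u}), ⊤) ∧
      IsDomain Γ((ModPair.interior P.mod : Scheme.{u}), ⊤) ∧
      Curves.IsAIC Γ((ModPair.interior P.mod : Scheme.{u}), ⊤) ∧
      ∀ p : (ModPair.interior P.mod : Scheme.{u}),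
        IsClosed ({p} : Set (ModPair.interior P.mod : Scheme.{u})) →
          ValuationRing (Γ(P.total, ⊤) ⧸ (P.total.toSpecΓ.base ((ModPair.interior P.mod).ι.base p)).asIdeal) ∧
          IsAlgClosed (FractionRing (Γ(P.total, ⊤) ⧸ (P.total.toSpecΓ.base ((ModPair.interior P.mod).ι.base p)).asIdeal)) ∧
          Set.BijOn (algebraMap Γ(P.total, ⊤) (Localization.AtPrime (P.total.toSpecΓ.base ((ModPair.interior P.mod).ι.base p)).asIdeal))
            ((P.total.toSpecΓ.base ((ModPair.interior P.mod).ι.base p)).asIdeal : Set Γ(P.total, ⊤))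
            (IsLocalRing.maximalIdeal (Localization.AtPrime (P.total.toSpecΓ.base ((ModPair.interior P.mod).ι.base p)).asIdeal) :
              Set (Localization.AtPrime (P.total.toSpecΓ.base ((ModPair.interior P.mod).ι.base p)).asIdeal))) := by
  constructor
  · rintro ⟨hZ, hF, hB⟩
    have hL := GrothLib.ModVal8.isLocalFor_of_pair (Q := @IsOpenImmersion ⊓ @QuasiCompact)
      (fun X ι U v h => hZ X ι U v fun i => ⟨(h i).1, (h i).2.1, (h i).2.2⟩)
    have hF' := GrothLib.ModVal8.isLocalFor_of_pair (Q := @IsFinite) hF
    obtain ⟨haff, hloc⟩ := GrothLib.RLpsi8.ZarFinLocal.isLocalRing_of_local hL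
    haveI := haff
    haveI := hloc
    obtain ⟨hdom, hA⟩ := GrothLib.RLpsi8.ZarFinLocal.isDomain_isAIC_of_local hF'
    haveI := hdom
    obtain ⟨h1, h2, h3⟩ := GrothLib.ModVal8.pushout_of_isBlowupLocal hB
    obtain ⟨h4, h5⟩ := GrothLib.ModVal8.isDomain_isAIC_interior hA h2
    exact ⟨haff, hloc, hdom, hA, h1, h2, h4, h5, fun p hp =>
      ⟨(h3 p hp).1, GrothLib.ModVal8.isAlgClosed_fractionRing_quotient hA _, (h3 p hp).2⟩⟩
  · rintro ⟨haff, hloc, hdom, hA, -, h2, -, -, h3⟩
    haveI := haff
    haveI := hloc
    haveI := hdom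
    exact ⟨fun X ι U v h hs g => GrothLib.ModVal8.exists_lift_pair v (fun i => (h i).1) g
        GrothLib.RLpsi8.ZarFinLocal.local_of_isLocalRing hs (fun i => (show (@IsOpenImmersion ⊓ @QuasiCompact : MorphismProperty Scheme.{u}) (v i).hom from (h i).2)),
      fun X ι U v h hs g => GrothLib.ModVal8.exists_lift_pair v (fun i => (h i).1) g
        (GrothLib.RLpsi8.ZarFinLocal.local_of_aic hA) hs (fun i => (h i).2),
      GrothLib.ModVal8.isBlowupLocal_of_interior h2 fun p hp => ⟨(h3 p hp).1, (h3 p hp).2.2⟩⟩

end Groth.Agent.S19346
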