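import Groth.Statements.S19348
import Mathlib.RingTheory.DividedPowers.Basic
import Mathlib.RingTheory.AdicCompletion.Basic

set_option autoImplicit false
universe u
open RigCh

namespace Groth.Agent.S19348

/-- Let p be a prime and m a natural number, P a commutative ring complete and separated for the p-adic
topology, and I an ideal of P with a divided power structure of level m, that is a sub-ideal J of I
endowed with divided powers such that x ^ (p ^ m) and p * x lie in J for all x in I. Then an element
of P whose class in P / I is invertible is invertible in P. (The source states this for a lift of a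
unit to the p-adically completed level-m divided power envelope of a closed immersion; the statement
here keeps exactly what its argument uses: completeness for p and the level-m divided powers on the
kernel.) -/
theorem result (p : ℕ) [Fact p.Prime] (m : ℕ)
    (P : Type u) [CommRing P] [IsAdicComplete (Ideal.span {(p : P)}) P]
    (I J : Ideal P) (hJ : DividedPowers J) (hJI : J ≤ I)
    (hpow : ∀ x ∈ I, x ^ (p ^ m) ∈ J) (hmul : ∀ x ∈ I, (p : P) * x ∈ J)
    (u : P) (hu : IsUnit (Ideal.Quotient.mk I u)) : IsUnit u := by
  have hJac : Ideal.span {(p : P)} ≤ (⊥ : Ideal P).jacobson := IsAdicComplete.le_jacobson_bot _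
  have key : ∀ x ∈ I, x ∈ (⊥ : Ideal P).jacobson := fun x hx => by
    have h1 := hJ.factorial_mul_dpow_eq_pow (n := p) (hpow x hx)
    have h2 : (x ^ p ^ m) ^ p ∈ Ideal.span {(p : P)} := by
      rw [← h1]
      obtain ⟨c, hc⟩ := Nat.dvd_factorial (Fact.out : p.Prime).pos le_rfl
      rw [hc, Nat.cast_mul, mul_assoc]
      exact Ideal.mul_mem_right _ _ (Ideal.mem_span_singleton_self _)
    rw [← pow_mul] at h2
    refine Ideal.mem_sInf.mpr fun {M} hM => ?_
    exact hM.2.isPrime.mem_of_pow_mem _ (Ideal.mem_sInf.mp (hJac h2) hM)
  obtain ⟨v, hv⟩ := hu.exists_right_inv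
  obtain ⟨v, rfl⟩ := Ideal.Quotient.mk_surjective v
  rw [← map_mul, ← map_one (Ideal.Quotient.mk I), Ideal.Quotient.eq] at hv
  have := Ideal.mem_jacobson_bot.mp (key _ hv) 1
  rw [mul_one, sub_add_cancel] at this
  exact isUnit_of_mul_isUnit_left this

end Groth.Agent.S19348
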