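import Groth.Statements.S19350
import Groth.Agent.Lib.StrictTr.Dense
import Groth.Agent.Lib.OX.LocFreeTensor
import Groth.Agent.Lib.DCoh.LocFree

set_option autoImplicit false
universe u
open RigCh

open CategoryTheory CategoryTheory.Limits AlgebraicGeometry TopologicalSpace

namespace Groth.Agent.S19350

theorem app_injective_of_locFree {X X' : Scheme.{u}} {b : X' ⟶ X} {I : X.IdealSheafData} {F : X.Modules}
    {G : X'.Modules} {π : (Scheme.Modules.pullback b).obj F ⟶ G}
    (hE : BlowUp.IsEffCartierIdeal (I.comap b)) (hM : FlatMod.IsFinLocFree ((Scheme.Modules.pullback b).obj F))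
    (hG : BlowUp.IsStrictTransform b I F G π) (x : X') (W : X'.Opens) (hx : x ∈ W) :
    ∃ V : X'.affineOpens, x ∈ V.1 ∧ V.1 ≤ W ∧ ∀ m, π.app V.1 m = 0 → m = 0 := by
  obtain ⟨T, n, e, hxT, he⟩ := GrothLib.FinCov.exists_frame_nhd hM x
  obtain ⟨V, hxV, hVle, a, hanz, ha⟩ := GrothLib.BlowUp.exists_cartierOn_le hE (W := T ⊓ W) (x := x) ⟨hxT, hx⟩
  refine ⟨V, hxV, hVle.trans inf_le_right, fun m hm => ?_⟩
  obtain ⟨k, hk⟩ := (GrothLib.StrictTr.app_eq_zero_iff hG ha m).1 hm
  let B := he.basis V.1 (hVle.trans inf_le_left)
  refine B.repr.injective (Finsupp.ext fun i => ?_)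
  have h := DFunLike.congr_fun (congrArg B.repr hk) i
  rw [map_smul, map_zero, Finsupp.smul_apply, Finsupp.zero_apply, smul_eq_mul] at h
  rw [map_zero, Finsupp.zero_apply]
  exact (mul_right_mem_nonZeroDivisors_eq_zero_iff (pow_mem hanz k)).1 (by rw [mul_comm]; exact h)

open AlgebraicGeometry CategoryTheory in
/-- Let X be a separated scheme of finite type over a field k, I a quasi-coherent ideal sheaf on X, b :
X' → X a blowing up of X in I and F a finite locally free O_X-module. Then for any strict transform
G of F along b (an epimorphism π from the pullback of F onto G whose kernel consists,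
affine-locally, of the sections annihilated by a power of the exceptional ideal), π is an
isomorphism and G is finite locally free. (The published statement asserts only that the strict
transform is locally free. The source assumes k of positive characteristic, which plays no role
here.) -/
theorem result (k : Type u) [Field k]
    (X : Scheme.{u}) (f : X ⟶ Spec (CommRingCat.of k)) [IsSeparated f] [QuasiCompact f] [LocallyOfFiniteType f]
    (I : X.IdealSheafData) {X' : Scheme.{u}} (b : X' ⟶ X) (hb : BlowUp.IsBlowUp b I)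
    (F : X.Modules) (hF : FlatMod.IsFinLocFree F) (G : X'.Modules) (π : (Scheme.Modules.pullback b).obj F ⟶ G)
    (hG : BlowUp.IsStrictTransform b I F G π) : IsIso π ∧ FlatMod.IsFinLocFree G := by
  have hM := GrothLib.OX.isFinLocFree_pullback b hF
  haveI : Epi π := hG.1
  haveI : Mono π := by
    refine Preadditive.mono_of_cancel_zero π fun {Z} g hg => ?_
    refine Scheme.Modules.hom_ext _ _ fun U => AddCommGrpCat.ext fun s => ?_
    let t := g.app U s
    show t = 0
    have hloc : ∀ x : U, ∃ V : X'.affineOpens, (x : X') ∈ V.1 ∧ V.1 ≤ U ∧ ∀ m, π.app V.1 m = 0 → m = 0 :=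
      fun x => app_injective_of_locFree hb.1 hM hG x U x.2
    choose V hxV hVU hV using hloc
    refine TopCat.Sheaf.eq_of_locally_eq' ⟨((Scheme.Modules.pullback b).obj F).presheaf, ((Scheme.Modules.pullback b).obj F).isSheaf⟩
      (fun x : U => (V x).1) U (fun x => homOfLE (hVU x)) (fun x hx => Opens.mem_iSup.2 ⟨⟨x, hx⟩, hxV _⟩) _ _ fun x => ?_
    refine (hV x _ ?_).trans (map_zero _).symm
    have h0 : π.app U t = 0 := by
      show (g ≫ π).app U s = 0
      rw [hg]
      rfl
    show π.app _ (GrothLib.InvExt.mres _ (hVU x) t) = 0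
    rw [GrothLib.StrictTr.app_mres, h0]
    exact map_zero _
  haveI := isIso_of_mono_of_epi π
  exact ⟨inferInstance, GrothLib.DCoh.isFinLocFree_of_iso (asIso π) hM⟩

end Groth.Agent.S19350
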