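import Groth.Statements.S19351
import Groth.Agent.Lib.Nagata6.Absolute
import Groth.Agent.Lib.Nagata6.UnionData

set_option autoImplicit false
universe u
open RigCh

namespace Groth.Agent.S19351

open AlgebraicGeometry CategoryTheory in
open AlgebraicGeometry CategoryTheory in
theorem exists_cartier_boundary (k : Type u) [Field k] {X Y : Scheme.{u}} (j₀ : X ⟶ Y) [IsOpenImmersion j₀]
    (p₀ : Y ⟶ Spec (CommRingCat.of k)) [IsProper p₀] :
    ∃ (Yb : Scheme.{u}) (c : Yb ⟶ Y) (j : X ⟶ Yb) (E : Yb.IdealSheafData),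
      IsProper c ∧ IsOpenImmersion j ∧ j ≫ c = j₀ ∧
      BlowUp.IsEffCartierIdeal E ∧ (E.support : Set Yb) = (Set.range j.base)ᶜ := by
  haveI := LocallyOfFiniteType.isLocallyNoetherian p₀
  let I := Scheme.IdealSheafData.vanishingIdeal (X := Y)
    ⟨(Set.range j₀.base)ᶜ, j₀.isOpenEmbedding.isOpen_range.isClosed_compl⟩
  have hI : (I.support : Set Y) = (Set.range j₀.base)ᶜ := Scheme.IdealSheafData.coe_support_vanishingIdeal ..
  obtain ⟨Yb, c, hc⟩ := GrothLib.BlowUp.exists_isBlowUp Y I
  have hcp := GrothLib.Nagata6.isProper_of_isBlowUp (GrothLib.Nagata6.isFiniteTypeIdeal_of_noetherian _) hc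
  obtain ⟨u, hu, huc, hr⟩ := GrothLib.Nagata6.exists_lift_off hc j₀ (by rw [hI]; exact disjoint_compl_left)
  refine ⟨Yb, c, u, I.comap c, hcp, hu, huc, hc.1, ?_⟩
  rw [Scheme.IdealSheafData.support_comap]
  ext z
  show c z ∈ (I.support : Set Y) ↔ _
  rw [hI, Set.mem_compl_iff, Set.mem_compl_iff, not_iff_not]
  refine ⟨hr z, ?_⟩
  rintro ⟨x, rfl⟩
  exact ⟨x, by rw [← Scheme.Hom.comp_apply, huc]⟩

open AlgebraicGeometry CategoryTheory in

/-- Let φ : X' → X be a morphism of separated schemes of finite type over a field k. Then there are open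
immersions j : X → X̄ and j' : X' → X̄' over k into schemes proper over k, whose complements are
supports of effective Cartier divisors (ideal sheaves locally generated on an affine open by one
nonzerodivisor), together with a proper k-morphism X̄' → X̄ restricting to φ. (Compactifications in
the source are taken with divisor boundary by a standing convention; the second assertion, about
extending a pseudo-divisor, is not included. The source assumes k of positive characteristic; this
plays no role here.) -/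
theorem result (k : Type u) [Field k]
    {X X' : Scheme.{u}} (f : X ⟶ Spec (CommRingCat.of k)) [IsSeparated f] [QuasiCompact f] [LocallyOfFiniteType f]
    (f' : X' ⟶ Spec (CommRingCat.of k)) [IsSeparated f'] [QuasiCompact f'] [LocallyOfFiniteType f']
    (φ : X' ⟶ X) (hφ : φ ≫ f = f') :
    ∃ (Xb Xb' : Scheme.{u}) (j : X ⟶ Xb) (j' : X' ⟶ Xb') (g : Xb ⟶ Spec (CommRingCat.of k))
      (g' : Xb' ⟶ Spec (CommRingCat.of k)) (ψ : Xb' ⟶ Xb) (E : Xb.IdealSheafData) (E' : Xb'.IdealSheafData),
      IsOpenImmersion j ∧ IsOpenImmersion j' ∧ IsProper g ∧ IsProper g' ∧ j ≫ g = f ∧ j' ≫ g' = f' ∧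
      IsProper ψ ∧ ψ ≫ g = g' ∧ j' ≫ ψ = φ ≫ j ∧
      BlowUp.IsEffCartierIdeal E ∧ (E.support : Set Xb) = (Set.range j.base)ᶜ ∧
      BlowUp.IsEffCartierIdeal E' ∧ (E'.support : Set Xb') = (Set.range j'.base)ᶜ := by
  obtain ⟨Y, j₀, p₀, hj₀, -, hp₀, hjp₀⟩ := GrothLib.Nagata6.exists_compactification f
  obtain ⟨Xb, c, j, E, hc, hj, hjc, hE, hEs⟩ := exists_cartier_boundary k j₀ p₀
  let g : Xb ⟶ Spec (CommRingCat.of k) := c ≫ p₀
  haveI : IsProper g := by haveI := hc; infer_instance
  have hjg : j ≫ g = f := by simp only [g, reassoc_of% hjc, hjp₀]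
  let m : X' ⟶ Xb := φ ≫ j
  have hm : m ≫ g = f' := by simp only [m, Category.assoc, hjg, hφ]
  haveI : IsSeparated (m ≫ g) := hm ▸ inferInstance
  haveI : LocallyOfFiniteType (m ≫ g) := hm ▸ inferInstance
  haveI : QuasiCompact (m ≫ g) := hm ▸ inferInstance
  haveI : IsSeparated m := IsSeparated.of_comp m g
  haveI : LocallyOfFiniteType m := locallyOfFiniteType_of_comp m g
  haveI : QuasiCompact m := QuasiCompact.of_comp m g
  haveI : CompactSpace Xb := QuasiCompact.compactSpace_of_compactSpace g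
  haveI : QuasiSeparatedSpace Xb := quasiSeparatedSpace_of_quasiSeparated g
  obtain ⟨Y', j₁, p₁, hj₁, -, hp₁, hjp₁⟩ := GrothLib.Nagata6.exists_compactification m
  obtain ⟨Xb', c', j', E', hc', hj', hjc', hE', hEs'⟩ := exists_cartier_boundary k j₁ (p₁ ≫ g)
  refine ⟨Xb, Xb', j, j', g, c' ≫ p₁ ≫ g, c' ≫ p₁, E, E', hj, hj', inferInstance, ?_, hjg, ?_, ?_,
    (Category.assoc _ _ _), ?_, hE, hEs, hE', hEs'⟩
  · haveI := hc'; infer_instance
  · rw [reassoc_of% hjc', reassoc_of% hjp₁, hm]
  · haveI := hc'; infer_instance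
  · rw [reassoc_of% hjc', hjp₁]

end Groth.Agent.S19351
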