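import Groth.Statements.S19352
import Groth.Agent.Lib.HodgeIndex.H2Vanish
import Groth.Agent.Lib.HodgeIndex.ProjConv
import Groth.Agent.Lib.Goodman.Effective
import Groth.Agent.Lib.CurveRR.Setup

set_option autoImplicit false
set_option linter.all false
universe u
open CategoryTheory CategoryTheory.Limits AlgebraicGeometry
open Surf

namespace Groth.Agent.S19352

/-- Let k be an algebraically closed field and X a nonsingular projective surface over k, namely an
integral scheme, smooth over k, of dimension two, given with a closed immersion ι into a projective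
space P^n_k over k, and let H = ι^* O(1) be the invertible module of a hyperplane section. If L is
an invertible O_X-module (the module of a divisor D) with dim_k H^0(X, L) > 1, then (L·H) > 0. Here
(A·B) denotes the intersection number of two invertible modules, the alternating sum χ(O_X) − χ(A) −
χ(B) + χ(A ⊗ B) of Euler characteristics (cohomology in degrees at most two); for two invertible
modules this agrees with the same sum formed from their inverses. -/
theorem result (k : Type u) [Field k] [IsAlgClosed k]
    (X : Scheme.{u}) [X.Over (Spec (CommRingCat.of k))] [AlgebraicGeometry.IsIntegral X]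
    [Smooth (X ↘ Spec (CommRingCat.of k))] (hdim : topologicalKrullDim X = 2)
    (n : ℕ) (ι : X ⟶ CohB1.ProjSpace n k) [IsClosedImmersion ι]
    (hι : ι ≫ CohB1.ProjSpace.toSpec n k = X ↘ Spec (CommRingCat.of k))
    (L : X.Modules) (hL : PicF.IsInvertible L)
    (hsec : 1 < Module.finrank k (Coh.HH X L 0)) :
    0 < FGA.intNum k X 2 ![L, (Scheme.Modules.pullback ι).obj (Twist.twistProjSpace n k 1)] (Coh.structureModule X) := by
  haveI := GrothLib.HodgeIndex.isProper_of_proj ι hι
  have hd : topologicalKrullDim X = ((2 : ℕ) : WithBot ℕ∞) := hdim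
  have hH := GrothLib.HodgeIndex.isAmple_hyperplane ι
  rw [GrothLib.HodgeIndex.intNum_eq_isect k hd.le hH hL hH.1]
  change 1 < GrothLib.HodgeIndex.hh k L 0 at hsec
  rw [GrothLib.HodgeIndex.hh_rep_eq k hL rfl 0] at hsec
  have hp := GrothLib.NefGrowth.pLe_of_h0_pos k (x := GrothLib.Cube.clsMod hL) (lt_trans one_pos hsec)
  refine (GrothLib.HodgeIndex.isect_nonneg_of_pLe k hd hH hp).lt_of_ne fun h0 => ?_
  have h1 := GrothLib.Goodman.eq_one_of_pLe_of_degree_zero k hd hH hp h0.symm
  rw [h1, ← GrothLib.HodgeIndex.hh_rep_eq k (GrothLib.Euler.isInvertible_structure (X := X))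
    ((GrothLib.Cube.clsMod_eq_one_iff _).2 ⟨Iso.refl _⟩) 0] at hsec
  exact hsec.ne' (GrothLib.CurveRR.finrank_H0_structure_eq_one k)

end Groth.Agent.S19352
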