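import Groth.Statements.S19356
import Groth.Agent.Lib.AbVarAlg.PosInvolution
-- import your own Groth.Agent.* helpers here

set_option autoImplicit false
universe u
open AbVar

namespace Groth.Agent.S19356

/-- Let R be a finite-dimensional ℚ-algebra with a ℚ-linear involution x ↦ x† (an anti-automorphism of
order two) and a ℚ-linear functional σ with σ(x x†) > 0 for every x ≠ 0; this is the positivity of
the involution, σ being the trace of R over ℚ in the case of the endomorphism algebra of an abelian
variety with a Rosati involution, and the trace on a cohomology group in the case of an algebra of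
correspondences with the adjoint for a Weil form. Let α ∈ R with α α† = q for a rational number q.
Then α† lies in the subalgebra ℚ[α], and for every ℚ-algebra homomorphism ρ : ℚ[α] → ℂ one has ρ(α†)
= the complex conjugate of ρ(α) and |ρ(α)|² = q. (The published statement is for the endomorphism
algebra of an abelian variety with a Rosati involution, with σ its trace over ℚ and q an integer;
the form given here, for an arbitrary ℚ-linear functional σ positive on every x x† with x ≠ 0 and
rational q, is what its proof establishes.) -/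
theorem result (R : Type u) [Ring R] [Algebra ℚ R]
    [Module.Finite ℚ R] [StarRing R] [StarModule ℚ R]
    (σ : R →ₗ[ℚ] ℚ) (hpos : ∀ x : R, x ≠ 0 → 0 < σ (x * star x))
    (α : R) (q : ℚ) (hα : α * star α = algebraMap ℚ R q) :
    ∃ hmem : star α ∈ Algebra.adjoin ℚ ({α} : Set R),
      ∀ ρ : Algebra.adjoin ℚ ({α} : Set R) →ₐ[ℚ] ℂ,
        ρ ⟨star α, hmem⟩ = starRingEnd ℂ (ρ ⟨α, Algebra.self_mem_adjoin_singleton ℚ α⟩) ∧
          ‖ρ ⟨α, Algebra.self_mem_adjoin_singleton ℚ α⟩‖ ^ 2 = (q : ℝ) := by
  set A := Algebra.adjoin ℚ ({α} : Set R) with hA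
  have hαA : α ∈ A := Algebra.self_mem_adjoin_singleton ℚ α
  have hzero : ∀ y : R, y * star y = 0 → y = 0 := fun y hy => by
    by_contra h; have := hpos y h; rw [hy, map_zero] at this; exact this.false
  obtain ⟨hmem, hcomm⟩ : star α ∈ A ∧ Commute α (star α) := by
    by_cases hq : q = 0
    · subst hq
      rw [map_zero] at hα
      rw [hzero α hα, star_zero]
      exact ⟨A.zero_mem, Commute.refl 0⟩
    · -- `α` is invertible in the finite-dimensional algebra `A`
      set s := q⁻¹ • star α with hs
      have hr : α * s = 1 := by
        rw [hs, mul_smul_comm, hα, Algebra.algebraMap_eq_smul_one, smul_smul, inv_mul_cancel₀ hq, one_smul]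
      have hinjR : Function.Injective (LinearMap.mulRight ℚ α) := fun a b h => by
        have := congrArg (· * s) (show a * α = b * α from h)
        simpa [mul_assoc, hr] using this
      obtain ⟨l, hl⟩ := LinearMap.injective_iff_surjective.1 hinjR 1
      have hl' : l * α = 1 := hl
      let f : A →ₗ[ℚ] A := LinearMap.mulLeft ℚ (⟨α, hαA⟩ : A)
      have hinjA : Function.Injective f := fun a b h => by
        have h' : α * (a : R) = α * (b : R) := congrArg Subtype.val h
        have := congrArg (l * ·) h'
        simp only [← mul_assoc, hl', one_mul] at this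
        exact Subtype.ext this
      obtain ⟨a, ha⟩ := LinearMap.injective_iff_surjective.1 hinjA 1
      have ha' : α * (a : R) = 1 := congrArg Subtype.val ha
      have hsa : s = (a : R) := by rw [← one_mul s, ← hl', mul_assoc, hr, ← ha', ← mul_assoc, hl', one_mul]
      have hls : l = s := left_inv_eq_right_inv hl' hr
      have hstar : star α = q • (a : R) := by rw [← hsa, hs, smul_smul, mul_inv_cancel₀ hq, one_smul]
      refine ⟨hstar ▸ A.smul_mem a.2 q, ?_⟩
      have hc : α * s = s * α := by rw [hr, ← hls, hl']
      have : star α = q • s := by rw [hs, smul_smul, mul_inv_cancel₀ hq, one_smul]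
      rw [this]
      exact Commute.smul_right hc q
  refine ⟨hmem, fun ρ => ?_⟩
  have hroot : ∀ (v : R) (hv : v ∈ A), Polynomial.aeval (ρ ⟨v, hv⟩) (minpoly ℚ v) = 0 := fun v hv => by
    rw [Polynomial.aeval_algHom_apply]
    have h0 : Polynomial.aeval (⟨v, hv⟩ : A) (minpoly ℚ v) = 0 :=
      Subtype.ext (by rw [Polynomial.aeval_subalgebra_coe]; exact minpoly.aeval ℚ v)
    rw [h0, map_zero]
  set a := ρ ⟨α, hαA⟩ with ha
  set b := ρ ⟨star α, hmem⟩ with hb
  have h1 : (a + b).im = 0 := by
    have := GrothLib.AbVarAlg.root_im_eq_zero hpos (x := α + star α) (by rw [star_add, star_star, add_comm])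
      (hroot _ (A.add_mem hαA hmem))
    rwa [show (⟨α + star α, A.add_mem hαA hmem⟩ : A) = ⟨α, hαA⟩ + ⟨star α, hmem⟩ from rfl, map_add] at this
  have hy : Commute (α - star α) (star (α - star α)) := by
    rw [star_sub, star_star]
    exact ((Commute.refl α).sub_left hcomm.symm).sub_right ((hcomm).sub_left (Commute.refl _)) |> fun h =>
      Commute.sub_right (hcomm.sub_left (Commute.refl _)) ((Commute.refl α).sub_left hcomm.symm)
  have hyA : (α - star α) * star (α - star α) ∈ A := by
    rw [star_sub, star_star]; exact A.mul_mem (A.sub_mem hαA hmem) (A.sub_mem hmem hαA)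
  obtain ⟨h2, h3⟩ := GrothLib.AbVarAlg.root_mul_star_nonneg hpos hy (hroot _ hyA)
  have he : ρ ⟨_, hyA⟩ = (a - b) * (b - a) := by
    rw [ha, hb, ← map_sub, ← map_sub, ← map_mul]
    congr 1
    exact Subtype.ext (by simp [star_sub])
  rw [he] at h2 h3
  simp only [Complex.mul_im, Complex.mul_re, Complex.sub_re, Complex.sub_im] at h2 h3
  simp only [Complex.add_im] at h1
  have hbim : b.im = -a.im := by linarith
  have hre : b.re = a.re := by
    rw [hbim] at h2 h3
    by_cases him : a.im = 0
    · rw [him] at h3
      nlinarith [sq_nonneg (b.re - a.re)]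
    · have : (a.re - b.re) * a.im = 0 := by linarith
      rcases mul_eq_zero.1 this with h | h
      · linarith
      · exact absurd h him
  have hconj : b = starRingEnd ℂ a := Complex.ext (by simpa using hre) (by simpa using hbim)
  refine ⟨hconj, ?_⟩
  have hab : a * b = (q : ℂ) := by
    rw [ha, hb, ← map_mul, show (⟨α, hαA⟩ : A) * ⟨star α, hmem⟩ = algebraMap ℚ A q from Subtype.ext hα,
      AlgHom.commutes, eq_ratCast]
  rw [hconj, Complex.mul_conj', ← Complex.ofReal_ratCast] at hab
  exact_mod_cast hab

end Groth.Agent.S19356
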