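import Groth.Statements.S19358
import Mathlib
import Groth.Agent.Fan2.Bounded

set_option autoImplicit false
universe u
open CategoryTheory Opposite Instab
open Instab Instab.Fan

namespace Groth.Agent.S19358

open Groth.Agent.Fan2


/-- Let f : F ⟶ G be a map of formal fans. If f is injective on n-cones for every n, then the induced
continuous map of projective realizations P F → P G is injective; if f is surjective on n-cones for
every n, then P F → P G is surjective. -/
theorem result {F G : Fan.{u}} (f : F ⟶ G) :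
    ((∀ n : ICone, Function.Injective (f.app (op n))) → Function.Injective (Fan.P.map f)) ∧
    ((∀ n : ICone, Function.Surjective (f.app (op n))) → Function.Surjective (Fan.P.map f)) := by
  refine ⟨fun hf x y h => ?_, fun hf y => ?_⟩
  · obtain ⟨n, ξ, v, rfl⟩ := exists_mk x
    obtain ⟨n', ξ', v', rfl⟩ := exists_mk y
    obtain ⟨k, φ₁, φ₂, y, c₁, c₂, e, hc₁, hc₂, e₁, e₂⟩ := exists_common h
    rw [← app_map f φ₁, ← app_map f φ₂] at e
    rw [← mk_glue φ₁ ξ y v c₁ hc₁ e₁, hf k e, mk_glue φ₂ ξ' y v' c₂ hc₂ e₂]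
  · obtain ⟨n, σ, v, rfl⟩ := exists_mk y
    obtain ⟨ξ, rfl⟩ := hf n σ
    exact ⟨Fan.P.mk ξ v, rfl⟩

end Groth.Agent.S19358
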