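import Groth.Statements.S19359
import Mathlib
import Groth.Agent.Fan2.Bounded

set_option autoImplicit false
universe u
open CategoryTheory Opposite Instab
open Instab Instab.Fan

namespace Groth.Agent.S19359

open Groth.Agent.Fan2


/-- A formal fan G is quasi-separated (the fibre product of any two of its cones is a bounded fan) if
and only if, for every bounded formal fan F, every map of fans F ⟶ G is bounded (its base change
along each cone of G is a bounded fan). -/
theorem result (G : Fan.{u}) :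
    G.IsQuasiSeparated ↔
      ∀ (F : Fan.{u}) (f : F ⟶ G), F.IsBounded → Fan.IsBoundedMap f := by
  classical
  refine ⟨fun hG F f hF n σ => ?_, fun h n₀ n₁ σ₀ σ₁ => h _ (coneMap σ₀) (isBounded_hcone n₀) n₁ σ₁⟩
  obtain ⟨s, hs⟩ := hF
  choose t ht using fun e : (Σ k : ICone, F.obj (op k)) => hG e.1 n (f.app (op e.1) e.2) σ
  have hcomp : ∀ e : (Σ k : ICone, F.obj (op k)), coneMap e.2 ≫ f = coneMap (f.app (op e.1) e.2) :=
    fun e => uliftYonedaEquiv_symm_comp e.2 f
  let Θ := fun e : (Σ k : ICone, F.obj (op k)) =>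
    Limits.pullback.lift (f := f) (g := coneMap σ)
      (Limits.pullback.fst (coneMap (f.app (op e.1) e.2)) (coneMap σ) ≫ coneMap e.2)
      (Limits.pullback.snd (coneMap (f.app (op e.1) e.2)) (coneMap σ))
      (by rw [Category.assoc, hcomp e]; exact Limits.pullback.condition)
  refine ⟨s.biUnion fun e => (t e).image fun p => ⟨p.1, (Θ e).app _ p.2⟩, fun x => ?_⟩
  obtain ⟨k₀, z₀, y₀, rfl⟩ := exists_mk x
  obtain ⟨e, he, w, hw⟩ := hs (Fan.P.map (Limits.pullback.fst f (coneMap σ)) (Fan.P.mk z₀ y₀))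
  obtain ⟨k, φ₁, φ₂, y, c₁, c₂, e', hc₁, hc₂, e₁, e₂⟩ := exists_common hw
  set zk := (Limits.pullback f (coneMap σ)).map φ₂.op z₀
  have hfst : (Limits.pullback.fst f (coneMap σ)).app _ zk = F.map φ₁.op e.2 := by
    rw [app_map]; exact e'.symm
  have hΘ₁ : Θ e ≫ Limits.pullback.fst f (coneMap σ) =
      Limits.pullback.fst (coneMap (f.app (op e.1) e.2)) (coneMap σ) ≫ coneMap e.2 :=
    Limits.pullback.lift_fst _ _ _
  have hΘ₂ : Θ e ≫ Limits.pullback.snd f (coneMap σ) =
      Limits.pullback.snd (coneMap (f.app (op e.1) e.2)) (coneMap σ) :=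
    Limits.pullback.lift_snd _ _ _
  obtain ⟨q, hq₁, hq₂⟩ := pb_exists (coneMap (f.app (op e.1) e.2)) (coneMap σ) (hcone φ₁)
    ((Limits.pullback.snd f (coneMap σ)).app _ zk) (by
      rw [coneMap_app, ← app_map, ← hfst, pb_w])
  have hΘ : (Θ e).app (op k) q = zk := by
    refine Limits.Types.ext_of_isPullback
      ((IsPullback.of_hasPullback f (coneMap σ)).map ((evaluation _ _).obj (op k))) ?_ ?_
    · refine (ConcreteCategory.congr_hom
        (NatTrans.congr_app hΘ₁ (op k)) q).trans ?_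
      refine (congrArg (fun r => (coneMap e.2).app (op k) r) hq₁).trans ?_
      exact hfst.symm
    · exact (ConcreteCategory.congr_hom
        (NatTrans.congr_app hΘ₂ (op k)) q).trans hq₂
  obtain ⟨p, hp, w', hw'⟩ := ht e (Fan.P.mk q y)
  refine ⟨_, Finset.mem_biUnion.2 ⟨e, he, Finset.mem_image.2 ⟨p, hp, rfl⟩⟩, w', ?_⟩
  have := congrArg (Fan.P.map (Θ e)) hw'
  rw [map_mk, map_mk, hΘ] at this
  rw [this]
  exact mk_glue φ₂ z₀ y y₀ c₂ hc₂ e₂

end Groth.Agent.S19359
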