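import Groth.Statements.S1936
import Groth.Agent.S1345
import Groth.Agent.S1346
import Groth.Agent.S4961
import Groth.Agent.Lib.CMMor6.Open
import Groth.Agent.Lib.GrpdQuot.Scheme
import Groth.Agent.Lib.GrpdQuot.Restrict
import Groth.Agent.Lib.GrpdQuot.Points
import Groth.Agent.Lib.MorQ9.Generic
-- import your own Groth.Agent.* helpers here

set_option autoImplicit false
universe u
open CategoryTheory CategoryTheory.Limits AlgebraicGeometry
open Grpd

namespace Groth.Agent.S1936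


open GrothLib.GrpSchField (cmp cmp_congr cmp_inv_right')

theorem cmAt_iff {X Y : Scheme.{u}} (f : X ⟶ Y) (x : X) : Grpd.IsCMAt f x ↔ MoreMor.IsCMAt f x :=
  (GrothLib.CMMor6.isCMAt_iff f x).symm

theorem cm_bc {S : Scheme.{u}} (G : Grpd.GroupoidScheme S) [Flat G.s] [LocallyOfFinitePresentation G.s]
    {P : Scheme.{u}} (g' : P ⟶ G.R) (f' : P ⟶ G.R) (g : G.R ⟶ G.U) [LocallyOfFiniteType g]
    (H : IsPullback g' f' G.s g) (p : P) : MoreMor.IsCMAt G.s (g' p) ↔ MoreMor.IsCMAt f' p :=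
  ⟨fun h => Groth.Agent.S1345.result G.s (fun y => GrothLib.CMMor6.isLocallyNoetherian_fiber G.s y)
      f' g' g H p h,
    fun h => Groth.Agent.S1346.result G.s (fun y => GrothLib.CMMor6.isLocallyNoetherian_fiber G.s y)
      f' g' g H p (Flat.stalkMap G.s (g' p)) h⟩

theorem exists_div_points {S : Scheme.{u}} (G : Grpd.GroupoidScheme S) (r r' : G.R) (h : G.t r = G.t r') :
    ∃ p : ↑(pullback G.s G.s), pullback.snd G.s G.s p = r ∧ GrothLib.GrpdQuot.divHom G p = r' := by
  let γ := pullback.fst G.t G.t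
  let δ := pullback.snd G.t G.t
  have h₁ : (δ ≫ G.i) ≫ G.s = γ ≫ G.t := by rw [Category.assoc, G.i_s, pullback.condition]
  let a := cmp G (δ ≫ G.i) γ h₁
  have ha : a ≫ G.s = γ ≫ G.s := G.comp_s _ _ h₁
  have hat : δ ≫ G.s = a ≫ G.t := by
    rw [show a ≫ G.t = (δ ≫ G.i) ≫ G.t from G.comp_t _ _ h₁, Category.assoc, G.i_t]
  let L := pullback.lift a γ ha
  have hL₂ : L ≫ pullback.snd G.s G.s = γ := pullback.lift_snd _ _ _
  have hL₁ : L ≫ pullback.fst G.s G.s = a := pullback.lift_fst _ _ _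
  have hw : L ≫ GrothLib.GrpdQuot.divHom G = δ := by
    rw [GrothLib.GrpdQuot.divHom, GrothLib.GrpSchField.comp_cmp]
    have hγ : cmp G δ a hat = γ := GrothLib.GrpdQuot.cmp_inv_left G δ γ h₁ hat
    refine (cmp_congr G _ (hL₂.trans hγ.symm) (by rw [← Category.assoc, hL₁])).trans
      (cmp_inv_right' G a δ hat ((G.comp_s δ a hat).trans ((Category.assoc a G.i G.t).trans (by rw [G.i_t])).symm))
  obtain ⟨z, hz₁, hz₂⟩ := Scheme.Pullback.exists_preimage_pullback (f := G.t) (g := G.t) r r' h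
  exact ⟨L z, by rw [← Scheme.Hom.comp_apply, hL₂]; exact hz₁,
    by rw [← Scheme.Hom.comp_apply, hw]; exact hz₂⟩

theorem exists_cm_point {X Y : Scheme.{u}} (f : X ⟶ Y) [Flat f] [LocallyOfFiniteType f] (x : X) :
    ∃ z : X, f z = f x ∧ MoreMor.IsCMAt f z := by
  haveI := GrothLib.CMMor6.isLocallyNoetherian_fiber f (f x)
  have hirr : IsIrreducible (irreducibleComponent (f.asFiber x)) := isIrreducible_irreducibleComponent
  obtain ⟨η, hη⟩ := QuasiSober.sober hirr isClosed_irreducibleComponent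
  have hmem : closure ({η} : Set ↑(f.fiber (f x))) ∈ irreducibleComponents ↑(f.fiber (f x)) :=
    hη.def.symm ▸ irreducibleComponent_mem_irreducibleComponents _
  refine ⟨f.fiberι (f x) η, ?_, ?_⟩
  · have h : f.fiberι (f x) η ∈ Set.range (f.fiberι (f x)) := ⟨η, rfl⟩
    rw [Scheme.Hom.range_fiberι] at h
    exact h
  · refine ⟨Flat.stalkMap f _, ?_⟩
    have key : ∀ y (hy : f (f.fiberι (f x) η) = y) (η' : ↑(f.fiber y)),
        f.fiberι y η' = f.fiberι (f x) η → LocCoh.IsCohenMacaulayLocalRing ((f.fiber y).presheaf.stalk η') := by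
      intro y hy η' hη'
      obtain rfl : f x = y := by
        have h : f.fiberι (f x) η ∈ Set.range (f.fiberι (f x)) := ⟨η, rfl⟩
        rw [Scheme.Hom.range_fiberι] at h
        exact h.symm.trans hy
      rw [(f.fiberι (f x)).isEmbedding.injective hη']
      exact GrothLib.CMMor6.cm_stalk_of_no_generisation η fun w hw =>
        GrothLib.MorQ9.eq_of_specializes_generic hmem hw
    exact key _ rfl _ (f.fiberι_asFiber _)


/-- Let (U, R, s, t, c) be a groupoid scheme over S with s, t flat and locally of finite presentation.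
There is an open U' ⊆ U such that t⁻¹(U') is exactly the set of points of R at which s is
Cohen–Macaulay, s⁻¹(U') is exactly the set of points at which t is Cohen–Macaulay, and both t
restricted to s⁻¹(U') and s restricted to t⁻¹(U') are surjective onto U. (Part (5), that the
restriction of R to U' is a groupoid with Cohen–Macaulay s', t', then follows and is not restated.)
Cohen–Macaulay at a point: flat there with Cohen–Macaulay fibre local ring (Grpd.IsCMAt). (A
groupoid scheme carries U, R, s, t, c, e, i over S with the groupoid axioms on T-points; 'finite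
locally free' is finite, flat and locally of finite presentation; C ⊂ Γ(U) is the ring of functions
a with s♯(a) = t♯(a) and M = Spec C.) -/
theorem result (S : Scheme.{u}) (G : Grpd.GroupoidScheme S) [Flat G.s] [LocallyOfFinitePresentation G.s] [Flat G.t] [LocallyOfFinitePresentation G.t] : ∃ U' : G.U.Opens, (G.t ⁻¹ᵁ U' : Set G.R) = {r | Grpd.IsCMAt G.s r} ∧ (G.s ⁻¹ᵁ U' : Set G.R) = {r | Grpd.IsCMAt G.t r} ∧ ⇑G.t '' (G.s ⁻¹ᵁ U' : Set G.R) = Set.univ ∧ ⇑G.s '' (G.t ⁻¹ᵁ U' : Set G.R) = Set.univ := by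
  haveI : IsIso G.i := ⟨G.i, GrothLib.GrpdQuot.i_i G, GrothLib.GrpdQuot.i_i G⟩
  have hi : ∀ r : G.R, MoreMor.IsCMAt G.t r ↔ MoreMor.IsCMAt G.s (G.i r) := fun r => by
    rw [← GrothLib.CMMor6.isCMAt_openImmersion_comp_iff G.i G.s r, G.i_s]
  have hsat : ∀ r r' : G.R, G.t r = G.t r' → MoreMor.IsCMAt G.s r → MoreMor.IsCMAt G.s r' := by
    intro r r' h hr
    obtain ⟨p, rfl, rfl⟩ := exists_div_points G r r' h
    exact (cm_bc G _ _ G.t (GrothLib.GrpdQuot.isPullback_divHom G).flip p).2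
      ((cm_bc G _ _ G.s (IsPullback.of_hasPullback G.s G.s).flip p).1 hr)
  let W : G.R.Opens := ⟨{r | MoreMor.IsCMAt G.s r}, Groth.Agent.S4961.result G.s⟩
  let U' : G.U.Opens := ⟨G.t '' (W : Set G.R), G.t.isOpenMap _ W.2⟩
  have hmem : ∀ r : G.R, G.t r ∈ U' ↔ MoreMor.IsCMAt G.s r :=
    fun r => ⟨fun ⟨r', hr', e⟩ => hsat r' r e hr', fun h => ⟨r, h, rfl⟩⟩
  have hmem' : ∀ r : G.R, G.s r ∈ U' ↔ MoreMor.IsCMAt G.t r := fun r => by
    rw [hi r, ← hmem, ← Scheme.Hom.comp_apply, G.i_t]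
  refine ⟨U', Set.ext fun r => (hmem r).trans (cmAt_iff _ _).symm,
    Set.ext fun r => (hmem' r).trans (cmAt_iff _ _).symm, Set.eq_univ_of_forall fun u => ?_,
    Set.eq_univ_of_forall fun u => ?_⟩
  · obtain ⟨z, hz, hcm⟩ := exists_cm_point G.t (G.e u)
    exact ⟨z, (hmem' z).2 hcm, hz.trans (by rw [← Scheme.Hom.comp_apply, G.e_t]; rfl)⟩
  · obtain ⟨z, hz, hcm⟩ := exists_cm_point G.s (G.e u)
    exact ⟨z, (hmem z).2 hcm, hz.trans (by rw [← Scheme.Hom.comp_apply, G.e_s]; rfl)⟩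


end Groth.Agent.S1936
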