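import Groth.Statements.S19362
import Mathlib
import Groth.Agent.Fan2.Bounded

set_option autoImplicit false
universe u
open CategoryTheory Opposite Instab
open Instab Instab.Fan

namespace Groth.Agent.S19362

open Groth.Agent.Fan2


/-- Let f : F ⟶ G be a map of formal fans. (1) The image of the induced map P F → P G is the image of
the projective realization of the image sub-fan of f. (2) For a map g : G' ⟶ G, the image of the
projective realization of the base change F ×_G G' ⟶ G' is the preimage, under P G' → P G, of the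
image of P F → P G. -/
theorem result {F G G' : Fan.{u}} (f : F ⟶ G) (g : G' ⟶ G) :
    Set.range (Fan.P.map f) = Set.range (Fan.P.map (Subfunctor.range f).ι) ∧
    Set.range (Fan.P.map (Limits.pullback.snd f g)) = Fan.P.map g ⁻¹' Set.range (Fan.P.map f) := by
  refine ⟨Set.Subset.antisymm ?_ ?_, Set.Subset.antisymm ?_ ?_⟩
  · rintro _ ⟨x, rfl⟩
    obtain ⟨n, ξ, v, rfl⟩ := exists_mk x
    exact ⟨Fan.P.mk ((Subfunctor.toRange f).app (op n) ξ) v, rfl⟩
  · rintro _ ⟨x, rfl⟩
    obtain ⟨n, ⟨σ, ξ, rfl⟩, v, rfl⟩ := exists_mk x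
    exact ⟨Fan.P.mk ξ v, rfl⟩
  · rintro _ ⟨x, rfl⟩
    obtain ⟨n, z, v, rfl⟩ := exists_mk x
    refine ⟨Fan.P.map (Limits.pullback.fst f g) (Fan.P.mk z v), ?_⟩
    simp only [map_mk]
    rw [pb_w f g z]
  · rintro x ⟨a, ha⟩
    obtain ⟨y, -, hy⟩ := exists_pullback_lift f g a x ha
    exact ⟨y, hy⟩

end Groth.Agent.S19362
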