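import Groth.Statements.S19363
import Mathlib
import Groth.Agent.Fan2.Bounded

set_option autoImplicit false
universe u
open CategoryTheory Opposite Instab
open Instab Instab.Fan

namespace Groth.Agent.S19363

open Groth.Agent.Fan2


/-- Let ψ : F ⟶ G be a bounded map of formal fans. Then the induced map P F → P G is a closed map whose
fibres are finite, and its image meets each rational simplex of P G in a finite union of closed
rational sub-simplices: for every n-cone ξ of G there are finitely many cone morphisms φ into [n]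
such that a nonzero nonnegative vector v of ℝ^n gives a point of the image exactly when v is a
positive multiple of φ y for one of these φ and some nonzero nonnegative y. -/
theorem result {F G : Fan.{u}} (ψ : F ⟶ G)
    (hψ : Fan.IsBoundedMap ψ) :
    IsClosedMap (Fan.P.map ψ) ∧ (∀ y : Fan.P G, (Fan.P.map ψ ⁻¹' {y}).Finite) ∧
    ∀ (n : ICone) (ξ : G.obj (op n)), ∃ s : Finset (Σ k : ICone, k ⟶ n),
      {v : Fan.Orth n | Fan.P.mk ξ v ∈ Set.range (Fan.P.map ψ)} =
        ⋃ e ∈ s, {v : Fan.Orth n | ∃ (y : Fan.Orth e.1) (c : ℝ), 0 < c ∧ v.1 = c • e.2.realMap y.1} := by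
  classical
  refine ⟨isClosedMap_of_isBoundedMap hψ, finite_fibre hψ, fun n ξ => ?_⟩
  obtain ⟨s, hs⟩ := exists_cover hψ ξ
  refine ⟨s.image fun e => ⟨e.1, e.2.2⟩, ?_⟩
  ext v
  rw [← Set.image_univ, Set.mem_ofPred_eq, hs.mem_image_iff]
  simp only [Set.preimage_univ, Set.mem_iUnion, Finset.mem_image]
  constructor
  · rintro ⟨e, he, z, -, c, hc, h⟩
    exact ⟨⟨e.1, e.2.2⟩, ⟨e, he, rfl⟩, z, c, hc, h⟩
  · rintro ⟨_, ⟨e, he, rfl⟩, z, c, hc, h⟩
    exact ⟨e, he, z, trivial, c, hc, h⟩

end Groth.Agent.S19363
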