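import Groth.Statements.S19365
import Mathlib
import Groth.Agent.Fan2.Bounded

set_option autoImplicit false
universe u
open CategoryTheory Opposite Instab
open Instab Instab.Fan

namespace Groth.Agent.S19365

open Groth.Agent.Fan2


/-- Let F ⟶ G be a map of formal fans which is bounded and injective on n-cones for every n (a bounded
sub-fan). Then the induced map P F → P G is a closed embedding. (The description of its preimage
under a rational simplex as a finite union of rational sub-simplices is the corresponding assertion
for bounded maps and is not repeated here.) -/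
theorem result {F G : Fan.{u}} (ψ : F ⟶ G)
    (hψ : Fan.IsBoundedMap ψ) (hinj : ∀ n : ICone, Function.Injective (ψ.app (op n))) :
    Topology.IsClosedEmbedding (Fan.P.map ψ) := by
  refine Topology.IsClosedEmbedding.of_continuous_injective_isClosedMap (continuous_map ψ) ?_
    (isClosedMap_of_isBoundedMap hψ)
  intro x y h
  obtain ⟨n, ξ, v, rfl⟩ := exists_mk x
  obtain ⟨n', ξ', v', rfl⟩ := exists_mk y
  obtain ⟨k, φ₁, φ₂, y, c₁, c₂, e, hc₁, hc₂, e₁, e₂⟩ := exists_common h
  rw [← app_map ψ φ₁, ← app_map ψ φ₂] at e
  rw [← mk_glue φ₁ ξ y v c₁ hc₁ e₁, hinj k e, mk_glue φ₂ ξ' y v' c₂ hc₂ e₂]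

end Groth.Agent.S19365
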