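import Groth.Statements.S19367
import Mathlib
import Groth.Agent.Fan2.Bounded

set_option autoImplicit false
universe u
open CategoryTheory Opposite Instab
open Instab Instab.Fan

namespace Groth.Agent.S19367

open Groth.Agent.Fan2


/-- Let ψ : F ⟶ G be a map of formal fans with F quasi-separated. Then injectivity of the induced map P
F → P G is equivalent to its injectivity on the rational points of P F. -/
theorem result {F G : Fan.{u}} (ψ : F ⟶ G)
    (hF : F.IsQuasiSeparated) :
    Function.Injective (Fan.P.map ψ) ↔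
      ∀ x y : Fan.P F, x.IsRational → y.IsRational → Fan.P.map ψ x = Fan.P.map ψ y → x = y := by
  refine ⟨fun h x y _ _ e => h e, fun hinj x x' he => ?_⟩
  obtain ⟨n, ξ, v, rfl⟩ := exists_mk x
  obtain ⟨n', ξ', v', rfl⟩ := exists_mk x'
  obtain ⟨k, φ₁, φ₂, y, c₁, c₂, e, hc₁, hc₂, e₁, e₂⟩ := exists_common he
  rw [← app_map ψ φ₁, ← app_map ψ φ₂] at e
  rw [← mk_glue φ₁ ξ y v c₁ hc₁ e₁, ← mk_glue φ₂ ξ' y v' c₂ hc₂ e₂]
  generalize F.map φ₁.op ξ = a at e
  generalize F.map φ₂.op ξ' = a' at e
  obtain ⟨s, hcompat, hs⟩ := exists_pairs hF a a'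
  have hclosed : IsClosed {w : Fan.Orth k | Fan.P.mk a w = Fan.P.mk a' w} := by
    have hset : {w : Fan.Orth k | Fan.P.mk a w = Fan.P.mk a' w} =
        ⋃ e ∈ s, conicImage e.2.1 {z : Fan.Orth e.1 | (∑ i, rmap e.2.2 z.1 i) • rmap e.2.1 z.1 =
          (∑ i, rmap e.2.1 z.1 i) • rmap e.2.2 z.1} := by
      ext w
      simp only [Set.mem_ofPred_eq, Set.mem_iUnion, conicImage, hs w w, exists_prop]
      refine exists_congr fun p => and_congr_right fun _ => ⟨?_, ?_⟩
      · rintro ⟨z, c, c', hc, hc', h₁, h₂⟩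
        refine ⟨z, ?_, c, hc, h₁⟩
        have h3 : rmap p.2.1 z.1 = (c⁻¹ * c') • rmap p.2.2 z.1 := by
          rw [← smul_smul, ← h₂, h₁, smul_smul, inv_mul_cancel₀ hc.ne', one_smul]
        rw [h3]
        simp only [Pi.smul_apply, smul_eq_mul, ← Finset.mul_sum]
        rw [smul_smul, mul_comm]
      · rintro ⟨z, hz, c, hc, h₁⟩
        have hb := orth_sum_pos (push p.2.2 z)
        have ha := orth_sum_pos (push p.2.1 z)
        simp only [push_val] at hb ha
        refine ⟨z, c, c * ((∑ i, rmap p.2.1 z.1 i) / ∑ i, rmap p.2.2 z.1 i), hc,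
          mul_pos hc (div_pos ha hb), h₁, ?_⟩
        rw [h₁, ← smul_smul]
        congr 1
        rw [div_eq_inv_mul, ← smul_smul, ← hz, smul_smul, inv_mul_cancel₀ hb.ne', one_smul]
    rw [hset]
    refine isClosed_biUnion_finset fun p _ => isClosed_conicImage _ ?_ ?_
    · have h1 : Continuous fun z : Fan.Orth p.1 => rmap p.2.1 z.1 :=
        (LinearMap.continuous_of_finiteDimensional _).comp continuous_subtype_val
      have h2 : Continuous fun z : Fan.Orth p.1 => rmap p.2.2 z.1 :=
        (LinearMap.continuous_of_finiteDimensional _).comp continuous_subtype_val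
      exact isClosed_eq
        ((continuous_finsetSum _ fun i _ => (continuous_apply i).comp h2).smul h1)
        ((continuous_finsetSum _ fun i _ => (continuous_apply i).comp h1).smul h2)
    · intro z w hz c _ hw
      simp only [Set.mem_ofPred_eq] at hz ⊢
      rw [hw]
      simp only [map_smul, Pi.smul_apply, smul_eq_mul, ← Finset.mul_sum, smul_smul]
      calc _ = (c * c) • ((∑ i, rmap p.2.2 z.1 i) • rmap p.2.1 z.1) := by
            rw [smul_smul]; congr 1; ring
        _ = (c * c) • ((∑ i, rmap p.2.1 z.1 i) • rmap p.2.2 z.1) := by rw [hz]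
        _ = _ := by rw [smul_smul]; congr 1; ring
  by_contra hy
  obtain ⟨w, hw, x, c, hwc⟩ := exists_int_mem_open hclosed.isOpen_compl ⟨y, hy⟩
  refine hw (hinj _ _ (isRational_mk a w x c hwc) (isRational_mk a' w x c hwc) ?_)
  simp only [map_mk, e]

end Groth.Agent.S19367
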