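import Groth.Statements.S19368
import Mathlib
import Groth.Agent.Fan2.Bounded

set_option autoImplicit false
universe u
open CategoryTheory Opposite Instab
open Instab Instab.Fan

namespace Groth.Agent.S19368

open Groth.Agent.Fan2


/-- Let F be a formal fan; a subset of P F is realizable when it is the image of the projective
realization of some sub-fan of F. The intersection of two realizable subsets is realizable, and the
union of an arbitrary family of realizable subsets is realizable. -/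
theorem result (F : Fan.{u}) :
    (∀ U V : Set (Fan.P F), Fan.IsRealizable U → Fan.IsRealizable V → Fan.IsRealizable (U ∩ V)) ∧
    ∀ (ι : Type u) (U : ι → Set (Fan.P F)), (∀ i, Fan.IsRealizable (U i)) →
      Fan.IsRealizable (Set.iUnion U) := by
  refine ⟨?_, fun ι U hU => ?_⟩
  · rintro _ _ ⟨S, rfl⟩ ⟨T, rfl⟩
    refine ⟨S ⊓ T, Set.Subset.antisymm ?_ ?_⟩
    · rintro x ⟨⟨a, rfl⟩, b, hb⟩
      obtain ⟨n, ⟨s, hs⟩, v, rfl⟩ := exists_mk a
      obtain ⟨n', ⟨t, ht⟩, w, rfl⟩ := exists_mk b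
      obtain ⟨k, φ₁, φ₂, y, c₁, c₂, e, hc₁, hc₂, e₁, e₂⟩ :=
        exists_common (F := F) (σ₁ := t) (σ₂ := s) hb
      refine ⟨Fan.P.mk (F := (S ⊓ T).toFunctor) ⟨F.map φ₂.op s, S.map φ₂.op hs, ?_⟩ y, ?_⟩
      · rw [← e]
        exact T.map φ₁.op ht
      · exact mk_glue φ₂ s y v c₂ hc₂ e₂
    · rintro _ ⟨a, rfl⟩
      obtain ⟨n, ⟨s, hs⟩, v, rfl⟩ := exists_mk a
      exact ⟨⟨Fan.P.mk (F := S.toFunctor) ⟨s, hs.1⟩ v, rfl⟩,
        ⟨Fan.P.mk (F := T.toFunctor) ⟨s, hs.2⟩ v, rfl⟩⟩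
  · choose S hS using hU
    refine ⟨⨆ i, S i, Set.Subset.antisymm ?_ ?_⟩
    · intro x hx
      obtain ⟨i, hi⟩ := Set.mem_iUnion.1 hx
      rw [hS i] at hi
      obtain ⟨a, rfl⟩ := hi
      obtain ⟨n, ⟨s, hs⟩, v, rfl⟩ := exists_mk a
      exact ⟨Fan.P.mk (F := (⨆ i, S i).toFunctor)
        ⟨s, by rw [Subfunctor.iSup_obj]; exact Set.mem_iUnion.2 ⟨i, hs⟩⟩ v, rfl⟩
    · rintro _ ⟨a, rfl⟩
      obtain ⟨n, ⟨s, hs⟩, v, rfl⟩ := exists_mk a
      rw [Subfunctor.iSup_obj] at hs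
      obtain ⟨i, hi⟩ := Set.mem_iUnion.1 hs
      refine Set.mem_iUnion.2 ⟨i, ?_⟩
      rw [hS i]
      exact ⟨Fan.P.mk (F := (S i).toFunctor) ⟨s, hi⟩ v, rfl⟩

end Groth.Agent.S19368
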