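import Groth.Statements.S19369
import Mathlib
import Groth.Agent.Fan2.Extrema

set_option autoImplicit false
universe u
open CategoryTheory Opposite Instab
open Instab Instab.Fan

namespace Groth.Agent.S19369

open Groth.Agent.Fan2


/-- Let F be a quasi-separated formal fan and let (x i) be a sequence in P F converging to a point x.
Then there are an n-cone σ of F and a subsequence of (x i) whose terms lift to nonzero nonnegative
vectors of ℝ^n, mapping to them under the rational simplex of σ, such that the lifts converge to a
vector that lifts x. -/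
theorem result (F : Fan.{u}) (hF : F.IsQuasiSeparated)
    (x : ℕ → Fan.P F) (x₀ : Fan.P F) (hx : Filter.Tendsto x Filter.atTop (nhds x₀)) :
    ∃ (n : ICone) (σ : F.obj (op n)) (r : ℕ → ℕ) (v : ℕ → Fan.Orth n) (v₀ : Fan.Orth n),
      StrictMono r ∧ (∀ j, Fan.P.mk σ (v j) = x (r j)) ∧ Fan.P.mk σ v₀ = x₀ ∧
        Filter.Tendsto v Filter.atTop (nhds v₀) := by
  exact exists_subseq_lift hF x x₀ hx

end Groth.Agent.S19369
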