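import Groth.Statements.S19370
import Mathlib
import Groth.Agent.Fan2.Extrema

set_option autoImplicit false
universe u v
open CategoryTheory Opposite Instab
open Instab Instab.Fan

namespace Groth.Agent.S19370

open Groth.Agent.Fan2


/-- Let F be a formal fan, U ⊆ P F a convex subset, Γ a totally ordered set and Φ : U → Γ a
quasi-concave function that is lower semicontinuous in the sense that every sublevel set {Φ ≤ c} is
closed in U. Then every rational point of U at which Φ has a local maximum is a global maximum of Φ,
and if Φ is strictly quasi-concave there is at most one such rational point. -/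
theorem result (F : Fan.{u}) (U : Set (Fan.P F))
    (hU : Fan.IsConvex U) {Γ : Type v} [LinearOrder Γ] (Φ : U → Γ) (hΦ : Fan.IsQuasiConcaveOn U Φ)
    (hlsc : ∀ c : Γ, IsClosed {x : U | Φ x ≤ c}) :
    (∀ x : U, (x : Fan.P F).IsRational → IsLocalMax Φ x → ∀ y : U, Φ y ≤ Φ x) ∧
    (Fan.IsStrictQuasiConcaveOn U Φ → ∀ x y : U, (x : Fan.P F).IsRational → (y : Fan.P F).IsRational →
      IsLocalMax Φ x → IsLocalMax Φ y → x = y) := by
  exact ⟨fun x hx hm y => rational_localMax_le hU hΦ hlsc hx hm y,
    fun hs x y hx hy hmx hmy => rational_localMax_unique hU hΦ hlsc hs hx hy hmx hmy⟩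

end Groth.Agent.S19370
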