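import Groth.Statements.S19371
import Mathlib
import Groth.Agent.Fan2.Extrema

set_option autoImplicit false
universe u v
open CategoryTheory Opposite Instab
open Instab Instab.Fan

namespace Groth.Agent.S19371

open Groth.Agent.Fan2


/-- Let F be a quasi-separated formal fan whose projective realization P F is a Hausdorff space, U ⊆ P F
a compact convex subset, Γ a totally ordered set with the order topology, and Φ : U → Γ continuous
and strictly quasi-concave. Then any two local maxima of Φ coincide, so the global maximum of Φ
(which exists when U is nonempty, by the extreme value property of upper semicontinuous functions on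
compact sets) is its unique local maximum. (The published lemma assumes only that F is
quasi-separated and derives the Hausdorff property of P F from that; this derivation does not hold
in general, and the Hausdorff property, which the published proof uses, is assumed here.) -/
theorem result (F : Fan.{u})
    (hF : F.IsQuasiSeparated) (hT2 : T2Space (Fan.P F)) (U : Set (Fan.P F)) (hUc : IsCompact U)
    (hU : Fan.IsConvex U) {Γ : Type v} [LinearOrder Γ] [TopologicalSpace Γ] [OrderTopology Γ]
    (Φ : U → Γ) (hΦc : Continuous Φ) (hΦ : Fan.IsStrictQuasiConcaveOn U Φ) (x y : U)
    (hx : IsLocalMax Φ x) (hy : IsLocalMax Φ y) : x = y := by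
  haveI := hT2
  rcases le_total (Φ x) (Φ y) with h | h
  · exact localMax_unique hUc hU hΦc hΦ hx h
  · exact (localMax_unique hUc hU hΦc hΦ hy h).symm

end Groth.Agent.S19371
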