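import Groth.Statements.S19374
import Mathlib
import Groth.Agent.Fan2.Bounded

set_option autoImplicit false
universe u
open CategoryTheory Opposite Instab
open Instab Instab.Fan

namespace Groth.Agent.S19374

open Groth.Agent.Fan2


/-- Let F be a formal fan and U ⊆ P F. Then U is locally convex in the simplex-wise sense — for every
rational simplex, a ray lying strictly between two rays that map into U also maps into U — if and
only if, for every n-cone ξ of F, the set of nonzero nonnegative vectors v of ℝ^n whose point of the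
rational simplex of ξ lies in U is a convex subset of ℝ^n (convexity of the preimage of U in each
punctured cone of the affine realization). -/
theorem result (F : Fan.{u}) (U : Set (Fan.P F)) :
    Fan.IsLocallyConvex U ↔
      ∀ (n : ICone) (ξ : F.obj (op n)),
        Convex ℝ {v : Fin n.dim → ℝ | ∃ h : (∀ i, 0 ≤ v i) ∧ v ≠ 0, Fan.P.mk ξ (⟨v, h⟩ : Fan.Orth n) ∈ U} := by
  constructor
  · intro hU n ξ v hv w hw a b ha hb hab
    rcases ha.lt_or_eq with ha' | ha'
    swap
    · subst ha'; simp only [zero_add] at hab; subst hab; simpa using hw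
    rcases hb.lt_or_eq with hb' | hb'
    swap
    · subst hb'; simp only [add_zero] at hab; subst hab; simpa using hv
    obtain ⟨hv1, hv2⟩ := hv
    obtain ⟨hw1, hw2⟩ := hw
    have h0 : ∀ i, 0 ≤ (a • v + b • w) i := fun i =>
      add_nonneg (mul_nonneg ha (hv1.1 i)) (mul_nonneg hb (hw1.1 i))
    have hne : a • v + b • w ≠ 0 := by
      intro h
      refine hv1.2 (funext fun i => ?_)
      have := congrFun h i
      simp only [Pi.add_apply, Pi.smul_apply, smul_eq_mul, Pi.zero_apply] at this ⊢
      nlinarith [mul_nonneg ha (hv1.1 i), mul_nonneg hb (hw1.1 i), hv1.1 i]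
    exact ⟨⟨h0, hne⟩, hU n ξ _ ⟨_, h0, hne⟩ _ hv2 hw2 ⟨a, b, ha', hb', rfl⟩⟩
  · intro hU n ξ v₀ v₁ v₂ h₀ h₂ hab
    obtain ⟨a, b, ha, hb, h⟩ := hab
    obtain ⟨hm, hmem⟩ := hU n ξ ⟨v₀.2, h₀⟩ ⟨v₂.2, h₂⟩ (div_pos ha (add_pos ha hb)).le
      (div_pos hb (add_pos ha hb)).le (by field_simp)
    rwa [mk_smul ξ ⟨_, hm⟩ v₁ (a + b) ?_] at hmem
    change v₁.1 = (a + b) • ((a / (a + b)) • v₀.1 + (b / (a + b)) • v₂.1)
    rw [h, smul_add, smul_smul, smul_smul, mul_div_cancel₀ _ (add_pos ha hb).ne',
      mul_div_cancel₀ _ (add_pos ha hb).ne']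

end Groth.Agent.S19374
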