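import Groth.Statements.S19375
import Groth.Agent.Lib.NormalHom.Connected

set_option autoImplicit false
universe u
open EGA4 TensorProduct

namespace Groth.Agent.S19375

/-- Let A be a Noetherian ring, J a proper ideal of A, Â the J-adic completion of A and A_T the
localization of A at the multiplicative set T = 1 + J (the elements congruent to 1 modulo J). Assume
that the canonical map A → Â is a normal homomorphism (flat, with geometrically normal fibres), as
happens when A is excellent. Then Â is an integrally closed domain if and only if A_T is an
integrally closed domain and the spectrum of A/J is connected. (The published statement asserts the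
equivalence of the first two conditions alone; for A = ℤ and J = 6ℤ the localization A_T is an
integrally closed domain while Â ≅ ℤ_2 × ℤ_3 is not a domain, and the published proof tacitly uses
that Spec Â, whose connected components correspond to those of Spec(A/J), is connected. The case of
the henselization of the pair and of the weak completion is not stated here.) -/
theorem result
    (A : Type u) [CommRing A] [IsNoetherianRing A] (J : Ideal A) (hJ : J ≠ ⊤)
    (hf : EGA4.IsNormalHom A (AdicCompletion J A))
    (T : Submonoid A) (hT : T = MonoidHom.mker (Ideal.Quotient.mk J)) :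
    (IsDomain (AdicCompletion J A) ∧ IsIntegrallyClosed (AdicCompletion J A)) ↔
      ((IsDomain (Localization T) ∧ IsIntegrallyClosed (Localization T)) ∧
        ConnectedSpace (PrimeSpectrum (A ⧸ J))) := by
  obtain ⟨φ, hφ, hff⟩ := GrothLib.NormalHom.exists_algebra_onePlus T hT
  letI := φ.toAlgebra
  have := hff
  have : IsScalarTower A (Localization T) (AdicCompletion J A) := IsScalarTower.of_algebraMap_eq' hφ.symm
  have hJfg : J.FG := IsNoetherian.noetherian J
  have : IsNoetherianRing (AdicCompletion J A) :=
    GrothLib.AdicExtra.isNoetherianRing_adicCompletion_of_fg J hJfg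
  have : IsNoetherianRing (Localization T) := IsLocalization.isNoetherianRing T _ inferInstance
  have : Nontrivial (A ⧸ J) := Ideal.Quotient.nontrivial_iff.2 hJ
  have : Nontrivial (AdicCompletion J A) := (AdicCompletion.evalOneₐ J).toRingHom.domain_nontrivial
  refine ⟨fun ⟨h1, h2⟩ => ?_, fun ⟨⟨h1, h2⟩, hconn⟩ => ?_⟩
  · have := h1
    have := h2
    have hn : IsNormalRing (Localization T) := GrothLib.NormalHom.isNormalRing_descent (Localization T)
      (AdicCompletion J A) (GrothLib.NormalHom.isNormalRing_of_isDomain _)
    have : IsDomain (Localization T) :=
      (FaithfulSMul.algebraMap_injective (Localization T) (AdicCompletion J A)).isDomain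
    refine ⟨⟨this, GrothLib.NormalHom.isIntegrallyClosed_of_isNormalRing _ hn⟩,
      GrothLib.LocAcyc.connectedSpace_of_idempotents fun e he => ?_⟩
    obtain ⟨x, hx⟩ := AdicCompletion.evalOneₐ_surjective J e
    let K := J.map (algebraMap A (AdicCompletion J A))
    have : IsAdicComplete K (AdicCompletion J A) := AdicCompletion.isAdicComplete_self J hJfg
    have hK : RingHom.ker (AdicCompletion.evalOneₐ J) = K := AdicCompletion.ker_evalOneₐ_eq_map J hJfg
    obtain ⟨x', hx', hxx'⟩ := GrothLib.AdicExtra.surjOn_idempotents K
      (show IsIdempotentElem (Ideal.Quotient.mk K x) by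
        rw [IsIdempotentElem, ← map_mul, Ideal.Quotient.eq, ← hK, RingHom.mem_ker, map_sub, map_mul, hx, he,
          sub_self])
    have hxe : AdicCompletion.evalOneₐ J x' = e := by
      rw [Ideal.Quotient.eq, ← hK, RingHom.mem_ker, map_sub, sub_eq_zero] at hxx'
      rw [hxx', hx]
    rcases mul_left_eq_self₀.1 (hx' : x' * x' = x') with h | h
    · exact Or.inr (by rw [← hxe, h, map_one])
    · exact Or.inl (by rw [← hxe, h, map_zero])
  · have := h1
    have := h2
    have := hconn
    have hn : IsNormalRing (AdicCompletion J A) :=
      GrothLib.NormalHom.isNormalRing_of_flat_of_fibres (GrothLib.NormalHom.isNormalRing_of_isDomain (Localization T))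
        fun P _ => GrothLib.NormalHom.isNormalRing_field_tensor_localization T hf P.ResidueField
    have : IsDomain (AdicCompletion J A) := by
      refine GrothLib.NormalHom.isDomain_of_local_isDomain _ (fun P _ => (hn P).1) fun e he => ?_
      rcases GrothLib.LocAcyc.eq_zero_or_one_of_connectedSpace (AdicCompletion.evalOneₐ J e)
        (by rw [← map_mul, he]) with h | h
      · left
        have hu : IsUnit (1 - e) := GrothLib.AdicExtra.isUnit_of_isUnit_evalOne _
          (by rw [map_sub, map_one, h, sub_zero]; exact isUnit_one)
        exact hu.mul_left_eq_zero.1 (show e * (1 - e) = 0 by linear_combination -he)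
      · right
        have hu : IsUnit e := GrothLib.AdicExtra.isUnit_of_isUnit_evalOne _ (by rw [h]; exact isUnit_one)
        exact hu.mul_left_cancel (he.trans (mul_one e).symm)
    exact ⟨this, GrothLib.NormalHom.isIntegrallyClosed_of_isNormalRing _ hn⟩

end Groth.Agent.S19375
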