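import Groth.Statements.S19376
import Groth.Agent.Lib.AdicExtra.Complete
import Mathlib
-- import your own Groth.Agent.* helpers here

set_option autoImplicit false
universe u
open EGA4

namespace Groth.Agent.S19376

/-- A map to `C ⧸ IC` lifts to the completions. -/
theorem exists_lift {V A C : Type u} [CommRing V] [CommRing A] [Algebra V A] [Algebra.FormallySmooth V A]
    [CommRing C] [Algebra V C] (I : Ideal V)
    (φ₀ : (A ⧸ I.map (algebraMap V A)) →ₐ[V] (C ⧸ I.map (algebraMap V C))) :
    ∃ φ : AdicCompletion (I.map (algebraMap V A)) A →ₐ[V] AdicCompletion (I.map (algebraMap V C)) C,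
      ∀ x, AdicCompletion.evalOneₐ (I.map (algebraMap V C)) (φ x) =
        φ₀ (AdicCompletion.evalOneₐ (I.map (algebraMap V A)) x) := by
  obtain ⟨g, hg⟩ := Algebra.FormallySmooth.exists_adicCompletionEvalOneₐ_comp_eq
    (φ₀.comp (Ideal.Quotient.mkₐ V (I.map (algebraMap V A))))
  have hJ : ∀ (n : ℕ) (a : A), a ∈ I.map (algebraMap V A) ^ n →
      AdicCompletion.evalₐ (I.map (algebraMap V C)) n (g a) = 0 := fun n a ha => by
    have h1 : (I.map (algebraMap V A) ^ n) ≤ RingHom.ker
        (((AdicCompletion.evalₐ (I.map (algebraMap V C)) n).restrictScalars V).comp g).toRingHom := by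
      rw [← Ideal.map_pow, Ideal.map_le_iff_le_comap]
      intro v hv
      show ((AdicCompletion.evalₐ (I.map (algebraMap V C)) n).restrictScalars V).comp g (algebraMap V A v) = 0
      rw [AlgHom.commutes, IsScalarTower.algebraMap_apply V C (C ⧸ _), Ideal.Quotient.algebraMap_eq,
        Ideal.Quotient.eq_zero_iff_mem, ← Ideal.map_pow]
      exact Ideal.mem_map_of_mem _ hv
    exact h1 ha
  obtain ⟨f, hf⟩ : ∃ f : (n : ℕ) → AdicCompletion (I.map (algebraMap V A)) A →ₐ[V] C ⧸ I.map (algebraMap V C) ^ n,
      ∀ n a (x : AdicCompletion (I.map (algebraMap V A)) A),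
        AdicCompletion.evalₐ (I.map (algebraMap V A)) n x = Ideal.Quotient.mk _ a →
        f n x = AdicCompletion.evalₐ (I.map (algebraMap V C)) n (g a) :=
    ⟨fun n => (Ideal.Quotient.liftₐ _ (((AdicCompletion.evalₐ (I.map (algebraMap V C)) n).restrictScalars V).comp g)
        (hJ n)).comp ((AdicCompletion.evalₐ (I.map (algebraMap V A)) n).restrictScalars V), fun n a x hx => by
      simp only [AlgHom.comp_apply, AlgHom.restrictScalars_apply]
      rw [hx]
      rfl⟩
  have hcompat : ∀ {m n : ℕ} (hle : m ≤ n),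
      (Ideal.Quotient.factorₐ V (Ideal.pow_le_pow_right hle)).comp (f n) = f m := by
    intro m n hle
    refine AlgHom.ext fun x => ?_
    obtain ⟨c, rfl⟩ := AdicCompletion.mk_surjective (I.map (algebraMap V A)) A x
    rw [AlgHom.comp_apply, hf n _ _ (AdicCompletion.evalₐ_mk _ n c), hf m (c.val n) _ ?_]
    · obtain ⟨d, hd⟩ := AdicCompletion.mk_surjective (I.map (algebraMap V C)) C (g (c.val n))
      rw [← hd, AdicCompletion.evalₐ_mk, AdicCompletion.evalₐ_mk]
      have h1 := AdicCompletion.AdicCauchySequence.mk_eq_mk hle d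
      rw [Submodule.Quotient.eq, smul_eq_mul, Ideal.mul_top] at h1
      exact Ideal.Quotient.eq.2 h1
    · rw [AdicCompletion.evalₐ_mk]
      have h1 := AdicCompletion.AdicCauchySequence.mk_eq_mk hle c
      rw [Submodule.Quotient.eq, smul_eq_mul, Ideal.mul_top] at h1
      exact (Ideal.Quotient.eq.2 h1).symm
  refine ⟨AdicCompletion.liftAlgHom _ f hcompat, fun x => ?_⟩
  obtain ⟨a, ha⟩ := Ideal.Quotient.mk_surjective (AdicCompletion.evalₐ (I.map (algebraMap V A)) 1 x)
  rw [AdicCompletion.evalOneₐ_liftAlgHom, hf 1 a x ha.symm, ← AdicCompletion.factorₐ_evalₐ_one _ x, ← ha]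
  exact (AdicCompletion.factorₐ_evalₐ_one _ (g a)).trans (AlgHom.congr_fun hg a)

/-- A lift of a finite map between completions is finite. -/
theorem finite_lift {V A C : Type u} [CommRing V] [CommRing A] [Algebra V A] [CommRing C] [Algebra V C]
    (I : Ideal V) (hI : I.FG) (φ₀ : (A ⧸ I.map (algebraMap V A)) →ₐ[V] (C ⧸ I.map (algebraMap V C)))
    (hφ₀ : φ₀.toRingHom.Finite)
    (φ : AdicCompletion (I.map (algebraMap V A)) A →ₐ[V] AdicCompletion (I.map (algebraMap V C)) C)
    (hφ : ∀ x, AdicCompletion.evalOneₐ (I.map (algebraMap V C)) (φ x) =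
        φ₀ (AdicCompletion.evalOneₐ (I.map (algebraMap V A)) x)) : φ.toRingHom.Finite := by
  let _ := φ.toRingHom.toAlgebra
  obtain ⟨J, hJ⟩ : ∃ J : Ideal (AdicCompletion (I.map (algebraMap V A)) A),
      J = (I.map (algebraMap V A)).map (algebraMap A _) := ⟨_, rfl⟩
  obtain ⟨K, hK⟩ : ∃ K : Ideal (AdicCompletion (I.map (algebraMap V C)) C),
      K = (I.map (algebraMap V C)).map (algebraMap C _) := ⟨_, rfl⟩
  have hJK : J.map φ.toRingHom = K := by
    rw [hJ, hK, Ideal.map_map, Ideal.map_map, Ideal.map_map]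
    congr 1
    refine RingHom.ext fun v => ?_
    show φ (algebraMap A _ (algebraMap V A v)) = algebraMap C _ (algebraMap V C v)
    rw [← IsScalarTower.algebraMap_apply, AlgHom.commutes, ← IsScalarTower.algebraMap_apply]
  have hA : IsAdicComplete J (AdicCompletion (I.map (algebraMap V A)) A) :=
    hJ ▸ (IsAdicComplete.map_algebraMap_iff _ _).2 (AdicCompletion.isAdicComplete (hI.map _))
  have hC : IsAdicComplete K (AdicCompletion (I.map (algebraMap V C)) C) :=
    hK ▸ (IsAdicComplete.map_algebraMap_iff _ _).2 (AdicCompletion.isAdicComplete (hI.map _))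
  have : IsHausdorff J (AdicCompletion (I.map (algebraMap V C)) C) :=
    IsHausdorff.map_algebraMap_iff.1 (show IsHausdorff (J.map φ.toRingHom) _ by rw [hJK]; exact hC.toIsHausdorff)
  refine GrothLib.AdicExtra.finite_of_quotient_finite (I := J) ?_
  obtain ⟨s, hs⟩ := hφ₀
  choose d hd using AdicCompletion.evalOneₐ_surjective (I.map (algebraMap V C))
  classical
  refine ⟨⟨s.image fun c => Submodule.mkQ _ (d c), eq_top_iff.2 fun y _ => ?_⟩⟩
  obtain ⟨y, rfl⟩ := Submodule.mkQ_surjective _ y
  let _ := φ₀.toRingHom.toAlgebra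
  obtain ⟨a, ha⟩ := (Submodule.mem_span_finset').1 (show AdicCompletion.evalOneₐ (I.map (algebraMap V C)) y ∈
    Submodule.span (A ⧸ I.map (algebraMap V A)) (s : Set (C ⧸ I.map (algebraMap V C))) by rw [hs]; trivial)
  choose b hb using fun c : s => AdicCompletion.evalOneₐ_surjective (I.map (algebraMap V A)) (a c)
  have hmem : y - ∑ c : s, b c • d c ∈ (J • ⊤ : Submodule (AdicCompletion (I.map (algebraMap V A)) A)
      (AdicCompletion (I.map (algebraMap V C)) C)) := by
    rw [Ideal.smul_top_eq_map, Submodule.restrictScalars_mem]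
    show y - ∑ c : s, b c • d c ∈ J.map φ.toRingHom
    rw [hJK, hK, ← AdicCompletion.ker_evalOneₐ_eq_map _ (hI.map _), RingHom.mem_ker]
    show AdicCompletion.evalOneₐ _ (y - ∑ c : s, b c • d c) = 0
    rw [map_sub, map_sum, sub_eq_zero, ← ha]
    refine Finset.sum_congr rfl fun c _ => ?_
    show a c • (c : C ⧸ I.map (algebraMap V C)) = AdicCompletion.evalOneₐ _ (φ (b c) * d c)
    rw [map_mul, hφ, hb, hd, Algebra.smul_def]
    rfl
  have : Submodule.mkQ (J • ⊤ : Submodule (AdicCompletion (I.map (algebraMap V A)) A)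
      (AdicCompletion (I.map (algebraMap V C)) C)) y = ∑ c : s, b c • Submodule.mkQ _ (d c) := by
    simp only [← map_smul, ← map_sum]
    exact (Submodule.Quotient.eq _).2 hmem
  rw [this]
  exact sum_mem fun c _ => Submodule.smul_mem _ _ (Submodule.subset_span (by
    rw [Finset.coe_image]; exact ⟨c.1, c.2, rfl⟩))

/-- Let V be an excellent normal ring with no additive torsion, I an ideal of V such that (V, I) is a
henselian pair, A and C smooth V-algebras, and φ₀ a V-algebra homomorphism from A/IA to C/IC which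
is finite. Then φ₀ lifts to a finite V-algebra homomorphism φ from the IA-adic completion of A to
the IC-adic completion of C: composing φ with the projection onto C/IC equals the projection onto
A/IA followed by φ₀. (The published statement also treats finite flat, finite faithfully flat and
finite étale maps, whose proofs are referred elsewhere; only the finite case is stated.) -/
theorem result
    (V : Type u) [CommRing V] [IsAddTorsionFree V]
    (hexc : EGA4.IsExcellent V) (hV : EGA4.IsNormalRing V)
    (I : Ideal V) [HenselianRing V I]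
    (A C : Type u) [CommRing A] [Algebra V A] [Algebra.Smooth V A]
    [CommRing C] [Algebra V C] [Algebra.Smooth V C]
    (φ₀ : (A ⧸ I.map (algebraMap V A)) →ₐ[V] (C ⧸ I.map (algebraMap V C)))
    (hφ₀ : φ₀.toRingHom.Finite) :
    ∃ φ : AdicCompletion (I.map (algebraMap V A)) A →ₐ[V]
        AdicCompletion (I.map (algebraMap V C)) C,
      φ.toRingHom.Finite ∧
      (AdicCompletion.evalOneₐ (I.map (algebraMap V C))).toRingHom.comp φ.toRingHom =
        φ₀.toRingHom.comp (AdicCompletion.evalOneₐ (I.map (algebraMap V A))).toRingHom := by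
  obtain ⟨φ, hφ⟩ := exists_lift I φ₀
  have : IsNoetherianRing V := hexc.1
  exact ⟨φ, finite_lift I (IsNoetherian.noetherian I) φ₀ hφ₀ φ hφ, RingHom.ext hφ⟩

end Groth.Agent.S19376
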