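import Groth.Statements.S19864
import Groth.Agent.Lib.AdicFSFlat.Criterion
import Groth.Agent.Lib.GeomReg.Local
import Groth.Agent.S9259
-- import your own Groth.Agent.* helpers here

set_option autoImplicit false
universe u
open CAlg

open IsLocalRing TensorProduct

namespace Groth.Agent.S19864

/-- Let A and B be Noetherian rings and B an A-algebra. Then A → B is a regular homomorphism (flat with
Noetherian, geometrically regular fibres) if and only if for every prime q of B lying over the prime
p of A the induced local homomorphism A_p → B_q is formally smooth for the adic topologies of the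
maximal ideals (equivalently, for the adic topology of the maximal ideal of B_q). -/
theorem result (A B : Type u)
    [CommRing A] [CommRing B] [Algebra A B] [IsNoetherianRing A] [IsNoetherianRing B] :
    CAlg.IsRegularHom A B ↔
      ∀ (q : Ideal B) [q.IsPrime],
        letI := (Localization.localRingHom (Ideal.comap (algebraMap A B) q) q (algebraMap A B) rfl).toAlgebra
        CAlgX.IsAdicFormallySmooth (Localization.AtPrime (Ideal.comap (algebraMap A B) q))
          (Localization.AtPrime q) (IsLocalRing.maximalIdeal (Localization.AtPrime q)) := by
  constructor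
  · intro h q _
    have h9 := (Groth.Agent.S9259.result A B).1.1 h q
    letI := (Localization.localRingHom (Ideal.comap (algebraMap A B) q) q (algebraMap A B) rfl).toAlgebra
    haveI : IsLocalHom (algebraMap (Localization.AtPrime (Ideal.comap (algebraMap A B) q)) (Localization.AtPrime q)) :=
      Localization.isLocalHom_localRingHom _ _ _ rfl
    exact GrothLib.AdicFSFlat.isAdicFormallySmooth_iff.1 ⟨h9.1, (h9.2 (maximalIdeal _)).2⟩
  intro h
  have hloc : ∀ (q : Ideal B) [q.IsPrime],
      letI := (Localization.localRingHom (Ideal.comap (algebraMap A B) q) q (algebraMap A B) rfl).toAlgebra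
      Module.Flat (Localization.AtPrime (Ideal.comap (algebraMap A B) q)) (Localization.AtPrime q) ∧
        CAlg.IsGeometricallyRegular (maximalIdeal (Localization.AtPrime (Ideal.comap (algebraMap A B) q))).ResidueField
          ((maximalIdeal (Localization.AtPrime (Ideal.comap (algebraMap A B) q))).Fiber (Localization.AtPrime q)) := by
    intro q _
    letI := (Localization.localRingHom (Ideal.comap (algebraMap A B) q) q (algebraMap A B) rfl).toAlgebra
    haveI : IsLocalHom (algebraMap (Localization.AtPrime (Ideal.comap (algebraMap A B) q)) (Localization.AtPrime q)) :=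
      Localization.isLocalHom_localRingHom _ _ _ rfl
    exact GrothLib.AdicFSFlat.isAdicFormallySmooth_iff.2 (h q)
  have key : ∀ (q : Ideal B) [q.IsPrime] (p : Ideal A) [p.IsPrime], q.comap (algebraMap A B) = p →
      ∀ (K : Type u) [Field K] [Algebra p.ResidueField K] [Algebra A K] [IsScalarTower A p.ResidueField K],
      Module.Finite p.ResidueField K → IsRegularRing (K ⊗[A] Localization.AtPrime q) := by
    intro q _ p _ hqp K _ _ _ _ hK
    subst hqp
    set p := Ideal.comap (algebraMap A B) q with hp
    let Ap := Localization.AtPrime p
    letI : Algebra Ap (Localization.AtPrime q) := (Localization.localRingHom p q (algebraMap A B) rfl).toAlgebra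
    haveI : IsScalarTower A Ap (Localization.AtPrime q) :=
      IsScalarTower.of_algebraMap_eq fun x => (Localization.localRingHom_to_map _ _ _ rfl x).symm
    let e : p.ResidueField ≃+* (maximalIdeal Ap).ResidueField :=
      RingEquiv.ofBijective (algebraMap (Ap ⧸ maximalIdeal Ap) (maximalIdeal Ap).ResidueField)
        (Ideal.bijective_algebraMap_quotient_residueField (maximalIdeal Ap))
    letI : Algebra (maximalIdeal Ap).ResidueField K := ((algebraMap p.ResidueField K).comp e.symm.toRingHom).toAlgebra
    letI : Algebra Ap K := ((algebraMap p.ResidueField K).comp (algebraMap Ap p.ResidueField)).toAlgebra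
    haveI : IsScalarTower A Ap K := IsScalarTower.of_algebraMap_eq fun a => by
      rw [IsScalarTower.algebraMap_apply A p.ResidueField K, IsScalarTower.algebraMap_apply A Ap p.ResidueField]
      rfl
    haveI : IsScalarTower Ap (maximalIdeal Ap).ResidueField K := IsScalarTower.of_algebraMap_eq fun x => by
      show algebraMap p.ResidueField K (algebraMap Ap p.ResidueField x) =
        algebraMap p.ResidueField K (e.symm (algebraMap Ap (maximalIdeal Ap).ResidueField x))
      congr 1
      rw [eq_comm, RingEquiv.symm_apply_eq]
      exact IsScalarTower.algebraMap_apply Ap (Ap ⧸ maximalIdeal Ap) (maximalIdeal Ap).ResidueField x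
    haveI : Module.Finite (maximalIdeal Ap).ResidueField K :=
      RingHom.Finite.comp (g := algebraMap p.ResidueField K) (f := e.symm.toRingHom)
        (RingHom.finite_algebraMap.2 hK) (RingHom.Finite.of_surjective _ e.symm.surjective)
    haveI := (hloc q).2 K inferInstance
    haveI : IsRegularRing (K ⊗[Ap] Localization.AtPrime q) := IsRegularRing.of_ringEquiv
      (R := K ⊗[(maximalIdeal Ap).ResidueField] ((maximalIdeal Ap).Fiber (Localization.AtPrime q)))
      (Algebra.TensorProduct.cancelBaseChange Ap (maximalIdeal Ap).ResidueField K K (Localization.AtPrime q)).toRingEquiv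
    haveI : TensorProduct.CompatibleSMul A Ap K (Localization.AtPrime q) :=
      IsLocalization.tensorProduct_compatibleSMul p.primeCompl Ap K (Localization.AtPrime q)
    exact IsRegularRing.of_ringEquiv (R := K ⊗[Ap] Localization.AtPrime q)
      (Algebra.TensorProduct.equivOfCompatibleSMul A Ap A K (Localization.AtPrime q)).toRingEquiv
  refine ⟨?_, fun p _ => ⟨?_, fun K _ _ hK => ?_⟩⟩
  · refine Module.flat_of_isLocalized_maximal (R := A) (S := B) (M := B)
      (fun n _ => Localization.AtPrime n) (fun n _ => Algebra.linearMap B _) fun n _ => ?_
    letI := (Localization.localRingHom (Ideal.comap (algebraMap A B) n) n (algebraMap A B) rfl).toAlgebra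
    haveI : IsScalarTower A (Localization.AtPrime (Ideal.comap (algebraMap A B) n)) (Localization.AtPrime n) :=
      IsScalarTower.of_algebraMap_eq fun x => (Localization.localRingHom_to_map _ _ _ rfl x).symm
    haveI := (hloc n).1
    haveI : Module.Flat A (Localization.AtPrime (Ideal.comap (algebraMap A B) n)) :=
      IsLocalization.flat _ (Ideal.comap (algebraMap A B) n).primeCompl
    exact Module.Flat.trans A (Localization.AtPrime (Ideal.comap (algebraMap A B) n)) _
  · haveI : Algebra.EssFiniteType B (B ⊗[A] p.ResidueField) := inferInstance
    haveI : IsNoetherianRing (B ⊗[A] p.ResidueField) := Algebra.EssFiniteType.isNoetherianRing B _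
    exact isNoetherianRing_of_ringEquiv _ (Algebra.TensorProduct.comm A B p.ResidueField).toRingEquiv
  letI : Algebra A K := ((algebraMap p.ResidueField K).comp (algebraMap A p.ResidueField)).toAlgebra
  haveI : IsScalarTower A p.ResidueField K := IsScalarTower.of_algebraMap_eq fun _ => rfl
  haveI : Algebra.EssFiniteType A K := .comp A p.ResidueField K
  haveI : Algebra.EssFiniteType B (B ⊗[A] K) := inferInstance
  haveI : IsNoetherianRing (B ⊗[A] K) := Algebra.EssFiniteType.isNoetherianRing B _
  suffices IsRegularRing (B ⊗[A] K) from
    IsRegularRing.of_ringEquiv (R := B ⊗[A] K) ((Algebra.TensorProduct.comm A B K).toRingEquiv.trans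
      (Algebra.TensorProduct.cancelBaseChange A p.ResidueField K K B).symm.toRingEquiv)
  refine GrothLib.Serre.isRegularRing_of_forall_isMaximal _ fun M _ => ?_
  set q := M.comap (algebraMap B (B ⊗[A] K)) with hqdef
  have hqp : q.comap (algebraMap A B) = p := by
    rw [hqdef, Ideal.comap_comap, ← IsScalarTower.algebraMap_eq A B (B ⊗[A] K)]
    have hcomp : algebraMap A (B ⊗[A] K) =
        (Algebra.TensorProduct.includeRight (R := A) (A := B) (B := K)).toRingHom.comp (algebraMap A K) :=
      ((Algebra.TensorProduct.includeRight (R := A) (A := B) (B := K)).comp_algebraMap).symm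
    haveI : (M.comap (Algebra.TensorProduct.includeRight (R := A) (A := B) (B := K)).toRingHom).IsPrime :=
      Ideal.IsPrime.comap _
    have hbot : M.comap (Algebra.TensorProduct.includeRight (R := A) (A := B) (B := K)).toRingHom = ⊥ :=
      (Ideal.eq_bot_or_top _).resolve_right (Ideal.IsPrime.ne_top inferInstance)
    rw [hcomp, ← Ideal.comap_comap, hbot,
      show (algebraMap A K) = (algebraMap p.ResidueField K).comp (algebraMap A p.ResidueField) from rfl,
      ← Ideal.comap_comap, Ideal.comap_bot_of_injective _ (algebraMap p.ResidueField K).injective]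
    exact Ideal.ker_algebraMap_residueField p
  haveI := key q p hqp K hK
  let T := (B ⊗[A] K) ⊗[B] Localization.AtPrime q
  have : IsRegularRing T :=
    IsRegularRing.of_ringEquiv (R := K ⊗[A] Localization.AtPrime q)
      ((Algebra.TensorProduct.comm B (B ⊗[A] K) (Localization.AtPrime q)).toRingEquiv.trans
        ((Algebra.TensorProduct.cancelBaseChange A B (Localization.AtPrime q)
          (Localization.AtPrime q) K).toRingEquiv.trans
          (Algebra.TensorProduct.comm A (Localization.AtPrime q) K).toRingEquiv)).symm
  let N := Algebra.algebraMapSubmonoid (B ⊗[A] K) q.primeCompl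
  have hdisj : Disjoint (N : Set (B ⊗[A] K)) M := by
    rw [Set.disjoint_left]
    rintro _ ⟨x, hx, rfl⟩ hM
    exact hx hM
  set Q := M.map (algebraMap (B ⊗[A] K) T) with hQdef
  have : Q.IsPrime := IsLocalization.isPrime_of_isPrime_disjoint N T M inferInstance hdisj
  have hc : Q.comap (algebraMap (B ⊗[A] K) T) = M :=
    IsLocalization.comap_map_of_isPrime_disjoint N T inferInstance hdisj
  have : IsRegularLocalRing (Localization.AtPrime Q) :=
    IsRegularRing.isRegularLocalRing_localization Q
  have : IsLocalization.AtPrime (Localization.AtPrime Q) M := by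
    have := IsLocalization.isLocalization_isLocalization_atPrime_isLocalization N
      (Localization.AtPrime Q) Q
    simpa [hc] using this
  exact IsRegularLocalRing.of_ringEquiv (R := Localization.AtPrime Q)
    (IsLocalization.algEquiv M.primeCompl (Localization.AtPrime Q) _).toRingEquiv

end Groth.Agent.S19864
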