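import Groth.Statements.S19379
import Groth.Agent.S19864
import Mathlib.RingTheory.Smooth.Basic
-- import your own Groth.Agent.* helpers here

set_option autoImplicit false
universe u
open CAlg

namespace Groth.Agent.S19379

/-- Let A and B be Noetherian rings and let B be an A-algebra which is formally smooth for the discrete
topologies. Then A → B is a regular homomorphism, that is, flat with (Noetherian) geometrically
regular fibres. -/
theorem result
    (A B : Type u) [CommRing A] [CommRing B] [Algebra A B]
    [IsNoetherianRing A] [IsNoetherianRing B] [Algebra.FormallySmooth A B] :
    CAlg.IsRegularHom A B := by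
  refine (Groth.Agent.S19864.result A B).2 fun q _ => ?_
  letI := (Localization.localRingHom (Ideal.comap (algebraMap A B) q) q (algebraMap A B) rfl).toAlgebra
  haveI : IsScalarTower A (Localization.AtPrime (Ideal.comap (algebraMap A B) q)) (Localization.AtPrime q) :=
    IsScalarTower.of_algebraMap_eq fun x => (Localization.localRingHom_to_map _ _ _ rfl x).symm
  haveI : Algebra.FormallySmooth B (Localization.AtPrime q) := Algebra.FormallySmooth.of_isLocalization q.primeCompl
  haveI : Algebra.FormallySmooth A (Localization.AtPrime q) := Algebra.FormallySmooth.comp A B _
  haveI : Algebra.FormallySmooth (Localization.AtPrime (Ideal.comap (algebraMap A B) q)) (Localization.AtPrime q) :=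
    Algebra.FormallySmooth.localization_base (R := A) (Ideal.comap (algebraMap A B) q).primeCompl
  intro C _ _ J hJ ψ _
  exact Algebra.FormallySmooth.exists_lift J ⟨2, hJ⟩ ψ

end Groth.Agent.S19379
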