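import Groth.Statements.S1938
import Groth.Agent.Lib.OmegaBC.Section
import Mathlib.AlgebraicGeometry.Morphisms.QuasiSeparated
-- import your own Groth.Agent.* helpers here

set_option autoImplicit false
universe u
open CategoryTheory CategoryTheory.Limits AlgebraicGeometry
open Grpd

theorem pullback_lift_congr {C : Type*} [Category C] {W X Y Z : C} {f : X ⟶ Z} {g : Y ⟶ Z} [Limits.HasPullback f g] {a a' : W ⟶ X} {b b' : W ⟶ Y} {h : a ≫ f = b ≫ g} (ha : a = a') (hb : b = b') : Limits.pullback.lift a b h = Limits.pullback.lift a' b' (ha ▸ hb ▸ h) := by subst ha hb; rfl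

namespace Groth.Agent.S1938

/-- Let (U, R, s, t, c) be a groupoid scheme over S, e : U → R its identity and C_{U/R} the conormal
sheaf of the immersion e. View R as a scheme over U via t. Then there is an epimorphism of
O_R-modules s^*C_{U/R} → Ω_{R/U}, and if s is flat there is an isomorphism s^*C_{U/R} ≅ Ω_{R/U}.
(The published statement has t^*C_{U/R} here; with R over U via t that version is false — for the
pair groupoid of the disjoint union of a point and the affine line over ℚ the two sheaves have
different supports — and the statement given here has s^*C_{U/R} instead.) Stated for t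
quasi-separated, where the shared prelude's Ω_{R/U} (conormal sheaf of the diagonal of t through
Mathlib's kernel ideal sheaf) and conormal sheaf of the section e are the usual ones. (A groupoid
scheme carries U, R, s, t, c, e, i over S with the groupoid axioms on T-points.) -/
theorem result (S : Scheme.{u}) (G : Grpd.GroupoidScheme S) [QuasiSeparated G.t] : (∃ φ : (Scheme.Modules.pullback G.s).obj (Omega.conormal G.e) ⟶ Omega.sheaf G.t, Epi φ) ∧ (Flat G.s → Nonempty ((Scheme.Modules.pullback G.s).obj (Omega.conormal G.e) ≅ Omega.sheaf G.t)) := by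
  open Limits in
  haveI : QuasiCompact (G.e ≫ G.t) := G.e_t.symm ▸ inferInstance
  haveI : QuasiCompact G.e := QuasiCompact.of_comp G.e G.t
  open Limits in
  have hbi : (pullback.snd G.t G.t ≫ G.i) ≫ G.s = pullback.fst G.t G.t ≫ G.t := by
    rw [Category.assoc, G.i_s]; exact pullback.condition.symm
  let k : Limits.pullback G.t G.t ⟶ G.R := Limits.pullback.lift _ _ hbi ≫ G.c
  open Limits in
  have hkt : k ≫ G.t = pullback.snd G.t G.t ≫ G.s := by
    rw [G.comp_t, Category.assoc, G.i_t]
  open Limits in
  have H : IsPullback k (pullback.snd G.t G.t) G.t G.s := by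
    refine IsPullback.of_isLimit' ⟨hkt⟩ (PullbackCone.IsLimit.mk _
      (fun c => pullback.lift (pullback.lift c.snd c.fst c.condition.symm ≫ G.c) c.snd (G.comp_t _ _ _)) (fun c => ?_)
      (fun c => ?_) (fun c m h1 h2 => ?_))
    · rw [← Category.assoc, show pullback.lift (pullback.lift c.snd c.fst c.condition.symm ≫ G.c) c.snd (G.comp_t _ _ _) ≫ pullback.lift _ _ hbi = pullback.lift (c.snd ≫ G.i) (pullback.lift c.snd c.fst c.condition.symm ≫ G.c) (by rw [Category.assoc, G.i_s, G.comp_t]) from pullback.hom_ext (by rw [Category.assoc, pullback.lift_fst, ← Category.assoc, pullback.lift_snd, pullback.lift_fst]) (by rw [Category.assoc, pullback.lift_snd, pullback.lift_fst, pullback.lift_snd])]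
      rw [← G.assoc _ _ _ (by rw [Category.assoc, G.i_s]) c.condition.symm]
      calc pullback.lift (pullback.lift (c.snd ≫ G.i) c.snd _ ≫ G.c) c.fst _ ≫ G.c
          = pullback.lift (c.fst ≫ G.t ≫ G.e) c.fst (by rw [Category.assoc, Category.assoc, G.e_s, Category.comp_id]) ≫ G.c := by
            congr 1
            apply pullback.hom_ext
            · rw [pullback.lift_fst, pullback.lift_fst, G.i_comp, ← Category.assoc, ← c.condition, Category.assoc]
            · rw [pullback.lift_snd, pullback.lift_snd]
        _ = c.fst := G.e_comp _
    · exact pullback.lift_snd _ _ _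
    · apply pullback.hom_ext
      · rw [pullback.lift_fst]
        have hb : m ≫ pullback.snd G.t G.t = c.snd := h2
        have ha : (m ≫ pullback.fst G.t G.t) ≫ G.t = c.snd ≫ G.t := by
          rw [Category.assoc, pullback.condition, ← Category.assoc, hb]
        have hk' : pullback.lift (c.snd ≫ G.i) (m ≫ pullback.fst G.t G.t) (by rw [Category.assoc, G.i_s, ha]) ≫ G.c = c.fst := by
          rw [← h1]
          simp only [k, ← Category.assoc]
          congr 1
          apply pullback.hom_ext
          · rw [pullback.lift_fst, Category.assoc, pullback.lift_fst, ← Category.assoc, hb]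
          · rw [pullback.lift_snd, Category.assoc, pullback.lift_snd]
        conv_rhs => rw [pullback_lift_congr rfl hk'.symm]
        rw [← G.assoc _ _ _ (by rw [Category.assoc, G.i_t]) (by rw [Category.assoc, G.i_s, ha])]
        calc m ≫ pullback.fst G.t G.t = pullback.lift ((m ≫ pullback.fst G.t G.t) ≫ G.t ≫ G.e) (m ≫ pullback.fst G.t G.t)
              (by simp [G.e_s]) ≫ G.c := (G.e_comp _).symm
          _ = _ := by
            congr 1
            apply pullback.hom_ext
            · rw [pullback.lift_fst, pullback.lift_fst, G.comp_i, ← Category.assoc, ha, Category.assoc]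
            · rw [pullback.lift_snd, pullback.lift_snd]
      · rw [pullback.lift_snd]; exact h2
  open Limits in
  have hd : pullback.diagonal G.t ≫ k = G.s ≫ G.e := by
    refine (Category.assoc _ _ _).symm.trans (Eq.trans ?_ ((G.i_comp (𝟙 G.R)).trans (Category.id_comp _)))
    congr 1
    apply pullback.hom_ext
    · rw [pullback.lift_fst, Category.assoc, pullback.lift_fst, ← Category.assoc, pullback.diagonal_snd]
    · rw [pullback.lift_snd, Category.assoc, pullback.lift_snd, pullback.diagonal_fst]
  obtain ⟨φ⟩ := GrothLib.OmegaBC.nonempty_pullback_conormal_section G.e (Limits.pullback.diagonal G.t) G.t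
    (Limits.pullback.snd G.t G.t) G.s k H G.e_t (Limits.pullback.diagonal_snd _) hd
  exact ⟨⟨φ.hom, @IsIso.epi_of_iso _ _ _ _ φ.hom φ.isIso_hom⟩, fun _ => ⟨φ⟩⟩

end Groth.Agent.S1938
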