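import Groth.Statements.S19382
import Groth.Agent.Lib.AdicFlatCrit8.Basic

set_option autoImplicit false
universe u
open CategoryTheory CategoryTheory.Limits AlgebraicGeometry
open FlatMor

namespace Groth.Agent.S19382

/-- Over a discrete valuation ring, let V be a henselian discrete valuation ring with maximal ideal 𝔪, A
a smooth V-algebra, Â the 𝔪A-adic completion of A, and h : X → Spec A a proper morphism with
reduction h₀ over Spec(A/𝔪A). Then X is flat over V and h₀ is smooth if and only if the base change
of h to Spec Â is smooth. (As for the flat case, the published statement concerns an excellent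
normal base ring with a henselian pair and the projective lift built from lifted equations, together
with the weak completion and the henselization; it is given here over a discrete valuation ring and
for an arbitrary proper h.) -/
theorem result
    (V : Type u) [CommRing V] [IsDomain V] [IsDiscreteValuationRing V] [HenselianLocalRing V]
    (A : Type u) [CommRing A] [Algebra V A] [Algebra.Smooth V A]
    (X : Scheme.{u}) (h : X ⟶ Spec (.of A)) [IsProper h] :
    (Flat (h ≫ Spec.map (CommRingCat.ofHom (algebraMap V A))) ∧
        Smooth (pullback.snd h (Spec.map (CommRingCat.ofHom
          (Ideal.Quotient.mk ((IsLocalRing.maximalIdeal V).map (algebraMap V A))))))) ↔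
      Smooth (pullback.snd h (Spec.map (CommRingCat.ofHom
          (algebraMap A (AdicCompletion ((IsLocalRing.maximalIdeal V).map (algebraMap V A)) A))))) := by
  haveI : IsNoetherianRing A := Algebra.FiniteType.isNoetherianRing V A
  haveI : LocallyOfFinitePresentation h := inferInstance
  haveI : LocallyOfFinitePresentation (Spec.map (CommRingCat.ofHom (algebraMap V A))) :=
    (HasRingHomProperty.Spec_iff (P := @LocallyOfFinitePresentation)).mpr
      (RingHom.finitePresentation_algebraMap.mpr inferInstance)
  constructor
  · rintro ⟨h1, h2⟩
    refine GrothLib.AdicFlatCrit8.baseChange_completion (P := @Smooth) h h.smoothLocus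
      (fun x hx => GrothLib.AdicFlatCrit8.smoothAt h x hx) ?_
    rw [← Scheme.Hom.smoothLocus_eq_top_iff, ← Scheme.Hom.preimage_smoothLocus_eq, eq_top_iff]
    exact fun u _ => u.2
  · intro h1
    exact ⟨GrothLib.AdicFlatCrit8.flat_comp_of_completion h,
      GrothLib.AdicFlatCrit8.special_of_completion (P := @Smooth) h h1⟩

end Groth.Agent.S19382
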