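import Groth.Statements.S19383
import Mathlib
-- import your own Groth.Agent.* helpers here

set_option autoImplicit false
universe u
open CAlg

namespace Groth.Agent.S19383

/-- Over a discrete valuation ring, let V be a henselian discrete valuation ring with maximal ideal 𝔪
and B a Noetherian V-algebra, B̂ its 𝔪B-adic completion. Then B is flat over V if and only if B̂ is
flat over V. (The published lemma takes V an excellent normal ring with an ideal I such that (V,
V/I) is a henselian pair and B of finite type; in that generality it fails: for V = ℤ_p[[x]], I =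
(p) and B = V[y]/(x, py − 1) ≅ ℚ_p one has IB = B, so B̂ = 0 is flat while B is not flat over V.
Over a discrete valuation ring flatness is torsion-freeness and the statement holds for every
Noetherian B.) -/
theorem result
    (V : Type u) [CommRing V] [IsDomain V] [IsDiscreteValuationRing V] [HenselianLocalRing V]
    (B : Type u) [CommRing B] [Algebra V B] [IsNoetherianRing B] :
    Module.Flat V B ↔
      Module.Flat V (AdicCompletion ((IsLocalRing.maximalIdeal V).map (algebraMap V B)) B) := by
  obtain ⟨t, ht⟩ := IsDiscreteValuationRing.exists_irreducible V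
  set I := (IsLocalRing.maximalIdeal V).map (algebraMap V B) with hI
  have hflat : ∀ (M : Type u) [AddCommGroup M] [Module V M], IsSMulRegular M t → Module.Flat V M := fun M _ _ hreg => by
    rw [IsDedekindDomain.flat_iff_torsion_eq_bot, eq_bot_iff]
    intro m hm
    obtain ⟨⟨r, hr⟩, hrm⟩ := hm
    obtain ⟨n, u, rfl⟩ := IsDiscreteValuationRing.eq_unit_mul_pow_irreducible (nonZeroDivisors.ne_zero hr) ht
    rw [Submodule.mem_bot]
    have h1 : ((u : V) * t ^ n) • m = 0 := hrm
    rw [mul_smul, ← Units.smul_def, smul_eq_zero_iff_eq] at h1
    exact (hreg.pow n) (h1.trans (smul_zero _).symm)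
  have hreg : ∀ (M : Type u) [AddCommGroup M] [Module V M] [Module.Flat V M], IsSMulRegular M t := fun M _ _ _ => by
    have h1 : IsSMulRegular V t := fun x y h => mul_left_cancel₀ ht.ne_zero h
    exact (TensorProduct.rid V M).isSMulRegular_congr t |>.1 (h1.lTensor (M := M))
  have hIspan : I = Ideal.span {algebraMap V B t} := by
    rw [hI, ht.maximalIdeal_eq, Ideal.map_span, Set.image_singleton]
  constructor
  · intro h
    refine hflat _ fun x y hxy => ?_
    have h1 : IsSMulRegular B (algebraMap V B t) := fun a b hab => hreg B (by
      show t • a = t • b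
      rw [Algebra.smul_def, Algebra.smul_def]; exact hab)
    haveI := AdicCompletion.flat_of_isNoetherian (R := B) I
    have h2 : IsSMulRegular (AdicCompletion I B) (algebraMap V B t) :=
      (TensorProduct.rid B (AdicCompletion I B)).isSMulRegular_congr _ |>.1 (h1.lTensor (M := AdicCompletion I B))
    refine h2 ?_
    show algebraMap V B t • x = algebraMap V B t • y
    rw [algebraMap_smul, algebraMap_smul]; exact hxy
  · intro h
    refine hflat B ((isSMulRegular_iff_right_eq_zero_of_smul).2 fun b hb => ?_)
    have hb0 : AdicCompletion.of I B b = 0 := hreg (AdicCompletion I B) (by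
      show t • AdicCompletion.of I B b = t • 0
      rw [smul_zero, ← LinearMap.map_smul_of_tower, hb, map_zero])
    have hmem : ∀ n, b ∈ (I ^ n • ⊤ : Submodule B B) := fun n => by
      have := congrArg (fun z => z.val n) hb0
      rw [AdicCompletion.of_apply, AdicCompletion.val_zero_apply] at this
      exact (Submodule.Quotient.mk_eq_zero _).1 this
    obtain ⟨⟨r, hr⟩, hrb⟩ := (Ideal.mem_iInf_smul_pow_eq_bot_iff I (M := B) b).1 ((Submodule.mem_iInf _).2 hmem)
    rw [hIspan, Ideal.mem_span_singleton] at hr
    obtain ⟨s, rfl⟩ := hr
    rw [← hrb]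
    show (algebraMap V B t * s) • b = 0
    rw [smul_eq_mul, mul_assoc, mul_left_comm, ← Algebra.smul_def, hb, mul_zero]

end Groth.Agent.S19383
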