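import Groth.Statements.S19384
import Groth.Agent.Lib.Versch.Basic
import Groth.Agent.Lib.OT.Eigen

set_option autoImplicit false
universe u
open Versch

namespace Groth.Agent.S19384

open scoped TensorProduct

/-- Over a field and for one finite level, let k be a field of characteristic p > 0 and G = Spec A a
finite commutative k-group scheme (A a finite-dimensional commutative cocommutative Hopf algebra)
killed by p^n, i.e. the p^n-th power map of G is the trivial homomorphism, and suppose the
Verschiebung of G is an isomorphism (the ring map v : A → A ⊗_k k^(p) characterised as the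
Verschiebung is bijective). Then G is infinitesimal, more precisely the n-th iterate of its
Frobenius is trivial: a^(p^n) = 0 for every a in the augmentation ideal. (The source states this for
the p^n-torsion levels of a p-divisible group of multiplicative type over any scheme of
characteristic p and reduces to a field fibre by fibre; it also records that the Cartier dual has
unipotent fibres, which is not stated here.) -/
theorem result
    (p : ℕ) [Fact p.Prime] (k : Type u) [Field k] [CharP k p]
    (A : Type u) [CommRing A] [HopfAlgebra k A] [Coalgebra.IsCocomm k A] [Module.Finite k A]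
    (n : ℕ)
    (hn : SGA3b.powConv k A (p ^ n) = (Algebra.ofId k A).comp (Bialgebra.counitAlgHom k A))
    (v : A →+* FrobAlg.BaseChange p k A) (hv : Versch.IsVerschiebung p k A v)
    (hbij : Function.Bijective v)
    (a : A) (ha : Coalgebra.counit (R := k) a = 0) : a ^ (p ^ n) = 0 := by
  haveI : CharP A p := charP_of_injective_algebraMap (Bialgebra.algebraMap_injective (R := k) A) p
  have hF : ∀ b : A, ∃ c, SGA3b.powConv k A p c = b ^ p := fun b => by
    obtain ⟨c, hc⟩ := hbij.2 (b ⊗ₜ[k] 1)
    refine ⟨c, ((GrothLib.Versch.powConv_eq p c).symm.trans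
      ((GrothLib.Versch.relFrob_apply p v hv c).symm.trans ?_))⟩
    rw [hc]
    simp [FrobAlg.relFrob, FrobAlg.frobHom, FrobAlg.inclHom, frobenius_def]
  have key : ∀ (m : ℕ) (b : A), ∃ c, SGA3b.powConv k A (p ^ m) c = b ^ (p ^ m) := by
    intro m
    induction m with
    | zero => exact fun b => ⟨b, by rw [pow_zero, pow_one, GrothLib.OT.powConv_one]; rfl⟩
    | succ m ih =>
      intro b
      obtain ⟨c, hc⟩ := ih b
      obtain ⟨d, hd⟩ := hF c
      refine ⟨d, ?_⟩
      rw [pow_succ, GrothLib.OT.powConv_mul, AlgHom.comp_apply, hd, map_pow, hc, ← pow_mul]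
  obtain ⟨c, hc⟩ := key n a
  rw [hn] at hc
  have h0 : algebraMap k A (Coalgebra.counit (R := k) c) = a ^ p ^ n := hc
  have h1 := congrArg (Coalgebra.counit (R := k)) h0
  rw [Bialgebra.counit_algebraMap, Bialgebra.counit_pow, ha,
    zero_pow (pow_ne_zero _ (Fact.out : p.Prime).ne_zero)] at h1
  rw [← h0, h1, map_zero]


end Groth.Agent.S19384
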