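import Groth.Statements.S19386
import Groth.Agent.Lib.HypVan12.Lef
-- import your own Groth.Agent.* helpers here

set_option autoImplicit false
universe u
open CategoryTheory CategoryTheory.Limits AlgebraicGeometry
open HdgLef

namespace Groth.Agent.S19386

/-- Let X be an irreducible smooth proper scheme of dimension n over a field k and L an ample invertible
O_X-module. There is m₀ such that for every m ≥ m₀, every global section s of L^{⊗m} with O_X →
L^{⊗m} injective whose zero scheme Y, with inclusion i : Y → X, is smooth over k, and all p-th
exterior powers Ω^p_X of the differentials of X over k and Ω^p_Y of the differentials of Y over k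
(affine-local sense), the k-dimensions of H^q(X, Ω^p_X) and of H^q(X, i_*Ω^p_Y) = H^q(Y, Ω^p_Y)
agree when p + q < n − 1, and the first is at most the second when p + q = n − 1. (The published
statement asserts that the restriction map is bijective, resp. injective, in these ranges; only the
resulting comparison of dimensions is stated, the pull-back map on exterior powers not being
available as a named map here. X is taken irreducible: for a disjoint union of projective 3-space
with a curve of positive genus the comparison fails for p = 0, q = 1. The published statement takes
Y among the degree-m hypersurface sections of a projective embedding; the published argument uses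
only Serre vanishing and duality for the powers of an ample invertible module.) -/
theorem result
    (k : Type u) [Field k] (X : Scheme.{u}) [X.Over (Spec (CommRingCat.of k))]
    [IsProper (X ↘ Spec (CommRingCat.of k))] [Smooth (X ↘ Spec (CommRingCat.of k))] [IrreducibleSpace X]
    (n : ℕ) (hn : topologicalKrullDim X = n)
    (L : X.Modules) (hL : CohB1.IsAmple L) :
    ∃ m₀ : ℕ, ∀ (m : ℕ), m₀ ≤ m →
      ∀ (s : Coh.structureModule X ⟶ CohB1.tensorPow L m) [Mono s]
        [Smooth ((PicF2.zeroScheme (CohB1.tensorPow L m) s).subschemeι ≫ (X ↘ Spec (CommRingCat.of k)))]
        (p q : ℕ) (OmX : X.Modules) (OmY : (PicF2.zeroScheme (CohB1.tensorPow L m) s).subscheme.Modules),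
        ExtPow.IsExtPow p (Omega.sheaf (X ↘ Spec (CommRingCat.of k))) OmX →
        ExtPow.IsExtPow p (Omega.sheaf ((PicF2.zeroScheme (CohB1.tensorPow L m) s).subschemeι ≫ (X ↘ Spec (CommRingCat.of k)))) OmY →
        (p + q + 1 < n → Module.finrank k (Coh.HH X OmX q) = Module.finrank k (Coh.HH X ((Coh.push (PicF2.zeroScheme (CohB1.tensorPow L m) s).subschemeι).obj OmY) q)) ∧
        (p + q + 1 = n → Module.finrank k (Coh.HH X OmX q) ≤ Module.finrank k (Coh.HH X ((Coh.push (PicF2.zeroScheme (CohB1.tensorPow L m) s).subschemeι).obj OmY) q)) := by
  exact GrothLib.HypVan12.lefschetz k hn hL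


end Groth.Agent.S19386
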