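import Groth.Statements.S19389
import Groth.Agent.Lib.TorsPic29.PPower
import Groth.Agent.Lib.PicH1.Pic
import Groth.Agent.Lib.SerrePn27.Dualizing
import Groth.Agent.Lib.CotTangent.Components
import Mathlib.RingTheory.WittVector.Complete
import Mathlib.RingTheory.WittVector.DiscreteValuationRing

set_option autoImplicit false
universe u
open CategoryTheory CategoryTheory.Limits AlgebraicGeometry
open PicThk

namespace Groth.Agent.S19389

open IsLocalRing in
theorem aux {A : Type u} [CommRing A] [IsLocalRing A] [IsNoetherianRing A] [IsAdicComplete (maximalIdeal A) A]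
    {X : Scheme.{u}} (f : X ⟶ Spec (CommRingCat.of A)) [IsProper f] [SmoothOfRelativeDimension 1 f]
    (I : Ideal A) (hI : maximalIdeal A = I) {p : ℕ} (hp : p.Prime) (hm : maximalIdeal A = Ideal.span {(p : A)}) :
    (∀ n, Function.Surjective (GrothLib.Cube.pull (CohB1.thickι f I n))) ∧
      ∀ i (c : GrothLib.Cube.Pic X), GrothLib.Cube.pull (CohB1.thickι f I (i + 1)) c = 1 →
        ∃ y : GrothLib.Cube.Pic X, y ^ p ^ i = c := by
  subst hI
  let s := closedPoint A
  haveI : SmoothOfRelativeDimension 1 (f.fiberToSpecResidueField s) :=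
    (smoothOfRelativeDimension_isStableUnderBaseChange 1).of_isPullback (IsPullback.of_hasPullback f ((Spec (CommRingCat.of A)).fromSpecResidueField s)) inferInstance
  haveI : QuasiCompact (f.fiberToSpecResidueField s) :=
    MorphismProperty.of_isPullback (IsPullback.of_hasPullback f ((Spec (CommRingCat.of A)).fromSpecResidueField s)) inferInstance
  haveI : CompactSpace ↥(f.fiber s) := (quasiCompact_iff_compactSpace (f.fiberToSpecResidueField s)).1 inferInstance
  haveI : LocallyOfFiniteType (f.fiberToSpecResidueField s) :=
    MorphismProperty.of_isPullback (IsPullback.of_hasPullback f ((Spec (CommRingCat.of A)).fromSpecResidueField s)) inferInstance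
  have hd : topologicalKrullDim ↥(f.fiber s) ≤ 1 := GrothLib.SerrePn27.topologicalKrullDim_le_of_components fun Z hZ =>
    (@GrothLib.CotTangent.topologicalKrullDim_component_of_smooth ((Spec (CommRingCat.of A)).residueField s) _ (f.fiber s)
      (f.fiberToSpecResidueField s) _ _ 1 _ Z hZ).le.trans (by norm_num)
  exact ⟨GrothLib.TorsPic29.pull_thick_surjective f hd,
    GrothLib.TorsPic29.exists_root_of_pull_thick f hp hm hd⟩

/-- Let p > 2 be a prime, k a finite field of characteristic p and W = W(k) its ring of Witt vectors;
let f : X → Spec W be proper and smooth of relative dimension 1 with an ample invertible O_X-module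
(a smooth projective relative curve), and X_n = X ×_W Spec W/(p^{n+1}) the infinitesimal thickenings
of the special fibre, with inclusions ι_n : X_n → X. Granting the group laws of the Picard groups
involved and the multiplicativity of pull-back of invertible classes along each ι_n, the restriction
maps Pic(X) → Pic(X_n) are all surjective, and for every i there is a level t such that a class on X
whose restriction to X_t is a p^i-th power is already a p^i-th power in Pic(X). (The published proof
identifies CH^1(X) with Pic(X) and H^1(X_1, K^M_1 of X_n) with Pic(X_n) and states that CH^1(X) ⊗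
Z/p^i → (Pic(X_n) ⊗ Z/p^i)_n is an isomorphism of pro-abelian groups; the two assertions here are
what its proof establishes and imply that pro-isomorphism, the first giving levelwise surjectivity
and the second the vanishing of the kernel pro-system.) -/
theorem result
    (p : ℕ) [Fact p.Prime] (hp : 2 < p) (k : Type u) [Field k] [Finite k] [CharP k p]
    (X : Scheme.{u}) (f : X ⟶ Spec (CommRingCat.of (WittVector p k))) [IsProper f] [SmoothOfRelativeDimension 1 f]
    (L : X.Modules) (hL : CohB1.IsAmple L)
    [PicGrp.Law X] [∀ n : ℕ, PicGrp.Law (CohB1.thick f (Ideal.span (singleton (p : (WittVector p k)))) n)]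
    (hι : ∀ n : ℕ, PicGrp.PullMul (CohB1.thickι f (Ideal.span (singleton (p : (WittVector p k)))) n)) (i : ℕ) :
    (∀ n : ℕ, Function.Surjective (PicGrp.pullHom (CohB1.thickι f (Ideal.span (singleton (p : (WittVector p k)))) n) (hι n))) ∧
    ∃ t : ℕ, ∀ a : PicLoc.PicSet X,
      (∃ b : PicLoc.PicSet (CohB1.thick f (Ideal.span (singleton (p : (WittVector p k)))) t), b ^ (p ^ i) = PicGrp.pullHom (CohB1.thickι f (Ideal.span (singleton (p : (WittVector p k)))) t) (hι t) a) →
      ∃ a' : PicLoc.PicSet X, a' ^ (p ^ i) = a := by
  haveI : IsNoetherianRing (WittVector p k) := inferInstance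
  have hm : IsLocalRing.maximalIdeal (WittVector p k) = Ideal.span {(p : WittVector p k)} :=
    ((IsDiscreteValuationRing.irreducible_iff_uniformizer _).1 (WittVector.irreducible p))
  haveI : IsAdicComplete (IsLocalRing.maximalIdeal (WittVector p k)) (WittVector p k) := hm.symm ▸ inferInstance
  obtain ⟨hsur, hroot⟩ := aux f (Ideal.span (singleton (p : WittVector p k))) hm Fact.out hm
  have hpull : ∀ n c, GrothLib.PicH1.picSetEquiv _ (PicGrp.pullHom (CohB1.thickι f (Ideal.span (singleton (p : WittVector p k))) n) (hι n) c) =
      GrothLib.Cube.pull _ (GrothLib.PicH1.picSetEquiv X c) := fun n c => GrothLib.PicH1.picSetEquiv_pullHom _ (hι n) c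
  refine ⟨fun n y => ?_, i + 1, fun a ⟨b, hb⟩ => ?_⟩
  · obtain ⟨c, hc⟩ := hsur n (GrothLib.PicH1.picSetEquiv _ y)
    refine ⟨(GrothLib.PicH1.picSetEquiv X).symm c, (GrothLib.PicH1.picSetEquiv _).injective ?_⟩
    rw [hpull, MulEquiv.apply_symm_apply, hc]
  · obtain ⟨B, hB⟩ := hsur (i + 1) (GrothLib.PicH1.picSetEquiv _ b)
    obtain ⟨y, hy⟩ := hroot i (GrothLib.PicH1.picSetEquiv X a * (B ^ p ^ i)⁻¹) (by
      rw [map_mul, map_inv, map_pow, hB, ← map_pow, hb, hpull, mul_inv_cancel])
    refine ⟨(GrothLib.PicH1.picSetEquiv X).symm (y * B), (GrothLib.PicH1.picSetEquiv X).injective ?_⟩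
    rw [map_pow, MulEquiv.apply_symm_apply, mul_pow, hy, inv_mul_cancel_right]

end Groth.Agent.S19389
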