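import Groth.Statements.S19390
import Mathlib

set_option autoImplicit false
universe u
open GIT

namespace Groth.Agent.S19390

/-- roles of the rows: three triangle edges, then each pair of the matching twice -/
def roleI (d : ℕ) : Fin 3 ⊕ Fin 2 × Fin d → Fin 3 ⊕ Fin 2 × Fin d :=
  Sum.map id fun p => (0, p.2)

def roleJ (d : ℕ) : Fin 3 ⊕ Fin 2 × Fin d → Fin 3 ⊕ Fin 2 × Fin d :=
  Sum.map ![1, 2, 0] fun p => (1, p.2)

theorem role_count (d : ℕ) (t : Fin 3 ⊕ Fin 2 × Fin d) :
    (Finset.univ.filter fun s => roleI d s = t).card + (Finset.univ.filter fun s => roleJ d s = t).card = 2 := by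
  classical
  simp only [Finset.card_filter, Fintype.sum_sum_type, Fintype.sum_prod_type, Fin.sum_univ_three,
    Fin.sum_univ_two, roleI, roleJ]
  rcases t with a | ⟨u, l⟩
  · fin_cases a <;> simp
  · fin_cases u <;> simp [Finset.sum_ite_eq']

theorem exists_pairing {α : Type u} [DecidableEq α] (d : ℕ) {ι : Type} [Fintype ι] (x : ι → α)
    (hι : Fintype.card ι = 2 * d)
    (hx : ∀ v : α, (Finset.univ.filter fun k => x k = v).card ≤ d) :
    ∃ f : Fin 2 × Fin d → ι, Function.Bijective f ∧ ∀ l, x (f (0, l)) ≠ x (f (1, l)) := by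
  classical
  let g : α → ℕ := fun v => if h : v ∈ Finset.univ.image x then
    ((Finset.univ.image x).equivFin ⟨v, h⟩ : ℕ) else 0
  have hg : ∀ s t : ι, g (x s) = g (x t) → x s = x t := fun s t h => by
    simp only [g, Finset.mem_image_of_mem x (Finset.mem_univ _), dite_true] at h
    exact congrArg Subtype.val ((Finset.univ.image x).equivFin.injective (Fin.ext h))
  let e₀ : Fin (2 * d) ≃ ι := (Fintype.equivFinOfCardEq hι).symm
  let σ : Fin (2 * d) ≃ ι := (Tuple.sort fun k => g (x (e₀ k))).trans e₀
  have hmono : Monotone fun k => g (x (σ k)) := Tuple.monotone_sort fun k => g (x (e₀ k))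
  refine ⟨fun p => σ (finProdFinEquiv p), (finProdFinEquiv.trans σ).bijective, fun l h => ?_⟩
  set k₀ : Fin (2 * d) := finProdFinEquiv ((0 : Fin 2), l) with hk₀
  set k₁ : Fin (2 * d) := finProdFinEquiv ((1 : Fin 2), l) with hk₁
  have hv₀ : (k₀ : ℕ) = l := by simp [hk₀, finProdFinEquiv]
  have hv₁ : (k₁ : ℕ) = l + d := by simp [hk₁, finProdFinEquiv]
  have hsub : (Finset.Icc k₀ k₁).map σ.toEmbedding ⊆
      Finset.univ.filter fun k => x k = x (σ k₀) := by
    intro s hs
    simp only [Finset.mem_map, Finset.mem_Icc] at hs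
    obtain ⟨k, ⟨h0, h1⟩, rfl⟩ := hs
    simp only [Equiv.coe_toEmbedding, Finset.mem_filter, Finset.mem_univ, true_and]
    exact hg _ _ (le_antisymm ((hmono h1).trans (le_of_eq (congrArg g h.symm))) (hmono h0))
  have := (Finset.card_le_card hsub).trans (hx _)
  rw [Finset.card_map, Fin.card_Icc, hv₀, hv₁] at this
  omega

/-- Three indices with distinct values, catching every value of multiplicity `e`. -/
theorem exists_triangle {α : Type u} [DecidableEq α] (e : ℕ) (he : 1 ≤ e) (x : Fin (2 * e + 1) → α)
    (hx : ∀ a : α, (Finset.univ.filter fun k => x k = a).card ≤ e) :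
    ∃ t : Fin 3 → Fin (2 * e + 1), Function.Injective (fun s => x (t s)) ∧
      ∀ a : α, (Finset.univ.filter fun k => x k = a).card = e → ∃ s, x (t s) = a := by
  classical
  set V := Finset.univ.image x with hV
  set c := fun a : α => (Finset.univ.filter fun k => x k = a).card with hc
  have hsum : ∑ a ∈ V, c a = 2 * e + 1 := by
    rw [← Finset.card_eq_sum_card_image, Finset.card_univ, Fintype.card_fin]
  set M := V.filter fun a => c a = e with hM
  have hMle : M.card ≤ 3 := by
    have h1 : ∑ a ∈ M, c a ≤ 2 * e + 1 := hsum ▸ Finset.sum_le_sum_of_subset (Finset.filter_subset _ _)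
    rw [Finset.sum_const_nat fun a ha => (Finset.mem_filter.1 ha).2, ← hM] at h1
    by_contra h
    have : 4 * e ≤ M.card * e := Nat.mul_le_mul_right e (by omega)
    omega
  have hVge : 3 ≤ V.card := by
    have h1 : ∑ a ∈ V, c a ≤ V.card * e := by
      simpa using Finset.sum_le_card_nsmul V c e (fun a _ => hx a)
    by_contra h
    have : V.card * e ≤ 2 * e := Nat.mul_le_mul_right e (by omega)
    omega
  obtain ⟨T, hMT, hTV, hT⟩ := Finset.exists_subsuperset_card_eq (Finset.filter_subset _ _) hMle hVge
  choose t ht using fun s : Fin 3 => Finset.mem_image.1 (hTV ((T.equivFinOfCardEq hT).symm s).2)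
  refine ⟨t, fun a b h => ?_, fun a ha => ?_⟩
  · simp only [(ht a).2, (ht b).2] at h
    exact (T.equivFinOfCardEq hT).symm.injective (Subtype.ext h)
  · have haV : a ∈ V := by
      obtain ⟨k, hk⟩ := Finset.card_pos.1 (show 0 < c a by show 0 < c a; simp only [hc, ha]; omega)
      exact Finset.mem_image.2 ⟨k, Finset.mem_univ k, (Finset.mem_filter.1 hk).2⟩
    have haT : a ∈ T := hMT (Finset.mem_filter.2 ⟨haV, ha⟩)
    exact ⟨T.equivFinOfCardEq hT ⟨a, haT⟩, by rw [(ht _).2, Equiv.symm_apply_apply]⟩


/-- Let e ≥ 1, n = 2e + 1, and let x_1, …, x_n be points such that no point occurs more than e times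
among them (the stability condition for n ordered points on a line, n odd). Then there are index
sequences i_1, …, i_n and j_1, …, j_n in which every index between 1 and n occurs exactly twice in
total, such that x_{i_k} ≠ x_{j_k} for every k and (i_1, i_2, i_3) = (j_3, j_1, j_2). Indices are
written 0, …, n − 1 here. -/
theorem result {α : Type u} [DecidableEq α] (e : ℕ) (he : 1 ≤ e)
    (x : Fin (2 * e + 1) → α)
    (hx : ∀ a : α, (Finset.univ.filter fun k => x k = a).card ≤ e) :
    ∃ i j : Fin (2 * e + 1) → Fin (2 * e + 1),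
      (∀ m : Fin (2 * e + 1),
        (Finset.univ.filter fun k => i k = m).card + (Finset.univ.filter fun k => j k = m).card = 2) ∧
      (∀ k, x (i k) ≠ x (j k)) ∧
      i 0 = j 2 ∧ i 1 = j 0 ∧ i 2 = j 1 := by
  classical
  obtain ⟨t, ht, hmax⟩ := exists_triangle e he x hx
  have htinj : Function.Injective t := fun a b h => ht (congrArg x h)
  obtain ⟨d, rfl⟩ : ∃ d, e = d + 1 := ⟨e - 1, by omega⟩
  let ι := {k : Fin (2 * (d + 1) + 1) // k ∉ Finset.univ.image t}
  have hι : Fintype.card ι = 2 * d := by
    rw [Fintype.card_subtype_compl, Fintype.card_fin, Fintype.card_coe,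
      Finset.card_image_of_injective _ htinj, Finset.card_univ, Fintype.card_fin]
    omega
  have hxι : ∀ v : α, (Finset.univ.filter fun k : ι => x k.1 = v).card ≤ d := by
    intro v
    have hsub : (Finset.univ.filter fun k : ι => x k.1 = v).map (Function.Embedding.subtype _) ⊆
        (Finset.univ.filter fun k => x k = v) \ Finset.univ.image t := by
      intro k hk
      simp only [Finset.mem_map, Finset.mem_filter, Finset.mem_univ, true_and] at hk
      obtain ⟨⟨k, hk'⟩, hv, rfl⟩ := hk
      simp only [Finset.mem_sdiff, Finset.mem_filter, Finset.mem_univ, true_and]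
      exact ⟨hv, hk'⟩
    have h1 := Finset.card_le_card hsub
    rw [Finset.card_map] at h1
    refine h1.trans ?_
    by_cases hv : ∃ s, x (t s) = v
    · obtain ⟨s, hs⟩ := hv
      have : (Finset.univ.filter fun k => x k = v) \ Finset.univ.image t ⊆
          (Finset.univ.filter fun k => x k = v).erase (t s) := by
        intro k hk
        simp only [Finset.mem_sdiff, Finset.mem_image, Finset.mem_univ, true_and] at hk
        exact Finset.mem_erase.2 ⟨fun h => hk.2 ⟨s, h.symm⟩, hk.1⟩
      have h2 := Finset.card_le_card this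
      rw [Finset.card_erase_of_mem (by simp [hs])] at h2
      have := hx v
      omega
    · have h2 : (Finset.univ.filter fun k => x k = v).card ≠ d + 1 := fun h => hv (hmax v h)
      have := hx v
      have h3 := Finset.card_le_card (Finset.sdiff_subset (s := Finset.univ.filter fun k => x k = v)
        (t := Finset.univ.image t))
      omega
  obtain ⟨f, hf, hfx⟩ := exists_pairing d (fun k : ι => x k.1) hι hxι
  let P : Fin 3 ⊕ Fin 2 × Fin d → Fin (2 * (d + 1) + 1) := Sum.elim t (fun p => (f p).1)
  have hPinj : Function.Injective P :=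
    htinj.sumElim (Subtype.val_injective.comp hf.1) fun a b h => (f b).2
      (Finset.mem_image.2 ⟨a, Finset.mem_univ a, h⟩)
  have hP : Function.Bijective P :=
    (Fintype.bijective_iff_injective_and_card P).2 ⟨hPinj, by simp; omega⟩
  let E : Fin (2 * (d + 1) + 1) ≃ Fin 3 ⊕ Fin 2 × Fin d :=
    ((finCongr (by omega : 2 * (d + 1) + 1 = 3 + 2 * d)).trans finSumFinEquiv.symm).trans
      ((Equiv.refl _).sumCongr finProdFinEquiv.symm)
  refine ⟨fun k => P (roleI d (E k)), fun k => P (roleJ d (E k)), fun m => ?_, fun k => ?_, ?_⟩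
  · obtain ⟨s, rfl⟩ := hP.2 m
    refine Eq.trans ?_ (role_count d s)
    congr 1 <;>
      exact Finset.card_equiv E (fun k => by simp [hP.1.eq_iff])
  · change x (P (roleI d (E k))) ≠ x (P (roleJ d (E k)))
    generalize E k = s
    rcases s with a | ⟨u, l⟩
    · intro h
      have := ht h
      fin_cases a <;> simp [roleI, roleJ, P] at this
    · exact hfx l
  · have hE : ∀ a : Fin 3, E ⟨a, by omega⟩ = Sum.inl a := fun a => by
      have : (finSumFinEquiv.symm ⟨(a : ℕ), by omega⟩ : Fin 3 ⊕ Fin (2 * d)) = Sum.inl a := by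
        rw [Equiv.symm_apply_eq]; rfl
      simp [E, this]
    have e0 : E 0 = Sum.inl 0 := hE 0
    have e1 : E 1 = Sum.inl 1 := by
      rw [← hE 1]; congr 1
    have e2 : E 2 = Sum.inl 2 := by
      rw [← hE 2]; congr 1
    simp [e0, e1, e2, roleI, roleJ, P]

end Groth.Agent.S19390
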