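import Groth.Statements.S19391
import Mathlib

set_option autoImplicit false
universe u
open InvQ

namespace Groth.Agent.S19391

/-- For a binary quartic written as a product of four linear forms μ_i X₀ − λ_i X₁, with coefficients
a_0, …, a_4, the discriminant D = ∏_{i<j} (λ_j μ_i − λ_i μ_j)² is a constant multiple of P³ − 6Q²
for the two basic invariants P, Q. With the integral normalisation I = 6P = 12a₀a₄ − 3a₁a₃ + a₂², J
= 72Q = 72a₀a₂a₄ + 9a₁a₂a₃ − 27a₀a₃² − 27a₁²a₄ − 2a₂³ used here, the identity reads 27 D = 4 I³ − J²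
(so the constant is 32: D = 32 (P³ − 6Q²)); it is stated over an arbitrary commutative ring. -/
theorem result (R : Type u) [CommRing R] (la mu : Fin 4 → R) :
    27 * W4c6intromoduli.disc la mu =
      4 * W4c6intromoduli.invI (W4c6intromoduli.coef la mu) ^ 3
        - W4c6intromoduli.invJ (W4c6intromoduli.coef la mu) ^ 2 := by
  have h : ∀ i, W4c6intromoduli.coef la mu i = (∏ l : Fin 4, (Polynomial.C (mu l) - Polynomial.C (la l) * Polynomial.X)).coeff i :=
    fun i => rfl
  simp only [W4c6intromoduli.invI, W4c6intromoduli.invJ, h, Fin.prod_univ_four]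
  rw [W4c6intromoduli.disc, show ((Finset.univ : Finset (Fin 4 × Fin 4)).filter fun p => p.1 < p.2) =
    {(0, 1), (0, 2), (0, 3), (1, 2), (1, 3), (2, 3)} from by decide]
  repeat rw [Finset.prod_insert (by decide)]
  rw [Finset.prod_singleton]
  simp only [Polynomial.coeff_mul, Finset.Nat.sum_antidiagonal_eq_sum_range_succ_mk, Finset.sum_range_succ,
    Finset.sum_range_zero, Polynomial.coeff_sub, Polynomial.coeff_C, Polynomial.coeff_C_mul, Polynomial.coeff_X]
  norm_num
  ring

end Groth.Agent.S19391
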