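import Groth.Statements.S19396
import Groth.Agent.Lib.FunFld.Gaps

set_option autoImplicit false
universe u v
open FunFld

namespace Groth.Agent.S19396

/-- On an elliptic curve with base point 0, if f has a double pole at 0 and no other pole and g a triple
pole at 0 and no other pole, then for n ≥ 2 the functions 1, f, …, f^[n/2], g, fg, …, f^[(n−3)/2] g
form a basis of the space of functions with at most an n-fold pole at 0. Stated for a function field
K/k of one variable of genus 1 with a place P of degree 1 in the role of the curve and its base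
point: the family indexed by Fin (n/2 + 1) ⊕ Fin ((n − 1)/2), sending i on the left to f^i and i on
the right to f^i g, is linearly independent over k and spans L(nP). -/
theorem result (k : Type u) (K : Type v) [Field k] [Field K]
    [Algebra k K] (hK : FunFld.IsFunctionField k K) (hgen : FunFld.genus k K = 1)
    (P : FunFld.Place k K) (hP : P.deg = 1) (f g : K)
    (hf : f ∈ FunFld.L (Finsupp.single P 2)) (hf2 : P.ord f = -2)
    (hg : g ∈ FunFld.L (Finsupp.single P 3)) (hg3 : P.ord g = -3) (n : ℕ) (hn : 2 ≤ n) :
    LinearIndependent k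
        (Sum.elim (fun i : Fin (n / 2 + 1) => f ^ (i : ℕ)) (fun i : Fin ((n - 1) / 2) => f ^ (i : ℕ) * g)) ∧
      Submodule.span k (Set.range
        (Sum.elim (fun i : Fin (n / 2 + 1) => f ^ (i : ℕ)) (fun i : Fin ((n - 1) / 2) => f ^ (i : ℕ) * g))) =
        FunFld.L (Finsupp.single P (n : ℤ)) := by
  classical
  have hfg : GrothLib.FunFld.IsFG k K := hK.1
  have hf0 : f ≠ 0 := by intro h; simp [h] at hf2
  have hg0 : g ≠ 0 := by intro h; simp [h] at hg3
  have hfQ := ((GrothLib.FunFld.mem_L_single_iff hf0 (by norm_num)).1 hf).2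
  have hgQ := ((GrothLib.FunFld.mem_L_single_iff hg0 (by norm_num)).1 hg).2
  set F := Sum.elim (fun i : Fin (n / 2 + 1) => f ^ (i : ℕ))
    (fun i : Fin ((n - 1) / 2) => f ^ (i : ℕ) * g) with hF
  have hF0 : ∀ i, F i ≠ 0 := by rintro (i | i) <;> simp [hF, hf0, hg0]
  have hord : ∀ i, P.ord (F i) = Sum.elim (fun i : Fin (n / 2 + 1) => -(2 * (i : ℤ)))
      (fun i : Fin ((n - 1) / 2) => -(2 * (i : ℤ) + 3)) i := by
    rintro (i | i) <;>
      simp [hF, GrothLib.FunFld.ord_mul, GrothLib.FunFld.ord_pow, hf0, hg0, hf2, hg3] <;> omega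
  have hli : LinearIndependent k F := by
    refine GrothLib.FunFld.linearIndependent_of_ord_injective P F ?_ hF0
    rintro (a | a) (b | b) hab <;> simp only [hord, Sum.elim_inl, Sum.elim_inr] at hab
    · exact congrArg Sum.inl (Fin.ext (by omega))
    · omega
    · omega
    · exact congrArg Sum.inr (Fin.ext (by omega))
  refine ⟨hli, ?_⟩
  have hmem : ∀ i, F i ∈ FunFld.L (Finsupp.single P (n : ℤ)) := by
    intro i
    rw [GrothLib.FunFld.mem_L_single_iff (hF0 i) (by omega)]
    refine ⟨?_, fun Q hQ => ?_⟩
    · rw [hord]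
      rcases i with i | i
      · have := i.2; simp only [Sum.elim_inl]; omega
      · have := i.2; simp only [Sum.elim_inr]; omega
    · have h1 := hfQ Q hQ
      have h2 := hgQ Q hQ
      rcases i with i | i <;>
        simp [hF, GrothLib.FunFld.ord_mul, GrothLib.FunFld.ord_pow, hf0, hg0] <;> positivity
  have := hfg.finite_L (Finsupp.single P (n : ℤ))
  refine Submodule.eq_of_le_of_finrank_le (Submodule.span_le.2 ?_) ?_
  · rintro _ ⟨i, rfl⟩; exact hmem i
  · have h1 := GrothLib.FunFld.ell_eq_deg_of_genus_one hK hgen (D := Finsupp.single P (n : ℤ))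
      (by rw [GrothLib.FunFld.deg_single, hP]; simp; omega)
    rw [finrank_span_eq_card hli, GrothLib.FunFld.deg_single, hP] at *
    simp only [Fintype.card_sum, Fintype.card_fin]
    simp only [FunFld.ell] at h1
    omega

end Groth.Agent.S19396
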