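import Groth.Statements.S19402
import Mathlib

set_option autoImplicit false
universe u v w
open scoped Pointwise
open GLin

namespace Groth.Agent.S19402

open TensorProduct

/-- Let k be an algebraically closed field of characteristic zero, R a finitely generated commutative
k-algebra which is an integrally closed domain (a normal irreducible affine variety X), and G a
finite group acting faithfully on R by k-algebra automorphisms. Let B be a commutative k-algebra
with an injective algebra map B → R, compatible with the k-structures and G-invariant, whose image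
is exactly the subring of G-invariants (so Spec R → Spec B is the quotient morphism X → X/G). Then
for a maximal ideal m of R (a closed point x of X), R is étale over B at m (the local ring R_m is
formally étale over B) if and only if the stabilizer of m in G is trivial. -/
theorem result (k : Type u) [Field k] [IsAlgClosed k] [CharZero k]
    (R : Type v) [CommRing R] [IsDomain R] [IsIntegrallyClosed R] [Algebra k R] [Algebra.FiniteType k R]
    (G : Type w) [Group G] [Finite G] [MulSemiringAction G R] [FaithfulSMul G R] [SMulCommClass G k R]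
    (B : Type v) [CommRing B] [Algebra k B] [Algebra B R] [IsScalarTower k B R] [FaithfulSMul B R]
    [SMulCommClass G B R] [Algebra.IsInvariant B R G]
    (m : Ideal R) [m.IsMaximal] :
    Algebra.IsEtaleAt B m ↔ MulAction.stabilizer G m = ⊥ := by
  classical
  haveI := Fintype.ofFinite G
  haveI : Algebra.IsIntegral B R := Algebra.IsInvariant.isIntegral B R G
  haveI : IsNoetherianRing R := Algebra.FiniteType.isNoetherianRing k R
  haveI : Algebra.FiniteType B R := Algebra.FiniteType.of_restrictScalars_finiteType k B R
  haveI : Module.Finite B R := Algebra.IsIntegral.finite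
  haveI : Algebra.FiniteType k B := ⟨fg_of_fg_of_fg k B R Algebra.FiniteType.out Module.Finite.fg_top
    (FaithfulSMul.algebraMap_injective B R)⟩
  haveI : IsNoetherianRing B := Algebra.FiniteType.isNoetherianRing k B
  refine ⟨fun het => (Subgroup.eq_bot_iff_forall _).2 fun g hg => ?_, fun hst => ?_⟩
  · haveI := het
    refine eq_of_smul_eq_smul (α := R) fun r => ?_
    rw [one_smul, ← sub_eq_zero]
    have hgm : ∀ a ∈ m, g • a ∈ m := fun a ha => by
      rw [← show g • m = m from hg]; exact Ideal.smul_mem_pointwise_smul g a m ha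
    have hres : ∀ a : R, g • a - a ∈ m := fun a => by
      letI : Field (R ⧸ m) := Ideal.Quotient.field m
      haveI : Algebra.FiniteType k (R ⧸ m) := Algebra.FiniteType.of_surjective (Ideal.Quotient.mkₐ k m) Ideal.Quotient.mk_surjective
      haveI : Module.Finite k (R ⧸ m) := finite_of_finite_type_of_isJacobsonRing k (R ⧸ m)
      obtain ⟨c, hc⟩ := (IsAlgClosed.algebraMap_bijective_of_isIntegral (k := k) (K := R ⧸ m)).2 (Ideal.Quotient.mk m a)
      have hac : a - algebraMap k R c ∈ m := by
        rw [← Ideal.Quotient.eq, ← hc]; rfl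
      have := sub_mem (hgm _ hac) hac
      rw [smul_sub, smul_algebraMap g c, sub_sub_sub_cancel_right] at this
      exact this
    have hall : ∀ (n : ℕ) (a : R), g • a - a ∈ m ^ (n + 1) := by
      intro n
      let T := R ⧸ m ^ (n + 1)
      let π : R →ₐ[B] T := Ideal.Quotient.mkₐ B (m ^ (n + 1))
      let σ : R →ₐ[B] T := π.comp (MulSemiringAction.toAlgHom B R g)
      have hunit : ∀ f : R →ₐ[B] T, (∀ a ∈ m, IsNilpotent (f a)) → ∀ y : m.primeCompl, IsUnit (f y) := by
        intro f hf y
        obtain ⟨z, hz⟩ := (Ideal.Quotient.maximal_ideal_iff_isField_quotient m).1 inferInstance |>.mul_inv_cancel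
          (a := Ideal.Quotient.mk m y) (fun h => y.2 (Ideal.Quotient.eq_zero_iff_mem.1 h))
        obtain ⟨z, rfl⟩ := Ideal.Quotient.mk_surjective z
        rw [← map_mul, ← map_one (Ideal.Quotient.mk m), Ideal.Quotient.eq] at hz
        have h1 : IsUnit (f (y * z)) := by
          have := (hf _ hz).isUnit_add_one
          rwa [← map_one f, ← map_add, sub_add_cancel] at this
        rw [map_mul] at h1
        exact isUnit_of_mul_isUnit_left h1
      have hnil : ∀ a ∈ m, IsNilpotent (π a) := fun a ha =>
        ⟨n + 1, by rw [← map_pow]; exact Ideal.Quotient.eq_zero_iff_mem.2 (Ideal.pow_mem_pow ha _)⟩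
      let π' : Localization.AtPrime m →ₐ[B] T :=
        IsLocalization.liftAlgHom (M := m.primeCompl) (f := π) (hunit π hnil)
      let σ' : Localization.AtPrime m →ₐ[B] T :=
        IsLocalization.liftAlgHom (M := m.primeCompl) (f := σ) (hunit σ fun a ha => hnil _ (hgm a ha))
      have key : π' = σ' := by
        refine Algebra.FormallyUnramified.ext (m.map π.toRingHom) ⟨n + 1, ?_⟩ fun z => ?_
        · rw [← Ideal.map_pow]; exact Ideal.map_quotient_self _
        · obtain ⟨a, y, rfl⟩ := IsLocalization.exists_mk'_eq m.primeCompl z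
          have hsame : ∀ b : R, Ideal.Quotient.mk (m.map π.toRingHom) (π' (algebraMap R _ b)) =
              Ideal.Quotient.mk (m.map π.toRingHom) (σ' (algebraMap R _ b)) := fun b => by
            rw [Ideal.Quotient.eq]
            simp only [π', σ', IsLocalization.liftAlgHom_apply, IsLocalization.lift_eq]
            show π b - π (g • b) ∈ _
            rw [← map_sub]
            exact Ideal.mem_map_of_mem _ (by rw [← neg_sub]; exact m.neg_mem (hres b))
          have hy := (IsLocalization.map_units (Localization.AtPrime m) y).map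
            ((Ideal.Quotient.mk (m.map π.toRingHom)).comp π'.toRingHom)
          refine hy.mul_right_cancel ?_
          show Ideal.Quotient.mk _ (π' _) * Ideal.Quotient.mk _ (π' (algebraMap R _ (y : R))) =
            Ideal.Quotient.mk _ (σ' _) * Ideal.Quotient.mk _ (π' (algebraMap R _ (y : R)))
          nth_rewrite 2 [hsame]
          rw [← map_mul, ← map_mul, ← map_mul, ← map_mul, IsLocalization.mk'_spec]
          exact hsame a
      intro a
      have h := AlgHom.congr_fun key (algebraMap R _ a)
      simp only [π', σ', IsLocalization.liftAlgHom_apply, IsLocalization.lift_eq] at h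
      exact Ideal.Quotient.eq.1 h.symm
    rw [← Ideal.mem_bot, ← Ideal.iInf_pow_eq_bot_of_isDomain m (Ideal.IsMaximal.ne_top ‹_›), Ideal.mem_iInf]
    intro n
    exact Ideal.pow_le_pow_right (Nat.le_succ n) (hall n r)
  · let ev : G → (R ⊗[B] R →ₐ[B] R) := fun h =>
      Algebra.TensorProduct.productMap (AlgHom.id B R) (MulSemiringAction.toAlgHom B R h)
    have hev : ∀ h a b, ev h (a ⊗ₜ[B] b) = a * (h • b) := fun h a b => by simp [ev]
    have hu : ∀ g : G, g ≠ 1 → ∃ u : R ⊗[B] R, ev g u = 0 ∧ ∃ c : B, ev 1 u = algebraMap B R c ∧ algebraMap B R c ∉ m := by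
      intro g hg
      let I : Ideal R := Ideal.span (Set.range fun y => y - g • y)
      have hI : ∀ z ∈ I, ∃ u : R ⊗[B] R, ev g u = 0 ∧ ev 1 u = z := by
        intro z hz
        induction hz using Submodule.span_induction with
        | mem z hz =>
          obtain ⟨y, rfl⟩ := hz
          exact ⟨1 ⊗ₜ[B] y - (g • y) ⊗ₜ[B] 1, by simp [hev], by simp [hev]⟩
        | zero => exact ⟨0, map_zero _, map_zero _⟩
        | add a b _ _ ha hb =>
          obtain ⟨u, hu, hu'⟩ := ha
          obtain ⟨v, hv, hv'⟩ := hb
          exact ⟨u + v, by rw [map_add, hu, hv, add_zero], by rw [map_add, hu', hv']⟩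
        | smul a b _ hb =>
          obtain ⟨u, hu, hu'⟩ := hb
          exact ⟨(a ⊗ₜ[B] 1) * u, by rw [map_mul, hu, mul_zero], by rw [map_mul, hu', hev]; simp⟩
      suffices hc : ∃ c : B, algebraMap B R c ∈ I ∧ algebraMap B R c ∉ m by
        obtain ⟨c, hcI, hcm⟩ := hc
        obtain ⟨u, h1, h2⟩ := hI _ hcI
        exact ⟨u, h1, c, h2, hcm⟩
      by_contra hne
      push Not at hne
      obtain ⟨Q, hIQ, hQp, hQc⟩ := Ideal.exists_ideal_over_prime_of_isIntegral (m.under B) I fun c hc => hne c hc
      haveI := hQp
      obtain ⟨h, hh⟩ := Algebra.IsInvariant.exists_smul_of_under_eq B R G m Q (Eq.symm hQc)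
      have hgQ : g • Q ≤ Q := by
        intro z hz
        rw [Ideal.mem_pointwise_smul_iff_inv_smul_mem] at hz
        have h1 := hIQ (Ideal.subset_span ⟨g⁻¹ • z, rfl⟩)
        simp only [smul_inv_smul] at h1
        have h2 := sub_mem hz h1
        rwa [sub_sub_cancel] at h2
      have hmem : h⁻¹ * g * h ∈ MulAction.stabilizer G m := by
        rw [MulAction.mem_stabilizer_iff, mul_smul, mul_smul, ← hh]
        have hQm : (h • m).IsMaximal := Ideal.isMaximal_of_isIntegral_of_isMaximal_comap (R := B) _ (by
          rw [← hh]; exact hQc ▸ Ideal.isMaximal_comap_of_isIntegral_of_isMaximal m)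
        rw [← hh] at hQm
        have hgQm : (g • Q).IsMaximal := Ideal.isMaximal_of_isIntegral_of_isMaximal_comap (R := B) _ (by
          rw [show Ideal.comap (algebraMap B R) (g • Q) = Ideal.comap (algebraMap B R) Q from Ideal.under_smul B Q g]
          exact hQc ▸ Ideal.isMaximal_comap_of_isIntegral_of_isMaximal m)
        rw [hgQm.eq_of_le hQm.ne_top hgQ, hh, inv_smul_smul]
      rw [hst, Subgroup.mem_bot, mul_eq_one_iff_eq_inv] at hmem
      exact hg (mul_left_cancel (a := h⁻¹) (hmem.trans (mul_one _).symm))
    choose u hug c hc hcm using hu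
    let t : R ⊗[B] R := ∏ g : {g : G // g ≠ 1}, u g g.2
    let c₀ : B := ∏ g : {g : G // g ≠ 1}, c g g.2
    let c' : R := algebraMap B R c₀
    have ht : ∀ g, g ≠ 1 → ev g t = 0 := fun g hg => by
      rw [map_prod]; exact Finset.prod_eq_zero (Finset.mem_univ ⟨g, hg⟩) (hug g hg)
    have ht1 : ev 1 t = c' := by
      rw [map_prod, show c' = algebraMap B R c₀ from rfl, map_prod]
      exact Finset.prod_congr rfl fun g _ => hc g g.2
    have hc'm : c' ∉ m := by
      rw [show c' = algebraMap B R c₀ from rfl, map_prod]
      intro h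
      obtain ⟨g, -, hg⟩ := (Ideal.IsPrime.prod_mem_iff (p := m)).1 h
      exact hcm g g.2 hg
    obtain ⟨S, hS⟩ := TensorProduct.exists_finset t
    choose tr htr using fun r : R => Algebra.IsInvariant.isInvariant (A := B) (B := R) (G := G)
      (∑ g : G, g • r) fun h => by
        rw [Finset.smul_sum]
        exact Fintype.sum_equiv (Equiv.mulLeft h) _ _ fun g => by rw [Equiv.coe_mulLeft, mul_smul]
    have hid : ∀ r : R, ∑ p ∈ S, p.1 * algebraMap B R (tr (p.2 * r)) = c' * r := by
      intro r
      have h1 : ∀ g : G, ev g t = ∑ p ∈ S, p.1 * (g • p.2) := fun g => by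
        rw [hS, map_sum]; exact Finset.sum_congr rfl fun p _ => hev _ _ _
      simp only [htr, Finset.mul_sum, smul_mul', ← mul_assoc]
      rw [Finset.sum_comm]
      simp only [← Finset.sum_mul, ← h1]
      rw [Finset.sum_eq_single 1 (fun g _ hg => by rw [ht g hg, zero_mul]) (fun h => absurd (Finset.mem_univ _) h),
        ht1, one_smul]
    let Rc := Localization.Away c'
    have hcu : IsUnit (algebraMap B Rc c₀) := by
      rw [IsScalarTower.algebraMap_apply B R Rc]
      exact IsLocalization.Away.algebraMap_isUnit c'
    -- flatness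
    let Bc := Localization.Away c₀
    let trL : R →ₗ[B] B :=
      { toFun := tr
        map_add' := fun a b => FaithfulSMul.algebraMap_injective B R (by
          simp only [map_add, htr, smul_add, Finset.sum_add_distrib])
        map_smul' := fun a b => FaithfulSMul.algebraMap_injective B R (by
          simp only [RingHom.id_apply, smul_eq_mul, map_mul, htr, Algebra.smul_def, smul_mul', smul_algebraMap,
            Finset.mul_sum]) }
    let ι₀ : R →ₗ[B] (↥S →₀ Bc) :=
      (Finsupp.linearEquivFunOnFinite B Bc ↥S).symm.toLinearMap ∘ₗ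
        LinearMap.pi fun p : ↥S => (Algebra.linearMap B Bc) ∘ₗ trL ∘ₗ LinearMap.mulLeft B p.1.2
    let ψ : Bc →ₐ[B] Rc := IsLocalization.liftAlgHom (M := Submonoid.powers c₀) (f := Algebra.ofId B Rc) fun y => by
      obtain ⟨_, n, rfl⟩ := y
      show IsUnit (algebraMap B Rc (c₀ ^ n))
      rw [map_pow]; exact hcu.pow n
    let π₀ : (↥S →₀ Bc) →ₗ[B] Rc := Finsupp.lsum B fun p : ↥S => LinearMap.mulLeft B (algebraMap R Rc p.1.1) ∘ₗ ψ.toLinearMap
    have hπι : ∀ r : R, π₀ (ι₀ r) = algebraMap R Rc (c' * r) := by
      intro r
      rw [← hid, map_sum, Finsupp.lsum_apply, Finsupp.sum_fintype _ _ (fun _ => map_zero _)]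
      refine (Finset.sum_congr rfl fun p _ => ?_).trans
        (Finset.sum_coe_sort S fun q => algebraMap R Rc (q.1 * algebraMap B R (tr (q.2 * r))))
      show algebraMap R Rc p.1.1 * ψ (algebraMap B Bc (tr (p.1.2 * r))) = _
      rw [AlgHom.commutes, map_mul, ← IsScalarTower.algebraMap_apply]
    haveI hloc : IsLocalization (Algebra.algebraMapSubmonoid R (Submonoid.powers c₀)) Rc := by
      rw [Algebra.algebraMapSubmonoid_powers]; infer_instance
    haveI : IsLocalizedModule (Submonoid.powers c₀) (IsScalarTower.toAlgHom B R Rc).toLinearMap :=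
      isLocalizedModule_iff_isLocalization.2 hloc
    have hu' : ∀ x : Submonoid.powers c₀, IsUnit ((algebraMap B (Module.End B (↥S →₀ Bc))) x) := fun x => by
      rw [Module.End.isUnit_iff]
      have hx := IsLocalization.map_units Bc x
      show Function.Bijective (fun v : ↥S →₀ Bc => (x : B) • v)
      simp_rw [← IsScalarTower.algebraMap_smul Bc (x : B)]
      exact hx.isSMulRegular _ |> fun hinj => ⟨hinj, fun v => ⟨(↑hx.unit⁻¹ : Bc) • v, by
        simp [← mul_smul, IsUnit.mul_val_inv]⟩⟩
    let ι : Rc →ₗ[B] (↥S →₀ Bc) :=
      IsLocalizedModule.lift (Submonoid.powers c₀) (IsScalarTower.toAlgHom B R Rc).toLinearMap ι₀ hu'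
    let π : (↥S →₀ Bc) →ₗ[B] Rc := LinearMap.mulLeft B (↑hcu.unit⁻¹ : Rc) ∘ₗ π₀
    have hret : π.comp ι = LinearMap.id := by
      refine IsLocalizedModule.ext (Submonoid.powers c₀) (IsScalarTower.toAlgHom B R Rc).toLinearMap ?_ ?_
      · exact IsLocalizedModule.map_units (IsScalarTower.toAlgHom B R Rc).toLinearMap
      · refine LinearMap.ext fun r => ?_
        simp only [LinearMap.comp_apply, π, ι, IsLocalizedModule.lift_apply, hπι, LinearMap.id_apply]
        show (↑hcu.unit⁻¹ : Rc) * algebraMap R Rc (c' * r) = algebraMap R Rc r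
        rw [map_mul, ← mul_assoc, ← IsScalarTower.algebraMap_apply B R Rc, IsUnit.val_inv_mul, one_mul]
    haveI : Module.Flat B Bc := IsLocalization.flat Bc (Submonoid.powers c₀)
    haveI : Module.Flat B (↥S →₀ Bc) := Module.Flat.of_linearEquiv (finsuppLEquivDirectSum B Bc ↥S)
    have hflat : Module.Flat B Rc := Module.Flat.of_retract ι π hret
    -- unramified
    haveI hunr : Algebra.FormallyUnramified B Rc := by
      refine ⟨(Submodule.subsingleton_iff Rc).1 (subsingleton_of_bot_eq_top (Eq.symm (eq_bot_iff.2 ?_)))⟩
      rw [← KaehlerDifferential.span_range_derivation, Submodule.span_le]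
      rintro _ ⟨z, rfl⟩
      set D := KaehlerDifferential.D B Rc
      let α : R → Rc := algebraMap R Rc
      have h0 : ∀ r : R, D (α r) = 0 := by
        intro r
        have hid' : ∀ r : R, ∑ p ∈ S, algebraMap B Rc (tr (p.2 * r)) • D (α p.1) = algebraMap B Rc c₀ • D (α r) := by
          intro r
          have h := congrArg (fun z => D (α z)) (hid r)
          simp only [α, map_sum, map_mul, Derivation.leibniz, c', ← IsScalarTower.algebraMap_apply B R Rc,
            Derivation.map_algebraMap, smul_zero, add_zero, zero_add] at h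
          exact h
        set C := algebraMap B Rc c₀
        have hone : ∑ p ∈ S, α p.1 * α p.2 = C := by
          rw [show C = α c' from IsScalarTower.algebraMap_apply B R Rc c₀]
          simp only [α, ← map_mul, ← map_sum]
          refine congrArg (algebraMap R Rc) ?_
          rw [← ht1, hS, map_sum]
          exact Finset.sum_congr rfl fun p _ => by rw [hev, one_smul]
        have key : ∀ r : R, (C * α r) • (∑ p ∈ S, α p.1 • D (α p.2)) + (C * C) • D (α r) =
            (C * α r) • (∑ p ∈ S, α p.2 • D (α p.1)) := fun r => by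
          have h1 : ∑ q ∈ S, α q.1 • (C • D (α (r * q.2))) =
              (C * α r) • (∑ p ∈ S, α p.1 • D (α p.2)) + (C * C) • D (α r) := by
            simp only [α, map_mul, Derivation.leibniz, smul_add, Finset.sum_add_distrib, smul_smul, Finset.smul_sum]
            refine congrArg₂ (· + ·) (Finset.sum_congr rfl fun p _ => ?_) ?_
            · refine congrArg (fun a : Rc => a • _) ?_
              show _ = C * α r * α p.1
              ring
            rw [← Finset.sum_smul]
            refine congrArg (fun a : Rc => a • D (α r)) ?_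
            rw [show C * C = C * ∑ p ∈ S, α p.1 * α p.2 by rw [hone], Finset.mul_sum]
            exact Finset.sum_congr rfl fun p _ => by show _ = C * (α p.1 * α p.2); ring
          rw [← h1]
          simp only [← hid', Finset.smul_sum, smul_smul]
          rw [Finset.sum_comm]
          refine Finset.sum_congr rfl fun p _ => ?_
          rw [← Finset.sum_smul]
          refine congrArg (fun a : Rc => a • D (α p.1)) ?_
          have h2 : ∑ q ∈ S, α q.1 * algebraMap B Rc (tr (p.2 * (r * q.2))) = α (c' * (p.2 * r)) := by
            rw [← hid (p.2 * r), show α = algebraMap R Rc from rfl, map_sum]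
            refine Finset.sum_congr rfl fun q _ => ?_
            rw [map_mul, ← IsScalarTower.algebraMap_apply, show p.2 * (r * q.2) = q.2 * (p.2 * r) by ring]
          rw [h2, show α (c' * (p.2 * r)) = α c' * (α p.2 * α r) by simp only [α, map_mul],
            show C = α c' from IsScalarTower.algebraMap_apply B R Rc c₀]
          ring
        have k1 := key 1
        simp only [α, map_one, Derivation.map_one_eq_zero, smul_zero, add_zero, mul_one] at k1
        have k2 := key r
        rw [(hcu.smul_left_cancel).1 k1, add_eq_left] at k2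
        exact (hcu.mul hcu).smul_eq_zero.1 k2
      obtain ⟨⟨r, s⟩, hz⟩ := IsLocalization.surj (Algebra.algebraMapSubmonoid R (Submonoid.powers c₀)) z
      obtain ⟨_, ⟨b, hb, hbe⟩⟩ := s
      have h := congrArg D hz
      simp only [← hbe, ← IsScalarTower.algebraMap_apply B R Rc, Derivation.leibniz, Derivation.map_algebraMap,
        smul_zero, zero_add, h0] at h
      show D z ∈ (⊥ : Submodule Rc _)
      rw [Submodule.mem_bot]
      obtain ⟨n, rfl⟩ := hb
      rw [map_pow] at h
      exact (hcu.pow n).smul_eq_zero.1 (h.trans (h0 r))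
    haveI : Algebra.Etale B Rc := by
      rw [← RingHom.etale_algebraMap, RingHom.Etale.iff_flat_and_formallyUnramified]
      haveI : Algebra.FiniteType R Rc := haveI : Algebra.FinitePresentation R Rc := IsLocalization.Away.finitePresentation c'
        inferInstance
      haveI : Algebra.FiniteType B Rc := Algebra.FiniteType.trans (inferInstance : Algebra.FiniteType B R) inferInstance
      exact ⟨RingHom.flat_algebraMap_iff.2 hflat, RingHom.formallyUnramified_algebraMap.2 hunr,
        RingHom.finitePresentation_algebraMap.2 (Algebra.FinitePresentation.of_finiteType.1 inferInstance)⟩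
    let Rm := Localization.AtPrime m
    have hle : Submonoid.powers c' ≤ m.primeCompl := Submonoid.powers_le.2 hc'm
    let j : Rc →ₐ[R] Rm := IsLocalization.liftAlgHom (M := Submonoid.powers c') (f := Algebra.ofId R Rm) fun y =>
      IsLocalization.map_units Rm (⟨y, hle y.2⟩ : m.primeCompl)
    letI : Algebra Rc Rm := j.toRingHom.toAlgebra
    haveI : IsScalarTower R Rc Rm := IsScalarTower.of_algebraMap_eq fun r => (j.commutes r).symm
    haveI : IsScalarTower B Rc Rm := IsScalarTower.of_algebraMap_eq fun b => by
      rw [IsScalarTower.algebraMap_apply B R Rm, IsScalarTower.algebraMap_apply B R Rc, ← IsScalarTower.algebraMap_apply R Rc Rm]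
    haveI := IsLocalization.isLocalization_of_submonoid_le Rc Rm (Submonoid.powers c') m.primeCompl hle
    haveI : Algebra.FormallyEtale Rc Rm := Algebra.FormallyEtale.of_isLocalization (m.primeCompl.map (algebraMap R Rc))
    exact Algebra.FormallyEtale.comp B Rc Rm

end Groth.Agent.S19402
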