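import Groth.Statements.S19403
import Groth.Agent.Lib.GLSlice.Zmt
import Groth.Agent.Lib.GLSlice.Cartier
import Groth.Agent.Lib.QFEnvelope.Basic

set_option autoImplicit false
universe u
open TensorProduct
open GLin

namespace Groth.Agent.S19403

/-- The equivariant form of Zariski's Main Theorem. Let k be an algebraically closed field of
characteristic zero, A a finitely generated commutative Hopf algebra over k all of whose
finite-dimensional comodules are semisimple (a reductive group G), R and S finitely generated
commutative k-algebras with multiplicative A-coactions (G acting on the affine schemes X = Spec R, Y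
= Spec S), and S → R an algebra map compatible with the coactions (a G-morphism φ : X → Y) which is
quasi-finite. Then there exist a finitely generated commutative k-algebra B with a multiplicative
A-coaction (an affine G-scheme Z), an algebra map ψ : S → B compatible with the coactions and
finite, and an algebra map i : B → R compatible with the coactions such that Spec R → Spec B is an
open immersion, with i ∘ ψ the given map S → R (φ factors as an equivariant open immersion followed
by a finite G-morphism). -/
theorem result (k : Type u) [Field k] [IsAlgClosed k] [CharZero k]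
    (A : Type u) [CommRing A] [HopfAlgebra k A] [Algebra.FiniteType k A] (hG : HopfRep.IsLinearlyReductive k A)
    (S : Type u) [CommRing S] [Algebra k S] [Algebra.FiniteType k S] [HopfRep.Comod k A S] [GLin.IsCoactAlg k A S]
    (R : Type u) [CommRing R] [Algebra k R] [Algebra.FiniteType k R] [HopfRep.Comod k A R] [GLin.IsCoactAlg k A R]
    [Algebra S R] [IsScalarTower k S R] [Algebra.QuasiFinite S R]
    (hequiv : (∀ s : S, HopfRep.Comod.coact (k := k) (A := A) (algebraMap S R s) =
      Algebra.TensorProduct.map (IsScalarTower.toAlgHom k S R) (AlgHom.id k A) (HopfRep.Comod.coact (k := k) (A := A) s))) :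
    ∃ (B : Type u) (_ : CommRing B) (_ : Algebra k B) (_ : HopfRep.Comod k A B) (_ : GLin.IsCoactAlg k A B),
      Algebra.FiniteType k B ∧
      ∃ (ψ : S →ₐ[k] B) (i : B →ₐ[k] R),
        (∀ s : S, HopfRep.Comod.coact (k := k) (A := A) (ψ s) =
        Algebra.TensorProduct.map ψ (AlgHom.id k A) (HopfRep.Comod.coact (k := k) (A := A) s)) ∧
        (∀ s : B, HopfRep.Comod.coact (k := k) (A := A) (i s) =
        Algebra.TensorProduct.map i (AlgHom.id k A) (HopfRep.Comod.coact (k := k) (A := A) s)) ∧
        i.comp ψ = IsScalarTower.toAlgHom k S R ∧ ψ.toRingHom.Finite ∧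
        AlgebraicGeometry.IsOpenImmersion (AlgebraicGeometry.Spec.map (CommRingCat.ofHom i.toRingHom)) := by
  classical
  haveI : IsReduced A := GrothLib.GLSlice.isReduced_of_charZero k A
  have hf := GrothLib.GLSlice.isEquiv_of_map (IsScalarTower.toAlgHom k S R) hequiv
  haveI : Algebra.FiniteType S R := Algebra.FiniteType.of_restrictScalars_finiteType k S R
  obtain ⟨gens, hgens⟩ := (Algebra.FiniteType.out : (⊤ : Subalgebra k R).FG)
  have hzmt : ∀ p : PrimeSpectrum R, ∃ r ∉ p.asIdeal, IsIntegral S r ∧ ∀ x, ∃ m, IsIntegral S (r ^ m * x) := fun p =>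
    Algebra.zariskisMainProperty_iff.1 (Algebra.ZariskisMainProperty.of_finiteType (R := S) p.asIdeal)
  choose r hrp hr hrx using hzmt
  have htop : Ideal.span (Set.range r) = ⊤ := by
    by_contra hne
    obtain ⟨M, hM, hle⟩ := Ideal.exists_le_maximal _ hne
    exact hrp ⟨M, hM.isPrime⟩ (hle (Ideal.subset_span ⟨_, rfl⟩))
  obtain ⟨T, hT, h1⟩ := Submodule.mem_span_finite_of_mem_span (htop ▸ Submodule.mem_top : (1 : R) ∈ Ideal.span (Set.range r))
  choose pt hpt using fun t : T => hT t.2
  choose e he using hrx
  let F : Finset R := T ∪ (Finset.univ ×ˢ gens).image fun q : T × R => r (pt q.1) ^ e (pt q.1) q.2 * q.2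
  obtain ⟨B, hFB, hBfin, hBact, hBsub⟩ := GrothLib.GLSlice.exists_stable_finite_subalgebra hf F fun a ha => by
    rcases Finset.mem_union.1 ha with h | h
    · have hh := hr (pt ⟨a, h⟩)
      rw [hpt] at hh
      exact hh
    · obtain ⟨q, -, rfl⟩ := Finset.mem_image.1 h
      exact he _ _
  have hTB : ∀ t : T, (t : R) ∈ B := fun t => hFB (Finset.mem_union_left _ t.2)
  have hpow : ∀ (t : T) (a : R), ∃ n, (t : R) ^ n * a ∈ B := by
    intro t a
    have ha : a ∈ Algebra.adjoin k (↑gens : Set R) := hgens ▸ Algebra.mem_top
    induction ha using Algebra.adjoin_induction with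
    | mem b hb =>
      refine ⟨e (pt t) b, hFB (Finset.mem_union_right _ (Finset.mem_image.2 ⟨(t, b), Finset.mem_product.2 ⟨Finset.mem_univ _, hb⟩, ?_⟩))⟩
      rw [hpt t]
    | algebraMap c => exact ⟨0, by rw [pow_zero, one_mul, IsScalarTower.algebraMap_apply k S R]; exact B.algebraMap_mem _⟩
    | add a b _ _ ha hb =>
      obtain ⟨n, hn⟩ := ha; obtain ⟨l, hl⟩ := hb
      refine ⟨n + l, ?_⟩
      rw [mul_add, pow_add, mul_right_comm, mul_assoc ((t : R) ^ n) ((t : R) ^ l) b]
      exact B.add_mem (B.mul_mem hn (pow_mem (hTB t) l)) (B.mul_mem (pow_mem (hTB t) n) hl)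
    | mul a b _ _ ha hb =>
      obtain ⟨n, hn⟩ := ha; obtain ⟨l, hl⟩ := hb
      exact ⟨n + l, by rw [pow_add, mul_mul_mul_comm]; exact B.mul_mem hn hl⟩
  let cB := GrothLib.GLSlice.subComod (B.restrictScalars k) hBsub
  let _ : HopfRep.Comod k A B := cB
  have hj : ∀ b : B, HopfRep.Comod.coact (k := k) (A := A) (B.val.restrictScalars k b) =
      Algebra.TensorProduct.map (B.val.restrictScalars k) (AlgHom.id k A) (HopfRep.Comod.coact (k := k) (A := A) b) :=
    GrothLib.GLSlice.subComod_isEquiv (B.restrictScalars k) hBsub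
  refine ⟨B, inferInstance, inferInstance, cB, GrothLib.GLSlice.subComod_isCoactAlg (B.restrictScalars k) hBsub,
    Algebra.FiniteType.trans (S := S) inferInstance inferInstance, IsScalarTower.toAlgHom k S B, B.val.restrictScalars k,
    fun s => ?_, hj, rfl, RingHom.finite_algebraMap.2 hBfin, ?_⟩
  · have hinjT : Function.Injective (Algebra.TensorProduct.map (B.val.restrictScalars k) (AlgHom.id k A)) :=
      Module.Flat.rTensor_preserves_injective_linearMap (M := A) (B.val.restrictScalars k).toLinearMap Subtype.val_injective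
    refine hinjT ((hj _).symm.trans ((hequiv s).trans ?_))
    rw [← AlgHom.comp_apply (Algebra.TensorProduct.map _ _) (Algebra.TensorProduct.map _ _), ← Algebra.TensorProduct.map_comp]
    rfl
  · refine GrothLib.QFEnvelope.isOpenImmersion_Spec_map _ (Set.range fun t : T => (⟨t, hTB t⟩ : B)) ?_ ?_
    · rw [← Set.range_comp, eq_top_iff, ← Ideal.span_singleton_one]
      exact Ideal.span_le.2 (Set.singleton_subset_iff.2 (Ideal.span_mono (fun (w : R) (hw : w ∈ (T : Set R)) => (⟨⟨w, hw⟩, rfl⟩ : w ∈ Set.range ((B.val.restrictScalars k).toRingHom ∘ fun t : T => (⟨t, hTB t⟩ : B)))) h1))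
    · rintro _ ⟨t, rfl⟩
      refine ⟨IsLocalization.map_injective_of_injective _ _ _ Subtype.val_injective, ?_⟩
      rw [Localization.awayMap_surjective_iff]
      intro a
      obtain ⟨n, hn⟩ := hpow t a
      exact ⟨⟨_, hn⟩, n, rfl⟩

end Groth.Agent.S19403
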