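import Groth.Statements.S19406
import Groth.Agent.Lib.GLSlice.CharStab

set_option autoImplicit false
universe u
open TensorProduct
open GLin

namespace Groth.Agent.S19406

open scoped TensorProduct

/-- Let k be an algebraically closed field of characteristic zero, A a finitely generated commutative
Hopf algebra over k which is an integral domain and all of whose finite-dimensional comodules are
semisimple (a connected reductive group G), R a reduced finitely generated commutative k-algebra
with a multiplicative A-coaction (G acting on the affine variety X = Spec R), and χ a group-like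
element of A (a character of G). Then there is a set E of G-invariant functions on X such that, for
every k-point x of X whose orbit is closed, χ − 1 lies in the stabilizer ideal of x (χ is trivial on
the stabilizer of x) if and only if some member of E does not vanish at x: the set of points of X//G
over which the closed orbit has stabilizer on which χ is trivial is open. (The published statement
allows any reductive G; this row assumes G connected, the case the source's argument covers.) -/
theorem result (k : Type u) [Field k] [IsAlgClosed k] [CharZero k]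
    (A : Type u) [CommRing A] [IsDomain A] [HopfAlgebra k A] [Algebra.FiniteType k A] (hG : HopfRep.IsLinearlyReductive k A)
    (R : Type u) [CommRing R] [IsReduced R] [Algebra k R] [Algebra.FiniteType k R] [HopfRep.Comod k A R] [GLin.IsCoactAlg k A R]
    (χ : A) (hχ : IsGroupLikeElem k χ) :
    ∃ E : Set R, E ⊆ GLin.invariants k A R ∧
      ∀ x : R →ₐ[k] k, GLin.IsClosedOrbit k A x →
        (χ - 1 ∈ GLin.stabIdeal k A x ↔ ∃ f ∈ E, x f ≠ 0) := by
  have hu : IsUnit χ := hχ.isUnit
  let ψ : A := HopfAlgebraStruct.antipode k χ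
  have hinv : χ * ψ = 1 := by
    have hm := HopfAlgebra.mul_antipode_lTensor_comul_apply (R := k) χ
    rw [hχ.comul_eq_tmul_self, hχ.counit_eq_one, map_one, LinearMap.lTensor_tmul, LinearMap.mul'_apply] at hm
    exact hm
  have hψ : IsGroupLikeElem k ψ := by
    refine ⟨?_, ?_⟩
    · have := congrArg (Bialgebra.counitAlgHom k A) hinv
      rw [map_mul, map_one, Bialgebra.counitAlgHom_apply, hχ.counit_eq_one, one_mul] at this
      exact this
    · have hc := congrArg (Bialgebra.comulAlgHom k A) hinv
      rw [map_mul, map_one, Bialgebra.comulAlgHom_apply, hχ.comul_eq_tmul_self] at hc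
      have hc' : (χ ⊗ₜ[k] χ : A ⊗[k] A) * (ψ ⊗ₜ[k] ψ) = 1 := by
        rw [Algebra.TensorProduct.tmul_mul_tmul, hinv, Algebra.TensorProduct.one_def]
      exact (left_inv_eq_right_inv ((mul_comm _ _).trans hc') hc).symm
  refine ⟨{f | ∃ s t : R, HopfRep.Comod.coact (k := k) (A := A) s = s ⊗ₜ[k] χ ∧
      HopfRep.Comod.coact (k := k) (A := A) t = t ⊗ₜ[k] ψ ∧ s * t = f}, ?_, fun x hx => ⟨fun h => ?_, ?_⟩⟩
  · rintro f ⟨s, t, hs, ht, rfl⟩
    change HopfRep.Comod.coact (k := k) (A := A) (s * t) = (s * t) ⊗ₜ[k] (1 : A)
    rw [GLin.IsCoactAlg.coact_mul, hs, ht, Algebra.TensorProduct.tmul_mul_tmul, hinv]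
  · have hψ1 : ψ - 1 ∈ GLin.stabIdeal k A x := by
      rw [show ψ - 1 = -ψ * (χ - 1) by rw [neg_mul, mul_sub, mul_comm ψ χ, hinv, mul_one, neg_sub]]
      exact Ideal.mul_mem_left _ _ h
    obtain ⟨s, hs, hsx⟩ := GrothLib.GLSlice.exists_semiinvariant hG x hχ hψ hinv
      (GrothLib.GLSlice.mem_range_of_mem_stab x hx hχ h)
    obtain ⟨t, ht, htx⟩ := GrothLib.GLSlice.exists_semiinvariant hG x hψ hχ ((mul_comm _ _).trans hinv)
      (GrothLib.GLSlice.mem_range_of_mem_stab x hx hψ hψ1)
    refine ⟨s * t, ⟨s, t, hs, ht, rfl⟩, ?_⟩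
    rw [map_mul, ← GrothLib.AffQuot.counit_orbitHom (A := A) x s, ← GrothLib.AffQuot.counit_orbitHom (A := A) x t, hsx, htx,
      hχ.counit_eq_one, hψ.counit_eq_one, one_mul]
    exact one_ne_zero
  · rintro ⟨f, ⟨s, t, hs, -, rfl⟩, hf⟩
    have hs0 : x s ≠ 0 := fun h0 => hf (by rw [map_mul, h0, zero_mul])
    have hφ : GLin.orbitHom k A x s = x s • χ := by
      rw [GrothLib.AffQuot.orbitHom_apply, GrothLib.Comodule.cfMap_apply, hs, LinearMap.rTensor_tmul, TensorProduct.lid_tmul]
      rfl
    have hmem : GLin.orbitHom k A x (s - algebraMap k R (x s)) ∈ GLin.stabIdeal k A x :=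
      Ideal.mem_map_of_mem _ (by rw [RingHom.mem_ker, map_sub, AlgHom.commutes]; exact sub_self _)
    rw [map_sub, AlgHom.commutes, hφ, Algebra.algebraMap_eq_smul_one, ← smul_sub, Algebra.smul_def] at hmem
    have hu' : IsUnit (algebraMap k A (x s)) := (IsUnit.mk0 _ hs0).map _
    exact (Ideal.unit_mul_mem_iff_mem _ hu').1 hmem

end Groth.Agent.S19406
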