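import Groth.Statements.S19408
import Groth.Agent.Lib.GLSlice.Equivariant
import Groth.Agent.Lib.Comod.Reynolds

set_option autoImplicit false
universe u
open TensorProduct
open GLin

namespace Groth.Agent.S19408

/-- Let k be an algebraically closed field of characteristic zero, A a finitely generated commutative
Hopf algebra over k all of whose finite-dimensional comodules are semisimple (a reductive group G),
S and R finitely generated commutative k-algebras with multiplicative A-coactions (G acting on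
affine Y = Spec S and X = Spec R), S → R an algebra map compatible with the coactions (a G-morphism
θ : X → Y), S₀ → S and R₀ → R injective k-algebra maps whose images are the subrings of invariants,
and S₀ → R₀ an algebra map with S₀ → R₀ → R equal to S₀ → S → R (θ/G). Suppose R is étale over S, R₀
is étale over S₀, and the canonical map S ⊗_{S₀} R₀ → R is bijective (θ and θ/G étale and X ≅ Y
×_{Y//G} X//G). Let J be an ideal of S which is a subcomodule (Y' = V(J) a closed G-invariant
subscheme), let S/J and R/JR carry A-coactions for which the quotient maps are compatible with the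
coactions (the induced actions on Y' and X' = Y' ×_Y X), and let S₁ → S/J and R₁ → R/JR be injective
k-algebra maps whose images are the subrings of invariants, with S₁ → R₁ an algebra map such that S₁
→ R₁ → R/JR equals S₁ → S/J → R/JR. Then R/JR is étale over S/J, R₁ is étale over S₁, and the
canonical map (S/J) ⊗_{S₁} R₁ → R/JR is bijective (θ' : X' → Y' and θ'/G are étale and X' ≅ Y'
×_{Y'//G} X'//G). -/
theorem result (k : Type u) [Field k] [IsAlgClosed k] [CharZero k]
    (A : Type u) [CommRing A] [HopfAlgebra k A] [Algebra.FiniteType k A] (hG : HopfRep.IsLinearlyReductive k A)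
    (S : Type u) [CommRing S] [Algebra k S] [Algebra.FiniteType k S] [HopfRep.Comod k A S] [GLin.IsCoactAlg k A S]
    (R : Type u) [CommRing R] [Algebra k R] [Algebra.FiniteType k R] [HopfRep.Comod k A R] [GLin.IsCoactAlg k A R]
    [Algebra S R] [IsScalarTower k S R]
    (hequiv : (∀ s : S, HopfRep.Comod.coact (k := k) (A := A) (algebraMap S R s) =
      Algebra.TensorProduct.map (IsScalarTower.toAlgHom k S R) (AlgHom.id k A) (HopfRep.Comod.coact (k := k) (A := A) s)))
    (S₀ : Type u) [CommRing S₀] [Algebra k S₀] [Algebra S₀ S] [IsScalarTower k S₀ S]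
    (hS₀i : Function.Injective (algebraMap S₀ S)) (hS₀ : (IsScalarTower.toAlgHom k S₀ S).range = GLin.invariants k A S)
    (R₀ : Type u) [CommRing R₀] [Algebra k R₀] [Algebra R₀ R] [IsScalarTower k R₀ R]
    (hR₀i : Function.Injective (algebraMap R₀ R)) (hR₀ : (IsScalarTower.toAlgHom k R₀ R).range = GLin.invariants k A R)
    [Algebra S₀ R₀] [Algebra S₀ R] [IsScalarTower S₀ S R] [IsScalarTower S₀ R₀ R]
    (het : Algebra.Etale S R) (het₀ : Algebra.Etale S₀ R₀)
    (hcart : Function.Bijective (Algebra.TensorProduct.productMap (IsScalarTower.toAlgHom S₀ S R) (IsScalarTower.toAlgHom S₀ R₀ R)))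
    (J : Ideal S) (hJ : HopfRep.IsSubcomod (k := k) (A := A) (J.restrictScalars k))
    [HopfRep.Comod k A (S ⧸ J)] [GLin.IsCoactAlg k A (S ⧸ J)]
    (hqS : (∀ s : S, HopfRep.Comod.coact (k := k) (A := A) ((Ideal.Quotient.mkₐ k J) s) =
        Algebra.TensorProduct.map (Ideal.Quotient.mkₐ k J) (AlgHom.id k A) (HopfRep.Comod.coact (k := k) (A := A) s)))
    [HopfRep.Comod k A (R ⧸ J.map (algebraMap S R))] [GLin.IsCoactAlg k A (R ⧸ J.map (algebraMap S R))]
    (hqR : (∀ s : R, HopfRep.Comod.coact (k := k) (A := A) ((Ideal.Quotient.mkₐ k (J.map (algebraMap S R))) s) =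
        Algebra.TensorProduct.map (Ideal.Quotient.mkₐ k (J.map (algebraMap S R))) (AlgHom.id k A) (HopfRep.Comod.coact (k := k) (A := A) s)))
    (S₁ : Type u) [CommRing S₁] [Algebra k S₁] [Algebra S₁ (S ⧸ J)] [IsScalarTower k S₁ (S ⧸ J)]
    (hS₁i : Function.Injective (algebraMap S₁ (S ⧸ J)))
    (hS₁ : (IsScalarTower.toAlgHom k S₁ (S ⧸ J)).range = GLin.invariants k A (S ⧸ J))
    (R₁ : Type u) [CommRing R₁] [Algebra k R₁] [Algebra R₁ (R ⧸ J.map (algebraMap S R))] [IsScalarTower k R₁ (R ⧸ J.map (algebraMap S R))]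
    (hR₁i : Function.Injective (algebraMap R₁ (R ⧸ J.map (algebraMap S R))))
    (hR₁ : (IsScalarTower.toAlgHom k R₁ (R ⧸ J.map (algebraMap S R))).range = GLin.invariants k A (R ⧸ J.map (algebraMap S R)))
    [Algebra S₁ R₁] [Algebra S₁ (R ⧸ J.map (algebraMap S R))]
    [IsScalarTower S₁ (S ⧸ J) (R ⧸ J.map (algebraMap S R))] [IsScalarTower S₁ R₁ (R ⧸ J.map (algebraMap S R))] :
    Algebra.Etale (S ⧸ J) (R ⧸ J.map (algebraMap S R)) ∧ Algebra.Etale S₁ R₁ ∧
      Function.Bijective (Algebra.TensorProduct.productMap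
        (IsScalarTower.toAlgHom S₁ (S ⧸ J) (R ⧸ J.map (algebraMap S R)))
        (IsScalarTower.toAlgHom S₁ R₁ (R ⧸ J.map (algebraMap S R)))) := by
  classical
  let J' : Ideal R := J.map (algebraMap S R)
  let qS : S →ₐ[k] S ⧸ J := Ideal.Quotient.mkₐ k J
  let qR : R →ₐ[k] R ⧸ J' := Ideal.Quotient.mkₐ k J'
  have heS : GrothLib.GLSlice.IsEquiv (A := A) qS := GrothLib.GLSlice.isEquiv_of_map _ hqS
  have heR : GrothLib.GLSlice.IsEquiv (A := A) qR := GrothLib.GLSlice.isEquiv_of_map _ hqR
  have hmem : ∀ a : S₀, qS (algebraMap S₀ S a) ∈ (IsScalarTower.toAlgHom k S₁ (S ⧸ J)).range := fun a => by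
    have h : algebraMap S₀ S a ∈ GLin.invariants k A S := hS₀ ▸ ⟨a, rfl⟩
    rw [hS₁, ← GrothLib.Comodule.Reynolds.reynolds_fixed hG
      (show algebraMap S₀ S a ∈ HopfRep.fixedPts k A S from h)]
    show qS.toLinearMap _ ∈ _
    rw [← GrothLib.Comodule.Reynolds.reynolds_comm hG heS]
    exact GrothLib.Comodule.Reynolds.reynolds_mem hG _
  choose πS hπS using hmem
  have hπS' : ∀ a, algebraMap S₁ (S ⧸ J) (πS a) = Ideal.Quotient.mk J (algebraMap S₀ S a) := hπS
  let πS' : S₀ →+* S₁ :=
    { toFun := πS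
      map_one' := hS₁i (by simp [hπS'])
      map_mul' := fun a b => hS₁i (by simp [hπS'])
      map_zero' := hS₁i (by simp [hπS'])
      map_add' := fun a b => hS₁i (by simp [hπS']) }
  letI aS : Algebra S₀ S₁ := πS'.toAlgebra
  haveI : IsScalarTower S₀ S₁ (S ⧸ J) := IsScalarTower.of_algebraMap_eq fun a => (hπS' a).symm
  have hmemR : ∀ b : R₀, qR (algebraMap R₀ R b) ∈ (IsScalarTower.toAlgHom k R₁ (R ⧸ J')).range := fun b => by
    have h : algebraMap R₀ R b ∈ GLin.invariants k A R := hR₀ ▸ ⟨b, rfl⟩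
    rw [hR₁, ← GrothLib.Comodule.Reynolds.reynolds_fixed hG
      (show algebraMap R₀ R b ∈ HopfRep.fixedPts k A R from h)]
    show qR.toLinearMap _ ∈ _
    rw [← GrothLib.Comodule.Reynolds.reynolds_comm hG heR]
    exact GrothLib.Comodule.Reynolds.reynolds_mem hG _
  choose πR hπR using hmemR
  have hπR' : ∀ b, algebraMap R₁ (R ⧸ J') (πR b) = Ideal.Quotient.mk J' (algebraMap R₀ R b) := hπR
  have hsurjR : Function.Surjective πR := fun r => by
    have h : algebraMap R₁ (R ⧸ J') r ∈ GLin.invariants k A (R ⧸ J') := hR₁ ▸ ⟨r, rfl⟩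
    obtain ⟨v, hv⟩ := Ideal.Quotient.mk_surjective (algebraMap R₁ (R ⧸ J') r)
    have h' : GrothLib.Comodule.Reynolds.reynolds (V := R) hG v ∈ GLin.invariants k A R :=
      GrothLib.Comodule.Reynolds.reynolds_mem hG v
    rw [← hR₀] at h'
    obtain ⟨b, hb⟩ := h'
    refine ⟨b, hR₁i ?_⟩
    rw [hπR', show algebraMap R₀ R b = _ from hb, ← GrothLib.Comodule.Reynolds.reynolds_fixed hG
      (show algebraMap R₁ (R ⧸ J') r ∈ HopfRep.fixedPts k A (R ⧸ J') from h), ← hv]
    exact (GrothLib.Comodule.Reynolds.reynolds_comm hG heR v).symm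
  -- the base change of the cartesian square to `S ⧸ J`
  set μ := Algebra.TensorProduct.productMap (IsScalarTower.toAlgHom S₀ S R) (IsScalarTower.toAlgHom S₀ R₀ R) with hμ
  let e := AlgEquiv.ofBijective μ hcart
  let ν : R →ₐ[S₀] (S ⧸ J) ⊗[S₀] R₀ :=
    (Algebra.TensorProduct.map (Ideal.Quotient.mkₐ S₀ J) (AlgHom.id S₀ R₀)).comp e.symm.toAlgHom
  haveI : IsScalarTower S₀ (S ⧸ J) (R ⧸ J') := IsScalarTower.of_algebraMap_eq fun a => by
    show Ideal.Quotient.mk J' (algebraMap S₀ R a) = Ideal.Quotient.mk J' (algebraMap S R (algebraMap S₀ S a))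
    rw [← IsScalarTower.algebraMap_apply S₀ S R]
  let μ' := Algebra.TensorProduct.productMap (IsScalarTower.toAlgHom S₀ (S ⧸ J) (R ⧸ J'))
    ((Ideal.Quotient.mkₐ S₀ J').comp (IsScalarTower.toAlgHom S₀ R₀ R))
  have hν : ∀ t, ν (μ t) = Algebra.TensorProduct.map (Ideal.Quotient.mkₐ S₀ J) (AlgHom.id S₀ R₀) t :=
    fun t => by
      show Algebra.TensorProduct.map _ _ (e.symm (e t)) = _
      rw [AlgEquiv.symm_apply_apply]
  have hνJ : ∀ r ∈ J', ν r = 0 := by
    intro r hr
    have hle : J' ≤ RingHom.ker ν.toRingHom := Ideal.map_le_iff_le_comap.2 fun s hs => by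
      show ν (algebraMap S R s) = 0
      rw [show algebraMap S R s = μ (s ⊗ₜ[S₀] 1) by simp [μ], hν, Algebra.TensorProduct.map_tmul,
        Ideal.Quotient.mkₐ_eq_mk, Ideal.Quotient.eq_zero_iff_mem.2 hs, TensorProduct.zero_tmul]
    exact hle hr
  let ν' := Ideal.Quotient.liftₐ J' ν hνJ
  have hνμ : ∀ t, ν' (μ' t) = t := fun t => by
    induction t using TensorProduct.induction_on with
    | zero => simp
    | add p q hp hq => rw [map_add, map_add, hp, hq]
    | tmul s b =>
      obtain ⟨s, rfl⟩ := Ideal.Quotient.mk_surjective s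
      show ν' (algebraMap (S ⧸ J) (R ⧸ J') (Ideal.Quotient.mk J s) * Ideal.Quotient.mk J' (algebraMap R₀ R b)) = _
      rw [show algebraMap (S ⧸ J) (R ⧸ J') (Ideal.Quotient.mk J s) = Ideal.Quotient.mk J' (algebraMap S R s) from rfl,
        ← map_mul]
      show ν (algebraMap S R s * algebraMap R₀ R b) = _
      rw [show algebraMap S R s * algebraMap R₀ R b = μ (s ⊗ₜ[S₀] b) by simp [μ], hν]
      rfl
  have hμ'inj : Function.Injective μ' := Function.LeftInverse.injective hνμ
  -- quotient invariants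
  letI aR : Algebra S₀ R₁ := ((algebraMap S₁ R₁).comp (algebraMap S₀ S₁)).toAlgebra
  haveI : IsScalarTower S₀ S₁ R₁ := IsScalarTower.of_algebraMap_eq' rfl
  have hcomm : ∀ a : S₀, πR (algebraMap S₀ R₀ a) = algebraMap S₀ R₁ a := fun a => hR₁i (by
    rw [hπR', ← IsScalarTower.algebraMap_apply S₀ R₀ R, IsScalarTower.algebraMap_apply S₀ S R]
    show _ = algebraMap R₁ (R ⧸ J') (algebraMap S₁ R₁ (algebraMap S₀ S₁ a))
    rw [← IsScalarTower.algebraMap_apply S₁ R₁ (R ⧸ J'), IsScalarTower.algebraMap_apply S₁ (S ⧸ J) (R ⧸ J'),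
      ← IsScalarTower.algebraMap_apply S₀ S₁ (S ⧸ J)]
    rfl)
  let πR' : R₀ →ₐ[S₀] R₁ :=
    { toFun := πR
      map_one' := hR₁i ((hπR' 1).trans (by rw [map_one, map_one, map_one]))
      map_mul' := fun a b => hR₁i ((hπR' _).trans (by rw [map_mul, map_mul, map_mul, hπR', hπR']))
      map_zero' := hR₁i ((hπR' 0).trans (by rw [map_zero, map_zero, map_zero]))
      map_add' := fun a b => hR₁i ((hπR' _).trans (by rw [map_add, map_add, map_add, hπR', hπR']))
      commutes' := hcomm }
  haveI := het₀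
  haveI := het
  have het' : Algebra.Etale (S ⧸ J) (R ⧸ J') :=
    Algebra.Etale.of_equiv (Algebra.TensorProduct.quotIdealMapEquivQuotTensor R J).symm
  let ψ : S₁ ⊗[S₀] R₀ →ₐ[S₁] R₁ := Algebra.TensorProduct.lift (Algebra.ofId S₁ R₁) πR' fun _ _ => Commute.all _ _
  have hψt : ∀ s b, ψ (s ⊗ₜ[S₀] b) = algebraMap S₁ R₁ s * πR b := fun s b => by simp [ψ, πR', Algebra.ofId_apply]
  have hψ : Function.Bijective ψ := by
    refine ⟨fun t t' h => ?_, fun r => ?_⟩
    · let ι : S₁ ⊗[S₀] R₀ →ₗ[S₀] (S ⧸ J) ⊗[S₀] R₀ := (IsScalarTower.toAlgHom S₀ S₁ (S ⧸ J)).toLinearMap.rTensor R₀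
      haveI : Module.Flat S₀ R₀ := inferInstance
      have hι : Function.Injective ι := Module.Flat.rTensor_preserves_injective_linearMap _ hS₁i
      have key : ∀ u, μ' (ι u) = algebraMap R₁ (R ⧸ J') (ψ u) := fun u => by
        induction u using TensorProduct.induction_on with
        | zero => simp
        | add p q hp hq => simp only [map_add, hp, hq]
        | tmul s b =>
          rw [hψt, map_mul, hπR', ← IsScalarTower.algebraMap_apply S₁ R₁ (R ⧸ J'),
            IsScalarTower.algebraMap_apply S₁ (S ⧸ J) (R ⧸ J')]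
          rfl
      exact hι (hμ'inj (by rw [key, key, h]))
    · obtain ⟨b, rfl⟩ := hsurjR r
      exact ⟨1 ⊗ₜ[S₀] b, by rw [hψt, map_one, one_mul]⟩
  refine ⟨het', Algebra.Etale.of_equiv (AlgEquiv.ofBijective ψ hψ), ?_, fun r => ?_⟩
  · set μ'' := Algebra.TensorProduct.productMap (IsScalarTower.toAlgHom S₁ (S ⧸ J) (R ⧸ J'))
      (IsScalarTower.toAlgHom S₁ R₁ (R ⧸ J')) with hμ''
    let θ : (S ⧸ J) ⊗[S₀] R₀ →+ (S ⧸ J) ⊗[S₁] R₁ := TensorProduct.liftAddHom
      { toFun := fun s =>
          { toFun := fun b => s ⊗ₜ[S₁] πR b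
            map_zero' := by rw [show πR 0 = 0 from map_zero πR', TensorProduct.tmul_zero]
            map_add' := fun a b => by rw [show πR (a + b) = πR a + πR b from map_add πR' a b, TensorProduct.tmul_add] }
        map_zero' := AddMonoidHom.ext fun b => TensorProduct.zero_tmul _ _
        map_add' := fun s t => AddMonoidHom.ext fun b => TensorProduct.add_tmul _ _ _ }
      (fun a s b => by
        show (a • s) ⊗ₜ[S₁] πR b = s ⊗ₜ[S₁] πR (a • b)
        rw [show πR (a • b) = a • πR b from map_smul πR' a b, IsScalarTower.algebraMap_smul S₁ a s |>.symm,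
          ← IsScalarTower.algebraMap_smul S₁ a (πR b), TensorProduct.smul_tmul])
    have key : ∀ z, ∃ t, θ t = z := fun z => by
      induction z using TensorProduct.induction_on with
      | zero => exact ⟨0, map_zero θ⟩
      | add p q hp hq =>
        obtain ⟨t, rfl⟩ := hp
        obtain ⟨t', rfl⟩ := hq
        exact ⟨t + t', map_add θ t t'⟩
      | tmul s r =>
        obtain ⟨b, rfl⟩ := hsurjR r
        exact ⟨s ⊗ₜ[S₀] b, rfl⟩
    have hθ : ∀ t, μ'' (θ t) = μ' t := fun t => by
      induction t using TensorProduct.induction_on with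
      | zero => simp
      | add p q hp hq => rw [map_add, map_add, map_add, hp, hq]
      | tmul s b =>
        show algebraMap (S ⧸ J) (R ⧸ J') s * algebraMap R₁ (R ⧸ J') (πR b) = _
        rw [hπR']; rfl
    intro z z' h
    obtain ⟨t, rfl⟩ := key z
    obtain ⟨t', rfl⟩ := key z'
    rw [hθ, hθ] at h
    rw [hμ'inj h]
  · obtain ⟨r, rfl⟩ := Ideal.Quotient.mk_surjective r
    obtain ⟨t, rfl⟩ := hcart.2 r
    induction t using TensorProduct.induction_on with
    | zero => exact ⟨0, by simp⟩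
    | add p q hp hq =>
      obtain ⟨a, ha⟩ := hp
      obtain ⟨b, hb⟩ := hq
      exact ⟨a + b, by rw [map_add, map_add, map_add, ha, hb]⟩
    | tmul s b =>
      refine ⟨Ideal.Quotient.mk J s ⊗ₜ[S₁] πR b, ?_⟩
      show algebraMap (S ⧸ J) (R ⧸ J') (Ideal.Quotient.mk J s) * algebraMap R₁ (R ⧸ J') (πR b) =
        Ideal.Quotient.mk J' (algebraMap S R s * algebraMap R₀ R b)
      rw [hπR', map_mul]; rfl

end Groth.Agent.S19408
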