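import Groth.Statements.S19411
import Groth.Agent.Lib.GLSlice.Translate
import Groth.Agent.Lib.GLSlice.Cartier
import Mathlib.RingTheory.Coalgebra.GroupLike

set_option autoImplicit false
universe u
open TensorProduct
open GLin

namespace Groth.Agent.S19411

/-- Let k be an uncountable algebraically closed field of characteristic zero, A a finitely generated
commutative Hopf algebra over k all of whose finite-dimensional comodules are semisimple (a
reductive group G), and R a reduced finitely generated commutative k-algebra whose prime spectrum is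
connected, with a multiplicative A-coaction ρ (G acting on the connected affine scheme X = Spec R).
Let θ ∈ R ⊗ A be such that the map r ↦ ρ(r)·θ from R to R ⊗ A is coassociative and counital (a
structure of G-line bundle on the trivial line bundle of X, θ being the corresponding invertible
function on X × G). Suppose that either every unit of A is a scalar multiple of a group-like element
(every invertible function on G is a constant times a character), or every unit of R is a scalar
(every invertible function on X is constant). Then θ = 1 ⊗ χ for some group-like element χ of A: the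
G-line bundle is the one attached to the character χ. (Stated for G-line bundle structures on the
trivial bundle, the case to which the hypothesis of a trivial Picard group reduces the source's
statement; uncountability of k is what the argument uses in the first case.) -/
theorem result (k : Type u) [Field k] [IsAlgClosed k] [CharZero k] [Uncountable k]
    (A : Type u) [CommRing A] [HopfAlgebra k A] [Algebra.FiniteType k A] (hG : HopfRep.IsLinearlyReductive k A)
    (R : Type u) [CommRing R] [IsReduced R] [Algebra k R] [Algebra.FiniteType k R] [HopfRep.Comod k A R] [GLin.IsCoactAlg k A R]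
    [ConnectedSpace (PrimeSpectrum R)]
    (θ : R ⊗[k] A)
    (hassoc : (TensorProduct.assoc k R A A).toLinearMap ∘ₗ
        ((LinearMap.mulRight k θ) ∘ₗ HopfRep.Comod.coact (k := k) (A := A) (V := R)).rTensor A ∘ₗ
          ((LinearMap.mulRight k θ) ∘ₗ HopfRep.Comod.coact (k := k) (A := A) (V := R)) =
      (CoalgebraStruct.comul (R := k) (A := A)).lTensor R ∘ₗ
        ((LinearMap.mulRight k θ) ∘ₗ HopfRep.Comod.coact (k := k) (A := A) (V := R)))
    (hcounit : (CoalgebraStruct.counit (R := k) (A := A)).lTensor R ∘ₗ
        ((LinearMap.mulRight k θ) ∘ₗ HopfRep.Comod.coact (k := k) (A := A) (V := R)) =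
      (TensorProduct.mk k R k).flip 1)
    (h : (∀ u : Aˣ, ∃ (c : k) (χ : A), IsGroupLikeElem k χ ∧ (u : A) = c • χ) ∨
      (∀ u : Rˣ, (u : R) ∈ Set.range (algebraMap k R))) :
    ∃ χ : A, IsGroupLikeElem k χ ∧ θ = (1 : R) ⊗ₜ[k] χ := by
  classical
  haveI : IsReduced A := GrothLib.GLSlice.isReduced_of_charZero k A
  -- restriction to a point of `Spec R`
  let xA : (R →ₐ[k] k) → (R ⊗[k] A →ₐ[k] A) := fun x =>
    (Algebra.TensorProduct.lid k A).toAlgHom.comp (Algebra.TensorProduct.map x (AlgHom.id k A))
  have hxA : ∀ x r a, xA x (r ⊗ₜ[k] a) = x r • a := fun x r a => by simp [xA]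
  have horb : ∀ (x : R →ₐ[k] k) r, GLin.orbitHom k A x r = xA x (HopfRep.Comod.coact (k := k) (A := A) r) :=
    fun x r => rfl
  have hext : ∀ t t' : R ⊗[k] A, (∀ x, xA x t = xA x t') → t = t' := by
    intro t t' h
    let b := Module.Free.chooseBasis k A
    refine (TensorProduct.equivFinsuppOfBasisRight b).injective (Finsupp.ext fun i => ?_)
    refine GrothLib.GLSlice.eq_of_forall_point (k := k) fun x => ?_
    have h1 : ∀ s : R ⊗[k] A, x (TensorProduct.equivFinsuppOfBasisRight b s i) = b.repr (xA x s) i := fun s => by
      induction s using TensorProduct.induction_on with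
      | zero => simp
      | add p q hp hq => simp only [map_add, Finsupp.add_apply, hp, hq]
      | tmul p q =>
        rw [TensorProduct.equivFinsuppOfBasisRight_apply_tmul_apply, hxA, map_smul, map_smul,
          Finsupp.smul_apply, smul_eq_mul, smul_eq_mul, mul_comm]
    rw [h1, h1, h]
  have hAext : ∀ a b : A, (∀ g : A →ₐ[k] k, g a = g b) → a = b := fun a b h =>
    GrothLib.GLSlice.eq_of_forall_point (k := k) h
  set Θ : R →ₗ[k] R ⊗[k] A := LinearMap.mulRight k θ ∘ₗ HopfRep.Comod.coact (k := k) (A := A) (V := R) with hΘ
  have hΘ1 : Θ 1 = θ := by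
    rw [hΘ, LinearMap.comp_apply, GLin.IsCoactAlg.coact_one, LinearMap.mulRight_apply, one_mul]
  -- the cocycle condition on points
  have hcoc : ∀ (x : R →ₐ[k] k) (g h : A →ₐ[k] k),
      g (xA x θ) * h (xA (GLin.actPt k g x) θ) = (WithConv.toConv g * WithConv.toConv h).ofConv (xA x θ) := by
    intro x g h
    let F : R ⊗[k] (A ⊗[k] A) →ₗ[k] k :=
      (Algebra.TensorProduct.productMap x (Algebra.TensorProduct.productMap g h)).toLinearMap
    have key := congrArg F (LinearMap.congr_fun hassoc 1)
    simp only [LinearMap.comp_apply, LinearEquiv.coe_coe, hΘ1] at key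
    have h1 : ∀ w : R ⊗[k] A, F (TensorProduct.assoc k R A A (Θ.rTensor A w)) =
        g (xA x θ) * h (xA (GLin.actPt k g x) w) := fun w => by
      induction w using TensorProduct.induction_on with
      | zero => simp
      | add p q hp hq => simp only [map_add, hp, hq, mul_add]
      | tmul r a =>
        have h2 : ∀ u : R ⊗[k] A, F (TensorProduct.assoc k R A A (u ⊗ₜ[k] a)) = g (xA x u) * h a := fun u => by
          induction u using TensorProduct.induction_on with
          | zero => simp
          | add p q hp hq => simp only [map_add, TensorProduct.add_tmul, hp, hq, add_mul]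
          | tmul p q => simp [F, hxA, mul_assoc]
        rw [LinearMap.rTensor_tmul, h2, hΘ, LinearMap.comp_apply, LinearMap.mulRight_apply, map_mul, map_mul,
          hxA, map_smul, smul_eq_mul]
        rw [show g (xA x (HopfRep.Comod.coact (k := k) (A := A) r)) = GLin.actPt k g x r from rfl]
        ring
    have h3 : ∀ w : R ⊗[k] A, F ((CoalgebraStruct.comul (R := k) (A := A)).lTensor R w) =
        (WithConv.toConv g * WithConv.toConv h).ofConv (xA x w) := fun w => by
      induction w using TensorProduct.induction_on with
      | zero => simp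
      | add p q hp hq => simp only [map_add, hp, hq]
      | tmul r a =>
        rw [LinearMap.lTensor_tmul, hxA, map_smul, smul_eq_mul, AlgHom.convMul_def]
        simp only [F, AlgHom.toLinearMap_apply, Algebra.TensorProduct.productMap_apply_tmul]
        congr 1
        show _ = Algebra.TensorProduct.lmul' k (Algebra.TensorProduct.map g h (Coalgebra.comul (R := k) a))
        induction (CoalgebraStruct.comul (R := k) a) using TensorProduct.induction_on with
        | zero => simp
        | add p q hp hq => simp only [map_add, hp, hq]
        | tmul p q => simp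
    rw [h1, h3] at key
    exact key
  have hone : ∀ x : R →ₐ[k] k, ((1 : WithConv (A →ₐ[k] k)).ofConv) (xA x θ) = 1 := by
    intro x
    have key := congrArg (fun t => x (TensorProduct.rid k R t)) (LinearMap.congr_fun hcounit 1)
    simp only [LinearMap.comp_apply, hΘ1, LinearMap.flip_apply, TensorProduct.mk_apply, TensorProduct.rid_tmul,
      one_smul, map_one] at key
    have h1 : ∀ t : R ⊗[k] A, x (TensorProduct.rid k R ((CoalgebraStruct.counit (R := k) (A := A)).lTensor R t)) =
        ((1 : WithConv (A →ₐ[k] k)).ofConv) (xA x t) := fun t => by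
      induction t using TensorProduct.induction_on with
      | zero => simp
      | add p q hp hq => simp only [map_add, hp, hq]
      | tmul p q => simp [hxA, AlgHom.convOne_def, mul_comm]
    rw [← h1]; exact key
  have hne : ∀ (x : R →ₐ[k] k) (g : A →ₐ[k] k), g (xA x θ) ≠ 0 := by
    intro x g h0
    have := hcoc x g ((WithConv.toConv g)⁻¹).ofConv
    rw [h0, zero_mul, WithConv.toConv_ofConv, mul_inv_cancel, hone] at this
    exact zero_ne_one this
  -- it is enough to find one character
  suffices hχ : ∃ χ : A, IsGroupLikeElem k χ ∧ ∀ x : R →ₐ[k] k, xA x θ = χ by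
    obtain ⟨χ, hχ, hx⟩ := hχ
    exact ⟨χ, hχ, hext _ _ fun x => by rw [hx, hxA, map_one, one_smul]⟩
  haveI : Nontrivial R :=
    PrimeSpectrum.nonempty_iff_nontrivial.1 (ConnectedSpace.toNonempty (α := PrimeSpectrum R))
  obtain ⟨x₀, -⟩ := GrothLib.AffQuot.exists_point (k := k) (B := R) (I := ⊥) bot_ne_top
  rcases h with hA | hR
  · have hgl : ∀ x, IsGroupLikeElem k (xA x θ) := by
      intro x
      have hu : IsUnit (xA x θ) := by
        by_contra hnu
        obtain ⟨g, hg⟩ := GrothLib.AffQuot.exists_point (k := k) (I := Ideal.span {xA x θ})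
          (by rwa [Ne, Ideal.span_singleton_eq_top])
        exact hne x g (hg _ (Ideal.mem_span_singleton_self _))
      obtain ⟨c, χ, hχ, hc⟩ := hA hu.unit
      rw [IsUnit.unit_spec] at hc
      have h1 := hone x
      rw [hc, map_smul, smul_eq_mul] at h1
      rw [show ((1 : WithConv (A →ₐ[k] k)).ofConv) χ = Coalgebra.counit (R := k) χ by simp [AlgHom.convOne_def],
        hχ.counit_eq_one, mul_one] at h1
      rw [hc, h1, one_smul]; exact hχ
    refine ⟨xA x₀ θ, hgl x₀, fun x => ?_⟩
    let b := Module.Basis.extend (linearIndepOn_isGroupLikeElem (R := k) (A := A))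
    have hb : ∀ i, b i = (i : A) := fun i => Module.Basis.extend_apply_self _ i
    let i₀ : (linearIndepOn_isGroupLikeElem (R := k) (A := A)).extend (Set.subset_univ _) :=
      ⟨xA x₀ θ, Module.Basis.subset_extend _ (hgl x₀)⟩
    let r : R := TensorProduct.rid k R ((b.coord i₀).lTensor R θ)
    have hr : ∀ y : R →ₐ[k] k, y r = b.repr (xA y θ) i₀ := fun y => by
      have h1 : ∀ t : R ⊗[k] A, y (TensorProduct.rid k R ((b.coord i₀).lTensor R t)) = b.repr (xA y t) i₀ :=
        fun t => by
          induction t using TensorProduct.induction_on with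
          | zero => simp
          | add p q hp hq => simp only [map_add, Finsupp.add_apply, hp, hq]
          | tmul p q => simp [hxA, mul_comm]
      exact h1 θ
    have hval : ∀ y : R →ₐ[k] k, y r = if xA y θ = xA x₀ θ then 1 else 0 := fun y => by
      let i : (linearIndepOn_isGroupLikeElem (R := k) (A := A)).extend (Set.subset_univ _) :=
        ⟨xA y θ, Module.Basis.subset_extend _ (hgl y)⟩
      rw [hr, show xA y θ = b i from (hb i).symm, Module.Basis.repr_self, Finsupp.single_apply, hb]
      exact if_congr Subtype.ext_iff rfl rfl
    have hidem : IsIdempotentElem r := GrothLib.GLSlice.eq_of_forall_point (k := k) fun y => by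
      rw [map_mul, hval]; split_ifs <;> simp
    have hr1 : r = 1 := by
      have hclopen : IsClopen (PrimeSpectrum.basicOpen r : Set (PrimeSpectrum R)) :=
        PrimeSpectrum.isClopen_iff.2 ⟨r, hidem, rfl⟩
      rcases isClopen_iff.1 hclopen with h0 | h1
      · exfalso
        have hx₀ : RingHom.ker x₀.toRingHom ∈ ({P : Ideal R | P.IsPrime}) := RingHom.ker_isPrime _
        have : (⟨RingHom.ker x₀.toRingHom, hx₀⟩ : PrimeSpectrum R) ∈ (PrimeSpectrum.basicOpen r : Set _) := by
          show r ∉ RingHom.ker x₀.toRingHom
          rw [RingHom.mem_ker, show x₀.toRingHom r = x₀ r from rfl, hval, if_pos rfl]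
          exact one_ne_zero
        rw [h0] at this
        exact this
      · have hu : IsUnit r := by
          by_contra hnu
          obtain ⟨P, hP, hrP⟩ := Ideal.exists_le_maximal (Ideal.span {r}) (by rwa [Ne, Ideal.span_singleton_eq_top])
          have : (⟨P, hP.isPrime⟩ : PrimeSpectrum R) ∈ (PrimeSpectrum.basicOpen r : Set _) := h1 ▸ Set.mem_univ _
          exact this (hrP (Ideal.mem_span_singleton_self _))
        exact hu.mul_left_cancel (hidem.trans (mul_one r).symm)
    have := hval x
    rw [hr1, map_one] at this
    by_contra hx
    rw [if_neg hx] at this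
    exact one_ne_zero this
  · have hconst : ∀ (x : R →ₐ[k] k) (g : A →ₐ[k] k), g (xA x θ) = g (xA x₀ θ) := by
      intro x g
      let r : R := TensorProduct.rid k R (g.toLinearMap.lTensor R θ)
      have hr : ∀ y : R →ₐ[k] k, y r = g (xA y θ) := fun y => by
        have h1 : ∀ t : R ⊗[k] A, y (TensorProduct.rid k R (g.toLinearMap.lTensor R t)) = g (xA y t) := fun t => by
          induction t using TensorProduct.induction_on with
          | zero => simp
          | add p q hp hq => simp only [map_add, hp, hq]
          | tmul p q => simp [hxA, mul_comm]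
        exact h1 θ
      have hu : IsUnit r := by
        by_contra hnu
        obtain ⟨y, hy⟩ := GrothLib.AffQuot.exists_point (k := k) (I := Ideal.span {r})
          (by rwa [Ne, Ideal.span_singleton_eq_top])
        exact hne y g (by rw [← hr]; exact hy _ (Ideal.mem_span_singleton_self _))
      obtain ⟨c, hc⟩ := hR hu.unit
      rw [IsUnit.unit_spec] at hc
      rw [← hr, ← hr, ← hc, AlgHom.commutes, AlgHom.commutes]
    refine ⟨xA x₀ θ, ⟨?_, ?_⟩, fun x => hAext _ _ (hconst x)⟩
    · have := hone x₀
      rwa [show ((1 : WithConv (A →ₐ[k] k)).ofConv) (xA x₀ θ) = Coalgebra.counit (R := k) (xA x₀ θ) by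
        simp [AlgHom.convOne_def]] at this
    · set u := xA x₀ θ
      let b := Module.Free.chooseBasis k A
      refine (TensorProduct.equivFinsuppOfBasisRight b).injective (Finsupp.ext fun i => hAext _ _ fun g => ?_)
      let lg : A ⊗[k] A →ₗ[k] A := (TensorProduct.lid k A).toLinearMap ∘ₗ g.toLinearMap.rTensor A
      have h1 : ∀ t : A ⊗[k] A, g (TensorProduct.equivFinsuppOfBasisRight b t i) = b.repr (lg t) i := fun t => by
        induction t using TensorProduct.induction_on with
        | zero => simp
        | add p q hp hq => simp only [map_add, Finsupp.add_apply, hp, hq]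
        | tmul p q => simp [lg, TensorProduct.equivFinsuppOfBasisRight_apply_tmul_apply, mul_comm]
      rw [h1, h1]
      refine congrArg (fun a => b.repr a i) (hAext _ _ fun h => ?_)
      have h2 : ∀ t : A ⊗[k] A, h (lg t) = Algebra.TensorProduct.lmul' k (Algebra.TensorProduct.map g h t) := fun t => by
        induction t using TensorProduct.induction_on with
        | zero => simp
        | add p q hp hq => simp only [map_add, hp, hq]
        | tmul p q => simp [lg]
      rw [h2, h2, Algebra.TensorProduct.map_tmul, Algebra.TensorProduct.lmul'_apply_tmul]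
      have := hcoc x₀ g h
      rw [hconst (GLin.actPt k g x₀) h, AlgHom.convMul_def] at this
      exact this.symm

end Groth.Agent.S19411
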