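import Groth.Statements.S19412
import Groth.Agent.Lib.GLSlice.Equivariant

set_option autoImplicit false
universe u
open TensorProduct
open GLin

namespace Groth.Agent.S19412

/-- Let k be an algebraically closed field of characteristic zero, A a finitely generated commutative
Hopf algebra over k (an algebraic group G), S and R finitely generated commutative k-algebras with
multiplicative A-coactions (G acting on affine Y = Spec S, X = Spec R), S → R an algebra map
compatible with the coactions (a G-morphism φ : X → Y), S₀ → S and R₀ → R injective k-algebra maps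
whose images are the subrings of invariants, and S₀ → R₀ an algebra map with S₀ → R₀ → R equal to S₀
→ S → R (φ/G). Suppose R₀ is étale over S₀ and the canonical map S ⊗_{S₀} R₀ → R is bijective (φ is
strongly étale: φ/G étale and X ≅ Y ×_{Y//G} X//G). Then R is étale over S (φ étale), and for every
k-point x of X: every k-point of G fixing the image point φ(x) fixes x (φ restricted to the orbit of
x is injective), and the orbit of x is closed if and only if the orbit of φ(x) is closed. (The
published item also asserts that φ is surjective; that fails when φ is the inclusion of a proper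
saturated open subset, which is strongly étale, so surjectivity is not asserted here.) -/
theorem result (k : Type u) [Field k] [IsAlgClosed k] [CharZero k]
    (A : Type u) [CommRing A] [HopfAlgebra k A] [Algebra.FiniteType k A]
    (S : Type u) [CommRing S] [Algebra k S] [Algebra.FiniteType k S] [HopfRep.Comod k A S] [GLin.IsCoactAlg k A S]
    (R : Type u) [CommRing R] [Algebra k R] [Algebra.FiniteType k R] [HopfRep.Comod k A R] [GLin.IsCoactAlg k A R]
    [Algebra S R] [IsScalarTower k S R]
    (hequiv : (∀ s : S, HopfRep.Comod.coact (k := k) (A := A) (algebraMap S R s) =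
      Algebra.TensorProduct.map (IsScalarTower.toAlgHom k S R) (AlgHom.id k A) (HopfRep.Comod.coact (k := k) (A := A) s)))
    (S₀ : Type u) [CommRing S₀] [Algebra k S₀] [Algebra S₀ S] [IsScalarTower k S₀ S]
    (hS₀i : Function.Injective (algebraMap S₀ S)) (hS₀ : (IsScalarTower.toAlgHom k S₀ S).range = GLin.invariants k A S)
    (R₀ : Type u) [CommRing R₀] [Algebra k R₀] [Algebra R₀ R] [IsScalarTower k R₀ R]
    (hR₀i : Function.Injective (algebraMap R₀ R)) (hR₀ : (IsScalarTower.toAlgHom k R₀ R).range = GLin.invariants k A R)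
    [Algebra S₀ R₀] [Algebra S₀ R] [IsScalarTower S₀ S R] [IsScalarTower S₀ R₀ R]
    (het₀ : Algebra.Etale S₀ R₀)
    (hcart : Function.Bijective (Algebra.TensorProduct.productMap (IsScalarTower.toAlgHom S₀ S R) (IsScalarTower.toAlgHom S₀ R₀ R))) :
    Algebra.Etale S R ∧
      ∀ x : R →ₐ[k] k,
        (∀ g : A →ₐ[k] k, GLin.actPt k g (x.comp (IsScalarTower.toAlgHom k S R)) = x.comp (IsScalarTower.toAlgHom k S R) →
          GLin.actPt k g x = x) ∧
        (GLin.IsClosedOrbit k A x ↔ GLin.IsClosedOrbit k A (x.comp (IsScalarTower.toAlgHom k S R))) := by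
  have hf : GrothLib.GLSlice.IsEquiv (A := A) (IsScalarTower.toAlgHom k S R) :=
    GrothLib.GLSlice.isEquiv_of_map _ hequiv
  set φ := IsScalarTower.toAlgHom k S R with hφ
  set μ := Algebra.TensorProduct.productMap (IsScalarTower.toAlgHom S₀ S R) (IsScalarTower.toAlgHom S₀ R₀ R) with hμ
  have hμt : ∀ s b, μ (s ⊗ₜ[S₀] b) = algebraMap S R s * algebraMap R₀ R b := fun s b => by simp [μ]
  let eS : (S ⊗[S₀] R₀) →ₐ[S] R :=
    { μ.toRingHom with
      commutes' := fun s => by
        show μ (algebraMap S (S ⊗[S₀] R₀) s) = algebraMap S R s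
        rw [Algebra.TensorProduct.algebraMap_apply, hμt, map_one, mul_one]; rfl }
  refine ⟨Algebra.Etale.of_equiv (AlgEquiv.ofBijective eS hcart), fun x => ?_⟩
  have hext : ∀ y z : R →ₐ[k] k, y.comp φ = z.comp φ →
      (∀ b : R₀, y (algebraMap R₀ R b) = z (algebraMap R₀ R b)) → y = z := by
    intro y z h h'
    refine AlgHom.ext fun r => ?_
    obtain ⟨t, rfl⟩ := hcart.2 r
    induction t using TensorProduct.induction_on with
    | zero => simp
    | add p q hp hq => simp only [map_add, hp, hq]
    | tmul s b => rw [hμt, map_mul, map_mul, h']; exact congrArg (· * _) (AlgHom.congr_fun h s)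
  have hinv : ∀ b : R₀, algebraMap R₀ R b ∈ HopfRep.fixedPts k A R := fun b => by
    have h : algebraMap R₀ R b ∈ GLin.invariants k A R := hR₀ ▸ ⟨b, rfl⟩
    exact h
  have hinvS : ∀ b : S₀, algebraMap S₀ S b ∈ HopfRep.fixedPts k A S := fun b => by
    have h : algebraMap S₀ S b ∈ GLin.invariants k A S := hS₀ ▸ ⟨b, rfl⟩
    exact h
  have hgx : ∀ (g : A →ₐ[k] k) (b : R₀), GLin.actPt k g x (algebraMap R₀ R b) = x (algebraMap R₀ R b) :=
    fun g b => (GrothLib.AffQuot.Orb.cl (x := x) ⟨g, rfl⟩).invariant (hinv b)
  refine ⟨fun g hg => hext _ _ (by rw [← hf.actPt_comp, hg]) (hgx g), ?_, ?_⟩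
  · intro hx
    rw [GrothLib.AffQuot.isClosedOrbit_iff]
    intro z hz
    letI : Algebra S₀ k := (x.toRingHom.comp (algebraMap S₀ R)).toAlgebra
    have hz0 : ∀ a : S₀, z (algebraMap S₀ S a) = x (algebraMap S₀ R a) := fun a => by
      rw [hz.invariant (hinvS a), IsScalarTower.algebraMap_apply S₀ S R]; rfl
    let zS : S →ₐ[S₀] k := { z.toRingHom with commutes' := hz0 }
    let xR : R₀ →ₐ[S₀] k :=
      { x.toRingHom.comp (algebraMap R₀ R) with
        commutes' := fun a => congrArg x (IsScalarTower.algebraMap_apply S₀ R₀ R a).symm }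
    let y₀ := (Algebra.TensorProduct.productMap zS xR).comp (AlgEquiv.ofBijective μ hcart).symm.toAlgHom
    have hy₀ : ∀ t, y₀ (μ t) = Algebra.TensorProduct.productMap zS xR t := fun t => by
      show Algebra.TensorProduct.productMap zS xR ((AlgEquiv.ofBijective μ hcart).symm ((AlgEquiv.ofBijective μ hcart) t)) = _
      rw [AlgEquiv.symm_apply_apply]
    have hys : ∀ s, y₀ (algebraMap S R s) = z s := fun s => by
      have h := hy₀ (s ⊗ₜ[S₀] 1)
      rw [hμt, map_one, mul_one, Algebra.TensorProduct.productMap_apply_tmul, map_one, mul_one] at h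
      exact h
    let y : R →ₐ[k] k := { y₀.toRingHom with
      commutes' := fun c => by
        show y₀ (algebraMap k R c) = c
        rw [IsScalarTower.algebraMap_apply k S R, hys, AlgHom.commutes]; rfl }
    have hy : GrothLib.AffQuot.Cl k A x y := by
      rw [GrothLib.AffQuot.cl_iff]
      intro f hf0
      obtain ⟨t, rfl⟩ := hcart.2 f
      have key : ∃ f' : S, y (μ t) = z f' ∧ ∀ g : A →ₐ[k] k, GLin.actPt k g x (μ t) = GLin.actPt k g (x.comp φ) f' := by
        clear hf0
        induction t using TensorProduct.induction_on with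
        | zero => exact ⟨0, by simp, fun g => by simp⟩
        | add p q hp hq =>
          obtain ⟨a, ha, ha'⟩ := hp
          obtain ⟨b, hb, hb'⟩ := hq
          exact ⟨a + b, by rw [map_add, map_add, map_add, ha, hb], fun g => by
            rw [map_add, map_add, map_add, ha', hb']⟩
        | tmul s b =>
          refine ⟨x (algebraMap R₀ R b) • s, ?_, fun g => ?_⟩
          · show y₀ (μ (s ⊗ₜ[S₀] b)) = _
            rw [hy₀, Algebra.TensorProduct.productMap_apply_tmul, map_smul, smul_eq_mul]
            exact mul_comm (z s) _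
          · rw [hμt, map_mul, hgx, map_smul, smul_eq_mul, hf.actPt_comp, mul_comm]; rfl
      obtain ⟨f', hf', hg'⟩ := key
      rw [hf']
      refine (GrothLib.AffQuot.cl_iff.1 hz) f' fun g => ?_
      rw [GrothLib.GLSlice.apply_act, ← hg', ← GrothLib.GLSlice.apply_act]
      exact hf0 g
    obtain ⟨g, hg⟩ := (GrothLib.AffQuot.isClosedOrbit_iff x).1 hx y hy
    refine ⟨g, ?_⟩
    show GLin.actPt k g (x.comp φ) = z
    rw [hf.actPt_comp, show GLin.actPt k g x = y from hg]
    exact AlgHom.ext hys
  · intro hx
    rw [GrothLib.AffQuot.isClosedOrbit_iff]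
    intro z hz
    have hcl : GrothLib.AffQuot.Cl k A (x.comp φ) (z.comp φ) := fun s hs => hz _ (by
      rw [hf.orbitHom_comp] at hs; exact hs)
    obtain ⟨g, hg⟩ := (GrothLib.AffQuot.isClosedOrbit_iff (x.comp φ)).1 hx _ hcl
    refine ⟨g, hext _ _ ?_ fun b => ?_⟩
    · show (GLin.actPt k g x).comp φ = _
      rw [← hf.actPt_comp]; exact hg
    · exact (hgx g b).trans (hz.invariant (hinv b)).symm

end Groth.Agent.S19412
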