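import Groth.Statements.S19415
import Groth.Agent.Lib.WeilCoh.Projector

set_option autoImplicit false
universe u v
open CategoryTheory AlgebraicGeometry
open WeilCoh

namespace Groth.Agent.S19415

/-- Let H be a Weil cohomology theory with coefficients in a field K of characteristic zero on
nonsingular connected projective varieties over an algebraically closed field k, X such a variety of
dimension n, P = X × X with its projections p, q, and F : X → X an endomorphism such that the
characteristic polynomials of F^* on the cohomology groups H^i(X), i ∈ ℤ, are pairwise coprime in
K[T]. Then for every i the i-th Künneth projector of X is given by an algebraic correspondence with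
coefficients in K: there is a class u in H^{2n}(P), lying in the K-linear span of the classes of
closed irreducible subsets of P, whose action β ↦ q_*(p^*(β) · u) is the identity on H^i(X) and zero
on H^j(X) for every j ≠ i (push-forward q_* taken on the homogeneous piece of degree j + 2n). The
published statement has rational coefficients, X defined over a finite field and F its Frobenius
endomorphism, the coprimality of the characteristic polynomials being deduced there from the Riemann
hypothesis over finite fields and from the independence of these polynomials of the cohomology
theory; here that coprimality is the hypothesis and F is any endomorphism. -/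
theorem result (k : Type u) [Field k]
    [IsAlgClosed k] (K : Type v) [Field K] [CharZero K] (T : WeilCoh.Theory k K)
    (X P : WeilCoh.Var k) (p q : P ⟶ X) (hP : WeilCoh.IsProd p q) (F : X ⟶ X)
    (hF : ∀ i j : ℤ, i ≠ j → IsCoprime (T.pullDeg F i).charpoly (T.pullDeg F j).charpoly)
    (i : ℤ) :
    ∃ u : ↥(T.gr P (2 * (WeilCoh.dim X.obj.left : ℤ))),
      (u : T.H P) ∈ Submodule.span K (Set.range (T.cl P)) ∧
        ∀ (j : ℤ) (b : ↥(T.gr X j)),
          (T.push q (j + 2 * (WeilCoh.dim X.obj.left : ℤ))
              ⟨T.pull p (b : T.H X) * (u : T.H P),
                SetLike.mul_mem_graded (T.pull_mem p j b b.2) u.2⟩ : T.H X) =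
            if j = i then (b : T.H X) else 0 := by
  exact GrothLib.WeilCoh.exists_projector T p q hP F hF i

end Groth.Agent.S19415
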