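import Groth.Statements.S19418
import Groth.Agent.Lib.WeilCoh.Nilpotent

set_option autoImplicit false
universe u v
open CategoryTheory AlgebraicGeometry
open WeilCoh

namespace Groth.Agent.S19418

/-- Key step, cohomological form: let H be a Weil cohomology theory with coefficients in a field K of
characteristic zero on nonsingular connected projective varieties over an algebraically closed field
k, X such a variety of dimension n, P = X × X with projections p, q and the swap automorphism σ (σ p
= q, σ q = p); the identity dim P = 2n is carried as the arithmetic hypothesis hdim. A class u ∈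
H^{2n}(P) acts as a degree-0 correspondence on each H^j(X), 0 ≤ j ≤ 2n, by β ↦ q_*(p^*(β) · u); call
u algebraic when it lies in the K-linear span of the classes of closed irreducible subsets of P, and
let A be the K-subalgebra of ∏_j End_K(H^j(X)) generated by the actions of the algebraic classes in
H^{2n}(P). If u is algebraic and ψ ∘ (action of u) is nilpotent for every ψ ∈ A — that is, the
action of u lies in the Jacobson radical of the finite-dimensional algebra A — then u is numerically
trivial against algebraic classes: Tr_P(u · v) = 0 for every algebraic v ∈ H^{2n}(P). In the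
published argument this is the step showing that the algebra of degree-0 algebraic correspondences
modulo numerical equivalence has zero Jacobson radical, hence is semisimple; it is stated here on
the cohomological side, with the algebra generated by the correspondence actions in place of the
algebra of cycle classes. -/
theorem result (k : Type u) [Field k] [IsAlgClosed k]
    (K : Type v) [Field K] [CharZero K] (T : WeilCoh.Theory k K) (X P : WeilCoh.Var k)
    (p q : P ⟶ X) (hP : WeilCoh.IsProd p q) (σ : P ⟶ P) (hσp : σ ≫ p = q) (hσq : σ ≫ q = p)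
    (hdim : ∀ j : ℤ, j + 2 * (WeilCoh.dim X.obj.left : ℤ) + 2 * (WeilCoh.dim X.obj.left : ℤ) - 2 * (WeilCoh.dim P.obj.left : ℤ) = j)
    (u : ↥(T.gr P (2 * (WeilCoh.dim X.obj.left : ℤ)))) (hu : (u : T.H P) ∈ Submodule.span K (Set.range (T.cl P)))
    (hJ : ∀ ψ ∈ Algebra.adjoin K
          (Set.range (fun w : {w : ↥(T.gr P (2 * (WeilCoh.dim X.obj.left : ℤ))) // (w : T.H P) ∈ Submodule.span K (Set.range (T.cl P))} =>
            fun j : Fin (2 * WeilCoh.dim X.obj.left + 1) =>
              ((LinearEquiv.ofEq (T.gr X (((j : ℕ) : ℤ) + 2 * (WeilCoh.dim X.obj.left : ℤ) + 2 * (WeilCoh.dim X.obj.left : ℤ) - 2 * (WeilCoh.dim P.obj.left : ℤ))) (T.gr X ((j : ℕ) : ℤ)) (congrArg (T.gr X) (hdim ((j : ℕ) : ℤ)))).toLinearMap ∘ₗ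
              ((T.push q (((j : ℕ) : ℤ) + 2 * (WeilCoh.dim X.obj.left : ℤ))) ∘ₗ
                (((LinearMap.mulRight K (w.1 : T.H P)).restrict (p := T.gr P ((j : ℕ) : ℤ))
                    (q := T.gr P (((j : ℕ) : ℤ) + 2 * (WeilCoh.dim X.obj.left : ℤ))) (fun x hx => SetLike.mul_mem_graded hx w.1.2)) ∘ₗ
                  T.pullDeg p ((j : ℕ) : ℤ)))))),
        IsNilpotent (ψ * fun j : Fin (2 * WeilCoh.dim X.obj.left + 1) =>
          ((LinearEquiv.ofEq (T.gr X (((j : ℕ) : ℤ) + 2 * (WeilCoh.dim X.obj.left : ℤ) + 2 * (WeilCoh.dim X.obj.left : ℤ) - 2 * (WeilCoh.dim P.obj.left : ℤ))) (T.gr X ((j : ℕ) : ℤ)) (congrArg (T.gr X) (hdim ((j : ℕ) : ℤ)))).toLinearMap ∘ₗ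
              ((T.push q (((j : ℕ) : ℤ) + 2 * (WeilCoh.dim X.obj.left : ℤ))) ∘ₗ
                (((LinearMap.mulRight K (u : T.H P)).restrict (p := T.gr P ((j : ℕ) : ℤ))
                    (q := T.gr P (((j : ℕ) : ℤ) + 2 * (WeilCoh.dim X.obj.left : ℤ))) (fun x hx => SetLike.mul_mem_graded hx u.2)) ∘ₗ
                  T.pullDeg p ((j : ℕ) : ℤ))))))
    (v : ↥(T.gr P (2 * (WeilCoh.dim X.obj.left : ℤ)))) (hv : (v : T.H P) ∈ Submodule.span K (Set.range (T.cl P))) :
    T.tr P ((u : T.H P) * (v : T.H P)) = 0 := by
  exact GrothLib.WeilCoh.tr_mul_eq_zero_of_nilpotent T p q hP σ hσp hσq hdim u hJ v hv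

end Groth.Agent.S19418
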