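import Groth.Statements.S19419
-- import your own Groth.Agent.* helpers here
import Groth.Agent.Lib.CurvePoints.Basic
import Groth.Agent.Lib.CycFlat.Fibre
import Groth.Agent.Lib.RelReg.FibreLift


set_option autoImplicit false
universe u
open CategoryTheory CategoryTheory.Limits AlgebraicGeometry
open Cyc

namespace GrothAux.S19419

open CategoryTheory CategoryTheory.Limits AlgebraicGeometry GrothLib

theorem isPullback_graph {X S : Scheme.{u}} (f : X ⟶ S) (ψ : X ⟶ X) (m : pullback f f ⟶ pullback f f)
    (hm₁ : m ≫ pullback.fst f f = pullback.fst f f ≫ ψ) (hm₂ : m ≫ pullback.snd f f = pullback.snd f f)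
    (g : X ⟶ pullback f f) (hg₁ : g ≫ pullback.fst f f = 𝟙 X) (hg₂ : g ≫ pullback.snd f f = ψ) :
    IsPullback ψ g (pullback.diagonal f) m := by
  have w : ψ ≫ pullback.diagonal f = g ≫ m := by
    apply pullback.hom_ext
    · simp [hm₁, reassoc_of% hg₁]
    · simp [hm₂, hg₂]
  refine ⟨⟨w⟩, ⟨PullbackCone.IsLimit.mk _ (fun s => s.snd ≫ pullback.fst f f) (fun s => ?_) (fun s => ?_)
    (fun s q _ h2 => ?_)⟩⟩
  · have h1 := s.condition =≫ pullback.fst f f
    simp [hm₁] at h1
    simp [h1]
  · have h1 := s.condition =≫ pullback.fst f f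
    have h2 := s.condition =≫ pullback.snd f f
    simp [hm₁] at h1
    simp [hm₂] at h2
    apply pullback.hom_ext
    · simp [hg₁]
    · simp [hg₂, ← h1, h2]
  · rw [← h2, Category.assoc, hg₁, Category.comp_id]

theorem resTrdeg_id (X : Scheme.{u}) (x : X) : CycFlat.resTrdeg (𝟙 X) x = 0 := by
  letI := ((𝟙 X : X ⟶ X).residueFieldMap x).hom.toAlgebra
  haveI : Algebra.IsAlgebraic (X.residueField ((𝟙 X : X ⟶ X) x)) (X.residueField x) :=
    ⟨fun a => by
      have h : algebraMap (X.residueField ((𝟙 X : X ⟶ X) x)) (X.residueField x) a = a := by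
        show ((𝟙 X : X ⟶ X).residueFieldMap x).hom a = a
        rw [Scheme.residueFieldMap_id]; rfl
      exact h ▸ isAlgebraic_algebraMap _⟩
  exact trdeg_eq_zero

theorem resTrdeg_section {X Y : Scheme.{u}} (g : X ⟶ Y) (p : Y ⟶ X) (h : g ≫ p = 𝟙 X) (x : X) :
    CycFlat.resTrdeg g x = 0 := by
  have h1 := CycFlat.resTrdeg_comp g p x
  rw [h, resTrdeg_id] at h1
  exact (add_eq_zero.1 h1.symm).2

theorem delta_section {X Y S : Scheme.{u}} (g : X ⟶ Y) (p : Y ⟶ X) (h : g ≫ p = 𝟙 X) (f : X ⟶ S)
    {δ : Y → ℤ} (hδ : Cyc.DeltaCompat (p ≫ f) δ (fun _ => 0)) (x : X) :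
    δ (g x) = (Cardinal.toNat (CycFlat.resTrdeg f x) : ℤ) := by
  obtain ⟨n, hn, hn'⟩ := hδ (g x)
  have h1 := CycFlat.resTrdeg_comp g (p ≫ f) x
  rw [resTrdeg_section g p h, add_zero, ← Category.assoc, h, Category.id_comp] at h1
  rw [h1, show CycFlat.resTrdeg (p ≫ f) (g x) = n from hn, Cardinal.toNat_natCast]
  simpa using hn'

end GrothAux.S19419

namespace Groth.Agent.S19419

/-- Let X be a smooth proper integral curve over an algebraically closed field k, with generic point η,
and ψ : X → X a flat endomorphism over k. Let Y = X ×_k X with its two projections, m = ψ × id : Y →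
Y (first projection intertwines ψ, second projection unchanged), d : X → Y the diagonal and g = (id,
ψ) : X → Y the graph of ψ. For the dimension function δ on Y induced from weight 0 on Spec k, the
flat pull-back of cycles along m in relative dimension 0 takes the diagonal divisor [Δ], the cycle
equal to 1 at d(η) and 0 elsewhere, to the graph divisor [Γ_ψ], the cycle equal to 1 at g(η) and 0
elsewhere: (ψ × id)^*[Δ] = [Γ_ψ]. The published statement allows any endomorphism ψ and reads the
pull-back on divisors; flatness of ψ is what the flat pull-back of cycles requires (the intended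
case is the Frobenius endomorphism), and iterating gives [Γ_{ψ^n}] = ((ψ × id)^*)^n [Δ]. -/
theorem result (k : Type u) [Field k]
    [IsAlgClosed k] (X : Scheme.{u}) (f : X ⟶ Spec (CommRingCat.of k)) [Smooth f] [IsProper f]
    [IsIntegral X] (hdim : topologicalKrullDim ↥X = 1) (ψ : X ⟶ X) (hψ : ψ ≫ f = f) [Flat ψ]
    (m : pullback f f ⟶ pullback f f) (hm₁ : m ≫ pullback.fst f f = pullback.fst f f ≫ ψ)
    (hm₂ : m ≫ pullback.snd f f = pullback.snd f f) (g : X ⟶ pullback f f)
    (hg₁ : g ≫ pullback.fst f f = 𝟙 X) (hg₂ : g ≫ pullback.snd f f = ψ)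
    (δ : ↥(pullback f f) → ℤ) (hδ : Cyc.DeltaCompat (pullback.fst f f ≫ f) δ (fun _ => 0)) :
    Cyc.pullFun m δ δ 0
        (Set.indicator ({pullback.diagonal f (genericPoint ↥X)} : Set ↥(pullback f f)) (fun _ => (1 : ℤ))) =
      Set.indicator ({g (genericPoint ↥X)} : Set ↥(pullback f f)) (fun _ => (1 : ℤ)) := by
  open GrothLib GrothAux.S19419 CategoryTheory.Limits in
  classical
  set η := genericPoint X with hηdef
  let d := pullback.diagonal f
  have hsq := isPullback_graph f ψ m hm₁ hm₂ g hg₁ hg₂
  have hψη : ψ η = η := by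
    obtain ⟨a, ha, hae⟩ := Flat.generalizingMap ψ (genericPoint_specializes (ψ η))
    have : a = η := (ha.antisymm (genericPoint_specializes a)).eq
    rw [← this, hae]
    exact this.symm
  haveI : IsProper ψ := by
    haveI : IsProper (ψ ≫ f) := hψ.symm ▸ inferInstance
    exact IsProper.of_comp ψ f
  have hpre : ψ ⁻¹' {η} = {η} := CurvePoints.preimage_genericPoint hdim hdim.le ψ hψη fun x hx => by
    simpa using ψ.isClosedMap _ hx
  have hmg : m (g η) = d η := by
    rw [← Scheme.Hom.comp_apply, ← hsq.w, Scheme.Hom.comp_apply, hψη]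
  have hsupp : ∀ x, m x = d η → x = g η := fun x hx => by
    obtain ⟨a, h1, h2⟩ := Scheme.exists_preimage_of_isPullback hsq η x hx.symm
    have : a = η := Set.mem_singleton_iff.1 (hpre ▸ (show a ∈ ψ ⁻¹' {η} from h1))
    rw [← h2, this]
  have hδη : δ (g η) = δ (d η) + 0 := by
    rw [add_zero, delta_section g (pullback.fst f f) hg₁ f hδ, delta_section d (pullback.fst f f) (pullback.diagonal_fst f) f hδ]
  haveI : IsSeparated f := inferInstance
  haveI : IsClosedImmersion g := by
    haveI : IsClosedImmersion d := inferInstance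
    exact MorphismProperty.of_isPullback hsq ‹IsClosedImmersion d›
  have hmax : ∀ (e : X ⟶ pullback f f) [IsClosedImmersion e],
      RingHom.ker (e.stalkMap η).hom = IsLocalRing.maximalIdeal ((pullback f f).presheaf.stalk (e η)) := fun e _ => by
    refine le_antisymm (IsLocalRing.le_maximalIdeal (RingHom.ker_ne_top _)) fun a ha => ?_
    have hF : IsField (X.presheaf.stalk η) := CurvePoints.isField_stalk_genericPoint
    by_contra h
    obtain ⟨b, hb⟩ := hF.mul_inv_cancel h
    exact ha ((isUnit_map_iff (e.stalkMap η).hom a).1 (IsUnit.of_mul_eq_one _ hb))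
  obtain ⟨U, hU, hηU, -⟩ := exists_isAffineOpen_mem_and_subset (U := (⊤ : (pullback f f).Opens)) (x := d η) trivial
  have hker := RelReg.ker_stalkMap_of_isPullback hsq ⟨U, hU⟩ (IsZariskiLocalAtTarget.restrict (P := @IsClosedImmersion) (inferInstanceAs (IsClosedImmersion d)) U) η hηU η hmg
  rw [hmax g, hmax d] at hker
  have hmapeq : (IsLocalRing.maximalIdeal ((pullback f f).presheaf.stalk (m (g η)))).map (m.stalkMap (g η)).hom =
      IsLocalRing.maximalIdeal ((pullback f f).presheaf.stalk (g η)) := by
    rw [hker, CommRingCat.hom_comp, ← Ideal.map_map]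
    congr 1
    exact (IsLocalRing.eq_maximalIdeal (Ideal.map_isMaximal_of_equiv
      ((pullback f f).presheaf.stalkCongr (.of_eq hmg.symm)).commRingCatIsoToRingEquiv)).symm
  funext x
  by_cases hx : x = g η
  · subst hx
    rw [Set.indicator_of_mem (Set.mem_singleton _), Cyc.pullFun, if_pos (by rw [hmg]; exact hδη),
      Set.indicator_of_mem (show m (g η) ∈ _ from hmg)]
    rw [hmapeq, one_mul, Module.length_eq_one_iff.2 (isSimpleModule_iff_isCoatom.2 (IsLocalRing.maximalIdeal.isMaximal _).out)]
    rfl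
  · rw [Set.indicator_of_notMem (by simpa using hx), Cyc.pullFun]
    split_ifs
    · rw [Set.indicator_of_notMem (by simpa using fun h => hx (hsupp x h)), zero_mul]
    · rfl

end Groth.Agent.S19419
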