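import Groth.Statements.S1942
-- import your own Groth.Agent.* helpers here
import Groth.Agent.Lib.C1.SheafCut

set_option autoImplicit false
universe u
open CategoryTheory AlgebraicGeometry
open CategoryTheory.Limits
open Cyc

namespace Groth.Agent.S1942

/-- Let (L, s, i : D → X) be an invertible module, a global section and its zero scheme, and F a
coherent O_X-module with δ ≤ k + 1 on its support such that s : F → F ⊗ L is injective (at each
point, writing s = f·t on a generator t of L_x, multiplication by f is injective on F_x). Then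
i^*[F]_{k+1} ∼_rat [i^*F]_k as k-cycles on D. Here i : D → X is the zero scheme of a global section
s of the invertible module L (Cyc.IsZeroSchemeOf), the Gysin map i^* : Z_{k+1}(X) → CH_k(D) is
computed on coefficient functions as c_1(L) ∩ − with the rational sections taken to be s where it is
nonzero (Cyc.gysinChoice) and restricted to the points of D, and classes on D are compared up to
rational equivalence on D for the restricted dimension function. Here a pair (X, δ) satisfying
Cyc.IsSetup (X locally Noetherian with universally catenary local rings, δ a dimension function)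
plays the role of a scheme locally of finite type over a fixed base equipped with a dimension
function. -/
theorem result (X D : Scheme.{u}) (δ : X → ℤ) (hX : Cyc.IsSetup X δ) (L : X.Modules) (hL : PicF.IsInvertible L) (s : L.presheaf.obj (Opposite.op ⊤)) (i : D ⟶ X) [IsClosedImmersion i] (hD : Cyc.IsZeroSchemeOf i L s) (k : ℤ) (F : X.Modules) (hF : Coh.IsCoh F) (hdim : ∀ x : X, Nontrivial (F.presheaf.stalk x) → δ x ≤ k + 1) (hreg : ∀ (x : X) (t : L.presheaf.stalk x) (f : X.presheaf.stalk x), Submodule.span (X.presheaf.stalk x) {t} = ⊤ → (L.presheaf.germ ⊤ x trivial) s = f • t → Function.Injective (fun m : F.presheaf.stalk x => f • m)) (w : (ξ : X) → Cyc.secFibre L ξ) (hw : ∀ ξ, w ξ ≠ 0) (γ : AlgebraicCycle D ℤ) (hγ : ∀ d, γ d = Cyc.c1CapFun δ L (Cyc.sheafFun δ (k + 1) F) (Cyc.gysinChoice L s w) (i d)) (ζ : AlgebraicCycle D ℤ) (hζ : ⇑ζ = Cyc.sheafFun (fun d => δ (i d)) k ((Scheme.Modules.pullback i).obj F)) : Cyc.RatEquiv (fun d => δ (i d)) k γ ζ := by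
  classical
  haveI : IsLocallyNoetherian X := hX.1
  haveI : IsLocallyNoetherian D := LocallyOfFiniteType.isLocallyNoetherian i
  refine GrothLib.C1.ratEquiv_of_RZ (GrothLib.CycPush.isDimFun_closedImmersion i hX.2.2)
    (GrothLib.C1.RZ.zero (GrothLib.CycPush.isDimFun_closedImmersion i hX.2.2) k) fun d => ?_
  rw [Pi.zero_apply, sub_eq_zero, hγ, hζ]
  have hα : ∀ ξ, Cyc.sheafFun δ (k + 1) F ξ ≠ 0 → δ ξ = k + 1 := fun ξ hξ => by_contra fun h => hξ (if_neg h)
  unfold Cyc.sheafFun at *
  by_cases hd : δ (i d) = k
  swap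
  · rw [if_neg hd]
    exact by_contra fun h => hd (GrothLib.C1.c1Cap_mem hα _ h)
  rw [if_pos hd]
  obtain ⟨t, f, ht, hf, hker⟩ := hD.2 d
  have hgx : GrothLib.C1.gcls s (i d) = 0 := (GrothLib.C1.mem_range_iff i hD).1 ⟨d, rfl⟩
  refine Eq.trans (GrothLib.C1.sheafCut_eq_c1Cap hX.2.2 hL s k F hF hdim hreg w hd
    (GrothLib.C1.gen_of_span hL ht) hf hgx).symm ?_
  refine congrArg (fun m : ℕ∞ => (m.toNat : ℤ)) ?_
  refine Eq.trans (GrothLib.C1.length_extend_surjective (i.stalkMap d).hom (i.stalkMap_surjective d) f hker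
    ((GrothLib.OX.stalk (i d)).obj F)).symm ?_
  exact ((GrothLib.QCoh.stalkPullbackIso i d).app F).symm.toLinearEquiv.length_eq

end Groth.Agent.S1942
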