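import Groth.Statements.S19420
import Groth.Agent.Lib.HM.Hessian
import Groth.Agent.Lib.HM.Semistable
import Groth.Agent.Lib.HM.Descend

set_option autoImplicit false
universe u
open TensorProduct LaurentPolynomial
open GIT

namespace Groth.Agent.S19420

/-- Let k be an algebraically closed field of characteristic zero and let SL_3 act by substitution on
ternary cubic forms, the point a having the form F = Σ_m (3; m) a_m x^m. Then a is semistable (some
invariant homogeneous polynomial of positive degree in the coefficients is non-zero at a) if and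
only if at every non-zero vector w where all first partial derivatives of F vanish, the matrix of
second partial derivatives of F at w has rank 2: every singular point of the plane cubic F = 0 is a
double point with two distinct tangent lines. (The published statement assumes only that the
characteristic of k is neither 2 nor 3; it is stated here in characteristic zero.) -/
theorem result (k : Type u) [Field k] [IsAlgClosed k] [CharZero k]
    (a : CoordGrp.FormIdx 3 3 → k) :
    @GLin.IsSemistableVec k _ (CoordGrp.SLn 3 k) _ _ (CoordGrp.FormIdx 3 3) (GLin.comodAlong ((CoordGrp.SLn.mkHom 3 k).comp (CoordGrp.Mat.toGLn 3 k)) (CoordGrp.formsCoact k 3 3))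
      (GLin.isCoactAlg_comodAlong ((CoordGrp.SLn.mkHom 3 k).comp (CoordGrp.Mat.toGLn 3 k)) (CoordGrp.formsCoact k 3 3)
        (CoordGrp.formsCoact_isCoactAlg k 3 3))
      a ↔
      ∀ w : Fin 3 → k, w ≠ 0 →
        (∀ i : Fin 3, MvPolynomial.eval w (MvPolynomial.pderiv i (CoordGrp.formPoly a)) = 0) →
          (Matrix.of fun i j : Fin 3 =>
            MvPolynomial.eval w (MvPolynomial.pderiv i (MvPolynomial.pderiv j (CoordGrp.formPoly a)))).rank = 2 := by
  classical
  have hF : (CoordGrp.formPoly a).IsHomogeneous 3 := GrothLib.HM.isHomogeneous_formPoly a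
  let mons : Fin 3 → Fin 3 → (Fin 3 →₀ ℕ) := fun i j =>
    Finsupp.single 0 1 + Finsupp.single i 1 + Finsupp.single j 1
  constructor
  · intro hss w hw hgrad
    by_contra hrank
    have hlt : (GrothLib.HM.hess (CoordGrp.formPoly a) w).rank < 3 := by
      refine lt_of_le_of_ne (by simpa using Matrix.rank_le_card_width (GrothLib.HM.hess (CoordGrp.formPoly a) w)) fun h3 => ?_
      have hz : Matrix.vecMul w (GrothLib.HM.hess (CoordGrp.formPoly a) w) = 0 := funext fun j => by
        rw [GrothLib.HM.vecMul_hess hF]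
        simp [GrothLib.HM.grad, hgrad j]
      have hd := Matrix.exists_vecMul_eq_zero_iff.1 ⟨w, hw, hz⟩
      have hu : IsUnit (GrothLib.HM.hess (CoordGrp.formPoly a) w) := by
        rw [← Matrix.linearIndependent_cols_iff_isUnit, linearIndependent_iff_card_eq_finrank_span,
          Set.finrank, ← Matrix.rank_eq_finrank_span_cols, h3, Fintype.card_fin]
      exact isUnit_iff_ne_zero.1 ((Matrix.isUnit_iff_isUnit_det _).1 hu) hd
    change ¬(GrothLib.HM.hess (CoordGrp.formPoly a) w).rank = 2 at hrank
    have hker : 2 ≤ Module.finrank k (LinearMap.ker (GrothLib.HM.hess (CoordGrp.formPoly a) w).mulVecLin) := by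
      have h := LinearMap.finrank_range_add_finrank_ker (GrothLib.HM.hess (CoordGrp.formPoly a) w).mulVecLin
      rw [Module.finrank_fin_fun] at h
      change (GrothLib.HM.hess (CoordGrp.formPoly a) w).rank + _ = 3 at h
      omega
    obtain ⟨u, hu, hwu⟩ : ∃ u, u ∈ LinearMap.ker (GrothLib.HM.hess (CoordGrp.formPoly a) w).mulVecLin ∧
        u ∉ (k ∙ w) := by
      by_contra hne
      push Not at hne
      have := Submodule.finrank_mono (show LinearMap.ker (GrothLib.HM.hess (CoordGrp.formPoly a) w).mulVecLin ≤ k ∙ w from hne)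
      rw [finrank_span_singleton hw] at this
      omega
    have hli : LinearIndependent k ![w, u] := LinearIndependent.pair_iff' hw |>.2 fun c hc =>
      hwu (Submodule.mem_span_singleton.2 ⟨c, hc⟩)
    obtain ⟨M, c, hM, hc, hMw, hMu⟩ := GrothLib.HM.exists_det_one_cols w u hli
    let G := GrothLib.HM.lin M (CoordGrp.formPoly a)
    have hG : G.IsHomogeneous (2 + 1) := GrothLib.HM.isHomogeneous_lin M hF
    have h0 : ∀ i, G.coeff (mons 0 i) = 0 := fun i => by
      have : GrothLib.HM.grad G (Pi.single 0 c) i = 0 := by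
        rw [GrothLib.HM.grad_lin, hMw,
          show GrothLib.HM.grad (CoordGrp.formPoly a) w = 0 from funext hgrad, Matrix.zero_vecMul]
        rfl
      rw [GrothLib.HM.coeff_of_grad_eq_zero hG 0 hc] at this
      simpa [mons, ← Finsupp.single_add] using this
    have h1 : ∀ i, G.coeff (mons i 1) = 0 := fun i => by
      refine (GrothLib.HM.coeff_of_hess_eq_zero (N := 1) hG 0 hc i 1).1 ?_
      have hcol : Matrix.mulVec (GrothLib.HM.hess G (Pi.single 0 c)) (Pi.single 1 1) = 0 := by
        rw [GrothLib.HM.hess_lin, hMw, ← Matrix.mulVec_mulVec, hMu, ← Matrix.mulVec_mulVec,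
          show Matrix.mulVec (GrothLib.HM.hess (CoordGrp.formPoly a) w) u = 0 from hu, Matrix.mulVec_zero]
      simpa using congrFun hcol i
    refine GrothLib.HM.isNullform_of_destab (Nat.cast_ne_zero.2 (Nat.factorial_ne_zero 3)) a M hM
      ![-4, 1, 3] (by simp [Fin.sum_univ_three]) (fun e he => ?_) hss
    rw [GrothLib.HM.subst, Algebra.algebraMap_self, MvPolynomial.map_id]
    change G.coeff e.1 = 0
    have hdeg : e.1 0 + e.1 1 + e.1 2 = 3 := by
      conv_rhs => rw [← e.2]
      rw [Finsupp.degree_eq_sum, Fin.sum_univ_three]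
    simp only [Fin.sum_univ_three, Matrix.cons_val_zero, Matrix.cons_val_one, Matrix.cons_val_two,
      Matrix.head_cons, Matrix.tail_cons] at he
    obtain ⟨i, hi⟩ : ∃ i, e.1 = mons 0 i ∨ e.1 = mons i 1 := by
      rcases (by omega : (e.1 0 = 3 ∧ e.1 1 = 0 ∧ e.1 2 = 0) ∨ (e.1 0 = 2 ∧ e.1 1 = 1 ∧ e.1 2 = 0) ∨
        (e.1 0 = 2 ∧ e.1 1 = 0 ∧ e.1 2 = 1) ∨ (e.1 0 = 1 ∧ e.1 1 = 2 ∧ e.1 2 = 0) ∨
        (e.1 0 = 1 ∧ e.1 1 = 1 ∧ e.1 2 = 1)) with ⟨a0, a1, a2⟩ | ⟨a0, a1, a2⟩ | ⟨a0, a1, a2⟩ | ⟨a0, a1, a2⟩ | ⟨a0, a1, a2⟩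
      · exact ⟨0, Or.inl (Finsupp.ext fun j => by fin_cases j <;> simp [mons, Finsupp.single_apply, a0, a1, a2])⟩
      · exact ⟨1, Or.inl (Finsupp.ext fun j => by fin_cases j <;> simp [mons, Finsupp.single_apply, a0, a1, a2])⟩
      · exact ⟨2, Or.inl (Finsupp.ext fun j => by fin_cases j <;> simp [mons, Finsupp.single_apply, a0, a1, a2])⟩
      · exact ⟨1, Or.inr (Finsupp.ext fun j => by fin_cases j <;> simp [mons, Finsupp.single_apply, a0, a1, a2])⟩
      · exact ⟨2, Or.inr (Finsupp.ext fun j => by fin_cases j <;> simp [mons, Finsupp.single_apply, a0, a1, a2])⟩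
    rcases hi with hi | hi <;> rw [hi]
    · exact h0 i
    · exact h1 i
  · intro hall
    refine GrothLib.HM.isSemistableVec_of_no_destab a fun κ _ _ Γ _ _ _ b w hb hs => ?_
    by_contra hne
    push Not at hne
    let σ := Tuple.sort w
    have hmono : Monotone fun i => w (σ i) := Tuple.monotone_sort w
    obtain ⟨b', hb', hcoef⟩ := GrothLib.HM.exists_perm b hb σ a
    have h01 : w (σ 0) ≤ w (σ 1) := hmono (by decide)
    have h12 : w (σ 1) ≤ w (σ 2) := hmono (by decide)
    have hsum : w (σ 0) + w (σ 1) + w (σ 2) = 0 := by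
      rw [← Fin.sum_univ_three (f := fun i => w (σ i)), Equiv.sum_comp σ w, hs]
    have hr0 : w (σ 0) ≤ 0 := by
      by_contra hgt
      push Not at hgt
      exact (add_pos (add_pos hgt (hgt.trans_le h01)) (hgt.trans_le (h01.trans h12))).ne' hsum
    have hz : ∀ e : Fin 3 →₀ ℕ, e 0 + e 1 + e 2 = 3 →
        e 0 • w (σ 0) + e 1 • w (σ 1) + e 2 • w (σ 2) ≤ 0 → (GrothLib.HM.subst b' a).coeff e = 0 := by
      intro e he hle
      refine hcoef e (hne ⟨Finsupp.mapDomain σ e, ?_⟩ ?_)
      · rw [Finsupp.degree_eq_sum, ← Equiv.sum_comp σ]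
        simp [Finsupp.mapDomain_apply σ.injective, Fin.sum_univ_three, he]
      · rw [← Equiv.sum_comp σ, Fin.sum_univ_three]
        simpa [Finsupp.mapDomain_apply σ.injective] using hle
    have h2 : w (σ 2) = -(w (σ 0) + w (σ 1)) := (neg_eq_of_add_eq_zero_right hsum).symm
    obtain ⟨M, hM, hMz⟩ := GrothLib.HM.exists_descend a b' hb'
      {mons 0 0, mons 0 1, mons 0 2, mons 1 1, mons 1 2} (by
        intro e he
        simp only [Set.mem_insert_iff, Set.mem_singleton_iff] at he
        rcases he with rfl | rfl | rfl | rfl | rfl <;> refine hz _ (by simp [mons]) ?_ <;> simp [mons]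
        · exact nsmul_nonpos hr0 3
        · rw [show 2 • w (σ 0) + w (σ 1) = w (σ 0) - w (σ 2) by rw [h2]; abel]
          exact sub_nonpos.2 (h01.trans h12)
        · rw [show 2 • w (σ 0) + w (σ 2) = w (σ 0) - w (σ 1) by rw [h2]; abel]
          exact sub_nonpos.2 h01
        · rw [show w (σ 0) + 2 • w (σ 1) = w (σ 1) - w (σ 2) by rw [h2]; abel]
          exact sub_nonpos.2 h12
        · exact hsum.le)
    let G := GrothLib.HM.lin M (CoordGrp.formPoly a)
    have hG : G.IsHomogeneous (2 + 1) := GrothLib.HM.isHomogeneous_lin M hF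
    have hMz' : ∀ e ∈ ({mons 0 0, mons 0 1, mons 0 2, mons 1 1, mons 1 2} : Set (Fin 3 →₀ ℕ)), G.coeff e = 0 := by
      intro e he
      have := hMz e he
      rwa [GrothLib.HM.subst, Algebra.algebraMap_self, MvPolynomial.map_id] at this
    have hunit : IsUnit M.det := by rw [hM]; exact isUnit_one
    let v := M.mulVec (Pi.single 0 1)
    have hv : v ≠ 0 := fun h => by
      have := Matrix.eq_zero_of_mulVec_eq_zero (by rw [hM]; exact one_ne_zero) h
      simpa using congrFun this 0
    have hg : ∀ i, GrothLib.HM.grad G (Pi.single 0 1) i = 0 := fun i => by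
      rw [GrothLib.HM.coeff_of_grad_eq_zero hG 0 one_ne_zero]
      refine hMz' _ ?_
      fin_cases i <;> simp [mons, ← Finsupp.single_add]
    have hgrad : GrothLib.HM.grad (CoordGrp.formPoly a) v = 0 := by
      refine Matrix.eq_zero_of_vecMul_eq_zero (by rw [hM]; exact one_ne_zero) (M := M) ?_
      rw [← GrothLib.HM.grad_lin]
      exact funext hg
    have hr : (GrothLib.HM.hess G (Pi.single 0 1)).rank = 2 := by
      rw [GrothLib.HM.hess_lin, Matrix.rank_mul_eq_left_of_isUnit_det _ _ hunit,
        Matrix.rank_mul_eq_right_of_isUnit_det _ _ (by rwa [Matrix.det_transpose])]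
      exact hall v hv fun i => congrFun hgrad i
    have hone : GrothLib.HM.hess G (Pi.single 0 1) =
        Matrix.vecMulVec (Pi.single 2 1) (Pi.single 2 (GrothLib.HM.hess G (Pi.single 0 1) 2 2)) := by
      refine Matrix.ext fun i j => ?_
      fin_cases i <;> fin_cases j <;>
        first
          | (simp [Matrix.vecMulVec]; done)
          | (simp [Matrix.vecMulVec]
             refine (GrothLib.HM.coeff_of_hess_eq_zero (N := 1) hG 0 one_ne_zero _ _).2 (hMz' _ ?_)
             first
               | (simp only [Set.mem_insert_iff, Set.mem_singleton_iff, mons]; tauto)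
               | (simp only [Set.mem_insert_iff, Set.mem_singleton_iff, mons]
                  rw [add_right_comm]
                  tauto))
    have := Matrix.rank_vecMulVec_le (Pi.single 2 1 : Fin 3 → k) (Pi.single 2 (GrothLib.HM.hess G (Pi.single 0 1) 2 2) : Fin 3 → k)
    rw [hone] at hr
    rw [hr] at this
    omega

end Groth.Agent.S19420
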