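import Groth.Statements.S19421
import Groth.Agent.Lib.HM.Smooth
import Groth.Agent.Lib.HM.Adapted
import Groth.Agent.Lib.HM.Destab

set_option autoImplicit false
universe u
open TensorProduct LaurentPolynomial
open GIT

namespace Groth.Agent.S19421

/-- Let k be an algebraically closed field of characteristic zero and let SL_3 act by substitution on
ternary cubic forms, the point a having the form F = Σ_m (3; m) a_m x^m. Then a is stable (its orbit
is closed and its stabiliser finite) if and only if the plane cubic curve F = 0 is smooth: at every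
non-zero vector some first partial derivative of F is non-zero. (The published statement assumes
only that the characteristic of k is neither 2 nor 3; it is stated here in characteristic zero.) -/
theorem result (k : Type u) [Field k] [IsAlgClosed k] [CharZero k]
    (a : CoordGrp.FormIdx 3 3 → k) :
    @GLin.IsStableVec k _ (CoordGrp.SLn 3 k) _ _ (CoordGrp.FormIdx 3 3) (GLin.comodAlong ((CoordGrp.SLn.mkHom 3 k).comp (CoordGrp.Mat.toGLn 3 k)) (CoordGrp.formsCoact k 3 3))
      (GLin.isCoactAlg_comodAlong ((CoordGrp.SLn.mkHom 3 k).comp (CoordGrp.Mat.toGLn 3 k)) (CoordGrp.formsCoact k 3 3)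
        (CoordGrp.formsCoact_isCoactAlg k 3 3))
      a ↔
      ∀ w : Fin 3 → k, w ≠ 0 →
        ∃ i : Fin 3, MvPolynomial.eval w (MvPolynomial.pderiv i (CoordGrp.formPoly a)) ≠ 0 := by
  classical
  constructor
  · intro hst w hw
    by_contra hall
    push Not at hall
    obtain ⟨M, c, hM, hc, hMw⟩ := GrothLib.HM.exists_mulVec_single w hw
    let G := GrothLib.HM.lin M (CoordGrp.formPoly a)
    have hGh : G.IsHomogeneous 3 := GrothLib.HM.isHomogeneous_lin M (GrothLib.HM.isHomogeneous_formPoly a)
    have hp : ∀ i, MvPolynomial.eval (Pi.single (Fin.last 2) c) (MvPolynomial.pderiv i G) = 0 := by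
      intro i
      rw [GrothLib.HM.pderiv_lin, map_sum]
      refine Finset.sum_eq_zero fun l _ => ?_
      rw [map_mul, show MvPolynomial.eval (Pi.single (Fin.last 2) c) (GrothLib.HM.lin M (MvPolynomial.pderiv l (CoordGrp.formPoly a))) = MvPolynomial.eval w (MvPolynomial.pderiv l (CoordGrp.formPoly a)) from ?_, hall l, mul_zero]
      rw [← hMw]
      exact DFunLike.congr_fun (f := (MvPolynomial.eval (Pi.single (Fin.last 2) c)).comp (GrothLib.HM.lin M).toRingHom)
        (g := MvPolynomial.eval (M.mulVec (Pi.single (Fin.last 2) c)))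
        (MvPolynomial.ringHom_ext (fun r => by simp [GrothLib.HM.lin]) fun i => by
          simp only [RingHom.comp_apply, AlgHom.toRingHom_eq_coe, RingHom.coe_coe, GrothLib.HM.lin,
            MvPolynomial.aeval_X, map_sum, map_mul, MvPolynomial.eval_C, MvPolynomial.eval_X, Matrix.mulVec, dotProduct]) _
    have hcoef : ∀ i, G.coeff (Finsupp.single (Fin.last 2) 2 + Finsupp.single i 1) = 0 := by
      intro i
      have h := hp i
      rw [GrothLib.HM.eval_single (GrothLib.HM.isHomogeneous_pderiv hGh i), MvPolynomial.coeff_pderiv] at h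
      rcases mul_eq_zero.1 ((mul_eq_zero.1 h).resolve_left (pow_ne_zero _ hc)) with h' | h'
      · exact h'
      · exact absurd h' (Nat.cast_add_one_ne_zero _)
    refine GrothLib.HM.not_isStableVec_of_destab (Nat.cast_ne_zero.2 (Nat.factorial_ne_zero 3)) a M hM
      ![1, 1, -2] (by simp [Fin.sum_univ_three]) (fun h => by simpa using congrFun h 0) (fun e he => ?_) hst
    rw [GrothLib.HM.subst, Algebra.algebraMap_self, MvPolynomial.map_id]
    have hdeg : e.1 0 + e.1 1 + e.1 2 = 3 := by
      conv_rhs => rw [← e.2]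
      rw [Finsupp.degree_eq_sum, Fin.sum_univ_three]
    simp only [Fin.sum_univ_three, Matrix.cons_val_zero, Matrix.cons_val_one, Matrix.cons_val_two,
      Matrix.head_cons, Matrix.tail_cons] at he
    obtain ⟨i, hi⟩ : ∃ i, e.1 = Finsupp.single (Fin.last 2) 2 + Finsupp.single i 1 := by
      rcases (by omega : (e.1 0 = 1 ∧ e.1 1 = 0 ∧ e.1 2 = 2) ∨ (e.1 0 = 0 ∧ e.1 1 = 1 ∧ e.1 2 = 2) ∨
        (e.1 0 = 0 ∧ e.1 1 = 0 ∧ e.1 2 = 3)) with ⟨h0, h1, h2⟩ | ⟨h0, h1, h2⟩ | ⟨h0, h1, h2⟩
      · exact ⟨0, Finsupp.ext fun j => by fin_cases j <;> simp [Finsupp.single_apply, h0, h1, h2]⟩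
      · exact ⟨1, Finsupp.ext fun j => by fin_cases j <;> simp [Finsupp.single_apply, h0, h1, h2]⟩
      · exact ⟨2, Finsupp.ext fun j => by fin_cases j <;> simp [Finsupp.single_apply, h0, h1, h2]⟩
    rw [hi]
    exact hcoef i
  · intro hsm
    exact GrothLib.HM.isStableVec_of_no_destab a fun κ _ _ Γ _ _ _ b w hb hs hw =>
      GrothLib.HM.exists_monomial_of_smooth a le_rfl hsm b hb w hs hw

end Groth.Agent.S19421
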