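import Groth.Statements.S19422
import Mathlib

set_option autoImplicit false
universe u
open TensorProduct LaurentPolynomial
open GIT

namespace Groth.Agent.S19422

section
variable {k : Type u} [Field k] {ι : Type u} [Fintype ι] [HopfRep.Comod k k[T;T⁻¹] (MvPolynomial ι k)]
  [GLin.IsCoactAlg k k[T;T⁻¹] (MvPolynomial ι k)] (r : ι → ℤ)
  (hr : ∀ i : ι, HopfRep.Comod.coact (k := k) (A := k[T;T⁻¹]) (MvPolynomial.X i : MvPolynomial ι k) =
      (MvPolynomial.X i : MvPolynomial ι k) ⊗ₜ[k] (T (r i) : k[T;T⁻¹]))

include hr in
theorem coact_monomial (d : ι →₀ ℕ) (c : k) :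
    HopfRep.Comod.coact (k := k) (A := k[T;T⁻¹]) (MvPolynomial.monomial d c) =
      MvPolynomial.monomial d c ⊗ₜ[k] (T (Finsupp.weight r d) : k[T;T⁻¹]) := by
  rw [← GLin.coactAlgHom_apply]
  induction d using Finsupp.induction with
  | zero =>
    change GLin.coactAlgHom k k[T;T⁻¹] _ (algebraMap k (MvPolynomial ι k) c) = _
    rw [AlgHom.commutes, map_zero, T_zero, Algebra.TensorProduct.algebraMap_apply]
    rfl
  | single_add a n f _ _ ih =>
    rw [MvPolynomial.monomial_single_add, map_mul, ih, map_pow, GLin.coactAlgHom_apply, hr,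
      Algebra.TensorProduct.tmul_pow, Algebra.TensorProduct.tmul_mul_tmul, T_pow, ← T_add, map_add,
      Finsupp.weight_single, nsmul_eq_mul]

include hr in
theorem mem_invariants_iff_weight (F : MvPolynomial ι k) :
    F ∈ GLin.invariants k k[T;T⁻¹] (MvPolynomial ι k) ↔
      ∀ d ∈ F.support, Finsupp.weight r d = 0 := by
  classical
  constructor
  · intro hF d hd
    by_contra hw
    rw [GLin.mem_invariants_iff] at hF
    have h := congrArg (fun z => TensorProduct.lid k k[T;T⁻¹]
      ((MvPolynomial.lcoeff k d).rTensor k[T;T⁻¹] z)) hF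
    conv_lhs at h => rw [F.as_sum]
    simp only [map_sum, coact_monomial r hr, LinearMap.rTensor_tmul, TensorProduct.lid_tmul,
      MvPolynomial.lcoeff_apply, MvPolynomial.coeff_monomial, ite_smul, zero_smul] at h
    rw [Finset.sum_ite_eq' F.support d, if_pos hd] at h
    have h0 := congrArg (fun f : k[T;T⁻¹] => f.coeff (Finsupp.weight r d)) h
    simp only [AddMonoidAlgebra.coeff_smul, Finsupp.smul_apply, T_apply, if_true, ← T_zero,
      if_neg (Ne.symm hw), smul_eq_mul, mul_one, mul_zero] at h0
    exact (MvPolynomial.mem_support_iff.1 hd) h0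
  · intro H
    rw [F.as_sum]
    refine Subalgebra.sum_mem _ fun d hd => ?_
    rw [GLin.mem_invariants_iff, coact_monomial r hr, H d hd, T_zero]

end

/-- Over an algebraically closed field k, let the multiplicative group, whose coordinate Hopf algebra is
the Laurent polynomial ring, act diagonally on affine ι-space, ι finite: the coaction on the
polynomial ring is multiplicative and sends the coordinate function X_i to X_i ⊗ T^(r_i) for
integers r_i. Then a vector v is semistable (some invariant homogeneous polynomial of positive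
degree does not vanish at v) if and only if there are indices i and j, possibly equal, with v_i ≠ 0,
v_j ≠ 0 and r_i ≤ 0 ≤ r_j, i.e. the origin lies in the convex hull of the weights of v. (Stated for
the ambient projective space on its affine cone; the published statement is for a point of a closed
invariant subvariety, whose semistability is that of the point in the ambient space.) -/
theorem result (k : Type u) [Field k] [IsAlgClosed k]
    (ι : Type u) [Fintype ι] [HopfRep.Comod k k[T;T⁻¹] (MvPolynomial ι k)] [GLin.IsCoactAlg k k[T;T⁻¹] (MvPolynomial ι k)]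
    (r : ι → ℤ)
    (hr : ∀ i : ι, HopfRep.Comod.coact (k := k) (A := k[T;T⁻¹]) (MvPolynomial.X i : MvPolynomial ι k) =
      (MvPolynomial.X i : MvPolynomial ι k) ⊗ₜ[k] (T (r i) : k[T;T⁻¹]))
    (v : ι → k) :
    GLin.IsSemistableVec k k[T;T⁻¹] v ↔ ∃ i j : ι, v i ≠ 0 ∧ v j ≠ 0 ∧ r i ≤ 0 ∧ 0 ≤ r j := by
  classical
  constructor
  · intro h
    simp only [GLin.IsSemistableVec, GLin.IsNullform, not_forall] at h
    obtain ⟨F, hF, d, hd, hhom, hne⟩ := h
    rw [MvPolynomial.eval_eq'] at hne
    obtain ⟨e, he, hne⟩ := Finset.exists_ne_zero_of_sum_ne_zero hne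
    have hw := (mem_invariants_iff_weight r hr F).1 hF e he
    rw [Finsupp.weight_apply, Finsupp.sum_fintype _ _ (fun i => zero_smul ℕ (r i))] at hw
    have hvne : ∀ i, e i ≠ 0 → v i ≠ 0 := fun i hi hv0 => hne (by
      rw [Finset.prod_eq_zero (Finset.mem_univ i) (by rw [hv0, zero_pow hi]), mul_zero])
    obtain ⟨i₀, hi₀⟩ : ∃ i, e i ≠ 0 := by
      by_contra! h0
      have h1 := hhom (MvPolynomial.mem_support_iff.1 he)
      rw [show e = 0 from Finsupp.ext h0, map_zero] at h1
      omega
    by_contra! H
    rcases le_or_gt (r i₀) 0 with h | h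
    · have hsum : ∑ i, e i • r i < 0 := by
        refine Finset.sum_neg' (fun i _ => ?_) ⟨i₀, Finset.mem_univ _, ?_⟩
        · rcases eq_or_ne (e i) 0 with h0 | h0
          · simp [h0]
          · have := H i₀ i (hvne i₀ hi₀) (hvne i h0) h
            rw [nsmul_eq_mul]
            exact mul_nonpos_of_nonneg_of_nonpos (by positivity) this.le
        · have := H i₀ i₀ (hvne i₀ hi₀) (hvne i₀ hi₀) h
          rw [nsmul_eq_mul]
          exact mul_neg_of_pos_of_neg (by positivity) this
      omega
    · have hsum : 0 < ∑ i, e i • r i := by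
        refine Finset.sum_pos' (fun i _ => ?_) ⟨i₀, Finset.mem_univ _, ?_⟩
        · rcases eq_or_ne (e i) 0 with h0 | h0
          · simp [h0]
          · rw [nsmul_eq_mul]
            refine mul_nonneg (by positivity) (le_of_not_gt fun hneg => ?_)
            have := H i i₀ (hvne i h0) (hvne i₀ hi₀) hneg.le
            omega
        · rw [nsmul_eq_mul]; positivity
      omega
  · rintro ⟨i, j, hi, hj, hri, hrj⟩
    intro hnull
    by_cases h0 : r i = 0
    · refine hi ?_
      have := hnull (MvPolynomial.X i) ((mem_invariants_iff_weight r hr _).2 fun d hd => ?_) 1 one_pos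
        (MvPolynomial.isHomogeneous_X _ _)
      · simpa using this
      · rw [MvPolynomial.support_X, Finset.mem_singleton] at hd
        subst hd
        simp [Finsupp.weight_single, h0]
    · obtain ⟨a, ha⟩ : ∃ a : ℕ, r i = -(a : ℤ) := ⟨(-r i).toNat, by omega⟩
      obtain ⟨b, hb⟩ : ∃ b : ℕ, r j = (b : ℤ) := ⟨(r j).toNat, by omega⟩
      have := hnull (MvPolynomial.X i ^ b * MvPolynomial.X j ^ a)
        ((mem_invariants_iff_weight r hr _).2 fun d hd => ?_) (b + a) (by omega)
        ((MvPolynomial.isHomogeneous_X_pow i b).mul (MvPolynomial.isHomogeneous_X_pow j a))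
      · simp [hi, hj] at this
      · rw [MvPolynomial.X_pow_eq_monomial, MvPolynomial.X_pow_eq_monomial, MvPolynomial.monomial_mul,
          one_mul] at hd
        rw [Finset.mem_singleton.1 (MvPolynomial.support_monomial_subset hd)]
        simp [map_add, Finsupp.weight_single, nsmul_eq_mul, ha, hb]
        ring

end Groth.Agent.S19422
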