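import Groth.Statements.S19423
import Mathlib
import Groth.Agent.S19422

set_option autoImplicit false
universe u
open TensorProduct LaurentPolynomial
open GIT

namespace Groth.Agent.S19423

section
variable {k : Type u} [Field k] {ι : Type u} [Fintype ι] [HopfRep.Comod k k[T;T⁻¹] (MvPolynomial ι k)]
  [GLin.IsCoactAlg k k[T;T⁻¹] (MvPolynomial ι k)] (r : ι → ℤ)
  (hr : ∀ i : ι, HopfRep.Comod.coact (k := k) (A := k[T;T⁻¹]) (MvPolynomial.X i : MvPolynomial ι k) =
      (MvPolynomial.X i : MvPolynomial ι k) ⊗ₜ[k] (T (r i) : k[T;T⁻¹]))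
  (v : ι → k)

include hr in
theorem orbit_monomial (d : ι →₀ ℕ) (c : k) :
    GLin.orbitHom k k[T;T⁻¹] (GLin.vecPt k ι v) (MvPolynomial.monomial d c) =
      AddMonoidAlgebra.single (Finsupp.weight r d) (c * ∏ i, v i ^ d i) := by
  simp only [GLin.orbitHom, AlgHom.comp_apply, GLin.coactAlgHom_apply,
    Groth.Agent.S19422.coact_monomial r hr]
  rw [Algebra.TensorProduct.map_tmul]
  change (MvPolynomial.aeval v (MvPolynomial.monomial d c)) • (T (Finsupp.weight r d) : k[T;T⁻¹]) = _
  rw [MvPolynomial.aeval_monomial, Finsupp.prod_fintype _ _ (fun i => pow_zero _), T,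
    AddMonoidAlgebra.smul_single, smul_eq_mul, mul_one, Algebra.algebraMap_self_apply]

include hr in
theorem orbit_X (i : ι) :
    GLin.orbitHom k k[T;T⁻¹] (GLin.vecPt k ι v) (MvPolynomial.X i) = C (v i) * T (r i) := by
  classical
  rw [MvPolynomial.X, orbit_monomial r hr, Finsupp.weight_single, one_nsmul, single_eq_C_mul_T, one_mul]
  simp [Finsupp.single_apply, pow_ite]

include hr in
theorem orbit_normalized (i : ι) (hi : v i ≠ 0) :
    GLin.orbitHom k k[T;T⁻¹] (GLin.vecPt k ι v) (MvPolynomial.C (v i)⁻¹ * MvPolynomial.X i) = T (r i) := by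
  rw [map_mul, orbit_X r hr, ← MvPolynomial.algebraMap_eq, AlgHom.commutes, ← C_eq_algebraMap, ← mul_assoc,
    ← map_mul, inv_mul_cancel₀ hi, map_one, one_mul]

include hr in
theorem isIntegral_orbit {i j : ι} (hi : v i ≠ 0) (hj : v j ≠ 0) (hri : r i < 0) (hrj : 0 < r j) :
    (GLin.orbitHom k k[T;T⁻¹] (GLin.vecPt k ι v)).toRingHom.IsIntegral := by
  letI := (GLin.orbitHom k k[T;T⁻¹] (GLin.vecPt k ι v)).toRingHom.toAlgebra
  intro z
  change IsIntegral (MvPolynomial ι k) z
  have hroot : ∀ (s : ℤ) (l : ι), v l ≠ 0 → 0 < r l * s → s * s = 1 →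
      IsIntegral (MvPolynomial ι k) (T s : k[T;T⁻¹]) := by
    intro s l hl hpos hs
    refine IsIntegral.of_pow (n := (r l * s).toNat) (by omega) ?_
    rw [T_pow, Int.toNat_of_nonneg hpos.le, mul_assoc, hs, mul_one, ← orbit_normalized r hr v l hl]
    exact isIntegral_algebraMap
  have hT : ∀ n : ℤ, IsIntegral (MvPolynomial ι k) (T n : k[T;T⁻¹]) := by
    intro n
    obtain ⟨m, rfl | rfl⟩ := Int.eq_nat_or_neg n
    · have h := (hroot 1 j hj (by omega) (by norm_num)).pow m
      rwa [T_pow, mul_one] at h
    · have h := (hroot (-1) i hi (by omega) (by norm_num)).pow m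
      rwa [T_pow, mul_neg_one] at h
  induction z using LaurentPolynomial.induction_on' with
  | add p q hp hq => exact hp.add hq
  | C_mul_T n a =>
    refine IsIntegral.mul ?_ (hT n)
    rw [C_eq_algebraMap, ← (GLin.orbitHom k k[T;T⁻¹] (GLin.vecPt k ι v)).commutes a]
    exact isIntegral_algebraMap

include hr in
theorem finite_stab {j : ι} (hj : v j ≠ 0) (hrj : 0 < r j) :
    GLin.HasFiniteStab k k[T;T⁻¹] (GLin.vecPt k ι v) := by
  classical
  set J := GLin.stabIdeal k k[T;T⁻¹] (GLin.vecPt k ι v)
  have h1 : Ideal.Quotient.mk J (T (r j)) = 1 := by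
    rw [← map_one (Ideal.Quotient.mk J), Ideal.Quotient.eq, ← orbit_normalized r hr v j hj,
      ← map_one (GLin.orbitHom k k[T;T⁻¹] (GLin.vecPt k ι v)), ← map_sub]
    refine Ideal.mem_map_of_mem _ ?_
    simp [RingHom.mem_ker, hj]
  have h2 : ∀ q : ℤ, Ideal.Quotient.mk J (T (r j * q)) = 1 := by
    intro q
    induction q using Int.induction_on with
    | zero => rw [mul_zero, T_zero, map_one]
    | succ q ih => rw [mul_add, mul_one, T_add, map_mul, ih, h1, one_mul]
    | pred q ih =>
      have : Ideal.Quotient.mk J (T (r j * (-(q : ℤ) - 1))) * Ideal.Quotient.mk J (T (r j)) = 1 := by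
        rw [← map_mul, ← T_add, ← ih]; ring_nf
      rwa [h1, mul_one] at this
  refine Module.Finite.of_surjective
    (Fintype.linearCombination k (fun t : Fin (r j).toNat => Ideal.Quotient.mk J (T (t : ℤ)))) ?_
  rw [← LinearMap.range_eq_top, eq_top_iff]
  rintro z -
  obtain ⟨z, rfl⟩ := Ideal.Quotient.mk_surjective z
  induction z using LaurentPolynomial.induction_on' with
  | add p q hp hq => rw [map_add]; exact add_mem hp hq
  | C_mul_T n a =>
    have hlt : (n % r j).toNat < (r j).toNat := by
      have := Int.emod_lt_of_pos n hrj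
      have := Int.emod_nonneg n hrj.ne'
      omega
    refine ⟨Pi.single ⟨_, hlt⟩ a, ?_⟩
    rw [Fintype.linearCombination_apply_single, ← smul_eq_C_mul]
    change a • _ = Ideal.Quotient.mk J (a • T n)
    rw [← Ideal.Quotient.mkₐ_eq_mk k J, map_smul, Ideal.Quotient.mkₐ_eq_mk]
    congr 1
    rw [show (((n % r j).toNat : ℕ) : ℤ) = n % r j from Int.toNat_of_nonneg (Int.emod_nonneg n hrj.ne')]
    conv_rhs => rw [← Int.emod_add_mul_ediv n (r j), T_add, map_mul, h2, mul_one]

end

/-- Over an algebraically closed field k, let the multiplicative group, whose coordinate Hopf algebra is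
the Laurent polynomial ring, act diagonally on affine ι-space, ι finite: the coaction on the
polynomial ring is multiplicative and sends the coordinate function X_i to X_i ⊗ T^(r_i) for
integers r_i. Then a vector v is stable (the orbit of the point v of affine space is closed and its
stabiliser is a finite group scheme) if and only if there are indices i and j with v_i ≠ 0, v_j ≠ 0
and r_i < 0 < r_j, i.e. the origin is an interior point of the convex hull of the weights of v.
(Stated for the ambient projective space on its affine cone, where stability means a closed orbit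
with finite stabiliser in the cone.) -/
theorem result (k : Type u) [Field k] [IsAlgClosed k]
    (ι : Type u) [Fintype ι] [HopfRep.Comod k k[T;T⁻¹] (MvPolynomial ι k)] [GLin.IsCoactAlg k k[T;T⁻¹] (MvPolynomial ι k)]
    (r : ι → ℤ)
    (hr : ∀ i : ι, HopfRep.Comod.coact (k := k) (A := k[T;T⁻¹]) (MvPolynomial.X i : MvPolynomial ι k) =
      (MvPolynomial.X i : MvPolynomial ι k) ⊗ₜ[k] (T (r i) : k[T;T⁻¹]))
    (v : ι → k) :
    GLin.IsStableVec k k[T;T⁻¹] v ↔ ∃ i j : ι, v i ≠ 0 ∧ v j ≠ 0 ∧ r i < 0 ∧ 0 < r j := by
  classical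
  constructor
  · rintro ⟨hclosed, hfin⟩
    obtain ⟨i₀, hvi₀, hri₀⟩ : ∃ i, v i ≠ 0 ∧ r i ≠ 0 := by
      by_contra! H
      have hconst : GLin.orbitHom k k[T;T⁻¹] (GLin.vecPt k ι v) =
          (Algebra.ofId k k[T;T⁻¹]).comp (GLin.vecPt k ι v) := by
        refine MvPolynomial.algHom_ext fun i => ?_
        rw [orbit_X r hr, AlgHom.comp_apply, MvPolynomial.aeval_X, Algebra.ofId_apply, ← C_eq_algebraMap]
        rcases eq_or_ne (v i) 0 with h | h
        · rw [h, map_zero, zero_mul]
        · rw [H i h, T_zero, mul_one]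
      have hJ : GLin.stabIdeal k k[T;T⁻¹] (GLin.vecPt k ι v) = ⊥ := by
        rw [GLin.stabIdeal, hconst, Ideal.map_eq_bot_iff_le_ker]
        intro f hf
        rw [RingHom.mem_ker, AlgHom.comp_apply, RingHom.mem_ker.1 hf, map_zero]
      have hfin' : Module.Finite k (k[T;T⁻¹] ⧸ GLin.stabIdeal k k[T;T⁻¹] (GLin.vecPt k ι v)) := hfin
      rw [hJ] at hfin'
      have : Module.Finite k k[T;T⁻¹] :=
        Module.Finite.equiv (AlgEquiv.quotientBot k k[T;T⁻¹]).toLinearEquiv
      exact Infinite.not_finite (Module.Finite.finite_basis (AddMonoidAlgebra.basis ℤ k))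
    by_contra! H
    let y : ι → k := fun i => if r i = 0 then v i else 0
    have hy : ∀ F : MvPolynomial ι k,
        (GLin.orbitHom k k[T;T⁻¹] (GLin.vecPt k ι v) F).coeff 0 = MvPolynomial.eval y F := by
      intro F
      induction F using MvPolynomial.induction_on' with
      | add p q hp hq => rw [map_add, map_add, AddMonoidAlgebra.coeff_add, Finsupp.add_apply, hp, hq]
      | monomial d c =>
        rw [orbit_monomial r hr, AddMonoidAlgebra.coeff_single, Finsupp.single_apply,
          MvPolynomial.eval_monomial, Finsupp.prod_fintype _ _ (fun i => pow_zero _)]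
        have hy0 : ∀ i, r i ≠ 0 → d i ≠ 0 → ∏ l, y l ^ d l = 0 := fun i hi hd =>
          Finset.prod_eq_zero (Finset.mem_univ i) (by simp [y, hi, zero_pow hd])
        split_ifs with hw
        · by_cases hex : ∃ i, r i ≠ 0 ∧ d i ≠ 0
          · obtain ⟨i, hi, hdi⟩ := hex
            rw [hy0 i hi hdi]
            by_contra hne
            have hpn : ∏ l, v l ^ d l ≠ 0 := fun h => hne (by rw [h])
            have hvne : ∀ l, d l ≠ 0 → v l ≠ 0 := fun l hl h0 =>
              hpn (Finset.prod_eq_zero (Finset.mem_univ l) (by rw [h0, zero_pow hl]))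
            rw [Finsupp.weight_apply, Finsupp.sum_fintype _ _ (fun l => zero_smul ℕ (r l))] at hw
            rcases lt_or_gt_of_ne hi with hneg | hpos
            · have : ∑ l, d l • r l < 0 := by
                refine Finset.sum_neg' (fun l _ => ?_) ⟨i, Finset.mem_univ _, ?_⟩
                · rcases eq_or_ne (d l) 0 with h0 | h0
                  · simp [h0]
                  · rw [nsmul_eq_mul]
                    exact mul_nonpos_of_nonneg_of_nonpos (by positivity)
                      (H i l (hvne i hdi) (hvne l h0) hneg)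
                · rw [nsmul_eq_mul]
                  exact mul_neg_of_pos_of_neg (by positivity) hneg
              omega
            · have : 0 < ∑ l, d l • r l := by
                refine Finset.sum_pos' (fun l _ => ?_) ⟨i, Finset.mem_univ _, ?_⟩
                · rcases eq_or_ne (d l) 0 with h0 | h0
                  · simp [h0]
                  · rw [nsmul_eq_mul]
                    refine mul_nonneg (by positivity) (le_of_not_gt fun hneg => ?_)
                    have := H l i (hvne l h0) (hvne i hdi) hneg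
                    omega
                · rw [nsmul_eq_mul]
                  exact mul_pos (by positivity) hpos
              omega
          · push Not at hex
            congr 1
            refine Finset.prod_congr rfl fun l _ => ?_
            by_cases hl : r l = 0
            · simp [y, hl]
            · simp [hex l hl]
        · obtain ⟨i, hi, hdi⟩ : ∃ i, r i ≠ 0 ∧ d i ≠ 0 := by
            by_contra! hex
            refine hw ?_
            rw [Finsupp.weight_apply]
            refine Finset.sum_eq_zero fun l _ => ?_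
            by_cases hl : r l = 0
            · simp [hl]
            · simp [hex l hl]
          rw [hy0 i hi hdi, mul_zero]
    let P : PrimeSpectrum (MvPolynomial ι k) :=
      ⟨RingHom.ker (MvPolynomial.aeval y : MvPolynomial ι k →ₐ[k] k), RingHom.ker_isPrime _⟩
    have hP : P ∈ closure (Set.range
        (PrimeSpectrum.comap (GLin.orbitHom k k[T;T⁻¹] (GLin.vecPt k ι v)).toRingHom)) := by
      rw [PrimeSpectrum.closure_range_comap, PrimeSpectrum.mem_zeroLocus]
      intro F hF
      change MvPolynomial.aeval y F = 0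
      have h0 : GLin.orbitHom k k[T;T⁻¹] (GLin.vecPt k ι v) F = 0 := hF
      have := hy F
      rw [h0] at this
      simpa [MvPolynomial.aeval_eq_eval] using this.symm
    rw [IsClosed.closure_eq hclosed] at hP
    obtain ⟨Q, hQ⟩ := hP
    have hmem : (MvPolynomial.C (v i₀)⁻¹ * MvPolynomial.X i₀ : MvPolynomial ι k) ∈ P.asIdeal := by
      change MvPolynomial.aeval y (MvPolynomial.C (v i₀)⁻¹ * MvPolynomial.X i₀) = 0
      simp [y, hri₀]
    rw [← hQ] at hmem
    have : GLin.orbitHom k k[T;T⁻¹] (GLin.vecPt k ι v) (MvPolynomial.C (v i₀)⁻¹ * MvPolynomial.X i₀) ∈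
        Q.asIdeal := hmem
    rw [orbit_normalized r hr v i₀ hvi₀] at this
    exact Q.isPrime.ne_top (Ideal.eq_top_of_isUnit_mem _ this (isUnit_T _))
  · rintro ⟨i, j, hi, hj, hri, hrj⟩
    exact ⟨((PrimeSpectrum.isClosedMap_comap_of_isIntegral _ (isIntegral_orbit r hr v hi hj hri hrj)).isClosed_range),
      finite_stab r hr v hj hrj⟩

end Groth.Agent.S19423
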