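import Groth.Statements.S19424
import Groth.Agent.Lib.GoodQuot13.Basic
-- import your own Groth.Agent.* helpers here

set_option autoImplicit false
universe u
open CategoryTheory MonoidalCategory CartesianMonoidalCategory MonObj AlgebraicGeometry Topology
open NRQuot

namespace Groth.Agent.S19424

/-- Let k be an algebraically closed field, G an affine group scheme of finite type over k acting on a
k-scheme X locally of finite type, and φ : X → Y a good quotient (affine and invariant, functions on
every open of Y are exactly the invariant functions on its preimage, invariant closed subsets have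
closed images, and images commute with intersections of families of invariant closed subsets). Then
for two k-points x₁, x₂ of X, the closures of their orbits (the images of the orbit morphisms G → X)
have a common point if and only if x₁ and x₂ have the same image in Y. -/
theorem result
    (k : Type u) [Field k] [IsAlgClosed k]
    (G X Y : Over (Spec (CommRingCat.of k))) [GrpObj G] [IsAffine G.left] [LocallyOfFiniteType G.hom]
    [LocallyOfFiniteType X.hom]
    (a : AlgGrp.Action G X) (φ : X ⟶ Y) (h : NRQuot.IsGoodQuot a φ)
    (x₁ x₂ : 𝟙_ (Over (Spec (CommRingCat.of k))) ⟶ X) :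
    (closure (Set.range (a.orbitMap x₁).left.base) ∩ closure (Set.range (a.orbitMap x₂).left.base)).Nonempty ↔
      x₁ ≫ φ = x₂ ≫ φ := by
  constructor
  · rintro ⟨p, hp₁, hp₂⟩
    have e₁ := GrothLib.GoodQuot13.closure_range_orbitMap_subset a h.inv x₁ hp₁
    have e₂ := GrothLib.GoodQuot13.closure_range_orbitMap_subset a h.inv x₂ hp₂
    rw [Set.mem_preimage, Set.mem_singleton_iff] at e₁ e₂
    exact GrothLib.GoodQuot13.rationalPoint_ext _ _ (e₁.symm.trans e₂)
  · intro e
    let W : ULift.{u} Bool → Set X.left := fun b =>
      cond b.down (closure (Set.range (a.orbitMap x₁).left)) (closure (Set.range (a.orbitMap x₂).left))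
    have hi := h.inter _ W (fun ⟨b⟩ => by cases b <;> exact isClosed_closure)
      (fun ⟨b⟩ => by cases b <;> exact GrothLib.GoodQuot13.isInvariantSet_closure_range_orbitMap a _)
    have hy : (x₁ ≫ φ).left (IsLocalRing.closedPoint k) ∈ ⋂ b, φ.left.base '' (W b) := by
      refine Set.mem_iInter.2 fun ⟨b⟩ => ?_
      cases b
      · exact ⟨_, subset_closure (GrothLib.GoodQuot13.mem_range_orbitMap_self a x₂), by rw [e]; rfl⟩
      · exact ⟨_, subset_closure (GrothLib.GoodQuot13.mem_range_orbitMap_self a x₁), rfl⟩
    rw [← hi] at hy
    obtain ⟨p, hp, -⟩ := hy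
    exact ⟨p, Set.mem_iInter.1 hp ⟨true⟩, Set.mem_iInter.1 hp ⟨false⟩⟩

end Groth.Agent.S19424
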