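import Groth.Statements.S19425
import Groth.Agent.Lib.AssocBundle.Basic
import Groth.Agent.Lib.GoodQuot13.Basic
import Mathlib
-- import your own Groth.Agent.* helpers here

set_option autoImplicit false
universe u
open CategoryTheory MonoidalCategory CartesianMonoidalCategory MonObj AlgebraicGeometry Topology
open NRQuot

namespace Groth.Agent.S19425

set_option backward.isDefEq.respectTransparency false

section

/-- An open immersion identifies the sections over an open of its range with those over the preimage. -/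
theorem bijective_appLE {X Y : Scheme.{u}} (f : X ⟶ Y) [IsOpenImmersion f] (V : Y.Opens) (W : X.Opens)
    (e : W ≤ f ⁻¹ᵁ V) (hW : W = f ⁻¹ᵁ V) (hV : V ≤ f.opensRange) : Function.Bijective (f.appLE V W e).hom := by
  subst hW
  rw [← Scheme.Hom.app_eq_appLE]
  haveI := f.isIso_app V hV
  exact (ConcreteCategory.isIso_iff_bijective (f.app V)).1 inferInstance

/-- The closure of an invariant set is invariant. -/
theorem isInvariantSet_closure {k : Type u} [Field k] {G X : Over (Spec (CommRingCat.of k))} [GrpObj G]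
    (a : AlgGrp.Action G X) {W : Set ↥X.left} (hW : NRQuot.IsInvariantSet a W) :
    NRQuot.IsInvariantSet a (closure W) := by
  intro p hp
  haveI : UniversallyOpen (snd G X).left :=
    inferInstanceAs (UniversallyOpen (Limits.pullback.snd G.hom X.hom))
  have h : p ∈ (snd G X).left ⁻¹' closure W := hp
  rw [(snd G X).left.isOpenMap.preimage_closure_eq_closure_preimage (snd G X).left.continuous] at h
  exact map_mem_closure a.act.left.continuous h fun q hq => hW q hq

end



/-- Let k be an algebraically closed field, G an affine group scheme of finite type over k acting on a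
k-scheme X locally of finite type, φ : X → Y a good quotient (affine and invariant, functions on
every open of Y are exactly the invariant functions on its preimage, invariant closed subsets have
closed images, and images commute with intersections of families of invariant closed subsets), and U
an open subset of Y. Equip the open subscheme φ⁻¹(U) of X with the restricted action, given here as
an action compatible with the inclusion into X, and let φ_U : φ⁻¹(U) → U be the restriction of φ.
Then φ_U is a good quotient for the restricted action. -/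
theorem result
    (k : Type u) [Field k] [IsAlgClosed k]
    (G X Y : Over (Spec (CommRingCat.of k))) [GrpObj G] [IsAffine G.left] [LocallyOfFiniteType G.hom]
    [LocallyOfFiniteType X.hom]
    (a : AlgGrp.Action G X) (φ : X ⟶ Y) (h : NRQuot.IsGoodQuot a φ)
    (U : Y.left.Opens)
    (aU : AlgGrp.Action G (Over.mk ((φ.left ⁻¹ᵁ U).ι ≫ X.hom)))
    (jU : Over.mk ((φ.left ⁻¹ᵁ U).ι ≫ X.hom) ⟶ X) (hjU : jU.left = (φ.left ⁻¹ᵁ U).ι)
    (haU : aU.act ≫ jU = (G ◁ jU) ≫ a.act)
    (φU : Over.mk ((φ.left ⁻¹ᵁ U).ι ≫ X.hom) ⟶ Over.mk (U.ι ≫ Y.hom))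
    (hφU : φU.left ≫ U.ι = (φ.left ⁻¹ᵁ U).ι ≫ φ.left) :
    NRQuot.IsGoodQuot aU φU := by
  haveI := h.affine
  let V : X.left.Opens := φ.left ⁻¹ᵁ U
  haveI hjo : IsOpenImmersion jU.left := by rw [hjU]; infer_instance
  have sqj := GrothLib.AssocBundle.isPullback_whiskerLeft_snd G jU
  haveI hgo : IsOpenImmersion (G ◁ jU).left := MorphismProperty.of_isPullback sqj.flip hjo
  have hactl : aU.act.left ≫ jU.left = (G ◁ jU).left ≫ a.act.left := congrArg (fun q => q.left) haU
  have hrange : ∀ p, (snd G X).left p ∈ Set.range jU.left → p ∈ Set.range (G ◁ jU).left := fun p hp => by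
    obtain ⟨v, hv⟩ := hp
    obtain ⟨q, hq1, -⟩ := Scheme.Pullback.exists_preimage_pullback (f := (snd G X).left) (g := jU.left) p v hv.symm
    refine ⟨sqj.isoPullback.inv q, ?_⟩
    rw [← Scheme.Hom.comp_apply, sqj.isoPullback_inv_fst]
    exact hq1
  have hrj : Set.range jU.left = (V : Set X.left) := by rw [hjU]; exact V.range_ι
  have hφi : ∀ v, U.ι (φU.left v) = φ.left (jU.left v) := fun v => by
    rw [hjU]
    exact congrArg (fun q => q v) hφU
  have hVmem : ∀ {x}, x ∈ (V : Set X.left) ↔ φ.left x ∈ U := Iff.rfl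
  have hinvimg : ∀ W, IsInvariantSet aU W → IsInvariantSet a (jU.left '' W) := fun W hW p hp => by
    obtain ⟨w, hw, hwp⟩ := hp
    obtain ⟨q, rfl⟩ := hrange p ⟨w, hwp⟩
    refine ⟨aU.act.left q, hW q ?_, ?_⟩
    · have e : jU.left ((snd G _).left q) = (snd G X).left ((G ◁ jU).left q) := by
        rw [← Scheme.Hom.comp_apply, ← Scheme.Hom.comp_apply, sqj.w]
      have : (snd G _).left q = w := jU.left.isOpenEmbedding.injective (e.trans hwp.symm)
      show (snd G _).left q ∈ W
      rw [this]; exact hw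
    · show jU.left (aU.act.left q) = a.act.left ((G ◁ jU).left q)
      rw [← Scheme.Hom.comp_apply, hactl, Scheme.Hom.comp_apply]
  have hpre : ∀ W, IsClosed W → jU.left ⁻¹' closure (jU.left '' W) = W := fun W hW => by
    rw [← jU.left.isOpenEmbedding.isEmbedding.closure_eq_preimage_closure_image, hW.closure_eq]
  have himg : ∀ W, IsClosed W →
      φU.left '' W = U.ι ⁻¹' (φ.left '' closure (jU.left '' W)) := fun W hW => by
    refine Set.ext fun y => ⟨?_, ?_⟩
    · rintro ⟨w, hw, rfl⟩
      exact ⟨jU.left w, subset_closure ⟨w, hw, rfl⟩, (hφi w).symm⟩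
    · rintro ⟨x, hx, hxy⟩
      have hxV : x ∈ (V : Set X.left) := by
        rw [hVmem, hxy]; exact y.2
      rw [← hrj] at hxV
      obtain ⟨w, rfl⟩ := hxV
      refine ⟨w, ?_, U.ι.isOpenEmbedding.injective ((hφi w).trans hxy)⟩
      rw [← hpre W hW]; exact hx
  refine ⟨?_, ?_, fun U' => ?_, fun W hW hinv => ?_, fun J W hW hinv => ?_⟩
  · have sq : IsPullback φU.left V.ι U.ι φ.left := by
      refine IsOpenImmersion.isPullback _ _ _ _ hφU.symm ?_
      rw [Scheme.Opens.opensRange_ι, Scheme.Opens.opensRange_ι]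
    exact MorphismProperty.of_isPullback sq.flip h.affine
  · apply Over.OverMorphism.ext
    rw [← cancel_mono U.ι]
    simp only [Over.comp_left, Category.assoc, hφU, ← hjU]
    rw [reassoc_of% hactl, h.inv.left, ← reassoc_of% sqj.w]
  · let U'' := U.ι ''ᵁ U'
    have eα : U' ≤ U.ι ⁻¹ᵁ U'' := by rw [Scheme.Hom.preimage_image_eq]
    have eβ : φU.left ⁻¹ᵁ U' = jU.left ⁻¹ᵁ (φ.left ⁻¹ᵁ U'') := by
      refine TopologicalSpace.Opens.ext (Set.ext fun v => ?_)
      show φU.left v ∈ U' ↔ φ.left (jU.left v) ∈ U''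
      rw [← hφi]
      exact ⟨fun h => ⟨_, h, rfl⟩, fun ⟨y, hy, e⟩ => U.ι.isOpenEmbedding.injective e ▸ hy⟩
    let α := U.ι.appLE U'' U' eα
    let β := jU.left.appLE (φ.left ⁻¹ᵁ U'') (φU.left ⁻¹ᵁ U') eβ.le
    have hU'' : U'' ≤ U := fun y hy => by obtain ⟨z, -, rfl⟩ := hy; exact z.2
    have hα : Function.Bijective α.hom := bijective_appLE _ _ _ eα (by rw [Scheme.Hom.preimage_image_eq])
      (by rw [Scheme.Opens.opensRange_ι]; exact hU'')
    have hβ : Function.Bijective β.hom := bijective_appLE _ _ _ eβ.le eβ (fun x hx => by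
      show x ∈ Set.range jU.left
      rw [hrj]; exact hU'' hx)
    have hsq : φ.left.app U'' ≫ β = α ≫ φU.left.app U' := by
      simp only [α, β, Scheme.Hom.app_eq_appLE, Scheme.Hom.appLE_comp_appLE, hφU, hjU]
    have hsq' : ∀ s, β.hom (φ.left.app U'' s) = φU.left.app U' (α.hom s) := fun s => by
      exact congrArg (fun q => q.hom s) hsq
    obtain ⟨hinj, hrng⟩ := h.sections U''
    refine ⟨fun s s' e => ?_, ?_⟩
    · obtain ⟨t, rfl⟩ := hα.2 s
      obtain ⟨t', rfl⟩ := hα.2 s'
      exact congrArg _ (hinj (hβ.1 ((hsq' t).trans (e.trans (hsq' t').symm))))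
    have key : ∀ f, GIT.IsInvSection aU φU U' (β.hom f) ↔ GIT.IsInvSection a φ U'' f := fun f => by
      let W₁ := a.act.left ⁻¹ᵁ (φ.left ⁻¹ᵁ U'') ⊓ (snd G X).left ⁻¹ᵁ (φ.left ⁻¹ᵁ U'')
      let W₂ := aU.act.left ⁻¹ᵁ (φU.left ⁻¹ᵁ U') ⊓ (snd G _).left ⁻¹ᵁ (φU.left ⁻¹ᵁ U')
      have eW : W₂ = (G ◁ jU).left ⁻¹ᵁ W₁ := by
        refine TopologicalSpace.Opens.ext (Set.ext fun q => ?_)
        show (aU.act.left q ∈ φU.left ⁻¹ᵁ U' ∧ (snd G _).left q ∈ φU.left ⁻¹ᵁ U') ↔
          (a.act.left ((G ◁ jU).left q) ∈ φ.left ⁻¹ᵁ U'' ∧ (snd G X).left ((G ◁ jU).left q) ∈ φ.left ⁻¹ᵁ U'')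
        rw [← Scheme.Hom.comp_apply (G ◁ jU).left a.act.left, ← hactl,
          ← Scheme.Hom.comp_apply (G ◁ jU).left (snd G X).left, sqj.w, eβ]
        rfl
      have hb : Function.Bijective ((G ◁ jU).left.appLE W₁ W₂ eW.le).hom :=
        bijective_appLE _ _ _ eW.le eW (fun p hp => hrange p (by
          rw [hrj]; exact hU'' hp.2))
      unfold GIT.IsInvSection
      refine Iff.trans ?_ hb.1.eq_iff
      show aU.act.left.appLE _ W₂ _ (β.hom f) = (snd G _).left.appLE _ W₂ _ (β.hom f) ↔ _
      rw [← CommRingCat.comp_apply, ← CommRingCat.comp_apply, ← CommRingCat.comp_apply, ← CommRingCat.comp_apply]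
      simp only [β, W₁, Scheme.Hom.appLE_comp_appLE, hactl, ← sqj.w]
    ext f
    obtain ⟨f₀, rfl⟩ := hβ.2 f
    rw [Set.mem_ofPred_eq, key]
    refine ⟨?_, fun hf => ?_⟩
    · rintro ⟨s, hs⟩
      obtain ⟨t, rfl⟩ := hα.2 s
      rw [← hsq'] at hs
      have hm : f₀ ∈ Set.range (φ.left.app U'') := ⟨t, hβ.1 hs⟩
      rwa [hrng] at hm
    · obtain ⟨t, rfl⟩ := (hrng.symm ▸ hf : f₀ ∈ Set.range (φ.left.app U''))
      exact ⟨α.hom t, (hsq' t).symm⟩
  · rw [himg W hW]
    exact (h.closed _ isClosed_closure (isInvariantSet_closure a (hinvimg W hinv))).preimage U.ι.continuous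
  · have hI : IsClosed (⋂ i, W i) := isClosed_iInter hW
    have e := h.inter J (fun i => closure (jU.left '' W i)) (fun i => isClosed_closure)
      (fun i => isInvariantSet_closure a (hinvimg _ (hinv i)))
    refine Set.Subset.antisymm (Set.image_iInter_subset _ _) fun y hy => ?_
    have hy' : U.ι y ∈ ⋂ i, φ.left '' closure (jU.left '' W i) := Set.mem_iInter.2 fun i => by
      have := Set.mem_iInter.1 hy i
      rw [himg _ (hW i)] at this
      exact this
    rw [← e] at hy'
    obtain ⟨x, hx, hxy⟩ := hy'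
    have hxV : x ∈ (V : Set X.left) := by
      rw [hVmem]; exact hxy ▸ y.2
    rw [← hrj] at hxV
    obtain ⟨w, rfl⟩ := hxV
    refine ⟨w, Set.mem_iInter.2 fun i => ?_, U.ι.isOpenEmbedding.injective ((hφi w).trans hxy)⟩
    rw [← hpre _ (hW i)]
    exact Set.mem_iInter.1 hx i

end Groth.Agent.S19425
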