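import Groth.Statements.S19427
import Groth.Agent.Lib.MilnorK.Basic

set_option autoImplicit false
universe u
open MilnorK

namespace Groth.Agent.S19427

/-- For a field F and nonzero b, c with b + c ≠ 0, in the Milnor K-group K_2(F) one has {b, c} + {b + c,
-b/c} = 0, that is {b, c} = -{b + c, -b/c} = {b + c, -c/b}. (The identity as displayed in the source
is {b, c} = {b + c, -b/c}, which differs from this by a sign and fails in general: for b = 3, c = 5
over the rationals the tame symbol at 5 takes the values 3 and 1/3 on the two sides; the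
accompanying derivation from the Steinberg relation b/(b+c) + c/(b+c) = 1 gives exactly the identity
stated here.) -/
theorem result (F : Type u) [Field F] (b c : Fˣ)
    (h : (b : F) + (c : F) ≠ 0) :
    (MilK.symbol ![b, c] : MilK.K F 2) + MilK.symbol ![Units.mk0 ((b : F) + (c : F)) h, -(b / c)] = 0 := by
  open GrothLib.MilnorK in
  have e : ∀ p q : Fˣ, (MilK.symbol ![p, q] : MilK.K F 2) = lmul p (lmul q (MilK.symbol ![])) :=
    fun p q => by rw [lmul_symbol, lmul_symbol]; rfl
  open GrothLib.MilnorK in
  have key : lmul (b * (Units.mk0 ((b : F) + c) h)⁻¹) (lmul (c * (Units.mk0 ((b : F) + c) h)⁻¹)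
      (MilK.symbol ![])) = (0 : MilK.K F 2) := lmul_lmul_steinberg _ _ (by simp; field_simp) _
  rw [e, e]
  generalize Units.mk0 ((b : F) + c) h = s at key ⊢
  generalize (MilK.symbol ![] : MilK.K F 0) = z at key ⊢
  open GrothLib.MilnorK in
  simp only [lmul_mul, lmul_inv, map_add, map_neg] at key
  open GrothLib.MilnorK in
  rw [show -(b / c) = -1 * (b * c⁻¹) by rw [div_eq_mul_inv, neg_one_mul], lmul_mul, lmul_mul, lmul_inv,
    map_add, map_add, map_neg, ← lmul_lmul_self, ← key, lmul_lmul_comm b s]
  abel

end Groth.Agent.S19427
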