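import Groth.Statements.S19430
-- import your own Groth.Agent.* helpers here
import Groth.Agent.Lib.PBFree17.FromPB


set_option autoImplicit false
universe u
open SGA6

namespace Groth.Agent.S19430

open CategoryTheory CategoryTheory.Limits AlgebraicGeometry in
/-- For Grothendieck groups of vector bundles (the degree-zero case of the statement), let T be a
quasi-compact scheme, E a finite locally free O_T-module of rank r, and (π : P ⟶ T, O(1), q) a
projective bundle P(E) of E, characterised by its universal property for invertible quotients of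
pull-backs of E; let O(-1) be an inverse of the invertible module O(1). For each i < r let G_i be an
additive map from K₀ of the finite locally free O_T-modules to K₀ of the finite locally free
O_P-modules with G_i [N] = [O(-1)^{⊗ i} ⊗ π^* N] for every finite locally free N (the K₀(T)-module
structure of K₀(P) through π^* and the powers of t = [O(-1)]). Then (a_0, …, a_{r-1}) ↦ Σ_i G_i
(a_i) is a bijection from K₀(T)^r onto K₀(P): K₀(P) is free over K₀(T) on 1, t, …, t^{r-1}. No
Noetherian or connectedness hypothesis on T. -/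
theorem result (T P : Scheme.{u}) [CompactSpace T]
    (r : ℕ) (E : T.Modules) (hE : FlatMod.IsFinLocFreeOfRank r E)
    (π : P ⟶ T) (O1 : P.Modules) (q : (Scheme.Modules.pullback π).obj E ⟶ O1) (hPB : KRR.IsProjBundle π E O1 q)
    (Oinv : P.Modules) (hinv : ClSub.IsInverseOf Oinv O1)
    (G : Fin r → (SGA6.Kvb T →+ SGA6.Kvb P))
    (hG : ∀ (i : Fin r) (N : T.Modules), FlatMod.IsFinLocFree N →
      G i (KRR.cl T N) = KRR.cl P (CohB1.tensorMod (CohB1.tensorPow Oinv (i : ℕ)) ((Scheme.Modules.pullback π).obj N))) :
    Function.Bijective (fun a : Fin r → SGA6.Kvb T => ∑ i : Fin r, G i (a i)) := by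
  obtain _ | m := r
  · have hE0 : IsZero E := GrothLib.OX.isZero_of_subsingleton_stalks _ fun y => by
      obtain ⟨U, e, hy, he⟩ := GrothLib.FinCov.exists_frame_nhd_of_rank hE y
      obtain ⟨b⟩ := GrothLib.Euler.stalk_basis_of_frame he hy
      exact b.repr.toEquiv.subsingleton
    haveI : (Scheme.Modules.pullback π).Additive :=
      (Scheme.Modules.pullbackPushforwardAdjunction π).left_adjoint_additive
    have hO0 : IsZero O1 := @IsZero.of_epi _ _ _ _ _ q hPB.epi ((Scheme.Modules.pullback π).map_isZero hE0)
    have hP : IsEmpty ↥P := ⟨fun y => by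
      have hO := GrothLib.Euler.isFinLocFree_of_isInvertible (GrothLib.Euler.isInvertible_structure (X := P))
      have hZ : IsZero (Coh.structureModule P) :=
        ((((DCoh.tensorBi (X := P)).obj Oinv).map_isZero hO0 :)).of_iso hinv.some.symm
      obtain ⟨ψ, hψ⟩ := GrothLib.PBFree17.exists_rankAt y
      have h2 := hψ _ hO
      rw [show KRR.cl P (Coh.structureModule P) = 0 from GrothLib.K0Sub.clSub_isZero hZ, map_zero,
        show Module.finrank (P.presheaf.stalk y) ((Coh.structureModule P).presheaf.stalk y) = 1 from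
          GrothLib.PBFree17.rk_structure y] at h2
      simp at h2⟩
    haveI : Subsingleton (SGA6.Kvb P) := by
      have h0 : AddMonoidHom.id (SGA6.Kvb P) = 0 := GrothLib.K0Sub.hom_ext (P := KRR.vbP P) fun F hF =>
        GrothLib.K0Sub.clSub_isZero (GrothLib.PBFree17.eq_zero_of_rank_zero hF fun y => hP.elim y)
      exact ⟨fun a b => (DFunLike.congr_fun h0 a).trans (DFunLike.congr_fun h0 b).symm⟩
    exact ⟨fun a b _ => funext fun i => i.elim0, fun x => ⟨fun i => i.elim0, Subsingleton.elim _ _⟩⟩
  obtain ⟨S, -, hneg⟩ := GrothLib.PBFree17.exists_setup hE hPB hinv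
  obtain ⟨o⟩ := S.nonempty_ops
  have key : ∀ i : Fin (m + 1), G i = (o.τ (-((i : ℕ) : ℤ))).comp o.q := fun i =>
    GrothLib.K0Sub.hom_ext (P := KRR.vbP T) fun N hN => by
      show G i (KRR.cl T N) = o.τ (-((i : ℕ) : ℤ)) (o.q (KRR.cl T N))
      rw [hG i N hN, o.hq N hN, o.hτ _ _ (GrothLib.OX.isFinLocFree_pullback π hN)]
      exact (GrothLib.PBFree17.cl_iso (((DCoh.tensorBi (X := P)).mapIso (hneg (i : ℕ)).some).app _)
        (S.isFinLocFree_tF (GrothLib.OX.isFinLocFree_pullback π hN) _)).symm
  simp only [key, AddMonoidHom.comp_apply]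
  exact o.bijective

end Groth.Agent.S19430
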