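import Groth.Statements.S19436
import Mathlib.RingTheory.Nakayama
import Mathlib.LinearAlgebra.FiniteDimensional.Lemmas

set_option autoImplicit false
universe u
open CAlg

namespace Groth.Agent.S19436

/-- For a Noetherian local commutative algebra R over a field k, with maximal ideal M, and an ideal I of
R whose quotient R/I is finite-dimensional over k of dimension n, the power M^n lies in I. -/
theorem result (k : Type u) [Field k] (R : Type u) [CommRing R]
    [Algebra k R] [IsNoetherianRing R] [IsLocalRing R] (I : Ideal R) [Module.Finite k (R ⧸ I)] (n : ℕ)
    (hn : Module.finrank k (R ⧸ I) = n) : IsLocalRing.maximalIdeal R ^ n ≤ I := by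
  haveI : Module.Finite R (R ⧸ I) := Module.Finite.of_restrictScalars_finite k R (R ⧸ I)
  let N : ℕ → Submodule R (R ⧸ I) := fun i => IsLocalRing.maximalIdeal R ^ i • ⊤
  have hsucc : ∀ i, N (i + 1) = IsLocalRing.maximalIdeal R • N i := fun i => by
    simp only [N, pow_succ', Submodule.mul_smul]
  let d : ℕ → ℕ := fun i => Module.finrank k ((N i).restrictScalars k)
  have key : ∀ i, N i = ⊥ ∨ d i + i ≤ n := by
    intro i
    induction i with
    | zero =>
      right
      have := Submodule.finrank_le ((N 0).restrictScalars k)
      simpa [d, hn] using this
    | succ i ih =>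
      rcases ih with h | h
      · left; rw [hsucc, h, Submodule.smul_bot]
      · by_cases hz : N i = ⊥
        · left; rw [hsucc, hz, Submodule.smul_bot]
        · right
          have hle : N (i + 1) ≤ N i := by rw [hsucc]; exact Submodule.smul_le_right
          have hne : N (i + 1) ≠ N i := by
            intro he
            apply hz
            apply Submodule.eq_bot_of_le_smul_of_le_jacobson_bot (IsLocalRing.maximalIdeal R)
              (N i) (IsNoetherian.noetherian _)
            · rw [← hsucc, he]
            · exact (IsLocalRing.jacobson_eq_maximalIdeal ⊥ bot_ne_top).ge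
          have hlt : (N (i + 1)).restrictScalars k < (N i).restrictScalars k :=
            lt_of_le_of_ne hle fun he => hne (Submodule.restrictScalars_injective k R _ he)
          have h2 : d (i + 1) < d i := Submodule.finrank_lt_finrank_of_lt hlt
          omega
  have hbot : N n = ⊥ := by
    rcases key n with h | h
    · exact h
    · have h0 : d n = 0 := by omega
      exact (Submodule.restrictScalars_eq_bot_iff _ _ _).1 (Submodule.finrank_eq_zero.1 h0)
  intro x hx
  have h1 : x • (1 : R ⧸ I) ∈ N n := Submodule.smul_mem_smul hx Submodule.mem_top
  rw [hbot, Submodule.mem_bot, Algebra.smul_def, mul_one, Ideal.Quotient.algebraMap_eq] at h1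
  exact Ideal.Quotient.eq_zero_iff_mem.1 h1

end Groth.Agent.S19436
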