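import Groth.Statements.S19437
import Mathlib


set_option autoImplicit false
set_option linter.all false
universe u
open CAlg

namespace Groth.Agent.S19437

open MvPowerSeries

variable (k : Type u) [Field k]

/-- Splitting off the part in a single variable. -/
theorem exists_split (s t : Fin 2) (hst : s ≠ t) (i : ℕ) (f : MvPowerSeries (Fin 2) k)
    (h : ∀ l < i, coeff (Finsupp.single s l) f = 0) :
    ∃ u w, f = X s ^ i * u + X t * w ∧ constantCoeff u = coeff (Finsupp.single s i) f := by
  obtain ⟨u, hu⟩ : ∃ u : MvPowerSeries (Fin 2) k, ∀ m, coeff m u =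
      if m t = 0 then coeff (m + Finsupp.single s i) f else 0 :=
    ⟨fun m => if m t = 0 then coeff (m + Finsupp.single s i) f else 0, fun m => rfl⟩
  obtain ⟨w, hw⟩ : ∃ w : MvPowerSeries (Fin 2) k, ∀ m, coeff m w = coeff (m + Finsupp.single t 1) f :=
    ⟨fun m => coeff (m + Finsupp.single t 1) f, fun m => rfl⟩
  refine ⟨u, w, ?_, ?_⟩
  · ext m
    rw [map_add, X_pow_eq, X_def, coeff_monomial_mul, coeff_monomial_mul, one_mul, one_mul, hu, hw]
    by_cases ht : m t = 0
    · rw [if_neg (c := Finsupp.single t 1 ≤ m) (by rw [Finsupp.single_le_iff]; omega), add_zero]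
      by_cases hs : Finsupp.single s i ≤ m
      · rw [if_pos hs, if_pos (by simp [Finsupp.tsub_apply, ht]), tsub_add_cancel_of_le hs]
      · rw [if_neg hs]
        have hm : m = Finsupp.single s (m s) := by
          ext j
          rcases (show j = s ∨ j = t by fin_cases s <;> fin_cases t <;> fin_cases j <;> simp at hst ⊢) with rfl | rfl
          · simp
          · rw [ht, Finsupp.single_eq_of_ne hst.symm]
        rw [hm]
        exact h (m s) (by rw [Finsupp.single_le_iff] at hs; omega)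
    · have hle : Finsupp.single t 1 ≤ m := by rw [Finsupp.single_le_iff]; omega
      rw [if_pos hle, tsub_add_cancel_of_le hle]
      by_cases hs : Finsupp.single s i ≤ m
      · rw [if_pos hs, if_neg (by simp [Finsupp.tsub_apply, Finsupp.single_eq_of_ne hst.symm, ht]), zero_add]
      · rw [if_neg hs, zero_add]
  · rw [← coeff_zero_eq_constantCoeff_apply, hu]
    simp

/-- Low coefficients in one variable of elements of the ideal vanish. -/
theorem coeff_low (J : Ideal (MvPowerSeries (Fin 2) k)) (s t : Fin 2) (hst : s ≠ t) (hxy : X s * X t ∈ J)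
    {f : MvPowerSeries (Fin 2) k} (hf : f ∈ J) {i : ℕ} (hi : ∀ m ≤ i, (X s : MvPowerSeries (Fin 2) k) ^ (m + 1) ∉ J) :
    ∀ l ≤ i, coeff (Finsupp.single s l) f = 0 := by
  intro l
  induction l using Nat.strong_induction_on with
  | _ l ih =>
    intro hl
    by_contra hne
    obtain ⟨u, w, huw, hu⟩ := exists_split k s t hst l f (fun m hm => ih m hm (by omega))
    refine hi l hl ?_
    have hu' : IsUnit u := isUnit_iff_constantCoeff.2 (isUnit_iff_ne_zero.2 (hu ▸ hne))
    refine (Ideal.mul_unit_mem_iff_mem J hu').1 ?_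
    rw [show X s ^ (l + 1) * u = X s * f - w * (X s * X t) by rw [huw]; ring]
    exact J.sub_mem (J.mul_mem_left _ hf) (J.mul_mem_left _ hxy)

theorem mem_triple {a b : ℕ} (ha : 1 ≤ a) (hb : 1 ≤ b) {f : MvPowerSeries (Fin 2) k}
    (h0 : ∀ l < a, coeff (Finsupp.single 0 l) f = 0) (h1 : ∀ l < b, coeff (Finsupp.single 1 l) f = 0) :
    f ∈ Ideal.span {X 0 * X 1, X 0 ^ a, X 1 ^ b} := by
  obtain ⟨u, w, huw, -⟩ := exists_split k 0 1 (by decide) a f h0
  have hw : ∀ l < b - 1, coeff (Finsupp.single 1 l) w = 0 := by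
    intro l hl
    have h := h1 (l + 1) (by omega)
    rw [huw, map_add, X_pow_eq, X_def, coeff_monomial_mul, coeff_monomial_mul,
      if_neg (by rw [Finsupp.single_le_iff]; simp; omega), zero_add,
      if_pos (by rw [Finsupp.single_le_iff]; simp), one_mul, ← Finsupp.single_tsub, Nat.add_sub_cancel] at h
    exact h
  obtain ⟨u', w', hw', -⟩ := exists_split k 1 0 (by decide) (b - 1) w hw
  refine Ideal.mem_span_insert.2 ⟨w', u * X 0 ^ a + u' * X 1 ^ b, ?_, ?_⟩
  · exact Ideal.mem_span_pair.2 ⟨u, u', rfl⟩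
  · obtain ⟨b', rfl⟩ : ∃ b', b = b' + 1 := ⟨b - 1, by omega⟩
    rw [huw, hw', Nat.add_sub_cancel]
    ring

theorem coeff_triple {a b : ℕ} (ha : 1 ≤ a) (hb : 1 ≤ b) {f : MvPowerSeries (Fin 2) k}
    (hf : f ∈ Ideal.span {X 0 * X 1, X 0 ^ a, X 1 ^ b}) :
    (∀ l < a, coeff (Finsupp.single 0 l) f = 0) ∧ (∀ l < b, coeff (Finsupp.single 1 l) f = 0) := by
  obtain ⟨p, z, hz, rfl⟩ := Ideal.mem_span_insert.1 hf
  obtain ⟨q, r, rfl⟩ := Ideal.mem_span_pair.1 hz
  constructor <;> intro l hl
  all_goals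
    rw [map_add, map_add, X_pow_eq, X_pow_eq, X_def, X_def, monomial_mul_monomial, coeff_mul_monomial,
      coeff_mul_monomial, coeff_mul_monomial, if_neg ?_, if_neg ?_, if_neg ?_, add_zero, add_zero]
    all_goals (intro hle; have h0 := hle 0; have h1 := hle 1; simp at h0 h1; try omega)

theorem exists_pow_mem (J : Ideal (MvPowerSeries (Fin 2) k)) [Module.Finite k (MvPowerSeries (Fin 2) k ⧸ J)]
    (s : Fin 2) : ∃ a, (X s : MvPowerSeries (Fin 2) k) ^ a ∈ J := by
  haveI : IsArtinianRing (MvPowerSeries (Fin 2) k ⧸ J) := IsArtinianRing.of_finite k _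
  obtain ⟨n, y, hy⟩ := IsArtinian.exists_pow_succ_smul_dvd (Ideal.Quotient.mk J (X s))
    (1 : MvPowerSeries (Fin 2) k ⧸ J)
  obtain ⟨y, rfl⟩ := Ideal.Quotient.mk_surjective y
  refine ⟨n, ?_⟩
  have hu : IsUnit (1 - X s * y) := isUnit_iff_constantCoeff.2 (by simp)
  refine (Ideal.mul_unit_mem_iff_mem J hu).1 (Ideal.Quotient.eq_zero_iff_mem.1 ?_)
  simp only [smul_eq_mul, mul_one, Nat.succ_eq_add_one] at hy
  rw [mul_sub, mul_one, ← mul_assoc, ← pow_succ, map_sub, map_mul, map_pow, map_pow, hy, sub_self]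

theorem cX (s : Fin 2) (l n : ℕ) :
    coeff (Finsupp.single s l) ((X s : MvPowerSeries (Fin 2) k) ^ n) = if l = n then 1 else 0 := by
  rw [coeff_X_pow]
  exact if_congr ⟨fun h => Finsupp.single_injective s h, fun h => by rw [h]⟩ rfl rfl

theorem cX' {s t : Fin 2} (hst : s ≠ t) (l : ℕ) {n : ℕ} (hn : n ≠ 0) :
    coeff (Finsupp.single t l) ((X s : MvPowerSeries (Fin 2) k) ^ n) = 0 := by
  rw [coeff_X_pow, if_neg fun h => hn ?_]
  have := DFunLike.congr_fun h s
  rw [Finsupp.single_eq_same, Finsupp.single_eq_of_ne hst] at this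
  exact this.symm

theorem cM (s : Fin 2) (l n : ℕ) :
    coeff (Finsupp.single s l) (monomial (Finsupp.single s n) (1 : k)) = if l = n then 1 else 0 := by
  rw [← X_pow_eq, cX]

theorem cM' {s t : Fin 2} (hst : s ≠ t) (l : ℕ) {n : ℕ} (hn : n ≠ 0) :
    coeff (Finsupp.single t l) (monomial (Finsupp.single s n) (1 : k)) = 0 := by
  rw [← X_pow_eq, cX' k hst l hn]

theorem cM'' {s t : Fin 2} (hst : s ≠ t) {l : ℕ} (hl : l ≠ 0) (n : ℕ) :
    coeff (Finsupp.single t l) (monomial (Finsupp.single s n) (1 : k)) = 0 := by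
  rw [coeff_monomial, if_neg fun h => hl ?_]
  have := DFunLike.congr_fun h t
  rw [Finsupp.single_eq_same, Finsupp.single_eq_of_ne hst.symm] at this
  exact this

open Classical in
theorem finrank_quotient (p q : ℕ) (J : Ideal (MvPowerSeries (Fin 2) k))
    (φ : Fin p → (MvPowerSeries (Fin 2) k →ₗ[k] k)) (ψ : Fin q → (MvPowerSeries (Fin 2) k →ₗ[k] k))
    (h1 : ∀ i i' : Fin p, φ i (monomial (Finsupp.single 0 i'.1) 1) = if i = i' then 1 else 0)
    (h2 : ∀ j j' : Fin q, ψ j (monomial (Finsupp.single 1 (j'.1 + 1)) 1) = if j = j' then 1 else 0)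
    (h3 : ∀ (i : Fin p) (j : Fin q), φ i (monomial (Finsupp.single 1 (j.1 + 1)) 1) = 0)
    (h4 : ∀ (i : Fin p) (j : Fin q), ψ j (monomial (Finsupp.single 0 i.1) 1) = 0)
    (hJ : ∀ f, f ∈ J ↔ (∀ i, φ i f = 0) ∧ ∀ j, ψ j f = 0) :
    Module.finrank k (MvPowerSeries (Fin 2) k ⧸ J) = p + q := by
  let Φ : MvPowerSeries (Fin 2) k →ₗ[k] (Fin p → k) × (Fin q → k) :=
    (LinearMap.pi φ).prod (LinearMap.pi ψ)
  have hsurj : Function.Surjective Φ := by
    rintro ⟨v, w⟩
    refine ⟨∑ i, v i • monomial (Finsupp.single 0 i.1) 1 + ∑ j, w j • monomial (Finsupp.single 1 (j.1 + 1)) 1, ?_⟩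
    refine Prod.ext (funext fun i => ?_) (funext fun j => ?_) <;>
      simp [Φ, map_sum, h1, h2, h3, h4, -Finsupp.single_add]
  have hker : LinearMap.ker Φ = J.restrictScalars k := by
    ext f
    simp [Φ, hJ, Prod.ext_iff, funext_iff]
  rw [(((Submodule.Quotient.restrictScalarsEquiv k J).symm.trans (Submodule.quotEquivOfEq _ _ hker.symm)).trans
    (Φ.quotKerEquivOfSurjective hsurj)).finrank_eq]
  simp


/-- Ideals of colength n of the complete local ring of a node. Let k be a field and J an ideal of the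
power series ring k[[x,y]] in two variables x, y which contains xy and whose quotient is
finite-dimensional over k of dimension n ≥ 2. Then there are integers a, b ≥ 1 such that either a +
b = n + 1 and J is generated by xy, x^a, y^b, or a + b = n and J is generated by xy and x^a + α y^b
for some nonzero scalar α. -/
theorem result (k : Type u) [Field k]
    (J : Ideal (MvPowerSeries (Fin 2) k))
    (hxy : (MvPowerSeries.X 0 * MvPowerSeries.X 1 : MvPowerSeries (Fin 2) k) ∈ J)
    [Module.Finite k (MvPowerSeries (Fin 2) k ⧸ J)] (n : ℕ) (hn : Module.finrank k (MvPowerSeries (Fin 2) k ⧸ J) = n)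
    (h2 : 2 ≤ n) :
    ∃ a b : ℕ, 1 ≤ a ∧ 1 ≤ b ∧
      ((a + b = n + 1 ∧
        J = Ideal.span {MvPowerSeries.X 0 * MvPowerSeries.X 1, MvPowerSeries.X 0 ^ a, MvPowerSeries.X 1 ^ b}) ∨
       (a + b = n ∧ ∃ α : k, α ≠ 0 ∧
        J = Ideal.span {MvPowerSeries.X 0 * MvPowerSeries.X 1,
          MvPowerSeries.X 0 ^ a + MvPowerSeries.C α * MvPowerSeries.X 1 ^ b})) := by
  classical
  have hJ : ∀ f ∈ J, constantCoeff f = 0 := fun f hf => by
    by_contra h
    have htop := J.eq_top_of_isUnit_mem hf (isUnit_iff_constantCoeff.2 (isUnit_iff_ne_zero.2 h))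
    subst htop
    haveI : Subsingleton (MvPowerSeries (Fin 2) k ⧸ (⊤ : Ideal (MvPowerSeries (Fin 2) k))) :=
      Ideal.Quotient.subsingleton_iff.2 rfl
    rw [Module.finrank_zero_of_subsingleton] at hn
    omega
  have hXa := exists_pow_mem k J 0
  have hXb := exists_pow_mem k J 1
  set a := Nat.find hXa with hadef
  set b := Nat.find hXb with hbdef
  have ha := Nat.find_spec hXa
  have hb := Nat.find_spec hXb
  rw [← hadef] at ha
  rw [← hbdef] at hb
  have ha1 : 1 ≤ a := by
    by_contra h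
    have := hJ _ ha
    rw [show a = 0 by omega] at this
    simp at this
  have hb1 : 1 ≤ b := by
    by_contra h
    have := hJ _ hb
    rw [show b = 0 by omega] at this
    simp at this
  have hlow : ∀ f ∈ J, ∀ l, l + 1 < a → coeff (Finsupp.single 0 l) f = 0 := fun f hf l hl =>
    coeff_low k J 0 1 (by decide) hxy hf (fun m hm => Nat.find_min hXa (m := m + 1) (by omega)) l le_rfl
  have hlow' : ∀ f ∈ J, ∀ l, l + 1 < b → coeff (Finsupp.single 1 l) f = 0 := fun f hf l hl =>
    coeff_low k J 1 0 (by decide) (by rwa [mul_comm]) hf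
      (fun m hm => Nat.find_min hXb (m := m + 1) (by omega)) l le_rfl
  have hI : Ideal.span {X 0 * X 1, (X 0 : MvPowerSeries (Fin 2) k) ^ a, X 1 ^ b} ≤ J := by
    rw [Ideal.span_le]
    rintro _ (rfl | rfl | rfl) <;> assumption
  by_cases hA : ∀ f ∈ J, coeff (Finsupp.single 0 (a - 1)) f = 0 ∧ coeff (Finsupp.single 1 (b - 1)) f = 0
  · have hJI : J = Ideal.span {X 0 * X 1, (X 0 : MvPowerSeries (Fin 2) k) ^ a, X 1 ^ b} := by
      refine le_antisymm (fun f hf => mem_triple k ha1 hb1 (fun l hl => ?_) (fun l hl => ?_)) hI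
      · rcases (show l + 1 < a ∨ l = a - 1 by omega) with h | rfl
        exacts [hlow f hf l h, (hA f hf).1]
      · rcases (show l + 1 < b ∨ l = b - 1 by omega) with h | rfl
        exacts [hlow' f hf l h, (hA f hf).2]
    refine ⟨a, b, ha1, hb1, Or.inl ⟨?_, hJI⟩⟩
    have := finrank_quotient k a (b - 1) J (fun i => coeff (Finsupp.single 0 i.1))
      (fun j => coeff (Finsupp.single 1 (j.1 + 1)))
      (fun i i' => by rw [cM]; exact if_congr Fin.val_inj rfl rfl)
      (fun j j' => by rw [cM]; exact if_congr (by simp [Fin.val_inj]) rfl rfl)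
      (fun i j => cM' k (by decide) _ (by omega))
      (fun i j => cM'' k (by decide) (by omega) _) (fun f => ?_)
    · omega
    constructor
    · intro hf
      rw [hJI] at hf
      exact ⟨fun i => (coeff_triple k ha1 hb1 hf).1 i.1 i.2,
        fun j => (coeff_triple k ha1 hb1 hf).2 _ (by omega)⟩
    · rintro ⟨h0, h1⟩
      rw [hJI]
      refine mem_triple k ha1 hb1 (fun l hl => h0 ⟨l, hl⟩) (fun l hl => ?_)
      rcases Nat.eq_zero_or_pos l with rfl | hl'
      · simpa using h0 ⟨0, ha1⟩
      · obtain ⟨m, rfl⟩ := Nat.exists_eq_succ_of_ne_zero hl'.ne'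
        exact h1 ⟨m, by omega⟩
  -- the second case
  push Not at hA
  have hkey : ∀ f ∈ J, coeff (Finsupp.single 0 (a - 1)) f = 0 → coeff (Finsupp.single 1 (b - 1)) f = 0 := by
    intro f hf h0
    by_contra hd
    by_cases hb2 : b = 1
    · rw [hb2] at hd
      exact hd (by simpa using hJ f hf)
    set d := coeff (Finsupp.single 1 (b - 1)) f with hddef
    have hmem : f - C d * X 1 ^ (b - 1) ∈ J := hI (mem_triple k ha1 hb1 (fun l hl => by
        rw [map_sub, coeff_C_mul, cX' k (by decide) l (by omega), mul_zero, sub_zero]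
        rcases (show l + 1 < a ∨ l = a - 1 by omega) with h | rfl
        exacts [hlow f hf l h, h0]) (fun l hl => by
        rw [map_sub, coeff_C_mul, cX]
        rcases (show l + 1 < b ∨ l = b - 1 by omega) with h | rfl
        · rw [hlow' f hf l h, if_neg (by omega), mul_zero, sub_zero]
        · rw [if_pos rfl, mul_one, hddef, sub_self]))
    have h2 : C d * X 1 ^ (b - 1) ∈ J := by simpa using J.sub_mem hf hmem
    exact Nat.find_min hXb (m := b - 1) (by omega)
      ((Ideal.unit_mul_mem_iff_mem J ((isUnit_iff_ne_zero.2 hd).map C)).1 h2)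
  obtain ⟨f₀, hf₀, hne⟩ := hA
  set c := coeff (Finsupp.single 0 (a - 1)) f₀ with hcdef
  set d := coeff (Finsupp.single 1 (b - 1)) f₀ with hddef
  have hc : c ≠ 0 := fun h => hne h (hkey f₀ hf₀ h)
  have ha2 : 2 ≤ a := by
    by_contra h
    refine hc ?_
    rw [hcdef, show a - 1 = 0 by omega]
    simpa using hJ f₀ hf₀
  -- the generator
  set α : k := d / c with hαdef
  set g : MvPowerSeries (Fin 2) k := X 0 ^ (a - 1) + C α * X 1 ^ (b - 1) with hgdef
  have hb2 : 2 ≤ b := by
    by_contra h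
    have hb' : b = 1 := by omega
    have h1 : C c * X 0 ^ (a - 1) ∈ J := by
      have hmem : f₀ - C c * X 0 ^ (a - 1) ∈ J := hI (mem_triple k ha1 hb1 (fun l hl => by
          rw [map_sub, coeff_C_mul, cX]
          rcases (show l + 1 < a ∨ l = a - 1 by omega) with h | rfl
          · rw [hlow f₀ hf₀ l h, if_neg (by omega), mul_zero, sub_zero]
          · rw [if_pos rfl, mul_one, hcdef, sub_self]) (fun l hl => by
          obtain rfl : l = 0 := by omega
          rw [map_sub, coeff_C_mul, cX' k (by decide) 0 (by omega), mul_zero, sub_zero]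
          simpa using hJ f₀ hf₀))
      simpa using J.sub_mem hf₀ hmem
    exact Nat.find_min hXa (m := a - 1) (by omega)
      ((Ideal.unit_mul_mem_iff_mem J ((isUnit_iff_ne_zero.2 hc).map C)).1 h1)
  have hd : d ≠ 0 := by
    intro hd
    have hmem : f₀ - C c * X 0 ^ (a - 1) ∈ J := hI (mem_triple k ha1 hb1 (fun l hl => by
        rw [map_sub, coeff_C_mul, cX]
        rcases (show l + 1 < a ∨ l = a - 1 by omega) with h | rfl
        · rw [hlow f₀ hf₀ l h, if_neg (by omega), mul_zero, sub_zero]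
        · rw [if_pos rfl, mul_one, hcdef, sub_self]) (fun l hl => by
        rw [map_sub, coeff_C_mul, cX' k (by decide) l (by omega), mul_zero, sub_zero]
        rcases (show l + 1 < b ∨ l = b - 1 by omega) with h | rfl
        exacts [hlow' f₀ hf₀ l h, hd]))
    exact Nat.find_min hXa (m := a - 1) (by omega)
      ((Ideal.unit_mul_mem_iff_mem J ((isUnit_iff_ne_zero.2 hc).map C)).1 (by simpa using J.sub_mem hf₀ hmem))
  have hgx : ∀ l, coeff (Finsupp.single 0 l) g = if l = a - 1 then 1 else 0 := by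
    intro l
    rw [hgdef, map_add, coeff_C_mul, cX, cX' k (by decide) l (by omega), mul_zero, add_zero]
  have hgy : ∀ l, coeff (Finsupp.single 1 l) g = if l = b - 1 then α else 0 := by
    intro l
    rw [hgdef, map_add, coeff_C_mul, cX, cX' k (by decide) l (by omega), zero_add, mul_ite, mul_one, mul_zero]
  have hgJ : g ∈ J := by
    have hmem : f₀ - C c * g ∈ J := hI (mem_triple k ha1 hb1 (fun l hl => by
        rw [map_sub, coeff_C_mul, hgx]
        rcases (show l + 1 < a ∨ l = a - 1 by omega) with h | rfl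
        · rw [hlow f₀ hf₀ l h, if_neg (by omega), mul_zero, sub_zero]
        · rw [if_pos rfl, mul_one, hcdef, sub_self]) (fun l hl => by
        rw [map_sub, coeff_C_mul, hgy]
        rcases (show l + 1 < b ∨ l = b - 1 by omega) with h | rfl
        · rw [hlow' f₀ hf₀ l h, if_neg (by omega), mul_zero, sub_zero]
        · rw [if_pos rfl, hαdef, mul_div_cancel₀ _ hc, hddef, sub_self]))
    exact (Ideal.unit_mul_mem_iff_mem J ((isUnit_iff_ne_zero.2 hc).map C)).1 (by simpa using J.sub_mem hf₀ hmem)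
  have hxa : (X 0 : MvPowerSeries (Fin 2) k) ^ a ∈ Ideal.span {X 0 * X 1, g} := by
    rw [Ideal.mem_span_pair]
    refine ⟨-(C α * X 1 ^ (b - 2)), X 0, ?_⟩
    obtain ⟨a', ha'⟩ : ∃ a', a = a' + 1 := ⟨a - 1, by omega⟩
    obtain ⟨b', hb'⟩ : ∃ b', b = b' + 2 := ⟨b - 2, by omega⟩
    rw [hgdef, ha', hb', show b' + 2 - 1 = b' + 1 by omega, show b' + 2 - 2 = b' by omega,
      show a' + 1 - 1 = a' by omega]
    ring
  have hα : α ≠ 0 := div_ne_zero hd hc
  have hyb : (X 1 : MvPowerSeries (Fin 2) k) ^ b ∈ Ideal.span {X 0 * X 1, g} := by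
    rw [Ideal.mem_span_pair]
    refine ⟨-(C α⁻¹ * X 0 ^ (a - 2)), C α⁻¹ * X 1, ?_⟩
    obtain ⟨a', ha'⟩ : ∃ a', a = a' + 2 := ⟨a - 2, by omega⟩
    obtain ⟨b', hb'⟩ : ∃ b', b = b' + 1 := ⟨b - 1, by omega⟩
    rw [hgdef, ha', hb', show b' + 1 - 1 = b' by omega, show a' + 2 - 2 = a' by omega,
      show a' + 2 - 1 = a' + 1 by omega]
    have hC : (C α⁻¹ : MvPowerSeries (Fin 2) k) * C α = 1 := by
      rw [← map_mul, inv_mul_cancel₀ hα, map_one]
    linear_combination (X 1 ^ (b' + 1) : MvPowerSeries (Fin 2) k) * hC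
  have hle : Ideal.span {X 0 * X 1, g} ≤ J := by
    rw [Ideal.span_le]
    rintro _ (rfl | rfl) <;> assumption
  have hmemJ : ∀ f, f ∈ J ↔ (∀ l, l + 1 < a → coeff (Finsupp.single 0 l) f = 0) ∧
      (∀ l, l + 1 < b → coeff (Finsupp.single 1 l) f = 0) ∧
      coeff (Finsupp.single 1 (b - 1)) f = α * coeff (Finsupp.single 0 (a - 1)) f := by
    intro f
    constructor
    · intro hf
      refine ⟨hlow f hf, hlow' f hf, ?_⟩
      have h := hkey (f - C (coeff (Finsupp.single 0 (a - 1)) f) * g)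
        (J.sub_mem hf (J.mul_mem_left _ hgJ)) (by rw [map_sub, coeff_C_mul, hgx, if_pos rfl, mul_one, sub_self])
      rw [map_sub, coeff_C_mul, hgy, if_pos rfl, sub_eq_zero] at h
      rw [h, mul_comm]
    · rintro ⟨h0, h1, h2⟩
      have hmem : f - C (coeff (Finsupp.single 0 (a - 1)) f) * g ∈ J := hI (mem_triple k ha1 hb1
        (fun l hl => by
          rw [map_sub, coeff_C_mul, hgx]
          rcases (show l + 1 < a ∨ l = a - 1 by omega) with h | rfl
          · rw [h0 l h, if_neg (by omega), mul_zero, sub_zero]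
          · rw [if_pos rfl, mul_one, sub_self]) (fun l hl => by
          rw [map_sub, coeff_C_mul, hgy]
          rcases (show l + 1 < b ∨ l = b - 1 by omega) with h | rfl
          · rw [h1 l h, if_neg (by omega), mul_zero, sub_zero]
          · rw [if_pos rfl, h2, mul_comm, sub_self]))
      simpa using J.add_mem hmem (J.mul_mem_left (C (coeff (Finsupp.single 0 (a - 1)) f)) hgJ)
  have hJg : J = Ideal.span {X 0 * X 1, g} := by
    refine le_antisymm (fun f hf => ?_) hle
    obtain ⟨h0, h1, h2⟩ := (hmemJ f).1 hf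
    have hI' : Ideal.span {X 0 * X 1, (X 0 : MvPowerSeries (Fin 2) k) ^ a, X 1 ^ b} ≤
        Ideal.span {X 0 * X 1, g} := by
      rw [Ideal.span_le]
      rintro _ (rfl | rfl | rfl)
      exacts [Ideal.subset_span (Or.inl rfl), hxa, hyb]
    have hmem : f - C (coeff (Finsupp.single 0 (a - 1)) f) * g ∈ Ideal.span {X 0 * X 1, g} :=
      hI' (mem_triple k ha1 hb1
        (fun l hl => by
          rw [map_sub, coeff_C_mul, hgx]
          rcases (show l + 1 < a ∨ l = a - 1 by omega) with h | rfl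
          · rw [h0 l h, if_neg (by omega), mul_zero, sub_zero]
          · rw [if_pos rfl, mul_one, sub_self]) (fun l hl => by
          rw [map_sub, coeff_C_mul, hgy]
          rcases (show l + 1 < b ∨ l = b - 1 by omega) with h | rfl
          · rw [h1 l h, if_neg (by omega), mul_zero, sub_zero]
          · rw [if_pos rfl, h2, mul_comm, sub_self]))
    simpa using add_mem hmem (Ideal.mul_mem_left _ (C (coeff (Finsupp.single 0 (a - 1)) f))
      (Ideal.subset_span (Or.inr rfl) : g ∈ Ideal.span {X 0 * X 1, g}))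
  refine ⟨a - 1, b - 1, by omega, by omega, Or.inr ⟨?_, α, hα, hJg⟩⟩
  have := finrank_quotient k (a - 1) (b - 1) J (fun i => coeff (Finsupp.single 0 i.1))
    (fun j => coeff (Finsupp.single 1 (j.1 + 1)) -
      (if j.1 + 1 = b - 1 then α else 0) • coeff (Finsupp.single 0 (a - 1)))
    (fun i i' => by rw [cM]; exact if_congr Fin.val_inj rfl rfl)
    (fun j j' => by
      rw [LinearMap.sub_apply, LinearMap.smul_apply, cM, cM' k (by decide) _ (by omega), smul_zero, sub_zero]
      exact if_congr (by simp [Fin.val_inj]) rfl rfl)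
    (fun i j => cM' k (by decide) _ (by omega))
    (fun i j => by
      rw [LinearMap.sub_apply, LinearMap.smul_apply, cM'' k (by decide) (by omega) _, cM,
        if_neg (show ¬ (a - 1 = i.1) by omega), smul_zero, sub_zero]) (fun f => ?_)
  · omega
  rw [hmemJ]
  simp only [LinearMap.sub_apply, LinearMap.smul_apply, smul_eq_mul, sub_eq_zero]
  constructor
  · rintro ⟨h0, h1, h2⟩
    refine ⟨fun i => h0 _ (by omega), fun j => ?_⟩
    split_ifs with h
    · rw [h, h2]
    · rw [zero_mul, h1 _ (by omega)]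
  · rintro ⟨h0, h1⟩
    refine ⟨fun l hl => h0 ⟨l, by omega⟩, fun l hl => ?_, ?_⟩
    · rcases Nat.eq_zero_or_pos l with rfl | hl'
      · simpa using h0 ⟨0, by omega⟩
      · obtain ⟨m, rfl⟩ := Nat.exists_eq_succ_of_ne_zero hl'.ne'
        have := h1 ⟨m, by omega⟩
        rw [if_neg (by simp; omega), zero_mul] at this
        exact this
    · have := h1 ⟨b - 2, by omega⟩
      simp only [show b - 2 + 1 = b - 1 by omega, if_pos] at this
      exact this

end Groth.Agent.S19437
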