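import Groth.Statements.S19438
import Mathlib.RingTheory.Ideal.Cotangent
import Mathlib.Algebra.Polynomial.Inductions

set_option autoImplicit false
universe u
open CAlg

namespace Groth.Agent.S19438

/-- First assertion: let A be a Noetherian local commutative algebra over a field k with maximal ideal
M, residue field k (the map from k to A/M is onto) and embedding dimension dim M/M^2 at least 2, and
let I be a proper ideal with A/I finite-dimensional over k. If A/I is generated as a k-algebra by
one element, then some element of I does not lie in M^2; that is, the finite closed subscheme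
defined by I lies on a smooth hypersurface germ (it is curvilinear). (The published statement is for
the local ring of a smooth surface at a closed point; only a Noetherian local algebra with residue
field k and embedding dimension at least 2 is assumed here, which is what the published argument
uses.) -/
theorem result (k : Type u) [Field k]
    (A : Type u) [CommRing A] [Algebra k A] [IsNoetherianRing A] [IsLocalRing A]
    (hres : Function.Surjective (algebraMap k (IsLocalRing.ResidueField A)))
    (hemb : 2 ≤ Module.finrank (IsLocalRing.ResidueField A) (IsLocalRing.CotangentSpace A))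
    (I : Ideal A) (hI : I ≠ ⊤) [Module.Finite k (A ⧸ I)]
    (f : A ⧸ I) (hf : Algebra.adjoin k {f} = ⊤) :
    ∃ g ∈ I, g ∉ IsLocalRing.maximalIdeal A ^ 2 := by
  classical
  by_contra hcon
  push_neg at hcon
  let m := IsLocalRing.maximalIdeal A
  let Q := A ⧸ m ^ 2
  have hIle : I ≤ m ^ 2 := fun g hg => hcon g hg
  let π : (A ⧸ I) →ₐ[k] Q := Ideal.Quotient.factorₐ k hIle
  obtain ⟨f₀, rfl⟩ := Ideal.Quotient.mk_surjective f
  obtain ⟨c, hc⟩ := hres (IsLocalRing.residue A f₀)
  let x := f₀ - algebraMap k A c
  have hx : x ∈ m := by
    rw [← Ideal.Quotient.eq_zero_iff_mem, map_sub, sub_eq_zero]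
    exact hc.symm
  have key : m ≤ Ideal.span {x} ⊔ m ^ 2 := fun a ha => by
    have hmem : Ideal.Quotient.mk (m ^ 2) a ∈ Algebra.adjoin k {Ideal.Quotient.mk (m ^ 2) x} := by
      have h1 : Ideal.Quotient.mk (m ^ 2) a ∈ (Algebra.adjoin k {Ideal.Quotient.mk I f₀}).map π :=
        ⟨Ideal.Quotient.mk I a, by rw [hf]; trivial, rfl⟩
      rw [AlgHom.map_adjoin, Set.image_singleton] at h1
      refine Algebra.adjoin_le ?_ h1
      intro z hz
      rw [Set.mem_singleton_iff.1 hz]
      show Ideal.Quotient.mk (m ^ 2) f₀ ∈ _
      rw [show f₀ = x + algebraMap k A c by simp [x], map_add]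
      exact add_mem (Algebra.self_mem_adjoin_singleton k _) (Subalgebra.algebraMap_mem _ c)
    rw [Algebra.adjoin_singleton_eq_range_aeval] at hmem
    obtain ⟨p, hp⟩ := hmem
    have hp' : Ideal.Quotient.mk (m ^ 2) (Polynomial.aeval x p) = Ideal.Quotient.mk (m ^ 2) a := by
      rw [← Ideal.Quotient.mkₐ_eq_mk k, ← Polynomial.aeval_algHom_apply]
      exact hp
    rw [Ideal.Quotient.eq] at hp'
    have hsplit : Polynomial.aeval x p - algebraMap k A (p.coeff 0) ∈ Ideal.span {x} := by
      nth_rw 1 [← Polynomial.divX_mul_X_add p]
      rw [map_add, map_mul, Polynomial.aeval_X, Polynomial.aeval_C, add_sub_cancel_right]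
      exact Ideal.mem_span_singleton'.2 ⟨_, rfl⟩
    have h0 : p.coeff 0 = 0 := by
      by_contra h0
      have hm : algebraMap k A (p.coeff 0) ∈ m := by
        have h2 : Polynomial.aeval x p ∈ m := by
          have := add_mem (Ideal.pow_le_self two_ne_zero hp') ha
          simpa using this
        have h3 : Polynomial.aeval x p - algebraMap k A (p.coeff 0) ∈ m :=
          (Ideal.span_singleton_le_iff_mem _).2 hx hsplit
        have := sub_mem h2 h3
        simpa using this
      exact hm ((isUnit_iff_ne_zero.2 h0).map (algebraMap k A))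
    rw [h0, map_zero, sub_zero] at hsplit
    exact Submodule.mem_sup.2 ⟨_, hsplit, _, neg_mem hp', by ring⟩
  have hle : Module.finrank (IsLocalRing.ResidueField A) (IsLocalRing.CotangentSpace A) ≤ 1 := by
    refine finrank_le_one (m.toCotangent ⟨x, hx⟩) fun w => ?_
    obtain ⟨⟨a, ha⟩, rfl⟩ := m.toCotangent_surjective w
    obtain ⟨u, hu, v, hv, huv⟩ := Submodule.mem_sup.1 (key ha)
    obtain ⟨b, rfl⟩ := Ideal.mem_span_singleton'.1 hu
    refine ⟨IsLocalRing.residue A b, ?_⟩
    show b • m.toCotangent ⟨x, hx⟩ = m.toCotangent ⟨a, ha⟩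
    rw [← map_smul, Ideal.toCotangent_eq]
    show b * x - a ∈ m ^ 2
    rw [← huv]
    simpa using neg_mem hv
  omega


end Groth.Agent.S19438
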