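import Groth.Statements.S19439
import Mathlib

set_option autoImplicit false
universe u
open CAlg

namespace Groth.Agent.S19439

/-- Affine form: for all n and N there is an integer d, that depends only on n and N, such that for
every algebraically closed field k and every ideal I of the polynomial ring in N variables over k
whose quotient has finite dimension n over k, the polynomials of total degree at most d map onto the
quotient. -/
theorem result (n N : ℕ) :
    ∃ d : ℕ, ∀ (k : Type u) [Field k] [IsAlgClosed k] (I : Ideal (MvPolynomial (Fin N) k))
      [Module.Finite k (MvPolynomial (Fin N) k ⧸ I)],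
      Module.finrank k (MvPolynomial (Fin N) k ⧸ I) = n →
      Submodule.map (Ideal.Quotient.mkₐ k I).toLinearMap (MvPolynomial.restrictTotalDegree (Fin N) k d) = ⊤ := by
  refine ⟨n, fun k _ _ I _ hn => ?_⟩
  let q := (Ideal.Quotient.mkₐ k I).toLinearMap
  let V : ℕ → Submodule k (MvPolynomial (Fin N) k ⧸ I) := fun d =>
    (MvPolynomial.restrictTotalDegree (Fin N) k d).map q
  have hmono : ∀ d, V d ≤ V (d + 1) := fun d => Submodule.map_mono fun x hx => by
    rw [MvPolynomial.mem_restrictTotalDegree] at hx ⊢; omega
  have hstab : ∀ d, V (d + 1) ≤ V d → V d = ⊤ := by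
    intro d hd
    rw [eq_top_iff]
    intro y hy
    clear hy
    obtain ⟨P, rfl⟩ := Ideal.Quotient.mkₐ_surjective k I y
    induction P using MvPolynomial.induction_on with
    | C a => exact ⟨MvPolynomial.C a, by simp [MvPolynomial.mem_restrictTotalDegree], rfl⟩
    | add a b ha hb => rw [map_add]; exact add_mem ha hb
    | mul_X a i ha =>
      obtain ⟨b, hb, hba⟩ := ha
      refine hd ⟨b * MvPolynomial.X i, ?_, ?_⟩
      · rw [SetLike.mem_coe, MvPolynomial.mem_restrictTotalDegree] at hb ⊢
        exact (MvPolynomial.totalDegree_mul _ _).trans (by simp; omega)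
      · show Ideal.Quotient.mkₐ k I (b * _) = _
        rw [map_mul, map_mul]; congr 1
  by_contra hne
  have hstrict : ∀ d ≤ n, d ≤ Module.finrank k (V d) := by
    intro d hd
    induction d with
    | zero => exact Nat.zero_le _
    | succ d ih =>
      have hlt : V d < V (d + 1) := lt_of_le_of_ne (hmono d) fun he => hne (by
        have htop := hstab d he.ge
        rw [eq_top_iff, ← htop]
        exact Submodule.map_mono fun x hx => by
          rw [MvPolynomial.mem_restrictTotalDegree] at hx ⊢; omega)
      have := Submodule.finrank_lt_finrank_of_lt hlt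
      have := ih (by omega)
      omega
  have h1 := hstrict n le_rfl
  exact hne (Submodule.eq_top_of_finrank_eq (le_antisymm (Submodule.finrank_le _) (hn ▸ h1)))

end Groth.Agent.S19439
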