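import Groth.Statements.S1944
-- import your own Groth.Agent.* helpers here
import Groth.Agent.Lib.CycAff.Affine

set_option autoImplicit false
universe u
open CategoryTheory AlgebraicGeometry
open Cyc

namespace Groth.Agent.S1944

open GrothLib.CycAff GrothLib.CycFlat GrothLib.CycDiv GrothLib.CycPush

theorem exists_fiberIso {X Y : Scheme.{u}} (f : X ⟶ Y) {n : Type u} (U : Y.Opens) {y : Y} (hy : y ∈ U)
    (e : (↑(f ⁻¹ᵁ U) : Scheme.{u}) ≅ 𝔸(n; (↑U : Scheme.{u})))
    (he : e.hom ≫ (𝔸(n; (↑U : Scheme.{u})) ↘ (↑U : Scheme.{u})) = f ∣_ U) :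
    Nonempty (f.fiber y ≅ 𝔸(n; Spec (Y.residueField y))) := by
  let t : Spec (Y.residueField y) ⟶ (↑U : Scheme.{u}) := IsOpenImmersion.lift U.ι (Y.fromSpecResidueField y) (by
    rw [Scheme.range_fromSpecResidueField, Scheme.Opens.range_ι]
    exact Set.singleton_subset_iff.2 hy)
  have ht : t ≫ U.ι = Y.fromSpecResidueField y := IsOpenImmersion.lift_fac _ _ _
  have h1 : IsPullback e.inv (𝔸(n; (↑U : Scheme.{u})) ↘ (↑U : Scheme.{u})) (f ∣_ U) (𝟙 _) :=
    IsPullback.of_horiz_isIso ⟨by rw [← he, Iso.inv_hom_id_assoc, Category.comp_id]⟩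
  have h2 := h1.paste_horiz (isPullback_morphismRestrict f U).flip
  rw [Category.id_comp] at h2
  have h3 := (AffineSpace.isPullback_map (n := n) t).paste_horiz h2
  rw [ht] at h3
  exact ⟨h3.isoPullback.symm⟩

theorem ratEquivZero_add {X : Scheme.{u}} {δ : X → ℤ} {k : ℤ} [IsLocallyNoetherian X]
    {a b : AlgebraicCycle X ℤ} (ha : Cyc.RatEquivZero δ k a) (hb : Cyc.RatEquivZero δ k b) :
    Cyc.RatEquivZero δ k (a + b) := by
  obtain ⟨ι, ξ, g, h1, h2, h3, h4⟩ := ha
  obtain ⟨κ, ξ', g', h1', h2', h3', h4'⟩ := hb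
  refine ⟨ι ⊕ κ, Sum.elim ξ ξ', fun i => match i with | .inl i => g i | .inr i => g' i,
    fun i => by cases i <;> simp [h1, h1'], fun i => by
      cases i
      · exact h2 _
      · exact h2' _, fun x => ?_, fun x => ?_⟩
  · obtain ⟨U, hU, hxU, hfin⟩ := h3 x
    obtain ⟨V, hV, hxV, hfin'⟩ := h3' x
    refine ⟨U ∩ V, hU.inter hV, ⟨hxU, hxV⟩,
      ((hfin.image Sum.inl).union (hfin'.image Sum.inr)).subset fun i hi => ?_⟩
    obtain ⟨w, hw, hwU, hwV⟩ := hi
    cases i with
    | inl i => exact Or.inl ⟨i, ⟨w, hw, hwU⟩, rfl⟩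
    | inr i => exact Or.inr ⟨i, ⟨w, hw, hwV⟩, rfl⟩
  · rw [Function.locallyFinsuppWithin.coe_add, Pi.add_apply, h4, h4']
    have f1 := finite_support_at (δ := δ) g h3 x
    have f2 := finite_support_at (δ := δ) g' h3' x
    rw [finsum_eq_sum_of_support_subset _ (s := f1.toFinset.disjSum f2.toFinset) fun i hi => ?_,
      Finset.sum_disjSum, finsum_eq_sum _ f1, finsum_eq_sum _ f2]
    · rfl
    · cases i with
      | inl i => exact Finset.mem_coe.2 (Finset.inl_mem_disjSum.2 (f1.mem_toFinset.2 hi))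
      | inr i => exact Finset.mem_coe.2 (Finset.inr_mem_disjSum.2 (f2.mem_toFinset.2 hi))

theorem locFin_of_finite {X : Scheme.{u}} {ι : Type*} {ξ : ι → X}
    (h : ∀ V : X.Opens, IsAffineOpen V → {i | ξ i ∈ V}.Finite) (x : X) :
    ∃ U : Set X, IsOpen U ∧ x ∈ U ∧ {i | (closure {ξ i} ∩ U).Nonempty}.Finite := by
  obtain ⟨V, hV, hx, -⟩ := exists_isAffineOpen_mem_and_subset (x := x) (U := ⊤) trivial
  exact ⟨V, V.2, hx, (h V hV).subset fun i hi => GrothLib.CycDiv.mem_of_closure_inter V.2 hi⟩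

section main

variable {X Y : Scheme.{u}} [IsLocallyNoetherian X] [IsLocallyNoetherian Y] (f : X ⟶ Y) [QuasiCompact f]
  [∀ y, IsIntegral (f.fiber y)] [∀ y, IsLocallyNoetherian (f.fiber y)]
  (hK : ∀ y, Killed (f.fiber y)) {δX : X → ℤ} {δY : Y → ℤ} (hδX : Cyc.IsDimFun X δX) {r : ℕ}
  (hs : ∀ x, MaxFib f x → δX x = δY (f x) + r)

theorem finite_image_support (β : AlgebraicCycle X ℤ) {W : Y.Opens} (hW : IsAffineOpen W) :
    {x | β x ≠ 0 ∧ f x ∈ W}.Finite :=
  (β.locallyFiniteSupport.finite_inter_support_of_isCompact (f.isSpectralMap.2 W.2 hW.isCompact)).subset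
    fun _ hx => ⟨hx.2, hx.1⟩

include hδX hs in
theorem base_case {k : ℤ} {β : AlgebraicCycle X ℤ} (hβ : β ∈ Cyc.Zk X δX (k + r))
    (h0 : ∀ x, β x ≠ 0 → δY (f x) ≤ k) : ∃ α : AlgebraicCycle Y ℤ, α ∈ Cyc.Zk Y δY k ∧
      ⇑β = Cyc.pullFun f δX δY r ⇑α := by
  let gen : Y → X := fun y => f.fiberι y (genericPoint (f.fiber y))
  have hgen : ∀ y, f (gen y) = y := fun y => apply_fiberι f y _
  have hmax : ∀ y, MaxFib f (gen y) := fun y => (maxFib_iff_generic f (hgen y)).2 rfl
  let α : AlgebraicCycle Y ℤ :=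
    { toFun := fun y => β (gen y)
      supportWithinDomain' := Set.subset_univ _
      supportLocallyFiniteWithinDomain' := fun y _ => by
        obtain ⟨W, hW, hy, -⟩ := exists_isAffineOpen_mem_and_subset (x := y) (U := ⊤) trivial
        refine ⟨W, W.2.mem_nhds hy, ((finite_image_support f β hW).image f).subset fun z hz => ?_⟩
        exact ⟨gen z, ⟨hz.2, show f (gen z) ∈ W from (hgen z).symm ▸ hz.1⟩, hgen z⟩ }
  refine ⟨α, fun y hy => ?_, ?_⟩
  · refine hβ _ fun h => hy ?_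
    rw [hs _ (hmax y), hgen] at h
    omega
  funext x
  have hkey := eq_add_iff_maxFib f hδX hs x
  rw [pullFun_apply]
  by_cases hm : MaxFib f x
  · have hx := (maxFib_iff_generic f rfl).1 hm
    rw [if_pos (hkey.1.2 hm), fibLength_fiber_generic f (f x) hx.symm]
    show β x = β (gen (f x)) * ((1 : ℕ∞).toNat : ℤ)
    rw [show gen (f x) = x from hx.symm]
    simp
  · rw [if_neg fun e => hm (hkey.1.1 e)]
    by_contra hb
    have h1 := h0 x hb
    have h2 : δX x = k + r := by_contra fun h => hb (hβ x h)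
    have h3 := hkey.2
    exact hm (hkey.1.1 (by omega))

include hK hδX hs in
theorem main (k : ℤ) : ∀ (j : ℕ) (β : AlgebraicCycle X ℤ), β ∈ Cyc.Zk X δX (k + r) →
    (∀ x, β x ≠ 0 → δY (f x) ≤ k + j) → Cyc.IsDimFun Y δY → ∃ (α : AlgebraicCycle Y ℤ) (β' : AlgebraicCycle X ℤ),
      α ∈ Cyc.Zk Y δY k ∧ ⇑β' = Cyc.pullFun f δX δY r ⇑α ∧ Cyc.RatEquiv δX (k + r) β β'
  | 0, β, hβ, hb, _ => by
    obtain ⟨α, hα, he⟩ := base_case f hδX hs hβ (fun x hx => by simpa using hb x hx)
    exact ⟨α, β, hα, he, PEmpty, PEmpty.elim, (·.elim), (·.elim), (·.elim),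
      fun x => ⟨Set.univ, isOpen_univ, trivial, Set.toFinite _⟩, fun x => by
        rw [finsum_of_isEmpty, sub_self]; rfl⟩
  | j + 1, β, hβ, hb, hδY => by
    classical
    let T := {x : X // β x ≠ 0 ∧ δY (f x) = k + (j + 1 : ℕ)}
    have hdx : ∀ x, β x ≠ 0 → δX x = k + r := fun x hx => by_contra fun h => hx (hβ x h)
    have hnm : ∀ x : T, ¬ MaxFib f x.1 := fun x hm => by
      have h1 := hs _ hm
      have h2 := hdx _ x.2.1
      have h3 := x.2.2
      omega
    choose ι hι ξ g h1 h2 h3 h4 using fun x : T => exists_fibre_list f hδX (hK (f x.1)) (hnm x) (β x.1)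
    have hd1 : ∀ p : (Σ x : T, ι x), δX (ξ p.1 p.2) = k + r + 1 := fun p => by rw [h1, hdx _ p.1.2.1]
    have hW : ∀ W : Y.Opens, IsAffineOpen W → {p : Σ x : T, ι x | f (ξ p.1 p.2) ∈ W}.Finite := fun W hW => by
      have hT : {x : T | f x.1 ∈ W}.Finite :=
        ((finite_image_support f β hW).preimage Subtype.val_injective.injOn).subset fun x hx => ⟨x.2.1, hx⟩
      refine (hT.toFinset.sigma fun x => (@Finset.univ _ (hι x))).finite_toSet.subset fun p hp => ?_
      refine Finset.mem_coe.2 (Finset.mem_sigma.2 ⟨hT.mem_toFinset.2 ?_, @Finset.mem_univ _ (hι p.1) _⟩)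
      show f p.1.1 ∈ W
      rw [← h3 p.1 p.2]
      exact hp
    have hloc : ∀ x : X, ∃ U : Set X, IsOpen U ∧ x ∈ U ∧
        {p : Σ x : T, ι x | (closure {ξ p.1 p.2} ∩ U).Nonempty}.Finite := fun x => by
      obtain ⟨W, hWa, hfx, -⟩ := exists_isAffineOpen_mem_and_subset (x := f x) (U := ⊤) trivial
      exact ⟨f ⁻¹ᵁ W, (f ⁻¹ᵁ W).2, hfx, (hW W hWa).subset fun p hp =>
        GrothLib.CycDiv.mem_of_closure_inter (f ⁻¹ᵁ W).2 hp⟩
    let S := famCycle hδX (fun p : (Σ x : T, ι x) => g p.1 p.2) (fun p => h2 p.1 p.2) hloc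
    have hS : S ∈ Cyc.Zk X δX (k + r) := famCycle_mem_Zk hδX _ _ hloc hd1
    have hsplit : ∀ z, ∃ s : Finset T, (∀ x : T, f x.1 = f z → x ∈ s) ∧
        S z = ∑ x ∈ s, ∑ i ∈ (@Finset.univ _ (hι x)), Cyc.divFun δX (ξ x i) (g x i) z := by
      intro z
      obtain ⟨W, hWa, hfz, -⟩ := exists_isAffineOpen_mem_and_subset (x := f z) (U := ⊤) trivial
      have hT : {x : T | f x.1 ∈ W}.Finite :=
        ((finite_image_support f β hWa).preimage Subtype.val_injective.injOn).subset fun x hx => ⟨x.2.1, hx⟩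
      refine ⟨hT.toFinset, fun x hx => hT.mem_toFinset.2 (show f x.1 ∈ W from hx ▸ hfz), ?_⟩
      rw [famCycle_apply, finsum_eq_sum_of_support_subset _
        (s := hT.toFinset.sigma fun x => (@Finset.univ _ (hι x))) fun p hp => ?_, Finset.sum_sigma]
      refine Finset.mem_coe.2 (Finset.mem_sigma.2 ⟨hT.mem_toFinset.2 ?_, @Finset.mem_univ _ (hι p.1) _⟩)
      show f p.1.1 ∈ W
      rw [← h3 p.1 p.2]
      by_contra hc
      refine hp ?_
      show Cyc.divFun δX _ _ z = 0
      rw [Cyc.divFun, dif_neg]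
      exact fun h => hc ((h.1.map f.continuous).mem_open W.2 hfz)
    have hstep : ∀ z, (β - S) z ≠ 0 → δY (f z) ≤ k + (j : ℕ) := by
      intro z hz
      rw [Function.locallyFinsuppWithin.coe_sub, Pi.sub_apply] at hz
      by_contra hlt
      obtain ⟨s, hsm, hSz⟩ := hsplit z
      have hzero : ∀ x : T, f x.1 ≠ f z → ∀ i ∈ (@Finset.univ _ (hι x)), Cyc.divFun δX (ξ x i) (g x i) z = 0 := by
        intro x hx i _
        rw [Cyc.divFun, dif_neg]
        intro h
        have h5 := h.1.map f.continuous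
        rw [h3 x i] at h5
        have h6 := (hδY _ _ h5 hx).1
        have h7 := x.2.2
        omega
      by_cases hb0 : β z = 0
      · refine hz ?_
        rw [hb0, zero_sub, neg_eq_zero, hSz]
        refine Finset.sum_eq_zero fun x _ => ?_
        by_cases hx : f x.1 = f z
        · rw [h4 x z hx.symm, pt_ne (fun e => x.2.1 (by rw [← e]; exact hb0)), mul_zero]
        · exact Finset.sum_eq_zero (hzero x hx)
      · have hbz := hb z hb0
        have hzT : β z ≠ 0 ∧ δY (f z) = k + (j + 1 : ℕ) := ⟨hb0, by push_cast at hbz ⊢; omega⟩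
        refine hz ?_
        rw [hSz, Finset.sum_eq_single_of_mem (⟨z, hzT⟩ : T) (hsm _ rfl) fun x _ hne => ?_, h4 _ z rfl, pt_self,
          mul_one, sub_self]
        by_cases hx : f x.1 = f z
        · rw [h4 x z hx.symm, pt_ne (fun e => hne (Subtype.ext e.symm)), mul_zero]
        · exact Finset.sum_eq_zero (hzero x hx)
    obtain ⟨α, β', hα, he, hrat⟩ := main k j (β - S) (fun z hz => by
      rw [Function.locallyFinsuppWithin.coe_sub, Pi.sub_apply, hβ z hz, hS z hz, sub_zero]) hstep hδY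
    refine ⟨α, β', hα, he, ?_⟩
    have hS0 : Cyc.RatEquivZero δX (k + r) S :=
      ⟨_, fun p : (Σ x : T, ι x) => ξ p.1 p.2, fun p => g p.1 p.2, hd1, fun p => h2 p.1 p.2, hloc, fun x => rfl⟩
    have h := ratEquivZero_add hS0 hrat
    rwa [show S + (β - S - β') = β - β' by abel] at h

end main

end Groth.Agent.S1944

namespace Groth.Agent.S1944

/-- Let f : X → Y be flat, locally of finite type, of relative dimension r, such that every point of Y
has an open neighbourhood U over which f⁻¹(U) → U is isomorphic to affine r-space 𝔸^r_U → U. Then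
f^* : CH_k(Y) → CH_{k+r}(X) is surjective: every (k + r)-cycle on X is rationally equivalent to the
flat pullback (taken coefficientwise) of some k-cycle on Y. A pair (X, δ) with Cyc.IsSetup plays the
role of a scheme locally of finite type over a fixed base with a dimension function (X locally
Noetherian with universally catenary local rings, δ a dimension function), and Cyc.DeltaCompat
records that the dimension function upstairs is the induced one. -/
theorem result (X Y : Scheme.{u}) (δX : X → ℤ) (δY : Y → ℤ) (hX : Cyc.IsSetup X δX) (hY : Cyc.IsSetup Y δY) (f : X ⟶ Y) [Flat f] [LocallyOfFiniteType f] (r : ℕ) (hr : Cyc.HasRelDim f r) (hδ : Cyc.DeltaCompat f δX δY) (hloc : ∀ y : Y, ∃ U : Y.Opens, y ∈ U ∧ ∃ e : (↑(f ⁻¹ᵁ U) : Scheme.{u}) ≅ 𝔸(ULift.{u} (Fin r); (↑U : Scheme.{u})), e.hom ≫ (𝔸(ULift.{u} (Fin r); (↑U : Scheme.{u})) ↘ (↑U : Scheme.{u})) = f ∣_ U) (k : ℤ) (β : AlgebraicCycle X ℤ) (hβ : β ∈ Cyc.Zk X δX (k + r)) : ∃ (α : AlgebraicCycle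 Y ℤ) (β' : AlgebraicCycle X ℤ), α ∈ Cyc.Zk Y δY k ∧ ⇑β' = Cyc.pullFun f δX δY r ⇑α ∧ Cyc.RatEquiv δX (k + r) β β' := by
  haveI := hX.1
  haveI := hY.1
  choose U hyU e he using hloc
  haveI : QuasiCompact f := by
    refine IsZariskiLocalAtTarget.of_iSup_eq_top (P := @QuasiCompact) U
      (top_le_iff.1 fun y _ => TopologicalSpace.Opens.mem_iSup.2 ⟨y, hyU y⟩) fun y => ?_
    rw [← he y]
    infer_instance
  have hiso : ∀ y, Nonempty (f.fiber y ≅ 𝔸(ULift.{u} (Fin r); Spec (Y.residueField y))) := fun y =>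
    exists_fiberIso f (U y) (hyU y) (e y) (he y)
  have hN : ∀ y, IsLocallyNoetherian 𝔸(ULift.{u} (Fin r); Spec (Y.residueField y)) := fun y =>
    (GrothLib.CycAff.isNoetherian_affineSpace (ULift.{u} (Fin r)) (Y.residueField y)).toIsLocallyNoetherian
  haveI : ∀ y, IsIntegral (f.fiber y) := fun y => by
    obtain ⟨i⟩ := hiso y
    haveI : Nonempty (f.fiber y) := ⟨i.inv (genericPoint _)⟩
    exact isIntegral_of_isOpenImmersion i.hom
  haveI : ∀ y, IsLocallyNoetherian (f.fiber y) := fun y => by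
    haveI := hN y
    obtain ⟨i⟩ := hiso y
    exact isLocallyNoetherian_of_isOpenImmersion i.hom
  have hK : ∀ y, GrothLib.CycAff.Killed (f.fiber y) := fun y => by
    haveI := hN y
    obtain ⟨i⟩ := hiso y
    exact GrothLib.CycAff.Killed.of_iso i.symm (GrothLib.CycAff.killed_affineSpace (Y.residueField y) r)
  refine main f hK hX.2.2 (GrothLib.CycFlat.shift_of_hasRelDim f hr hδ) k r β hβ (fun x hx => ?_) hY.2.2
  have h1 : δX x = k + r := by_contra fun h => hx (hβ x h)
  obtain ⟨n, -, hn⟩ := hδ x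
  omega

end Groth.Agent.S1944
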