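import Groth.Statements.S19443
-- import your own Groth.Agent.* helpers here

set_option autoImplicit false
universe u
open LinAlg

namespace Groth.Agent.S19443

/-- Algebraic form: let G be a finite group with order invertible in the field k, ρ a linear
representation of G on a k-vector space V, and ω a nondegenerate bilinear form on V invariant under
G. Then ω restricted to the fixed subspace V^G is nondegenerate (for a finite group of symplectic
automorphisms, the fixed subspace is a symplectic subspace). -/
theorem result (k : Type u) [Field k]
    (G : Type u) [Group G] [Finite G] (hG : (Nat.card G : k) ≠ 0)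
    (V : Type u) [AddCommGroup V] [Module k V] (ρ : Representation k G V)
    (ω : LinearMap.BilinForm k V) (hω : ω.Nondegenerate)
    (hinv : ∀ (g : G) (v w : V), ω (ρ g v) (ρ g w) = ω v w) :
    (ω.restrict ρ.invariants).Nondegenerate := by
  classical
  haveI := Fintype.ofFinite G
  have hs : ∀ w, (∑ g : G, ρ g w) ∈ ρ.invariants := fun w h => by
    rw [map_sum]
    exact Fintype.sum_equiv (Equiv.mulLeft h) _ _ (fun g => by
      rw [Equiv.coe_mulLeft, map_mul]; rfl)
  rw [Nat.card_eq_fintype_card] at hG
  constructor
  · rintro ⟨v, hv⟩ h
    refine Subtype.ext (hω.1 v fun w => ?_)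
    have := h ⟨_, hs w⟩
    simp only [LinearMap.BilinForm.restrict_apply, map_sum, LinearMap.domRestrict_apply] at this
    rw [Finset.sum_congr rfl (fun g _ => show ω v (ρ g w) = ω v w by
      conv_lhs => rw [← hv g]
      exact hinv g v w), Finset.sum_const, Finset.card_univ, nsmul_eq_mul] at this
    exact (mul_eq_zero.mp this).resolve_left hG
  · rintro ⟨v, hv⟩ h
    refine Subtype.ext (hω.2 v fun w => ?_)
    have := h ⟨_, hs w⟩
    simp only [LinearMap.BilinForm.restrict_apply, map_sum, LinearMap.sum_apply, LinearMap.domRestrict_apply] at this
    rw [Finset.sum_congr rfl (fun g _ => show ω (ρ g w) v = ω w v by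
      conv_lhs => rw [← hv g]
      exact hinv g w v), Finset.sum_const, Finset.card_univ, nsmul_eq_mul] at this
    exact (mul_eq_zero.mp this).resolve_left hG

end Groth.Agent.S19443
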