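import Groth.Statements.S19444
-- import your own Groth.Agent.* helpers here
import Groth.Agent.Lib.TensorPolarize
import Mathlib.LinearAlgebra.Matrix.Determinant.Basic
import Mathlib.RingTheory.Norm.Defs

set_option autoImplicit false
universe u
open SymTen

namespace Groth.Agent.S19444

/-- Linearised norm: let A be a commutative ring in which n! is invertible and R a commutative
A-algebra, free of rank n as an A-module. There is a unique A-algebra homomorphism from the
symmetric tensors TS^n_A(R) to A taking r ⊗ ⋯ ⊗ r to the norm of r for every r in R. (The published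
corollary is stated for any free algebra of rank n; the construction printed for it divides by n!,
and n! invertible is assumed here.) -/
theorem result (A : Type u) [CommRing A] (R : Type u) [CommRing R]
    [Algebra A R] [Module.Free A R] [Module.Finite A R] (n : ℕ) (hn : Module.finrank A R = n)
    (hfact : IsUnit ((Nat.factorial n : ℕ) : A)) :
    ∃! φ : SymTen.TS A R n →ₐ[A] A, ∀ r : R, φ (SymTen.tpow A R n r) = Algebra.norm A r := by
  classical
  rcases subsingleton_or_nontrivial A with hA | hA
  · exact ⟨AlgHom.ofLinearMap 0 (Subsingleton.elim _ _) fun _ _ => Subsingleton.elim _ _,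
      fun r => Subsingleton.elim _ _, fun ψ _ => AlgHom.ext fun _ => Subsingleton.elim _ _⟩
  let b : Module.Basis (Fin n) A R := Module.finBasisOfFinrankEq A R hn
  let L := Algebra.leftMulMatrix b
  let D : MultilinearMap A (fun _ : Fin n => R) A :=
    (Matrix.detRowAlternating (n := Fin n) (R := A)).toMultilinearMap.compLinearMap fun j =>
      { toFun := fun r i => L r i j
        map_add' := fun x y => by funext i; simp
        map_smul' := fun a x => by funext i; simp }
  let Φ : SymTen.TS A R n →ₗ[A] A := (PiTensorProduct.lift D).comp (SymTen.TS A R n).val.toLinearMap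
  have hΦ : ∀ r : R, Φ (SymTen.tpow A R n r) = Algebra.norm A r := fun r => by
    show PiTensorProduct.lift D (PiTensorProduct.tprod A fun _ : Fin n => r) = _
    rw [PiTensorProduct.lift.tprod, Algebra.norm_eq_matrix_det b, ← Matrix.det_transpose]
    rfl
  have hspan : Submodule.span A (Set.range fun r : R => SymTen.tpow A R n r) = ⊤ := by
    refine eq_top_iff.mpr fun x _ => ?_
    have hx : x.1 ∈ GrothLib.TensorPolarize.powSpan A R n :=
      GrothLib.TensorPolarize.mem_powSpan_of_isUnit hfact x.2
    have hmap : (Submodule.span A (Set.range fun r : R => SymTen.tpow A R n r)).map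
        (SymTen.TS A R n).val.toLinearMap = GrothLib.TensorPolarize.powSpan A R n := by
      rw [Submodule.map_span, ← Set.range_comp]
      rfl
    rw [← hmap] at hx
    obtain ⟨y, hy, hyx⟩ := hx
    rwa [← show y = x from Subtype.ext hyx]
  let φ : SymTen.TS A R n →ₐ[A] A := AlgHom.ofLinearMap Φ
    (by rw [← map_one (SymTen.tpow A R n), hΦ, map_one]) (by
      intro x y
      have hx : x ∈ Submodule.span A (Set.range fun r : R => SymTen.tpow A R n r) := hspan ▸ Submodule.mem_top
      induction hx using Submodule.span_induction with
      | mem x hx =>
        obtain ⟨r, rfl⟩ := hx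
        have hy : y ∈ Submodule.span A (Set.range fun r : R => SymTen.tpow A R n r) := hspan ▸ Submodule.mem_top
        induction hy using Submodule.span_induction with
        | mem y hy =>
          obtain ⟨s, rfl⟩ := hy
          rw [← map_mul, hΦ, hΦ, hΦ, map_mul]
        | zero => simp
        | add y z _ _ hy hz => rw [mul_add, map_add, map_add, hy, hz, mul_add]
        | smul a y _ hy => rw [mul_smul_comm, map_smul, map_smul, hy, smul_eq_mul, smul_eq_mul]; ring
      | zero => simp
      | add x z _ _ hx hz => rw [add_mul, map_add, map_add, hx, hz, add_mul]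
      | smul a x _ hx => rw [smul_mul_assoc, map_smul, map_smul, hx, smul_eq_mul, smul_eq_mul]; ring)
  refine ⟨φ, hΦ, fun ψ hψ => ?_⟩
  have : ψ.toLinearMap = φ.toLinearMap := LinearMap.ext_on_range hspan fun r => (hψ r).trans (hΦ r).symm
  exact AlgHom.toLinearMap_injective this

end Groth.Agent.S19444
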