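import Groth.Statements.S19445
import Groth.Agent.Lib.Serre.Partial
-- import your own Groth.Agent.* helpers here

set_option autoImplicit false
universe u
open CAlg

namespace Groth.Agent.S19445

/-- Local form: let k be a field and A a regular local k-algebra with maximal ideal M and residue field
k (k maps onto A/M); let a finite group G whose order is invertible in k act on A by k-algebra
automorphisms. Then A/J is a regular local ring, where J is the ideal generated by the elements g·a
− a (J defines the fixed-point subscheme, so the fixed locus of G is smooth at the point). The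
accompanying identification of its tangent space with the G-invariants of the tangent space of A is
not restated here. -/
theorem result (k : Type u) [Field k] (A : Type u) [CommRing A]
    [Algebra k A] [IsRegularLocalRing A]
    (hres : Function.Surjective (algebraMap k (IsLocalRing.ResidueField A)))
    (G : Type u) [Group G] [Finite G] [MulSemiringAction G A] [SMulCommClass G k A]
    (hG : (Nat.card G : k) ≠ 0) :
    IsRegularLocalRing (A ⧸ Ideal.span {x : A | ∃ (g : G) (a : A), x = g • a - a}) := by
  have := Fintype.ofFinite G
  set J := Ideal.span {x : A | ∃ (g : G) (a : A), x = g • a - a} with hJ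
  have hloc : ∀ (g : G) (a : A), a ∈ IsLocalRing.maximalIdeal A → g • a ∈ IsLocalRing.maximalIdeal A := by
    intro g a ha
    rw [IsLocalRing.mem_maximalIdeal, mem_nonunits_iff] at ha ⊢
    intro hu
    apply ha
    simpa using hu.map (MulSemiringAction.toRingHom G A g⁻¹)
  have hJm : J ≤ IsLocalRing.maximalIdeal A := by
    rw [hJ, Ideal.span_le]
    rintro _ ⟨g, a, rfl⟩
    obtain ⟨c, hc⟩ := hres (IsLocalRing.residue A a)
    have ha : a - algebraMap k A c ∈ IsLocalRing.maximalIdeal A := by
      rw [← IsLocalRing.residue_eq_zero_iff, map_sub, sub_eq_zero]; exact hc.symm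
    have := sub_mem (hloc g _ ha) ha
    rwa [smul_sub, smul_algebraMap, sub_sub_sub_cancel_right] at this
  have hinter := GrothLib.Serre.fixedIdeal_inf_sq_le hres (by rwa [← Nat.card_eq_fintype_card])
    (fun g : G => MulSemiringAction.toAlgHom k A g) (fun g a ha => hloc g a ha)
    (fun h => ⟨Equiv.mulRight h, fun g a => by simp [mul_smul]⟩) J (by rw [hJ]; rfl) hJm
  obtain ⟨m, f, hf, hind⟩ := GrothLib.Serre.exists_indepSq_generators J hinter
  have := (GrothLib.Serre.isRegularLocalRing_quotient_of_indepSq m A f
    (fun i => hJm (hf ▸ Ideal.subset_span ⟨i, rfl⟩)) hind).1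
  exact IsRegularLocalRing.of_ringEquiv (R := A ⧸ Ideal.span (Set.range f)) (Ideal.quotEquivOfEq hf)

end Groth.Agent.S19445
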