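import Groth.Statements.S19447
import Groth.Agent.Lib.PseudoRefl.Basic
import Groth.Agent.Lib.RegLoc.PowerSeries
import Groth.Agent.Lib.Serre.Regular


set_option autoImplicit false
set_option backward.isDefEq.respectTransparency false
set_option backward.isDefEq.respectTransparency.types false
universe u
open ConstAct

namespace Groth.Agent.S19447

/-- Let k be an algebraically closed field, A the power series ring in n variables over k with maximal
ideal M, and G a finite group of order invertible in k acting faithfully on A by k-algebra
automorphisms, A being finite over the ring of invariants A^G. Say g is a pseudo-reflection or acts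
trivially on the cotangent space when A modulo M^2 and the elements g·a − a has dimension at least n
over k. If G is generated by such elements, then A is flat over A^G and A^G is a regular local ring:
generation by pseudo-reflections implies the other two conditions of the published criterion (only
this sufficiency half is stated; the converse implication is not part of this statement). -/
theorem result (k : Type u) [Field k]
    [IsAlgClosed k] (n : ℕ) (G : Type u) [Group G] [Finite G] [MulSemiringAction G (MvPowerSeries (Fin n) k)]
    [SMulCommClass G k (MvPowerSeries (Fin n) k)] [FaithfulSMul G (MvPowerSeries (Fin n) k)]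
    (hG : (Nat.card G : k) ≠ 0)
    [Module.Finite (ConstAct.inv k (MvPowerSeries (Fin n) k) G) (MvPowerSeries (Fin n) k)]
    (hgen : Subgroup.closure {g : G | n ≤ Module.finrank k (MvPowerSeries (Fin n) k ⧸
        (Ideal.span {x : MvPowerSeries (Fin n) k | ∃ a, x = g • a - a} ⊔
          IsLocalRing.maximalIdeal (MvPowerSeries (Fin n) k) ^ 2))} = ⊤) :
    Module.Flat (ConstAct.inv k (MvPowerSeries (Fin n) k) G) (MvPowerSeries (Fin n) k) ∧
      IsRegularLocalRing (ConstAct.inv k (MvPowerSeries (Fin n) k) G) := by
  --- body
  classical
  have hres : ∀ a : (MvPowerSeries (Fin n) k), ∃ c : k, a - algebraMap k (MvPowerSeries (Fin n) k) c ∈ IsLocalRing.maximalIdeal (MvPowerSeries (Fin n) k) := fun a =>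
    ⟨MvPowerSeries.constantCoeff a, (GrothLib.RegLoc.PS.mem_max (k := k) (d := n)).2 (by
      simp [MvPowerSeries.algebraMap_apply])⟩
  have hgen' : Subgroup.closure {g : G | ∃ l ∈ IsLocalRing.maximalIdeal (MvPowerSeries (Fin n) k), ∀ a, g • a - a ∈ Ideal.span {l}} = ⊤ := by
    rw [eq_top_iff, ← hgen]
    exact Subgroup.closure_mono fun g hg => GrothLib.PseudoRefl.exists_principal (k := k) hres
      MvPowerSeries.X (GrothLib.RegLoc.PS.span_X k) hG g hg
  have : IsDomain (MvPowerSeries (Fin n) k) := NoZeroDivisors.to_isDomain _
  obtain ⟨hloc, hn, hlh, hfree⟩ := GrothLib.PseudoRefl.free_of_generated (k := k) (A := (MvPowerSeries (Fin n) k)) hG hgen'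
  have : IsRegularLocalRing (MvPowerSeries (Fin n) k) := GrothLib.RegLoc.PS.isRegularLocalRing k
  haveI : Module.Flat (ConstAct.inv k (MvPowerSeries (Fin n) k) G) (MvPowerSeries (Fin n) k) := Module.Flat.of_free
  exact ⟨inferInstance, GrothLib.Serre.isRegularLocalRing_of_flat (ConstAct.inv k (MvPowerSeries (Fin n) k) G) (MvPowerSeries (Fin n) k)⟩

end Groth.Agent.S19447
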