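import Groth.Statements.S19448
import Mathlib

set_option autoImplicit false
universe u
open CAlg

namespace Groth.Agent.S19448

/-- Let k be a field, A a Noetherian local k-algebra with maximal ideal M and residue field k, and G a
finite group with |G| ≠ 0 in k acting on A by k-algebra automorphisms. An element of G which acts
trivially on M/M^2 acts trivially on A; in other words the stabilizer acts faithfully on the
cotangent space whenever it acts faithfully on the local ring. -/
theorem result (k : Type u) [Field k] (A : Type u) [CommRing A]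
    [Algebra k A] [IsLocalRing A] [IsNoetherianRing A]
    (hres : Function.Surjective (algebraMap k (IsLocalRing.ResidueField A)))
    (G : Type u) [Group G] [Finite G] [MulSemiringAction G A] [SMulCommClass G k A]
    (hG : (Nat.card G : k) ≠ 0) (g : G)
    (hg : ∀ a ∈ IsLocalRing.maximalIdeal A, g • a - a ∈ IsLocalRing.maximalIdeal A ^ 2) (a : A) :
    g • a = a := by
  classical
  set m := IsLocalRing.maximalIdeal A
  have hmem : ∀ x ∈ m, g • x ∈ m := fun x hx h => hx (by simpa using h.map (MulSemiringAction.toRingHom G A g⁻¹))
  have hpowmem : ∀ n, ∀ x ∈ m ^ n, g • x ∈ m ^ n := fun n x hx => by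
    have h1 : (m ^ n).map (MulSemiringAction.toRingHom G A g) ≤ m ^ n := by
      rw [Ideal.map_pow]
      exact Ideal.pow_right_mono (Ideal.map_le_iff_le_comap.2 fun y hy => Ideal.mem_comap.2 (hmem y hy)) n
    exact h1 (Ideal.mem_map_of_mem _ hx)
  have hraise : ∀ n, ∀ x ∈ m ^ (n + 1), g • x - x ∈ m ^ (n + 2) := by
    intro n
    induction n with
    | zero => simpa using hg
    | succ n ih =>
      intro x hx
      rw [pow_succ] at hx
      refine Submodule.mul_induction_on hx (fun y hy z hz => ?_) (fun y z hy hz => ?_)
      · rw [smul_mul', show g • y * (g • z) - y * z = (g • y - y) * (g • z) + y * (g • z - z) by ring]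
        refine add_mem ?_ ?_
        · rw [pow_succ]; exact Ideal.mul_mem_mul (ih y hy) (hmem z hz)
        · rw [show n + 1 + 2 = (n + 1) + 2 from rfl, pow_add]; exact Ideal.mul_mem_mul hy (hg z hz)
      · rw [smul_add, add_sub_add_comm]; exact add_mem hy hz
  have hsplit : ∀ x : A, ∃ c : k, x - algebraMap k A c ∈ m := fun x => by
    obtain ⟨c, hc⟩ := hres (IsLocalRing.residue A x)
    refine ⟨c, (IsLocalRing.residue_eq_zero_iff _).1 ?_⟩
    rw [map_sub, ← hc, IsScalarTower.algebraMap_apply k A (IsLocalRing.ResidueField A),
      IsLocalRing.ResidueField.algebraMap_eq, sub_self]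
  have hd : ((orderOf g : ℕ) : k) ≠ 0 := fun h0 => hG (by
    obtain ⟨c, hc⟩ := orderOf_dvd_natCard g
    rw [hc, Nat.cast_mul, h0, zero_mul])
  have main : ∀ n, ∀ x : A, g • x - x ∈ m ^ (n + 2) := by
    intro n
    induction n with
    | zero =>
      intro x
      obtain ⟨c, hc⟩ := hsplit x
      have := hg _ hc
      rwa [smul_sub, smul_algebraMap, sub_sub_sub_cancel_right] at this
    | succ n ih =>
      intro x
      have hi : ∀ i : ℕ, g ^ i • x - x - (i : A) * (g • x - x) ∈ m ^ (n + 3) := by
        intro i
        induction i with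
        | zero => simp
        | succ i hi =>
          have h1 := hraise (n + 1) _ (ih x)
          have h2 := add_mem (hpowmem _ _ hi) (Ideal.mul_mem_left _ (i : A) h1)
          have e : g ^ (i + 1) • x - x - ((i + 1 : ℕ) : A) * (g • x - x) =
              g • (g ^ i • x - x - (i : A) * (g • x - x)) + (i : A) * (g • (g • x - x) - (g • x - x)) := by
            have hc : g • (i : A) = (i : A) := map_natCast (MulSemiringAction.toRingHom G A g) i
            rw [pow_succ', mul_smul, smul_sub, smul_sub, smul_mul', hc, smul_sub, Nat.cast_succ]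
            ring
          rw [e]; exact h2
      have h := hi (orderOf g)
      rw [pow_orderOf_eq_one, one_smul, sub_self, zero_sub, neg_mem_iff] at h
      have hu : IsUnit ((orderOf g : ℕ) : A) := by
        rw [← map_natCast (algebraMap k A)]; exact (isUnit_iff_ne_zero.2 hd).map _
      exact (Ideal.unit_mul_mem_iff_mem _ hu).1 h
  have : g • a - a ∈ (⨅ n, m ^ n : Ideal A) :=
    (Submodule.mem_iInf _).2 fun n => Ideal.pow_le_pow_right (Nat.le_add_right n 2) (main n a)
  rw [Ideal.iInf_pow_eq_bot_of_isLocalRing m (IsLocalRing.maximalIdeal.isMaximal A).ne_top] at this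
  exact sub_eq_zero.1 this

end Groth.Agent.S19448
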