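import Groth.Statements.S19449
import Groth.Agent.Lib.SymRep28.Alternants

set_option autoImplicit false
universe u
open SymRep

namespace Groth.Agent.S19449

/-- Over a field k of characteristic zero, let the symmetric group S_n act on the polynomial ring in the
2n variables x_i, y_i (i < n; the variable (i, 0) is x_i and (i, 1) is y_i) by permuting the index
i, and for an n-tuple p of pairs (p_j, q_j) of exponents let Δ_p be the determinant det(x_i^{p_j}
y_i^{q_j}). A polynomial is alternating — each permutation acts on it by its sign — exactly when it
is a k-linear combination of the Δ_p; and the Δ_p for p strictly increasing in the lexicographic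
order on pairs (one for each n-element set of exponent pairs) are linearly independent. Hence these
Δ_p form a basis of the space of alternating polynomials. -/
theorem result (k : Type u) [Field k] [CharZero k] (n : ℕ) :
    (∀ f : MvPolynomial (Fin n × Fin 2) k,
      (∀ σ : Equiv.Perm (Fin n),
          MvPolynomial.rename (fun v : Fin n × Fin 2 => (σ v.1, v.2)) f = ((Equiv.Perm.sign σ : ℤˣ) : ℤ) • f) ↔
        f ∈ Submodule.span k (Set.range fun p : Fin n → ℕ × ℕ =>
          (Matrix.of fun i j : Fin n =>
            (MvPolynomial.X (i, 0) : MvPolynomial (Fin n × Fin 2) k) ^ (p j).1 * MvPolynomial.X (i, 1) ^ (p j).2).det)) ∧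
    LinearIndependent k (fun p : {p : Fin n → ℕ ×ₗ ℕ // StrictMono p} =>
      (Matrix.of fun i j : Fin n =>
        (MvPolynomial.X (i, 0) : MvPolynomial (Fin n × Fin 2) k) ^ (ofLex (p.1 j)).1 *
          MvPolynomial.X (i, 1) ^ (ofLex (p.1 j)).2).det) := by
  exact ⟨fun f => GrothLib.SymRep28.mem_span_iff f, GrothLib.SymRep28.linearIndependent_alternant⟩

end Groth.Agent.S19449
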