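import Groth.Statements.S1945
-- import your own Groth.Agent.* helpers here
import Groth.Agent.Lib.C1.FibreCut

set_option autoImplicit false
universe u
open CategoryTheory AlgebraicGeometry
open CategoryTheory.Limits
open Cyc

namespace Groth.Agent.S1945

/-- Let p : X → Y be flat, locally of finite type, of relative dimension r + 1, and i : D → X the zero
scheme of a global section s of an invertible module L which is a nonzerodivisor at every stalk,
with D → Y flat of relative dimension r (a relative effective Cartier divisor). Then for a (k +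
1)-cycle α on Y, i^*(p^*α) ∼_rat (p|_D)^*α as (k + r + 1)-cycles on D, flat pullbacks taken
coefficientwise. (The companion formula c_1(L) ∩ p^*α = i_*((p|_D)^*α) is not stated here.) Here i :
D → X is the zero scheme of a global section s of the invertible module L (Cyc.IsZeroSchemeOf), the
Gysin map i^* : Z_{k+1}(X) → CH_k(D) is computed on coefficient functions as c_1(L) ∩ − with the
rational sections taken to be s where it is nonzero (Cyc.gysinChoice) and restricted to the points
of D, and classes on D are compared up to rational equivalence on D for the restricted dimension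
function. A pair (X, δ) with Cyc.IsSetup plays the role of a scheme locally of finite type over a
base with a dimension function (X locally Noetherian with universally catenary local rings, δ a
dimension function), and Cyc.DeltaCompat records that the dimension function upstairs is the induced
one. -/
theorem result (X Y D : Scheme.{u}) (δX : X → ℤ) (δY : Y → ℤ) (hX : Cyc.IsSetup X δX) (hY : Cyc.IsSetup Y δY) (p : X ⟶ Y) [Flat p] [LocallyOfFiniteType p] (r : ℕ) (hr : Cyc.HasRelDim p (r + 1)) (hδ : Cyc.DeltaCompat p δX δY) (L : X.Modules) (hL : PicF.IsInvertible L) (s : L.presheaf.obj (Opposite.op ⊤)) (hreg : ∀ x : X, Function.Injective (fun a : X.presheaf.stalk x => a • (L.presheaf.germ ⊤ x trivial) s)) (i : D ⟶ X) [IsClosedImmersion i] (hD : Cyc.IsZeroSchemeOf i L s) [Flat (i ≫ p)] (hrD : Cyc.HasRelDim (i ≫ p) r) (k : ℤ) (α : AlgebraicCycle Y ℤ) (hα : α ∈ Cyc.Zk Y δY (k + 1)) (w : (ξ : X) → Cyc.secFibre L ξ) (hw : ∀ ξ, w ξ ≠ 0) (γ ζ : AlgebraicCycle D ℤ) (hγ : ∀ d,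 γ d = Cyc.c1CapFun δX L (Cyc.pullFun p δX δY (r + 1) ⇑α) (Cyc.gysinChoice L s w) (i d)) (hζ : ⇑ζ = Cyc.pullFun (i ≫ p) (fun d => δX (i d)) δY r ⇑α) : Cyc.RatEquiv (fun d => δX (i d)) (k + r + 1) γ ζ := by
  classical
  haveI : IsLocallyNoetherian X := hX.1
  haveI : IsLocallyNoetherian Y := hY.1
  haveI : IsLocallyNoetherian D := LocallyOfFiniteType.isLocallyNoetherian i
  set δD : D → ℤ := fun d => δX (i d) with hδDdef
  have hdimD : Cyc.IsDimFun D δD := GrothLib.CycPush.isDimFun_closedImmersion i hX.2.2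
  have hc : ∀ x, GrothLib.CycFlat.MaxFib p x → δX x = δY (p x) + ((r + 1 : ℕ) : ℤ) :=
    GrothLib.CycDiv.shift_of_hasRelDim p hr hδ
  have hδc : Cyc.DeltaCompat (i ≫ p) δD δY := by
    intro d
    obtain ⟨n, hn, hd⟩ := hδ (i d)
    refine ⟨n, ?_, hd⟩
    show GrothLib.CycFlat.resTrdeg (i ≫ p) d = n
    rw [GrothLib.CycFlat.resTrdeg_comp, GrothLib.CycPush.resTrdeg_finite i (RingHom.Finite.of_surjective _
      (GrothLib.CycPush.residueFieldMap_bijective i d).2), add_zero]
    exact hn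
  have hcD : ∀ d, GrothLib.CycFlat.MaxFib (i ≫ p) d → δD d = δY ((i ≫ p) d) + (r : ℤ) :=
    GrothLib.CycDiv.shift_of_hasRelDim (i ≫ p) hrD hδc
  refine GrothLib.C1.ratEquiv_of_RZ hdimD (GrothLib.C1.RZ.zero hdimD _) fun d => ?_
  rw [Pi.zero_apply, sub_eq_zero, hγ, hζ, GrothLib.CycFlat.pullFun_apply]
  have hbound : δX (i d) ≤ δY (p (i d)) + r :=
    (GrothLib.CycFlat.eq_add_iff_maxFib (i ≫ p) hdimD hcD d).2
  have hterm : ∀ ξ, Cyc.pullFun p δX δY ((r + 1 : ℕ) : ℤ) ⇑α ξ * Cyc.secDivFun δX L ξ (Cyc.gysinChoice L s w ξ) (i d) ≠ 0 →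
      ξ ⤳ i d ∧ GrothLib.CycFlat.MaxFib p ξ ∧ p ξ = p (i d) ∧ δX (i d) = δY (p (i d)) + r := by
    intro ξ hξ
    obtain ⟨h, hd⟩ := GrothLib.C1.secDivFun_ne_zero (right_ne_zero_of_mul hξ)
    have h1 := left_ne_zero_of_mul hξ
    rw [GrothLib.CycFlat.pullFun_apply] at h1
    split_ifs at h1 with he
    · refine ⟨h, (GrothLib.CycFlat.eq_add_iff_maxFib p hX.2.2 hc ξ).1.1 he, ?_⟩
      have hne : p ξ = p (i d) := by
        by_contra hne
        have := (hY.2.2 _ _ (h.map p.continuous) hne).1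
        push_cast at he
        omega
      refine ⟨hne, ?_⟩
      rw [hne] at he
      push_cast at he
      omega
    · exact absurd rfl h1
  show _ = if δX (i d) = δY (p (i d)) + (r : ℤ) then α (p (i d)) * ((GrothLib.CycFlat.fibLength (i ≫ p) d).toNat : ℤ) else 0
  by_cases hd : δX (i d) = δY (p (i d)) + r
  swap
  · rw [if_neg hd, Cyc.c1CapFun, finsum_eq_zero_of_forall_eq_zero fun ξ => by_contra fun h => hd (hterm ξ ?_).2.2.2]
    exact fun h' => h (by exact_mod_cast h')
  rw [if_pos hd]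
  obtain ⟨t, f, ht, hf, hker⟩ := hD.2 d
  have hg := GrothLib.C1.gen_of_span hL ht
  have hfm : f ∈ IsLocalRing.maximalIdeal (X.presheaf.stalk (i d)) :=
    IsLocalRing.le_maximalIdeal (RingHom.ker_ne_top _) (hker.ge (Ideal.mem_span_singleton_self f))
  have hfreg : ∀ a, a * f = 0 → a = 0 := fun a ha => hreg (i d) (by
    show a • _ = (0 : X.presheaf.stalk (i d)) • _
    rw [hf, ← mul_smul, ha, zero_smul, zero_smul])
  have hflat : letI := (p.stalkMap (i d)).hom.toAlgebra
      Module.Flat (Y.presheaf.stalk (p (i d))) (X.presheaf.stalk (i d) ⧸ Ideal.span {f}) := by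
    letI := (p.stalkMap (i d)).hom.toAlgebra
    letI : Algebra (Y.presheaf.stalk (p (i d))) (D.presheaf.stalk d) := ((i ≫ p).stalkMap d).hom.toAlgebra
    haveI : Module.Flat (Y.presheaf.stalk (p (i d))) (D.presheaf.stalk d) := Flat.stalkMap (i ≫ p) d
    let e : (X.presheaf.stalk (i d) ⧸ Ideal.span {f}) ≃+* D.presheaf.stalk d :=
      (Ideal.quotEquivOfEq hker.symm).trans (RingHom.quotientKerEquivOfSurjective (i.stalkMap_surjective d))
    exact Module.Flat.of_linearEquiv (M := D.presheaf.stalk d) (AlgEquiv.ofRingEquiv (f := e) fun a => by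
      show (i.stalkMap d).hom ((p.stalkMap (i d)).hom a) = ((i ≫ p).stalkMap d).hom a
      rw [Scheme.Hom.stalkMap_comp]
      rfl).toLinearEquiv
  obtain ⟨U, hxU, hU⟩ := GrothLib.CycDiv.exists_nhds_compact (i d)
  have hΞ : {ξ : X | ξ ⤳ i d ∧ GrothLib.CycFlat.MaxFib p ξ ∧ p ξ = p (i d)}.Finite :=
    (GrothLib.CycDiv.finite_maxFib_mem p hU (p (i d))).subset fun ξ hξ => ⟨hξ.1.mem_open U.2 hxU, hξ.2.1, hξ.2.2⟩
  obtain ⟨hnot, hcut⟩ := GrothLib.C1.fibreCut p hX.2.2 hc (i d) (by push_cast; omega) f hfm hfreg hflat hΞ.toFinset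
    (fun ξ => hΞ.mem_toFinset)
  have hfib : GrothLib.CycFlat.fibLength (i ≫ p) d = Module.length (X.presheaf.stalk (i d))
      (X.presheaf.stalk (i d) ⧸ ((IsLocalRing.maximalIdeal (Y.presheaf.stalk (p (i d)))).map (p.stalkMap (i d)).hom ⊔
        Ideal.span {f})) := by
    rw [GrothLib.C1.length_quot_of_surjective (i.stalkMap d).hom (i.stalkMap_surjective d) _
      (hker.le.trans le_sup_right)]
    have hm : ((IsLocalRing.maximalIdeal (Y.presheaf.stalk (p (i d)))).map (p.stalkMap (i d)).hom ⊔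
        Ideal.span {f}).map (i.stalkMap d).hom =
        (IsLocalRing.maximalIdeal (Y.presheaf.stalk ((i ≫ p) d))).map ((i ≫ p).stalkMap d).hom := by
      rw [Ideal.map_sup, ← hker, (Ideal.map_eq_bot_iff_le_ker _).2 le_rfl, sup_bot_eq, Ideal.map_map]
      exact congrArg (fun φ => Ideal.map φ _) (congrArg CommRingCat.Hom.hom (Scheme.Hom.stalkMap_comp i p d)).symm
    rw [hm]
  rw [hfib, hcut, Finset.mul_sum, Cyc.c1CapFun, finsum_eq_sum_of_support_subset (s := hΞ.toFinset) _ fun ξ hξ => ?_]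
  · refine Finset.sum_congr rfl fun ξ hξ => ?_
    obtain ⟨h, hm, he⟩ := hΞ.mem_toFinset.1 hξ
    have h1 := hnot ξ h hm he
    have hδξ := hc ξ hm
    rw [he] at hδξ
    push_cast at hδξ
    have hgne : GrothLib.C1.gcls s ξ ≠ 0 := fun h0 => h1 ((GrothLib.C1.gcls_eq_zero_iff hL s h hg hf).1 h0)
    rw [GrothLib.CycFlat.pullFun_apply, if_pos ((GrothLib.CycFlat.eq_add_iff_maxFib p hX.2.2 (c := (r : ℤ) + 1)
        (fun x hx => by rw [hc x hx]; push_cast; ring) ξ).1.2 hm),
      GrothLib.C1.gysinChoice_pos w hgne, GrothLib.C1.secDivFun_gcls hX.2.2 hL s h (by omega) hg hf,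
      GrothLib.CycDiv.ordAt_eq_sub hX.2.2 h (by omega) h1
        (fun h2 => (inferInstance : (GrothLib.CycDiv.primeOf h).IsPrime).ne_top ((Ideal.eq_top_iff_one _).2 h2))
        (by rw [map_one, mul_one]), map_one, Ring.ord_of_isUnit isUnit_one, dif_pos h, he]
    simp only [Scheme.Hom.comp_apply, ENat.toNat_zero, Nat.cast_zero, sub_zero]
    ring
  · obtain ⟨a, b, c', -⟩ := hterm ξ (by exact_mod_cast hξ)
    exact Finset.mem_coe.2 (hΞ.mem_toFinset.2 ⟨a, b, c'⟩)

end Groth.Agent.S1945
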