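import Groth.Agent.Lib.EmbDef.DualFlat
import Groth.Agent.S11294
import Groth.Statements.S19452
-- import your own Groth.Agent.* helpers here

set_option autoImplicit false
universe u
attribute [local instance] W4c6puncthilbintro.dualAlgebra
open HilbD

namespace Groth.Agent.S19452

/-- Let A be a commutative ring, R a commutative A-algebra free as an A-module, I an ideal of R with R/I
flat over A, and view the dual numbers R[ε] as an algebra over A[ε] (ε ↦ ε). For φ : I → R/I linear
over R, let J_φ be the ideal of elements a + bε of R[ε] with a ∈ I and b ≡ φ(a) modulo I. Then each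
R[ε]/J_φ is flat over A[ε] and J_φ reduces to I modulo ε; the assignment φ ↦ J_φ is injective; and
every ideal J of R[ε] with R[ε]/J flat over A[ε] which reduces to I modulo ε equals some J_φ. Thus
the first-order liftings of I correspond one-to-one to Hom_R(I, R/I) (the tangent space of the
Hilbert scheme at I). -/
theorem result (A : Type u) [CommRing A] (R : Type u) [CommRing R]
    [Algebra A R] [Module.Free A R] (I : Ideal R) [Module.Flat A (R ⧸ I)] :
    (∀ φ : I →ₗ[R] R ⧸ I,
        Module.Flat (DualNumber A) (DualNumber R ⧸ W4c6puncthilbintro.liftIdeal I φ) ∧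
          Ideal.map (TrivSqZeroExt.fstHom A R R) (W4c6puncthilbintro.liftIdeal I φ) = I) ∧
      Function.Injective (W4c6puncthilbintro.liftIdeal I) ∧
      ∀ J : Ideal (DualNumber R), Module.Flat (DualNumber A) (DualNumber R ⧸ J) →
        Ideal.map (TrivSqZeroExt.fstHom A R R) J = I →
          ∃ φ : I →ₗ[R] R ⧸ I, J = W4c6puncthilbintro.liftIdeal I φ := by
  open TrivSqZeroExt in
  have hmem : ∀ (φ : I →ₗ[R] R ⧸ I) (a b : R), (inl a + inr b : DualNumber R) ∈ W4c6puncthilbintro.liftIdeal I φ ↔
      ∃ h : a ∈ I, Ideal.Quotient.mk I b = φ ⟨a, h⟩ := fun φ a b => by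
    change (∃ h : (TrivSqZeroExt.inl a + TrivSqZeroExt.inr b : DualNumber R).fst ∈ I,
      Ideal.Quotient.mk I (TrivSqZeroExt.inl a + TrivSqZeroExt.inr b : DualNumber R).snd = φ ⟨_, h⟩) ↔ _
    simp
  have key := fun φ => (Groth.Agent.S11294.result R I).2 (W4c6puncthilbintro.liftIdeal I φ) |>.2 ⟨φ, hmem φ⟩
  refine ⟨fun φ => ⟨GrothLib.EmbDef.flat_dual_of _ I (key φ).1 (key φ).2, (key φ).1⟩, fun φ ψ h => ?_,
    fun J hfl hJ => ?_⟩
  · refine LinearMap.ext fun x => ?_
    obtain ⟨b, hb⟩ := Ideal.Quotient.mk_surjective (φ x)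
    have h' := (hmem φ x b).2 ⟨x.2, hb⟩
    rw [h, hmem] at h'
    exact hb.symm.trans h'.2
  · obtain ⟨φ, hφ⟩ := ((Groth.Agent.S11294.result R I).2 J).1
      ⟨hJ, fun m hm => GrothLib.EmbDef.exists_eq_eps_mul_of_flat (A := A) J m hm⟩
    refine ⟨φ, Ideal.ext fun x => ?_⟩
    rw [← TrivSqZeroExt.inl_fst_add_inr_snd_eq x, hφ, hmem]

end Groth.Agent.S19452
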