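import Groth.Statements.S19453
import Mathlib
-- import your own Groth.Agent.* helpers here

set_option autoImplicit false
universe u
open CAlg

namespace Groth.Agent.S19453

/-- Converse direction: let k be a field, A a regular local k-algebra of Krull dimension 2 with maximal
ideal M and residue field k, and I an ideal with A/I of finite dimension n ≥ 1 over k. If some
element of I does not lie in M^2, then A/I is isomorphic as a k-algebra to k[x]/(x^n): a cluster
lying on a smooth curve germ of a smooth surface is curvilinear, with coordinate ring generated by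
one element. -/
theorem result (k : Type u) [Field k]
    (A : Type u) [CommRing A] [Algebra k A] [IsRegularLocalRing A] (hdim : ringKrullDim A = 2)
    (hres : Function.Surjective (algebraMap k (IsLocalRing.ResidueField A)))
    (I : Ideal A) [Module.Finite k (A ⧸ I)] (n : ℕ) (hn : Module.finrank k (A ⧸ I) = n) (h1 : 1 ≤ n)
    (g : A) (hgI : g ∈ I) (hg : g ∉ IsLocalRing.maximalIdeal A ^ 2) :
    Nonempty ((A ⧸ I) ≃ₐ[k] (Polynomial k ⧸ Ideal.span {(Polynomial.X : Polynomial k) ^ n})) := by
  classical
  let m := IsLocalRing.maximalIdeal A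
  have hm2 : m.spanFinrank = 2 := by
    have := (isRegularLocalRing_iff A).1 ‹_›
    rw [hdim] at this
    exact_mod_cast this
  obtain ⟨h, hmh⟩ : ∃ h : A, m = Ideal.span {g, h} := by
    have hfg : m.FG := m.fg_of_isNoetherianRing
    have hc : (Submodule.generators m).ncard = 2 := by
      rw [Submodule.FG.generators_ncard hfg, hm2]
    obtain ⟨a, b, -, hab⟩ := Set.ncard_eq_two.1 hc
    have hmab : m = Ideal.span {a, b} := by
      rw [← hab]; exact (Submodule.span_generators m).symm
    have hIm : I ≤ m := IsLocalRing.le_maximalIdeal fun hI => by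
      have : Subsingleton (A ⧸ I) := Ideal.Quotient.subsingleton_iff.2 hI
      rw [Module.finrank_zero_of_subsingleton] at hn
      omega
    obtain ⟨u, v, huv⟩ := Ideal.mem_span_pair.1 (hmab ▸ hIm hgI)
    by_cases hu : IsUnit u
    · refine ⟨b, hmab.trans (le_antisymm ?_ ?_)⟩
      · rw [Ideal.span_le, Set.insert_subset_iff, Set.singleton_subset_iff]
        refine ⟨?_, Ideal.subset_span (by simp)⟩
        have : u * a ∈ Ideal.span {g, b} := by
          rw [show u * a = g - v * b by rw [← huv]; ring]
          exact sub_mem (Ideal.subset_span (by simp)) (Ideal.mul_mem_left _ _ (Ideal.subset_span (by simp)))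
        exact (Ideal.unit_mul_mem_iff_mem _ hu).1 this
      · rw [Ideal.span_le, Set.insert_subset_iff, Set.singleton_subset_iff]
        exact ⟨Ideal.mem_span_pair.2 ⟨u, v, huv⟩, Ideal.subset_span (by simp)⟩
    · have hv : IsUnit v := by
        by_contra hv
        apply hg
        rw [← huv, pow_two]
        exact add_mem (Ideal.mul_mem_mul ((IsLocalRing.mem_maximalIdeal _).2 hu)
            (show a ∈ m from hmab ▸ Ideal.subset_span (by simp)))
          (Ideal.mul_mem_mul ((IsLocalRing.mem_maximalIdeal _).2 hv)
            (show b ∈ m from hmab ▸ Ideal.subset_span (by simp)))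
      refine ⟨a, hmab.trans (le_antisymm ?_ ?_)⟩
      · rw [Ideal.span_le, Set.insert_subset_iff, Set.singleton_subset_iff]
        refine ⟨Ideal.subset_span (by simp), ?_⟩
        have : v * b ∈ Ideal.span {g, a} := by
          rw [show v * b = g - u * a by rw [← huv]; ring]
          exact sub_mem (Ideal.subset_span (by simp)) (Ideal.mul_mem_left _ _ (Ideal.subset_span (by simp)))
        exact (Ideal.unit_mul_mem_iff_mem _ hv).1 this
      · rw [Ideal.span_le, Set.insert_subset_iff, Set.singleton_subset_iff]
        exact ⟨Ideal.mem_span_pair.2 ⟨u, v, huv⟩, Ideal.subset_span (by simp)⟩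
  have hIm : I ≤ m := IsLocalRing.le_maximalIdeal fun hI => by
    have : Subsingleton (A ⧸ I) := Ideal.Quotient.subsingleton_iff.2 hI
    rw [Module.finrank_zero_of_subsingleton] at hn
    omega
  let B := A ⧸ I
  have : Nontrivial B := Ideal.Quotient.nontrivial_iff.2 fun h0 =>
    (IsLocalRing.maximalIdeal.isMaximal A).ne_top (top_le_iff.1 (h0 ▸ hIm))
  have hlocB : IsLocalRing B := IsLocalRing.of_surjective' _ Ideal.Quotient.mk_surjective
  have : IsArtinianRing B := IsArtinianRing.of_finite k B
  let t : B := Ideal.Quotient.mk I h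
  let f : Polynomial k →ₐ[k] B := Polynomial.aeval t
  obtain ⟨N, hN⟩ : IsNilpotent (IsLocalRing.maximalIdeal B) := by
    rw [← IsLocalRing.jacobson_eq_maximalIdeal (⊥ : Ideal B) bot_ne_top]
    exact IsArtinianRing.isNilpotent_jacobson_bot
  have hdec : ∀ z : B, ∃ (c : k) (w : B), z = algebraMap k B c + t * w := by
    intro z
    obtain ⟨a, rfl⟩ := Ideal.Quotient.mk_surjective z
    obtain ⟨c, hc⟩ := hres (IsLocalRing.residue A a)
    have : a - algebraMap k A c ∈ m := by
      rw [← IsLocalRing.residue_eq_zero_iff, map_sub, ← hc, IsScalarTower.algebraMap_apply k A (IsLocalRing.ResidueField A)]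
      exact sub_self _
    rw [hmh, Ideal.mem_span_pair] at this
    obtain ⟨p, q, hpq⟩ := this
    refine ⟨c, Ideal.Quotient.mk I q, ?_⟩
    have e : a = algebraMap k A c + p * g + h * q := by linear_combination -hpq
    conv_lhs => rw [e]
    rw [map_add, map_add, map_mul, map_mul, Ideal.Quotient.eq_zero_iff_mem.2 hgI, mul_zero, add_zero]
    rfl
  have hsurj : Function.Surjective f := by
    have hj : ∀ j, ∀ z : B, ∃ (p : Polynomial k) (w : B), z = f p + t ^ j * w := by
      intro j
      induction j with
      | zero => exact fun z => ⟨0, z, by simp⟩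
      | succ j ih =>
        intro z
        obtain ⟨p, w, rfl⟩ := ih z
        obtain ⟨c, w', rfl⟩ := hdec w
        exact ⟨p + Polynomial.C c * Polynomial.X ^ j, w', by simp [f, pow_succ]; ring⟩
    have ht : t ^ N = 0 := by
      have htm : t ∈ IsLocalRing.maximalIdeal B := fun hu => by
        have hh : h ∈ m := hmh ▸ Ideal.subset_span (by simp)
        have := IsLocalHom.of_surjective (Ideal.Quotient.mk I) Ideal.Quotient.mk_surjective
        exact hh (isUnit_of_map_unit (Ideal.Quotient.mk I) h hu)
      have := Ideal.pow_mem_pow htm N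
      rwa [hN, Submodule.zero_eq_bot, Submodule.mem_bot] at this
    intro z
    obtain ⟨p, w, rfl⟩ := hj N z
    exact ⟨p, by rw [ht, zero_mul, add_zero]⟩
  obtain ⟨N', hN'⟩ : ∃ N', Polynomial.X ^ N' ∈ RingHom.ker f.toRingHom := by
    obtain ⟨w, hw⟩ : ∃ N', t ^ N' = 0 := by
      refine ⟨N, ?_⟩
      have htm : t ∈ IsLocalRing.maximalIdeal B := fun hu => by
        have hh : h ∈ m := hmh ▸ Ideal.subset_span (by simp)
        have := IsLocalHom.of_surjective (Ideal.Quotient.mk I) Ideal.Quotient.mk_surjective
        exact hh (isUnit_of_map_unit (Ideal.Quotient.mk I) h hu)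
      have := Ideal.pow_mem_pow htm N
      rwa [hN, Submodule.zero_eq_bot, Submodule.mem_bot] at this
    exact ⟨w, by simp [RingHom.mem_ker, f, hw]⟩
  obtain ⟨q, hq⟩ := (IsPrincipalIdealRing.principal (RingHom.ker f.toRingHom)).principal
  rw [Ideal.submodule_span_eq] at hq
  obtain ⟨i, -, hi⟩ := (dvd_prime_pow Polynomial.prime_X N').1 (Ideal.mem_span_singleton.1 (hq ▸ hN'))
  have hkerX : RingHom.ker f.toRingHom = Ideal.span {(Polynomial.X : Polynomial k) ^ i} := by
    rw [hq]; exact Ideal.span_singleton_eq_span_singleton.2 hi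
  have e := ((Ideal.quotientEquivAlgOfEq k hkerX).symm.trans (Ideal.quotientKerAlgEquivOfSurjective hsurj)).symm
  have hin : i = n := by
    have h2 := e.toLinearEquiv.finrank_eq
    rw [hn, finrank_quotient_span_eq_natDegree, Polynomial.natDegree_X_pow] at h2
    exact h2.symm
  exact ⟨hin ▸ e⟩

end Groth.Agent.S19453
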