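import Groth.Statements.S19454
import Groth.Agent.Lib.RightAdj20.TorsFreePull
import Groth.Agent.Lib.ArSurf29.Codim1
import Groth.Agent.S1689

set_option autoImplicit false
set_option maxHeartbeats 1000000
set_option linter.style.haveILetI false
set_option backward.isDefEq.respectTransparency false
universe u
open CategoryTheory CategoryTheory.Limits AlgebraicGeometry
open Resolve

namespace Groth.Agent.S19454

/-- Let (A, m) be a complete normal Noetherian local domain of dimension two with a rational singularity
(every proper birational modification X → Spec A with X integral and normal has H^1(X, O_X) = 0), f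
: X' → Spec A a resolution of singularities (proper, X' integral with regular local rings, an
isomorphism over a nonempty open subset), L a coherent reflexive module on Spec A, and M the strict
transform of L: a coherent torsion-free module on X' with an epimorphism q : f^*L → M injective on
stalks at the generic point. Then M is finite locally free and generated by global sections, and
moreover H^1(X', M) = 0 (the vanishing of the first higher direct image of M, proved alongside).
(The published statement takes the resolution to be the minimal one; its proof does not use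
minimality, and any resolution is allowed here.) -/
theorem result (A : Type u) [CommRing A]
    [IsDomain A] [IsLocalRing A] [IsNoetherianRing A] [IsIntegrallyClosed A]
    [IsAdicComplete (IsLocalRing.maximalIdeal A) A] (hdim : ringKrullDim A = 2) (hA : Curv2.IsRationalSing A)
    (X' : Scheme.{u}) (f : X' ⟶ Spec (CommRingCat.of A)) [IsProper f] [IsIntegral X']
    (hreg : ∀ x : X', IsRegularLocalRing (X'.presheaf.stalk x))
    (hbir : ∃ U : (Spec (CommRingCat.of A)).Opens, (U : Set (Spec (CommRingCat.of A))).Nonempty ∧ IsIso (f ∣_ U))
    (L : (Spec (CommRingCat.of A)).Modules) (hLc : Coh.IsCoh L) (hLr : RefHull.IsReflexive L)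
    (M : X'.Modules) (hMc : Coh.IsCoh M) (hMt : TorSh.IsTorsionFree M)
    (q : (Scheme.Modules.pullback f).obj L ⟶ M) [Epi q]
    (hq : Function.Injective (RefHull.stalkMapₗ q (genericPoint X'))) :
    FlatMod.IsFinLocFree M ∧ Curv2.IsGloballyGenerated M ∧ Subsingleton (Coh.HH X' M 1) := by
  have hXn : Pi1.IsNormalScheme X' := GrothLib.ArSurf29.isNormalScheme_of_regular (fun x => hreg x)
  obtain ⟨h1, h2, h3⟩ := GrothLib.RightAdj20.TorsFree.main hdim hA X' f hXn hbir L hLc hLr M hMc hMt q hq
  haveI : IsLocallyNoetherian X' := LocallyOfFiniteType.isLocallyNoetherian f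
  obtain ⟨U₀, hU₀, hU₀i⟩ := hbir
  have hd := GrothLib.RatSing29.dim_le_of_birational f U₀ hU₀ hU₀i (d := 2)
    ((PrimeSpectrum.topologicalKrullDim_eq_ringKrullDim A).trans hdim).le
  exact ⟨(Groth.Agent.S1689.result X' hreg hd M hMc).1
    ((GrothLib.HomSh.isReflexive_iff (GrothLib.HomSh.hasRel_of_isCoh hMc)).1 h1), h2, h3⟩

end Groth.Agent.S19454
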