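import Groth.Statements.S19457
import Groth.Agent.Lib.Hyperplane.ZeroScheme
import Groth.Agent.Lib.Euler.InvHom
import Groth.Agent.Lib.BlowUp.EffCartier

set_option autoImplicit false
set_option backward.isDefEq.respectTransparency false
universe u
open CategoryTheory CategoryTheory.Limits AlgebraicGeometry TopologicalSpace Opposite
open PicF2

namespace Groth.Agent.S19457

open CategoryTheory CategoryTheory.Limits AlgebraicGeometry TopologicalSpace Opposite

theorem zeroScheme_ideal' {X : Scheme.{u}} {L : X.Modules} (hL : PicF.IsInvertible L)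
    (s : Coh.structureModule X ⟶ L) [Mono s] (U : X.affineOpens) :
    (PicF2.zeroScheme L s).ideal U = (show Ideal Γ(X, U) from PicF2.zeroIdealOn L s U.1) := by
  have hO : Coh.IsCoh (Coh.structureModule X) :=
    GrothLib.Euler.isCoh_of_isInvertible GrothLib.Euler.isInvertible_structure
  have hQ : Coh.IsCoh (cokernel s) := GrothLib.QCoh.isCoh_cokernel s hO (GrothLib.Euler.isCoh_of_isInvertible hL)
  haveI := hQ.1
  let S : ShortComplex X.Modules := ShortComplex.mk s (cokernel.π s) (cokernel.condition s)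
  have hS : S.ShortExact := by
    haveI : Mono S.f := ‹Mono s›
    exact { exact := ShortComplex.exact_of_g_is_cokernel _ (cokernelIsCokernel s) }
  haveI : S.X₁.IsQuasicoherent := hO.1
  have hideal : (fun U : X.affineOpens => show Ideal Γ(X, U) from PicF2.zeroIdealOn L s U.1) =
      (GrothLib.QCoh.annIdeal (cokernel s) hQ.2).ideal := by
    funext U
    ext a
    rw [GrothLib.QCoh.annIdeal_ideal, Module.mem_annihilator]
    constructor
    · intro h q
      obtain ⟨m, rfl⟩ := GrothLib.QCoh.app_surjective_of_isAffineOpen hS U.2 q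
      obtain ⟨b, hb⟩ := h m
      refine (GrothLib.Ample.app_smul (cokernel.π s) a m).symm.trans ?_
      refine (congrArg ((cokernel.π s).app U.1) (hb.trans (GrothLib.Hyperplane.app_eq_smul_secVal L s U.1 b).symm)).trans ?_
      rw [← ConcreteCategory.comp_apply, ← Scheme.Modules.Hom.comp_app, cokernel.condition]
      rfl
    · intro h m
      obtain ⟨b, hb⟩ := GrothLib.Cohom.sections_exact (GrothLib.QCoh.toAbFun_map_shortExact S hS) U.1
        ((show Γ(X, U.1) from a) • (show Γ(L, U.1) from m))
        ((GrothLib.Ample.app_smul (cokernel.π s) a m).trans (h _))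
      exact ⟨b, hb.symm.trans (GrothLib.Hyperplane.app_eq_smul_secVal L s U.1 b)⟩
  rw [PicF2.zeroScheme, hideal, Scheme.IdealSheafData.ofIdeals_ideal]
  exact (congrFun hideal U).symm

/-- Let X be an integral scheme, L an invertible O_X-module and s, s' two nonzero global sections of L,
given as nonzero morphisms O_X → L. Then the zero schemes Z(s') and Z(s) are equal (as
quasi-coherent ideal sheaves of O_X, that is, as effective Cartier divisors) if and only if s' = h ·
s for some unit h of the ring of global functions Γ(X, O_X). (The published statement is for an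
irreducible variety over an algebraically closed field; this row states it for an arbitrary integral
scheme.) -/
theorem result (X : Scheme.{u}) [AlgebraicGeometry.IsIntegral X]
    (L : X.Modules) (hL : PicF.IsInvertible L) (s s' : Coh.structureModule X ⟶ L) (hs : s ≠ 0) (hs' : s' ≠ 0) :
    PicF2.zeroScheme L s' = PicF2.zeroScheme L s ↔
      ∃ h : Γ(X, ⊤), IsUnit h ∧ (SecTwist.val s' ⊤ : Γ(L, ⊤)) = h • (SecTwist.val s ⊤ : Γ(L, ⊤)) := by
  haveI : Mono s := GrothLib.Euler.mono_of_ne_zero GrothLib.Euler.isInvertible_structure hL hs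
  haveI : Mono s' := GrothLib.Euler.mono_of_ne_zero GrothLib.Euler.isInvertible_structure hL hs'
  have hsec : ∀ (t : Coh.structureModule X ⟶ L) (W : X.Opens), (show Γ(L, W) from PicF2.secVal L t W) =
      GrothLib.InvExt.mres L (le_top : W ≤ ⊤) (show Γ(L, ⊤) from PicF2.secVal L t ⊤) :=
    GrothLib.Hyperplane.secVal_eq_mres L
  constructor
  · intro heq
    have hloc : ∀ x : X, ∃ (W : X.Opens) (b : Γ(X, W)), x ∈ W ∧ IsUnit b ∧
        (show Γ(L, W) from PicF2.secVal L s' W) = b • (show Γ(L, W) from PicF2.secVal L s W) := by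
      intro x
      obtain ⟨V, e, hxV, he⟩ := GrothLib.InvExt.exists_gen_nhd hL x
      obtain ⟨W, hxW, hWV⟩ := GrothLib.BlowUp.exists_affine_mem_le hxV
      obtain ⟨f, hf⟩ := he.exists_smul_eq hWV (show Γ(L, W.1) from PicF2.secVal L s W.1)
      obtain ⟨f', hf'⟩ := he.exists_smul_eq hWV (show Γ(L, W.1) from PicF2.secVal L s' W.1)
      have hz : (show Ideal Γ(X, W) from PicF2.zeroIdealOn L s' W.1) = (show Ideal Γ(X, W) from PicF2.zeroIdealOn L s W.1) := by
        rw [← zeroScheme_ideal' hL s', ← zeroScheme_ideal' hL s, heq]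
      have key : ∀ (t : Coh.structureModule X ⟶ L) (g : Γ(X, W.1)),
          (show Γ(L, W.1) from PicF2.secVal L t W.1) = g • GrothLib.InvExt.mres L hWV e →
          g ∈ (show Ideal Γ(X, W) from PicF2.zeroIdealOn L t W.1) := by
        intro t g hg m
        obtain ⟨c, hc⟩ := he.exists_smul_eq hWV (show Γ(L, W.1) from m)
        refine ⟨c, ?_⟩
        show g • (show Γ(L, W.1) from m) = c • (show Γ(L, W.1) from PicF2.secVal L t W.1)
        rw [hc, hg, smul_smul, smul_smul, mul_comm]
      have h1 : f ∈ (show Ideal Γ(X, W) from PicF2.zeroIdealOn L s' W.1) := hz ▸ key s f hf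
      have h2 : f' ∈ (show Ideal Γ(X, W) from PicF2.zeroIdealOn L s W.1) := hz ▸ key s' f' hf'
      obtain ⟨b, hb⟩ := h1 (show L.val.obj (op W.1) from GrothLib.InvExt.mres L hWV e)
      obtain ⟨b', hb'⟩ := h2 (show L.val.obj (op W.1) from GrothLib.InvExt.mres L hWV e)
      let b : Γ(X, W.1) := b
      change f • GrothLib.InvExt.mres L hWV e = b • (show Γ(L, W.1) from PicF2.secVal L s' W.1) at hb
      let b' : Γ(X, W.1) := b'
      change f' • GrothLib.InvExt.mres L hWV e = b' • (show Γ(L, W.1) from PicF2.secVal L s W.1) at hb'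
      rw [← hf] at hb
      rw [← hf'] at hb'
      refine ⟨W.1, b', hxW, ?_, hb'⟩
      haveI : Nonempty W.1 := ⟨⟨x, hxW⟩⟩
      haveI : IsDomain Γ(X, W.1) := inferInstance
      refine IsUnit.of_mul_eq_one b ?_
      have h3 : s.app W.1 (b' * b) = s.app W.1 (1 : Γ(X, W.1)) := by
        rw [GrothLib.Hyperplane.app_eq_smul_secVal, GrothLib.Hyperplane.app_eq_smul_secVal, one_smul, mul_comm,
          ← smul_smul, ← hb', ← hb]
      exact GrothLib.Cohom.app_injective_of_mono s W.1 h3
    choose W b hxW hbu hb using hloc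
    have hcompat : TopCat.Presheaf.IsCompatible X.presheaf W b := fun x y => by
      refine GrothLib.Cohom.app_injective_of_mono s _ ?_
      show s.app (W x ⊓ W y) (GrothLib.Ample.res inf_le_left (b x)) = s.app (W x ⊓ W y) (GrothLib.Ample.res inf_le_right (b y))
      rw [GrothLib.Hyperplane.app_eq_smul_secVal, GrothLib.Hyperplane.app_eq_smul_secVal]
      have hx := congrArg (GrothLib.InvExt.mres L (inf_le_left : W x ⊓ W y ≤ W x)) (hb x)
      have hy := congrArg (GrothLib.InvExt.mres L (inf_le_right : W x ⊓ W y ≤ W y)) (hb y)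
      rw [GrothLib.Ample.mres_smul', hsec s' (W x), hsec s (W x), GrothLib.InvExt.mres_mres,
        GrothLib.InvExt.mres_mres, ← hsec s', ← hsec s] at hx
      rw [GrothLib.Ample.mres_smul', hsec s' (W y), hsec s (W y), GrothLib.InvExt.mres_mres,
        GrothLib.InvExt.mres_mres, ← hsec s', ← hsec s] at hy
      exact hx.symm.trans hy
    obtain ⟨(g : Γ(X, ⊤)), hg, -⟩ := X.sheaf.existsUnique_gluing' W ⊤ (fun x => homOfLE le_top)
      (fun x _ => Opens.mem_iSup.2 ⟨x, hxW x⟩) b hcompat
    refine ⟨g, ?_, ?_⟩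
    · refine X.toRingedSpace.isUnit_of_isUnit_germ ⊤ g fun x _ => ?_
      have h1 := (hbu x).map (X.presheaf.germ (W x) x (hxW x)).hom
      rw [← hg x] at h1
      change IsUnit (X.presheaf.germ (W x) x (hxW x) (X.presheaf.map (homOfLE le_top).op g)) at h1
      rwa [TopCat.Presheaf.germ_res_apply] at h1
    · show (show Γ(L, ⊤) from PicF2.secVal L s' ⊤) = g • (show Γ(L, ⊤) from PicF2.secVal L s ⊤)
      refine GrothLib.Ample.meq_of_cover L W (fun x => le_top) (fun x _ => Opens.mem_iSup.2 ⟨x, hxW x⟩) fun x => ?_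
      rw [GrothLib.Ample.mres_smul', ← hsec s', ← hsec s, hb x, ← hg x]
      rfl
  · rintro ⟨g, hg, hgs⟩
    obtain ⟨g', hg'⟩ := hg.exists_left_inv
    change (show Γ(L, ⊤) from PicF2.secVal L s' ⊤) = g • (show Γ(L, ⊤) from PicF2.secVal L s ⊤) at hgs
    have hW : ∀ U : X.Opens, (show Γ(L, U) from PicF2.secVal L s' U) =
        GrothLib.Ample.res (le_top : U ≤ ⊤) g • (show Γ(L, U) from PicF2.secVal L s U) := fun U => by
      rw [hsec s' U, hgs, GrothLib.Ample.mres_smul', ← hsec s]
    refine congrArg Scheme.IdealSheafData.ofIdeals (funext fun U => ?_)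
    show (show Ideal Γ(X, U) from PicF2.zeroIdealOn L s' U.1) = (show Ideal Γ(X, U) from PicF2.zeroIdealOn L s U.1)
    ext a
    constructor
    · intro h m
      obtain ⟨b, hb⟩ := h m
      change (show Γ(X, U.1) from a) • (show Γ(L, U.1) from m) = (show Γ(X, U.1) from b) • (show Γ(L, U.1) from PicF2.secVal L s' U.1) at hb
      refine ⟨((show Γ(X, U.1) from b) * GrothLib.Ample.res le_top g : Γ(X, U.1)), ?_⟩
      show (show Γ(X, U.1) from a) • (show Γ(L, U.1) from m) = ((show Γ(X, U.1) from b) * GrothLib.Ample.res le_top g : Γ(X, U.1)) • (show Γ(L, U.1) from PicF2.secVal L s U.1)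
      rw [← smul_smul, ← hW]
      exact hb
    · intro h m
      obtain ⟨b, hb⟩ := h m
      change (show Γ(X, U.1) from a) • (show Γ(L, U.1) from m) = (show Γ(X, U.1) from b) • (show Γ(L, U.1) from PicF2.secVal L s U.1) at hb
      refine ⟨((show Γ(X, U.1) from b) * GrothLib.Ample.res le_top g' : Γ(X, U.1)), ?_⟩
      show (show Γ(X, U.1) from a) • (show Γ(L, U.1) from m) = ((show Γ(X, U.1) from b) * GrothLib.Ample.res le_top g' : Γ(X, U.1)) • (show Γ(L, U.1) from PicF2.secVal L s' U.1)
      rw [hW, smul_smul, mul_assoc, ← map_mul, hg', map_one, mul_one]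
      exact hb

end Groth.Agent.S19457
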