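import Groth.Statements.S19458
import Groth.Agent.Lib.Mero.ZeroDiv

set_option autoImplicit false
universe u
open CategoryTheory CategoryTheory.Limits AlgebraicGeometry TopologicalSpace Opposite
open Mero

namespace Groth.Agent.S19458

/-- Let X be an integral scheme, L an invertible O_X-module and D an effective Cartier divisor on X (a
global section of the sheaf of units of K_X modulo units of O_X whose germ at every point is the
class of a germ of a regular function) such that O_X(D) is isomorphic to L. Then there is a nonzero
global section s of L, given as a nonzero morphism O_X → L, whose zero scheme Z(s) is D: around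
every point of X, on some affine open neighbourhood, the ideal of Z(s) is generated by a regular
function whose classes are the germs of D there. (The published statement is for an irreducible
variety over an algebraically closed field; this row states it for an arbitrary integral scheme.) -/
theorem result (X : Scheme.{u}) [AlgebraicGeometry.IsIntegral X]
    (L : X.Modules) (hL : PicF.IsInvertible L) (D : Mero.Divisor X) (hD : Mero.IsEffective D)
    (e : L ≅ Mero.divMod D) :
    ∃ s : Coh.structureModule X ⟶ L, s ≠ 0 ∧ Mero.IsDivOfIdeal D (PicF2.zeroScheme L s) := by
  obtain ⟨s, hreg, hdiv⟩ := GrothLib.Mero.Zero.exists_section_of_effective hL hD e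
  refine ⟨s, fun h0 => ?_, hdiv⟩
  obtain ⟨x⟩ := (inferInstance : Nonempty X)
  obtain ⟨V, eL, c, hxV, he, hc, hs⟩ := hreg x
  subst h0
  have h1 : c • eL = 0 := hs.symm
  have h2 := congrArg (L.presheaf.germ V x hxV) h1
  rw [Mero.germ_smul, map_zero] at h2
  exact one_ne_zero (mem_nonZeroDivisors_iff_left.mp (hc ⟨x, hxV⟩) 1 (by
    rw [GrothLib.Mero.gen_smul_eq_zero he hxV h2, zero_mul]))

end Groth.Agent.S19458
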