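import Groth.Statements.S19462
import Groth.Agent.Lib.GrNakayama.Free
-- import your own Groth.Agent.* helpers here

set_option autoImplicit false
universe u
open GrNak

namespace Groth.Agent.S19462

/-- Let k be a field and R a commutative ℤ-graded k-algebra whose pieces of negative degree vanish and
whose degree-zero piece is the image of k, and let M be a finitely generated ℤ-graded R-module,
graded compatibly with R. Then M is a projective R-module if and only if M has an R-basis consisting
of homogeneous elements, i.e. M is a free graded module. (The published statement takes R a graded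
quotient of a polynomial ring k[x_0, …, x_n] with its standard grading; stated here for any
commutative graded k-algebra concentrated in non-negative degrees with degree-zero part k, to which
the same graded-Nakayama argument applies.) -/
theorem result {k : Type u} [Field k] {R : Type u} [CommRing R] [Algebra k R]
    {σ : Type u} [SetLike σ R] [AddSubmonoidClass σ R] (𝒜 : ℤ → σ) [GradedRing 𝒜]
    (hneg : ∀ i : ℤ, i < 0 → ∀ x ∈ 𝒜 i, x = 0)
    (hk : ∀ c : k, algebraMap k R c ∈ 𝒜 0) (h0 : ∀ x ∈ 𝒜 0, ∃ c : k, algebraMap k R c = x)
    {M : Type u} [AddCommGroup M] [Module R M] [Module.Finite R M]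
    {τ : Type u} [SetLike τ M] [AddSubmonoidClass τ M] (ℳ : ℤ → τ) [DirectSum.Decomposition ℳ]
    [SetLike.GradedSMul 𝒜 ℳ] :
    Module.Projective R M ↔
      ∃ (ι : Type u) (b : Module.Basis ι R M), ∀ i : ι, SetLike.IsHomogeneousElem ℳ (b i) := by
  constructor
  · intro hP
    obtain ⟨n, b, hb⟩ := GrothLib.GrNakayama.exists_homogeneous_basis 𝒜 ℳ hneg (fun x hx hne => by
      obtain ⟨c, rfl⟩ := h0 x hx
      exact (IsUnit.mk0 c (fun e => hne (by rw [e, map_zero]))).map (algebraMap k R))
    exact ⟨ULift (Fin n), b.reindex Equiv.ulift.symm, fun i => by
      rw [Module.Basis.reindex_apply]; exact hb _⟩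
  · rintro ⟨ι, b, -⟩
    exact Module.Projective.of_basis b

end Groth.Agent.S19462
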