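import Groth.Statements.S19464
import Groth.Agent.Lib.ArSurf29.FactorBlowUpIso
import Groth.Agent.Lib.GrpSchField.SmoothRegular

set_option autoImplicit false
universe u
open CategoryTheory CategoryTheory.Limits AlgebraicGeometry
open Surf

namespace Groth.Agent.S19464

/-- Let k be an algebraically closed field, X and Y smooth surfaces over k (integral, separated, of
finite type and smooth over k, of dimension two), f : X → Y a proper k-morphism which is an
isomorphism over some nonempty open subset of Y (birational), and y a closed point of Y over no open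
neighbourhood of which f is an isomorphism (y is not in the domain of the inverse rational map).
Then f factors through the blow-up of Y at y: for every π : Y' → Y having the universal property of
the blowing up of Y in the ideal of the reduced closed point y, there is g : X → Y' with g ≫ π = f. -/
theorem result (k : Type u) [Field k] [IsAlgClosed k]
    (X Y : Scheme.{u}) [X.Over (Spec (CommRingCat.of k))] [Y.Over (Spec (CommRingCat.of k))]
    [IsIntegral X] [IsSeparated (X ↘ (Spec (CommRingCat.of k)))] [LocallyOfFiniteType (X ↘ (Spec (CommRingCat.of k)))]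
    [QuasiCompact (X ↘ (Spec (CommRingCat.of k)))] [Smooth (X ↘ (Spec (CommRingCat.of k)))] (hdimX : topologicalKrullDim X = 2)
    [IsIntegral Y] [IsSeparated (Y ↘ (Spec (CommRingCat.of k)))] [LocallyOfFiniteType (Y ↘ (Spec (CommRingCat.of k)))]
    [QuasiCompact (Y ↘ (Spec (CommRingCat.of k)))] [Smooth (Y ↘ (Spec (CommRingCat.of k)))] (hdimY : topologicalKrullDim Y = 2)
    (f : X ⟶ Y) (hf : f ≫ (Y ↘ (Spec (CommRingCat.of k))) = X ↘ (Spec (CommRingCat.of k))) [IsProper f]
    (hbir : ∃ U : Y.Opens, (U : Set Y).Nonempty ∧ IsIso (f ∣_ U))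
    (y : Y) (hy : IsClosed ({y} : Set Y)) (hP : ∀ V : Y.Opens, y ∈ V → ¬ IsIso (f ∣_ V))
    (Y' : Scheme.{u}) (π : Y' ⟶ Y) (hπ : BlowUp.IsBlowUp π (Scheme.IdealSheafData.vanishingIdeal ⟨{y}, hy⟩)) :
    ∃ g : X ⟶ Y', g ≫ π = f := by
  haveI : IsLocallyNoetherian X := LocallyOfFiniteType.isLocallyNoetherian (X ↘ Spec (CommRingCat.of k))
  haveI : IsLocallyNoetherian Y := LocallyOfFiniteType.isLocallyNoetherian (Y ↘ Spec (CommRingCat.of k))
  haveI : CompactSpace X := QuasiCompact.compactSpace_of_compactSpace (X ↘ Spec (CommRingCat.of k))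
  have hX : ∀ x : X, IsRegularLocalRing (X.presheaf.stalk x) := fun x =>
    GrothLib.WeilExt.isRegularLocalRing_stalk_of_smooth (X ↘ Spec (CommRingCat.of k)) (GrothLib.WeilExt.isRegularLocalRing_stalk_spec k) x
  have hY : ∀ z : Y, IsRegularLocalRing (Y.presheaf.stalk z) := fun z =>
    GrothLib.WeilExt.isRegularLocalRing_stalk_of_smooth (Y ↘ Spec (CommRingCat.of k)) (GrothLib.WeilExt.isRegularLocalRing_stalk_spec k) z
  obtain ⟨U, hU, hUiso⟩ := hbir
  haveI := hUiso
  have hηU : genericPoint Y ∈ U := by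
    obtain ⟨u, hu⟩ := hU
    exact (genericPoint_specializes u).mem_open U.2 hu
  haveI : IsOpenImmersion ((f ⁻¹ᵁ U).ι ≫ f) := by rw [← morphismRestrict_ι]; infer_instance
  obtain ⟨e, hb⟩ := GrothLib.Birat.birational_of_openImmersion f
    ⟨f ⁻¹ᵁ U, ⟨_, ((f ∣_ U).homeomorph.symm ⟨_, hηU⟩).2⟩, ‹_›⟩
  haveI := hY y
  have hy0 : IsLocalRing.maximalIdeal (Y.presheaf.stalk y) ≠ ⊥ := by
    intro h0
    have hsub : Subsingleton (Spec (Y.presheaf.stalk y)) := ⟨fun p q => PrimeSpectrum.ext (by
      rw [eq_bot_iff.2 (h0 ▸ IsLocalRing.le_maximalIdeal p.isPrime.ne_top : p.asIdeal ≤ ⊥),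
        eq_bot_iff.2 (h0 ▸ IsLocalRing.le_maximalIdeal q.isPrime.ne_top : q.asIdeal ≤ ⊥)])⟩
    have hyη : y = genericPoint Y := by
      obtain ⟨p, hp⟩ : genericPoint Y ∈ Set.range (Y.fromSpecStalk y) := by
        rw [Scheme.range_fromSpecStalk]; exact genericPoint_specializes y
      rw [← hp, Subsingleton.elim p (IsLocalRing.closedPoint _), Scheme.fromSpecStalk_closedPoint]
    exact hP U (hyη ▸ hηU) hUiso
  have hbig : ∃ x x' : X, x ≠ x' ∧ f x = y ∧ f x' = y := by
    by_contra hc
    push Not at hc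
    obtain ⟨x, hx⟩ : y ∈ Set.range f := f.isClosedMap.isClosed_range.closure_subset_iff.2
      (Set.singleton_subset_iff.2 ⟨_, e⟩) (specializes_iff_mem_closure.1 (genericPoint_specializes y))
    subst hx
    have hq : f.QuasiFiniteAt x := by
      refine Scheme.Hom.quasiFiniteAt_iff_isOpen_singleton_asFiber.2 ?_
      haveI : Subsingleton ↥(f.fiber (f x)) := ⟨fun a b => (f.fiberι _).isEmbedding.injective (by
        have h1 : ∀ c, f.fiberι (f x) c = x := fun c => by
          by_contra hne
          exact hc _ x hne ((f.range_fiberι _).le ⟨c, rfl⟩) rfl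
        rw [h1 a, h1 b])⟩
      exact isOpen_discrete _
    haveI := GrothLib.RegLoc.isIntegrallyClosed_of_isRegularLocalRing (Y.presheaf.stalk (f x))
    obtain ⟨D, hD, hDiso⟩ := GrothLib.Birat.exists_isIso_morphismRestrict f e hb x hq
    exact hP D hD hDiso
  obtain ⟨g, hg, -⟩ := hπ.2 X f (GrothLib.ArSurf29.isEffCartier_comap_point f e hb hX hdimX.le hy
    ((GrothLib.Ref1.ringKrullDim_stalk_le_topologicalKrullDim y).trans hdimY.le) hy0 hbig)
  exact ⟨g, hg⟩

end Groth.Agent.S19464
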