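import Groth.Statements.S19465
import Groth.Agent.Lib.GrpdQuot.FiberMono
-- import your own Groth.Agent.* helpers here

set_option autoImplicit false
universe u
open CategoryTheory CategoryTheory.Limits MonoidalCategory CartesianMonoidalCategory MonObj GrpObj AlgebraicGeometry
open AlgGrp

namespace Groth.Agent.S19465

/-- Let S be a scheme and G an S-group scheme whose structure morphism G → S is locally of finite type.
Then G → S is an isomorphism (G is the trivial group scheme over S) if and only if every fibre G_s →
Spec κ(s), s ∈ S, is an isomorphism. -/
theorem result (S : Scheme.{u}) (G : Over S)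
    [GrpObj G] [LocallyOfFiniteType G.hom] :
    IsIso G.hom ↔ ∀ s : S, IsIso (G.hom.fiberToSpecResidueField s) := by
  refine ⟨fun h s => ?_, fun h => ?_⟩
  · haveI := h
    exact inferInstanceAs (IsIso (Limits.pullback.snd G.hom (S.fromSpecResidueField s)))
  · exact GrothLib.GrpdQuot.isIso_of_fiber_isIso_of_section G.hom h (MonObj.one (X := G)).left
      (Over.w (MonObj.one (X := G)))

end Groth.Agent.S19465
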