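import Groth.Statements.S19466
import Groth.Agent.Lib.BCCrit.Degree0

set_option autoImplicit false
universe u
open Coherent

namespace Groth.Agent.S19466

open AlgebraicGeometry CategoryTheory CategoryTheory.Limits in
/-- Let f : X → S be proper and of finite presentation, F an O_X-module of finite presentation which is
flat over S, and s a point of S such that the degree-0 base change map of the fibre square at s,
from the pullback of f_* F to Spec κ(s) to the direct image of the restriction of F to the fibre X_s
(on global sections: f_* F ⊗ κ(s) → H^0(X_s, F_s)), is an epimorphism. Then there is an open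
neighbourhood U of s such that f_* F restricted to U is finite locally free and, for every cartesian
square on a morphism g : T → S whose image lies in U, with projections f' : X' → T and g' : X' → X,
the base change map g^* f_* F → f'_* g'^* F is an isomorphism. (In degree 0 the surjectivity
condition on the comparison map one degree lower is empty, so both conclusions of the published
statement hold; the statement for higher degrees is not part of this row.) -/
theorem result {X S : Scheme.{u}} (f : X ⟶ S)
    [IsProper f] [LocallyOfFinitePresentation f]
    (F : X.Modules) (hF : CohB1.IsFP F) (hfl : FlatMod.IsFlatOver f F) (s : S)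
    (hs : Epi (CohBC.bc0 f (S.fromSpecResidueField s) (f.fiberToSpecResidueField s) (f.fiberι s)
      (f.fiber_fac s) F)) :
    ∃ U : S.Opens, s ∈ U ∧ FlatMod.IsFinLocFree (((Coh.push f).obj F).restrict U.ι) ∧
      ∀ (T X' : Scheme.{u}) (g : T ⟶ S) (f' : X' ⟶ T) (g' : X' ⟶ X) (hsq : IsPullback g' f' f g),
        Set.range g.base ⊆ (U : Set S) → IsIso (CohBC.bc0 f g f' g' hsq.w F) := by
  haveI : SheafOfModules.IsFinitePresentation (R := X.ringCatSheaf) F := hF
  haveI : Coh.IsQCoh F := inferInstance
  obtain ⟨U, hyU, hU⟩ := GrothLib.BCCrit.exists_goodAll0_near hF hfl s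
    ((GrothLib.BCCrit.goodAll_iff_epi0 hF hfl s).2 hs)
  exact ⟨U, hyU, GrothLib.BCCrit.isFinLocFree_push_of_goodAll hF hfl U hU,
    fun T X' g f' g' hsq hz => GrothLib.BCCrit.isIso_bc0_of_goodAll hF hfl U hU hsq fun z => hz ⟨z, rfl⟩⟩

end Groth.Agent.S19466
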