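import Groth.Statements.S19468
import Groth.Agent.Lib.AntiAffFF5.Finite
-- import your own Groth.Agent.* helpers here

set_option autoImplicit false
universe u
open CategoryTheory MonoidalCategory CartesianMonoidalCategory MonObj GrpObj AlgebraicGeometry CategoryTheory.Limits
open AlgGrp

namespace Groth.Agent.S19468

/-- Let k be a finite field and G a smooth connected k-group scheme of finite type. Then there are a
closed normal subgroup scheme l : L → G with L smooth, connected and affine, and a closed subgroup
scheme a : A → G with A an abelian variety (proper, smooth and connected over k), such that G = L ·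
A, in the sense that the multiplication L × A → G is surjective, and L ∩ A (the fibre product of l
and a) is finite over k. (The published statement also asserts that such a decomposition is unique;
that part is not included here.) -/
theorem result (k : Type u) [Field k] [Finite k]
    (G : Over (Spec (CommRingCat.of k))) [GrpObj G] [Smooth G.hom] [QuasiCompact G.hom]
    [ConnectedSpace ↥G.left] :
    ∃ (L : Over (Spec (CommRingCat.of k))) (_ : GrpObj L) (l : L ⟶ G) (A : Over (Spec (CommRingCat.of k)))
      (_ : GrpObj A) (a : A ⟶ G),
      IsMonHom l ∧ IsClosedImmersion l.left ∧ AlgGrp.IsNormalHom l ∧ Smooth L.hom ∧ ConnectedSpace ↥L.left ∧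
        IsAffine L.left ∧
      IsMonHom a ∧ IsClosedImmersion a.left ∧ IsProper A.hom ∧ Smooth A.hom ∧ ConnectedSpace ↥A.left ∧
      Surjective ((l ⊗ₘ a) ≫ μ[G]).left ∧ IsFinite (pullback.fst l.left a.left ≫ L.hom) := by
  let f : Spec (CommRingCat.of (AlgebraicClosure k)) ⟶ Spec (CommRingCat.of k) :=
    Spec.map (CommRingCat.ofHom (algebraMap k (AlgebraicClosure k)))
  haveI : IsIntegralHom f := by
    rw [IsIntegralHom.SpecMap_iff]; exact algebraMap_isIntegral_iff.2 inferInstance
  obtain ⟨L, _, l, Q, _, q, hl, hlc, hLa, hLs, hLn, hLnorm, hq, hqs, hqf, hker, hQp, hQsm, hQc⟩ :=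
    GrothLib.Chev24.exists_chevalley f G
  obtain ⟨A, _, a, ha, hac, hAs, hAc, hAp, hsur⟩ := GrothLib.AntiAffFF5.exists_abelian_mul l q hker
  refine ⟨L, inferInstance, l, A, inferInstance, a, hl, hlc, hLnorm, hLs, hLn, hLa, ha, hac, hAp, hAs, hAc, hsur, ?_⟩
  haveI : IsClosedImmersion (Limits.pullback.fst l.left a.left) :=
    MorphismProperty.pullback_fst _ _ ‹IsClosedImmersion a.left›
  haveI : IsClosedImmersion (Limits.pullback.snd l.left a.left) :=
    MorphismProperty.pullback_snd _ _ ‹IsClosedImmersion l.left›
  let P : Over (Spec (CommRingCat.of k)) := Over.mk (Limits.pullback.fst l.left a.left ≫ L.hom)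
  haveI : IsAffineHom L.hom := isAffineHom_of_isAffine _
  haveI : IsProper (Limits.pullback.fst l.left a.left ≫ L.hom) := by
    rw [← Over.w l, ← Category.assoc, Limits.pullback.condition, Category.assoc, Over.w a]
    infer_instance
  exact IsFinite.iff_isProper_and_isAffineHom.2 ⟨inferInstance, inferInstance⟩

end Groth.Agent.S19468
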