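import Groth.Statements.S19469
import Groth.Agent.Lib.SmCurveFam.Push

set_option autoImplicit false
universe u
open Curves

namespace Groth.Agent.S19469

set_option backward.isDefEq.respectTransparency false


open AlgebraicGeometry CategoryTheory CategoryTheory.Limits in
/-- Let f : C → S be a proper smooth morphism of schemes whose fibres are geometrically connected, of
dimension one and of genus g ≥ 2 (g the dimension of H¹ of the structure sheaf of each fibre over
its residue field) — a family of smooth curves of genus g — and let n ≥ 2 be an integer. Then the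
formation of f_*(Ω_{C/S}^{⊗n}) commutes with arbitrary base change: for every cartesian square on a
morphism b : T → S, with projections f' : C' → T and b' : C' → C, the degree-0 base change map b^*
f_*(Ω_{C/S}^{⊗n}) → f'_* b'^*(Ω_{C/S}^{⊗n}) is an isomorphism. (The local-freeness, rank and
higher-direct-image clauses of the published item, and the corresponding base-change statement for
Ω_{C/S} itself, are separate results.) -/
theorem result {C S : Scheme.{u}} (f : C ⟶ S)
    [IsProper f] [Smooth f] [GeometricallyConnected f]
    (hdim : ∀ s : S, topologicalKrullDim ↥(f.fiber s) = 1) (g : ℕ) (hg : 2 ≤ g)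
    (hgen : ∀ s : S, letI : (f.fiber s).Over (Spec (S.residueField s)) := ⟨f.fiberToSpecResidueField s⟩
      Curv2.genus (S.residueField s) (f.fiber s) = g)
    (n : ℕ) (hn : 2 ≤ n)
    (T C' : Scheme.{u}) (b : T ⟶ S) (f' : C' ⟶ T) (b' : C' ⟶ C) (hsq : IsPullback b' f' f b) :
    IsIso (CohBC.bc0 f b f' b' hsq.w (CohB1.tensorPow (Omega.sheaf f) n)) := by
  haveI := GrothLib.SmCurveFam.smoothOfRelativeDimension_one f hdim
  obtain ⟨-, hfp, hqc, hfl⟩ := GrothLib.SmCurveFam.omegaPow_props f n
  haveI := hqc
  haveI : (CohB1.tensorPow (Omega.sheaf f) n).IsQuasicoherent := hqc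
  have hr := GrothLib.SmCurveFam.omegaPow_fiberRank f hdim g hg hgen n hn
  have hG : ∀ s : S, GrothLib.BCCrit.GoodAll f (CohB1.tensorPow (Omega.sheaf f) n) ((0 : ℕ) : ℤ) s := fun s => by
    simpa using (GrothLib.BCCrit.goodAll_of_fiberRank_eq_zero 1 s (hr s).1).2
  exact GrothLib.BCCrit.isIso_bc0_of_goodAll hfp hfl ⊤ (fun s _ => hG s) hsq (fun _ => trivial)

end Groth.Agent.S19469
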