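import Groth.Statements.S19472
import Groth.Agent.Lib.MultUnip16.Main
import Groth.Agent.Lib.Neutral.FieldFactor
import Groth.Agent.Lib.AlgSp.SourceLocal
import Groth.Agent.Lib.GrpDeligne.Factor

set_option autoImplicit false
universe u
open CategoryTheory MonoidalCategory CartesianMonoidalCategory MonObj GrpObj AlgebraicGeometry CategoryTheory.Limits
open AlgGrp

namespace Groth.Agent.S19472

open GrpObj CategoryTheory.Limits

/-- Let k be a field and 1 → G₁ → G → G₂ → 1 an exact sequence of commutative affine k-group schemes of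
finite type: i : G₁ → G is a closed subgroup scheme and the kernel of a flat surjective homomorphism
q : G → G₂. Let j₁ : M₁ → G₁, j : M → G and j₂ : M₂ → G₂ be the largest closed subgroup schemes of
multiplicative type (each of multiplicative type, every closed subgroup scheme of multiplicative
type factoring through it). Then the induced sequence 1 → M₁ → M → M₂ → 1 is exact: there are u : M₁
→ M over i and v : M → M₂ over q with u a closed immersion, v flat and surjective, and u the kernel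
of v. (The companion statement for the largest unipotent subgroup schemes over a perfect field is
not included; the existence of the largest multiplicative-type subgroups is carried as hypotheses.) -/
theorem result (k : Type u) [Field k]
    (G₁ : Over (Spec (CommRingCat.of k))) [GrpObj G₁] [IsCommMonObj G₁] [IsAffine G₁.left] [LocallyOfFiniteType G₁.hom]
    (G : Over (Spec (CommRingCat.of k))) [GrpObj G] [IsCommMonObj G] [IsAffine G.left] [LocallyOfFiniteType G.hom]
    (G₂ : Over (Spec (CommRingCat.of k))) [GrpObj G₂] [IsCommMonObj G₂] [IsAffine G₂.left] [LocallyOfFiniteType G₂.hom]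
    (i : G₁ ⟶ G) [IsMonHom i] [IsClosedImmersion i.left]
    (q : G ⟶ G₂) [IsMonHom q] [Surjective q.left] [Flat q.left] (hq : AlgGrp.IsKernel i q)
    (M₁ : Over (Spec (CommRingCat.of k))) [GrpObj M₁] (j₁ : M₁ ⟶ G₁) [IsMonHom j₁] [IsClosedImmersion j₁.left]
    (hM₁ : SGA3x.IsMultTypeFT M₁)
    (hM₁max : ∀ (M' : Over (Spec (CommRingCat.of k))) [GrpObj M'] (j' : M' ⟶ G₁) [IsMonHom j']
      [IsClosedImmersion j'.left], SGA3x.IsMultTypeFT M' → ∃ g : M' ⟶ M₁, g ≫ j₁ = j')
    (M : Over (Spec (CommRingCat.of k))) [GrpObj M] (j : M ⟶ G) [IsMonHom j] [IsClosedImmersion j.left]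
    (hM : SGA3x.IsMultTypeFT M)
    (hMmax : ∀ (M' : Over (Spec (CommRingCat.of k))) [GrpObj M'] (j' : M' ⟶ G) [IsMonHom j']
      [IsClosedImmersion j'.left], SGA3x.IsMultTypeFT M' → ∃ g : M' ⟶ M, g ≫ j = j')
    (M₂ : Over (Spec (CommRingCat.of k))) [GrpObj M₂] (j₂ : M₂ ⟶ G₂) [IsMonHom j₂] [IsClosedImmersion j₂.left]
    (hM₂ : SGA3x.IsMultTypeFT M₂)
    (hM₂max : ∀ (M' : Over (Spec (CommRingCat.of k))) [GrpObj M'] (j' : M' ⟶ G₂) [IsMonHom j']
      [IsClosedImmersion j'.left], SGA3x.IsMultTypeFT M' → ∃ g : M' ⟶ M₂, g ≫ j₂ = j') :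
    ∃ (u : M₁ ⟶ M) (v : M ⟶ M₂), u ≫ j = j₁ ≫ i ∧ v ≫ j₂ = j ≫ q ∧
      IsClosedImmersion u.left ∧ Surjective v.left ∧ Flat v.left ∧ AlgGrp.IsKernel u v := by
  haveI : Mono i := Over.mono_of_mono_left i
  haveI : Mono j := Over.mono_of_mono_left j
  haveI : Mono j₁ := Over.mono_of_mono_left j₁
  haveI : Mono j₂ := Over.mono_of_mono_left j₂
  haveI : IsClosedImmersion (j₁ ≫ i).left := by rw [Over.comp_left]; infer_instance
  obtain ⟨u, hu⟩ := hMmax M₁ (j₁ ≫ i) hM₁
  haveI : IsClosedImmersion u.left := by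
    haveI : IsClosedImmersion (u.left ≫ j.left) := by rw [← Over.comp_left, hu]; infer_instance
    exact IsClosedImmersion.of_comp u.left j.left
  obtain ⟨U₂, _, q₂, hq₂, -, -, -, -, hk₂, hU₂⟩ := GrothLib.MultUnip16.exists_unipQuot G₂ M₂ j₂ hM₂ hM₂max
  haveI := hq₂
  have hjq : (j ≫ q) ≫ q₂ = 1 := hU₂.hom_eq_one hM _
  obtain ⟨v, hv, -⟩ := IsPullback.exists_lift hk₂ (j ≫ q) (toUnit M) (by rw [hjq, Hom.one_def])
  haveI : IsMonHom v := by
    haveI : IsMonHom (v ≫ j₂) := by rw [hv]; infer_instance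
    exact GrothLib.CentMT14.isMonHom_of_comp v j₂
  haveI : IsAffine M.left := isAffine_of_isAffineHom j.left
  haveI : IsAffine M₂.left := isAffine_of_isAffineHom j₂.left
  haveI : LocallyOfFiniteType M.hom := by rw [← Over.w j]; infer_instance
  haveI : LocallyOfFiniteType M₂.hom := by rw [← Over.w j₂]; infer_instance
  haveI : QuasiCompact v.left := by
    haveI : QuasiCompact (v.left ≫ j₂.left) := by rw [← Over.comp_left, hv]; infer_instance
    exact QuasiCompact.of_comp v.left j₂.left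
  -- the image of `v`
  obtain ⟨I, _, p, iI, hp, hiI, hpi, hps, hpf, hpp, hIm, hIl, -⟩ := GrothLib.Neutral.exists_factor_field v
  haveI := hp; haveI := hiI; haveI := hps; haveI := hpf; haveI := hIm; haveI := hIl
  obtain ⟨hIc, -⟩ := GrothLib.Neutral.isClosedImmersion_factor v hpi
  haveI := hIc
  haveI : IsClosedImmersion (iI ≫ j₂).left := by rw [Over.comp_left]; infer_instance
  have hn : AlgGrp.IsNormalHom (iI ≫ j₂) := fun T g n => ⟨n, by
    have hT := (isCommMonObj_iff_isMulCommutative (M := G₂)).1 inferInstance T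
    rw [hT.is_comm.comm g, mul_inv_cancel_right]⟩
  obtain ⟨Q', _, r, hr, hQ'a, hQ'l, hrf, hrs, hrk⟩ := Groth.Agent.S3278.result k G₂ I (iI ≫ j₂) hn
  haveI := hr; haveI := hQ'a; haveI := hQ'l; haveI := hrf; haveI := hrs
  obtain ⟨U, _, qM, hqM, hUa, hUl, hqf, hqs, hkM, hU⟩ := GrothLib.MultUnip16.exists_unipQuot G M j hM hMmax
  haveI := hqM; haveI := hUa; haveI := hUl; haveI := hqf; haveI := hqs
  haveI : LocallyOfFinitePresentation qM.left := GrothLib.QuotMap19.lfp_orbitMap qM
  obtain ⟨d, hd⟩ := GrothLib.QuotTorus14.exists_desc qM (q ≫ r) fun C _ c a a' haa => by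
    have hk : (a⁻¹ * a') ≫ qM = toUnit _ ≫ η[U] := by
      rw [MonObj.mul_comp, GrpObj.inv_comp, ← haa, inv_mul_cancel, Hom.one_def]
    obtain ⟨y, hy, -⟩ := IsPullback.exists_lift hkM _ _ hk
    have h0 : (a⁻¹ * a') ≫ q ≫ r = 1 := by
      calc (a⁻¹ * a') ≫ q ≫ r = y ≫ (j ≫ q) ≫ r := by rw [← hy]; simp only [Category.assoc]
        _ = (y ≫ p) ≫ (iI ≫ j₂) ≫ r := by rw [← hv, ← hpi]; simp only [Category.assoc]
        _ = (y ≫ p) ≫ toUnit I ≫ η[Q'] := by rw [hrk.w]
        _ = 1 := by
          rw [← Category.assoc, toUnit_unique ((y ≫ p) ≫ toUnit I) (toUnit _), Hom.one_def]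
    rw [MonObj.mul_comp, GrpObj.inv_comp, inv_mul_eq_one] at h0
    exact h0
  haveI : IsMonHom (qM ≫ d) := by rw [hd]; infer_instance
  haveI : IsMonHom d := GrothLib.QuotTorus14.isMonHom_desc qM d
  haveI hdflat : Flat d.left := GrothLib.AlgSp.srcDescends_flat qM.left d.left hqf hqs (by
    rw [← Over.comp_left, hd, Over.comp_left]; infer_instance)
  haveI : Surjective d.left := by
    haveI : Surjective (qM.left ≫ d.left) := by rw [← Over.comp_left, hd, Over.comp_left]; infer_instance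
    exact Surjective.of_comp qM.left d.left
  have hQ' : GrothLib.MultUnip16.IsUnipGrp Q' := hU.image d
  have hj₂r : j₂ ≫ r = 1 := hQ'.hom_eq_one hM₂ _
  obtain ⟨s, hs, -⟩ := IsPullback.exists_lift hrk j₂ (toUnit M₂) (by rw [hj₂r, Hom.one_def])
  have hs' : s ≫ iI = 𝟙 M₂ := by rw [← cancel_mono j₂, Category.assoc, hs, Category.id_comp]
  haveI : IsSplitEpi iI := ⟨⟨⟨s, hs'⟩⟩⟩
  haveI : IsIso iI := isIso_of_mono_of_isSplitEpi iI
  haveI : IsIso iI.left := inferInstanceAs (IsIso ((Over.forget _).map iI))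
  refine ⟨u, v, hu, hv, inferInstance, by rw [← hpi, Over.comp_left]; infer_instance,
    by rw [← hpi, Over.comp_left]; infer_instance, ?_⟩
  -- the kernel
  have huv : u ≫ v = toUnit M₁ ≫ η[M₂] := by
    rw [← cancel_mono j₂, Category.assoc, hv, ← Category.assoc, hu, Category.assoc, hq.w, Category.assoc,
      IsMonHom.one_hom, ← Category.assoc, toUnit_unique (j₁ ≫ toUnit G₁) (toUnit M₁)]
  let K : Over (Spec (CommRingCat.of k)) := pullback v η[M₂]
  let κ : K ⟶ M := pullback.fst v η[M₂]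
  haveI := GrothLib.GrpSchField.unit_isClosedImmersion M₂
  haveI : IsClosedImmersion κ.left :=
    MorphismProperty.of_isPullback ((IsPullback.of_hasPullback v η[M₂]).map (Over.forget _)).flip
      ‹IsClosedImmersion η[M₂].left›
  obtain ⟨gK, hκ⟩ := GrothLib.GrpDeligne.exists_grpObj_kernel v κ
    (by
      have h := IsPullback.of_hasPullback v η[M₂]
      rwa [toUnit_unique (pullback.snd v η[M₂]) (toUnit K)] at h)
  haveI := hκ
  haveI : Mono κ := Over.mono_of_mono_left κ
  obtain ⟨κ₁, hκ₁, -⟩ := IsPullback.exists_lift hq (κ ≫ j) (toUnit K) (by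
    rw [Category.assoc, ← hv, ← Category.assoc, pullback.condition, Category.assoc, IsMonHom.one_hom,
      toUnit_unique (pullback.snd v η[M₂]) (toUnit K)])
  haveI : IsClosedImmersion (κ ≫ j).left := by rw [Over.comp_left]; infer_instance
  haveI : IsMonHom κ₁ := by
    haveI : IsMonHom (κ₁ ≫ i) := by rw [hκ₁]; infer_instance
    exact GrothLib.CentMT14.isMonHom_of_comp κ₁ i
  haveI : IsClosedImmersion κ₁.left := by
    haveI : IsClosedImmersion (κ₁.left ≫ i.left) := by rw [← Over.comp_left, hκ₁]; infer_instance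
    exact IsClosedImmersion.of_comp κ₁.left i.left
  haveI : LocallyOfFiniteType K.hom := by rw [← Over.w κ]; infer_instance
  have hK : SGA3x.IsMultTypeFT K := Groth.Agent.S19598.result K M hM κ inferInstance
    (GrothLib.DiagGrp.flat_of_field _) (GrothLib.GrpSchField.lfp_of_isLocallyNoetherian _)
  obtain ⟨g₁, hg₁⟩ := hM₁max K κ₁ hK
  haveI : Mono u := Over.mono_of_mono_left u
  refine IsPullback.of_isLimit' ⟨huv⟩ (PullbackCone.IsLimit.mk _
    (fun c => pullback.lift c.fst (toUnit c.pt) (by rw [c.condition, toUnit_unique c.snd (toUnit c.pt)]) ≫ g₁)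
    (fun c => ?_) (fun c => toUnit_unique _ _) fun c m h1 _ => ?_)
  · rw [← cancel_mono j, Category.assoc, Category.assoc, hu, reassoc_of% hg₁, hκ₁, pullback.lift_fst_assoc]
  · rw [← cancel_mono u, h1, ← cancel_mono j, Category.assoc, Category.assoc, hu, reassoc_of% hg₁, hκ₁,
      pullback.lift_fst_assoc]


end Groth.Agent.S19472
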