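import Groth.Statements.S19475
import Mathlib
-- import your own Groth.Agent.* helpers here

set_option autoImplicit false
open TensorProduct IsLocalRing
universe u
open CAlg

namespace Groth.Agent.S19475

open IsLocalRing in
/-- Let A be a Noetherian ring, B an A-algebra, q a prime ideal of B and p its preimage in A; let A_p
and B_q be the local rings at p and q and Â_p the completion of A_p at its maximal ideal pA_p. Then
the ideal generated by qB_q in B_q ⊗ Â_p is maximal. (The tensor product is formed over A; since A_p
is a localization of A it agrees with the tensor product over A_p used in the published statement.) -/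
theorem result (A B : Type u) [CommRing A] [CommRing B]
    [Algebra A B] [IsNoetherianRing A] (q : Ideal B) [q.IsPrime] :
    ((maximalIdeal (Localization.AtPrime q)).map
      (Algebra.TensorProduct.includeLeftRingHom :
        Localization.AtPrime q →+* TensorProduct A (Localization.AtPrime q)
          (AdicCompletion (maximalIdeal (Localization.AtPrime (q.under A)))
            (Localization.AtPrime (q.under A))))).IsMaximal := by
  classical
  set A' := AdicCompletion (maximalIdeal (Localization.AtPrime (q.under A))) (Localization.AtPrime (q.under A)) with hA'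
  let Bq := Localization.AtPrime q
  let Ap := Localization.AtPrime (q.under A)
  let mP := maximalIdeal Ap
  let inl : Bq →+* Bq ⊗[A] A' := Algebra.TensorProduct.includeLeftRingHom
  letI : Algebra Ap Bq := (Localization.localRingHom (q.under A) q (algebraMap A B) rfl).toAlgebra
  haveI : IsScalarTower A Ap Bq := IsScalarTower.of_algebraMap_eq fun a => by
    show _ = Localization.localRingHom (q.under A) q (algebraMap A B) rfl (algebraMap A Ap a)
    rw [Localization.localRingHom_to_map, ← IsScalarTower.algebraMap_apply A B Bq]
  haveI : IsLocalHom (algebraMap Ap Bq) := Localization.isLocalHom_localRingHom _ _ _ rfl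
  set M := (maximalIdeal Bq).map inl with hM
  -- every completed element is congruent to a fraction
  have hkey : ∀ z : Bq ⊗[A] A', ∃ b : Bq, z - inl b ∈ M := fun z => by
    induction z using TensorProduct.induction_on with
    | zero => exact ⟨0, by simp⟩
    | tmul b x =>
      obtain ⟨c, hc⟩ := Ideal.Quotient.mk_surjective (AdicCompletion.evalOneₐ mP x)
      obtain ⟨r, s, hs⟩ := IsLocalization.exists_mk'_eq (q.under A).primeCompl c
      refine ⟨b * algebraMap Ap Bq c, ?_⟩
      have hd : x - algebraMap Ap A' c ∈ mP.map (algebraMap Ap A') := by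
        rw [← AdicCompletion.ker_evalOneₐ_eq_map mP (IsNoetherian.noetherian mP), RingHom.mem_ker, map_sub]
        show AdicCompletion.evalOneₐ mP x - AdicCompletion.evalOneₐ mP (algebraMap Ap A' c) = 0
        rw [AlgHom.commutes, Ideal.Quotient.algebraMap_eq, hc, sub_self]
      have hmap : ∀ y ∈ mP.map (algebraMap Ap A'), ∀ b : Bq, b ⊗ₜ[A] y ∈ M := fun y hy => by
        induction hy using Submodule.span_induction with
        | mem y hy =>
          obtain ⟨m, hm, rfl⟩ := hy
          intro b
          obtain ⟨r, s, rfl⟩ := IsLocalization.exists_mk'_eq (q.under A).primeCompl m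
          have hr : r ∈ q.under A := (IsLocalization.AtPrime.mk'_mem_maximal_iff Ap (q.under A) r s).1 hm
          have h1 : algebraMap Ap A' (IsLocalization.mk' Ap r s) = r • algebraMap Ap A' (IsLocalization.mk' Ap 1 s) := by
            rw [Algebra.smul_def, IsScalarTower.algebraMap_apply A Ap A', ← map_mul,
              ← IsLocalization.mk'_eq_mul_mk'_one]
          rw [h1, ← TensorProduct.smul_tmul]
          have h2 : (r • b) ⊗ₜ[A] algebraMap Ap A' (IsLocalization.mk' Ap 1 s) =
              inl (algebraMap A Bq r) * (b ⊗ₜ[A] algebraMap Ap A' (IsLocalization.mk' Ap 1 s)) := by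
            show _ = (algebraMap A Bq r ⊗ₜ[A] (1 : A')) * _
            rw [Algebra.TensorProduct.tmul_mul_tmul, one_mul, ← Algebra.smul_def]
          rw [h2]
          refine Ideal.mul_mem_right _ _ (Ideal.mem_map_of_mem _ ?_)
          rw [IsScalarTower.algebraMap_apply A B Bq]
          exact (IsLocalization.AtPrime.to_map_mem_maximal_iff Bq q _).2 hr
        | zero => intro b; rw [TensorProduct.tmul_zero]; exact zero_mem _
        | add u v _ _ hu hv => intro b; rw [TensorProduct.tmul_add]; exact add_mem (hu b) (hv b)
        | smul w u _ hu =>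
          intro b
          have : b ⊗ₜ[A] (w * u) = ((1 : Bq) ⊗ₜ[A] w) * (b ⊗ₜ[A] u) := by
            rw [Algebra.TensorProduct.tmul_mul_tmul, one_mul]
          rw [smul_eq_mul, this]
          exact Ideal.mul_mem_left _ _ (hu b)
      have hsplit : b ⊗ₜ[A] algebraMap Ap A' c = inl (b * algebraMap Ap Bq c) := by
        show _ = (b * algebraMap Ap Bq c) ⊗ₜ[A] (1 : A')
        have e1 : algebraMap Ap A' c * algebraMap A A' s = algebraMap A A' r := by
          rw [← hs, IsScalarTower.algebraMap_apply A Ap A', IsScalarTower.algebraMap_apply A Ap A', ← map_mul,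
            IsLocalization.mk'_spec]
        have e2 : algebraMap Ap Bq c * algebraMap A Bq s = algebraMap A Bq r := by
          rw [← hs, IsScalarTower.algebraMap_apply A Ap Bq, IsScalarTower.algebraMap_apply A Ap Bq, ← map_mul,
            IsLocalization.mk'_spec]
        obtain ⟨v, hv⟩ : IsUnit (algebraMap A Bq s) := by
          rw [IsScalarTower.algebraMap_apply A Ap Bq]
          exact (IsLocalization.map_units Ap s).map _
        calc b ⊗ₜ[A] algebraMap Ap A' c = (b * ↑v⁻¹) ⊗ₜ[A] algebraMap Ap A' c * ((algebraMap A Bq s) ⊗ₜ[A] (1 : A')) := by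
              rw [Algebra.TensorProduct.tmul_mul_tmul, ← hv, mul_assoc, Units.inv_mul, mul_one, mul_one]
          _ = (b * ↑v⁻¹) ⊗ₜ[A] (algebraMap Ap A' c * algebraMap A A' s) := by
              rw [Algebra.TensorProduct.tmul_mul_tmul, mul_one, mul_comm _ (algebraMap A Bq s), ← Algebra.smul_def,
                mul_comm (algebraMap Ap A' c), ← Algebra.smul_def, TensorProduct.smul_tmul]
          _ = _ := by
              rw [e1, show algebraMap A A' r = r • (1 : A') by rw [Algebra.smul_def, mul_one],
                ← TensorProduct.smul_tmul, Algebra.smul_def, ← e2, ← hv]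
              congr 1
              have hvv : (v : Bq) * ↑v⁻¹ = 1 := Units.mul_inv v
              linear_combination (b * algebraMap Ap Bq c) * hvv
      rw [← hsplit, ← TensorProduct.tmul_sub]
      exact hmap _ hd b
    | add y z hy hz =>
      obtain ⟨b, hb⟩ := hy
      obtain ⟨c, hc⟩ := hz
      exact ⟨b + c, by rw [map_add, add_sub_add_comm]; exact add_mem hb hc⟩
  have hne : M ≠ ⊤ := by
    let φ₁ : Bq →ₐ[A] ResidueField Bq := IsScalarTower.toAlgHom A Bq (ResidueField Bq)
    let g : A' →+* ResidueField Bq :=
      (IsLocalRing.ResidueField.map (algebraMap Ap Bq)).comp (AdicCompletion.evalOneₐ mP).toRingHom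
    have hg : ∀ a : A, g (algebraMap A A' a) = algebraMap A (ResidueField Bq) a := fun a => by
      show IsLocalRing.ResidueField.map (algebraMap Ap Bq) (AdicCompletion.evalOneₐ mP (algebraMap A A' a)) = _
      rw [IsScalarTower.algebraMap_apply A Ap A', AlgHom.commutes, IsScalarTower.algebraMap_apply A Bq (ResidueField Bq),
        IsScalarTower.algebraMap_apply A Ap Bq]
      rfl
    let Φ : Bq ⊗[A] A' →ₐ[A] ResidueField Bq :=
      Algebra.TensorProduct.lift φ₁ { g with commutes' := hg } fun _ _ => Commute.all _ _
    intro htop
    have h1 : M ≤ RingHom.ker Φ.toRingHom := Ideal.map_le_iff_le_comap.2 fun b hb => by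
      show Φ (b ⊗ₜ[A] 1) = 0
      rw [Algebra.TensorProduct.lift_tmul, map_one, mul_one]
      exact (IsLocalRing.residue_eq_zero_iff b).2 hb
    have h2 := h1 (htop.ge (Submodule.mem_top (x := 1)))
    rw [RingHom.mem_ker, map_one] at h2
    exact one_ne_zero h2
  rw [Ideal.isMaximal_iff]
  refine ⟨(Ideal.ne_top_iff_one _).1 hne, fun J x hJ hx hxJ => ?_⟩
  obtain ⟨b, hb⟩ := hkey x
  have hbJ : inl b ∈ J := by simpa using J.sub_mem hxJ (hJ hb)
  have hu : IsUnit b := by
    by_contra hnu
    exact hx (by simpa using add_mem hb (Ideal.mem_map_of_mem inl (show b ∈ maximalIdeal Bq from hnu)))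
  exact (Ideal.eq_top_iff_one J).1 (Ideal.eq_top_of_isUnit_mem J hbJ (hu.map inl))

end Groth.Agent.S19475
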