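import Groth.Statements.S19479
import Groth.Agent.Lib.Comod.Semi

set_option autoImplicit false
universe u v w
open HopfRep

namespace Groth.Agent.S19479

open TensorProduct in
/-- Let K be a field, C a K-coalgebra and V a right C-comodule. The following are equivalent: (i) V is
the internal direct sum of a family of simple subcomodules, i.e. there is an independent family of
subcomodules W_i with sum V, each W_i nonzero and having no subcomodules inside it other than 0 and
W_i; (ii) every subcomodule of V has a complementary subcomodule. A subcomodule is a subspace W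
whose coaction lands in the image of W ⊗ C. (The source states this for left comodules; a left
comodule over C is a right comodule over the co-opposite coalgebra, so the statement is the same.) -/
theorem result {K : Type u} {C : Type v} [Field K]
    [AddCommGroup C] [Module K C] [Coalgebra K C] (V : Type w) [AddCommGroup V] [Module K V] [HopfRep.Comod K C V] :
    (∃ (ι : Type w) (W : ι → Submodule K V), iSupIndep W ∧ iSup W = ⊤ ∧ ∀ i,
        HopfRep.IsSubcomod (k := K) (A := C) (W i) ∧ W i ≠ ⊥ ∧
          ∀ W' : Submodule K V, HopfRep.IsSubcomod (k := K) (A := C) W' → W' ≤ W i → W' = ⊥ ∨ W' = W i) ↔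
      HopfRep.IsSemisimpleComod K C V := by
  constructor
  · rintro ⟨ι, W, -, hsum, hW⟩
    exact GrothLib.Comodule.semisimple_of_iSup (fun i => ⟨(hW i).1, (hW i).2.1, (hW i).2.2⟩) hsum
  · intro h
    haveI := GrothLib.Comodule.isSemisimpleComod_iff.1 h
    obtain ⟨s, hind, htop, hs⟩ :=
      IsSemisimpleModule.exists_sSupIndep_sSup_simples_eq_top (GrothLib.Comodule.OpAlg K C)
        (GrothLib.Comodule.AsMod K C V)
    refine ⟨s, fun N => GrothLib.Comodule.ofSub N.1, fun i => ?_, ?_, fun N => ?_⟩
    · have h1 : (⨆ j, ⨆ (_ : j ≠ i), GrothLib.Comodule.ofSub j.1) =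
          GrothLib.Comodule.ofSub (⨆ j : s, ⨆ (_ : j ≠ i), j.1) := by
        simp only [GrothLib.Comodule.ofSub_iSup]
      rw [disjoint_iff, h1, ← GrothLib.Comodule.ofSub_inf,
        disjoint_iff.1 ((sSupIndep_iff s).1 hind i), GrothLib.Comodule.ofSub_bot]
    · rw [← GrothLib.Comodule.ofSub_iSup, ← sSup_eq_iSup', htop, GrothLib.Comodule.ofSub_top]
    · haveI := hs N.1 N.2
      exact (GrothLib.Comodule.isSimpleSub_iff (GrothLib.Comodule.isSubcomod_ofSub N.1)).2 (hs N.1 N.2)

end Groth.Agent.S19479
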