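import Groth.Statements.S19480
import Groth.Agent.S15046
import Groth.Agent.Lib.RootTower4.Algebra

set_option autoImplicit false
set_option backward.isDefEq.respectTransparency false
open CategoryTheory AlgebraicGeometry MvPolynomial
universe u
open Quiet

namespace Groth.Agent.S19480

theorem isPthRoot_pullback {p : ℕ} {X Y X' Y' : Scheme.{u}} {f : Y ⟶ X} {g : X' ⟶ X} {f' : Y' ⟶ X'}
    {g' : Y' ⟶ Y} (H : IsPullback g' f' f g) (hf : Quiet.IsPthRoot p f) : Quiet.IsPthRoot p f' := by
  intro x'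
  obtain ⟨⟨U, hU⟩, hxU, hfU, n, hT⟩ := hf (g x')
  obtain ⟨V, hV, hxV, he⟩ : ∃ V : X'.Opens, IsAffineOpen V ∧ x' ∈ V ∧ V ≤ g ⁻¹ᵁ U :=
    TopologicalSpace.Opens.isBasis_iff_nbhd.mp X'.isBasis_affineOpens hxU
  have hUY : f' ⁻¹ᵁ V = g' ⁻¹ᵁ (f ⁻¹ᵁ U) ⊓ f' ⁻¹ᵁ V := by
    refine (inf_eq_right.2 fun y hy => ?_).symm
    have h := he hy
    show f (g' y) ∈ U
    rw [show f (g' y) = g (f' y) from congrArg (fun k => k y) H.w]
    exact h
  have hW : IsAffineOpen (f' ⁻¹ᵁ V) := by
    have : IsAffine (f ⁻¹ᵁ U) := hfU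
    have : IsAffine V := hV
    have : IsAffine U := hU
    exact .of_isIso (Scheme.Hom.isPullback_resLE H he le_rfl hUY).isoPullback.hom
  refine ⟨⟨V, hV⟩, hxV, hW, n, ?_⟩
  have hpo := (isIso_pushoutSection_iff H he le_rfl hUY).1
    (isIso_pushoutSection_of_isAffineOpen H he le_rfl hUY hU hV hfU)
  let a := g.appLE U V he
  let b := g'.appLE (f ⁻¹ᵁ U) (f' ⁻¹ᵁ V) (le_of_eq_of_le hUY inf_le_left)
  letI : Algebra Γ(X, U) Γ(X', V) := a.hom.toAlgebra
  letI : Algebra Γ(X, U) Γ(Y, f ⁻¹ᵁ U) := (f.app U).hom.toAlgebra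
  letI : Algebra Γ(X', V) Γ(Y', f' ⁻¹ᵁ V) := (f'.app V).hom.toAlgebra
  letI : Algebra Γ(Y, f ⁻¹ᵁ U) Γ(Y', f' ⁻¹ᵁ V) := b.hom.toAlgebra
  letI : Algebra Γ(X, U) Γ(Y', f' ⁻¹ᵁ V) := (a ≫ f'.app V).hom.toAlgebra
  rw [← Scheme.Hom.app_eq_appLE, ← Scheme.Hom.app_eq_appLE] at hpo
  haveI : IsScalarTower Γ(X, U) Γ(X', V) Γ(Y', f' ⁻¹ᵁ V) := IsScalarTower.of_algebraMap_eq fun _ => rfl
  haveI : IsScalarTower Γ(X, U) Γ(Y, f ⁻¹ᵁ U) Γ(Y', f' ⁻¹ᵁ V) := IsScalarTower.of_algebraMap_eq fun z => by
    show (a ≫ f'.app V).hom z = (f.app U ≫ b).hom z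
    rw [show f.app U ≫ b = a ≫ f'.app V from hpo.w]
  haveI : Algebra.IsPushout Γ(X, U) Γ(X', V) Γ(Y, f ⁻¹ᵁ U) Γ(Y', f' ⁻¹ᵁ V) :=
    CommRingCat.isPushout_iff_isPushout.1 hpo.flip
  exact GrothLib.RootTower4.baseChange n Γ(X, U) Γ(X', V) Γ(Y, f ⁻¹ᵁ U) Γ(Y', f' ⁻¹ᵁ V) hT

attribute [local instance] Algebra.TensorProduct.rightAlgebra in
theorem quot_pushout {R S : Type u} [CommRing R] [CommRing S] [Algebra R S] (I : Ideal R) :
    Algebra.IsPushout R (R ⧸ I) S (S ⧸ I.map (algebraMap R S)) :=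
  Algebra.IsPushout.of_equiv (Algebra.TensorProduct.quotIdealMapEquivQuotTensor S I).symm
    (RingHom.ext fun s => (AlgEquiv.symm_apply_eq (Algebra.TensorProduct.quotIdealMapEquivQuotTensor S I)).2 rfl)

theorem faithfullyFlat_quotientMap {R S : Type u} [CommRing R] [CommRing S] (φ : R →+* S)
    (h : φ.FaithfullyFlat) (I : Ideal R) : (Ideal.quotientMap (I.map φ) φ Ideal.le_comap_map).FaithfullyFlat := by
  letI := φ.toAlgebra
  haveI : Module.FaithfullyFlat R S := RingHom.faithfullyFlat_algebraMap_iff.1 h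
  haveI := quot_pushout (S := S) I
  haveI : Algebra.IsPushout R S (R ⧸ I) (S ⧸ I.map (algebraMap R S)) := Algebra.IsPushout.symm inferInstance
  exact RingHom.FaithfullyFlat.isStableUnderBaseChange R S (R ⧸ I) (S ⧸ I.map (algebraMap R S)) h

theorem isPullback_quotientMap {R S : Type u} [CommRing R] [CommRing S] (φ : R →+* S) (I : Ideal R) :
    IsPullback (Spec.map (CommRingCat.ofHom (Ideal.Quotient.mk (I.map φ))))
      (Spec.map (CommRingCat.ofHom (Ideal.quotientMap (I.map φ) φ Ideal.le_comap_map)))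
      (Spec.map (CommRingCat.ofHom φ)) (Spec.map (CommRingCat.ofHom (Ideal.Quotient.mk I))) := by
  letI := φ.toAlgebra
  haveI : Algebra.IsPushout R S (R ⧸ I) (S ⧸ I.map (algebraMap R S)) := (quot_pushout (S := S) I).symm
  exact isPullback_SpecMap_of_isPushout _ _ _ _
    (CommRingCat.isPushout_of_isPushout R S (R ⧸ I) (S ⧸ I.map (algebraMap R S)))

theorem isRegular_append {R : Type u} [CommRing R] (I : Ideal R) (l₁ l₂ : List R) (hI : Ideal.ofList l₁ = I)
    (h₁ : RingTheory.Sequence.IsWeaklyRegular R l₁)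
    (h₂ : RingTheory.Sequence.IsRegular (R ⧸ I) (l₂.map (Ideal.Quotient.mk I))) :
    RingTheory.Sequence.IsRegular R (l₁ ++ l₂) := by
  subst hI
  refine ⟨(RingTheory.Sequence.isWeaklyRegular_append_iff R l₁ l₂).2 ⟨h₁, ?_⟩, ?_⟩
  · refine ((Submodule.quotEquivOfEq _ (Ideal.ofList l₁) (by simp)).isWeaklyRegular_congr l₂).2 ?_
    exact (RingTheory.Sequence.isWeaklyRegular_map_algebraMap_iff (R ⧸ Ideal.ofList l₁) (R ⧸ Ideal.ofList l₁) l₂).1 h₂.toIsWeaklyRegular
  · intro h
    apply h₂.top_ne_smul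
    rw [Ideal.smul_eq_mul, Ideal.mul_top] at h ⊢
    rw [← Ideal.map_ofList]
    refine (Ideal.eq_top_iff_one _).2 ?_ |>.symm
    have h1 : (1 : R) ∈ Ideal.ofList l₁ ⊔ Ideal.ofList l₂ := by
      rw [← Ideal.ofList_append, ← h]; trivial
    obtain ⟨a, ha, b, hb, hab⟩ := Submodule.mem_sup.1 h1
    rw [← map_one (Ideal.Quotient.mk (Ideal.ofList l₁)), ← hab, map_add,
      Ideal.Quotient.eq_zero_iff_mem.2 ha, zero_add]
    exact Ideal.mem_map_of_mem _ hb

/-- Let k be a perfect field of prime characteristic p, A a smooth k-algebra of characteristic p and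
t_1, …, t_n a regular sequence in A, so that A₀ = A/(t_1^p, …, t_n^p) is a p-good algebra when A has
a system of parameters; let v_1, …, v_m ∈ A[Y_1, …, Y_r] have images forming a regular sequence in
A₀[Y_1, …, Y_r], and put B_0 = A[Y]/(t_1^p, …, t_n^p, v_1, …, v_m). Identify A^{1/p} with A as a
ring, so that u_i = t_i^p and the Frobenius x ↦ x^p of A[Y] carries the ideal (t_i^p, v_j) into
(u_i^p, v_j^p) = (t_i^{p²}, v_j^p). Then: (ii) (t_1^{p²}, …, t_n^{p²}, v_1^p, …, v_m^p) is a regular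
sequence in A[Y]; (iii) the induced ring map β : B_0 → B = A[Y]/(t_i^{p²}, v_j^p) is faithfully flat
and Spec β is an extraction of p-th roots, i.e. every point of Spec B_0 has an affine open
neighbourhood with affine preimage over which the ring map is a tower of finitely many elementary
extractions R → R[x]/(x^p − a). (The published statement also assumes B_0 faithfully flat and
syntomic over A₀ and A good; these are not used for (ii) and (iii) and are not assumed here. The v_j
are taken in A[Y] rather than in A₀[Y], which is how their p-th powers in A^{1/p}[Y] are meant.) -/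
theorem result (p : ℕ) [Fact p.Prime]
    (k : Type u) [Field k] [CharP k p] [PerfectRing k p] (A : Type u) [CommRing A] [Algebra k A]
    [CharP A p] [Algebra.Smooth k A] (n : ℕ) (t : Fin n → A) (ht : RingTheory.Sequence.IsRegular A (List.ofFn t))
    (r m : ℕ) (v : Fin m → MvPolynomial (Fin r) A)
    (hv : RingTheory.Sequence.IsRegular
      (MvPolynomial (Fin r) A ⧸ Ideal.span (Set.range fun i => C (t i) ^ p))
      (List.ofFn fun j => Ideal.Quotient.mk (Ideal.span (Set.range fun i => C (t i) ^ p)) (v j))) :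
    RingTheory.Sequence.IsRegular (MvPolynomial (Fin r) A)
        (List.ofFn (fun i => C (t i) ^ (p ^ 2)) ++ List.ofFn (fun j => v j ^ p)) ∧
      (Ideal.quotientMap ((Ideal.span (Set.range (fun i => C (t i) ^ p) ∪ Set.range v)).map (frobenius (MvPolynomial (Fin r) A) p)) (frobenius (MvPolynomial (Fin r) A) p) Ideal.le_comap_map).FaithfullyFlat ∧
      Quiet.IsPthRoot p (Spec.map (CommRingCat.ofHom (Ideal.quotientMap ((Ideal.span (Set.range (fun i => C (t i) ^ p) ∪ Set.range v)).map (frobenius (MvPolynomial (Fin r) A) p)) (frobenius (MvPolynomial (Fin r) A) p) Ideal.le_comap_map))) := by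
  haveI : Algebra.Smooth A (MvPolynomial (Fin r) A) := ⟨inferInstance, inferInstance⟩
  haveI : Algebra.Smooth k (MvPolynomial (Fin r) A) := Algebra.Smooth.comp k A (MvPolynomial (Fin r) A)
  obtain ⟨hFA, -⟩ := Groth.Agent.S15046.result p k A
  obtain ⟨hFP, hroot⟩ := Groth.Agent.S15046.result p k (MvPolynomial (Fin r) A)
  have htp : RingTheory.Sequence.IsRegular A (List.ofFn fun i => t i ^ p) := by
    have key : ∀ (S : Type u) [CommRing S] (φ : A →+* S), φ.FaithfullyFlat →
        RingTheory.Sequence.IsRegular S ((List.ofFn t).map φ) := by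
      intro S _ φ hφ
      letI := φ.toAlgebra
      haveI : Module.FaithfullyFlat A S := hφ
      exact ht.of_faithfullyFlat
    simpa only [List.map_ofFn, Function.comp_def, frobenius_def] using key A (frobenius A p) hFA
  haveI : Nontrivial A := by
    refine (subsingleton_or_nontrivial A).resolve_left fun hA => ht.top_ne_smul ?_
    exact Subsingleton.elim _ _
  have hC : RingTheory.Sequence.IsRegular (MvPolynomial (Fin r) A) (List.ofFn fun i => (C (t i) : MvPolynomial (Fin r) A) ^ p) := by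
    simpa only [List.map_ofFn, Function.comp_def, MvPolynomial.algebraMap_eq, map_pow] using
      htp.of_faithfullyFlat (S := MvPolynomial (Fin r) A)
  have hI : Ideal.ofList (List.ofFn fun i => (C (t i) : MvPolynomial (Fin r) A) ^ p) =
      Ideal.span (Set.range fun i => C (t i) ^ p) := by
    unfold Ideal.ofList
    congr 1
    ext x
    simp [List.mem_ofFn]
  have hreg := isRegular_append _ _ (List.ofFn v) hI hC.toIsWeaklyRegular
    (by simpa only [List.map_ofFn, Function.comp_def] using hv)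
  refine ⟨?_, faithfullyFlat_quotientMap _ hFP _, isPthRoot_pullback (isPullback_quotientMap _ _) hroot⟩
  have key : ∀ (S : Type u) [CommRing S] (φ : MvPolynomial (Fin r) A →+* S), φ.FaithfullyFlat →
      RingTheory.Sequence.IsRegular S
        ((List.ofFn (fun i => C (t i) ^ p) ++ List.ofFn v).map φ) := by
    intro S _ φ hφ
    letI := φ.toAlgebra
    haveI : Module.FaithfullyFlat (MvPolynomial (Fin r) A) S := hφ
    exact hreg.of_faithfullyFlat
  simpa only [List.map_append, List.map_ofFn, Function.comp_def, frobenius_def, ← pow_mul, ← sq] using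
    key _ (frobenius _ p) hFP

end Groth.Agent.S19480
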