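import Groth.Statements.S19482
import Groth.Agent.Lib.WeilFin11.EssFinite

set_option autoImplicit false
universe u
open CategoryTheory CategoryTheory.Limits AlgebraicGeometry
open VBCurve

namespace Groth.Agent.S19482

set_option backward.isDefEq.respectTransparency false


/-- Let X be a smooth proper integral curve over an algebraically closed field k. Say that a finite
locally free O_X-module E of rank r is essentially finite if it is slope-semistable of degree 0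
(degree = χ(E) − r·χ(O_X); semistable: every finite locally free submodule of positive rank has
degree ≤ 0) and there exist a finite locally free module G which is finite in the sense of Weil —
P(G) ≅ Q(G) for two distinct polynomials P ≠ Q with natural-number coefficients, where P(G) is the
direct sum over i of P_i copies of G^{⊗ i} — and sub-bundles F₂ ⊆ F₁ ⊆ G (monomorphisms F₂ → F₁ → G
whose cokernels are finite locally free), with F₁ and F₂ slope-semistable of degree 0, such that E ≅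
F₁/F₂. If E₁ of rank r₁ and E₂ of rank r₂ are essentially finite, then E₁ ⊗ E₂ is finite locally
free of rank r₁ r₂ and essentially finite. (The predicate is written out in full three times; the
curve is smooth, proper and integral of dimension one over an algebraically closed field, so
slope-semistability has its usual meaning.) -/
theorem result (k : Type u) [Field k] [IsAlgClosed k] (X : Scheme.{u}) [X.Over (Spec (CommRingCat.of k))]
    [IsIntegral X] [IsProper (X ↘ Spec (CommRingCat.of k))] [Smooth (X ↘ Spec (CommRingCat.of k))]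
    (hdim : topologicalKrullDim X = 1)
    (r₁ r₂ : ℕ) (E₁ E₂ : X.Modules) (hE₁ : FlatMod.IsFinLocFreeOfRank r₁ E₁) (hE₂ : FlatMod.IsFinLocFreeOfRank r₂ E₂)
    (h₁ : (Curv2.deg k X E₁ r₁ = 0 ∧ ModFun.IsSlopeSemistable k X E₁ r₁ ∧
      ∃ (s : ℕ) (G : X.Modules) (s₁ : ℕ) (F₁ : X.Modules) (s₂ : ℕ) (F₂ : X.Modules) (i₁ : F₁ ⟶ G) (i₂ : F₂ ⟶ F₁),
        FlatMod.IsFinLocFreeOfRank s G ∧
        (∃ P Q : Polynomial ℕ, P ≠ Q ∧ Nonempty ((∐ fun i : Fin (P.natDegree + 1) => ∐ fun _ : Fin (P.coeff ↑i) => CohB1.tensorPow G ↑i) ≅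
          (∐ fun i : Fin (Q.natDegree + 1) => ∐ fun _ : Fin (Q.coeff ↑i) => CohB1.tensorPow G ↑i))) ∧
        FlatMod.IsFinLocFreeOfRank s₁ F₁ ∧ FlatMod.IsFinLocFreeOfRank s₂ F₂ ∧ Mono i₁ ∧ Mono i₂ ∧
        FlatMod.IsFinLocFree (cokernel i₁) ∧ FlatMod.IsFinLocFree (cokernel i₂) ∧
        Curv2.deg k X F₁ s₁ = 0 ∧ ModFun.IsSlopeSemistable k X F₁ s₁ ∧
        Curv2.deg k X F₂ s₂ = 0 ∧ ModFun.IsSlopeSemistable k X F₂ s₂ ∧
        Nonempty (E₁ ≅ cokernel i₂)))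
    (h₂ : (Curv2.deg k X E₂ r₂ = 0 ∧ ModFun.IsSlopeSemistable k X E₂ r₂ ∧
      ∃ (s : ℕ) (G : X.Modules) (s₁ : ℕ) (F₁ : X.Modules) (s₂ : ℕ) (F₂ : X.Modules) (i₁ : F₁ ⟶ G) (i₂ : F₂ ⟶ F₁),
        FlatMod.IsFinLocFreeOfRank s G ∧
        (∃ P Q : Polynomial ℕ, P ≠ Q ∧ Nonempty ((∐ fun i : Fin (P.natDegree + 1) => ∐ fun _ : Fin (P.coeff ↑i) => CohB1.tensorPow G ↑i) ≅
          (∐ fun i : Fin (Q.natDegree + 1) => ∐ fun _ : Fin (Q.coeff ↑i) => CohB1.tensorPow G ↑i))) ∧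
        FlatMod.IsFinLocFreeOfRank s₁ F₁ ∧ FlatMod.IsFinLocFreeOfRank s₂ F₂ ∧ Mono i₁ ∧ Mono i₂ ∧
        FlatMod.IsFinLocFree (cokernel i₁) ∧ FlatMod.IsFinLocFree (cokernel i₂) ∧
        Curv2.deg k X F₁ s₁ = 0 ∧ ModFun.IsSlopeSemistable k X F₁ s₁ ∧
        Curv2.deg k X F₂ s₂ = 0 ∧ ModFun.IsSlopeSemistable k X F₂ s₂ ∧
        Nonempty (E₂ ≅ cokernel i₂))) :
    FlatMod.IsFinLocFreeOfRank (r₁ * r₂) (CohB1.tensorMod E₁ E₂) ∧
    (Curv2.deg k X (CohB1.tensorMod E₁ E₂) (r₁ * r₂) = 0 ∧ ModFun.IsSlopeSemistable k X (CohB1.tensorMod E₁ E₂) (r₁ * r₂) ∧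
      ∃ (s : ℕ) (G : X.Modules) (s₁ : ℕ) (F₁ : X.Modules) (s₂ : ℕ) (F₂ : X.Modules) (i₁ : F₁ ⟶ G) (i₂ : F₂ ⟶ F₁),
        FlatMod.IsFinLocFreeOfRank s G ∧
        (∃ P Q : Polynomial ℕ, P ≠ Q ∧ Nonempty ((∐ fun i : Fin (P.natDegree + 1) => ∐ fun _ : Fin (P.coeff ↑i) => CohB1.tensorPow G ↑i) ≅
          (∐ fun i : Fin (Q.natDegree + 1) => ∐ fun _ : Fin (Q.coeff ↑i) => CohB1.tensorPow G ↑i))) ∧
        FlatMod.IsFinLocFreeOfRank s₁ F₁ ∧ FlatMod.IsFinLocFreeOfRank s₂ F₂ ∧ Mono i₁ ∧ Mono i₂ ∧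
        FlatMod.IsFinLocFree (cokernel i₁) ∧ FlatMod.IsFinLocFree (cokernel i₂) ∧
        Curv2.deg k X F₁ s₁ = 0 ∧ ModFun.IsSlopeSemistable k X F₁ s₁ ∧
        Curv2.deg k X F₂ s₂ = 0 ∧ ModFun.IsSlopeSemistable k X F₂ s₂ ∧
        Nonempty ((CohB1.tensorMod E₁ E₂) ≅ cokernel i₂)) := by
  have hd := hdim.le
  have hpid := GrothLib.Euler.isPrincipalIdealRing_stalk_of_smooth (X ↘ Spec (CommRingCat.of k)) hd
  obtain ⟨hd₁, -, s, G, a, F, c, K, i, j, hG, hW, hF, hK, hi, hj, hci, hcj, hFd, hFs, hKd, hKs, he⟩ := h₁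
  obtain ⟨hd₂, -, s', G', a', F', c', K', i', j', hG', hW', hF', hK', hi', hj', hci', hcj', hFd', hFs', hKd', hKs', he'⟩ := h₂
  have hGl := GrothLib.FinCov.isFinLocFree_of_rank hG
  have hGl' := GrothLib.FinCov.isFinLocFree_of_rank hG'
  have D₁ : GrothLib.WeilFin11.EssData k E₁ := ⟨⟨s, G, a, F, c, K, i, j, hG, (GrothLib.WeilFin11.weilFinite_iff k hGl).1 hW,
    hF, hK, hi, hj, hci, hcj, GrothLib.WeilFin11.ss0_of k hF hFd hFs, GrothLib.WeilFin11.ss0_of k hK hKd hKs, he⟩⟩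
  have D₂ : GrothLib.WeilFin11.EssData k E₂ := ⟨⟨s', G', a', F', c', K', i', j', hG', (GrothLib.WeilFin11.weilFinite_iff k hGl').1 hW',
    hF', hK', hi', hj', hci', hcj', GrothLib.WeilFin11.ss0_of k hF' hFd' hFs', GrothLib.WeilFin11.ss0_of k hK' hKd' hKs', he'⟩⟩
  have hEE := GrothLib.WeilFin11.isFinLocFreeOfRank_tensor hE₁ hE₂
  rw [GrothLib.Euler.deg_eq_degree k hE₁] at hd₁
  rw [GrothLib.Euler.deg_eq_degree k hE₂] at hd₂
  obtain ⟨hS, ⟨t, H, b, A, e, B, u, v, hH, hHT, hA, hB, hu, hv, hcu, hcv, hAs, hBs, hiso⟩⟩ :=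
    D₁.tensor k hd hpid hE₁ hE₂ hd₁ hd₂ D₂
  exact ⟨hEE, (hS.spec k hEE).1, (hS.spec k hEE).2, t, H, b, A, e, B, u, v, hH,
    (GrothLib.WeilFin11.weilFinite_iff k (GrothLib.FinCov.isFinLocFree_of_rank hH)).2 hHT, hA, hB, hu, hv, hcu, hcv,
    (hAs.spec k hA).1, (hAs.spec k hA).2, (hBs.spec k hB).1, (hBs.spec k hB).2, hiso⟩

end Groth.Agent.S19482
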