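import Groth.Statements.S19484
import Groth.Agent.Lib.CurveSupp9.Basic

set_option autoImplicit false
universe u
open CategoryTheory CategoryTheory.Limits AlgebraicGeometry
open Curves

namespace Groth.Agent.S19484

/-- Let k be a separably closed field and C a curve over k, that is a scheme of finite type over k of
dimension at most one (no connectedness, smoothness, separatedness or properness assumed). Let φ : F
→ G be a morphism of torsion abelian sheaves on the small étale site of C which induces an
isomorphism on stalks at every geometric point of C lying over a generic point of an irreducible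
component (a point admitting no proper generalization). Then the induced map H^q(C_ét, F) →
H^q(C_ét, G) is an isomorphism for all q > 1; if moreover φ is an epimorphism, it is an isomorphism
for q = 1 as well. (The published statement fixes one geometric point over each generic point; the
dimension is taken at most one here.) -/
theorem result
    (k : Type u) [Field k] [IsSepClosed k] (C : Scheme.{u})
    (f : C ⟶ Spec (CommRingCat.of k)) [LocallyOfFiniteType f] [QuasiCompact f]
    (hdim : topologicalKrullDim C ≤ 1) (F G : EtCoh.Ab C) (hF : EtCoh.IsTorsion F) (hG : EtCoh.IsTorsion G)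
    (φ : F ⟶ G)
    (hgen : ∀ (Ω : Type u) [Field Ω] [IsSepClosed Ω] (ξ : Spec (CommRingCat.of Ω) ⟶ C),
      (∀ x ∈ Set.range ξ.base, ∀ y : C, y ⤳ x → y = x) → IsIso ((EtCoh.stalk ξ).map φ)) :
    (∀ q : ℕ, 1 < q → IsIso ((EtCoh.HF C q).map φ)) ∧ (Epi φ → IsIso ((EtCoh.HF C 1).map φ)) := by
  haveI : CompactSpace C := QuasiCompact.compactSpace_of_compactSpace f
  haveI : IsLocallyNoetherian C := LocallyOfFiniteType.isLocallyNoetherian f
  haveI : AlgebraicGeometry.IsNoetherian C := {}
  haveI : JacobsonSpace C := LocallyOfFiniteType.jacobsonSpace f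
  have hsep := fun x hx => GrothLib.CurveSupp9.isSepClosed_residueField f x hx
  have h : ∀ (Ω : Type u) [Field Ω] [IsSepClosed Ω] (ξ : Spec (CommRingCat.of Ω) ⟶ C),
      ¬ IsClosed ({ξ.base (default : Spec (CommRingCat.of Ω))} : Set C) → IsIso ((EtCoh.stalk ξ).map φ) := by
    intro Ω _ _ ξ hξ
    refine hgen Ω ξ ?_
    rintro _ ⟨p, rfl⟩ y hy
    rw [Subsingleton.elim p default] at hy ⊢
    exact GrothLib.CurveSupp9.maximal_of_not_isClosed hdim _ hξ y hy
  refine ⟨fun q hq => ?_, fun _ => ?_⟩
  · have e := Abelian.image.fac φ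
    haveI : Epi (Abelian.factorThruImage φ) := inferInstance
    have hp : GrothLib.CurveSupp9.IsPtSupp (kernel (Abelian.factorThruImage φ)) :=
      GrothLib.CurveSupp9.isPtSupp_kernel _ fun Ω _ _ ξ hξ => by
        haveI := h Ω ξ hξ
        haveI : Mono ((EtCoh.stalk ξ).map (Abelian.factorThruImage φ) ≫ (EtCoh.stalk ξ).map (Abelian.image.ι φ)) := by
          rw [← Functor.map_comp, e]; infer_instance
        haveI : Mono ((EtCoh.stalk ξ).map (Abelian.factorThruImage φ)) := mono_of_mono _ ((EtCoh.stalk ξ).map (Abelian.image.ι φ))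
        exact isIso_of_mono_of_epi _
    have hi : GrothLib.CurveSupp9.IsPtSupp (cokernel (Abelian.image.ι φ)) :=
      GrothLib.CurveSupp9.isPtSupp_cokernel _ fun Ω _ _ ξ hξ => by
        haveI := h Ω ξ hξ
        haveI : Epi ((EtCoh.stalk ξ).map (Abelian.factorThruImage φ) ≫ (EtCoh.stalk ξ).map (Abelian.image.ι φ)) := by
          rw [← Functor.map_comp, e]; infer_instance
        haveI : Epi ((EtCoh.stalk ξ).map (Abelian.image.ι φ)) := epi_of_epi ((EtCoh.stalk ξ).map (Abelian.factorThruImage φ)) _
        exact isIso_of_mono_of_epi _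
    rw [ConcreteCategory.isIso_iff_bijective]
    have hcomp := (GrothLib.CurveSupp9.bijective_of_mono hsep (Abelian.image.ι φ) hi q hq).comp
      (GrothLib.CurveSupp9.bijective_of_epi hsep (Abelian.factorThruImage φ) hp q hq.le)
    suffices hh : Function.Bijective fun x : EtCoh.H C F q => Abelian.Ext.comp x (Abelian.Ext.mk₀ φ) (add_zero q) from hh
    have e' : (fun x : EtCoh.H C F q => Abelian.Ext.comp x (Abelian.Ext.mk₀ φ) (add_zero q)) =
        (fun x => Abelian.Ext.comp x (Abelian.Ext.mk₀ (Abelian.image.ι φ)) (add_zero q)) ∘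
          (fun x => Abelian.Ext.comp x (Abelian.Ext.mk₀ (Abelian.factorThruImage φ)) (add_zero q)) := funext fun x => by
      simp only [Function.comp_apply]
      rw [Abelian.Ext.comp_assoc_of_third_deg_zero, Abelian.Ext.mk₀_comp_mk₀, e]
    rw [e']
    exact hcomp
  · rw [ConcreteCategory.isIso_iff_bijective]
    exact GrothLib.CurveSupp9.bijective_of_epi hsep φ (GrothLib.CurveSupp9.isPtSupp_kernel φ h) 1 le_rfl

end Groth.Agent.S19484
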