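import Groth.Statements.S19485
import Groth.Agent.Lib.Crimp.Triple

set_option autoImplicit false
universe u
open Crimp

namespace Groth.Agent.S19485

/-- The criterion for closedness under multiplication on which the description of the stratum rests.
Over R = k⟦t⟧ with k an algebraically closed field of characteristic zero, let S̃ = k⟦x⟧ regarded as
an R-algebra through t ↦ x ^ 3, that is S̃ = R[x] / (x ^ 3 - t). Let m, n be natural numbers with m
not divisible by 3, and let g be a power series with nonzero constant term. Then the R-submodule of
S̃ spanned by 1 and x ^ m g together with the ideal x ^ n S̃ is closed under multiplication if and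
only if n ≤ 2m. (The published proposition goes on to describe the stratum of crimps with these
invariants as irreducible of dimension ⌊(n - m)/3⌋ with a normal form for g; only the closedness
criterion is stated here.) -/
theorem result {k : Type u} [Field k] [IsAlgClosed k] [CharZero k]
    (m n : ℕ) (hm : ¬ 3 ∣ m) (x g : W4c1hurwitzcpt.RootDisk 3 k)
    (hx : W4c1hurwitzcpt.RootDisk.val x = PowerSeries.X) (hg : PowerSeries.order (W4c1hurwitzcpt.RootDisk.val g) = 0)
    (M : Submodule (PowerSeries k) (W4c1hurwitzcpt.RootDisk 3 k))
    (hM : M = Submodule.span (PowerSeries k) {1, x ^ m * g} ⊔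
      (Ideal.span {x ^ n} : Ideal (W4c1hurwitzcpt.RootDisk 3 k)).restrictScalars (PowerSeries k)) :
    (∀ a ∈ M, ∀ b ∈ M, a * b ∈ M) ↔ n ≤ 2 * m := by
  exact Crimp.span_mul_closed_iff m n hm x g hx hg M hM

end Groth.Agent.S19485
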