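import Groth.Statements.S19486
import Mathlib

set_option autoImplicit false
universe u
open Crimp

namespace Groth.Agent.S19486

/-- The emptiness of the stratum rests on the following computation. Over R = k⟦t⟧ with k an
algebraically closed field of characteristic zero, let S̃ = S̃₁ × R where S̃₁ = k⟦x⟧ is regarded as
an R-algebra through t ↦ x ^ 2, that is S̃₁ = R[x] / (x ^ 2 - t), with R embedded diagonally in the
product. Let m be odd, n > 2m, and let g be a power series with nonzero constant term. Then the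
R-submodule of S̃ spanned by 1 = (1, 1) and (x ^ m g, 0) together with the ideal x ^ n S̃₁ × 0 is
not closed under multiplication. (The published item concludes that the corresponding stratum of
crimps is empty; only this computation is stated here, with the ideal read as x ^ n S̃₁ × 0.) -/
theorem result {k : Type u} [Field k] [IsAlgClosed k] [CharZero k]
    (m n : ℕ) (hm : Odd m) (hmn : 2 * m < n) (x g : W4c1hurwitzcpt.RootDisk 2 k)
    (hx : W4c1hurwitzcpt.RootDisk.val x = PowerSeries.X) (hg : PowerSeries.order (W4c1hurwitzcpt.RootDisk.val g) = 0)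
    (M : Submodule (PowerSeries k) (W4c1hurwitzcpt.RootDisk 2 k × PowerSeries k))
    (hM : M = Submodule.span (PowerSeries k) {(1 : W4c1hurwitzcpt.RootDisk 2 k × PowerSeries k), (x ^ m * g, 0)} ⊔
      ((Ideal.span {x ^ n} : Ideal (W4c1hurwitzcpt.RootDisk 2 k)).restrictScalars (PowerSeries k)).prod ⊥) :
    ∃ a ∈ M, ∃ b ∈ M, a * b ∉ M := by
  have hmem : (x ^ m * g, 0) ∈ M := hM ▸ Submodule.mem_sup_left (Submodule.subset_span (by simp))
  refine ⟨_, hmem, _, hmem, fun h => ?_⟩
  rw [hM] at h
  obtain ⟨y, hy, z, hz, e⟩ := Submodule.mem_sup.1 h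
  rw [Submodule.mem_span_pair] at hy
  obtain ⟨a, b, rfl⟩ := hy
  obtain ⟨hz1, hz2⟩ := Submodule.mem_prod.1 hz
  rw [Submodule.mem_bot] at hz2
  obtain ⟨c, hc⟩ := Ideal.mem_span_singleton'.1 (Submodule.restrictScalars_mem _ _ _ |>.1 hz1)
  have e2 := congrArg Prod.snd e
  simp only [Prod.snd_add, Prod.smul_snd, Prod.snd_one, smul_eq_mul, mul_one, smul_zero, add_zero, hz2,
    Prod.snd_mul, mul_zero] at e2
  subst e2
  have e1 := congrArg (fun q => W4c1hurwitzcpt.RootDisk.val q.1) e
  simp only [Prod.fst_add, Prod.smul_fst, Prod.fst_one, zero_smul, zero_add, Prod.fst_mul, ← hc, map_add,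
    map_mul, map_pow, Algebra.smul_def, RingHom.map_mul, map_zero, zero_mul] at e1
  rw [hx] at e1
  set G := W4c1hurwitzcpt.RootDisk.val g
  set B : PowerSeries k := PowerSeries.expand 2 (NeZero.ne 2) b
  rw [show W4c1hurwitzcpt.RootDisk.val (algebraMap (PowerSeries k) (W4c1hurwitzcpt.RootDisk 2 k × PowerSeries k) b).1 = B from rfl] at e1
  have hG : PowerSeries.constantCoeff G ≠ 0 := PowerSeries.order_eq_nat.1 (by exact_mod_cast hg) |>.1 |> (by simpa using ·)
  have hcoef : ∀ j, (PowerSeries.X : PowerSeries k) ^ (2 * j) ∣ B → 2 * j + m < 2 * m →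
      PowerSeries.coeff (2 * j) B = 0 := by
    intro j hdvd hlt
    obtain ⟨B', hB'⟩ := hdvd
    have h3 := congrArg (PowerSeries.coeff (2 * j + m)) e1
    rw [map_add, hB', show PowerSeries.X ^ (2 * j) * B' * (PowerSeries.X ^ m * G) = PowerSeries.X ^ (2 * j + m) * (B' * G) by ring,
      mul_comm (W4c1hurwitzcpt.RootDisk.val c), show PowerSeries.X ^ m * G * (PowerSeries.X ^ m * G) = PowerSeries.X ^ (2 * m) * (G * G) by ring,
      PowerSeries.coeff_X_pow_mul', PowerSeries.coeff_X_pow_mul', PowerSeries.coeff_X_pow_mul', if_pos le_rfl,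
      if_neg (by omega), if_neg (by omega), add_zero, Nat.sub_self, PowerSeries.coeff_zero_eq_constantCoeff_apply,
      map_mul] at h3
    rw [hB', PowerSeries.coeff_X_pow_mul', if_pos le_rfl, Nat.sub_self, PowerSeries.coeff_zero_eq_constantCoeff_apply]
    exact (mul_eq_zero.1 h3).resolve_right hG
  have hdvd : ∀ l, l ≤ m + 1 → (PowerSeries.X : PowerSeries k) ^ l ∣ B := by
    intro l
    induction l with
    | zero => intro _; exact one_dvd _
    | succ l ih =>
      intro hl
      rw [PowerSeries.X_pow_dvd_iff]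
      intro q hq
      rcases Nat.lt_succ_iff_lt_or_eq.1 hq with hq | rfl
      · exact PowerSeries.X_pow_dvd_iff.1 (ih (by omega)) q hq
      rcases Nat.even_or_odd q with ⟨j, rfl⟩ | ho
      · have := hcoef j (by rw [two_mul]; exact ih (by omega)) (by obtain ⟨t, ht⟩ := hm; omega)
        rwa [two_mul] at this
      · exact PowerSeries.coeff_expand_of_not_dvd 2 (NeZero.ne 2) b (fun h => by rcases ho with ⟨t, rfl⟩; omega)
  obtain ⟨B', hB'⟩ := hdvd (m + 1) le_rfl
  have h3 := congrArg (PowerSeries.coeff (2 * m)) e1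
  rw [map_add, hB', show PowerSeries.X ^ (m + 1) * B' * (PowerSeries.X ^ m * G) = PowerSeries.X ^ (2 * m + 1) * (B' * G) by ring,
    mul_comm (W4c1hurwitzcpt.RootDisk.val c), show PowerSeries.X ^ m * G * (PowerSeries.X ^ m * G) = PowerSeries.X ^ (2 * m) * (G * G) by ring,
    PowerSeries.coeff_X_pow_mul', PowerSeries.coeff_X_pow_mul', PowerSeries.coeff_X_pow_mul', if_neg (by omega),
    if_neg (by omega), if_pos le_rfl, Nat.sub_self, PowerSeries.coeff_zero_eq_constantCoeff_apply, map_mul,
    add_zero] at h3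
  exact hG ((mul_self_eq_zero.1 h3.symm))

end Groth.Agent.S19486
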