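import Groth.Agent.Lib.K0Sub.Killed

set_option autoImplicit false
universe u
open CategoryTheory CategoryTheory.Limits AlgebraicGeometry

namespace Groth.Agent.S19488

/-- Fix a closed immersion of schemes f : S → T, an O_T-module G, an O_S-module E and an epimorphism ψ :
G → f_*E. Then the morphism ψ′ : f^*G → E that corresponds to ψ under the adjunction between
pullback and pushforward (it is the pullback f^*ψ followed by the counit f^*f_*E → E, an isomorphism
for a closed immersion) is an epimorphism, and the canonical map f^*(ker ψ) → ker(f^*ψ) is an
epimorphism. (The published statement takes G and E locally free, which these two assertions do not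
use.) -/
theorem result
    {S T : Scheme.{u}} (f : S ⟶ T) [IsClosedImmersion f] (G : T.Modules) (E : S.Modules)
    (ψ : G ⟶ (Scheme.Modules.pushforward f).obj E) [Epi ψ] :
    Epi (((Scheme.Modules.pullbackPushforwardAdjunction f).homEquiv G E).symm ψ) ∧
      Epi (kernelComparison ψ (Scheme.Modules.pullback f)) := by
  have hF : (Scheme.Modules.pushforward f).Faithful := GrothLib.K0Sub.faithful_push f
  let adj := Scheme.Modules.pullbackPushforwardAdjunction f
  haveI : PreservesColimitsOfSize.{u, u} (Scheme.Modules.pullback f) := adj.leftAdjoint_preservesColimits
  haveI : Epi (adj.counit.app E) := adj.counit_epi_of_R_faithful E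
  refine ⟨?_, ?_⟩
  · rw [Adjunction.homEquiv_counit]
    infer_instance
  · haveI : (Scheme.Modules.pullback f).Additive := adj.left_adjoint_additive
    have hS : (ShortComplex.mk (kernel.ι ψ) ψ (kernel.condition ψ)).Exact :=
      ShortComplex.exact_of_f_is_kernel _ (kernelIsKernel ψ)
    have hFS : (ShortComplex.mk ((Scheme.Modules.pullback f).map (kernel.ι ψ))
        ((Scheme.Modules.pullback f).map ψ) (by rw [← Functor.map_comp, kernel.condition, Functor.map_zero])).Exact :=
      hS.map_of_epi_of_preservesCokernel (Scheme.Modules.pullback f) (inferInstanceAs (Epi ψ)) inferInstance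
    exact hFS.epi_kernelLift

end Groth.Agent.S19488
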