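import Groth.Statements.S19489
-- import your own Groth.Agent.* helpers here
import Mathlib.Algebra.CharP.Lemmas
import Mathlib.Algebra.MvPolynomial.Expand
import Mathlib.FieldTheory.Finite.Basic
import Mathlib.FieldTheory.Finite.Polynomial
import Mathlib.RingTheory.Localization.Integer
import Mathlib.LinearAlgebra.Dimension.Finite

set_option autoImplicit false
open scoped TensorProduct
open ZeroCyc

namespace Groth.Agent.S19489

open TensorProduct

variable (p : ℕ) [Fact p.Prime] (k : Type) [Field k] [CharP k p]

lemma add_pow_p (S : Type) [CommSemiring S] [Algebra k S] (x y : S) : (x + y) ^ p = x ^ p + y ^ p := by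
  obtain ⟨r, hr⟩ := exists_add_pow_prime_eq (Fact.out : p.Prime) x y
  have hp0 : ((p : ℕ) : S) = 0 := by rw [← map_natCast (algebraMap k S), CharP.cast_eq_zero, map_zero]
  rw [hr, hp0]
  simp

/-- The map `s ⊗ a ↦ s ^ p ⊗ a`. -/
noncomputable def frobFun (S : Type) [CommSemiring S] [Algebra k S] : S ⊗[k] FrobAlg.Twist p k →+ S ⊗[k] k :=
  TensorProduct.liftAddHom
    { toFun := fun s =>
        { toFun := fun a => (s ^ p) ⊗ₜ[k] (FrobAlg.toTwist p k).symm a
          map_zero' := by simp
          map_add' := fun a b => by rw [map_add, TensorProduct.tmul_add] }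
      map_zero' := AddMonoidHom.ext fun a => by simp [(Fact.out : p.Prime).ne_zero]
      map_add' := fun s t => AddMonoidHom.ext fun a => by
        simp [add_pow_p p k, TensorProduct.add_tmul] }
    fun c s a => by
      show ((c • s) ^ p) ⊗ₜ[k] (FrobAlg.toTwist p k).symm a = (s ^ p) ⊗ₜ[k] (FrobAlg.toTwist p k).symm (c • a)
      rw [Algebra.smul_def (A := FrobAlg.Twist p k), map_mul, FrobAlg.algebraMap_twist, RingEquiv.symm_apply_apply,
        ← smul_eq_mul (c ^ p), TensorProduct.tmul_smul, TensorProduct.smul_tmul', smul_pow]

lemma frobFun_tmul (S : Type) [CommSemiring S] [Algebra k S] (s : S) (a : FrobAlg.Twist p k) :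
    frobFun p k S (s ⊗ₜ[k] a) = (s ^ p) ⊗ₜ[k] (FrobAlg.toTwist p k).symm a := rfl

/-- The Frobenius law. -/
noncomputable def frobLaw : PolLaw.MulLaw k (FrobAlg.Twist p k) k p where
  law :=
    { toFun' := fun S _ _ => frobFun p k S
      isCompat' := fun φ => by
        funext x
        induction x using TensorProduct.induction_on with
        | zero => simp
        | tmul s a => simp [frobFun_tmul]
        | add x y hx hy =>
          simp only [Function.comp_apply] at hx hy ⊢
          simp only [map_add, hx, hy] }
  homog S _ _ s x := by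
    show frobFun p k S (s • x) = s ^ p • frobFun p k S x
    induction x using TensorProduct.induction_on with
    | zero => simp
    | tmul t a => simp [TensorProduct.smul_tmul', frobFun_tmul, mul_pow]
    | add x y hx hy => simp only [smul_add, map_add, hx, hy]
  mult S _ _ := by
    refine ⟨?_, fun x y => ?_⟩
    · show frobFun p k S 1 = 1
      rw [Algebra.TensorProduct.one_def, frobFun_tmul, one_pow, map_one, Algebra.TensorProduct.one_def]
    · show frobFun p k S (x * y) = frobFun p k S x * frobFun p k S y
      induction x using TensorProduct.induction_on with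
      | zero => simp
      | add a b ha hb => simp only [add_mul, map_add, ha, hb]
      | tmul s a =>
        induction y using TensorProduct.induction_on with
        | zero => simp
        | add u v hu hv => simp only [mul_add, map_add, hu, hv]
        | tmul t b => simp [frobFun_tmul, mul_pow]

end Groth.Agent.S19489

namespace Groth.Agent.S19489

/-- Let p be a prime, k = F_p(t_0, t_1, …) the field of rational functions over F_p in countably many
variables, and K = k^{1/p} = F_p(t_0^{1/p}, t_1^{1/p}, …), modelled here as a copy of k made into a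
k-algebra through the Frobenius b ↦ b ^ p (under a ↦ a ^ p the extension k ⊆ k^{1/p} becomes this
algebra). Then a ↦ a ^ p is a multiplicative polynomial law from K to k over k, homogeneous of
degree p: there is such a law sending s ⊗ a to s ^ p ⊗ a ^ p on every test algebra S, where a ^ p is
read in k. Every such law has zero kernel, so the support of the corresponding family of zero-cycles
of degree p on Spec K over Spec k is all of Spec K; and K is not finite over k. Thus the support of
a family of zero-cycles need not be finite over the base. -/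
theorem result (p : ℕ) [Fact p.Prime] :
    (∃ F : PolLaw.MulLaw (FractionRing (MvPolynomial ℕ (ZMod p))) (FrobAlg.Twist p (FractionRing (MvPolynomial ℕ (ZMod p)))) (FractionRing (MvPolynomial ℕ (ZMod p))) p,
      ∀ (S : Type) [CommSemiring S] [Algebra (FractionRing (MvPolynomial ℕ (ZMod p))) S] (s : S) (a : FrobAlg.Twist p (FractionRing (MvPolynomial ℕ (ZMod p)))),
        F.law.toFun' S (s ⊗ₜ[FractionRing (MvPolynomial ℕ (ZMod p))] a) =
          (s ^ p) ⊗ₜ[FractionRing (MvPolynomial ℕ (ZMod p))] (FrobAlg.toTwist p (FractionRing (MvPolynomial ℕ (ZMod p)))).symm a) ∧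
    (∀ F : PolLaw.MulLaw (FractionRing (MvPolynomial ℕ (ZMod p))) (FrobAlg.Twist p (FractionRing (MvPolynomial ℕ (ZMod p)))) (FractionRing (MvPolynomial ℕ (ZMod p))) p,
      (∀ (S : Type) [CommSemiring S] [Algebra (FractionRing (MvPolynomial ℕ (ZMod p))) S] (s : S) (a : FrobAlg.Twist p (FractionRing (MvPolynomial ℕ (ZMod p)))),
        F.law.toFun' S (s ⊗ₜ[FractionRing (MvPolynomial ℕ (ZMod p))] a) =
          (s ^ p) ⊗ₜ[FractionRing (MvPolynomial ℕ (ZMod p))] (FrobAlg.toTwist p (FractionRing (MvPolynomial ℕ (ZMod p)))).symm a) →
      PolLaw.ker F.law = ⊥) ∧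
    ¬ Module.Finite (FractionRing (MvPolynomial ℕ (ZMod p))) (FrobAlg.Twist p (FractionRing (MvPolynomial ℕ (ZMod p)))) := by
  classical
  have hp : p.Prime := Fact.out
  refine ⟨⟨Groth.Agent.S19489.frobLaw p (FractionRing (MvPolynomial ℕ (ZMod p))),
    fun S _ _ s a => Groth.Agent.S19489.frobFun_tmul p _ S s a⟩, fun F hF => ?_, ?_⟩
  · refine eq_bot_iff.mpr fun b hb => ?_
    by_contra hb0
    have hb0' : (FrobAlg.toTwist p (FractionRing (MvPolynomial ℕ (ZMod p)))).symm b ≠ 0 := fun h => hb0 (by
      have := congrArg (FrobAlg.toTwist p (FractionRing (MvPolynomial ℕ (ZMod p)))) h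
      simpa using this)
    have h := hb (FractionRing (MvPolynomial ℕ (ZMod p))) 0 1
    rw [zero_add, one_mul, hF] at h
    have h0 : F.law.toFun' (FractionRing (MvPolynomial ℕ (ZMod p))) 0 = 0 := by
      have := hF (FractionRing (MvPolynomial ℕ (ZMod p))) 0 0
      rwa [TensorProduct.zero_tmul, zero_pow hp.ne_zero, TensorProduct.zero_tmul] at this
    rw [h0, one_pow] at h
    have h1 := congrArg (TensorProduct.lid (FractionRing (MvPolynomial ℕ (ZMod p))) (FractionRing (MvPolynomial ℕ (ZMod p)))) h
    rw [TensorProduct.lid_tmul, one_smul, map_zero] at h1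
    exact hb0' h1
  · intro hfin
    have hli : LinearIndependent (FractionRing (MvPolynomial ℕ (ZMod p)))
        (fun i : ℕ => FrobAlg.toTwist p (FractionRing (MvPolynomial ℕ (ZMod p)))
          (algebraMap (MvPolynomial ℕ (ZMod p)) (FractionRing (MvPolynomial ℕ (ZMod p))) (MvPolynomial.X i))) := by
      rw [linearIndependent_iff']
      intro t g hg j hj
      obtain ⟨c, hc⟩ := IsLocalization.exist_integer_multiples (nonZeroDivisors (MvPolynomial ℕ (ZMod p))) t g
      choose! q hq using hc
      let f := algebraMap (MvPolynomial ℕ (ZMod p)) (FractionRing (MvPolynomial ℕ (ZMod p)))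
      have h1 : ∑ i ∈ t, (g i) ^ p * f (MvPolynomial.X i) = 0 := by
        have := congrArg (FrobAlg.toTwist p (FractionRing (MvPolynomial ℕ (ZMod p)))).symm hg
        rw [map_zero, map_sum] at this
        refine Eq.trans (Finset.sum_congr rfl fun i _ => ?_) this
        rw [Algebra.smul_def, FrobAlg.algebraMap_twist, map_mul, RingEquiv.symm_apply_apply,
          RingEquiv.symm_apply_apply]
      have h2 : ∑ i ∈ t, (q i) ^ p * MvPolynomial.X i = 0 := by
        refine IsFractionRing.injective (MvPolynomial ℕ (ZMod p)) (FractionRing (MvPolynomial ℕ (ZMod p))) ?_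
        rw [map_zero, map_sum]
        calc ∑ i ∈ t, f ((q i) ^ p * MvPolynomial.X i)
            = ∑ i ∈ t, (f c.1) ^ p * ((g i) ^ p * f (MvPolynomial.X i)) := Finset.sum_congr rfl fun i hi => by
              rw [map_mul, map_pow, hq i hi, Algebra.smul_def, mul_pow, mul_assoc]
          _ = 0 := by rw [← Finset.mul_sum, h1, mul_zero]
      have hqj : q j = 0 := by
        ext μ
        rw [MvPolynomial.coeff_zero]
        have h3 := congrArg (MvPolynomial.coeff (p • μ + Finsupp.single j 1)) h2
        rw [MvPolynomial.coeff_zero, MvPolynomial.coeff_sum, Finset.sum_eq_single j] at h3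
        · rw [MvPolynomial.coeff_mul_X, ← MvPolynomial.expand_zmod] at h3
          rwa [MvPolynomial.coeff_expand_smul _ hp.ne_zero] at h3
        · intro i _ hij
          rw [MvPolynomial.coeff_mul_X', ← MvPolynomial.expand_zmod]
          split_ifs with hmem
          · refine MvPolynomial.coeff_expand_of_not_dvd _ (i := j) ?_
            simp [Finsupp.single_apply, hij, Nat.dvd_add_right, hp.ne_one]
          · rfl
        · exact fun h => absurd hj h
      have hcf : f c.1 ≠ 0 := IsFractionRing.to_map_ne_zero_of_mem_nonZeroDivisors c.2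
      have := hq j hj
      rw [hqj, map_zero, Algebra.smul_def] at this
      exact (mul_eq_zero.mp this.symm).resolve_left hcf
    exact absurd hli.finite (not_finite_iff_infinite.mpr inferInstance)

end Groth.Agent.S19489
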