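import Groth.Statements.S19490
import Groth.Agent.Lib.HypVan12.ChiY
-- import your own Groth.Agent.* helpers here

set_option autoImplicit false
universe u
open CategoryTheory CategoryTheory.Limits AlgebraicGeometry
open LefPen

namespace Groth.Agent.S19490

/-- Let k be an algebraically closed field of characteristic zero and a ≥ 1. For every n ≥ 0 let Z_{n+1}
⊂ P^{n+1}_k be the zero scheme of a form of degree a, smooth over k of relative dimension n (a
smooth hypersurface of degree a), and let χ_y(Z_{n+1}) = Σ_p χ(Z_{n+1}, Ω^p) y^p = Σ_{p, q ≤ n}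
(−1)^q dim_k H^q(Z_{n+1}, Ω^p) y^p ∈ ℤ[y] be its Hirzebruch genus, where Ω^p is any p-th exterior
power of the sheaf of differentials of Z_{n+1} over k and cohomology carries the k-structure coming
from the structure morphism. Then, with y ∈ ℤ[y] viewed as a constant power series in z, the
generating series Σ_{n ≥ 1} χ_y(Z_n) z^n ∈ ℤ[y]⟦z⟧ equals ((1 + yz)^a − (1 − z)^a) / ((1 − z)(1 +
yz)((1 + yz)^a + y(1 − z)^a)); it is stated here cleared of denominators, the denominator having
constant term 1 + y. (The published series starts at n = 0, where both sides vanish; the published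
setting is over the complex numbers.) -/
theorem result (k : Type u) [Field k] [IsAlgClosed k] [CharZero k]
    (a : ℕ) (ha : 1 ≤ a) (G : ∀ n : ℕ, LefPen.Form (n + 1) k a)
    [∀ n : ℕ, SmoothOfRelativeDimension n ((LefPen.hypIdeal (G n)).subschemeι ≫ CohB1.ProjSpace.toSpec (n + 1) k)]
    [hO : ∀ n : ℕ, (LefPen.hypIdeal (G n)).subscheme.Over (Spec (CommRingCat.of k))]
    (hover : ∀ n : ℕ, (LefPen.hypIdeal (G n)).subscheme ↘ Spec (CommRingCat.of k) = ((LefPen.hypIdeal (G n)).subschemeι ≫ CohB1.ProjSpace.toSpec (n + 1) k))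
    (L : ∀ n : ℕ, ℕ → (LefPen.hypIdeal (G n)).subscheme.Modules)
    (hL : ∀ n p : ℕ, ExtPow.IsExtPow p (Omega.sheaf ((LefPen.hypIdeal (G n)).subschemeι ≫ CohB1.ProjSpace.toSpec (n + 1) k)) (L n p))
    (χ : ℕ → Polynomial ℤ)
    (hχ : ∀ n : ℕ, χ n = ∑ p ∈ Finset.range (n + 1),
      Polynomial.C (∑ q ∈ Finset.range (n + 1), (-1 : ℤ) ^ q * (Module.finrank k (Coh.HH (LefPen.hypIdeal (G n)).subscheme (L n p) q) : ℤ)) *
        Polynomial.X ^ p)
    (y : PowerSeries (Polynomial ℤ)) (hy : y = PowerSeries.C (Polynomial.X : Polynomial ℤ)) :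
    (1 - PowerSeries.X) * (1 + y * PowerSeries.X) *
        ((1 + y * PowerSeries.X) ^ a + y * (1 - PowerSeries.X) ^ a) *
        (PowerSeries.X * PowerSeries.mk χ) =
      (1 + y * PowerSeries.X) ^ a - (1 - PowerSeries.X) ^ a := by
  choose c hv h0 hs hc using fun n => GrothLib.HypVan12.exists_chi ha (G n) (hover n)
  have h := GrothLib.HypVan12.hirzebruch_series a c hv h0 hs y hy
  have e : PowerSeries.mk χ = PowerSeries.mk fun n =>
      ∑ p ∈ Finset.range (n + 1), Polynomial.C (c n p 0) * Polynomial.X ^ p := by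
    refine congrArg PowerSeries.mk (funext fun n => ?_)
    rw [hχ n]
    exact Finset.sum_congr rfl fun p _ => by rw [hc n p (L n p) (hL n p)]
  rw [e]
  exact h

end Groth.Agent.S19490
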