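import Groth.Statements.S19492
import Groth.Agent.Lib.NormCompl5.Basic

set_option autoImplicit false
universe u
open CategoryTheory AlgebraicGeometry
open Variety

namespace Groth.Agent.S19492

/-- Over an algebraically closed field k, let X be an irreducible affine variety (an integral affine
k-scheme of finite type). Then X is an open subvariety of an irreducible projective variety: there
are an integral k-scheme Y admitting a closed immersion over k into a projective space Pⁿ_k and an
open immersion j : X → Y over k. If X is normal (every local ring an integrally closed domain), then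
Y can be chosen normal as well. -/
theorem result (k : Type u) [Field k]
    [IsAlgClosed k] (X : Scheme.{u}) (f : X ⟶ Spec (CommRingCat.of k)) [IsAffine X]
    [AlgebraicGeometry.IsIntegral X] [LocallyOfFiniteType f] :
    ∃ (Y : Scheme.{u}) (g : Y ⟶ Spec (CommRingCat.of k)) (n : ℕ) (c : Y ⟶ CohB1.ProjSpace n k)
      (j : X ⟶ Y), AlgebraicGeometry.IsIntegral Y ∧ IsClosedImmersion c ∧
      c ≫ CohB1.ProjSpace.toSpec n k = g ∧ IsOpenImmersion j ∧ j ≫ g = f ∧
      (Pi1.IsNormalScheme X → Pi1.IsNormalScheme Y) :=
  GrothLib.NormCompl5.exists_openImmersion_into_projective_integral k X f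

end Groth.Agent.S19492
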