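import Groth.Statements.S19493
import Groth.Agent.Lib.SchDomAss10.Basic
import Groth.Agent.Lib.EtSec.LocConn
import Mathlib.AlgebraicGeometry.Morphisms.Integral
import Mathlib.AlgebraicGeometry.Morphisms.UniversallyInjective
set_option backward.isDefEq.respectTransparency false

set_option autoImplicit false
universe u
open CategoryTheory AlgebraicGeometry
open EtHull

namespace Groth.Agent.S19493

open GrothLib.SchDomAss10 in
theorem ass_iff_map {S S' : Scheme.{u}} [IsLocallyNoetherian S] [IsLocallyNoetherian S'] (f : S' ⟶ S)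
    [IsIntegralHom f] [UniversallyInjective f] [Surjective f]
    (hemb : ∀ s' : S', (s' ∈ AssSch.Ass (Coh.structureModule S') ∧ ∃ t ∈ AssSch.Ass (Coh.structureModule S'), t ⤳ s' ∧ t ≠ s') ↔
      (f.base s' ∈ AssSch.Ass (Coh.structureModule S) ∧ ∃ t ∈ AssSch.Ass (Coh.structureModule S), t ⤳ f.base s' ∧ t ≠ f.base s'))
    (s' : S') :
    Curv2.IsAssPoint (Coh.structureModule S') s' ↔ Curv2.IsAssPoint (Coh.structureModule S) (f s') := by
  have hinj : Function.Injective f := f.injective
  have hind : Topology.IsInducing f :=
    (Topology.IsClosedEmbedding.of_continuous_injective_isClosedMap f.continuous hinj f.isClosedMap).isEmbedding.isInducing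
  constructor
  · intro h
    by_cases he : ∃ t ∈ AssSch.Ass (Coh.structureModule S'), t ⤳ s' ∧ t ≠ s'
    · exact ((hemb s').1 ⟨h, he⟩).1
    · refine isAssPoint_of_isMin (f s') fun t ht => ?_
      obtain ⟨t', rfl⟩ := f.surjective t
      have ht' : t' ⤳ s' := hind.specializes_iff.1 ht
      obtain ⟨t₀, h0, hmin⟩ := exists_isMin_specializes t'
      have : t₀ = s' := by
        by_contra hne
        exact he ⟨t₀, isAssPoint_of_isMin t₀ hmin, h0.trans ht', hne⟩
      rw [this] at h0
      rw [(ht'.antisymm h0).eq]
  · intro h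
    by_cases he : ∃ t ∈ AssSch.Ass (Coh.structureModule S), t ⤳ f s' ∧ t ≠ f s'
    · exact ((hemb s').2 ⟨h, he⟩).1
    · refine isAssPoint_of_isMin s' fun t ht => hinj ?_
      obtain ⟨t₀, h0, hmin⟩ := exists_isMin_specializes (f t)
      have : t₀ = f s' := by
        by_contra hne
        exact he ⟨t₀, isAssPoint_of_isMin t₀ hmin, h0.trans (ht.map f.continuous), hne⟩
      rw [this] at h0
      exact ((ht.map f.continuous).antisymm h0).eq

/-- Let f : S' → S be a morphism of locally Noetherian schemes which is integral, radicial (universally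
injective) and surjective, and which matches embedded points: a point s' of S' is an embedded
associated point of O_{S'} (an associated point that is a proper specialization of another
associated point) if and only if f(s') is an embedded associated point of O_S. Let a : X → S be
faithfully flat, g : E → S étale and u : X → E a morphism with u ≫ g = a, so that X → E → S is a
factorization of a through an étale S-scheme. Let E' → S' be the base change of g along f, with
projection φ : E' → E, and u' : X' → E' the base change of u along φ (so X' = X ×_S S'). Then u is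
scheme-theoretically dominant if and only if u' is. (The source allows algebraic spaces; schemes
here.) -/
theorem result {X E S S' E' X' : Scheme.{u}}
    [IsLocallyNoetherian S] [IsLocallyNoetherian S'] (f : S' ⟶ S) [IsIntegralHom f]
    [UniversallyInjective f] [Surjective f]
    (hemb : ∀ s' : S', (s' ∈ AssSch.Ass (Coh.structureModule S') ∧ ∃ t ∈ AssSch.Ass (Coh.structureModule S'), t ⤳ s' ∧ t ≠ s') ↔
      (f.base s' ∈ AssSch.Ass (Coh.structureModule S) ∧ ∃ t ∈ AssSch.Ass (Coh.structureModule S), t ⤳ f.base s' ∧ t ≠ f.base s'))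
    (a : X ⟶ S) [Flat a] [Surjective a] (g : E ⟶ S) [Etale g] (u : X ⟶ E) (hu : u ≫ g = a)
    (g' : E' ⟶ S') (φ : E' ⟶ E) (hE : IsPullback φ g' g f)
    (u' : X' ⟶ E') (ψ : X' ⟶ X) (hX : IsPullback ψ u' u φ) :
    IsSchemeTheoreticallyDominant u ↔ IsSchemeTheoreticallyDominant u' := by
  haveI : Flat u := by
    haveI : Flat (u ≫ g) := hu ▸ inferInstance
    exact GrothLib.EtSec.flat_of_comp_weaklyEtale u g
  haveI : Etale g' := MorphismProperty.of_isPullback hE ‹Etale g›
  haveI : Flat u' := MorphismProperty.of_isPullback hX ‹Flat u›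
  haveI : IsIntegralHom φ := MorphismProperty.of_isPullback hE.flip ‹IsIntegralHom f›
  haveI : Surjective φ := MorphismProperty.of_isPullback hE.flip ‹Surjective f›
  haveI : IsLocallyNoetherian E := LocallyOfFiniteType.isLocallyNoetherian g
  haveI : IsLocallyNoetherian E' := LocallyOfFiniteType.isLocallyNoetherian g'
  rw [GrothLib.SchDomAss10.isSchemeTheoreticallyDominant_iff_ass,
    GrothLib.SchDomAss10.isSchemeTheoreticallyDominant_iff_ass]
  have hass : ∀ e' : E', Curv2.IsAssPoint (Coh.structureModule E') e' ↔
      Curv2.IsAssPoint (Coh.structureModule E) (φ e') := fun e' => by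
    rw [GrothLib.SchDomAss10.isAssPoint_iff_of_etale g', GrothLib.SchDomAss10.isAssPoint_iff_of_etale g,
      ass_iff_map f hemb, ← Scheme.Hom.comp_apply φ g, hE.w, Scheme.Hom.comp_apply]
  constructor
  · intro h e' he'
    obtain ⟨x, hx⟩ := h _ ((hass e').1 he')
    obtain ⟨x', -, hx'⟩ := Scheme.exists_preimage_of_isPullback hX x e' hx
    exact ⟨x', hx'⟩
  · intro h e he
    obtain ⟨e', rfl⟩ := φ.surjective e
    obtain ⟨x', hx'⟩ := h e' ((hass e').2 he)
    refine ⟨ψ x', ?_⟩
    rw [← Scheme.Hom.comp_apply, hX.w, Scheme.Hom.comp_apply, hx']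

end Groth.Agent.S19493
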