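import Groth.Statements.S19494
import Groth.Agent.Lib.EtInf10.Basic
import Groth.Agent.S15997
set_option linter.all false
set_option backward.isDefEq.respectTransparency false

set_option autoImplicit false
open CategoryTheory AlgebraicGeometry
universe u
open EtHull

namespace Groth.Agent.S19494

/-- Let S be a Noetherian scheme all of whose local rings are geometrically unibranch and whose
structure sheaf has no embedded associated points, and let f : X → S be flat, surjective and of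
finite presentation. Call an admissible factorization a factorization X → E → S of f with E → S
étale and affine and X → E scheme-theoretically dominant. Then any two admissible factorizations X →
E₁ → S and X → E₂ → S have an infimum: an admissible factorization X → E → S together with
compatible S-morphisms E₁ → E and E₂ → E, such that every admissible factorization X → E' → S
receiving compatible S-morphisms E₁ → E' and E₂ → E' admits a compatible morphism E → E'. (The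
source allows X to be an algebraic space; X is a scheme here.) -/
theorem result {X S : Scheme.{u}} [IsNoetherian S]
    (hS : ∀ s : S, CAlg2.IsGeomUnibranch (S.presheaf.stalk s))
    (hemb : AssSch.NoEmbedded (Coh.structureModule S))
    (f : X ⟶ S) [Flat f] [Surjective f] [LocallyOfFinitePresentation f] [QuasiCompact f]
    [QuasiSeparated f]
    (E₁ E₂ : Scheme.{u}) (g₁ : E₁ ⟶ S) (g₂ : E₂ ⟶ S) (u₁ : X ⟶ E₁) (u₂ : X ⟶ E₂)
    [Etale g₁] [Etale g₂] [IsAffineHom g₁] [IsAffineHom g₂]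
    [IsSchemeTheoreticallyDominant u₁] [IsSchemeTheoreticallyDominant u₂]
    (h₁ : u₁ ≫ g₁ = f) (h₂ : u₂ ≫ g₂ = f) :
    ∃ (E : Scheme.{u}) (g : E ⟶ S) (u : X ⟶ E) (v₁ : E₁ ⟶ E) (v₂ : E₂ ⟶ E),
      Etale g ∧ IsAffineHom g ∧ IsSchemeTheoreticallyDominant u ∧ u ≫ g = f ∧
      u₁ ≫ v₁ = u ∧ u₂ ≫ v₂ = u ∧ v₁ ≫ g = g₁ ∧ v₂ ≫ g = g₂ ∧
      ∀ (E' : Scheme.{u}) (g' : E' ⟶ S) (u' : X ⟶ E') (w₁ : E₁ ⟶ E') (w₂ : E₂ ⟶ E'),
        Etale g' → IsAffineHom g' → IsSchemeTheoreticallyDominant u' → u' ≫ g' = f →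
        u₁ ≫ w₁ = u' → u₂ ≫ w₂ = u' → w₁ ≫ g' = g₁ → w₂ ≫ g' = g₂ →
        ∃ w : E ⟶ E', u ≫ w = u' ∧ v₁ ≫ w = w₁ ∧ v₂ ≫ w = w₂ := by
  classical
  haveI hd : IsSchemeTheoreticallyDominant f :=
    GrothLib.SchDomAss10.isSchemeTheoreticallyDominant_of_ass f (fun e _ => f.surjective e)
  let L₀ : GrothLib.EtInf10.LB f g₁ g₂ u₁ u₂ :=
    { E := S, g := 𝟙 S, u := f, v₁ := g₁, v₂ := g₂, et := inferInstance, aff := inferInstance,
      dom := hd, hug := Category.comp_id f, hu1 := h₁, hu2 := h₂,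
      hg1 := Category.comp_id g₁, hg2 := Category.comp_id g₂ }
  haveI : IsLocallyNoetherian E₁ := LocallyOfFiniteType.isLocallyNoetherian g₁
  haveI : CompactSpace E₁ := QuasiCompact.compactSpace_of_compactSpace g₁
  haveI : IsLocallyNoetherian (Limits.pullback g₁ g₁) :=
    LocallyOfFiniteType.isLocallyNoetherian (Limits.pullback.fst g₁ g₁)
  haveI : CompactSpace ↥(Limits.pullback g₁ g₁) :=
    QuasiCompact.compactSpace_of_compactSpace (Limits.pullback.fst g₁ g₁)
  haveI : IsNoetherian (Limits.pullback g₁ g₁) := {}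
  let M : Set ↥(Limits.pullback g₁ g₁) := {z | z ∈ Set.univ ∧ ∀ w ∈ Set.univ, w ⤳ z → w = z}
  have hM : M.Finite := GrothLib.Chev28.finite_maximal_points isClosed_univ
  let mR : GrothLib.EtInf10.LB f g₁ g₂ u₁ u₂ → ℕ := fun L => (M ∩ Set.range L.j).ncard
  obtain ⟨L₁, hL₁⟩ : ∃ L, mR L = sInf (Set.range mR) :=
    Nat.sInf_mem (s := Set.range mR) ⟨_, L₀, rfl⟩
  let mT : {L : GrothLib.EtInf10.LB f g₁ g₂ u₁ u₂ // mR L = mR L₁} → ℕ := fun L => L.1.T.ncard
  obtain ⟨⟨L, hLR⟩, hLT⟩ : ∃ L, mT L = sInf (Set.range mT) :=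
    Nat.sInf_mem (s := Set.range mT) ⟨_, ⟨L₁, rfl⟩, rfl⟩
  refine ⟨L.E, L.g, L.u, L.v₁, L.v₂, L.et, L.aff, L.dom, L.hug, L.hu1, L.hu2, L.hg1, L.hg2,
    fun E' g' u' w₁ w₂ het haff hdom hug hu1 hu2 hg1 hg2 => ?_⟩
  haveI := het
  haveI := haff
  haveI := hdom
  obtain ⟨E'', g'', u'', p, p', het'', haff'', hdom'', hug'', hp, hp', hpg, hpg', huniv⟩ :=
    Groth.Agent.S15997.result hS hemb f L.E E' L.g g' L.u u' L.hug hug
  obtain ⟨a₁, ha₁, ha₁p, ha₁p2⟩ := huniv E₁ g₁ u₁ L.v₁ w₁ inferInstance inferInstance inferInstance h₁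
    L.hu1 hu1 L.hg1 hg1
  obtain ⟨a₂, ha₂, ha₂p, ha₂p2⟩ := huniv E₂ g₂ u₂ L.v₂ w₂ inferInstance inferInstance inferInstance h₂
    L.hu2 hu2 L.hg2 hg2
  let L' : GrothLib.EtInf10.LB f g₁ g₂ u₁ u₂ :=
    { E := E'', g := g'', u := u'', v₁ := a₁, v₂ := a₂, et := het'', aff := haff'', dom := hdom'',
      hug := hug'', hu1 := ha₁, hu2 := ha₂,
      hg1 := by rw [← hpg, ← Category.assoc, ha₁p, L.hg1],
      hg2 := by rw [← hpg, ← Category.assoc, ha₂p, L.hg2] }
  have hsub : Set.range L'.j ⊆ Set.range L.j :=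
    GrothLib.EtInf10.range_j_subset (L := L') (L' := L) p hpg hp
  have hle : mR L ≤ mR L' := by rw [hLR, hL₁]; exact Nat.sInf_le ⟨L', rfl⟩
  have hMeq : M ∩ Set.range L'.j = M ∩ Set.range L.j :=
    Set.eq_of_subset_of_ncard_le (Set.inter_subset_inter_right _ hsub) hle (hM.inter_of_left _)
  have hR : Set.range L.j ⊆ Set.range L'.j := by
    intro x hx
    obtain ⟨l, hlx, hl⟩ := GrothLib.Unibranch.exists_maximal_generization x
    have hlM : l ∈ M := ⟨trivial, fun w _ h => hl w h⟩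
    have : l ∈ M ∩ Set.range L.j := ⟨hlM, hlx.mem_open L.j.isOpenEmbedding.isOpen_range hx⟩
    rw [← hMeq] at this
    exact hlx.mem_closed L'.j.isClosedEmbedding.isClosed_range this.2
  haveI : IsOpenImmersion p :=
    GrothLib.EtInf10.isOpenImmersion_of_range_j (L := L') (L' := L) p hpg hp hR
  have hT : L.T.ncard ≤ L'.T.ncard := by
    have heq : mR L' = mR L₁ := by
      rw [← hLR]
      show (M ∩ Set.range L'.j).ncard = (M ∩ Set.range L.j).ncard
      rw [hMeq]
    exact hLT.trans_le (Nat.sInf_le ⟨⟨L', heq⟩, rfl⟩)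
  haveI : IsIso p := GrothLib.EtInf10.isIso_of_ncard_le (L := L') (L' := L) p hpg hp hT
  refine ⟨inv p ≫ p', ?_, ?_, ?_⟩
  · rw [← Category.assoc, (IsIso.comp_inv_eq p).2 hp.symm, hp']
  · rw [← ha₁p, Category.assoc, IsIso.hom_inv_id_assoc, ha₁p2]
  · rw [← ha₂p, Category.assoc, IsIso.hom_inv_id_assoc, ha₂p2]

end Groth.Agent.S19494
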