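import Groth.Statements.S19495
import Groth.Agent.S15999
import Groth.Agent.Lib.Frob.Basic
import Groth.Agent.Lib.EtSite.RadicialEtale

set_option linter.all false

set_option autoImplicit false
open CategoryTheory AlgebraicGeometry
universe u
open EtHull

namespace Groth.Agent.S19495

theorem formallyUnramified_of_isIso_relFrob (p : ℕ) [Fact p.Prime] {Y S : Scheme.{u}}
    [FrobSch.IsCharP S p] (b : Y ⟶ S) (hb : IsIso (FrobSch.relFrob b p)) : FormallyUnramified b := by
  rw [formallyUnramified_iff]
  intro U hU V hV e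
  algebraize [(b.appLE U V e).hom]
  refine Algebra.FormallyUnramified.iff_comp_injective.mpr ?_
  intro B _ _ I hI ψ₁ ψ₂ hψ
  let g : (Γ(Y, V) →ₐ[Γ(S, U)] B) → (Spec (CommRingCat.of B) ⟶ Y) := fun ψ =>
    Spec.map (CommRingCat.ofHom ψ.toRingHom) ≫ hV.fromSpec
  have hg : ∀ ψ, g ψ ≫ b = Spec.map (CommRingCat.ofHom (algebraMap Γ(S, U) B)) ≫ hU.fromSpec := fun ψ => by
    simp only [g, Category.assoc, ← IsAffineOpen.SpecMap_appLE_fromSpec b hU hV e]
    rw [← Category.assoc, ← Spec.map_comp]
    congr 2
    ext r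
    exact ψ.commutes r
  haveI : FrobSch.IsCharP (Spec (CommRingCat.of B)) p := FrobSch.IsCharP.of_hom (g ψ₁ ≫ b) p
  haveI : FrobSch.IsCharP Y p := FrobSch.IsCharP.of_hom b p
  have hpow : ∀ r, (ψ₁ r) ^ p = (ψ₂ r) ^ p := fun r => by
    have hd : ψ₁ r - ψ₂ r ∈ I := Ideal.Quotient.eq.1 (AlgHom.congr_fun hψ r)
    have hdp : (ψ₁ r - ψ₂ r) ^ p = 0 := by
      have := Ideal.pow_le_pow_right (Fact.out : p.Prime).two_le (Ideal.pow_mem_pow hd p)
      rwa [hI, Ideal.mem_bot] at this
    have hB : (p : B) = 0 := by
      have h0 := FrobSch.IsCharP.natCast_eq_zero (X := Spec (CommRingCat.of B)) (p := p)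
      have := congrArg (Scheme.ΓSpecIso (CommRingCat.of B)).hom h0
      simpa using this
    have h := map_add (FrobSch.powHom p B hB) (ψ₁ r - ψ₂ r) (ψ₂ r)
    simp only [FrobSch.powHom_apply, sub_add_cancel, hdp, zero_add] at h
    exact h
  have hF : FrobSch.frob (Spec (CommRingCat.of B)) p ≫ Spec.map (CommRingCat.ofHom ψ₁.toRingHom) =
      FrobSch.frob (Spec (CommRingCat.of B)) p ≫ Spec.map (CommRingCat.ofHom ψ₂.toRingHom) := by
    refine ext_of_isAffine ?_
    ext s
    simp only [Scheme.Hom.comp_appTop, CommRingCat.hom_comp, RingHom.comp_apply, FrobSch.frob_appTop]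
    refine ((ConcreteCategory.isIso_iff_bijective (Scheme.ΓSpecIso (CommRingCat.of B)).hom).1 inferInstance).1 ?_
    have h1 := congrArg (fun φ : _ ⟶ CommRingCat.of B => φ.hom s)
      (Scheme.ΓSpecIso_naturality (CommRingCat.ofHom ψ₁.toRingHom))
    have h2 := congrArg (fun φ : _ ⟶ CommRingCat.of B => φ.hom s)
      (Scheme.ΓSpecIso_naturality (CommRingCat.ofHom ψ₂.toRingHom))
    simp only [CommRingCat.hom_comp, RingHom.comp_apply] at h1 h2
    rw [map_pow, map_pow]
    exact (congrArg (· ^ p) h1).trans ((hpow _).trans (congrArg (· ^ p) h2).symm)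
  have hgf : g ψ₁ ≫ FrobSch.frob Y p = g ψ₂ ≫ FrobSch.frob Y p := by
    rw [← FrobSch.frob_comp, ← FrobSch.frob_comp]
    simp only [g, ← Category.assoc, hF]
  have key : g ψ₁ = g ψ₂ := by
    rw [← cancel_mono (FrobSch.relFrob b p)]
    refine Limits.pullback.hom_ext ?_ ?_
    · simpa only [Category.assoc, FrobSch.relFrob_fst] using hgf
    · simp only [Category.assoc, FrobSch.relFrob_snd, hg]
  have := congrArg CommRingCat.Hom.hom (Spec.map_injective ((cancel_mono hV.fromSpec).1 key))
  exact AlgHom.ext fun r => RingHom.congr_fun this r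

/-- Let p be a prime and S a Noetherian scheme of characteristic p (p = 0 in O_S); let a : X → S be
flat, surjective and of finite presentation, c : P → S étale, quasi-compact and quasi-separated, and
ϖ : X → P a morphism over S which is initial among S-morphisms from X to étale finitely presented
S-schemes: for every étale quasi-compact quasi-separated E → S, every S-morphism X → E factors
uniquely through ϖ. Then ϖ is a coperfection of X over S: P is relatively perfect over S (the
relative Frobenius of c is an isomorphism) and for every S-scheme Y → S which is relatively perfect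
(relative Frobenius an isomorphism), every S-morphism X → Y factors uniquely through ϖ. (The source
allows algebraic spaces and phrases the hypothesis as the existence of an initial object; schemes
here.) -/
theorem result (p : ℕ) [Fact p.Prime]
    {X P S : Scheme.{u}} [IsNoetherian S] [FrobSch.IsCharP S p]
    (a : X ⟶ S) [Flat a] [Surjective a] [LocallyOfFinitePresentation a] [QuasiCompact a]
    [QuasiSeparated a] (c : P ⟶ S) [Etale c] [QuasiCompact c] [QuasiSeparated c]
    (ϖ : X ⟶ P) (hϖ : ϖ ≫ c = a)
    (hinit : ∀ (E : Scheme.{u}) (e : E ⟶ S), Etale e → QuasiCompact e → QuasiSeparated e →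
      ∀ k : X ⟶ E, k ≫ e = a → ∃! l : P ⟶ E, ϖ ≫ l = k ∧ l ≫ e = c) :
    IsIso (FrobSch.relFrob c p) ∧
      ∀ (Y : Scheme.{u}) (b : Y ⟶ S), IsIso (FrobSch.relFrob b p) →
        ∀ k : X ⟶ Y, k ≫ b = a → ∃! l : P ⟶ Y, ϖ ≫ l = k ∧ l ≫ b = c := by
  refine ⟨?_, fun Y b hb k hk => ?_⟩
  · have h := GrothLib.Frob.isUnivHomeo_relFrob p c
    haveI := GrothLib.Frob.universallyInjective_of _ h
    haveI := GrothLib.Frob.surjective_of _ h
    haveI : Etale (Limits.pullback.snd c (FrobSch.frob S p)) := MorphismProperty.pullback_snd _ _ inferInstance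
    haveI : Etale (FrobSch.relFrob c p ≫ Limits.pullback.snd c (FrobSch.frob S p)) := by
      rw [FrobSch.relFrob_snd]; infer_instance
    haveI : Etale (FrobSch.relFrob c p) := Etale.of_comp _ (Limits.pullback.snd c (FrobSch.frob S p))
    haveI := GrothLib.EtSite.isOpenImmersion_of_etale_universallyInjective (FrobSch.relFrob c p)
    exact (isIso_iff_isOpenImmersion_and_surjective _).mpr ⟨inferInstance, inferInstance⟩
  · haveI := formallyUnramified_of_isIso_relFrob p b hb
    exact Groth.Agent.S15999.result a c ϖ hϖ hinit Y b k hk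

end Groth.Agent.S19495
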