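import Groth.Statements.S19498
import Groth.Agent.Lib.CanonTriv.Basic
import Groth.Agent.Lib.Seesaw26.Criterion
import Groth.Agent.Lib.Euler.Basic
import Groth.Agent.Lib.BCCrit.Points

set_option autoImplicit false
set_option linter.all false
set_option backward.isDefEq.respectTransparency false
universe u
open CategoryTheory CategoryTheory.Limits AlgebraicGeometry
open Canon

namespace Groth.Agent.S19498

/-- Let S be a locally Noetherian scheme and f : X ⟶ S a locally projective morphism, smooth of relative
dimension n, whose fibres are non-empty and geometrically connected; let ω be an n-th exterior power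
of the sheaf of relative differentials of f (the relative canonical sheaf K_{X/S}) and m ≥ 1 an
integer such that K^{⊗m} is trivial on fibres: for every point s of S the restriction of K^{⊗m} to
the fibre X_s is isomorphic to O_{X_s}. Assume H^1(X_s, O_{X_s}) = 0 for every point s of S. Then
the evaluation map f^* f_* K^{⊗m} ⟶ K^{⊗m}, the counit of the adjunction between pullback and
pushforward of modules, is an isomorphism. (The published statement has f projective and smooth of
possibly varying relative dimension; here f is taken locally projective of constant relative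
dimension n.) -/
theorem result
    {X S : Scheme.{u}} [IsLocallyNoetherian S] (f : X ⟶ S)
    (hproj : RedSub.IsLocallyProjective (Over.mk f))
    (n : ℕ) [SmoothOfRelativeDimension n f] [GeometricallyConnected f]
    (ω : X.Modules) (hω : Canon.IsTopDiff f n ω) (m : ℕ) (hm : 1 ≤ m)
    (htriv : ∀ s : ↥S, Nonempty ((Scheme.Modules.pullback (f.fiberι s)).obj (CohB1.tensorPow ω m) ≅
      Coh.structureModule (f.fiber s)))
    (hH1 : ∀ s : ↥S, Subsingleton (Coh.HH (f.fiber s) (Coh.structureModule (f.fiber s)) 1)) :
    IsIso ((Scheme.Modules.pullbackPushforwardAdjunction f).counit.app (CohB1.tensorPow ω m)) := by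
  obtain ⟨_, _, _, _, h0⟩ := GrothLib.CanonTriv.isProper_and_flat f hproj n
  have hL := GrothLib.CanonTriv.isInvertible_tensorPow_canonical f hproj n ω hω m
  haveI : (CohB1.tensorPow ω m).IsQuasicoherent := GrothLib.InvExt.isQuasicoherent_of_isInvertible hL
  haveI : Coh.IsQCoh (CohB1.tensorPow ω m) := ‹(CohB1.tensorPow ω m).IsQuasicoherent›
  have hFP : CohB1.IsFP (CohB1.tensorPow ω m) :=
    GrothLib.LocFree8.isFP_of_isFinLocFree _ (GrothLib.Euler.isFinLocFree_of_isInvertible hL)
  have hepi : ∀ s : S, Epi (CohBC.bc0 f (S.fromSpecResidueField s) (f.fiberToSpecResidueField s) (f.fiberι s)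
      (f.fiber_fac s) (CohB1.tensorPow ω m)) := fun s => by
    refine (GrothLib.BCCrit.goodAll_iff_epi0 hFP (GrothLib.Seesaw26.isFlatOver_of_isInvertible f hL) s).1 ?_
    letI := f.fiberOverSpecResidueField s
    obtain ⟨e⟩ := htriv s
    haveI := hH1 s
    haveI hsub : Subsingleton (CohIII.fiberH f (CohB1.tensorPow ω m) s 1) :=
      (GrothLib.Euler.hhEquiv (A := S.residueField s) e 1).toEquiv.subsingleton
    have h := (GrothLib.BCCrit.goodAll_of_fiberRank_eq_zero (f := f) (F := CohB1.tensorPow ω m) 1 s
      (GrothLib.BCCoh.fiberRank_eq_zero_of_subsingleton f _ 1 s hsub)).2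
    simpa using h
  obtain ⟨M, hM, ⟨i⟩⟩ := GrothLib.Seesaw26.exists_base_of_good f h0 _ hL htriv hepi
  exact ((GrothLib.UnitLF26.isPullback_iff f (GrothLib.Seesaw26.bijective_app_of_invertible f
    (GrothLib.Seesaw26.invertible_push_structure f h0)) _).1
      ⟨M, GrothLib.Euler.isFinLocFree_of_isInvertible hM, ⟨i.symm⟩⟩).2

end Groth.Agent.S19498
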