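import Groth.Statements.S19501
-- import your own Groth.Agent.* helpers here
import Groth.Agent.Lib.ClProd17.Dec
import Groth.Agent.Lib.ClProd17.Chart

set_option autoImplicit false
universe u
open CategoryTheory MonoidalCategory CartesianMonoidalCategory AlgebraicGeometry CategoryTheory.Limits
open Cyc

namespace Groth.Agent.S19501

/-- Over an algebraically closed field k, let X and Y be normal irreducible varieties (integral normal
separated k-schemes of finite type) and assume X rational: some nonempty open subscheme of X is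
isomorphic over k to an open subscheme of an affine space 𝔸ⁿ_k. Fix dimension functions δX, δY, δP
on X, Y and P = X ×_k Y (each scheme locally Noetherian with universally catenary local rings), with
δP induced from δX along the first projection and from δY along the second, and generic points ηX,
ηY, ηP; write dX = δX(ηX), dY = δY(ηY), dP = δP(ηP), so that codimension-one cycles are the (d −
1)-cycles and the projections are flat of relative δ-dimensions dP − dX and dP − dY. Then the map
(α, β) ↦ p₁^*α + p₂^*β from Cl(X) × Cl(Y) to Cl(X × Y) is bijective: (surjectivity) every (dP −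
1)-cycle γ on P is rationally equivalent to a cycle with coefficient function p₁^*α + p₂^*β for some
(dX − 1)-cycle α on X and (dY − 1)-cycle β on Y; (injectivity) if such a cycle p₁^*α + p₂^*β is
rationally equivalent to zero then α and β are rationally equivalent to zero. -/
theorem result (k : Type u) [Field k] [IsAlgClosed k]
    (X Y : Over (Spec (CommRingCat.of k))) [AlgebraicGeometry.IsIntegral X.left] [IsSeparated X.hom]
    [LocallyOfFiniteType X.hom] [QuasiCompact X.hom]
    [AlgebraicGeometry.IsIntegral Y.left] [IsSeparated Y.hom] [LocallyOfFiniteType Y.hom] [QuasiCompact Y.hom]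
    (hX : Pi1.IsNormalScheme X.left) (hY : Pi1.IsNormalScheme Y.left)
    (hrat : ∃ (U : X.left.Opens) (n : ℕ) (V : (𝔸(ULift.{u} (Fin n); Spec (CommRingCat.of k))).Opens)
      (e : (U : Scheme.{u}) ≅ (V : Scheme.{u})), (U : Set ↥X.left).Nonempty ∧
        e.hom ≫ V.ι ≫ (𝔸(ULift.{u} (Fin n); Spec (CommRingCat.of k)) ↘ Spec (CommRingCat.of k)) = U.ι ≫ X.hom)
    (δX : ↥X.left → ℤ) (δY : ↥Y.left → ℤ) (δP : ↥(X ⊗ Y).left → ℤ)
    (hsX : Cyc.IsSetup X.left δX) (hsY : Cyc.IsSetup Y.left δY) (hsP : Cyc.IsSetup (X ⊗ Y).left δP)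
    (hc₁ : Cyc.DeltaCompat (fst X Y).left δP δX) (hc₂ : Cyc.DeltaCompat (snd X Y).left δP δY)
    (ηX : ↥X.left) (ηY : ↥Y.left) (ηP : ↥(X ⊗ Y).left)
    (hηX : closure ({ηX} : Set ↥X.left) = Set.univ) (hηY : closure ({ηY} : Set ↥Y.left) = Set.univ)
    (hηP : closure ({ηP} : Set ↥(X ⊗ Y).left) = Set.univ) :
    (∀ γ ∈ Cyc.Zk (X ⊗ Y).left δP (δP ηP - 1),
      ∃ α ∈ Cyc.Zk X.left δX (δX ηX - 1), ∃ β ∈ Cyc.Zk Y.left δY (δY ηY - 1),
        ∃ γ' : AlgebraicCycle (X ⊗ Y).left ℤ,
          (∀ z, γ' z = Cyc.pullFun (fst X Y).left δP δX (δP ηP - δX ηX) α z +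
            Cyc.pullFun (snd X Y).left δP δY (δP ηP - δY ηY) β z) ∧
          Cyc.RatEquiv δP (δP ηP - 1) γ γ') ∧
    (∀ α ∈ Cyc.Zk X.left δX (δX ηX - 1), ∀ β ∈ Cyc.Zk Y.left δY (δY ηY - 1),
      ∀ γ' : AlgebraicCycle (X ⊗ Y).left ℤ,
        (∀ z, γ' z = Cyc.pullFun (fst X Y).left δP δX (δP ηP - δX ηX) α z +
            Cyc.pullFun (snd X Y).left δP δY (δP ηP - δY ηY) β z) →
        Cyc.RatEquivZero δP (δP ηP - 1) γ' →
        Cyc.RatEquivZero δX (δX ηX - 1) α ∧ Cyc.RatEquivZero δY (δY ηY - 1) β) := by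
  haveI := hsP.1
  haveI := hsY.1
  haveI := hsX.1
  have hsq : IsPullback (fst X Y).left (snd X Y).left X.hom Y.hom := IsPullback.of_hasPullback X.hom Y.hom
  haveI := GrothLib.Cube.geometricallyIntegral_of_isIntegral Y.hom
  haveI := GrothLib.ClProd17.flat_to_field (K := k) Y.hom
  haveI : AlgebraicGeometry.IsIntegral (X ⊗ Y).left :=
    inferInstanceAs (AlgebraicGeometry.IsIntegral (pullback X.hom Y.hom))
  haveI : CompactSpace Y.left := QuasiCompact.compactSpace_of_compactSpace Y.hom
  haveI : CompactSpace X.left := QuasiCompact.compactSpace_of_compactSpace X.hom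
  haveI : QuasiCompact (fst X Y).left := MorphismProperty.of_isPullback hsq.flip inferInstance
  haveI : CompactSpace (X ⊗ Y).left := QuasiCompact.compactSpace_of_compactSpace (fst X Y).left
  obtain rfl : genericPoint X.left = ηX := (genericPoint_spec X.left).eq hηX
  obtain rfl : genericPoint Y.left = ηY := (genericPoint_spec Y.left).eq hηY
  obtain rfl : genericPoint (X ⊗ Y).left = ηP := (genericPoint_spec (X ⊗ Y).left).eq hηP
  obtain ⟨U, n, V, e, hne, he⟩ := hrat
  refine ⟨fun γ hγ => GrothLib.ClProd17.surjective hsq hsX hsY hsP hc₁ hc₂ (fun z hx hy hz =>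
      GrothLib.ClProd17.horiz_fun (e.hom ≫ V.ι) ((Category.assoc _ _ _).trans he) hsq hne hx hy hz) γ hγ,
    fun α hα β hβ γ' hγ' hrz => GrothLib.ClProd17.injective hsq hsX hsY hsP hc₁ hc₂ (fun φ hφ h0 hp hq =>
      GrothLib.ClProd17.exists_mul_pullback (e.hom ≫ V.ι) ((Category.assoc _ _ _).trans he) hsq hne hφ h0 hp hq)
      α hα β hβ γ' hγ' hrz⟩

end Groth.Agent.S19501
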