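import Groth.Statements.S19502
import Mathlib

set_option autoImplicit false
universe u
open W4c3ghconstell

namespace Groth.Agent.S19502

/-- Let ι index the irreducible representations, θ : ι → ℚ a weight which is negative exactly on the
finite set D₋, h h' : ι → ℕ with h' ≤ h pointwise (the isotypic dimensions of an object and of a
sub-object) and Σ_i θ_i h_i summable. For a finite set D of indices put S_D = Σ_{i ∉ D} θ_i h_i, d =
#(D ∖ D₋) and θ̃_D = Σ_{i ∈ D} θ_i h'_i + (S_D / d) · Σ_{i ∈ D ∖ D₋} h'_i / h_i, the modified weight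
attached to the parameters chosen for D (a quotient by zero is read as zero). Then for finite sets
D₋ ⊆ D ⊆ D̃ contained in the locus θ ≠ 0: (first error term) θ̃_{D̃} − θ̃_D = Σ_{τ ∈ D̃ ∖ D} (θ_τ
h_τ + S_{D̃}/d̃) · (h'_τ/h_τ − (1/d) Σ_{σ ∈ D ∖ D₋} h'_σ/h_σ); (second error term) Σ_i θ_i h'_i −
θ̃_D = Σ_{τ ∉ D} θ_τ h_τ · (h'_τ/h_τ − (1/d) Σ_{σ ∈ D ∖ D₋} h'_σ/h_σ). -/
theorem result {ι : Type u} [DecidableEq ι]
    (θ : ι → ℚ) (h h' : ι → ℕ) (hle : ∀ i, h' i ≤ h i) (hfin : {i | θ i < 0}.Finite)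
    (hsum : Summable (fun i => (θ i : ℝ) * (h i : ℝ))) (D D' : Finset ι)
    (hDm : hfin.toFinset ⊆ D) (hDD' : D ⊆ D') (hsupp : ∀ i ∈ D', θ i ≠ 0) :
    (((∑ i ∈ D', (θ i : ℝ) * (h' i : ℝ)) + ((∑' i, if i ∈ D' then (0 : ℝ) else (θ i : ℝ) * (h i : ℝ)) / ((D' \ hfin.toFinset).card : ℝ)) * (∑ σ ∈ D' \ hfin.toFinset, ((h' σ : ℝ) / (h σ : ℝ)))) - ((∑ i ∈ D, (θ i : ℝ) * (h' i : ℝ)) + ((∑' i, if i ∈ D then (0 : ℝ) else (θ i : ℝ) * (h i : ℝ)) / ((D \ hfin.toFinset).card : ℝ)) * (∑ σ ∈ D \ hfin.toFinset, ((h' σ : ℝ) / (h σ : ℝ)))) =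
      ∑ τ ∈ D' \ D, ((θ τ : ℝ) * (h τ : ℝ) + (∑' i, if i ∈ D' then (0 : ℝ) else (θ i : ℝ) * (h i : ℝ)) / ((D' \ hfin.toFinset).card : ℝ)) *
        (((h' τ : ℝ) / (h τ : ℝ)) - (1 / ((D \ hfin.toFinset).card : ℝ)) * (∑ σ ∈ D \ hfin.toFinset, ((h' σ : ℝ) / (h σ : ℝ))))) ∧
    ((∑' i, (θ i : ℝ) * (h' i : ℝ)) - ((∑ i ∈ D, (θ i : ℝ) * (h' i : ℝ)) + ((∑' i, if i ∈ D then (0 : ℝ) else (θ i : ℝ) * (h i : ℝ)) / ((D \ hfin.toFinset).card : ℝ)) * (∑ σ ∈ D \ hfin.toFinset, ((h' σ : ℝ) / (h σ : ℝ)))) =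
      ∑' τ, if τ ∈ D then (0 : ℝ) else (θ τ : ℝ) * (h τ : ℝ) *
        (((h' τ : ℝ) / (h τ : ℝ)) - (1 / ((D \ hfin.toFinset).card : ℝ)) * (∑ σ ∈ D \ hfin.toFinset, ((h' σ : ℝ) / (h σ : ℝ))))) := by
  classical
  set F := hfin.toFinset
  set m : ℝ := 1 / ((D \ F).card : ℝ) * ∑ σ ∈ D \ F, ((h' σ : ℝ) / (h σ : ℝ)) with hm
  have hr : ∀ i, (θ i : ℝ) * (h i : ℝ) * ((h' i : ℝ) / (h i : ℝ)) = (θ i : ℝ) * (h' i : ℝ) := fun i => by
    rcases Nat.eq_zero_or_pos (h i) with h0 | hp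
    · simp [h0, Nat.eq_zero_of_le_zero (h0 ▸ hle i)]
    · field_simp
  have hS' : Summable fun i => (θ i : ℝ) * (h' i : ℝ) := by
    refine Summable.of_norm_bounded hsum.abs fun i => ?_
    rw [Real.norm_eq_abs, abs_mul, abs_mul, Nat.abs_cast, Nat.abs_cast]
    exact mul_le_mul_of_nonneg_left (Nat.cast_le.2 (hle i)) (abs_nonneg _)
  have htail : ∀ (g : ι → ℝ), Summable g → ∀ E : Finset ι,
      HasSum (fun i => if i ∈ E then (0 : ℝ) else g i) ((∑' i, g i) - ∑ i ∈ E, g i) := fun g hg E => by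
    have h1 : HasSum (fun i => if i ∈ E then g i else 0) (∑ i ∈ E, g i) := by
      have hh : HasSum (fun i => if i ∈ E then g i else 0) (∑ i ∈ E, if i ∈ E then g i else 0) :=
        hasSum_sum_of_ne_finset_zero fun i hi => by simp [hi]
      rwa [Finset.sum_congr rfl fun i hi => if_pos hi] at hh
    exact (hg.hasSum.sub h1).congr_fun fun i => by by_cases hi : i ∈ E <;> simp [hi]
  constructor
  · have hdisj : Disjoint (D \ F) (D' \ D) := Finset.disjoint_left.2 fun i hi hi' =>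
      (Finset.mem_sdiff.1 hi').2 (Finset.mem_sdiff.1 hi).1
    have hU : D' \ F = (D \ F) ∪ (D' \ D) := by
      ext i; simp only [Finset.mem_sdiff, Finset.mem_union]
      constructor
      · rintro ⟨h1, h2⟩; by_cases hi : i ∈ D
        · exact Or.inl ⟨hi, h2⟩
        · exact Or.inr ⟨h1, hi⟩
      · rintro (⟨h1, h2⟩ | ⟨h1, h2⟩)
        · exact ⟨hDD' h1, h2⟩
        · exact ⟨h1, fun hF => h2 (hDm hF)⟩
    rw [(htail _ hsum D').tsum_eq, (htail _ hsum D).tsum_eq, hU, Finset.card_union_of_disjoint hdisj,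
      Finset.sum_union hdisj, ← Finset.sum_sdiff hDD', ← Finset.sum_sdiff hDD']
    simp only [add_mul, mul_sub, Finset.sum_add_distrib, Finset.sum_sub_distrib, hr, ← Finset.sum_mul,
      ← Finset.mul_sum, Finset.sum_const, nsmul_eq_mul, Nat.cast_add]
    by_cases hd : (D \ F).card = 0
    · rw [Finset.card_eq_zero] at hd
      simp [hm, hd]
      ring
    · have hd' : ((D \ F).card : ℝ) ≠ 0 := Nat.cast_ne_zero.2 hd
      have hd'' : ((D \ F).card : ℝ) + ((D' \ D).card : ℝ) ≠ 0 := by positivity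
      rw [hm]
      generalize ∑ x ∈ D \ F, (h' x : ℝ) / (h x : ℝ) = R
      generalize ∑ x ∈ D' \ D, (h' x : ℝ) / (h x : ℝ) = R'
      field_simp
      ring
  · rw [(htail _ hsum D).tsum_eq]
    have := (htail _ hS' D).sub ((htail _ hsum D).mul_right m)
    have h2 : HasSum (fun τ => if τ ∈ D then (0 : ℝ) else (θ τ : ℝ) * (h τ : ℝ) * ((h' τ : ℝ) / (h τ : ℝ) - m))
        (((∑' i, (θ i : ℝ) * (h' i : ℝ)) - ∑ i ∈ D, (θ i : ℝ) * (h' i : ℝ)) -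
          ((∑' i, (θ i : ℝ) * (h i : ℝ)) - ∑ i ∈ D, (θ i : ℝ) * (h i : ℝ)) * m) := by
      exact this.congr_fun fun τ => by by_cases hτ : τ ∈ D <;> simp [hτ, mul_sub, hr]
    rw [h2.tsum_eq, hm]
    ring

end Groth.Agent.S19502
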