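import Groth.Statements.S19508
import Groth.Agent.Lib.Flag27.QuotBC

set_option autoImplicit false
universe u
open CategoryTheory MonoidalCategory CartesianMonoidalCategory MonObj GrpObj AlgebraicGeometry
open AGF

namespace Groth.Agent.S19508

/-- Let k be a field, G an affine, smooth, connected k-group scheme, P a smooth connected closed
k-subgroup scheme of G and X = G/P the quotient. Then X is proper over k if and only if, after base
change to an algebraic closure of k (the geometric fibre over the point of Spec k), P contains a
Borel subgroup of G. (Over an algebraically closed field this is the usual characterisation of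
parabolic subgroups; the point here is an arbitrary ground field.) -/
theorem result (k : Type u) [Field k]
    (G : Over (Spec (CommRingCat.of k))) [GrpObj G] [IsAffine G.left] [Smooth G.hom] [ConnectedSpace G.left]
    (P : Over (Spec (CommRingCat.of k))) [GrpObj P] (iP : P ⟶ G) [IsMonHom iP] (hcl : IsClosedImmersion iP.left)
    [Smooth P.hom] [ConnectedSpace P.left]
    (X : Over (Spec (CommRingCat.of k))) (a : AlgGrp.Action G X) (o : 𝟙_ (Over (Spec (CommRingCat.of k))) ⟶ X)
    (hX : AGF.IsQuotient iP X a o) :
    IsProper X.hom ↔ Red.IsParabolic iP := by
  haveI := hcl
  exact GrothLib.Flag27.isProper_iff_isParabolic a o hX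

end Groth.Agent.S19508
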