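import Groth.Statements.S19509
-- import your own Groth.Agent.* helpers here
import Mathlib
import Groth.Agent.Lib.AbMul.TorsionSections

set_option autoImplicit false
universe u
open CategoryTheory MonoidalCategory CartesianMonoidalCategory MonObj GrpObj AlgebraicGeometry
open Neron

namespace Groth.Agent.S19509

/-- Let R be a complete discrete valuation ring whose fraction field K has characteristic zero and whose
residue field k has characteristic p > 0, and let N be a commutative R-group scheme which is a Néron
model of its generic fibre, an abelian variety over K. Then the torsion of order prime to p of N(R)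
= A(K) injects into the special fibre under reduction: a section x with x^n = 1, n ≥ 1 prime to p,
whose value at the closed point of Spec R is the identity point of the special fibre, is the unit
section. -/
theorem result (R : Type u) [CommRing R] [IsDomain R]
    [IsDiscreteValuationRing R] [IsAdicComplete (IsLocalRing.maximalIdeal R) R] (K : Type u) [Field K] [Algebra R K]
    [IsFractionRing R K] [CharZero K] (p : ℕ) [Fact p.Prime] [CharP (IsLocalRing.ResidueField R) p]
    (N : Over (Spec (CommRingCat.of R))) [GrpObj N] [IsCommMonObj N] (hN : SGA7.IsNeron R K N)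
    [IsProper ((SGA7.genFib R K).obj N).hom] [GeometricallyIntegral ((SGA7.genFib R K).obj N).hom]
    (x : 𝟙_ (Over (Spec (CommRingCat.of R))) ⟶ N) (n : ℕ) (hn : 0 < n) (hx : x ^ n = 1)
    (hred : x.left.base (IsLocalRing.closedPoint R) = (η[N]).left.base (IsLocalRing.closedPoint R))
    (hnp : Nat.Coprime n p) : x = 1 := by
  open CategoryTheory.MonoidalCategory CategoryTheory.CartesianMonoidalCategory CategoryTheory.MonObj CategoryTheory.GrpObj in
  obtain ⟨hsm, hsep, -, -⟩ := hN
  have hu : IsUnit (n : R) := by
    have hk : (n : IsLocalRing.ResidueField R) ≠ 0 := by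
      rw [Ne, CharP.cast_eq_zero_iff (IsLocalRing.ResidueField R) p]
      exact fun h => (Fact.out : p.Prime).coprime_iff_not_dvd.mp hnp.symm h
    rw [← map_natCast (IsLocalRing.residue R)] at hk
    exact (IsLocalRing.residue_ne_zero_iff_isUnit _).mp hk
  refine GrothLib.AbMul.eq_of_pow_eq_one_of_residue hu x 1 hx (one_pow n) ?_
  let e := (MonObj.one : 𝟙_ (Over (Spec (CommRingCat.of R))) ⟶ N).left
  have he : e ≫ N.hom = 𝟙 _ := Over.w (MonObj.one : 𝟙_ (Over (Spec (CommRingCat.of R))) ⟶ N)
  haveI : IsClosedImmersion e := by
    haveI : IsClosedImmersion (e ≫ N.hom) := by rw [he]; infer_instance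
    exact IsClosedImmersion.of_comp e N.hom
  let i := Spec.map (CommRingCat.ofHom (IsLocalRing.residue R))
  let a := i ≫ x.left
  have hone : (1 : 𝟙_ (Over (Spec (CommRingCat.of R))) ⟶ N).left = e := by
    rw [Hom.one_def, Over.comp_left]
    show (toUnit (𝟙_ (Over (Spec (CommRingCat.of R))))).left ≫ e = e
    rw [toUnit_unique (toUnit _) (𝟙 _)]
    exact Category.id_comp _
  have ha : a ≫ N.hom = i := by
    rw [Category.assoc, show x.left ≫ N.hom = 𝟙 _ from Over.w x]
    exact Category.comp_id _
  haveI : IsClosedImmersion (CategoryTheory.Limits.pullback.fst a e) :=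
    MorphismProperty.pullback_fst (P := @IsClosedImmersion) a e inferInstance
  haveI : Surjective (CategoryTheory.Limits.pullback.fst a e) := ⟨fun o => by
    have h1 : i o = IsLocalRing.closedPoint R := by
      rw [Subsingleton.elim o (IsLocalRing.closedPoint (IsLocalRing.ResidueField R))]
      exact IsLocalRing.comap_closedPoint (IsLocalRing.residue R)
    have h2 : a o = e (IsLocalRing.closedPoint R) := by
      rw [Scheme.Hom.comp_apply, h1]
      exact hred
    obtain ⟨z, hz, -⟩ := Scheme.Pullback.exists_preimage_pullback (f := a) (g := e) o _ h2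
    exact ⟨z, hz⟩⟩
  haveI := isIso_of_isClosedImmersion_of_surjective (CategoryTheory.Limits.pullback.fst a e)
  let l := CategoryTheory.inv (CategoryTheory.Limits.pullback.fst a e) ≫ CategoryTheory.Limits.pullback.snd a e
  have hl : l ≫ e = a := by
    rw [Category.assoc, ← CategoryTheory.Limits.pullback.condition, IsIso.inv_hom_id_assoc]
  have hl2 : l = i := by
    rw [← ha, ← hl, Category.assoc, he, Category.comp_id]
  rw [hone]
  show a = i ≫ e
  rw [← hl, hl2]

end Groth.Agent.S19509
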