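import Groth.Statements.S19511


set_option autoImplicit false
universe u
open CategoryTheory CategoryTheory.Limits AlgebraicGeometry
open Variety

namespace Groth.Agent.S19511

/-- Let k be a field and f : X → Y a k-morphism between proper k-schemes which is a fibration, i.e. O_Y
→ f_*O_X is an isomorphism (Γ(V, O_Y) → Γ(f⁻¹V, O_X) bijective for every open V ⊆ Y). Then f is
surjective. (The connectedness of the fibres asserted in (i) is quoted from the literature and not
stated.) -/
theorem result (k : Type u) [Field k] (X Y : Scheme.{u})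
    [X.Over (Spec (CommRingCat.of k))] [Y.Over (Spec (CommRingCat.of k))] [IsProper (X ↘ Spec (CommRingCat.of k))] [IsProper (Y ↘ Spec (CommRingCat.of k))]
    (f : X ⟶ Y) (hf : f ≫ (Y ↘ Spec (CommRingCat.of k)) = X ↘ Spec (CommRingCat.of k)) (hfib : ∀ V : Y.Opens, IsIso (f.app V)) :
    Surjective f := by
  haveI : IsProper (f ≫ (Y ↘ Spec (CommRingCat.of k))) := by rw [hf]; infer_instance
  haveI : IsProper f := IsProper.of_comp f (Y ↘ Spec (CommRingCat.of k))
  have hc : IsClosed (Set.range f) := f.isClosedMap.isClosed_range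
  refine ⟨fun y => ?_⟩
  by_contra hy
  let V : Y.Opens := ⟨(Set.range f)ᶜ, hc.isOpen_compl⟩
  have hbot : f ⁻¹ᵁ V = ⊥ := by
    ext x
    simp [V]
  haveI := hfib V
  have hsub : Subsingleton Γ(X, f ⁻¹ᵁ V) := by rw [hbot]; infer_instance
  have h10 : (1 : Γ(Y, V)) = 0 := (ConcreteCategory.bijective_of_isIso (f.app V)).1 (@Subsingleton.elim _ hsub _ _)
  have h := congrArg (Y.presheaf.germ V y hy) h10
  rw [map_one, map_zero] at h
  exact one_ne_zero h

end Groth.Agent.S19511
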