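import Groth.Statements.S19514
import Groth.Agent.Lib.FibNormal5.Basic
import Groth.Agent.S19512

set_option autoImplicit false
universe u
open CategoryTheory CategoryTheory.Limits AlgebraicGeometry
open Variety

namespace Groth.Agent.S19514

/-- Let k be a field and f : X → Y a k-morphism between proper k-schemes which is a fibration, i.e. O_Y
→ f_*O_X is an isomorphism (Γ(V, O_Y) → Γ(f⁻¹V, O_X) bijective for every open V ⊆ Y). If X is
geometrically integral over k, then so is Y. (The assertion of (iii) for geometric normality is not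
stated here.) -/
theorem result (k : Type u) [Field k] (X Y : Scheme.{u})
    [X.Over (Spec (CommRingCat.of k))] [Y.Over (Spec (CommRingCat.of k))] [IsProper (X ↘ Spec (CommRingCat.of k))] [IsProper (Y ↘ Spec (CommRingCat.of k))]
    (f : X ⟶ Y) (hf : f ≫ (Y ↘ Spec (CommRingCat.of k)) = X ↘ Spec (CommRingCat.of k)) (hfib : ∀ V : Y.Opens, IsIso (f.app V))
    [GeometricallyIntegral (X ↘ Spec (CommRingCat.of k))] : GeometricallyIntegral (Y ↘ Spec (CommRingCat.of k)) := by
  haveI : ObjectProperty.IsClosedUnderIsomorphisms (IsIntegral : Scheme.{u} → Prop) :=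
    ⟨fun e h => haveI := h; .of_isIso e.hom⟩
  rw [geometricallyIntegral_iff, geometrically_iff_of_commRing_of_isClosedUnderIsomorphisms]
  intro K _ _
  obtain ⟨fK, hfK, hp, hfibK⟩ := GrothLib.FibNormal5.exists_fibration_baseChange k _ _ f hf hfib K
  have hI : IsIntegral (pullback (X ↘ Spec (CommRingCat.of k)) (Spec.map (CommRingCat.ofHom (algebraMap k K)))) :=
    (geometrically_iff_of_commRing_of_isClosedUnderIsomorphisms.1
      (GeometricallyIntegral.geometrically_isIntegral (f := X ↘ Spec (CommRingCat.of k)))) K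
  haveI := hI
  letI : (pullback (X ↘ Spec (CommRingCat.of k)) (Spec.map (CommRingCat.ofHom (algebraMap k K)))).Over
    (Spec (CommRingCat.of K)) := ⟨pullback.snd _ _⟩
  letI : (pullback (Y ↘ Spec (CommRingCat.of k)) (Spec.map (CommRingCat.ofHom (algebraMap k K)))).Over
    (Spec (CommRingCat.of K)) := ⟨pullback.snd _ _⟩
  haveI : IsProper ((pullback (X ↘ Spec (CommRingCat.of k)) (Spec.map (CommRingCat.ofHom (algebraMap k K)))) ↘
    (Spec (CommRingCat.of K))) := MorphismProperty.pullback_snd _ _ ‹_›
  haveI : IsProper ((pullback (Y ↘ Spec (CommRingCat.of k)) (Spec.map (CommRingCat.ofHom (algebraMap k K)))) ↘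
    (Spec (CommRingCat.of K))) := MorphismProperty.pullback_snd _ _ ‹_›
  exact Groth.Agent.S19512.result K _ _ fK hfK hfibK

end Groth.Agent.S19514
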