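import Groth.Statements.S19517
import Groth.Agent.Lib.AffPart16.Basic
import Groth.Agent.Lib.UnipFix19.Normal

set_option autoImplicit false
set_option linter.all false
set_option backward.isDefEq.respectTransparency false
universe u
open CategoryTheory CategoryTheory.Limits MonoidalCategory CartesianMonoidalCategory MonObj GrpObj AlgebraicGeometry
open AlgGrp

namespace Groth.Agent.S19517

open GrothLib in
/-- A smooth subgroup of a normal subgroup stable under conjugation by rational points is normal. -/
theorem normal_of_conj_stable {k : Type u} [Field k] [IsAlgClosed k]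
    {G W X : Over (Spec (CommRingCat.of k))} [GrpObj G] [GrpObj W] [GrpObj X] [Smooth G.hom] [Smooth X.hom]
    (j : W ⟶ G) [IsMonHom j] [IsClosedImmersion j.left] (hj : AlgGrp.IsNormalHom j)
    (x : X ⟶ W) [IsMonHom x] [IsClosedImmersion x.left]
    (hx : ∀ c : W ≅ W, IsMonHom c.hom → IsMonHom c.inv → ∃ f : X ⟶ X, f ≫ x = x ≫ c.hom) :
    AlgGrp.IsNormalHom (x ≫ j) := by
  haveI : Mono j := Over.mono_of_mono_left j
  haveI : IsClosedImmersion (x ≫ j).left := inferInstanceAs (IsClosedImmersion (x.left ≫ j.left))
  refine GrothLib.UnipFix19.isNormalHom_of_pts (x ≫ j) fun g w => ?_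
  obtain ⟨c, hc1, hc2, hc⟩ := GrothLib.UnipFix19.exists_conj_iso j hj g
  obtain ⟨f, hf⟩ := hx c hc1 hc2
  refine ⟨w ≫ f, ?_⟩
  rw [Category.assoc, reassoc_of% hf, hc, MonObj.comp_mul, MonObj.comp_mul, MonObj.comp_mul, MonObj.comp_mul,
    GrpObj.comp_inv, GrpObj.comp_inv, ← Category.assoc x (toUnit W) g, toUnit_unique (x ≫ toUnit W) (toUnit X),
    ← Category.assoc w (toUnit X) g, toUnit_unique (w ≫ toUnit X) (𝟙 _), Category.id_comp]


/-- Linear part, the assertion on the kernel: over an algebraically closed field k let G be a smooth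
k-group scheme of finite type, j : K → G a closed normal subgroup scheme of finite type, i : G_lin →
G the largest smooth connected affine normal closed subgroup scheme of G and i_K : K_lin → K the
largest smooth connected affine normal closed subgroup scheme of K. Then K_lin is contained in
G_lin, and K_lin has finite index in K ∩ G_lin in the sense that K_lin and the fibre product K ×_G
G_lin have the same dimension (K_lin is the reduced identity component of K ∩ G_lin). (The published
proposition is stated for an exact sequence e → K → G → Q → e of arbitrary algebraic groups and also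
for unipotent and solvable parts; G is assumed smooth here, and only the linear part is stated.) -/
theorem result (k : Type u) [Field k] [IsAlgClosed k]
    (G : Over (Spec (CommRingCat.of k))) [GrpObj G] [Smooth G.hom] [QuasiCompact G.hom]
    (K : Over (Spec (CommRingCat.of k))) [GrpObj K] [QuasiCompact K.hom] [LocallyOfFiniteType K.hom]
    (j : K ⟶ G) [IsMonHom j] [IsClosedImmersion j.left] (hK : AlgGrp.IsNormalHom j)
    (N : Over (Spec (CommRingCat.of k))) [GrpObj N] (i : N ⟶ G) [IsMonHom i] [IsClosedImmersion i.left]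
    [Smooth N.hom] [ConnectedSpace ↥N.left] [IsAffine N.left] (hN : AlgGrp.IsNormalHom i)
    (hNmax : (∀ (N' : Over (Spec (CommRingCat.of k))) [GrpObj N'] (i' : N' ⟶ G) [IsMonHom i'] [IsClosedImmersion i'.left]
      [Smooth N'.hom] [ConnectedSpace ↥N'.left] [IsAffine N'.left], AlgGrp.IsNormalHom i' → ∃ f : N' ⟶ N, f ≫ i = i'))
    (NK : Over (Spec (CommRingCat.of k))) [GrpObj NK] (iK : NK ⟶ K) [IsMonHom iK] [IsClosedImmersion iK.left]
    [Smooth NK.hom] [ConnectedSpace ↥NK.left] [IsAffine NK.left] (hNK : AlgGrp.IsNormalHom iK)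
    (hNKmax : (∀ (N' : Over (Spec (CommRingCat.of k))) [GrpObj N'] (i' : N' ⟶ K) [IsMonHom i'] [IsClosedImmersion i'.left]
      [Smooth N'.hom] [ConnectedSpace ↥N'.left] [IsAffine N'.left], AlgGrp.IsNormalHom i' → ∃ f : N' ⟶ NK, f ≫ iK = i')) :
    (∃ g : NK ⟶ N, g ≫ i = iK ≫ j) ∧
      topologicalKrullDim ↥NK.left = topologicalKrullDim ↥(pullback j.left i.left) := by
  haveI : IsSeparated G.hom := GrothLib.GrpSchField.isSeparated G
  haveI : Mono j := Over.mono_of_mono_left j
  haveI : Mono i := Over.mono_of_mono_left i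
  haveI : Mono iK := Over.mono_of_mono_left iK
  -- the linear part of `K` is normal in `G`
  haveI : IsClosedImmersion (iK ≫ j).left := inferInstanceAs (IsClosedImmersion (iK.left ≫ j.left))
  have hnormK : AlgGrp.IsNormalHom (iK ≫ j) := normal_of_conj_stable j hK iK fun c hc1 hc2 => by
    haveI := hc1; haveI := hc2
    haveI : IsIso c.hom.left := inferInstanceAs (IsIso ((Over.forget _).map c.hom))
    haveI : IsClosedImmersion (iK ≫ c.hom).left := inferInstanceAs (IsClosedImmersion (iK.left ≫ c.hom.left))
    refine hNKmax NK (iK ≫ c.hom) fun T a n => ?_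
    obtain ⟨n', hn'⟩ := hNK T (a ≫ c.inv) n
    refine ⟨n', ?_⟩
    rw [← Category.assoc n' iK c.hom, ← hn', MonObj.mul_comp, MonObj.mul_comp, GrpObj.inv_comp]
    simp only [Category.assoc, Iso.inv_hom_id, Category.comp_id]
  obtain ⟨g, hg⟩ := hNmax NK (iK ≫ j) hnormK
  refine ⟨⟨g, hg⟩, le_antisymm ?_ ?_⟩
  · let m := Limits.pullback.lift iK.left g.left congr(($hg).left).symm
    haveI : IsClosedImmersion (m ≫ Limits.pullback.fst j.left i.left) := by
      rw [Limits.pullback.lift_fst]; infer_instance
    haveI : IsClosedImmersion m := IsClosedImmersion.of_comp m (Limits.pullback.fst j.left i.left)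
    exact m.isEmbedding.topologicalKrullDim_le
  · let P : Over (Spec (CommRingCat.of k)) := Over.mk (Limits.pullback.fst j.left i.left ≫ K.hom)
    let b : P ⟶ K := Over.homMk (Limits.pullback.fst j.left i.left) rfl
    let a : P ⟶ N := Over.homMk (Limits.pullback.snd j.left i.left) (by
      show Limits.pullback.snd j.left i.left ≫ N.hom = Limits.pullback.fst j.left i.left ≫ K.hom
      rw [← Over.w i, ← Limits.pullback.condition_assoc, Over.w j])
    have hsqL : IsPullback a.left b.left i.left j.left := (IsPullback.of_hasPullback j.left i.left).flip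
    have hsq : IsPullback a b i j := IsPullback.of_map (Over.forget _) (Over.OverMorphism.ext hsqL.w) hsqL
    haveI : IsClosedImmersion b.left := inferInstanceAs (IsClosedImmersion (Limits.pullback.fst j.left i.left))
    haveI : IsClosedImmersion a.left := inferInstanceAs (IsClosedImmersion (Limits.pullback.snd j.left i.left))
    obtain ⟨hP, ha, hb⟩ := GrothLib.SubPre14.exists_grpObj_pullback j i a b hsq
    haveI := ha; haveI := hb
    haveI : IsAffine P.left := isAffine_of_isAffineHom a.left
    haveI : IsClosedImmersion (b ≫ j).left := inferInstanceAs (IsClosedImmersion (b.left ≫ j.left))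
    have hnormP : AlgGrp.IsNormalHom (b ≫ j) := fun T x y => by
      obtain ⟨y₁, hy₁⟩ := hN T x (y ≫ a)
      obtain ⟨y₂, hy₂⟩ := hK T x (y ≫ b)
      rw [Category.assoc, hsq.w] at hy₁
      rw [Category.assoc] at hy₂
      refine ⟨hsq.lift y₁ y₂ (hy₁.symm.trans hy₂), ?_⟩
      rw [hsq.lift_snd_assoc, hy₂]
    obtain ⟨hlP, hqP⟩ := GrothLib.AntMax16.props_of_mono b
    obtain ⟨H, _, jH, hjH, hjHc, hHs, hHc, hHdim, hlift⟩ := GrothLib.Chev24.exists_redNeutral P
    haveI := hjH; haveI := hjHc; haveI := hHs; haveI := hHc
    haveI : IsAffine H.left := isAffine_of_isAffineHom jH.left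
    have hnormH : AlgGrp.IsNormalHom (jH ≫ b ≫ j) := normal_of_conj_stable (b ≫ j) hnormP jH fun c hc1 hc2 => by
      haveI := hc1
      haveI : IsReduced H.left := GrothLib.RedSmooth.isReduced_of_smooth H.hom
      refine hlift H (jH ≫ c.hom) inferInstance inferInstance ⟨η[H].left (IsLocalRing.closedPoint k), ?_⟩
      rw [← Scheme.Hom.comp_apply, ← Over.comp_left, IsMonHom.one_hom]
    haveI : IsClosedImmersion (jH ≫ b).left := inferInstanceAs (IsClosedImmersion (jH.left ≫ b.left))
    obtain ⟨f, hf⟩ := hNKmax H (jH ≫ b) fun T x y => by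
      obtain ⟨y', hy'⟩ := hnormH T (x ≫ j) y
      refine ⟨y', ?_⟩
      rw [← cancel_mono j, MonObj.mul_comp, MonObj.mul_comp, GrpObj.inv_comp, Category.assoc, Category.assoc,
        Category.assoc, Category.assoc]
      exact hy'
    haveI : IsClosedImmersion (f.left ≫ iK.left) := by rw [← Over.comp_left, hf]; infer_instance
    haveI : IsClosedImmersion f.left := IsClosedImmersion.of_comp f.left iK.left
    show topologicalKrullDim P.left ≤ _
    exact hHdim ▸ f.left.isEmbedding.topologicalKrullDim_le

end Groth.Agent.S19517
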