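import Groth.Statements.S19518
import Groth.Agent.S8076
import Groth.Agent.Lib.UnipOnto5.Main
import Groth.Agent.Lib.UnipFix19.NeutralRad
import Groth.Agent.Lib.UnipFix19.QuotientField
import Groth.Agent.Lib.Chev24.SolvSec
import Groth.Agent.Lib.GrpExt19.ConstSplit
-- import your own Groth.Agent.* helpers here

set_option autoImplicit false
set_option linter.all false
set_option backward.isDefEq.respectTransparency false
set_option maxHeartbeats 1600000
universe u
open CategoryTheory CategoryTheory.Limits MonoidalCategory CartesianMonoidalCategory MonObj GrpObj AlgebraicGeometry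
open AlgGrp

namespace Groth.Agent.S19518

/-- The unipotent radical over an algebraically closed field. -/
theorem exists_unipRad {K : Type u} [Field K] [IsAlgClosed K] (G : Over (Spec (CommRingCat.of K))) [GrpObj G]
    [IsAffine G.left] [Smooth G.hom] :
    ∃ (R : Over (Spec (CommRingCat.of K))) (_ : GrpObj R) (r : R ⟶ G), Par.IsUnipotentRadical r := by
  obtain ⟨P, hP⟩ := GrothLib.UnipFix19.exists_largest (G := G)
  haveI : IsAffine P.U.left := isAffine_of_isAffineHom P.u.left
  refine ⟨P.U, P.grp, P.u, P.isMonHom, P.isClosedImmersion, P.normal, P.smooth, inferInstance,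
    GrothLib.Flag27.geomFibre_conditions.2 ⟨P.connected, GrothLib.UnipFix19.hasNoSubtorus_of_fix P.fix⟩,
    fun U' _ u' _ hc hn hs _ hg => ?_⟩
  haveI := hc; haveI := hs
  obtain ⟨hconn, hno⟩ := GrothLib.Flag27.geomFibre_conditions.1 hg
  haveI := hconn
  haveI : IsAffine U'.left := isAffine_of_isAffineHom u'.left
  exact hP ⟨U', inferInstance, u', inferInstance, hc, hs, hconn, hn, GrothLib.UnipFix19.fix_of_hasNoSubtorus hno⟩

variable {k : Type u} [Field k] [IsAlgClosed k]

/-- If an affine smooth group has no normal solvable connected subgroup, its neutral component is semisimple. -/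
theorem isSemisimple_neutral {G G₀ : Over (Spec (CommRingCat.of k))} [GrpObj G] [GrpObj G₀] [IsAffine G.left]
    [Smooth G.hom] (j : G₀ ⟶ G) [IsMonHom j] [IsOpenImmersion j.left] [IsClosedImmersion j.left]
    [ConnectedSpace G₀.left]
    (key : ∀ (U : Over (Spec (CommRingCat.of k))) [GrpObj U] (i : U ⟶ G) [IsMonHom i],
      IsClosedImmersion i.left → Smooth U.hom → ConnectedSpace U.left → AlgGrp.IsNormalHom i →
      Red.IsSolvableGrp U → Red.IsTrivialGrp U) : Red.IsSemisimple G₀ := by
  haveI : Mono j := Over.mono_of_mono_left j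
  haveI : IsAffine G₀.left := isAffine_of_isAffineHom j.left
  haveI : Smooth G₀.hom := by rw [← Over.w j]; infer_instance
  obtain ⟨R, _, r, hR⟩ := exists_unipRad G₀
  obtain ⟨hrm, hrc, hrn, hrs, -, hrg, hmax⟩ := id hR
  obtain ⟨-, -, hRn, -, -, -, -⟩ := GrothLib.UnipFix19.isUnipotentRadical_neutral j r hR
  haveI := hrm; haveI := hrc; haveI := hrs
  obtain ⟨hRconn, hRno⟩ := GrothLib.Flag27.geomFibre_conditions.1 hrg
  haveI := hRconn
  haveI : IsAffine R.left := isAffine_of_isAffineHom r.left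
  haveI : IsSeparated R.hom := GrothLib.GrpSchField.isSeparated R
  have hRsol : Red.IsSolvableGrp R :=
    GrothLib.Flag27.isSolvableGrp_of_points (GrothLib.Flag27.isUnip_of_noSubtorus hRno).2
  haveI : IsClosedImmersion (r ≫ j).left := by rw [Over.comp_left]; infer_instance
  haveI : IsIso R.hom := key R (r ≫ j) inferInstance hrs hRconn hRn hRsol
  have hR1 : (𝟙 R : R ⟶ R) = 1 := Over.OverMorphism.ext ((cancel_mono R.hom).1 (by rw [Over.w, Over.w]))
  have hred : Red.IsReductive G₀ := GrothLib.UnipFix19.isReductive_of_forall G₀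
    fun s N _ n _ hnc hNs hNc hNn hno _ => GrothLib.UnipFix19.isTrivialGrp_bc _ (by
      haveI := hnc; haveI := hNs; haveI := hNc
      haveI := GrothLib.Flag27.isIso_geomPt s
      haveI : Mono n := Over.mono_of_mono_left n
      obtain ⟨l, hl⟩ := hmax N n hnc hNn hNs (by
        haveI : IsAffine N.left := isAffine_of_isAffineHom n.left
        infer_instance)
        (GrothLib.Flag27.geomFibre_conditions.2 ⟨hNc, GrothLib.Flag27.hasNoSubtorus_of_bc (Red.geomPt s) hno⟩)
      refine GrothLib.UnipFix19.isTrivialGrp_of_eq_one (𝟙 N) ?_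
      rw [← cancel_mono n, Category.id_comp, MonObj.one_comp, ← hl, ← Category.id_comp r, hR1, MonObj.one_comp,
        MonObj.comp_one])
  refine GrothLib.UnipFix19.isSemisimple_of_reductive hred fun T _ t _ _ hT hc => ?_
  obtain ⟨M, _, m, hm, hmc, hMt, hMn, hMmax⟩ := GrothLib.UnipFix19.exists_largest_normalTorus G₀
  haveI := hm; haveI := hmc
  obtain ⟨-, hMs, hMconn⟩ := GrothLib.UnipFix19.torus_closed (haveI : Mono m := Over.mono_of_mono_left m; m) hMt
  haveI := hMs; haveI := hMconn
  haveI : Mono m := Over.mono_of_mono_left m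
  haveI : IsClosedImmersion (m ≫ j).left := by rw [Over.comp_left]; infer_instance
  haveI : Smooth (G ⊗ M).hom := by
    show Smooth (pullback.fst G.hom M.hom ≫ G.hom)
    infer_instance
  haveI : IsReduced (G ⊗ M).left := GrothLib.RedSmooth.isReduced_of_smooth (G ⊗ M).hom
  obtain ⟨p, hp⟩ := GrothLib.Flag27.exists_lift_of_pts (GrothLib.UnipFix19.sweep (m ≫ j)) (m ≫ j) fun v => by
    let g : 𝟙_ _ ⟶ G := v ≫ fst G M
    obtain ⟨c, hc1, hc2, hc⟩ := GrothLib.UnipFix19.exists_conj_iso j (GrothLib.UnipFix19.isNormalHom_open j) g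
    haveI := hc1
    obtain ⟨e, he⟩ := hMmax M (m ≫ c.hom) hMt fun X n x => by
      obtain ⟨x', hx'⟩ := hMn X (n ≫ c.inv) x
      refine ⟨x', ?_⟩
      haveI := hc2
      have := congrArg (· ≫ c.hom) hx'
      simpa [MonObj.mul_comp, GrpObj.inv_comp] using this
    refine ⟨(v ≫ snd G M) ≫ e, ?_⟩
    simp only [Category.assoc]; rw [reassoc_of% he, hc]
    simp only [MonObj.comp_mul, GrpObj.comp_inv, Category.assoc]
    have e1 : v ≫ snd G M ≫ m ≫ toUnit G₀ ≫ g = v ≫ fst G M := by
      simp only [g, ← Category.assoc]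
      rw [toUnit_unique (((v ≫ snd G M) ≫ m) ≫ toUnit G₀) (𝟙 _), Category.id_comp]
    rw [e1]
  have hMG : AlgGrp.IsNormalHom (m ≫ j) := fun X g n =>
    ⟨lift g n ≫ p, by rw [Category.assoc, hp, GrothLib.UnipFix19.lift_sweep]⟩
  haveI := GrothLib.UnipFix19.isCommMonObj_torus hMt
  haveI : IsIso M.hom := key M (m ≫ j) inferInstance hMs hMconn hMG (GrothLib.UnipFix19.isSolvableGrp_of_comm M)
  have hM1 : (𝟙 M : M ⟶ M) = 1 := Over.OverMorphism.ext ((cancel_mono M.hom).1 (by rw [Over.w, Over.w]))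
  obtain ⟨e, he⟩ := hMmax T t hT fun X g x => ⟨x, by rw [← hc X x g, mul_inv_cancel_right]⟩
  rw [← he, ← Category.id_comp m, hM1, MonObj.one_comp, MonObj.comp_one]

/-- A normal solvable connected subgroup of a semisimple group is trivial. -/
theorem trivial_of_solvable {H J : Over (Spec (CommRingCat.of k))} [GrpObj H] [GrpObj J] (hH : Red.IsSemisimple H)
    (i : J ⟶ H) [IsMonHom i] [IsClosedImmersion i.left] [Smooth J.hom] [ConnectedSpace J.left]
    (hn : AlgGrp.IsNormalHom i) (hs : Red.IsSolvableGrp J) : Red.IsTrivialGrp J := by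
  have hT := GrothLib.UnipFix19.isTorus_of_solvable_normal ⟨hH.1, hH.2.1, fun s => (hH.2.2 s).1⟩ i hn hs
  let s₀ : ↥(Spec (CommRingCat.of k)) := IsLocalRing.closedPoint k
  haveI := GrothLib.Flag27.isIso_geomPt (k := k) s₀
  haveI : IsClosedImmersion ((Over.pullback (Red.geomPt s₀)).map i).left :=
    GrothLib.Flag27.property_map (Red.geomPt s₀) i ‹IsClosedImmersion i.left›
  haveI h' : IsIso (Red.bc (Red.geomPt s₀) J).hom := (hH.2.2 s₀).2 (Red.bc (Red.geomPt s₀) J)
    ((Over.pullback (Red.geomPt s₀)).map i) inferInstance (GrothLib.UnipFix19.isNormalHom_map _ hn)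
    (GrothLib.Flag27.isTorus_bc_field _ hT)
  haveI : IsIso (pullback.snd J.hom (Red.geomPt s₀)) := h'
  show IsIso J.hom
  have hsq : pullback.fst J.hom (Red.geomPt s₀) ≫ J.hom = pullback.snd J.hom (Red.geomPt s₀) ≫ Red.geomPt s₀ :=
    pullback.condition
  haveI : IsIso (pullback.fst J.hom (Red.geomPt s₀) ≫ J.hom) := by rw [hsq]; infer_instance
  exact IsIso.of_isIso_comp_left (pullback.fst J.hom (Red.geomPt s₀)) J.hom

/-- A homomorphism from a connected group lands in an open and closed subgroup. -/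
theorem exists_lift_clopen {A E E₀ : Over (Spec (CommRingCat.of k))} [GrpObj A] [GrpObj E] [GrpObj E₀]
    [ConnectedSpace A.left] (f : A ⟶ E) [IsMonHom f] (c : E₀ ⟶ E) [IsMonHom c] [IsOpenImmersion c.left]
    [IsClosedImmersion c.left] : ∃ f₀ : A ⟶ E₀, IsMonHom f₀ ∧ f₀ ≫ c = f := by
  have hsub : Set.range f.left.base ⊆ Set.range c.left.base := by
    refine (isPreconnected_range f.left.continuous).subset_isClopen
      ⟨c.left.isClosedEmbedding.isClosed_range, c.left.isOpenEmbedding.isOpen_range⟩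
      ⟨(η[E] : 𝟙_ (Over (Spec (CommRingCat.of k))) ⟶ E).left (IsLocalRing.closedPoint k),
        ⟨(η[A] : 𝟙_ (Over (Spec (CommRingCat.of k))) ⟶ A).left (IsLocalRing.closedPoint k), ?_⟩,
        ⟨(η[E₀] : 𝟙_ (Over (Spec (CommRingCat.of k))) ⟶ E₀).left (IsLocalRing.closedPoint k), ?_⟩⟩
    · rw [← Scheme.Hom.comp_apply, ← Over.comp_left, IsMonHom.one_hom]
    · rw [← Scheme.Hom.comp_apply, ← Over.comp_left, IsMonHom.one_hom]
  refine ⟨Over.homMk (IsOpenImmersion.lift c.left f.left hsub) (by
    rw [← Over.w c, ← Category.assoc, IsOpenImmersion.lift_fac]; exact Over.w f), ?_,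
    Over.OverMorphism.ext (IsOpenImmersion.lift_fac _ _ _)⟩
  haveI : Mono c := Over.mono_of_mono_left c
  have e : (Over.homMk (IsOpenImmersion.lift c.left f.left hsub) (by
    rw [← Over.w c, ← Category.assoc, IsOpenImmersion.lift_fac]; exact Over.w f) : A ⟶ E₀) ≫ c = f :=
    Over.OverMorphism.ext (IsOpenImmersion.lift_fac _ _ _)
  haveI : IsMonHom ((Over.homMk (IsOpenImmersion.lift c.left f.left hsub) (by
    rw [← Over.w c, ← Category.assoc, IsOpenImmersion.lift_fac]; exact Over.w f) : A ⟶ E₀) ≫ c) := by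
    rw [e]; infer_instance
  exact GrothLib.Flag27.isMonHom_of_comp _ c


/-- Over an algebraically closed field k let e → K → G → Q → e be an exact sequence of k-group schemes
of finite type with G smooth and affine (i : K → G a closed subgroup scheme which is the kernel of
the flat surjective homomorphism π : G → Q), and let G_solv ⊆ G and Q_solv ⊆ Q be the largest smooth
connected solvable normal closed subgroup schemes. Then π maps G_solv into Q_solv and the induced
homomorphism G_solv → Q_solv is surjective. (The published proposition is stated for arbitrary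
algebraic groups; G is taken smooth, as the argument requires, and affine, the setting in which the
solvable part is considered.) -/
theorem result (k : Type u) [Field k] [IsAlgClosed k]
    (K G Q : Over (Spec (CommRingCat.of k))) [GrpObj K] [GrpObj G] [GrpObj Q]
    [QuasiCompact K.hom] [LocallyOfFiniteType K.hom] [Smooth G.hom] [QuasiCompact G.hom] [IsAffine G.left]
    [QuasiCompact Q.hom] [LocallyOfFiniteType Q.hom]
    (i : K ⟶ G) [IsMonHom i] [IsClosedImmersion i.left]
    (π : G ⟶ Q) [IsMonHom π] [Flat π.left] [Surjective π.left] (hker : AlgGrp.IsKernel i π)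
    (NG : Over (Spec (CommRingCat.of k))) [GrpObj NG] (iG : NG ⟶ G) [IsMonHom iG] [IsClosedImmersion iG.left]
    [Smooth NG.hom] [ConnectedSpace ↥NG.left] (hNGs : Red.IsSolvableGrp NG) (hNG : AlgGrp.IsNormalHom iG)
    (hNGmax : (∀ (N' : Over (Spec (CommRingCat.of k))) [GrpObj N'] (i' : N' ⟶ G) [IsMonHom i'] [IsClosedImmersion i'.left]
      [Smooth N'.hom] [ConnectedSpace ↥N'.left], Red.IsSolvableGrp N' → AlgGrp.IsNormalHom i' → ∃ f : N' ⟶ NG, f ≫ iG = i'))
    (NQ : Over (Spec (CommRingCat.of k))) [GrpObj NQ] (iQ : NQ ⟶ Q) [IsMonHom iQ] [IsClosedImmersion iQ.left]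
    [Smooth NQ.hom] [ConnectedSpace ↥NQ.left] (hNQs : Red.IsSolvableGrp NQ) (hNQ : AlgGrp.IsNormalHom iQ)
    (hNQmax : (∀ (N' : Over (Spec (CommRingCat.of k))) [GrpObj N'] (i' : N' ⟶ Q) [IsMonHom i'] [IsClosedImmersion i'.left]
      [Smooth N'.hom] [ConnectedSpace ↥N'.left], Red.IsSolvableGrp N' → AlgGrp.IsNormalHom i' → ∃ f : N' ⟶ NQ, f ≫ iQ = i')) :
    ∃ f : NG ⟶ NQ, f ≫ iQ = iG ≫ π ∧ Surjective f.left := by
  haveI : IsAffineHom G.hom := isAffineHom_of_isAffine _
  haveI : Smooth Q.hom := by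
    haveI : IsLocallyNoetherian Q.left := LocallyOfFiniteType.isLocallyNoetherian Q.hom
    haveI : LocallyOfFiniteType (π.left ≫ Q.hom) := by rw [Over.w π]; infer_instance
    haveI := locallyOfFiniteType_of_comp π.left Q.hom
    haveI : LocallyOfFinitePresentation π.left := inferInstance
    exact GrothLib.FppfSource.fppfSourceDescends_smooth π.left Q.hom ‹_› ‹_› ‹_› (by rw [Over.w π]; infer_instance)
  haveI : IsAffine Q.left := GrothLib.Chevalley.isAffine_of_surjective_hom π
  haveI : IsAffineHom Q.hom := isAffineHom_of_isAffine _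
  haveI : IsAffine NG.left := isAffine_of_isAffineHom iG.left
  haveI : IsAffine NQ.left := isAffine_of_isAffineHom iQ.left
  obtain ⟨I, _, jI, p, hjI, hp, hjIc, hIs, hIc, hIa, hIn, hpI, hps⟩ := GrothLib.UnipOnto5.exists_image_surj π iG hNG
  haveI := hjI; haveI := hp; haveI := hjIc; haveI := hIs; haveI := hIc; haveI := hIa; haveI := hps
  have hIsol : Red.IsSolvableGrp I := GrothLib.Chev24.isSolvableGrp_quot p hNGs
  obtain ⟨l, hl⟩ := hNQmax I jI hIsol hIn
  refine ⟨p ≫ l, by rw [Category.assoc, hl, hpI], ?_⟩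
  haveI : Mono iG := Over.mono_of_mono_left iG
  haveI : LocallyOfFiniteType NG.hom := inferInstance
  haveI : LocallyOfFiniteType I.hom := inferInstance
  -- the quotients
  obtain ⟨Gb, _, q, hq, hGs, hGq, hqf, hqs, -, hkerG⟩ := GrothLib.Chev24.exists_quot iG hNG
  haveI := hq; haveI := hGs; haveI := hGq; haveI := hqf; haveI := hqs
  obtain ⟨Qb, _, q', hq', hQs, hQq, hq'f, hq's, -, hkerQ⟩ := GrothLib.Chev24.exists_quot jI hIn
  haveI := hq'; haveI := hQs; haveI := hQq; haveI := hq'f; haveI := hq's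
  haveI : IsAffine Gb.left := GrothLib.Chevalley.isAffine_of_surjective_hom q
  haveI : IsAffine Qb.left := GrothLib.Chevalley.isAffine_of_surjective_hom q'
  haveI : IsReduced Qb.left := GrothLib.RedSmooth.isReduced_of_smooth Qb.hom
  haveI : IsSeparated Qb.hom := GrothLib.GrpSchField.isSeparated Qb
  haveI : IsLocallyNoetherian Gb.left := LocallyOfFiniteType.isLocallyNoetherian Gb.hom
  haveI : LocallyOfFinitePresentation q.left := by
    haveI : LocallyOfFiniteType (q.left ≫ Gb.hom) := by rw [Over.w q]; infer_instance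
    haveI := locallyOfFiniteType_of_comp q.left Gb.hom
    infer_instance
  obtain ⟨φ, hφ⟩ := GrothLib.DiagGrp.exists_desc q (π ≫ q') fun T x y h => by
    have h1 : (x⁻¹ * y) ≫ q = toUnit T ≫ η[Gb] := by
      rw [MonObj.mul_comp, GrpObj.inv_comp, h, _root_.inv_mul_cancel, Hom.one_def]
    obtain ⟨w, hw1, -⟩ := hkerG.exists_lift (x⁻¹ * y) (toUnit T) h1
    have h2 : (w ≫ p ≫ jI) ≫ q' = 1 := by
      simp only [Category.assoc]
      rw [hkerQ.w, ← Category.assoc p, ← Category.assoc w, toUnit_unique (w ≫ p ≫ toUnit I) (toUnit T), Hom.one_def]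
    rw [hpI, ← Category.assoc w, hw1, Category.assoc, MonObj.mul_comp, GrpObj.inv_comp, inv_mul_eq_one] at h2
    exact h2
  haveI : Surjective φ.left := by
    haveI : Surjective (q.left ≫ φ.left) := by rw [← Over.comp_left, hφ, Over.comp_left]; infer_instance
    exact Surjective.of_comp q.left φ.left
  haveI : IsMonHom φ := by
    haveI : IsMonHom (q ≫ φ) := by rw [hφ]; infer_instance
    exact GrothLib.QuotTorus14.isMonHom_desc q φ
  haveI : Flat φ.left := GrothLib.GrpSchField.flat_hom φ
  haveI : LocallyOfFinitePresentation φ.left := by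
    haveI : IsLocallyNoetherian Qb.left := LocallyOfFiniteType.isLocallyNoetherian Qb.hom
    haveI : LocallyOfFiniteType (φ.left ≫ Qb.hom) := by rw [Over.w φ]; infer_instance
    haveI := locallyOfFiniteType_of_comp φ.left Qb.hom
    infer_instance
  -- no solvable normal subgroup in the quotient
  have key : ∀ (U : Over (Spec (CommRingCat.of k))) [GrpObj U] (n₀ : U ⟶ Gb) [IsMonHom n₀],
      IsClosedImmersion n₀.left → Smooth U.hom → ConnectedSpace U.left → AlgGrp.IsNormalHom n₀ →
      Red.IsSolvableGrp U → Red.IsTrivialGrp U := by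
    intro U _ n₀ _ hi hUs hUc hUn hUsol
    haveI := hi; haveI := hUs; haveI := hUc
    obtain ⟨N, _, n, a, hn, ha', hnc, hNs, hNc, hNn, hsurj, hw⟩ :=
      GrothLib.UnipFix19.exists_preimage_field q iG hkerG n₀ hUn
    haveI := hn; haveI := ha'; haveI := hnc; haveI := hNs; haveI := hNc; haveI := hsurj
    haveI : Mono n := Over.mono_of_mono_left n
    haveI : Mono n₀ := Over.mono_of_mono_left n₀
    haveI : IsAffine N.left := isAffine_of_isAffineHom n.left
    obtain ⟨f, hf⟩ := hNGmax N n (GrothLib.UnipFix19.isSolvableGrp_preimage_field q iG hkerG n a n₀ hw hNGs hUsol) hNn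
    refine GrothLib.UnipFix19.isTrivialGrp_of_eq_one a ?_
    rw [← cancel_mono n₀, hw, ← hf, Category.assoc, hkerG.w, MonObj.one_comp, Hom.one_def, ← Category.assoc,
      toUnit_unique (f ≫ toUnit NG) (toUnit N)]
  obtain ⟨H, _, c, hc, hco, hHk, hHi, hHl⟩ := GrothLib.GrpExt19.exists_neutral Gb
  haveI := hc; haveI := hco; haveI := hHk; haveI := hHi; haveI := hHl
  haveI := GrothLib.UnipFix19.isClosedImmersion_open c
  obtain ⟨H', _, c', hc', hco', hHk', hHi', hHl'⟩ := GrothLib.GrpExt19.exists_neutral Qb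
  haveI := hc'; haveI := hco'; haveI := hHk'; haveI := hHi'; haveI := hHl'
  haveI := GrothLib.UnipFix19.isClosedImmersion_open c'
  haveI : Mono c' := Over.mono_of_mono_left c'
  haveI : Smooth H'.hom := by rw [← Over.w c']; infer_instance
  obtain ⟨φ₀, hφ₀m, hφ₀⟩ := exists_lift_clopen (c ≫ φ) c'
  haveI := hφ₀m
  haveI : Surjective φ₀.left := by
    have hclosed : IsClosed (Set.range (c ≫ φ).left.base) := by
      haveI : QuasiCompact H.hom := (quasiCompact_iff_compactSpace H.hom).mpr inferInstance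
      haveI : QuasiCompact (c ≫ φ).left := by
        haveI : QuasiCompact ((c ≫ φ).left ≫ Qb.hom) := by rw [Over.w]; infer_instance
        exact QuasiCompact.of_comp _ Qb.hom
      exact GrothLib.Neutral.isClosed_range_hom (u := c ≫ φ)
    have hopen : IsOpen (Set.range (c ≫ φ).left.base) := by
      rw [Over.comp_left]
      exact (c.left ≫ φ.left).isOpenMap.isOpen_range
    have hu : (c'.left.base ⁻¹' Set.range (c ≫ φ).left.base) = Set.univ :=
      IsClopen.eq_univ ⟨hclosed.preimage c'.left.continuous, hopen.preimage c'.left.continuous⟩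
        ⟨(η[H'] : 𝟙_ (Over (Spec (CommRingCat.of k))) ⟶ H').left (IsLocalRing.closedPoint k),
          (η[H] : 𝟙_ (Over (Spec (CommRingCat.of k))) ⟶ H).left (IsLocalRing.closedPoint k), by
            rw [← Scheme.Hom.comp_apply, ← Scheme.Hom.comp_apply, ← Over.comp_left, ← Over.comp_left,
              IsMonHom.one_hom, IsMonHom.one_hom]⟩
    refine ⟨fun y => ?_⟩
    obtain ⟨x, hx⟩ := (hu.symm ▸ Set.mem_univ y : y ∈ c'.left.base ⁻¹' Set.range (c ≫ φ).left.base)
    exact ⟨x, c'.left.isOpenEmbedding.injective (by rw [← hx, ← hφ₀]; rfl)⟩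
  have hH' : Red.IsSemisimple H' := Groth.Agent.S8076.result k H (isSemisimple_neutral c key) H' φ₀
  obtain ⟨J, _, jJ, p', hjJ, hp', hjJc, hJs, hJc, hJa, hJn, hpJ, hp's⟩ :=
    GrothLib.UnipOnto5.exists_image_surj q' iQ hNQ
  haveI := hjJ; haveI := hp'; haveI := hjJc; haveI := hJs; haveI := hJc; haveI := hJa; haveI := hp's
  obtain ⟨j₀, hj₀m, hj₀⟩ := exists_lift_clopen jJ c'
  haveI := hj₀m
  haveI : IsClosedImmersion j₀.left := by
    haveI : IsClosedImmersion (j₀.left ≫ c'.left) := by rw [← Over.comp_left, hj₀]; infer_instance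
    exact IsClosedImmersion.of_comp j₀.left c'.left
  haveI : IsIso J.hom := trivial_of_solvable hH' j₀ (fun X g n => by
    obtain ⟨n', hn'⟩ := hJn X (g ≫ c') n
    refine ⟨n', ?_⟩
    rw [← cancel_mono c', MonObj.mul_comp, MonObj.mul_comp, GrpObj.inv_comp, Category.assoc, Category.assoc, hj₀]
    exact hn') (GrothLib.Chev24.isSolvableGrp_quot p' hNQs)
  have hJ1 : p' = 1 := Over.OverMorphism.ext ((cancel_mono J.hom).1 (by rw [Over.w, Over.w]))
  have h3 : iQ ≫ q' = toUnit NQ ≫ η[Qb] := by rw [← hpJ, hJ1, MonObj.one_comp, Hom.one_def]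
  obtain ⟨m, hm, -⟩ := hkerQ.exists_lift iQ (toUnit NQ) h3
  haveI : Mono iQ := Over.mono_of_mono_left iQ
  have hml : m ≫ l = 𝟙 NQ := by rw [← cancel_mono iQ, Category.assoc, hl, hm, Category.id_comp]
  haveI : Surjective l.left := ⟨fun y => ⟨m.left y, by rw [← Scheme.Hom.comp_apply, ← Over.comp_left, hml]; rfl⟩⟩
  rw [Over.comp_left]; infer_instance

end Groth.Agent.S19518
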