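import Groth.Statements.S19519
import Groth.Agent.Lib.OrbitDim.Basic
-- import your own Groth.Agent.* helpers here

set_option autoImplicit false
universe u
open CategoryTheory MonoidalCategory CartesianMonoidalCategory MonObj GrpObj AlgebraicGeometry
open AlgGrp

namespace Groth.Agent.S19519

/-- Let k be an algebraically closed field, G a smooth k-group scheme of finite type acting on a
k-scheme X of finite type, and x a rational point of X. If the orbit of x — the image of the orbit
map G → X, g ↦ g · x, with its subspace topology — has Krull dimension at most that of the orbit of
every rational point of X, then the orbit of x is closed in X. (The first assertions of the lemma,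
local closedness and smoothness of orbits over any field, are not restated here.) -/
theorem result (k : Type u) [Field k] [IsAlgClosed k]
    (G X : Over (Spec (CommRingCat.of k))) [GrpObj G] [Smooth G.hom] [QuasiCompact G.hom]
    [LocallyOfFiniteType X.hom] [QuasiCompact X.hom] (a : AlgGrp.Action G X)
    (x : 𝟙_ (Over (Spec (CommRingCat.of k))) ⟶ X)
    (hmin : ∀ y : 𝟙_ (Over (Spec (CommRingCat.of k))) ⟶ X,
      topologicalKrullDim (Set.range (a.orbitMap x).left.base) ≤ topologicalKrullDim (Set.range (a.orbitMap y).left.base)) :
    IsClosed (Set.range (a.orbitMap x).left.base) := by
  exact GrothLib.OrbitDim.isClosed_of_minimal a x hmin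


end Groth.Agent.S19519
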