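import Groth.Statements.S1952
import Groth.Agent.Lib.ChiDev4.P1Diff
-- import your own Groth.Agent.* helpers here

set_option autoImplicit false
set_option linter.all false
set_option backward.isDefEq.respectTransparency false
universe u
open CategoryTheory CategoryTheory.Limits AlgebraicGeometry
attribute [local instance] HasDerivedCategory.standard
open IntMult

namespace Groth.Agent.S1952

/-- Let α be a (k + 1)-cycle on P^1_X (X a nonsingular variety, P^1_X of dimension n + 1 with dimension
function δP) intersecting the divisors X × 0 and X × ∞ (the images of the two sections, as prime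
cycles) properly. Then pr_{X,*}(α · [X × 0] − α · [X × ∞]) ∼_rat 0 as a k-cycle on X (the source's
two distinct closed points a, b of P^1 are taken to be 0 and ∞), for any cycle on P^1_X with the
coefficients of α · [X × 0] − α · [X × ∞]. Here X is a nonsingular variety over the algebraically
closed field K (smooth, separated, quasi-compact, integral) with dimension function δ (transcendence
degree) and n = dim X; cycles are Mathlib AlgebraicCycles with Cyc.Zk membership, proper
intersection is IntMult.IntersectProperly and α · β is the Tor-formula intersection product on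
coefficient functions (IntMult.interProd), bundled where needed as 'any cycle with these
coefficients'. -/
theorem result (K : Type u) [Field K] [IsAlgClosed K] (X : Scheme.{u}) (f : X ⟶ Spec (CommRingCat.of K)) [Smooth f] [IsSeparated f] [QuasiCompact f] [IsIntegral X] (δ : X → ℤ) (hX : Cyc.IsSetup X δ) (hδ : Cyc.DeltaCompat f δ (fun _ => 0)) (n : ℤ) (hn : δ (genericPoint X) = n) (δP : ↥(CohB1.ProjSpaceOver 1 X) → ℤ) (hPX : Cyc.IsSetup (CohB1.ProjSpaceOver 1 X) δP) (hP : Cyc.DeltaCompat (CohB1.ProjSpaceOver.toBase 1 X) δP δ) [QuasiCompact (CohB1.ProjSpaceOver.toBase 1 X)] (k : ℤ) (α : AlgebraicCycle (CohB1.ProjSpaceOver 1 X) ℤ) (hα : α ∈ Cyc.Zk _ δP (k + 1)) (h0 : IntMult.IntersectProperly δP (n + 1) ⇑α (Set.indicator {P1.sect X 0 (genericPoint X)} 1)) (h1 : IntMult.IntersectProperly δP (n + 1) ⇑α (Set.indicator {P1.sect X 1 (genericPoint X)} 1)) (γ : AlgebraicCycle (CohB1.ProjSpaceOver 1 X) ℤ) (hγ : ⇑γ = IntMult.interProd δP (n + 1) ⇑α (Set.indicator {P1.sect X 0 (genericPoint X)} 1) - IntMult.interProd δP (n + 1) ⇑α (Set.indicator {P1.sect X 1 (genericPoint X)}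 1)) : Cyc.RatEquivZero δ k (AlgebraicCycle.map (CohB1.ProjSpaceOver.toBase 1 X) δP δ γ) := by
  exact GrothLib.ChiDev4.map_interProd_fibre_diff f hX hn hP k α hα h0 h1 γ hγ

end Groth.Agent.S1952
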