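import Groth.Statements.S19521
-- import your own Groth.Agent.* helpers here
import Groth.Agent.Lib.Poincare.DualRel

set_option autoImplicit false
universe u
open CategoryTheory CategoryTheory.Limits MonoidalCategory CartesianMonoidalCategory MonObj GrpObj AlgebraicGeometry
open AbDual

namespace Groth.Agent.S19521

/-- Let S be a locally Noetherian scheme and f : A' → A a homomorphism of abelian schemes over S. Let
A^t, A'^t be dual abelian schemes of A, A' (given through φ_A, φ_A', fppf topology, classes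
algebraically equivalent to zero on geometric fibres), A^tt, A'^tt dual abelian schemes of A^t, A'^t
(through φ_{A^t}, φ_{A'^t}), ξ and ξ' Poincaré classes on A ×_S A^t and A' ×_S A'^t whose
factor-swapped classes are algebraically equivalent to zero on the geometric fibres over A and A',
f^t : A^t → A'^t the transpose of f and f^tt : A'^tt → A^tt the transpose of f^t. With κ_A : A →
A^tt and κ_A' : A' → A'^tt the biduality morphisms defined by the swapped Poincaré classes, the
square commutes: f followed by κ_A equals κ_A' followed by f^tt. (The published statement is for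
projective abelian schemes over a Noetherian base, where the duals exist as schemes; here the duals
are given as data.) -/
theorem result {S : Scheme.{u}} [IsLocallyNoetherian S]
    (A At Att A' A't A'tt : Over S) [GrpObj A] [IsCommMonObj A] [IsProper A.hom] [Smooth A.hom] [GeometricallyConnected A.hom] [GrpObj At] [IsCommMonObj At] [IsProper At.hom] [Smooth At.hom] [GeometricallyConnected At.hom] [GrpObj Att] [IsCommMonObj Att] [IsProper Att.hom] [Smooth Att.hom] [GeometricallyConnected Att.hom]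
    [GrpObj A'] [IsCommMonObj A'] [IsProper A'.hom] [Smooth A'.hom] [GeometricallyConnected A'.hom] [GrpObj A't] [IsCommMonObj A't] [IsProper A't.hom] [Smooth A't.hom] [GeometricallyConnected A't.hom] [GrpObj A'tt] [IsCommMonObj A'tt] [IsProper A'tt.hom] [Smooth A'tt.hom] [GeometricallyConnected A'tt.hom]
    (φA : ∀ T : Over S, PicF.Cl (PicF.XT A.hom T) → (T ⟶ At))
    (φAt : ∀ T : Over S, PicF.Cl (PicF.XT At.hom T) → (T ⟶ Att))
    (φA' : ∀ T : Over S, PicF.Cl (PicF.XT A'.hom T) → (T ⟶ A't))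
    (φA't : ∀ T : Over S, PicF.Cl (PicF.XT A't.hom T) → (T ⟶ A'tt))
    (hA : AbDual.IsDualAV Scheme.fppfPrecoverage A At φA) (hAt : AbDual.IsDualAV Scheme.fppfPrecoverage At Att φAt)
    (hA' : AbDual.IsDualAV Scheme.fppfPrecoverage A' A't φA') (hA't : AbDual.IsDualAV Scheme.fppfPrecoverage A't A'tt φA't)
    (ξ : PicF.Cl (PicF.XT A.hom At)) (hξ : AbDual.IsPoincareCl A At φA ξ)
    (hξs : AbDual.IsPicZeroCl At.hom A (PicF.pullCl (pullbackSymmetry At.hom A.hom).hom ξ))
    (ξ' : PicF.Cl (PicF.XT A'.hom A't)) (hξ' : AbDual.IsPoincareCl A' A't φA' ξ')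
    (hξ's : AbDual.IsPicZeroCl A't.hom A' (PicF.pullCl (pullbackSymmetry A't.hom A'.hom).hom ξ'))
    (f : A' ⟶ A) [IsMonHom f] (ft : At ⟶ A't) (hft : AbDual.IsTranspose f φA' φA ft)
    (ftt : A'tt ⟶ Att) (hftt : AbDual.IsTranspose ft φAt φA't ftt) :
    f ≫ φAt A (PicF.pullCl (pullbackSymmetry At.hom A.hom).hom ξ) =
      φA't A' (PicF.pullCl (pullbackSymmetry A't.hom A'.hom).hom ξ') ≫ ftt := by
  haveI := GrothLib.Dual.geometricallyIntegral_of_abScheme A'
  obtain ⟨P, rfl, hP, -⟩ := hξ.1
  obtain ⟨P', rfl, hP', -⟩ := hξ'.1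
  obtain ⟨hz, hid, hrig⟩ := hξ
  obtain ⟨hz', hid', hrig'⟩ := hξ'
  have hx := GrothLib.Cube.hasCls_clsMod hP
  have hx' := GrothLib.Cube.hasCls_clsMod hP'
  set x : GrothLib.Cube.Pic (A ⊗ At).left := GrothLib.Cube.clsMod hP
  set x' : GrothLib.Cube.Pic (A' ⊗ A't).left := GrothLib.Cube.clsMod hP'
  have hw : ∀ (B C : Over S), (pullbackSymmetry B.hom C.hom).hom = (lift (snd B C) (fst B C)).left := fun B C => by
    refine pullback.hom_ext ?_ ?_
    · exact (pullbackSymmetry_hom_comp_fst _ _).trans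
        (congrArg (fun h : B ⊗ C ⟶ C => h.left) (lift_fst (snd B C) (fst B C))).symm
    · exact (pullbackSymmetry_hom_comp_snd _ _).trans
        (congrArg (fun h : B ⊗ C ⟶ B => h.left) (lift_snd (snd B C) (fst B C))).symm
  rw [hw At A] at hξs ⊢
  rw [hw A't A'] at hξ's ⊢
  have hz1 := (GrothLib.Dual.pz_iff hx).1 hz
  have hz1' := (GrothLib.Dual.pz_iff hx').1 hz'
  have hsw := (GrothLib.Dual.pz_iff (hx.pullback _)).1 hξs
  have hsw' := (GrothLib.Dual.pz_iff (hx'.pullback _)).1 hξ's
  rw [GrothLib.Dual.dphi_eq (φ := φA) hx] at hid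
  rw [GrothLib.Dual.dphi_eq (φ := φA') hx'] at hid'
  rw [GrothLib.Dual.secT_eq] at hrig hrig'
  have hr := GrothLib.Dual.cls_eq_of_cl_eq (hx.pullback _) (GrothLib.Cube.hasCls_structureModule _) hrig
  have hr' := GrothLib.Dual.cls_eq_of_cl_eq (hx'.pullback _) (GrothLib.Cube.hasCls_structureModule _) hrig'
  -- the two classes on `A' × At`
  have key : GrothLib.Cube.pull (f ▷ At).left x = GrothLib.Cube.pull (A' ◁ ft).left x' := by
    refine GrothLib.Dual.eq_of_dphi hA' (hz1.pullHom f) (hz1'.pullT ft) ?_ ?_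
    · rw [GrothLib.CubeRel26.pull_pull_over, GrothLib.CubeRel26.pull_pull_over]
      have e1 : lift (1 : At ⟶ A') (𝟙 At) ≫ f ▷ At = lift (1 : At ⟶ A) (𝟙 At) := by
        apply CartesianMonoidalCategory.hom_ext <;> simp [MonObj.one_comp]
      have e2 : lift (1 : At ⟶ A') (𝟙 At) ≫ A' ◁ ft = ft ≫ lift (1 : A't ⟶ A') (𝟙 A't) := by
        apply CartesianMonoidalCategory.hom_ext <;> simp [MonObj.comp_one]
      rw [e1, e2, ← GrothLib.CubeRel26.pull_pull_over ft, hr, hr', map_one]
    · rw [GrothLib.Dual.dphi_transpose hft hz1, GrothLib.Dual.dphi_pull hA' hz1' ft, hid, hid', Category.id_comp,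
        Category.comp_id]
  show f ≫ φAt A (PicF.cl _) = φA't A' (PicF.cl _) ≫ ftt
  rw [GrothLib.Dual.dphi_eq (φ := φAt) (hx.pullback _), GrothLib.Dual.dphi_eq (φ := φA't) (hx'.pullback _),
    ← GrothLib.Dual.dphi_pull hAt hsw f, ← GrothLib.Dual.dphi_transpose hftt hsw']
  congr 1
  have e3 : (At ◁ f) ≫ lift (snd At A) (fst At A) = lift (snd At A') (fst At A') ≫ f ▷ At := by
    apply CartesianMonoidalCategory.hom_ext <;> simp
  have e4 : ft ▷ A' ≫ lift (snd A't A') (fst A't A') = lift (snd At A') (fst At A') ≫ A' ◁ ft := by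
    apply CartesianMonoidalCategory.hom_ext <;> simp
  rw [GrothLib.CubeRel26.pull_pull_over, GrothLib.CubeRel26.pull_pull_over, e3, e4,
    ← GrothLib.CubeRel26.pull_pull_over, ← GrothLib.CubeRel26.pull_pull_over, key]

end Groth.Agent.S19521
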