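import Groth.Statements.S19522
import Mathlib.Algebra.Polynomial.Basic
import Mathlib.LinearAlgebra.DirectSum.Finsupp
import Mathlib.Algebra.Polynomial.Coeff

set_option autoImplicit false
universe u
open TensorProduct
open GLin

namespace Groth.Agent.S19522

open scoped Polynomial

/-- Let k be a field, A a commutative k-bialgebra coacting multiplicatively on a commutative k-algebra
R, and χ ∈ A a group-like element with an inverse χ' (χχ' = 1). Suppose the polynomial ring R[t]
carries a multiplicative coaction which restricts to the given one on constants and sends t to t ⊗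
χ'. Then g ∈ R[t] is coinvariant if and only if, for every r, its r-th coefficient has coaction g_r
↦ g_r ⊗ χ^r; that is, the ring of invariants of R[t] is the sum over r ≥ 0 of the weight-χ^r
semi-invariants of R times t^r. (The published statement is phrased for an affine variety with an
action of a linear algebraic group over an algebraically closed field of characteristic zero and
identifies the invariants of X × A¹ with the graded ring of invariant sections of the powers of the
linearised trivial bundle; this is its coordinate-ring content, valid over any field.) -/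
theorem result (k : Type u) [Field k]
    (A : Type u) [CommRing A] [Bialgebra k A]
    (R : Type u) [CommRing R] [Algebra k R] [HopfRep.Comod k A R] [GLin.IsCoactAlg k A R]
    [HopfRep.Comod k A (Polynomial R)] [GLin.IsCoactAlg k A (Polynomial R)]
    (χ χ' : A) (hχ : CoalgebraStruct.comul (R := k) (A := A) χ = χ ⊗ₜ[k] χ)
    (hχε : CoalgebraStruct.counit (R := k) (A := A) χ = 1) (hχχ' : χ * χ' = 1)
    (hC : ∀ r : R, HopfRep.Comod.coact (k := k) (A := A) (Polynomial.C r) =
      Algebra.TensorProduct.map (Polynomial.CAlgHom : R →ₐ[k] Polynomial R) (AlgHom.id k A)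
        (HopfRep.Comod.coact (k := k) (A := A) r))
    (hX : HopfRep.Comod.coact (k := k) (A := A) (Polynomial.X : Polynomial R) = Polynomial.X ⊗ₜ[k] χ')
    (g : Polynomial R) :
    g ∈ GLin.invariants k A (Polynomial R) ↔
      ∀ r : ℕ, g.coeff r ∈ HopfRep.eigenspace k A R (χ ^ r) := by
  classical
  let L : ℕ → (Polynomial R ⊗[k] A →ₗ[k] R ⊗[k] A) := fun r =>
    ((Polynomial.lcoeff R r).restrictScalars k).rTensor A
  have hext : ∀ y z : Polynomial R ⊗[k] A, (∀ r, L r y = L r z) → y = z := by
    intro y z h
    let E : Polynomial R ≃ₗ[k] (ℕ →₀ R) :=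
      { toFun := fun p => Finsupp.ofSupportFinite p.coeff (p.support.finite_toSet.subset fun n hn => by
          simpa [Polynomial.mem_support_iff] using hn)
        map_add' := fun p q => by ext n; simp [Finsupp.ofSupportFinite]
        map_smul' := fun c p => by ext n; simp [Finsupp.ofSupportFinite]
        invFun := fun c => ∑ n ∈ c.support, Polynomial.monomial n (c n)
        left_inv := fun p => by
          ext n
          simp [Finsupp.ofSupportFinite, Polynomial.coeff_monomial, Polynomial.finset_sum_coeff,
            Finset.sum_ite_eq', eq_comm]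
        right_inv := fun c => by
          ext n
          simp [Finsupp.ofSupportFinite, Polynomial.coeff_monomial, Polynomial.finset_sum_coeff,
            Finset.sum_ite_eq', eq_comm] }
    let Φ := LinearEquiv.rTensor A E ≪≫ₗ TensorProduct.finsuppLeft k k R A ℕ
    have hΦ : ∀ (w : Polynomial R ⊗[k] A) (r : ℕ), Φ w r = L r w := by
      intro w r
      induction w using TensorProduct.induction_on with
      | zero => simp
      | add p q hp hq => simp only [map_add, Finsupp.add_apply, hp, hq]
      | tmul p a =>
        simp [Φ, L, E, Finsupp.ofSupportFinite, TensorProduct.finsuppLeft_apply_tmul_apply]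
    exact Φ.injective (Finsupp.ext fun r => by rw [hΦ, hΦ, h])
  let Cm := Algebra.TensorProduct.map (Polynomial.CAlgHom : R →ₐ[k] Polynomial R) (AlgHom.id k A)
  have hL : ∀ (p : Polynomial R) (r : ℕ),
      L r (HopfRep.Comod.coact (k := k) (A := A) p) =
        HopfRep.Comod.coact (k := k) (A := A) (p.coeff r) * ((1 : R) ⊗ₜ[k] (χ' ^ r)) := by
    intro p r
    have hmul : ∀ x y : Polynomial R, HopfRep.Comod.coact (k := k) (A := A) (x * y) =
        HopfRep.Comod.coact (k := k) (A := A) x * HopfRep.Comod.coact (k := k) (A := A) y :=
      fun x y => map_mul (GLin.coactAlgHom k A (Polynomial R)) x y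
    induction p using Polynomial.induction_on' with
    | add p q hp hq => simp only [map_add, Polynomial.coeff_add, add_mul, hp, hq]
    | monomial n a =>
      have hpow : HopfRep.Comod.coact (k := k) (A := A) (Polynomial.X ^ n : Polynomial R) =
          (Polynomial.X ^ n : Polynomial R) ⊗ₜ[k] (χ' ^ n) := by
        show GLin.coactAlgHom k A (Polynomial R) _ = _
        rw [map_pow]
        show (HopfRep.Comod.coact (k := k) (A := A) (Polynomial.X : Polynomial R)) ^ n = _
        rw [hX, Algebra.TensorProduct.tmul_pow]
      rw [← Polynomial.C_mul_X_pow_eq_monomial, hmul, hC, hpow, Polynomial.coeff_C_mul_X_pow]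
      split_ifs with hr
      · subst hr
        induction HopfRep.Comod.coact (k := k) (A := A) a using TensorProduct.induction_on with
        | zero => simp
        | add p q hp hq => simp only [map_add, add_mul, hp, hq]
        | tmul u v => simp [L, Polynomial.CAlgHom, Polynomial.coeff_X_pow]
      · rw [map_zero, zero_mul]
        induction HopfRep.Comod.coact (k := k) (A := A) a using TensorProduct.induction_on with
        | zero => simp
        | add p q hp hq => simp only [map_add, add_mul, hp, hq, add_zero]
        | tmul u v => simp [L, Polynomial.CAlgHom, Polynomial.coeff_X_pow, hr]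
  have hχr : ∀ r : ℕ, χ' ^ r * χ ^ r = 1 := fun r => by rw [← mul_pow, mul_comm χ', hχχ', one_pow]
  constructor
  · intro hg r
    have hg' : HopfRep.Comod.coact (k := k) (A := A) g = g ⊗ₜ[k] (1 : A) := hg
    have h := hL g r
    rw [hg'] at h
    have h2 : g.coeff r ⊗ₜ[k] (1 : A) =
        HopfRep.Comod.coact (k := k) (A := A) (g.coeff r) * ((1 : R) ⊗ₜ[k] (χ' ^ r)) := by
      simpa [L] using h
    show HopfRep.Comod.coact (k := k) (A := A) (g.coeff r) = _
    rw [← mul_one (HopfRep.Comod.coact (k := k) (A := A) (g.coeff r)),
      show (1 : R ⊗[k] A) = ((1 : R) ⊗ₜ[k] (χ' ^ r)) * ((1 : R) ⊗ₜ[k] (χ ^ r)) by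
        simp [hχr, Algebra.TensorProduct.one_def], ← mul_assoc, ← h2]
    simp
  · intro hg
    refine hext _ _ fun r => ?_
    rw [hL, show HopfRep.Comod.coact (k := k) (A := A) (g.coeff r) = _ from hg r]
    simp [L, mul_comm (χ ^ r), hχr]

end Groth.Agent.S19522
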