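import Groth.Statements.S1953
import Groth.Agent.Lib.ChiDev4.DiagProd
-- import your own Groth.Agent.* helpers here

set_option autoImplicit false
set_option linter.all false
set_option backward.isDefEq.respectTransparency false
universe u
open CategoryTheory CategoryTheory.Limits AlgebraicGeometry
attribute [local instance] HasDerivedCategory.standard
open IntMult

namespace Groth.Agent.S1953

/-- Let X be a proper nonsingular variety over K, α an r-cycle and β an s-cycle intersecting properly, Δ
⊆ X ×_K X the diagonal (as the prime cycle of its generic point) and α × β the exterior product,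
with dimension function δ₂ on X ×_K X. Then [Δ] and α × β intersect properly and pr_{1,*}([Δ] · (α ×
β)) = α · β coefficientwise, for any cycle on X ×_K X with the coefficients of [Δ] · (α × β). Here X
is a nonsingular variety over the algebraically closed field K (smooth, separated, quasi-compact,
integral) with dimension function δ (transcendence degree) and n = dim X; cycles are Mathlib
AlgebraicCycles with Cyc.Zk membership, proper intersection is IntMult.IntersectProperly and α · β
is the Tor-formula intersection product on coefficient functions (IntMult.interProd), bundled where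
needed as 'any cycle with these coefficients'. -/
theorem result (K : Type u) [Field K] [IsAlgClosed K] (X : Scheme.{u}) (f : X ⟶ Spec (CommRingCat.of K)) [Smooth f] [IsProper f] [IsIntegral X] (δ : X → ℤ) (hX : Cyc.IsSetup X δ) (hδ : Cyc.DeltaCompat f δ (fun _ => 0)) (n : ℤ) (hn : δ (genericPoint X) = n) (δ₂ : ↥(pullback f f) → ℤ) (h₂ : Cyc.DeltaCompat (pullback.fst f f ≫ f) δ₂ (fun _ => 0)) (h₂' : Cyc.DeltaCompat (pullback.fst f f) δ₂ δ) (r s : ℤ) (α β : AlgebraicCycle X ℤ) (hα : α ∈ Cyc.Zk X δ r) (hβ : β ∈ Cyc.Zk X δ s) (hprop : IntMult.IntersectProperly δ n ⇑α ⇑β) (γ : AlgebraicCycle (pullback f f) ℤ) (hγ : ⇑γ = IntMult.interProd δ₂ (n + n) (Set.indicator {pullback.diagonal f (genericPoint X)} 1) (IntMult.extProd f f δ δ δ₂ ⇑α ⇑β)) : IntMult.IntersectProperly δ₂ (n + n) (Set.indicator {pullback.diagonal f (genericPoint X)} 1) (IntMult.extProd f f δ δ δ₂ ⇑α ⇑β) ∧ ⇑(AlgebraicCycle.map (pullback.fst f f) δ₂ δ γ) = IntMult.interProd δ n ⇑α ⇑β := by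
  exact GrothLib.ChiDev4.map_fst_interProd_diagonal f hδ h₂ hn h₂' α β hprop γ hγ

end Groth.Agent.S1953
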