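import Groth.Statements.S19532
import Groth.Agent.Lib.TFCurv11.AOdd

set_option autoImplicit false
universe u
open CategoryTheory
open TFCurv

namespace Groth.Agent.S19532

set_option backward.isDefEq.respectTransparency false


/-- Let k be an algebraically closed field of characteristic zero, δ ≥ 1, and O ⊂ k[[t]] × k[[t]] the
complete local ring of the simple plane curve singularity A_{2δ−1} (two smooth branches with contact
of order δ, y² = x^{2δ}), namely the k-subalgebra of all pairs (f, g) of power series with f − g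
divisible by t^δ. For 0 ≤ j ≤ δ let I_j ⊂ k[[t]] × k[[t]] be the O-submodule generated by (t^j, t^j)
and (t^δ, 0), so that I_0 = O and I_δ is the conductor; the I_j represent the rank-one torsion-free
O-modules M_j. Then for all 0 ≤ i, j ≤ δ the O-module Ext¹_O(I_i, I_j) has length 2·min(i, j)
(length over O equals k-dimension here). (The one-branch case n = 2δ of the published lemma is
stated separately.) -/
theorem result (k : Type u) [Field k] [IsAlgClosed k] [CharZero k] (δ : ℕ) (hδ : 1 ≤ δ) (O : Subalgebra k (PowerSeries k × PowerSeries k)) (hO : ∀ f : (PowerSeries k × PowerSeries k), f ∈ O ↔ (δ : ℕ∞) ≤ PowerSeries.order (f.1 - f.2)) (i j : ℕ) (hi : i ≤ δ) (hj : j ≤ δ) : Module.length ↥O (Abelian.Ext (ModuleCat.of ↥O ↥(Submodule.span ↥O ({((PowerSeries.X : PowerSeries k) ^ i, (PowerSeries.X : PowerSeries k) ^ i), ((PowerSeries.X : PowerSeries k) ^ δ, 0)} : Set (PowerSeries k × PowerSeries k)))) (ModuleCat.of ↥O ↥(Submodule.span ↥O ({((PowerSeries.X : PowerSeries k) ^ j, (PowerSeries.X : PowerSeries k) ^ j), ((PowerSeries.X : PowerSeries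 k) ^ δ, 0)} : Set (PowerSeries k × PowerSeries k)))) 1) = ((2 * min i j : ℕ) : ℕ∞) := by
  have hO' : ∀ f, f ∈ O ↔ (PowerSeries.X : PowerSeries k) ^ δ ∣ f.1 - f.2 := fun f => (hO f).trans
    ⟨fun h => PowerSeries.X_pow_dvd_iff.2 fun m hm => PowerSeries.coeff_of_lt_order m (lt_of_lt_of_le (by exact_mod_cast hm) h),
      fun h => PowerSeries.le_order _ _ fun m hm => PowerSeries.X_pow_dvd_iff.1 h m (by exact_mod_cast hm)⟩
  exact GrothLib.TFCurv11.length_ext_one_A_odd hO' hδ hi hj (Submodule.subtype _) (Submodule.injective_subtype _)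
    (fun f => by rw [Submodule.range_subtype]; exact GrothLib.TFCurv11.aOdd_mem_span hO' hi f)
    (Submodule.subtype _) (Submodule.injective_subtype _)
    (fun f => by rw [Submodule.range_subtype]; exact GrothLib.TFCurv11.aOdd_mem_span hO' hj f)

end Groth.Agent.S19532
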