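import Groth.Statements.S19533
import Groth.Agent.Lib.Rigidity.Component
import Groth.Agent.Lib.Rigidity.SmoothGroup

set_option autoImplicit false
universe u
open CategoryTheory CategoryTheory.Limits MonoidalCategory CartesianMonoidalCategory MonObj GrpObj AlgebraicGeometry
open AbVar

namespace Groth.Agent.S19533

/-- Let k be an algebraically closed field, A an abelian variety over k (a k-group scheme whose
structure morphism is proper, smooth and geometrically connected) with unit point e, Y a scheme
separated over k and f : A → Y a morphism over k. Write F₀ for the connected component of e in the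
fibre f⁻¹(f(e)). Then the k-rational points of F₀ are stable under the group law: if k-points x and
y of A lie in F₀ then so do the product point x·y and the inverse point x⁻¹. (The published
statement is for Y a k-variety and concludes that F₀ with its reduced structure is an abelian
subvariety, together with the translation formula F_a = a + F₀; this row records the closure of
F₀(k) under multiplication and inversion, for Y merely separated over k.) -/
theorem result (k : Type u) [Field k] [IsAlgClosed k]
    (A : Over (Spec (CommRingCat.of k))) [GrpObj A] [IsProper A.hom] [Smooth A.hom] [GeometricallyConnected A.hom]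
    {Y : Scheme.{u}} (q : Y ⟶ Spec (CommRingCat.of k)) [IsSeparated q] (f : A.left ⟶ Y) (hf : f ≫ q = A.hom)
    (x y : 𝟙_ (Over (Spec (CommRingCat.of k))) ⟶ A)
    (hx : x.left (IsLocalRing.closedPoint k) ∈
      connectedComponentIn (f ⁻¹' {f (η[A].left (IsLocalRing.closedPoint k))}) (η[A].left (IsLocalRing.closedPoint k)))
    (hy : y.left (IsLocalRing.closedPoint k) ∈
      connectedComponentIn (f ⁻¹' {f (η[A].left (IsLocalRing.closedPoint k))}) (η[A].left (IsLocalRing.closedPoint k))) :
    (lift x y ≫ μ[A]).left (IsLocalRing.closedPoint k) ∈
        connectedComponentIn (f ⁻¹' {f (η[A].left (IsLocalRing.closedPoint k))}) (η[A].left (IsLocalRing.closedPoint k)) ∧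
      (x ≫ ι[A]).left (IsLocalRing.closedPoint k) ∈
        connectedComponentIn (f ⁻¹' {f (η[A].left (IsLocalRing.closedPoint k))}) (η[A].left (IsLocalRing.closedPoint k)) := by
  have : GeometricallyIntegral A.hom := GrothLib.Rigidity.geometricallyIntegral_of_smooth A
  let Z : Over (Spec (CommRingCat.of k)) := Over.mk q
  have : IsSeparated Z.hom := ‹IsSeparated q›
  let f' : A ⟶ Z := Over.homMk f hf
  let p0 : Spec (CommRingCat.of k) := IsLocalRing.closedPoint k
  let t : (𝟙_ (Over (Spec (CommRingCat.of k))) ⟶ A) → (A ⟶ A) := fun d => lift (toUnit A ≫ d) (𝟙 A) ≫ μ[A]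
  have ht : ∀ d a, a ≫ t d = d * a := fun d a => by
    simp only [t, comp_lift_assoc, Category.comp_id]
    rw [← Category.assoc a (toUnit A) d, Subsingleton.elim (a ≫ toUnit A) (𝟙 _), Category.id_comp]
    rfl
  set S := f ⁻¹' {f (η[A].left p0)} with hS
  set F := connectedComponentIn S (η[A].left p0) with hF
  have heF : η[A].left p0 ∈ F := mem_connectedComponentIn rfl
  have hFc : IsClosed F := by
    have hc : IsClosed S :=
      (GrothLib.Rigidity.isClosed_point (Z := Z) (η[A] ≫ f')).preimage f.continuous
    rw [hF, connectedComponentIn_eq_image (by exact rfl)]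
    exact hc.isClosedEmbedding_subtypeVal.isClosedMap _ isClosed_connectedComponent
  have hone : lift (toUnit A ≫ η[A]) (𝟙 A) ≫ μ[A] ≫ f' = f' := by
    rw [← Category.assoc]
    have : lift (toUnit A ≫ η[A]) (𝟙 A) ≫ μ[A] = 𝟙 A := by simpa using lift_comp_one_left (f := toUnit A) (g := 𝟙 A)
    rw [this, Category.id_comp]
  -- translation by `d` keeps `F` as soon as it sends one of its points into `F`
  have stable : ∀ d, ∀ c₀ ∈ F, (t d).left c₀ ∈ F → ∀ c ∈ F, (t d).left c ∈ F := by
    intro d c₀ hc₀ hd c hc
    have key := GrothLib.Rigidity.apply_eq_of_connected (μ[A] ≫ f') η[A] d F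
      isPreconnected_connectedComponentIn hFc (η[A] ≫ f') (fun v hv => by
        rw [hone]
        exact (connectedComponentIn_subset _ _ hv : v ∈ S)) c₀ hc₀ (η[A] ≫ f') (by
        rw [← Category.assoc]
        exact (connectedComponentIn_subset _ _ hd : (t d).left c₀ ∈ S))
    have himg : (t d).left '' F ⊆ S := by
      rintro _ ⟨v, hv, rfl⟩
      exact key v hv
    have := (isPreconnected_connectedComponentIn.image _ (t d).left.continuous.continuousOn).subset_connectedComponentIn
      (Set.mem_image_of_mem (t d).left hc₀) himg
    rw [← connectedComponentIn_eq (show (t d).left c₀ ∈ connectedComponentIn S (η[A].left p0) from hd)] at this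
    exact this (Set.mem_image_of_mem _ hc)
  have hval : ∀ d a, (t d).left (a.left p0) = (d * a).left p0 := fun d a => by rw [← ht]; rfl
  have h1 : (1 : 𝟙_ (Over (Spec (CommRingCat.of k))) ⟶ A) = η[A] := by
    rw [Hom.one_def, Subsingleton.elim (toUnit _) (𝟙 _), Category.id_comp]
  constructor
  · have := stable x _ heF (by rw [hval, ← h1, _root_.mul_one]; exact hx) _ hy
    rw [hval] at this
    exact this
  · have := stable x⁻¹ _ hx (by rw [hval, _root_.inv_mul_cancel, h1]; exact heF) _ heF
    rw [hval, ← h1, _root_.mul_one] at this
    exact this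

end Groth.Agent.S19533
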