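import Groth.Statements.S19537
import Groth.Agent.Lib.Tors7.Derived
import Groth.Agent.Lib.QCoh.SupportExact

set_option autoImplicit false
open CategoryTheory CategoryTheory.Limits AlgebraicGeometry
universe u
attribute [local instance] HasDerivedCategory.standard
open FTors

namespace Groth.Agent.S19537

/-- Let X be a locally Noetherian scheme, 𝓘 a quasi-coherent ideal of O_X with closed subset Z, X̂ the
completion of X along 𝓘 and κ : X̂ ⟶ X the completion morphism of ringed spaces, with κ^* exact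
(assumed) and the derived direct image Rκ_* existing on unbounded derived categories. Write D_Z(X)
for the complexes of O_X-modules whose cohomology sheaves are 𝓘-power torsion and D_qcZ(X) for those
whose cohomology sheaves are moreover quasi-coherent; write D_t(X̂) for the complexes of
O_X̂-modules whose cohomology sheaves are torsion and D_qct(X̂) for those whose cohomology sheaves
are quasi-coherent torsion modules. Then κ^* sends D_Z(X) into D_t(X̂); Rκ_* sends D_t(X̂) into
D_Z(X); κ^* sends D_qcZ(X) into D_qct(X̂); Rκ_* sends D_qct(X̂) into D_qcZ(X); and if M ∈ D_qct(X̂)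
has coherent cohomology sheaves, then so does Rκ_*M. (The published statement says moreover that κ^*
and κ_* are inverse isomorphisms between D_Z(X) and D_t(X̂) and between D_qcZ(X) and D_qct(X̂); that
the unit and counit are isomorphisms there is not stated here.) -/
theorem result (X : Scheme.{u}) [IsLocallyNoetherian X]
    (𝓘 : X.IdealSheafData) (hX : (FSch.completionAlong X 𝓘).IsFormal)
    [PreservesFiniteLimits (FSch.toSchemeMor (FSch.completionAlong X 𝓘) hX (FSch.completionToX X 𝓘) (FSch.completionToX_comm X 𝓘)).pull] [SiteCmp.HasRpushD (FSch.toSchemeMor (FSch.completionAlong X 𝓘) hX (FSch.completionToX X 𝓘) (FSch.completionToX_comm X 𝓘))] :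
    (∀ F : DerivedCategory (ModSite.Mod X.sheaf), FTors.IsDTorsZp X 𝓘 F →
      FTors.IsDTorsF (FSch.completionAlong X 𝓘) hX ((SiteCmp.pullD (FSch.toSchemeMor (FSch.completionAlong X 𝓘) hX (FSch.completionToX X 𝓘) (FSch.completionToX_comm X 𝓘))).obj F)) ∧
    (∀ G : DerivedCategory (FSch.ModF (FSch.completionAlong X 𝓘) hX), FTors.IsDTorsF (FSch.completionAlong X 𝓘) hX G →
      FTors.IsDTorsZp X 𝓘 ((SiteCmp.RpushD (FSch.toSchemeMor (FSch.completionAlong X 𝓘) hX (FSch.completionToX X 𝓘) (FSch.completionToX_comm X 𝓘))).obj G)) ∧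
    (∀ F : DerivedCategory (ModSite.Mod X.sheaf), FTors.IsDTorsZp X 𝓘 F →
      (∀ i : ℤ, SheafOfModules.IsQuasicoherent.{u} (SiteCmp.HMod F i)) →
      FTors.IsDQCT (FSch.completionAlong X 𝓘) hX ((SiteCmp.pullD (FSch.toSchemeMor (FSch.completionAlong X 𝓘) hX (FSch.completionToX X 𝓘) (FSch.completionToX_comm X 𝓘))).obj F)) ∧
    (∀ G : DerivedCategory (FSch.ModF (FSch.completionAlong X 𝓘) hX), FTors.IsDQCT (FSch.completionAlong X 𝓘) hX G →
      FTors.IsDTorsZp X 𝓘 ((SiteCmp.RpushD (FSch.toSchemeMor (FSch.completionAlong X 𝓘) hX (FSch.completionToX X 𝓘) (FSch.completionToX_comm X 𝓘))).obj G) ∧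
        ∀ i : ℤ, SheafOfModules.IsQuasicoherent.{u} (SiteCmp.HMod ((SiteCmp.RpushD (FSch.toSchemeMor (FSch.completionAlong X 𝓘) hX (FSch.completionToX X 𝓘) (FSch.completionToX_comm X 𝓘))).obj G) i)) ∧
    (∀ G : DerivedCategory (FSch.ModF (FSch.completionAlong X 𝓘) hX), FTors.IsDQCT (FSch.completionAlong X 𝓘) hX G →
      (∀ i : ℤ, FSch.IsCohF (FSch.completionAlong X 𝓘) hX (SiteCmp.HMod G i)) →
      ∀ i : ℤ, Coh.IsCoh (SiteCmp.HMod ((SiteCmp.RpushD (FSch.toSchemeMor (FSch.completionAlong X 𝓘) hX (FSch.completionToX X 𝓘) (FSch.completionToX_comm X 𝓘))).obj G) i)) := by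
  refine ⟨fun F hF i => ?_, fun G hG i => ?_, fun F hF hq i => ?_, fun G hG => ⟨fun i => ?_, fun i => ?_⟩, fun G hG hc i => ?_⟩
  · obtain ⟨e⟩ := GrothLib.Tors7.nonempty_hMod_pullD (h := hX) F i
    exact GrothLib.Tors7.isTors_of_iso e.symm (GrothLib.Tors7.isTorsF_pull (hF i))
  · obtain ⟨e⟩ := GrothLib.Tors7.nonempty_hMod_RpushD (h := hX) G i
    exact GrothLib.Tors7.isTors_of_iso e.symm (GrothLib.Tors7.isTorsZp_push (hG i))
  · obtain ⟨e⟩ := GrothLib.Tors7.nonempty_hMod_pullD (h := hX) F i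
    exact ⟨GrothLib.Tors7.isTors_of_iso e.symm (GrothLib.Tors7.isTorsF_pull (hF i)),
      (SheafOfModules.isQuasicoherent (ModSite.ringSh ((FSch.completionAlong X 𝓘).Osh hX))).prop_of_iso e.symm
        (@GrothLib.PullPres25.isQuasicoherent_pull _ _ _ _ _ _ _ _ _ _ (hq i))⟩
  · obtain ⟨e⟩ := GrothLib.Tors7.nonempty_hMod_RpushD (h := hX) G i
    exact GrothLib.Tors7.isTors_of_iso e.symm (GrothLib.Tors7.isTorsZp_push (hG i).1)
  · obtain ⟨e⟩ := GrothLib.Tors7.nonempty_hMod_RpushD (h := hX) G i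
    exact (SheafOfModules.isQuasicoherent (ModSite.ringSh X.sheaf)).prop_of_iso e.symm
      (@GrothLib.Tors7.isQuasicoherent_push X _ 𝓘 hX _ (hG i).1 (hG i).2)
  · obtain ⟨e⟩ := GrothLib.Tors7.nonempty_hMod_RpushD (h := hX) G i
    exact GrothLib.QCoh.isCoh_of_iso e.symm (@GrothLib.Tors7.isCoh_push X _ 𝓘 hX _ (hG i).1 (hG i).2 (hc i))

end Groth.Agent.S19537
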