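import Groth.Statements.S1954
import Groth.Agent.Lib.MultOne4.Main
-- import your own Groth.Agent.* helpers here

set_option autoImplicit false
set_option linter.all false
set_option backward.isDefEq.respectTransparency false
universe u
open CategoryTheory CategoryTheory.Limits AlgebraicGeometry
attribute [local instance] HasDerivedCategory.standard
open IntMult

namespace Groth.Agent.S1954

/-- Let Y, Z → X be closed immersions into a nonsingular variety with δ ≤ r on Y and δ ≤ s on Z, such
that [Y]_r and [Z]_s intersect properly, and let τ be a point of δ-dimension r + s − n lying under Y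
and Z (the generic point of a component of the intersection of components of dimension r and s) at
which the scheme-theoretic intersection Y ×_X Z has multiplicity 1 (its local ring there has length
1). Then the coefficient of the closure of τ in [Y]_r · [Z]_s is 1, and the local rings of Y and Z
at the points over τ are regular. (The published statement has further parts, not restated here.)
Here X is a nonsingular variety over the algebraically closed field K (smooth, separated,
quasi-compact, integral) with dimension function δ (transcendence degree) and n = dim X; cycles are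
Mathlib AlgebraicCycles with Cyc.Zk membership, proper intersection is IntMult.IntersectProperly and
α · β is the Tor-formula intersection product on coefficient functions (IntMult.interProd), bundled
where needed as 'any cycle with these coefficients'. -/
theorem result (K : Type u) [Field K] [IsAlgClosed K] (X : Scheme.{u}) (f : X ⟶ Spec (CommRingCat.of K)) [Smooth f] [IsSeparated f] [QuasiCompact f] [IsIntegral X] (δ : X → ℤ) (hX : Cyc.IsSetup X δ) (hδ : Cyc.DeltaCompat f δ (fun _ => 0)) (n : ℤ) (hn : δ (genericPoint X) = n) (Y Z : Scheme.{u}) (ιY : Y ⟶ X) (ιZ : Z ⟶ X) [IsClosedImmersion ιY] [IsClosedImmersion ιZ] (r s : ℤ) (hY : ∀ y : Y, δ (ιY y) ≤ r) (hZ : ∀ z : Z, δ (ιZ z) ≤ s) (hprop : IntMult.IntersectProperly δ n (Cyc.subschemeFun δ r ιY) (Cyc.subschemeFun δ s ιZ)) (τ : X) (hτ : δ τ = r + s - n) (hξ : ∃ ξ η : X, Cyc.subschemeFun δ r ιY ξ ≠ 0 ∧ Cyc.subschemeFun δ s ιZ η ≠ 0 ∧ ξ ⤳ τ ∧ η ⤳ τ) (hmult : Cyc.subschemeFun δ (r + s - n) (pullback.fst ιY ιZ ≫ ιY) τ = 1) : IntMult.interProd δ n (Cyc.subschemeFun δ r ιY) (Cyc.subschemeFun δ s ιZ) τ = 1 ∧ (∀ y : Y, ιY y = τ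 → IsRegularLocalRing (Y.presheaf.stalk y)) ∧ (∀ z : Z, ιZ z = τ → IsRegularLocalRing (Z.presheaf.stalk z)) := by
  obtain ⟨ξ, η, hξ, hη, hξτ, hητ⟩ := hξ
  exact GrothLib.MultOne4.interProd_eq_one f hX.2.2 n hn ιY ιZ r s hY hZ τ hτ hξ hη hξτ hητ hmult

end Groth.Agent.S1954
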