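import Groth.Statements.S19540
import Mathlib.CategoryTheory.Sites.EpiMono
import Mathlib.Algebra.Category.Grp.Abelian
import Mathlib.Algebra.Homology.ShortComplex.Ab
import Mathlib.Algebra.Homology.ShortComplex.PreservesHomology
import Mathlib.CategoryTheory.Abelian.Exact
-- import your own Groth.Agent.* helpers here

set_option autoImplicit false
open CategoryTheory CategoryTheory.Limits Opposite
universe w v u
open CohSite

namespace Groth.Agent.S19540

theorem epi_forget_map {C : Type u} [Category.{v} C] {J : GrothendieckTopology C}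
    {F G : Sheaf J AddCommGrpCat.{w}} (φ : F ⟶ G) [Sheaf.IsLocallySurjective φ] :
    Epi ((sheafCompose J (forget AddCommGrpCat.{w})).map φ) := by
  constructor
  intro R g h e
  apply Sheaf.hom_ext
  apply NatTrans.ext
  funext V
  refine ConcreteCategory.hom_ext _ _ fun t => ?_
  refine ((isSheaf_iff_isSheaf_of_type _ _).1 R.property _
    (Presheaf.imageSieve_mem J φ.hom t)).isSeparatedFor.ext fun W f hf => ?_
  obtain ⟨s, hs⟩ := hf
  have hg := (NatTrans.naturality_apply g.hom f.op t)
  have hh := (NatTrans.naturality_apply h.hom f.op t)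
  refine hg.symm.trans (Eq.trans ?_ hh)
  refine (congrArg (g.hom.app (op W)) hs.symm).trans (Eq.trans ?_ (congrArg (h.hom.app (op W)) hs))
  have h3 : ((sheafCompose J (forget AddCommGrpCat.{w})).map φ ≫ g).hom =
      ((sheafCompose J (forget AddCommGrpCat.{w})).map φ ≫ h).hom := by rw [e]
  exact ConcreteCategory.congr_hom (NatTrans.congr_app h3 (op W)) s

variable {C : Type u} [Category.{v} C] {J : GrothendieckTopology C} [HasSheafify J AddCommGrpCat.{w}]

theorem exists_cycles (S : ShortComplex (Sheaf J AddCommGrpCat.{w})) (U : C) (x : S.X₂.obj.obj (op U))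
    (hx : S.g.hom.app (op U) x = 0) : ∃ c, S.iCycles.hom.app (op U) c = x := by
  let T := ShortComplex.mk S.iCycles S.g S.iCycles_g
  have hT : T.Exact := T.exact_of_f_is_kernel S.cyclesIsKernel
  haveI : Mono T.f := inferInstanceAs (Mono S.iCycles)
  have h := hT.map_of_mono_of_preservesKernel
    (sheafToPresheaf J AddCommGrpCat.{w} ⋙ (evaluation Cᵒᵖ AddCommGrpCat.{w}).obj (op U))
    ‹Mono T.f› inferInstance
  exact (ShortComplex.ab_exact_iff _).1 h x hx

theorem injective_iCycles (S : ShortComplex (Sheaf J AddCommGrpCat.{w})) (U : C) :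
    Function.Injective (S.iCycles.hom.app (op U)) :=
  (AddCommGrpCat.mono_iff_injective _).1
    ((sheafToPresheaf J AddCommGrpCat.{w} ⋙ (evaluation Cᵒᵖ AddCommGrpCat.{w}).obj (op U)).map_mono S.iCycles)

theorem toCycles_app (S : ShortComplex (Sheaf J AddCommGrpCat.{w})) (U : C) (s : S.X₁.obj.obj (op U)) :
    S.iCycles.hom.app (op U) (S.toCycles.hom.app (op U) s) = S.f.hom.app (op U) s :=
  ConcreteCategory.congr_hom (NatTrans.congr_app (congrArg (fun r => r.hom) S.toCycles_i) (op U)) s



/-- Let (C, J) be a site and B a class of objects of C, each weakly contractible (every epimorphism of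
sheaves of sets, valued in a fixed universe, is surjective on sections over it), such that every
object V of C has a covering sieve all of whose arrows factor through some object of B. Then a
three-term complex F ⟶ G ⟶ H of abelian sheaves on (C, J) is exact if and only if for every U in B
the sequence of section groups F(U) ⟶ G(U) ⟶ H(U) is exact. (The published statement is for sheaves
of modules over a sheaf of rings O; this row is the case of the constant sheaf of rings ℤ, i.e.
abelian sheaves, to which exactness questions for O-modules reduce. The universe set-up assumes that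
abelian sheafification exists and inverts exactly the locally bijective maps, as on any small site.) -/
theorem result
    {C : Type u} [Category.{v} C] (J : GrothendieckTopology C) [HasSheafify J AddCommGrpCat.{w}]
    [J.WEqualsLocallyBijective AddCommGrpCat.{w}]
    (B : C → Prop)
    (hB : ∀ U : C, B U → ∀ (P Q : Sheaf J (Type w)) (ψ : P ⟶ Q), Epi ψ → Function.Surjective (ψ.hom.app (op U)))
    (hcov : ∀ V : C, ∃ S : Sieve V, S ∈ J V ∧ ∀ ⦃W : C⦄ (f : W ⟶ V), S.arrows f →
      ∃ (U : C) (g : W ⟶ U) (h : U ⟶ V), B U ∧ g ≫ h = f)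
    (S : ShortComplex (Sheaf J AddCommGrpCat.{w})) :
    S.Exact ↔ ∀ U : C, B U →
      (S.map (sheafToPresheaf J AddCommGrpCat.{w} ⋙ (evaluation Cᵒᵖ AddCommGrpCat.{w}).obj (op U))).Exact := by
  refine ⟨fun hS U hU => (ShortComplex.ab_exact_iff _).2 fun x hx => ?_, fun h => ?_⟩
  · obtain ⟨c, hc⟩ := exists_cycles S U x hx
    haveI : Epi S.toCycles := S.exact_iff_epi_toCycles.1 hS
    haveI : Sheaf.IsLocallySurjective S.toCycles := (Sheaf.isLocallySurjective_iff_epi' _ _).2 inferInstance
    obtain ⟨s, hs⟩ := hB U hU _ _ _ (epi_forget_map S.toCycles) c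
    exact ⟨s, ((toCycles_app S U s).symm.trans (congrArg (S.iCycles.hom.app (op U)) hs)).trans hc⟩
  · rw [S.exact_iff_epi_toCycles, ← Sheaf.isLocallySurjective_iff_epi']
    refine ⟨fun {V} z => ?_⟩
    obtain ⟨R, hR, hfac⟩ := hcov V
    refine J.superset_covering ?_ hR
    intro W f hf
    obtain ⟨U, g, k, hU, rfl⟩ := hfac f hf
    let z' := S.cycles.obj.map k.op z
    have hz : S.g.hom.app (op U) (S.iCycles.hom.app (op U) z') = 0 :=
      (ConcreteCategory.congr_hom (NatTrans.congr_app (congrArg (fun r => r.hom) S.iCycles_g) (op U)) z' :)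
    obtain ⟨s, hs⟩ := (ShortComplex.ab_exact_iff _).1 (h U hU) _ hz
    refine ⟨S.X₁.obj.map g.op s, ?_⟩
    rw [NatTrans.naturality_apply, op_comp, Functor.map_comp_apply]
    exact congrArg (S.cycles.obj.map g.op) (injective_iCycles S U ((toCycles_app S U s).trans hs))

end Groth.Agent.S19540
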