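import Groth.Statements.S19541
import Groth.Agent.Lib.CurvePoints.Basic
import Groth.Agent.Lib.GrpSchField.SmoothRegular
import Groth.Agent.Lib.RegLoc.Normal
import Groth.Agent.Lib.LocProp.Stalk
import Groth.Agent.Lib.LocProp.StalkField
import Mathlib.AlgebraicGeometry.AlgClosed.Basic
import Mathlib.AlgebraicGeometry.Morphisms.QuasiFinite

set_option autoImplicit false
universe u
open CategoryTheory CategoryTheory.Limits AlgebraicGeometry TopologicalSpace
open Curves

namespace Groth.Agent.S19541

/-- Pointwise criterion for a map of smooth curves to be étale: let k be an algebraically closed field,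
X and Y integral schemes each smooth, separated and quasi-compact over Spec k and of dimension one,
φ : X → Y a morphism over k and x a closed point of X. Then φ is étale at x (the restriction of φ to
some open neighbourhood of x is étale) if and only if the induced homomorphism of stalks O_{Y,φ(x)}
→ O_{X,x} carries the maximal ideal of the discrete valuation ring O_{Y,φ(x)} to an ideal generating
the maximal ideal of O_{X,x}; equivalently a uniformiser at φ(x) pulls back to a uniformiser at x.
(The published statement is for smooth curves, which are in addition geometrically connected;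
integrality is what is used. For a constant φ both sides fail.) -/
theorem result (k : Type u) [Field k] [IsAlgClosed k] {X Y : Scheme.{u}}
    (pX : X ⟶ Spec (CommRingCat.of k)) (pY : Y ⟶ Spec (CommRingCat.of k)) (φ : X ⟶ Y) (w : φ ≫ pY = pX)
    [IsIntegral X] [Smooth pX] [IsSeparated pX] [QuasiCompact pX] (hdX : topologicalKrullDim X = 1)
    [IsIntegral Y] [Smooth pY] [IsSeparated pY] [QuasiCompact pY] (hdY : topologicalKrullDim Y = 1)
    (x : X) (hx : IsClosed ({x} : Set X)) :
    (∃ U : X.Opens, x ∈ U ∧ Etale (U.ι ≫ φ)) ↔
      Ideal.map (φ.stalkMap x).hom (IsLocalRing.maximalIdeal (Y.presheaf.stalk (φ.base x))) =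
        IsLocalRing.maximalIdeal (X.presheaf.stalk x) := by
  have : IsLocallyNoetherian Y := LocallyOfFiniteType.isLocallyNoetherian pY
  have : LocallyOfFiniteType (φ ≫ pY) := w ▸ inferInstance
  have : LocallyOfFiniteType φ := locallyOfFiniteType_of_comp φ pY
  have : LocallyOfFinitePresentation φ := inferInstance
  have hN : ∀ y : Y, IsIntegrallyClosed (Y.presheaf.stalk y) := by
    intro y
    by_cases hy : y = genericPoint Y
    · subst hy
      exact (inferInstance : IsIntegrallyClosed Y.functionField)
    · have := GrothLib.GrpSchField.isRegularLocalRing_stalk_of_smooth pY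
        (GrothLib.CurvePoints.isClosed_singleton hdY.le hy)
      exact GrothLib.RegLoc.isIntegrallyClosed_of_isRegularLocalRing _
  have hxne : x ≠ genericPoint X := (GrothLib.CurvePoints.isClosed_singleton_iff hdX).1 hx
  have : JacobsonSpace Y := LocallyOfFiniteType.jacobsonSpace pY
  have hy : IsClosed ({φ.base x} : Set Y) := φ.closePoints_subset_preimage_closedPoints hx
  have hyne : φ.base x ≠ genericPoint Y := (GrothLib.CurvePoints.isClosed_singleton_iff hdY).1 hy
  rw [GrothLib.LocProp.etale_nhd_iff, GrothLib.LocProp.formallyUnramified_stalk_iff]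
  refine ⟨fun h => h.2.1, fun h => ?_⟩
  have e : φ (genericPoint X) = genericPoint Y := by
    by_contra hne
    have hc := GrothLib.CurvePoints.isClosed_singleton hdY.le hne
    have hs : genericPoint X ⤳ x := (genericPoint_spec X).specializes trivial
    have hyx : φ.base x = φ (genericPoint X) := Set.mem_singleton_iff.1 ((hs.map φ.continuous).mem_closed hc rfl)
    have hzero : (IsLocalRing.maximalIdeal (Y.presheaf.stalk (φ.base x))).map (φ.stalkMap x).hom = ⊥ := by
      rw [Ideal.map_eq_bot_iff_le_ker]
      intro a ha
      refine GrothLib.CurvePoints.stalkSpecializes_injective rfl hs ?_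
      rw [map_zero]
      refine (congr($(Scheme.Hom.stalkSpecializes_stalkMap φ (genericPoint X) x hs) a)).symm.trans ?_
      let := (GrothLib.CurvePoints.isField_stalk_genericPoint (X := X)).toField
      refine of_not_not fun h0 => ha ?_
      have hu : IsUnit (Y.presheaf.stalkSpecializes (hs.map φ.continuous) a) :=
        isUnit_of_map_unit (φ.stalkMap (genericPoint X)).hom _ (isUnit_iff_ne_zero.2 h0)
      have hinj : ∀ {y' y : Y} (e : y = y') (hh : y' ⤳ y) (c : Y.presheaf.stalk y),
          IsUnit (Y.presheaf.stalkSpecializes hh c) → IsUnit c := by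
        intro y' y e hh c hc'
        subst e
        simpa using hc'
      exact hinj hyx _ a hu
    rw [hzero] at h
    have h1 := GrothLib.CurvePoints.ringKrullDim_stalk hdX.le hxne
    rw [ringKrullDim_eq_zero_of_isField (IsLocalRing.isField_iff_maximalIdeal_eq.2 h.symm)] at h1
    exact zero_ne_one h1
  refine ⟨GrothLib.CurvePoints.flat_stalkMap hdY.le hN φ e x, h, ?_⟩
  let eY := residueFieldIsoBase pY (φ.base x) hy
  let eX := residueFieldIsoBase pX x hx
  have hbij : Function.Bijective (φ.residueFieldMap x).hom := by
    have hcomp : eY.inv ≫ φ.residueFieldMap x = eX.inv := by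
      apply Spec.map_injective
      rw [Spec.map_comp, SpecMap_residueFieldIsoBase_inv, SpecMap_residueFieldIsoBase_inv, ← w,
        Scheme.Hom.SpecMap_residueFieldMap_fromSpecResidueField_assoc]
    refine ⟨(φ.residueFieldMap x).hom.injective, fun b => ⟨eY.inv (eX.hom b), ?_⟩⟩
    rw [← CommRingCat.comp_apply, hcomp, ← CommRingCat.comp_apply, Iso.hom_inv_id]
    rfl
  let := (φ.residueFieldMap x).hom.toAlgebra
  let e' : Y.residueField (φ.base x) ≃ₐ[Y.residueField (φ.base x)] X.residueField x :=
    AlgEquiv.ofBijective (Algebra.ofId _ _) hbij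
  exact ⟨Module.Finite.equiv e'.toLinearEquiv, AlgEquiv.Algebra.isSeparable e'⟩

end Groth.Agent.S19541
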