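import Groth.Statements.S19543
import Groth.Agent.Lib.Tors7.Derived
import Groth.Agent.Lib.QCoh.SupportExact

set_option autoImplicit false
open CategoryTheory CategoryTheory.Limits AlgebraicGeometry
universe u
attribute [local instance] HasDerivedCategory.standard
open FTors

namespace Groth.Agent.S19543

/-- Let X be a locally Noetherian scheme, 𝓘 a quasi-coherent ideal of O_X with closed subset Z, X̂ the
completion of X along 𝓘 and κ : X̂ ⟶ X the completion morphism of ringed spaces, with κ^* exact
(assumed) and the derived direct image Rκ_* existing on unbounded derived categories. Then for every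
G ∈ D(O_X̂) whose cohomology sheaves are torsion (G ∈ D_t(X̂)) and every H ∈ D(O_X̂), the map
Hom_{D(X̂)}(G, H) → Hom_{D(X)}(Rκ_*G, Rκ_*H), φ ↦ Rκ_*φ, is bijective. (The published statement
factors this map through Hom_{D(X̂)}(κ^*κ_*G, H) by adjunction; the composite is the map on
morphisms of the functor Rκ_*, which is what is asserted here.) -/
theorem result (X : Scheme.{u}) [IsLocallyNoetherian X]
    (𝓘 : X.IdealSheafData) (hX : (FSch.completionAlong X 𝓘).IsFormal)
    [PreservesFiniteLimits (FSch.toSchemeMor (FSch.completionAlong X 𝓘) hX (FSch.completionToX X 𝓘) (FSch.completionToX_comm X 𝓘)).pull] [SiteCmp.HasRpushD (FSch.toSchemeMor (FSch.completionAlong X 𝓘) hX (FSch.completionToX X 𝓘) (FSch.completionToX_comm X 𝓘))]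
    (G H : DerivedCategory (FSch.ModF (FSch.completionAlong X 𝓘) hX))
    (hG : FTors.IsDTorsF (FSch.completionAlong X 𝓘) hX G) :
    Function.Bijective (fun φ : G ⟶ H => (SiteCmp.RpushD (FSch.toSchemeMor (FSch.completionAlong X 𝓘) hX (FSch.completionToX X 𝓘) (FSch.completionToX_comm X 𝓘))).map φ) := by
  exact GrothLib.Tors7.bijective_RpushD_map hG H

end Groth.Agent.S19543
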