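import Groth.Statements.S19546
import Groth.Agent.Lib.HopfLemma
import Mathlib.Analysis.Complex.Polynomial.Basic

set_option autoImplicit false
universe u v w
open scoped TensorProduct
open VBCurve

namespace Groth.Agent.S19546

/-- Let A, B, C be complex vector spaces, A and B finite-dimensional, and ν : A ⊗ B → C a linear map
injective on each factor separately (b ↦ ν(a ⊗ b) is injective for every a ≠ 0 and a ↦ ν(a ⊗ b) is
injective for every b ≠ 0). Then the image of ν has dimension at least dim A + dim B - 1. (For A = 0
the separate-injectivity hypothesis is empty and the inequality fails as soon as dim B ≥ 2, so A and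
B are taken nonzero here, the case the inequality is about.) -/
theorem result
    (A : Type u) (B : Type v) (C : Type w) [AddCommGroup A] [Module ℂ A] [AddCommGroup B] [Module ℂ B]
    [AddCommGroup C] [Module ℂ C] [FiniteDimensional ℂ A] [FiniteDimensional ℂ B]
    [Nontrivial A] [Nontrivial B] (ν : A ⊗[ℂ] B →ₗ[ℂ] C)
    (hA : ∀ a : A, a ≠ 0 → Function.Injective (fun b : B => ν (a ⊗ₜ[ℂ] b)))
    (hB : ∀ b : B, b ≠ 0 → Function.Injective (fun a : A => ν (a ⊗ₜ[ℂ] b))) :
    Module.finrank ℂ A + Module.finrank ℂ B ≤ Module.finrank ℂ (LinearMap.range ν) + 1 := by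
  exact GrothLib.HopfLemma.finrank_add_finrank_le ν hA

end Groth.Agent.S19546
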