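import Groth.Statements.S19547
import Groth.Agent.Lib.DescElem.Basic

set_option autoImplicit false
universe u
open TensorProduct
open Desc

namespace Groth.Agent.S19547

/-- Let A → A' be a faithfully flat homomorphism of commutative rings, M' an A'-module and φ : M' ⊗_A A'
→ A' ⊗_A M' an isomorphism of (A' ⊗_A A')-modules for the diagonal actions (x ⊗ y)(u ⊗ z) = xu ⊗ yz
and (x ⊗ y)(z ⊗ u) = xz ⊗ yu, satisfying the cocycle condition φ_13 = φ_23 ∘ φ_12 between the three
pullbacks to A' ⊗_A A' ⊗_A A'. Here linearity over A' ⊗_A A' is stated on the generators x ⊗ 1 and 1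
⊗ y, and the cocycle condition on pure tensors u ⊗ a ⊗ b: writing φ(u ⊗ a) = Σ a_i ⊗ u_i, it says Σ
a_i ⊗ φ(u_i ⊗ b) = Σ b_j ⊗ a ⊗ u'_j where φ(u ⊗ b) = Σ b_j ⊗ u'_j. Let M = {u ∈ M' : φ(u ⊗ 1) = 1 ⊗
u}, an A-submodule of M'. Then the canonical map λ : A' ⊗_A M → M', x ⊗ u ↦ xu, is an isomorphism. -/
theorem result (A A' : Type u) [CommRing A] [CommRing A']
    [Algebra A A'] [Module.FaithfullyFlat A A'] (M' : Type u) [AddCommGroup M'] [Module A M']
    [Module A' M'] [IsScalarTower A A' M']
    (φ : M' ⊗[A] A' →ₗ[A] A' ⊗[A] M') (hφ : Function.Bijective φ)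
    (h1 : ∀ (x : A') (u : M') (z : A'),
      φ ((x • u) ⊗ₜ[A] z) = LinearMap.rTensor M' (LinearMap.mulLeft A x) (φ (u ⊗ₜ[A] z)))
    (h2 : ∀ (y : A') (u : M') (z : A'),
      φ (u ⊗ₜ[A] (y * z)) = LinearMap.lTensor A' (Algebra.lsmul A A M' y) (φ (u ⊗ₜ[A] z)))
    (hcoc : ∀ (u : M') (a b : A'),
      LinearMap.lTensor A' φ (TensorProduct.assoc A A' M' A' (LinearMap.rTensor A' φ ((u ⊗ₜ[A] a) ⊗ₜ[A] b))) =
        LinearMap.lTensor A' (TensorProduct.mk A A' M' a) (φ (u ⊗ₜ[A] b)))
    (M : Submodule A M') (hM : ∀ u : M', u ∈ M ↔ φ (u ⊗ₜ[A] (1 : A')) = (1 : A') ⊗ₜ[A] u) :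
    Function.Bijective
      ((TensorProduct.lift (Algebra.lsmul A A M').toLinearMap) ∘ₗ (LinearMap.lTensor A' M.subtype)) := by
  set μ := TensorProduct.lift (Algebra.lsmul A A M' (A := A')).toLinearMap with hμ
  have hμt : ∀ (x : A') (u : M'), μ (x ⊗ₜ[A] u) = x • u := fun _ _ => rfl
  let δ : M' →ₗ[A] A' ⊗[A] M' :=
    φ ∘ₗ (TensorProduct.mk A M' A').flip 1 - TensorProduct.mk A A' M' 1
  have hker : LinearMap.range M.subtype = LinearMap.ker δ := by
    ext u
    rw [Submodule.range_subtype, LinearMap.mem_ker, hM]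
    simp [δ, sub_eq_zero]
  have hex : Function.Exact (M.subtype.lTensor A') (δ.lTensor A') :=
    Module.Flat.lTensor_exact A' (LinearMap.exact_iff.mpr hker.symm)
  have hinjM : Function.Injective (M.subtype.lTensor A') :=
    Module.Flat.lTensor_preserves_injective_linearMap _ M.injective_subtype
  let ψ : M' →ₗ[A] A' ⊗[A] M' := φ ∘ₗ (TensorProduct.mk A M' A').flip 1
  let E : M' →ₗ[A] M' := μ ∘ₗ ψ
  have hcoc1 : ∀ u, ψ.lTensor A' (ψ u) = (TensorProduct.mk A A' M' 1).lTensor A' (ψ u) := by
    intro u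
    refine Eq.trans ?_ (hcoc u 1 1)
    have : ∀ w : A' ⊗[A] M', ψ.lTensor A' w =
        LinearMap.lTensor A' φ (TensorProduct.assoc A A' M' A' (w ⊗ₜ[A] (1 : A'))) := fun w => by
      induction w using TensorProduct.induction_on with
      | zero => simp
      | tmul z v => simp [ψ]
      | add a b ha hb => simp only [map_add, TensorProduct.add_tmul, ha, hb]
    rw [this, LinearMap.rTensor_tmul]
    rfl
  have hEfix : ∀ u, E.lTensor A' (ψ u) = ψ u := fun u => by
    have := congrArg (μ.lTensor A') (hcoc1 u)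
    rw [← LinearMap.lTensor_comp_apply, ← LinearMap.lTensor_comp_apply,
      show μ ∘ₗ TensorProduct.mk A A' M' 1 = LinearMap.id from
        LinearMap.ext fun v => one_smul A' v, LinearMap.lTensor_id] at this
    exact this
  have hscal : ∀ (x : A') (w : A' ⊗[A] M'),
      μ (LinearMap.rTensor M' (LinearMap.mulLeft A x) w) = x • μ w := fun x w => by
    induction w using TensorProduct.induction_on with
    | zero => simp
    | tmul z v => simp [hμt, mul_smul]
    | add a b ha hb => simp only [map_add, ha, hb, smul_add]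
  have hscal' : ∀ (x : A') (w : A' ⊗[A] M'),
      μ (LinearMap.lTensor A' (Algebra.lsmul A A M' x) w) = x • μ w := fun x w => by
    induction w using TensorProduct.induction_on with
    | zero => simp
    | tmul z v => rw [LinearMap.lTensor_tmul, hμt, hμt]; exact smul_comm z x v
    | add a b ha hb => simp only [map_add, ha, hb, smul_add]
  have hElin : ∀ (x : A') u, E (x • u) = x • E u := fun x u => by
    show μ (φ ((x • u) ⊗ₜ[A] 1)) = _
    rw [h1, hscal]; rfl
  have hμφ : ∀ u a, μ (φ (u ⊗ₜ[A] a)) = E (a • u) := fun u a => by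
    rw [hElin]
    conv_lhs => rw [← mul_one a, h2, hscal']
    rfl
  have hEsurj : Function.Surjective E := fun u => by
    obtain ⟨w, hw⟩ := hφ.2 ((1 : A') ⊗ₜ[A] u)
    let ν : M' ⊗[A] A' →ₗ[A] M' := TensorProduct.lift (Algebra.lsmul A A M').toLinearMap.flip
    have : ∀ w, μ (φ w) = E (ν w) := fun w => by
      induction w using TensorProduct.induction_on with
      | zero => simp
      | tmul v a => exact hμφ v a
      | add a b ha hb => simp only [map_add, ha, hb]
    exact ⟨ν w, by rw [← this, hw, hμt, one_smul]⟩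
  have hEE : ∀ u, E (E u) = E u := fun u => by
    have hcomm : ∀ w, μ (E.lTensor A' w) = E (μ w) := fun w => by
      induction w using TensorProduct.induction_on with
      | zero => simp
      | tmul z v => simp only [LinearMap.lTensor_tmul, hμt, hElin]
      | add a b ha hb => simp only [map_add, ha, hb]
    show E (μ (ψ u)) = μ (ψ u)
    rw [← hcomm, hEfix]
  have hEid : ∀ u, E u = u := fun u => by
    obtain ⟨v, rfl⟩ := hEsurj u; exact hEE v
  refine ⟨fun p q hpq => hinjM ?_, fun u => ?_⟩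
  · have back : ∀ p, ψ (μ (M.subtype.lTensor A' p)) = M.subtype.lTensor A' p := fun p => by
      induction p using TensorProduct.induction_on with
      | zero => simp
      | tmul x m =>
        show φ ((x • (m : M')) ⊗ₜ[A] 1) = x ⊗ₜ[A] (m : M')
        rw [h1, (hM _).mp m.2]; simp
      | add a b ha hb => simp only [map_add, ha, hb]
    simp only [LinearMap.comp_apply] at hpq
    rw [← back p, ← back q, hpq]
  · have hz : δ.lTensor A' (ψ u) = 0 := by
      show LinearMap.lTensor A' (ψ - TensorProduct.mk A A' M' 1) (ψ u) = 0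
      rw [LinearMap.lTensor_sub, LinearMap.sub_apply, hcoc1, sub_self]
    obtain ⟨p, hp⟩ := (hex _).mp hz
    exact ⟨p, by rw [LinearMap.comp_apply, hp]; exact hEid u⟩

end Groth.Agent.S19547
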