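import Groth.Statements.S19548
import Groth.Agent.Lib.RootDatum.Length

set_option autoImplicit false
universe u
open CategoryTheory AlgebraicGeometry
open RedSub

namespace Groth.Agent.S19548

section helpers

open GrothLib.RootDatum

variable {idx M N : Type} [Finite idx] [AddCommGroup M] [AddCommGroup N] {P : RootPairing idx ℤ M N}

theorem wordPerm_apply (l : List idx) (k : idx) : RedSub.wordPerm P l k = word P l • k := by
  induction l generalizing k with
  | nil => simp [RedSub.wordPerm, word]
  | cons a t ih =>
    simp only [RedSub.wordPerm, word, List.map_cons, List.prod_cons, Equiv.Perm.mul_apply, mul_smul] at ih ⊢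
    rw [ih, refl_smul]

theorem posRoots_iff (b : P.Base) (k : idx) :
    (k ∈ RedSub.posRoots P b ↔ 0 < (IsSimple.of_base P b).ht k) ∧
      (k ∈ RedSub.negRoots P b ↔ (IsSimple.of_base P b).ht k < 0) := by
  have h := IsSimple.of_base P b
  refine ⟨h.mem_posOf_iff_ht, ?_⟩
  have : k ∈ RedSub.negRoots P b ↔ nr P k ∈ RootD.posOf P (b.support : Set idx) := by
    simp only [RedSub.negRoots, RootD.posOf, RootD.natSpan, Set.mem_ofPred_eq, Set.mem_setOf_eq, root_nr]
  rw [this, h.mem_posOf_iff_ht, h.ht_nr, neg_pos]

end helpers

/-- Let Φ be a finite reduced root system (a reduced root pairing over ℤ on a finite index set) with a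
base b, let w = σ_{α_1} ⋯ σ_{α_ℓ} be a reduced decomposition of a Weyl group element into simple
reflections (every α_j in the base, and no shorter word in the simple reflections gives the same
permutation of the roots), and let γ be a positive root with w⁻¹(γ) negative. Then for some i with 1
≤ i ≤ ℓ one has σ_γ σ_{α_1} ⋯ σ_{α_i} = σ_{α_1} ⋯ σ_{α_{i-1}}. (Indices are shifted by one below:
the word is a list and the prefixes are its first i + 1 and first i letters.) -/
theorem result {idx M N : Type}
    [AddCommGroup M] [AddCommGroup N] [Finite idx]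
    (P : RootPairing idx ℤ M N) [P.IsReduced] (b : P.Base) (l : List idx)
    (hl : ∀ a ∈ l, a ∈ b.support)
    (hred : ∀ l' : List idx, (∀ a ∈ l', a ∈ b.support) →
      RedSub.wordPerm P l' = RedSub.wordPerm P l → l.length ≤ l'.length)
    (c : idx) (hc : c ∈ RedSub.posRoots P b) (hneg : (RedSub.wordPerm P l).symm c ∈ RedSub.negRoots P b) :
    ∃ i : ℕ, i < l.length ∧
      P.reflectionPerm c * RedSub.wordPerm P (l.take (i + 1)) = RedSub.wordPerm P (l.take i) := by
  classical
  have hb := GrothLib.RootDatum.IsSimple.of_base P b
  have hcpos := (posRoots_iff b c).1.mp hc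
  have hneg' := (posRoots_iff b _).2.mp hneg
  clear hc hneg hred
  induction l generalizing c with
  | nil =>
    rw [show (RedSub.wordPerm P ([] : List idx)).symm c = c from rfl] at hneg'
    omega
  | cons a t ih =>
    have ha := hl a (by simp)
    have hsymm : (RedSub.wordPerm P (a :: t)).symm c = (RedSub.wordPerm P t).symm (P.reflectionPerm a c) := by
      rw [Equiv.symm_apply_eq]
      simp [RedSub.wordPerm, Equiv.Perm.mul_apply]
    rcases eq_or_ne c a with rfl | hne
    · exact ⟨0, by simp, by ext k; simp [RedSub.wordPerm]⟩
    · have hpos' : 0 < hb.ht (P.reflectionPerm a c) :=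
        hb.mem_posOf_iff_ht.mp (hb.refl_smul_mem_posOf ha (hb.mem_posOf_iff_ht.mpr hcpos) hne
          (GrothLib.RootDatum.not_two_smul_of_reduced (P := P) c a))
      obtain ⟨i, hi, e⟩ := ih (fun x hx => hl x (List.mem_cons_of_mem a hx)) (P.reflectionPerm a c) hpos' (hsymm ▸ hneg')
      refine ⟨i + 1, by simpa using hi, ?_⟩
      have hconj : P.reflectionPerm c * P.reflectionPerm a = P.reflectionPerm a * P.reflectionPerm (P.reflectionPerm a c) := by
        ext k
        have h1 := congrArg (fun g : P.Aut => g • (P.reflectionPerm a k)) (GrothLib.RootDatum.conj_refl (GrothLib.RootDatum.refl P a) (P.reflectionPerm a c))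
        simp only [mul_smul, GrothLib.RootDatum.refl_smul, P.reflectionPerm_self] at h1
        rw [inv_eq_of_mul_eq_one_right (GrothLib.RootDatum.refl_mul_self a), GrothLib.RootDatum.refl_smul, P.reflectionPerm_self] at h1
        simp only [Equiv.Perm.mul_apply]
        exact h1.symm
      simp only [RedSub.wordPerm, List.take_succ_cons, List.map_cons, List.prod_cons] at e ⊢
      rw [← mul_assoc, hconj, mul_assoc, e]

end Groth.Agent.S19548
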