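import Groth.Statements.S1955
-- import your own Groth.Agent.* helpers here
import Groth.Agent.Lib.PBDeg17.GenSub

set_option autoImplicit false
universe u
open CategoryTheory AlgebraicGeometry
open Cyc

namespace Groth.Agent.S1955

/-- The assignment F ↦ [F]_k induces an isomorphism from K_0(Coh_{≤k}(X)/Coh_{≤k−1}(X)) onto the group
Z_k(X) of k-cycles: there is an additive map ψ to coefficient functions with ψ[F] = [F]_k for every
coherent F with support of δ-dimension ≤ k, which is injective with image exactly the coefficient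
functions of k-cycles. K_0 of the Serre quotient is modelled as K_0(Coh_{≤k}) modulo the classes of
Coh_{≤k−1} (Cyc.K0CohQuot). Here a pair (X, δ) with Cyc.IsSetup plays the role of a scheme locally
of finite type over a fixed base with a dimension function (X locally Noetherian with universally
catenary local rings, δ a dimension function). -/
theorem result (X : Scheme.{u}) (δ : X → ℤ) (hX : Cyc.IsSetup X δ) (k : ℤ) : ∃ ψ : Cyc.K0CohQuot δ k (k - 1) →+ (X → ℤ), (∀ F : X.Modules, Cyc.CohLe δ k F → ψ (Cyc.toK0CohQuot δ k (k - 1) F) = Cyc.sheafFun δ k F) ∧ Function.Injective ψ ∧ Set.range ψ = {a | ∃ α : AlgebraicCycle X ℤ, α ∈ Cyc.Zk X δ k ∧ ⇑α = a} := by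
  classical
  haveI := hX.1
  have hδ := hX.2.2
  obtain ⟨ψ₀, hψ₀⟩ := GrothLib.K0Sub.exists_lift (P := Cyc.CohLe δ k) (Cyc.sheafFun δ k)
    fun T hT h₁ h₂ h₃ => GrothLib.PBDeg.K0Cyc.sheafFun_add hX hT h₁ h₂ h₃
  have hle : AddSubgroup.closure {c : KZero.K0sub (Cyc.CohLe δ k) |
      ∃ F : X.Modules, Cyc.CohLe δ (k - 1) F ∧ c = KZero.clSub (Cyc.CohLe δ k) F} ≤ ψ₀.ker := by
    rw [AddSubgroup.closure_le]
    rintro _ ⟨E, hE, rfl⟩
    rw [SetLike.mem_coe, AddMonoidHom.mem_ker, hψ₀ E (GrothLib.PBDeg.K0Cyc.cohLe_mono (by omega) hE),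
      GrothLib.PBDeg.K0Cyc.sheafFun_eq_zero (by omega) hE]
  let ψ : Cyc.K0CohQuot δ k (k - 1) →+ (X → ℤ) := QuotientAddGroup.lift _ ψ₀ hle
  have hψ : ∀ F : X.Modules, Cyc.CohLe δ k F → ψ (Cyc.toK0CohQuot δ k (k - 1) F) = Cyc.sheafFun δ k F :=
    hψ₀
  have hdiff : ∀ x : Cyc.K0CohQuot δ k (k - 1), ∃ F G : X.Modules, Cyc.CohLe δ k F ∧ Cyc.CohLe δ k G ∧
      x = Cyc.toK0CohQuot δ k (k - 1) F - Cyc.toK0CohQuot δ k (k - 1) G := by
    intro x
    obtain ⟨x, rfl⟩ := QuotientAddGroup.mk_surjective x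
    obtain ⟨x, rfl⟩ := QuotientAddGroup.mk_surjective x
    obtain ⟨Z, hZ⟩ : ∃ Z : X.Modules, CategoryTheory.Limits.IsZero Z :=
      CategoryTheory.Limits.HasZeroObject.zero
    have hZ' : Cyc.CohLe δ k Z := GrothLib.PBDeg.K0Cyc.cohLe_zero hZ
    induction x using FreeAbelianGroup.induction_on with
    | zero => exact ⟨Z, Z, hZ', hZ', (sub_self _).symm⟩
    | of M =>
      refine ⟨M.1, Z, M.2, hZ', ?_⟩
      show _ = QuotientAddGroup.mk _ - QuotientAddGroup.mk _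
      rw [GrothLib.K0Sub.clSub_isZero hZ, GrothLib.K0Sub.clSub_eq_mk M.2]
      exact (sub_zero _).symm
    | neg x h =>
      obtain ⟨F, G, hF, hG, e⟩ := h
      exact ⟨G, F, hG, hF, (congrArg Neg.neg e).trans (neg_sub _ _)⟩
    | add x y hx hy =>
      obtain ⟨F, G, hF, hG, e⟩ := hx
      obtain ⟨F', G', hF', hG', e'⟩ := hy
      obtain ⟨a1, a2⟩ := GrothLib.PBDeg.K0Cyc.q_biprod (b := k - 1) hF hF'
      obtain ⟨b1, b2⟩ := GrothLib.PBDeg.K0Cyc.q_biprod (b := k - 1) hG hG'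
      refine ⟨_, _, a1, b1, (congrArg₂ (· + ·) e e').trans ?_⟩
      show _ = GrothLib.PBDeg.K0Cyc.q δ k (k - 1) _ - GrothLib.PBDeg.K0Cyc.q δ k (k - 1) _
      rw [a2, b2]
      exact sub_add_sub_comm _ _ _ _
  refine ⟨ψ, hψ, (injective_iff_map_eq_zero ψ).2 fun x hx => ?_, Set.ext fun a => ⟨?_, ?_⟩⟩
  · obtain ⟨F, G, hF, hG, rfl⟩ := hdiff x
    rw [map_sub, hψ F hF, hψ G hG, sub_eq_zero] at hx
    exact sub_eq_zero.2 (GrothLib.PBDeg.K0Cyc.q_eq_of_sheafFun_eq hX le_rfl le_rfl hF hG hx)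
  · rintro ⟨x, rfl⟩
    obtain ⟨F, G, hF, hG, rfl⟩ := hdiff x
    rw [map_sub, hψ F hF, hψ G hG]
    have hl : GrothLib.C1.LF (Cyc.sheafFun δ k F - Cyc.sheafFun δ k G) := by
      intro p
      obtain ⟨U, hp, hfU⟩ := GrothLib.PBDeg.K0Cyc.lf_sheafFun hδ hF p
      obtain ⟨U', hp', hfU'⟩ := GrothLib.PBDeg.K0Cyc.lf_sheafFun hδ hG p
      refine ⟨U ⊓ U', ⟨hp, hp'⟩, (hfU.union hfU').subset fun y hy => ?_⟩
      by_cases h : Cyc.sheafFun δ k F y = 0
      · exact Or.inr ⟨hy.1.2, fun h' => hy.2 (by rw [Pi.sub_apply, h, h', sub_zero])⟩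
      · exact Or.inl ⟨hy.1.1, h⟩
    refine ⟨GrothLib.C1.toCycle _ hl, fun y hy => ?_, rfl⟩
    show (Cyc.sheafFun δ k F - Cyc.sheafFun δ k G) y = 0
    rw [Pi.sub_apply, Cyc.sheafFun, Cyc.sheafFun, if_neg hy, if_neg hy, sub_zero]
  · rintro ⟨α, hα, rfl⟩
    have hs : ∀ x, α x ≠ 0 → δ x = k := fun x hx => by_contra fun h => hx (hα x h)
    obtain ⟨hp, hn⟩ := GrothLib.PBDeg.K0Cyc.exists_lf_eq_sub hδ (GrothLib.C1.LF.of_cycle α) hs
    refine ⟨Cyc.toK0CohQuot δ k (k - 1) (Cyc.cycleSheafPos ⇑α) -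
      Cyc.toK0CohQuot δ k (k - 1) (Cyc.cycleSheafNeg ⇑α), ?_⟩
    rw [map_sub, hψ _ hp, hψ _ hn,
      GrothLib.PBDeg.K0Cyc.sheafFun_pos_sub_neg hδ (GrothLib.C1.LF.of_cycle α) hs]

end Groth.Agent.S1955
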