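import Groth.Statements.S19550
import Groth.Agent.Lib.SchFin.Points

set_option autoImplicit false
universe u
open SchFin SchFin.RSpace

namespace Groth.Agent.S19550

open SchFin in
/-- Let X be a well-connected schematic finite space and f : A → B a morphism of quasi-coherent algebras
between trivial étale covers A ≅ O_X^F and B ≅ O_X^E, F and E finite sets. Then f is induced by a
map of finite sets φ : E → F. Here the trivial algebras are written out: f is a family of
O_p-algebra maps (F → O_p) → (E → O_p), one for each point p, compatible with the restriction maps,
and the conclusion says f_p(g) = g ∘ φ for every p and g. (The published statement names a map F →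
E; a map of algebras of functions O^F → O^E is composition with a map E → F, which is what this row
states.) -/
theorem result (X : RSpace.{u})
    (hX : X.IsSchematic) (hW : X.IsWellConnected) (F E : Type) [Finite F] [Finite E]
    (f : ∀ p : X.pt, (F → X.ring p) →ₐ[X.ring p] (E → X.ring p))
    (hf : ∀ (p q : X.pt) (h : p ≤ q) (g : F → X.ring p) (e : E),
      X.res h (f p g e) = f q (fun i => X.res h (g i)) e) :
    ∃ φ : E → F, ∀ (p : X.pt) (g : F → X.ring p) (e : E), f p g e = g (φ e) := by
  exact GrothLib.FinSp.exists_trivial_cover_map hW f hf

end Groth.Agent.S19550
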