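import Groth.Statements.S19551
import Groth.Agent.Lib.Kron.Regular

set_option autoImplicit false
universe u v w
open KronMod

namespace Groth.Agent.S19551

/-- Case of two arrows. Over an algebraically closed field K, if a Kronecker module f = (f_0, f_1) with
two arrows between spaces V and W of the same finite dimension k is semistable, then some linear
combination z_0 f_0 + z_1 f_1 of its arrows is a linear isomorphism V → W: for two arrows the
semistable locus of dimension vector (k, k) lies in the open set of modules whose generic
combination is invertible, for every k. (The published statement, over an algebraically closed field
of characteristic zero, also covers the dimension vectors (1, 1) and (2, 2) for any number of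
arrows; this row states the two-arrow case for all k, without the characteristic assumption.) -/
theorem result (K : Type u) [Field K] [IsAlgClosed K]
    (V : Type v) (W : Type w)
    [AddCommGroup V] [Module K V] [FiniteDimensional K V]
    [AddCommGroup W] [Module K W] [FiniteDimensional K W]
    (f : Fin 2 → (V →ₗ[K] W)) (k : ℕ)
    (hV : Module.finrank K V = k) (hW : Module.finrank K W = k)
    (hf : KronMod.IsSemistable f) :
    ∃ z : Fin 2 → K, Function.Bijective ((∑ j, z j • f j : V →ₗ[K] W) : V → W) := by
  exact GrothLib.Kron.exists_bijective_pencil hV hW hf


end Groth.Agent.S19551
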