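import Groth.Statements.S19552
import Mathlib
import Groth.Agent.Lib.SerreBass.Module
-- import your own Groth.Agent.* helpers here

set_option autoImplicit false
universe u
open CAlg

namespace Groth.Agent.S19552

/-- Let R be a Noetherian ring of Krull dimension d and P, Q finitely generated projective R-modules of
constant rank at every prime which have the same class in the Grothendieck group, i.e. are stably
isomorphic: P ⊕ R^m ≅ Q ⊕ R^m for some m. Then there is a positive integer N with P^N ≅ Q^N. (The
two exponents in the published display are read as the same integer N; for modules of positive rank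
an isomorphism between direct powers forces equal exponents.) -/
theorem result (R : Type u) [CommRing R] [IsNoetherianRing R]
    (d n : ℕ) (hdim : ringKrullDim R = d)
    (P Q : Type u) [AddCommGroup P] [Module R P] [Module.Finite R P] [Module.Projective R P]
    [AddCommGroup Q] [Module R Q] [Module.Finite R Q] [Module.Projective R Q]
    (hrk : ∀ p : PrimeSpectrum R, Module.rankAtStalk (R := R) P p = n)
    (hrk' : ∀ p : PrimeSpectrum R, Module.rankAtStalk (R := R) Q p = n)
    (m : ℕ) (e : (P × (Fin m → R)) ≃ₗ[R] (Q × (Fin m → R))) :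
    ∃ N : ℕ, 1 ≤ N ∧ Nonempty ((Fin N → P) ≃ₗ[R] (Fin N → Q)) := by
  refine ⟨d + 1, Nat.succ_le_succ (Nat.zero_le d), ?_⟩
  rcases Nat.eq_zero_or_pos n with rfl | hn
  · have hP : Subsingleton P := (Module.rankAtStalk_eq_zero_iff_subsingleton (R := R)).1 (funext hrk)
    have hQ : Subsingleton Q := (Module.rankAtStalk_eq_zero_iff_subsingleton (R := R)).1 (funext hrk')
    exact ⟨LinearEquiv.ofSubsingleton _ _⟩
  let D := fun (X : Type u) [AddCommGroup X] [Module R X] =>
    ((LinearEquiv.prodCongr (LinearEquiv.refl R (Fin (d + 1) → X))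
        ((LinearEquiv.funCongrLeft R R (finProdFinEquiv (m := d + 1) (n := m))) ≪≫ₗ
          LinearEquiv.curry R R (Fin (d + 1)) (Fin m))) ≪≫ₗ
      ({ toFun := fun y i => (y.1 i, y.2 i)
         map_add' := fun _ _ => rfl
         map_smul' := fun _ _ => rfl
         invFun := fun y => (fun i => (y i).1, fun i => (y i).2)
         left_inv := fun _ => rfl
         right_inv := fun _ => rfl } :
        ((Fin (d + 1) → X) × (Fin (d + 1) → Fin m → R)) ≃ₗ[R] (Fin (d + 1) → X × (Fin m → R))))
  have : Module.Projective R (Fin (d + 1) → Q) :=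
    Module.Projective.of_equiv (DFinsupp.linearEquivFunOnFintype (R := R) (M := fun _ : Fin (d + 1) => Q))
  refine GrothLib.SerreBass.cancel hdim.le (P := Fin (d + 1) → P) (fun p => ?_) ((d + 1) * m)
    (D P ≪≫ₗ LinearEquiv.piCongrRight (fun _ => e) ≪≫ₗ (D Q).symm)
  rw [Module.rankAtStalk_pi, finsum_eq_sum_of_fintype]
  simp only [hrk', Finset.sum_const, Finset.card_univ, Fintype.card_fin, smul_eq_mul]
  exact (Nat.lt_succ_self d).trans_le (Nat.le_mul_of_pos_right _ hn)

end Groth.Agent.S19552
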