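import Groth.Statements.S19560

set_option autoImplicit false
universe u
open W4c1limliniiii

namespace Groth.Agent.S19560

open Polynomial in
theorem aux {k : Type u} [Field k] (q m₁ : k[X]) (a : k) (E : ℕ) (hE : 1 ≤ E) :
    Polynomial.wronskian q ((X - C a) ^ E * m₁) =
      (X - C a) ^ (E - 1) * ((X - C a) * Polynomial.wronskian q m₁ + C (E : k) * (q * m₁)) := by
  obtain ⟨j, rfl⟩ : ∃ j, E = j + 1 := ⟨E - 1, by omega⟩
  simp only [Polynomial.wronskian, derivative_mul, derivative_X_sub_C_pow, Nat.add_sub_cancel]
  rw [pow_succ]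
  ring

open Polynomial in
/-- Let k be an algebraically closed field of characteristic p (a prime or zero) and let F, G be
polynomials spanning a base-point-free pencil V of degree d (a two-dimensional space of polynomials
of degree at most d containing one of degree d and with no common zero in k), so that V encodes a
degree-d self-map F/G of the projective line up to automorphisms of the target. Suppose the
Wronskian W = F′G − FG′ is non-zero and vanishes at the point a to order exactly e − 1 with e ≥ 1,
and that p = 0 or e − 1 < p. Then the map is tamely ramified at a with index e: the largest order of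
vanishing at a of a non-zero member of V is e, and p does not divide e. (The hypothesis W ≠ 0 makes
the order of vanishing meaningful; for W = 0 the map is inseparable.) -/
theorem result
    (k : Type u) [Field k] [IsAlgClosed k] (p : ℕ) [CharP k p]
    (d : ℕ) (F G : k[X]) (hV : W4c1limliniiii.IsPencil d (Submodule.span k {F, G}))
    (hW : Polynomial.wronskian F G ≠ 0) (a : k) (e : ℕ)
    (he : (Polynomial.wronskian F G).rootMultiplicity a + 1 = e) (hp : p = 0 ∨ e - 1 < p) :
    W4c1limliniiii.HasRamIdx (Submodule.span k {F, G}) a e ∧ ¬ p ∣ e := by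
  classical
  obtain ⟨-, hfr, -, hbp⟩ := hV
  have hcomb : ∀ l μ : k, ∀ G' : Polynomial k, Polynomial.wronskian (l • F + μ • G) G' =
      Polynomial.C l * Polynomial.wronskian F G' + Polynomial.C μ * Polynomial.wronskian G G' := fun l μ G' => by
    simp only [Polynomial.smul_eq_C_mul, Polynomial.wronskian, Polynomial.derivative_add,
      Polynomial.derivative_C_mul]
    ring
  have hC : ∀ c : k, c ≠ 0 → ∀ P : Polynomial k,
      (Polynomial.C c * P).rootMultiplicity a = P.rootMultiplicity a := fun c hc P => by
    rcases eq_or_ne P 0 with rfl | hP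
    · rw [mul_zero]
    · rw [Polynomial.rootMultiplicity_mul (mul_ne_zero (Polynomial.C_ne_zero.2 hc) hP),
        Polynomial.rootMultiplicity_C, zero_add]
  obtain ⟨q, hq, hqa⟩ := hbp a
  obtain ⟨l, μ, rfl⟩ := Submodule.mem_span_pair.1 hq
  let m := G.eval a • F + (-F.eval a) • G
  have hma : m.eval a = 0 := by simp [m]; ring
  have hm : m ∈ Submodule.span k ({F, G} : Set (Polynomial k)) :=
    Submodule.mem_span_pair.2 ⟨_, _, rfl⟩
  have hdet : Polynomial.wronskian (l • F + μ • G) m = Polynomial.C (-(l * F.eval a + μ * G.eval a)) * Polynomial.wronskian F G := by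
    simp only [m, Polynomial.smul_eq_C_mul, Polynomial.wronskian, Polynomial.derivative_add, Polynomial.derivative_mul,
      Polynomial.derivative_neg, Polynomial.derivative_C, Polynomial.C_neg, Polynomial.C_add, Polynomial.C_mul]
    ring
  have hne : -(l * F.eval a + μ * G.eval a) ≠ 0 := by
    rw [neg_ne_zero]; simpa using hqa
  have hm0 : m ≠ 0 := fun h => by
    rw [h, Polynomial.wronskian_zero_right] at hdet
    exact mul_ne_zero (Polynomial.C_ne_zero.2 hne) hW hdet.symm
  obtain ⟨m₁, hm₁, hndvd⟩ := Polynomial.exists_eq_pow_rootMultiplicity_mul_and_not_dvd m hm0 a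
  have hm₁a : m₁.eval a ≠ 0 := fun h => hndvd (Polynomial.dvd_iff_isRoot.2 h)
  have hE1 : 1 ≤ m.rootMultiplicity a := (Polynomial.rootMultiplicity_pos hm0).2 hma
  have e3 := aux (l • F + μ • G) m₁ a _ hE1
  rw [← hm₁] at e3
  rw [e3] at hdet
  have hW' := congrArg (Polynomial.rootMultiplicity a) hdet
  rw [hC _ hne] at hW'
  generalize hEdef : m.rootMultiplicity a = E at hdet hW' hE1
  clear e3
  have hPne : (Polynomial.X - Polynomial.C a) * Polynomial.wronskian (l • F + μ • G) m₁ +
      Polynomial.C (E : k) * ((l • F + μ • G) * m₁) ≠ 0 := fun h => by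
    rw [h, mul_zero] at hdet
    exact mul_ne_zero (Polynomial.C_ne_zero.2 hne) hW hdet.symm
  rw [Polynomial.rootMultiplicity_mul (mul_ne_zero (pow_ne_zero _ (Polynomial.X_sub_C_ne_zero _)) hPne),
    Polynomial.rootMultiplicity_X_sub_C_pow] at hW'
  have hnp : ¬ p ∣ E := by
    intro hdvd
    rw [(CharP.cast_eq_zero_iff k p _).2 hdvd, Polynomial.C_0, zero_mul, add_zero] at hW' hPne
    have := (Polynomial.rootMultiplicity_pos (x := a) hPne).2 (by simp)
    rcases hp with rfl | hp
    · rw [Nat.eq_zero_of_zero_dvd hdvd] at hE1; omega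
    · have := Nat.le_of_dvd (by omega) hdvd
      omega
  have hev : ¬ ((Polynomial.X - Polynomial.C a) * Polynomial.wronskian (l • F + μ • G) m₁ +
      Polynomial.C (E : k) * ((l • F + μ • G) * m₁)).IsRoot a := by
    rw [Polynomial.IsRoot.def, Polynomial.eval_add, Polynomial.eval_mul, Polynomial.eval_sub, Polynomial.eval_X,
      Polynomial.eval_C, sub_self, zero_mul, zero_add, Polynomial.eval_mul, Polynomial.eval_C, Polynomial.eval_mul]
    exact mul_ne_zero (fun h => hnp ((CharP.cast_eq_zero_iff k p _).1 h)) (mul_ne_zero hqa hm₁a)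
  rw [Polynomial.rootMultiplicity_eq_zero hev] at hW'
  have hE : m.rootMultiplicity a = e := by omega
  refine ⟨⟨⟨m, hm, hm0, hE.ge⟩, ?_⟩, (hEdef.symm.trans hE) ▸ hnp⟩
  intro s hs hs0
  obtain ⟨x, y, rfl⟩ := Submodule.mem_span_pair.1 hs
  by_cases h : (x • F + y • G).eval a = 0
  · have hxy : x * F.eval a + y * G.eval a = 0 := by simpa using h
    obtain ⟨c, hc⟩ : ∃ c : k, x • F + y • G = c • m := by
      rcases eq_or_ne (G.eval a) 0 with hG | hG
      · have hF : F.eval a ≠ 0 := fun hF => hqa (by simp [hF, hG])
        have hx : x = 0 := by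
          rw [hG, mul_zero, add_zero] at hxy
          exact (mul_eq_zero.1 hxy).resolve_right hF
        refine ⟨-y / F.eval a, ?_⟩
        simp [m, hG, hx, hF, smul_smul, neg_div, div_mul_cancel₀]
      · refine ⟨x / G.eval a, ?_⟩
        simp only [m, smul_add, smul_smul, div_mul_cancel₀ _ hG]
        congr 2
        field_simp
        linear_combination hxy
    have hc0 : c ≠ 0 := fun h0 => hs0 (by rw [hc, h0, zero_smul])
    rw [hc, Polynomial.smul_eq_C_mul, hC _ hc0, hE]
  · rw [Polynomial.rootMultiplicity_eq_zero h]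
    exact Nat.zero_le e

end Groth.Agent.S19560
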