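import Groth.Statements.S19562
import Mathlib

set_option autoImplicit false
universe u
open W4c1limliniiii

namespace Groth.Agent.S19562

/-- The key dimension count. -/
theorem key {k M N : Type u} [Field k] [AddCommGroup M] [Module k M] [FiniteDimensional k M]
    [AddCommGroup N] [Module k N] [FiniteDimensional k N] (F : M →ₗ[k] N) (G : N →ₗ[k] M)
    (hGF : G.comp F = 0) (V : Submodule k M) (W : Submodule k N) (hF : V.map F ≤ W)
    (r : ℕ) (hW : Module.finrank k W = r) :
    Module.finrank k (V.map F) + Module.finrank k (W.map G) ≤ r ∧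
    (LinearMap.ker G ⊓ W ≤ V.map F ↔ Module.finrank k (V.map F) + Module.finrank k (W.map G) = r) := by
  have hle : V.map F ≤ LinearMap.ker G ⊓ W := le_inf (by
    rintro _ ⟨v, -, rfl⟩
    exact LinearMap.congr_fun hGF v) hF
  have hrn := LinearMap.finrank_range_add_finrank_ker (G.comp W.subtype)
  rw [LinearMap.range_comp, Submodule.range_subtype, hW] at hrn
  have hker : Module.finrank k (LinearMap.ker (G.comp W.subtype)) =
      Module.finrank k (LinearMap.ker G ⊓ W : Submodule k N) := by
    rw [LinearMap.ker_comp]
    rw [(Submodule.equivMapOfInjective W.subtype Subtype.val_injective _).finrank_eq,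
      Submodule.map_comap_subtype, inf_comm]
  have h1 := Submodule.finrank_mono hle
  refine ⟨by omega, fun h => ?_, fun h => ?_⟩
  · have := Submodule.finrank_mono h
    omega
  · exact (Submodule.eq_of_le_of_finrank_eq hle (by omega)).ge

open TensorProduct in
/-- Let k be a field, 0 < r < d, and f_i, g_i (i < n) linear maps forward and backward between
consecutive ones of n + 1 copies of k^d, forming a linked Grassmannian over Spec k whose scalar s is
zero: every composite f_i ∘ g_i and g_i ∘ f_i vanishes, rank f_i + rank g_i ≥ d, and for consecutive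
indices im f_i ∩ ker f_{i+1} = 0 and im g_{i+1} ∩ ker g_i = 0. Let (V_i) be a k-valued point of the
linked Grassmannian of rank-r sub-bundles (subspaces V_i of k ⊗ k^d with quotient of rank d − r,
with f_i(V_i) ⊆ V_{i+1} and g_i(V_{i+1}) ⊆ V_i). Then (V_i) is exact, meaning ker g_i ∩ V_{i+1} ⊆
f_i(V_i) and ker f_i ∩ V_i ⊆ g_i(V_{i+1}) for all i, if and only if dim f_i(V_i) + dim g_i(V_{i+1})
= r for all i. (The published assertion is for points with values in an arbitrary scheme and also
says that f_i(V_i) and g_i(V_{i+1}) are then sub-bundles; this row is the case of a field, where the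
last clause is empty.) -/
theorem result (k : Type u) [Field k]
    (d r n : ℕ) (hr : 0 < r) (hrd : r < d) (f g : Fin n → ((Fin d → k) →ₗ[k] (Fin d → k)))
    (hI : ∀ i, (f i).comp (g i) = 0 ∧ (g i).comp (f i) = 0)
    (hII : ∀ i, d ≤ Module.finrank k (LinearMap.range (f i)) + Module.finrank k (LinearMap.range (g i)))
    (hIII : ∀ i j : Fin n, i.val + 1 = j.val →
      LinearMap.range (f i) ⊓ LinearMap.ker (f j) = ⊥ ∧
        LinearMap.range (g j) ⊓ LinearMap.ker (g i) = ⊥)
    (V : Fin (n + 1) → Module.Grassmannian k (k ⊗[k] (Fin d → k)) (d - r))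
    (hV : V ∈ W4c1limliniiii.LGPoints k d r n f g k) :
    W4c1limliniiii.IsExact k d r n f g k V ↔
      ∀ i : Fin n,
        Module.finrank k ↥(Submodule.map ((f i).baseChange k) (V i.castSucc).toSubmodule) +
          Module.finrank k ↥(Submodule.map ((g i).baseChange k) (V i.succ).toSubmodule) = r := by
  open TensorProduct in
  have hdim : ∀ i, Module.finrank k (V i).toSubmodule = r := by
    intro i
    have h1 := Submodule.finrank_quotient_add_finrank (V i).toSubmodule
    have h2 := (V i).rankAtStalk_eq ⟨⊥, Ideal.isPrime_bot⟩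
    rw [Module.rankAtStalk_eq_finrank_of_free] at h2
    rw [Pi.natCast_def] at h2
    have h3 : Module.finrank k (k ⊗[k] (Fin d → k)) = d := by
      rw [Module.finrank_baseChange, Module.finrank_fin_fun]
    simp at h2
    omega
  refine forall_congr' fun i => ?_
  have hgf : ((g i).baseChange k).comp ((f i).baseChange k) = 0 := by
    rw [← LinearMap.baseChange_comp, (hI i).2, LinearMap.baseChange_zero]
  have hfg : ((f i).baseChange k).comp ((g i).baseChange k) = 0 := by
    rw [← LinearMap.baseChange_comp, (hI i).1, LinearMap.baseChange_zero]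
  obtain ⟨-, k1⟩ := key _ _ hgf _ _ (hV i).1 r (hdim i.succ)
  obtain ⟨-, k2⟩ := key _ _ hfg _ _ (hV i).2 r (hdim i.castSucc)
  rw [k1, k2]
  omega

end Groth.Agent.S19562
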