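import Groth.Statements.S19564
import Groth.Agent.Lib.W2Lift.Basic
import Groth.Agent.Lib.W2Lift.Quadric

set_option autoImplicit false
universe u
open scoped BigOperators
open FrobAlg GrothLib.W2Lift.Quadric

namespace Groth.Agent.S19564

/-- Let k be a perfect field of characteristic p ≥ 3 and n ≥ 3. Then the ordinary double point k[x_1,
y_1, …, x_n, y_n]/(x_1y_1 + ⋯ + x_ny_n), the affine cone over the split quadric in 2n ≥ 6 variables,
admits no flat lifting over W₂(k) compatible with Frobenius (no flat W₂(k)-algebra reducing to it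
that carries a ring endomorphism which is σ₂-semilinear and reduces to the p-th power map). (The
published statement is for any number N ≥ 5 of variables and allows arbitrary terms of degree ≥ 3 to
be added to a non-degenerate quadratic form; this row is the case of the split form in an even
number of variables with nothing added, the case in which the argument is a pure comparison of
homogeneous components.) -/
theorem result
    (p : ℕ) [Fact p.Prime] (hp : 3 ≤ p) (k : Type u) [Field k] [CharP k p] [PerfectRing k p]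
    (n : ℕ) (hn : 3 ≤ n) :
    ¬ FrobAlg.IsFLiftable p k
      (MvPolynomial (Fin n × Fin 2) k ⧸ Ideal.span
        {(∑ i : Fin n, MvPolynomial.X (i, (0 : Fin 2)) * MvPolynomial.X (i, (1 : Fin 2)) : MvPolynomial (Fin n × Fin 2) k)}) := by
  classical
  have hp' : p.Prime := Fact.out
  set f : MvPolynomial (Fin n × Fin 2) k := ∑ i : Fin n, MvPolynomial.X (i, (0 : Fin 2)) * MvPolynomial.X (i, (1 : Fin 2)) with hf
  set I : Ideal (MvPolynomial (Fin n × Fin 2) k) := Ideal.span (insert f
      (Set.range fun v : Fin n × Fin 2 => (MvPolynomial.X v : MvPolynomial (Fin n × Fin 2) k) ^ p)) with hI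
  have hfI : Ideal.span {f} ≤ I := Ideal.span_mono (by simp)
  have hXI : ∀ v, (MvPolynomial.X v : MvPolynomial (Fin n × Fin 2) k) ^ p ∈ I := fun v =>
    Ideal.subset_span (Set.mem_insert_of_mem _ ⟨v, rfl⟩)
  rintro ⟨B, hB', ι, π, Φ, hΦ⟩
  have hB := hΦ.toIsLift
  obtain ⟨C, hC⟩ := exists_C (MvPolynomial (Fin n) ℤ) hp' Finset.univ MvPolynomial.X
  choose Z hZ using fun v => hB.surj (Ideal.Quotient.mk (Ideal.span {f}) (MvPolynomial.X v))
  have hp2 : (p : B) * (p : B) = 0 := GrothLib.W2Lift.p_mul_p_of_hom ι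
  obtain ⟨g, hg⟩ := (GrothLib.W2Lift.IsLift.map_eq_zero_iff hB (∑ i, Z (i, 0) * Z (i, 1))).1 (by
    simp only [map_sum, map_mul, hZ]
    simp only [← map_mul, ← map_sum]
    rw [Ideal.Quotient.eq_zero_iff_mem]
    exact Ideal.mem_span_singleton_self _)
  have ha : ∀ v, ∃ c, Φ (Z v) - Z v ^ p = (p : B) * c := fun v => by
    rw [← GrothLib.W2Lift.IsLift.map_eq_zero_iff hB, map_sub, hΦ.red, map_pow, sub_self]
  choose a ha using ha
  let T : Fin n → B := fun i => Z (i, 0) * Z (i, 1)
  have hsum : (∑ i, T i) = (p : B) * g := hg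
  have h1 : ∑ i, T i ^ p + (p : B) * MvPolynomial.aeval T C = 0 := by
    have h := congrArg (MvPolynomial.aeval T) hC
    simp only [map_pow, map_sum, map_add, map_mul, map_natCast, MvPolynomial.aeval_X] at h
    rw [← h, hsum, mul_pow, pow_eq_zero_of_le hp'.two_le (by rw [sq]; exact hp2), zero_mul]
  have h2 : ∑ i, T i ^ p + (p : B) * ∑ i, (Z (i, 0) ^ p * a (i, 1) + Z (i, 1) ^ p * a (i, 0)) =
      (p : B) * Φ g := by
    rw [← map_natCast Φ p, ← map_mul, ← hsum, map_sum, map_natCast, Finset.mul_sum, ← Finset.sum_add_distrib]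
    refine Finset.sum_congr rfl fun i _ => ?_
    show _ = Φ (Z (i, 0) * Z (i, 1))
    rw [map_mul, eq_add_of_sub_eq' (ha (i, 0)), eq_add_of_sub_eq' (ha (i, 1))]
    simp only [T, mul_pow]
    linear_combination -(a (i, 0) * a (i, 1)) * hp2
  have h3 : π (MvPolynomial.aeval T C - ∑ i, (Z (i, 0) ^ p * a (i, 1) + Z (i, 1) ^ p * a (i, 0)) + Φ g) = 0 := by
    rw [← GrothLib.W2Lift.IsLift.p_mul_eq_zero_iff hB]
    linear_combination h1 - h2
  choose A hA using fun v => Ideal.Quotient.mk_surjective (I := Ideal.span {f}) (π (a v))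
  obtain ⟨G, hG⟩ := Ideal.Quotient.mk_surjective (I := Ideal.span {f}) (π g)
  have h4 : MvPolynomial.aeval (fun i => (MvPolynomial.X (i, (0 : Fin 2)) * MvPolynomial.X (i, (1 : Fin 2)) : MvPolynomial (Fin n × Fin 2) k)) C
      - ∑ i, (MvPolynomial.X (i, 0) ^ p * A (i, 1) + MvPolynomial.X (i, 1) ^ p * A (i, 0)) + G ^ p ∈ Ideal.span {f} := by
    rw [← Ideal.Quotient.eq_zero_iff_mem, ← h3]
    simp only [map_add, map_sub, map_sum, map_mul, map_pow, hA, hG, hZ, hΦ.red]
    congr 2
    rw [hom_aeval, hom_aeval]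
    congr 1
    congr 1
    funext i
    simp [T, hZ]
  have h5 : ∀ P : MvPolynomial (Fin n × Fin 2) k,
      P ^ p - MvPolynomial.C (MvPolynomial.constantCoeff P ^ p) ∈ I := by
    intro P
    induction P using MvPolynomial.induction_on with
    | C c => simp
    | add P Q hP hQ =>
      rw [add_pow_char, map_add, add_pow_char, map_add]
      convert I.add_mem hP hQ using 1
      ring
    | mul_X P v _ =>
      simp only [map_mul, MvPolynomial.constantCoeff_X, mul_zero, zero_pow hp'.ne_zero, map_zero, sub_zero, mul_pow]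
      exact I.mul_mem_left _ (hXI v)
  have h6 : MvPolynomial.aeval (fun i => (MvPolynomial.X (i, (0 : Fin 2)) * MvPolynomial.X (i, (1 : Fin 2)) : MvPolynomial (Fin n × Fin 2) k)) C
      + MvPolynomial.C (MvPolynomial.constantCoeff G ^ p) ∈ I := by
    have hs : ∑ i, (MvPolynomial.X (i, 0) ^ p * A (i, 1) + MvPolynomial.X (i, 1) ^ p * A (i, 0)) ∈ I :=
      I.sum_mem fun i _ => I.add_mem (I.mul_mem_right _ (hXI _)) (I.mul_mem_right _ (hXI _))
    convert I.sub_mem (I.add_mem (hfI h4) hs) (h5 G) using 1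
    ring
  have h7 := testFun_ideal k hn _ h6
  rw [map_add, testFun_C k _ hp'.two_le, add_zero] at h7
  exact coeff_aeval_ne_zero k hn hp' C hC h7

end Groth.Agent.S19564
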