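import Groth.Statements.S19565
import Groth.Agent.Lib.RootBlock20.Basic

set_option autoImplicit false
universe u v w
open RootComb

namespace Groth.Agent.S19565

/-- Let Φ be a finite reduced crystallographic irreducible root system over a field of characteristic
zero, Δ a base of simple roots, I ⊆ Δ, and suppose the simple roots outside I are split into two
disjoint non-empty sets A and B. Then there are a simple root β ∈ A and a root δ such that δ is a
non-negative integer combination of the simple roots of I ∪ B (a positive root whose support avoids
A), δ is not in the linear span of I (so δ is not a root of the Levi subsystem of I), and ⟨δ, β^∨⟩ <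
0. (The published statement is made for the root system of a semisimple group; for a reducible
system such as A₁ × A₁ with I empty and A, B the two simple roots there is no such δ, and the
argument measures distances in a connected Dynkin diagram, so the root system is taken irreducible
here.) -/
theorem result
    {ι : Type u} [Finite ι] [DecidableEq ι] {k : Type v} [Field k] [CharZero k]
    {M : Type w} [AddCommGroup M] [Module k M] {N : Type w} [AddCommGroup N] [Module k N]
    (P : RootPairing ι k M N) [P.IsCrystallographic] [P.IsReduced] [P.IsIrreducible] (b : P.Base)
    (I A B : Finset ι) (hcover : I ∪ A ∪ B = b.support) (hIA : Disjoint I A) (hIB : Disjoint I B)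
    (hAB : Disjoint A B) (hA : A.Nonempty) (hB : B.Nonempty) :
    ∃ l ∈ A, ∃ j : ι, P.root j ∈ AddSubmonoid.closure (P.root '' ↑(I ∪ B)) ∧
      P.root j ∉ Submodule.span k (P.root '' ↑I) ∧ P.pairingIn ℤ j l < 0 := by
  exact GrothLib.RootBlock20.exists_root_off_block P b I A B hcover hIA hIB hAB hA hB

end Groth.Agent.S19565
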