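import Groth.Statements.S19566
import Groth.Agent.Lib.QuotPts13.Fiber
import Groth.Agent.Lib.QuotPts13.Points
import Groth.Agent.S3935
import Mathlib.AlgebraicGeometry.Morphisms.LocalFlatDescent
import Mathlib.AlgebraicGeometry.Sites.Fpqc
-- import your own Groth.Agent.* helpers here

set_option autoImplicit false
universe u
open CategoryTheory CategoryTheory.Limits AlgebraicGeometry
open AlgSt

namespace Groth.Agent.S19566

open MonoidalCategory CartesianMonoidalCategory in
/-- A torsor over a finite field under a smooth affine connected group has a rational point. -/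
theorem exists_point {F : Type u} [Field F] [Finite F]
    {X G : Over (Spec (CommRingCat.of F))} [GrpObj G] {aX : AlgGrp.Action G X}
    [Smooth G.hom] [IsAffineHom G.hom] [ConnectedSpace ↥G.left]
    (ξ : (AlgSt.QuotSt Scheme.fppfPrecoverage G aX).p.Fiber (Over.mk (𝟙 (Spec (CommRingCat.of F))))) :
    ∃ p : Over.mk (𝟙 (Spec (CommRingCat.of F))) ⟶ ξ.1.P, p ≫ ξ.1.π = eqToHom ξ.2.symm := by
  obtain ⟨A, e⟩ := ξ
  obtain ⟨B, P, act, π, cart, loc, φ, eqv⟩ := A
  change B = Over.mk (𝟙 (Spec (CommRingCat.of F))) at e
  subst e
  show ∃ p : Over.mk (𝟙 (Spec (CommRingCat.of F))) ⟶ P, p ≫ π = eqToHom rfl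
  haveI : IsAffine G.left := isAffine_of_isAffineHom G.hom
  have hπ : π.left = P.hom := (Category.comp_id _).symm.trans (Over.w π)
  haveI hne : Nonempty ↥P.left := by
    obtain ⟨R, hR, hsec⟩ := loc
    obtain ⟨T, g, hg, y, -⟩ := hR.1 (IsLocalRing.closedPoint F)
    obtain @⟨Y, g, hg⟩ := hg
    obtain ⟨s, -⟩ := hsec g hg
    exact ⟨s.base y⟩
  obtain ⟨z⟩ := id hne
  haveI : LocallyOfFiniteType P.hom := by
    have h1 : IsPullback act.act.left (snd G P).left P.hom P.hom := by
      simpa only [hπ, Over.forget_map, Over.forget_obj] using cart.map (Over.forget _)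
    haveI : LocallyOfFiniteType (snd G P).left := by
      change LocallyOfFiniteType (Limits.pullback.snd G.hom P.hom)
      infer_instance
    let j := P.left.fromSpecResidueField z
    have h2 := (IsPullback.of_hasPullback (snd G P).left j).paste_horiz h1
    have hQ : (@Surjective ⊓ @Flat ⊓ @QuasiCompact : MorphismProperty Scheme) (j ≫ P.hom) := by
      refine ⟨⟨⟨fun t => ⟨Nonempty.some inferInstance, Subsingleton.elim (α := PrimeSpectrum F) _ _⟩⟩, inferInstance⟩, inferInstance⟩
    exact MorphismProperty.of_isPullback_of_descendsAlong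
      (P := @LocallyOfFiniteType) (Q := @Surjective ⊓ @Flat ⊓ @QuasiCompact) h2.flip hQ inferInstance
  have hsh : IsIso (lift act.act (snd G P)) := by
    have hu : π = toUnit P := toUnit_unique π (toUnit P)
    subst hu
    have e : (cart.isoIsPullback _ _ (AlgSt.isPullback_fst_snd P P)).hom = lift act.act (snd G P) := by
      apply CartesianMonoidalCategory.hom_ext
      · rw [lift_fst]; exact IsPullback.isoIsPullback_hom_fst ..
      · rw [lift_snd]; exact IsPullback.isoIsPullback_hom_snd ..
    rw [← e]
    infer_instance
  obtain ⟨p⟩ := Groth.Agent.S3935.result F G P act hsh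
  exact ⟨p, Over.OverMorphism.ext (by
    change p.left ≫ π.left = 𝟙 _
    rw [hπ]
    exact Over.w p)⟩

/-- Let F be a finite field, X a smooth F-scheme of finite type, and G a smooth affine connected F-group
scheme acting on X. Form the quotient stack [X/G] as the category over F-schemes whose objects over
T are fppf G-torsors P → T (as schemes) with a G-equivariant map P → X, and take its fibre category
over Spec F itself. Then the isomorphism classes of this fibre are finite in number, each of its
objects has a finite automorphism group, and the mass Σ_{[ξ]} 1/#Aut(ξ) over the isomorphism classes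
equals #X(F) / #G(F), the number of F-points of X divided by the order of the finite group G(F).
(The published statement allows X to be a smooth Deligne–Mumford stack, with 1/#Aut(x) weights on
the right as well, and G any connected algebraic group; this row is the case of a scheme X and a
smooth affine G, where F-points of X have no automorphisms.) -/
theorem result
    {F : Type u} [Field F] [Finite F]
    (X G : Over (Spec (CommRingCat.of F))) [GrpObj G] (aX : AlgGrp.Action G X)
    [Smooth X.hom] [QuasiCompact X.hom] [Smooth G.hom] [IsAffineHom G.hom] [ConnectedSpace ↥G.left] :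
    Finite (Quotient (isIsomorphicSetoid ((AlgSt.QuotSt Scheme.fppfPrecoverage G aX).p.Fiber (Over.mk (𝟙 (Spec (CommRingCat.of F))))))) ∧
      (∀ ξ : ((AlgSt.QuotSt Scheme.fppfPrecoverage G aX).p.Fiber (Over.mk (𝟙 (Spec (CommRingCat.of F))))), Finite (Aut ξ)) ∧
      ∑ᶠ c : Quotient (isIsomorphicSetoid ((AlgSt.QuotSt Scheme.fppfPrecoverage G aX).p.Fiber (Over.mk (𝟙 (Spec (CommRingCat.of F)))))), ((Nat.card (Aut c.out) : ℚ))⁻¹ =
        (Nat.card (Over.mk (𝟙 (Spec (CommRingCat.of F))) ⟶ X) : ℚ) /
          (Nat.card (Over.mk (𝟙 (Spec (CommRingCat.of F))) ⟶ G) : ℚ) := by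
  haveI : IsAffine G.left := isAffine_of_isAffineHom G.hom
  haveI := GrothLib.QuotPts13.finite_ratPt G
  haveI := GrothLib.QuotPts13.finite_ratPt X
  exact GrothLib.QuotPts13.mass fun ξ => exists_point ξ

end Groth.Agent.S19566
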