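import Groth.Statements.S19570
import Groth.Agent.Lib.EtLiftNbhd5.SmoothLift
-- import your own Groth.Agent.* helpers here

set_option autoImplicit false
universe u
open scoped TensorProduct
open EGA4

namespace Groth.Agent.S19570

/-- Let V be a complete discrete valuation ring of characteristic zero, with maximal ideal 𝔪 and residue
field k, let A₀ be a smooth k-algebra and B₀ a finite étale A₀-algebra. Then A₀ lifts to a smooth
V-algebra A (an isomorphism k ⊗_V A ≅ A₀ of k-algebras), and the finite étale cover lifts over it:
there is a finite A-algebra B which is a normal ring, with an isomorphism k ⊗_V B ≅ B₀ compatible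
with the one for A and with the algebra maps, such that the localization A_T → B_T at T = 1 + 𝔪A is
étale. The published corollary also claims, for the lift it produces, a finite étale lift after
inverting a suitable element and further properties of formal completions of projective closures;
the statement here asserts only that B is finite over A and normal and that A_T → B_T is étale. -/
theorem result
    (V : Type u) [CommRing V] [IsDomain V] [IsDiscreteValuationRing V] [CharZero V]
    [IsAdicComplete (IsLocalRing.maximalIdeal V) V]
    (A₀ : Type u) [CommRing A₀] [Algebra (IsLocalRing.ResidueField V) A₀]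
    [Algebra.Smooth (IsLocalRing.ResidueField V) A₀]
    (B₀ : Type u) [CommRing B₀] [Algebra A₀ B₀] [Algebra (IsLocalRing.ResidueField V) B₀]
    [IsScalarTower (IsLocalRing.ResidueField V) A₀ B₀] [Module.Finite A₀ B₀] [Algebra.Etale A₀ B₀] :
    ∃ (A : Type u) (_ : CommRing A) (_ : Algebra V A) (_ : Algebra.Smooth V A)
      (e : (IsLocalRing.ResidueField V) ⊗[V] A ≃ₐ[IsLocalRing.ResidueField V] A₀)
      (B : Type u) (_ : CommRing B) (_ : Algebra A B) (_ : Algebra V B) (_ : IsScalarTower V A B)
      (e' : (IsLocalRing.ResidueField V) ⊗[V] B ≃ₐ[IsLocalRing.ResidueField V] B₀),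
      Module.Finite A B ∧ EGA4.IsNormalRing B ∧
      (∀ x : (IsLocalRing.ResidueField V) ⊗[V] A,
        e' (Algebra.TensorProduct.map (AlgHom.id (IsLocalRing.ResidueField V) (IsLocalRing.ResidueField V))
          (IsScalarTower.toAlgHom V A B) x) = algebraMap A₀ B₀ (e x)) ∧
      Algebra.Etale (Localization (MonoidHom.mker (Ideal.Quotient.mk ((IsLocalRing.maximalIdeal V).map (algebraMap V A)))))
        (Localization (Algebra.algebraMapSubmonoid B
          (MonoidHom.mker (Ideal.Quotient.mk ((IsLocalRing.maximalIdeal V).map (algebraMap V A)))))) := by
  exact GrothLib.EtLiftNbhd5.exists_smooth_normal_lift V A₀ B₀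

end Groth.Agent.S19570
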