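import Groth.Statements.S19573
import Groth.Agent.Lib.HypDual.Quot

set_option autoImplicit false
universe u
open LocInt

namespace Groth.Agent.S19573

/-- The first sentence of the lemma together with the description of the closed subscheme Z given in its
proof, in the local model. Let R be a commutative ring, n ≥ 1, a ∈ R^n, and F = R^n / R·a the
cokernel of R → R^n, 1 ↦ a (the zeroth homology of the two-term complex R → R^n). Then the
annihilator ideal of the top exterior power ⋀^n F is the ideal generated by the coordinates a_1, …,
a_n of a, and at every prime p of R off the closed set V(a_1, …, a_n) the module F is free of rank n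
− 1 after localization at p. (The published statement is for a complex on a scheme which is locally
quasi-isomorphic to such a two-term complex L → E with L invertible and E locally free of rank n,
and says that H^0 restricted to the complement of the closed subscheme cut out by the annihilator of
its n-th exterior power is locally free of rank n − 1; this row is the local model.) -/
theorem result (R : Type u) [CommRing R]
    (n : ℕ) (hn : 1 ≤ n) (a : Fin n → R) :
    (⋀[R]^n ((Fin n → R) ⧸ Submodule.span R {a})).annihilator = Ideal.span (Set.range a) ∧
    ∀ p : PrimeSpectrum R, ¬ Ideal.span (Set.range a) ≤ p.asIdeal →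
      p ∈ Module.freeLocus R ((Fin n → R) ⧸ Submodule.span R {a}) ∧
      Module.rankAtStalk ((Fin n → R) ⧸ Submodule.span R {a}) p = n - 1 := by
  refine ⟨le_antisymm (GrothLib.HypDual.annihilator_top_le a) (GrothLib.HypDual.span_le_annihilator_top a), fun p hp => ?_⟩
  obtain ⟨x, ⟨i, rfl⟩, hx⟩ := Set.not_subset.1 (fun h => hp (Ideal.span_le.2 h))
  exact GrothLib.HypDual.mem_freeLocus_and_rank a p hx

end Groth.Agent.S19573
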