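import Groth.Statements.S19574
import Mathlib

set_option autoImplicit false
universe u
open CategoryTheory MonoidalCategory
open Lie3Mod

namespace Groth.Agent.S19574

open TensorProduct in
theorem flat_of_exact_mod {R : Type u} [CommRing R] {C B P M : Type u} [AddCommGroup C] [Module R C]
    [AddCommGroup B] [Module R B] [AddCommGroup P] [Module R P] [AddCommGroup M] [Module R M]
    (h : C →ₗ[R] B) (g : B →ₗ[R] P) (f : P →ₗ[R] M) [Module.Flat R P]
    (hf : Function.Surjective f) (hgf : Function.Exact g f) (hhg : g ∘ₗ h = 0)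
    (hI : ∀ I : Ideal R, Function.Exact (h.lTensor (R ⧸ I)) (g.lTensor (R ⧸ I))) :
    Module.Flat R M := by
  rw [Module.Flat.iff_rTensor_injective']
  intro I
  rw [← LinearMap.ker_eq_bot, LinearMap.ker_eq_bot']
  intro x hx
  obtain ⟨y, rfl⟩ := LinearMap.lTensor_surjective I hf x
  have comm : ∀ {X Y : Type u} [AddCommGroup X] [Module R X] [AddCommGroup Y] [Module R Y]
      (k : X →ₗ[R] Y) (z : (I : Ideal R) ⊗[R] X),
      TensorProduct.lid R Y (I.subtype.rTensor Y (k.lTensor I z)) =
        k (TensorProduct.lid R X (I.subtype.rTensor X z)) := by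
    intro X Y _ _ _ _ k z
    induction z using TensorProduct.induction_on with
    | zero => simp
    | tmul a b => simp
    | add a b ha hb => simp only [map_add, ha, hb]
  have hy : f (TensorProduct.lid R P (I.subtype.rTensor P y)) = 0 := by
    rw [← comm, hx, map_zero]
  obtain ⟨b, hb⟩ := (hgf _).mp hy
  have memI : ∀ {X : Type u} [AddCommGroup X] [Module R X] (z : (I : Ideal R) ⊗[R] X),
      TensorProduct.lid R X (I.subtype.rTensor X z) ∈ (I • ⊤ : Submodule R X) := by
    intro X _ _ z
    induction z using TensorProduct.induction_on with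
    | zero => simp
    | tmul a b => simpa using Submodule.smul_mem_smul a.2 Submodule.mem_top
    | add a b ha hb => simpa only [map_add] using add_mem ha hb
  have hzero : ∀ {X : Type u} [AddCommGroup X] [Module R X] (x : X),
      (1 : R ⧸ I) ⊗ₜ[R] x = 0 ↔ x ∈ (I • ⊤ : Submodule R X) := by
    intro X _ _ x
    rw [← (TensorProduct.quotTensorEquivQuotSMul X I).map_eq_zero_iff,
      TensorProduct.quotTensorEquivQuotSMul_mk_one_tmul, Submodule.Quotient.mk_eq_zero]
  have h1 : g.lTensor (R ⧸ I) ((1 : R ⧸ I) ⊗ₜ[R] b) = 0 := by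
    rw [LinearMap.lTensor_tmul, hzero, hb]
    exact memI y
  obtain ⟨w, hw⟩ := (hI I _).mp h1
  obtain ⟨c, rfl⟩ : ∃ c : C, (1 : R ⧸ I) ⊗ₜ[R] c = w := by
    obtain ⟨c, hc⟩ := Submodule.Quotient.mk_surjective _ (TensorProduct.quotTensorEquivQuotSMul C I w)
    exact ⟨c, (TensorProduct.quotTensorEquivQuotSMul C I).injective
      (by rw [TensorProduct.quotTensorEquivQuotSMul_mk_one_tmul, hc])⟩
  have h2 : b - h c ∈ (I • ⊤ : Submodule R B) := by
    rw [← hzero, TensorProduct.tmul_sub, ← hw, LinearMap.lTensor_tmul, sub_self]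
  have surj : ∀ v ∈ (I • ⊤ : Submodule R B), ∃ z : (I : Ideal R) ⊗[R] B,
      TensorProduct.lid R B (I.subtype.rTensor B z) = v := by
    intro v hv
    induction hv using Submodule.smul_induction_on' with
    | smul a ha v _ => exact ⟨⟨a, ha⟩ ⊗ₜ v, by simp⟩
    | add v _ w _ hv hw =>
        obtain ⟨z, rfl⟩ := hv; obtain ⟨z', rfl⟩ := hw
        exact ⟨z + z', by simp⟩
  obtain ⟨z, hz⟩ := surj _ h2
  have h3 : TensorProduct.lid R P (I.subtype.rTensor P (g.lTensor I z)) =
      TensorProduct.lid R P (I.subtype.rTensor P y) := by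
    rw [comm, hz, map_sub, ← LinearMap.comp_apply, hhg, LinearMap.zero_apply, sub_zero, hb]
  have hinj : Function.Injective (I.subtype.rTensor P) :=
    Module.Flat.rTensor_preserves_injective_linearMap _ Subtype.val_injective
  rw [← hinj ((TensorProduct.lid R P).injective h3), ← LinearMap.comp_apply,
    ← LinearMap.lTensor_comp, hgf.linearMap_comp_eq_zero, LinearMap.lTensor_zero,
    LinearMap.zero_apply]

/-- Let R be a commutative ring and d ≥ 1. Let K be a chain complex of R-modules concentrated in degrees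
0, …, d + 1, written … → 0 → P_{d+1} → P_d → … → P_1 → M with M = K_0, which is exact (so 0 →
P_{d+1} → … → P_1 → M → 0 is an exact sequence), such that P_1, …, P_d are flat R-modules and such
that for every ideal I of R the complex obtained by applying (R/I) ⊗_R − termwise is again exact.
Then M is a flat R-module. (No flatness is assumed for P_{d+1}. The published lemma adds that for R
Noetherian it suffices to test prime ideals I; that refinement is not part of this statement.) -/
theorem result (R : Type u) [CommRing R]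
    (d : ℕ) (hd : 1 ≤ d) (K : ChainComplex (ModuleCat.{u} R) ℕ)
    (hzero : ∀ i : ℕ, d + 1 < i → Limits.IsZero (K.X i))
    (hflat : ∀ i : ℕ, 1 ≤ i → i ≤ d → Module.Flat R (K.X i))
    (hK : K.Acyclic)
    (hbc : ∀ I : Ideal R,
      (((tensorLeft (ModuleCat.of R (R ⧸ I))).mapHomologicalComplex (ComplexShape.down ℕ)).obj K).Acyclic) :
    Module.Flat R (K.X 0) := by
  have e1 : ((K.d 2 1).hom.range) = (K.d 1 0).hom.ker :=
    ((K.exactAt_iff' 2 1 0 (by simp) (by simp)).mp (hK 1)).moduleCat_range_eq_ker
  haveI := hflat 1 le_rfl hd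
  refine flat_of_exact_mod (K.d 3 2).hom (K.d 2 1).hom (K.d 1 0).hom ?_ ?_ ?_ ?_
  · rw [← ModuleCat.epi_iff_surjective]
    exact ((K.exactAt_iff' 1 0 0 (by simp) (by simp)).mp (hK 0)).epi_f (K.shape 0 0 (by simp))
  · exact LinearMap.exact_iff.mpr e1.symm
  · rw [← ModuleCat.hom_comp, K.d_comp_d]; rfl
  · intro I
    have := ((((tensorLeft (ModuleCat.of R (R ⧸ I))).mapHomologicalComplex
      (ComplexShape.down ℕ)).obj K).exactAt_iff' 3 2 1 (by simp) (by simp)).mp (hbc I 2)
    exact LinearMap.exact_iff.mpr this.moduleCat_range_eq_ker.symm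

end Groth.Agent.S19574
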