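import Groth.Statements.S19576
import Groth.Agent.Lib.EtaPt.Rel

set_option autoImplicit false
universe u
open EtaPt

namespace Groth.Agent.S19576

/-- Let η be the field-endofunctor datum of the pointwise construction, A a commutative ring with
finitely many minimal prime ideals and φ : A → B a ring map inducing a surjection on prime spectra.
If finitely many elements f_1, …, f_n of A generate the unit ideal and, for each i, the canonical
map A_{f_i} → (B_{f_i}/A_{f_i})_η attached to the localized map A_{f_i} → B_{φ(f_i)} is bijective,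
then the canonical map A → (B/A)_η is bijective. -/
theorem result (η : EtaPt.FieldEndo.{u}) {A B : Type u} [CommRing A] [CommRing B]
    (hA : (minimalPrimes A).Finite) (φ : A →+* B) (hs : Function.Surjective (PrimeSpectrum.comap φ))
    (s : Finset A) (hspan : Ideal.span (s : Set A) = ⊤)
    (h : ∀ f ∈ s, Function.Bijective (η.qRel (Localization.awayMap φ f))) :
    Function.Bijective (η.qRel φ) := by
  rw [GrothLib.EtaPt.qRel_bijective_iff]
  simp only [GrothLib.EtaPt.qRel_bijective_iff] at h
  have hsq : ∀ f, (Localization.awayMap φ f).comp (algebraMap A (Localization.Away f)) =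
      (algebraMap B (Localization.Away (φ f))).comp φ := fun f => IsLocalization.map_comp _
  refine ⟨fun x y e => ?_, fun b hb => ?_⟩
  · have hz : ∀ f : (s : Set A), ∃ n, (f : A) ^ n • (x - y) ∈ (⊥ : Submodule A A) := by
      rintro ⟨f, hf⟩
      have h0 : algebraMap A (Localization.Away f) (x - y) = 0 := (h f hf).1 (by
        rw [map_zero]
        refine (RingHom.congr_fun (hsq f) (x - y)).trans ?_
        rw [RingHom.comp_apply, map_sub φ, e, sub_self, map_zero])
      obtain ⟨⟨_, n, rfl⟩, hn⟩ := (IsLocalization.map_eq_zero_iff (Submonoid.powers f) _ _).mp h0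
      exact ⟨n, hn⟩
    exact sub_eq_zero.mp ((Submodule.mem_bot A).mp
      (Submodule.mem_of_span_eq_top_of_smul_pow_mem _ _ hspan _ hz))
  · letI := φ.toAlgebra
    refine Submodule.mem_of_span_eq_top_of_smul_pow_mem (LinearMap.range (Algebra.linearMap A B)) _ hspan b ?_
    rintro ⟨f, hf⟩
    obtain ⟨a', ha'⟩ := (h f hf).2 _ (GrothLib.EtaPt.mem_rel_of_square η (hsq f) hb)
    obtain ⟨⟨a, _, n, rfl⟩, ha⟩ := IsLocalization.surj (Submonoid.powers f) a'
    have h1 := congrArg (Localization.awayMap φ f) ha
    have hsf : ∀ z, Localization.awayMap φ f (algebraMap A _ z) =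
        algebraMap B (Localization.Away (φ f)) (φ z) := RingHom.congr_fun (hsq f)
    rw [map_mul, ha', hsf, hsf, ← map_mul] at h1
    obtain ⟨⟨_, m, rfl⟩, hm⟩ := (IsLocalization.eq_iff_exists (Submonoid.powers (φ f)) _).mp h1
    refine ⟨n + m, f ^ m * a, ?_⟩
    show φ (f ^ m * a) = φ (f ^ (n + m)) * b
    simp only [map_mul, map_pow] at hm ⊢
    linear_combination -hm

end Groth.Agent.S19576
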