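import Groth.Statements.S19577
import Groth.Agent.Lib.EtaPt.Spec

set_option autoImplicit false
universe u
open EtaPt

namespace Groth.Agent.S19577

/-- Let f : A → B be a homomorphism of commutative rings, each with only finitely many minimal primes.
Then M_η(f) : M_η(A) → M_η(B) is integral exactly when f is integral, and Spec M_η(f) is surjective
exactly when Spec f is. Here η is the field-endofunctor datum of the pointwise construction, M_η(A)
⊆ ∏_p F(k(p)) the subring attached to A with q_A : A → M_η(A), and M_η(f) : M_η(A) → M_η(B) the ring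
map induced by N_η(f), pinned here as the ring map g compatible with N_η(f) under the two subring
inclusions. -/
theorem result (η : EtaPt.FieldEndo.{u}) {A B : Type u} [CommRing A] [CommRing B]
    (hA : (minimalPrimes A).Finite) (hB : (minimalPrimes B).Finite) (f : A →+* B)
    (g : η.M A →+* η.M B) (hg : ∀ x : η.M A, ((g x : η.M B) : η.N B) = η.Nmap f (x : η.N A)) :
    (f.IsIntegral ↔ g.IsIntegral) ∧
      (Function.Surjective (PrimeSpectrum.comap f) ↔ Function.Surjective (PrimeSpectrum.comap g)) := by
  have hqB := GrothLib.EtaPt.isIntegral_q η hB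
  have hqA := GrothLib.EtaPt.isIntegral_q η hA
  have hgq : g.comp (η.q A) = (η.q B).comp f := RingHom.ext fun a =>
    Subtype.ext ((hg _).trans (η.Nmap_t_apply f a))
  refine ⟨⟨fun hf => RingHom.IsIntegral.tower_top (η.q A) g (hgq ▸ RingHom.IsIntegral.trans f (η.q B) hf hqB),
    fun hgi b => ?_⟩, ?_⟩
  · obtain ⟨P, hP, hP0⟩ := RingHom.IsIntegral.trans (η.q A) g hqA hgi (η.q B b)
    rw [hgq, ← Polynomial.hom_eval₂] at hP0
    obtain ⟨n, hn⟩ := GrothLib.EtaPt.isNilpotent_of_q_eq_zero η hP0
    exact ⟨P ^ n, hP.pow n, by rw [Polynomial.eval₂_pow, hn]⟩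
  · have hA' := GrothLib.EtaPt.comap_q_bijective η (A := A) hA
    have hB' := GrothLib.EtaPt.comap_q_bijective η (A := B) hB
    have h1 : PrimeSpectrum.comap (η.q A) ∘ PrimeSpectrum.comap g =
        PrimeSpectrum.comap f ∘ PrimeSpectrum.comap (η.q B) := by
      rw [← PrimeSpectrum.comap_comp, ← PrimeSpectrum.comap_comp, hgq]
    refine ⟨fun hf => ?_, fun hgs => ?_⟩
    · intro P
      obtain ⟨q, hq⟩ := hf (PrimeSpectrum.comap (η.q A) P)
      obtain ⟨R, rfl⟩ := hB'.2 q
      exact ⟨R, hA'.1 ((congrFun h1 R).trans hq)⟩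
    · exact Function.Surjective.of_comp (h1 ▸ hA'.2.comp hgs)

end Groth.Agent.S19577
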