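import Groth.Statements.S19578
import Groth.Agent.Lib.EtaPt.Spec

set_option autoImplicit false
universe u
open EtaPt

namespace Groth.Agent.S19578

/-- Let f : A → B be a homomorphism of commutative rings, each with only finitely many minimal primes,
and suppose the induced map M_η(f) : M_η(A) → M_η(B) is an isomorphism. Then Spec f is a bijection
between the prime ideals of B and of A, and for every prime q of B, with p = f⁻¹(q), there is a ring
map φ : k(q) → F(k(p)) whose composite with the residue field map k(p) → k(q) equals η_{k(p)}. Here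
η is the field-endofunctor datum of the pointwise construction, M_η(A) ⊆ ∏_p F(k(p)) the subring
attached to A with q_A : A → M_η(A), and M_η(f) : M_η(A) → M_η(B) the ring map induced by N_η(f),
pinned here as the ring map g compatible with N_η(f) under the two subring inclusions. -/
theorem result (η : EtaPt.FieldEndo.{u}) {A B : Type u} [CommRing A] [CommRing B]
    (hA : (minimalPrimes A).Finite) (hB : (minimalPrimes B).Finite) (f : A →+* B)
    (g : η.M A →+* η.M B) (hg : ∀ x : η.M A, ((g x : η.M B) : η.N B) = η.Nmap f (x : η.N A))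
    (hbij : Function.Bijective g) :
    Function.Bijective (PrimeSpectrum.comap f) ∧
      ∀ Q : PrimeSpectrum B,
        ∃ φ : Q.asIdeal.ResidueField →+* η.obj (PrimeSpectrum.comap f Q).asIdeal.ResidueField,
          φ.comp (Ideal.ResidueField.map (PrimeSpectrum.comap f Q).asIdeal Q.asIdeal f rfl) =
            η.eta (PrimeSpectrum.comap f Q).asIdeal.ResidueField := by
  have hgq : g.comp (η.q A) = (η.q B).comp f := RingHom.ext fun a =>
    Subtype.ext ((hg _).trans (η.Nmap_t_apply f a))
  have h1 : ∀ Q, PrimeSpectrum.comap (η.q A) (PrimeSpectrum.comap g Q) =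
      PrimeSpectrum.comap f (PrimeSpectrum.comap (η.q B) Q) := fun Q => by
    rw [← PrimeSpectrum.comap_comp_apply, ← PrimeSpectrum.comap_comp_apply, hgq]
  have hA' := GrothLib.EtaPt.comap_q_bijective η (A := A) hA
  have hB' := GrothLib.EtaPt.comap_q_bijective η (A := B) hB
  have hgb : Function.Bijective (PrimeSpectrum.comap g) :=
    (PrimeSpectrum.comapEquiv (RingEquiv.ofBijective g hbij)).symm.bijective
  refine ⟨⟨fun Q Q' h => ?_, fun p => ?_⟩, fun Q => ?_⟩
  · obtain ⟨R, rfl⟩ := hB'.2 Q
    obtain ⟨R', rfl⟩ := hB'.2 Q'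
    rw [← h1, ← h1] at h
    rw [hgb.1 (hA'.1 h)]
  · obtain ⟨P, rfl⟩ := hA'.2 p
    obtain ⟨R, rfl⟩ := hgb.2 P
    exact ⟨_, (h1 R).symm⟩
  obtain ⟨R, rfl⟩ := hB'.2 Q
  obtain ⟨φ, hφ⟩ := GrothLib.EtaPt.q_residue_factor η hB R
  set p := PrimeSpectrum.comap f (PrimeSpectrum.comap (η.q B) R)
  let e := RingEquiv.ofBijective g hbij
  let ψ : B →+* η.obj p.asIdeal.ResidueField :=
    (GrothLib.EtaPt.evM η p).comp (e.symm.toRingHom.comp (η.q B))
  have hψf : ψ.comp f = GrothLib.EtaPt.ptHom η p := RingHom.ext fun a => by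
    show GrothLib.EtaPt.evM η p (e.symm (η.q B (f a))) = _
    rw [show η.q B (f a) = e (η.q A a) from (RingHom.congr_fun hgq a).symm, e.symm_apply_apply]
    rfl
  have hker : ∀ b, ψ b = 0 ↔ b ∈ (PrimeSpectrum.comap (η.q B) R).asIdeal := fun b => by
    have hP := GrothLib.EtaPt.eq_primeM η hA (PrimeSpectrum.comap g R)
    rw [h1] at hP
    have := SetLike.ext_iff.mp (congrArg PrimeSpectrum.asIdeal hP) (e.symm (η.q B b))
    refine Iff.trans this.symm ?_
    show g (e.symm (η.q B b)) ∈ R.asIdeal ↔ η.q B b ∈ R.asIdeal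
    rw [show g (e.symm (η.q B b)) = η.q B b from e.apply_symm_apply _]
  refine ⟨Ideal.ResidueField.lift _ ψ (fun b hb => (hker b).mpr hb)
    (fun b hb => isUnit_iff_ne_zero.mpr fun h => hb ((hker b).mp h)), ?_⟩
  refine Ideal.ResidueField.ringHom_ext (RingHom.ext fun a => ?_)
  simp only [RingHom.comp_apply, Ideal.ResidueField.map_algebraMap, Ideal.ResidueField.lift_algebraMap]
  exact RingHom.congr_fun hψf a

end Groth.Agent.S19578
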