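import Groth.Statements.S19579
-- import your own Groth.Agent.* helpers here
import Groth.Agent.Lib.Poincare.DualRel

set_option autoImplicit false
universe u
open CategoryTheory CategoryTheory.Limits MonoidalCategory CartesianMonoidalCategory MonObj AlgebraicGeometry
open AbVar

namespace Groth.Agent.S19579

/-- The implication from triviality of the Mumford bundle on one fibre to its triviality relative to the
base, with the identification of the descended bundle. Let X be an abelian variety over a field k
(proper, geometrically integral k-group scheme with multiplication m and unit e), T a connected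
locally Noetherian k-scheme and L an invertible module on X ×_k T. On X ×_k X ×_k T let m_T, p_13,
p_23 be the maps to X ×_k T induced by m and by the two projections X × X → X, π the projection to
T, and e_T : T → X ×_k T the unit section. If there is a point t of T over whose fibre X × X × Spec
k(t) the modules m_T^*L and p_13^*L ⊗ p_23^*L become isomorphic (equivalently the Mumford bundle
Λ(L) = m_T^*L ⊗ p_13^*L⁻¹ ⊗ p_23^*L⁻¹ is trivial on one fibre), then m_T^*L ⊗ π^*(e_T^*L) and
p_13^*L ⊗ p_23^*L are isomorphic on all of X × X × T, i.e. Λ(L) ≅ π^*N with N = e_T^*L⁻¹ (existence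
of an isomorphism). -/
theorem result (k : Type u) [Field k]
    (X T : Over (Spec (CommRingCat.of k)))
    [GrpObj X] [IsProper X.hom] [GeometricallyIntegral X.hom]
    [IsLocallyNoetherian T.left] [ConnectedSpace ↥T.left]
    (L : (X ⊗ T).left.Modules) (hL : PicF.IsInvertible L)
    (t : ↥T.left)
    (ht : Nonempty
      ((Scheme.Modules.pullback (pullback.fst (snd (X ⊗ X) T).left
          (T.left.fromSpecResidueField t))).obj
          ((Scheme.Modules.pullback (μ[X] ▷ T).left).obj L) ≅
       (Scheme.Modules.pullback (pullback.fst (snd (X ⊗ X) T).left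
          (T.left.fromSpecResidueField t))).obj
          (CohB1.tensorMod ((Scheme.Modules.pullback (fst X X ▷ T).left).obj L)
            ((Scheme.Modules.pullback (snd X X ▷ T).left).obj L)))) :
    Nonempty
      (CohB1.tensorMod ((Scheme.Modules.pullback (μ[X] ▷ T).left).obj L)
          ((Scheme.Modules.pullback (snd (X ⊗ X) T).left).obj
            ((Scheme.Modules.pullback (CartesianMonoidalCategory.lift (toUnit T ≫ η[X]) (𝟙 T)).left).obj L)) ≅
        CohB1.tensorMod ((Scheme.Modules.pullback (fst X X ▷ T).left).obj L)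
          ((Scheme.Modules.pullback (snd X X ▷ T).left).obj L)) := by
  have hx := GrothLib.Cube.hasCls_clsMod hL
  set x : GrothLib.Cube.Pic (X ⊗ T).left := GrothLib.Cube.clsMod hL
  set r : GrothLib.Cube.Pic T.left := GrothLib.Cube.pull (lift (1 : T ⟶ X) (𝟙 T)).left x with hrdef
  let x' := x * GrothLib.Cube.pull (snd X T).left r⁻¹
  have hrig : GrothLib.Cube.pull (lift (1 : T ⟶ X) (𝟙 T)).left x' = 1 := by
    rw [map_mul, GrothLib.CubeRel26.pull_pull_over, lift_snd, Over.id_left, GrothLib.Cube.pull_id, ← hrdef,
      mul_inv_cancel]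
  have hd : GrothLib.Dual.defect x' = GrothLib.Dual.defect x * GrothLib.Cube.pull (snd (X ⊗ X) T).left r := by
    simp only [GrothLib.Dual.defect, x', map_mul, GrothLib.CubeRel26.pull_pull_over, whiskerRight_snd, map_inv]
    generalize GrothLib.Cube.pull (snd (X ⊗ X) T).left r = q
    simp only [mul_inv, inv_inv]
    calc _ = GrothLib.Cube.pull (μ[X] ▷ T).left x * ((GrothLib.Cube.pull (fst X X ▷ T).left x)⁻¹ *
          (GrothLib.Cube.pull (snd X X ▷ T).left x)⁻¹) * q * (q⁻¹ * q) := by ac_rfl
      _ = _ := by rw [inv_mul_cancel, _root_.mul_one]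
  have hmu := hx.pullback (μ[X] ▷ T).left
  have hf := hx.pullback (fst X X ▷ T).left
  have hs := hx.pullback (snd X X ▷ T).left
  obtain ⟨W, hWc, hWz, hW'⟩ := GrothLib.Dual.exists_clopen_defect x' hrig
  have htW : t ∈ W := by
    refine hWz t ?_
    have e : GrothLib.Cube.pull (pullback.fst (snd (X ⊗ X) T).left (T.left.fromSpecResidueField t))
        (GrothLib.Cube.pull (μ[X] ▷ T).left x) =
      GrothLib.Cube.pull (pullback.fst (snd (X ⊗ X) T).left (T.left.fromSpecResidueField t))
        (GrothLib.Cube.pull (fst X X ▷ T).left x * GrothLib.Cube.pull (snd X X ▷ T).left x) :=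
      (hmu.pullback _).eq ((hf.tensor hs).pullback _) ht
    have e0 : GrothLib.Cube.pull (pullback.fst (snd (X ⊗ X) T).left (T.left.fromSpecResidueField t))
        (GrothLib.Cube.pull (snd (X ⊗ X) T).left r) = 1 := by
      refine (GrothLib.Cube.pull_comp _ _ _).trans ?_
      rw [pullback.condition, ← GrothLib.Cube.pull_comp,
        GrothLib.Cube.pic_spec_field_eq_one (F := T.left.residueField t) (GrothLib.Cube.pull (T.left.fromSpecResidueField t) r),
        map_one]
    rw [hd]
    show GrothLib.Cube.pull (pullback.fst (snd (X ⊗ X) T).left (T.left.fromSpecResidueField t)) _ = 1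
    rw [map_mul, e0, _root_.mul_one, GrothLib.Dual.defect, map_mul, map_inv, e, mul_inv_cancel]
  have hW : W = ⊤ := TopologicalSpace.Opens.ext (IsClopen.eq_univ ⟨hWc, W.isOpen⟩ ⟨t, htW⟩)
  subst hW
  have h := congrArg (GrothLib.Cube.pull
    (Scheme.topIso (pullback (pullback.fst X.hom X.hom ≫ X.hom) T.hom)).inv) hW'
  replace h := h.trans (map_one _)
  have h2 : GrothLib.Dual.defect x' = 1 := ((GrothLib.Cube.pull_id _).symm.trans
    (congrArg (fun f => GrothLib.Cube.pull f _)
      (Scheme.topIso (pullback (pullback.fst X.hom X.hom ≫ X.hom) T.hom)).inv_hom_id.symm)).trans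
    ((GrothLib.Cube.pull_comp _ _ _).symm.trans h)
  refine (hmu.tensor ((hx.pullback _).pullback (snd (X ⊗ X) T).left)).iso (hf.tensor hs) ?_
  have hr' : GrothLib.Cube.pull (lift (toUnit T ≫ η[X]) (𝟙 T)).left x = r := by
    rw [hrdef, Hom.one_def]
  rw [hr']
  rw [hd, GrothLib.Dual.defect, mul_right_comm, mul_inv_eq_one] at h2
  exact h2

end Groth.Agent.S19579
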