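import Groth.Statements.S19582
-- import your own Groth.Agent.* helpers here
import Groth.Agent.Lib.Equi17.Closure

set_option autoImplicit false
universe u
open Cyc

namespace Groth.Agent.S19582

open CategoryTheory CategoryTheory.Limits AlgebraicGeometry in
/-- Let S be a separated Noetherian scheme, p : X → S separated of finite type, z a point of X lying
over a generic point of an irreducible component of S whose closure in its fibre p⁻¹(p z) has
dimension r, and ι : Z → X a closed immersion from a reduced scheme with image the closure of z. Let
R be a discrete valuation ring with fraction field K and x : Spec R → S a morphism sending the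
generic point of Spec R to a generic point of an irreducible component of S, and let q : φ → Spec R
be the flat closure φ = φ_x(Z) of Z along x, i.e. the scheme-theoretic image of Z ×_S Spec K in Z
×_S Spec R, with its projection to Spec R. Then q is universally equidimensional of dimension r: for
every scheme S' and every S' → Spec R, the base change φ ×_R S' → S' has local fibre dimension r at
every point (the dimension at w of the fibre through w is r) and every irreducible component of φ
×_R S' dominates an irreducible component of S'. -/
theorem result {X S Z : Scheme.{u}} [IsNoetherian S] [S.IsSeparated] [X.IsSeparated]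
    (p : X ⟶ S) [LocallyOfFiniteType p] [QuasiCompact p] (z : X) (hz : closure {p.base z} ∈ irreducibleComponents ↥S)
    (r : ℕ) (hr : topologicalKrullDim ↥(closure ({p.asFiber z} : Set ↥(p.fiber (p.base z)))) = r)
    (ι : Z ⟶ X) [IsClosedImmersion ι] [IsReduced Z] (hZ : Set.range ι.base = closure {z})
    (R : Type u) [CommRing R] [IsDomain R] [IsDiscreteValuationRing R] (x : Spec (CommRingCat.of R) ⟶ S)
    (hx : closure {x.base ⟨⊥, Ideal.isPrime_bot⟩} ∈ irreducibleComponents ↥S)
    (q : (pullback.map (ι ≫ p) (Spec.map (CommRingCat.ofHom (algebraMap R (FractionRing R))) ≫ x) (ι ≫ p) x (𝟙 Z) (Spec.map (CommRingCat.ofHom (algebraMap R (FractionRing R)))) (𝟙 S) ((Category.comp_id _).trans (Category.id_comp _).symm) (Category.comp_id _)).ker.subscheme ⟶ Spec (CommRingCat.of R))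
    (hq : q = (pullback.map (ι ≫ p) (Spec.map (CommRingCat.ofHom (algebraMap R (FractionRing R))) ≫ x) (ι ≫ p) x (𝟙 Z) (Spec.map (CommRingCat.ofHom (algebraMap R (FractionRing R)))) (𝟙 S) ((Category.comp_id _).trans (Category.id_comp _).symm) (Category.comp_id _)).ker.subschemeι ≫ pullback.snd (ι ≫ p) x)
    (S' : Scheme.{u}) (g : S' ⟶ Spec (CommRingCat.of R)) :
    (∀ w : ↥(pullback q g), FlatMor.fibreDimAt (pullback.snd q g) w = r) ∧
      ∀ C ∈ irreducibleComponents ↥(pullback q g),
        closure ((pullback.snd q g).base '' C) ∈ irreducibleComponents ↥S' := by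
  subst hq
  have hx' : closure {x.base (genericPoint ↥(Spec (CommRingCat.of R)))} ∈ irreducibleComponents ↥S := by
    rw [genericPoint_eq_bot_of_affine]
    exact hx
  obtain ⟨h1, h2, h3⟩ := GrothLib.Equi17.closure_flat_hasRelDim p z r hr ι hZ x hx'
    (pullback.map (ι ≫ p) (Spec.map (CommRingCat.ofHom (algebraMap R (FractionRing R))) ≫ x) (ι ≫ p) x (𝟙 Z)
      (Spec.map (CommRingCat.ofHom (algebraMap R (FractionRing R)))) (𝟙 S)
      ((Category.comp_id _).trans (Category.id_comp _).symm) (Category.comp_id _))
    ((pullback.lift_fst _ _ _).trans (Category.comp_id _)) (pullback.lift_snd _ _ _)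
  haveI := h1
  haveI := h2
  exact GrothLib.Equi17.univ_equidim _ h3 S' g

end Groth.Agent.S19582
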