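import Groth.Statements.S19583
-- import your own Groth.Agent.* helpers here
import Groth.Agent.Lib.Equi17.BaseChange

set_option autoImplicit false
universe u
open Cyc

namespace Groth.Agent.S19583

open CategoryTheory CategoryTheory.Limits AlgebraicGeometry in
/-- Let S be a separated Noetherian scheme, p : X → S a morphism from a separated scheme X (no
finiteness condition), ι : Z → X a closed immersion, and b : S' → S a blowing up of S in a
quasi-coherent ideal with support S₀ such that (1) b restricts to a bijection between the generic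
points of the irreducible components of S' and of S and (2) the strict transform Z~ of Z — the
closed subscheme of Z ×_S S' whose ideal consists, on each affine open, of the functions annihilated
by a power of the pulled-back centre — is flat over S'. Let R be a discrete valuation ring with
fraction field K and f : Spec R → S a morphism sending the generic point of Spec R into S ∖ S₀. Then
f factors uniquely through b, and for the factorisation f' : Spec R → S' the flat closure φ_f(Z) ⊆ Z
×_S Spec R (the scheme-theoretic image of Z ×_S Spec K) coincides with Spec R ×_{S'} Z~: its ideal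
sheaf equals the inverse image of the ideal of Z~ under the map Z ×_S Spec R → Z ×_S S' induced by
f'. -/
theorem result {X S Z S' : Scheme.{u}} [IsNoetherian S] [S.IsSeparated] [X.IsSeparated]
    (p : X ⟶ S) (ι : Z ⟶ X) [IsClosedImmersion ι]
    (𝓘 : S.IdealSheafData) (b : S' ⟶ S) (hb : BlowUp.IsBlowUp b 𝓘)
    (hgen : Set.BijOn b.base {s' : ↥S' | closure {s'} ∈ irreducibleComponents ↥S'} {s : ↥S | closure {s} ∈ irreducibleComponents ↥S})
    (𝒥 : (pullback (ι ≫ p) b).IdealSheafData)
    (h𝒥 : ∀ (V : (pullback (ι ≫ p) b).affineOpens) (a : Γ(pullback (ι ≫ p) b, V.1)), a ∈ 𝒥.ideal V ↔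
      BlowUp.KilledByPowerNear ((𝓘.comap (ι ≫ p)).comap (pullback.fst (ι ≫ p) b)) (Coh.structureModule (pullback (ι ≫ p) b)) V a)
    [Flat (𝒥.subschemeι ≫ pullback.snd (ι ≫ p) b)]
    (R : Type u) [CommRing R] [IsDomain R] [IsDiscreteValuationRing R] (f : Spec (CommRingCat.of R) ⟶ S)
    (hf : f.base ⟨⊥, Ideal.isPrime_bot⟩ ∉ (𝓘.support : Set ↥S)) :
    (∃! f' : Spec (CommRingCat.of R) ⟶ S', f' ≫ b = f) ∧
      ∀ (f' : Spec (CommRingCat.of R) ⟶ S') (hf' : f' ≫ b = f),
        (pullback.map (ι ≫ p) (Spec.map (CommRingCat.ofHom (algebraMap R (FractionRing R))) ≫ f) (ι ≫ p) f (𝟙 Z) (Spec.map (CommRingCat.ofHom (algebraMap R (FractionRing R)))) (𝟙 S) ((Category.comp_id _).trans (Category.id_comp _).symm) (Category.comp_id _)).ker = 𝒥.comap (pullback.map (ι ≫ p) f (ι ≫ p) b (𝟙 Z) f' (𝟙 S) ((Category.comp_id _).trans (Category.id_comp _).symm) ((Category.comp_id f).trans hf'.symm)) := by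
  have hf0 : f.base (genericPoint ↥(Spec (CommRingCat.of R))) ∉ (𝓘.support : Set ↥S) := by
    rw [genericPoint_eq_bot_of_affine]
    exact hf
  refine ⟨hb.2 _ f (GrothLib.Equi17.isEffCartier_trait _ fun h => hf0 ?_), fun f' hf' => ?_⟩
  · rw [Scheme.IdealSheafData.support_comap] at h
    exact h
  · exact GrothLib.Equi17.closure_eq_comap p ι 𝓘 b 𝒥 h𝒥 f hf0 f'
      (pullback.map (ι ≫ p) (Spec.map (CommRingCat.ofHom (algebraMap R (FractionRing R))) ≫ f) (ι ≫ p) f (𝟙 Z)
        (Spec.map (CommRingCat.ofHom (algebraMap R (FractionRing R)))) (𝟙 S)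
        ((Category.comp_id _).trans (Category.id_comp _).symm) (Category.comp_id _))
      ((pullback.lift_fst _ _ _).trans (Category.comp_id _)) (pullback.lift_snd _ _ _)
      (pullback.map (ι ≫ p) f (ι ≫ p) b (𝟙 Z) f' (𝟙 S) ((Category.comp_id _).trans (Category.id_comp _).symm)
        ((Category.comp_id f).trans hf'.symm))
      ((pullback.lift_fst _ _ _).trans (Category.comp_id _)) (pullback.lift_snd _ _ _) hf' 

end Groth.Agent.S19583
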