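import Groth.Statements.S1959
import Mathlib.RingTheory.IntegralClosure.Algebra.Ideal
-- import your own Groth.Agent.* helpers here

set_option autoImplicit false
universe u
open Polynomial
open EtAlg

namespace Groth.Agent.S1959

/-- Let I be an ideal of a ring A, A -> B an integral ring map and b an element of B whose image in B/IB
is idempotent. Then there are d ≥ 1 and a monic polynomial f over A with f(b) = 0 whose reduction
modulo I is x^d (x - 1)^d. -/
theorem result (A B : Type u) [CommRing A] [CommRing B] [Algebra A B]
    [Algebra.IsIntegral A B] (I : Ideal A) (b : B)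
    (hb : IsIdempotentElem (Ideal.Quotient.mk (I.map (algebraMap A B)) b)) :
    ∃ (f : A[X]) (d : ℕ), f.Monic ∧ 1 ≤ d ∧ aeval b f = 0 ∧
      f.map (Ideal.Quotient.mk I) = X ^ d * (X - 1) ^ d := by
  rw [IsIdempotentElem, ← map_mul, Ideal.Quotient.eq] at hb
  obtain ⟨p, hp, hev, hcoef⟩ := exists_monic_aeval_eq_zero_forall_mem_of_mem_map hb
  rcases subsingleton_or_nontrivial A with hA | hA
  · exact ⟨Polynomial.X * (Polynomial.X - 1), 1, Polynomial.monic_X.mul (Polynomial.monic_X_sub_C 1),
      le_rfl, by
        have : Subsingleton B := RingHom.codomain_trivial (algebraMap A B)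
        exact Subsingleton.elim _ _, by simp⟩
  set q : Polynomial A := Polynomial.X * (Polynomial.X - 1) with hq
  have hqm : q.Monic := Polynomial.monic_X.mul (Polynomial.monic_X_sub_C 1)
  have hqd : q.natDegree ≠ 0 := by
    rw [hq, Polynomial.Monic.natDegree_mul Polynomial.monic_X
      (show (Polynomial.X - 1 : Polynomial A).Monic from Polynomial.monic_X_sub_C 1),
      Polynomial.natDegree_X]
    simp
  have hmap : p.map (Ideal.Quotient.mk I) = Polynomial.X ^ p.natDegree := by
    ext i
    rw [Polynomial.coeff_map, Polynomial.coeff_X_pow]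
    split_ifs with hi
    · rw [hi, hp.coeff_natDegree, map_one]
    · exact Ideal.Quotient.eq_zero_iff_mem.mpr (hcoef i hi)
  have hev' : Polynomial.aeval b (p.comp q) = 0 := by
    rw [Polynomial.aeval_comp, show Polynomial.aeval b q = b * b - b by simp [hq]; ring]
    exact hev
  refine ⟨p.comp q * q, p.natDegree + 1, (hp.comp hqm hqd).mul hqm, Nat.le_add_left 1 _, by
    rw [map_mul, hev', zero_mul], ?_⟩
  rw [Polynomial.map_mul, Polynomial.map_comp, hmap, Polynomial.X_pow_comp, ← pow_succ, hq,
    Polynomial.map_mul, Polynomial.map_sub, Polynomial.map_X, Polynomial.map_one, mul_pow]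
end Groth.Agent.S1959
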