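import Groth.Statements.S19590
import Mathlib.GroupTheory.OrderOfElement
import Mathlib.Algebra.Ring.Int.Units
import Mathlib.Data.Matrix.Mul
import Mathlib.Tactic.NoncommRing
import Mathlib.RingTheory.Int.Basic
import Mathlib.Data.ZMod.Basic
import Mathlib.Algebra.CharP.Basic
import Mathlib.GroupTheory.Index

set_option autoImplicit false
open BddFin

namespace Groth.Agent.S19590

theorem exists_one_add_pow {S : Type*} [Ring S] (a : S) (m : ℕ) :
    ∃ r, (1 + a) ^ m = 1 + (m : ℤ) • a + a * a * r := by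
  induction m with
  | zero => exact ⟨0, by simp⟩
  | succ m ih =>
    obtain ⟨r, hr⟩ := ih
    refine ⟨r + r * a + (m : ℤ) • 1, ?_⟩
    rw [pow_succ, hr]
    simp only [Nat.cast_succ, add_smul, one_smul, mul_add, add_mul, mul_one, one_mul, mul_smul_comm,
      smul_mul_assoc, mul_assoc]
    abel

theorem entries_dvd {n : ℕ} {g : Matrix (Fin n) (Fin n) ℤ} {q : ℕ} (hq : q.Prime) (hg : g ^ q = 1)
    (h1 : ∀ i j, (3 : ℤ) ∣ (g - 1) i j) : ∀ k, 1 ≤ k → ∀ i j, (3 : ℤ) ^ k ∣ (g - 1) i j := by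
  intro k hk
  induction k, hk using Nat.le_induction with
  | base => simpa using h1
  | succ k hk ih =>
    choose X hX using ih
    have hgX : g = 1 + (3 : ℤ) ^ k • (Matrix.of X) := by
      ext i j
      simp only [Matrix.add_apply, Matrix.smul_apply, Matrix.of_apply, smul_eq_mul]
      rw [← hX i j, Matrix.sub_apply]; ring
    have key : ∃ Y, Matrix.of X = (3 : ℤ) • Y ∨ ((q : ℤ) • Matrix.of X = (3 : ℤ) • Y ∧ q ≠ 3) := by
      obtain ⟨t, rfl⟩ := Nat.exists_eq_succ_of_ne_zero (show k ≠ 0 by omega)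
      have h3 : ((3 : ℤ) ^ (t + 1)) ≠ 0 := by positivity
      by_cases hq3 : q = 3
      · subst hq3
        refine ⟨-((3 : ℤ) ^ t • (Matrix.of X * Matrix.of X) + ((3 : ℤ) ^ (2 * t)) • (Matrix.of X * Matrix.of X * Matrix.of X)), Or.inl ?_⟩
        rw [hgX] at hg
        have hexp : (1 + (3 : ℤ) ^ (t + 1) • Matrix.of X) ^ 3 = 1 + ((3 : ℤ) ^ (t + 2)) • (Matrix.of X +
            (3 : ℤ) • ((3 : ℤ) ^ t • (Matrix.of X * Matrix.of X) +
              ((3 : ℤ) ^ (2 * t)) • (Matrix.of X * Matrix.of X * Matrix.of X))) := by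
          simp only [pow_succ, pow_zero, one_mul, mul_add, add_mul, mul_one, smul_mul_assoc, mul_smul_comm,
            smul_add, smul_smul, mul_assoc]
          module
        rw [hexp] at hg
        have h0 := (smul_eq_zero.1 (add_eq_left.1 hg)).resolve_left (by positivity)
        exact (eq_neg_of_add_eq_zero_left h0).trans (smul_neg _ _).symm
      · obtain ⟨r, hr⟩ := exists_one_add_pow ((3 : ℤ) ^ (t + 1) • Matrix.of X) q
        refine ⟨-((3 : ℤ) ^ t • (Matrix.of X * Matrix.of X * r)), Or.inr ⟨?_, hq3⟩⟩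
        rw [hgX, hr, add_assoc] at hg
        have h0 : (3 : ℤ) ^ (t + 1) • ((q : ℤ) • Matrix.of X + (3 : ℤ) • ((3 : ℤ) ^ t • (Matrix.of X * Matrix.of X * r))) = 0 := by
          refine Eq.trans ?_ (add_eq_left.1 hg)
          simp only [smul_add, smul_smul, smul_mul_assoc, mul_smul_comm]
          congr 1
          · rw [mul_comm]
          · congr 1; ring
        exact (eq_neg_of_add_eq_zero_left ((smul_eq_zero.1 h0).resolve_left h3)).trans (smul_neg _ _).symm
    obtain ⟨Y, hY⟩ := key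
    intro i j
    rw [hX i j, pow_succ]
    refine mul_dvd_mul_left _ ?_
    rcases hY with hY | ⟨hY, hq3⟩
    · exact ⟨Y i j, by simpa using congrFun (congrFun hY i) j⟩
    · have h : (3 : ℤ) ∣ (q : ℤ) * X i j := ⟨Y i j, by simpa using congrFun (congrFun hY i) j⟩
      exact (Int.prime_three.dvd_or_dvd h).resolve_left fun h3 =>
        hq3 ((Nat.prime_dvd_prime_iff_eq Nat.prime_three hq).1 (Int.natCast_dvd_natCast.1 h3)).symm

theorem eq_one_of_prime_order {n : ℕ} {g : Matrix (Fin n) (Fin n) ℤ} {q : ℕ} (hq : q.Prime) (hg : g ^ q = 1)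
    (h1 : ∀ i j, (3 : ℤ) ∣ (g - 1) i j) : g = 1 := by
  rw [← sub_eq_zero]
  ext i j
  by_contra h
  obtain ⟨k, hk⟩ : ∃ k, 1 ≤ k ∧ ((g - 1) i j).natAbs < 3 ^ k :=
    ⟨((g - 1) i j).natAbs + 1, by omega, (Nat.lt_pow_self (by norm_num)).trans (Nat.pow_lt_pow_succ (by norm_num))⟩
  have := Int.natAbs_dvd_natAbs.2 (entries_dvd hq hg h1 k hk.1 i j)
  rw [Int.natAbs_pow] at this
  exact h (Int.natAbs_eq_zero.1 (Nat.eq_zero_of_dvd_of_lt this hk.2))

/-- For every n, the orders of the finite subgroups of GL_n(ℤ) are bounded: there is B such that every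
finite subgroup of GL_n(ℤ) has at most B elements. -/
theorem result (n : ℕ) :
    ∃ B : ℕ, ∀ H : Subgroup (Matrix.GeneralLinearGroup (Fin n) ℤ), Finite H → Nat.card H ≤ B := by
  refine ⟨Nat.card (Matrix.GeneralLinearGroup (Fin n) (ZMod 3)), fun H hH => ?_⟩
  let ρ : H →* Matrix.GeneralLinearGroup (Fin n) (ZMod 3) :=
    (Matrix.GeneralLinearGroup.map (Int.castRingHom (ZMod 3))).comp H.subtype
  have hinj : Function.Injective ρ := by
    rw [injective_iff_map_eq_one]
    intro g hg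
    by_contra hne
    obtain ⟨q, hq, hdvd⟩ := Nat.exists_prime_and_dvd (mt orderOf_eq_one_iff.1 hne)
    obtain ⟨m, hm⟩ := hdvd
    have hpow : orderOf (g ^ m) = q := by
      rw [orderOf_pow_of_dvd (by rintro rfl; simp [(orderOf_pos g).ne'] at hm) ⟨q, by rw [hm, mul_comm]⟩, hm,
        Nat.mul_div_cancel _ (Nat.pos_of_ne_zero (by rintro rfl; simp [(orderOf_pos g).ne'] at hm))]
    have hρ : ρ (g ^ m) = 1 := by rw [map_pow, hg, one_pow]
    set M : Matrix (Fin n) (Fin n) ℤ := (((g ^ m : H) : Matrix.GeneralLinearGroup (Fin n) ℤ) : Matrix (Fin n) (Fin n) ℤ) with hM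
    have h1 : M = 1 := eq_one_of_prime_order hq (by
        have := pow_orderOf_eq_one (g ^ m)
        rw [hpow] at this
        have h4 : ((((g ^ m) ^ q : H) : Matrix.GeneralLinearGroup (Fin n) ℤ) : Matrix (Fin n) (Fin n) ℤ) = 1 := by
          rw [this]; rfl
        rw [SubmonoidClass.coe_pow (x := g ^ m), Units.val_pow_eq_pow_val] at h4
        exact h4) (fun i j => by
        have h2 : (ρ (g ^ m) : Matrix (Fin n) (Fin n) (ZMod 3)) i j = (1 : Matrix (Fin n) (Fin n) (ZMod 3)) i j := by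
          rw [hρ]; rfl
        show (3 : ℤ) ∣ M i j - (1 : Matrix (Fin n) (Fin n) ℤ) i j
        refine (ZMod.intCast_zmod_eq_zero_iff_dvd _ 3).1 ?_
        rw [Int.cast_sub, sub_eq_zero]
        refine Eq.trans h2 ?_
        by_cases hij : i = j <;> simp [Matrix.one_apply, hij])
    have h3 : g ^ m = 1 := Subtype.ext (Units.ext h1)
    rw [h3, orderOf_one] at hpow
    exact hq.ne_one hpow.symm
  exact Nat.card_le_card_of_injective ρ hinj

end Groth.Agent.S19590
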