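import Groth.Statements.S19591
import Mathlib.FieldTheory.Perfect

set_option autoImplicit false
universe u v
open BddFin

namespace Groth.Agent.S19591

/-- Let K be a perfect field of characteristic 2, V a finite-dimensional K-vector space with dim V > 2
and q a quadratic form on V whose polar bilinear form is non-degenerate. Then q represents zero
non-trivially. (Non-degeneracy of the polar form, which is alternating in characteristic 2, forces
dim V to be even, as the published lemma notes.) -/
theorem result
    (K : Type u) [Field K] [CharP K 2] [PerfectField K]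
    (V : Type v) [AddCommGroup V] [Module K V] [FiniteDimensional K V]
    (hV : 2 < Module.finrank K V) (q : QuadraticForm K V)
    (hq : (QuadraticMap.polarBilin q).Nondegenerate) :
    ∃ v : V, v ≠ 0 ∧ q v = 0 := by
  by_contra hcon
  push Not at hcon
  obtain ⟨v, hv⟩ : ∃ v : V, v ≠ 0 := by
    have : Nontrivial V := Module.nontrivial_of_finrank_pos (R := K) (by omega)
    exact exists_ne 0
  let φ : V →ₗ[K] K := QuadraticMap.polarBilin q v
  have hW : 2 ≤ Module.finrank K (LinearMap.ker φ) := by
    have h1 := φ.finrank_range_add_finrank_ker
    have h2 : Module.finrank K (LinearMap.range φ) ≤ 1 := (Submodule.finrank_le _).trans (by simp)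
    omega
  obtain ⟨w, hw, hwv⟩ : ∃ w ∈ LinearMap.ker φ, w ∉ K ∙ v := by
    by_contra h
    push Not at h
    have h1 := Submodule.finrank_mono (show LinearMap.ker φ ≤ K ∙ v from h)
    rw [finrank_span_singleton hv] at h1
    omega
  obtain ⟨a, ha⟩ := surjective_frobenius K 2 (q w / q v)
  rw [frobenius_def] at ha
  have hpol : QuadraticMap.polar q v w = 0 := hw
  refine hcon (a • v + w) (fun h0 => hwv ?_) ?_
  · exact Submodule.mem_span_singleton.2 ⟨-a, by rw [neg_smul, neg_eq_iff_add_eq_zero]; exact h0⟩
  · rw [QuadraticMap.map_add q, QuadraticMap.polar_smul_left, hpol, smul_zero, add_zero, QuadraticMap.map_smul,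
      smul_eq_mul, ← pow_two, ha, div_mul_cancel₀ _ (hcon v hv)]
    exact CharTwo.add_self_eq_zero _

end Groth.Agent.S19591
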