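import Groth.Statements.S19593
-- import your own Groth.Agent.* helpers here
import Groth.Agent.Lib.VA.VeryAmple
import Groth.Agent.Lib.RegSecStrat20.Good
import Mathlib.GroupTheory.CosetCover

set_option autoImplicit false
universe u
open CategoryTheory AlgebraicGeometry
open PicF

set_option backward.isDefEq.respectTransparency false
set_option linter.style.haveILetI false

noncomputable section

open GrothLib

namespace GrothAux.S19593

open VA RegSecStrat20 InvExt

theorem exists_good_all {k : Type u} [Field k] [Infinite k] {Y : Scheme.{u}} (f : Y ⟶ Spec (CommRingCat.of k))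
    {A : Y.Modules} (hA : RelProj.IsRelVeryAmple f A) {ι : Type} [Finite ι] (y : ι → ↥Y) :
    ∃ s : Γ(A, ⊤), ∀ i, Good A (y i) s := by
  obtain ⟨E, φ, -, hφ⟩ := VA.isGenBy_of_isRelVeryAmple hA
  have hgen : ∀ x : Y, ∃ t : Γ(A, ⊤), GenAt A t x := by
    intro x
    obtain ⟨U, -, e, he⟩ := hφ x
    have hU : U = ⊤ := by
      obtain ⟨W, hW, hxW, -⟩ := he
      exact TopologicalSpace.Opens.ext (Set.eq_univ_of_forall fun z => (Subsingleton.elim (f x) z) ▸ hW hxW)
    subst hU
    exact ⟨φ.app ⊤ e, he⟩
  have hAi : PicF.IsInvertible A := InvExt.isInvertible_of_gens fun x => by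
    obtain ⟨t, W, hW, hxW, hg⟩ := hgen x
    exact ⟨W, _, hxW, hg⟩
  let ρ : k →+* Γ(Y, ⊤) := ((Scheme.ΓSpecIso (CommRingCat.of k)).inv ≫ f.appTop).hom
  letI : Module k Γ(A, ⊤) := Module.compHom _ ρ
  let p : ι → Submodule k Γ(A, ⊤) := fun i =>
    { carrier := badSub hAi (y i)
      add_mem' := fun {_ _} hs ht => (badSub hAi (y i)).add_mem hs ht
      zero_mem' := (badSub hAi (y i)).zero_mem
      smul_mem' := fun c _ hs => (badSub hAi (y i)).smul_mem (ρ c) hs }
  by_contra hbad
  push Not at hbad
  obtain ⟨i, hi⟩ := Subspace.exists_eq_top_of_iUnion_eq_univ (p := p)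
    (Set.eq_univ_of_forall fun s => Set.mem_iUnion.2 (hbad s))
  obtain ⟨t, W, hW, hxW, hg⟩ := hgen (y i)
  have ht : t ∈ p i := hi ▸ Submodule.mem_top
  refine ht ?_
  rw [good_iff hg hxW (c := 1) (by rw [one_smul]), map_one]
  exact isUnit_one

end GrothAux.S19593

namespace Groth.Agent.S19593

/-- Let k be an infinite field, Y a scheme proper over k with a relatively very ample O_Y-module A (the
pullback of O(1) along an immersion of Y into the Proj of a symmetric algebra over k), and y_1, …,
y_m finitely many points of Y. Then some global section of A generates A at every y_i. (The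
published statement takes Y projective over k and A a very ample line bundle; here Y is proper over
k and A very ample relative to Y → Spec k, which makes Y projective.) -/
theorem result
    (k : Type u) [Field k] [Infinite k] (Y : Scheme.{u}) (f : Y ⟶ Spec (CommRingCat.of k)) [IsProper f]
    (A : Y.Modules) (hA : RelProj.IsRelVeryAmple f A)
    (ι : Type) [Finite ι] (y : ι → ↥Y) :
    ∃ s : Coh.structureModule Y ⟶ A, ∀ i : ι, y i ∈ CohB1.genLocus A s := by
  obtain ⟨s, hs⟩ := GrothAux.S19593.exists_good_all f hA y
  exact ⟨FinCov.homOfSection s, hs⟩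

end Groth.Agent.S19593
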