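import Groth.Statements.S19596
import Groth.Agent.Lib.ArLef.NodeThm

set_option autoImplicit false
universe u
open ArLef ArLef.NodeAlg

namespace Groth.Agent.S19596

/-- In the cases where σ fixes the two branches through the point, these lie on different components,
and the second branch lies in the divisorial part of the fixed locus with multiplicity i₂ strictly
between 0 and j while the first has multiplicity i₁ ≤ i₂, let B be a discrete valuation ring with
uniformizer π, N = B[[t, e]]/(te - π) the complete local ring of a semi-stable arithmetic surface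
over B at a singular point x of the closed fibre, and σ a ring automorphism of N with σ(π) = π + γ
π^j (γ a unit of B, j ≥ 1) and σ(c) - c ∈ π^j N for all c ∈ B. Suppose σ(t) = α t and σ(e) = β e
with units α, β, and α - 1 = t^{i₁} e^{i₂} a, β - 1 = t^{i₁} e^{i₂} b with i₁ ≤ i₂, 0 < i₂ < j, e
not dividing a and t not dividing b. Then, I being the fixed-point ideal of σ, whose divisorial part
near x is t^{i₁} e^{i₂}, the residual fixed-point scheme with ideal (I : t^{i₁} e^{i₂}) has length 1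
+ (j - i₁)·Leng N/(t, b) + (j - i₂)·Leng N/(e, a) at x; here Leng N/(t, b) + i₂ + 1 and Leng N/(e,
a) + i₁ + 1 are the orders at x of the derivations σ induces on the two components (the fixed-point
multiplicities when the component is outside the divisorial part). -/
theorem result (B : Type u) [CommRing B] [IsDomain B] [IsDiscreteValuationRing B] (π : B) (hπ : Irreducible π)
    (j i₁ i₂ : ℕ) (h12 : i₁ ≤ i₂) (h2 : 0 < i₂) (h2j : i₂ < j) (γ : B) (hγ : IsUnit γ)
    (σ : ArLef.NodeAlg B π ≃+* ArLef.NodeAlg B π)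
    (hσB : ∀ c : B, σ (algebraMap B (ArLef.NodeAlg B π) c) - algebraMap B (ArLef.NodeAlg B π) c ∈
      Ideal.span ({algebraMap B (ArLef.NodeAlg B π) (π ^ j)} : Set (ArLef.NodeAlg B π)))
    (hσπ : σ (algebraMap B (ArLef.NodeAlg B π) π) = algebraMap B (ArLef.NodeAlg B π) (π + γ * π ^ j))
    (α β : (ArLef.NodeAlg B π)ˣ) (ht : σ (ArLef.NodeAlg.t π) = (α : ArLef.NodeAlg B π) * ArLef.NodeAlg.t π) (he : σ (ArLef.NodeAlg.e π) = (β : ArLef.NodeAlg B π) * ArLef.NodeAlg.e π)
    (a b : ArLef.NodeAlg B π) (ha : (α : ArLef.NodeAlg B π) - 1 = ArLef.NodeAlg.t π ^ i₁ * ArLef.NodeAlg.e π ^ i₂ * a) (hb : (β : ArLef.NodeAlg B π) - 1 = ArLef.NodeAlg.t π ^ i₁ * ArLef.NodeAlg.e π ^ i₂ * b)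
    (hea : ¬ (ArLef.NodeAlg.e π ∣ a)) (htb : ¬ (ArLef.NodeAlg.t π ∣ b)) :
    Module.length (ArLef.NodeAlg B π) (ArLef.NodeAlg B π ⧸ (ArLef.fixIdeal σ).colon ({ArLef.NodeAlg.t π ^ i₁ * ArLef.NodeAlg.e π ^ i₂} : Set (ArLef.NodeAlg B π))) =
      1 + ((j - i₁ : ℕ) : ℕ∞) * Module.length (ArLef.NodeAlg B π) (ArLef.NodeAlg B π ⧸ Ideal.span ({ArLef.NodeAlg.t π, b} : Set (ArLef.NodeAlg B π))) +
        ((j - i₂ : ℕ) : ℕ∞) * Module.length (ArLef.NodeAlg B π) (ArLef.NodeAlg B π ⧸ Ideal.span ({ArLef.NodeAlg.e π, a} : Set (ArLef.NodeAlg B π))) := by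
  obtain ⟨p, hp⟩ : ∃ p, j = i₁ + (p + 1) := ⟨j - i₁ - 1, by omega⟩
  obtain ⟨q, hq⟩ : ∃ q, j = i₂ + (q + 1) := ⟨j - i₂ - 1, by omega⟩
  obtain ⟨hfix, hL⟩ := GrothLib.NodeAlg.length_stab_dvd hπ i₁ i₂ p q hp hq
    hγ σ hσB hσπ α β ht he a b ha hb hea htb
  rw [hfix, GrothLib.NodeAlg.colon_span_pair
    (((GrothLib.NodeAlg.t_regular hπ.ne_zero).pow i₁).mul ((GrothLib.NodeAlg.e_regular hπ.ne_zero).pow i₂)),
    show j - i₁ = p + 1 by omega, show j - i₂ = q + 1 by omega]
  exact hL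

end Groth.Agent.S19596
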