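import Groth.Statements.S19597
import Groth.Agent.Lib.ArLef.NodeThm

set_option autoImplicit false
universe u
open ArLef ArLef.NodeAlg

namespace Groth.Agent.S19597

/-- In the cases where σ fixes the two branches through the point, these lie on different components,
the second lies in the divisorial part of the fixed locus with the maximal multiplicity j and the
first with multiplicity i₁ < j, let B be a discrete valuation ring with uniformizer π, N = B[[t,
e]]/(te - π) the complete local ring of a semi-stable arithmetic surface over B at a singular point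
x of the closed fibre, and σ a ring automorphism of N with σ(π) = π + γ π^j (γ a unit of B, j ≥ 1)
and σ(c) - c ∈ π^j N for all c ∈ B. Suppose σ(t) = α t and σ(e) = β e with units α, β, that α - 1 =
t^{i₁} e^j a and β - 1 = t^{i₁} e^{j-1} b with i₁ < j and t not dividing b. Then, I being the
fixed-point ideal of σ, whose divisorial part near x is t^{i₁} e^j, the length l of the residual
fixed-point scheme with ideal (I : t^{i₁} e^j) satisfies l + (j - 1 - i₁) = (j - i₁)·Leng N/(t, b);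
for i₁ = 0, Leng N/(t, b) + j is the fixed-point multiplicity s₁ of σ at x on the first component
and l = j (s₁ - j - 1) + 1. -/
theorem result (B : Type u) [CommRing B] [IsDomain B] [IsDiscreteValuationRing B] (π : B) (hπ : Irreducible π)
    (j i₁ : ℕ) (h1 : i₁ < j) (γ : B) (hγ : IsUnit γ)
    (σ : ArLef.NodeAlg B π ≃+* ArLef.NodeAlg B π)
    (hσB : ∀ c : B, σ (algebraMap B (ArLef.NodeAlg B π) c) - algebraMap B (ArLef.NodeAlg B π) c ∈
      Ideal.span ({algebraMap B (ArLef.NodeAlg B π) (π ^ j)} : Set (ArLef.NodeAlg B π)))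
    (hσπ : σ (algebraMap B (ArLef.NodeAlg B π) π) = algebraMap B (ArLef.NodeAlg B π) (π + γ * π ^ j))
    (α β : (ArLef.NodeAlg B π)ˣ) (ht : σ (ArLef.NodeAlg.t π) = (α : ArLef.NodeAlg B π) * ArLef.NodeAlg.t π) (he : σ (ArLef.NodeAlg.e π) = (β : ArLef.NodeAlg B π) * ArLef.NodeAlg.e π)
    (a b : ArLef.NodeAlg B π) (ha : (α : ArLef.NodeAlg B π) - 1 = ArLef.NodeAlg.t π ^ i₁ * ArLef.NodeAlg.e π ^ j * a) (hb : (β : ArLef.NodeAlg B π) - 1 = ArLef.NodeAlg.t π ^ i₁ * ArLef.NodeAlg.e π ^ (j - 1) * b)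
    (htb : ¬ (ArLef.NodeAlg.t π ∣ b)) :
    Module.length (ArLef.NodeAlg B π) (ArLef.NodeAlg B π ⧸ (ArLef.fixIdeal σ).colon ({ArLef.NodeAlg.t π ^ i₁ * ArLef.NodeAlg.e π ^ j} : Set (ArLef.NodeAlg B π))) + ((j - 1 - i₁ : ℕ) : ℕ∞) =
      ((j - i₁ : ℕ) : ℕ∞) * Module.length (ArLef.NodeAlg B π) (ArLef.NodeAlg B π ⧸ Ideal.span ({ArLef.NodeAlg.t π, b} : Set (ArLef.NodeAlg B π))) := by
  obtain ⟨p, hp⟩ : ∃ p, j = i₁ + (p + 1) := ⟨j - i₁ - 1, by omega⟩
  obtain ⟨hfix, hL⟩ := GrothLib.NodeAlg.length_stab_pow hπ i₁ p hp hγ σ hσB hσπ α β ht he a b ha hb htb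
  rw [hfix, GrothLib.NodeAlg.colon_span_pair
    (((GrothLib.NodeAlg.t_regular hπ.ne_zero).pow i₁).mul ((GrothLib.NodeAlg.e_regular hπ.ne_zero).pow j)),
    show j - i₁ = p + 1 by omega, show j - 1 - i₁ = p by omega]
  exact hL

end Groth.Agent.S19597
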