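import Groth.Statements.S19599
import Groth.Agent.Lib.EssFree.Transporter
import Groth.Agent.Lib.EssFree.Over

set_option autoImplicit false
open CategoryTheory MonoidalCategory CartesianMonoidalCategory MonObj GrpObj AlgebraicGeometry
universe u
open SGA3x

namespace Groth.Agent.S19599

/-- Let G be an affine group scheme of finite presentation over a scheme S and H ⊆ G a closed subgroup
scheme of finite presentation over S which is of multiplicative type (of finite type). Then the
centralizer of H in G (points of G commuting with every point of H after any base change) is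
representable by a closed subscheme of G. Here G is not assumed smooth, and smoothness of the
centralizer is not asserted. -/
theorem result {S : Scheme.{u}} (G H : Over S) [GrpObj G] [GrpObj H]
    (hGa : IsAffineHom G.hom) (hGfp : LocallyOfFinitePresentation G.hom)
    (i : H ⟶ G) [IsMonHom i] (hi : IsClosedImmersion i.left) (hHfp : LocallyOfFinitePresentation H.hom)
    (hH : SGA3x.IsMultTypeFT H) :
    ∃ (C : Over S) (c : C ⟶ G), IsClosedImmersion c.left ∧
      ∀ (X : Over S) (g : X ⟶ G), (∃ z : X ⟶ C, z ≫ c = g) ↔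
        ∀ (X' : Over S) (x : X' ⟶ X) (a : X' ⟶ H), (x ≫ g) * (a ≫ i) = (a ≫ i) * (x ≫ g) := by
  haveI := hGa
  haveI : IsSeparated G.hom := inferInstance
  let a : G ⊗ H ⟶ G := fst G H * (snd G H ≫ i)
  let b : G ⊗ H ⟶ G := (snd G H ≫ i) * fst G H
  let Δ : G ⟶ G ⊗ G := lift (𝟙 G) (𝟙 G)
  haveI : IsClosedImmersion Δ.left := by
    rw [Over.lift_left]
    exact inferInstanceAs (IsClosedImmersion (Limits.pullback.diagonal G.hom))
  have sq := (IsPullback.of_hasPullback (lift a b) Δ).map (Over.forget S)
  haveI : IsClosedImmersion (Limits.pullback.fst (lift a b) Δ).left :=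
    MorphismProperty.of_isPullback sq.flip ‹IsClosedImmersion Δ.left›
  obtain ⟨Z, z, hz, -, hZ⟩ := GrothLib.EssFree.exists_closed_forall_points_essFree
    (Limits.pullback.fst (lift a b) Δ) (GrothLib.EssFree.of_multTypeFT H hH)
  refine ⟨Z, z, hz, fun X g => (hZ X g).trans (forall₃_congr fun X' x h => ?_)⟩
  have hab : ∀ v : X' ⟶ G ⊗ H, v ≫ a = (v ≫ fst G H) * ((v ≫ snd G H) ≫ i) ∧
      v ≫ b = ((v ≫ snd G H) ≫ i) * (v ≫ fst G H) := fun v => by
    simp [a, b, MonObj.comp_mul]
  obtain ⟨h1, h2⟩ := hab (lift (x ≫ g) h)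
  rw [lift_fst, lift_snd] at h1 h2
  constructor
  · rintro ⟨l, hl⟩
    rw [← h1, ← h2, ← hl, Category.assoc, Category.assoc]
    have hc := Limits.pullback.condition (f := lift a b) (g := Δ)
    have hca := congrArg (l ≫ · ≫ fst G G) hc
    have hcb := congrArg (l ≫ · ≫ snd G G) hc
    simp only [Category.assoc, lift_fst, lift_snd, Δ, Category.comp_id] at hca hcb
    rw [hca, hcb]
  · intro he
    refine ⟨Limits.pullback.lift (lift (x ≫ g) h) (lift (x ≫ g) h ≫ a) ?_, Limits.pullback.lift_fst _ _ _⟩
    ext <;> simp only [Category.assoc, lift_fst, lift_snd, Δ, Category.comp_id]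
    rw [h1, h2, he]

end Groth.Agent.S19599
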