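import Groth.Statements.S19606
import Groth.Agent.Lib.Euler.Divisor
import Groth.Agent.Lib.QCoh.Pieces
import Groth.Agent.Lib.OX.Exact
-- import your own Groth.Agent.* helpers here

set_option autoImplicit false
universe u
open CategoryTheory CategoryTheory.Limits AlgebraicGeometry
open ClSub

namespace Groth.Agent.S19606

/-- Let X be a scheme and I₁, I₂ quasi-coherent ideal sheaves with I₁ ⊓ I₂ = 0, cutting out closed
subschemes X₁, X₂ and X₁ ∩ X₂ (ideal I₁ + I₂). Then 0 → O_X → O_X/I₁ ⊕ O_X/I₂ → O_X/(I₁ + I₂) → 0 is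
an exact sequence of O_X-modules, the maps being the two restrictions and the difference of the
restrictions q₁, q₂ (the module maps compatible with the quotient maps from O_X). The published
statement is for a locally free sheaf E on a reduced scheme with two irreducible components X₁, X₂
(whose ideals meet in zero); this row is the case E = O_X for any two ideals with zero intersection,
which is what the local argument uses. -/
theorem result (X : Scheme.{u}) (I₁ I₂ : X.IdealSheafData)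
    (h : I₁ ⊓ I₂ = ⊥)
    (q₁ : ClSub.quotMod I₁ ⟶ ClSub.quotMod (I₁ ⊔ I₂)) (q₂ : ClSub.quotMod I₂ ⟶ ClSub.quotMod (I₁ ⊔ I₂))
    (hq₁ : ClSub.toSubscheme I₁ ≫ q₁ = ClSub.toSubscheme (I₁ ⊔ I₂))
    (hq₂ : ClSub.toSubscheme I₂ ≫ q₂ = ClSub.toSubscheme (I₁ ⊔ I₂)) :
    Epi (biprod.desc q₁ (-q₂)) ∧
      ∃ w : biprod.lift (ClSub.toSubscheme I₁) (ClSub.toSubscheme I₂) ≫ biprod.desc q₁ (-q₂) = 0,
        Nonempty (IsLimit (KernelFork.ofι (biprod.lift (ClSub.toSubscheme I₁) (ClSub.toSubscheme I₂)) w)) := by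
  let t₁ := ClSub.toSubscheme I₁
  let t₂ := ClSub.toSubscheme I₂
  have hepi : ∀ J : X.IdealSheafData, Epi (ClSub.toSubscheme J) := fun J ↦
    GrothLib.Euler.epi_toSubscheme J
  have : Epi q₁ := @epi_of_epi _ _ _ _ _ t₁ q₁ (by show Epi (ClSub.toSubscheme I₁ ≫ q₁); rw [hq₁]; exact hepi _)
  have hd : Epi (biprod.desc q₁ (-q₂)) :=
    @epi_of_epi _ _ _ _ _ biprod.inl (biprod.desc q₁ (-q₂))
      (by rw [biprod.inl_desc]; infer_instance)
  have w : biprod.lift t₁ t₂ ≫ biprod.desc q₁ (-q₂) = 0 := by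
    rw [biprod.lift_desc, Preadditive.comp_neg]
    show ClSub.toSubscheme I₁ ≫ q₁ + -(ClSub.toSubscheme I₂ ≫ q₂) = 0
    rw [hq₁, hq₂, add_neg_cancel]
  refine ⟨hd, w, ?_⟩
  have key : ∀ (J : X.IdealSheafData) (W : X.affineOpens) (r : Γ(X, W.1)),
      (ClSub.toSubscheme J).app W.1 r = 0 ↔ r ∈ J.ideal W := fun J W r ↦ by
    have h1 : J.ideal W = RingHom.ker (J.subschemeι.app W.1).hom :=
      (congrArg (fun L : X.IdealSheafData ↦ L.ideal W) J.ker_subschemeι).symm.trans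
        (Scheme.Hom.ker_apply _ _)
    rw [h1, RingHom.mem_ker]
    rfl
  have hext : ∀ (V : X.Opens) (a b : Γ(ClSub.quotMod I₁ ⊞ ClSub.quotMod I₂, V)),
      Scheme.Modules.Hom.app (biprod.fst : ClSub.quotMod I₁ ⊞ ClSub.quotMod I₂ ⟶ _) V a = Scheme.Modules.Hom.app biprod.fst V b →
      Scheme.Modules.Hom.app (biprod.snd : ClSub.quotMod I₁ ⊞ ClSub.quotMod I₂ ⟶ _) V a = Scheme.Modules.Hom.app biprod.snd V b → a = b := fun V a b h1 h2 ↦ by
    have h : ∀ z, Scheme.Modules.Hom.app biprod.inl V ((biprod.fst : ClSub.quotMod I₁ ⊞ ClSub.quotMod I₂ ⟶ _).app V z) +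
        Scheme.Modules.Hom.app biprod.inr V ((biprod.snd : ClSub.quotMod I₁ ⊞ ClSub.quotMod I₂ ⟶ _).app V z) = z := fun z ↦ by
      have h := congrArg (fun p : ClSub.quotMod I₁ ⊞ ClSub.quotMod I₂ ⟶ _ ↦ p.app V z)
        (biprod.total (X := ClSub.quotMod I₁) (Y := ClSub.quotMod I₂))
      simp only [Scheme.Modules.Hom.add_app, Scheme.Modules.Hom.comp_app,
        Scheme.Modules.Hom.id_app] at h
      exact h
    rw [← h a, ← h b, h1, h2]
  let u := kernel.lift (biprod.desc q₁ (-q₂)) (biprod.lift t₁ t₂) w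
  have hu : ∀ (V : X.Opens) (r : Γ(X, V)),
      (biprod.fst : ClSub.quotMod I₁ ⊞ ClSub.quotMod I₂ ⟶ _).app V (Scheme.Modules.Hom.app (kernel.ι (biprod.desc q₁ (-q₂))) V (u.app V r)) =
        t₁.app V r ∧
      (biprod.snd : ClSub.quotMod I₁ ⊞ ClSub.quotMod I₂ ⟶ _).app V (Scheme.Modules.Hom.app (kernel.ι (biprod.desc q₁ (-q₂))) V (u.app V r)) =
        t₂.app V r := fun V r ↦ by
    constructor
    · have h1 : (u ≫ kernel.ι _) ≫ biprod.fst = t₁ := by rw [kernel.lift_ι, biprod.lift_fst]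
      exact congrArg (fun p : _ ⟶ ClSub.quotMod I₁ ↦ p.app V r) h1
    · have h1 : (u ≫ kernel.ι _) ≫ biprod.snd = t₂ := by rw [kernel.lift_ι, biprod.lift_snd]
      exact congrArg (fun p : _ ⟶ ClSub.quotMod I₂ ↦ p.app V r) h1
  have hmono : Mono u := GrothLib.QCoh.mono_of_app_injective _ fun V ↦
    (injective_iff_map_eq_zero _).2 fun s hs ↦ by
      refine TopCat.Presheaf.section_ext ⟨(Coh.structureModule X).presheaf, (Coh.structureModule X).isSheaf⟩
        V s 0 fun y hy ↦ ?_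
      obtain ⟨W, hW, hyW, hWV⟩ := TopologicalSpace.Opens.isBasis_iff_nbhd.1 X.isBasis_affineOpens hy
      let s' : Γ(X, W) := X.presheaf.map (homOfLE hWV).op s
      have hs' : u.app W s' = 0 :=
        (GrothLib.QCoh.map_app u (homOfLE hWV) s).symm.trans ((congrArg _ hs).trans (map_zero _))
      obtain ⟨e1, e2⟩ := hu W s'
      have hmem : s' ∈ (I₁ ⊓ I₂).ideal ⟨W, hW⟩ :=
        ⟨(key I₁ ⟨W, hW⟩ s').1 (e1.symm.trans (by rw [hs', map_zero, map_zero])),
          (key I₂ ⟨W, hW⟩ s').1 (e2.symm.trans (by rw [hs', map_zero, map_zero]))⟩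
      rw [h] at hmem
      have h0 : s' = 0 := by simpa using hmem
      change (Coh.structureModule X).presheaf.germ V y hy s =
        (Coh.structureModule X).presheaf.germ V y hy 0
      rw [← GrothLib.QCoh.germ_map (Coh.structureModule X) (homOfLE hWV) hyW s,
        show (Coh.structureModule X).presheaf.map (homOfLE hWV).op s = 0 from h0, map_zero, map_zero]
  have hepiu : Epi u := (GrothLib.OX.epi_iff _).2 fun x ↦ (ModuleCat.epi_iff_surjective _).2 fun e ↦ by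
    obtain ⟨V, hx, m, rfl⟩ := TopCat.Presheaf.exists_germ_eq
      (kernel (biprod.desc q₁ (-q₂))).presheaf
      (show (kernel (biprod.desc q₁ (-q₂))).presheaf.stalk x from e)
    obtain ⟨W, hW, hxW, hWV⟩ := TopologicalSpace.Opens.isBasis_iff_nbhd.1 X.isBasis_affineOpens hx
    let m' := (kernel (biprod.desc q₁ (-q₂))).presheaf.map (homOfLE hWV).op m
    let z := (kernel.ι (biprod.desc q₁ (-q₂))).app W m'
    obtain ⟨r₁, hr₁⟩ := I₁.subschemeι.app_surjective W hW
      ((biprod.fst : ClSub.quotMod I₁ ⊞ ClSub.quotMod I₂ ⟶ _).app W z)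
    obtain ⟨r₂, hr₂⟩ := I₂.subschemeι.app_surjective W hW
      ((biprod.snd : ClSub.quotMod I₁ ⊞ ClSub.quotMod I₂ ⟶ _).app W z)
    have hK : (ClSub.toSubscheme (I₁ ⊔ I₂)).app W r₁ = (ClSub.toSubscheme (I₁ ⊔ I₂)).app W r₂ := by
      have h1 : (biprod.fst ≫ q₁ - biprod.snd ≫ q₂).app W z = 0 := by
        rw [show biprod.fst ≫ q₁ - biprod.snd ≫ q₂ = biprod.desc q₁ (-q₂) by
          apply biprod.hom_ext' <;> simp]
        exact congrArg (fun p : kernel (biprod.desc q₁ (-q₂)) ⟶ ClSub.quotMod (I₁ ⊔ I₂) ↦ p.app W m')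
          (kernel.condition (biprod.desc q₁ (-q₂)))
      rw [Scheme.Modules.Hom.sub_app] at h1
      have h2 : q₁.app W (Scheme.Modules.Hom.app biprod.fst W z) = q₂.app W (Scheme.Modules.Hom.app biprod.snd W z) := sub_eq_zero.1 h1
      rw [← show (ClSub.toSubscheme I₁ ≫ q₁) = ClSub.toSubscheme (I₁ ⊔ I₂) from hq₁]
      conv_rhs => rw [hq₁, ← hq₂]
      refine Eq.trans (congrArg (q₁.app W) ?_) (h2.trans (congrArg (q₂.app W) ?_))
      · exact hr₁
      · exact hr₂.symm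
    have hmem : r₁ - r₂ ∈ I₁.ideal ⟨W, hW⟩ ⊔ I₂.ideal ⟨W, hW⟩ := by
      have h3 := (key (I₁ ⊔ I₂) ⟨W, hW⟩ (r₁ - r₂)).1 ((map_sub _ r₁ r₂).trans (sub_eq_zero.2 hK))
      rwa [Scheme.IdealSheafData.ideal_sup] at h3
    obtain ⟨i₁, hi₁, i₂, hi₂, hi⟩ := Submodule.mem_sup.1 hmem
    refine ⟨(Coh.structureModule X).presheaf.germ W x hxW (r₁ - i₁), ?_⟩
    refine (GrothLib.QCoh.stalkLin_germ u hxW _).trans ?_
    refine (congrArg _ (?_ : u.app W (r₁ - i₁) = m')).trans (TopCat.Presheaf.germ_res_apply _ _ _ _ _)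
    refine GrothLib.Cohom.app_injective_of_mono (kernel.ι _) W (hext W _ _ ?_ ?_)
    · refine (hu W _).1.trans (Eq.trans ?_ hr₁)
      have h4 : (I₁.subschemeι.app W).hom i₁ = 0 := (key I₁ ⟨W, hW⟩ i₁).2 hi₁
      show (I₁.subschemeι.app W).hom (r₁ - i₁) = (I₁.subschemeι.app W).hom r₁
      rw [map_sub, h4, sub_zero]
    · refine (hu W _).2.trans (Eq.trans ?_ hr₂)
      have h4 : (I₂.subschemeι.app W).hom i₂ = 0 := (key I₂ ⟨W, hW⟩ i₂).2 hi₂
      show (I₂.subschemeι.app W).hom (r₁ - i₁) = (I₂.subschemeι.app W).hom r₂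
      rw [show r₁ - i₁ = r₂ + i₂ by linear_combination -hi, map_add, h4, add_zero]
  have : IsIso u := isIso_of_mono_of_epi u
  exact ⟨IsLimit.ofIsoLimit (kernelIsKernel _)
    (Fork.ext (asIso u).symm (by
      show inv u ≫ biprod.lift t₁ t₂ = kernel.ι _
      rw [IsIso.inv_comp_eq]
      exact (kernel.lift_ι _ _ _).symm))⟩

end Groth.Agent.S19606
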