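import Groth.Statements.S19609
import Groth.Agent.Lib.AdicLim.Basic
import Mathlib.Tactic.LinearCombination
-- import your own Groth.Agent.* helpers here

set_option autoImplicit false
universe u
open CartMod

namespace Groth.Agent.S19609

/-- Let p be a prime and u : A → B a ring homomorphism between commutative rings which are complete and
separated for the p-adic topology and have no p-torsion (flat over the p-adic base). If u induces a
bijection A/pA → B/pB (injectivity: u a ∈ pB forces a ∈ pA; surjectivity: every b ∈ B is congruent
to some u a modulo pB), then u is bijective. (The published statement is for a morphism of flat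
p-adic formal schemes over the Witt vectors of a perfect field: if its special fibre is an
isomorphism, so is the morphism; this row is its affine, ring-level case.) -/
theorem result (p : ℕ) [Fact p.Prime]
    {A B : Type u} [CommRing A] [CommRing B]
    [IsAdicComplete (Ideal.span {(p : A)}) A] [IsAdicComplete (Ideal.span {(p : B)}) B]
    (hA : IsSMulRegular A (p : A)) (hB : IsSMulRegular B (p : B)) (u : A →+* B)
    (hinj : ∀ a : A, u a ∈ Ideal.span {(p : B)} → a ∈ Ideal.span {(p : A)})
    (hsurj : ∀ b : B, ∃ a : A, b - u a ∈ Ideal.span {(p : B)}) :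
    Function.Bijective u := by
  have hup : u (p : A) = (p : B) := map_natCast u p
  constructor
  · rw [injective_iff_map_eq_zero]
    intro a ha
    have key : ∀ n, ∀ x : A, u x = 0 → x ∈ Ideal.span {(p : A)} ^ n := by
      intro n
      induction n with
      | zero => simp
      | succ n ih =>
        intro x hx
        obtain ⟨y, rfl⟩ := Ideal.mem_span_singleton'.1 (hinj x (by rw [hx]; exact zero_mem _))
        rw [pow_succ]
        refine Ideal.mul_mem_mul (ih y ?_) (Ideal.mem_span_singleton_self _)
        refine hB (?_ : (p : B) • u y = (p : B) • 0)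
        rw [smul_zero, smul_eq_mul, mul_comm, ← hup, ← map_mul, hx]
    refine IsHausdorff.haus (inferInstance : IsHausdorff (Ideal.span {(p : A)}) A) a fun n => ?_
    rw [SModEq.zero, Ideal.smul_eq_mul, Ideal.mul_top]
    exact key n a ha
  · intro b
    let _ := u.toAlgebra
    have hpow : ∀ n, Ideal.span {(p : A)} ^ n • (⊤ : Submodule A B) ≤
        (Ideal.span {(p : B)} ^ n).restrictScalars A := by
      intro n
      rw [Submodule.smul_le]
      intro r hr z _
      rw [Submodule.restrictScalars_mem, Algebra.smul_def]
      refine Ideal.mul_mem_right _ _ ?_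
      rw [Ideal.span_singleton_pow, Ideal.mem_span_singleton'] at hr ⊢
      obtain ⟨r', rfl⟩ := hr
      exact ⟨u r', by simp [RingHom.algebraMap_toAlgebra, hup]⟩
    have hsep : ⨅ n, (Ideal.span {(p : B)} ^ n).restrictScalars A = ⊥ := by
      refine le_bot_iff.1 fun z hz => ?_
      refine (Submodule.mem_bot A).2
        (IsHausdorff.haus (inferInstance : IsHausdorff (Ideal.span {(p : B)}) B) z fun n => ?_)
      rw [SModEq.zero, Ideal.smul_eq_mul, Ideal.mul_top]
      exact (Submodule.mem_iInf _).1 hz n
    obtain ⟨c, -, hc⟩ := GrothLib.AdicLim.exists_coeff_of_step (I := Ideal.span {(p : A)}) (ι := Unit)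
      (fun _ => (1 : B)) 0 (fun n y => y ∈ Ideal.span {(p : B)} ^ n)
      (fun n => (Ideal.span {(p : B)} ^ n).restrictScalars A) (fun n y hy => hy) hpow hsep
      (fun n y hy => by
        rw [Ideal.span_singleton_pow, Ideal.mem_span_singleton'] at hy
        obtain ⟨z, rfl⟩ := hy
        obtain ⟨a, ha⟩ := hsurj z
        refine ⟨fun _ => a * (p : A) ^ n, fun _ => ?_, ?_⟩
        · rw [Nat.add_zero, Ideal.span_singleton_pow]
          exact Ideal.mul_mem_left _ _ (Ideal.mem_span_singleton_self _)
        · obtain ⟨w, hw⟩ := Ideal.mem_span_singleton'.1 ha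
          rw [Ideal.span_singleton_pow, Ideal.mem_span_singleton']
          refine ⟨w, ?_⟩
          simp [Algebra.smul_def, RingHom.algebraMap_toAlgebra, hup, pow_succ]
          linear_combination (p : B) ^ n * hw)
      (x := b) (by simp)
    exact ⟨c (), by rw [hc]; simp [Algebra.smul_def, RingHom.algebraMap_toAlgebra]⟩

end Groth.Agent.S19609
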