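import Groth.Statements.S19610
import Groth.Agent.Lib.Flatness.Criterion
import Mathlib.LinearAlgebra.TensorProduct.Quotient
import Mathlib.Tactic.Ring
-- import your own Groth.Agent.* helpers here

set_option autoImplicit false
universe u
open scoped TensorProduct
open CartMod

namespace Groth.Agent.S19610

/-- Let p be a prime and B a commutative algebra over the commutative ring A, both complete and
separated for the p-adic topology and both without p-torsion (flat over the p-adic base). If B/pB is
flat over A/pA, then B/p^nB is flat over A/p^nA for every n ≥ 1 (the quotients are written as base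
changes (A/p^n) ⊗_A B). (The published statement is for a morphism of flat p-adic formal schemes
over the Witt vectors of a perfect field: if its special fibre is flat, so are the induced morphisms
of schemes modulo every power of p; this row is its affine, ring-level case.) -/
theorem result (p : ℕ) [Fact p.Prime]
    {A B : Type u} [CommRing A] [CommRing B] [Algebra A B]
    [IsAdicComplete (Ideal.span {(p : A)}) A] [IsAdicComplete (Ideal.span {(p : B)}) B]
    (hA : IsSMulRegular A (p : A)) (hB : IsSMulRegular B (p : B))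
    (h : Module.Flat (A ⧸ Ideal.span {(p : A)}) ((A ⧸ Ideal.span {(p : A)}) ⊗[A] B))
    (n : ℕ) (hn : 1 ≤ n) :
    Module.Flat (A ⧸ (Ideal.span {(p : A)} ^ n)) ((A ⧸ (Ideal.span {(p : A)} ^ n)) ⊗[A] B) := by
  obtain ⟨m, rfl⟩ := Nat.exists_eq_succ_of_ne_zero (by omega : n ≠ 0)
  set P : Ideal A := Ideal.span {(p : A)} with hP
  let R := A ⧸ P ^ (m + 1)
  let π : A →+* R := Ideal.Quotient.mk _
  refine GrothLib.Flatness.flat_of_isNilpotent (R := R) (P.map π) ?_ ?_ ?_
  · exact ⟨m + 1, by rw [← Ideal.map_pow, Ideal.map_quotient_self]; rfl⟩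
  · have hK : P.map π = Ideal.span {π p} := (Ideal.map_span π _).trans (by rw [Set.image_singleton])
    rw [hK, injective_iff_map_eq_zero]
    intro x hx
    let g : ↥(Ideal.span {π p}) := ⟨π p, Ideal.mem_span_singleton_self _⟩
    have hrep : ∀ z : (R ⊗[A] B) ⊗[R] ↥(Ideal.span {π p}),
        ∃ b : B, z = ((1 : R) ⊗ₜ[A] b) ⊗ₜ[R] g := by
      intro z
      induction z using TensorProduct.induction_on with
      | zero => exact ⟨0, by simp⟩
      | tmul y k =>
        obtain ⟨b, rfl⟩ := TensorProduct.mk_surjective A B R Ideal.Quotient.mk_surjective y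
        obtain ⟨r, hr⟩ := Ideal.mem_span_singleton'.1 k.2
        obtain ⟨a, rfl⟩ := Ideal.Quotient.mk_surjective r
        refine ⟨a • b, ?_⟩
        have hk : k = π a • g := Subtype.ext hr.symm
        rw [hk, TensorProduct.mk_apply, ← TensorProduct.smul_tmul, TensorProduct.smul_tmul',
          smul_eq_mul, mul_one, ← TensorProduct.smul_tmul]
        rw [show a • (1 : R) = π a from by rw [Algebra.smul_def, mul_one]; rfl]
      | add x y hx hy =>
        obtain ⟨b, rfl⟩ := hx
        obtain ⟨c, rfl⟩ := hy
        exact ⟨b + c, by rw [TensorProduct.tmul_add, TensorProduct.add_tmul]⟩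
    obtain ⟨b, rfl⟩ := hrep x
    have h1 : (1 : R) ⊗ₜ[A] ((p : A) • b) = 0 := by
      have h2 := congrArg (TensorProduct.rid R (R ⊗[A] B)) hx
      rw [LinearMap.lTensor_tmul, map_zero, TensorProduct.rid_tmul] at h2
      rw [← TensorProduct.smul_tmul, Algebra.smul_def, mul_one]
      simpa [g, TensorProduct.smul_tmul'] using h2
    have h3 := congrArg (TensorProduct.quotTensorEquivQuotSMul B (P ^ (m + 1))) h1
    rw [map_zero, show (1 : R) = Ideal.Quotient.mk _ (1 : A) from rfl,
      TensorProduct.quotTensorEquivQuotSMul_mk_tmul, one_smul, Submodule.Quotient.mk_eq_zero] at h3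
    replace h3 : (p : A) • b ∈ (Ideal.span {(p : A)} ^ (m + 1)) • (⊤ : Submodule A B) := h3
    rw [Ideal.span_singleton_pow, Submodule.ideal_span_singleton_smul] at h3
    obtain ⟨c, -, hc⟩ := Submodule.mem_smul_pointwise_iff_exists _ _ _ |>.1 h3
    have hb : b = (p : A) ^ m • c := by
      refine hB (?_ : (p : B) • b = (p : B) • ((p : A) ^ m • c))
      simp only [smul_eq_mul, Algebra.smul_def, map_natCast, map_pow] at hc ⊢
      rw [← hc, pow_succ]; ring
    have hg : π ((p : A) ^ m) • g = 0 := by
      refine Subtype.ext ?_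
      show π ((p : A) ^ m) * π p = 0
      rw [← map_mul, ← pow_succ, Ideal.Quotient.eq_zero_iff_mem]
      exact Ideal.pow_mem_pow (Ideal.mem_span_singleton_self _) _
    rw [hb, ← TensorProduct.smul_tmul,
      show (p : A) ^ m • (1 : R) = π ((p : A) ^ m) • (1 : R) by rw [Algebra.smul_def, smul_eq_mul]; rfl,
      ← TensorProduct.smul_tmul', TensorProduct.smul_tmul, hg, TensorProduct.tmul_zero]
  · let S := R ⧸ P.map π
    let θ : (A ⧸ P) →+* S := Ideal.Quotient.lift P (algebraMap A S) fun a ha =>
      Ideal.Quotient.eq_zero_iff_mem.2 (Ideal.mem_map_of_mem π ha)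
    let _ : Algebra (A ⧸ P) S := θ.toAlgebra
    have : IsScalarTower A (A ⧸ P) S := IsScalarTower.of_algebraMap_eq fun a => rfl
    have h1 : Module.Flat S (S ⊗[A] B) := Module.Flat.of_linearEquiv
      (TensorProduct.AlgebraTensorModule.cancelBaseChange A (A ⧸ P) S S B).symm
    exact Module.Flat.of_linearEquiv (TensorProduct.AlgebraTensorModule.cancelBaseChange A R S S B)

end Groth.Agent.S19610
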