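import Groth.Statements.S19611
import Mathlib

set_option autoImplicit false
universe u
open CategoryTheory AlgebraicGeometry
open CartMod

namespace Groth.Agent.S19611

/-- For a prime p and a scheme Y of characteristic p, write Y♭ for the scheme-theoretic image of the
absolute Frobenius F_Y : Y → Y, i.e. the closed subscheme of Y defined by the sections of O_Y whose
p-th power vanishes, and Y → Y♭ for the canonical morphism through which F_Y factors. Then Y → Y♭ is
an epimorphism of schemes: two morphisms g₁, g₂ from Y♭ to a scheme Z with equal composites Y → Y♭ →
Z are equal. (The published statement is for k-morphisms g₁, g₂ from Y♭ to a k-scheme Z over a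
perfect field k of characteristic p, compared after Frobenius twist through Y → (Y♭)'; this row asks
right-cancellation against morphisms to every scheme Z, which is equivalent to it for k-morphisms.) -/
theorem result (p : ℕ) [Fact p.Prime] (Y : Scheme.{u}) [FrobSch.IsCharP Y p] :
    Epi (FrobSch.frob Y p).toImage := by
  set f := FrobSch.frob Y p with hf
  have hqc : QuasiCompact f := ⟨fun U _ hc => hc⟩
  have hsurj : Function.Surjective f.toImage := by
    intro z
    refine ⟨f.imageι z, f.imageι.isEmbedding.injective ?_⟩
    have h := congr($(f.toImage_imageι) (f.imageι z))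
    exact h
  have hinj : ∀ U, Function.Injective (f.toImage.app U) := fun U =>
    TopCat.Presheaf.app_injective_of_stalkFunctor_map_injective (F := ⟨_, f.image.sheaf.2⟩)
      f.toImage.c U fun x _ => f.stalkFunctor_toImage_injective x
  refine ⟨fun {Z} g₁ g₂ h => ?_⟩
  have hb : g₁.base = g₂.base := by
    refine TopCat.hom_ext (ContinuousMap.ext fun z => ?_)
    obtain ⟨y, rfl⟩ := hsurj z
    exact congr($(h) y)
  refine Scheme.Hom.ext hb fun U => ?_
  haveI := fun V => ConcreteCategory.mono_of_injective (f.toImage.app V) (hinj V)
  rw [← cancel_mono (f.toImage.app (g₂ ⁻¹ᵁ U))]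
  have hU := Scheme.Hom.congr_app h U
  rw [Scheme.Hom.comp_app, Scheme.Hom.comp_app] at hU
  simp only [Category.assoc, Scheme.Hom.naturality]
  rw [← Category.assoc, hU]
  refine (Category.assoc _ _ _).trans ?_
  refine (congrArg _ ((Functor.map_comp _ _ _).symm.trans ?_)).trans (Category.comp_id _)
  exact CategoryTheory.Functor.map_id _ _

end Groth.Agent.S19611
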