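import Groth.Statements.S19612
import Mathlib.RingTheory.WittVector.DiscreteValuationRing
import Mathlib.RingTheory.Flat.TorsionFree
import Mathlib.LinearAlgebra.TensorProduct.Quotient
import Mathlib.RingTheory.Flat.Stability
-- import your own Groth.Agent.* helpers here

set_option autoImplicit false
universe u
open scoped TensorProduct
open CartMod

namespace Groth.Agent.S19612

/-- Let k be a perfect field of characteristic p, W = W(k) the ring of Witt vectors of k, and A a
commutative W-algebra which is complete and separated for the p-adic topology (an adic W-algebra).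
Then flatness of A over W is equivalent to flatness of A/p^nA = (W/p^nW) ⊗_W A over W/p^nW for every
n ≥ 1. -/
theorem result (p : ℕ) [Fact p.Prime] (k : Type u) [Field k]
    [CharP k p] [PerfectRing k p] (A : Type u) [CommRing A] [Algebra (WittVector p k) A]
    [IsAdicComplete (Ideal.span {(p : WittVector p k)}) A] :
    Module.Flat (WittVector p k) A ↔
      ∀ n : ℕ, 1 ≤ n →
        Module.Flat (WittVector p k ⧸ (Ideal.span {(p : WittVector p k)} ^ n))
          ((WittVector p k ⧸ (Ideal.span {(p : WittVector p k)} ^ n)) ⊗[WittVector p k] A) := by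
  refine ⟨fun h n _ => inferInstance, fun h => ?_⟩
  have reg : IsSMulRegular A (p : WittVector p k) := by
    rw [isSMulRegular_iff_right_eq_zero_of_smul]
    intro x hx
    refine IsHausdorff.haus (inferInstance : IsHausdorff (Ideal.span {(p : WittVector p k)}) A) x fun n => ?_
    rw [SModEq.zero]
    let P : Ideal (WittVector p k) := Ideal.span {(p : WittVector p k)} ^ (n + 1)
    let R := WittVector p k ⧸ P
    let M := R ⊗[WittVector p k] A
    have : Module.Flat R M := h (n + 1) (Nat.le_add_left 1 n)
    let π : WittVector p k →+* R := Ideal.Quotient.mk _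
    have hex : Function.Exact (LinearMap.mulLeft R (π p ^ n)) (LinearMap.mulLeft R (π p)) := by
      intro r
      constructor
      · intro hr
        obtain ⟨a, rfl⟩ := Ideal.Quotient.mk_surjective r
        change π p * π a = 0 at hr
        rw [← map_mul, Ideal.Quotient.eq_zero_iff_mem] at hr
        replace hr : (p : WittVector p k) * a ∈ Ideal.span {(p : WittVector p k)} ^ (n + 1) := hr
        rw [Ideal.span_singleton_pow, Ideal.mem_span_singleton'] at hr
        obtain ⟨c, hc⟩ := hr
        refine ⟨π c, ?_⟩
        show π p ^ n * π c = π a
        rw [← map_pow, ← map_mul]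
        congr 1
        refine mul_left_cancel₀ (WittVector.p_nonzero p k) ?_
        rw [← hc, pow_succ]; ring
      · rintro ⟨c, rfl⟩
        show π p * (π p ^ n * c) = 0
        rw [← mul_assoc, ← pow_succ', ← map_pow,
          (Ideal.Quotient.eq_zero_iff_mem).2 (Ideal.pow_mem_pow (Ideal.mem_span_singleton_self _) _),
          zero_mul]
    have hM := Module.Flat.lTensor_exact M hex
    have hm : ∀ (c : R) (y : M ⊗[R] R),
        TensorProduct.rid R M ((LinearMap.mulLeft R c).lTensor M y) = c • TensorProduct.rid R M y := by
      intro c y
      induction y using TensorProduct.induction_on with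
      | zero => simp
      | tmul m r => simp [mul_smul]
      | add y z hy hz => simp only [map_add, hy, hz, smul_add]
    have hx0 : (LinearMap.mulLeft R (π p)).lTensor M (((1 : R) ⊗ₜ[WittVector p k] x : M) ⊗ₜ[R] (1 : R)) = 0 := by
      refine (TensorProduct.rid R M).injective ?_
      rw [hm, map_zero, TensorProduct.rid_tmul, one_smul, TensorProduct.smul_tmul', smul_eq_mul,
        mul_one, show π p = (p : WittVector p k) • (1 : R) by rw [Algebra.smul_def, mul_one]; rfl,
        TensorProduct.smul_tmul, hx, TensorProduct.tmul_zero]
    obtain ⟨y, hy⟩ := (hM _).1 hx0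
    have h1 := congrArg (TensorProduct.rid R M) hy
    rw [hm, TensorProduct.rid_tmul, one_smul] at h1
    generalize TensorProduct.rid R M y = z at h1
    obtain ⟨a, rfl⟩ := TensorProduct.mk_surjective (WittVector p k) A R Ideal.Quotient.mk_surjective z
    rw [TensorProduct.mk_apply, TensorProduct.smul_tmul', smul_eq_mul, mul_one, ← map_pow,
      show π ((p : WittVector p k) ^ n) = ((p : WittVector p k) ^ n) • (1 : R) by
        rw [Algebra.smul_def, mul_one]; rfl,
      TensorProduct.smul_tmul] at h1
    have h2 := congrArg (TensorProduct.quotTensorEquivQuotSMul A P) h1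
    rw [show (1 : R) = Ideal.Quotient.mk _ (1 : WittVector p k) from rfl,
      TensorProduct.quotTensorEquivQuotSMul_mk_tmul, TensorProduct.quotTensorEquivQuotSMul_mk_tmul,
      one_smul, one_smul, Submodule.Quotient.eq] at h2
    have h3 := Submodule.sub_mem _ (Submodule.smul_mem_smul (I := Ideal.span {(p : WittVector p k)} ^ n)
      (Ideal.pow_mem_pow (Ideal.mem_span_singleton_self _) n) (Submodule.mem_top (x := a)))
      (Submodule.smul_mono_left (Ideal.pow_le_pow_right (Nat.le_succ n)) h2)
    simpa using h3
  have : Module.IsTorsionFree (WittVector p k) A := ⟨fun r hr => by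
    obtain ⟨m, b, rfl⟩ := WittVector.exists_eq_pow_p_mul' r hr.ne_zero
    exact (reg.pow m).mul ((b.isUnit).isSMulRegular A)⟩
  infer_instance

end Groth.Agent.S19612
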