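import Groth.Statements.S19613
import Groth.Agent.Lib.Thickening.Affine
import Groth.Agent.Lib.ModDesc.Basic

set_option autoImplicit false
universe u
open CategoryTheory AlgebraicGeometry TopologicalSpace
open CartMod

namespace Groth.Agent.S19613

set_option backward.isDefEq.respectTransparency false


/-- Let u : T → U be an affine morphism of schemes and i : T → T♮ a nilpotent closed immersion (its
ideal has a vanishing power), so that |T♮| = |T|; let g : |T♮| → |U| be the continuous map
underlying u, and v : (T♮, O_{T♮}) → (U, g_*O_{T♮}) the induced morphism of ringed spaces (identity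
on structure rings), with direct image v_* (sections over g⁻¹ of an open) and inverse image v^* its
left adjoint. Then the restriction of v_* to quasi-coherent O_{T♮}-modules is exact; since v_* is a
right adjoint, the content is that v_* of an epimorphism between quasi-coherent O_{T♮}-modules is an
epimorphism of sheaves of g_*O_{T♮}-modules on U, which is what is stated. -/
theorem result
    {T Tc U : Scheme.{u}} (i : T ⟶ Tc) [IsClosedImmersion i]
    (hnil : ∃ n : ℕ, ∀ V : Tc.affineOpens, i.ker.ideal V ^ n = ⊥)
    (u : T ⟶ U) [IsAffineHom u] (g : Tc.carrier ⟶ U.carrier) (hg : i.base ≫ g = u.base)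
    (M N : Tc.Modules) [M.IsQuasicoherent] [N.IsQuasicoherent] (φ : M ⟶ N) [Epi φ] :
    Epi ((SheafOfModules.pushforward (F := Opens.map g) (R := Tc.ringCatSheaf)
      (𝟙 (((Opens.map g).sheafPushforwardContinuous RingCat.{u} (Opens.grothendieckTopology U)
        (Opens.grothendieckTopology Tc)).obj Tc.ringCatSheaf))).map φ) := by
  obtain ⟨n, hn⟩ := hnil
  haveI : Surjective i := ⟨fun y => by
    have hsupp : y ∈ i.ker.support := by
      obtain ⟨_, ⟨V, hV, rfl⟩, hyV, -⟩ :=
        Tc.isBasis_affineOpens.exists_subset_of_mem_open (Set.mem_univ y) isOpen_univ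
      have h : y ∈ Tc.zeroLocus (U := V) (i.ker.ideal ⟨V, hV⟩) ∩ V := by
        refine ⟨?_, hyV⟩
        rw [Scheme.mem_zeroLocus_iff]
        intro a ha hy
        have hz : a ^ (n + 1) = 0 := by
          have := Ideal.pow_mem_pow ha n
          rw [hn ⟨V, hV⟩] at this
          rw [pow_succ, Ideal.mem_bot.mp this, zero_mul]
        have : y ∈ Tc.basicOpen (a ^ (n + 1)) := by
          rw [Scheme.basicOpen_pow _ _ (Nat.succ_pos n)]
          exact hy
        rw [hz, Scheme.basicOpen_zero] at this
        exact this
      rw [← i.ker.coe_support_inter ⟨V, hV⟩] at h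
      exact h.1
    have hr : (y : Tc) ∈ closure (Set.range i.base) := by
      rw [← Scheme.Hom.support_ker]
      exact hsupp
    rw [i.isClosedEmbedding.isClosed_range.closure_eq] at hr
    exact hr⟩
  haveI : Sheaf.IsLocallySurjective ((SheafOfModules.toSheaf _).map
      ((SheafOfModules.pushforward (F := Opens.map g) (R := Tc.ringCatSheaf)
      (𝟙 (((Opens.map g).sheafPushforwardContinuous RingCat.{u} (Opens.grothendieckTopology U)
        (Opens.grothendieckTopology Tc)).obj Tc.ringCatSheaf))).map φ)) := by
    refine ⟨fun {V} s x hx => ?_⟩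
    obtain ⟨_, ⟨V', hV', rfl⟩, hxV', hVV⟩ :=
      U.isBasis_affineOpens.exists_subset_of_mem_open hx V.isOpen
    have haff : IsAffineOpen ((Opens.map g).obj V') := by
      let W : Tc.Opens := (Opens.map g).obj V'
      have e : i ⁻¹ᵁ W = u ⁻¹ᵁ V' := by
        apply TopologicalSpace.Opens.ext
        change i.base ⁻¹' (g ⁻¹' (V' : Set U)) = u.base ⁻¹' (V' : Set U)
        rw [← hg]
        rfl
      haveI : IsAffine ↑(i ⁻¹ᵁ W) := e ▸ hV'.preimage u
      haveI : IsClosedImmersion (i ∣_ W) := IsZariskiLocalAtTarget.restrict ‹_› W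
      haveI : Surjective (i ∣_ W) := IsZariskiLocalAtTarget.restrict ‹_› W
      exact GrothLib.Thickening.isAffine_of_thickening (i ∣_ W)
    obtain ⟨t, ht⟩ := GrothLib.ModDesc.app_surjective_of_epi φ haff
      (N.val.map ((Opens.map g).map (homOfLE hVV)).op s)
    exact ⟨V', homOfLE hVV, ⟨t, ht⟩, hxV'⟩
  haveI := Sheaf.epi_of_isLocallySurjective ((SheafOfModules.toSheaf _).map
      ((SheafOfModules.pushforward (F := Opens.map g) (R := Tc.ringCatSheaf)
      (𝟙 (((Opens.map g).sheafPushforwardContinuous RingCat.{u} (Opens.grothendieckTopology U)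
        (Opens.grothendieckTopology Tc)).obj Tc.ringCatSheaf))).map φ))
  exact (SheafOfModules.toSheaf _).epi_of_epi_map inferInstance

end Groth.Agent.S19613
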