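import Groth.Statements.S19616
import Mathlib

set_option autoImplicit false
universe u
open CartMod

namespace Groth.Agent.S19616
set_option maxHeartbeats 1000000
set_option synthInstance.maxHeartbeats 400000

/-- Let p be a prime, A a commutative ring which is complete and separated for the p-adic topology and
has no p-torsion, and a_1, …, a_n elements of A (so that (p, a_1, …, a_n) is an open ideal
containing p). Then there is a commutative A-algebra D, complete and separated for the p-adic
topology and without p-torsion, in which each a_i is divisible by p, with the following universal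
property: for every A-algebra B which is p-adically complete and separated, has no p-torsion, and in
which each a_i is divisible by p, there is exactly one A-algebra homomorphism D → B; moreover this
homomorphism is surjective whenever A → B is. (D is the coordinate ring of the dilatation of Spf A
with respect to p along the closed subscheme defined by (p, a_1, …, a_n). The published statement is
for flat p-adic formal schemes locally of finite type over the Witt vectors of a perfect field; this
row is its affine, ring-level case without a finiteness hypothesis.) -/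
theorem result (p : ℕ) [Fact p.Prime]
    (A : Type u) [CommRing A] [IsAdicComplete (Ideal.span {(p : A)}) A]
    (hA : IsSMulRegular A (p : A)) {n : ℕ} (a : Fin n → A) :
    ∃ (D : Type u) (_ : CommRing D) (_ : Algebra A D),
      IsAdicComplete (Ideal.span {(p : D)}) D ∧ IsSMulRegular D (p : D) ∧
      (∀ i, algebraMap A D (a i) ∈ Ideal.span {(p : D)}) ∧
      ∀ (B : Type u) [CommRing B] [Algebra A B] [IsAdicComplete (Ideal.span {(p : B)}) B],
        IsSMulRegular B (p : B) → (∀ i, algebraMap A B (a i) ∈ Ideal.span {(p : B)}) →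
          Nonempty (D →ₐ[A] B) ∧ Subsingleton (D →ₐ[A] B) ∧
            (Function.Surjective (algebraMap A B) → ∀ f : D →ₐ[A] B, Function.Surjective f) := by
  classical
  let Ap := Localization.Away (p : A)
  let ip : Ap := IsLocalization.Away.invSelf (p : A)
  have hinjA : Function.Injective (algebraMap A Ap) := by
    refine IsLocalization.injective (M := Submonoid.powers (p : A)) Ap ?_
    rintro _ ⟨m, rfl⟩
    exact mem_nonZeroDivisors_iff_right.2 fun x hx => hA.pow m (show (p : A) ^ m • x = (p : A) ^ m • 0 by rw [smul_zero, smul_eq_mul, mul_comm]; exact hx)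
  have hip : algebraMap A Ap (p : A) * ip = 1 := IsLocalization.Away.mul_invSelf (S := Ap) (p : A)
  let S : Set Ap := Set.range fun i => algebraMap A Ap (a i) * ip
  let D0 := Algebra.adjoin A S
  let w : Fin n → D0 := fun i => ⟨algebraMap A Ap (a i) * ip, Algebra.subset_adjoin ⟨i, rfl⟩⟩
  have hw : ∀ i, algebraMap A D0 (a i) = (p : D0) * w i := fun i => by
    refine Subtype.ext ?_
    show algebraMap A Ap (a i) = ((p : D0) : Ap) * (algebraMap A Ap (a i) * ip)
    rw [SubringClass.coe_natCast, ← map_natCast (algebraMap A Ap), mul_left_comm, hip, mul_one]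
  have hreg0 : ∀ x : D0, (p : D0) * x = 0 → x = 0 := fun x hx => by
    refine Subtype.ext ?_
    have h1 : algebraMap A Ap (p : A) * (x : Ap) = 0 := by
      rw [map_natCast]
      simpa using congrArg Subtype.val hx
    calc (x : Ap) = ip * (algebraMap A Ap (p : A) * (x : Ap)) := by rw [← mul_assoc, mul_comm ip, hip, one_mul]
      _ = 0 := by rw [h1, mul_zero]
  let J : Ideal D0 := Ideal.span {(p : D0)}
  have hmap : Ideal.map (algebraMap D0 (AdicCompletion J D0)) J = Ideal.span {(p : AdicCompletion J D0)} := by
    rw [Ideal.map_span, Set.image_singleton, map_natCast]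
  have hpow : ∀ (m : ℕ), J ^ m = Ideal.span {(p : D0) ^ m} := fun m => Ideal.span_singleton_pow _ m
  have hcomp : IsAdicComplete (Ideal.span {(p : AdicCompletion J D0)}) (AdicCompletion J D0) :=
    hmap ▸ AdicCompletion.isAdicComplete_self J (Submodule.fg_span_singleton _)
  have hregD : IsSMulRegular (AdicCompletion J D0) (p : AdicCompletion J D0) := by
    intro x y hxy
    simp only [smul_eq_mul] at hxy
    rw [← sub_eq_zero] at hxy ⊢
    rw [← mul_sub] at hxy
    generalize hz : x - y = z at hxy
    refine AdicCompletion.ext_evalₐ fun m => ?_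
    obtain ⟨s, rfl⟩ := AdicCompletion.mk_surjective J D0 z
    rw [AdicCompletion.evalₐ_mk, map_zero, Ideal.Quotient.eq_zero_iff_mem]
    have h1 := congrArg (AdicCompletion.evalₐ J (m + 1)) hxy
    rw [map_mul, map_natCast, map_zero, AdicCompletion.evalₐ_mk, ← map_natCast (Ideal.Quotient.mk (J ^ (m + 1))), ← map_mul,
      Ideal.Quotient.eq_zero_iff_mem, hpow, Ideal.mem_span_singleton'] at h1
    obtain ⟨c, hc⟩ := h1
    have h2 : s.val (m + 1) = c * (p : D0) ^ m := sub_eq_zero.1 (hreg0 _ (by linear_combination -hc))
    have h3 : s.val m - s.val (m + 1) ∈ J ^ m := by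
      have := s.property (Nat.le_succ m)
      rwa [smul_eq_mul, Ideal.mul_top, SModEq.sub_mem] at this
    rw [h2, hpow] at h3
    have := Ideal.add_mem _ h3 (Ideal.mul_mem_left _ c (Ideal.mem_span_singleton_self _))
    rw [sub_add_cancel] at this
    rw [hpow]
    exact this
  refine ⟨AdicCompletion J D0, inferInstance, inferInstance, hcomp, hregD, fun i => ?_, ?_⟩
  · refine Ideal.mem_span_singleton'.2 ⟨algebraMap D0 _ (w i), ?_⟩
    rw [IsScalarTower.algebraMap_apply A D0 (AdicCompletion J D0), hw, map_mul, map_natCast, mul_comm]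
  intro B _ _ _ hB haB
  let Bp := Localization.Away (p : B)
  have hinjB : Function.Injective (algebraMap B Bp) := by
    refine IsLocalization.injective (M := Submonoid.powers (p : B)) Bp ?_
    rintro _ ⟨m, rfl⟩
    exact mem_nonZeroDivisors_iff_right.2 fun x hx => hB.pow m (show (p : B) ^ m • x = (p : B) ^ m • 0 by rw [smul_zero, smul_eq_mul, mul_comm]; exact hx)
  have hunit : IsUnit (algebraMap B Bp (p : B)) := IsLocalization.Away.algebraMap_isUnit (S := Bp) (p : B)
  let χ : A →ₐ[A] Bp := (IsScalarTower.toAlgHom A B Bp).comp (Algebra.ofId A B)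
  let ψ : Ap →ₐ[A] Bp := IsLocalization.liftAlgHom (M := Submonoid.powers (p : A)) (f := χ) (by
    rintro ⟨_, m, rfl⟩
    show IsUnit (algebraMap B Bp (algebraMap A B ((p : A) ^ m)))
    rw [map_pow, map_natCast, map_pow]
    exact hunit.pow m)
  have hψ : ∀ x : D0, ψ (x : Ap) ∈ (IsScalarTower.toAlgHom A B Bp).range := by
    intro x
    have hle : D0 ≤ (IsScalarTower.toAlgHom A B Bp).range.comap ψ := by
      refine Algebra.adjoin_le ?_
      rintro _ ⟨i, rfl⟩
      obtain ⟨c, hc⟩ := Ideal.mem_span_singleton'.1 (haB i)
      refine ⟨c, hunit.mul_left_cancel ?_⟩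
      show algebraMap B Bp (p : B) * algebraMap B Bp c = algebraMap B Bp (p : B) * ψ (algebraMap A Ap (a i) * ip)
      rw [← map_mul, mul_comm, hc]
      have e : algebraMap B Bp (p : B) = ψ (algebraMap A Ap (p : A)) := by
        rw [map_natCast, map_natCast, map_natCast]
      rw [e, ← map_mul, mul_left_comm, hip, mul_one, ψ.commutes]
      exact (IsScalarTower.algebraMap_apply A B Bp _).symm
    exact hle x.2
  let φ0 : D0 →ₐ[A] B := (AlgEquiv.ofInjective (IsScalarTower.toAlgHom A B Bp) hinjB).symm.toAlgHom.comp
    ((ψ.comp D0.val).codRestrict _ hψ)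
  let JB : Ideal B := Ideal.span {(p : B)}
  have hle : ∀ m : ℕ, J ^ m ≤ (JB ^ m).comap φ0.toRingHom := fun m => by
    rw [← Ideal.map_le_iff_le_comap, Ideal.map_pow, Ideal.map_span, Set.image_singleton, map_natCast]
  let F : ∀ m : ℕ, AdicCompletion J D0 →ₐ[A] B ⧸ JB ^ m := fun m =>
    (Ideal.Quotient.liftₐ (J ^ m) ((Ideal.Quotient.mkₐ A (JB ^ m)).comp φ0) (fun x hx =>
      Ideal.Quotient.eq_zero_iff_mem.2 (hle m hx))).comp ((AdicCompletion.evalₐ J m).restrictScalars A)
  have hF : ∀ {k m : ℕ} (h : k ≤ m), (Ideal.Quotient.factorₐ A (Ideal.pow_le_pow_right h)).comp (F m) = F k := by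
    intro k m h
    refine AlgHom.ext fun x => ?_
    obtain ⟨s, rfl⟩ := AdicCompletion.mk_surjective J D0 x
    simp only [F, AlgHom.comp_apply, AlgHom.restrictScalars_apply, AdicCompletion.evalₐ_mk]
    show Ideal.Quotient.mk (JB ^ k) (φ0 (s.val m)) = Ideal.Quotient.mk (JB ^ k) (φ0 (s.val k))
    rw [Ideal.Quotient.mk_eq_mk_iff_sub_mem, ← map_sub]
    have := s.property h
    rw [smul_eq_mul, Ideal.mul_top, SModEq.sub_mem, ← neg_mem_iff, neg_sub] at this
    exact hle k this
  have huniq : Subsingleton (AdicCompletion J D0 →ₐ[A] B) := ⟨fun f g => by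
    have hD0 : f.comp (IsScalarTower.toAlgHom A D0 (AdicCompletion J D0)) = g.comp (IsScalarTower.toAlgHom A D0 (AdicCompletion J D0)) := by
      refine AlgHom.adjoin_ext (s := S) fun x hx => ?_
      obtain ⟨i, rfl⟩ := hx
      refine hB ?_
      show (p : B) * f (algebraMap D0 _ (w i)) = (p : B) * g (algebraMap D0 _ (w i))
      have e : ∀ h : AdicCompletion J D0 →ₐ[A] B, (p : B) * h (algebraMap D0 _ (w i)) = algebraMap A B (a i) := fun h => by
        rw [← map_natCast h, ← map_mul, ← map_natCast (algebraMap D0 (AdicCompletion J D0)), ← map_mul, ← hw,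
          ← IsScalarTower.algebraMap_apply, h.commutes]
      rw [e f, e g]
    refine AlgHom.ext fun x => IsHausdorff.eq_iff_smodEq (I := JB) (M := B) |>.2 fun m => ?_
    rw [smul_eq_mul, Ideal.mul_top, SModEq.sub_mem]
    obtain ⟨z, hz⟩ := Ideal.Quotient.mk_surjective (AdicCompletion.evalₐ J m x)
    have hmem : x - algebraMap D0 (AdicCompletion J D0) z ∈ (J ^ m • ⊤ : Submodule D0 (AdicCompletion J D0)) := by
      rw [AdicCompletion.pow_smul_top_eq_ker_eval (Submodule.fg_span_singleton _), LinearMap.mem_ker]
      have h1 : AdicCompletion.evalₐ J m (x - algebraMap D0 (AdicCompletion J D0) z) = 0 := by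
        rw [map_sub, AlgHom.commutes, ← hz]
        exact sub_self _
      rw [← AdicCompletion.factor_evalₐ_eq_eval _ _ (le_of_eq (Ideal.mul_top _).symm), h1, map_zero]
    rw [hpow, Submodule.ideal_span_singleton_smul, Submodule.mem_smul_pointwise_iff_exists] at hmem
    obtain ⟨c, -, hc⟩ := hmem
    have e : x = algebraMap D0 (AdicCompletion J D0) z + (p : AdicCompletion J D0) ^ m * c := by
      have hc' : algebraMap D0 (AdicCompletion J D0) ((p : D0) ^ m) * c = x - algebraMap D0 (AdicCompletion J D0) z :=
        (Algebra.smul_def _ _).symm.trans hc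
      rw [map_pow, map_natCast] at hc'
      rw [hc']; ring
    rw [e, map_add, map_add, map_mul, map_mul, map_pow, map_pow, map_natCast, map_natCast, AlgHom.congr_fun hD0 z |> fun h => (h : f (algebraMap D0 _ z) = g (algebraMap D0 _ z)),
      add_sub_add_left_eq_sub, ← mul_sub]
    exact Ideal.mul_mem_right _ _ (Ideal.pow_mem_pow (Ideal.mem_span_singleton_self _) m)⟩
  refine ⟨⟨IsAdicComplete.liftAlgHom JB F hF⟩, huniq, fun hs f => ?_⟩
  intro b
  obtain ⟨a', rfl⟩ := hs b
  exact ⟨algebraMap A _ a', f.commutes a'⟩

end Groth.Agent.S19616
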