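import Groth.Statements.S19617
import Groth.Agent.Lib.HypUnobs26.Main

set_option autoImplicit false
universe u
open CategoryTheory CategoryTheory.Limits AlgebraicGeometry
open ArtFun

namespace Groth.Agent.S19617

/-- Let k be a field, n ≥ 1, d ≥ 1, and Z₀ = V(F) ⊂ Pⁿ_k the hypersurface of a nonzero form F of degree
d, assumed smooth over k. Then the embedded deformations of Z₀ are unobstructed: for every
surjection A' → A of local Artinian k-algebras with residue field k whose kernel is killed by the
maximal ideal of A', every element of the local Hilbert functor of Z₀ ⊂ Pⁿ_k at A (a closed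
subscheme of Pⁿ_k ×_k Spec A, flat over Spec A, restricting to Z₀ over the closed point) is the
restriction of an element at A'. -/
theorem result (k : Type u) [Field k] (n d : ℕ)
    (hn : 1 ≤ n) (hd : 1 ≤ d) (F : LefPen.Form n k d) (hF : F ≠ 0)
    [Smooth ((LefPen.hypIdeal F).subschemeι ≫ CohB1.ProjSpace.toSpec n k)]
    ⦃A' A : ArtFun.Art k k⦄ (p : A' ⟶ A) (hp : ArtFun.Art.IsSemismallExt p) :
    Function.Surjective
      ((ArtFun.localHilb (CohB1.ProjSpace n k) (CohB1.ProjSpace.toSpec n k) (LefPen.hypIdeal F)).map p) := by
  exact GrothLib.HypUnobs26.surjective_map hd F hF p hp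

end Groth.Agent.S19617
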