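import Groth.Statements.S19618
import Mathlib.RingTheory.Ideal.KrullsHeightTheorem

set_option autoImplicit false
universe u
open CategoryTheory CategoryTheory.Limits AlgebraicGeometry Opposite TopologicalSpace
open BlowUp

namespace Groth.Agent.S19618

/-- Let X be a locally Noetherian scheme, Y an effective Cartier divisor on X (a quasi-coherent ideal
sheaf which, near every point, is generated on some affine open by one nonzerodivisor; Y is its
support) and Z a closed integral subscheme (a closed immersion i from an integral scheme with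
generic point ξ). If Y and Z intersect properly — every point ζ of Y ∩ Z which is maximal under
generization inside Y ∩ Z satisfies dim O_{X,ζ} = codim(Y,X) + codim(Z,X), where codim(Y,X) is the
infimum over y ∈ Y of dim O_{X,y} and codim(Z,X) = dim O_{X,i(ξ)} — then Z is not contained in Y. -/
theorem result {X Z : Scheme.{u}}
    [IsLocallyNoetherian X] (𝓘 : X.IdealSheafData) (hY : BlowUp.IsEffCartierIdeal 𝓘)
    (i : Z ⟶ X) [IsClosedImmersion i] [IsIntegral Z]
    (hprop : ∀ ζ : ↥X, ζ ∈ (𝓘.support : Set ↥X) ∩ Set.range i.base →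
        (∀ ζ' : ↥X, ζ' ∈ (𝓘.support : Set ↥X) ∩ Set.range i.base → ζ' ⤳ ζ → ζ' = ζ) →
        ringKrullDim ↑(X.presheaf.stalk ζ) =
          (⨅ y : (𝓘.support : Set ↥X), ringKrullDim ↑(X.presheaf.stalk y.1)) +
            ringKrullDim ↑(X.presheaf.stalk (i (genericPoint ↥Z)))) :
    ¬ Set.range i.base ⊆ (𝓘.support : Set ↥X) := by
  intro hsub
  let ξ := i.base (genericPoint Z)
  have hξ : ξ ∈ (𝓘.support : Set X) ∩ Set.range i.base := ⟨hsub ⟨_, rfl⟩, _, rfl⟩
  have h := hprop ξ hξ (by
    rintro _ ⟨_, z, rfl⟩ hz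
    have h1 : z ⤳ genericPoint Z := i.isClosedEmbedding.isInducing.specializes_iff.mp hz
    exact congrArg i.base ((genericPoint_specializes z).antisymm h1).eq.symm)
  have hpos : ∀ y : (𝓘.support : Set X), (1 : WithBot ℕ∞) ≤ ringKrullDim (X.presheaf.stalk y.1) := by
    rintro ⟨y, hy⟩
    obtain ⟨U, hyU, a, ha, hI⟩ := hY y
    have hmem := (𝓘.supportSet_subset_zeroLocus U hy : _)
    rw [Scheme.mem_zeroLocus_iff] at hmem
    have hau : ¬ IsUnit ((X.presheaf.germ U.1 y hyU).hom a) := fun hu ↦
      hmem a (by rw [hI]; exact Ideal.mem_span_singleton_self a) ((X.mem_basicOpen a y hyU).mpr hu)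
    let _ := TopCat.Presheaf.algebra_section_stalk X.presheaf (⟨y, hyU⟩ : U.1)
    have := U.2.isLocalization_stalk ⟨y, hyU⟩
    have hnz : (X.presheaf.germ U.1 y hyU).hom a ∈ nonZeroDivisors (X.presheaf.stalk y) :=
      IsLocalization.nonZeroDivisors_le_comap (U.2.primeIdealOf ⟨y, hyU⟩).asIdeal.primeCompl
        (X.presheaf.stalk y) ha
    by_contra hlt
    have h0 : Ring.KrullDimLE 0 (X.presheaf.stalk y) := by
      rw [Ring.krullDimLE_iff]
      have h5 := not_le.mp hlt
      generalize ringKrullDim (X.presheaf.stalk y) = d at h5 ⊢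
      induction d with
      | bot => exact bot_le
      | coe d =>
        norm_cast at h5 ⊢
        exact le_of_eq (Order.lt_one_iff.mp h5)
    obtain ⟨n, hn⟩ : IsNilpotent ((X.presheaf.germ U.1 y hyU).hom a) :=
      (Ring.KrullDimLE.isNilpotent_iff_mem_maximalIdeal (R := X.presheaf.stalk y)).mpr ((IsLocalRing.mem_maximalIdeal _).mpr hau)
    exact nonZeroDivisors.ne_zero (pow_mem hnz n) hn
  have hne : Nonempty (𝓘.support : Set X) := ⟨⟨ξ, hξ.1⟩⟩
  have h1 : (1 : WithBot ℕ∞) ≤ ⨅ y : (𝓘.support : Set X), ringKrullDim (X.presheaf.stalk y.1) := le_ciInf hpos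
  have htop : ringKrullDim (X.presheaf.stalk ξ) ≠ ⊤ := ringKrullDim_ne_top
  have hbot : ringKrullDim (X.presheaf.stalk ξ) ≠ ⊥ := ringKrullDim_ne_bot
  generalize ringKrullDim (X.presheaf.stalk ξ) = d at h htop hbot
  generalize (⨅ y : (𝓘.support : Set X), ringKrullDim (X.presheaf.stalk y.1)) = e at h h1
  induction d with
  | bot => exact hbot rfl
  | coe d =>
    induction e with
    | bot => simp at h1
    | coe e =>
      norm_cast at h h1
      have hd : d ≠ ⊤ := fun h' ↦ htop (by rw [h']; rfl)
      lift d to ℕ using hd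
      induction e with
      | top => simp at h
      | coe e =>
        norm_cast at h h1
        omega

end Groth.Agent.S19618
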