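import Groth.Statements.S19620
import Groth.Agent.Lib.OX.Support
import Groth.Agent.Lib.OX.RRLocal

set_option autoImplicit false
universe u
open CategoryTheory CategoryTheory.Limits AlgebraicGeometry
attribute [local instance] HasDerivedCategory.standard
open DCoh

namespace Groth.Agent.S19620

/-- Let f : X → Y be a proper morphism of schemes, with Rf_* the total right derived functor of f_* on
the unbounded derived categories of modules (assumed to exist), let Z ⊆ X be a closed subset and E
an object of D(O_X) whose cohomology sheaves are all supported in Z (every stalk at a point outside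
Z is trivial). Then the cohomology sheaves of Rf_*E are supported in the closed subset f(Z) of Y.
(The published statement, made in a setting where all schemes are separated and of finite type over
a regular base, takes f proper and perfect and concludes that Rf_* carries perfect complexes acyclic
outside Z to perfect complexes acyclic outside f(Z); the perfectness of Rf_*E is a separate result,
and the support inclusion, which is what the published proof establishes, holds for every proper f
and every E and is stated in that generality.) -/
theorem result {X Y : Scheme.{u}} (f : X ⟶ Y) [IsProper f]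
    [DCoh.HasRpush f] (Z : Set ↥X) (hZ : IsClosed Z) (E : DCoh.D X)
    (hE : ∀ i : ℤ, CohB1.support (DCoh.HD E i) ⊆ Z) (i : ℤ) :
    CohB1.support (DCoh.HD ((DCoh.Rpush f).obj E) i) ⊆ f.base '' Z := by
  let T : Y.Opens := ⟨(f.base '' Z)ᶜ, (f.isClosedMap Z hZ).isOpen_compl⟩
  have h1 : IsZero ((GrothLib.OX.resD (f ⁻¹ᵁ T).ι).obj E) :=
    (GrothLib.OX.isZero_resD_iff_support _ E).2 fun j => (hE j).trans fun z hz hz' => by
      rw [Scheme.Opens.range_ι] at hz'
      exact hz' ⟨z, hz, rfl⟩
  haveI : (Scheme.Modules.pushforward (f ∣_ T)).Additive :=
    (Scheme.Modules.pullbackPushforwardAdjunction (f ∣_ T)).right_adjoint_additive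
  have h2 : IsZero ((GrothLib.OX.resD T.ι).obj ((DCoh.Rpush f).obj E)) :=
    ((GrothLib.OX.RR (f ∣_ T)).map_isZero h1).of_iso ((GrothLib.OX.resD T.ι).mapIso
      ((GrothLib.OX.rpushIsoRres f).app E) ≪≫ (GrothLib.OX.resDRRBaseChange f T).app E)
  refine ((GrothLib.OX.isZero_resD_iff_support _ _).1 h2 i).trans fun y hy => ?_
  rw [Scheme.Opens.range_ι] at hy
  exact not_not.1 hy

end Groth.Agent.S19620
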