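import Groth.Statements.S19621
import Groth.Agent.Lib.IndCof.Ind
import Groth.Agent.Lib.IndCof.Divisible

set_option autoImplicit false
universe v
open IndCof

namespace Groth.Agent.S19621

open CategoryTheory CategoryTheory.Limits in
/-- Let C be a small abelian category all of whose objects are Artinian and killed by some positive
integer, and A an ind-object of C of cofinite type (A[n] is isomorphic to an object of C for every n
≥ 1). Then the following are equivalent: (i) the inverse system of copies of A indexed by the
positive integers ordered by divisibility, with transition map from the m-th to the n-th copy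
multiplication by m/n, is Mittag-Leffler (for every n the images of these maps in the n-th copy are
eventually constant): A is divisibly ML; (ii) A has a divisible sub-object B' (multiplication by
every positive integer is an epimorphism of B') such that A/B' is isomorphic to an object of C;
(iii) multiplication by p on A is an epimorphism for all but finitely many primes p. (The published
statement phrases (ii) as: A modulo its divisible part lies in C, and (iii) as: the p-primary part
of A is divisible for almost all p; the divisible part is the largest divisible sub-object, and
multiplication by p on A is an epimorphism exactly when it is one on the p-primary part, the other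
primary parts being uniquely p-divisible.) -/
theorem result {C : Type v} [SmallCategory C] [Abelian C]
    (hart : ∀ X : C, IsArtinianObject X)
    (htor : ∀ X : C, ∃ n : ℕ, 0 < n ∧ n • 𝟙 X = 0)
    (A : Ind C) (hA : ∀ n : ℕ, 0 < n → (Ind.yoneda (C := C)).essImage (kernel (n • 𝟙 A))) :
    ((∀ n : ℕ, 0 < n → ∃ m : ℕ, 0 < m ∧ n ∣ m ∧ ∀ m' : ℕ, 0 < m' → m ∣ m' →
        imageSubobject ((m' / n) • 𝟙 A) = imageSubobject ((m / n) • 𝟙 A)) ↔
      ∃ B' : Subobject A, (∀ k : ℕ, 0 < k → Epi (k • 𝟙 (B' : Ind C))) ∧
        (Ind.yoneda (C := C)).essImage (cokernel B'.arrow)) ∧
    ((∃ B' : Subobject A, (∀ k : ℕ, 0 < k → Epi (k • 𝟙 (B' : Ind C))) ∧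
        (Ind.yoneda (C := C)).essImage (cokernel B'.arrow)) ↔
      {p : ℕ | p.Prime ∧ ¬ Epi (p • 𝟙 A)}.Finite) := by
  have hS := GrothLib.IndCof.setup hart htor
  exact hS.ml_iff_cof (hS.cof_iff.2 hA)

end Groth.Agent.S19621
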