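import Groth.Statements.S19624
-- import your own Groth.Agent.* helpers here
import Groth.Agent.Lib.LengthDet
import Mathlib.LinearAlgebra.Quotient.Pi

set_option autoImplicit false
universe u v
open IntTh

namespace Groth.Agent.S19624

/-- Let B be a discrete valuation ring with its normalised additive valuation v (so v(0) = ∞) and ω a
ring automorphism of B. For each i in a finite index set let M_i and N_i be free B-modules with
chosen bases indexed by one and the same finite type, and χ_i : M_i → N_i an additive map which is
ω-semilinear, χ_i(b·x) = ω(b)·χ_i(x); write A_i for the matrix of χ_i in the chosen bases. Then the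
length over B of the cokernel of the direct sum χ = ⊕_i χ_i : ⊕_i M_i → ⊕_i N_i (the quotient of ⊕_i
N_i by the submodule generated by the image of χ) equals v(∏_i det A_i); in particular both sides
are infinite exactly when some det A_i is zero. -/
theorem result {B : Type u} [CommRing B] [IsDomain B]
    [IsDiscreteValuationRing B] (ω : B ≃+* B) {n : ℕ} (r : Fin n → ℕ)
    (M N : Fin n → Type v) [∀ i, AddCommGroup (M i)] [∀ i, Module B (M i)]
    [∀ i, AddCommGroup (N i)] [∀ i, Module B (N i)]
    (bM : ∀ i, Module.Basis (Fin (r i)) B (M i)) (bN : ∀ i, Module.Basis (Fin (r i)) B (N i))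
    (χ : ∀ i, M i →+ N i) (hχ : ∀ i (b : B) (x : M i), χ i (b • x) = ω b • χ i x) :
    Module.length B ((∀ i, N i) ⧸ Submodule.span B (Set.range (fun (x : ∀ i, M i) (i : Fin n) => χ i (x i)))) =
      IsDiscreteValuationRing.addVal B (∏ i, Matrix.det
        (Matrix.of fun (a c : Fin (r i)) => (bN i).repr (χ i (bM i c)) a)) := by
  classical
  open GrothLib.LengthDet in
  let C : ∀ i, Matrix (Fin (r i)) (Fin (r i)) B :=
    fun i => Matrix.of fun (a c : Fin (r i)) => (bN i).repr (χ i (bM i c)) a
  have hlin : ∀ i (x : M i), (bN i).equivFun (χ i x) = (C i).mulVec (fun c => ω ((bM i).repr x c)) := by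
    intro i x
    conv_lhs => rw [← (bM i).sum_repr x]
    rw [map_sum, map_sum]
    funext a
    rw [Finset.sum_apply]
    refine Finset.sum_congr rfl fun c _ => ?_
    rw [hχ, map_smul]
    simp [C, mul_comm]
  have hrange : ∀ i (y : N i), (∃ x, χ i x = y) ↔ (bN i).equivFun y ∈ LinearMap.range (C i).mulVecLin := by
    intro i y
    constructor
    · rintro ⟨x, rfl⟩
      exact ⟨_, (hlin i x).symm⟩
    · rintro ⟨v, hv⟩
      refine ⟨(bM i).equivFun.symm fun c => ω.symm (v c), (bN i).equivFun.injective ?_⟩
      rw [hlin, ← hv, Matrix.mulVecLin_apply]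
      congr 1
      funext c
      rw [← Module.Basis.equivFun_apply, LinearEquiv.apply_symm_apply, RingEquiv.apply_symm_apply]
  let P : Submodule B (∀ i, N i) :=
    Submodule.pi Set.univ fun i => (LinearMap.range (C i).mulVecLin).comap (bN i).equivFun.toLinearMap
  have hP : Submodule.span B (Set.range (fun (x : ∀ i, M i) (i : Fin n) => χ i (x i))) = P := by
    refine le_antisymm (Submodule.span_le.mpr ?_) fun y hy => ?_
    · rintro _ ⟨x, rfl⟩ i -
      exact (hrange i _).mp ⟨x i, rfl⟩
    · choose x hx using fun i => (hrange i (y i)).mpr (hy i trivial)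
      exact Submodule.subset_span ⟨x, funext hx⟩
  have hsum : ∀ s : Finset (Fin n), IsDiscreteValuationRing.addVal B (∏ i ∈ s, (C i).det) =
      ∑ i ∈ s, IsDiscreteValuationRing.addVal B (C i).det := fun s => by
    induction s using Finset.induction_on with
    | empty => simp
    | insert a s ha ih => rw [Finset.prod_insert ha, AddValuation.map_mul, ih, Finset.sum_insert ha]
  rw [hP, (Submodule.quotientPi fun i =>
      (LinearMap.range (C i).mulVecLin).comap (bN i).equivFun.toLinearMap).length_eq, Module.length_pi_of_fintype]
  refine Eq.trans ?_ (hsum Finset.univ).symm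
  refine Finset.sum_congr rfl fun i _ => ?_
  rw [(Submodule.Quotient.equiv _ (LinearMap.range (C i).mulVecLin) (bN i).equivFun
      (Submodule.map_comap_eq_of_surjective (bN i).equivFun.surjective _)).length_eq]
  by_cases hd : (C i).det = 0
  · rw [hd, AddValuation.map_zero]
    by_contra hne
    have hbot : (⟨⊥, Ideal.isPrime_bot⟩ : PrimeSpectrum B) ∈ Module.support B (GrothLib.LengthDet.Coker (C i)) :=
      (GrothLib.LengthDet.mem_support_coker_iff (C i) _).mpr (by show (C i).det ∈ (⊥ : Ideal B); rw [hd]; exact Submodule.zero_mem _)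
    have hmax := GrothLib.LengthDet.isMaximal_of_mem_support (lt_top_iff_ne_top.mpr hne) _ hbot
    exact IsDiscreteValuationRing.not_a_field B (IsLocalRing.eq_maximalIdeal hmax).symm
  · rw [GrothLib.LengthDet.length_coker_eq _ (mem_nonZeroDivisors_of_ne_zero hd), ← Ring.ord_eq_addVal]
    rfl

end Groth.Agent.S19624
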