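import Groth.Statements.S19625
import Groth.Agent.Lib.CurveMult.SurfCurveDeg

set_option autoImplicit false
set_option linter.all false
universe u
open CategoryTheory CategoryTheory.Limits AlgebraicGeometry
open Surf

namespace Groth.Agent.S19625

/-- Let k be a field and S an integral surface (dimension two) which is smooth over k and projective (a
closed immersion into some P^n_k over k). Let i : C → S be the closed immersion of an integral curve
(dimension one) all of whose local rings are regular, with ideal sheaf I ⊆ O_S, and let N =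
Hom(i^*I, O_C) be the normal sheaf of C in S, the dual of the conormal sheaf i^*I (the sheaf Hom,
assumed to exist as the right adjoint of tensoring with i^*I). Then the self-intersection number
C·C, namely the intersection number of O_S(C) with itself computed as the alternating sum χ(O_S) −
2χ(I) + χ(I ⊗ I) with the inverse I = O_S(−C) of O_S(C) (packaged as FGA.intNum), equals the degree
of N on C, the degree of a module M on C being χ(M) − χ(O_C). -/
theorem result (k : Type u) [Field k] (S : Scheme.{u}) [S.Over (Spec (CommRingCat.of k))]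
    [IsIntegral S] (hdim : topologicalKrullDim S = 2) [Smooth (S ↘ (Spec (CommRingCat.of k)))]
    (hproj : ∃ (n : ℕ) (ι : S ⟶ CohB1.ProjSpace n k), IsClosedImmersion ι ∧ ι ≫ CohB1.ProjSpace.toSpec n k = (S ↘ (Spec (CommRingCat.of k))))
    (C : Scheme.{u}) (i : C ⟶ S) [IsClosedImmersion i] [IsIntegral C] (hC : topologicalKrullDim C = 1)
    (hCreg : ∀ c : C, IsRegularLocalRing (C.presheaf.stalk c))
    [DCoh.HasSheafHom (Omega.conormal i)] :
    letI : C.Over (Spec (CommRingCat.of k)) := ⟨i ≫ (S ↘ (Spec (CommRingCat.of k)))⟩
    FGA.intNum k S 2 ![ClSub.idealMod i.ker, ClSub.idealMod i.ker] (Coh.structureModule S) =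
      Curv2.deg k C ((DCoh.sheafHom (Omega.conormal i)).obj (Coh.structureModule C)) 1 := by
  letI : C.Over (Spec (CommRingCat.of k)) := ⟨i ≫ (S ↘ (Spec (CommRingCat.of k)))⟩
  obtain ⟨n, ι, hι, he⟩ := hproj
  haveI := hι
  haveI := GrothLib.HodgeIndex.isProper_of_proj ι he
  haveI : IsProper (C ↘ Spec (CommRingCat.of k)) := inferInstanceAs (IsProper (i ≫ _))
  have hA := GrothLib.HodgeIndex.isAmple_hyperplane ι
  haveI : IsIso i.toImage := inferInstance
  haveI : Nonempty i.ker.subscheme := (IsIntegral.nonempty (X := C)).map i.toImage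
  have hint : IsIntegral i.ker.subscheme := isIntegral_of_isOpenImmersion (inv i.toImage)
  have hd : topologicalKrullDim (i.ker.support : Set S) = 1 := by
    rw [← hC, ← Scheme.IdealSheafData.range_subschemeι]
    refine ((IsHomeomorph.topologicalKrullDim_eq _
      i.ker.subschemeι.isClosedEmbedding.isEmbedding.toHomeomorph.isHomeomorph).symm).trans ?_
    exact (IsHomeomorph.topologicalKrullDim_eq _ i.toImage.homeomorph.isHomeomorph).symm
  have hI := GrothLib.HodgeIndex.inv_curve k hdim hint hd
  rw [GrothLib.CurveMult.intNum_ker_eq k hdim hA i hC hI]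
  have hM : PicF.IsInvertible (Omega.conormal i) := GrothLib.Ample.isInvertible_pullback i hI
  obtain ⟨hN, ⟨t⟩⟩ := GrothLib.CurveMult.exists_iso_tensor_sheafHom hM
  have h := GrothLib.CurveMult.deg_tensorMod k (X := C) hC.le hM hN
  rw [GrothLib.Euler.deg_of_iso k t, GrothLib.Euler.deg_structure k] at h
  have h2 : Curv2.deg k C ((Scheme.Modules.pullback i).obj (ClSub.idealMod i.ker)) 1 =
      Curv2.deg k C (Omega.conormal i) 1 := rfl
  linarith

end Groth.Agent.S19625
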