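import Groth.Statements.S19628
import Groth.Agent.S15295


set_option autoImplicit false
set_option linter.all false
set_option maxHeartbeats 800000
set_option backward.isDefEq.respectTransparency false
universe u
open DeRham

namespace Groth.Agent.S19628


open TensorProduct

theorem span_image_eq_range {k K M N : Type u} [CommRing k] [CommRing K] [Algebra k K] [AddCommGroup M]
    [Module k M] [AddCommGroup N] [Module K N] [Module k N] [IsScalarTower k K N]
    (l : M →ₗ[k] N) (S : Submodule k M) :
    Submodule.span K (l '' (S : Set M)) = LinearMap.range (((l.liftBaseChange K)).comp (S.subtype.baseChange K)) := by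
  have e : (l.liftBaseChange K).comp (S.subtype.baseChange K) = (l.comp S.subtype).liftBaseChange K := by
    ext x; simp
  rw [e, LinearMap.range_liftBaseChange, LinearMap.range_comp, Submodule.range_subtype, Submodule.map_coe]


open exteriorPower in
/-- In the affine case, at ring level, let k ⊆ K be an extension of fields of characteristic zero, A a
smooth k-algebra and A' = K ⊗_k A (a pushout square of commutative rings with the scalar-tower
conventions). Let d be the de Rham differential of A over k, d' that of A' over K, and ψ the map of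
de Rham complexes induced by A → A', assumed compatible with d and d'. Then for every p the K-span
of ψ(closed p-forms of A/k) is the module of closed p-forms of A'/K, and the K-span of ψ(exact
p-forms of A/k) is the module of exact p-forms of A'/K. Together with the degreewise base-change
bijection for exterior powers of differentials, this says that the natural map H^p_dR(A/k) ⊗_k K →
H^p_dR(A'/K) is an isomorphism. (The source states the isomorphism H^i_dR(X) ⊗_k K ≅ H^i_dR(X_K) for
a smooth variety X, induced by a quasi-isomorphism of complexes; this row is the case of an affine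
X, phrased through closed and exact forms.) -/
theorem result
    (k K : Type u) [Field k] [Field K] [CharZero k] [Algebra k K]
    (A A' : Type u) [CommRing A] [CommRing A'] [Algebra k A] [Algebra.Smooth k A]
    [Algebra A A'] [Algebra k A'] [IsScalarTower k A A'] [Algebra K A'] [IsScalarTower k K A']
    [Algebra.IsPushout k K A A']
    (d : ∀ p : ℕ, ↥(⋀[A]^p (Ω[A⁄k])) →ₗ[k] ↥(⋀[A]^(p + 1) (Ω[A⁄k])))
    (hd : DeRham.IsDiff (KaehlerDifferential.D k A) d)
    (d' : ∀ p : ℕ, ↥(⋀[A']^p (Ω[A'⁄K])) →ₗ[K] ↥(⋀[A']^(p + 1) (Ω[A'⁄K])))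
    (hd' : DeRham.IsDiff (KaehlerDifferential.D K A') d')
    (ψ : ∀ p : ℕ, ↥(⋀[A]^p (Ω[A⁄k])) →+ ↥(⋀[A']^p (Ω[A'⁄K])))
    (hψ : DeRham.IsCxMap (KaehlerDifferential.D k A) (KaehlerDifferential.D K A') (algebraMap A A') ψ)
    (hcomm : ∀ (p : ℕ) (x : ↥(⋀[A]^p (Ω[A⁄k]))), ψ (p + 1) (d p x) = d' p (ψ p x))
    (p : ℕ) :
    Submodule.span K (ψ p '' (DeRham.cocycles d p : Set ↥(⋀[A]^p (Ω[A⁄k])))) = DeRham.cocycles d' p ∧
      Submodule.span K (ψ p '' (DeRham.coboundaries d p : Set ↥(⋀[A]^p (Ω[A⁄k])))) =
        DeRham.coboundaries d' p := by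
  classical
  haveI htow : ∀ q : ℕ, IsScalarTower k K ↥(⋀[A']^q (Ω[A'⁄K])) := fun q =>
    IsScalarTower.of_algebraMap_smul fun c x => by
      rw [← algebraMap_smul A' (algebraMap k K c) x, ← IsScalarTower.algebraMap_apply, algebraMap_smul]
  have hlin : ∀ (q : ℕ) (c : k) (x : ↥(⋀[A]^q (Ω[A⁄k]))), ψ q (c • x) = c • ψ q x := by
    intro q c x
    have h := DRFam.hom_ext (KaehlerDifferential.D k A) (DRFam.span_D k A) (p := q)
      ((ψ q).comp (DistribMulAction.toAddMonoidHom _ c)) ((DistribMulAction.toAddMonoidHom _ c).comp (ψ q))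
      fun a b => by
        show ψ q (c • (a • _)) = c • ψ q (a • _)
        have e := hψ q a b
        have e' := hψ q (c • a) b
        simp only [DeRham.gen] at e e'
        rw [← smul_assoc, e', e, Algebra.smul_def, map_mul, mul_smul, ← IsScalarTower.algebraMap_apply,
          IsScalarTower.algebraMap_apply k K A', algebraMap_smul]
        exact algebraMap_smul K c _
    exact DFunLike.congr_fun h x
  let ψl : ∀ q : ℕ, ↥(⋀[A]^q (Ω[A⁄k])) →ₗ[k] ↥(⋀[A']^q (Ω[A'⁄K])) := fun q =>
    { toFun := ψ q
      map_add' := map_add _
      map_smul' := hlin q }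
  have hbij : ∀ q, Function.Bijective ((ψl q).liftBaseChange K) := fun q =>
    Groth.Agent.S15295.result k K A A' ψ hψ q ((ψl q).liftBaseChange K).toAddMonoidHom fun s x => rfl
  have hsq : ∀ q, (d' q).comp ((ψl q).liftBaseChange K) = ((ψl (q + 1)).liftBaseChange K).comp ((d q).baseChange K) := by
    intro q
    ext x
    simp only [LinearMap.coe_comp, Function.comp_apply, AlgebraTensorModule.curry_apply, TensorProduct.curry_apply,
      LinearMap.coe_restrictScalars, LinearMap.liftBaseChange_tmul, LinearMap.baseChange_tmul, one_smul]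
    exact congrArg Subtype.val (hcomm q x).symm
  have him : ∀ (q : ℕ) (S : Submodule k ↥(⋀[A]^q (Ω[A⁄k]))),
      Submodule.span K (ψ q '' (S : Set ↥(⋀[A]^q (Ω[A⁄k])))) =
        (LinearMap.range (S.subtype.baseChange K)).map ((ψl q).liftBaseChange K) := fun q S => by
    rw [← LinearMap.range_comp, ← span_image_eq_range]
    rfl
  refine ⟨?_, ?_⟩
  · rw [DeRham.cocycles, DeRham.cocycles, him,
      show LinearMap.range ((LinearMap.ker (d p)).subtype.baseChange K) = LinearMap.ker ((d p).baseChange K) from
        (Module.Flat.ker_lTensor_eq K K (d p)).symm]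
    refine le_antisymm ?_ fun y hy => ?_
    · rintro _ ⟨z, hz, rfl⟩
      rw [LinearMap.mem_ker, ← LinearMap.comp_apply, hsq, LinearMap.comp_apply,
        LinearMap.mem_ker.1 hz, map_zero]
    · obtain ⟨z, rfl⟩ := (hbij p).2 y
      refine ⟨z, LinearMap.mem_ker.2 ((hbij (p + 1)).1 ?_), rfl⟩
      rw [map_zero, ← LinearMap.comp_apply, ← hsq, LinearMap.comp_apply]
      exact LinearMap.mem_ker.1 hy
  · cases p with
    | zero =>
      simp only [DeRham.coboundaries]
      refine le_antisymm (Submodule.span_le.2 ?_) bot_le
      rintro _ ⟨x, hx, rfl⟩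
      rw [SetLike.mem_coe, Submodule.mem_bot] at hx ⊢
      rw [hx, map_zero]
    | succ q =>
      simp only [DeRham.coboundaries]
      rw [him, show LinearMap.range ((LinearMap.range (d q)).subtype.baseChange K) = LinearMap.range ((d q).baseChange K) from ?_,
        ← LinearMap.range_comp, ← hsq, LinearMap.range_comp_of_range_eq_top _ (LinearMap.range_eq_top.2 (hbij q).2)]
      conv_rhs => rw [show d q = (LinearMap.range (d q)).subtype.comp (d q).rangeRestrict from
        LinearMap.ext fun _ => rfl, LinearMap.baseChange_comp]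
      refine (LinearMap.range_comp_of_range_eq_top _ (LinearMap.range_eq_top.2 ?_)).symm
      exact LinearMap.lTensor_surjective K (d q).surjective_rangeRestrict

end Groth.Agent.S19628
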