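import Groth.Statements.S19630
import Mathlib
import Groth.Agent.Lib.DeRhamFam.Basic

set_option autoImplicit false
universe u
open DeRham

namespace Groth.Agent.S19630

open exteriorPower in
/-- In the affine case, at ring level, let k ⊆ K be a finite extension of fields of characteristic zero
and B a smooth K-algebra, so that Y = Spec B is a smooth affine variety over K which may also be
regarded over k. Let ψ be the map of de Rham complexes from Ω•_{B/k} to Ω•_{B/K} induced by the
identity of B. Then ψ is bijective in every degree: the de Rham complex of Y over k and over K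
coincide, and hence the natural map H^i_dR(Y/k) → H^i_dR(Y/K) is an isomorphism. (The source states
the isomorphism on de Rham cohomology for any smooth variety Y over K, through the equality of the
two de Rham complexes; this row is that equality for affine Y.) -/
theorem result
    (k K : Type u) [Field k] [Field K] [CharZero k] [Algebra k K] [Module.Finite k K]
    (B : Type u) [CommRing B] [Algebra K B] [Algebra k B] [IsScalarTower k K B] [Algebra.Smooth K B]
    (ψ : ∀ p : ℕ, ↥(⋀[B]^p (Ω[B⁄k])) →+ ↥(⋀[B]^p (Ω[B⁄K])))
    (hψ : DeRham.IsCxMap (KaehlerDifferential.D k B) (KaehlerDifferential.D K B) (RingHom.id B) ψ)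
    (p : ℕ) :
    Function.Bijective (ψ p) := by
  haveI : Algebra.IsSeparable k K := Algebra.IsAlgebraic.isSeparable_of_perfectField
  haveI : Algebra.FormallyUnramified k K := Algebra.FormallyUnramified.of_isSeparable k K
  haveI : Subsingleton (Ω[K⁄k]) := inferInstance
  have hinj : Function.Injective (KaehlerDifferential.map k K B B) := by
    rw [injective_iff_map_eq_zero]
    intro z hz
    obtain ⟨y, rfl⟩ := (KaehlerDifferential.exact_mapBaseChange_map k K B z).1 hz
    rw [Subsingleton.elim y 0, map_zero]
  let e : Ω[B⁄k] ≃ₗ[B] Ω[B⁄K] := LinearEquiv.ofBijective (KaehlerDifferential.map k K B B)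
    ⟨hinj, KaehlerDifferential.map_surjective k K B⟩
  have hψ' : ψ p = (exteriorPower.map p e.toLinearMap).toAddMonoidHom := by
    refine DRFam.hom_ext (KaehlerDifferential.D k B) (DRFam.span_D k B) _ _ fun a b => ?_
    refine (hψ p a b).trans ?_
    show DeRham.gen _ p a b = exteriorPower.map p e.toLinearMap (a • _)
    rw [map_smul, exteriorPower.map_apply_ιMulti, DeRham.gen]
    congr 2
    funext i
    exact (KaehlerDifferential.map_D k K B B (b i)).symm
  rw [hψ']
  refine ⟨exteriorPower.map_injective e.symm.toLinearMap ?_, exteriorPower.map_surjective e.surjective⟩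
  exact LinearMap.ext fun x => e.symm_apply_apply x

end Groth.Agent.S19630
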