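import Groth.Statements.S19631
import Groth.Agent.Lib.CoskFin25.Basic
import Mathlib.AlgebraicTopology.CechNerve
-- import your own Groth.Agent.* helpers here

set_option autoImplicit false
universe u
open Hyper

namespace Groth.Agent.S19631

open CategoryTheory CategoryTheory.Limits AlgebraicGeometry in
/-- Let f : X → Y be a morphism of schemes and X_• = cosk_0^Y(X) its Čech nerve, the simplicial scheme
over Y with X_p = X ×_Y ⋯ ×_Y X (p + 1 factors), face maps the projections forgetting one factor and
degeneracies induced by diagonals. Then X_•, as a simplicial object of the category of schemes over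
Y, is n-coskeletal for every n, i.e. the adjunction morphisms X_• → cosk_n sk_n X_• (coskeleta
relative to Y) are isomorphisms. In the source this is phrased as: for a class S of covering maps of
varieties containing the identities, X_• → Y is an S-hypercover whenever X → Y lies in S, the
adjunction maps X_p → (cosk_{p-1} sk_{p-1} X_•)_p being isomorphisms for p ≥ 1 and X_0 → Y being f.
(Stated for arbitrary schemes; the source has varieties over a field.) -/
theorem result (X Y : Scheme.{u}) (f : X ⟶ Y) (n : ℕ) :
    SimplicialObject.IsCoskeletal (cechNerveTerminalFrom (Over.mk f)) n := by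
  have key : ∀ {C : Type (u + 1)} [Category.{u} C] [HasFiniteLimits C] (Z : C),
      SimplicialObject.IsCoskeletal (cechNerveTerminalFrom Z) 0 := by
    intro C _ _ Z
    let U := cechNerveTerminalFrom Z
    let j0 : SimplexCategory.Truncated 0 := ⟨SimplexCategory.mk 0, le_rfl⟩
    refine ⟨Functor.RightExtension.IsPointwiseRightKanExtension.isRightKanExtension
      (E := Functor.RightExtension.mk U (𝟙 _)) (fun k => ?_)⟩
    let A : Fin (k.unop.len + 1) → StructuredArrow k (SimplexCategory.Truncated.inclusion 0).op := fun i =>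
      StructuredArrow.mk (Y := Opposite.op j0)
        ((SimplexCategory.const (SimplexCategory.mk 0) k.unop i).op : k ⟶ Opposite.op (SimplexCategory.mk 0))
    refine { lift := fun s => Pi.lift fun i => s.π.app (A i) ≫ Pi.π (fun _ : Fin (0 + 1) => Z) 0,
             fac := fun s B => ?_, uniq := fun s m hm => ?_ }
    · obtain ⟨⟨⟨⟩⟩, ⟨⟨⟨b⟩, hb⟩⟩, g⟩ := B
      obtain rfl : b = 0 := Nat.le_zero.1 hb
      refine Pi.hom_ext _ _ fun (i : Fin 1) => ?_
      obtain rfl : i = 0 := Fin.fin_one_eq_zero _
      change ((Pi.lift _ ≫ U.map g ≫ 𝟙 _) ≫ Pi.π (fun _ : Fin (0 + 1) => Z) 0 = _)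
      rw [Category.comp_id, Category.assoc]
      change Pi.lift _ ≫ Pi.lift _ ≫ Pi.π _ _ = _
      rw [Pi.lift_π, Pi.lift_π]
      have hg : (SimplexCategory.const (SimplexCategory.mk 0) k.unop (g.unop.toOrderHom 0)).op = g := by
        apply Quiver.Hom.unop_inj
        ext x : 3
        exact congrArg _ (Fin.fin_one_eq_zero _).symm
      have e : A (g.unop.toOrderHom 0) = StructuredArrow.mk (Y := Opposite.op j0) g := by
        change StructuredArrow.mk _ = _
        rw [hg]
      let φ : A (g.unop.toOrderHom 0) ⟶ StructuredArrow.mk g :=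
        StructuredArrow.homMk (𝟙 _) (by
          exact (Category.comp_id _).trans hg)
      have hw := s.w φ
      refine Eq.trans ?_ (congrArg (· ≫ Pi.π (fun _ : Fin (0 + 1) => Z) 0) hw)
      refine congrArg (· ≫ Pi.π (fun _ : Fin (0 + 1) => Z) 0) ?_
      exact ((congrArg (s.π.app _ ≫ ·) ((congrArg U.map (CategoryTheory.Functor.map_id _ _)).trans (U.map_id _))).trans (Category.comp_id _)).symm
    · refine Pi.hom_ext _ _ fun i => ?_
      rw [Pi.lift_π, ← hm (A i)]
      change _ = (m ≫ U.map (SimplexCategory.const (SimplexCategory.mk 0) k.unop i).op ≫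
        𝟙 (∏ᶜ fun _ : Fin (0 + 1) => Z)) ≫ Pi.π (fun _ : Fin (0 + 1) => Z) 0
      refine Eq.trans ?_ (congrArg (fun t => (m ≫ t) ≫ Pi.π (fun _ : Fin (0 + 1) => Z) 0) (Category.comp_id _)).symm
      refine ((Category.assoc _ _ _).trans (congrArg (m ≫ ·) ?_)).symm
      exact Pi.lift_π _ _
  have : HasFiniteLimits (Over Y) := hasFiniteLimits_of_hasTerminal_and_pullbacks
  have := key (Over.mk f)
  exact GrothLib.CoskFin25.isCoskeletal_of_le _ (Nat.zero_le n)

end Groth.Agent.S19631
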