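import Groth.Statements.S19632
import Mathlib

set_option autoImplicit false
universe u
open DeRham

namespace Groth.Agent.S19632

variable (k : Type u) [Field k]

/-- The Euler operator t d/dt. -/
noncomputable def eulerL : LaurentPolynomial k →ₗ[k] LaurentPolynomial k :=
  (AddMonoidAlgebra.coeffLinearEquiv k).symm.toLinearMap ∘ₗ
    (Finsupp.lsum k fun n : ℤ => (n : k) • Finsupp.lsingle n) ∘ₗ
    (AddMonoidAlgebra.coeffLinearEquiv k).toLinearMap

lemma eulerL_single (m : ℤ) (c : k) :
    eulerL k (AddMonoidAlgebra.single m c) = AddMonoidAlgebra.single m ((m : k) * c) := by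
  ext n
  simp [eulerL, Finsupp.single_apply, -LaurentPolynomial.single_eq_C_mul_T]

noncomputable def euler : Derivation k (LaurentPolynomial k) (LaurentPolynomial k) :=
  Derivation.mk' (eulerL k) fun a b => by
    induction a using LaurentPolynomial.induction_on' with
    | add p q hp hq => rw [add_mul, map_add, map_add, hp, hq]; simp only [smul_eq_mul]; ring
    | C_mul_T m c =>
      induction b using LaurentPolynomial.induction_on' with
      | add p q hp hq => rw [mul_add, map_add, map_add, hp, hq]; simp only [smul_eq_mul]; ring
      | C_mul_T n d =>
        simp only [← LaurentPolynomial.single_eq_C_mul_T, smul_eq_mul, AddMonoidAlgebra.single_mul_single,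
          eulerL_single, add_comm n m, ← AddMonoidAlgebra.single_add]
        congr 1
        push_cast
        ring

lemma euler_coeff (f : LaurentPolynomial k) (n : ℤ) : (euler k f).coeff n = (n : k) * f.coeff n := by
  induction f using LaurentPolynomial.induction_on' with
  | add p q hp hq => simp only [map_add, AddMonoidAlgebra.coeff_add, Finsupp.add_apply, hp, hq]; ring
  | C_mul_T m c =>
    simp only [← LaurentPolynomial.single_eq_C_mul_T]
    rw [show euler k (AddMonoidAlgebra.single m c) = _ from eulerL_single k m c]
    by_cases h : m = n <;> simp [h, -LaurentPolynomial.single_eq_C_mul_T]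


/-- Let k be a field of characteristic zero and G_m = Spec k[t, t⁻¹] the multiplicative group. The
kernel of the differential d : k[t, t⁻¹] → Ω¹ of the de Rham complex of G_m consists of the
constants: for a Laurent polynomial f, df = 0 if and only if f lies in the image of k. Equivalently
H^0_dR(G_m/k) = k. (Characteristic zero is used: in characteristic p the element t^p is closed.) -/
theorem result (k : Type u) [Field k] [CharZero k]
    (f : LaurentPolynomial k) :
    KaehlerDifferential.D k (LaurentPolynomial k) f = 0 ↔ f ∈ Set.range (algebraMap k (LaurentPolynomial k)) := by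
  constructor
  · intro h
    have h2 : euler k f = 0 := by
      rw [← Derivation.liftKaehlerDifferential_comp_D (euler k) f, h, map_zero]
    refine ⟨f.coeff 0, ?_⟩
    ext n
    have hn := congrArg (fun g : LaurentPolynomial k => g.coeff n) h2
    rw [euler_coeff] at hn
    rcases eq_or_ne n 0 with rfl | hn0
    · show (AddMonoidAlgebra.single 0 (f.coeff 0)).coeff 0 = _
      simp [-LaurentPolynomial.single_eq_C_mul_T]
    · have : f.coeff n = 0 := by simpa [hn0] using hn
      show (AddMonoidAlgebra.single 0 (f.coeff 0)).coeff n = _
      simp [-LaurentPolynomial.single_eq_C_mul_T, hn0.symm, this]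
  · rintro ⟨c, rfl⟩
    exact Derivation.map_algebraMap _ c

end Groth.Agent.S19632
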