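import Groth.Statements.S19633
import Mathlib.Algebra.Polynomial.Laurent
import Mathlib.Algebra.MonoidAlgebra.Module
-- import your own Groth.Agent.* helpers here

set_option autoImplicit false
universe u
open DeRham

namespace Groth.Agent.S19633

noncomputable section

open LaurentPolynomial (T C)

variable (k : Type u) [Field k]

local notation "AA" => LaurentPolynomial k
local notation "ΩA" => Ω[LaurentPolynomial k⁄k]
local notation "𝔇" => KaehlerDifferential.D k (LaurentPolynomial k)

/-- The derivative of Laurent polynomials. -/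
def derivL : AA →ₗ[k] AA :=
  (Finsupp.lsum k fun n : ℤ => LinearMap.toSpanSingleton k AA ((n : k) • T (n - 1))) ∘ₗ
    (AddMonoidAlgebra.coeffLinearEquiv k).toLinearMap

theorem C_mul_T (a : k) (n : ℤ) : C a * T n = (a • T n : AA) := (LaurentPolynomial.smul_eq_C_mul a _).symm

theorem derivL_T (n : ℤ) : derivL k (T n) = (n : k) • T (n - 1) := by
  show Finsupp.lsum k _ (Finsupp.single n (1 : k)) = _
  rw [Finsupp.lsum_single]
  simp

theorem derivL_mul (f g : AA) : derivL k (f * g) = f • derivL k g + g • derivL k f := by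
  induction f using LaurentPolynomial.induction_on' with
  | add p q hp hq => rw [add_mul, map_add, map_add, hp, hq, smul_add, add_smul]; abel
  | C_mul_T n a =>
    induction g using LaurentPolynomial.induction_on' with
    | add p q hp hq => rw [mul_add, map_add, map_add, hp, hq, smul_add, add_smul]; abel
    | C_mul_T m b =>
      simp only [C_mul_T, smul_eq_mul, smul_mul_assoc, mul_smul_comm, map_smul, derivL_T,
        ← LaurentPolynomial.T_add, smul_smul]
      rw [show m + (n - 1) = m + n - 1 by ring, show n + (m - 1) = n + m - 1 by ring,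
        show m + n = n + m by ring, ← add_smul]
      congr 1
      push_cast
      ring

/-- The derivation `d/dt`. -/
def derivD : Derivation k AA AA where
  toLinearMap := derivL k
  map_one_eq_zero' := by
    rw [← LaurentPolynomial.T_zero]
    show derivL k (T 0) = 0
    rw [derivL_T]; simp
  leibniz' := derivL_mul k

/-- The coefficient of `dt`. -/
def φ : ΩA →ₗ[AA] AA := (derivD k).liftKaehlerDifferential

theorem φ_D (f : AA) : φ k (𝔇 f) = derivL k f := Derivation.liftKaehlerDifferential_comp_D _ f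

theorem D_T_one : φ k (𝔇 (T 1)) = 1 := by rw [φ_D, derivL_T]; simp

theorem D_T_nat (n : ℕ) : 𝔇 (T (n : ℤ)) = ((n : k) • (T ((n : ℤ) - 1) : AA)) • 𝔇 (T 1) := by
  induction n with
  | zero => simp
  | succ n ih =>
    rw [Nat.cast_succ, LaurentPolynomial.T_add, Derivation.leibniz, ih, smul_smul, ← add_smul]
    congr 1
    rw [mul_smul_comm, ← LaurentPolynomial.T_add, show (1 : ℤ) + ((n : ℤ) - 1) = n by ring,
      add_sub_cancel_right, Nat.cast_succ, add_smul, one_smul, add_comm]

theorem D_T (n : ℤ) : 𝔇 (T n) = derivL k (T n) • 𝔇 (T 1) := by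
  rw [derivL_T]
  obtain ⟨m, rfl | rfl⟩ := Int.eq_nat_or_neg n
  · rw [D_T_nat]; simp
  · have h1 : 𝔇 (T (-(m : ℤ)) * T (m : ℤ) : AA) = 0 := by
      rw [← LaurentPolynomial.T_add, neg_add_cancel, LaurentPolynomial.T_zero, Derivation.map_one_eq_zero]
    rw [Derivation.leibniz, D_T_nat] at h1
    have h2 := congrArg (fun x => (T (-(m : ℤ)) : AA) • x) h1
    simp only [smul_add, smul_smul, smul_zero, mul_smul_comm, ← LaurentPolynomial.T_add, neg_add_cancel,
      LaurentPolynomial.T_zero, one_smul] at h2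
    rw [add_comm, add_eq_zero_iff_eq_neg] at h2
    rw [h2, ← neg_smul]
    congr 1
    push_cast
    rw [neg_smul]
    congr 2
    ring_nf

theorem D_eq (f : AA) : 𝔇 f = derivL k f • 𝔇 (T 1) := by
  induction f using LaurentPolynomial.induction_on' with
  | add p q hp hq => rw [map_add, map_add, hp, hq, add_smul]
  | C_mul_T n a => rw [C_mul_T, Derivation.map_smul, map_smul, D_T, smul_assoc]

theorem eq_smul (x : ΩA) : x = φ k x • 𝔇 (T 1) := by
  have hx : x ∈ Submodule.span AA (Set.range 𝔇) := by
    rw [KaehlerDifferential.span_range_derivation]; trivial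
  induction hx using Submodule.span_induction with
  | mem x hx => obtain ⟨f, rfl⟩ := hx; rw [φ_D]; exact D_eq k f
  | zero => simp
  | add a b _ _ ha hb => rw [map_add, add_smul, ← ha, ← hb]
  | smul a b _ hb => rw [map_smul, smul_eq_mul, ← smul_smul, ← hb]

theorem subsingleton_ext (p : ℕ) : ∀ x : ↥(⋀[AA]^(p + 2) ΩA), x = 0 := by
  have hz : ∀ v : Fin (p + 2) → ΩA, exteriorPower.ιMulti AA (p + 2) v = 0 := fun v => by
    have e : v = fun i => φ k (v i) • (fun _ : Fin (p + 2) => 𝔇 (T 1)) i := funext fun i => eq_smul k (v i)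
    rw [e]
    exact ((exteriorPower.ιMulti AA (p + 2)).toMultilinearMap.map_smul_univ _ _).trans (by
      rw [show (exteriorPower.ιMulti AA (p + 2)).toMultilinearMap (fun _ : Fin (p + 2) => 𝔇 (T 1)) = 0 from
        (exteriorPower.ιMulti AA (p + 2)).map_eq_zero_of_eq _ (i := 0) (j := 1) rfl (by simp), smul_zero])
  intro x
  have hx : x ∈ Submodule.span AA (Set.range (exteriorPower.ιMulti AA (p + 2) (M := ΩA))) := by
    rw [exteriorPower.ιMulti_span]; trivial
  induction hx using Submodule.span_induction with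
  | mem x hx => obtain ⟨v, rfl⟩ := hx; exact hz v
  | zero => rfl
  | add a b _ _ ha hb => rw [ha, hb, add_zero]
  | smul a b _ hb => rw [hb, smul_zero]

/-- One-forms as Laurent polynomials. -/
def Φ : ↥(⋀[AA]^1 ΩA) →ₗ[AA] AA := φ k ∘ₗ (exteriorPower.oneEquiv AA ΩA).toLinearMap

theorem Φ_injective : Function.Injective (Φ k) := fun x y h => by
  refine (exteriorPower.oneEquiv AA ΩA).injective ?_
  rw [eq_smul k (exteriorPower.oneEquiv AA ΩA x), eq_smul k (exteriorPower.oneEquiv AA ΩA y)]
  exact congrArg (fun a => a • 𝔇 (T 1)) h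

theorem coeff_derivL (f : AA) : (derivL k f).coeff (-1) = 0 := by
  induction f using LaurentPolynomial.induction_on' with
  | add p q hp hq => rw [map_add, AddMonoidAlgebra.coeff_add, Finsupp.add_apply, hp, hq, add_zero]
  | C_mul_T n a =>
    rw [C_mul_T, map_smul, derivL_T, smul_smul, AddMonoidAlgebra.coeff_smul, Finsupp.smul_apply,
      LaurentPolynomial.T_apply]
    by_cases h : n = 0 <;> simp [h, show ¬ (n - 1 = -1) ↔ n ≠ 0 by omega]

theorem exists_primitive [CharZero k] (f : AA) :
    ∃ g, derivL k g = f - f.coeff (-1) • T (-1) := by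
  induction f using LaurentPolynomial.induction_on' with
  | add p q hp hq =>
    obtain ⟨g₁, h₁⟩ := hp
    obtain ⟨g₂, h₂⟩ := hq
    exact ⟨g₁ + g₂, by rw [map_add, h₁, h₂, AddMonoidAlgebra.coeff_add, Finsupp.add_apply, add_smul]; abel⟩
  | C_mul_T n a =>
    rw [C_mul_T, AddMonoidAlgebra.coeff_smul, Finsupp.smul_apply, LaurentPolynomial.T_apply]
    by_cases h : n = -1
    · exact ⟨0, by subst h; simp⟩
    · refine ⟨(a * ((n : k) + 1)⁻¹) • T (n + 1), ?_⟩
      have hne : ((n : k) + 1) ≠ 0 := by
        exact_mod_cast fun e : n + 1 = 0 => h (by omega)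
      rw [map_smul, derivL_T, smul_smul, add_sub_cancel_right]
      push_cast
      rw [mul_assoc, inv_mul_cancel₀ hne, mul_one, if_neg h, smul_zero, zero_smul, sub_zero]

end


/-- Let k be a field of characteristic zero, G_m = Spec k[t, t⁻¹], and d the de Rham differential of
k[t, t⁻¹] over k. Then: every 1-form is closed; the exact 1-forms and the k-line spanned by t⁻¹ dt
are complementary subspaces of the 1-forms, and t⁻¹ dt is not exact — so H^1_dR(G_m/k) is
one-dimensional, generated by the class of dt/t (the isomorphism with k being the residue); and for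
every i ≥ 2 the closed i-forms are exact, so H^i_dR(G_m/k) = 0 for i > 1. (Characteristic zero is
used in the computation of the exact forms.) -/
theorem result (k : Type u) [Field k] [CharZero k]
    (d : ∀ p : ℕ, ↥(⋀[LaurentPolynomial k]^p (Ω[LaurentPolynomial k⁄k])) →ₗ[k] ↥(⋀[LaurentPolynomial k]^(p + 1) (Ω[LaurentPolynomial k⁄k])))
    (hd : DeRham.IsDiff (KaehlerDifferential.D k (LaurentPolynomial k)) d) :
    DeRham.cocycles d 1 = ⊤ ∧
    IsCompl (DeRham.coboundaries d 1)
      (Submodule.span k {DeRham.gen (KaehlerDifferential.D k (LaurentPolynomial k)) 1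
        (LaurentPolynomial.T (-1)) (fun _ => LaurentPolynomial.T 1)}) ∧
    DeRham.gen (KaehlerDifferential.D k (LaurentPolynomial k)) 1
        (LaurentPolynomial.T (-1)) (fun _ => LaurentPolynomial.T 1) ∉ DeRham.coboundaries d 1 ∧
    ∀ i : ℕ, DeRham.cocycles d (i + 2) ≤ DeRham.coboundaries d (i + 2) := by
  have hΦ : ∀ (c : k) (x : ↥(⋀[LaurentPolynomial k]^1 (Ω[LaurentPolynomial k⁄k]))), Φ k (c • x) = c • Φ k x :=
    fun c x => LinearMap.map_smul_of_tower _ c x
  let g1 := DeRham.gen (KaehlerDifferential.D k (LaurentPolynomial k)) 1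
        (LaurentPolynomial.T (-1)) (fun _ => LaurentPolynomial.T 1)
  have hg1 : Φ k g1 = LaurentPolynomial.T (-1) := by
    simp only [g1, DeRham.gen, map_smul, Φ, LinearMap.comp_apply, LinearEquiv.coe_coe,
      exteriorPower.oneEquiv_ιMulti, D_T_one, smul_eq_mul, mul_one]
  have hd0 : ∀ b : LaurentPolynomial k,
      Φ k (d 0 (DeRham.gen (KaehlerDifferential.D k (LaurentPolynomial k)) 0 b ![])) = derivL k b := fun b => by
    rw [hd.1 0 b ![]]
    exact (congrArg (φ k) (exteriorPower.oneEquiv_ιMulti _)).trans (φ_D k b)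
  have hdx : ∀ y, ∃ b, Φ k (d 0 y) = derivL k b := fun y => by
    obtain ⟨b, hb⟩ : ∃ b : LaurentPolynomial k,
        y = DeRham.gen (KaehlerDifferential.D k (LaurentPolynomial k)) 0 b ![] := by
      refine ⟨exteriorPower.zeroEquiv _ _ y, (exteriorPower.zeroEquiv _ _).injective ?_⟩
      rw [DeRham.gen, map_smul, exteriorPower.zeroEquiv_ιMulti, smul_eq_mul, mul_one]
    exact ⟨b, hb ▸ hd0 b⟩
  have hnot : ∀ c : k, c • g1 ∈ DeRham.coboundaries d 1 → c = 0 := fun c hc => by
    obtain ⟨y, hy⟩ := hc
    obtain ⟨b, hb⟩ := hdx y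
    rw [hy, hΦ, hg1] at hb
    have := coeff_derivL k b
    rw [← hb, AddMonoidAlgebra.coeff_smul, Finsupp.smul_apply, LaurentPolynomial.T_apply, if_pos rfl] at this
    simpa using this
  refine ⟨eq_top_iff.2 fun x _ => LinearMap.mem_ker.2 (subsingleton_ext k 0 _), IsCompl.of_eq ?_ ?_, ?_, ?_⟩
  · refine eq_bot_iff.2 fun x hx => ?_
    obtain ⟨hx1, hx2⟩ := Submodule.mem_inf.1 hx
    obtain ⟨c, rfl⟩ := Submodule.mem_span_singleton.1 hx2
    rw [hnot c hx1, zero_smul]
    exact zero_mem _
  · refine eq_top_iff.2 fun x _ => ?_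
    obtain ⟨b, hb⟩ := exists_primitive k (Φ k x)
    refine Submodule.mem_sup.2 ⟨d 0 (DeRham.gen (KaehlerDifferential.D k (LaurentPolynomial k)) 0 b ![]), ⟨_, rfl⟩, _,
      Submodule.smul_mem _ ((Φ k x).coeff (-1)) (Submodule.mem_span_singleton_self g1), Φ_injective k ?_⟩
    rw [map_add, hd0, hb, hΦ, hg1, sub_add_cancel]
  · intro h
    exact one_ne_zero (hnot 1 ((one_smul k g1).symm ▸ h))
  · intro i x _
    rw [subsingleton_ext k i x]
    exact zero_mem _

end Groth.Agent.S19633
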