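import Groth.Statements.S19634
import Mathlib

set_option autoImplicit false
universe u
open DeRham

namespace Groth.Agent.S19634

variable (k : Type u) [Field k]
open MvPolynomial

/-- Restriction to the branch where only the i-th variable survives. -/
noncomputable def res (i : Fin 2) : MvPolynomial (Fin 2) k →ₐ[k] Polynomial k :=
  aeval fun j => if j = i then Polynomial.X else 0

lemma eval_res (i : Fin 2) (Q : MvPolynomial (Fin 2) k) :
    (res k i Q).eval 0 = constantCoeff Q := by
  have : (Polynomial.evalRingHom (0 : k)).comp (res k i).toRingHom = constantCoeff := by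
    ext j
    · simp [res]
    · simp [res]; split_ifs <;> simp
  exact DFunLike.congr_fun this Q

lemma res_XY (i : Fin 2) : res k i (X 0 * X 1) = 0 := by
  fin_cases i <;> simp [res]

lemma branch_D (i : Fin 2) (Q : MvPolynomial (Fin 2) k)
    (h : KaehlerDifferential.D k (MvPolynomial (Fin 2) k ⧸ Ideal.span {(X 0 * X 1 : MvPolynomial (Fin 2) k)})
      (Ideal.Quotient.mk _ Q) = 0) :
    (res k i Q).derivative = 0 := by
  let φ : (MvPolynomial (Fin 2) k ⧸ Ideal.span {(X 0 * X 1 : MvPolynomial (Fin 2) k)}) →ₐ[k] Polynomial k :=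
    Ideal.Quotient.liftₐ _ (res k i) fun a ha => by
      obtain ⟨b, rfl⟩ := Ideal.mem_span_singleton'.1 ha
      rw [map_mul, res_XY, mul_zero]
  letI : Algebra (MvPolynomial (Fin 2) k ⧸ Ideal.span {(X 0 * X 1 : MvPolynomial (Fin 2) k)}) (Polynomial k) :=
    φ.toRingHom.toAlgebra
  haveI : IsScalarTower k (MvPolynomial (Fin 2) k ⧸ Ideal.span {(X 0 * X 1 : MvPolynomial (Fin 2) k)}) (Polynomial k) :=
    IsScalarTower.of_algebraMap_eq fun x => (φ.commutes x).symm
  let δ := Polynomial.derivative'.compAlgebraMap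
    (MvPolynomial (Fin 2) k ⧸ Ideal.span {(X 0 * X 1 : MvPolynomial (Fin 2) k)}) (R := k)
  have : δ (Ideal.Quotient.mk _ Q) = 0 := by
    rw [← Derivation.liftKaehlerDifferential_comp_D δ, h, map_zero]
  exact this

lemma mem_node (Q : MvPolynomial (Fin 2) k) (h : ∀ i, res k i Q = 0) :
    Q ∈ Ideal.span {(X 0 * X 1 : MvPolynomial (Fin 2) k)} := by
  have h1 : (X 1 : MvPolynomial (Fin 2) k) ∣ Q := by
    rw [← Ideal.mem_span_singleton, ← Ideal.Quotient.eq_zero_iff_mem]
    have : ((Ideal.Quotient.mkₐ k (Ideal.span {(X 1 : MvPolynomial (Fin 2) k)})).comp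
        ((Polynomial.aeval (X 0 : MvPolynomial (Fin 2) k)).comp (res k 0))) = Ideal.Quotient.mkₐ k _ := by
      apply algHom_ext
      intro j
      fin_cases j
      · simp [res]
      · simpa [res] using
          (Ideal.Quotient.eq_zero_iff_mem.2 (Ideal.mem_span_singleton_self (X 1 : MvPolynomial (Fin 2) k))).symm
    have h2 := DFunLike.congr_fun this Q
    simp [h 0] at h2
    exact h2.symm
  obtain ⟨Q', rfl⟩ := h1
  have h2 : res k 1 Q' = 0 := by
    have := h 1
    simpa [res, Polynomial.X_ne_zero] using this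
  have h3 : (X 0 : MvPolynomial (Fin 2) k) ∣ Q' := by
    rw [← Ideal.mem_span_singleton, ← Ideal.Quotient.eq_zero_iff_mem]
    have : ((Ideal.Quotient.mkₐ k (Ideal.span {(X 0 : MvPolynomial (Fin 2) k)})).comp
        ((Polynomial.aeval (X 1 : MvPolynomial (Fin 2) k)).comp (res k 1))) = Ideal.Quotient.mkₐ k _ := by
      apply algHom_ext
      intro j
      fin_cases j
      · simpa [res] using
          (Ideal.Quotient.eq_zero_iff_mem.2 (Ideal.mem_span_singleton_self (X 0 : MvPolynomial (Fin 2) k))).symm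
      · simp [res]
    have h3 := DFunLike.congr_fun this Q'
    simp [h2] at h3
    exact h3.symm
  obtain ⟨Q'', rfl⟩ := h3
  exact Ideal.mem_span_singleton.2 ⟨Q'', by ring⟩


/-- Let k be a field of characteristic zero and A = k[X, Y]/(XY), the coordinate ring of two affine
lines crossing in a point. In the naive de Rham complex A → Ω¹_{A/k} the kernel of d consists of the
constants: dP = 0 if and only if P is in the image of k. -/
theorem result (k : Type u) [Field k] [CharZero k]
    (P : MvPolynomial (Fin 2) k ⧸ Ideal.span {(MvPolynomial.X 0 * MvPolynomial.X 1 : MvPolynomial (Fin 2) k)}) :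
    KaehlerDifferential.D k (MvPolynomial (Fin 2) k ⧸ Ideal.span {(MvPolynomial.X 0 * MvPolynomial.X 1 : MvPolynomial (Fin 2) k)}) P = 0 ↔
      P ∈ Set.range (algebraMap k (MvPolynomial (Fin 2) k ⧸ Ideal.span {(MvPolynomial.X 0 * MvPolynomial.X 1 : MvPolynomial (Fin 2) k)})) := by
  constructor
  · intro h
    obtain ⟨Q, rfl⟩ := Ideal.Quotient.mk_surjective P
    set c := MvPolynomial.constantCoeff Q
    have hc : ∀ i : Fin 2, res k i Q = Polynomial.C c := fun i => by
      have h2 := congrArg (MvPolynomial.constantCoeff (σ := Fin 2) (R := k)) rfl (a₁ := Q) |> fun _ => branch_D k i Q h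
      obtain ⟨d, hd⟩ : ∃ d, res k i Q = Polynomial.C d := ⟨_, Polynomial.eq_C_of_derivative_eq_zero h2⟩
      have : (res k i Q).eval 0 = c := eval_res k i Q
      rw [hd, Polynomial.eval_C] at this
      rw [hd, this]
    refine ⟨c, ?_⟩
    symm
    rw [← Ideal.Quotient.mk_algebraMap]
    refine Ideal.Quotient.eq.2 (mem_node k _ fun i => ?_)
    rw [map_sub, hc i, AlgHom.commutes, sub_eq_zero]
    rfl
  · rintro ⟨c, rfl⟩
    exact Derivation.map_algebraMap _ c

end Groth.Agent.S19634
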