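import Groth.Statements.S19635
import Mathlib

set_option autoImplicit false
universe u
open DeRham

namespace Groth.Agent.S19635

open MvPolynomial

variable (k : Type u) [Field k]

noncomputable def xy : Fin 2 → TrivSqZeroExt k (k × k) := fun i =>
  TrivSqZeroExt.inr (if i = 0 then (1, 0) else (0, 1))

/-- Value and gradient at the node. -/
noncomputable def psi :
    (MvPolynomial (Fin 2) k ⧸ Ideal.span {(X 0 * X 1 : MvPolynomial (Fin 2) k)}) →ₐ[k] TrivSqZeroExt k (k × k) :=
  Ideal.Quotient.liftₐ _ (aeval (xy k)) fun a ha => by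
    obtain ⟨b, rfl⟩ := Ideal.mem_span_singleton'.1 ha
    simp [xy]

/-- The action on the fibre of the differentials with its torsion element. -/
def act (t : TrivSqZeroExt k (k × k)) : Module.End k (k × k × k) where
  toFun v := (t.fst * v.1, t.fst * v.2.1, t.fst * v.2.2 + (t.snd.1 * v.2.1 - t.snd.2 * v.1))
  map_add' v w := by
    simp only [Prod.fst_add, Prod.snd_add, Prod.mk_add_mk, Prod.mk.injEq]
    refine ⟨?_, ?_, ?_⟩ <;> ring
  map_smul' r v := by
    simp only [Prod.smul_fst, Prod.smul_snd, Prod.smul_mk, smul_eq_mul, RingHom.id_apply, Prod.mk.injEq]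
    refine ⟨?_, ?_, ?_⟩ <;> ring

lemma act_apply (t : TrivSqZeroExt k (k × k)) (v : k × k × k) :
    act k t v = (t.fst * v.1, t.fst * v.2.1, t.fst * v.2.2 + (t.snd.1 * v.2.1 - t.snd.2 * v.1)) := rfl

noncomputable def actHom : TrivSqZeroExt k (k × k) →+* Module.End k (k × k × k) where
  toFun := act k
  map_one' := LinearMap.ext fun v => by simp [act_apply]
  map_zero' := LinearMap.ext fun v => by simp [act_apply]
  map_mul' s t := LinearMap.ext fun v => by
    simp only [Module.End.mul_apply, act_apply, TrivSqZeroExt.fst_mul, TrivSqZeroExt.snd_mul,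
      op_smul_eq_smul, Prod.fst_add, Prod.snd_add, Prod.smul_fst, Prod.smul_snd, smul_eq_mul, Prod.mk.injEq]
    refine ⟨?_, ?_, ?_⟩ <;> ring
  map_add' s t := LinearMap.ext fun v => by
    simp only [LinearMap.add_apply, act_apply, TrivSqZeroExt.fst_add, TrivSqZeroExt.snd_add,
      Prod.fst_add, Prod.snd_add, Prod.mk_add_mk, Prod.mk.injEq]
    refine ⟨?_, ?_, ?_⟩ <;> ring

noncomputable def rho :
    (MvPolynomial (Fin 2) k ⧸ Ideal.span {(X 0 * X 1 : MvPolynomial (Fin 2) k)}) →+* Module.End k (k × k × k) :=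
  (actHom k).comp (psi k).toRingHom

noncomputable def dl :
    (MvPolynomial (Fin 2) k ⧸ Ideal.span {(X 0 * X 1 : MvPolynomial (Fin 2) k)}) →ₗ[k] k × k × k where
  toFun a := ((psi k a).snd.1, (psi k a).snd.2, 0)
  map_add' a b := by simp
  map_smul' r a := by simp

lemma dl_apply (a : MvPolynomial (Fin 2) k ⧸ Ideal.span {(X 0 * X 1 : MvPolynomial (Fin 2) k)}) :
    dl k a = ((psi k a).snd.1, (psi k a).snd.2, 0) := rfl


lemma psi_mk (f : MvPolynomial (Fin 2) k) :
    psi k (Ideal.Quotient.mk _ f) = aeval (xy k) f := rfl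

/-- Let k be a field of characteristic zero and A = k[X, Y]/(XY), the coordinate ring of two affine
lines crossing in a point. The differential d : A → Ω¹_{A/k} of the naive de Rham complex is not
surjective, so the naive H^1 of this singular curve does not vanish although one expects trivial
cohomology; this is the example motivating the h-topology definition. -/
theorem result (k : Type u) [Field k] [CharZero k] :
    ¬ Function.Surjective (KaehlerDifferential.D k (MvPolynomial (Fin 2) k ⧸ Ideal.span {(MvPolynomial.X 0 * MvPolynomial.X 1 : MvPolynomial (Fin 2) k)})) := by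
  intro hsurj
  letI : Module (MvPolynomial (Fin 2) k ⧸ Ideal.span {(MvPolynomial.X 0 * MvPolynomial.X 1 : MvPolynomial (Fin 2) k)}) (k × k × k) :=
    Module.compHom _ (rho k)
  have hsm : ∀ (x : MvPolynomial (Fin 2) k ⧸ Ideal.span {(MvPolynomial.X 0 * MvPolynomial.X 1 : MvPolynomial (Fin 2) k)})
      (v : k × k × k), x • v = act k (psi k x) v := fun _ _ => rfl
  haveI : IsScalarTower k (MvPolynomial (Fin 2) k ⧸ Ideal.span {(MvPolynomial.X 0 * MvPolynomial.X 1 : MvPolynomial (Fin 2) k)}) (k × k × k) :=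
    ⟨fun r x v => by
      rw [hsm, hsm, map_smul]
      simp only [act_apply, TrivSqZeroExt.fst_smul, TrivSqZeroExt.snd_smul, Prod.smul_fst, Prod.smul_snd,
        smul_eq_mul, Prod.ext_iff]
      refine ⟨?_, ?_, ?_⟩ <;> ring⟩
  let δ : Derivation k (MvPolynomial (Fin 2) k ⧸ Ideal.span {(MvPolynomial.X 0 * MvPolynomial.X 1 : MvPolynomial (Fin 2) k)}) (k × k × k) :=
    Derivation.mk' (dl k) fun a b => by
      rw [hsm, hsm]
      simp only [dl_apply, act_apply, map_mul, TrivSqZeroExt.fst_mul, TrivSqZeroExt.snd_mul,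
        op_smul_eq_smul, Prod.ext_iff, Prod.fst_add, Prod.snd_add, Prod.smul_fst, Prod.smul_snd, smul_eq_mul]
      refine ⟨?_, ?_, ?_⟩
      all_goals first | trivial | ring
  let x0 : MvPolynomial (Fin 2) k ⧸ Ideal.span {(MvPolynomial.X 0 * MvPolynomial.X 1 : MvPolynomial (Fin 2) k)} :=
    Ideal.Quotient.mk _ (MvPolynomial.X 0)
  let y0 : MvPolynomial (Fin 2) k ⧸ Ideal.span {(MvPolynomial.X 0 * MvPolynomial.X 1 : MvPolynomial (Fin 2) k)} :=
    Ideal.Quotient.mk _ (MvPolynomial.X 1)
  obtain ⟨P, hP⟩ := hsurj (x0 •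
    KaehlerDifferential.D k (MvPolynomial (Fin 2) k ⧸ Ideal.span {(MvPolynomial.X 0 * MvPolynomial.X 1 : MvPolynomial (Fin 2) k)}) y0)
  have ex : psi k x0 = MvPolynomial.aeval (xy k) (MvPolynomial.X 0 : MvPolynomial (Fin 2) k) := rfl
  have ey : psi k y0 = MvPolynomial.aeval (xy k) (MvPolynomial.X 1 : MvPolynomial (Fin 2) k) := rfl
  have h := congrArg δ.liftKaehlerDifferential hP
  rw [map_smul, Derivation.liftKaehlerDifferential_comp_D, Derivation.liftKaehlerDifferential_comp_D, hsm] at h
  have h2 := congrArg (fun v : k × k × k => v.2.2) h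
  have eδ : ∀ x, δ x = ((psi k x).snd.1, (psi k x).snd.2, 0) := fun x => rfl
  rw [eδ, eδ, ex, ey, act_apply] at h2
  simp [MvPolynomial.aeval_X, xy] at h2

end Groth.Agent.S19635
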