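import Groth.Statements.S1964
import Groth.Agent.Lib.Hensel.Properties
import Groth.Agent.Lib.Hensel.Local
import Mathlib.FieldTheory.PurelyInseparable.Basic
-- import your own Groth.Agent.* helpers here

set_option autoImplicit false
universe u
open EtAlg

namespace Groth.Agent.S1964

theorem isLocalRing_of_domain (A B : Type u) [CommRing A] [HenselianLocalRing A] [CommRing B]
    [IsDomain B] [Algebra A B] [Algebra.IsIntegral A B] : IsLocalRing B := by
  have key : ∀ q₁ q₂ : Ideal B, q₁.IsMaximal → q₂.IsMaximal → q₁ ≤ q₂ := by
    intro q₁ q₂ h1 h2 x hx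
    have : Module.Finite A (Algebra.adjoin A ({x} : Set B)) := Module.Finite.iff_fg.mpr
      (Algebra.IsIntegral.isIntegral (R := A) x).fg_adjoin_singleton
    obtain ⟨hF, e, he, hne, -, -⟩ :=
      GrothLib.Hensel.exists_completeOrthogonalIdempotents_isLocalRing (R := A)
        (S := Algebra.adjoin A ({x} : Set B))
    have : Algebra.IsIntegral (Algebra.adjoin A ({x} : Set B)) B :=
      Algebra.IsIntegral.tower_top (R := A)
    let m : ∀ q : Ideal B, q.IsMaximal → MaximalSpectrum (Algebra.adjoin A ({x} : Set B)) :=
      fun q hq => ⟨q.comap (algebraMap _ B), @Ideal.isMaximal_comap_of_isIntegral_of_isMaximal _ _ _ _ _ _ q hq⟩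
    have hm : m q₁ h1 = m q₂ h2 := by
      by_contra hij
      rcases mul_eq_zero.mp (he.ortho hij) with h | h
      · exact hne _ (h ▸ Submodule.zero_mem _)
      · exact hne _ (h ▸ Submodule.zero_mem _)
    have hx' : (⟨x, Algebra.subset_adjoin rfl⟩ : Algebra.adjoin A ({x} : Set B)) ∈
        (m q₁ h1).asIdeal := hx
    rw [hm] at hx'
    exact hx'
  obtain ⟨M, hM⟩ := Ideal.exists_maximal B
  exact IsLocalRing.of_unique_max_ideal ⟨M, hM, fun N hN => le_antisymm (key N M hN hM) (key M N hM hN)⟩

/-- A domain B integral over a henselian local ring A is itself henselian local, and the structure map A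
-> B is local; if the residue field of A is separably closed, so is that of B, and the residue field
extension is purely inseparable. -/
theorem result (A B : Type u) [CommRing A] [HenselianLocalRing A] [CommRing B]
    [IsDomain B] [Algebra A B] [Algebra.IsIntegral A B] :
    ∃ _ : HenselianLocalRing B, IsLocalHom (algebraMap A B) ∧
      (IsSepClosed (IsLocalRing.ResidueField A) →
        IsSepClosed (IsLocalRing.ResidueField B) ∧
        ∀ _ : IsLocalHom (algebraMap A B),
          letI := (IsLocalRing.ResidueField.map (algebraMap A B)).toAlgebra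
          IsPurelyInseparable (IsLocalRing.ResidueField A) (IsLocalRing.ResidueField B)) := by
  have := isLocalRing_of_domain A B
  have hloc : IsLocalHom (algebraMap A B) := by
    refine ((IsLocalRing.local_hom_TFAE (algebraMap A B)).out 0 4).mpr ?_
    have := IsLocalRing.maximalIdeal.isMaximal B
    exact IsLocalRing.eq_maximalIdeal (Ideal.isMaximal_comap_of_isIntegral_of_isMaximal _)
  have := GrothLib.Hensel.henselianRing_of_isIntegral (IsLocalRing.maximalIdeal A) B
  have hrad : ((IsLocalRing.maximalIdeal A).map (algebraMap A B)).radical =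
      (IsLocalRing.maximalIdeal B).radical := by
    have hle : (IsLocalRing.maximalIdeal A).map (algebraMap A B) ≤ IsLocalRing.maximalIdeal B :=
      ((IsLocalRing.local_hom_TFAE (algebraMap A B)).out 0 2 rfl rfl).mp inferInstance
    refine le_antisymm (Ideal.radical_mono hle) ?_
    rw [(IsLocalRing.maximalIdeal.isMaximal B).isPrime.radical, Ideal.radical_eq_sInf]
    refine le_sInf fun P ⟨hP, hPp⟩ ↦ ?_
    have : P.LiesOver (IsLocalRing.maximalIdeal A) :=
      ⟨(IsLocalRing.maximalIdeal.isMaximal A).eq_of_le (Ideal.comap_ne_top _ hPp.ne_top)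
        (Ideal.map_le_iff_le_comap.mp hP)⟩
    exact (IsLocalRing.eq_maximalIdeal ((GrothLib.Hensel.isMaximal_iff_liesOver P).mpr this)).ge
  have hB := (GrothLib.Hensel.henselianRing_iff_of_radical_eq hrad).mp inferInstance
  refine ⟨GrothLib.Hensel.henselianLocalRing_of_henselianRing hB, hloc, fun hsep => ?_⟩
  have halg : Algebra.IsAlgebraic (IsLocalRing.ResidueField A) (IsLocalRing.ResidueField B) :=
    have : Algebra.IsIntegral A (IsLocalRing.ResidueField B) := Algebra.IsIntegral.trans B
    have : Algebra.IsIntegral (IsLocalRing.ResidueField A) (IsLocalRing.ResidueField B) :=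
      Algebra.IsIntegral.tower_top (R := A)
    Algebra.IsIntegral.isAlgebraic
  refine ⟨Algebra.IsAlgebraic.isSepClosed (F := IsLocalRing.ResidueField A), fun _ => ?_⟩
  have e : (IsLocalRing.ResidueField.map (algebraMap A B)).toAlgebra =
      (inferInstance : Algebra (IsLocalRing.ResidueField A) (IsLocalRing.ResidueField B)) := by
    apply Algebra.algebra_ext
    intro r
    obtain ⟨a, rfl⟩ := IsLocalRing.residue_surjective r
    rfl
  rw [e]
  exact Algebra.IsAlgebraic.isPurelyInseparable_of_isSepClosed

end Groth.Agent.S1964
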