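import Groth.Statements.S19642
import Groth.Agent.S16879
import Groth.Agent.Lib.BGMono.Sub
import Groth.Agent.Lib.BGAtlas.Algebraic
import Groth.Agent.Lib.AlgSt.MonoFF


set_option autoImplicit false
set_option backward.isDefEq.respectTransparency false
set_option backward.isDefEq.respectTransparency.types false
universe u
open CategoryTheory AlgebraicGeometry MonoidalCategory
open AlgSt

namespace Groth.Agent.S19642

open CategoryTheory.MonoidalCategory CategoryTheory.CartesianMonoidalCategory GrothLib.FibCat GrothLib.Stk GrothLib.IsoNat GrothLib.BGMono Groth.Agent.S16879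

section

open MonObj

/-- The automorphisms of the trivial torsors match those of the point. -/
noncomputable def autMatch {S₀ : Scheme.{u}} {𝒳 : AlgSt.Cat S₀} (hG : _root_.FibCat.IsFibGrpd 𝒳.p)
    (x : FibCat.overCat (Over.mk (𝟙 S₀)) ⥤ᵇ 𝒳) {G : Over S₀} [GrpObj G]
    (r : Gerb.AutRep x (Gerb.ptsGrp (Over.mk (𝟙 S₀)) G)) : Neutral.AutMatch (bgBase G) (secBase x) where
  θ V := (bgVertEquiv G V).trans (secEquiv hG x r V)
  map_comp V s t := Subtype.ext (by
    change (secEquiv hG x r V (bgVertEquiv G V ((bgBase G).comp s t))).1 =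
      (secEquiv hG x r V (bgVertEquiv G V s)).1 ≫ (secEquiv hG x r V (bgVertEquiv G V t)).1
    rw [show bgVertEquiv G V ((bgBase G).comp s t) = _ from bgVertPt_comp s t, secEquiv_val, mul_inv_rev]
    refine (congrArg (fun α => α.hom.1) ((r.iso (pt V)).map_mul _ _)).trans ?_
    rfl)
  natural {W V} q s' s e := by
    simp only [Equiv.trans_apply]
    rw [secEquiv_val, secEquiv_val]
    rw [show bgVertEquiv G W s' = _ from bgVertPt_res q s' s e]
    have := r.natural (ptMap q) ((bgVertEquiv G V s)⁻¹ : V ⟶ G)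
    rw [show ((Gerb.ptsGrp (Over.mk (𝟙 S₀)) G).map (ptMap q).op) ((bgVertEquiv G V s)⁻¹ : V ⟶ G) =
      ((q ≫ bgVertPt s)⁻¹ : W ⟶ G) from GrpObj.comp_inv (G := G) q (bgVertPt s)] at this
    exact this

end

/-- In the case of a point over the base itself with affine fppf stabilizer, let `S` be a scheme, `𝒳` an
algebraic stack over `(Sch/S)` for the fppf topology, `x : (Sch/S) ⟶ 𝒳` a functor over `(Sch/S)` (an
`S`-point of `𝒳`), and `G` a group scheme over `S` which is affine, flat and locally of finite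
presentation over `S` and represents the automorphism presheaf of `x` (group isomorphisms `G(T) ≅
Aut_T(x_T)` natural in the scheme `T` over `S`; `G` is the stabilizer of `x`). Then there is a
functor `ι : BG ⟶ 𝒳` over `(Sch/S)`, where `BG` is the classifying stack of fppf `G`-torsors that
are schemes, which is a monomorphism (representable by algebraic spaces and a monomorphism after
every base change to a scheme) and whose composite with the canonical `S ⟶ BG` (the trivial torsor)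
is isomorphic, as a functor over `(Sch/S)`, to `x`. (The source states this for a point with values
in any scheme `T` over `S`, with target `𝒳 ×_S T`, and for the stabilizer any fppf group algebraic
space; its proof reduces to `T = S`, the case stated here, with the stabilizer an affine group
scheme, the case in which the classifying stack of scheme torsors is the whole classifying stack.) -/
theorem result
    (S : Scheme.{u}) (𝒳 : AlgSt.Cat S) (h𝒳 : AlgSt.IsAlgStack Scheme.fppfPrecoverage 𝒳)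
    (x : FibCat.overCat (Over.mk (𝟙 S)) ⥤ᵇ 𝒳)
    (G : Over S) [GrpObj G] [IsAffineHom G.hom] [Flat G.hom] [LocallyOfFinitePresentation G.hom]
    (r : Gerb.AutRep x (Gerb.ptsGrp (Over.mk (𝟙 S)) G)) :
    ∃ ι : AlgSt.BG Scheme.fppfPrecoverage G ⥤ᵇ 𝒳,
      AlgSt.IsMono ι ∧
      Nonempty (BasedFunctor.comp (AlgSt.quotMap Scheme.fppfPrecoverage G (AlgSt.trivAction G)) ι ≅
        BasedFunctor.comp (AlgSt.toOverCat (Over.mk (𝟙 S))) x) := by
  have hG := h𝒳.isStack.1
  have hBG : AlgSt.IsAlgStack Scheme.fppfPrecoverage (AlgSt.BG Scheme.fppfPrecoverage G) :=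
    GrothLib.BGAtlas.isAlgStack_quotSt (AlgSt.trivAction G)
  have hsub := isStack_sub (secBase x) h𝒳.isStack
  let M := subMatch (autMatch hG x r)
  have hM : ∀ V, (M.symm hBG.isStack.1 hsub.1).θ V = (M.θ V).symm := fun _ => rfl
  obtain ⟨E, hE, -, ⟨ε⟩⟩ := IsEquivOver.symm (Neutral.isEquivOver_fst hBG.isStack hsub trivSieve_bgBase (M := M))
  let e := BasedFunctor.comp E Neutral.snd
  have he : _root_.FibCat.IsEquivOver e := IsEquivOver.comp hE
    (Neutral.isEquivOver_snd hBG.isStack hsub trivSieve_bgBase hM (trivSieve_subBase (secBase x)))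
  let emb := BasedFunctor.comp e (AlgSt.subIncl 𝒳 (LocIso (secBase x)))
  have := IsEquivOver.full he
  have := IsEquivOver.faithful he
  have : (AlgSt.subIncl 𝒳 (LocIso (secBase x))).toFunctor.Full := inferInstanceAs (ObjectProperty.ι _).Full
  have : (AlgSt.subIncl 𝒳 (LocIso (secBase x))).toFunctor.Faithful := inferInstanceAs (ObjectProperty.ι _).Faithful
  have : emb.toFunctor.Full := inferInstanceAs (e.toFunctor ⋙ (AlgSt.subIncl 𝒳 (LocIso (secBase x))).toFunctor).Full
  have : emb.toFunctor.Faithful :=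
    inferInstanceAs (e.toFunctor ⋙ (AlgSt.subIncl 𝒳 (LocIso (secBase x))).toFunctor).Faithful
  refine ⟨emb, GrothLib.AlgSt.isMono_of_repByAlgSp1_full emb (GrothLib.AlgSt.repByAlgSp1_of_faithful hBG h𝒳 emb), ⟨?_⟩⟩
  let Q := AlgSt.quotMap Scheme.fppfPrecoverage G (AlgSt.trivAction G)
  -- the morphism from the chosen torsor
  let toO : ∀ o : (AlgSt.ofSch (𝟙_ (Over S))).obj, bgPt o.base ⟶ o := fun o =>
    ⟨𝟙 o.base, congrArg ULift.up (toUnit_unique _ _)⟩
  let κ₀ : ∀ o : (AlgSt.ofSch (𝟙_ (Over S))).obj, (bgBase G).obj o.base ⟶ (E.obj (Q.obj o)).a := fun o =>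
    Q.map (toO o) ≫ (isoApp ε (Q.obj o)).inv
  have hT : ∀ o : (AlgSt.ofSch (𝟙_ (Over S))).obj, o.base = (E.obj (Q.obj o)).T := fun o =>
    ((BasedFunctor.comp Q E).w_obj o).symm
  have hκ₀ : ∀ o, (AlgSt.BG Scheme.fppfPrecoverage G).p.IsHomLift (eqToHom (hT o)) (κ₀ o) := fun o => by
    have h1 : (AlgSt.BG Scheme.fppfPrecoverage G).p.IsHomLift (𝟙 o.base) (Q.map (toO o)) :=
      IsHomLift.of_fac' _ _ _ rfl rfl (by
        change 𝟙 o.base = _
        simp
        rfl)
    have h2 : (AlgSt.BG Scheme.fppfPrecoverage G).p.IsHomLift (𝟙 o.base) (isoApp ε (Q.obj o)).inv :=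
      have : (AlgSt.BG Scheme.fppfPrecoverage G).p.IsHomLift (𝟙 o.base) (isoApp ε (Q.obj o)).hom :=
        isHomLift_isoApp ε rfl
      isHomLift_id_inv _ _
    have h3 : (AlgSt.BG Scheme.fppfPrecoverage G).p.IsHomLift (𝟙 o.base) (κ₀ o) :=
      IsHomLift.comp_lift_id_left' _ o.base _ (𝟙 o.base) _
    exact IsHomLift.of_fac' _ _ _ rfl (E.obj (Q.obj o)).ha (by
      rw [IsHomLift.fac' (AlgSt.BG Scheme.fppfPrecoverage G).p (𝟙 o.base) (κ₀ o)]; simp)
  let θ₀ : ∀ o, (secBase x).obj o.base ⟶ emb.obj (Q.obj o) := fun o =>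
    (((E.obj (Q.obj o)).Φ (eqToHom (hT o)) ⟨κ₀ o, hκ₀ o⟩).1).hom
  have hθ₀ : ∀ o, 𝒳.p.IsHomLift (𝟙 o.base) (θ₀ o) := fun o => by
    have := ((E.obj (Q.obj o)).Φ (eqToHom (hT o)) ⟨κ₀ o, hκ₀ o⟩).2
    have h := IsHomLift.fac' (sub (secBase x)).p (eqToHom (hT o)) ((E.obj (Q.obj o)).Φ (eqToHom (hT o)) ⟨κ₀ o, hκ₀ o⟩).1
    exact IsHomLift.of_fac' _ _ _ ((secBase x).lies o.base) ((E.obj (Q.obj o)).hb.trans (hT o).symm) (by
      refine h.trans ?_
      simp)
  let θ : ∀ o : (AlgSt.ofSch (𝟙_ (Over S))).obj, (secBase x).obj o.base ≅ emb.obj (Q.obj o) := fun o =>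
    have := hθ₀ o
    have := IsFibGrpd.isIso_of_isHomLift_id hG (R := o.base) (θ₀ o)
    asIso (θ₀ o)
  have nat : ∀ {o o' : (AlgSt.ofSch (𝟙_ (Over S))).obj} (m : o ⟶ o'),
      (secBase x).map m.hom ≫ θ₀ o' = θ₀ o ≫ emb.map (Q.map m) := fun {o o'} m => by
    refine congrArg (fun t => t.hom) (Neutral.Lk.Φ_square (E.map (Q.map m)) m.hom
      ⟨κ₀ o, hκ₀ o⟩ ⟨κ₀ o', hκ₀ o'⟩ ?_)
    change Q.map (bgPtMap m.hom) ≫ Q.map (toO o') ≫ (isoApp ε (Q.obj o')).inv =
      (Q.map (toO o) ≫ (isoApp ε (Q.obj o)).inv) ≫ (E.map (Q.map m)).α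
    rw [← Category.assoc, ← Q.map_comp, show bgPtMap m.hom ≫ toO o' = toO o ≫ m from
      Stk.EltObj.hom_ext ((Category.comp_id _).trans (Category.id_comp _).symm), Q.map_comp, Category.assoc,
      Category.assoc]
    congr 1
    exact ε.inv.toNatTrans.naturality (Q.map m)
  refine natIsoOfComponents (fun o => (θ o).symm ≪≫
      x.mapIso (Over.isoMk (Iso.refl o.base) (ptHom_ext _ _) : pt o.base ≅ (AlgSt.toOverCat (Over.mk (𝟙 S))).obj o))
    (fun o => ?_) (fun {o o'} m => ?_)
  · have : 𝒳.p.IsHomLift (𝟙 o.base) (θ o).hom := hθ₀ o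
    have h1 : 𝒳.p.IsHomLift (𝟙 o.base) (θ o).symm.hom := IsHomLift.lift_id_inv (p := 𝒳.p) o.base (θ o)
    let i : pt o.base ≅ (AlgSt.toOverCat (Over.mk (𝟙 S))).obj o := Over.isoMk (Iso.refl o.base) (ptHom_ext _ _)
    have : (FibCat.overCat (Over.mk (𝟙 S))).p.IsHomLift (𝟙 o.base) i.hom := IsHomLift.map (FibCat.overCat (Over.mk (𝟙 S))).p i.hom
    have h2 : 𝒳.p.IsHomLift (𝟙 o.base) (x.mapIso i).hom := BasedFunctor.preserves_isHomLift x _ _
    exact IsHomLift.comp_lift_id_left' 𝒳.p o.base _ (𝟙 o.base) _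
  · have hI : ∀ o, IsIso (θ₀ o) := fun o => inferInstanceAs (IsIso (θ o).hom)
    have := hI o
    have := hI o'
    change emb.map (Q.map m) ≫ inv (θ₀ o') ≫ x.map _ = (inv (θ₀ o) ≫ x.map _) ≫ x.map _
    have e1 : emb.map (Q.map m) ≫ inv (θ₀ o') = inv (θ₀ o) ≫ (secBase x).map m.hom := by
      rw [IsIso.comp_inv_eq, Category.assoc, IsIso.eq_inv_comp]
      exact (nat m).symm
    rw [reassoc_of% e1, Category.assoc]
    congr 1
    change x.map (ptMap m.hom) ≫ _ = _
    rw [← x.map_comp, ← x.map_comp]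
    exact congrArg x.map (Over.OverMorphism.ext ((Category.comp_id _).trans (Category.id_comp _).symm))

end Groth.Agent.S19642
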