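import Groth.Statements.S19645
import Groth.Agent.Lib.MagnetGr25.AtlasLocal
-- import your own Groth.Agent.* helpers here

set_option autoImplicit false
universe u
open CategoryTheory MonoidalCategory CartesianMonoidalCategory AlgebraicGeometry Opposite
open Magnet

namespace Groth.Agent.S19645

/-- Let S be a scheme, M a finitely generated abelian group and X an S-scheme separated and locally of
finite presentation over S with an action of the diagonalizable group scheme D(M)_S. Let g : U → X
be an S-affine strongly-FPR atlas: U is affine over S with a D(M)_S-action, g is equivariant, étale
and surjective, and for every subgroup Z of M the square of fixed-point subfunctors for the actions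
restricted along D(M/Z)_S → D(M)_S, with top U^{D(M/Z)} → X^{D(M/Z)} and bottom U → X, is cartesian.
Then for submonoids (magnets) N and L of M, if the attractors U^N and U^L have the same image in U
(on T-points, for every S-scheme T), the attractors X^N and X^L have the same image in X. (The
source states this for X a separated algebraic space, inside an argument in which X is of finite
presentation over S, and for an arbitrary abelian group M; here X is a scheme, of X only
separatedness and local finite presentation over S are used, and M is finitely generated, as in the
representability and base-change results for attractors along FPR atlases on which the argument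
rests.) -/
theorem result (S : Scheme.{u}) (M : Type) [AddCommGroup M]
    [AddGroup.FG M] {X : Over S} [IsSeparated X.hom] [LocallyOfFinitePresentation X.hom]
    (a : Magnet.MonAct (Magnet.AMonS S M) X) (U : Over S) [IsAffineHom U.hom]
    (aU : Magnet.MonAct (Magnet.AMonS S M) U) (g : U ⟶ X) (hg : Magnet.MonAct.IsEquivariant aU a g)
    [Etale g.left] [Surjective g.left]
    (hgZ : ∀ Z : AddSubgroup M, Magnet.MonAct.IsEquivariant
      (aU.restrict (Magnet.AMonS.map S (QuotientAddGroup.mk' Z)))
      (a.restrict (Magnet.AMonS.map S (QuotientAddGroup.mk' Z))) g)
    (hfpr : ∀ Z : AddSubgroup M, IsPullback (Magnet.MonAct.fixedPsh.map g (hgZ Z))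
      (Magnet.MonAct.fixedPshι (aU.restrict (Magnet.AMonS.map S (QuotientAddGroup.mk' Z))))
      (Magnet.MonAct.fixedPshι (a.restrict (Magnet.AMonS.map S (QuotientAddGroup.mk' Z)))) (yoneda.map g))
    (N L : AddSubmonoid M)
    (hU : ∀ T : Over S, Set.range (fun φ => (Magnet.attrToX aU N).app (op T) φ) =
      Set.range (fun φ => (Magnet.attrToX aU L).app (op T) φ)) (T : Over S) :
    Set.range (fun φ => (Magnet.attrToX a N).app (op T) φ) =
      Set.range (fun φ => (Magnet.attrToX a L).app (op T) φ) := GrothLib.MagnetGr.image_eq hg hgZ hfpr hU T

end Groth.Agent.S19645
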