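import Groth.Statements.S1965
import Groth.Agent.Lib.UnrMono.Krasner

set_option autoImplicit false
universe u
open Polynomial
open EtAlg

namespace Groth.Agent.S1965

/-- Let A be a complete Noetherian local domain of Krull dimension 1 with maximal ideal m, P a
polynomial over A and α a root of P which is not a root of the derivative P'. Then for every c there
is an n such that for every polynomial Q all of whose coefficients lie in m^n, the polynomial P + Q
has a root β with β - α in m^c. -/
theorem result (A : Type u) [CommRing A] [IsDomain A] [IsLocalRing A] [IsNoetherianRing A]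
    [IsAdicComplete (IsLocalRing.maximalIdeal A) A] (hdim : ringKrullDim A = 1) (P : A[X]) (α : A)
    (hα : P.eval α = 0) (hα' : (derivative P).eval α ≠ 0) (c : ℕ) :
    ∃ n : ℕ, ∀ Q : A[X], (∀ i, Q.coeff i ∈ IsLocalRing.maximalIdeal A ^ n) →
      ∃ β : A, (P + Q).eval β = 0 ∧ β - α ∈ IsLocalRing.maximalIdeal A ^ c := by
  exact GrothLib.UnrMono.krasner A hdim P α hα hα' c

end Groth.Agent.S1965
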