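import Groth.Statements.S19651
import Groth.Agent.Lib.AbVarAlg.BilinAdjoint
-- import your own Groth.Agent.* helpers here

set_option autoImplicit false
universe u v
open AbVar

namespace Groth.Agent.S19651

open Polynomial in
theorem commute_aeval {k A : Type*} [Field k] [Ring A] [Algebra k A] (f g : A) (h : Commute f g) (p : k[X]) :
    Commute f (aeval g p) := by
  induction p using Polynomial.induction_on' with
  | add p q hp hq => rw [map_add]; exact hp.add_right hq
  | monomial n c => rw [aeval_monomial]; exact (Algebra.commute_algebraMap_right c f).mul_right (h.pow_right n)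


open Polynomial in
/-- Stated for an arbitrary invariant bilinear form, as the argument there allows. Let k be a field, V a
k-vector space with a bilinear form B and M a linear automorphism of V with B(Mx, My) = B(x, y) for
all x, y. If Q₁ and Q₂ are polynomials such that the reciprocal polynomial of Q₁ (its coefficient
list reversed) is coprime to Q₂, then every vector killed by a power of Q₁(M) is B-orthogonal to
every vector killed by a power of Q₂(M). With Q₁ = Q₂ = Q this says that the generalized kernel of
Q(M) is totally isotropic whenever Q is coprime to its reciprocal polynomial, which for an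
irreducible Q means that Q is not self-reciprocal. (The published statement takes M symplectic and
Q₁, Q₂ irreducible factors of the characteristic polynomial, with Q not self-reciprocal in the first
clause; its second clause asks Q₁ and Q₂ to be distinct and not reciprocal, which holds as proved
when this is read as saying that Q₂ is not the reciprocal of Q₁, but fails if it only means that
neither is self-reciprocal, as the diagonal matrix with entries 2 and 1/2 preserving the standard
alternating form on k² shows; the coprimality of the reciprocal of Q₁ with Q₂, which is what the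
published proof uses, is imposed here and covers both clauses.) -/
theorem result
    {k : Type u} [Field k] {V : Type v} [AddCommGroup V] [Module k V]
    (B : LinearMap.BilinForm k V) (M : V ≃ₗ[k] V)
    (hM : ∀ x y : V, B (M x) (M y) = B x y)
    (Q₁ Q₂ : k[X]) (h : IsCoprime Q₁.reverse Q₂)
    (x y : V)
    (hx : ∃ n : ℕ, (Polynomial.aeval (M : V →ₗ[k] V) Q₁ ^ n) x = 0)
    (hy : ∃ n : ℕ, (Polynomial.aeval (M : V →ₗ[k] V) Q₂ ^ n) y = 0) :
    B x y = 0 := by
  obtain ⟨n, hn⟩ := hx
  obtain ⟨m, hm⟩ := hy
  set f : Module.End k V := (M : V →ₗ[k] V) with hf
  set g : Module.End k V := (M.symm : V →ₗ[k] V) with hg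
  have hadj : ∀ u w, B (f u) w = B u (g w) := fun u w => by
    have := hM u (M.symm w); simpa [hf, hg] using this
  have hfg : f * g = 1 := by ext; simp [hf, hg]
  have hgf : g * f = 1 := by ext; simp [hf, hg]
  obtain ⟨z, rfl⟩ := GrothLib.AbVarAlg.exists_eq_aeval_of_isCoprime f h n m hm
  have hc : Commute (f ^ Q₁.natDegree) (aeval g Q₁) :=
    (commute_aeval f g (hfg.trans hgf.symm) _).pow_left _
  rw [GrothLib.AbVarAlg.aeval_reverse_eq f g hfg hgf, hc.mul_pow, (hc.pow_pow n n).eq, Module.End.mul_apply,
    ← GrothLib.AbVarAlg.aeval_pow_adjoint B f g hadj, hn, map_zero, LinearMap.zero_apply]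

end Groth.Agent.S19651
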