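import Groth.Statements.S19652
import Groth.Agent.Lib.AbVarAlg.BilinAdjoint
-- import your own Groth.Agent.* helpers here

set_option autoImplicit false
universe u v
open AbVar

namespace Groth.Agent.S19652

open Polynomial in
theorem commute_aeval {k A : Type*} [Field k] [Ring A] [Algebra k A] (f g : A) (h : Commute f g) (p : k[X]) :
    Commute f (aeval g p) := by
  induction p using Polynomial.induction_on' with
  | add p q hp hq => rw [map_add]; exact hp.add_right hq
  | monomial n c => rw [aeval_monomial]; exact (Algebra.commute_algebraMap_right c f).mul_right (h.pow_right n)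


open Polynomial in
/-- Stated for an arbitrary invariant nondegenerate bilinear form, as the argument there allows. Let k
be a field, V a finite-dimensional k-vector space with a nondegenerate bilinear form B and M a
linear automorphism of V with B(Mx, My) = B(x, y) for all x, y. If Q is a polynomial associated to
its own reciprocal polynomial (its coefficient list reversed), then B restricted to the generalized
kernel of Q(M), the union of the kernels of the powers Q(M)^n, is nondegenerate. (The published
statement takes M symplectic and Q a self-reciprocal divisor of the characteristic polynomial;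
divisibility plays no role and is not assumed.) -/
theorem result
    {k : Type u} [Field k] {V : Type v} [AddCommGroup V] [Module k V] [FiniteDimensional k V]
    (B : LinearMap.BilinForm k V) (hB : B.Nondegenerate) (M : V ≃ₗ[k] V)
    (hM : ∀ x y : V, B (M x) (M y) = B x y)
    (Q : k[X]) (hQ : Associated Q Q.reverse) :
    (B.restrict (⨆ n : ℕ, LinearMap.ker (Polynomial.aeval (M : V →ₗ[k] V) Q ^ n))).Nondegenerate := by
  set f : Module.End k V := (M : V →ₗ[k] V) with hf
  set g : Module.End k V := (M.symm : V →ₗ[k] V) with hg
  have hadj : ∀ u w, B (f u) w = B u (g w) := fun u w => by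
    have := hM u (M.symm w); simpa [hf, hg] using this
  have hadj' : ∀ u w, B.flip (f u) w = B.flip u (g w) := fun u w => by
    have := hM (M.symm w) u; simpa [hf, hg] using this
  have hfg : f * g = 1 := by ext; simp [hf, hg]
  have hgf : g * f = 1 := by ext; simp [hf, hg]
  obtain ⟨c, hc⟩ := hQ
  have key : ∀ (C : LinearMap.BilinForm k V), (∀ u w, C (f u) w = C u (g w)) →
      (∀ x, (∀ y, C x y = 0) → x = 0) →
      ∀ x ∈ ⨆ n : ℕ, LinearMap.ker (aeval f Q ^ n),
        (∀ y ∈ ⨆ n : ℕ, LinearMap.ker (aeval f Q ^ n), C x y = 0) → x = 0 := by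
    intro C hC hnd x hx hperp
    obtain ⟨N, hN⟩ := Filter.eventually_atTop.1 (LinearMap.eventually_isCompl_ker_pow_range_pow (aeval f Q))
    obtain ⟨n, hn⟩ := (Submodule.mem_iSup_of_directed _
      (Monotone.directed_le (aeval f Q).iterateKer.monotone)).1 hx
    set L := max N n
    have hL : (aeval f Q ^ L) x = 0 := by
      rw [show (aeval f Q ^ L) = aeval f Q ^ (L - n) * aeval f Q ^ n by
        rw [← pow_add, Nat.sub_add_cancel (le_max_right N n)], Module.End.mul_apply]
      rw [show (aeval f Q ^ n) x = 0 from hn, map_zero]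
    refine hnd x fun y => ?_
    obtain ⟨a, ha, b, ⟨z, rfl⟩, rfl⟩ :=
      Submodule.mem_sup.1 ((hN L (le_max_left _ _)).sup_eq_top ▸ Submodule.mem_top (x := y))
    rw [map_add, hperp a (Submodule.mem_iSup_of_mem L ha), zero_add]
    -- `Q(f) = unit * Q(f⁻¹)`
    obtain ⟨r, -, hr⟩ := Polynomial.isUnit_iff.1 c.isUnit
    have hQf : ∃ u : Module.End k V, aeval f Q = u * aeval g Q ∧ Commute u (aeval g Q) := by
      have h1 := GrothLib.AbVarAlg.aeval_reverse_eq (k := k) f g hfg hgf Q
      rw [← hc, map_mul, ← hr, aeval_C] at h1
      refine ⟨algebraMap k _ r⁻¹ * f ^ Q.natDegree, ?_, ?_⟩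
      · rw [mul_assoc, ← h1, ← Algebra.commutes r, ← mul_assoc, ← map_mul, inv_mul_cancel₀, map_one, one_mul]
        rintro rfl
        exact (c.ne_zero) (by rw [← hr, map_zero])
      · exact (Algebra.commute_algebraMap_left _ _).mul_left ((commute_aeval f g (hfg.trans hgf.symm) _).pow_left _)
    obtain ⟨u, hu, huc⟩ := hQf
    rw [hu, huc.mul_pow, (huc.pow_pow L L).eq, Module.End.mul_apply,
      ← GrothLib.AbVarAlg.aeval_pow_adjoint C f g hC, hL, map_zero, LinearMap.zero_apply]
  refine ⟨fun x hx => ?_, fun y hy => ?_⟩
  · exact Subtype.ext (key B hadj hB.1 x x.2 fun y hy => hx ⟨y, hy⟩)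
  · exact Subtype.ext (key B.flip hadj' hB.2 y y.2 fun x hx => hy ⟨x, hx⟩)

end Groth.Agent.S19652
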