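import Groth.Statements.S19653
import Groth.Agent.Lib.Chev28.PropCover

set_option autoImplicit false
universe u
open AlgebraicGeometry CategoryTheory CategoryTheory.Limits
open EGA43

namespace Groth.Agent.S19653

/-- Let R be a discrete valuation ring and f : X → Spec R a flat, separated morphism of finite type
whose closed fibre is nonempty and proper over the residue field and whose generic fibre is
geometrically connected. Then f is proper, and its closed fibre is geometrically connected too. (The
published statement does not require the closed fibre to be nonempty; the affine line over the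
fraction field, viewed over R, has empty closed fibre and satisfies the other hypotheses without
being proper, and the published proof uses a point of the closed fibre, so nonemptiness is assumed
here.) -/
theorem result
    (R : Type u) [CommRing R] [IsDomain R] [IsDiscreteValuationRing R]
    (X : Scheme.{u}) (f : X ⟶ Spec (CommRingCat.of R))
    [Flat f] [IsSeparated f] [LocallyOfFiniteType f] [QuasiCompact f]
    [IsProper (f.fiberToSpecResidueField (IsLocalRing.closedPoint R))]
    [Nonempty ↥(f.fiber (IsLocalRing.closedPoint R))]
    [GeometricallyConnected (f.fiberToSpecResidueField (genericPoint ↥(Spec (CommRingCat.of R))))] :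
    IsProper f ∧ GeometricallyConnected (f.fiberToSpecResidueField (IsLocalRing.closedPoint R)) := by
  have hgen : ∀ η : ↥(Spec (CommRingCat.of R)), (∀ η', η' ⤳ η → η' = η) → Nonempty ↥(f.fiber η) →
      GeometricallyConnected (f.fiberToSpecResidueField η) := fun η hη _ => by
    rw [← hη _ (genericPoint_specializes η)]
    infer_instance
  obtain ⟨U, hU, hP⟩ := GrothLib.Chev28.isProper_nhd_of_flat f hgen (IsLocalRing.closedPoint R) ‹_›
  have hUtop : U = ⊤ := top_unique fun v _ =>
    (IsLocalRing.specializes_closedPoint (R := R) v).mem_open U.isOpen hU
  subst hUtop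
  haveI hf : IsProper f := IsZariskiLocalAtTarget.of_iSup_eq_top (P := @IsProper) (fun _ : PUnit.{u+1} => ⊤)
    (by simp) fun _ => hP
  refine ⟨hf, ?_⟩
  rw [GrothLib.GeomComp6.geometricallyConnected_iff_count]
  intro q
  rw [GrothLib.Chev28.nGeomConnComp_fiber]
  haveI : LocallyOfFinitePresentation f := LocallyOfFinitePresentation.iff_locallyOfFiniteType.mpr inferInstance
  haveI : Surjective f := by
    refine ⟨fun v => ?_⟩
    obtain ⟨a⟩ := ‹Nonempty ↥(f.fiber (IsLocalRing.closedPoint R))›
    obtain ⟨w, -, hw⟩ := Flat.generalizingMap f (show v ⤳ f (f.fiberι _ a) by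
      rw [GrothLib.FibreFlat.fiberι_comp_apply f _ a]
      exact IsLocalRing.specializes_closedPoint (R := R) v)
    exact ⟨w, hw⟩
  refine le_antisymm ((GrothLib.Chev28.nGeomConnComp_of_specializes f (genericPoint_specializes _)
    fun x _ => GrothLib.Chev28.isUnivOpenAt_of_flat f x).1.trans (le_of_eq ?_))
    (GrothLib.Chev28.one_le_nGeomConnComp f _)
  rw [← GrothLib.Chev28.nGeomConnComp_fiber f _ (IsLocalRing.closedPoint
    (Scheme.residueField _ (genericPoint ↥(Spec (CommRingCat.of R)))))]
  exact (GrothLib.GeomComp6.geometricallyConnected_iff_count _).mp inferInstance _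

end Groth.Agent.S19653
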