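import Groth.Statements.S19656
import Groth.Agent.Lib.Chev28.PropMain

set_option autoImplicit false
universe u
open AlgebraicGeometry CategoryTheory CategoryTheory.Limits Topology
open EGA43

namespace Groth.Agent.S19656

/-- Let S be a locally Noetherian scheme and f : X → S a flat, separated morphism of finite type whose
fibres over the maximal points of S (points without proper generization), when nonempty, are
geometrically connected. If the fibre of f over a point s is nonempty and proper over the residue
field, then f is proper over an open neighbourhood of s. (The text allows an arbitrary base with f
of finite presentation, reducing to the Noetherian case by a limit argument it does not carry out;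
the base is taken locally Noetherian here. As in the discrete-valuation-ring case, the fibre over s
must be nonempty: the affine line over the fraction field of a discrete valuation ring has empty,
hence proper, closed fibre and is not proper near the closed point.) -/
theorem result
    {X S : Scheme.{u}} [IsLocallyNoetherian S] (f : X ⟶ S)
    [Flat f] [IsSeparated f] [LocallyOfFiniteType f] [QuasiCompact f]
    (hgen : ∀ η : S, (∀ η' : S, η' ⤳ η → η' = η) → Nonempty ↥(f.fiber η) →
      GeometricallyConnected (f.fiberToSpecResidueField η))
    (s : S) [Nonempty ↥(f.fiber s)] (hs : IsProper (f.fiberToSpecResidueField s)) :
    ∃ U : S.Opens, s ∈ U ∧ IsProper (f ∣_ U) := by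
  exact GrothLib.Chev28.isProper_nhd_of_flat f hgen s hs

end Groth.Agent.S19656
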