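import Groth.Statements.S19658
import Mathlib
import Groth.Agent.Lib.AbMul.EtalePow
import Groth.Agent.Lib.Hensel.Sections

set_option autoImplicit false
universe u
open CategoryTheory CategoryTheory.Limits MonoidalCategory CartesianMonoidalCategory AlgebraicGeometry
open Neron

namespace Groth.Agent.S19658

open CategoryTheory CategoryTheory.Limits AlgebraicGeometry IsLocalRing

/-- Sections of an unramified morphism over a local scheme agreeing at the closed point agree. -/
theorem eq_of_residue {R : Type u} [CommRing R] [IsLocalRing R] {E : Scheme.{u}}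
    (g : E ⟶ Spec (CommRingCat.of R)) [FormallyUnramified g] [LocallyOfFiniteType g]
    (u v : Spec (CommRingCat.of R) ⟶ E) (hu : u ≫ g = 𝟙 _) (hv : v ≫ g = 𝟙 _)
    (h : Spec.map (CommRingCat.ofHom (residue R)) ≫ u = Spec.map (CommRingCat.ofHom (residue R)) ≫ v) :
    u = v := by
  let p := pullback.lift u v (hu.trans hv.symm)
  let o : Spec (CommRingCat.of (ResidueField R)) := closedPoint _
  let i := Spec.map (CommRingCat.ofHom (residue R))
  have hi : i o = closedPoint R := comap_closedPoint (residue R)
  have hq : (i ≫ u) ≫ pullback.diagonal g = i ≫ p := by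
    apply pullback.hom_ext
    · rw [Category.assoc, pullback.diagonal_fst, Category.comp_id]
      exact congrArg (i ≫ ·) (pullback.lift_fst u v (hu.trans hv.symm)).symm
    · rw [Category.assoc, pullback.diagonal_snd, Category.comp_id]
      exact h.trans (congrArg (i ≫ ·) (pullback.lift_snd u v (hu.trans hv.symm)).symm)
  have hp : Set.range p ⊆ Set.range (pullback.diagonal g) := by
    rintro _ ⟨z, rfl⟩
    have hmem : closedPoint R ∈ p ⁻¹ᵁ (pullback.diagonal g).opensRange := by
      show p (closedPoint R) ∈ (pullback.diagonal g).opensRange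
      rw [← hi, ← Scheme.Hom.comp_apply, ← hq]
      exact ⟨(i ≫ u) o, rfl⟩
    exact (IsLocalRing.closed_point_mem_iff.mp hmem).ge (Set.mem_univ z)
  let l := IsOpenImmersion.lift (pullback.diagonal g) p hp
  have hl : l ≫ pullback.diagonal g = p := IsOpenImmersion.lift_fac _ _ _
  have h1 := congrArg (· ≫ pullback.fst g g) hl
  have h2 := congrArg (· ≫ pullback.snd g g) hl
  simp only [p, Category.assoc, pullback.diagonal_fst, pullback.diagonal_snd, Category.comp_id,
    pullback.lift_fst, pullback.lift_snd] at h1 h2
  exact h1.symm.trans h2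

end Groth.Agent.S19658

namespace Groth.Agent.S19658

/-- The first display of the lemma, in the generality its argument gives. Let R be a henselian local
ring with residue field k, G a commutative group scheme over Spec R that is smooth, separated and
quasi-compact, and N a natural number which is a unit in R. Then every k-valued point of G killed by
N lifts to exactly one R-valued point of G killed by N; that is, reduction G(R)[N] → G(k)[N] is a
bijection on N-torsion. (The text applies this to the Néron model of an abelian variety over a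
henselian discrete valuation ring, where G(R) = A(K).) -/
theorem result
    (R : Type u) [CommRing R] [HenselianLocalRing R]
    (G : Over (Spec (CommRingCat.of R))) [GrpObj G] [IsCommMonObj G]
    [Smooth G.hom] [IsSeparated G.hom] [QuasiCompact G.hom]
    (N : ℕ) (hN : IsUnit (N : R))
    (τ : Over.mk (Spec.map (CommRingCat.ofHom (IsLocalRing.residue R))) ⟶ G)
    (hτ : τ ∈ AbDual.torsPts G N (Over.mk (Spec.map (CommRingCat.ofHom (IsLocalRing.residue R))))) :
    ∃! σ : Over.mk (𝟙 (Spec (CommRingCat.of R))) ⟶ G,
      σ ∈ AbDual.torsPts G N (Over.mk (𝟙 (Spec (CommRingCat.of R)))) ∧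
        Over.homMk (Spec.map (CommRingCat.ofHom (IsLocalRing.residue R))) (Category.comp_id _) ≫ σ = τ := by
  open CategoryTheory.MonoidalCategory CategoryTheory.CartesianMonoidalCategory CategoryTheory.MonObj CategoryTheory.GrpObj in
  let i := Spec.map (CommRingCat.ofHom (IsLocalRing.residue R))
  set f := (𝟙 G ^ (N : ℤ)).left with hf
  have hu : IsUnit ((N : ℤ) : Γ((Spec (CommRingCat.of R)), ⊤)) := by
    have := hN.map (Scheme.ΓSpecIso (CommRingCat.of R)).inv.hom
    rw [map_natCast] at this
    simpa using this
  haveI : Etale f := GrothLib.AbMul.etale_pow_relative G _ hu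
  let e := (MonObj.one : 𝟙_ (Over (Spec (CommRingCat.of R))) ⟶ G).left
  let E := Limits.pullback f e
  let g : E ⟶ (Spec (CommRingCat.of R)) := Limits.pullback.snd f e
  have he : e ≫ G.hom = 𝟙 (Spec (CommRingCat.of R)) := Over.w (MonObj.one : 𝟙_ (Over (Spec (CommRingCat.of R))) ⟶ G)
  have hfst : Limits.pullback.fst f e ≫ G.hom = g := by
    have := congrArg (· ≫ G.hom) (Limits.pullback.condition (f := f) (g := e))
    simp only [Category.assoc, hf, Over.w] at this
    exact this.trans ((congrArg (g ≫ ·) he).trans (Category.comp_id g))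
  have key : ∀ {T : Over (Spec (CommRingCat.of R))} (a : T ⟶ G), a ^ N = 1 ↔ a.left ≫ f = T.hom ≫ e := by
    intro T a
    have h : a ≫ (𝟙 G ^ (N : ℤ)) = a ^ N := by
      rw [GrpObj.comp_zpow, Category.comp_id, zpow_natCast]
    have h1 : (1 : T ⟶ G).left = T.hom ≫ e := by
      rw [Hom.one_def, Over.comp_left]
      rfl
    constructor
    · intro ha
      rw [← h1, ← ha, ← h]
      rfl
    · intro ha
      rw [← h]
      ext : 1
      rw [Over.comp_left, h1]
      exact ha
  have hτ0 : τ.left ≫ f = i ≫ e := (key τ).mp hτ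
  let u₀ : Spec (CommRingCat.of (IsLocalRing.ResidueField R)) ⟶ E :=
    Limits.pullback.lift τ.left i hτ0
  obtain ⟨u, hu1, hu2⟩ :=
    GrothLib.Hensel.exists_section_extending g u₀ (Limits.pullback.lift_snd _ _ _)
  let σ : Over.mk (𝟙 (Spec (CommRingCat.of R))) ⟶ G := Over.homMk (u ≫ Limits.pullback.fst f e)
    (by show (u ≫ Limits.pullback.fst f e) ≫ G.hom = 𝟙 (Spec (CommRingCat.of R)); rw [Category.assoc, hfst, hu1])
  refine ⟨σ, ⟨(key σ).mpr ?_, ?_⟩, ?_⟩
  · show (u ≫ Limits.pullback.fst f e) ≫ f = 𝟙 (Spec (CommRingCat.of R)) ≫ e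
    rw [Category.assoc, Limits.pullback.condition, reassoc_of% hu1, Category.id_comp]
  · ext : 1
    show i ≫ u ≫ Limits.pullback.fst f e = τ.left
    rw [reassoc_of% hu2]
    exact Limits.pullback.lift_fst _ _ _
  · rintro σ' ⟨h1, h2⟩
    have h1' : σ'.left ≫ f = 𝟙 (Spec (CommRingCat.of R)) ≫ e := (key σ').mp h1
    let v : (Spec (CommRingCat.of R)) ⟶ E := Limits.pullback.lift σ'.left (𝟙 (Spec (CommRingCat.of R))) h1'
    have hv : v ≫ g = 𝟙 (Spec (CommRingCat.of R)) := Limits.pullback.lift_snd _ _ _
    have h2' : i ≫ σ'.left = τ.left := congrArg Over.Hom.left h2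
    have huv : u = v := eq_of_residue g u v hu1 hv (by
      apply Limits.pullback.hom_ext
      · rw [hu2, Category.assoc, Limits.pullback.lift_fst, Limits.pullback.lift_fst, h2']
      · rw [Category.assoc, Category.assoc, hv]
        exact congrArg (i ≫ ·) hu1)
    ext : 1
    show σ'.left = u ≫ Limits.pullback.fst f e
    rw [huv]
    exact (Limits.pullback.lift_fst _ _ _).symm

end Groth.Agent.S19658
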