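import Groth.Statements.S19659
-- import your own Groth.Agent.* helpers here
import Groth.Agent.Lib.GrpSchField.HomFlat
import Groth.Agent.Lib.FibreFlat.Fibrewise
import Groth.Agent.Lib.Rigidity.Relative.AbScheme
import Groth.Agent.Lib.DiagGrp.KernelFP

set_option autoImplicit false
universe u
open CategoryTheory CategoryTheory.Limits MonoidalCategory CartesianMonoidalCategory MonObj GrpObj AlgebraicGeometry
open AbSch

namespace Groth.Agent.S19659

/-- Let S be a scheme, A and B abelian schemes over S (proper smooth S-group schemes with geometrically
connected fibres) and f : A → B a homomorphism. Then f is flat exactly when it is surjective. -/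
theorem result
    {S : Scheme.{u}} (A B : Over S) [GrpObj A] [IsProper A.hom] [Smooth A.hom] [GeometricallyConnected A.hom]
    [GrpObj B] [IsProper B.hom] [Smooth B.hom] [GeometricallyConnected B.hom]
    (f : A ⟶ B) [IsMonHom f] :
    Flat f.left ↔ Surjective f.left := by
  haveI : IsProper (f.left ≫ B.hom) := by rw [Over.w]; infer_instance
  haveI : IsProper f.left := IsProper.of_comp f.left B.hom
  haveI : Smooth (f.left ≫ B.hom) := by rw [Over.w]; infer_instance
  haveI : LocallyOfFinitePresentation f.left := GrothLib.DiagGrp.lfp_of_comp_of_lft f.left B.hom inferInstance inferInstance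
  constructor
  · intro hflat
    refine ⟨fun b => ?_⟩
    have hclopen : IsClopen (Set.range f.left) :=
      ⟨f.left.isClosedMap.isClosed_range, f.left.isOpenMap.isOpen_range⟩
    have hconn := B.hom.isConnected_preimage_singleton (B.hom b)
    refine hconn.2.subset_isClopen hclopen ⟨η[B].left (B.hom b), ?_, ?_⟩ rfl
    · show B.hom (η[B].left (B.hom b)) = B.hom b
      rw [GrothLib.Rigidity.left_apply_hom η[B]]
      rfl
    · refine ⟨η[A].left (B.hom b), ?_⟩
      rw [← Scheme.Hom.comp_apply, ← Over.comp_left, IsMonHom.one_hom]
  · intro hsurj
    refine GrothLib.FibreFlat.flat_of_fibrewise' f.left B.hom (fun s => ?_)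
    let jj : Spec (CommRingCat.of (S.residueField s)) ⟶ S := S.fromSpecResidueField s
    let P := Over.pullback jj
    let A' : Over (Spec (CommRingCat.of (S.residueField s))) := P.obj A
    let B' : Over (Spec (CommRingCat.of (S.residueField s))) := P.obj B
    let _ : GrpObj A' := Functor.grpObjObj
    let _ : GrpObj B' := Functor.grpObjObj
    let F : A' ⟶ B' := P.map f
    haveI : IsMonHom F := inferInstanceAs (IsMonHom (P.map f))
    have sq : IsPullback (pullback.fst A.hom jj) F.left f.left (pullback.fst B.hom jj) := by
      refine IsPullback.of_bot ?_ ?_ (IsPullback.of_hasPullback B.hom jj)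
      · have : F.left ≫ pullback.snd B.hom jj = pullback.snd A.hom jj := Over.w F
        rw [this, Over.w]
        exact IsPullback.of_hasPullback A.hom jj
      · exact (pullback.lift_fst _ _ _).symm
    haveI : LocallyOfFiniteType A'.hom := inferInstanceAs (LocallyOfFiniteType (pullback.snd A.hom jj))
    haveI : LocallyOfFiniteType B'.hom := inferInstanceAs (LocallyOfFiniteType (pullback.snd B.hom jj))
    haveI : Smooth B'.hom := inferInstanceAs (Smooth (pullback.snd B.hom jj))
    haveI : IsReduced B'.left := GrothLib.Rigidity.isReduced_of_smooth B'.hom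
    haveI : Surjective F.left := MorphismProperty.of_isPullback (P := @Surjective) sq hsurj
    haveI : QuasiCompact F.left := MorphismProperty.of_isPullback (P := @QuasiCompact) sq inferInstance
    have hF : Flat F.left := GrothLib.GrpSchField.flat_hom F
    have e : pullback.snd f.left (B.hom.fiberι s) = sq.isoPullback.inv ≫ F.left :=
      (sq.isoPullback_inv_snd).symm
    rw [e]
    exact (MorphismProperty.cancel_left_of_respectsIso @Flat sq.isoPullback.inv F.left).mpr hF

end Groth.Agent.S19659
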