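import Groth.Statements.S1966
import Groth.Agent.Lib.Hensel.Basic
import Mathlib.Dynamics.Newton
-- import your own Groth.Agent.* helpers here

set_option autoImplicit false
universe u
open EtAlg

namespace Groth.Agent.S1966

/-- Towers indexed by the natural numbers: let (A_k) be rings with surjective transition maps A_{k+1} ->
A_k whose kernels consist of nilpotent elements, and let A be a ring with compatible projections p_k
: A -> A_k identifying A with the set of compatible sequences (p is jointly injective and every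
compatible sequence comes from an element of A). Then for every k the pair (A, ker p_k) is
henselian. -/
theorem result (A : Type u) [CommRing A] (As : ℕ → Type u) [∀ k, CommRing (As k)]
    (t : ∀ k, As (k + 1) →+* As k) (ht : ∀ k, Function.Surjective (t k))
    (hnil : ∀ k (x : As (k + 1)), t k x = 0 → IsNilpotent x)
    (p : ∀ k, A →+* As k) (hp : ∀ k, (t k).comp (p (k + 1)) = p k)
    (hinj : ∀ a b : A, (∀ k, p k a = p k b) → a = b)
    (hsurj : ∀ x : ∀ k, As k, (∀ k, t k (x (k + 1)) = x k) → ∃ a : A, ∀ k, p k a = x k) (k : ℕ) :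
    HenselianRing A (RingHom.ker (p k)) := by
  have hk : ∀ x, p k x = 0 → ∀ m, IsNilpotent (p m x) := by
    intro x hx m
    have hdown : ∀ m, p (m + 1) x = 0 → p m x = 0 := fun m h ↦ by
      rw [← RingHom.congr_fun (hp m) x, RingHom.comp_apply, h, map_zero]
    induction m with
    | zero =>
      have h0 : ∀ j, p j x = 0 → p 0 x = 0 := fun j ↦ by
        induction j with
        | zero => exact id
        | succ j ih => exact fun h ↦ ih (hdown j h)
      exact ⟨1, by rw [pow_one, h0 k hx]⟩
    | succ m ih =>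
      obtain ⟨n, hn⟩ := ih
      obtain ⟨n', hn'⟩ := hnil m (p (m + 1) x ^ n) (by
        rw [map_pow, ← RingHom.comp_apply, hp, hn])
      exact ⟨n * n', by rw [pow_mul, hn']⟩
  have hinv : ∀ y, (∀ m, IsUnit (p m y)) → IsUnit y := fun y hy ↦ by
    obtain ⟨z, hz⟩ := hsurj (fun m ↦ ↑(hy m).unit⁻¹) fun m ↦ by
      refine (hy m).mul_left_cancel ?_
      rw [IsUnit.mul_val_inv, ← RingHom.congr_fun (hp m) y, RingHom.comp_apply, ← map_mul,
        IsUnit.mul_val_inv, map_one]
    exact isUnit_iff_exists_inv.mpr ⟨z, hinj _ _ fun m ↦ by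
      rw [map_mul, map_one, hz, IsUnit.mul_val_inv]⟩
  have hjac : RingHom.ker (p k) ≤ Ideal.jacobson ⊥ :=
    GrothLib.Hensel.le_jacobson_of_forall_isUnit_one_add fun x hx ↦
      hinv _ fun m ↦ by rw [map_add, map_one]; exact (hk x hx m).isUnit_one_add
  refine ⟨hjac, fun q hq a₀ h₁ h₂ ↦ ?_⟩
  have hu : IsUnit (q.derivative.eval a₀) := GrothLib.Hensel.isUnit_of_isUnit_mk hjac h₂
  have hev : ∀ m (r : Polynomial A), Polynomial.aeval (p m a₀) (r.map (p m)) = p m (r.eval a₀) := fun m r ↦ by
    rw [Polynomial.coe_aeval_eq_eval, Polynomial.eval_map, Polynomial.eval₂_hom]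
  choose r hr hruniq using fun m ↦ Polynomial.existsUnique_nilpotent_sub_and_aeval_eq_zero
    (P := q.map (p m)) (x := p m a₀) (by rw [hev]; exact hk _ h₁ m)
    (by rw [Polynomial.derivative_map, hev]; exact hu.map (p m))
  have hcompat : ∀ m, t m (r (m + 1)) = r m := fun m ↦ hruniq m _ ⟨by
      rw [← RingHom.congr_fun (hp m) a₀, RingHom.comp_apply, ← map_sub]
      exact (hr (m + 1)).1.map (t m), by
      rw [Polynomial.coe_aeval_eq_eval, ← hp m, ← Polynomial.map_map, Polynomial.eval_map,
        Polynomial.eval₂_hom, ← Polynomial.coe_aeval_eq_eval, (hr (m + 1)).2, map_zero]⟩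
  obtain ⟨a, ha⟩ := hsurj r hcompat
  refine ⟨a, hinj _ _ fun m ↦ ?_, ?_⟩
  · rw [map_zero, ← (hr m).2, Polynomial.coe_aeval_eq_eval, Polynomial.eval_map, ← ha,
      Polynomial.eval₂_hom]
  · have : r k = p k a₀ := (hruniq k _ ⟨by simp, by rw [hev]; exact h₁⟩).symm
    rw [RingHom.mem_ker, map_sub, ha, this, sub_self]
end Groth.Agent.S1966
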