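import Groth.Statements.S19660
import Groth.Agent.Lib.AbVarAlg.BilinAdjoint
import Mathlib.Algebra.Polynomial.RingDivision
-- import your own Groth.Agent.* helpers here

set_option autoImplicit false
universe u v
open AbVar

namespace Groth.Agent.S19660

/-- The text applies this to the Frobenius acting on the points of prime order of a principally
polarised abelian variety over a finite field with q elements and to their Weil pairing. Let k be a
field, V a finite-dimensional k-vector space with a nondegenerate bilinear form B, q a nonzero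
element of k and M a linear automorphism of V with B(Mx, My) = q·B(x, y) for all x, y. Write V₁ and
V_q for the generalized eigenspaces of M at 1 and at q. Then every vector of V₁ that is B-orthogonal
to all of V_q is zero, every vector of V_q that is B-orthogonal (on the right) to all of V₁ is zero,
and when q ≠ 1 the form B vanishes identically on V₁ × V₁ and on V_q × V_q. (The text asserts this
as the evident adaptation, to a form scaled by q, of the orthogonality and nondegeneracy facts for
generalized kernels of an automorphism preserving a form; the abstract statement is recorded here,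
the application to the Weil pairing needing that pairing's formalism.) -/
theorem result
    {k : Type u} [Field k] {V : Type v} [AddCommGroup V] [Module k V] [FiniteDimensional k V]
    (B : LinearMap.BilinForm k V) (hB : B.Nondegenerate) (q : k) (hq : q ≠ 0)
    (M : V ≃ₗ[k] V) (hM : ∀ x y : V, B (M x) (M y) = q * B x y) :
    (∀ x ∈ Module.End.maxGenEigenspace (M : Module.End k V) 1,
        (∀ y ∈ Module.End.maxGenEigenspace (M : Module.End k V) q, B x y = 0) → x = 0) ∧
      (∀ y ∈ Module.End.maxGenEigenspace (M : Module.End k V) q,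
        (∀ x ∈ Module.End.maxGenEigenspace (M : Module.End k V) 1, B x y = 0) → y = 0) ∧
      (q ≠ 1 → ∀ x ∈ Module.End.maxGenEigenspace (M : Module.End k V) 1,
        ∀ x' ∈ Module.End.maxGenEigenspace (M : Module.End k V) 1, B x x' = 0) ∧
      (q ≠ 1 → ∀ y ∈ Module.End.maxGenEigenspace (M : Module.End k V) q,
        ∀ y' ∈ Module.End.maxGenEigenspace (M : Module.End k V) q, B y y' = 0) := by
  set f : Module.End k V := (M : V →ₗ[k] V) with hf
  -- the adjoint of `f` (both ways) is `q f⁻¹`
  set g : Module.End k V := q • (M.symm : V →ₗ[k] V) with hg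
  have hl : ∀ u w, B (f u) w = B u (g w) := fun u w => by
    have := hM u (M.symm w); simp [hf, hg] at this ⊢; exact this
  have hr : ∀ u w, B.flip (f u) w = B.flip u (g w) := fun u w => by
    have := hM (M.symm w) u; simp [hf, hg] at this ⊢; exact this
  have key : ∀ (C : LinearMap.BilinForm k V), (∀ u w, C (f u) w = C u (g w)) → ∀ a b : k, a * b = q → ∀ n,
      ∀ x, ((f - a • (1 : Module.End k V)) ^ n) x = 0 → ∀ z, C x (((f - b • (1 : Module.End k V)) ^ n) z) = 0 := by
    intro C hC a b hab n x hx z
    have hb : f - b • (1 : Module.End k V) = (-1 : k) • (f * ((g - a • 1) * algebraMap k _ a⁻¹)) := by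
      have ha : a ≠ 0 := fun h => hq (by rw [← hab, h, zero_mul])
      ext v
      simp [hf, hg, Module.algebraMap_end_apply, smul_sub, smul_smul, ← hab]
      field_simp
      module
    have hc : Commute f ((g - a • 1) * algebraMap k _ a⁻¹) := by
      refine Commute.mul_right (Commute.sub_right ?_ ((Commute.one_right f).smul_right a))
        (Algebra.commute_algebraMap_right _ _)
      ext v; simp [hf, hg]
    rw [hb, smul_pow, hc.mul_pow, (hc.pow_pow n n).eq,
      ((Algebra.commute_algebraMap_right a⁻¹ (g - a • 1))).mul_pow]
    simp only [LinearMap.smul_apply, Module.End.mul_apply, map_smul, smul_eq_mul]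
    have hh := GrothLib.AbVarAlg.aeval_pow_adjoint C f g hC (Polynomial.X - Polynomial.C a) n x
    simp only [map_sub, Polynomial.aeval_X, Polynomial.aeval_C, ← Algebra.algebraMap_eq_smul_one] at hh hx ⊢
    rw [← hh, hx, map_zero, LinearMap.zero_apply, mul_zero]
  have hpair : ∀ (C : LinearMap.BilinForm k V), (∀ u w, C (f u) w = C u (g w)) →
      (∀ x, (∀ y, C x y = 0) → x = 0) → ∀ a b : k, a * b = q →
      ∀ x ∈ Module.End.maxGenEigenspace f a,
        (∀ y ∈ Module.End.maxGenEigenspace f b, C x y = 0) → x = 0 := by
    intro C hC hnd a b hab x hx hperp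
    obtain ⟨n, hn⟩ := (Module.End.mem_maxGenEigenspace _ _ _).1 hx
    obtain ⟨N, hN⟩ := Filter.eventually_atTop.1 (LinearMap.eventually_isCompl_ker_pow_range_pow (f - b • (1 : Module.End k V)))
    refine hnd x fun y => ?_
    obtain ⟨u, hu, w, ⟨z, rfl⟩, rfl⟩ :=
      Submodule.mem_sup.1 ((hN (max N n) (le_max_left _ _)).sup_eq_top ▸ Submodule.mem_top (x := y))
    rw [map_add, hperp u ((Module.End.mem_maxGenEigenspace _ _ _).2 ⟨_, hu⟩), zero_add]
    exact key C hC a b hab _ x (Module.End.pow_map_zero_of_le (le_max_right N n) hn) z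
  have hiso : q ≠ 1 → ∀ a b c : k, a * b = q → c ≠ b → ∀ x ∈ Module.End.maxGenEigenspace f a,
      ∀ x' ∈ Module.End.maxGenEigenspace f c, B x x' = 0 := by
    intro _ a b c hab hcb x hx x' hx'
    obtain ⟨n, hn⟩ := (Module.End.mem_maxGenEigenspace _ _ _).1 hx
    obtain ⟨m, hm⟩ := (Module.End.mem_maxGenEigenspace _ _ _).1 hx'
    have hco : IsCoprime (Polynomial.X - Polynomial.C b) (Polynomial.X - Polynomial.C c) :=
      Polynomial.isCoprime_X_sub_C_of_isUnit_sub (isUnit_iff_ne_zero.2 (sub_ne_zero.2 (Ne.symm hcb)))
    obtain ⟨z, rfl⟩ := GrothLib.AbVarAlg.exists_eq_aeval_of_isCoprime f hco n m (y := x') (by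
      simpa [Algebra.algebraMap_eq_smul_one] using hm)
    simpa [Algebra.algebraMap_eq_smul_one] using key B hl a b hab n x hn z
  refine ⟨fun x hx h => hpair B hl hB.1 1 q (one_mul q) x hx h,
    fun y hy h => hpair B.flip hr hB.2 q 1 (mul_one q) y hy h,
    fun h1 => hiso h1 1 q 1 (one_mul q) (Ne.symm h1),
    fun h1 => hiso h1 q 1 q (mul_one q) h1⟩

end Groth.Agent.S19660
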