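import Groth.Statements.S19661
-- import your own Groth.Agent.* helpers here
import Groth.Agent.Lib.GrassCat26.Basic
import Groth.Agent.Lib.HomZero10.Basic
import Groth.Agent.Lib.QCoh.SupportExact

set_option autoImplicit false
universe u
open CategoryTheory CategoryTheory.Limits AlgebraicGeometry
open Grass

set_option backward.isDefEq.respectTransparency false
set_option linter.style.haveILetI false

noncomputable section

open GrothLib

namespace GrothAux.S19661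

open GrothLib.GrassCat26

variable {X G₁ G₂ : Scheme.{u}} {π₁ : G₁ ⟶ X} {π₂ : G₂ ⟶ X} {E₁ E₂ : X.Modules} {v : E₁ ⟶ E₂} [Epi v]
  {e : ℕ} {Q₁ : G₁.Modules} {q₁ : (Scheme.Modules.pullback π₁).obj E₁ ⟶ Q₁}
  {Q₂ : G₂.Modules} {q₂ : (Scheme.Modules.pullback π₂).obj E₂ ⟶ Q₂}

theorem quotBC_precomp {T G : Scheme.{u}} {π : G ⟶ X} {Q : G.Modules} {h : T ⟶ G} {g : T ⟶ X} (hg : h ≫ π = g)
    {E E' : X.Modules} (w : E' ⟶ E) (q : (Scheme.Modules.pullback π).obj E ⟶ Q) :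
    Grass.quotBC hg ((Scheme.Modules.pullback π).map w ≫ q) =
      (Scheme.Modules.pullback g).map w ≫ Grass.quotBC hg q := by
  simp only [Grass.quotBC, Functor.map_comp]
  rw [(Scheme.Modules.pullbackCongr hg).inv.naturality_assoc w]
  erw [(Scheme.Modules.pullbackComp h π).inv.naturality_assoc w]
  rfl

theorem mono_map (hG₁ : Grass.IsGrass π₁ E₁ e Q₁ q₁) (hG₂ : Grass.IsGrass π₂ E₂ e Q₂ q₂) :
    Mono (hG₁.mapOfEpi hG₂ v) := by
  constructor
  intro T a b hab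
  let φ := hG₁.mapOfEpi hG₂ v
  have hφ : φ ≫ π₁ = π₂ := hG₁.mapOfEpi_comp hG₂ v
  obtain ⟨_, ι, hι⟩ : ∃ (hg : φ ≫ π₁ = π₂) (ι : (Scheme.Modules.pullback φ).obj Q₁ ≅ Q₂),
      Grass.quotBC hg q₁ ≫ ι.hom = (Scheme.Modules.pullback π₂).map v ≫ q₂ := hG₁.lift_spec π₂ Q₂ hG₂.rank _ _
  let g := a ≫ π₂
  have hb : b ≫ π₂ = g := by rw [← hφ, ← Category.assoc, ← hab, Category.assoc, hφ]
  let τ : ∀ c : T ⟶ G₂, (Scheme.Modules.pullback (c ≫ φ)).obj Q₁ ≅ (Scheme.Modules.pullback c).obj Q₂ := fun c =>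
    (Scheme.Modules.pullbackComp c φ).symm.app Q₁ ≪≫ (Scheme.Modules.pullback c).mapIso ι
  have hτ : ∀ (c : T ⟶ G₂) (hc : c ≫ π₂ = g) (hc' : (c ≫ φ) ≫ π₁ = g),
      Grass.quotBC hc' q₁ ≫ (τ c).hom = (Scheme.Modules.pullback g).map v ≫ Grass.quotBC hc q₂ := by
    intro c hc hc'
    simp only [τ, Iso.trans_hom, Iso.app_hom, Iso.symm_hom, Functor.mapIso_hom]
    rw [← Category.assoc, quotBC_comp q₁ φ c hφ hc hc', ← quotBC_whisker, hι, quotBC_precomp]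
  have ha' : (a ≫ φ) ≫ π₁ = g := by rw [Category.assoc, hφ]
  have hb' : (b ≫ φ) ≫ π₁ = g := by rw [Category.assoc, hφ, hb]
  haveI := hG₂.epi
  haveI := Grass.epi_pullback_map g v
  refine (hG₂.univ T g _ (OX.isFinLocFreeOfRank_pullback a hG₂.rank) (Grass.quotBC rfl q₂)
    (epi_quotBC _ _)).unique ⟨rfl, Iso.refl _, Category.comp_id _⟩
    ⟨hb, (τ b).symm ≪≫ (Scheme.Modules.pullbackCongr hab.symm).app Q₁ ≪≫ τ a, ?_⟩
  rw [← cancel_epi ((Scheme.Modules.pullback g).map v), ← hτ a rfl ha', ← Category.assoc, ← hτ b hb hb']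
  simp only [Iso.trans_hom, Iso.symm_hom, Iso.app_hom, Category.assoc, Iso.hom_inv_id_assoc]
  have hcg := quotBC_congr hab.symm hb' ha' q₁
  simp only [Grass.quotBC, Category.assoc] at hcg ⊢
  have h2 := hcg =≫ (τ a).hom
  simp only [Category.assoc] at h2
  exact h2

theorem main (hE₁ : E₁.IsQuasicoherent) (hE₂ : E₂.IsQuasicoherent)
    (hG₁ : Grass.IsGrass π₁ E₁ e Q₁ q₁) (hG₂ : Grass.IsGrass π₂ E₂ e Q₂ q₂) :
    IsClosedImmersion (hG₁.mapOfEpi hG₂ v) := by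
  let φ := hG₁.mapOfEpi hG₂ v
  have hφ : φ ≫ π₁ = π₂ := hG₁.mapOfEpi_comp hG₂ v
  haveI : Mono φ := mono_map hG₁ hG₂
  obtain ⟨_, ι, hι⟩ : ∃ (hg : φ ≫ π₁ = π₂) (ι : (Scheme.Modules.pullback φ).obj Q₁ ≅ Q₂),
      Grass.quotBC hg q₁ ≫ ι.hom = (Scheme.Modules.pullback π₂).map v ≫ q₂ := hG₁.lift_spec π₂ Q₂ hG₂.rank _ _
  haveI : (kernel v).IsQuasicoherent := QCoh.isQuasicoherent_kernel v
  haveI := FittSheaf.isQuasicoherent_pullback π₁ (kernel v)
  haveI : Q₁.IsQuasicoherent := (Euler.isCoh_of_isFinLocFree (FinCov.isFinLocFree_of_rank hG₁.rank)).1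
  let w := (Scheme.Modules.pullback π₁).map (kernel.ι v) ≫ q₁
  have hQ₁ : FlatMod.IsFinLocFree Q₁ := FinCov.isFinLocFree_of_rank hG₁.rank
  have hzero : ∀ {T : Scheme.{u}} (h : T ⟶ G₁) {g : T ⟶ X} (hg : h ≫ π₁ = g),
      (Scheme.Modules.pullback h).map w = 0 ↔ (Scheme.Modules.pullback g).map (kernel.ι v) ≫ Grass.quotBC hg q₁ = 0 := by
    intro T h g hg
    rw [← quotBC_precomp hg, Grass.quotBC]
    constructor
    · intro hw
      rw [show (Scheme.Modules.pullback h).map ((Scheme.Modules.pullback π₁).map (kernel.ι v) ≫ q₁) = 0 from hw,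
        comp_zero, comp_zero]
    · intro hw
      rw [← Category.assoc] at hw
      exact (cancel_epi _).1 (hw.trans comp_zero.symm)
  obtain ⟨g, hg⟩ := (HomZero10.factors_iff hQ₁ w φ).2 (by
    rw [hzero φ hφ, ← cancel_mono ι.hom, Category.assoc, hι, ← Category.assoc, ← Functor.map_comp, kernel.condition,
      Functor.map_zero, zero_comp, zero_comp])
  let c := (HomZero10.idealSheaf hQ₁ w).subschemeι
  have hc0 : (Scheme.Modules.pullback c).map w = 0 := (HomZero10.factors_iff hQ₁ w c).1 ⟨𝟙 _, Category.id_comp _⟩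
  let gZ := c ≫ π₁
  haveI := (Scheme.Modules.pullbackPushforwardAdjunction gZ).leftAdjoint_preservesColimits
  have hcol := isColimitCoforkMapOfIsColimit' (Scheme.Modules.pullback gZ) _
    (Abelian.epiIsCokernelOfKernel (KernelFork.ofι _ (kernel.condition v)) (kernelIsKernel v))
  obtain ⟨s, hs⟩ := CokernelCofork.IsColimit.desc' hcol (Grass.quotBC (rfl : c ≫ π₁ = gZ) q₁) ((hzero c rfl).1 hc0)
  change (Scheme.Modules.pullback gZ).map v ≫ s = _ at hs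
  haveI := hG₁.epi
  haveI := epi_quotBC (rfl : c ≫ π₁ = gZ) q₁
  haveI : Epi s := epi_of_epi_fac hs
  obtain ⟨ψ, ⟨hψ, eψ, heψ⟩, -⟩ := hG₂.univ _ gZ _ (OX.isFinLocFreeOfRank_pullback c hG₁.rank) s inferInstance
  have hψφ : ψ ≫ φ = c := by
    have hcomp : (ψ ≫ φ) ≫ π₁ = gZ := by rw [Category.assoc, hφ, hψ]
    refine (hG₁.univ _ gZ _ (OX.isFinLocFreeOfRank_pullback c hG₁.rank) (Grass.quotBC rfl q₁) inferInstance).unique
      ⟨hcomp, (Scheme.Modules.pullbackComp ψ φ).symm.app Q₁ ≪≫ (Scheme.Modules.pullback ψ).mapIso ι ≪≫ eψ, ?_⟩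
      ⟨rfl, Iso.refl _, Category.comp_id _⟩
    simp only [Iso.trans_hom, Iso.app_hom, Iso.symm_hom, Functor.mapIso_hom]
    rw [← Category.assoc, quotBC_comp q₁ φ ψ hφ hψ hcomp, ← Category.assoc, ← quotBC_whisker, hι, quotBC_precomp,
      Category.assoc, heψ, hs]
  have h1 : g ≫ ψ = 𝟙 _ := by rw [← cancel_mono φ, Category.assoc, hψφ, hg, Category.id_comp]
  have h2 : ψ ≫ g = 𝟙 _ := by rw [← cancel_mono c, Category.assoc, hg, hψφ, Category.id_comp]
  haveI : IsIso g := ⟨⟨ψ, h1, h2⟩⟩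
  change IsClosedImmersion φ
  rw [← hg]
  infer_instance

end GrothAux.S19661

namespace Groth.Agent.S19661

/-- Let `X` be a scheme, `E₁`, `E₂` quasi-coherent `O_X`-modules, `v : E₁ ⟶ E₂` an epimorphism and `e ≥
0`. Let `(G₁, π₁, Q₁, q₁)` be a Grassmannian of rank-`e` locally free quotients of `E₁` over `X` (a
representing scheme with its universal quotient `q₁ : π₁^* E₁ ⟶ Q₁`) and `(G₂, π₂, Q₂, q₂)` one of
`E₂`. Then the morphism `G₂ ⟶ G₁` over `X` classifying the rank-`e` quotient `π₂^* E₁ ⟶ π₂^* E₂ ⟶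
Q₂` of `E₁` (every quotient of `E₂` is a quotient of `E₁`) is a closed immersion. (The base is an
arbitrary scheme and the modules are only assumed quasi-coherent; the form over an affine base with
the Grassmannians given by their points in affine schemes is a separate statement.) -/
theorem result (X G₁ G₂ : Scheme.{u}) (π₁ : G₁ ⟶ X) (π₂ : G₂ ⟶ X)
    (E₁ E₂ : X.Modules) (hE₁ : Coh.IsQCoh E₁) (hE₂ : Coh.IsQCoh E₂) (v : E₁ ⟶ E₂) [Epi v] (e : ℕ)
    (Q₁ : G₁.Modules) (q₁ : (Scheme.Modules.pullback π₁).obj E₁ ⟶ Q₁) (hG₁ : Grass.IsGrass π₁ E₁ e Q₁ q₁)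
    (Q₂ : G₂.Modules) (q₂ : (Scheme.Modules.pullback π₂).obj E₂ ⟶ Q₂) (hG₂ : Grass.IsGrass π₂ E₂ e Q₂ q₂) :
    IsClosedImmersion (hG₁.mapOfEpi hG₂ v) := by
  exact GrothAux.S19661.main hE₁ hE₂ hG₁ hG₂

end Groth.Agent.S19661
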