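import Groth.Statements.S19663
-- import your own Groth.Agent.* helpers here
import Groth.Agent.Lib.GrassCat26.Basic

set_option autoImplicit false
universe u
open CategoryTheory CategoryTheory.Limits AlgebraicGeometry
open Grass

set_option backward.isDefEq.respectTransparency false
set_option linter.style.haveILetI false

noncomputable section

open GrothLib

namespace GrothAux.S19663

open GrothLib.GrassCat26

variable {X F F' : Scheme.{u}} {π : F ⟶ X} {π' : F' ⟶ X} {E : X.Modules} {m : ℕ}
  {n : Fin (m + 2) → ℕ} {Q : Fin (m + 1) → F.Modules} {q : ∀ i, (Scheme.Modules.pullback π).obj E ⟶ Q i}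
  {Q' : Fin (m + 2) → F'.Modules} {q' : ∀ i, (Scheme.Modules.pullback π').obj E ⟶ Q' i}

theorem main (hF : Grass.IsFlag π E (fun i => n (Fin.castSucc i)) Q q) (hF' : Grass.IsFlag π' E n Q' q')
    (φ : F' ⟶ F) (hφ : φ ≫ π = π')
    (ι : ∀ i, (Scheme.Modules.pullback φ).obj (Q i) ≅ Q' (Fin.castSucc i))
    (hι : ∀ i, Grass.quotBC hφ (q i) ≫ (ι i).hom = q' (Fin.castSucc i))
    (t : Q' (Fin.castSucc (Fin.last m)) ⟶ Q' (Fin.last (m + 1)))
    (ht : q' (Fin.castSucc (Fin.last m)) ≫ t = q' (Fin.last (m + 1))) :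
    Grass.IsGrass φ (Q (Fin.last m)) (n (Fin.last (m + 1))) (Q' (Fin.last (m + 1)))
      ((ι (Fin.last m)).hom ≫ t) where
  rank := hF'.rank _
  epi := by
    haveI := hF'.epi (Fin.last (m + 1))
    haveI : Epi t := epi_of_epi_fac ht
    infer_instance
  univ T g L hL s hs := by
    have hL' : ∀ i, FlatMod.IsFinLocFreeOfRank (n (Fin.castSucc i)) ((Scheme.Modules.pullback g).obj (Q i)) :=
      fun i => OX.isFinLocFreeOfRank_pullback g (hF.rank i)
    let M : Fin (m + 2) → T.Modules :=
      Fin.lastCases (motive := fun _ => T.Modules) L (fun i => (Scheme.Modules.pullback g).obj (Q i))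
    have hMc : ∀ i, M (Fin.castSucc i) = (Scheme.Modules.pullback g).obj (Q i) := fun i =>
      Fin.lastCases_castSucc i
    have hMl : M (Fin.last (m + 1)) = L := Fin.lastCases_last
    let s' : ∀ i, (Scheme.Modules.pullback (g ≫ π)).obj E ⟶ M i :=
      Fin.lastCases (Grass.quotBC rfl (q (Fin.last m)) ≫ s ≫ eqToHom hMl.symm)
        (fun i => Grass.quotBC rfl (q i) ≫ eqToHom (hMc i).symm)
    have hsl : s' (Fin.last (m + 1)) = Grass.quotBC rfl (q (Fin.last m)) ≫ s ≫ eqToHom hMl.symm :=
      Fin.lastCases_last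
    have hsc : ∀ i, s' (Fin.castSucc i) = Grass.quotBC rfl (q i) ≫ eqToHom (hMc i).symm := fun i =>
      Fin.lastCases_castSucc i
    have hrk : ∀ i, FlatMod.IsFinLocFreeOfRank (n i) (M i) := by
      intro i
      refine Fin.lastCases ?_ (fun i => ?_) i
      · exact hMl.symm ▸ hL
      · exact (hMc i).symm ▸ hL' i
    haveI := hs
    have hepi : ∀ i, Epi (s' i) := by
      intro i
      refine Fin.lastCases ?_ (fun i => ?_) i
      · rw [hsl]
        haveI := hF.epi (Fin.last m)
        haveI := epi_quotBC (rfl : g ≫ π = g ≫ π) (q (Fin.last m))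
        infer_instance
      · rw [hsc]
        haveI := hF.epi i
        haveI := epi_quotBC (rfl : g ≫ π = g ≫ π) (q i)
        infer_instance
    have hnest : ∀ i j : Fin (m + 1), i ≤ j → ∃ u : (Scheme.Modules.pullback g).obj (Q i) ⟶
        (Scheme.Modules.pullback g).obj (Q j),
        Grass.quotBC rfl (q i) ≫ u = Grass.quotBC (rfl : g ≫ π = g ≫ π) (q j) := by
      intro i j hij
      obtain ⟨u, hu⟩ := hF.nested i j hij
      exact ⟨(Scheme.Modules.pullback g).map u, by rw [← quotBC_whisker, hu]⟩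
    have hn' : ∀ i j, i ≤ j → ∃ u : M i ⟶ M j, s' i ≫ u = s' j := by
      intro i j
      refine Fin.lastCases ?_ (fun i => ?_) i <;> refine Fin.lastCases ?_ (fun j => ?_) j <;> intro hij
      · exact ⟨𝟙 _, Category.comp_id _⟩
      · exact absurd hij (not_le.2 (Fin.castSucc_lt_last j))
      · obtain ⟨u, hu⟩ := hnest i (Fin.last m) (Fin.le_last i)
        exact ⟨eqToHom (hMc i) ≫ u ≫ s ≫ eqToHom hMl.symm, by simp [hsl, hsc, reassoc_of% hu]⟩
      · obtain ⟨u, hu⟩ := hnest i j (Fin.castSucc_le_castSucc_iff.1 hij)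
        exact ⟨eqToHom (hMc i) ≫ u ≫ eqToHom (hMc j).symm, by simp [hsc, reassoc_of% hu]⟩
    obtain ⟨h, ⟨hh, e, he⟩, huniq⟩ := hF'.univ T (g ≫ π) M hrk s' hepi hn'
    have hhφ : h ≫ φ = g := by
      have hcomp : (h ≫ φ) ≫ π = g ≫ π := by rw [Category.assoc, hφ, hh]
      refine (hF.univ T (g ≫ π) _ hL' (fun i => Grass.quotBC rfl (q i)) (fun i => ?_) hnest).unique
        ⟨hcomp, fun i => (Scheme.Modules.pullbackComp h φ).symm.app (Q i) ≪≫
          (Scheme.Modules.pullback h).mapIso (ι i) ≪≫ e (Fin.castSucc i) ≪≫ eqToIso (hMc i), fun i => ?_⟩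
        ⟨rfl, fun i => Iso.refl _, fun i => Category.comp_id _⟩
      · haveI := hF.epi i
        exact epi_quotBC _ _
      · simp only [Iso.trans_hom, Iso.app_hom, Iso.symm_hom, Functor.mapIso_hom, eqToIso.hom]
        rw [← Category.assoc, quotBC_comp (q i) φ h hφ hh hcomp]
        rw [← Category.assoc, ← quotBC_whisker, hι, ← Category.assoc, he, hsc]
        simp
    have key : ∀ (k : T ⟶ F') (hk : k ≫ φ = g) (hkπ : k ≫ π' = g ≫ π) (i : Fin (m + 1)),
        Grass.quotBC (rfl : g ≫ π = g ≫ π) (q i) ≫ (Scheme.Modules.pullbackCongr hk).inv.app (Q i) ≫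
          (Scheme.Modules.pullbackComp k φ).inv.app (Q i) ≫ (Scheme.Modules.pullback k).map (ι i).hom =
        Grass.quotBC hkπ (q' (Fin.castSucc i)) := by
      intro k hk hkπ i
      have hcomp : (k ≫ φ) ≫ π = g ≫ π := by rw [hk]
      rw [← Category.assoc, ← quotBC_eq_congr_inv hk hcomp rfl, ← Category.assoc,
        quotBC_comp (q i) φ k hφ hkπ hcomp, ← quotBC_whisker, hι]
    refine ⟨h, ⟨hhφ, e (Fin.last (m + 1)) ≪≫ eqToIso hMl, ?_⟩, fun k hk' => ?_⟩
    · haveI := hF.epi (Fin.last m)
      haveI := epi_quotBC (rfl : g ≫ π = g ≫ π) (q (Fin.last m))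
      rw [← cancel_epi (Grass.quotBC (rfl : g ≫ π = g ≫ π) (q (Fin.last m)))]
      simp only [Grass.quotBC, Functor.map_comp, Category.assoc, Iso.trans_hom, eqToIso.hom]
      have h1 := key h hhφ hh (Fin.last m)
      simp only [Grass.quotBC, Category.assoc] at h1
      rw [reassoc_of% h1]
      have h2 := he (Fin.last (m + 1))
      simp only [Grass.quotBC, hsl, ← ht, Functor.map_comp, Category.assoc] at h2
      rw [reassoc_of% h2]
      simp
    · obtain ⟨hk, ek, hek⟩ := hk'
      have hkπ : k ≫ π' = g ≫ π := by rw [← hφ, ← Category.assoc, hk]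
      refine huniq k ⟨hkπ, Fin.lastCases (ek ≪≫ eqToIso hMl.symm) (fun i =>
        (Scheme.Modules.pullback k).mapIso (ι i).symm ≪≫ (Scheme.Modules.pullbackComp k φ).app (Q i) ≪≫
          (Scheme.Modules.pullbackCongr hk).app (Q i) ≪≫ eqToIso (hMc i).symm), fun i => ?_⟩
      refine Fin.lastCases ?_ (fun i => ?_) i
      · simp only [Fin.lastCases_last]
        rw [hsl, ← hek]
        have h1 := key k hk hkπ (Fin.last m)
        simp only [Grass.quotBC, Functor.map_comp, Category.assoc, Iso.trans_hom, eqToIso.hom] at h1 ⊢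
        rw [reassoc_of% h1]
        rw [← ht]
        simp
      · simp only [Fin.lastCases_castSucc]
        rw [hsc, ← key k hk hkπ i]
        simp only [Iso.trans_hom, Iso.app_hom, Functor.mapIso_hom, Iso.symm_hom, eqToIso.hom, Category.assoc,
          ← Functor.map_comp_assoc, Iso.hom_inv_id, CategoryTheory.Functor.map_id, Category.id_comp,
          Iso.inv_hom_id_app_assoc]

theorem isGrass_of_flag (hF : Grass.IsFlag π E (fun i => n (Fin.castSucc i)) Q q)
    (hF' : Grass.IsFlag π' E n Q' q')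
    (hq' : ∀ i j : Fin (m + 1), i ≤ j → ∃ t : Q' (Fin.castSucc i) ⟶ Q' (Fin.castSucc j),
      q' (Fin.castSucc i) ≫ t = q' (Fin.castSucc j)) :
    Grass.IsGrass
      (hF.lift π' (fun i => Q' (Fin.castSucc i)) (fun i => hF'.rank (Fin.castSucc i)) (fun i => q' (Fin.castSucc i))
        (fun i => hF'.epi (Fin.castSucc i)) hq')
      (Q (Fin.last m)) (n (Fin.last (m + 1))) (Q' (Fin.last (m + 1)))
      ((hF.liftIso π' (fun i => Q' (Fin.castSucc i)) (fun i => hF'.rank (Fin.castSucc i)) (fun i => q' (Fin.castSucc i))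
          (fun i => hF'.epi (Fin.castSucc i)) hq' (Fin.last m)).hom ≫
        (hF'.nested (Fin.castSucc (Fin.last m)) (Fin.last (m + 1)) (Fin.le_last _)).choose) :=
  main hF hF' _ (hF.lift_comp π' _ _ _ _ hq') _
    (fun i => hF.quotBC_liftIso π' (fun i => Q' (Fin.castSucc i)) (fun i => hF'.rank (Fin.castSucc i))
      (fun i => q' (Fin.castSucc i)) (fun i => hF'.epi (Fin.castSucc i)) hq' i)
    _ (hF'.nested (Fin.castSucc (Fin.last m)) (Fin.last (m + 1)) (Fin.le_last _)).choose_spec

end GrothAux.S19663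

namespace Groth.Agent.S19663

/-- Let `X` be a scheme, `E` an `O_X`-module, `m ≥ 0` and `n : Fin (m+2) → ℕ`. Let `(F', π', Q', q')` be
the partial flag scheme of `E` of type `n` (universal nested locally free quotients `q' i : π'^* E ⟶
Q' i` of ranks `n i`, index `0` the largest) and `(F, π, Q, q)` the partial flag scheme of the
truncated type `n ∘ Fin.castSucc` (the first `m+1` steps). Then the morphism `F' ⟶ F` over `X`
classifying the first `m+1` universal quotients of `F'`, together with the last universal quotient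
`Q' (m+1)` and the epimorphism onto it from the pulled-back `Q m` (through the classifying
isomorphism and the factoring map `Q' m ⟶ Q' (m+1)`), is the Grassmannian over `F` of rank-`n (m+1)`
locally free quotients of the last universal quotient `Q m` of `F`. (The source takes the base of
finite type over a field, `E` locally free of finite rank and the ranks positive and strictly
decreasing; the statement is made here for any base scheme, any module and any type.) -/
theorem result (X F F' : Scheme.{u}) (π : F ⟶ X) (π' : F' ⟶ X) (E : X.Modules)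
    (m : ℕ) (n : Fin (m + 2) → ℕ)
    (Q : Fin (m + 1) → F.Modules) (q : ∀ i, (Scheme.Modules.pullback π).obj E ⟶ Q i)
    (hF : Grass.IsFlag π E (fun i => n (Fin.castSucc i)) Q q)
    (Q' : Fin (m + 2) → F'.Modules) (q' : ∀ i, (Scheme.Modules.pullback π').obj E ⟶ Q' i)
    (hF' : Grass.IsFlag π' E n Q' q') :
    Grass.IsGrass
      (hF.lift π' (fun i => Q' (Fin.castSucc i)) (fun i => hF'.rank (Fin.castSucc i)) (fun i => q' (Fin.castSucc i))
        (fun i => hF'.epi (Fin.castSucc i))
        (fun i j hij => hF'.nested (Fin.castSucc i) (Fin.castSucc j) (Fin.castSucc_le_castSucc_iff.mpr hij)))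
      (Q (Fin.last m)) (n (Fin.last (m + 1))) (Q' (Fin.last (m + 1)))
      ((hF.liftIso π' (fun i => Q' (Fin.castSucc i)) (fun i => hF'.rank (Fin.castSucc i)) (fun i => q' (Fin.castSucc i))
          (fun i => hF'.epi (Fin.castSucc i))
          (fun i j hij => hF'.nested (Fin.castSucc i) (Fin.castSucc j) (Fin.castSucc_le_castSucc_iff.mpr hij))
          (Fin.last m)).hom ≫
        (hF'.nested (Fin.castSucc (Fin.last m)) (Fin.last (m + 1)) (Fin.le_last _)).choose) := by
  let hq' : ∀ i j : Fin (m + 1), i ≤ j → ∃ t : Q' (Fin.castSucc i) ⟶ Q' (Fin.castSucc j),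
      q' (Fin.castSucc i) ≫ t = q' (Fin.castSucc j) :=
    fun i j hij => hF'.nested (Fin.castSucc i) (Fin.castSucc j) (Fin.castSucc_le_castSucc_iff.mpr hij)
  exact GrothAux.S19663.isGrass_of_flag hF hF' hq'

end Groth.Agent.S19663
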