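import Groth.Statements.S19668
import Groth.Agent.Lib.Euler.Slope
import Groth.Agent.Lib.CurveMult.EndAlg
import Groth.Agent.Lib.Euler.Slope3

set_option autoImplicit false
universe u
open CategoryTheory CategoryTheory.Limits AlgebraicGeometry
open Curves

namespace Groth.Agent.S19668

/-- Stable bundles are simple. Let X be a nonsingular projective curve over an algebraically closed
field k (smooth, proper, integral, of dimension one) and E a locally free sheaf of rank r on X which
is stable: every locally free subsheaf G of rank s with 0 < s < r has deg G · r < deg E · s (degrees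
computed as χ − rank·χ(O_X)). Then every endomorphism φ of E is a scalar multiple of the identity, φ
= a · 𝟙_E for some a ∈ k, where k acts on Hom_{O_X}(E, E) through the structure morphism X → Spec k
(a acts as composition with multiplication by a on E). -/
theorem result (k : Type u) [Field k] [IsAlgClosed k] (X : Scheme.{u})
    [X.Over (Spec (CommRingCat.of k))] (hX : Curve.IsSmoothProperCurve k X (X ↘ Spec (CommRingCat.of k))) (r : ℕ)
    (E : X.Modules) (hE : FlatMod.IsFinLocFreeOfRank r E)
    (hst : ∀ (G : X.Modules) (s : ℕ) (ι : G ⟶ E), Mono ι → FlatMod.IsFinLocFreeOfRank s G → 0 < s → s < r →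
      Curv2.deg k X G s * (r : ℤ) < Curv2.deg k X E r * (s : ℤ))
    (φ : E ⟶ E) : ∃ a : k, φ = a • 𝟙 E := by
  obtain ⟨hp, hs, hint, hd⟩ := hX
  haveI := hp
  haveI := hs
  haveI := hint
  rcases Nat.eq_zero_or_pos r with rfl | hr
  · exact ⟨0, (GrothLib.Euler.isZero_of_rank_zero hE).eq_of_src _ _⟩
  have hiso : ∀ ψ : End E, ψ ≠ 0 → IsIso (ψ : E ⟶ E) := fun ψ h =>
    GrothLib.Euler.isIso_of_ne_zero_endo k hd.le
      (GrothLib.Euler.isPrincipalIdealRing_stalk_of_smooth (X ↘ Spec (CommRingCat.of k)) hd.le) hr hE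
      (fun G s ι hι h0 hlt hG => hst G s ι hι hG h0 hlt) ψ h
  have hunit : ∀ ψ : End E, ψ ≠ 0 → IsUnit ψ := fun ψ h => (isUnit_iff_isIso _).2 (hiso ψ h)
  have hidem : ∀ p : End E, p * p = p → p = 0 ∨ p = 1 := fun p hpp => (em (p = 0)).imp_right fun h =>
    (hunit p h).mul_left_cancel (hpp.trans (mul_one p).symm)
  obtain ⟨a, ha⟩ := GrothLib.CurveMult.exists_isNilpotent_sub k
    (GrothLib.Euler.isCoh_of_isFinLocFree (GrothLib.FinCov.isFinLocFree_of_rank hE)) hidem φ
  obtain ⟨φ', rfl⟩ : ∃ φ' : End E, φ' = φ := ⟨φ, rfl⟩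
  have h0 : φ' = GrothLib.CurveMult.endScalar k E a := by
    by_contra hne
    have hu : IsUnit (φ' - GrothLib.CurveMult.endScalar k E a) := hunit _ (sub_ne_zero.2 hne)
    obtain ⟨m, hm⟩ := ha
    have hz : IsUnit (0 : End E) := hm ▸ hu.pow m
    haveI : Subsingleton (End E) := isUnit_zero_iff.1 hz |> subsingleton_of_zero_eq_one
    exact hne (Subsingleton.elim _ _)
  refine ⟨a, Scheme.Modules.hom_ext _ _ fun U => ?_⟩
  ext m
  rw [h0]
  exact (GrothLib.Euler.smulMod_app _ _ _ _).trans
    (KLin.smul_app_apply (A := k) a (𝟙 E) U m).symm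

end Groth.Agent.S19668
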