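import Groth.Statements.S1967
import Groth.Agent.Lib.WeakDim.Square

set_option autoImplicit false
universe u
open TensorProduct
open EtAlg

namespace Groth.Agent.S1967

open TensorProduct

/-- An epimorphism criterion: the target is generated by fractions and the image. -/
theorem one_tmul_eq_of_mul_eq {R S : Type u} [CommRing R] [CommRing S] [Algebra R S] {z : S} {m a : R}
    (hm : IsUnit (algebraMap R S m)) (h : z * algebraMap R S m = algebraMap R S a) :
    (1 : S) ⊗ₜ[R] z = z ⊗ₜ[R] 1 := by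
  have hs : ∀ c : R, (1 : S) ⊗ₜ[R] algebraMap R S c = algebraMap R S c ⊗ₜ[R] 1 := fun c => by
    rw [Algebra.algebraMap_eq_smul_one, TensorProduct.tmul_smul, TensorProduct.smul_tmul']
  refine (hm.map (Algebra.TensorProduct.includeRight : S →ₐ[R] S ⊗[R] S)).mul_right_cancel ?_
  rw [Algebra.TensorProduct.includeRight_apply, Algebra.TensorProduct.tmul_mul_tmul, one_mul, h, hs, hs,
    Algebra.TensorProduct.tmul_mul_tmul, one_mul, ← h]


/-- Integral closedness descends along a fibre product with a ring of weak dimension one. -/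
theorem core {A B K W L : Type u} [CommRing A] [CommRing B] [Algebra A B] [Algebra.WeaklyEtale A B] [CommRing K]
    [Algebra A K] [CommRing W] [CommRing L] [Algebra A W] [Algebra W L] [Algebra A L] [IsScalarTower A W L]
    (M : Submonoid W) [IsLocalization M L] (hW : ∀ J : Ideal W, Module.Flat W J)
    (hinjWL : Function.Injective (algebraMap W L)) (δ : K →ₐ[A] L)
    (hfib : ∀ (k : K) (w : W), δ k = algebraMap W L w → ∃ a, algebraMap A K a = k ∧ algebraMap A W a = w)
    (z : B ⊗[A] K) (hz : IsIntegral B z) : ∃ b, algebraMap B (B ⊗[A] K) b = z := by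
  let ι : W →ₐ[A] L := IsScalarTower.toAlgHom A W L
  let g : W ⊗[A] B →ₐ[A] L ⊗[A] B := Algebra.TensorProduct.map ι (AlgHom.id A B)
  letI : Algebra (W ⊗[A] B) (L ⊗[A] B) := g.toRingHom.toAlgebra
  have hideal : ∀ I : Ideal (W ⊗[A] B), Module.Flat (W ⊗[A] B) I := fun I => by
    haveI : Module.Flat W I := GrothLib.WeakDim.flat_submodule
      (fun J _ => hW J)
      (I.subtype.restrictScalars W) I.subtype_injective
    exact Groth.Agent.AbsFlat.flat_of_flat_lmul (Algebra.WeaklyEtale.flat_lmul' W (W ⊗[A] B)) I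
  haveI : Module.Flat (W ⊗[A] B) (L ⊗[A] B) := RingHom.flat_algebraMap_iff.1
    (RingHom.Flat.tensorProductMap (R := A) (f := ι) (g := AlgHom.id A B) (RingHom.flat_algebraMap_iff.2 (IsLocalization.flat L M)) (RingHom.Flat.id B))
  haveI : Algebra.IsEpi (W ⊗[A] B) (L ⊗[A] B) := by
    refine (Algebra.isEpi_iff_forall_one_tmul_eq _ _).2 fun z => ?_
    induction z with
    | zero => rw [TensorProduct.tmul_zero, TensorProduct.zero_tmul]
    | tmul l b =>
      obtain ⟨⟨a, s⟩, h⟩ := IsLocalization.surj M l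
      refine one_tmul_eq_of_mul_eq (m := (s : W) ⊗ₜ[A] (1 : B)) (a := a ⊗ₜ[A] b) ?_ ?_
      · exact (IsLocalization.map_units L s).map (Algebra.TensorProduct.includeLeft : L →ₐ[A] L ⊗[A] B)
      · show l ⊗ₜ[A] b * g ((s : W) ⊗ₜ[A] (1 : B)) = g (a ⊗ₜ[A] b)
        rw [Algebra.TensorProduct.map_tmul, Algebra.TensorProduct.map_tmul, AlgHom.id_apply, AlgHom.id_apply,
          Algebra.TensorProduct.tmul_mul_tmul, mul_one]
        exact congrArg (· ⊗ₜ[A] b) h
    | add x y hx hy => rw [TensorProduct.tmul_add, TensorProduct.add_tmul, hx, hy]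
  have hinj : Function.Injective (algebraMap (W ⊗[A] B) (L ⊗[A] B)) :=
    Module.Flat.rTensor_preserves_injective_linearMap ι.toLinearMap hinjWL
  let c : B ⊗[A] K →ₐ[A] K ⊗[A] B := (Algebra.TensorProduct.comm A B K).toAlgHom
  let ψ : B ⊗[A] K →ₐ[A] L ⊗[A] B := (Algebra.TensorProduct.map δ (AlgHom.id A B)).comp c
  have hψ : IsIntegral (W ⊗[A] B) (ψ z) := by
    obtain ⟨p, hp, hpz⟩ := hz
    refine ⟨p.map (Algebra.TensorProduct.includeRight : B →ₐ[A] W ⊗[A] B).toRingHom, hp.map _, ?_⟩
    rw [Polynomial.eval₂_map]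
    have h := congrArg ψ.toRingHom hpz
    rw [map_zero, Polynomial.hom_eval₂] at h
    rw [show (algebraMap (W ⊗[A] B) (L ⊗[A] B)).comp
      (Algebra.TensorProduct.includeRight : B →ₐ[A] W ⊗[A] B).toRingHom =
      ψ.toRingHom.comp (algebraMap B (B ⊗[A] K)) from RingHom.ext fun b => by
        show g (1 ⊗ₜ[A] b) = Algebra.TensorProduct.map δ (AlgHom.id A B)
          (Algebra.TensorProduct.comm A B K (b ⊗ₜ[A] 1))
        simp [g]]
    exact h
  obtain ⟨w, hw⟩ :=
    (isIntegrallyClosedIn_iff.1 (GrothLib.WeakDim.isIntegrallyClosedIn _ _ hideal hinj)).2 hψ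
  let Δ : K × W →ₗ[A] L := δ.toLinearMap ∘ₗ LinearMap.fst A K W - ι.toLinearMap ∘ₗ LinearMap.snd A K W
  let e : A →ₗ[A] K × W := (Algebra.linearMap A K).prod (Algebra.linearMap A W)
  have hex : Function.Exact e Δ := fun x => by
    constructor
    · intro hx
      obtain ⟨a, h1, h2⟩ := hfib x.1 x.2 (sub_eq_zero.1 hx)
      exact ⟨a, Prod.ext h1 h2⟩
    · rintro ⟨a, rfl⟩
      exact sub_eq_zero.2 ((δ.commutes a).trans (ι.commutes a).symm)
  let t : (K × W) ⊗[A] B := (LinearMap.inl A K W).rTensor B (c z) + (LinearMap.inr A K W).rTensor B w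
  have hΔl : Δ ∘ₗ LinearMap.inl A K W = δ.toLinearMap := by
    ext x : 1; simp [Δ]
  have hΔr : Δ ∘ₗ LinearMap.inr A K W = -ι.toLinearMap := by
    ext x : 1; simp [Δ]
  obtain ⟨s, hs⟩ := (Module.Flat.rTensor_exact B hex t).1 (by
    simp only [t, map_add, ← LinearMap.rTensor_comp_apply, hΔl, hΔr, LinearMap.rTensor_neg, LinearMap.neg_apply]
    exact add_neg_eq_zero.2 hw.symm)
  have hs' := congrArg ((LinearMap.fst A K W).rTensor B) hs
  simp only [t, map_add, ← LinearMap.rTensor_comp_apply] at hs'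
  rw [LinearMap.fst_comp_inl, LinearMap.fst_comp_inr, LinearMap.rTensor_zero, LinearMap.rTensor_id,
    LinearMap.zero_apply, add_zero, LinearMap.id_apply] at hs'
  refine ⟨TensorProduct.lid A B s, (Algebra.TensorProduct.comm A B K).injective ?_⟩
  show Algebra.TensorProduct.comm A B K (TensorProduct.lid A B s ⊗ₜ[A] (1 : K)) = c z
  rw [← hs', Algebra.TensorProduct.comm_tmul]
  clear hs hs'
  induction s with
  | zero => simp
  | tmul a b => simp [e]; rw [Algebra.algebraMap_eq_smul_one, TensorProduct.smul_tmul']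
  | add x y hx hy => simp only [map_add, TensorProduct.tmul_add, hx, hy]


/-- If A is an integrally closed domain with fraction field K and B is weakly etale over A, then every
element of B ⊗_A K that is integral over B (via b ↦ b ⊗ 1) already comes from B. -/
theorem result (A : Type u) [CommRing A] [IsDomain A] [IsIntegrallyClosed A]
    (K : Type u) [Field K] [Algebra A K] [IsFractionRing A K] (B : Type u) [CommRing B] [Algebra A B]
    [Algebra.WeaklyEtale A B] :
    IsIntegrallyClosedIn B (B ⊗[A] K) := by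
  classical
  refine isIntegrallyClosedIn_iff.2 ⟨?_, fun {z} hz => ?_⟩
  · exact Algebra.TensorProduct.includeLeft_injective (S := B) (IsFractionRing.injective A K)
  obtain ⟨W, L, _, _, _, _, _, _, M, _, δ, hW, hinj, hfib⟩ := GrothLib.WeakDim.exists_square A K
  exact core M hW hinj δ hfib z hz

end Groth.Agent.S1967
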