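import Groth.Statements.S19679
import Groth.Agent.Lib.TorsorDesc.Basic
-- import your own Groth.Agent.* helpers here

set_option autoImplicit false
universe u
open CategoryTheory MonoidalCategory CartesianMonoidalCategory MonObj AlgebraicGeometry
open ChGrp

namespace Groth.Agent.S19679

/-- Let k be an algebraically closed field of characteristic zero, G and H affine group schemes of
finite type over k (algebraic groups) with i : H → G a homomorphism which is a closed immersion, and
Z a reduced affine k-scheme of finite type (an affine variety) with an action of H. Let Y, with its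
G-action and j : G × Z → Y, be the balanced product G ×^H Z for the fppf topology: j is
G-equivariant for left translation on the first factor, it is a torsor for the twisted H-action
h·(g, z) = (g i(h)⁻¹, h·z), and it has sections fppf-locally on Y. If π_Z : Z → P is a categorical
quotient of Z by H and π_Y : Y → Q a categorical quotient of Y by G, then the projection G × Z → Z
induces an isomorphism Q ≅ P, inverse to the morphism induced by the H-invariant map z ↦ π_Y(j(e,
z)): there are mutually inverse φ : P → Q and χ : Q → P with π_Z followed by φ equal to z ↦ π_Y(j(e,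
z)) and j followed by π_Y and χ equal to the projection followed by π_Z (so Y//G ≅ Z//H). (The
source assumes G and H reductive and defines G ×^H Z as the quotient (G × Z)//H, a principal
H-bundle; here the quotients are part of the data, the balanced product is taken in its torsor form,
and reductivity is not needed.) -/
theorem result
    (k : Type u) [Field k] [IsAlgClosed k] [CharZero k]
    (G H Z Y P Q : Over (Spec (CommRingCat.of k))) [GrpObj G] [GrpObj H]
    [IsAffine G.left] [LocallyOfFiniteType G.hom] [IsAffine H.left] [LocallyOfFiniteType H.hom]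
    (i : H ⟶ G) [IsMonHom i] [IsClosedImmersion i.left]
    [IsAffine Z.left] [LocallyOfFiniteType Z.hom] [IsReduced Z.left]
    (aZ : AlgGrp.Action H Z) (aY : AlgGrp.Action G Y) (j : G ⊗ Z ⟶ Y)
    (hY : ChGrp.IsBalProd Scheme.fppfPrecoverage i aZ aY j)
    (πZ : Z ⟶ P) (hP : GIT.IsCatQuot aZ πZ) (πY : Y ⟶ Q) (hQ : GIT.IsCatQuot aY πY) :
    ∃ (φ : P ⟶ Q) (χ : Q ⟶ P), φ ≫ χ = 𝟙 P ∧ χ ≫ φ = 𝟙 Q ∧
      πZ ≫ φ = lift (toUnit Z ≫ η[G]) (𝟙 Z) ≫ j ≫ πY ∧ j ≫ πY ≫ χ = snd G Z ≫ πZ := by
  obtain ⟨heq, hcart, hloc⟩ := hY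
  have hloc' := GrothLib.TorsorDesc.isLocallyTrivialFor_mono Scheme.fppfPrecoverage_le_fpqcPrecoverage hloc
  haveI : EffectiveEpi j.left := GrothLib.TorsorDesc.effectiveEpi_of_localSections _ hloc'
  haveI : EffectiveEpi (G ◁ j).left := GrothLib.TorsorDesc.effectiveEpi_whiskerLeft G j hloc'
  -- equivariance on points
  have hjg : ∀ {T : Over (Spec (CommRingCat.of k))} (g g' : T ⟶ G) (z : T ⟶ Z),
      lift g (lift g' z ≫ j) ≫ aY.act = lift (g * g') z ≫ j := by
    intro T g g' z
    have h := congrArg (lift g (lift g' z) ≫ ·) heq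
    simp only [lift_whiskerLeft_assoc] at h
    rw [← h, ← Category.assoc, AlgGrp.Action.lift_prod_act]
    rw [AlgGrp.Action.lift_trivial_act]
    rfl
  have hj : ∀ {T : Over (Spec (CommRingCat.of k))} (h : T ⟶ H) (g : T ⟶ G) (z : T ⟶ Z),
      lift (g * (h ≫ i)⁻¹) (lift h z ≫ aZ.act) ≫ j = lift g z ≫ j := by
    intro T h g z
    rw [← ChGrp.lift_twist_act, Category.assoc, hcart.w, lift_snd_assoc]
  -- the map Y → P
  obtain ⟨χY, hχY, -⟩ := GrothLib.TorsorDesc.existsUnique_desc_of_isPullback hcart (snd G Z ≫ πZ) (by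
    apply AlgGrp.Action.hom_ext_lift₂
    intro T h p
    have hp : p = lift (p ≫ fst G Z) (p ≫ snd G Z) := by rw [← comp_lift, lift_fst_snd, Category.comp_id]
    rw [lift_snd_assoc, hp, ← Category.assoc, ChGrp.lift_twist_act, lift_snd_assoc, lift_snd_assoc,
      Category.assoc, hP.1, lift_snd_assoc])
  have hχYinv : GIT.IsInvariant aY χY := by
    unfold GIT.IsInvariant
    apply GrothLib.TorsorDesc.cancel_of_effectiveEpi (G ◁ j)
    rw [whiskerLeft_snd_assoc, hχY, ← Category.assoc]
    change ((G ◁ j) ≫ aY.act) ≫ χY = _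
    rw [← heq, Category.assoc, hχY, AlgGrp.Action.prod_act, lift_snd_assoc, AlgGrp.Action.trivial_act]
    simp
  obtain ⟨χ, hχ, -⟩ := hQ.2 P χY hχYinv
  -- the map Z → Q
  let φ₀ : Z ⟶ Q := lift (toUnit Z ≫ η[G]) (𝟙 Z) ≫ j ≫ πY
  have hφ₀pt : ∀ {T : Over (Spec (CommRingCat.of k))} (z : T ⟶ Z), z ≫ φ₀ = lift 1 z ≫ j ≫ πY := by
    intro T z
    change z ≫ lift (toUnit Z ≫ η[G]) (𝟙 Z) ≫ j ≫ πY = _
    rw [comp_lift_assoc, Category.comp_id, Hom.one_def, ← Category.assoc z,
      toUnit_unique (z ≫ toUnit Z) (toUnit T)]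
  have hYinv : ∀ {T : Over (Spec (CommRingCat.of k))} (g g' : T ⟶ G) (z : T ⟶ Z),
      lift (g * g') z ≫ j ≫ πY = lift g' z ≫ j ≫ πY := by
    intro T g g' z
    rw [← Category.assoc, ← hjg, Category.assoc, hQ.1, lift_snd_assoc, Category.assoc]
  have hφ₀ : GIT.IsInvariant aZ φ₀ := by
    apply AlgGrp.Action.hom_ext_lift₂
    intro T h z
    rw [lift_snd_assoc, ← Category.assoc, hφ₀pt, hφ₀pt]
    have h2 := congrArg (· ≫ πY) (hj h (h ≫ i) z)
    simp only [Category.assoc, mul_inv_cancel] at h2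
    rw [h2, ← _root_.mul_one (h ≫ i), hYinv]
  obtain ⟨φ, hφ, -⟩ := hP.2 Q φ₀ hφ₀
  have hsnd : j ≫ πY ≫ χ = snd G Z ≫ πZ := by rw [hχ, hχY]
  refine ⟨φ, χ, ?_, ?_, hφ, hsnd⟩
  · refine (hP.2 P πZ hP.1).unique (y₁ := φ ≫ χ) ?_ (Category.comp_id _)
    rw [← Category.assoc, hφ]
    change (lift (toUnit Z ≫ η[G]) (𝟙 Z) ≫ j ≫ πY) ≫ χ = πZ
    rw [Category.assoc, Category.assoc, hsnd, lift_snd_assoc, Category.id_comp]
  · refine (hQ.2 Q πY hQ.1).unique (y₁ := χ ≫ φ) ?_ (Category.comp_id _)
    apply GrothLib.TorsorDesc.cancel_of_effectiveEpi j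
    rw [← Category.assoc, ← Category.assoc, Category.assoc j, hsnd, Category.assoc, hφ]
    apply AlgGrp.Action.hom_ext_lift₂
    intro T g z
    rw [lift_snd_assoc, hφ₀pt, ← hYinv g 1 z, _root_.mul_one]

end Groth.Agent.S19679
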