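import Groth.Statements.S1968
import Groth.Agent.Lib.WeakDim.Basic

set_option autoImplicit false
universe u
open EtAlg

namespace Groth.Agent.S1968

/-- Let (A_j) be a family of valuation rings with fraction fields K_j. Then every ideal of the product
ring Π A_j is a flat Π A_j-module (that is, Π A_j has weak dimension at most 1), and Π K_j is the
localization of Π A_j at its non-zero-divisors. -/
theorem result {J : Type u} (A : J → Type u) [∀ j, CommRing (A j)] [∀ j, IsDomain (A j)]
    [∀ j, ValuationRing (A j)] (K : J → Type u) [∀ j, Field (K j)] [∀ j, Algebra (A j) (K j)]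
    [∀ j, IsFractionRing (A j) (K j)] :
    (∀ I : Ideal (∀ j, A j), Module.Flat (∀ j, A j) I) ∧
      IsLocalization (nonZeroDivisors (∀ j, A j)) (∀ j, K j) := by
  exact ⟨GrothLib.WeakDim.flat_ideal_pi A, GrothLib.WeakDim.isLocalization_pi A K⟩

end Groth.Agent.S1968
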