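import Groth.Statements.S19681
import Groth.Agent.Lib.TorsorDesc.Basic
-- import your own Groth.Agent.* helpers here

set_option autoImplicit false
universe u
open CategoryTheory MonoidalCategory CartesianMonoidalCategory MonObj AlgebraicGeometry
open ChGrp

namespace Groth.Agent.S19681

/-- Let k be an algebraically closed field of characteristic zero, G and H affine group schemes of
finite type over k with i : H → G a homomorphism which is a closed immersion, and Z a reduced affine
k-scheme of finite type with an action of H. Let Y, with its G-action and j : G × Z → Y, be the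
balanced product G ×^H Z for the fppf topology (j is G-equivariant for left translation on the first
factor, a torsor for the twisted H-action h·(g, z) = (g i(h)⁻¹, h·z), with sections fppf-locally on
Y). Let c : Y' → Y be a closed immersion from a reduced scheme Y' with a G-action making c
equivariant (a closed G-invariant subvariety of Y). Then Y' is again a balanced product: there are a
closed immersion c' : Z' → Z, an H-action on Z' for which c' is equivariant (a closed H-invariant
subscheme of Z), and a morphism j' : G × Z' → Y' with j' followed by c equal to G × c' followed by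
j, such that j' makes Y' the balanced product G ×^H Z' for the fppf topology. (The source assumes G
and H reductive and defines G ×^H Z as the quotient (G × Z)//H, a principal H-bundle; here the
balanced product is taken in its torsor form and reductivity is not needed.) -/
theorem result
    (k : Type u) [Field k] [IsAlgClosed k] [CharZero k]
    (G H Z Y Y' : Over (Spec (CommRingCat.of k))) [GrpObj G] [GrpObj H]
    [IsAffine G.left] [LocallyOfFiniteType G.hom] [IsAffine H.left] [LocallyOfFiniteType H.hom]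
    (i : H ⟶ G) [IsMonHom i] [IsClosedImmersion i.left]
    [IsAffine Z.left] [LocallyOfFiniteType Z.hom] [IsReduced Z.left]
    (aZ : AlgGrp.Action H Z) (aY : AlgGrp.Action G Y) (j : G ⊗ Z ⟶ Y)
    (hY : ChGrp.IsBalProd Scheme.fppfPrecoverage i aZ aY j)
    (c : Y' ⟶ Y) [IsClosedImmersion c.left] [IsReduced Y'.left]
    (aY' : AlgGrp.Action G Y') (hc : AlgGrp.Action.IsEquivariant aY' aY c) :
    ∃ (Z' : Over (Spec (CommRingCat.of k))) (c' : Z' ⟶ Z) (aZ' : AlgGrp.Action H Z') (j' : G ⊗ Z' ⟶ Y'),
      IsClosedImmersion c'.left ∧ AlgGrp.Action.IsEquivariant aZ' aZ c' ∧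
      j' ≫ c = (G ◁ c') ≫ j ∧ ChGrp.IsBalProd Scheme.fppfPrecoverage i aZ' aY' j' := by
  obtain ⟨heq, hcart, hloc⟩ := hY
  have hjg : ∀ {T : Over (Spec (CommRingCat.of k))} (g g' : T ⟶ G) (z : T ⟶ Z),
      lift g (lift g' z ≫ j) ≫ aY.act = lift (g * g') z ≫ j := by
    intro T g g' z
    have h := congrArg (lift g (lift g' z) ≫ ·) heq
    simp only [lift_whiskerLeft_assoc] at h
    rw [← h, ← Category.assoc, AlgGrp.Action.lift_prod_act]
    rw [AlgGrp.Action.lift_trivial_act]
    rfl
  have hj : ∀ {T : Over (Spec (CommRingCat.of k))} (h : T ⟶ H) (g : T ⟶ G) (z : T ⟶ Z),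
      lift (g * (h ≫ i)⁻¹) (lift h z ≫ aZ.act) ≫ j = lift g z ≫ j := by
    intro T h g z
    rw [← ChGrp.lift_twist_act, Category.assoc, hcart.w, lift_snd_assoc]
  have hc' : ∀ {T : Over (Spec (CommRingCat.of k))} (g : T ⟶ G) (y : T ⟶ Y'),
      (lift g y ≫ aY'.act) ≫ c = lift g (y ≫ c) ≫ aY.act := by
    intro T g y
    have h := congrArg (lift g y ≫ ·) hc
    simp only [lift_whiskerLeft_assoc] at h
    rw [Category.assoc, h]
  let e : Z ⟶ Y := lift (toUnit Z ≫ η[G]) (𝟙 Z) ≫ j
  have hept : ∀ {T : Over (Spec (CommRingCat.of k))} (z : T ⟶ Z), z ≫ e = lift 1 z ≫ j := by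
    intro T z
    change z ≫ lift (toUnit Z ≫ η[G]) (𝟙 Z) ≫ j = _
    rw [comp_lift_assoc, Category.comp_id, Hom.one_def, ← Category.assoc z,
      toUnit_unique (z ≫ toUnit Z) (toUnit T)]
  let Z' : Over (Spec (CommRingCat.of k)) := Limits.pullback e c
  let c' : Z' ⟶ Z := Limits.pullback.fst e c
  let pY : Z' ⟶ Y' := Limits.pullback.snd e c
  have hZ' : IsPullback c' pY e c := IsPullback.of_hasPullback e c
  haveI hc'imm : IsClosedImmersion c'.left :=
    MorphismProperty.of_isPullback (hZ'.map (Over.forget _)).flip (inferInstanceAs (IsClosedImmersion c.left))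
  haveI : Mono c' := Functor.mono_of_mono_map (Over.forget _) (inferInstanceAs (Mono c'.left))
  haveI : Mono c := Functor.mono_of_mono_map (Over.forget _) (inferInstanceAs (Mono c.left))
  -- the action on Z'
  have hact : (((H ◁ c') ≫ aZ.act) : H ⊗ Z' ⟶ Z) ≫ e =
      (lift (fst H Z' ≫ i) (snd H Z' ≫ pY) ≫ aY'.act) ≫ c := by
    apply AlgGrp.Action.hom_ext_lift₂
    intro T h z
    rw [← Category.assoc, lift_whiskerLeft_assoc, hept, ← Category.assoc (lift h z), ← Category.assoc (lift h z),
      comp_lift, lift_fst_assoc, lift_snd_assoc, hc', Category.assoc z, ← hZ'.w, ← Category.assoc z, hept, hjg,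
      _root_.mul_one, ← hj h (h ≫ i) (z ≫ c'), mul_inv_cancel]
  let aZ' : AlgGrp.Action H Z' :=
    { act := hZ'.lift ((H ◁ c') ≫ aZ.act) (lift (fst H Z' ≫ i) (snd H Z' ≫ pY) ≫ aY'.act) hact
      one_act := by
        rw [← cancel_mono c', Category.assoc, hZ'.lift_fst, ← whisker_exchange_assoc, aZ.one_act,
          leftUnitor_hom, leftUnitor_hom, whiskerLeft_snd]
      mul_act := by
        rw [← cancel_mono c']
        apply AlgGrp.Action.hom_ext_lift₃
        intro T h h' z
        simp only [Category.assoc, hZ'.lift_fst]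
        rw [lift_whiskerRight_assoc, lift_whiskerLeft_assoc, lift_lift_associator_hom_assoc, lift_whiskerLeft_assoc,
          ← Hom.mul_def, AlgGrp.Action.lift_mul_act, lift_whiskerLeft_assoc, Category.assoc, hZ'.lift_fst,
          lift_whiskerLeft_assoc] }
  have heqc : AlgGrp.Action.IsEquivariant aZ' aZ c' := hZ'.lift_fst _ _ _
  -- the map G ⊗ Z' → Y'
  obtain ⟨j', hj'⟩ : ∃ j' : G ⊗ Z' ⟶ Y', j' = (G ◁ pY) ≫ aY'.act := ⟨_, rfl⟩
  have hj'c : j' ≫ c = (G ◁ c') ≫ j := by
    apply AlgGrp.Action.hom_ext_lift₂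
    intro T g z
    rw [hj']
    change lift g z ≫ ((G ◁ pY) ≫ aY'.act) ≫ c = _
    rw [← Category.assoc, lift_whiskerLeft_assoc, hc', Category.assoc z, ← hZ'.w, ← Category.assoc z, hept, hjg,
      lift_whiskerLeft_assoc, _root_.mul_one]
  -- the square over j
  have hsq : IsPullback (G ◁ c') j' j c := by
    refine IsPullback.mk ⟨hj'c.symm⟩ ⟨Limits.PullbackCone.IsLimit.mk _ (fun s =>
      lift (s.fst ≫ fst G Z) (hZ'.lift (s.fst ≫ snd G Z) (lift (s.fst ≫ fst G Z)⁻¹ s.snd ≫ aY'.act) ?_))
      (fun s => ?_) (fun s => ?_) (fun s m h₁ h₂ => ?_)⟩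
    · rw [hept, hc', ← s.condition]
      have hs : s.fst = lift (s.fst ≫ fst G Z) (s.fst ≫ snd G Z) := by
        rw [← comp_lift, lift_fst_snd, Category.comp_id]
      conv_rhs => rw [hs, hjg, lift_fst, inv_mul_cancel]
    · rw [lift_whiskerLeft, hZ'.lift_fst, ← comp_lift, lift_fst_snd, Category.comp_id]
    · rw [← cancel_mono c, Category.assoc, hj'c, lift_whiskerLeft_assoc, hZ'.lift_fst, ← s.condition, ← comp_lift,
        lift_fst_snd, Category.comp_id]
    · apply CartesianMonoidalCategory.hom_ext
      · rw [lift_fst, ← h₁, Category.assoc, whiskerLeft_fst]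
      · rw [lift_snd, ← cancel_mono c', hZ'.lift_fst, ← h₁]
        simp only [Category.assoc, whiskerLeft_snd]
  refine ⟨Z', c', aZ', j', inferInstance, heqc, hj'c, ?_, ?_, ?_⟩
  · unfold AlgGrp.Action.IsEquivariant
    rw [← cancel_mono c]
    apply AlgGrp.Action.hom_ext_lift₂
    intro T g p
    have hp : p = lift (p ≫ fst G Z') (p ≫ snd G Z') := by rw [← comp_lift, lift_fst_snd, Category.comp_id]
    rw [hp]
    simp only [Category.assoc, hj'c]
    rw [← Category.assoc (lift g _), AlgGrp.Action.lift_prod_act, AlgGrp.Action.lift_trivial_act,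
      lift_whiskerLeft_assoc, lift_whiskerLeft_assoc, ← Category.assoc (lift g _), hc', Category.assoc (lift _ _),
      hj'c, lift_whiskerLeft_assoc, hjg]
    rfl
  · have htw : (ChGrp.twist i aZ').act ≫ (G ◁ c') = (H ◁ G ◁ c') ≫ (ChGrp.twist i aZ).act := by
      apply AlgGrp.Action.hom_ext_lift₂
      intro T h p
      have hp : p = lift (p ≫ fst G Z') (p ≫ snd G Z') := by rw [← comp_lift, lift_fst_snd, Category.comp_id]
      rw [hp, ← Category.assoc, ChGrp.lift_twist_act, lift_whiskerLeft_assoc, lift_whiskerLeft,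
        lift_whiskerLeft, ChGrp.lift_twist_act]
      congr 1
      rw [Category.assoc, show aZ'.act ≫ c' = _ from heqc, lift_whiskerLeft_assoc]
    have hsnd : snd H (G ⊗ Z') ≫ (G ◁ c') = (H ◁ G ◁ c') ≫ snd H (G ⊗ Z) := (whiskerLeft_snd _ _).symm
    haveI : Mono (G ◁ c') := ⟨fun {T} a b h => by
      apply CartesianMonoidalCategory.hom_ext
      · simpa using congrArg (· ≫ fst G Z) h
      · rw [← cancel_mono c']; simpa using congrArg (· ≫ snd G Z) h⟩
    have hw : (ChGrp.twist i aZ').act ≫ j' = snd H (G ⊗ Z') ≫ j' := by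
      rw [← cancel_mono c, Category.assoc, Category.assoc, hj'c, reassoc_of% htw, reassoc_of% hsnd, hcart.w]
    have hex : ∀ {T : Over (Spec (CommRingCat.of k))} (a b : T ⟶ G ⊗ Z'), a ≫ j' = b ≫ j' →
        ∃ h : T ⟶ H, lift h b ≫ (ChGrp.twist i aZ').act = a := by
      intro T a b hab
      have hab' : (a ≫ (G ◁ c')) ≫ j = (b ≫ (G ◁ c')) ≫ j := by
        rw [Category.assoc, Category.assoc, ← hj'c, reassoc_of% hab]
      refine ⟨hcart.lift _ _ hab' ≫ fst H _, ?_⟩
      rw [← cancel_mono (G ◁ c'), Category.assoc, htw, ← Category.assoc, lift_whiskerLeft]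
      conv_rhs => rw [← hcart.lift_fst _ _ hab']
      congr 1
      apply CartesianMonoidalCategory.hom_ext
      · rw [lift_fst]
      · rw [lift_snd, hcart.lift_snd]
    choose f hf using fun (s : Limits.PullbackCone j' j') => hex s.fst s.snd s.condition
    refine IsPullback.mk ⟨hw⟩ ⟨Limits.PullbackCone.IsLimit.mk _ (fun s => lift (f s) s.snd) hf
      (fun s => lift_snd _ _) fun s m h₁ h₂ => ?_⟩
    apply CartesianMonoidalCategory.hom_ext
    · have e1 : m ≫ (H ◁ G ◁ c') = lift (f s) s.snd ≫ (H ◁ G ◁ c') := by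
        apply hcart.hom_ext
        · rw [Category.assoc, Category.assoc, ← htw, reassoc_of% h₁, reassoc_of% (hf s)]
        · rw [Category.assoc, Category.assoc, ← hsnd, reassoc_of% h₂, lift_snd_assoc]
      simpa using congrArg (· ≫ fst H _) e1
    · rw [h₂, lift_snd]
  · exact GrothLib.TorsorDesc.isLocallyTrivialFor_of_isPullback _ (hsq.map (Over.forget _)) hloc

end Groth.Agent.S19681
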