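import Groth.Statements.S1969
import Groth.Agent.Lib.WeakDim.Basic
import Mathlib.Tactic.TFAE

set_option autoImplicit false
universe u
open EtAlg

namespace Groth.Agent.S1969

/-- For a commutative ring A these are equivalent — all ideals are flat A-modules; all finitely
generated ideals are flat; flatness passes to submodules of flat modules; each localization at a
prime is a valuation ring (in particular a domain). Condition (1), weak dimension at most one, is
not stated. -/
theorem result (A : Type u) [CommRing A] :
    List.TFAE [∀ I : Ideal A, Module.Flat A I,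
      ∀ I : Ideal A, I.FG → Module.Flat A I,
      ∀ (M : Type u) [AddCommGroup M] [Module A M], Module.Flat A M → ∀ N : Submodule A M, Module.Flat A N,
      ∀ (p : Ideal A) [p.IsPrime], ∃ _ : IsDomain (Localization.AtPrime p), ValuationRing (Localization.AtPrime p)] := by
  tfae_have 1 → 2 := fun h I _ => h I
  tfae_have 2 → 3 := fun h M _ _ _ N => GrothLib.WeakDim.flat_submodule h N.subtype N.subtype_injective
  tfae_have 3 → 1 := fun h I => h A inferInstance I
  tfae_have 2 → 4 := by
    intro h p _
    let R := Localization.AtPrime p
    haveI hflat : ∀ J : Ideal R, Module.Flat R J := fun J => by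
      haveI : Module.Flat A R := IsLocalization.flat R p.primeCompl
      haveI : Module.Flat A J :=
        GrothLib.WeakDim.flat_submodule h (J.subtype.restrictScalars A) J.subtype_injective
      exact (Module.flat_iff_of_isLocalization R p.primeCompl J).2 inferInstance
    have hfree : ∀ J : Ideal R, J.FG → ∃ c : R, J = Ideal.span {c} ∧ (J = ⊥ ∨ ∀ t, t * c = 0 → t = 0) := by
      intro J hJ
      haveI : Module.Finite R J := Module.Finite.iff_fg.mpr hJ
      haveI := hflat J
      haveI : Module.Free R J := Module.free_of_flat_of_isLocalRing
      let b := Module.Free.chooseBasis R J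
      have hsub : Subsingleton (Module.Free.ChooseBasisIndex R J) := ⟨fun i j => by
        by_contra hij
        have h1 := congrArg (fun z => b.repr z j)
          (show ((b i : J) : R) • b j = ((b j : J) : R) • b i from Subtype.ext (mul_comm _ _))
        simp [Finsupp.single_eq_of_ne (Ne.symm hij)] at h1
        exact b.ne_zero i h1⟩
      cases isEmpty_or_nonempty (Module.Free.ChooseBasisIndex R J) with
      | inl he =>
        have hbot : J = ⊥ := eq_bot_iff.2 fun x hx => by
          have : (⟨x, hx⟩ : J) = 0 := b.repr.injective (Subsingleton.elim _ _)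
          exact congrArg Subtype.val this
        exact ⟨0, by rw [hbot, Ideal.span_singleton_eq_bot.2 rfl], Or.inl hbot⟩
      | inr hn =>
        obtain ⟨i⟩ := hn
        refine ⟨(b i : J), le_antisymm (fun x hx => ?_) ((Ideal.span_singleton_le_iff_mem _).2 (b i).2),
          Or.inr fun t ht => ?_⟩
        · refine Ideal.mem_span_singleton'.2 ⟨b.repr ⟨x, hx⟩ i, ?_⟩
          have h1 := congrArg Subtype.val (b.linearCombination_repr ⟨x, hx⟩)
          letI : Unique (Module.Free.ChooseBasisIndex R J) := uniqueOfSubsingleton i
          simpa [Finsupp.linearCombination_unique, Subsingleton.elim default i] using h1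
        · have h1 : t • b i = 0 := Subtype.ext ht
          simpa using congrArg (fun z => b.repr z i) h1
    haveI hdom : IsDomain R := by
      haveI : NoZeroDivisors R := ⟨fun {x y} hxy => by
        by_contra hne
        push_neg at hne
        obtain ⟨c, hc, hreg⟩ := hfree (Ideal.span {y}) (Submodule.fg_span_singleton y)
        have hreg := hreg.resolve_left fun h0 => hne.2 (Ideal.span_singleton_eq_bot.1 h0)
        obtain ⟨t, ht⟩ := Ideal.mem_span_singleton'.1 (hc ▸ Ideal.mem_span_singleton_self y : y ∈ Ideal.span {c})
        obtain ⟨s, hs⟩ := Ideal.mem_span_singleton'.1 (hc ▸ Ideal.mem_span_singleton_self c : c ∈ Ideal.span {y})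
        exact hne.1 (hreg x (by rw [← hs, mul_left_comm, hxy, mul_zero]))⟩
      exact NoZeroDivisors.to_isDomain R
    haveI : IsBezout R := ⟨fun J hJ => by
      obtain ⟨c, hc, -⟩ := hfree J hJ
      exact ⟨⟨c, hc⟩⟩⟩
    exact ⟨hdom, ValuationRing.iff_local_bezout_domain.2 ⟨inferInstance, inferInstance⟩⟩
  tfae_have 4 → 1 := by
    intro h I
    refine Module.flat_of_isLocalized_maximal (S := A) (R := A) (M := I)
      (fun P _ => I.map (algebraMap A (Localization.AtPrime P)))
      (fun P _ => Algebra.idealMap I (S := Localization.AtPrime P)) fun P _ => ?_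
    obtain ⟨_, _⟩ := h P
    rw [← Module.flat_iff_of_isLocalization (Localization.AtPrime P) P.primeCompl,
      Module.Flat.flat_iff_torsion_eq_bot_of_isBezout, ← Submodule.isTorsionFree_iff_torsion_eq_bot]
    infer_instance
  tfae_finish

end Groth.Agent.S1969
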