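import Groth.Statements.S19690
import Groth.Agent.Lib.OneMotFaith14.Torsion
-- import your own Groth.Agent.* helpers here

set_option autoImplicit false
universe u
open CategoryTheory CategoryTheory.Limits MonoidalCategory CartesianMonoidalCategory MonObj AlgebraicGeometry
open OneMot

namespace Groth.Agent.S19690

/-- Let k be an algebraically closed field of characteristic zero, M and N 1-motives over k, and f, g
morphisms of 1-motives from M to N. If for every integer m ≥ 1 the homomorphisms induced by f and by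
g on the torsion realizations of level m, computed on k-points, are equal, then f = g. (The source
states that the realization functor to the inverse limit over all m is faithful; equality at every
finite level implies equality on the limit.) -/
theorem result (k : Type u) [Field k] [IsAlgClosed k] [CharZero k]
    (M N : OneMot.Motive (Spec (CommRingCat.of k))) (f g : OneMot.Motive.Hom M N)
    (h : ∀ m : ℕ, 1 ≤ m → OneMot.tzMap m (Over.mk (𝟙 (Spec (CommRingCat.of k)))) f = OneMot.tzMap m (Over.mk (𝟙 (Spec (CommRingCat.of k)))) g) :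
    f = g := by
  set P := Over.mk (𝟙 (Spec (CommRingCat.of k)))
  obtain ⟨r, φ, -⟩ := GrothLib.OneMotFaith14.lattice_points N.lattice
  obtain ⟨r', φ', hext⟩ := GrothLib.OneMotFaith14.lattice_points M.lattice
  -- equality of realisations, on pairs
  have key : ∀ (m : ℕ), 1 ≤ m → ∀ (x : P ⟶ M.L) (t : P ⟶ M.G), x ≫ M.u = (t ^ m)⁻¹ →
      ∃ y : P ⟶ N.L, y ^ m = (x ≫ f.fL)⁻¹ * (x ≫ g.fL) ∧ (y ≫ N.u)⁻¹ = (t ≫ f.fG)⁻¹ * (t ≫ g.fG) := by
    intro m hm x t hp
    have hmem : ((Additive.ofMul x, Additive.ofMul t) : Additive (P ⟶ M.L) × Additive (P ⟶ M.G)) ∈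
        OneMot.tzPairs M m P := congrArg Additive.ofMul hp
    have h1 := DFunLike.congr_fun (h m hm) (QuotientAddGroup.mk ⟨_, hmem⟩)
    obtain ⟨y, hy⟩ := (QuotientAddGroup.eq).1 h1
    exact ⟨y.toMul, congrArg (fun p => p.1.toMul) hy, congrArg (fun p => p.2.toMul) hy⟩
  have hL : ∀ x : P ⟶ M.L, x ≫ f.fL = x ≫ g.fL := by
    intro x
    have hdiv : ∀ m : ℕ, 1 ≤ m → ∀ i, (m : ℤ) ∣ (φ.symm ((x ≫ f.fL)⁻¹ * (x ≫ g.fL))).toAdd i := by
      intro m hm i
      obtain ⟨t, ht⟩ := GrothLib.OneMotFaith14.semiAb_divisible M.semiAb hm ((x ≫ M.u)⁻¹)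
      obtain ⟨y, hy, -⟩ := key m hm x t (by rw [ht, inv_inv])
      refine ⟨(φ.symm y).toAdd i, ?_⟩
      rw [← hy, map_pow, toAdd_pow, Pi.smul_apply, nsmul_eq_mul]
    have hzero : φ.symm ((x ≫ f.fL)⁻¹ * (x ≫ g.fL)) = 1 := by
      refine Multiplicative.toAdd.injective (funext fun i => ?_)
      refine Int.eq_zero_of_abs_lt_dvd (hdiv (((φ.symm ((x ≫ f.fL)⁻¹ * (x ≫ g.fL))).toAdd i).natAbs + 1)
        (Nat.le_add_left _ _) i) ?_
      push_cast
      exact lt_add_one _
    rw [map_eq_one_iff φ.symm φ.symm.injective, inv_mul_eq_one] at hzero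
    exact hzero
  let w : M.G ⟶ N.G := f.fG⁻¹ * g.fG
  haveI : IsMonHom w := GrothLib.DiagGrp.isMonHom_of_points w fun Y a b => by
    simp only [w, MonObj.comp_mul, GrpObj.comp_inv, MonObj.mul_comp, mul_inv]
    exact mul_mul_mul_comm _ _ _ _
  have hw : w = 1 := GrothLib.OneMotFaith14.semiAb_hom_eq_one M.semiAb N.semiAb w fun m hm t ht => by
    obtain ⟨y, hy, hy2⟩ := key m hm 1 t (by rw [ht, inv_one]; exact MonObj.one_comp _)
    rw [MonObj.one_comp, MonObj.one_comp, inv_one, _root_.one_mul] at hy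
    have hy1 : y = 1 := by
      have h2 := congrArg φ.symm hy
      rw [map_pow, map_one] at h2
      refine (map_eq_one_iff φ.symm φ.symm.injective).1 (Multiplicative.toAdd.injective (funext fun i => ?_))
      have h3 := congrArg (fun v => v.toAdd i) h2
      simp only [toAdd_pow, toAdd_one, Pi.smul_apply, Pi.zero_apply, nsmul_eq_mul, mul_eq_zero] at h3
      exact h3.resolve_left (by exact_mod_cast (by omega : m ≠ 0))
    rw [hy1, MonObj.one_comp, inv_one] at hy2
    simp only [w, MonObj.comp_mul, GrpObj.comp_inv]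
    exact hy2.symm
  exact OneMot.Motive.Hom.ext' (hext _ _ fun v => hL (φ' v)) (inv_mul_eq_one.1 hw)

end Groth.Agent.S19690
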