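import Groth.Statements.S19691
import Groth.Agent.Lib.OneMotFaith14.Conserv
-- import your own Groth.Agent.* helpers here

set_option autoImplicit false
universe u
open CategoryTheory CategoryTheory.Limits MonoidalCategory CartesianMonoidalCategory MonObj AlgebraicGeometry
open OneMot

namespace Groth.Agent.S19691

/-- Let k be an algebraically closed field of characteristic zero, M and N 1-motives over k, and f a
morphism of 1-motives from M to N. If for every integer m ≥ 1 the homomorphism induced by f on the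
torsion realizations of level m, computed on k-points, is bijective, then f is an isomorphism: its
components on the lattices and on the semi-abelian group schemes are isomorphisms. (The source
states this for the realization in the inverse limit over all m; bijectivity at every finite level
implies bijectivity on the limit. In positive characteristic the statement fails, the Frobenius of
the multiplicative group being bijective on all these realizations.) -/
theorem result (k : Type u) [Field k] [IsAlgClosed k] [CharZero k]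
    (M N : OneMot.Motive (Spec (CommRingCat.of k))) (f : OneMot.Motive.Hom M N)
    (h : ∀ m : ℕ, 1 ≤ m → Function.Bijective (OneMot.tzMap m (Over.mk (𝟙 (Spec (CommRingCat.of k)))) f)) :
    f.IsIso := by
  set P := Over.mk (𝟙 (Spec (CommRingCat.of k)))
  obtain ⟨r, φ, hext, hex⟩ := GrothLib.OneMotFaith14.lattice_points' M.lattice
  obtain ⟨r', φ', hext', hex'⟩ := GrothLib.OneMotFaith14.lattice_points' N.lattice
  -- pairs
  have hinj' : ∀ (m : ℕ), 1 ≤ m → ∀ (x : P ⟶ M.L) (t : P ⟶ M.G), x ≫ M.u = (t ^ m)⁻¹ →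
      x ≫ f.fL = 1 → t ≫ f.fG = 1 → ∃ y : P ⟶ M.L, y ^ m = x ∧ (y ≫ M.u)⁻¹ = t := by
    intro m hm x t hp h1 h2
    have hmem : ((Additive.ofMul x, Additive.ofMul t) : Additive (P ⟶ M.L) × Additive (P ⟶ M.G)) ∈
        OneMot.tzPairs M m P := congrArg Additive.ofMul hp
    have h3 : OneMot.tzMap m P f (QuotientAddGroup.mk ⟨_, hmem⟩) = 0 := by
      refine (QuotientAddGroup.eq_zero_iff _).2 ⟨0, ?_⟩
      apply Prod.ext
      · exact (smul_zero m).trans (congrArg Additive.ofMul h1).symm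
      · refine Eq.trans ?_ (congrArg Additive.ofMul h2).symm
        exact (congrArg (fun z => -Additive.ofMul z) (MonObj.one_comp N.u)).trans neg_zero
    obtain ⟨y, hy⟩ := (QuotientAddGroup.eq_zero_iff _).1 ((h m hm).1 (h3.trans (map_zero _).symm))
    exact ⟨y.toMul, congrArg (fun p => p.1.toMul) hy, congrArg (fun p => p.2.toMul) hy⟩
  have hsurj' : ∀ (m : ℕ), 1 ≤ m → ∀ (x' : P ⟶ N.L) (t' : P ⟶ N.G), x' ≫ N.u = (t' ^ m)⁻¹ →
      ∃ (x : P ⟶ M.L) (t : P ⟶ M.G) (y : P ⟶ N.L), x ≫ M.u = (t ^ m)⁻¹ ∧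
        y ^ m = (x ≫ f.fL)⁻¹ * x' ∧ (y ≫ N.u)⁻¹ = (t ≫ f.fG)⁻¹ * t' := by
    intro m hm x' t' hp
    have hmem : ((Additive.ofMul x', Additive.ofMul t') : Additive (P ⟶ N.L) × Additive (P ⟶ N.G)) ∈
        OneMot.tzPairs N m P := congrArg Additive.ofMul hp
    obtain ⟨q, hq⟩ := (h m hm).2 (QuotientAddGroup.mk ⟨_, hmem⟩)
    obtain ⟨⟨⟨x, t⟩, hxt⟩, rfl⟩ := QuotientAddGroup.mk_surjective q
    obtain ⟨y, hy⟩ := (QuotientAddGroup.eq).1 hq
    exact ⟨x.toMul, t.toMul, y.toMul, congrArg Additive.toMul hxt, congrArg (fun p => p.1.toMul) hy,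
      congrArg (fun p => p.2.toMul) hy⟩
  have hzero : ∀ {s : ℕ} (v : Multiplicative (Fin s → ℤ)), (∀ m : ℕ, 1 ≤ m → ∃ w, w ^ m = v) → v = 1 := by
    intro s v hv
    refine Multiplicative.toAdd.injective (funext fun i => ?_)
    refine Int.eq_zero_of_abs_lt_dvd (m := (((v.toAdd i).natAbs + 1 : ℕ) : ℤ)) ?_ ?_
    · obtain ⟨w, hw⟩ := hv ((v.toAdd i).natAbs + 1) (Nat.le_add_left _ _)
      refine ⟨w.toAdd i, ?_⟩
      have h4 := congrArg (fun u => u.toAdd i) hw
      simp only [toAdd_pow, Pi.smul_apply, nsmul_eq_mul] at h4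
      exact h4.symm
    · push_cast
      exact lt_add_one _
  have htf : ∀ {s : ℕ} (v : Multiplicative (Fin s → ℤ)) (m : ℕ), m ≠ 0 → v ^ m = 1 → v = 1 := by
    intro s v m hm hv
    refine Multiplicative.toAdd.injective (funext fun i => ?_)
    have h3 := congrArg (fun v => v.toAdd i) hv
    simp only [toAdd_pow, toAdd_one, Pi.smul_apply, Pi.zero_apply, nsmul_eq_mul, mul_eq_zero] at h3
    exact h3.resolve_left (by exact_mod_cast hm)
  have hGinj : ∀ (m : ℕ), 1 ≤ m → ∀ t : P ⟶ M.G, t ^ m = 1 → t ≫ f.fG = 1 → t = 1 := by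
    intro m hm t ht h2
    obtain ⟨y, hy, hy2⟩ := hinj' m hm 1 t (by rw [ht, inv_one]; exact MonObj.one_comp _) (MonObj.one_comp _) h2
    have hy1 : φ.symm y = 1 := htf _ m (by omega) (by rw [← map_pow, hy, map_one])
    rw [map_eq_one_iff φ.symm φ.symm.injective] at hy1
    rw [← hy2, hy1, MonObj.one_comp, inv_one]
  have hinjG := GrothLib.OneMotFaith14.semiAb_injective M.semiAb N.semiAb f.fG hGinj
  have hLinj : ∀ x : P ⟶ M.L, x ≫ f.fL = 1 → x = 1 := by
    intro x hx
    have hu : x ≫ M.u = 1 := hinjG _ (by rw [Category.assoc, f.comm, ← Category.assoc, hx, MonObj.one_comp])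
    rw [← map_eq_one_iff φ.symm φ.symm.injective]
    refine hzero _ fun m hm => ?_
    obtain ⟨y, hy, -⟩ := hinj' m hm x 1 (by rw [hu, one_pow, inv_one]) hx (MonObj.one_comp _)
    exact ⟨φ.symm y, by rw [← map_pow, hy]⟩
  let F : (P ⟶ M.L) →* (P ⟶ N.L) :=
    { toFun := fun x => x ≫ f.fL
      map_one' := MonObj.one_comp f.fL
      map_mul' := fun a b => MonObj.mul_comp a b f.fL }
  have hLsurj : ∀ x' : P ⟶ N.L, ∃ x, x ≫ f.fL = x' := by
    haveI : Group.FG (P ⟶ N.L) := Group.fg_of_surjective (f := φ'.toMonoidHom) φ'.surjective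
    have htop : F.range = ⊤ := GrothLib.OneMotFaith14.eq_top_of_forall_char (k := k) _ fun p hp χ hχp hχ => by
      refine MonoidHom.ext fun x' => ?_
      obtain ⟨t', ht'⟩ := GrothLib.OneMotFaith14.semiAb_divisible N.semiAb hp.pos ((x' ≫ N.u)⁻¹)
      obtain ⟨x, t, y, -, hy, -⟩ := hsurj' p hp.one_lt.le x' t' (by rw [ht', inv_inv])
      have hx' : x' = (x ≫ f.fL) * y ^ p := by rw [hy, mul_inv_cancel_left]
      rw [hx', map_mul, map_pow, hχp, hχ (x ≫ f.fL) ⟨x, rfl⟩, _root_.mul_one]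
      rfl
    intro x'
    exact (show x' ∈ F.range from htop ▸ trivial)
  haveI : IsIso f.fG := GrothLib.OneMotFaith14.semiAb_isIso M.semiAb N.semiAb f.fG hGinj fun m hm s hs => by
    obtain ⟨x, t, y, hxt, hy, hy2⟩ := hsurj' m hm 1 s (by rw [hs, inv_one]; exact MonObj.one_comp _)
    obtain ⟨y₀, rfl⟩ := hLsurj y
    have hx : y₀ ^ m * x = 1 := hLinj _ (by
      rw [MonObj.mul_comp, MonObj.pow_comp, hy, _root_.mul_one, inv_mul_cancel])
    have hxu : (y₀ ≫ M.u) ^ m * (x ≫ M.u) = 1 := by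
      rw [← MonObj.pow_comp, ← MonObj.mul_comp, hx, MonObj.one_comp]
    refine ⟨t * (y₀ ≫ M.u)⁻¹, ?_, ?_⟩
    · rw [mul_pow, inv_pow, eq_inv_of_mul_eq_one_left hxu, hxt, inv_inv, mul_inv_cancel]
    · rw [MonObj.mul_comp, GrpObj.inv_comp, Category.assoc, f.comm, ← Category.assoc, hy2, mul_inv_cancel_left]
  refine ⟨?_, inferInstance⟩
  choose g hg using hLsurj
  obtain ⟨a, ha⟩ := hex' (fun v => g (φ' v))
  refine ⟨a, hext _ _ fun v => ?_, hext' _ _ fun v => ?_⟩
  · obtain ⟨v', hv'⟩ := φ'.surjective (φ v ≫ f.fL)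
    rw [← Category.assoc, ← hv', ha, Category.comp_id]
    refine mul_inv_eq_one.1 (hLinj _ ?_)
    rw [MonObj.mul_comp, GrpObj.inv_comp, hg, hv', mul_inv_cancel]
  · rw [← Category.assoc, ha, hg, Category.comp_id]

end Groth.Agent.S19691
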