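import Groth.Statements.S9716
import Groth.Agent.Lib.FLFPush9.Basic

set_option autoImplicit false
universe u
open CategoryTheory AlgebraicGeometry
open Mor

namespace Groth.Agent.S9716

/-- (1) ⇔ (2): a morphism f : X ⟶ S is affine with direct image f_*O_X a finite locally free O_S-module
(locally on S isomorphic to a finite direct sum of copies of the structure sheaf, of possibly
varying rank) if and only if f is finite, flat and locally of finite presentation. -/
theorem result {X S : Scheme.{u}} (f : X ⟶ S) :
    (IsAffineHom f ∧ FlatMod.IsFinLocFree ((Scheme.Modules.pushforward f).obj (Coh.structureModule X))) ↔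
      Mor2.IsFinLocFree f := by
  constructor
  · rintro ⟨h, hM⟩
    exact GrothLib.FLFPush9.isFinLocFree_of_pushforward f hM
  · rintro ⟨h1, h2, h3⟩
    exact ⟨inferInstance, GrothLib.FLFPush9.isFinLocFree_pushforward f⟩

end Groth.Agent.S9716
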