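import Groth.Statements.S19692
import Groth.Agent.S18918
import Groth.Agent.S9716
import Groth.Agent.Lib.FinCov.Frame
import Groth.Agent.Lib.BCCoh.CohFlatNear

set_option autoImplicit false
universe u
open CategoryTheory CategoryTheory.Limits AlgebraicGeometry Opposite
open FinCov

namespace Groth.Agent.S19692

set_option backward.isDefEq.respectTransparency false


open AlgebraicGeometry CategoryTheory CategoryTheory.Limits in
theorem frame_finrank {X Y : Scheme.{u}} (f : X ⟶ Y) [IsFinite f] [Flat f] {n : ℕ} {U : Y.Opens}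
    {e : Fin n → Γ((Scheme.Modules.pushforward f).obj (Coh.structureModule X), U)}
    (he : GrothLib.FinCov.IsFrame ((Scheme.Modules.pushforward f).obj (Coh.structureModule X)) U e)
    (y : Y) (hyU : y ∈ U) : f.finrank y = n := by
  obtain ⟨_, ⟨W, hW, rfl⟩, hyW, hWU⟩ :=
    Y.isBasis_affineOpens.exists_subset_of_mem_open (show y ∈ U from hyU) U.2
  replace hW : IsAffineOpen W := hW
  algebraize [(f.app W).hom]
  let b : Module.Basis (Fin n) Γ(Y, W) Γ(X, f ⁻¹ᵁ W) := he.basis W hWU
  have hb : Module.Free Γ(Y, W) Γ(X, f ⁻¹ᵁ W) := Module.Free.of_basis b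
  have : Module.Finite Γ(Y, W) Γ(X, f ⁻¹ᵁ W) := Module.Finite.of_basis b
  let p := hW.primeIdealOf ⟨y, hyW⟩
  have : Nontrivial Γ(Y, W) := PrimeSpectrum.nonempty_iff_nontrivial.1 ⟨p⟩
  have sq : IsPullback ((hW.preimage f).fromSpec) (Spec.map (f.app W)) f hW.fromSpec := by
    refine (IsOpenImmersion.isPullback _ _ _ _ ?_ ?_).flip
    · rw [Scheme.Hom.app_eq_appLE]
      exact (IsAffineOpen.SpecMap_appLE_fromSpec f hW (hW.preimage f) le_rfl).symm
    · rw [IsAffineOpen.opensRange_fromSpec, IsAffineOpen.opensRange_fromSpec]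
  rw [show y = hW.fromSpec p from (hW.fromSpec_primeIdealOf ⟨y, hyW⟩).symm,
    ← Scheme.Hom.finrank_of_isPullback _ _ _ _ sq p]
  refine (Scheme.Hom.finrank_SpecMap_algebraMap Γ(Y, W) Γ(X, f ⁻¹ᵁ W) p).trans ?_
  rw [Module.rankAtStalk_eq_finrank_of_free]
  exact (Module.finrank_eq_card_basis b).trans (Fintype.card_fin n)

/-- A morphism of schemes f : X → Y is a cover of degree d — finite, flat, locally of finite
presentation and of rank d at every point of Y — if and only if f is affine and the direct image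
f_*O_X is locally free of rank d as an O_Y-module, i.e. every point of Y has an open neighbourhood
over which f_*O_X is isomorphic to the direct sum of d copies of the structure sheaf. This is the
object-level content of the equivalence between degree-d covers of Y and O_Y-algebras locally free
of rank d. -/
theorem result {X Y : Scheme.{u}} (f : X ⟶ Y) (d : ℕ) :
    FinCov.IsCover f d ↔
      IsAffineHom f ∧ FlatMod.IsFinLocFreeOfRank d ((Scheme.Modules.pushforward f).obj (Coh.structureModule X)) := by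
  constructor
  · rintro ⟨⟨h1, h2, h3⟩, hd⟩
    obtain ⟨ha, hlf⟩ := (Groth.Agent.S9716.result f).2 ⟨h1, h2, h3⟩
    refine ⟨ha, fun y => ?_⟩
    obtain ⟨U, n, e, hyU, he⟩ := GrothLib.FinCov.exists_frame_nhd hlf y
    obtain rfl : n = d := (frame_finrank f he y hyU).symm.trans (hd y)
    exact ⟨U, hyU, GrothLib.FinCov.exists_iso_of_frame he⟩
  · rintro ⟨ha, hdeg⟩
    have hlf : FlatMod.IsFinLocFree ((Scheme.Modules.pushforward f).obj (Coh.structureModule X)) :=
      fun y => let ⟨U, hy, hφ⟩ := hdeg y; ⟨U, d, hy, hφ⟩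
    obtain ⟨h1, h2, h3⟩ := (Groth.Agent.S9716.result f).1 ⟨ha, hlf⟩
    exact ⟨⟨h1, h2, h3⟩, fun y => Groth.Agent.S18918.finrank_eq_of_pushforward f d hdeg y⟩

end Groth.Agent.S19692
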