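import Groth.Statements.S19693
import Groth.Agent.Lib.FinCov.Split

set_option autoImplicit false
universe u
open CategoryTheory CategoryTheory.Limits AlgebraicGeometry Opposite
open FinCov

namespace Groth.Agent.S19693

/-- Let X be a scheme and A a quasi-coherent O_X-algebra whose underlying O_X-module is locally free of
rank d. Then the structure morphism Spec(A) → X of the relative spectrum of A is a cover of degree
d: finite, flat, locally of finite presentation and of rank d at every point of X. (This is the
quasi-inverse direction of the equivalence between degree-d covers of X and O_X-algebras locally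
free of rank d; the other direction and the identification of the direct-image algebra of Spec(A)
with A are separate statements.) -/
theorem result {X : Scheme.{u}} (A : RelSpec.QCAlg X) (d : ℕ)
    (hA : FlatMod.IsFinLocFreeOfRank d A.toModule) : FinCov.IsCover A.π d := by
  classical
  have chart : ∀ (W : X.Opens) (hW : IsAffineOpen W),
      IsPullback (A.ι W hW) (Spec.map (A.str.app (op W))) A.π hW.fromSpec := fun W hW =>
    (IsOpenImmersion.isPullback _ _ _ _ (A.ι_π W hW) (by rw [hW.opensRange_fromSpec, A.π_preimage W hW])).flip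
  have cover : ∀ x : X, ∃ (W : X.Opens) (hW : IsAffineOpen W), x ∈ W ∧
      (letI := GrothLib.FinCov.alg A W
       Module.Free Γ(X, W) (A.presheaf.obj (op W)) ∧ Module.Finite Γ(X, W) (A.presheaf.obj (op W)) ∧
        (Nontrivial Γ(X, W) → Module.finrank Γ(X, W) (A.presheaf.obj (op W)) = d)) := by
    intro x
    obtain ⟨W, -, hxW, hW, ⟨b⟩⟩ := GrothLib.FinCov.exists_basis_le A hA (V := ⊤) (x := x) trivial
    exact ⟨W, hW.1, hxW, hW.2.1, hW.2.2, fun _ => by
      let := GrothLib.FinCov.alg A W
      rw [Module.finrank_eq_card_basis b, Fintype.card_fin]⟩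
  choose W hW hxW hfree hfin hrk using cover
  have hcov : iSup W = ⊤ := eq_top_iff.2 fun x _ => TopologicalSpace.Opens.mem_iSup.2 ⟨x, hxW x⟩
  have props : ∀ x : X, IsFinite (Spec.map (A.str.app (op (W x)))) ∧ Flat (Spec.map (A.str.app (op (W x)))) ∧
      LocallyOfFinitePresentation (Spec.map (A.str.app (op (W x)))) := by
    intro x
    let := GrothLib.FinCov.alg A (W x)
    have := hfree x
    have := hfin x
    refine ⟨(IsFinite.SpecMap_iff _).2 (RingHom.finite_algebraMap.2 ‹_›),
      Flat.SpecMap_iff.2 (RingHom.flat_algebraMap_iff.2 inferInstance), ?_⟩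
    rw [HasRingHomProperty.Spec_iff (P := @LocallyOfFinitePresentation)]
    have := Module.finitePresentation_of_projective Γ(X, W x) (A.presheaf.obj (op (W x)))
    exact RingHom.finitePresentation_algebraMap.2 (Algebra.FinitePresentation.of_finitePresentation _ _)
  have res : ∀ {P : MorphismProperty Scheme.{u}} [IsZariskiLocalAtTarget P],
      (∀ x, P (Spec.map (A.str.app (op (W x))))) → P A.π := by
    intro P _ h
    refine IsZariskiLocalAtTarget.of_iSup_eq_top W hcov fun x => ?_
    have e := (isPullback_morphismRestrict A.π (W x)).flip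
    have sq := chart (W x) (hW x)
    rw [← (hW x).isoSpec_inv_ι] at sq
    have sq' : IsPullback ((isPullback_morphismRestrict A.π (W x)).flip.lift (A.ι (W x) (hW x))
        (Spec.map (A.str.app (op (W x))) ≫ (hW x).isoSpec.inv) (by rw [Category.assoc]; exact sq.w))
        (Spec.map (A.str.app (op (W x)))) (A.π ∣_ W x) (hW x).isoSpec.inv := by
      refine IsPullback.of_right ?_ (IsPullback.lift_snd _ _ _ _) e
      rw [IsPullback.lift_fst]; exact sq
    have := IsPullback.isIso_fst_of_isIso sq'
    exact (P.arrow_mk_iso_iff (Arrow.isoMk (@asIso _ _ _ _ _ this) (hW x).isoSpec.symm sq'.w)).1 (h x)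
  have hf : IsFinite A.π := res fun x => (props x).1
  have hfl : Flat A.π := res fun x => (props x).2.1
  refine ⟨⟨hf, hfl, res fun x => (props x).2.2⟩, fun y => ?_⟩
  let := GrothLib.FinCov.alg A (W y)
  have := hfree y
  have := hfin y
  let p := (hW y).primeIdealOf ⟨y, hxW y⟩
  have : Nontrivial Γ(X, W y) := PrimeSpectrum.nonempty_iff_nontrivial.1 ⟨p⟩
  rw [show y = (hW y).fromSpec p from ((hW y).fromSpec_primeIdealOf ⟨y, hxW y⟩).symm,
    ← Scheme.Hom.finrank_of_isPullback _ _ _ _ (chart (W y) (hW y)) p]
  refine (Scheme.Hom.finrank_SpecMap_algebraMap Γ(X, W y) (A.presheaf.obj (op (W y))) p).trans ?_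
  rw [Module.rankAtStalk_eq_finrank_of_free]
  exact hrk y this

end Groth.Agent.S19693
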