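import Groth.Statements.S1970
import Groth.Agent.Lib.WeakEtale.OverField

set_option autoImplicit false
universe u
open EtAlg
open Polynomial TensorProduct GrothLib.WeakEtale

namespace Groth.Agent.S1970

/-- Over a field K, every K-subalgebra and every quotient K-algebra of a weakly etale K-algebra is again
weakly etale over K. -/
theorem result (K : Type u) [Field K] (B : Type u) [CommRing B] [Algebra K B]
    [Algebra.WeaklyEtale K B] :
    (∀ S : Subalgebra K B, Algebra.WeaklyEtale K S) ∧ ∀ I : Ideal B, Algebra.WeaklyEtale K (B ⧸ I) := by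
  refine ⟨fun S => weaklyEtale_of_isSepElem fun b =>
    (isSepElem_of_weaklyEtale (b : B)).of_map S.val Subtype.val_injective, fun I =>
    weaklyEtale_of_isSepElem fun b => ?_⟩
  obtain ⟨x, rfl⟩ := Ideal.Quotient.mk_surjective b
  exact (isSepElem_of_weaklyEtale x).map (Ideal.Quotient.mkₐ K I)

end Groth.Agent.S1970
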