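import Groth.Statements.S19700
import Groth.Agent.Lib.FinCov.DblAlg

set_option autoImplicit false
universe u
open CategoryTheory CategoryTheory.Limits AlgebraicGeometry Opposite
open FinCov

namespace Groth.Agent.S19700

/-- Let X be a scheme with 2 invertible in O_X(X), L an invertible O_X-module, m : L ⊗ L → O_X a
homomorphism of O_X-modules, (A, j : L → A) a quasi-coherent O_X-algebra presented as O_X ⊕ L with
product given by m (every section of A is uniquely s·1 + j(l), and j(l)·j(l') = m(l ⊗ l')·1), and τ
: A → O_X the trace of A (the O_X-linear map which over every affine open where A is finite free is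
the trace of the regular representation; A is locally free of rank 2 here). Then for every open
subset U of X and every section a of A over U, τ(a) = 0 if and only if a lies in the image of j over
U: the kernel of the trace is exactly j(L). -/
theorem result {X : Scheme.{u}} (L : X.Modules) (hL : PicF.IsInvertible L)
    (m : CohB1.tensorMod L L ⟶ Coh.structureModule X) (A : RelSpec.QCAlg X) (j : L ⟶ A.toModule)
    (h : FinCov.IsDblAlg L m A j) (h2 : IsUnit (2 : Γ(X, ⊤)))
    (τ : A.toModule ⟶ Coh.structureModule X) (hτ : FinCov.IsTrace A τ)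
    (U : X.Opens) (a : A.toModule.val.obj (op U)) :
    (τ.val.app (op U)).hom a = 0 ↔ a ∈ Set.range (j.val.app (op U)).hom := by
  have hA := (GrothLib.FinCov.rank_two_of_isDblAlg A hL h).1
  obtain ⟨⟨s, l⟩, rfl⟩ := (h.1 U).2 a
  have h0 : GrothLib.FinCov.tauF A τ U ((A.str.app (op U)).hom s + FinCov.toSec A ((j.app U).hom l)) = 2 * s := by
    rw [GrothLib.FinCov.tauF_add]
    refine (congrArg₂ (fun p q : Γ(X, U) => p + q) (GrothLib.FinCov.app_trace_str A hA hτ U s)
      (GrothLib.FinCov.trace_j_eq_zero A hL h hτ U l)).trans ?_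
    rw [add_zero, nsmul_eq_mul]; rfl
  refine (Eq.congr_left h0).trans ⟨fun hs => ?_, fun ⟨l', hl'⟩ => ?_⟩
  · have hs0 : s = 0 := (GrothLib.FinCov.isUnit_two h2 U).mul_left_cancel (hs.trans (mul_zero _).symm)
    refine ⟨l, ?_⟩
    subst hs0
    show FinCov.toSec A ((j.val.app (op U)).hom l) = (A.str.app (op U)).hom 0 + FinCov.toSec A ((j.val.app (op U)).hom l)
    rw [map_zero, zero_add]
  · have : (s, l) = ((0 : Γ(X, U)), l') := (h.1 U).1 (by
      show _ = (A.str.app (op U)).hom 0 + FinCov.toSec A ((j.val.app (op U)).hom l')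
      rw [map_zero, zero_add]
      exact hl'.symm)
    rw [(Prod.mk.inj this).1, mul_zero]; rfl

end Groth.Agent.S19700
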