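import Groth.Statements.S19701
import Groth.Agent.Lib.CurveMult.TraceKer

set_option autoImplicit false
universe u
open CategoryTheory CategoryTheory.Limits AlgebraicGeometry Opposite
open Curves

namespace Groth.Agent.S19701

set_option backward.isDefEq.respectTransparency false


/-- Let k be an algebraically closed field of characteristic different from 2 and X a hyperelliptic
curve of genus g over k: X → Spec k is smooth and proper, X is connected of dimension one with g =
dim_k H¹(X, O_X) ≥ 2, and h : X → P¹_k is a k-morphism which is a double cover (finite, flat,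
locally of finite presentation, of rank 2 at every point). Let τ : h_*O_X → O_{P¹} be the trace of h
(the O-linear map which over every affine open of P¹_k where h_*O_X is finite free is the trace of
the regular representation). Then the kernel of τ — an invertible sheaf on P¹_k — has degree −g − 1,
the degree of a rank-one sheaf E on P¹_k being χ(E) − χ(O). (On P¹_k this says that ker τ is
isomorphic to O(−g − 1); only the degree is asserted here.) -/
theorem result (k : Type u) [Field k] [IsAlgClosed k]
    (h2 : (2 : k) ≠ 0) {X : Scheme.{u}} (p : X ⟶ Spec (CommRingCat.of k)) [IsProper p] [Smooth p]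
    [ConnectedSpace ↥X] (hX : topologicalKrullDim ↥X = 1) (hg : 2 ≤ @Curv2.genus k _ X ⟨p⟩)
    (h : X ⟶ CohB1.ProjSpace 1 k) (hh : h ≫ CohB1.ProjSpace.toSpec 1 k = p)
    [IsFinite h] [Flat h] [LocallyOfFinitePresentation h]
    (hr : ∀ y : ↥(CohB1.ProjSpace 1 k), h.finrank y = 2)
    (τ : (Scheme.Modules.pushforward h).obj (Coh.structureModule X) ⟶ Coh.structureModule (CohB1.ProjSpace 1 k))
    (hτ : FinCov.IsTraceHom h τ) :
    @Curv2.deg k _ (CohB1.ProjSpace 1 k) ⟨CohB1.ProjSpace.toSpec 1 k⟩ (kernel τ) 1 =
      -((@Curv2.genus k _ X ⟨p⟩ : ℤ) + 1) := by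
  letI : X.Over (Spec (CommRingCat.of k)) := ⟨p⟩
  haveI : IsProper (X ↘ Spec (CommRingCat.of k)) := ‹IsProper p›
  haveI : Smooth (X ↘ Spec (CommRingCat.of k)) := ‹Smooth p›
  haveI := GrothLib.Euler.isIntegral_of_smooth_connected k (X ↘ Spec (CommRingCat.of k))
  haveI := GrothLib.CurveRR.regCurve_of_smooth (X ↘ Spec (CommRingCat.of k)) hX
  exact GrothLib.CurveMult.TraceKer.deg_kernel k hX.le (GrothLib.CurveRR.finrank_H0_structure_eq_one k) h2 h hh hr τ hτ

end Groth.Agent.S19701
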