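import Groth.Statements.S19705
import Groth.Agent.Lib.AntMax16.Main

set_option autoImplicit false
universe u
open CategoryTheory MonoidalCategory CartesianMonoidalCategory MonObj GrpObj AlgebraicGeometry CategoryTheory.Limits
open AlgGrp

namespace Groth.Agent.S19705

/-- Let k be a field and G a connected k-group scheme of finite type, not necessarily smooth. Let i : N
→ G be a closed normal subgroup scheme which is affine and is the kernel of a flat surjective
homomorphism q : G → A of k-group schemes of finite type with A proper, and let j : M → G be the
largest anti-affine closed subgroup scheme G_ant of G (O(M) = k, and every anti-affine closed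
subgroup scheme of G factors through M). Then the multiplication morphism N × M → G is surjective
(on underlying topological spaces), and every closed subgroup scheme H of G for which the
multiplication H × N → G is surjective contains G_ant, i.e. M factors through H. (The published
statement takes N = G_aff, the smallest connected affine normal subgroup scheme whose quotient is an
abelian variety; the row allows any affine closed normal subgroup scheme N whose quotient G/N is
proper, for which the same argument applies.) -/
theorem result (k : Type u) [Field k]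
    (G : Over (Spec (CommRingCat.of k))) [GrpObj G] [LocallyOfFiniteType G.hom] [QuasiCompact G.hom] [ConnectedSpace ↥G.left]
    (N : Over (Spec (CommRingCat.of k))) [GrpObj N] (i : N ⟶ G) [IsMonHom i] [IsClosedImmersion i.left] [IsAffine N.left]
    (hN : AlgGrp.IsNormalHom i)
    (A : Over (Spec (CommRingCat.of k))) [GrpObj A] [IsProper A.hom]
    (q : G ⟶ A) [IsMonHom q] [Surjective q.left] [Flat q.left] (hq : AlgGrp.IsKernel i q)
    (M : Over (Spec (CommRingCat.of k))) [GrpObj M] [LocallyOfFiniteType M.hom] [QuasiCompact M.hom] (j : M ⟶ G) [IsMonHom j] [IsClosedImmersion j.left]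
    (hM : Function.Bijective ((Scheme.ΓSpecIso (CommRingCat.of k)).inv ≫ M.hom.appTop).hom)
    (hMmax : ∀ (M₁ : Over (Spec (CommRingCat.of k))) [GrpObj M₁] [LocallyOfFiniteType M₁.hom] [QuasiCompact M₁.hom] (j₁ : M₁ ⟶ G) [IsMonHom j₁] [IsClosedImmersion j₁.left],
      Function.Bijective ((Scheme.ΓSpecIso (CommRingCat.of k)).inv ≫ M₁.hom.appTop).hom → ∃ g : M₁ ⟶ M, g ≫ j = j₁) :
    Surjective ((i ⊗ₘ j) ≫ μ[G]).left ∧
      ∀ (H : Over (Spec (CommRingCat.of k))) [GrpObj H] (h : H ⟶ G) [IsMonHom h] [IsClosedImmersion h.left],
        Surjective ((h ⊗ₘ i) ≫ μ[G]).left → ∃ g : M ⟶ H, g ≫ h = j := by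
  exact GrothLib.AntMax16.ant_generates i q hq j hM fun K _ _ _ i' _ _ h => hMmax K i' h


end Groth.Agent.S19705
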