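import Groth.Statements.S1971
import Groth.Agent.Lib.Hensel.Henselization
import Groth.Agent.Lib.Hensel.Properties
-- import your own Groth.Agent.* helpers here

set_option autoImplicit false
universe u
open EtAlg

namespace Groth.Agent.S1971

/-- Let A be a ring with ideals I and J having the same zero locus in Spec A. Then an A-algebra is a
henselization of the pair (A, I) if and only if it is a henselization of the pair (A, J). -/
theorem result (A : Type u) [CommRing A] (I J : Ideal A)
    (h : PrimeSpectrum.zeroLocus (I : Set A) = PrimeSpectrum.zeroLocus (J : Set A)) (B : Type u) [CommRing B] [Algebra A B] :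
    Hens2.IsPairHenselization A I B ↔ Hens2.IsPairHenselization A J B := by
  have hr : I.radical = J.radical := PrimeSpectrum.zeroLocus_eq_iff.mp h
  suffices H : ∀ I J : Ideal A, I.radical = J.radical →
      Hens2.IsPairHenselization A I B → Hens2.IsPairHenselization A J B from
    ⟨H I J hr, H J I hr.symm⟩
  intro I J hr hB
  have hmap : (I.map (algebraMap A B)).radical = (J.map (algebraMap A B)).radical := by
    apply le_antisymm <;> rw [Ideal.radical_le_radical_iff]
    · exact (Ideal.map_mono (Ideal.le_radical.trans hr.le)).trans (Ideal.map_radical_le _)
    · exact (Ideal.map_mono (Ideal.le_radical.trans hr.ge)).trans (Ideal.map_radical_le _)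
  refine ⟨(GrothLib.Hensel.henselianRing_iff_of_radical_eq hmap).mp hB.1, fun C _ K f hK hle ↦ ?_⟩
  exact hB.2 C K.radical f
    ((GrothLib.Hensel.henselianRing_iff_of_radical_eq (Ideal.radical_idem K).symm).mp hK)
    ((Ideal.map_mono (Ideal.le_radical.trans hr.le)).trans
      ((Ideal.map_radical_le f).trans (Ideal.radical_mono hle)))
end Groth.Agent.S1971
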