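import Groth.Statements.S19710
import Groth.Agent.Lib.FunFld.RationalChain
import Groth.Agent.S18175

set_option autoImplicit false
open FunFld

namespace Groth.Agent.S19710

/-- Let `k` be an algebraically closed field of characteristic zero. A `g^r_d` on a function field `K/k`
of one variable is a divisor `D` of degree `d` with a subspace `V ⊆ L(D)` of dimension `r + 1`;
`V(-nP) = V ∩ L(D - nP)`, and the `i`-th vanishing order `m_i(V, P)` (`m_0 < ⋯ < m_r`) equals `m`
exactly when `dim V(-mP) = r + 1 - i` and `dim V(-(m+1)P) = r - i`. Let `K_Y` have genus `0` and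
carry a `g^r_d` `(D_Y, V_Y)` with at least a cusp at a place `Q_Y` (`dim V_Y(-2Q_Y) ≥ r`); let
`(D_Z, V_Z)` be a `g^r_d` on a second function field `K_Z`, compatible with `(D_Y, V_Y)` at a node
formed by a place `P ≠ Q_Y` of `K_Y` and a place `Q` of `K_Z` (`dim V_Y(-nP) + dim V_Z(-(d+1-n)Q) =
r + 1` for `0 ≤ n ≤ d + 1`), and let `P'` be a place of `K_Y` different from `P` and from `Q_Y`.
Then `m_i(V_Y, P') < m_i(V_Z, Q)` for all but at most one index: the set of `i ≤ r` for which the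
`i`-th vanishing order of `V_Y` at `P'` equals the `i`-th vanishing order of `V_Z` at `Q` has at
most one element. (In the source `Q_Y` is the point where the rational component `Y` meets a chain
of curves ending in a curve of positive genus, which forces the cusp condition assumed here; the
source works over the complex numbers.) -/
theorem result
    (k : Type*) [Field k] [IsAlgClosed k] [CharZero k]
    (KY : Type*) [Field KY] [Algebra k KY] (hKY : FunFld.IsFunctionField k KY) (hg0 : FunFld.genus k KY = 0)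
    (KZ : Type*) [Field KZ] [Algebra k KZ] (hKZ : FunFld.IsFunctionField k KZ)
    (d r : ℕ) (DY : FunFld.Divisor k KY) (hDY : DY.deg = d) (DZ : FunFld.Divisor k KZ) (hDZ : DZ.deg = d)
    (VY : Submodule k KY) (hVY : VY ≤ FunFld.L DY) (hVYr : Module.finrank k ↥VY = r + 1)
    (VZ : Submodule k KZ) (hVZ : VZ ≤ FunFld.L DZ) (hVZr : Module.finrank k ↥VZ = r + 1)
    (QY : FunFld.Place k KY) (hcusp : r ≤ Module.finrank k ↥(VY ⊓ FunFld.L (DY - Finsupp.single QY ((2 : ℤ)))))
    (P : FunFld.Place k KY) (hP : P ≠ QY) (Q : FunFld.Place k KZ)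
    (hcomp : ∀ n : ℕ, n ≤ d + 1 →
      Module.finrank k ↥(VY ⊓ FunFld.L (DY - Finsupp.single P ((n : ℤ)))) + Module.finrank k ↥(VZ ⊓ FunFld.L (DZ - Finsupp.single Q ((d : ℤ) + 1 - n))) = r + 1)
    (P' : FunFld.Place k KY) (hP'P : P' ≠ P) (hP'Q : P' ≠ QY) :
    {i : ℕ | i ≤ r ∧ ∃ m : ℕ,
        Module.finrank k ↥(VY ⊓ FunFld.L (DY - Finsupp.single P' ((m : ℤ)))) = r + 1 - i ∧
        Module.finrank k ↥(VY ⊓ FunFld.L (DY - Finsupp.single P' ((m : ℤ) + 1))) = r - i ∧
        Module.finrank k ↥(VZ ⊓ FunFld.L (DZ - Finsupp.single Q ((m : ℤ)))) = r + 1 - i ∧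
        Module.finrank k ↥(VZ ⊓ FunFld.L (DZ - Finsupp.single Q ((m : ℤ) + 1))) = r - i}.Subsingleton := by
  have hfg : GrothLib.FunFld.IsFG k KY := hKY.1
  rintro i ⟨hi, m, hYm, -, -, hZm⟩ i' ⟨hi', m', hYm', -, -, hZm'⟩
  by_contra hne
  have hmm : m ≠ m' := by
    rintro rfl
    omega
  have hmd : ∀ j x : ℕ, j ≤ r → Module.finrank k
      ↥(VY ⊓ FunFld.L (DY - Finsupp.single P' ((x : ℤ)))) = r + 1 - j → x ≤ d := by
    intro j x hj hx
    by_contra hlt
    rw [show Module.finrank k ↥(VY ⊓ FunFld.L (DY - Finsupp.single P' ((x : ℤ)))) = 0 from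
      GrothLib.FunFld.vdim_eq_zero hfg P' (hfg.deg_eq_one P') (by rw [hDY]; omega)] at hx
    omega
  have hex : ∀ j x : ℕ, j ≤ r →
      Module.finrank k ↥(VY ⊓ FunFld.L (DY - Finsupp.single P' ((x : ℤ)))) = r + 1 - j →
      Module.finrank k ↥(VZ ⊓ FunFld.L (DZ - Finsupp.single Q ((x : ℤ) + 1))) = r - j →
      ∃ f : KY, f ≠ 0 ∧ f ∈ VY ∧
        FunFld.div k f + DY = Finsupp.single P ((d : ℤ) - x) + Finsupp.single P' (x : ℤ) := by
    intro j x hj hx hzx
    have hxd := hmd j x hj hx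
    have h1 := hcomp (d - x) (by omega)
    rw [show ((d : ℤ) + 1 - ((d - x : ℕ) : ℤ)) = (x : ℤ) + 1 by omega, hzx] at h1
    have h2 := GrothLib.FunFld.vdim_add_le_inf hfg hVY (Ne.symm hP'P)
      (m := ((d - x : ℕ) : ℤ)) (n := (x : ℤ)) (by omega) (by omega)
    simp only [GrothLib.FunFld.vdim, hx, hVYr] at h2
    have hne0 : VY ⊓ FunFld.L (DY - Finsupp.single P ((d - x : ℕ) : ℤ) -
        Finsupp.single P' (x : ℤ)) ≠ ⊥ := by
      intro hb
      rw [hb, finrank_bot] at h2
      omega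
    obtain ⟨f, hf, hf0⟩ := Submodule.exists_mem_ne_zero_of_ne_bot hne0
    refine ⟨f, hf0, hf.1, ?_⟩
    rw [show ((d : ℤ) - x) = ((d - x : ℕ) : ℤ) by omega]
    have hge : 0 ≤ DY - Finsupp.single P ((d - x : ℕ) : ℤ) - Finsupp.single P' (x : ℤ) +
        FunFld.div k f := fun R => by
      have := (GrothLib.FunFld.mem_L_iff_ord hf0).1 hf.2 R
      rw [Finsupp.add_apply, hfg.div_apply, Finsupp.zero_apply]; omega
    have hz : DY - Finsupp.single P ((d - x : ℕ) : ℤ) - Finsupp.single P' (x : ℤ) +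
        FunFld.div k f = 0 := by
      by_contra hne'
      obtain ⟨R, hR⟩ := Finsupp.ne_iff.1 hne'
      have hle : Finsupp.single R 1 ≤ DY - Finsupp.single P ((d - x : ℕ) : ℤ) -
          Finsupp.single P' (x : ℤ) + FunFld.div k f := fun S => by
        have := hge S
        by_cases hS : R = S
        · subst hS; simp at this hR ⊢; omega
        · simp [hS] at this ⊢; omega
      have := GrothLib.FunFld.deg_mono hle
      rw [GrothLib.FunFld.deg_single, GrothLib.FunFld.deg_add, GrothLib.FunFld.deg_sub,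
        GrothLib.FunFld.deg_sub, GrothLib.FunFld.deg_single, GrothLib.FunFld.deg_single,
        hfg.deg_div, hDY, hfg.deg_eq_one R, hfg.deg_eq_one P, hfg.deg_eq_one P'] at this
      push_cast at this
      omega
    rw [← sub_eq_zero, ← hz]; abel
  obtain ⟨f, hf0, hfV, hf⟩ := hex i m hi hYm hZm
  obtain ⟨g, hg0', hgV, hg⟩ := hex i' m' hi' hYm' hZm'
  have hs : ∀ (u : KY) (x : ℕ),
      FunFld.div k u + DY = Finsupp.single P ((d : ℤ) - x) + Finsupp.single P' (x : ℤ) →
      ∀ R : FunFld.Place k KY, R ≠ P → R ≠ P' → (FunFld.div k u + DY) R = 0 := by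
    intro u x hu R h1 h2
    rw [hu]; simp [Ne.symm h1, Ne.symm h2]
  obtain ⟨c, rfl⟩ := Groth.Agent.S18175.result k KY hKY hg0 d r DY hDY VY hVY hVYr QY hcusp P P'
    hP hP'Q f g hfV hgV hf0 hg0' (hs f m hf) (hs g m' hg)
  have hc : c ≠ 0 := fun h0 => hg0' (by rw [h0, zero_smul])
  have hdiv : FunFld.div k (c • f) = FunFld.div k f := by
    ext R; rw [hfg.div_apply, hfg.div_apply, GrothLib.FunFld.ord_smul R hc]
  rw [hdiv, hf] at hg
  have := congrArg (fun E : FunFld.Divisor k KY => E P') hg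
  simp [Ne.symm hP'P] at this
  omega

end Groth.Agent.S19710
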