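import Groth.Statements.S19711
import Mathlib.Algebra.Module.FinitePresentation
import Mathlib.RingTheory.Localization.FractionRing
import Mathlib.RingTheory.Spectrum.Prime.Topology
import Mathlib.LinearAlgebra.Basis.VectorSpace
-- import your own Groth.Agent.* helpers here

set_option autoImplicit false
universe u
open CategoryTheory
open Coh

namespace Groth.Agent.S19711

/-- Let A be a Noetherian integral domain and F an A-linear additive functor from A-modules to A-modules
with F(A) a finitely generated A-module. Call such a functor generically injective when there is a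
dense open subset U of Spec A such that for every point u of U whose residue field κ(u) is a
finitely generated A-algebra the comparison map F(A) ⊗_A κ(u) → F(κ(u)) is injective; since F is
A-linear this injectivity says: every m in F(A) whose image under F(A → κ(u)) vanishes satisfies s·m
∈ u·F(A) for some s outside u. If F is generically injective then so is every A-linear additive
subfunctor K ⊆ F (a natural transformation K → F with injective components). (The published
statement is over a reduced Noetherian affine scheme, for additive functors on quasi-coherent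
sheaves with values in abelian groups and the induced A-action, assumes F weakly bounded (F(A/p)
finitely generated for every prime ideal p) and also records that K is again weakly bounded; only
the finite generation of F(A), which its argument uses, is assumed here, and the integral case with
A-linear functors stated here is the one its argument by generic flatness treats.) -/
theorem result {A : Type u} [CommRing A] [IsNoetherianRing A] [IsDomain A]
    (F K : ModuleCat.{u} A ⥤ ModuleCat.{u} A) [F.Additive] [F.Linear A] [K.Additive] [K.Linear A]
    (ι : K ⟶ F) (hι : ∀ X : ModuleCat.{u} A, Function.Injective (ι.app X).hom)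
    (hfin : Module.Finite A (F.obj (ModuleCat.of A A)))
    (hGI : ∃ U : Set (PrimeSpectrum A), IsOpen U ∧ Dense U ∧ ∀ u ∈ U, Algebra.FiniteType A u.asIdeal.ResidueField →
        ∀ m : F.obj (ModuleCat.of A A),
          (F.map (ModuleCat.ofHom (Algebra.linearMap A u.asIdeal.ResidueField))).hom m = 0 →
            ∃ s ∉ u.asIdeal, s • m ∈ u.asIdeal • (⊤ : Submodule A (F.obj (ModuleCat.of A A)))) :
    ∃ U : Set (PrimeSpectrum A), IsOpen U ∧ Dense U ∧ ∀ u ∈ U, Algebra.FiniteType A u.asIdeal.ResidueField →
        ∀ m : K.obj (ModuleCat.of A A),
          (K.map (ModuleCat.ofHom (Algebra.linearMap A u.asIdeal.ResidueField))).hom m = 0 →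
            ∃ s ∉ u.asIdeal, s • m ∈ u.asIdeal • (⊤ : Submodule A (K.obj (ModuleCat.of A A))) := by
  classical
  obtain ⟨U, hUo, hUd, hU⟩ := hGI
  let X₀ := ModuleCat.of A A
  let N := K.obj X₀
  let M := F.obj X₀
  let i : N →ₗ[A] M := (ι.app X₀).hom
  haveI : Module.Finite A M := hfin
  haveI : IsNoetherian A M := inferInstance
  haveI : Module.Finite A N := Module.Finite.of_injective i (hι X₀)
  let Q := FractionRing A
  let S := nonZeroDivisors A
  let lN := LocalizedModule.mkLinearMap S N
  let lM := LocalizedModule.mkLinearMap S M
  let iQ : LocalizedModule S N →ₗ[Localization S] LocalizedModule S M := LocalizedModule.map S i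
  have hiQ : Function.Injective iQ := LocalizedModule.map_injective S i (hι X₀)
  letI : Field (Localization S) := (IsFractionRing.toField A : Field (Localization S))
  obtain ⟨ret, hret⟩ := iQ.exists_leftInverse_of_injective (LinearMap.ker_eq_bot.2 hiQ)
  haveI : Module.FinitePresentation A M := Module.finitePresentation_of_finite A M
  obtain ⟨r, ⟨c, hc⟩, hr⟩ := Module.FinitePresentation.exists_lift_of_isLocalizedModule S lN
    (ret.restrictScalars A ∘ₗ lM)
  let D : N →ₗ[A] N := r ∘ₗ i - c • LinearMap.id
  have hD : ∀ n, lN (D n) = 0 := fun n => by
    have h2 := LinearMap.congr_fun hr (i n)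
    have h3 : iQ (lN n) = lM (i n) := by
      simp [iQ, lN, lM, LocalizedModule.map_mk]
    have h4 : ret (iQ (lN n)) = lN n := LinearMap.congr_fun hret (lN n)
    simp only [D, LinearMap.sub_apply, LinearMap.comp_apply, LinearMap.smul_apply, LinearMap.id_apply,
      map_sub, map_smul, LinearMap.restrictScalars_apply, Submonoid.mk_smul] at h2 ⊢
    rw [h2, ← h3, h4, sub_self]
  have hann : ∃ d ∈ S, ∀ n, d • D n = 0 := by
    obtain ⟨s, hs⟩ := (Module.Finite.fg_top (R := A) (M := N))
    have hx : ∀ n, ∃ d : S, (d : A) • D n = 0 := fun n => by
      obtain ⟨d, hd⟩ := IsLocalizedModule.exists_of_eq (S := S) (f := lN) (show lN (D n) = lN 0 by rw [hD, map_zero])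
      exact ⟨d, by simpa [Submonoid.smul_def] using hd⟩
    choose d hd using hx
    refine ⟨∏ n ∈ s, (d n : A), prod_mem fun n _ => (d n).2, fun n => ?_⟩
    have : n ∈ Submodule.span A (s : Set N) := by rw [hs]; trivial
    induction this using Submodule.span_induction with
    | mem n hn =>
      rw [← Finset.prod_erase_mul _ _ hn, mul_smul, hd, smul_zero]
    | zero => rw [map_zero, smul_zero]
    | add a b _ _ ha hb => rw [map_add, smul_add, ha, hb, add_zero]
    | smul t a _ ha => rw [map_smul, smul_comm, ha, smul_zero]
  obtain ⟨d, hd, hdD⟩ := hann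
  have hg : d * c ≠ 0 := mul_ne_zero (nonZeroDivisors.ne_zero hd) (nonZeroDivisors.ne_zero hc)
  refine ⟨U ∩ (PrimeSpectrum.basicOpen (d * c) : Set (PrimeSpectrum A)),
    hUo.inter (PrimeSpectrum.basicOpen (d * c)).isOpen, ?_, ?_⟩
  · refine hUd.inter_of_isOpen_left ?_ hUo
    refine (PrimeSpectrum.basicOpen (d * c)).isOpen.dense ⟨⟨⊥, Ideal.isPrime_bot⟩, ?_⟩
    exact fun h => hg ((Ideal.mem_bot).1 h)
  · rintro u ⟨huU, hug⟩ hft m hm
    have hm' : (F.map (ModuleCat.ofHom (Algebra.linearMap A u.asIdeal.ResidueField))).hom (i m) = 0 := by
      have := ConcreteCategory.congr_hom (ι.naturality (ModuleCat.ofHom (Algebra.linearMap A u.asIdeal.ResidueField))) m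
      refine this.symm.trans ?_
      change (ι.app _).hom ((K.map _).hom m) = 0
      rw [hm, map_zero]
    obtain ⟨s, hs, hsm⟩ := hU u huU hft (i m) hm'
    refine ⟨d * c * s, ?_, ?_⟩
    · intro h
      rcases u.isPrime.mem_or_mem h with h | h
      · exact hug h
      · exact hs h
    · have key : d • r (i m) = (d * c) • m := by
        have := hdD m
        simp only [D, LinearMap.sub_apply, LinearMap.comp_apply, LinearMap.smul_apply, LinearMap.id_apply,
          smul_sub, sub_eq_zero] at this
        rw [this, mul_smul]
      have h5 : (d * c * s) • m = (d • r) (s • i m) := by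
        rw [LinearMap.smul_apply, map_smul, smul_comm, key, mul_comm (d * c) s, mul_smul]
      rw [h5]
      have := Submodule.mem_map_of_mem (f := d • r) hsm
      rw [Submodule.map_smul''] at this
      exact Submodule.smul_mono le_rfl le_top this

end Groth.Agent.S19711
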