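import Groth.Statements.S19712
import Groth.Agent.Lib.AsympCoh5.VeryAmpleGen
import Groth.Agent.Lib.DecSh20.Embed

set_option autoImplicit false
universe u
open CategoryTheory AlgebraicGeometry
open Variety

namespace Groth.Agent.S19712

open AlgebraicGeometry.Scheme.Modules in
/-- Uniform cohomology bound on intersections of divisors: let X be an integral scheme, proper over an
algebraically closed field k of characteristic zero and admitting an ample invertible module, of
dimension n (the source works over the complex numbers); let A be an invertible O_X-module which is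
very ample (A ≅ i^*O(1) for an immersion into some P^N_k) and such that A ⊗ P' is very ample for
every invertible P' numerically equivalent to zero, D any invertible O_X-module and 1 ≤ k ≤ n. Then
there is a constant C > 0, determined by X, A and D, such that: for every invertible P numerically
equivalent to zero, every k global sections s_1, …, s_k of A ⊗ P, and every closed subscheme Z of X
whose ideal is generated by the zero-scheme ideals of the s_j (Z = E_1 ∩ ⋯ ∩ E_k with E_j the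
divisor of s_j), if Z is reduced and all its irreducible components have dimension n − k, then dim_k
H^i(Z, (D^{⊗m})|_Z) ≤ C · m^{n−k} for every m ≥ 1 and every i. -/
theorem result
    (k : Type u) [Field k] [IsAlgClosed k] [CharZero k] (X : Scheme.{u})
    [X.Over (Spec (CommRingCat.of k))] [AlgebraicGeometry.IsIntegral X]
    [IsProper (X ↘ Spec (CommRingCat.of k))] (hproj : ∃ A : X.Modules, CohB1.IsAmple A)
    (n : ℕ) (hn : topologicalKrullDim ↥X = n)
    (A : X.Modules) (hA : PicF.IsInvertible A) (hAva : RelAmple.IsRelVeryAmplePn (X ↘ Spec (CommRingCat.of k)) A)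
    (hAP : ∀ P' : X.Modules, PicF.IsInvertible P' → Pic13.IsNumEquivZero k X P' →
      RelAmple.IsRelVeryAmplePn (X ↘ Spec (CommRingCat.of k)) (CohB1.tensorMod A P'))
    (D : X.Modules) (hD : PicF.IsInvertible D) (kk : ℕ) (hk1 : 1 ≤ kk) (hkn : kk ≤ n) :
    ∃ C : ℝ, 0 < C ∧ ∀ (P : X.Modules), PicF.IsInvertible P → Pic13.IsNumEquivZero k X P →
      ∀ (s : Fin kk → (Coh.structureModule X ⟶ CohB1.tensorMod A P))
        (Z : Scheme.{u}) [Z.Over (Spec (CommRingCat.of k))] (ι : Z ⟶ X) [IsClosedImmersion ι],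
        ι ≫ (X ↘ Spec (CommRingCat.of k)) = Z ↘ Spec (CommRingCat.of k) →
        (∀ U : X.affineOpens, ι.ker.ideal U = ⨆ j, (PicF2.zeroScheme (CohB1.tensorMod A P) (s j)).ideal U) →
        AlgebraicGeometry.IsReduced Z →
        (∀ W ∈ irreducibleComponents ↥Z, topologicalKrullDim ↥W = ((n - kk : ℕ) : WithBot ℕ∞)) →
        ∀ (m : ℕ), 1 ≤ m → ∀ i : ℕ,
          (Module.finrank k (Coh.HH Z ((pullback ι).obj (CohB1.tensorPow D m)) i) : ℝ) ≤ C * (m : ℝ) ^ (n - kk) := by
  classical
  obtain ⟨H, hH⟩ := hproj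
  haveI := GrothLib.Euler.isNoetherian_of_proper (X := X) k
  obtain ⟨r₀, N₀, i₀, -, hi₀, hik₀, -⟩ := GrothLib.DecSh20.exists_embedding k hH
  haveI := hi₀
  let a := GrothLib.Cube.clsMod hA
  let x := GrothLib.Cube.clsMod hD
  let L := CohB1.tensorMod A A
  have hLc : GrothLib.Cube.HasCls L (a * a) :=
    (GrothLib.Cube.hasCls_clsMod hA).tensor (GrothLib.Cube.hasCls_clsMod hA)
  -- a uniform bound on the numbers of sections
  obtain ⟨B, hB⟩ := (GrothLib.NumReg26.good_of_isCoh i₀ hik₀ (GrothLib.Euler.isCoh_of_isInvertible hA)).bdd 0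
  have hb1 := GrothLib.AsympCoh5.isBounded_cokernel_sections (k := k)
    (GrothLib.Euler.isCoh_of_isInvertible hLc.1) (kk * B)
  have hb2 := GrothLib.AsympCoh5.isBounded_tensor hb1 (E := GrothLib.HodgeIndex.rep (a * a)⁻¹)
    (GrothLib.HodgeIndex.isInv_rep _)
  have hb3 := GrothLib.BddFam20.isBounded_mono hb2
    (P := fun F' => (∃ F, (∃ σ : Fin (kk * B) → (Coh.structureModule X ⟶ L), Nonempty (CategoryTheory.Limits.cokernel (CategoryTheory.Limits.Sigma.desc σ) ≅ F)) ∧
      Nonempty ((GrothLib.Euler.tF (GrothLib.HodgeIndex.rep (a * a)⁻¹)).obj F ≅ F')) ∧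
      GrothLib.Snapper.DimLT (CohB1.support F') (n - kk + 1)) (fun F h => h.1)
  obtain ⟨C, hC⟩ := GrothLib.AsympCoh5.exists_bound_of_isBounded hH hb3 (d := n - kk) (fun F h => h.2) x
  refine ⟨((C * 2 ^ (n - kk) + 1 : ℕ) : ℝ), by exact_mod_cast Nat.succ_pos _,
    fun P hP hPn s Z _ ι _ hι hker hred hdim m hm i => ?_⟩
  let p := GrothLib.Cube.clsMod hP
  have hpn : GrothLib.NumReg26.NumCls k p⁻¹ :=
    ((GrothLib.NumReg26.numCls_iff k (GrothLib.Cube.hasCls_clsMod hP)).2 hPn).inv
  let M := CohB1.tensorMod A (GrothLib.HodgeIndex.rep p⁻¹)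
  have hMc : GrothLib.Cube.HasCls M (a * p⁻¹) :=
    (GrothLib.Cube.hasCls_clsMod hA).tensor (GrothLib.NumReg26.hasCls_rep _)
  have hAPc : GrothLib.Cube.HasCls (CohB1.tensorMod A P) (a * p) :=
    (GrothLib.Cube.hasCls_clsMod hA).tensor (GrothLib.Cube.hasCls_clsMod hP)
  have hB' : Module.finrank k (Coh.HH X M 0) ≤ B := by
    have h := hB p⁻¹ hpn
    rw [zpow_zero, mul_one] at h
    exact h
  obtain ⟨τ, hτ⟩ := GrothLib.AsympCoh5.exists_gen_sections hMc.1
    (hAP _ (GrothLib.HodgeIndex.isInv_rep _) hpn) hB'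
  obtain ⟨e⟩ := (hAPc.tensor hMc).iso hLc (by rw [mul_mul_mul_comm, mul_inv_cancel, mul_one])
  let σ : Fin (kk * B) → (Coh.structureModule X ⟶ L) := fun q =>
    GrothLib.FinCov.homOfSection (e.hom.app ⊤ (GrothLib.VA.tm
      ((s (finProdFinEquiv.symm q).1).app ⊤ (GrothLib.FinCov.one X ⊤))
      ((τ (finProdFinEquiv.symm q).2).app ⊤ (GrothLib.FinCov.one X ⊤))))
  haveI : L.IsQuasicoherent := GrothLib.InvExt.isQuasicoherent_of_isInvertible hLc.1
  have hone : ∀ W : X.Opens, GrothLib.InvExt.mres (Coh.structureModule X) (le_top : W ≤ ⊤)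
      (GrothLib.FinCov.one X ⊤) = GrothLib.FinCov.one X W := fun W =>
    map_one (X.presheaf.map (homOfLE (le_top : W ≤ (⊤ : X.Opens))).op).hom
  obtain ⟨eF⟩ := GrothLib.AsympCoh5.nonempty_cokernel_iso ι L σ (by
    intro U y hy
    obtain ⟨l₀, V, hyV, hV⟩ := hτ y
    obtain ⟨W, f, hyW, hWU, hf⟩ := GrothLib.RegSecEuler20.exists_affine_gen hAPc.1
      (U := U ⊓ V) (show y ∈ U ⊓ V from ⟨hy, hyV⟩)
    have hg : GrothLib.InvExt.IsGen M W.1 ((τ l₀).app W.1 (GrothLib.FinCov.one X W.1)) := by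
      have h := hV.restrict (hWU.trans inf_le_right)
      rw [← GrothLib.Ample.app_mres] at h
      refine Eq.mp ?_ h
      congr 2
      exact map_one (X.presheaf.map (homOfLE (hWU.trans inf_le_right)).op).hom
    have hc : ∀ j, ∃ c : Γ(X, W.1), (s j).app W.1 (GrothLib.FinCov.one X W.1) = c • f := fun j => by
      obtain ⟨c, hc⟩ := hf.exists_smul_eq le_rfl ((s j).app W.1 (GrothLib.FinCov.one X W.1))
      exact ⟨c, by rwa [GrothLib.InvExt.mres_self] at hc⟩
    have hd : ∀ l, ∃ d : Γ(X, W.1), (τ l).app W.1 (GrothLib.FinCov.one X W.1) =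
        d • (τ l₀).app W.1 (GrothLib.FinCov.one X W.1) ∧ (l = l₀ → d = 1) := fun l => by
      by_cases h : l = l₀
      · exact ⟨1, by rw [h, one_smul], fun _ => rfl⟩
      · obtain ⟨d, hd⟩ := hg.exists_smul_eq le_rfl ((τ l).app W.1 (GrothLib.FinCov.one X W.1))
        exact ⟨d, by rwa [GrothLib.InvExt.mres_self] at hd, fun h' => absurd h' h⟩
    choose c hc using hc
    choose d hd hd1 using hd
    refine ⟨W, e.hom.app W.1 (GrothLib.VA.tm f ((τ l₀).app W.1 (GrothLib.FinCov.one X W.1))),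
      fun q => c (finProdFinEquiv.symm q).1 * d (finProdFinEquiv.symm q).2, hyW, hWU.trans inf_le_left,
      (GrothLib.VA.isGen_tm hf hg).map e.hom fun T _ => ConcreteCategory.bijective_of_isIso (e.hom.app T),
      fun q => ?_, ?_⟩
    · refine (GrothLib.FinCov.homOfSection_one _ W.1).trans ?_
      refine (GrothLib.Ample.app_mres e.hom (le_top : W.1 ≤ ⊤) _).symm.trans ?_
      rw [GrothLib.VA.mres_tm, ← GrothLib.Ample.app_mres, ← GrothLib.Ample.app_mres, hone, hc, hd,
        GrothLib.VA.tm_smul_left, GrothLib.VA.tm_smul_right, smul_smul, GrothLib.Ample.app_smul]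
    · rw [hker W]
      refine le_antisymm (iSup_le fun j => ?_) (Ideal.span_le.2 ?_)
      · rw [GrothLib.Jets.zeroScheme_ideal_gen hAPc.1 (s j) W hf (hc j)]
        refine Ideal.span_le.2 (Set.singleton_subset_iff.2 (Ideal.subset_span ⟨finProdFinEquiv (j, l₀), ?_⟩))
        simp [hd1 l₀ rfl]
      · rintro _ ⟨q, rfl⟩
        refine Submodule.mem_iSup_of_mem (finProdFinEquiv.symm q).1 ?_
        rw [GrothLib.Jets.zeroScheme_ideal_gen hAPc.1 (s _) W hf (hc _)]
        exact Ideal.mul_mem_right _ _ (Ideal.mem_span_singleton_self _))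
  let G := (Scheme.Modules.pullback ι).obj L
  let F := (Scheme.Modules.pushforward ι).obj G
  let F' := (GrothLib.Euler.tF (GrothLib.HodgeIndex.rep (a * a)⁻¹)).obj F
  have hZdim : topologicalKrullDim ↥Z ≤ ((n - kk : ℕ) : WithBot ℕ∞) :=
    GrothLib.NoethTop.dim_le_iff.2 fun l => by
      obtain ⟨W, hW, hsub⟩ := exists_mem_irreducibleComponents_subset_of_isIrreducible _ l.last.isIrreducible
      exact (GrothLib.NoethTop.length_le_dim_subset W l hsub).trans (hdim W hW).le
  have hsupp : GrothLib.Snapper.DimLT (CohB1.support F') (n - kk + 1) := by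
    refine (GrothLib.Snapper.dimLT_of_dim_le (S := Set.range ι.base) ?_).mono
      ((GrothLib.Snapper.support_tw_subset F (a * a)⁻¹).trans
        (GrothLib.QCoh.support_pushforward_subset_range ι G))
    rw [← IsHomeomorph.topologicalKrullDim_eq _ ι.isEmbedding.toHomeomorph.isHomeomorph]
    exact hZdim
  have key := hC F' ⟨⟨F, ⟨σ, ⟨eF⟩⟩, ⟨Iso.refl _⟩⟩, hsupp⟩ m hm i
  have hGc : GrothLib.Cube.HasCls G (GrothLib.Cube.pull ι (a * a)) := hLc.pullback ι
  have hDm := ((GrothLib.Cube.hasCls_clsMod hD).tensorPow m).pullback ι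
  have heq : Module.finrank k (Coh.HH Z ((Scheme.Modules.pullback ι).obj (CohB1.tensorPow D m)) i) =
      GrothLib.Snapper.hf k F' (x ^ m) i := by
    rw [show GrothLib.Snapper.hf k F' (x ^ m) i = GrothLib.Snapper.hf k F ((a * a)⁻¹ * x ^ m) i from
      GrothLib.Snapper.hf_twist k F _ _ i,
      show GrothLib.Snapper.hf k F ((a * a)⁻¹ * x ^ m) i =
        GrothLib.Snapper.hf k G (GrothLib.Cube.pull ι ((a * a)⁻¹ * x ^ m)) i from
      (GrothLib.NumReg26.hf_push ι hι (GrothLib.Euler.isCoh_of_isInvertible hGc.1) _ i).1]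
    obtain ⟨φ⟩ := hDm.iso (hGc.tensor (GrothLib.NumReg26.hasCls_rep (GrothLib.Cube.pull ι ((a * a)⁻¹ * x ^ m))))
      (by rw [← map_mul, mul_inv_cancel_left])
    exact (GrothLib.Euler.hhEquiv (A := k) φ i).finrank_eq
  rw [heq]
  have h3 : GrothLib.Snapper.hf k F' (x ^ m) i ≤ (C * 2 ^ (n - kk) + 1) * m ^ (n - kk) := by
    refine key.trans ?_
    rw [mul_pow, ← mul_assoc, add_mul, one_mul]
    exact Nat.le_add_right _ _
  exact_mod_cast h3

end Groth.Agent.S19712
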