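import Groth.Statements.S1972
import Groth.Agent.Lib.Hensel.Reduced
import Mathlib.LinearAlgebra.TensorProduct.Quotient
-- import your own Groth.Agent.* helpers here

set_option autoImplicit false
universe u
open EtAlg

namespace Groth.Agent.S1972

/-- Let R be a local ring and S a henselization or a strict henselization of R. Then the nilradical of S
is the extension of the nilradical of R. -/
theorem result (R S : Type u) [CommRing R] [IsLocalRing R] [CommRing S] [IsLocalRing S]
    [Algebra R S] [IsLocalHom (algebraMap R S)]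
    (h : Hensel.IsHenselization R S ∨ Hensel.IsStrictHenselization R S) :
    (nilradical R).map (algebraMap R S) = nilradical S := by
  obtain ⟨C, iC, iAC, ⟨e⟩⟩ : ∃ (C : Type u) (_ : CommRing C) (_ : Algebra R C),
      Nonempty (GrothLib.Hensel.Hull R C ≃ₐ[R] S) := by
    rcases h with h | h
    · exact ⟨_, inferInstance, inferInstance,
        GrothLib.Hensel.IsHenselization.nonempty_hens_algEquiv⟩
    · exact ⟨_, inferInstance, inferInstance,
        GrothLib.Hensel.IsStrictHenselization.nonempty_strictHens_algEquiv⟩
  refine le_antisymm (Ideal.map_le_iff_le_comap.mpr fun x hx => ?_) fun x hx => ?_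
  · exact mem_nilradical.mpr ((mem_nilradical.mp hx).map _)
  · obtain ⟨z, rfl⟩ := e.surjective x
    obtain ⟨N, a, rfl⟩ := GrothLib.Hensel.Hull.exists_ι z
    obtain ⟨n, hn⟩ := mem_nilradical.mp hx
    have hn' : GrothLib.Hensel.Hull.ι N (a ^ n) = 0 := by
      apply e.injective
      rw [map_pow, map_pow, map_zero, hn]
    obtain ⟨M, f, hf⟩ := GrothLib.Hensel.Hull.exists_map_eq_zero hn'
    rw [← GrothLib.Hensel.Hull.ι_map f]
    haveI : IsReduced (R ⧸ nilradical R) :=
      (Ideal.isRadical_iff_quotient_reduced _).mp (Ideal.radical_isRadical ⊥)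
    haveI : IsReduced (TensorProduct R (R ⧸ nilradical R) M.Ring) :=
      GrothLib.Hensel.isReduced_of_etale (R ⧸ nilradical R) (TensorProduct R (R ⧸ nilradical R) M.Ring)
    have h0 : TensorProduct.tmul R (1 : R ⧸ nilradical R) (f.map a) = 0 := by
      refine IsNilpotent.eq_zero ⟨n, ?_⟩
      rw [Algebra.TensorProduct.tmul_pow, ← map_pow, hf, TensorProduct.tmul_zero]
    have hmem : f.map a ∈ (nilradical R).map (algebraMap R M.Ring) := by
      have h1 := congrArg (TensorProduct.quotTensorEquivQuotSMul M.Ring (nilradical R)) h0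
      rw [map_zero, ← map_one (Ideal.Quotient.mk (nilradical R)),
        TensorProduct.quotTensorEquivQuotSMul_mk_tmul, one_smul, Submodule.Quotient.mk_eq_zero,
        Ideal.smul_top_eq_map, Submodule.restrictScalars_mem] at h1
      exact h1
    have h2 := Ideal.mem_map_of_mem (e.toAlgHom.comp (GrothLib.Hensel.Hull.ι M)).toRingHom hmem
    rw [Ideal.map_map, show (e.toAlgHom.comp (GrothLib.Hensel.Hull.ι M)).toRingHom.comp
        (algebraMap R M.Ring) = algebraMap R S from RingHom.ext fun r =>
          (e.toAlgHom.comp (GrothLib.Hensel.Hull.ι M)).commutes r] at h2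
    exact h2

end Groth.Agent.S1972
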