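import Groth.Statements.S7128
import Groth.Agent.Lib.AbsFlat.Basic
import Mathlib.RingTheory.Flat.Basic
import Mathlib.RingTheory.Nilpotent.Lemmas
-- import your own Groth.Agent.* helpers here

set_option autoImplicit false
universe u
open EtAlg

namespace Groth.Agent.S7128
open TensorProduct

/-- A weakly étale algebra over a reduced ring is itself reduced. -/
theorem result (A B : Type u) [CommRing A] [CommRing B] [Algebra A B] [IsReduced A]
    [Algebra.WeaklyEtale A B] : IsReduced B := by
  let P := ∀ p : PrimeSpectrum A, p.asIdeal.ResidueField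
  haveI : Algebra.WeaklyEtale P (P ⊗[A] B) := inferInstance
  have hinj : Function.Injective (algebraMap A P) := by
    refine (injective_iff_map_eq_zero _).mpr fun a ha => ?_
    refine IsReduced.eq_zero a ?_
    rw [← mem_nilradical, nilradical_eq_sInf, Submodule.mem_sInf]
    intro p hp
    haveI : Ideal.IsPrime p := hp
    exact (Ideal.algebraMap_residueField_eq_zero (I := p)).mp (congrFun ha ⟨p, hp⟩)
  have hP : AbsFlat.Regular P := fun a => ⟨fun i => (a i)⁻¹, funext fun i => by
    show a i * a i * (a i)⁻¹ = a i
    rcases eq_or_ne (a i) 0 with h | h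
    · rw [h, zero_mul, zero_mul]
    · rw [mul_assoc, mul_inv_cancel₀ h, mul_one]⟩
  haveI : IsReduced (P ⊗[A] B) := by
    refine (AbsFlat.regular_of_forall_flat fun M _ _ => ?_).isReduced
    letI : Module P M := Module.compHom M (algebraMap P (P ⊗[A] B))
    haveI : IsScalarTower P (P ⊗[A] B) M := IsScalarTower.of_algebraMap_smul (R := P) (A := P ⊗[A] B) (M := M) fun _ _ => rfl
    haveI : Module.Flat P M := hP.flat M
    exact AbsFlat.flat_of_flat_lmul (Algebra.WeaklyEtale.flat_lmul' P (P ⊗[A] B)) M
  exact isReduced_of_injective (Algebra.TensorProduct.includeRight : B →ₐ[A] P ⊗[A] B)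
    (Algebra.TensorProduct.includeRight_injective hinj)

end Groth.Agent.S7128
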