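import Groth.Statements.S1973
import Groth.Agent.Lib.WeakDim.ValuationExt
import Groth.Agent.S7128
import Mathlib.RingTheory.DedekindDomain.Dvr
import Mathlib.RingTheory.Flat.TorsionFree

set_option autoImplicit false
universe u
open EtAlg

namespace Groth.Agent.S1973

/-- Localizations of a Noetherian ring with flat ideals that are not fields are discrete valuation rings. -/
theorem dvr_localization {B : Type u} [CommRing B] [IsNoetherianRing B] (h : ∀ J : Ideal B, Module.Flat B J)
    (q : Ideal B) [q.IsPrime] (hq : ¬ IsField (Localization.AtPrime q)) :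
    ∃ _ : IsDomain (Localization.AtPrime q), IsDiscreteValuationRing (Localization.AtPrime q) := by
  obtain ⟨hd, hv⟩ := GrothLib.WeakDim.valuationRing_localization h q
  haveI := hd
  haveI := hv
  haveI : IsNoetherianRing (Localization.AtPrime q) := IsLocalization.isNoetherianRing q.primeCompl _ ‹_›
  haveI : IsBezout (Localization.AtPrime q) := (ValuationRing.iff_local_bezout_domain.1 hv).2
  haveI : IsPrincipalIdealRing (Localization.AtPrime q) := inferInstance
  exact ⟨hd, { not_a_field' := fun h0 => hq (IsLocalRing.isField_iff_maximalIdeal_eq.2 h0) }⟩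


/-- Let A be a Dedekind domain and B an etale A-algebra. Then B is isomorphic as a ring to a finite
product of Dedekind domains, and for every maximal ideal q of B whose localization is not a field,
the localization B_q is a discrete valuation ring. (The source states the last claim for all maximal
ideals; it fails for field factors, e.g. A a DVR with uniformizer π and B = A[1/π], so the guard is
needed.) -/
theorem result (A B : Type u) [CommRing A] [IsDedekindDomain A] [CommRing B] [Algebra A B]
    [Algebra.Etale A B] :
    (∃ (n : ℕ) (D : Fin n → Type u) (_ : ∀ i, CommRing (D i)) (_ : ∀ i, IsDedekindDomain (D i)),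
      Nonempty (B ≃+* ∀ i, D i)) ∧
    ∀ (q : Ideal B) [q.IsMaximal], ¬ IsField (Localization.AtPrime q) →
      ∃ _ : IsDomain (Localization.AtPrime q), IsDiscreteValuationRing (Localization.AtPrime q) := by
  classical
  haveI : IsNoetherianRing B := Algebra.FiniteType.isNoetherianRing A B
  haveI : IsReduced B := Groth.Agent.S7128.result A B
  have hA : ∀ I : Ideal A, I.FG → Module.Flat A I := fun I _ => inferInstance
  have hB : ∀ J : Ideal B, Module.Flat B J := GrothLib.WeakDim.flat_ideal_of_weaklyEtale hA
  refine ⟨?_, fun q _ hq => dvr_localization hB q hq⟩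
  haveI := (minimalPrimes.finite_of_isNoetherianRing B).fintype
  haveI : ∀ p : minimalPrimes B, p.1.IsPrime := fun p => p.2.1.1
  let I : minimalPrimes B → Ideal B := Subtype.val
  have hcop : Pairwise (Function.onFun IsCoprime I) := by
    intro p q hpq
    rw [Function.onFun, Ideal.isCoprime_iff_sup_eq]
    by_contra hne
    obtain ⟨m, hm, hle⟩ := Ideal.exists_le_maximal _ hne
    haveI := hm.isPrime
    obtain ⟨hd, -⟩ := GrothLib.WeakDim.valuationRing_localization hB m
    haveI := hd
    let K := RingHom.ker (algebraMap B (Localization.AtPrime m))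
    have key : ∀ r : minimalPrimes B, r.1 ≤ m → r.1 = K := fun r hr => by
      have hKr : K ≤ r.1 := fun x hx => by
        obtain ⟨⟨s, hs⟩, hsx⟩ := (IsLocalization.map_eq_zero_iff m.primeCompl _ x).1 hx
        have hmem : s * x ∈ r.1 := by
          rw [show s * x = 0 from hsx]; exact r.1.zero_mem
        exact (r.2.1.1.mem_or_mem hmem).resolve_left fun h => hs (hr h)
      exact le_antisymm (r.2.2 ⟨RingHom.ker_isPrime _, bot_le⟩ hKr) hKr
    exact hpq (Subtype.ext ((key p (le_sup_left.trans hle)).trans (key q (le_sup_right.trans hle)).symm))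
  have hinf : ⨅ p, I p = ⊥ := by
    rw [← nilradical_eq_bot_iff.2 ‹_›, nilradical, ← Ideal.sInf_minimalPrimes, sInf_eq_iInf']
    rfl
  let E : B ≃+* ∀ p, B ⧸ I p := (RingEquiv.quotientBot B).symm.trans
    ((Ideal.quotEquivOfEq hinf.symm).trans (Ideal.quotientInfRingEquivPiQuotient I hcop))
  have hded : ∀ p : minimalPrimes B, IsDedekindDomain (B ⧸ I p) := by
    intro p
    haveI : (I p).IsPrime := p.2.1.1
    obtain ⟨e, he⟩ := E.surjective (Pi.single p 1)
    have hEmk : ∀ x q, E x q = Ideal.Quotient.mk (I q) x := fun x q => rfl
    let sec : B ⧸ I p →ₗ[B] B :=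
      Submodule.liftQ (I p) (LinearMap.mulLeft B e) fun x hx => by
        refine E.injective (funext fun q => ?_)
        rw [LinearMap.mulLeft_apply, map_mul, he, map_zero, Pi.mul_apply, Pi.zero_apply]
        rcases eq_or_ne q p with rfl | hqp
        · rw [hEmk, Ideal.Quotient.eq_zero_iff_mem.2 hx, mul_zero]
        · rw [Pi.single_eq_of_ne hqp, zero_mul]
    haveI : Module.Flat B (B ⧸ I p) := by
      refine Module.Flat.of_retract sec (Submodule.mkQ (I p)) ?_
      ext
      show Ideal.Quotient.mk (I p) (e * 1) = 1
      rw [mul_one, ← hEmk, he, Pi.single_eq_same]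
    have hflat : ∀ J : Ideal (B ⧸ I p), Module.Flat (B ⧸ I p) J := fun J => by
      haveI : Module.Flat B J := GrothLib.WeakDim.flat_submodule (fun J' _ => hB J')
        (J.subtype.restrictScalars B) J.subtype_injective
      exact Groth.Agent.AbsFlat.flat_of_surjective (X := B) Ideal.Quotient.mk_surjective J
    haveI : IsDedekindDomainDvr (B ⧸ I p) := by
      refine { toIsNoetherian := inferInstance, is_dvr_at_nonzero_prime := fun P hP hPp => ?_ }
      haveI := hPp
      obtain ⟨_, h⟩ := dvr_localization hflat P (IsLocalization.AtPrime.not_isField (B ⧸ I p) hP (Localization.AtPrime P))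
      exact h
    infer_instance
  let n := Fintype.card (minimalPrimes B)
  let σ : minimalPrimes B ≃ Fin n := Fintype.equivFin _
  exact ⟨n, fun i => B ⧸ I (σ.symm i), fun i => inferInstance, fun i => hded _,
    ⟨E.trans (RingEquiv.piCongrLeft' (fun p => B ⧸ I p) σ)⟩⟩

end Groth.Agent.S1973
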