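import Groth.Statements.S19733
import Groth.Agent.Lib.HodgeIndex.Nef
import Groth.Agent.Lib.Goodman.Main
import Groth.Agent.Lib.Kodaira.Cones
import Groth.Agent.Lib.Ample.Criterion

set_option autoImplicit false
set_option linter.all false
universe u
open CategoryTheory CategoryTheory.Limits AlgebraicGeometry TopologicalSpace
open Surf

namespace Groth.Agent.S19733

section Aux

open GrothLib.HodgeIndex GrothLib.Cube

variable {k : Type u} [Field k] {X : Scheme.{u}} [X.Over (Spec (CommRingCat.of k))]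
  [IsProper (X ↘ Spec (CommRingCat.of k))] [Smooth (X ↘ Spec (CommRingCat.of k))] [AlgebraicGeometry.IsIntegral X]
  [PicGrp.Law X] (hd : topologicalKrullDim X = ((2 : ℕ) : WithBot ℕ∞)) {H : X.Modules} (hH : CohB1.IsAmple H)
  {B : NumR.N1R k X →ₗ[ℝ] NumR.N1R k X →ₗ[ℝ] ℝ} (hB : NumR.IsIntForm₂ k X B)

include hd hH hB in
theorem zero_of_curves {v : NumR.N1R k X} (hc : ∀ C : NumR.Curve X, B v (NumR.curveCl k X C.1 C.2.2.2) = 0)
    (hv : B v v = 0) : v = 0 := by
  have hcc : ∀ y, GrothLib.Snapper.IsTop 1 y → B v (cc k y) = 0 := fun y hy => by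
    haveI : AlgebraicGeometry.IsIntegral (curveIdeal y).subscheme := GrothLib.Snapper.isIntegral_pt y
    have hs : topologicalKrullDim ((curveIdeal y).support : Set X) = 1 := by
      rw [← (curveIdeal y).range_subschemeι, GrothLib.Snapper.range_pt y]
      exact hy
    rw [cc, dif_pos (inv_curveIdeal k hd hy)]
    exact hc ⟨curveIdeal y, inferInstance, hs, inv_curveIdeal k hd hy⟩
  obtain ⟨j, hj⟩ := GrothLib.Kodaira.exists_pLe_pow hH (1 : Pic X)
  obtain ⟨z, hz⟩ : ∃ z, z = clsMod hH.1 ^ (j + 1) := ⟨_, rfl⟩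
  obtain ⟨s, hs⟩ := exists_section_of_pLe (hz ▸ hj (j + 1) (by omega) : GrothLib.Kodaira.PLe (1 : Pic X) z)
  obtain ⟨T, m, hT, he⟩ := eff_decomp k hd hH hB s
  have h0 : B v (NumR.clR k X (rep z) (isInv_rep z)) = 0 := by
    rw [he v]
    exact Finset.sum_eq_zero fun y hy => by rw [hcc y (hT y hy).1, mul_zero]
  rw [clR_congr k (isInv_rep z) (GrothLib.Ample.isInvertible_tensorPow hH.1 (j + 1))
      (by rw [cls_rep, hz, clsMod_tensorPow hH.1 (j + 1)]),
    GrothLib.Kodaira.clR_pow hH.1, map_smul, smul_eq_mul] at h0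
  exact eq_zero_of_orth k hd hH hB ((mul_eq_zero.1 h0).resolve_left (by positivity)) hv.ge

include hd hH hB in
theorem isAmple_of_class {A L : X.Modules} (hA : CohB1.IsAmple A) (hL : PicF.IsInvertible L)
    (e : NumR.clR k X L hL = NumR.clR k X A hA.1) : CohB1.IsAmple L := by
  have h1 : ∀ y, GrothLib.Snapper.IsTop 1 y → 0 < deg k y (clsMod hL) := fun y hy => by
    have h := ample_cc_pos k hd hH hB hA hy
    rw [← e, B_cc k hd hH hB hy hL] at h
    rw [deg_eq_mixed k hL]
    exact_mod_cast h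
  have h2 : 0 < isect k (clsMod hL) (clsMod hL) := by
    have h := (ampleCone_subset_posCone k hd hH hB (GrothLib.Kodaira.clR_mem_ampleCone (k := k) hA)).1
    rw [← e, B_cls k hd hH hB hL hL] at h
    exact_mod_cast h
  obtain ⟨i⟩ := (clsMod_eq_iff (isInv_rep (clsMod hL)) hL).1 (cls_rep _)
  exact (GrothLib.Ample.isAmple_iff_of_iso i).1 (GrothLib.Goodman.isAmple_of_sq_pos k hd h1 h2)

include hd hH hB in
theorem ample_shift {E N : NumR.CDiv X} {L : X.Modules} (hL : PicF.IsInvertible L) (hLa : CohB1.IsAmple L)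
    (hLE : Additive.ofMul (PicGrp.cls L hL) = NumR.divCl X E)
    (hN : NumR.divClR k X (NumR.CDiv.toR X N) = 0) (m : ℤ) :
    ∃ (L' : X.Modules) (hL' : PicF.IsInvertible L'), CohB1.IsAmple L' ∧
      Additive.ofMul (PicGrp.cls L' hL') = NumR.divCl X (E + m • N) := by
  obtain ⟨L', hL', hc⟩ : ∃ (L' : X.Modules) (hL' : PicF.IsInvertible L'),
      Additive.ofMul (PicGrp.cls L' hL') = NumR.divCl X (E + m • N) := by
    obtain ⟨L', e, hL'⟩ := (Additive.toMul (NumR.divCl X (E + m • N))).2
    exact ⟨L', hL', congrArg Additive.ofMul (Subtype.ext e)⟩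
  refine ⟨L', hL', isAmple_of_class hd hH hB hLa hL' ?_, hc⟩
  rw [NumR.divClR_toR] at hN
  rw [NumR.clR, NumR.clR, NumR.cl, NumR.cl, hc, hLE, map_add, map_zsmul, map_add, map_zsmul, map_add, map_zsmul, hN,
    zsmul_zero, add_zero]

include hd hH hB in
theorem ample_add {D : NumR.CDivR X} (hD : NumR.IsAmpleRDiv X D) {N : NumR.CDiv X}
    (hN : NumR.divClR k X (NumR.CDiv.toR X N) = 0) (r : ℝ) :
    NumR.IsAmpleRDiv X (D + r • NumR.CDiv.toR X N) := by
  obtain ⟨n, E, t, hn, ht, hE, rfl⟩ := hD
  obtain ⟨n, rfl⟩ : ∃ n', n = n' + 1 := ⟨n - 1, by omega⟩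
  obtain ⟨m, hm⟩ : ∃ m : ℤ, m = ⌊r / t 0⌋ - 1 := ⟨_, rfl⟩
  obtain ⟨c, hc⟩ : ∃ c : ℝ, c = (r / t 0 - m) / 2 := ⟨_, rfl⟩
  have h1 := Int.floor_le (r / t 0)
  have h2 := Int.lt_floor_add_one (r / t 0)
  have hc0 : 0 < c := by rw [hc, hm]; push_cast; linarith
  have hc1 : c < 1 := by rw [hc, hm]; push_cast; linarith
  refine ⟨n + 2, Fin.cons (E 0 + (m + 2) • N) (Fin.cons (E 0 + m • N) fun i => E i.succ),
    Fin.cons (t 0 * c) (Fin.cons (t 0 * (1 - c)) fun i => t i.succ), by omega, fun i => ?_, fun i => ?_, ?_⟩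
  · induction i using Fin.cases with
    | zero => rw [Fin.cons_zero]; exact mul_pos (ht 0) hc0
    | succ i =>
      rw [Fin.cons_succ]
      induction i using Fin.cases with
      | zero => rw [Fin.cons_zero]; exact mul_pos (ht 0) (by linarith)
      | succ i => rw [Fin.cons_succ]; exact ht _
  · obtain ⟨L, hL, hLa, hLE⟩ := hE 0
    induction i using Fin.cases with
    | zero => rw [Fin.cons_zero]; exact ample_shift hd hH hB hL hLa hLE hN _
    | succ i =>
      rw [Fin.cons_succ]
      induction i using Fin.cases with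
      | zero => rw [Fin.cons_zero]; exact ample_shift hd hH hB hL hLa hLE hN _
      | succ i => rw [Fin.cons_succ]; exact hE _
  · rw [Fin.sum_univ_succ (n := n + 1), Fin.sum_univ_succ (n := n), Fin.sum_univ_succ (n := n)]
    simp only [Fin.cons_zero, Fin.cons_succ, map_add, map_zsmul, ← Int.cast_smul_eq_zsmul ℝ]
    have hr : r = t 0 * (2 * c + m) := by rw [hc]; field_simp [(ht 0).ne']; ring
    rw [hr]
    push_cast
    module

include hd hH hB in
theorem ample_of_numTriv {D D' : NumR.CDivR X} (hD : NumR.IsAmpleRDiv X D)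
    (h : NumR.IsNumTrivialRDiv k X B (D' - D)) : NumR.IsAmpleRDiv X D' := by
  classical
  obtain ⟨N, hN⟩ : ∃ N, N = D' - D := ⟨_, rfl⟩
  rw [← hN] at h
  let V : Submodule ℚ ℝ := Submodule.span ℚ (N '' (N.support : Set (NumR.Curve X)))
  haveI : FiniteDimensional ℚ V := FiniteDimensional.span_of_finite ℚ (N.support.finite_toSet.image _)
  let b := Module.finBasis ℚ V
  have hmem : ∀ C, N C ∈ V := fun C => by
    by_cases hC : C ∈ N.support
    · exact Submodule.subset_span ⟨C, hC, rfl⟩
    · rw [Finsupp.notMem_support_iff.1 hC]; exact V.zero_mem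
  obtain ⟨Q, hQ⟩ : ∃ Q : ℕ, Q = ∏ C ∈ N.support, ∏ j, (b.repr ⟨N C, hmem C⟩ j).den := ⟨_, rfl⟩
  have hQ0 : 0 < Q := hQ ▸ Finset.prod_pos fun C _ => Finset.prod_pos fun j _ => Rat.den_pos _
  have hz : ∀ C j, ∃ z : ℤ, C ∈ N.support → (z : ℚ) = b.repr ⟨N C, hmem C⟩ j * Q := fun C j => by
    by_cases hC : C ∈ N.support
    · obtain ⟨c, hc⟩ : (b.repr ⟨N C, hmem C⟩ j).den ∣ Q := by
        rw [hQ]
        exact dvd_trans (Finset.dvd_prod_of_mem (fun j => (b.repr ⟨N C, hmem C⟩ j).den) (Finset.mem_univ j))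
          (Finset.dvd_prod_of_mem (fun C => ∏ j, (b.repr ⟨N C, hmem C⟩ j).den) hC)
      refine ⟨(b.repr ⟨N C, hmem C⟩ j).num * c, fun _ => ?_⟩
      rw [hc]
      push_cast
      rw [← mul_assoc, Rat.mul_den_eq_num]
    · exact ⟨0, fun h => absurd h hC⟩
  choose z hz using hz
  obtain ⟨M, hM⟩ : ∃ M : Fin (Module.finrank ℚ V) → NumR.CDiv X,
      ∀ j, M j = ∑ C ∈ N.support, Finsupp.single C (z C j) := ⟨_, fun _ => rfl⟩
  have htoR : ∀ j, NumR.CDiv.toR X (M j) = ∑ C ∈ N.support, Finsupp.single C (z C j : ℝ) := fun j => by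
    rw [hM, map_sum]
    exact Finset.sum_congr rfl fun C _ => by simp [NumR.CDiv.toR]
  have hval : ∀ C ∈ N.support, N C = ∑ j, ((b j : ℝ) / Q) * (z C j : ℝ) := fun C hC => by
    have h1 := congrArg (Subtype.val (p := fun x => x ∈ V)) (b.sum_repr ⟨N C, hmem C⟩)
    simp only [AddSubmonoidClass.coe_finsetSum, Submodule.coe_smul, Rat.smul_def] at h1
    refine h1.symm.trans (Finset.sum_congr rfl fun j _ => ?_)
    have h2 : ((z C j : ℚ) : ℝ) = ((b.repr ⟨N C, hmem C⟩ j * Q : ℚ) : ℝ) := congrArg _ (hz C j hC)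
    push_cast at h2
    rw [h2]
    field_simp
  have hdecomp : N = ∑ j, ((b j : ℝ) / Q) • NumR.CDiv.toR X (M j) := by
    conv_lhs => rw [← Finsupp.sum_single N]
    simp only [htoR, Finset.smul_sum, Finsupp.smul_single, smul_eq_mul]
    rw [Finset.sum_comm, Finsupp.sum]
    exact Finset.sum_congr rfl fun C hC => by rw [hval C hC, Finsupp.single_finsetSum]
  have hint : ∀ (j) (C' : NumR.Curve X), ∃ a : ℤ,
      B (NumR.divClR k X (NumR.CDiv.toR X (M j))) (NumR.curveCl k X C'.1 C'.2.2.2) = (a : ℝ) := fun j C' => by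
    refine ⟨∑ C ∈ N.support, z C j * isect k (clsMod C.2.2.2) (clsMod C'.2.2.2), ?_⟩
    rw [htoR, map_sum, map_sum, LinearMap.sum_apply]
    push_cast
    refine Finset.sum_congr rfl fun C _ => ?_
    rw [NumR.divClR, Finsupp.linearCombination_single, map_smul, LinearMap.smul_apply, smul_eq_mul, NumR.curveCl,
      NumR.curveCl, map_neg, map_neg, LinearMap.neg_apply, neg_neg, B_cls k hd hH hB]
  have hC0 : ∀ C : NumR.Curve X, B (NumR.divClR k X N) (NumR.curveCl k X C.1 C.2.2.2) = 0 := fun C => by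
    have h1 := h (Finsupp.single C 1)
    simpa [NumR.CDiv.toR, NumR.divClR] using h1
  have hcurve : ∀ (j) (C' : NumR.Curve X),
      B (NumR.divClR k X (NumR.CDiv.toR X (M j))) (NumR.curveCl k X C'.1 C'.2.2.2) = 0 := by
    intro j C'
    choose a ha using fun j => hint j C'
    have h0 := hC0 C'
    rw [hdecomp] at h0
    simp only [map_sum, map_smul, LinearMap.sum_apply, LinearMap.smul_apply, smul_eq_mul, ha] at h0
    have hs : ∑ j, (a j : ℚ) • (b j : V) = 0 := by
      refine Subtype.ext ?_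
      simp only [AddSubmonoidClass.coe_finsetSum, Submodule.coe_smul, Rat.smul_def, Submodule.coe_zero]
      have h1 : (∑ j, (b j : ℝ) / Q * (a j : ℝ)) * (Q : ℝ) = 0 := by rw [h0, zero_mul]
      rw [Finset.sum_mul] at h1
      refine Eq.trans (Finset.sum_congr rfl fun j _ => ?_) h1
      push_cast
      field_simp
    rw [ha]
    exact_mod_cast Fintype.linearIndependent_iff.1 b.linearIndependent _ hs j
  have hzero : ∀ j, NumR.divClR k X (NumR.CDiv.toR X (M j)) = 0 := fun j => by
    refine zero_of_curves hd hH hB (hcurve j) ?_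
    conv_lhs => arg 2; rw [htoR, map_sum]
    rw [map_sum]
    refine Finset.sum_eq_zero fun C _ => ?_
    rw [NumR.divClR, Finsupp.linearCombination_single, map_smul]
    rw [← NumR.divClR, hcurve j C, smul_zero]
  have key : ∀ s : Finset (Fin (Module.finrank ℚ V)),
      NumR.IsAmpleRDiv X (D + ∑ j ∈ s, ((b j : ℝ) / Q) • NumR.CDiv.toR X (M j)) := by
    intro s
    induction s using Finset.induction with
    | empty => simpa using hD
    | insert j s hj ih =>
      rw [Finset.sum_insert hj, add_comm (((b j : ℝ) / Q) • NumR.CDiv.toR X (M j)), ← add_assoc]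
      exact ample_add hd hH hB ih (hzero j) _
  have h2 := key Finset.univ
  rwa [← hdecomp, hN, add_sub_cancel] at h2

end Aux

/-- Let k be an algebraically closed field of characteristic zero and X a smooth projective surface over
k (integral, proper and smooth over k, of dimension 2, with an ample invertible module); the notes
work over the complex numbers. Fix a group law on the Picard set of X, and let B be the intersection
form on N¹(X)_ℝ = ℝ ⊗ (Pic X modulo numerical equivalence), the real bilinear form whose value on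
the classes of invertible modules L, M is (L·M) = χ(O_X) − χ(L) − χ(M) + χ(L ⊗ M). Real divisors are
finite real combinations of integral curves on X (quasi-coherent ideals with integral closed
subscheme of one-dimensional support and invertible ideal module); such a real divisor is ample when
it is a combination with positive real coefficients of integral divisors E_i whose Picard classes
[O_X(E_i)] are classes of ample invertible modules, and numerically trivial when its class pairs to
zero under B with the class of every integral divisor. If D is an ample real divisor and D′ is a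
real divisor with D′ − D numerically trivial, then D′ is ample. -/
theorem result (k : Type u) [Field k] [IsAlgClosed k] [CharZero k]
    (X : Scheme.{u}) [X.Over (Spec (CommRingCat.of k))] [IsProper (X ↘ (Spec (CommRingCat.of k)))]
    [Smooth (X ↘ (Spec (CommRingCat.of k)))] [AlgebraicGeometry.IsIntegral X] (hdim : topologicalKrullDim X = 2)
    (hproj : ∃ H : X.Modules, CohB1.IsAmple H) [PicGrp.Law X]
    (B : NumR.N1R k X →ₗ[ℝ] NumR.N1R k X →ₗ[ℝ] ℝ) (hB : NumR.IsIntForm₂ k X B)
    (D D' : NumR.CDivR X) (hD : NumR.IsAmpleRDiv X D) (h : NumR.IsNumTrivialRDiv k X B (D' - D)) :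
    NumR.IsAmpleRDiv X D' := by
  obtain ⟨H, hH⟩ := hproj
  exact ample_of_numTriv (by rw [hdim]; rfl) hH hB hD h

end Groth.Agent.S19733
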