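import Groth.Statements.S19734
import Groth.Agent.Lib.HodgeIndex.Nef

set_option autoImplicit false
set_option linter.all false
universe u
open CategoryTheory CategoryTheory.Limits AlgebraicGeometry TopologicalSpace
open Surf

namespace Groth.Agent.S19734

/-- Let k be an algebraically closed field of characteristic zero and X a smooth projective surface over
k (integral, proper and smooth over k, of dimension 2, with an ample invertible module); the notes
work over the complex numbers. Fix a group law on the Picard set of X, and let B be the intersection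
form on N¹(X)_ℝ = ℝ ⊗ (Pic X modulo numerical equivalence), the real bilinear form whose value on
the classes of invertible modules L, M is (L·M) = χ(O_X) − χ(L) − χ(M) + χ(L ⊗ M); assume N¹(X)_ℝ is
finite-dimensional. Let A(X) be the ample cone (generated by the classes of ample invertible
modules), H an ample invertible module and C₊ = {x : B(x, x) > 0, B(x, [H]) > 0} the positive cone,
which contains A(X). Then the closure of A(X) in N¹(X)_ℝ is {x : B(x, x) ≥ 0 and B(x, [C]) ≥ 0 for
every integral curve C ⊆ X}, and the closure of A(X) inside C₊, that is the closure intersected with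
C₊, is {x : B(x, x) > 0 and B(x, [C]) ≥ 0 for every integral curve C}; here C runs over
quasi-coherent ideals with integral closed subscheme of one-dimensional support and invertible ideal
module, and [C] is minus the class of the ideal. -/
theorem result (k : Type u) [Field k] [IsAlgClosed k] [CharZero k]
    (X : Scheme.{u}) [X.Over (Spec (CommRingCat.of k))] [IsProper (X ↘ (Spec (CommRingCat.of k)))]
    [Smooth (X ↘ (Spec (CommRingCat.of k)))] [AlgebraicGeometry.IsIntegral X] (hdim : topologicalKrullDim X = 2)
    (hproj : ∃ H : X.Modules, CohB1.IsAmple H) [PicGrp.Law X] [Module.Finite ℝ (NumR.N1R k X)]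
    (B : NumR.N1R k X →ₗ[ℝ] NumR.N1R k X →ₗ[ℝ] ℝ) (hB : NumR.IsIntForm₂ k X B) (H : X.Modules) (hH : CohB1.IsAmple H) :
    closure (NumR.ampleCone k X : Set (NumR.N1R k X)) = {x | 0 ≤ B x x ∧ x ∈ NumR.nefCone₂ k X B} ∧
      closure (NumR.ampleCone k X : Set (NumR.N1R k X)) ∩ NumR.posCone k X B H hH.1 =
        {x | 0 < B x x ∧ x ∈ NumR.nefCone₂ k X B} := by
  have hd : topologicalKrullDim X = ((2 : ℕ) : WithBot ℕ∞) := by rw [hdim]; rfl
  have hc := GrothLib.HodgeIndex.closure_ampleCone_eq k hd hH hB
  have hn : ∀ x : NumR.N1R k X, x ∈ NumR.nefCone₂ k X B ↔ x ∈ closure (NumR.ampleCone k X : Set (NumR.N1R k X)) := fun x => by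
    rw [GrothLib.HodgeIndex.mem_nefCone_iff k hd x, hc]; rfl
  refine ⟨Set.ext fun x => ⟨fun h => ?_, fun h => (hn x).1 h.2⟩, Set.ext fun x => ⟨fun h => ⟨h.2.1, (hn x).2 h.1⟩, fun h => ⟨(hn x).1 h.2, h.1, ?_⟩⟩⟩
  · exact ⟨GrothLib.HodgeIndex.nef_sq_nonneg k hd hH hB ((GrothLib.HodgeIndex.mem_nefCone_iff k hd x).1 ((hn x).2 h)), (hn x).2 h⟩
  · exact lt_of_le_of_ne (GrothLib.HodgeIndex.nef_ample_nonneg k hd hH hB ((GrothLib.HodgeIndex.mem_nefCone_iff k hd x).1 h.2) hH)
      (Ne.symm (GrothLib.HodgeIndex.pair_ne_zero_of_sq_pos k hd hH hB h.1))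

end Groth.Agent.S19734
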