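import Groth.Statements.S19735
import Groth.Agent.Lib.HodgeIndex.Walls

set_option autoImplicit false
set_option linter.all false
universe u
open CategoryTheory CategoryTheory.Limits AlgebraicGeometry TopologicalSpace
open Surf

namespace Groth.Agent.S19735

/-- Let k be an algebraically closed field of characteristic zero and X a smooth projective surface over
k (integral, proper and smooth over k, of dimension 2, with an ample invertible module); the notes
work over the complex numbers. Fix a group law on the Picard set of X, and let B be the intersection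
form on N¹(X)_ℝ = ℝ ⊗ (Pic X modulo numerical equivalence), the real bilinear form whose value on
the classes of invertible modules L, M is (L·M) = χ(O_X) − χ(L) − χ(M) + χ(L ⊗ M); assume N¹(X)_ℝ is
finite-dimensional. Let H be an ample invertible module, C₊ = {x : B(x, x) > 0, B(x, [H]) > 0} the
positive cone and Ā(X) the closure of the ample cone taken inside C₊ (the closure in N¹(X)_ℝ of the
cone spanned by ample classes, intersected with C₊). Let C_1, …, C_r be pairwise distinct integral
curves on X (quasi-coherent ideals I_i with integral closed subscheme of one-dimensional support and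
invertible ideal module) with walls W^{C_i} = {x : B(x, [C_i]) = 0}. Then Ā(X) ∩ W^{C_1} ∩ ⋯ ∩
W^{C_r} is non-empty if and only if the curves C_i generate a negative definite sublattice: Σ_{i,j}
a_i a_j (I_i·I_j) < 0 for every nonzero integer vector a, where (I_i·I_j) = χ(O_X) − χ(I_i) − χ(I_j)
+ χ(I_i ⊗ I_j). (The published statement adds that, when non-empty, this intersection is open in
W^{C_1} ∩ ⋯ ∩ W^{C_r}; that is not correct as published: on the plane blown up in two points, with
C_1 one exceptional curve, the class of a line lies in Ā(X) ∩ W^{C_1} but adding a small positive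
multiple of the other exceptional curve leaves Ā(X) while staying in W^{C_1}. What the argument
there yields is a non-empty open subset of the intersection of the walls contained in Ā(X), and that
clause is not restated.) -/
theorem result (k : Type u) [Field k] [IsAlgClosed k] [CharZero k]
    (X : Scheme.{u}) [X.Over (Spec (CommRingCat.of k))] [IsProper (X ↘ (Spec (CommRingCat.of k)))]
    [Smooth (X ↘ (Spec (CommRingCat.of k)))] [AlgebraicGeometry.IsIntegral X] (hdim : topologicalKrullDim X = 2)
    (hproj : ∃ H : X.Modules, CohB1.IsAmple H) [PicGrp.Law X] [Module.Finite ℝ (NumR.N1R k X)]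
    (B : NumR.N1R k X →ₗ[ℝ] NumR.N1R k X →ₗ[ℝ] ℝ) (hB : NumR.IsIntForm₂ k X B) (H : X.Modules) (hH : CohB1.IsAmple H)
    (r : ℕ) (C : Fin r → X.IdealSheafData) (hC : Function.Injective C)
    (hCi : ∀ i, AlgebraicGeometry.IsIntegral (C i).subscheme) (hCd : ∀ i, topologicalKrullDim ((C i).support : Set X) = 1)
    (hCinv : ∀ i, PicF.IsInvertible (ClSub.idealMod (C i))) :
    (∃ x : NumR.N1R k X, x ∈ closure (NumR.ampleCone k X : Set (NumR.N1R k X)) ∧ x ∈ NumR.posCone k X B H hH.1 ∧
        ∀ i, x ∈ NumR.wall k X B (C i) (hCinv i)) ↔
      (∀ a : Fin r → ℤ, a ≠ 0 →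
      ∑ i, ∑ j, a i * a j * FGA.intNum k X 2 ![(ClSub.idealMod (C i)), (ClSub.idealMod (C j))] (Coh.structureModule X) < 0) := by
  have hd : topologicalKrullDim X = ((2 : ℕ) : WithBot ℕ∞) := by rw [hdim]; rfl
  exact ⟨fun ⟨x, _, hx, hw⟩ => GrothLib.HodgeIndex.negDef_of_orth k hd hH hB C hC hCi hCd hCinv hx.1 hw,
    fun h => GrothLib.HodgeIndex.exists_orth_of_negDef k hd hH hB C hC hCi hCd hCinv h⟩

end Groth.Agent.S19735
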