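import Groth.Statements.S19737
import Groth.Agent.Lib.BlowPt28.Num

set_option autoImplicit false
universe u
open CategoryTheory CategoryTheory.Limits AlgebraicGeometry TopologicalSpace
open Surf

namespace Groth.Agent.S19737

/-- With the preceding proposition: let k be an algebraically closed field of characteristic zero and X
a smooth projective surface over k (integral, proper and smooth over k, of dimension 2, with an
ample invertible module); the notes work over the complex numbers. Let x be a closed point of X and
π : X′ → X a blowing up of X in the ideal of x (characterised by its universal property), where X′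
is again integral of dimension 2 with an ample invertible module and its structure morphism to Spec
k is π followed by that of X, proper and smooth. Fix group laws on the Picard sets of X and X′ such
that pullback along π is multiplicative on classes, and let N¹(−)_ℝ = ℝ ⊗ (Pic modulo numerical
equivalence). If N¹(X)_ℝ is finite-dimensional, then N¹(X′)_ℝ is finite-dimensional and dim_ℝ
N¹(X′)_ℝ = dim_ℝ N¹(X)_ℝ + 1: the Picard number goes up by one, N¹(X′) being the direct sum of the
pullback of N¹(X) and the class of the exceptional curve. -/
theorem result (k : Type u) [Field k] [IsAlgClosed k] [CharZero k]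
    (X : Scheme.{u}) [X.Over (Spec (CommRingCat.of k))] [IsProper (X ↘ (Spec (CommRingCat.of k)))]
    [Smooth (X ↘ (Spec (CommRingCat.of k)))] [AlgebraicGeometry.IsIntegral X] (hdim : topologicalKrullDim X = 2)
    (hproj : ∃ H : X.Modules, CohB1.IsAmple H)
    (x : X) (hx : IsClosed ({x} : Set X))
    (X' : Scheme.{u}) [X'.Over (Spec (CommRingCat.of k))] (π : X' ⟶ X)
    (hover : X' ↘ (Spec (CommRingCat.of k)) = π ≫ (X ↘ (Spec (CommRingCat.of k))))
    (hπ : BlowUp.IsBlowUp π (Scheme.IdealSheafData.vanishingIdeal ⟨{x}, hx⟩))
    [AlgebraicGeometry.IsIntegral X'] (hdim' : topologicalKrullDim X' = 2) (hproj' : ∃ H' : X'.Modules, CohB1.IsAmple H')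
    [IsProper (X' ↘ (Spec (CommRingCat.of k)))] [Smooth (X' ↘ (Spec (CommRingCat.of k)))]
    [PicGrp.Law X] [PicGrp.Law X'] (hπm : PicGrp.PullMul π) [Module.Finite ℝ (NumR.N1R k X)] :
    Module.Finite ℝ (NumR.N1R k X') ∧
      Module.finrank ℝ (NumR.N1R k X') = Module.finrank ℝ (NumR.N1R k X) + 1 := by
  obtain ⟨H, hH⟩ := hproj
  obtain ⟨H', hH'⟩ := hproj'
  exact GrothLib.BlowPt28.finrank_N1R k hdim hH hdim' hH' (GrothLib.HodgeIndex.regular_of_smooth k) hx hπ hover.symm

end Groth.Agent.S19737
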