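import Groth.Statements.S19740
import Groth.Agent.Lib.Kodaira.Cones

set_option autoImplicit false
set_option linter.all false
open CategoryTheory CategoryTheory.Limits AlgebraicGeometry
open PosLin

namespace Groth.Agent.S19740

/-- Let X be a projective variety over the complex numbers (an integral scheme, proper over ℂ, with an
ample invertible module), fix a group law on its Picard set and let N¹(X)_ℝ = ℝ ⊗ (Pic X modulo
numerical equivalence) with its topology as a finite-dimensional real vector space
(finite-dimensionality is assumed here). Call an invertible module L big when every ample invertible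
module A admits a monomorphism A → L^⊗m for some m > 0, let Big(X) ⊆ N¹(X)_ℝ be the convex cone
spanned by the classes of big invertible modules and Psef(X) the pseudo-effective cone, the closure
of the cone spanned by the classes of invertible modules with a nonzero global section. Then Big(X)
is the interior of Psef(X), and Psef(X) is the closure of Big(X). -/
theorem result (X : Scheme.{0}) [X.Over (Spec (CommRingCat.of ℂ))]
    [AlgebraicGeometry.IsIntegral X] [IsProper (X ↘ Spec (CommRingCat.of ℂ))] (H : X.Modules) (hH : CohB1.IsAmple H)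
    [PicGrp.Law X] [Module.Finite ℝ (NumR.N1R ℂ X)] :
    (NumR.coneOf ℂ X (fun L : X.Modules => ∀ A : X.Modules, CohB1.IsAmple A → ∃ (m : ℕ) (φ : A ⟶ CohB1.tensorPow L m), 0 < m ∧ Mono φ) : Set (NumR.N1R ℂ X)) = interior (NumR.psefCone ℂ X) ∧
      NumR.psefCone ℂ X = closure (NumR.coneOf ℂ X (fun L : X.Modules => ∀ A : X.Modules, CohB1.IsAmple A → ∃ (m : ℕ) (φ : A ⟶ CohB1.tensorPow L m), 0 < m ∧ Mono φ) : Set (NumR.N1R ℂ X)) := by
  open GrothLib.Kodaira in
  let C : Set (NumR.N1R ℂ X) := (bigCone (X := X) ℂ : Set (NumR.N1R ℂ X))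
  change C = interior (NumR.psefCone ℂ X) ∧ NumR.psefCone ℂ X = closure C
  have hAo := GrothLib.Kodaira.isOpen_ampleCone (k := ℂ) hH
  have hh := GrothLib.Kodaira.clR_mem_ampleCone (k := ℂ) hH
  set h := NumR.clR ℂ X H hH.1 with hh'
  have hopen : IsOpen C := by
    refine isOpen_iff_mem_nhds.2 fun x hx => ?_
    obtain ⟨a, ha, he⟩ := GrothLib.Kodaira.bigCone_sub hH hx
    have himg : IsOpen ((fun v => v + (x - a)) '' (NumR.ampleCone ℂ X : Set (NumR.N1R ℂ X))) :=
      (isOpenMap_add_right (x - a)) _ hAo
    refine Filter.mem_of_superset (himg.mem_nhds ⟨a, ha, add_sub_cancel a x⟩) ?_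
    rintro _ ⟨b, hb, rfl⟩
    exact GrothLib.Kodaira.add_mem_bigCone hb he
  have hsub : C ⊆ (NumR.effCone ℂ X : Set (NumR.N1R ℂ X)) := fun x hx => by
    obtain ⟨a, ha, he⟩ := GrothLib.Kodaira.bigCone_sub hH hx
    have := (NumR.effCone ℂ X).add_mem (GrothLib.Kodaira.ampleCone_le_effCone ha) he
    rwa [add_sub_cancel] at this
  refine ⟨subset_antisymm (interior_maximal (hsub.trans subset_closure) hopen) fun x hx => ?_, ?_⟩
  · have hcont : Continuous fun t : ℝ => x + (-t) • h :=
      by fun_prop
    have hnhds := hcont.continuousAt (x := (0 : ℝ)) (isOpen_interior.mem_nhds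
      (show x + (-(0 : ℝ)) • h ∈ interior (NumR.psefCone ℂ X) by simpa using hx))
    obtain ⟨ε, hε, hball⟩ := Metric.mem_nhds_iff.1 hnhds
    have hε2 : x + (-(ε / 2)) • h ∈ closure (NumR.effCone ℂ X : Set (NumR.N1R ℂ X)) :=
      interior_subset (hball (show ε / 2 ∈ Metric.ball (0 : ℝ) ε by simp [abs_of_pos hε]; linarith))
    let U : Set (NumR.N1R ℂ X) := (fun v => x - v) ⁻¹' (NumR.ampleCone ℂ X : Set (NumR.N1R ℂ X))
    have hU : IsOpen U := by
      have : Continuous fun v : NumR.N1R ℂ X => x + (-1 : ℝ) • v :=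
        continuous_const.add (continuous_const_smul (-1 : ℝ))
      have h' : U = (fun v => x + (-1 : ℝ) • v) ⁻¹' (NumR.ampleCone ℂ X : Set (NumR.N1R ℂ X)) := by
        ext v; simp [U, sub_eq_add_neg]
      rw [h']; exact hAo.preimage this
    obtain ⟨e, heU, hee⟩ := mem_closure_iff.1 hε2 U hU (by
      show x - (x + (-(ε / 2)) • h) ∈ NumR.ampleCone ℂ X
      rw [sub_add_cancel_left, neg_smul, neg_neg]
      exact (NumR.ampleCone ℂ X).smul_mem (by positivity) hh)
    have := GrothLib.Kodaira.add_mem_bigCone (show x - e ∈ NumR.ampleCone ℂ X from heU) hee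
    rwa [sub_add_cancel] at this
  · refine subset_antisymm (closure_minimal (fun e he => ?_) isClosed_closure) (closure_mono hsub)
    have hcont : Continuous fun t : ℝ => t • h + e :=
      by fun_prop
    have hlim : Filter.Tendsto (fun n : ℕ => ((n : ℝ) + 1)⁻¹ • h + e) Filter.atTop (nhds e) := by
      have h0 := (hcont.tendsto 0).comp (tendsto_one_div_add_atTop_nhds_zero_nat (𝕜 := ℝ))
      simpa [Function.comp_def] using h0
    exact mem_closure_of_tendsto hlim (Filter.Eventually.of_forall fun n =>
      GrothLib.Kodaira.add_mem_bigCone ((NumR.ampleCone ℂ X).smul_mem (by positivity) hh) he)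

end Groth.Agent.S19740
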