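import Groth.Statements.S19741
import Groth.Agent.Lib.EssDim.BaseChange


set_option autoImplicit false
set_option backward.isDefEq.respectTransparency false
set_option backward.isDefEq.respectTransparency.types false
universe w u
open EssDim

namespace Groth.Agent.S19741

open CategoryTheory AlgebraicGeometry in
/-- For a field extension `K` of `k` and a presheaf of sets `P` on schemes over `k`, restrict `P` to
schemes over `K` by viewing a scheme over `Spec K` as a scheme over `Spec k`; then the essential
dimension over `K` of the restricted presheaf is at most the essential dimension of `P` over `k`.
(The source states this for an algebraic stack over `k` and its base change to `K`, through the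
presheaf of isomorphism classes of objects, whose restriction to schemes over `K` is the presheaf of
classes of the base-changed stack; the inequality is stated here for an arbitrary presheaf, which is
what the argument with composita of fields of definition gives.) -/
theorem result (k : Type u) [Field k] (K : Type u) [Field K] [Algebra k K]
    (P : (Over (Spec (CommRingCat.of k)))ᵒᵖ ⥤ Type w) :
    EssDim.ed (k := K) ((Over.map (Spec.map (CommRingCat.ofHom (algebraMap k K)))).op ⋙ P) ≤ EssDim.ed P := by
  --- body
  exact GrothLib.EssDim.ed_baseChange_le k K P

end Groth.Agent.S19741
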