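import Groth.Statements.S19743
import Groth.Agent.Lib.EssDim.FibreBound


set_option autoImplicit false
set_option backward.isDefEq.respectTransparency false
set_option backward.isDefEq.respectTransparency.types false
universe u
open EssDim

namespace Groth.Agent.S19743

open CategoryTheory AlgebraicGeometry in
/-- Let `𝒳` and `𝒴` be algebraic stacks over a field `k` and `F : 𝒳 ⟶ 𝒴` a morphism over `(Sch/k)` which
is representable by algebraic spaces, quasi-separated, locally of finite type and of fibre dimension
at most `d` (for every scheme `U` over `k` and every `(Sch/U) ⟶ 𝒴`, the 2-fibre product with `𝒳` is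
an algebraic space, quasi-separated and locally of finite type over `U`, whose fibres have local
dimension at most `d` at every point). Then the essential dimension of `𝒳` over `k` is at most the
essential dimension of `𝒴` over `k` plus `d`; in particular it is finite when that of `𝒴` is.
(Quasi-separatedness of `F` is an added hypothesis: the published statement asks only representable,
locally of finite type and of fibre dimension at most `d`, in a framework where representable
morphisms of algebraic stacks are quasi-separated.) -/
theorem result (k : Type u) [Field k]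
    (𝒳 𝒴 : AlgSt.Cat (Spec (CommRingCat.of k)))
    (h𝒳 : AlgSt.IsAlgStack Scheme.fppfPrecoverage 𝒳) (h𝒴 : AlgSt.IsAlgStack Scheme.fppfPrecoverage 𝒴)
    [FibCat.IsFibGrpd 𝒳.p] [FibCat.IsFibGrpd 𝒴.p]
    (F : 𝒳 ⥤ᵇ 𝒴) (d : ℕ)
    (hF : AlgSt.RepByAlgSpWith
      (AlgSp.LocP @LocallyOfFiniteType ⊓ AlgSp.IsQuasiSeparatedMor ⊓ fun _ _ g => CurvSt.RelDimLE d g) F) :
    EssDim.edSt 𝒳 ≤ EssDim.edSt 𝒴 + ((d : ℕ) : WithBot ℕ∞) := by
  exact GrothLib.EssDim.edSt_le_add F d hF

end Groth.Agent.S19743
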