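import Groth.Statements.S19747
import Groth.Agent.Lib.Segre.ModTools

set_option autoImplicit false
universe u
open scoped TensorProduct
open GrSegre

namespace Groth.Agent.S19747

/-- Let R and S be graded rings defined over a field k with Segre product T = R # S, and let M be a
finitely generated graded R-module and N a finitely generated graded S-module. Then M # N is a
finitely generated T-module. Here a graded ring defined over k is a commutative k-algebra of finite
type, graded in nonnegative degrees by k-subspaces with degree-zero part k·1; the Segre product T =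
R # S = ⊕_n R_n ⊗_k S_n is presented abstractly as a graded k-algebra T with an injective k-algebra
homomorphism ψ : T → R ⊗_k S carrying T_n onto the k-span of the elementary tensors a ⊗ b with a ∈
R_n, b ∈ S_n; the Segre product M # N = ⊕_n M_n ⊗_k N_n of a graded R-module M and a graded S-module
N is presented abstractly as a graded T-module P with an injective k-linear map φ : P → M ⊗_k N
carrying P_n onto the k-span of the tensors x ⊗ y with x ∈ M_n, y ∈ N_n and turning the action of t
∈ T into that of ψ(t) (acting factorwise on M ⊗_k N). -/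
theorem result (k : Type u) [Field k] (R : Type u) [CommRing R] [Algebra k R] (𝒜 : ℤ → Submodule k R) [GradedAlgebra 𝒜] (hposR : ∀ n : ℤ, n < 0 → 𝒜 n = ⊥) (h0R : 𝒜 0 = Submodule.span k {(1 : R)}) [Algebra.FiniteType k R] (S : Type u) [CommRing S] [Algebra k S] (ℬ : ℤ → Submodule k S) [GradedAlgebra ℬ] (hposS : ∀ n : ℤ, n < 0 → ℬ n = ⊥) (h0S : ℬ 0 = Submodule.span k {(1 : S)}) [Algebra.FiniteType k S] (T : Type u) [CommRing T] [Algebra k T] (𝒯 : ℤ → Submodule k T) [GradedAlgebra 𝒯] (ψ : T →ₐ[k] TensorProduct k R S) (hT : GrSeg.IsSegreRing 𝒜 ℬ 𝒯 ψ) (M : Type u) [AddCommGroup M] [Module R M] [Module k M] [IsScalarTower k R M] (ℳ : ℤ → AddSubgroup M) [DirectSum.Decomposition ℳ] [SetLike.GradedSMul 𝒜 ℳ] [Module.Finite R M] (N : Type u) [AddCommGroup N] [Module S N] [Module k N] [IsScalarTower k S N] (𝒩 : ℤ → AddSubgroup N) [DirectSum.Decomposition 𝒩] [SetLike.GradedSMul ℬ 𝒩] [Module.Finite S N] (P : Type u) [AddCommGroup P] [Module T P] [Module k P] [IsScalarTower k T P] (𝒬 : ℤ → AddSubgroup P) [DirectSum.Decomposition 𝒬] (φ : P →ₗ[k] TensorProduct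 k M N) (hP : GrSeg.IsSegreMod ψ ℳ 𝒩 𝒬 φ) : Module.Finite T P := by
  exact GrothLib.Segre.finite_segre ℳ 𝒩 hT hP

end Groth.Agent.S19747
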