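import Groth.Statements.S19750
import Groth.Agent.Lib.Segre.Gens

set_option autoImplicit false
universe u
open scoped TensorProduct
open GrSegre

namespace Groth.Agent.S19750

/-- Let R and S be graded rings defined over a field k, both generated over k by their degree-one parts
and of positive Krull dimension, T = R # S with irrelevant ideal T_+, and let a ≥ b be integers.
Then the number of generators ν_T(R(a) # S(b)) = dim_k (R(a) # S(b)) / T_+ (R(a) # S(b)) equals
dim_k R_{a−b}. Here a graded ring defined over k is a commutative k-algebra of finite type, graded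
in nonnegative degrees by k-subspaces with degree-zero part k·1; the Segre product T = R # S = ⊕_n
R_n ⊗_k S_n is presented abstractly as a graded k-algebra T with an injective k-algebra homomorphism
ψ : T → R ⊗_k S carrying T_n onto the k-span of the elementary tensors a ⊗ b with a ∈ R_n, b ∈ S_n;
the Segre product R(a) # S(b) = ⊕_n R_{n+a} ⊗_k S_{n+b} of the shifted modules is presented
abstractly as a graded T-module P with an injective k-linear map φ : P → R ⊗_k S carrying P_n onto
the k-span of the tensors x ⊗ y with x ∈ R_{n+a}, y ∈ S_{n+b} and turning the action of t ∈ T into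
that of ψ(t); T_+ is the ideal spanned by the T_n with n > 0. -/
theorem result (k : Type u) [Field k] (R : Type u) [CommRing R] [Algebra k R] (𝒜 : ℤ → Submodule k R) [GradedAlgebra 𝒜] (hposR : ∀ n : ℤ, n < 0 → 𝒜 n = ⊥) (h0R : 𝒜 0 = Submodule.span k {(1 : R)}) [Algebra.FiniteType k R] (S : Type u) [CommRing S] [Algebra k S] (ℬ : ℤ → Submodule k S) [GradedAlgebra ℬ] (hposS : ∀ n : ℤ, n < 0 → ℬ n = ⊥) (h0S : ℬ 0 = Submodule.span k {(1 : S)}) [Algebra.FiniteType k S] (T : Type u) [CommRing T] [Algebra k T] (𝒯 : ℤ → Submodule k T) [GradedAlgebra 𝒯] (ψ : T →ₐ[k] TensorProduct k R S) (hT : GrSeg.IsSegreRing 𝒜 ℬ 𝒯 ψ) (hstdR : Ideal.span (⋃ n ∈ Set.Ioi (0 : ℤ), (𝒜 n : Set R)) = Ideal.span ((𝒜 1 : Submodule k R) : Set R)) (hstdS : Ideal.span (⋃ n ∈ Set.Ioi (0 : ℤ), (ℬ n : Set S)) = Ideal.span ((ℬ 1 : Submodule k S) : Set S)) (hr1 : 1 ≤ ringKrullDim R) (hs1 : 1 ≤ ringKrullDim S) (mT : HomogeneousIdeal 𝒯) (hmT : mT.toIdeal = Ideal.span (⋃ n ∈ Set.Ioi (0 : ℤ), (𝒯 n : Set T))) (a b : ℤ) (hab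 : b ≤ a) (P : Type u) [AddCommGroup P] [Module T P] [Module k P] [IsScalarTower k T P] (𝒬 : ℤ → AddSubgroup P) [DirectSum.Decomposition 𝒬] (φ : P →ₗ[k] TensorProduct k R S) (hP : GrSeg.IsSegreMod ψ (fun n : ℤ => 𝒜 (n + a)) (fun n : ℤ => ℬ (n + b)) 𝒬 φ) : Module.finrank k (P ⧸ (mT.toIdeal • (⊤ : Submodule T P))) = Module.finrank k (𝒜 (a - b)) := by
  have : Nontrivial S := by
    by_contra h
    rw [not_nontrivial_iff_subsingleton] at h
    rw [ringKrullDim_eq_bot_of_subsingleton] at hs1
    simp at hs1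
  exact GrothLib.Segre.finrank_quot_shifts hposR hposS h0S hT hstdR hstdS mT hmT hab hP

end Groth.Agent.S19750
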