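import Groth.Statements.S19751
import Groth.Agent.Lib.GrDual.Ess

set_option autoImplicit false
universe u
open GrDual

namespace Groth.Agent.S19751

/-- Let R be a graded ring defined over a field k with m = R_+, let F and M be finitely generated graded
R-modules and f : F → M a surjective homomorphism of graded R-modules, with dual f^* : M^* → F^* on
graded k-duals. Then f is minimal, that is Ker f ⊆ m F, if and only if f^* is essential: an
injective homomorphism of graded modules such that every nonzero graded submodule of F^* meets its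
image. Here a graded ring defined over k is a commutative k-algebra of finite type, graded in
nonnegative degrees by k-subspaces with degree-zero part k·1, and R_+ is the ideal spanned by the
R_n with n > 0; the graded k-dual M^* = ⊕_n Hom_k(M_{−n}, k) of a graded R-module M (with r ∈ R
acting by (r f)(x) = f(r x)) is presented abstractly as a graded R-module D with a k-bilinear
pairing β : D × M → k compatible with the R-actions, under which D_n pairs to zero with M_m for m ≠
−n and is identified with the full dual space of M_{−n}; f^* is presented as the R-linear map g :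
M^* → F^* with β_F(g d, x) = β_M(d, f x). -/
theorem result (k : Type u) [Field k] (R : Type u) [CommRing R] [Algebra k R] (𝒜 : ℤ → Submodule k R) [GradedAlgebra 𝒜] (hposR : ∀ n : ℤ, n < 0 → 𝒜 n = ⊥) (h0R : 𝒜 0 = Submodule.span k {(1 : R)}) [Algebra.FiniteType k R] (mR : HomogeneousIdeal 𝒜) (hmR : mR.toIdeal = Ideal.span (⋃ n ∈ Set.Ioi (0 : ℤ), (𝒜 n : Set R))) (F : Type u) [AddCommGroup F] [Module R F] [Module k F] [IsScalarTower k R F] (ℱ : ℤ → AddSubgroup F) [DirectSum.Decomposition ℱ] [SetLike.GradedSMul 𝒜 ℱ] [Module.Finite R F] (M : Type u) [AddCommGroup M] [Module R M] [Module k M] [IsScalarTower k R M] (ℳ : ℤ → AddSubgroup M) [DirectSum.Decomposition ℳ] [SetLike.GradedSMul 𝒜 ℳ] [Module.Finite R M] (f : F →ₗ[R] M) (hf : Function.Surjective f) (hfgr : GrLC.IsGrHom ℱ ℳ f) (DM : Type u) [AddCommGroup DM] [Module R DM] [Module k DM] [IsScalarTower k R DM] (𝒟M : ℤ → AddSubgroup DM) [DirectSum.Decomposition 𝒟M] [SetLike.GradedSMul 𝒜 𝒟M] (βM : DM →ₗ[k] M →ₗ[k] k) (hDM : GrSeg.IsGDual R ℳ 𝒟M βM) (DF : Type u) [AddCommGroup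 DF] [Module R DF] [Module k DF] [IsScalarTower k R DF] (𝒟F : ℤ → AddSubgroup DF) [DirectSum.Decomposition 𝒟F] [SetLike.GradedSMul 𝒜 𝒟F] (βF : DF →ₗ[k] F →ₗ[k] k) (hDF : GrSeg.IsGDual R ℱ 𝒟F βF) (g : DM →ₗ[R] DF) (hg : GrSeg.IsGDualMap βM βF f g) : LinearMap.ker f ≤ mR.toIdeal • (⊤ : Submodule R F) ↔ GrLC.IsStarEss 𝒟M 𝒟F g := by
  exact GrothLib.GrDual.minimal_iff_ess hposR h0R hmR f hf hfgr hDM hDF hg

end Groth.Agent.S19751
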