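import Groth.Statements.S19755
import Groth.Agent.Lib.Segre.SegCM

set_option autoImplicit false
universe u
open scoped TensorProduct
open GrSegre

namespace Groth.Agent.S19755

/-- Let R and S be graded rings defined over a field k with m = R_+, n = S_+ and T = R # S, let M be a
finitely generated graded Cohen–Macaulay R-module of dimension r ≥ 2 and N a finitely generated
graded Cohen–Macaulay S-module of dimension s ≥ 2, and assume M # N ≠ 0. Then M # N is a
Cohen–Macaulay T-module if and only if M # H^s_n(N) = 0 and H^r_m(M) # N = 0, that is, for every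
degree d, M_d = 0 or H^s_n(N)_d = 0, and H^r_m(M)_d = 0 or N_d = 0. The letters r and s stand here
for the dimensions of the modules M and N themselves and are not assumed to equal dim R and dim S.
Here a graded ring defined over k is a commutative k-algebra of finite type, graded in nonnegative
degrees by k-subspaces with degree-zero part k·1; the Segre product T = R # S = ⊕_n R_n ⊗_k S_n is
presented abstractly as a graded k-algebra T with an injective k-algebra homomorphism ψ : T → R ⊗_k
S carrying T_n onto the k-span of the elementary tensors a ⊗ b with a ∈ R_n, b ∈ S_n; the Segre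
product M # N = ⊕_n M_n ⊗_k N_n of a graded R-module M and a graded S-module N is presented
abstractly as a graded T-module P with an injective k-linear map φ : P → M ⊗_k N carrying P_n onto
the k-span of the tensors x ⊗ y with x ∈ M_n, y ∈ N_n and turning the action of t ∈ T into that of
ψ(t) (acting factorwise on M ⊗_k N); a module over a ring is called Cohen–Macaulay when each of its
localizations at a prime ideal is zero or a Cohen–Macaulay module over the local ring (dimension of
the support equal to the depth), and the dimension of a module is the Krull dimension of its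
support; the graded local cohomology pieces are computed from *injective resolutions of M and N in
the graded categories. -/
theorem result (k : Type u) [Field k] (R : Type u) [CommRing R] [Algebra k R] (𝒜 : ℤ → Submodule k R) [GradedAlgebra 𝒜] (hposR : ∀ n : ℤ, n < 0 → 𝒜 n = ⊥) (h0R : 𝒜 0 = Submodule.span k {(1 : R)}) [Algebra.FiniteType k R] (S : Type u) [CommRing S] [Algebra k S] (ℬ : ℤ → Submodule k S) [GradedAlgebra ℬ] (hposS : ∀ n : ℤ, n < 0 → ℬ n = ⊥) (h0S : ℬ 0 = Submodule.span k {(1 : S)}) [Algebra.FiniteType k S] (T : Type u) [CommRing T] [Algebra k T] (𝒯 : ℤ → Submodule k T) [GradedAlgebra 𝒯] (ψ : T →ₐ[k] TensorProduct k R S) (hT : GrSeg.IsSegreRing 𝒜 ℬ 𝒯 ψ) (mR : HomogeneousIdeal 𝒜) (hmR : mR.toIdeal = Ideal.span (⋃ n ∈ Set.Ioi (0 : ℤ), (𝒜 n : Set R))) (mS : HomogeneousIdeal ℬ) (hmS : mS.toIdeal = Ideal.span (⋃ n ∈ Set.Ioi (0 : ℤ), (ℬ n : Set S))) (M : Type u) [AddCommGroup M] [Module R M] [Module k M] [IsScalarTower k R M] (ℳ : ℤ → AddSubgroup M) [DirectSum.Decomposition ℳ] [SetLike.GradedSMul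 𝒜 ℳ] [Module.Finite R M] (EM : GrLC.StarInjRes 𝒜 ℳ) (N : Type u) [AddCommGroup N] [Module S N] [Module k N] [IsScalarTower k S N] (𝒩 : ℤ → AddSubgroup N) [DirectSum.Decomposition 𝒩] [SetLike.GradedSMul ℬ 𝒩] [Module.Finite S N] (EN : GrLC.StarInjRes ℬ 𝒩) (P : Type u) [AddCommGroup P] [Module T P] [Module k P] [IsScalarTower k T P] (𝒬 : ℤ → AddSubgroup P) [DirectSum.Decomposition 𝒬] (φ : P →ₗ[k] TensorProduct k M N) (hP : GrSeg.IsSegreMod ψ ℳ 𝒩 𝒬 φ) [Nontrivial P] (r s : ℕ) (h2r : 2 ≤ r) (h2s : 2 ≤ s) (hdM : Module.supportDim R M = r) (hdN : Module.supportDim S N = s) (hMcm : (∀ (q : Ideal R) [q.IsPrime], Subsingleton (LocalizedModule q.primeCompl M) ∨ LocCoh.IsCohenMacaulayModule (Localization.AtPrime q) (LocalizedModule q.primeCompl M))) (hNcm : (∀ (q : Ideal S) [q.IsPrime], Subsingleton (LocalizedModule q.primeCompl N) ∨ LocCoh.IsCohenMacaulayModule (Localization.AtPrime q) (LocalizedModule q.primeCompl N))) : (∀ (q : Ideal T) [q.IsPrime], Subsingleton (LocalizedModule q.primeCompl P) ∨ LocCoh.IsCohenMacaulayModule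 (Localization.AtPrime q) (LocalizedModule q.primeCompl P)) ↔ (∀ d : ℤ, ℳ d = ⊥ ∨ EN.Hcomp mS s d = ⊥) ∧ (∀ d : ℤ, EM.Hcomp mR r d = ⊥ ∨ 𝒩 d = ⊥) := by
  have := GrothLib.Segre.gradedSMul_of_isSegreMod hT hP
  have hT' : ∀ x ∈ (⋃ n ∈ Set.Ioi (0 : ℤ), (𝒯 n : Set T)), SetLike.IsHomogeneousElem 𝒯 x := fun x hx => by
    simp only [Set.mem_iUnion] at hx; obtain ⟨n, -, h⟩ := hx; exact ⟨n, h⟩
  let mT : HomogeneousIdeal 𝒯 := ⟨_, Ideal.homogeneous_span 𝒯 _ hT'⟩
  have hcM := GrothLib.Segre.conc_of_cm hposR h0R hmR EM hdM hMcm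
  have hcN := GrothLib.Segre.conc_of_cm hposS h0S hmS EN hdN hNcm
  rw [GrothLib.Segre.cm_segre_iff hT hP hposR h0R hposS h0S hmR hmS (mT := mT) rfl (GrothLib.GrLC.starInjRes 𝒯 𝒬)
      hcM hcN (by omega) (by omega),
    GrothLib.Segre.below_iff_of_two_le hT hP hposR h0R hposS h0S hmR hmS (mT := mT) rfl
      (GrothLib.GrLC.starInjRes 𝒯 𝒬) hcM hcN (by omega) (by omega) h2r h2s]
  simp only [forall_and, AddSubgroup.eq_bot_iff_forall]

end Groth.Agent.S19755
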