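import Groth.Statements.S19759
import Groth.Agent.Lib.GrLC.TopCoh
import Groth.Agent.Lib.GrDual.LocalDual
import Groth.Agent.Lib.Segre.CMFacts

set_option autoImplicit false
universe u
open GrDual

namespace Groth.Agent.S19759

/-- Let R be a graded ring defined over a field k with m = R_+ and n = dim R, K_R = (H^n_m(R))^* its
canonical module, and M a finitely generated graded R-module. Then (H^n_m(M))^* ≅ Hom_R(M, K_R) as
graded R-modules. Stated here as the existence of an R-linear isomorphism carrying the degree-d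
piece of (H^n_m(M))^* into the maps M → K_R homogeneous of degree d (existence of an isomorphism
only; the published one is natural in M). Here a graded ring defined over k is a commutative
k-algebra of finite type, graded in nonnegative degrees by k-subspaces with degree-zero part k·1,
and R_+ is the ideal spanned by the R_n with n > 0; the graded k-dual M^* = ⊕_n Hom_k(M_{−n}, k) of
a graded R-module M (with r ∈ R acting by (r f)(x) = f(r x)) is presented abstractly as a graded
R-module D with a k-bilinear pairing β : D × M → k compatible with the R-actions, under which D_n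
pairs to zero with M_m for m ≠ −n and is identified with the full dual space of M_{−n}; graded local
cohomology with its homogeneous pieces is computed from *injective resolutions in the graded
category and carries the k-vector space structures given. -/
theorem result (k : Type u) [Field k] (R : Type u) [CommRing R] [Algebra k R] (𝒜 : ℤ → Submodule k R) [GradedAlgebra 𝒜] (hposR : ∀ n : ℤ, n < 0 → 𝒜 n = ⊥) (h0R : 𝒜 0 = Submodule.span k {(1 : R)}) [Algebra.FiniteType k R] (mR : HomogeneousIdeal 𝒜) (hmR : mR.toIdeal = Ideal.span (⋃ n ∈ Set.Ioi (0 : ℤ), (𝒜 n : Set R))) (n : ℕ) (hn : ringKrullDim R = n) (I : GrLC.StarInjRes 𝒜 𝒜) [Module k (I.H mR n)] [IsScalarTower k R (I.H mR n)] [DirectSum.Decomposition (I.Hgr mR n)] (K : Type u) [AddCommGroup K] [Module R K] [Module k K] [IsScalarTower k R K] (𝒦 : ℤ → AddSubgroup K) [DirectSum.Decomposition 𝒦] [SetLike.GradedSMul 𝒜 𝒦] (βK : K →ₗ[k] I.H mR n →ₗ[k] k) (hK : GrSeg.IsGDual R (I.Hgr mR n) 𝒦 βK) (M : Type u) [AddCommGroup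 M] [Module R M] [Module k M] [IsScalarTower k R M] (ℳ : ℤ → AddSubgroup M) [DirectSum.Decomposition ℳ] [SetLike.GradedSMul 𝒜 ℳ] [Module.Finite R M] (EM : GrLC.StarInjRes 𝒜 ℳ) [Module k (EM.H mR n)] [IsScalarTower k R (EM.H mR n)] [DirectSum.Decomposition (EM.Hgr mR n)] (D : Type u) [AddCommGroup D] [Module R D] [Module k D] [IsScalarTower k R D] (𝒟 : ℤ → AddSubgroup D) [DirectSum.Decomposition 𝒟] [SetLike.GradedSMul 𝒜 𝒟] (βD : D →ₗ[k] EM.H mR n →ₗ[k] k) (hD : GrSeg.IsGDual R (EM.Hgr mR n) 𝒟 βD) : ∃ ε : D ≃ₗ[R] (M →ₗ[R] K), GrLC.IsGrHom 𝒟 (fun d : ℤ => (GrLC.homDeg 𝒜 ℳ 𝒦 d).toAddSubgroup) ε.toLinearMap := by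
  have : IsNoetherianRing R := Algebra.FiniteType.isNoetherianRing k R
  have : Nontrivial R := not_subsingleton_iff_nontrivial.1 fun h => by
    rw [ringKrullDim_eq_bot_of_subsingleton] at hn; exact WithBot.bot_ne_coe hn
  have : mR.toIdeal.IsPrime := (GrothLib.Segre.isMaximal hposR h0R hmR).isPrime
  obtain ⟨l, hl⟩ := GrothLib.GrLC.exists_hspan (𝒜 := 𝒜) (a := mR)
  have hac : ∀ X : GrLC.GMod 𝒜, Module.Finite R X.carrier → ∀ g, GrothLib.GrLC.Van l X (n + 1) g := by
    intro X hX g
    refine GrothLib.Segre.van_of_localDim_lt hposR h0R hmR hl X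
      ((Module.supportDim_le_ringKrullDim _ _).trans_lt ?_) g
    rw [IsLocalization.AtPrime.ringKrullDim_eq_height mR.toIdeal (Localization.AtPrime mR.toIdeal)]
    refine (Ideal.height_le_ringKrullDim_of_ne_top Ideal.IsPrime.ne_top').trans_lt ?_
    rw [hn]
    exact_mod_cast Nat.lt_succ_self n
  obtain ⟨eR, heR⟩ := GrothLib.GrLC.iso_cech I hl n
  obtain ⟨eM, heM⟩ := GrothLib.GrLC.iso_cech EM hl n
  let X := GrothLib.GrLC.gmod 𝒜 ℳ
  let tS : M →ₗ[R] ((GrothLib.GrLC.gmod 𝒜 𝒜).carrier →ₗ[R] X.carrier) :=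
    (LinearMap.ringLmapEquivSelf R R M).symm.toLinearMap
  have htS : ∀ x, tS x = GrothLib.GrLC.spanMap (X := X) x := fun x => LinearMap.ext fun r => rfl
  let μ : M →ₗ[R] I.H mR n →ₗ[R] EM.H mR n :=
    ((LinearMap.llcomp R _ _ _ eM.symm.toLinearMap) ∘ₗ
      (LinearMap.lcomp R _ eR.toLinearMap) ∘ₗ (GrothLib.GrLC.hLin (Y := X) l n)) ∘ₗ tS
  have hμv : ∀ x h, μ x h = eM.symm (GrothLib.GrLC.hLin l n (GrothLib.GrLC.spanMap (X := X) x) (eR h)) := fun x h => by
    rw [← htS]; rfl
  have hμ : ∀ j g, ∀ x ∈ ℳ j, ∀ h ∈ I.Hgr mR n g, μ x h ∈ EM.Hgr mR n (g + j) := by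
    intro j g x hx h hh
    rw [hμv, GrothLib.GrLC.EH_gr_iff]
    refine GrothLib.GrLC.IsHom.symm heM _ _ (GrothLib.GrLC.hLin_mem_gr (Y := X) _ (fun i (v : R) hv => ?_) l n g
      (heR g h ((GrothLib.GrLC.EH_gr_iff I mR n g h).1 hh)))
    exact GrothLib.GrLC.smul_mem' (R := R) (𝒜 := 𝒜) (r := v) ℳ hv hx
  have : Module.Finite R X.carrier := (inferInstance : Module.Finite R M)
  obtain ⟨κ, _, deg, gen, hgen, hspan⟩ := GrothLib.GrLC.exists_homogeneous_generators X
  refine GrothLib.GrDual.exists_equiv_hom hK hD μ hμ deg gen hgen hspan (fun h => ?_) fun z hz => ?_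
  · obtain ⟨z, hz⟩ := GrothLib.GrLC.exists_sum_hLin l n hac deg gen hgen hspan (eM h)
    refine ⟨fun a => eR.symm (z a), ?_⟩
    refine (eM.symm_apply_apply h).symm.trans ?_
    rw [hz, map_sum]
    exact Finset.sum_congr rfl fun a _ => by rw [hμv, LinearEquiv.apply_symm_apply]
  · have hz' : ∑ a, GrothLib.GrLC.hLin l n (GrothLib.GrLC.spanMap (X := X) (gen a)) (eR (z a)) = 0 :=
      eM.symm.injective (by simp only [hμv] at hz; rw [map_sum, map_zero]; exact hz)
    obtain ⟨ν, hν, w, y, hw, hy⟩ := GrothLib.GrLC.exists_syzygy_of_sum_hLin l n hac deg gen hgen hspan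
      (fun a => eR (z a)) hz'
    refine ⟨ν, hν, w, fun c => eR.symm (y c), hw, fun a => ?_⟩
    refine (eR.symm_apply_apply (z a)).symm.trans ?_
    rw [hy a, map_sum]
    exact Finset.sum_congr rfl fun c _ => map_smul _ _ _

end Groth.Agent.S19759
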