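import Groth.Statements.S19763
import Groth.Agent.Lib.Segre.PolyShift
import Groth.Agent.Lib.Segre.CMFacts
import Groth.Agent.Lib.Segre.SegRing

set_option autoImplicit false
universe u
open scoped TensorProduct
attribute [local instance] MvPolynomial.weightedGradedAlgebra
open GrSegre

namespace Groth.Agent.S19763

/-- Let R = k[X_1, …, X_r] and S = k[Y_1, …, Y_s] be polynomial rings over a field k with every variable
of degree 1, r ≥ 2 and s ≥ 2, T = R # S, and M = R(a), N = S(b) for integers a, b. Then (a) M # N is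
a Cohen–Macaulay T-module if and only if s > a − b > −r; (b) if a − b ≥ s then depth (M # N) = s;
(c) if a − b ≤ −r then depth (M # N) = r. Here the polynomial rings carry the standard grading by
k-subspaces of homogeneous polynomials (indexed by ℤ, all variables of weight 1); the Segre product
T = R # S = ⊕_n R_n ⊗_k S_n is presented abstractly as a graded k-algebra T with an injective
k-algebra homomorphism ψ : T → R ⊗_k S carrying T_n onto the k-span of the elementary tensors of
bidegree (n, n), T_+ is the ideal spanned by the T_n with n > 0, and R(a) # S(b) = ⊕_n R_{n+a} ⊗_k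
S_{n+b} is presented abstractly as a graded T-module P with an injective k-linear map φ : P → R ⊗_k
S carrying P_n onto the k-span of the tensors x ⊗ y with x ∈ R_{n+a}, y ∈ S_{n+b} and turning the
action of t ∈ T into that of ψ(t); a module over a ring is called Cohen–Macaulay when each of its
localizations at a prime ideal is zero or a Cohen–Macaulay module over the local ring (dimension of
the support equal to the depth), and the dimension of a module is the Krull dimension of its
support; the depth of P is its grade with respect to T_+ (the common length of the maximal P-regular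
sequences in T_+). -/
theorem result (k : Type u) [Field k] (r s : ℕ) (h2r : 2 ≤ r) (h2s : 2 ≤ s) (T : Type u) [CommRing T] [Algebra k T] (𝒯 : ℤ → Submodule k T) [GradedAlgebra 𝒯] (ψ : T →ₐ[k] TensorProduct k (MvPolynomial (Fin r) k) (MvPolynomial (Fin s) k)) (hT : GrSeg.IsSegreRing (MvPolynomial.weightedHomogeneousSubmodule k (fun _ : Fin r => (1 : ℤ))) (MvPolynomial.weightedHomogeneousSubmodule k (fun _ : Fin s => (1 : ℤ))) 𝒯 ψ) (mT : HomogeneousIdeal 𝒯) (hmT : mT.toIdeal = Ideal.span (⋃ n ∈ Set.Ioi (0 : ℤ), (𝒯 n : Set T))) (a b : ℤ) (P : Type u) [AddCommGroup P] [Module T P] [Module k P] [IsScalarTower k T P] (𝒬 : ℤ → AddSubgroup P) [DirectSum.Decomposition 𝒬] (φ : P →ₗ[k] TensorProduct k (MvPolynomial (Fin r) k) (MvPolynomial (Fin s) k)) (hP : GrSeg.IsSegreMod ψ (fun n : ℤ => (MvPolynomial.weightedHomogeneousSubmodule k (fun _ : Fin r => (1 : ℤ))) (n + a)) (fun n : ℤ => (MvPolynomial.weightedHomogeneousSubmodule k (fun _ : Fin s => (1 : ℤ))) (n + b)) 𝒬 φ) : ((∀ (q : Ideal T) [q.IsPrime], Subsingleton (LocalizedModule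 q.primeCompl P) ∨ LocCoh.IsCohenMacaulayModule (Localization.AtPrime q) (LocalizedModule q.primeCompl P)) ↔ (a - b < (s : ℤ) ∧ -(r : ℤ) < a - b)) ∧ ((s : ℤ) ≤ a - b → LocCoh.idealDepth mT.toIdeal P = (s : ℕ∞)) ∧ (a - b ≤ -(r : ℤ) → LocCoh.idealDepth mT.toIdeal P = (r : ℕ∞)) := by
  have hT' : GrSeg.IsSegreRing (GrSyz.stdGr k (Fin r)) (GrSyz.stdGr k (Fin s)) 𝒯 ψ := hT
  have hP' := GrothLib.Segre.isSegreMod_shGr a b hP
  have := GrothLib.Segre.gradedSMul_of_isSegreMod hT' hP'
  have := GrothLib.Segre.nontrivial_of_isSegreMod_shGr a b (by omega) (by omega) hP'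
  have hpR := GrothLib.Segre.std_pos k r
  have hpS := GrothLib.Segre.std_pos k s
  have h0R := GrothLib.Segre.std_zero k r
  have h0S := GrothLib.Segre.std_zero k s
  have := GrothLib.Segre.segre_finiteType hT' hpR h0R hpS h0S
  have : IsNoetherianRing T := Algebra.FiniteType.isNoetherianRing k T
  have := GrothLib.Segre.finite_segre _ _ hT' hP'
  let EP := GrothLib.GrLC.starInjRes 𝒯 𝒬
  have hcM := GrothLib.Segre.conc_shGr k r a
  have hcN := GrothLib.Segre.conc_shGr k s b
  have hmR := GrothLib.Segre.hmI k r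
  have hmS := GrothLib.Segre.hmI k s
  have hlow := fun {q : ℕ} (hq : q < r + s - 1) (d : ℤ) =>
    GrothLib.Segre.Hcomp_segre_low hT' hP' hpR h0R hpS h0S hmR hmS hmT EP hcM hcN (by omega) (by omega) hq d
  refine ⟨?_, fun h => ?_, fun h => ?_⟩
  · rw [GrothLib.Segre.cm_segre_iff hT' hP' hpR h0R hpS h0S hmR hmS hmT EP hcM hcN (by omega) (by omega)]
    constructor
    · intro h
      refine ⟨by_contra fun hc => ?_, by_contra fun hc => ?_⟩
      · exact GrothLib.Segre.Hcomp_segre_ne_right hT' hP' hpR h0R hpS h0S hmR hmS hmT EP hcM hcN (by omega)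
          (by omega) (GrothLib.Segre.exists_shGr_ne k a (by omega) (by omega))
          (GrothLib.Segre.Hcomp_shGr_ne k s b) (h s (by omega) _)
      · exact GrothLib.Segre.Hcomp_segre_ne_left hT' hP' hpR h0R hpS h0S hmR hmS hmT EP hcM hcN (by omega)
          (by omega) (GrothLib.Segre.Hcomp_shGr_ne k r a)
          (GrothLib.Segre.exists_shGr_ne k b (by omega) (by omega)) (h r (by omega) _)
    · rintro ⟨h1, h2⟩ q hq d
      refine hlow hq d (fun _ => ?_) fun _ => ?_
      · rcases lt_or_ge (d + a) 0 with hd | hd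
        · exact Or.inl (GrothLib.Segre.shGr_eq_zero k r a hd)
        · exact Or.inr (GrothLib.Segre.Hcomp_shGr_eq_bot k s b fun _ => by omega)
      · rcases lt_or_ge (d + b) 0 with hd | hd
        · exact Or.inr (GrothLib.Segre.shGr_eq_zero k s b hd)
        · exact Or.inl (GrothLib.Segre.Hcomp_shGr_eq_bot k r a fun _ => by omega)
  · refine GrothLib.Segre.idealDepth_eq_of_Hcomp EP mT (fun q hq d => hlow (by omega) d (fun h => absurd h hq.ne)
      fun _ => ?_) ⟨_, GrothLib.Segre.Hcomp_segre_ne_right hT' hP' hpR h0R hpS h0S hmR hmS hmT EP hcM hcN (by omega)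
        (by omega) (GrothLib.Segre.exists_shGr_ne k a (by omega) (by omega)) (GrothLib.Segre.Hcomp_shGr_ne k s b)⟩
    rcases lt_or_ge (d + b) 0 with hd | hd
    · exact Or.inr (GrothLib.Segre.shGr_eq_zero k s b hd)
    · exact Or.inl (GrothLib.Segre.Hcomp_shGr_eq_bot k r a fun _ => by omega)
  · refine GrothLib.Segre.idealDepth_eq_of_Hcomp EP mT (fun q hq d => hlow (by omega) d (fun _ => ?_)
      fun h => absurd h hq.ne) ⟨_, GrothLib.Segre.Hcomp_segre_ne_left hT' hP' hpR h0R hpS h0S hmR hmS hmT EP hcM hcN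
        (by omega) (by omega) (GrothLib.Segre.Hcomp_shGr_ne k r a)
        (GrothLib.Segre.exists_shGr_ne k b (by omega) (by omega))⟩
    rcases lt_or_ge (d + a) 0 with hd | hd
    · exact Or.inl (GrothLib.Segre.shGr_eq_zero k r a hd)
    · exact Or.inr (GrothLib.Segre.Hcomp_shGr_eq_bot k s b fun _ => by omega)

end Groth.Agent.S19763
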