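import Groth.Statements.S19764
import Groth.Agent.Lib.Segre.PolyShift
import Groth.Agent.Lib.Segre.CMFacts
import Groth.Agent.Lib.Segre.SegRing

set_option autoImplicit false
universe u
open scoped TensorProduct
attribute [local instance] MvPolynomial.weightedGradedAlgebra
open GrSegre

namespace Groth.Agent.S19764

/-- Let R = k[X] and S = k[Y_1, …, Y_s] be polynomial rings over a field k with every variable of degree
1, s ≥ 2, T = R # S, and M = R(a), N = S(b) for integers a, b. Then (a) if a ≥ b, M # N is a
Cohen–Macaulay T-module; (b) if a < b, depth (M # N) = 1. (Part (a) of the published statement also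
identifies M # N with S(b); that identification is not stated here.) Here the polynomial rings carry
the standard grading by k-subspaces of homogeneous polynomials (indexed by ℤ, all variables of
weight 1); the Segre product T = R # S = ⊕_n R_n ⊗_k S_n is presented abstractly as a graded
k-algebra T with an injective k-algebra homomorphism ψ : T → R ⊗_k S carrying T_n onto the k-span of
the elementary tensors of bidegree (n, n), T_+ is the ideal spanned by the T_n with n > 0, and R(a)
# S(b) = ⊕_n R_{n+a} ⊗_k S_{n+b} is presented abstractly as a graded T-module P with an injective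
k-linear map φ : P → R ⊗_k S carrying P_n onto the k-span of the tensors x ⊗ y with x ∈ R_{n+a}, y ∈
S_{n+b} and turning the action of t ∈ T into that of ψ(t); a module over a ring is called
Cohen–Macaulay when each of its localizations at a prime ideal is zero or a Cohen–Macaulay module
over the local ring (dimension of the support equal to the depth), and the dimension of a module is
the Krull dimension of its support; the depth of P is its grade with respect to T_+ (the common
length of the maximal P-regular sequences in T_+). -/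
theorem result (k : Type u) [Field k] (s : ℕ) (h2s : 2 ≤ s) (T : Type u) [CommRing T] [Algebra k T] (𝒯 : ℤ → Submodule k T) [GradedAlgebra 𝒯] (ψ : T →ₐ[k] TensorProduct k (MvPolynomial (Fin 1) k) (MvPolynomial (Fin s) k)) (hT : GrSeg.IsSegreRing (MvPolynomial.weightedHomogeneousSubmodule k (fun _ : Fin 1 => (1 : ℤ))) (MvPolynomial.weightedHomogeneousSubmodule k (fun _ : Fin s => (1 : ℤ))) 𝒯 ψ) (mT : HomogeneousIdeal 𝒯) (hmT : mT.toIdeal = Ideal.span (⋃ n ∈ Set.Ioi (0 : ℤ), (𝒯 n : Set T))) (a b : ℤ) (P : Type u) [AddCommGroup P] [Module T P] [Module k P] [IsScalarTower k T P] (𝒬 : ℤ → AddSubgroup P) [DirectSum.Decomposition 𝒬] (φ : P →ₗ[k] TensorProduct k (MvPolynomial (Fin 1) k) (MvPolynomial (Fin s) k)) (hP : GrSeg.IsSegreMod ψ (fun n : ℤ => (MvPolynomial.weightedHomogeneousSubmodule k (fun _ : Fin 1 => (1 : ℤ))) (n + a)) (fun n : ℤ => (MvPolynomial.weightedHomogeneousSubmodule k (fun _ : Fin s => (1 : ℤ))) (n + b)) 𝒬 φ) : (b ≤ a → (∀ (q : Ideal T) [q.IsPrime], Subsingleton (LocalizedModule q.primeCompl P) ∨ LocCoh.IsCohenMacaulayModule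 (Localization.AtPrime q) (LocalizedModule q.primeCompl P))) ∧ (a < b → LocCoh.idealDepth mT.toIdeal P = (1 : ℕ∞)) := by
  have hT' : GrSeg.IsSegreRing (GrSyz.stdGr k (Fin 1)) (GrSyz.stdGr k (Fin s)) 𝒯 ψ := hT
  have hP' := GrothLib.Segre.isSegreMod_shGr a b hP
  have := GrothLib.Segre.gradedSMul_of_isSegreMod hT' hP'
  have := GrothLib.Segre.nontrivial_of_isSegreMod_shGr a b Nat.one_pos (by omega) hP'
  have hpR := GrothLib.Segre.std_pos k 1
  have hpS := GrothLib.Segre.std_pos k s
  have h0R := GrothLib.Segre.std_zero k 1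
  have h0S := GrothLib.Segre.std_zero k s
  have := GrothLib.Segre.segre_finiteType hT' hpR h0R hpS h0S
  have : IsNoetherianRing T := Algebra.FiniteType.isNoetherianRing k T
  have := GrothLib.Segre.finite_segre _ _ hT' hP'
  let EP := GrothLib.GrLC.starInjRes 𝒯 𝒬
  have hcM := GrothLib.Segre.conc_shGr k 1 a
  have hcN := GrothLib.Segre.conc_shGr k s b
  have hmR := GrothLib.Segre.hmI k 1
  have hmS := GrothLib.Segre.hmI k s
  have hlow := fun {q : ℕ} (hq : q < 1 + s - 1) (d : ℤ) =>
    GrothLib.Segre.Hcomp_segre_low hT' hP' hpR h0R hpS h0S hmR hmS hmT EP hcM hcN le_rfl (by omega) hq d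
  refine ⟨fun h => ?_, fun h => ?_⟩
  · refine (GrothLib.Segre.cm_segre_iff hT' hP' hpR h0R hpS h0S hmR hmS hmT EP hcM hcN le_rfl (by omega)).2
      fun q hq d => hlow hq d (fun h => absurd h (by omega)) fun _ => ?_
    rcases lt_or_ge (d + b) 0 with hd | hd
    · exact Or.inr (GrothLib.Segre.shGr_eq_zero k s b hd)
    · exact Or.inl (GrothLib.Segre.Hcomp_shGr_eq_bot k 1 a fun _ => by omega)
  · exact GrothLib.Segre.idealDepth_eq_of_Hcomp EP mT (fun q hq d => hlow (by omega) d (fun h => absurd h (by omega))
      fun h => absurd h hq.ne) ⟨_, GrothLib.Segre.Hcomp_segre_ne_left hT' hP' hpR h0R hpS h0S hmR hmS hmT EP hcM hcN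
        le_rfl (by omega) (GrothLib.Segre.Hcomp_shGr_ne k 1 a)
        (GrothLib.Segre.exists_shGr_ne k b (by omega) (by omega))⟩

end Groth.Agent.S19764
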