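import Groth.Statements.S19770
-- import your own Groth.Agent.* helpers here
import Groth.Agent.Lib.Poincare.KL

set_option autoImplicit false
universe u
open CategoryTheory MonoidalCategory CartesianMonoidalCategory MonObj GrpObj AlgebraicGeometry
open AbVar

namespace Groth.Agent.S19770

/-- Let X be an abelian variety over a field k (a proper, geometrically integral k-group scheme), L an
invertible O_X-module, i : K → X a closed immersion exhibiting K as K(L) (the maximal closed
subscheme over which the Mumford bundle m^*L ⊗ p_1^*L⁻¹ ⊗ p_2^*L⁻¹, restricted to X ×_k K, is the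
inverse image of an invertible module on K, with its universal property), and B a k-group scheme
with a homomorphism j : B → X that factors through i. Write M = j^*L. Then M ⊗ [-1]^*M ≅ O_B, where
[-1] : B → B is the inversion (existence of an isomorphism). (The published statement assumes k
algebraically closed and takes for B the reduced identity component of K(L), an abelian subvariety;
the argument — restrict the Mumford bundle to B × B and pull back along (1, -1) — applies to any
group scheme over k mapping homomorphically into K(L).) -/
theorem result (k : Type u) [Field k] (X : Over (Spec (CommRingCat.of k)))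
    [GrpObj X] [IsProper X.hom] [GeometricallyIntegral X.hom] (L : X.left.Modules) (hL : PicF.IsInvertible L)
    (K : Over (Spec (CommRingCat.of k))) (i : K ⟶ X) (hK : ThetaGrp.IsKL X L i)
    (B : Over (Spec (CommRingCat.of k))) [GrpObj B] (j : B ⟶ X) [IsMonHom j] (hj : ∃ y : B ⟶ K, y ≫ i = j) :
    Nonempty (CohB1.tensorMod ((Scheme.Modules.pullback j.left).obj L)
        ((Scheme.Modules.pullback ((𝟙 B)⁻¹ ≫ j).left).obj L) ≅ Coh.structureModule B.left) := by
  have hx := GrothLib.Cube.hasCls_clsMod hL
  have h := (GrothLib.KL.factors_iff hx hK j).1 hj
  have h2 := congrArg (GrothLib.Cube.pull (lift ((𝟙 B)⁻¹ ≫ j) (𝟙 B)).left) h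
  rw [map_one, GrothLib.KL.mc, GrothLib.Cube.pull_addClass, lift_fst, lift_snd_assoc, Category.id_comp,
    GrothLib.Cube.addClass, GrpObj.inv_comp, Category.id_comp, inv_mul_cancel, GrothLib.Cube.pull_one_hom,
    _root_.one_mul, inv_eq_one] at h2
  refine ((hx.pullback j.left).tensor (hx.pullback ((𝟙 B)⁻¹ ≫ j).left)).iso
    (GrothLib.Cube.hasCls_structureModule _) ?_
  rw [GrpObj.inv_comp, Category.id_comp, mul_comm]
  exact h2

end Groth.Agent.S19770
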