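import Groth.Statements.S19775
-- import your own Groth.Agent.* helpers here
import Groth.Agent.Lib.Poincare.Mumford
import Groth.Agent.Lib.Poincare.KL

set_option autoImplicit false
universe u
open CategoryTheory MonoidalCategory CartesianMonoidalCategory MonObj GrpObj AlgebraicGeometry
open AbVar

namespace Groth.Agent.S19775

/-- Let X be an abelian variety over a field k (a proper, geometrically integral k-group scheme), (X^t,
φ) a given dual abelian variety of X for the fppf topology (φ sends classes of modules on X ×_k T
algebraically trivial on the geometric fibres to T-valued points of X^t), L an invertible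
O_X-module, and λ : X → X^t the homomorphism φ_L attached to L through φ (the X-valued point of X^t
that φ assigns to the class of an invertible module N on X ×_k X with N ⊗ p_1^*L ⊗ p_2^*L ≅ m^*L, a
Mumford module of L). Let i : K → X be a closed immersion exhibiting K as K(L) (the maximal closed
subscheme over which the Mumford bundle, restricted to X ×_k K, is the inverse image of an
invertible module on K, with its universal property). Then K(L) is the kernel of φ_L: the square
with sides i, K → Spec k, λ and the unit Spec k → X^t is cartesian. (The published statement makes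
this assertion for L ample, together with φ_L being an isogeny and the dimension count for the dual;
the kernel identification is the translation description of the points of K(L) read through the
Picard functor and holds for every invertible L, as stated here; the isogeny and dimension
assertions are not part of this row.) -/
theorem result (k : Type u) [Field k] (X Xt : Over (Spec (CommRingCat.of k)))
    [GrpObj X] [IsProper X.hom] [GeometricallyIntegral X.hom]
    [GrpObj Xt] [IsProper Xt.hom] [GeometricallyIntegral Xt.hom]
    (φ : ∀ T : Over (Spec (CommRingCat.of k)), PicF.Cl (PicF.XT X.hom T) → (T ⟶ Xt))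
    (hφ : AbDual.IsDualAV Scheme.fppfPrecoverage X Xt φ)
    (L : X.left.Modules) (hL : PicF.IsInvertible L) (lam : X ⟶ Xt) (hlam : AgPol.IsLambda X Xt φ L lam)
    (K : Over (Spec (CommRingCat.of k))) (i : K ⟶ X) (hK : ThetaGrp.IsKL X L i) :
    AlgGrp.IsKernel i lam := by
  haveI : GeometricallyConnected X.hom := GrothLib.Rigidity.geometricallyConnected_of_geometricallyIrreducible X.hom
  haveI : Flat X.hom := inferInstance
  haveI : LocallyOfFinitePresentation X.hom := inferInstance
  obtain ⟨N, hN, hΛ, hlamN⟩ := hlam
  subst hlamN
  have hn := GrothLib.Cube.hasCls_clsMod hN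
  set n : GrothLib.Cube.Pic (X ⊗ X).left := GrothLib.Cube.clsMod hN
  have hx := GrothLib.Cube.hasCls_clsMod hL
  set x : GrothLib.Cube.Pic X.left := GrothLib.Cube.clsMod hL
  have hneq : n * GrothLib.Cube.pull (fst X X).left x * GrothLib.Cube.pull (snd X X).left x =
      GrothLib.Cube.pull (μ[X]).left x :=
    ((hn.tensor (hx.pullback _)).tensor (hx.pullback _)).eq (hx.pullback _) hΛ
  have hpz := GrothLib.Dual.pz_mumford hneq
  have key : ∀ (T : Over (Spec (CommRingCat.of k))) (z : T ⟶ X),
      GrothLib.Cube.pull (X ◁ z).left n = GrothLib.KL.mc x z := by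
    intro T z
    have e := congrArg (GrothLib.Cube.pull (X ◁ z).left) hneq
    rw [map_mul, map_mul, GrothLib.CubeRel26.pull_pull_over, GrothLib.CubeRel26.pull_pull_over,
      GrothLib.CubeRel26.pull_pull_over, whiskerLeft_fst, whiskerLeft_snd, GrothLib.KL.whisker_comp_mul,
      _root_.mul_assoc] at e
    rw [GrothLib.KL.mc_eq, ← e, mul_inv_cancel_right]
  have hiff : ∀ (T : Over (Spec (CommRingCat.of k))) (z : T ⟶ X),
      z ≫ φ X (PicF.cl N) = 1 ↔ GrothLib.KL.mc x z = 1 := by
    intro T z
    rw [GrothLib.Dual.dphi_eq (φ := φ) hn, ← GrothLib.Dual.dphi_pull hφ hpz, key]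
    refine ⟨fun h => GrothLib.Dual.eq_one_of_dphi hφ ?_ (GrothLib.KL.pull_sec_mc x z) h,
      fun h => by rw [h, GrothLib.Dual.dphi_one hφ]⟩
    rw [← key]
    exact hpz.pullT z
  haveI : IsClosedImmersion i.left := hK.closed
  haveI : Mono i := Over.mono_of_mono_left i
  have h1 : i ≫ φ X (PicF.cl N) = toUnit K ≫ η[Xt] := by
    rw [← Hom.one_def]
    exact (hiff K i).2 (GrothLib.KL.mc_incl hx hK)
  refine IsPullback.of_isLimit' ⟨h1⟩ (Limits.PullbackCone.IsLimit.mk _ (fun s => ?_) (fun s => ?_) (fun s => ?_) (fun s m h₁ _ => ?_))
  · exact ((GrothLib.KL.factors_iff hx hK s.fst).2 ((hiff _ s.fst).1 (s.condition.trans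
      (by rw [Subsingleton.elim s.snd (toUnit _), ← Hom.one_def])))).choose
  · exact ((GrothLib.KL.factors_iff hx hK s.fst).2 ((hiff _ s.fst).1 (s.condition.trans
      (by rw [Subsingleton.elim s.snd (toUnit _), ← Hom.one_def])))).choose_spec
  · exact Subsingleton.elim _ _
  · rw [← cancel_mono i]
    exact h₁.trans ((GrothLib.KL.factors_iff hx hK s.fst).2 ((hiff _ s.fst).1 (s.condition.trans
      (by rw [Subsingleton.elim s.snd (toUnit _), ← Hom.one_def])))).choose_spec.symm

end Groth.Agent.S19775
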