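import Groth.Statements.S19778
import Mathlib
import Groth.Agent.Lib.DenseProj1.Henselian
import Groth.Agent.Lib.AdicFS.Completion
-- import your own Groth.Agent.* helpers here

set_option autoImplicit false
universe u
open TensorProduct
open CAlg

namespace Groth.Agent.S19778

/-- For general linear groups, in the case A[1/t] → Â[1/t], let A be a commutative ring and t ∈ A with
(A, tA) a Henselian pair and the t-power torsion of A bounded, let Â be the t-adic completion and
give Â[1/t] the A[1/t]-algebra structure of the canonical map. Then every finitely generated
projective Â[1/t]-module is the base change of a finitely generated projective A[1/t]-module. (The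
published statement is the bijection H¹(A[1/t], G) ≅ H¹(Â[1/t], G) for every quasi-affine smooth
group G; this row is the case of the general linear groups, stated as essential surjectivity of base
change on finitely generated projective modules of arbitrary rank.) -/
theorem result (A : Type u) [CommRing A]
    (t : A) [HenselianRing A (Ideal.span {t})]
    (hbd : ∃ N : ℕ, ∀ a : A, (∃ m : ℕ, t ^ m * a = 0) → t ^ N * a = 0)
    [Algebra (Localization.Away t) (Localization.Away (algebraMap A (AdicCompletion (Ideal.span {t}) A) t))]
    (halg : algebraMap (Localization.Away t) (Localization.Away (algebraMap A (AdicCompletion (Ideal.span {t}) A) t)) = Localization.awayMap (algebraMap A (AdicCompletion (Ideal.span {t}) A)) t)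
    (M' : Type u) [AddCommGroup M'] [Module (Localization.Away (algebraMap A (AdicCompletion (Ideal.span {t}) A) t)) M']
    [Module.Finite (Localization.Away (algebraMap A (AdicCompletion (Ideal.span {t}) A) t)) M'] [Module.Projective (Localization.Away (algebraMap A (AdicCompletion (Ideal.span {t}) A) t)) M'] :
    ∃ (M : Type u) (_ : AddCommGroup M) (_ : Module (Localization.Away t) M),
      Module.Finite (Localization.Away t) M ∧ Module.Projective (Localization.Away t) M ∧
      Nonempty ((Localization.Away (algebraMap A (AdicCompletion (Ideal.span {t}) A) t)) ⊗[Localization.Away t] M ≃ₗ[Localization.Away (algebraMap A (AdicCompletion (Ideal.span {t}) A) t)] M') := by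
  haveI := AdicCompletion.isAdicComplete_self (Ideal.span {t}) (Submodule.fg_span_singleton t)
  exact GrothLib.DenseProj1.exists_projective (L := Localization.Away t)
    (L' := Localization.Away (algebraMap A (AdicCompletion (Ideal.span {t}) A) t))
    (f := algebraMap A (AdicCompletion (Ideal.span {t}) A)) (t := t)
    (fun a => (RingHom.congr_fun halg _).trans (IsLocalization.map_eq _ a))
    (fun m y => by
      obtain ⟨a, ha⟩ := GrothLib.AdicFS.exists_sub_mem_map_pow (Submodule.fg_span_singleton t) m y
      rw [Ideal.map_span, Set.image_singleton, Ideal.span_singleton_pow, Ideal.mem_span_singleton] at ha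
      exact ⟨a, ha⟩)
    (fun m a h => by
      have h2 : algebraMap A (AdicCompletion (Ideal.span {t}) A) a ∈
          (Ideal.span {t}).map (algebraMap A (AdicCompletion (Ideal.span {t}) A)) ^ m := by
        rwa [Ideal.map_span, Set.image_singleton, Ideal.span_singleton_pow, Ideal.mem_span_singleton]
      rw [GrothLib.AdicFS.mem_map_pow_iff (Submodule.fg_span_singleton t), AlgHom.commutes,
        Ideal.Quotient.algebraMap_eq, Ideal.Quotient.eq_zero_iff_mem, Ideal.span_singleton_pow,
        Ideal.mem_span_singleton] at h2
      exact h2)
    (IsAdicComplete.le_jacobson_bot ((Ideal.span {t}).map (algebraMap A (AdicCompletion (Ideal.span {t}) A)))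
      (Ideal.mem_map_of_mem _ (Ideal.mem_span_singleton_self t))) M'

end Groth.Agent.S19778
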