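import Groth.Statements.S19781
import Groth.Agent.Lib.ZPairVB28.Algebra
import Groth.Agent.Lib.ZPairVB28.Punc
import Groth.Agent.Lib.GLSlice.LevelFlat
import Groth.Agent.Lib.ASBun21.HorrocksGen
import Groth.Agent.Lib.Euler.Coh

set_option autoImplicit false
set_option backward.isDefEq.respectTransparency false
set_option linter.style.haveILetI false
universe u
open CategoryTheory AlgebraicGeometry
open Coherent
open scoped TensorProduct

namespace Groth.Agent.S19781

/-- Let A → A' be a homomorphism of Noetherian rings and J ⊂ A an ideal such that J and JA' lie in the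
Jacobson radicals of A and A' (Zariski pairs) and A/J^n → A'/J^nA' is bijective for all n, and let U
⊂ Spec A be an open containing Spec A ∖ V(J), with g : U_{A'} → U the base change of Spec A' → Spec
A. Then two finite locally free O_U-modules of rank n whose pullbacks along g are isomorphic are
isomorphic: H¹(U, GL_n) → H¹(U_{A'}, GL_n) is injective. -/
theorem result (A A' : Type u) [CommRing A] [CommRing A']
    [IsNoetherianRing A] [IsNoetherianRing A'] (φ : A →+* A') (J : Ideal A)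
    (hJ : J ≤ (⊥ : Ideal A).jacobson) (hJ' : J.map φ ≤ (⊥ : Ideal A').jacobson)
    (hq : ∀ n : ℕ, Function.Bijective (Ideal.quotientMap (Ideal.map φ (J ^ n)) φ Ideal.le_comap_map))
    (U : (Spec (CommRingCat.of A)).Opens)
    (hU : ∀ p : PrimeSpectrum A, ¬ J ≤ p.asIdeal → p ∈ U)
    (n : ℕ) (E₁ E₂ : (U : Scheme.{u}).Modules)
    (h₁ : FlatMod.IsFinLocFreeOfRank n E₁) (h₂ : FlatMod.IsFinLocFreeOfRank n E₂)
    (hiso : Nonempty ((Scheme.Modules.pullback ((Spec.map (CommRingCat.ofHom φ)) ∣_ U)).obj E₁ ≅ (Scheme.Modules.pullback ((Spec.map (CommRingCat.ofHom φ)) ∣_ U)).obj E₂)) :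
    Nonempty (E₁ ≅ E₂) := by
  classical
  obtain ⟨𝔞, rfl⟩ : ∃ 𝔞 : Ideal A, U = LocCoh.puncturedOpen A 𝔞 := by
    refine ⟨PrimeSpectrum.vanishingIdeal (show Set (PrimeSpectrum A) from U.carrierᶜ), TopologicalSpace.Opens.ext ?_⟩
    show U.carrier = (PrimeSpectrum.zeroLocus (R := A) _)ᶜ
    rw [PrimeSpectrum.zeroLocus_vanishingIdeal_eq_closure, show closure (show Set (PrimeSpectrum A) from U.carrierᶜ) = U.carrierᶜ from U.isOpen.isClosed_compl.closure_eq, compl_compl]
  letI : Algebra A A' := φ.toAlgebra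
  have hsurj : ∀ (n : ℕ) (b : A'), ∃ a : A, b - algebraMap A A' a ∈ (J ^ n).map (algebraMap A A') := by
    intro n b
    obtain ⟨z, hz⟩ := (hq n).2 (Ideal.Quotient.mk _ b)
    obtain ⟨a, rfl⟩ := Ideal.Quotient.mk_surjective z
    rw [Ideal.quotientMap_mk] at hz
    exact ⟨a, Ideal.Quotient.eq.1 hz.symm⟩
  have hinj : ∀ (n : ℕ) (a : A), algebraMap A A' a ∈ (J ^ n).map (algebraMap A A') → a ∈ J ^ n := by
    intro n a ha
    refine Ideal.Quotient.eq_zero_iff_mem.1 ((hq n).1 ?_)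
    rw [Ideal.quotientMap_mk, map_zero]
    exact Ideal.Quotient.eq_zero_iff_mem.2 ha
  haveI : Module.Flat A A' := GrothLib.GLSlice.flat_of_quotient_pow_bijective J hJ' hsurj hinj
  let 𝔟 : Ideal A' := 𝔞.map φ
  have hVb : Spec.map (CommRingCat.ofHom φ) ⁻¹ᵁ LocCoh.puncturedOpen A 𝔞 = LocCoh.puncturedOpen A' 𝔟 := by
    refine TopologicalSpace.Opens.ext (Set.ext fun x => ?_)
    show ¬ ((𝔞 : Set A) ⊆ (x.asIdeal.comap φ : Ideal A)) ↔ ¬ ((𝔟 : Set A') ⊆ x.asIdeal)
    rw [SetLike.coe_subset_coe, SetLike.coe_subset_coe]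
    exact not_congr Ideal.map_le_iff_le_comap.symm
  have H : ∀ (V : (Spec (CommRingCat.of A')).Opens) (g : (V : Scheme.{u}) ⟶ (LocCoh.puncturedOpen A 𝔞 : Scheme.{u}))
      (_ : g ≫ (LocCoh.puncturedOpen A 𝔞).ι = V.ι ≫ Spec.map (CommRingCat.ofHom (algebraMap A A')))
      (_ : V = LocCoh.puncturedOpen A' 𝔟)
      (F₁ F₂ : (LocCoh.puncturedOpen A 𝔞 : Scheme.{u}).Modules),
      FlatMod.IsFinLocFreeOfRank n F₁ → FlatMod.IsFinLocFreeOfRank n F₂ →
      Nonempty ((Scheme.Modules.pullback g).obj F₁ ≅ (Scheme.Modules.pullback g).obj F₂) →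
      Nonempty (F₁ ≅ F₂) := by
    rintro V g hg rfl F₁ F₂ hF₁ hF₂ ⟨θ⟩
    have hc : ∀ F : (LocCoh.puncturedOpen A 𝔞 : Scheme.{u}).Modules, FlatMod.IsFinLocFreeOfRank n F → Coh.IsCoh F :=
      fun F hF => GrothLib.Euler.isCoh_of_isFinLocFree fun x => by
        obtain ⟨W, hx, hW⟩ := hF x
        exact ⟨W, n, hx, hW⟩
    obtain ⟨N₁, hN₁⟩ := GrothLib.PuncSys7.exists_good (hc F₁ hF₁)
    obtain ⟨N₂, hN₂⟩ := GrothLib.PuncSys7.exists_good (hc F₂ hF₂)
    haveI := hN₁.2
    haveI := hN₂.2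
    haveI : Module.Finite A N₁ := Module.Finite.iff_fg.2 hN₁.1
    haveI : Module.Finite A N₂ := Module.Finite.iff_fg.2 hN₂.1
    let e₁ : (GrothLib.Punctured.puncFun 𝔞).obj (ModuleCat.of A N₁) ≅ F₁ :=
      asIso ((GrothLib.Punctured.puncFun 𝔞).map (GrothLib.PuncSys7.incl N₁) ≫ GrothLib.PuncSys7.scounit F₁)
    let e₂ : (GrothLib.Punctured.puncFun 𝔞).obj (ModuleCat.of A N₂) ≅ F₂ :=
      asIso ((GrothLib.Punctured.puncFun 𝔞).map (GrothLib.PuncSys7.incl N₂) ≫ GrothLib.PuncSys7.scounit F₂)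
    obtain ⟨b₁⟩ := GrothLib.ZPairVB28.nonempty_pullback_puncFun _ g hg N₁
    obtain ⟨b₂⟩ := GrothLib.ZPairVB28.nonempty_pullback_puncFun _ g hg N₂
    let M₁ : ModuleCat.{u} A' := ModuleCat.of A' (A' ⊗[A] N₁)
    let M₂ : ModuleCat.{u} A' := ModuleCat.of A' (A' ⊗[A] N₂)
    let P := (GrothLib.Punctured.puncFun 𝔟).obj M₂
    haveI : P.IsQuasicoherent := @Scheme.Modules.isQuasicoherent_restrictFunctor _ _
      (LocCoh.puncturedOpen A' 𝔟).ι _ ((tilde.functor (CommRingCat.of A')).obj M₂) (inferInstanceAs (tilde (R := CommRingCat.of A') M₂).IsQuasicoherent)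
    let θ' : (GrothLib.Punctured.puncFun 𝔟).obj M₁ ≅ P :=
      b₁ ≪≫ (Scheme.Modules.pullback g).mapIso e₁ ≪≫ θ ≪≫ ((Scheme.Modules.pullback g).mapIso e₂).symm ≪≫ b₂.symm
    let φ₁ := (GrothLib.ZPairVB28.sectLift θ'.hom).hom
    let φ₂ := (GrothLib.ZPairVB28.sectLift (Iso.refl P).hom).hom
    have t₁ := GrothLib.ZPairVB28.torsion_sectLift θ'
    have t₂ := GrothLib.ZPairVB28.torsion_sectLift (Iso.refl P)
    have hN₂tf : ∀ x : N₂, (∀ r ∈ 𝔞, r • x = 0) → x = 0 := fun x hx =>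
      Subtype.ext (GrothLib.ZPairVB28.eq_zero_of_smul_gsec x.1 fun r hr => congrArg Subtype.val (hx r hr))
    have hφ₂ : Function.Injective φ₂ := by
      refine (injective_iff_map_eq_zero φ₂).2 fun x hx => ?_
      obtain ⟨m, hm⟩ := t₂.1 x hx
      induction m generalizing x with
      | zero => simpa using hm 1 (by simp)
      | succ m ih =>
        refine GrothLib.ZPairVB28.torsionFree_baseChange 𝔞 N₂ hN₂tf x fun r hr => ?_
        refine ih _ ?_ fun s hs => ?_
        · rw [map_smul, hx, smul_zero]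
        · rw [smul_smul]
          refine hm _ ?_
          rw [pow_succ]
          exact Ideal.mul_mem_mul hs (Ideal.mem_map_of_mem φ hr)
    obtain ⟨S₁, hS₁⟩ := Module.Finite.fg_top (R := A) (M := N₁)
    choose m₁ hm₁ using fun x : N₁ => t₂.2 (φ₁ ((1 : A') ⊗ₜ[A] x))
    let k := S₁.sup m₁
    have hk : ∀ s ∈ 𝔞 ^ k, ∀ x : N₁, φ₁ ((1 : A') ⊗ₜ[A] (s • x)) ∈ LinearMap.range φ₂ := by
      intro s hs x
      have hx : x ∈ Submodule.span A (S₁ : Set N₁) := hS₁ ▸ trivial
      induction hx using Submodule.span_induction with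
      | mem z hz =>
        rw [TensorProduct.tmul_smul, ← algebraMap_smul A' s, map_smul]
        refine hm₁ z _ ?_
        refine Ideal.pow_le_pow_right (Finset.le_sup hz) ?_
        rw [← Ideal.map_pow]
        exact Ideal.mem_map_of_mem φ hs
      | zero => rw [smul_zero, TensorProduct.tmul_zero, map_zero]; exact zero_mem _
      | add a b _ _ ha hb => rw [smul_add, TensorProduct.tmul_add, map_add]; exact add_mem ha hb
      | smul c a _ ha =>
        rw [smul_comm, TensorProduct.tmul_smul, ← algebraMap_smul A' c, map_smul]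
        exact Submodule.smul_mem _ _ ha
    let L : Submodule A N₁ := 𝔞 ^ k • ⊤
    let i : A' ⊗[A] L →ₗ[A'] A' ⊗[A] N₁ := L.subtype.baseChange A'
    have hi : ∀ w, φ₁ (i w) ∈ LinearMap.range φ₂ := by
      intro w
      induction w using TensorProduct.induction_on with
      | zero => rw [map_zero, map_zero]; exact zero_mem _
      | tmul b z =>
        have hz : φ₁ ((1 : A') ⊗ₜ[A] z.1) ∈ LinearMap.range φ₂ := by
          refine Submodule.smul_induction_on z.2 (fun s hs x _ => hk s hs x) fun a b ha hb => ?_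
          rw [TensorProduct.tmul_add, map_add]
          exact add_mem ha hb
        have e : i (b ⊗ₜ[A] z) = b • ((1 : A') ⊗ₜ[A] z.1) := by
          simp [i, TensorProduct.smul_tmul']
        rw [e, map_smul]
        exact Submodule.smul_mem _ _ hz
      | add w w' hw hw' => rw [map_add, map_add]; exact add_mem hw hw'
    let h : A' ⊗[A] L →ₗ[A'] A' ⊗[A] N₂ :=
      (LinearEquiv.ofInjective φ₂ hφ₂).symm.toLinearMap ∘ₗ (φ₁ ∘ₗ i).codRestrict (LinearMap.range φ₂) hi
    have hh : ∀ w, φ₂ (h w) = φ₁ (i w) := fun w =>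
      congrArg Subtype.val ((LinearEquiv.ofInjective φ₂ hφ₂).apply_symm_apply ⟨φ₁ (i w), hi w⟩)
    obtain ⟨S₂, hS₂⟩ := Module.Finite.fg_top (R := A) (M := N₂)
    choose m₂ hm₂ using fun y : N₂ => t₁.2 (φ₂ ((1 : A') ⊗ₜ[A] y))
    let l := k + S₂.sup m₂
    have hik : ∀ s ∈ 𝔞 ^ k, ∀ w, algebraMap A A' s • w ∈ LinearMap.range i := by
      intro s hs w
      induction w using TensorProduct.induction_on with
      | zero => rw [smul_zero]; exact zero_mem _
      | tmul b x =>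
        refine ⟨b ⊗ₜ[A] ⟨s • x, Submodule.smul_mem_smul hs trivial⟩, ?_⟩
        simp [i, TensorProduct.tmul_smul]
      | add w w' hw hw' => rw [smul_add]; exact add_mem hw hw'
    have hm₂' : ∀ t ∈ 𝔞 ^ S₂.sup m₂, ∀ y : N₂,
        algebraMap A A' t • φ₂ ((1 : A') ⊗ₜ[A] y) ∈ LinearMap.range φ₁ := by
      intro t ht y
      have hy : y ∈ Submodule.span A (S₂ : Set N₂) := hS₂ ▸ trivial
      induction hy using Submodule.span_induction with
      | mem z hz =>
        refine hm₂ z _ ?_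
        refine Ideal.pow_le_pow_right (Finset.le_sup hz) ?_
        rw [← Ideal.map_pow]
        exact Ideal.mem_map_of_mem φ ht
      | zero => rw [TensorProduct.tmul_zero, map_zero, smul_zero]; exact zero_mem _
      | add a b _ _ ha hb => rw [TensorProduct.tmul_add, map_add, smul_add]; exact add_mem ha hb
      | smul c a _ ha =>
        rw [TensorProduct.tmul_smul, ← algebraMap_smul A' c, map_smul, smul_comm]
        exact Submodule.smul_mem _ _ ha
    have hl : ∀ r ∈ 𝔞 ^ l, ∀ y : N₂, ∃ w, h w = algebraMap A A' r • ((1 : A') ⊗ₜ[A] y) := by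
      intro r hr y
      suffices algebraMap A A' r • ((1 : A') ⊗ₜ[A] y) ∈ LinearMap.range h from this
      rw [show l = k + S₂.sup m₂ from rfl, pow_add] at hr
      refine Submodule.mul_induction_on hr (fun s hs t ht => ?_) fun a b ha hb => ?_
      · obtain ⟨w, hw⟩ := hm₂' t ht y
        obtain ⟨w', hw'⟩ := hik s hs w
        refine ⟨w', hφ₂ ?_⟩
        rw [hh, hw', map_smul, map_smul, hw, map_mul, mul_smul]
      · rw [map_add, add_smul]
        exact add_mem ha hb
    have hrad : J ≤ (𝔞 ^ l).radical := by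
      rw [Ideal.radical_eq_sInf]
      refine le_sInf fun p hp => ?_
      by_contra hJp
      exact hU ⟨p, hp.2⟩ hJp (SetLike.coe_subset_coe.2 (hp.2.le_of_pow_le hp.1))
    obtain ⟨N, hN⟩ := Ideal.exists_pow_le_of_le_radical_of_fg hrad (IsNoetherian.noetherian J)
    haveI : Module.Finite A L := Module.Finite.iff_fg.2 (IsNoetherian.noetherian L)
    obtain ⟨γ, hγ⟩ := GrothLib.ZPairVB28.exists_hom_of_baseChange (n := N + 1) hJ
      (by rw [pow_succ']; exact Ideal.mul_mono_right hN) (hsurj _) (hinj _) h hl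
    haveI := GrothLib.ZPairVB28.epi_puncFun (𝔞 := 𝔞) (ModuleCat.ofHom γ) hγ
    haveI := GrothLib.PuncSys7.isIso_puncFun_incl (𝔞 := 𝔞) (S := ModuleCat.of A N₁) (le_top : L ≤ ⊤) (m := k)
      (fun r hr x _ => Submodule.smul_mem_smul hr trivial)
    let e₀ : (GrothLib.Punctured.puncFun 𝔞).obj (ModuleCat.of A L) ≅ F₁ :=
      asIso ((GrothLib.Punctured.puncFun 𝔞).map (ModuleCat.ofHom (Submodule.inclusion (le_top : L ≤ ⊤)))) ≪≫
        (GrothLib.Punctured.puncFun 𝔞).mapIso (LinearEquiv.toModuleIso Submodule.topEquiv) ≪≫ e₁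
    let τ : F₁ ⟶ F₂ := e₀.inv ≫ (GrothLib.Punctured.puncFun 𝔞).map (ModuleCat.ofHom γ) ≫ e₂.hom
    haveI : Epi τ := by infer_instance
    haveI := GrothLib.ASBun21.HorrocksGen.isIso_of_epi_rank hF₁ hF₂ τ
    exact ⟨asIso τ⟩
  exact H _ _ (morphismRestrict_ι _ _) hVb E₁ E₂ h₁ h₂ hiso

end Groth.Agent.S19781
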