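import Groth.Statements.S19782
import Groth.Agent.S12643
import Groth.Agent.S2265
import Groth.Agent.Lib.PicElkik1.Sim
import Groth.Agent.Lib.PicElkik1.Descend
import Groth.Agent.Lib.Punctured.CoherentCohom
import Groth.Agent.Lib.Euler.Coh
import Groth.Agent.Lib.FinCov.Frame
import Groth.Agent.Lib.TensorGen.Det
import Groth.Agent.Lib.DescLocus6.Family
import Groth.Agent.Lib.FreePush6.Main
import Groth.Agent.Lib.OX.OneDegLocus
import Groth.Agent.Lib.K0Sub.RankNilp
import Mathlib
-- import your own Groth.Agent.* helpers here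

set_option autoImplicit false
universe u
open CategoryTheory AlgebraicGeometry
open Coherent

namespace Groth.Agent.S19782

open GrothLib GrothLib.PicElkik1
open scoped TensorProduct

/-- Stalkwise freeness from local freeness of a restriction. -/
theorem nonempty_localized_of_finLocFree {R : CommRingCat.{u}} {M : ModuleCat.{u} R} (U : (Spec R).Opens)
    (L : (U : Scheme.{u}).Modules) {n : ℕ} (hL : FlatMod.IsFinLocFreeOfRank n L)
    (e : (Scheme.Modules.restrictFunctor U.ι).obj (tilde M) ≅ L) (x : Spec R) (hx : x ∈ U) :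
    Nonempty (LocalizedModule x.asIdeal.primeCompl M ≃ₗ[Localization.AtPrime x.asIdeal]
        (Fin n → Localization.AtPrime x.asIdeal)) := by
  obtain ⟨V, s, hxV, hs⟩ := FinCov.exists_frame_nhd_of_rank hL ⟨x, hx⟩
  have hs' := DescLocus6.isFrame_of_restrict' U.ι (FreePush6.isFrame_map e.inv hs)
  exact (RLpsi8.RankOne.basis_stalk_iff M x n).1 (Euler.stalk_basis_of_frame hs' ⟨⟨x, hx⟩, hxV, rfl⟩)

/-- A module with free localizations of rank `n` on an open is locally free of rank `n` there. -/
theorem isFinLocFreeOfRank_restrict_tilde {R : CommRingCat.{u}} [IsNoetherianRing R] {M : ModuleCat.{u} R}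
    [Module.Finite R M] (U : (Spec R).Opens) {n : ℕ}
    (h : ∀ x ∈ U, Nonempty (LocalizedModule x.asIdeal.primeCompl M ≃ₗ[Localization.AtPrime x.asIdeal]
        (Fin n → Localization.AtPrime x.asIdeal))) :
    FlatMod.IsFinLocFreeOfRank n ((Scheme.Modules.restrictFunctor U.ι).obj (tilde M)) := by
  haveI : Module.FinitePresentation R M := Module.finitePresentation_of_finite _ _
  haveI : CohB1.IsFP (tilde M) := LocFree8.isFP_tilde M
  have hcoh : Coh.IsCoh (tilde M) := ⟨inferInstance, inferInstanceAs (SheafOfModules.IsFiniteType (R := (Spec R).ringCatSheaf) (tilde M))⟩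
  refine OX.isFinLocFreeOfRank_of_local fun y => ?_
  obtain ⟨b⟩ := (RLpsi8.RankOne.basis_stalk_iff M y.1 n).2 (h y.1 y.2)
  obtain ⟨D, s, hyD, hs⟩ := Euler.exists_frame_of_stalk_basis hcoh b
  have hDU : D ⊓ U ≤ U := inf_le_right
  obtain ⟨φ⟩ := FinCov.exists_iso_of_frame (TensorGen.isFrame_restrict hs (inf_le_left : D ⊓ U ≤ D))
  refine ⟨_, (Spec R).homOfLE hDU, inferInstance, ⟨⟨y.1, hyD, y.2⟩, Subtype.ext (Scheme.homOfLE_apply hDU _)⟩,
    OX.isFinLocFreeOfRank_of_iso ?_ (K0Sub.isFinLocFreeOfRank_freeMod n)⟩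
  exact φ.symm ≪≫ ((Scheme.Modules.restrictFunctorCongr ((Spec R).homOfLE_ι hDU).symm ≪≫
    Scheme.Modules.restrictFunctorComp ((Spec R).homOfLE hDU) U.ι).app (tilde M))

/-- Let A → A' be a homomorphism of Noetherian rings and J ⊂ A an ideal with (A, J) and (A', JA')
Henselian pairs such that A/J^n → A'/J^nA' is bijective for all n, and let U ⊂ Spec A be an open
containing Spec A ∖ V(J), with g : U_{A'} → U the base change of Spec A' → Spec A. Then every finite
locally free module of rank n on U_{A'} is isomorphic to g^*E for some finite locally free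
O_U-module E of rank n: H¹(U, GL_n) → H¹(U_{A'}, GL_n) is surjective. (The published statement is
the bijection H¹(U, G) ≅ H¹(U_{A'}, G) for every quasi-affine smooth U-group G; this row is its
surjectivity half for the general linear groups.) -/
theorem result (A A' : Type u) [CommRing A] [CommRing A']
    [IsNoetherianRing A] [IsNoetherianRing A'] (φ : A →+* A') (J : Ideal A)
    [HenselianRing A J] [HenselianRing A' (J.map φ)]
    (hq : ∀ n : ℕ, Function.Bijective (Ideal.quotientMap (Ideal.map φ (J ^ n)) φ Ideal.le_comap_map))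
    (U : (Spec (CommRingCat.of A)).Opens)
    (hU : ∀ p : PrimeSpectrum A, ¬ J ≤ p.asIdeal → p ∈ U)
    (n : ℕ) (E' : (↑((Spec.map (CommRingCat.ofHom φ)) ⁻¹ᵁ U) : Scheme.{u}).Modules)
    (hE' : FlatMod.IsFinLocFreeOfRank n E') :
    ∃ E : (U : Scheme.{u}).Modules, FlatMod.IsFinLocFreeOfRank n E ∧
      Nonempty ((Scheme.Modules.pullback ((Spec.map (CommRingCat.ofHom φ)) ∣_ U)).obj E ≅ E') := by
  classical
  letI : Algebra A A' := φ.toAlgebra
  obtain ⟨ι, hι, hιflat⟩ := exists_map_completion φ J hq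
  letI : Algebra A' (AdicCompletion J A) := ι.toAlgebra
  haveI : IsScalarTower A A' (AdicCompletion J A) := IsScalarTower.of_algebraMap_eq fun a => (hι a).symm
  haveI : Module.Flat A' (AdicCompletion J A) := RingHom.flat_algebraMap_iff.1 hιflat
  haveI : IsNoetherianRing (AdicCompletion J A) := GrothLib.AdicExtra.isNoetherianRing_adicCompletion J
  haveI : IsNoetherianRing ↑(CommRingCat.of A) := inferInstanceAs (IsNoetherianRing A)
  haveI : IsNoetherianRing ↑(CommRingCat.of A') := inferInstanceAs (IsNoetherianRing A')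
  let g := Spec.map (CommRingCat.ofHom φ)
  let U' : (Spec (CommRingCat.of A')).Opens := g ⁻¹ᵁ U
  haveI : IsLocallyNoetherian (U' : Scheme.{u}) := isLocallyNoetherian_of_isOpenImmersion U'.ι
  obtain ⟨M', hM', ⟨eF⟩⟩ := Punctured.exists_finite_restrict_tilde_iso U' E'
    (Euler.isCoh_of_isFinLocFree fun x => (hE' x).elim fun W hW => ⟨W, n, hW⟩)
  haveI : Module.Finite A' M' := hM'
  let SU : Set (PrimeSpectrum A) := (U : Set (Spec (CommRingCat.of A)))
  obtain ⟨K, hK⟩ : ∃ K : Ideal A, K = PrimeSpectrum.vanishingIdeal SUᶜ := ⟨_, rfl⟩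
  have hJK : J ≤ K := fun x hx => by
    rw [hK, PrimeSpectrum.mem_vanishingIdeal]
    intro p hp
    by_contra hxp
    exact hp (hU p fun hJp => hxp (hJp hx))
  have hmemU : ∀ q : PrimeSpectrum A, q ∈ SU ↔ ¬ K ≤ q.asIdeal := fun q => by
    have h1 : PrimeSpectrum.zeroLocus (K : Set A) = SUᶜ := by
      rw [hK, PrimeSpectrum.zeroLocus_vanishingIdeal_eq_closure]
      exact (U.isOpen.isClosed_compl).closure_eq
    exact ⟨fun h hle => (h1.le hle : q ∈ SUᶜ) h, fun h => by_contra fun h' => h (h1.ge h')⟩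
  have hM'free : ∀ p' ∈ U', ∃ (t : A') (ψ : (Fin n → A') →ₗ[A'] M') (χ : M' →ₗ[A'] (Fin n → A')),
      t ∉ p'.asIdeal ∧ SimAt t ψ χ := fun p' hp' => by
    obtain ⟨ee⟩ := nonempty_localized_of_finLocFree U' E' hE' eF p' hp'
    haveI : Module.FinitePresentation A' M' := Module.finitePresentation_of_finite _ _
    obtain ⟨t, ht, ψ, χ, h⟩ := exists_simAt_free p'.asIdeal ee
    exact ⟨t, ψ, χ, ht, h⟩
  obtain ⟨M, _, _, _, _, hMfree, ⟨e⟩⟩ := Groth.Agent.S12643.result A A J J (by simp) K hJK
    (AdicCompletion J A ⊗[A'] M') fun p hp hKp => by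
    obtain ⟨t, ψ, χ, ht, h⟩ := hM'free ⟨p.comap ι, inferInstance⟩ ((hmemU _).2 fun hle => hKp (by
      rw [Ideal.map_le_iff_le_comap]
      intro x hx
      show algebraMap A (AdicCompletion J A) x ∈ p
      rw [← hι]
      exact hle hx))
    haveI := isLocalizedModule_pi p.primeCompl (Localization.AtPrime p) n
    obtain ⟨el⟩ := ((simAt_equiv (TensorProduct.piScalarRight A' (AdicCompletion J A) (AdicCompletion J A) (Fin n)).symm).trans
      (h.baseChange (AdicCompletion J A))).nonempty_localized p.primeCompl (by rw [one_mul]; exact ht)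
      ((Algebra.linearMap (AdicCompletion J A) (Localization.AtPrime p)).compLeft (Fin n))
      (LocalizedModule.mkLinearMap p.primeCompl _)
    exact Module.Free.of_equiv (el.extendScalarsOfIsLocalization p.primeCompl (Localization.AtPrime p))
  haveI : Module.FinitePresentation A' M' := Module.finitePresentation_of_finite _ _
  have hC := ComplAlg.isFormalCompl_adicCompletion J
  obtain ⟨σ⟩ := nonempty_equiv_of_baseChange (R := A') (S := AdicCompletion J A) (J.map φ)
    (HenselianRing.jac)
    (fun x => by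
      obtain ⟨a, ha⟩ := hC.surj 1 x
      refine ⟨φ a, ?_⟩
      show x - ι (φ a) ∈ _
      rw [hι, Ideal.map_map, show (algebraMap A' (AdicCompletion J A)).comp φ = algebraMap A _ from RingHom.ext hι]
      rwa [pow_one] at ha)
    (fun a' ha' => by
      obtain ⟨y, hy⟩ := (hq 1).2 (Ideal.Quotient.mk _ a')
      obtain ⟨a, rfl⟩ := Ideal.Quotient.mk_surjective y
      rw [Ideal.quotientMap_mk, Ideal.Quotient.eq, pow_one] at hy
      have h1 : ι (φ a) ∈ (J.map φ).map ι := by
        have := add_mem (Ideal.mem_map_of_mem ι hy) ha'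
        rwa [map_sub, show algebraMap A' (AdicCompletion J A) a' = ι a' from rfl, sub_add_cancel] at this
      rw [hι, Ideal.map_map, show ι.comp φ = algebraMap A _ from RingHom.ext hι] at h1
      have h2 := Ideal.mem_map_of_mem φ (hC.inj 1 a (by rwa [pow_one]))
      rw [pow_one] at h2
      simpa using sub_mem h2 hy)
    (M := A' ⊗[A] M) (N := M')
    ((TensorProduct.AlgebraTensorModule.cancelBaseChange A A' (AdicCompletion J A) (AdicCompletion J A) M).trans e)
  have hJjac : J ≤ Ideal.jacobson ⊥ := HenselianRing.jac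
  haveI := faithfullyFlat_adicCompletion J hJjac
  refine ⟨(Scheme.Modules.restrictFunctor U.ι).obj (tilde (R := CommRingCat.of A) (ModuleCat.of A M)), ?_, ?_⟩
  · refine isFinLocFreeOfRank_restrict_tilde (R := CommRingCat.of A) U fun q hq => ?_
    obtain ⟨P, hP⟩ := PrimeSpectrum.comap_surjective_of_faithfullyFlat (A := A) (B := AdicCompletion J A) q
    haveI := hMfree q.asIdeal ((hmemU q).1 hq)
    let ee := (Module.finBasis (Localization.AtPrime q.asIdeal) (LocalizedModule q.asIdeal.primeCompl M)).equivFun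
    obtain ⟨t, ht, ψ, χ, h⟩ := exists_simAt_free q.asIdeal ee
    have hp'q : (PrimeSpectrum.comap ι P).asIdeal.comap φ = q.asIdeal := by
      rw [← hP]
      exact (Ideal.comap_comap _ _).trans (congrArg (fun f => Ideal.comap f P.asIdeal) (RingHom.ext hι))
    obtain ⟨t', ψ', χ', ht', h'⟩ := hM'free (PrimeSpectrum.comap ι P) (by
      show (PrimeSpectrum.comap φ (PrimeSpectrum.comap ι P)) ∈ SU
      rwa [show PrimeSpectrum.comap φ (PrimeSpectrum.comap ι P) = q from PrimeSpectrum.ext hp'q])
    have hb := (((simAt_equiv (TensorProduct.piScalarRight A A' A' (Fin _)).symm).trans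
      (h.baseChange A')).trans (simAt_equiv σ)).trans h'.symm
    have hn := eq_of_simAt (p := (PrimeSpectrum.comap ι P).asIdeal) (fun hmem => by
      rw [one_mul, mul_one] at hmem
      refine ((PrimeSpectrum.comap ι P).2.mem_or_mem hmem).elim (fun h0 => ht ?_) ht'
      rw [← hp'q]
      exact h0) hb
    exact ⟨ee.trans (LinearEquiv.funCongrLeft _ _ (finCongr hn.symm))⟩
  · obtain ⟨e₁⟩ := Groth.Agent.S2265.result A A' M
    exact ⟨(Scheme.Modules.pullback (g ∣_ U)).mapIso ((Scheme.Modules.restrictFunctorIsoPullback U.ι).app _) ≪≫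
      (Scheme.Modules.pullbackComp _ _).app _ ≪≫
      (Scheme.Modules.pullbackCongr (morphismRestrict_ι g U)).app _ ≪≫
      ((Scheme.Modules.pullbackComp _ _).app _).symm ≪≫
      ((Scheme.Modules.restrictFunctorIsoPullback U'.ι).app _).symm ≪≫
      (Scheme.Modules.restrictFunctor U'.ι).mapIso
        (e₁ ≪≫ (tilde.functor (CommRingCat.of A')).mapIso (LinearEquiv.toModuleIso σ)) ≪≫ eF⟩

end Groth.Agent.S19782
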