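import Groth.Statements.S19790
import Groth.Agent.Lib.GitMu15.Main
import Groth.Agent.Lib.GitMu15.Bound
import Groth.Agent.Lib.GitMu15.Cochar
import Groth.Agent.Lib.GitMu15.Conj
import Groth.Agent.Lib.MuFun27.Main

set_option autoImplicit false
set_option maxHeartbeats 800000
set_option backward.isDefEq.respectTransparency false
universe u
open CategoryTheory MonoidalCategory CartesianMonoidalCategory MonObj AlgebraicGeometry Opposite
open GIT

namespace Groth.Agent.S19790

/-- Let k be an algebraically closed field, G a connected reductive algebraic group over k, i : T → G a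
maximal torus, X a scheme proper over k on which G acts by σ, and L an ample G-linearised line
bundle on X in total-space form. Fix a norm on one-parameter subgroups as for the flag complex: a
symmetric biadditive form b on the one-parameter subgroups of T (a group under pointwise product)
with rational values, positive on every non-trivial one-parameter subgroup, and a real function ‖·‖
on the one-parameter subgroups of G such that for every one-parameter subgroup λ of T and every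
k-point γ of G the conjugate u ↦ γ·i(λ(u))·γ⁻¹ has ‖γ·(i∘λ)·γ⁻¹‖ ≥ 0 and ‖γ·(i∘λ)·γ⁻¹‖² = b(λ, λ)
(every one-parameter subgroup of G is conjugate under G(k) to one of T, so this determines ‖·‖ on
all of them; consistency forces b to be invariant under the Weyl group, and such forms exist). Then
there is a constant K such that |μ^L(x, λ)| ≤ K·‖λ‖ for every k-point x of X and every one-parameter
subgroup λ of G: whenever the numerical function of x at λ (the limit of λ(u)·x as u → 0 exists and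
𝔾_m acts on the fibre of L over it with exponent m) takes the value m, |m| ≤ K·‖λ‖. In other words
the normalised function ν^L(x, λ) = μ^L(x, λ)/‖λ‖ is bounded in absolute value, uniformly in x and
λ. (The published statement is for any reductive G; this row takes G connected.) -/
theorem result (k : Type u) [Field k] [IsAlgClosed k]
    (G X T : Over (Spec (CommRingCat.of k))) [GrpObj G] [GrpObj T] (hG : Red.IsReductive G)
    (i : T ⟶ G) [IsMonHom i] (hi : Red.IsMaximalTorus i) [IsProper X.hom]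
    (a : AlgGrp.Action G X) (B : GLinSh.LinBun G a) (hB : HMNum.AmpleCover B)
    (b : (Red.Gm (Spec (CommRingCat.of k)) ⟶ T) → (Red.Gm (Spec (CommRingCat.of k)) ⟶ T) → ℚ)
    (hb_add : ∀ (l₁ l₂ l₃ : Red.Gm (Spec (CommRingCat.of k)) ⟶ T) [IsMonHom l₁] [IsMonHom l₂] [IsMonHom l₃],
      b (l₁ * l₂) l₃ = b l₁ l₃ + b l₂ l₃)
    (hb_symm : ∀ (l₁ l₂ : Red.Gm (Spec (CommRingCat.of k)) ⟶ T) [IsMonHom l₁] [IsMonHom l₂], b l₁ l₂ = b l₂ l₁)
    (hb_pos : ∀ (l : Red.Gm (Spec (CommRingCat.of k)) ⟶ T) [IsMonHom l], l ≠ 1 → 0 < b l l)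
    (nrm : (Red.Gm (Spec (CommRingCat.of k)) ⟶ G) → ℝ)
    (hnrm : ∀ (l : Red.Gm (Spec (CommRingCat.of k)) ⟶ T) [IsMonHom l] (g : 𝟙_ (Over (Spec (CommRingCat.of k))) ⟶ G),
      0 ≤ nrm ((toUnit _ ≫ g) * (l ≫ i) * (toUnit _ ≫ g)⁻¹) ∧
        nrm ((toUnit _ ≫ g) * (l ≫ i) * (toUnit _ ≫ g)⁻¹) ^ 2 = ((b l l : ℚ) : ℝ)) :
    ∃ K : ℝ, ∀ (x : 𝟙_ (Over (Spec (CommRingCat.of k))) ⟶ X) (l : Red.Gm (Spec (CommRingCat.of k)) ⟶ G) [IsMonHom l] (m : ℤ),
      HMNum.IsMu B l x m → |(m : ℝ)| ≤ K * nrm l := by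
  classical
  have hT := hi.2.2.1
  haveI : Mono i := hi.2.1
  haveI := GrothLib.IsogProps19.isCommMonObj_of_torus T hT
  obtain ⟨hGa, hGs, hGc⟩ := GrothLib.UnipFix19.props_of_isReductive hG
  haveI := hGa; haveI := hGs; haveI := hGc
  have hmax : AGF.IsMaxTorus i := GrothLib.Chev24.isMaxTorus_of_isMaximalTorus hi
  obtain ⟨n, ℓ, hadd, hx⟩ := GrothLib.GitMu15.exists_functionals (i := i) (B := B) hT hB
  obtain ⟨r, ⟨e⟩⟩ := GrothLib.GitMu15.exists_basis hT
  let c : Additive (GrothLib.GitMu15.cochar T) → (Red.Gm (Spec (CommRingCat.of k)) ⟶ T) := fun z => z.toMul.1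
  have hc : ∀ z, IsMonHom (c z) := fun z => z.toMul.2
  have hbd : ∀ j : Fin n, ∃ C : ℚ, 0 ≤ C ∧ ∀ z, ℓ j (c z) ^ 2 ≤ C * b (c z) (c z) := fun j => by
    refine GrothLib.GitMu15.exists_bound e (fun z w => b (c z) (c w)) (fun z w v => ?_) (fun z w => ?_) (fun z hz => ?_)
      (fun z => ℓ j (c z)) (fun z w => ?_)
    · haveI := hc z; haveI := hc w; haveI := hc v
      exact hb_add (c z) (c w) (c v)
    · haveI := hc z; haveI := hc w
      exact hb_symm (c z) (c w)
    · haveI := hc z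
      exact hb_pos (c z) fun h => hz (Additive.toMul.injective (Subtype.ext h))
    · haveI := hc z; haveI := hc w
      exact hadd j (c z) (c w)
  choose C hC0 hC using hbd
  refine ⟨Real.sqrt ((∑ j, C j : ℚ) : ℝ), fun x l _ m hm => ?_⟩
  obtain ⟨g, lT, hlT, hl⟩ := GrothLib.GitMu15.exists_conj_into_maxTorus hmax
    (GrothLib.RankCell14.isTorus_Gm (Spec (CommRingCat.of k))) l
  haveI := hlT
  obtain ⟨hn0, hn2⟩ := hnrm lT g
  have hl' : l = (toUnit _ ≫ g) * (lT ≫ i) * (toUnit _ ≫ g)⁻¹ := hl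
  rw [← hl'] at hn0 hn2
  haveI : Nonempty ↥(𝟙_ (Over (Spec (CommRingCat.of k)))).left := inferInstanceAs (Nonempty (PrimeSpectrum k))
  haveI : Subsingleton ↥(𝟙_ (Over (Spec (CommRingCat.of k)))).left := GrothLib.GitMu15.subsingleton_unit
  have hconj := GrothLib.MuFun27.isMu_conj (B := B) (l := l) (l' := lT ≫ i) g
    (by rw [hl', _root_.mul_assoc, _root_.mul_assoc, inv_mul_cancel, _root_.mul_one, inv_mul_cancel_left])
    (lift (toUnit _ ≫ g⁻¹) x ≫ a.act) m
  rw [← GrothLib.MuFun27.lift_act_mul, ← MonObj.comp_mul, mul_inv_cancel, MonObj.comp_one,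
    GrothLib.MuFun27.lift_act_one] at hconj
  obtain ⟨I, hI⟩ := hx (lift (toUnit _ ≫ g⁻¹) x ≫ a.act)
  obtain ⟨j, -, hmj, -⟩ := (hI lT m).1 (hconj.1 hm)
  have hb : 0 ≤ b lT lT := by
    have h0 : (0 : ℝ) ≤ ((b lT lT : ℚ) : ℝ) := hn2 ▸ sq_nonneg (nrm l)
    exact_mod_cast h0
  have h1 : (m : ℚ) ^ 2 ≤ (∑ j, C j) * b lT lT := by
    rw [hmj]
    refine le_trans (hC j (Additive.ofMul ⟨lT, hlT⟩)) ?_
    exact mul_le_mul_of_nonneg_right (Finset.single_le_sum (fun j _ => hC0 j) (Finset.mem_univ j)) hb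
  have h2 : ((m : ℝ)) ^ 2 ≤ ((∑ j, C j : ℚ) : ℝ) * nrm l ^ 2 := by
    rw [hn2]
    exact_mod_cast h1
  have hS : (0 : ℝ) ≤ ((∑ j, C j : ℚ) : ℝ) := by exact_mod_cast Finset.sum_nonneg fun j _ => hC0 j
  calc |(m : ℝ)| = Real.sqrt ((m : ℝ) ^ 2) := (Real.sqrt_sq_eq_abs _).symm
    _ ≤ Real.sqrt (((∑ j, C j : ℚ) : ℝ) * nrm l ^ 2) := Real.sqrt_le_sqrt h2
    _ = Real.sqrt ((∑ j, C j : ℚ) : ℝ) * nrm l := by rw [Real.sqrt_mul hS, Real.sqrt_sq hn0]

end Groth.Agent.S19790
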