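import Groth.Statements.S19799
import Mathlib

set_option autoImplicit false
universe u v w
open scoped TensorProduct
open CAlg

namespace Groth.Agent.S19799

noncomputable def split (k : Type u) [Field k] [IsAlgClosed k] (C : Type v) [CommRing C] [Algebra k C]
    [Module.Finite k C] [IsReduced C] : C ≃ₐ[k] ((m : MaximalSpectrum C) → k) :=
  haveI : IsArtinianRing C := IsArtinianRing.of_finite k C
  let e1 : C ≃ₐ[k] ((m : MaximalSpectrum C) → C ⧸ m.asIdeal) :=
    AlgEquiv.ofBijective (Pi.algHom k _ fun m : MaximalSpectrum C => Ideal.Quotient.mkₐ k m.asIdeal)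
      (IsArtinianRing.equivPi C).bijective
  e1.trans (AlgEquiv.piCongrRight fun m =>
    haveI := m.isMaximal
    letI := Ideal.Quotient.field m.asIdeal
    (AlgEquiv.ofBijective (Algebra.ofId k (C ⧸ m.asIdeal))
      IsAlgClosed.algebraMap_bijective_of_isIntegral).symm)


/-- Let k be an algebraically closed field and A, B commutative k-algebras, each finite-dimensional as a
k-vector space. Then reduction commutes with tensor products: the kernel of the canonical surjection
A ⊗_k B ⟶ (A/nilradical A) ⊗_k (B/nilradical B) equals the nilradical of A ⊗_k B, so that this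
surjection induces an isomorphism (A ⊗_k B)_red ≅ A_red ⊗_k B_red and in particular A_red ⊗_k B_red
is reduced. -/
theorem result (k : Type u) [Field k]
    [IsAlgClosed k] (A : Type v) [CommRing A] [Algebra k A] [Module.Finite k A]
    (B : Type w) [CommRing B] [Algebra k B] [Module.Finite k B] :
    RingHom.ker (Algebra.TensorProduct.map (Ideal.Quotient.mkₐ k (nilradical A))
      (Ideal.Quotient.mkₐ k (nilradical B))).toRingHom = nilradical (A ⊗[k] B) := by
  have hA : IsReduced ((A ⧸ nilradical A) ⊗[k] (B ⧸ nilradical B)) := by
    have : IsReduced (A ⧸ nilradical A) := (Ideal.isRadical_iff_quotient_reduced _).1 (Ideal.radical_isRadical _)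
    have : IsReduced (B ⧸ nilradical B) := (Ideal.isRadical_iff_quotient_reduced _).1 (Ideal.radical_isRadical _)
    let e : (A ⧸ nilradical A) ≃ₐ[k] ((m : MaximalSpectrum (A ⧸ nilradical A)) → k) := split k _
    have : IsArtinianRing (A ⧸ nilradical A) := IsArtinianRing.of_finite k _
    have := Fintype.ofFinite (MaximalSpectrum (A ⧸ nilradical A))
    classical
    have := isReduced_of_injective
      ((Algebra.TensorProduct.comm k (A ⧸ nilradical A) (B ⧸ nilradical B)).trans
        ((Algebra.TensorProduct.congr AlgEquiv.refl e).trans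
          (Algebra.TensorProduct.piScalarRight k k (B ⧸ nilradical B) (MaximalSpectrum (A ⧸ nilradical A)))))
      (AlgEquiv.injective _)
    exact this
  apply le_antisymm
  · have := Algebra.TensorProduct.map_ker (Ideal.Quotient.mkₐ k (nilradical A))
      (Ideal.Quotient.mkₐ k (nilradical B)) (Ideal.Quotient.mkₐ_surjective k _) (Ideal.Quotient.mkₐ_surjective k _)
    have kA : RingHom.ker (Ideal.Quotient.mkₐ k (nilradical A)) = nilradical A := Ideal.Quotient.mkₐ_ker k _
    have kB : RingHom.ker (Ideal.Quotient.mkₐ k (nilradical B)) = nilradical B := Ideal.Quotient.mkₐ_ker k _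
    rw [kA, kB] at this
    refine this.trans_le (sup_le ?_ ?_) <;>
      exact Ideal.map_le_iff_le_comap.2 fun x hx => mem_nilradical.2 ((mem_nilradical.1 hx).map _)
  · intro x hx
    exact (mem_nilradical.1 hx).map _ |>.eq_zero

end Groth.Agent.S19799
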