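import Groth.Statements.S19803
-- import your own Groth.Agent.* helpers here
import Groth.Agent.Lib.TwoCovers28.Sch
import Groth.Agent.Lib.TwoCovers28.Hyper

set_option autoImplicit false
set_option maxHeartbeats 1600000
set_option linter.style.haveILetI false
set_option backward.isDefEq.respectTransparency false
universe u
open CategoryTheory CategoryTheory.Limits AlgebraicGeometry Opposite
open Curves

namespace Groth.Agent.S19803

theorem pencil (k : Type u) [Field k] [IsAlgClosed k] {X P₁ P₂ : Scheme.{u}} [IsIntegral X] [IsIntegral P₁]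
    [IsIntegral P₂] [X.Over (Spec (CommRingCat.of k))] [P₁.Over (Spec (CommRingCat.of k))] [P₂.Over (Spec (CommRingCat.of k))]
    [IsProper (X ↘ Spec (CommRingCat.of k))] [IsProper (P₁ ↘ Spec (CommRingCat.of k))]
    [IsProper (P₂ ↘ Spec (CommRingCat.of k))] [GrothLib.CurveRR.RegCurve X] [GrothLib.CurveRR.RegCurve P₁]
    [GrothLib.CurveRR.RegCurve P₂] (γ : ℕ) (hγ : 1 ≤ γ) (hg : Curv2.genus k X = 4 * γ + 1)
    (hγ₁ : Curv2.genus k P₁ ≤ γ) (hγ₂ : Curv2.genus k P₂ ≤ γ)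
    (f₁ : X ⟶ P₁) (hf₁ : f₁ ≫ (P₁ ↘ Spec (CommRingCat.of k)) = X ↘ Spec (CommRingCat.of k))
    [IsFinite f₁] [Flat f₁] (hr₁ : ∀ y : P₁, Scheme.Hom.finrank f₁ y = 2)
    (f₂ : X ⟶ P₂) (hf₂ : f₂ ≫ (P₂ ↘ Spec (CommRingCat.of k)) = X ↘ Spec (CommRingCat.of k))
    [IsFinite f₂] [Flat f₂] (hr₂ : ∀ y : P₂, Scheme.Hom.finrank f₂ y = 2)
    (hne : ¬ ∃ e : P₁ ≅ P₂, e.hom ≫ (P₂ ↘ Spec (CommRingCat.of k)) = (P₁ ↘ Spec (CommRingCat.of k)) ∧ f₁ ≫ e.hom = f₂) :
    ∃ M : P₂.Modules, PicF.IsInvertible M ∧ Curv2.deg k P₂ M 1 = 2 ∧ 2 ≤ Module.finrank k (Coh.HH P₂ M 0) := by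
  obtain ⟨e₁, d₁⟩ := GrothLib.TwoCovers28.range_and_finrank k f₁ hf₁ hr₁
  obtain ⟨e₂, d₂⟩ := GrothLib.TwoCovers28.range_and_finrank k f₂ hf₂ hr₂
  have hsub := GrothLib.TwoCovers28.not_forall_mem_range k hf₁ hf₂ e₁ e₂ d₁ d₂ hne
  letI := (GrothLib.CurveMult.Hurwitz.ψ e₁).toAlgebra
  letI := (GrothLib.CurveMult.Hurwitz.ψ e₂).toAlgebra
  haveI : IsScalarTower k P₁.functionField X.functionField :=
    .of_algebraMap_eq fun c => (GrothLib.CurveMult.Hurwitz.ψ_algebraMap k e₁ hf₁ c).symm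
  haveI : IsScalarTower k P₂.functionField X.functionField :=
    .of_algebraMap_eq fun c => (GrothLib.CurveMult.Hurwitz.ψ_algebraMap k e₂ hf₂ c).symm
  haveI : FiniteDimensional P₁.functionField X.functionField := Module.finite_of_finrank_pos (by omega)
  haveI : FiniteDimensional P₂.functionField X.functionField := Module.finite_of_finrank_pos (by omega)
  have hX0 := GrothLib.CurveRR.finrank_H0_structure_eq_one k (X := X)
  have h10 := GrothLib.CurveRR.finrank_H0_structure_eq_one k (X := P₁)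
  have h20 := GrothLib.CurveRR.finrank_H0_structure_eq_one k (X := P₂)
  have hKX := GrothLib.CurveRR.isFunctionField k hX0
  have hK₁ := GrothLib.CurveRR.isFunctionField k h10
  have hK₂ := GrothLib.CurveRR.isFunctionField k h20
  have hb := (GrothLib.TwoCovers28.genus_bound hKX hK₁ hK₂ d₁ d₂ hsub).1
  rw [GrothLib.CurveRR.genus_eq k hX0] at hg
  rw [GrothLib.CurveRR.genus_eq k h10] at hγ₁
  rw [GrothLib.CurveRR.genus_eq k h20] at hγ₂
  obtain ⟨B, hBd, hBl⟩ := GrothLib.TwoCovers28.exists_pencil hKX hK₁ hK₂ d₁ d₂ hsub (by omega) (by omega)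
  refine ⟨GrothLib.CurveRR.oD k B, GrothLib.CurveRR.isInvertible_oD k B, ?_, ?_⟩
  · rw [GrothLib.CurveRR.deg_oD B, hBd]
  · rw [GrothLib.CurveRR.finrank_H0_oD]; exact hBl

/-- Let F be a smooth projective curve over an algebraically closed field k of characteristic 0
(integral, proper over k, of dimension one, all local rings regular) of genus g = 4γ + 1 with γ ≥ 1,
and let f_i : F ⟶ P_i (i = 1, 2) be two k-morphisms, finite and flat of constant rank 2, onto smooth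
projective curves P_i of genus γ_i ≤ γ (two involutions of F with quotients of genus at most γ)
which are not isomorphic as covers: there is no k-isomorphism e : P₁ ≅ P₂ with f₁ ≫ e = f₂ (the
involutions are distinct). Then P₁ and P₂ are hyperelliptic in the sense that each carries an
invertible module of degree 2 with at least two linearly independent global sections (a g^1_2).
Degrees are χ(·) - χ(O). -/
theorem result (k : Type u) [Field k] [IsAlgClosed k] [CharZero k] (X : Scheme.{u}) [X.Over (Spec (CommRingCat.of k))]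
    [IsIntegral X] [IsProper (X ↘ (Spec (CommRingCat.of k)))] (hdim : topologicalKrullDim X = 1)
    (hreg : ∀ x : X, IsRegularLocalRing (X.presheaf.stalk x))
    (γ : ℕ) (hγ : 1 ≤ γ) (hg : Curv2.genus k X = 4 * γ + 1)
    (P₁ : Scheme.{u}) [P₁.Over (Spec (CommRingCat.of k))] [IsIntegral P₁] [IsProper (P₁ ↘ (Spec (CommRingCat.of k)))]
    (hdim₁ : topologicalKrullDim P₁ = 1) (hreg₁ : ∀ y : P₁, IsRegularLocalRing (P₁.presheaf.stalk y)) (hγ₁ : Curv2.genus k P₁ ≤ γ)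
    (P₂ : Scheme.{u}) [P₂.Over (Spec (CommRingCat.of k))] [IsIntegral P₂] [IsProper (P₂ ↘ (Spec (CommRingCat.of k)))]
    (hdim₂ : topologicalKrullDim P₂ = 1) (hreg₂ : ∀ y : P₂, IsRegularLocalRing (P₂.presheaf.stalk y)) (hγ₂ : Curv2.genus k P₂ ≤ γ)
    (f₁ : X ⟶ P₁) (hf₁ : f₁ ≫ (P₁ ↘ Spec (CommRingCat.of k)) = X ↘ Spec (CommRingCat.of k))
    [IsFinite f₁] [Flat f₁] (hr₁ : ∀ y : P₁, Scheme.Hom.finrank f₁ y = 2)
    (f₂ : X ⟶ P₂) (hf₂ : f₂ ≫ (P₂ ↘ Spec (CommRingCat.of k)) = X ↘ Spec (CommRingCat.of k))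
    [IsFinite f₂] [Flat f₂] (hr₂ : ∀ y : P₂, Scheme.Hom.finrank f₂ y = 2)
    (hne : ¬ ∃ e : P₁ ≅ P₂, e.hom ≫ (P₂ ↘ Spec (CommRingCat.of k)) = (P₁ ↘ Spec (CommRingCat.of k)) ∧ f₁ ≫ e.hom = f₂) :
    (∃ M₁ : P₁.Modules, PicF.IsInvertible M₁ ∧ Curv2.deg k P₁ M₁ 1 = 2 ∧ 2 ≤ Module.finrank k (Coh.HH P₁ M₁ 0)) ∧
      ∃ M₂ : P₂.Modules, PicF.IsInvertible M₂ ∧ Curv2.deg k P₂ M₂ 1 = 2 ∧ 2 ≤ Module.finrank k (Coh.HH P₂ M₂ 0) := by
  haveI := GrothLib.CurveRR.regCurve_of_regular (k := k) hdim hreg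
  haveI := GrothLib.CurveRR.regCurve_of_regular (k := k) hdim₁ hreg₁
  haveI := GrothLib.CurveRR.regCurve_of_regular (k := k) hdim₂ hreg₂
  refine ⟨?_, pencil k γ hγ hg hγ₁ hγ₂ f₁ hf₁ hr₁ f₂ hf₂ hr₂ hne⟩
  refine pencil k γ hγ hg hγ₂ hγ₁ f₂ hf₂ hr₂ f₁ hf₁ hr₁ ?_
  rintro ⟨e, he, hfe⟩
  exact hne ⟨e.symm, (Iso.inv_comp_eq e).2 he.symm, (Iso.comp_inv_eq e).2 hfe.symm⟩

end Groth.Agent.S19803
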