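import Groth.Statements.S19804
import Groth.Agent.Lib.AzMod.Core
import Mathlib.RingTheory.Spectrum.Prime.FreeLocus

set_option autoImplicit false
open scoped TensorProduct
universe u v w
open Brauer

namespace Groth.Agent.S19804

open GrothLib in
theorem aux {R : Type u} [CommRing R]
    [ConnectedSpace (PrimeSpectrum R)] {A : Type v} [Ring A] [Algebra R A] [IsAzumaya R A]
    (e : A) (he : IsIdempotentElem e) (R' : Type w) [CommRing R'] [Nontrivial R'] [Algebra R R']
    (h : (1 : R') ⊗ₜ[R] e = 0) : e = 0 := by
  set P := LinearMap.range (LinearMap.mulLeft R e) with hP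
  let π : A →ₗ[R] P := (LinearMap.mulLeft R e).rangeRestrict
  have hπ : π ∘ₗ P.subtype = LinearMap.id := by
    refine LinearMap.ext fun x => ?_
    obtain ⟨x, a, rfl⟩ := x
    exact Subtype.ext (show e * (e * a) = e * a by rw [← mul_assoc, he.eq])
  have : Module.Projective R P := Module.Projective.of_split P.subtype π hπ
  have : Module.Finite R P := Module.Finite.of_surjective π (LinearMap.surjective_rangeRestrict _)
  have hsub : Subsingleton (R' ⊗[R] P) := by
    refine subsingleton_of_forall_eq 0 fun x => ?_
    have hinj : Function.Injective (P.subtype.lTensor R') := by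
      refine Function.LeftInverse.injective (g := π.lTensor R') fun y => ?_
      rw [← LinearMap.comp_apply, ← LinearMap.lTensor_comp, hπ, LinearMap.lTensor_id, LinearMap.id_apply]
    refine hinj ((?_ : P.subtype.lTensor R' x = 0).trans (map_zero _).symm)
    induction x using TensorProduct.induction_on with
    | zero => simp
    | add p q hp hq => rw [map_add, hp, hq, add_zero]
    | tmul r y =>
      obtain ⟨y, a, rfl⟩ := y
      show r ⊗ₜ[R] (e * a) = 0
      have h2 : r ⊗ₜ[R] (e * a) = (r ⊗ₜ[R] (1 : A)) * ((1 : R') ⊗ₜ[R] e) * ((1 : R') ⊗ₜ[R] a) := by simp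
      rw [h2, h, mul_zero, zero_mul]
  have : Module.FinitePresentation R P := Module.finitePresentation_of_projective R P
  obtain ⟨q⟩ : Nonempty (PrimeSpectrum R') := inferInstance
  have h0 : Module.rankAtStalk P (PrimeSpectrum.comap (algebraMap R R') q) = 0 := by
    rw [← Module.rankAtStalk_baseChange (S := R') (M := P) q, Module.rankAtStalk_eq_zero_of_subsingleton]
    rfl
  have hall : Module.rankAtStalk (R := R) P = 0 := funext fun p =>
    (Module.isLocallyConstant_rankAtStalk.apply_eq_of_preconnectedSpace p _).trans h0
  have := Module.rankAtStalk_eq_zero_iff_subsingleton.1 hall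
  have h3 : (π 1 : A) = ((0 : P) : A) := by rw [Subsingleton.elim (π 1) 0]
  simpa [π] using h3

/-- Let R be a commutative ring with Spec R connected, A an Azumaya R-algebra and e an idempotent
element of A. If for some nonzero commutative R-algebra R' the element 1 ⊗ e of R' ⊗_R A is 0, then
e = 0; and if 1 ⊗ e = 1 in R' ⊗_R A, then e = 1. (The published statement is for an Azumaya algebra
over a connected scheme S and base change to an arbitrary nonempty S-scheme T; this row takes S and
T affine.) -/
theorem result {R : Type u} [CommRing R]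
    [ConnectedSpace (PrimeSpectrum R)] {A : Type v} [Ring A] [Algebra R A] [IsAzumaya R A]
    (e : A) (he : IsIdempotentElem e) (R' : Type w) [CommRing R'] [Nontrivial R'] [Algebra R R'] :
    ((1 : R') ⊗ₜ[R] e = (0 : R' ⊗[R] A) → e = 0) ∧ ((1 : R') ⊗ₜ[R] e = (1 : R' ⊗[R] A) → e = 1) := by
  refine ⟨aux e he R', fun h => (sub_eq_zero.1 (aux (R := R) (1 - e) he.one_sub R' ?_)).symm⟩
  rw [TensorProduct.tmul_sub, h, Algebra.TensorProduct.one_def, sub_self]

end Groth.Agent.S19804
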