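import Groth.Statements.S19809
import Groth.Agent.Lib.BinForm.Basic
import Groth.Agent.Lib.BinForm.Zero

set_option autoImplicit false
set_option linter.all false
universe u
open RatCurv

namespace Groth.Agent.S19809

/-- A smooth rational quintic curve C ⊂ P^3 has a one-parameter family of 3-secant lines. Stated, as for
the nondegenerate case, through binary forms: C is the image of P^1 under a 4-dimensional linear
series V of binary quintic forms which separates every length-2 subscheme of P^1 (for every nonzero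
quadratic form e, the forms of V together with the multiples of e span all quintic forms), so that
P^1 → P(V^*) = P^3 is a closed embedding; the linear forms on P^3 are the elements of V, a line L ⊂
P^3 is the 2-dimensional space of linear forms vanishing on it, and L ∩ C has length at least 3
exactly when that space is contained in g · K[s,t]_2 for a cubic form g. The conclusion: there are
infinitely many pairwise non-proportional nonzero cubic forms g with dim (V ∩ g · K[s,t]_2) ≥ 2,
i.e. for every finite set of cubics there is such a g proportional to none of them. (The ground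
field is algebraically closed of characteristic zero in place of the complex numbers; the third
printed assertion, on curves all of whose 3-secants are 4-secant, is not stated.) -/
theorem result (K : Type u) [Field K] [IsAlgClosed K]
    [CharZero K] (V : Submodule K (MvPolynomial (Fin 2) K))
    (hV : V ≤ MvPolynomial.homogeneousSubmodule (Fin 2) K 5) (hdim : Module.finrank K ↥V = 4)
    (hsep : ∀ e ∈ MvPolynomial.homogeneousSubmodule (Fin 2) K 2, e ≠ 0 →
      ∀ F ∈ MvPolynomial.homogeneousSubmodule (Fin 2) K 5, ∃ v ∈ V,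
        ∃ h ∈ MvPolynomial.homogeneousSubmodule (Fin 2) K 3, F = v + e * h)
    (F : Finset (MvPolynomial (Fin 2) K)) :
    ∃ g ∈ MvPolynomial.homogeneousSubmodule (Fin 2) K 3, g ≠ 0 ∧
      2 ≤ Module.finrank K ↥(V ⊓ (MvPolynomial.homogeneousSubmodule (Fin 2) K 2).map (LinearMap.mulLeft K g)) ∧
      ∀ g' ∈ F, ∀ c : K, g ≠ c • g' := by
  classical
  set S2 := MvPolynomial.homogeneousSubmodule (Fin 2) K 2
  set S3 := MvPolynomial.homogeneousSubmodule (Fin 2) K 3
  set S5 := MvPolynomial.homogeneousSubmodule (Fin 2) K 5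
  have h2 : Module.finrank K S2 = 3 := GrothLib.BinForm.finrank_forms K 2
  have h3 : Module.finrank K S3 = 4 := GrothLib.BinForm.finrank_forms K 3
  have h5 : Module.finrank K S5 = 6 := GrothLib.BinForm.finrank_forms K 5
  let μ := GrothLib.BinForm.mulForms K 3 2 5 rfl
  have hμ : ∀ g : S3, g ≠ 0 → Module.finrank K (LinearMap.range (μ g)) = 3 := fun g hg => by
    rw [LinearMap.finrank_range_of_inj, h2]
    intro x y hxy
    exact Subtype.ext (mul_left_cancel₀ (fun h => hg (Subtype.ext h)) (congrArg Subtype.val hxy))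
  let V' : Submodule K S5 := V.comap S5.subtype
  have hV' : Module.finrank K V' = 4 := by
    rw [(Submodule.comapSubtypeEquivOfLe hV).finrank_eq, hdim]
  have hQ : Module.finrank K (S5 ⧸ V') = 2 := by
    have := Submodule.finrank_quotient_add_finrank V'
    omega
  let b := (Module.finBasisOfFinrankEq K (S5 ⧸ V') hQ)
  let ψ : K → S5 →ₗ[K] K := fun t => (b.coord 0 + t • b.coord 1).comp V'.mkQ
  have hψV : ∀ t, V' ≤ LinearMap.ker (ψ t) := fun t x hx => by
    rw [LinearMap.mem_ker]
    simp [ψ, (Submodule.Quotient.mk_eq_zero V').mpr hx]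
  have hψne : ∀ t, ψ t ≠ 0 := fun t h => by
    obtain ⟨x, hx⟩ := V'.mkQ_surjective (b 0)
    have h1 : (b.coord 0 + t • b.coord 1) (V'.mkQ x) = 0 := LinearMap.congr_fun h x
    rw [hx] at h1
    simp at h1
  have hex : ∀ t, ∃ g : S3, g ≠ 0 ∧ LinearMap.range (μ g) ≤ LinearMap.ker (ψ t) := by
    intro t
    let Φ : S3 →ₗ[K] Module.Dual K S2 := (LinearMap.llcomp K S2 S5 K (ψ t)).comp μ
    have hΦ : LinearMap.ker Φ ≠ ⊥ := by
      intro h
      have := LinearMap.finrank_le_finrank_of_injective (LinearMap.ker_eq_bot.mp h)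
      rw [Subspace.dual_finrank_eq, h2, h3] at this
      omega
    obtain ⟨g, hg, hg0⟩ := Submodule.exists_mem_ne_zero_of_ne_bot hΦ
    refine ⟨g, hg0, ?_⟩
    rintro _ ⟨f, rfl⟩
    exact LinearMap.congr_fun (LinearMap.mem_ker.mp hg) f
  choose g hg0 hgker using hex
  have hinter : ∀ t, 2 ≤ Module.finrank K ↥(V' ⊓ LinearMap.range (μ (g t))) := fun t => by
    have h1 := Submodule.finrank_sup_add_finrank_inf_eq V' (LinearMap.range (μ (g t)))
    have h4 := Submodule.finrank_mono (sup_le (hψV t) (hgker t))
    have hk : Module.finrank K (LinearMap.ker (ψ t)) ≤ 5 := by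
      have := LinearMap.finrank_range_add_finrank_ker (ψ t)
      have hne : Module.finrank K (LinearMap.range (ψ t)) ≠ 0 := fun h =>
        hψne t (LinearMap.range_eq_bot.mp (Submodule.finrank_eq_zero.mp h))
      omega
    have := hμ _ (hg0 t)
    linarith
  have hkey : ∀ t s, t ≠ s → ∀ c : K, (g t : MvPolynomial (Fin 2) K) ≠ c • (g s : MvPolynomial (Fin 2) K) := by
    intro t s hts c hc
    have hc' : g t = c • g s := Subtype.ext hc
    have hle : LinearMap.range (μ (g t)) ≤ V' := by
      rintro x ⟨f, rfl⟩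
      have ht : ψ t (μ (g t) f) = 0 := hgker t ⟨f, rfl⟩
      have hs : ψ s (μ (g t) f) = 0 := by
        have h0 : ψ s (μ (g s) f) = 0 := hgker s ⟨f, rfl⟩
        rw [hc', map_smul, LinearMap.smul_apply, map_smul, h0, smul_zero]
      rw [← Submodule.Quotient.mk_eq_zero]
      refine b.ext_elem fun j => ?_
      simp only [ψ, LinearMap.comp_apply, LinearMap.add_apply, LinearMap.smul_apply, smul_eq_mul] at ht hs
      set q := V'.mkQ (μ (g t) f)
      have h1 : b.coord 1 q = 0 := by
        have : (t - s) * b.coord 1 q = 0 := by linear_combination ht - hs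
        exact (mul_eq_zero.mp this).resolve_left (sub_ne_zero.mpr hts)
      have h0 : b.coord 0 q = 0 := by rw [h1, mul_zero, add_zero] at ht; exact ht
      fin_cases j
      · simpa [q] using h0
      · simpa [q] using h1
    obtain ⟨a, ha, hga⟩ : ∃ a : Fin 2 → K, a ≠ 0 ∧ MvPolynomial.eval a (g t).1 = 0 := by
      refine GrothLib.BinForm.exists_zero_of_not_isUnit _ fun hu => ?_
      have hh : (g t).1.IsHomogeneous 3 := (g t).2
      have := MvPolynomial.isUnit_iff_totalDegree_of_isReduced.mp hu
      rw [hh.totalDegree (fun h => hg0 t (Subtype.ext h))] at this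
      exact absurd this.2 (by norm_num)
    let ℓ : MvPolynomial (Fin 2) K := MvPolynomial.C (a 1) * MvPolynomial.X 0 - MvPolynomial.C (a 0) * MvPolynomial.X 1
    have hℓ : ℓ ∈ MvPolynomial.homogeneousSubmodule (Fin 2) K 1 :=
      (MvPolynomial.isHomogeneous_C_mul_X _ _).sub (MvPolynomial.isHomogeneous_C_mul_X _ _)
    have hℓ0 : ℓ ≠ 0 := by
      intro h0
      apply ha
      have e1 := congrArg (MvPolynomial.eval ![(1 : K), 0]) h0
      have e2 := congrArg (MvPolynomial.eval ![(0 : K), 1]) h0
      simp [ℓ] at e1 e2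
      ext i; fin_cases i <;> simp [e1, e2]
    let m := GrothLib.BinForm.mulForms K 1 2 3 rfl ⟨ℓ, hℓ⟩
    let ev : S3 →ₗ[K] K := (MvPolynomial.aeval a).toLinearMap.comp S3.subtype
    have hev : LinearMap.range m = LinearMap.ker ev := by
      refine Submodule.eq_of_le_of_finrank_le ?_ ?_
      · rintro _ ⟨f, rfl⟩
        simp [ev, m, ℓ, MvPolynomial.aeval_eq_eval]
        left; ring
      · rw [LinearMap.finrank_range_of_inj (fun x y hxy =>
          Subtype.ext (mul_left_cancel₀ hℓ0 (congrArg Subtype.val hxy))), h2]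
        have := LinearMap.finrank_range_add_finrank_ker ev
        have hne : Module.finrank K (LinearMap.range ev) ≠ 0 := fun h => by
          have h' := LinearMap.range_eq_bot.mp (Submodule.finrank_eq_zero.mp h)
          apply ha
          ext i
          have hX : (MvPolynomial.X i : MvPolynomial (Fin 2) K) ^ 3 ∈ S3 := (MvPolynomial.isHomogeneous_X K i).pow 3
          have := LinearMap.congr_fun h' ⟨_, hX⟩
          simpa [ev] using this
        have := Nat.pos_of_ne_zero hne
        linarith
    obtain ⟨e, he⟩ : g t ∈ LinearMap.range m := hev.ge (by simpa [ev, MvPolynomial.aeval_eq_eval] using hga)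
    have he1 : ℓ * e.1 = (g t).1 := congrArg Subtype.val he
    have he0 : e.1 ≠ 0 := fun h => hg0 t (Subtype.ext (by rw [← he1, h, mul_zero]; rfl))
    let E : Submodule K S5 := LinearMap.range (GrothLib.BinForm.mulForms K 2 3 5 rfl e)
    have hE : Module.finrank K E = 4 := by
      rw [LinearMap.finrank_range_of_inj (fun x y hxy =>
        Subtype.ext (mul_left_cancel₀ he0 (congrArg Subtype.val hxy))), h3]
    have hGE : LinearMap.range (μ (g t)) ≤ V' ⊓ E := le_inf hle (by
      rintro _ ⟨f, rfl⟩
      refine ⟨GrothLib.BinForm.mulForms K 1 2 3 rfl ⟨ℓ, hℓ⟩ f, Subtype.ext ?_⟩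
      show e.1 * (ℓ * f.1) = (g t).1 * f.1
      rw [← he1]; ring)
    have htop : V' ⊔ E = ⊤ := by
      rw [eq_top_iff]
      intro x _
      obtain ⟨v, hv, h, hh, hx⟩ := hsep e.1 e.2 he0 x.1 x.2
      exact Submodule.mem_sup.mpr ⟨⟨v, hV hv⟩, hv, GrothLib.BinForm.mulForms K 2 3 5 rfl e ⟨h, hh⟩, ⟨_, rfl⟩,
        Subtype.ext hx.symm⟩
    have h1 := Submodule.finrank_sup_add_finrank_inf_eq V' E
    rw [htop, finrank_top, h5] at h1
    have := Submodule.finrank_mono hGE
    rw [hμ _ (hg0 t)] at this
    linarith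
  have hfin : ∀ g' : MvPolynomial (Fin 2) K, {t | ∃ c : K, (g t).1 = c • g'}.Subsingleton := by
    rintro g' t ⟨c, hc⟩ s ⟨c', hc'⟩
    by_contra hts
    have hc0 : c' ≠ 0 := fun h => hg0 s (Subtype.ext (by rw [hc', h, zero_smul]; rfl))
    refine hkey t s hts (c / c') ?_
    rw [hc, hc', smul_smul, div_mul_cancel₀ _ hc0]
  obtain ⟨t, ht⟩ : ∃ t, t ∉ ⋃ g' ∈ F, {t | ∃ c : K, (g t).1 = c • g'} :=
    (Set.Finite.biUnion F.finite_toSet fun g' _ => (hfin g').finite).exists_notMem
  refine ⟨(g t).1, (g t).2, fun h => hg0 t (Subtype.ext h), ?_, fun g' hg' c hc => ht ?_⟩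
  · have hmap : (V' ⊓ LinearMap.range (μ (g t))).map S5.subtype =
        V ⊓ S2.map (LinearMap.mulLeft K (g t).1) := by
      ext x
      simp only [Submodule.mem_map, Submodule.mem_inf, LinearMap.mem_range, V', Submodule.mem_comap,
        Submodule.subtype_apply, LinearMap.mulLeft_apply]
      constructor
      · rintro ⟨y, ⟨hy, f, rfl⟩, rfl⟩
        exact ⟨hy, f.1, f.2, rfl⟩
      · rintro ⟨hx, f, hf, rfl⟩
        exact ⟨μ (g t) ⟨f, hf⟩, ⟨hx, ⟨f, hf⟩, rfl⟩, rfl⟩
    rw [← hmap, ← (Submodule.equivMapOfInjective S5.subtype Subtype.val_injective _).finrank_eq]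
    exact hinter t
  · exact Set.mem_biUnion hg' ⟨c, hc⟩

end Groth.Agent.S19809
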