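import Groth.Statements.S19814
import Groth.Agent.Lib.NoriFGS13.Induced
-- import your own Groth.Agent.* helpers here

set_option autoImplicit false
universe u
open CategoryTheory CategoryTheory.Limits MonoidalCategory CartesianMonoidalCategory MonObj GrpObj AlgebraicGeometry
open NoriFGS

namespace Groth.Agent.S19814

/-- Let X and Y be schemes over a field k with rational points x and y, each possessing a fundamental
group scheme with its universal pointed torsor, let f : X → Y be a k-morphism sending x to y, and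
let φ be the homomorphism of fundamental group schemes induced by f. Then φ is trivial if and only
if, for every finite group scheme H over k and every H-torsor U over Y (locally trivial for the fpqc
topology) pointed over y which is Nori-reduced, the pull-back of U to X is a trivial torsor, i.e. U
acquires a section over f. (The published statement quantifies over all Nori-reduced finite torsors
over Y; this row quantifies over those pointed over y, as the printed proof does: for unpointed
torsors the forward implication fails over a field that is not algebraically closed. The source's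
standing convention for that chapter assumes the base field has characteristic p > 0; the printed
proof uses no characteristic hypothesis, so the row states it for any field.) -/
theorem result
    (k : Type u) [Field k] (X Y : Scheme.{u})
    [X.Over (Spec (CommRingCat.of k))] [Y.Over (Spec (CommRingCat.of k))]
    (x : Spec (CommRingCat.of k) ⟶ X) (y : Spec (CommRingCat.of k) ⟶ Y)
    (hx : x ≫ (X ↘ Spec (CommRingCat.of k)) = 𝟙 _) (hy : y ≫ (Y ↘ Spec (CommRingCat.of k)) = 𝟙 _)
    (f : X ⟶ Y) (hf : f ≫ (Y ↘ Spec (CommRingCat.of k)) = X ↘ Spec (CommRingCat.of k)) (hfx : x ≫ f = y)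
    (πX πY : Over (Spec (CommRingCat.of k))) [GrpObj πX] [GrpObj πY] (PX : Over X) (PY : Over Y)
    (aX : AlgGrp.Action (Red.bc (X ↘ Spec (CommRingCat.of k)) πX) PX)
    (aY : AlgGrp.Action (Red.bc (Y ↘ Spec (CommRingCat.of k)) πY) PY)
    (pX : Spec (CommRingCat.of k) ⟶ PX.left) (pY : Spec (CommRingCat.of k) ⟶ PY.left)
    (hX : NoriFGS.IsFGS x πX aX pX) (hY : NoriFGS.IsFGS y πY aY pY)
    (φ : πX ⟶ πY) (hφ : NoriFGS.IsInducedHom f hf aX pX aY pY φ) :
    φ = toUnit πX ≫ η[πY] ↔
      ∀ (H : Over (Spec (CommRingCat.of k))) [GrpObj H] [IsFinite H.hom] (U : Over Y)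
        (c : AlgGrp.Action (Red.bc (Y ↘ Spec (CommRingCat.of k)) H) U) (u : Spec (CommRingCat.of k) ⟶ U.left),
        NonAbH1.IsTorsorFor Scheme.fpqcPrecoverage c → u ≫ U.hom = y →
        NoriFGS.IsNoriReduced Scheme.fpqcPrecoverage c → NonAbH1.HasSectionOver U f := by
  open GrothLib.NoriFGS13 in
  constructor
  · intro hφ1 H _ _ U c u hc hu _
    obtain ⟨ψ, _, g, hg, -⟩ := hY.2.2.2 H U c u hc hu
    obtain ⟨_, -, -⟩ := id hφ
    haveI := hX.2.2.1
    haveI : IsMonHom (φ ≫ ψ) := inferInstance
    obtain ⟨u', f', -, -, hf'⟩ := exists_ptTorsorHom_bc f hf hfx hX.2.2.1 hφ hu ψ hg (φ ≫ ψ) rfl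
    have htriv : φ ≫ ψ = 1 := by rw [hφ1, ← Hom.one_def, MonObj.one_comp]
    let PX' : Over X := PX
    haveI : EffectiveEpi PX.hom :=
      GrothLib.TorsorDesc.effectiveEpi_of_localSections PX.hom hX.2.1.2
    let q : PX ⟶ 𝟙_ (Over X) := toUnit PX
    haveI : EffectiveEpi q.left := by
      have : q.left = PX.hom := (Category.comp_id _).symm.trans (Over.w q)
      rw [this]; infer_instance
    obtain ⟨σ, -, -⟩ := GrothLib.TorsorDesc.existsUnique_desc q f' fun T a b _ => by
      obtain ⟨γ, rfl⟩ := GrothLib.TorsorDesc.exists_act_eq hX.2.1.1 a b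
      have h1 : γ ≫ (Over.pullback (X ↘ Spec (CommRingCat.of k))).map (φ ≫ ψ) = 1 := by
        apply toB_injective (X ↘ Spec (CommRingCat.of k))
        rw [toB_comp, htriv, MonObj.comp_one]
        have e := toB_mul (X ↘ Spec (CommRingCat.of k)) (1 : T ⟶ Red.bc (X ↘ Spec (CommRingCat.of k)) H) 1
        rw [_root_.mul_one] at e
        exact (left_eq_mul.1 e).symm
      rw [equivariant_points hf'.1, h1, AlgGrp.Action.lift_one_act]
    refine ⟨σ.left ≫ pullback.fst U.hom f, ?_⟩
    rw [Category.assoc, pullback.condition]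
    show σ.left ≫ (Red.bc f U).hom ≫ f = f
    rw [← Category.assoc, Over.w σ]
    exact Category.id_comp f
  · intro htriv
    obtain ⟨_, gφ, hgφ⟩ := id hφ
    obtain ⟨pp⟩ := hY.1
    refine hom_ext_stages pp fun i => ?_
    letI := pp.cat
    letI := fun j => pp.grp j
    haveI := pp.finite i
    let πi : πY ⟶ pp.D.obj i := pp.π.app i
    haveI : IsMonHom πi := pp.isMonHom_π i
    obtain ⟨M, _, _, j, _, _, ψ, _, hψ, _, _⟩ := exists_image hY.1 πi
    obtain ⟨U, c, u, g, hc, hu, hg⟩ := exists_push hY ψ
    obtain ⟨u', f', hu', hu'u, hf'⟩ := exists_ptTorsorHom_bc f hf hfx hX.2.2.1 hφ hu ψ hg (φ ≫ ψ) rfl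
    obtain ⟨s, hs⟩ := htriv M U c u hc hu (isNoriReduced_of_dominant hy hY hc hu ψ hg)
    let πX' := X ↘ Spec (CommRingCat.of k)
    let b := bcAct f hf c
    have hb : NonAbH1.IsTorsorFor Scheme.fpqcPrecoverage b := isTorsorFor_bcAct f hf hc
    let σ : 𝟙_ (Over X) ⟶ Red.bc f U := Over.homMk (pullback.lift s (𝟙 X) (by rw [hs]; exact (Category.id_comp f).symm))
      (pullback.lift_snd _ _ _)
    let ptU : pt x ⟶ Red.bc f U := Over.homMk u' hu'
    obtain ⟨h, hh⟩ := GrothLib.TorsorDesc.exists_act_eq hb.1 ptU (toUnit (pt x) ≫ σ)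
    -- the constant translation
    let K0 : Over (Spec (CommRingCat.of k)) := 𝟙_ _
    let Xk : Over X := 𝟙_ (Over X)
    let hk : K0 ⟶ M := (Over.homMk (𝟙 _) (by
      show 𝟙 _ ≫ x ≫ πX' = _
      rw [hx, Category.id_comp]; rfl) : K0 ⟶ (Over.map πX').obj (pt x)) ≫ toB πX' h
    let hX1 : Xk ⟶ Red.bc πX' M := ofB πX' (toUnit _ ≫ hk)
    let σ' : Xk ⟶ Red.bc f U := lift hX1 σ ≫ b.act
    have hσ' : toUnit (pt x) ≫ σ' = ptU := by
      rw [comp_lift_assoc, ← hh]
      congr 2
      apply toB_injective πX'
      rw [toB_precomp, toB_ofB, ← Category.assoc, ← Category.assoc]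
      have : (((Over.map πX').map (toUnit (pt x)) ≫ toUnit ((Over.map πX').obj Xk)) ≫
          (Over.homMk (𝟙 _) (by
            show 𝟙 _ ≫ x ≫ πX' = _
            rw [hx, Category.id_comp]; rfl) : K0 ⟶ (Over.map πX').obj (pt x))) = 𝟙 _ := by
        apply Over.OverMorphism.ext
        show ((((Over.map πX').map (toUnit (pt x))).left ≫ (toUnit ((Over.map πX').obj Xk)).left)) ≫ 𝟙 _ = 𝟙 _
        rw [Category.comp_id, ← Over.comp_left,
          toUnit_unique ((Over.map πX').map (toUnit (pt x)) ≫ toUnit _) (toUnit ((Over.map πX').obj (pt x)))]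
        have h3 := Over.w (toUnit ((Over.map πX').obj (pt x)))
        exact h3.trans hx
      rw [this, Category.id_comp]
    obtain ⟨_, _, _, _, huniq⟩ := hX.2.2.2 M (Red.bc f U) b u' hb hu'
    haveI : IsMonHom (1 : πX ⟶ M) :=
      { one_hom := by rw [MonObj.comp_one, Hom.one_def, toUnit_unique (toUnit (𝟙_ (Over (Spec (CommRingCat.of k))))) (𝟙 _), Category.id_comp]
        mul_hom := by
          rw [MonObj.comp_one]
          have e : ((1 : πX ⟶ M) ⊗ₘ (1 : πX ⟶ M)) = lift (fst πX πX ≫ (1 : πX ⟶ M)) (snd πX πX ≫ (1 : πX ⟶ M)) := by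
            apply CartesianMonoidalCategory.hom_ext <;> simp
          rw [e, ← Hom.mul_def, MonObj.comp_one, MonObj.comp_one, _root_.mul_one] }
    have he : AlgGrp.Action.IsEquivariant aX (b.restrict ((Over.pullback πX').map (1 : πX ⟶ M))) (toUnit PX ≫ σ') :=
      isEquivariant_of_points fun T γ z => by
        have h1 : γ ≫ (Over.pullback πX').map (1 : πX ⟶ M) = 1 := by
          apply toB_injective πX'
          rw [toB_comp, MonObj.comp_one]
          have e := toB_mul πX' (1 : T ⟶ Red.bc πX' M) 1
          rw [_root_.mul_one] at e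
          exact (left_eq_mul.1 e).symm
        rw [h1, AlgGrp.Action.lift_one_act, ← Category.assoc, ← Category.assoc z]
        exact congrArg (· ≫ σ') (toUnit_unique _ _)
    have hp : pX ≫ (toUnit PX ≫ σ').left = u' := by
      have e := congrArg CommaMorphism.left hσ'
      change (toUnit (pt x)).left ≫ σ'.left = u' at e
      show pX ≫ (toUnit PX).left ≫ σ'.left = u'
      have h1 : (toUnit PX).left = PX.hom := (Category.comp_id _).symm.trans (Over.w (toUnit PX))
      have h2 : (toUnit (pt x)).left = x := (Category.comp_id _).symm.trans (Over.w (toUnit (pt x)))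
      rw [h1, ← Category.assoc, hX.2.2.1, ← h2]
      exact e
    have hone : φ ≫ ψ = 1 := (huniq (φ ≫ ψ) f' hf').1.trans (huniq 1 _ ⟨he, hp⟩).1.symm
    show φ ≫ πi = (toUnit πX ≫ η[πY]) ≫ πi
    rw [← Hom.one_def, MonObj.one_comp, ← hψ, ← Category.assoc, hone, MonObj.one_comp]

end Groth.Agent.S19814
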