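import Groth.Statements.S19816
import Groth.Agent.Lib.TorsorDesc.Pseudo
-- import your own Groth.Agent.* helpers here

set_option autoImplicit false
universe u
open CategoryTheory CategoryTheory.Limits MonoidalCategory CartesianMonoidalCategory MonObj GrpObj AlgebraicGeometry
open NoriFGS

namespace Groth.Agent.S19816

/-- Let X be a quasi-compact scheme over a field k with a rational point x which possesses a fundamental
group scheme with its universal pointed torsor. Let G, G₁, G₂ be finite group schemes over k with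
homomorphisms φ₁ : G₁ → G and φ₂ : G₂ → G, and let T, T₁, T₂ be torsors over X (locally trivial for
the fpqc topology) under the base changes to X of G, G₁, G₂, each pointed by a k-point lying over x;
let f₁ : T₁ → T and f₂ : T₂ → T be morphisms of pointed torsors along φ₁ and φ₂. Let Q be the fibre
product group scheme G₁ ×_G G₂ with its projections π₁, π₂. Then the fibre product T₁ ×_T T₂ carries
an action of the base change of Q for which both projections to T₁ and T₂ are equivariant (along π₁,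
π₂) and which makes it a torsor over X, locally trivial for the fpqc topology: the category of
pointed finite torsors over X is closed under fibre products. (The published statement is an
equivalence; this row is the implication from possessing a fundamental group scheme. The source's
standing convention for that chapter assumes the base field has characteristic p > 0; the printed
proof uses no characteristic hypothesis, so the row states it for any field.) -/
theorem result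
    (k : Type u) [Field k] (X : Scheme.{u}) [X.Over (Spec (CommRingCat.of k))]
    (x : Spec (CommRingCat.of k) ⟶ X) (hx : x ≫ (X ↘ Spec (CommRingCat.of k)) = 𝟙 _)
    (πN : Over (Spec (CommRingCat.of k))) [GrpObj πN] (P : Over X)
    (a : AlgGrp.Action (Red.bc (X ↘ Spec (CommRingCat.of k)) πN) P) (p : Spec (CommRingCat.of k) ⟶ P.left)
    (hP : NoriFGS.IsFGS x πN a p) [CompactSpace X]
    (G G₁ G₂ : Over (Spec (CommRingCat.of k))) [GrpObj G] [GrpObj G₁] [GrpObj G₂]
    [IsFinite G.hom] [IsFinite G₁.hom] [IsFinite G₂.hom]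
    (φ₁ : G₁ ⟶ G) (φ₂ : G₂ ⟶ G) [IsMonHom φ₁] [IsMonHom φ₂]
    (T T₁ T₂ : Over X)
    (b : AlgGrp.Action (Red.bc (X ↘ Spec (CommRingCat.of k)) G) T)
    (b₁ : AlgGrp.Action (Red.bc (X ↘ Spec (CommRingCat.of k)) G₁) T₁)
    (b₂ : AlgGrp.Action (Red.bc (X ↘ Spec (CommRingCat.of k)) G₂) T₂)
    (hT : NonAbH1.IsTorsorFor Scheme.fpqcPrecoverage b)
    (hT₁ : NonAbH1.IsTorsorFor Scheme.fpqcPrecoverage b₁)
    (hT₂ : NonAbH1.IsTorsorFor Scheme.fpqcPrecoverage b₂)
    (t : Spec (CommRingCat.of k) ⟶ T.left) (t₁ : Spec (CommRingCat.of k) ⟶ T₁.left) (t₂ : Spec (CommRingCat.of k) ⟶ T₂.left)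
    (ht : t ≫ T.hom = x) (ht₁ : t₁ ≫ T₁.hom = x) (ht₂ : t₂ ≫ T₂.hom = x)
    (f₁ : T₁ ⟶ T) (f₂ : T₂ ⟶ T)
    (hf₁ : NoriFGS.IsPtTorsorHom b₁ t₁ b t φ₁ f₁) (hf₂ : NoriFGS.IsPtTorsorHom b₂ t₂ b t φ₂ f₂)
    (Q : Over (Spec (CommRingCat.of k))) [GrpObj Q] (π₁ : Q ⟶ G₁) (π₂ : Q ⟶ G₂) [IsMonHom π₁] [IsMonHom π₂]
    (hQ : IsPullback π₁ π₂ φ₁ φ₂) :
    ∃ c : AlgGrp.Action (Red.bc (X ↘ Spec (CommRingCat.of k)) Q) (pullback f₁ f₂),
      AlgGrp.Action.IsEquivariant c (b₁.restrict ((Over.pullback (X ↘ Spec (CommRingCat.of k))).map π₁)) (pullback.fst f₁ f₂) ∧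
      AlgGrp.Action.IsEquivariant c (b₂.restrict ((Over.pullback (X ↘ Spec (CommRingCat.of k))).map π₂)) (pullback.snd f₁ f₂) ∧
      NonAbH1.IsTorsorFor Scheme.fpqcPrecoverage c := by
  let π := X ↘ Spec (CommRingCat.of k)
  let F := Over.pullback π
  let A := b₁.restrict (F.map π₁)
  let B := b₂.restrict (F.map π₂)
  have hsq : IsPullback (F.map π₁) (F.map π₂) (F.map φ₁) (F.map φ₂) := hQ.map F
  have hA : ∀ {S₀ : Over X} (g : S₀ ⟶ Red.bc π Q) (y : S₀ ⟶ T₁),
      (lift g y ≫ A.act) ≫ f₁ = lift ((g ≫ F.map π₁) ≫ F.map φ₁) (y ≫ f₁) ≫ b.act := by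
    intro S₀ g y
    rw [AlgGrp.Action.lift_restrict_act, Category.assoc, show b₁.act ≫ f₁ = _ from hf₁.1, lift_whiskerLeft_assoc,
      AlgGrp.Action.lift_restrict_act]
  have hB : ∀ {S₀ : Over X} (g : S₀ ⟶ Red.bc π Q) (y : S₀ ⟶ T₂),
      (lift g y ≫ B.act) ≫ f₂ = lift ((g ≫ F.map π₂) ≫ F.map φ₂) (y ≫ f₂) ≫ b.act := by
    intro S₀ g y
    rw [AlgGrp.Action.lift_restrict_act, Category.assoc, show b₂.act ≫ f₂ = _ from hf₂.1, lift_whiskerLeft_assoc,
      AlgGrp.Action.lift_restrict_act]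
  have hW : IsPullback (pullback.fst f₁ f₂) (pullback.snd f₁ f₂) f₁ f₂ := IsPullback.of_hasPullback f₁ f₂
  have hcond : ((Red.bc π Q ◁ pullback.fst f₁ f₂) ≫ A.act) ≫ f₁ =
      ((Red.bc π Q ◁ pullback.snd f₁ f₂) ≫ B.act) ≫ f₂ := by
    apply AlgGrp.Action.hom_ext_lift₂
    intro S₀ g y
    rw [← Category.assoc, lift_whiskerLeft_assoc, hA, ← Category.assoc (lift g y), lift_whiskerLeft_assoc, hB]
    congr 2
    · rw [Category.assoc, Category.assoc, hsq.w]
    · rw [Category.assoc, Category.assoc, hW.w]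
  let c : AlgGrp.Action (Red.bc π Q) (pullback f₁ f₂) :=
    { act := hW.lift ((Red.bc π Q ◁ pullback.fst f₁ f₂) ≫ A.act) ((Red.bc π Q ◁ pullback.snd f₁ f₂) ≫ B.act) hcond
      one_act := by
        apply hW.hom_ext
        · rw [Category.assoc, hW.lift_fst, ← whisker_exchange_assoc, A.one_act, leftUnitor_hom, leftUnitor_hom,
            whiskerLeft_snd]
        · rw [Category.assoc, hW.lift_snd, ← whisker_exchange_assoc, B.one_act, leftUnitor_hom, leftUnitor_hom,
            whiskerLeft_snd]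
      mul_act := by
        apply hW.hom_ext
        · apply AlgGrp.Action.hom_ext_lift₃
          intro S₀ h h' z
          simp only [Category.assoc, hW.lift_fst]
          rw [lift_whiskerRight_assoc, lift_whiskerLeft_assoc, lift_lift_associator_hom_assoc, lift_whiskerLeft_assoc,
            ← Hom.mul_def, AlgGrp.Action.lift_mul_act, lift_whiskerLeft_assoc, Category.assoc, hW.lift_fst,
            lift_whiskerLeft_assoc]
        · apply AlgGrp.Action.hom_ext_lift₃
          intro S₀ h h' z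
          simp only [Category.assoc, hW.lift_snd]
          rw [lift_whiskerRight_assoc, lift_whiskerLeft_assoc, lift_lift_associator_hom_assoc, lift_whiskerLeft_assoc,
            ← Hom.mul_def, AlgGrp.Action.lift_mul_act, lift_whiskerLeft_assoc, Category.assoc, hW.lift_snd,
            lift_whiskerLeft_assoc] }
  have e₁ : AlgGrp.Action.IsEquivariant c A (pullback.fst f₁ f₂) := hW.lift_fst _ _ _
  have e₂ : AlgGrp.Action.IsEquivariant c B (pullback.snd f₁ f₂) := hW.lift_snd _ _ _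
  have hc₁ : ∀ {S₀ : Over X} (g : S₀ ⟶ Red.bc π Q) (y : S₀ ⟶ pullback f₁ f₂),
      (lift g y ≫ c.act) ≫ pullback.fst f₁ f₂ =
        lift (g ≫ F.map π₁) (y ≫ pullback.fst f₁ f₂) ≫ b₁.act := by
    intro S₀ g y
    rw [Category.assoc, show c.act ≫ pullback.fst f₁ f₂ = _ from e₁, lift_whiskerLeft_assoc,
      AlgGrp.Action.lift_restrict_act]
  have hc₂ : ∀ {S₀ : Over X} (g : S₀ ⟶ Red.bc π Q) (y : S₀ ⟶ pullback f₁ f₂),
      (lift g y ≫ c.act) ≫ pullback.snd f₁ f₂ =
        lift (g ≫ F.map π₂) (y ≫ pullback.snd f₁ f₂) ≫ b₂.act := by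
    intro S₀ g y
    rw [Category.assoc, show c.act ≫ pullback.snd f₁ f₂ = _ from e₂, lift_whiskerLeft_assoc,
      AlgGrp.Action.lift_restrict_act]
  refine ⟨c, e₁, e₂, GrothLib.TorsorDesc.isPseudoTorsorSch_of_points (fun S₀ y y' => ?_) (fun S₀ g g' y e => ?_), ?_⟩
  · obtain ⟨g₁, h₁⟩ := GrothLib.TorsorDesc.exists_act_eq hT₁.1 (y ≫ pullback.fst f₁ f₂) (y' ≫ pullback.fst f₁ f₂)
    obtain ⟨g₂, h₂⟩ := GrothLib.TorsorDesc.exists_act_eq hT₂.1 (y ≫ pullback.snd f₁ f₂) (y' ≫ pullback.snd f₁ f₂)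
    have e1 := congrArg (· ≫ f₁) h₁
    have e2 := congrArg (· ≫ f₂) h₂
    simp only [Category.assoc, show b₁.act ≫ f₁ = _ from hf₁.1, lift_whiskerLeft_assoc,
      AlgGrp.Action.lift_restrict_act] at e1
    simp only [Category.assoc, show b₂.act ≫ f₂ = _ from hf₂.1, lift_whiskerLeft_assoc,
      AlgGrp.Action.lift_restrict_act, ← hW.w] at e2
    have eg : g₁ ≫ F.map φ₁ = g₂ ≫ F.map φ₂ := GrothLib.TorsorDesc.act_left_injective hT.1 (e1.trans e2.symm)
    refine ⟨hsq.lift g₁ g₂ eg, ?_⟩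
    apply hW.hom_ext
    · rw [hc₁, hsq.lift_fst, h₁]
    · rw [hc₂, hsq.lift_snd, h₂]
  · have u₁ := congrArg (· ≫ pullback.fst f₁ f₂) e
    have u₂ := congrArg (· ≫ pullback.snd f₁ f₂) e
    simp only [hc₁] at u₁
    simp only [hc₂] at u₂
    exact hsq.hom_ext (GrothLib.TorsorDesc.act_left_injective hT₁.1 u₁) (GrothLib.TorsorDesc.act_left_injective hT₂.1 u₂)
  · obtain ⟨-, hPt, -, huniv⟩ := hP
    obtain ⟨ψ, hψm, u, -, huu⟩ := huniv G T b t hT ht
    obtain ⟨ψ₁, hψ₁, u₁, hu₁, -⟩ := huniv G₁ T₁ b₁ t₁ hT₁ ht₁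
    obtain ⟨ψ₂, hψ₂, u₂, hu₂, -⟩ := huniv G₂ T₂ b₂ t₂ hT₂ ht₂
    haveI := hψ₁
    haveI := hψ₂
    have hv₁ : NoriFGS.IsPtTorsorHom a p b t (ψ₁ ≫ φ₁) (u₁ ≫ f₁) := by
      refine ⟨?_, by rw [Over.comp_left, ← Category.assoc, hu₁.2, hf₁.2]⟩
      apply AlgGrp.Action.hom_ext_lift₂
      intro S₀ g y
      rw [← Category.assoc a.act, show a.act ≫ u₁ = _ from hu₁.1, Category.assoc, lift_whiskerLeft_assoc,
        lift_whiskerLeft_assoc, ← Category.assoc, AlgGrp.Action.lift_restrict_act, AlgGrp.Action.lift_restrict_act,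
        Category.assoc, show b₁.act ≫ f₁ = _ from hf₁.1, lift_whiskerLeft_assoc, AlgGrp.Action.lift_restrict_act,
        Functor.map_comp, Category.assoc, Category.assoc]
    have hv₂ : NoriFGS.IsPtTorsorHom a p b t (ψ₂ ≫ φ₂) (u₂ ≫ f₂) := by
      refine ⟨?_, by rw [Over.comp_left, ← Category.assoc, hu₂.2, hf₂.2]⟩
      apply AlgGrp.Action.hom_ext_lift₂
      intro S₀ g y
      rw [← Category.assoc a.act, show a.act ≫ u₂ = _ from hu₂.1, Category.assoc, lift_whiskerLeft_assoc,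
        lift_whiskerLeft_assoc, ← Category.assoc, AlgGrp.Action.lift_restrict_act, AlgGrp.Action.lift_restrict_act,
        Category.assoc, show b₂.act ≫ f₂ = _ from hf₂.1, lift_whiskerLeft_assoc, AlgGrp.Action.lift_restrict_act,
        Functor.map_comp, Category.assoc, Category.assoc]
    have hu : u₁ ≫ f₁ = u₂ ≫ f₂ := (huu _ _ hv₁).2.trans (huu _ _ hv₂).2.symm
    obtain ⟨R, hR, hsec⟩ := hPt.2
    refine ⟨R, hR, fun S' j hj => ?_⟩
    obtain ⟨s, hs⟩ := hsec j hj
    exact ⟨s ≫ (pullback.lift u₁ u₂ hu).left, by rw [Category.assoc, Over.w]; exact hs⟩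

end Groth.Agent.S19816
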