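import Groth.Statements.S19817
import Groth.Agent.Lib.NoriFGS13.Induced
-- import your own Groth.Agent.* helpers here

set_option autoImplicit false
universe u
open CategoryTheory CategoryTheory.Limits MonoidalCategory CartesianMonoidalCategory MonObj GrpObj AlgebraicGeometry
open NoriFGS

namespace Groth.Agent.S19817

/-- The order of a finite group scheme. -/
noncomputable def rk {k : Type u} [Field k] (G : Over (Spec (CommRingCat.of k))) : ℕ :=
  @Module.finrank k (Coh.Γtop G.left) _ _ (Module.compHom (Coh.Γtop G.left) (Coh.toGlobal G.hom))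

/-- The structure map of global functions. -/
noncomputable def str {k : Type u} [Field k] (C : Over (Spec (CommRingCat.of k))) : k →+* Γ(C.left, ⊤) :=
  C.hom.appTop.hom.comp (Scheme.ΓSpecIso (CommRingCat.of k)).inv.hom

theorem surjective_of_rk_le {k : Type u} [Field k] {A B : Over (Spec (CommRingCat.of k))} [IsFinite A.hom]
    [IsFinite B.hom] (r : A ⟶ B) (hinj : Function.Injective r.left.appTop) (hle : rk A ≤ rk B) :
    Function.Surjective r.left.appTop := by
  letI mA : Module k Γ(A.left, ⊤) := Module.compHom _ (str A)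
  letI mB : Module k Γ(B.left, ⊤) := Module.compHom _ (str B)
  have hfin : ∀ C : Over (Spec (CommRingCat.of k)), IsFinite C.hom →
      @Module.Finite k Γ(C.left, ⊤) _ _ (Module.compHom _ (str C)) := fun C hC => by
    letI : Algebra k Γ(C.left, ⊤) := (str C).toAlgebra
    have h : (str C).Finite := RingHom.Finite.comp C.hom.finite_appTop
      (RingHom.Finite.of_surjective _ (Scheme.ΓSpecIso (CommRingCat.of k)).commRingCatIsoToRingEquiv.symm.surjective)
    exact h
  haveI := hfin A ‹_›
  haveI := hfin B ‹_›
  let l : Γ(B.left, ⊤) →ₗ[k] Γ(A.left, ⊤) :=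
    { toFun := r.left.appTop
      map_add' := map_add _
      map_smul' := fun c z => by
        show r.left.appTop.hom (str B c * z) = str A c * r.left.appTop.hom z
        rw [map_mul]
        congr 1
        show (r.left.appTop.hom.comp (str B)) c = str A c
        rw [str, str, ← RingHom.comp_assoc, ← CommRingCat.hom_comp, ← Scheme.Hom.comp_appTop, Over.w r] }
  have h := l.finrank_le_finrank_of_injective hinj
  exact (LinearMap.injective_iff_surjective_of_finrank_eq_finrank (le_antisymm h hle) (f := l)).1 hinj


/-- Let k be a field and X a scheme over k with a rational point x which possesses a fundamental group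
scheme π with its universal pointed torsor. Suppose that there is a natural number M such that, for
every finite group scheme G over k and every G-torsor over X (locally trivial for the fpqc topology)
pointed over x which is Nori-reduced, the order of G, namely the dimension over k of the coordinate
ring Γ(G, O_G) (a k-algebra through the structure morphism G → Spec k), is at most M. Then π is
finite over k. -/
theorem result
    (k : Type u) [Field k] (X : Scheme.{u}) [X.Over (Spec (CommRingCat.of k))]
    (x : Spec (CommRingCat.of k) ⟶ X) (hx : x ≫ (X ↘ Spec (CommRingCat.of k)) = 𝟙 _)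
    (πN : Over (Spec (CommRingCat.of k))) [GrpObj πN] (P : Over X)
    (a : AlgGrp.Action (Red.bc (X ↘ Spec (CommRingCat.of k)) πN) P) (p : Spec (CommRingCat.of k) ⟶ P.left)
    (hP : NoriFGS.IsFGS x πN a p) (M : ℕ)
    (hM : ∀ (G : Over (Spec (CommRingCat.of k))) [GrpObj G] [IsFinite G.hom] (T : Over X)
      (b : AlgGrp.Action (Red.bc (X ↘ Spec (CommRingCat.of k)) G) T) (t : Spec (CommRingCat.of k) ⟶ T.left),
      NonAbH1.IsTorsorFor Scheme.fpqcPrecoverage b → t ≫ T.hom = x →
      NoriFGS.IsNoriReduced Scheme.fpqcPrecoverage b →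
      @Module.finrank k (Coh.Γtop G.left) _ _ (Module.compHom (Coh.Γtop G.left) (Coh.toGlobal G.hom)) ≤ M) :
    IsFinite πN.hom := by
  open GrothLib.NoriFGS13 in
  classical
  haveI := isAffine_of_isProFinite hP.1
  obtain ⟨pp⟩ := id hP.1
  letI := pp.cat
  letI := fun j => pp.grp j
  haveI := pp.cofiltered
  -- the bounded set of orders of dominant finite quotients
  let s : Set ℕ := {n | ∃ (G : Over (Spec (CommRingCat.of k))) (_ : GrpObj G) (_ : IsFinite G.hom) (ψ : πN ⟶ G)
    (_ : IsMonHom ψ) (_ : IsSchemeTheoreticallyDominant ψ.left), rk G = n}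
  have hbd : ∀ n ∈ s, n ≤ M := by
    rintro n ⟨G, _, _, ψ, _, _, rfl⟩
    obtain ⟨T, b, t, g, hb, ht, hg⟩ := exists_push hP ψ
    exact hM G T b t hb ht (isNoriReduced_of_dominant hx hP hb ht ψ hg)
  obtain ⟨i₀⟩ : Nonempty pp.I := IsCofiltered.nonempty
  haveI := pp.finite i₀
  haveI : IsMonHom (show πN ⟶ pp.D.obj i₀ from pp.π.app i₀) := pp.isMonHom_π i₀
  have hne : s.Nonempty := by
    obtain ⟨G, gG, hG, _, _, _, ψ, hψ, -, hd, -⟩ := exists_image hP.1 (show πN ⟶ pp.D.obj i₀ from pp.π.app i₀)
    exact ⟨_, G, gG, hG, ψ, hψ, hd, rfl⟩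
  obtain ⟨G, _, _, ψ, _, _, hG⟩ := Nat.sSup_mem hne ⟨M, hbd⟩
  haveI : IsAffine G.left := isAffine_of_isAffineHom G.hom
  have hsurj : Function.Surjective ψ.left.appTop := by
    intro z
    obtain ⟨i, t, rfl⟩ := exists_appTop_eq pp z
    haveI := pp.finite i
    let πi : πN ⟶ pp.D.obj i := pp.π.app i
    haveI : IsMonHom πi := pp.isMonHom_π i
    haveI : IsAffine (pp.D.obj i).left := isAffine_obj pp i
    haveI : IsFinite (G ⊗ pp.D.obj i).hom := by
      show IsFinite (pullback.fst G.hom (pp.D.obj i).hom ≫ G.hom)
      infer_instance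
    haveI : IsMonHom (lift ψ πi) :=
      { one_hom := by apply CartesianMonoidalCategory.hom_ext <;> simp [IsMonHom.one_hom]
        mul_hom := by apply CartesianMonoidalCategory.hom_ext <;> simp [IsMonHom.mul_hom] }
    obtain ⟨G', gG', hG', j, _, _, χ, hχ, he, hd, hq⟩ := exists_image hP.1 (lift ψ πi)
    haveI : IsAffine G'.left := isAffine_of_isAffineHom G'.hom
    let r : G' ⟶ G := j ≫ fst _ _
    have hr : χ ≫ r = ψ := by rw [reassoc_of% he, lift_fst]
    have hle : rk G' ≤ rk G := hG ▸ le_csSup ⟨M, hbd⟩ ⟨G', gG', hG', χ, hχ, hd, rfl⟩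
    have hinj : Function.Injective r.left.appTop := by
      refine Function.Injective.of_comp (f := χ.left.appTop) ?_
      haveI : QuasiCompact ψ.left := inferInstance
      have hc : r.left.appTop ≫ χ.left.appTop = ψ.left.appTop := by
        rw [← Scheme.Hom.comp_appTop, ← Over.comp_left, hr]
      intro a b e
      refine ψ.left.app_injective ⊤ ?_
      show ψ.left.appTop a = ψ.left.appTop b
      rw [← hc]; exact e
    obtain ⟨w, hw⟩ := (surjective_of_rk_le r hinj hle) (j.left.appTop ((snd G (pp.D.obj i)).left.appTop t))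
    refine ⟨w, ?_⟩
    rw [← hr, Over.comp_left, Scheme.Hom.comp_appTop]
    show χ.left.appTop (r.left.appTop w) = _
    rw [hw]
    show (((snd G (pp.D.obj i)).left.appTop ≫ j.left.appTop) ≫ χ.left.appTop) t = _
    rw [← Scheme.Hom.comp_appTop, ← Scheme.Hom.comp_appTop, ← Over.comp_left, ← Over.comp_left, ← Category.assoc χ,
      he, lift_snd]
  haveI : IsClosedImmersion ψ.left := IsClosedImmersion.of_surjective_of_isAffine ψ.left hsurj
  rw [← Over.w ψ]
  haveI : IsFinite ψ.left := inferInstance
  infer_instance

end Groth.Agent.S19817
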