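import Groth.Statements.S19818
import Groth.Agent.Lib.NoriFGS13.Induced
import Groth.Agent.S12837
import Groth.Agent.S14535
import Groth.Agent.S14541
-- import your own Groth.Agent.* helpers here

set_option autoImplicit false
universe u
open CategoryTheory CategoryTheory.Limits MonoidalCategory CartesianMonoidalCategory MonObj GrpObj AlgebraicGeometry
open NoriFGS

namespace Groth.Agent.S19818

set_option backward.isDefEq.respectTransparency.types false


/-- Let k be an algebraically closed field, X a smooth, proper and integral curve over k (of dimension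
one) with a rational point x, and let π be a fundamental group scheme of (X, x) with its universal
pointed torsor P. Let G be a connected reductive group over k and F a G-torsor over X (for the base
change of G to X, locally trivial for the fppf topology). Then F is essentially finite, meaning that
it admits a reduction of structure group to a finite group scheme: there are a finite group scheme Γ
over k, a homomorphism ι : Γ → G and a Γ-torsor Q over X together with an ι-equivariant X-morphism Q
→ F (so that F is obtained from Q by extension of the structure group along ι), if and only if there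
is a homomorphism ρ : π → G together with a ρ-equivariant X-morphism P → F (F is obtained from the
universal torsor by extension of the structure group along ρ). -/
theorem result
    (k : Type u) [Field k] [IsAlgClosed k] (X : Scheme.{u}) [X.Over (Spec (CommRingCat.of k))]
    [AlgebraicGeometry.IsIntegral X] [IsProper (X ↘ Spec (CommRingCat.of k))] [Smooth (X ↘ Spec (CommRingCat.of k))]
    (hdim : topologicalKrullDim X = 1)
    (x : Spec (CommRingCat.of k) ⟶ X) (hx : x ≫ (X ↘ Spec (CommRingCat.of k)) = 𝟙 _)
    (πN : Over (Spec (CommRingCat.of k))) [GrpObj πN] (P : Over X)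
    (a : AlgGrp.Action (Red.bc (X ↘ Spec (CommRingCat.of k)) πN) P) (p : Spec (CommRingCat.of k) ⟶ P.left)
    (hP : NoriFGS.IsFGS x πN a p)
    (G : Over (Spec (CommRingCat.of k))) [GrpObj G] (hG : Red.IsReductiveOver k G)
    (F : Over X) (aF : AlgGrp.Action (Red.bc (X ↘ Spec (CommRingCat.of k)) G) F)
    (hF : NonAbH1.IsTorsorFor Scheme.fppfPrecoverage aF) :
    (∃ (Gf : Over (Spec (CommRingCat.of k))) (_ : GrpObj Gf) (_ : IsFinite Gf.hom) (i : Gf ⟶ G) (_ : IsMonHom i)
        (Q : Over X) (c : AlgGrp.Action (Red.bc (X ↘ Spec (CommRingCat.of k)) Gf) Q),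
        NonAbH1.IsTorsorFor Scheme.fppfPrecoverage c ∧
          NonAbH1.IsPushforwardAlongSch ((Over.pullback (X ↘ Spec (CommRingCat.of k))).map i) c aF) ↔
      ∃ (ρ : πN ⟶ G) (_ : IsMonHom ρ),
        NonAbH1.IsPushforwardAlongSch ((Over.pullback (X ↘ Spec (CommRingCat.of k))).map ρ) a aF := by
  open GrothLib.NoriFGS13 in
  let π := X ↘ Spec (CommRingCat.of k)
  obtain ⟨hGa, hGs, -, -⟩ := hG
  haveI := hGa
  haveI := hGs
  haveI := isAffine_of_isProFinite hP.1
  constructor
  · rintro ⟨Gf, _, _, i, _, Q, c, hc, q, hq⟩
    have hc' : NonAbH1.IsTorsorFor Scheme.fpqcPrecoverage c :=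
      ⟨hc.1, GrothLib.TorsorDesc.isLocallyTrivialFor_mono Scheme.fppfPrecoverage_le_fpqcPrecoverage hc.2⟩
    haveI : IsAffine Gf.left := isAffine_of_isAffineHom Gf.hom
    haveI := isAffineHom_bc π Gf
    haveI : IsAffine (Red.bc x (Red.bc π Gf)).left := by
      haveI : IsAffineHom (Red.bc x (Red.bc π Gf)).hom :=
        MorphismProperty.of_isPullback (P := (@IsAffineHom : MorphismProperty Scheme.{u}))
          (IsPullback.of_hasPullback (Red.bc π Gf).hom x) ‹_›
      exact isAffine_of_isAffineHom (Red.bc x (Red.bc π Gf)).hom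
    obtain ⟨s⟩ := Groth.Agent.S14535.result k (Red.bc x (Red.bc π Gf)) (Red.bc x Q) (c.bc x)
      (NonAbH1.isTorsorFor_bc x _ hc')
    let t : Spec (CommRingCat.of k) ⟶ Q.left := s.left ≫ pullback.fst Q.hom x
    have ht : t ≫ Q.hom = x := by
      have h1 := Over.w s
      rw [Category.assoc, pullback.condition]
      show s.left ≫ (Red.bc x Q).hom ≫ x = x
      rw [← Category.assoc, h1]
      exact Category.id_comp x
    obtain ⟨ψ, _, g, hg, -⟩ := hP.2.2.2 Gf Q c t hc' ht
    refine ⟨ψ ≫ i, inferInstance, g ≫ q, AlgGrp.Action.hom_ext_lift₂ fun T γ z => ?_⟩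
    rw [← Category.assoc, ← Category.assoc, equivariant_points hg.1, Category.assoc, hq, comp_lift_assoc,
      lift_fst_assoc, lift_snd_assoc, comp_lift_assoc, lift_fst_assoc, lift_snd_assoc, Functor.map_comp]
    simp only [Category.assoc]
  · rintro ⟨ρ, _, f, hf⟩
    haveI : QuasiCompact ρ.left := inferInstance
    obtain ⟨N, _, j, _, _, ρ', hρ', _, _⟩ := GrothLib.AntiAffine.exists_image_subgroup ρ
    haveI : Mono j := mono_of_isClosedImmersion j
    haveI : IsMonHom ρ' :=
      { one_hom := by rw [← cancel_mono j, Category.assoc, hρ', IsMonHom.one_hom, IsMonHom.one_hom]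
        mul_hom := by
          rw [← cancel_mono j, Category.assoc, hρ', IsMonHom.mul_hom, Category.assoc, IsMonHom.mul_hom (f := j),
            tensorHom_comp_tensorHom_assoc, hρ'] }
    haveI : IsAffine N.left := isAffine_of_isAffineHom j.left
    haveI : LocallyOfFiniteType N.hom := by rw [← Over.w j]; infer_instance
    haveI : IsFinite N.hom := by
      rw [IsFinite.iff_isIntegralHom_and_locallyOfFiniteType]
      refine ⟨?_, inferInstance⟩
      rw [HasAffineProperty.iff_of_isAffine (P := (@IsIntegralHom : MorphismProperty Scheme.{u}))]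
      refine ⟨inferInstance, fun z => ?_⟩
      obtain ⟨pp⟩ := hP.1
      letI := pp.cat
      letI := fun j => pp.grp j
      obtain ⟨i, w, hw⟩ := exists_appTop_eq pp (ρ'.left.appTop z)
      haveI := pp.finite i
      obtain ⟨P₀, hP₀, hP₀'⟩ := (pp.D.obj i).hom.finite_appTop.to_isIntegral w
      refine ⟨P₀, hP₀, ρ'.left.app_injective ⊤ ?_⟩
      show ρ'.left.appTop.hom (P₀.eval₂ N.hom.appTop.hom z) = ρ'.left.appTop.hom 0
      rw [map_zero, Polynomial.hom_eval₂, ← hw]
      have e : ρ'.left.appTop.hom.comp N.hom.appTop.hom =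
          (show πN ⟶ pp.D.obj i from pp.π.app i).left.appTop.hom.comp (pp.D.obj i).hom.appTop.hom := by
        rw [← CommRingCat.hom_comp, ← CommRingCat.hom_comp, ← Scheme.Hom.comp_appTop, ← Scheme.Hom.comp_appTop,
          Over.w, Over.w]
      rw [e, ← Polynomial.hom_eval₂, hP₀', map_zero]
    obtain ⟨Q, c, t, g, hc, ht, hg⟩ := exists_push hP ρ'
    haveI : Flat (Red.bc π N).hom := by
      haveI : Flat N.hom := GrothLib.AlgSp.flat_to_field _
      exact MorphismProperty.of_isPullback (P := (@Flat : MorphismProperty Scheme.{u}))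
        (IsPullback.of_hasPullback N.hom π) ‹_›
    haveI : LocallyOfFinitePresentation (Red.bc π N).hom :=
      MorphismProperty.of_isPullback (P := (@LocallyOfFinitePresentation : MorphismProperty Scheme.{u}))
        (IsPullback.of_hasPullback N.hom π) inferInstance
    refine ⟨N, inferInstance, inferInstance, j, inferInstance, Q, c, Groth.Agent.S12837.result _ Q c hc, ?_⟩
    haveI := isAffineHom_bc π πN
    haveI := isAffineHom_bc π N
    haveI := isAffineHom_bc π G
    have hq : a.act ≫ g = lift (fst _ P ≫ (Over.pullback π).map ρ') (snd _ P ≫ g) ≫ c.act :=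
      AlgGrp.Action.hom_ext_lift₂ fun T γ z => by
        rw [← Category.assoc, equivariant_points hg.1, comp_lift_assoc, lift_fst_assoc, lift_snd_assoc]
    have hq' : a.act ≫ f = lift (fst _ P ≫ (Over.pullback π).map ρ' ≫ (Over.pullback π).map j) (snd _ P ≫ f) ≫ aF.act := by
      rw [← Functor.map_comp, hρ']; exact hf
    obtain ⟨r, ⟨hr, -⟩, -⟩ := Groth.Agent.S14541.result ((Over.pullback π).map ρ') ((Over.pullback π).map j) a c aF
      hP.2.1 hc ⟨hF.1, GrothLib.TorsorDesc.isLocallyTrivialFor_mono Scheme.fppfPrecoverage_le_fpqcPrecoverage hF.2⟩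
      g hq f hq'
    exact ⟨r, hr⟩

end Groth.Agent.S19818
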