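import Groth.Statements.S19819
import Groth.Agent.Lib.NoriFGS13.Induced
-- import your own Groth.Agent.* helpers here

set_option autoImplicit false
universe u
open CategoryTheory CategoryTheory.Limits MonoidalCategory CartesianMonoidalCategory MonObj GrpObj AlgebraicGeometry
open NoriFGS

namespace Groth.Agent.S19819

/-- Let X and Y be schemes over a field k with rational points x and y, each possessing a fundamental
group scheme with its universal pointed torsor, let f : X → Y be a k-morphism sending x to y, and
let φ be the homomorphism of fundamental group schemes induced by f. Suppose that for every finite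
group scheme G over k and every G-torsor T over X (locally trivial for the fpqc topology), pointed
over x and Nori-reduced, there are a finite group scheme H over k, an H-torsor U over Y pointed over
y and Nori-reduced, a homomorphism i : G → H which is a closed immersion and a closed immersion j :
T → U ×_Y X over X, equivariant along i for the base-changed action and sending the marked point of
T to the point of U ×_Y X lying over x and over the marked point of U (T is a pointed sub-torsor of
the pull-back of U). Then φ is a closed immersion. (The published statement is an equivalence and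
does not require the sub-torsor to pass through the marked points; the converse implication fails:
for a finite etale Galois situation with groups V ⊂ S, V the Klein four-group normal in the
symmetric group S on four letters, a subgroup of order two of V is not the intersection of V with
any normal subgroup of S, so the corresponding torsor of order two over X is not a sub-torsor of any
pull-back. The source's standing convention for that chapter assumes the base field has
characteristic p > 0; the printed proof uses no characteristic hypothesis, so the row states it for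
any field.) -/
theorem result
    (k : Type u) [Field k] (X Y : Scheme.{u})
    [X.Over (Spec (CommRingCat.of k))] [Y.Over (Spec (CommRingCat.of k))]
    (x : Spec (CommRingCat.of k) ⟶ X) (y : Spec (CommRingCat.of k) ⟶ Y)
    (hx : x ≫ (X ↘ Spec (CommRingCat.of k)) = 𝟙 _) (hy : y ≫ (Y ↘ Spec (CommRingCat.of k)) = 𝟙 _)
    (f : X ⟶ Y) (hf : f ≫ (Y ↘ Spec (CommRingCat.of k)) = X ↘ Spec (CommRingCat.of k)) (hfx : x ≫ f = y)
    (πX πY : Over (Spec (CommRingCat.of k))) [GrpObj πX] [GrpObj πY] (PX : Over X) (PY : Over Y)
    (aX : AlgGrp.Action (Red.bc (X ↘ Spec (CommRingCat.of k)) πX) PX)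
    (aY : AlgGrp.Action (Red.bc (Y ↘ Spec (CommRingCat.of k)) πY) PY)
    (pX : Spec (CommRingCat.of k) ⟶ PX.left) (pY : Spec (CommRingCat.of k) ⟶ PY.left)
    (hX : NoriFGS.IsFGS x πX aX pX) (hY : NoriFGS.IsFGS y πY aY pY)
    (φ : πX ⟶ πY) (hφ : NoriFGS.IsInducedHom f hf aX pX aY pY φ)
    (hsub : ∀ (G : Over (Spec (CommRingCat.of k))) [GrpObj G] [IsFinite G.hom] (T : Over X)
      (b : AlgGrp.Action (Red.bc (X ↘ Spec (CommRingCat.of k)) G) T) (t : Spec (CommRingCat.of k) ⟶ T.left),
      NonAbH1.IsTorsorFor Scheme.fpqcPrecoverage b → t ≫ T.hom = x →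
      NoriFGS.IsNoriReduced Scheme.fpqcPrecoverage b →
      ∃ (H : Over (Spec (CommRingCat.of k))) (_ : GrpObj H) (_ : IsFinite H.hom) (U : Over Y)
        (c : AlgGrp.Action (Red.bc (Y ↘ Spec (CommRingCat.of k)) H) U) (u : Spec (CommRingCat.of k) ⟶ U.left)
        (i : G ⟶ H) (_ : IsMonHom i) (_ : IsClosedImmersion i.left)
        (j : T ⟶ Red.bc f U) (_ : IsClosedImmersion j.left),
        NonAbH1.IsTorsorFor Scheme.fpqcPrecoverage c ∧ u ≫ U.hom = y ∧
        NoriFGS.IsNoriReduced Scheme.fpqcPrecoverage c ∧
        AlgGrp.Action.IsEquivariant b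
          (((c.bc f).restrict (ActBC.bcCompIso f (Y ↘ Spec (CommRingCat.of k)) H hf).inv).restrict
            ((Over.pullback (X ↘ Spec (CommRingCat.of k))).map i)) j ∧
        t ≫ j.left ≫ pullback.fst U.hom f = u) :
    IsClosedImmersion φ.left := by
  open GrothLib.NoriFGS13 in
  haveI := isAffine_of_isProFinite hX.1
  haveI := isAffine_of_isProFinite hY.1
  obtain ⟨_, -, -⟩ := id hφ
  refine IsClosedImmersion.of_surjective_of_isAffine φ.left fun s => ?_
  obtain ⟨pp⟩ := hX.1
  obtain ⟨i, t, rfl⟩ := exists_appTop_eq pp s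
  letI := pp.cat
  letI := fun j => pp.grp j
  haveI := pp.finite i
  let πi : πX ⟶ pp.D.obj i := pp.π.app i
  haveI : IsMonHom πi := pp.isMonHom_π i
  obtain ⟨M, _, _, m, _, _, ψ, _, hψ, _, _⟩ := exists_image hX.1 πi
  obtain ⟨T, b, t₀, g, hb, ht₀, hg⟩ := exists_push hX ψ
  obtain ⟨H, _, _, U, c, u, i', _, _, j, _, hc, hu, -, hj, hpt⟩ :=
    hsub M T b t₀ hb ht₀ (isNoriReduced_of_dominant hx hX hb ht₀ ψ hg)
  obtain ⟨χ, _, gY, hgY, -⟩ := hY.2.2.2 H U c u hc hu
  haveI : IsMonHom (φ ≫ χ) := inferInstance
  obtain ⟨u', f', hu', hu'u, hf'⟩ := exists_ptTorsorHom_bc f hf hfx hX.2.2.1 hφ hu χ hgY (φ ≫ χ) rfl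
  obtain ⟨_, _, _, _, huniq⟩ := hX.2.2.2 H (Red.bc f U) (bcAct f hf c) u' (isTorsorFor_bcAct f hf hc) hu'
  have hp : pX ≫ (g ≫ j).left = u' := by
    rw [Over.comp_left, ← Category.assoc, hg.2]
    apply pullback.hom_ext
    · rw [Category.assoc, hpt]; exact hu'u.symm
    · rw [Category.assoc]
      exact ((congrArg (t₀ ≫ ·) (Over.w j)).trans ht₀).trans hu'.symm
  have e : ψ ≫ i' = φ ≫ χ :=
    (huniq (ψ ≫ i') (g ≫ j) ⟨equivariant_comp ((Over.pullback _).map_comp ψ i') hg.1 hj, hp⟩).1.trans
      (huniq (φ ≫ χ) f' hf').1.symm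
  haveI : IsAffine H.left := isAffine_of_isAffineHom H.hom
  obtain ⟨h, hh⟩ := i'.left.app_surjective ⊤ (isAffineOpen_top _) (m.left.appTop t)
  refine ⟨χ.left.appTop h, ?_⟩
  have e' : χ.left.appTop ≫ φ.left.appTop = i'.left.appTop ≫ ψ.left.appTop := by
    rw [← Scheme.Hom.comp_appTop, ← Scheme.Hom.comp_appTop, ← Over.comp_left, ← Over.comp_left, e]
  have hψ' : m.left.appTop ≫ ψ.left.appTop = πi.left.appTop := by
    rw [← Scheme.Hom.comp_appTop, ← Over.comp_left, hψ]
  calc φ.left.appTop (χ.left.appTop h) = (χ.left.appTop ≫ φ.left.appTop) h := rfl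
    _ = (i'.left.appTop ≫ ψ.left.appTop) h := by rw [e']
    _ = ψ.left.appTop (m.left.appTop t) := congrArg ψ.left.appTop hh
    _ = (m.left.appTop ≫ ψ.left.appTop) t := rfl
    _ = _ := by rw [hψ']

end Groth.Agent.S19819
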