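import Groth.Statements.S1982
import Groth.Agent.Lib.EtRam10.Abhyankar

set_option autoImplicit false
universe u
open EtAlg

namespace Groth.Agent.S1982

/-- Suppose A -> B makes the discrete valuation ring B an extension of the discrete valuation ring A,
write K ⊂ L for their fraction fields and e for the ramification index; assume the residue
characteristic of A is zero, or it is p with p not dividing e and the residue field extension of A
-> B separable (in the general sense, i.e. geometrically reduced; it need not be algebraic). Let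
K₁/K be a finite extension. Then for every compositum M of L and K₁ and every valuation subring W of
M dominating B such that e divides the ramification index of A -> W ∩ K₁, the extension W ∩ K₁ -> W
is weakly unramified with separable (geometrically reduced) residue field extension. -/
theorem result (A B K L : Type u) [CommRing A] [IsDomain A] [IsDiscreteValuationRing A]
    [CommRing B] [IsDomain B] [IsDiscreteValuationRing B] [Algebra A B] [IsLocalHom (algebraMap A B)]
    (hinj : Function.Injective (algebraMap A B))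
    [Field K] [Field L] [Algebra A K] [IsFractionRing A K] [Algebra B L] [IsFractionRing B L]
    [Algebra K L] [Algebra A L] [IsScalarTower A K L] [IsScalarTower A B L]
    (htame : CharZero (IsLocalRing.ResidueField A) ∨
      ∃ p : ℕ, p.Prime ∧ CharP (IsLocalRing.ResidueField A) p ∧
        ¬ p ∣ Ideal.ramificationIdx' (IsLocalRing.maximalIdeal A) (IsLocalRing.maximalIdeal B) ∧
        Algebra.IsGeometricallyReduced (IsLocalRing.ResidueField A) (IsLocalRing.ResidueField B))
    (K₁ : Type u) [Field K₁] [Algebra K K₁] [FiniteDimensional K K₁] :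
    EtRam.ForallLocalExt B K L K₁ (fun M _ W f =>
      ∀ hA : ∀ a : A, (algebraMap K K₁) (algebraMap A K a) ∈ W.comap f,
        letI : Algebra A (W.comap f) := (RingHom.codRestrict ((algebraMap K K₁).comp (algebraMap A K)) (W.comap f) hA).toAlgebra
        letI : Algebra (W.comap f) W := (EtRam.inclOfComap W f).toAlgebra
        Ideal.ramificationIdx' (IsLocalRing.maximalIdeal A) (IsLocalRing.maximalIdeal B) ∣
          Ideal.ramificationIdx' (IsLocalRing.maximalIdeal A) (IsLocalRing.maximalIdeal (W.comap f)) →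
        EtRam.IsWeaklyUnramified (W.comap f) W ∧
          @Algebra.IsGeometricallyReduced (IsLocalRing.ResidueField (W.comap f)) (IsLocalRing.ResidueField W) _ _
            (IsLocalRing.ResidueField.map (EtRam.inclOfComap W f)).toAlgebra) := by
  classical
  intro M _ _ _ _ _ _ hgen W hW
  intro hA
  set f := algebraMap K₁ M
  let gA : A →+* K₁ := (algebraMap K K₁).comp (algebraMap A K)
  let gC : A →+* W.comap f := RingHom.codRestrict gA (W.comap f) hA
  letI : Algebra A (W.comap f) := gC.toAlgebra
  intro hdiv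
  obtain ⟨π, hπi⟩ := IsDiscreteValuationRing.exists_irreducible A
  obtain ⟨ϖ, hϖi⟩ := IsDiscreteValuationRing.exists_irreducible B
  obtain ⟨he0, heB⟩ := GrothLib.DVRExt.map_maximalIdeal_eq_pow (A := A) (B := B) hinj
  set e := Ideal.ramificationIdx' (IsLocalRing.maximalIdeal A) (IsLocalRing.maximalIdeal B) with he
  have heu : IsUnit (e : A) := by
    refine GrothLib.TameAbh21.isUnit_natCast e he0 fun p hp hc hd => ?_
    rcases htame with h0 | ⟨q, hq, hcq, hnd, -⟩
    · haveI := h0
      exact hp.ne_zero (CharP.eq (IsLocalRing.ResidueField A) hc (CharP.ofCharZero _))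
    · exact hnd (CharP.eq (IsLocalRing.ResidueField A) hcq hc ▸ hd)
  haveI hgr : Algebra.IsGeometricallyReduced (IsLocalRing.ResidueField A) (IsLocalRing.ResidueField B) := by
    rcases htame with h0 | ⟨q, hq, hcq, hnd, hg⟩
    · haveI := h0
      exact GrothLib.GrpSchField.isGeometricallyReduced_of_isReduced
    · exact hg
  rw [hπi.maximalIdeal_eq, Ideal.map_span, Set.image_singleton, hϖi.maximalIdeal_eq,
    Ideal.span_singleton_pow, Ideal.span_singleton_eq_span_singleton] at heB
  obtain ⟨u, hu⟩ := heB.symm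
  have hAM : ∀ a, f (gA a) = algebraMap L M (algebraMap B L (algebraMap A B a)) := fun a => by
    show algebraMap K₁ M (algebraMap K K₁ (algebraMap A K a)) = _
    rw [← IsScalarTower.algebraMap_apply K K₁ M, IsScalarTower.algebraMap_apply K L M,
      ← IsScalarTower.algebraMap_apply A K L, ← IsScalarTower.algebraMap_apply A B L]
  -- the valuation ring `C = W ∩ K₁`
  have hdC : EtRam.Dominates A gA (W.comap f) := by
    refine GrothLib.EtRam10.dominates_comap_of_comp f _ W ⟨fun a => hA a, fun a ha => ?_⟩
    show W.valuation (f (gA a)) < 1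
    rw [hAM]
    exact hW.2 _ fun hu => ha (IsUnit.of_map (algebraMap A B) a hu)
  haveI := GrothLib.DVRExt.isDiscreteValuationRing_of_dominates A K K₁ (W.comap f) hdC
  haveI : IsLocalHom (algebraMap A (W.comap f)) := GrothLib.EtRam10.isLocalHom_of_dominates gA _ hdC
  have hinjC : Function.Injective (algebraMap A (W.comap f)) := fun x y hxy =>
    ((algebraMap K K₁).injective.comp (IsFractionRing.injective A K)) (congrArg Subtype.val hxy)
  obtain ⟨ϖ₁, hϖ₁i⟩ := IsDiscreteValuationRing.exists_irreducible (W.comap f)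
  obtain ⟨-, heC⟩ := GrothLib.DVRExt.map_maximalIdeal_eq_pow (A := A) (B := W.comap f) hinjC
  obtain ⟨k, hk⟩ : e ∣ Ideal.ramificationIdx' (IsLocalRing.maximalIdeal A) (IsLocalRing.maximalIdeal (W.comap f)) := hdiv
  rw [hk] at heC
  rw [hπi.maximalIdeal_eq, Ideal.map_span, Set.image_singleton, hϖ₁i.maximalIdeal_eq,
    Ideal.span_singleton_pow, Ideal.span_singleton_eq_span_singleton] at heC
  obtain ⟨u₁, hu₁⟩ := heC.symm
  -- adjoin a root of the unit
  suffices key : ∀ (M' : Type u) [Field M'] [Algebra M M'] (s : M'),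
      s ^ e = algebraMap M M' (algebraMap L M (algebraMap B L u)) → Algebra.adjoin M {s} = ⊤ →
      _ by
    let P : Polynomial M := Polynomial.X ^ e - Polynomial.C (algebraMap L M (algebraMap B L u))
    have hPd : P.natDegree = e := Polynomial.natDegree_X_pow_sub_C
    obtain ⟨g, hgi, hgP⟩ := Polynomial.exists_irreducible_of_natDegree_pos (f := P) (by omega)
    haveI : Fact (Irreducible g) := ⟨hgi⟩
    refine key (AdjoinRoot g) (AdjoinRoot.root g) ?_ AdjoinRoot.adjoinRoot_eq_top
    have h0 : Polynomial.aeval (AdjoinRoot.root g) P = 0 := by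
      obtain ⟨r, hr⟩ := hgP
      rw [hr, map_mul, AdjoinRoot.aeval_eq, AdjoinRoot.mk_self, zero_mul]
    rw [map_sub, map_pow, Polynomial.aeval_X, Polynomial.aeval_C, sub_eq_zero] at h0
    exact h0
  intro M' _ _ s hsM hgenM
  let j : M →+* M' := algebraMap M M'
  obtain ⟨W', hW'0, hloc⟩ := IsLocalRing.exists_factor_valuationRing (j.comp W.subtype)
  have hcomap : W'.comap j = W := by
    refine SetLike.ext fun x => ⟨fun hx => ?_, fun hx => hW'0 ⟨x, hx⟩⟩
    by_contra hni
    have hxi : x⁻¹ ∈ W := (W.mem_or_inv_mem x).resolve_left hni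
    have hnu : ¬ IsUnit (⟨x⁻¹, hxi⟩ : W) := by
      intro hu
      replace hu : W.valuation x⁻¹ = 1 := (W.valuation_eq_one_iff _).mp hu
      rw [map_inv₀, inv_eq_one] at hu
      exact hni ((W.valuation_le_one_iff x).mp hu.le)
    refine hnu (hloc.map_nonunit _ ?_)
    refine IsUnit.of_mul_eq_one (⟨j x, hx⟩ : W') (Subtype.ext ?_)
    show j x⁻¹ * j x = 1
    rw [← map_mul, inv_mul_cancel₀ (fun h0 => hni (by rw [h0]; exact W.zero_mem)), map_one]
  have hv1 : ∀ x : M, W.valuation x = 1 → W'.valuation (j x) = 1 := by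
    intro x hx
    have hxW : x ∈ W := (W.valuation_le_one_iff x).mp hx.le
    exact (W'.valuation_eq_one_iff ⟨_, hW'0 ⟨x, hxW⟩⟩).mp
      (((W.valuation_eq_one_iff ⟨x, hxW⟩).mpr hx).map ((j.comp W.subtype).codRestrict W'.toSubring hW'0))
  have hv2 : ∀ x : M, W.valuation x < 1 → W'.valuation (j x) < 1 := by
    intro x hx
    have hxW : x ∈ W := (W.valuation_le_one_iff x).mp hx.le
    refine lt_of_le_of_ne ((W'.valuation_le_one_iff _).mpr (hW'0 ⟨x, hxW⟩)) fun h1 => ?_
    have := hloc.map_nonunit ⟨x, hxW⟩ ((W'.valuation_eq_one_iff ⟨_, hW'0 ⟨x, hxW⟩⟩).mpr h1)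
    exact ((W.valuation_eq_one_iff _).mp this).not_lt hx
  letI : Algebra L M' := (j.comp (algebraMap L M)).toAlgebra
  letI : Algebra K₁ M' := (j.comp f).toAlgebra
  letI : Algebra K M' := (j.comp (algebraMap K M)).toAlgebra
  haveI : IsScalarTower L M M' := .of_algebraMap_eq fun _ => rfl
  haveI : IsScalarTower K L M' := .of_algebraMap_eq fun x => congrArg j (IsScalarTower.algebraMap_apply K L M x)
  haveI : IsScalarTower K K₁ M' := .of_algebraMap_eq fun x => congrArg j (IsScalarTower.algebraMap_apply K K₁ M x)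
  have hs : s ^ e = algebraMap L M' (algebraMap B L u) := hsM
  have hgen' : Algebra.adjoin L (Set.range (algebraMap K₁ M') ∪ {s}) = ⊤ := by
    rw [eq_top_iff]
    intro x hx0
    clear hx0
    have hx : x ∈ Algebra.adjoin M {s} := hgenM ▸ Algebra.mem_top
    induction hx using Algebra.adjoin_induction with
    | mem x hx => exact Algebra.subset_adjoin (Set.mem_union_right _ hx)
    | add a b _ _ ha hb => exact add_mem ha hb
    | mul a b _ _ ha hb => exact mul_mem ha hb
    | algebraMap c =>
      have hc : c ∈ Algebra.adjoin L (Set.range (algebraMap K₁ M)) := hgen ▸ Algebra.mem_top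
      induction hc using Algebra.adjoin_induction with
      | mem c hc =>
        obtain ⟨y, rfl⟩ := hc
        exact Algebra.subset_adjoin (Set.mem_union_left _ ⟨y, rfl⟩)
      | algebraMap l => exact Subalgebra.algebraMap_mem _ l
      | add a b _ _ ha hb => rw [map_add]; exact add_mem ha hb
      | mul a b _ _ ha hb => rw [map_mul]; exact mul_mem ha hb
  have hW' : EtRam.Dominates B ((algebraMap L M').comp (algebraMap B L)) W' :=
    ⟨fun b => hW'0 ⟨_, hW.1 b⟩, fun b hb => hv2 _ (hW.2 b hb)⟩
  obtain ⟨hw, hg⟩ := GrothLib.EtRam10.abhyankar_root A B K L hinj π hπi.maximalIdeal_eq ϖ hϖi.maximalIdeal_eq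
    e he0 heu u (by rw [← hu, mul_comm]) K₁ M' s hs hgen' W' hW' k (ϖ₁ : K₁) ((u₁ : W.comap f) : K₁)
    (hv1 _ (by
      have := (W.valuation_eq_one_iff _).mp (u₁.isUnit.map (EtRam.inclOfComap W f))
      exact this))
    (by
      have := congrArg Subtype.val hu₁
      rw [mul_comm]
      exact this.symm)
    (fun z hz => by
      have hz1 : W.valuation (f z) < 1 := by
        have hzW : f z ∈ W := by
          rw [← hcomap]; exact (W'.valuation_le_one_iff _).mp hz.le
        exact lt_of_le_of_ne ((W.valuation_le_one_iff _).mpr hzW) fun h1 => hz.ne (hv1 _ h1)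
      have hzC : (⟨z, (W.valuation_le_one_iff _).mp hz1.le⟩ : W.comap f) ∈ IsLocalRing.maximalIdeal (W.comap f) :=
        fun hu => ((W.valuation_eq_one_iff _).mp (hu.map (EtRam.inclOfComap W f))).not_lt hz1
      rw [hϖ₁i.maximalIdeal_eq, Ideal.mem_span_singleton] at hzC
      obtain ⟨c, hc⟩ := hzC
      have hc' := congrArg (fun t : W.comap f => W'.valuation (j (f (t : K₁)))) hc
      simp only [MulMemClass.coe_mul, map_mul] at hc'
      refine hc'.le.trans (mul_le_of_le_one_right' ?_)
      exact (W'.valuation_le_one_iff _).mpr (hW'0 ⟨_, c.2⟩))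
    (hv2 _ (lt_of_le_of_ne ((W.valuation_le_one_iff _).mpr ϖ₁.2) fun h1 =>
      hϖ₁i.not_isUnit (IsUnit.of_map (EtRam.inclOfComap W f) ϖ₁ ((W.valuation_eq_one_iff _).mpr h1))))
  have h1 := GrothLib.DVRExt.weaklyUnramified_descend f j W' hw
  have h2 := GrothLib.DVRExt.geomReduced_descend f j W' hg
  rw [hcomap] at h1 h2
  exact ⟨h1, h2⟩

end Groth.Agent.S1982
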