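import Groth.Statements.S19821
import Groth.Agent.Lib.DualHartogs2.Basic
import Groth.Agent.Lib.CMMor6.Mor
import Groth.Agent.Lib.SkFlat5.Main
import Groth.Agent.Lib.FlatValCrit1.Base

set_option autoImplicit false
set_option linter.all false
set_option backward.isDefEq.respectTransparency false
universe u
open QGor

namespace Groth.Agent.S19821

open CategoryTheory CategoryTheory.Limits AlgebraicGeometry IsLocalRing

/-- `O_Y` has depth two at points of codimension two in an S₂ fibre of a flat morphism. -/
theorem two_le_depth {X S : Scheme.{u}} [IsLocallyNoetherian X] [IsLocallyNoetherian S] (f : X ⟶ S) [Flat f] (x : X)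
    (hS : RelCanon.SkAt 2 (Coh.structureModule (f.fiber (f x))) (f.asFiber x))
    (hc : (2 : WithBot ℕ∞) ≤ ringKrullDim ((f.fiber (f x)).presheaf.stalk (f.asFiber x))) :
    (2 : ℕ∞) ≤ LocCoh.depth (X.presheaf.stalk x) (X.presheaf.stalk x) := by
  let A := S.presheaf.stalk (f x)
  let B := X.presheaf.stalk x
  let D := (f.fiber (f x)).presheaf.stalk (f.asFiber x)
  letI : Algebra A B := (f.stalkMap x).hom.toAlgebra
  haveI : IsLocalHom (algebraMap A B) := inferInstanceAs (IsLocalHom (f.stalkMap x).hom)
  haveI : Module.Flat A B := Flat.stalkMap f x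
  haveI : IsNoetherianRing D := GrothLib.DimCut.isNoetherianRing_stalk_fiber f (f x) (f.asFiber x)
  obtain ⟨e⟩ := GrothLib.CMMor6.nonempty_fibQuot_equiv f x
  let F := B ⧸ (maximalIdeal A).map (algebraMap A B)
  haveI : IsNoetherianRing F := isNoetherianRing_of_ringEquiv D e.symm
  haveI : IsLocalRing F := (e.symm : D ≃+* F).isLocalRing
  let u := GrothLib.HomSh.unitStalk (X := f.fiber (f x)) (f.asFiber x)
  haveI : Module.Finite D ((Coh.structureModule (f.fiber (f x))).presheaf.stalk (f.asFiber x)) :=
    Module.Finite.equiv u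
  have h1 := GrothLib.SkFlat5.le_depth_of_hasSk _ hS
  rw [← Module.supportDim_eq_of_equiv u, Module.supportDim_self_eq_ringKrullDim,
    ← GrothLib.CMMor6.depth_eq_of_linearEquiv u] at h1
  have hD : (2 : ℕ∞) ≤ LocCoh.depth D D := WithBot.coe_le_coe.1 ((le_min le_rfl hc).trans h1)
  have hF : (2 : ℕ∞) ≤ LocCoh.depth F F := GrothLib.FlatValCrit1.le_depth_of_ringEquiv e.symm hD
  rw [GrothLib.CMMor6.depth_eq_add (A := A) (B := B)]
  exact hF.trans le_add_self


open CategoryTheory AlgebraicGeometry in
/-- For a proper S₂-morphism Y → Spec A to a Noetherian affine base, of pure relative dimension d, with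
relative canonical sheaf ω (characterised by the d-dualizing property over A), and an open subset U
of the relative Gorenstein locus whose complement has codimension at least 2 in every fibre (the
local ring of the fibre at every point outside U has dimension ≥ 2), each reflexive power ω^{[m]}, m
∈ ℤ (the double dual of the m-th tensor power of ω, resp. of its dual for m < 0), is the direct
image of its restriction to U: the unit ω^{[m]} → j_* (ω^{[m]}|_U) of the restriction–direct-image
adjunction along j : U → Y is an isomorphism. (On U the sheaf ω is invertible, so ω^{[m]}|_U is the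
m-th tensor power of ω|_U; the source phrases the conclusion as ω^{[m]} ≅ j_*(ω_U^{⊗ m}).) -/
theorem result
    (A : Type u) [CommRing A] [IsNoetherianRing A] (Y : Scheme.{u}) [Y.Over (Spec (CommRingCat.of A))]
    [IsProper (Y ↘ Spec (CommRingCat.of A))] (d : ℕ)
    (hS : RelCanon.IsSkMor (Y ↘ Spec (CommRingCat.of A)) 2) (hd : Cyc.HasRelDim (Y ↘ Spec (CommRingCat.of A)) d)
    (ω : Y.Modules) (hω : RelCanon.IsDualizingSheaf A Y d ω)
    (U : Y.Opens) (hU : (U : Set Y) ⊆ RelCanon.gorLocus (Y ↘ Spec (CommRingCat.of A)))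
    (hcod : ∀ y : Y, y ∉ U → (2 : WithBot ℕ∞) ≤ ringKrullDim (((Y ↘ Spec (CommRingCat.of A)).fiber ((Y ↘ Spec (CommRingCat.of A)) y)).presheaf.stalk ((Y ↘ Spec (CommRingCat.of A)).asFiber y)))
    (m : ℤ) :
    IsIso ((Scheme.Modules.restrictAdjunction U.ι).unit.app (RelCanon.refPowZ ω m)) := by
  let f := Y ↘ Spec (CommRingCat.of A)
  haveI : IsLocallyNoetherian Y := LocallyOfFiniteType.isLocallyNoetherian f
  haveI : Flat f := hS.1
  have hO : GrothLib.DualHartogs2.Ext U :=
    GrothLib.DualHartogs2.ext_of_depth U fun x hx => two_le_depth f x (hS.2.2 x) (hcod x hx)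
  cases m with
  | ofNat n => exact GrothLib.DualHartogs2.isIso_unit_app_dual hO _
  | negSucc n => exact GrothLib.DualHartogs2.isIso_unit_app_dual hO _


end Groth.Agent.S19821
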