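import Groth.Statements.S19829
import Groth.Agent.Lib.DualFree20.IndexBC

set_option autoImplicit false
set_option maxHeartbeats 1000000
set_option linter.style.haveILetI false
set_option backward.isDefEq.respectTransparency false
universe u
open QGor

namespace Groth.Agent.S19829

open CategoryTheory AlgebraicGeometry in
/-- Let Y → Spec A be a proper S₂-morphism to a Noetherian affine base, of pure relative dimension d,
with relative canonical sheaf ω (characterised by the d-dualizing property over A), which is naively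
ℚ-Gorenstein: every fibre is Gorenstein in codimension one and ℚ-Gorenstein (for every t and every
d-dualizing module ω_t on the fibre Y_t over κ(t) — its canonical sheaf — some reflexive power
ω_t^{[r]}, r > 0, is invertible at each point), and some ω^{[r]}, r > 0, is invertible at each point
of Y. For a point y over t, with ω_t the canonical sheaf of Y_t as above, let m be the relative
Gorenstein index at y (least r > 0 with ω^{[r]} invertible at y) and r the Gorenstein index of Y_t
at y (least r > 0 with ω_t^{[r]} invertible at y). Assume the morphism is ℚ-Gorenstein at y: on an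
open neighbourhood of y every reflexive power ω^{[k]}, k ∈ ℤ, satisfies relative S₂ over the base.
Then m = r. -/
theorem result
    (A : Type u) [CommRing A] [IsNoetherianRing A] (Y : Scheme.{u}) [Y.Over (Spec (CommRingCat.of A))]
    [IsProper (Y ↘ Spec (CommRingCat.of A))] (d : ℕ)
    (hS : RelCanon.IsSkMor (Y ↘ Spec (CommRingCat.of A)) 2) (hd : Cyc.HasRelDim (Y ↘ Spec (CommRingCat.of A)) d)
    (ω : Y.Modules) (hω : RelCanon.IsDualizingSheaf A Y d ω)
    (hG : ∀ y : Y, y ∉ RelCanon.gorLocus (Y ↘ Spec (CommRingCat.of A)) →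
      (2 : WithBot ℕ∞) ≤ ringKrullDim (((Y ↘ Spec (CommRingCat.of A)).fiber ((Y ↘ Spec (CommRingCat.of A)) y)).presheaf.stalk ((Y ↘ Spec (CommRingCat.of A)).asFiber y)))
    (hQf : ∀ (t : (Spec (CommRingCat.of A))) (ωt : ((Y ↘ Spec (CommRingCat.of A)).fiber t).Modules), @RelCanon.IsDualizingSheaf ((Spec (CommRingCat.of A)).residueField t) _ ((Y ↘ Spec (CommRingCat.of A)).fiber t) ⟨(Y ↘ Spec (CommRingCat.of A)).fiberToSpecResidueField t⟩ d ωt → RelCanon.IsQGorWith ωt)
    (hN : RelCanon.IsQGorWith ω)
    (y : Y) (ωy : ((Y ↘ Spec (CommRingCat.of A)).fiber ((Y ↘ Spec (CommRingCat.of A)) y)).Modules) (hωy : @RelCanon.IsDualizingSheaf ((Spec (CommRingCat.of A)).residueField ((Y ↘ Spec (CommRingCat.of A)) y)) _ ((Y ↘ Spec (CommRingCat.of A)).fiber ((Y ↘ Spec (CommRingCat.of A)) y)) ⟨(Y ↘ Spec (CommRingCat.of A)).fiberToSpecResidueField ((Y ↘ Spec (CommRingCat.of A)) y)⟩ d ωy)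
    (hQ : RelCanon.IsQGorMorWithAt (Y ↘ Spec (CommRingCat.of A)) ω y) :
    RelCanon.gorIndexWithAt ω y = RelCanon.gorIndexWithAt ωy ((Y ↘ Spec (CommRingCat.of A)).asFiber y) := by
  obtain ⟨O, hyO, hO⟩ := hQ
  have h := fun k : ℕ => GrothLib.DualFree20.invertibleAt_refPowZ_fibre_iff d hS hd ω hω hG y ωy hωy (k : ℤ)
  unfold RelCanon.gorIndexWithAt
  congr 1
  ext k
  exact and_congr_right fun _ => ⟨(h k).1, (h k).2 ⟨O, hyO, fun z hz => hO _ z hz⟩⟩

end Groth.Agent.S19829
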