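import Groth.Statements.S19830
import Groth.Agent.Lib.ArtCrit20.S3Invert
import Groth.Agent.Lib.ArtCrit20.Dvr
import Groth.Agent.Lib.DualFree20.IndexLocal

set_option autoImplicit false
set_option maxHeartbeats 1000000
set_option linter.style.haveILetI false
set_option backward.isDefEq.respectTransparency false
universe u
open QGor

namespace Groth.Agent.S19830

open CategoryTheory AlgebraicGeometry in
/-- Let Y → Spec A be a proper S₂-morphism to a Noetherian affine base, of pure relative dimension d,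
with relative canonical sheaf ω (characterised by the d-dualizing property over A), which is naively
ℚ-Gorenstein: every fibre is Gorenstein in codimension one and ℚ-Gorenstein (for every t and every
d-dualizing module ω_t on the fibre Y_t over κ(t) — its canonical sheaf — some reflexive power
ω_t^{[r]}, r > 0, is invertible at each point), and some ω^{[r]}, r > 0, is invertible at each point
of Y. For a point y over t, with ω_t the canonical sheaf of Y_t as above, let m be the relative
Gorenstein index at y (least r > 0 with ω^{[r]} invertible at y) and r the Gorenstein index of Y_t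
at y (least r > 0 with ω_t^{[r]} invertible at y). Assume the fibre Y_t is Gorenstein in codimension
two (at every point of Y_t outside the relative Gorenstein locus the local ring of Y_t has dimension
≥ 3) and satisfies S₃ at y. Then m = r. -/
theorem result
    (A : Type u) [CommRing A] [IsNoetherianRing A] (Y : Scheme.{u}) [Y.Over (Spec (CommRingCat.of A))]
    [IsProper (Y ↘ Spec (CommRingCat.of A))] (d : ℕ)
    (hS : RelCanon.IsSkMor (Y ↘ Spec (CommRingCat.of A)) 2) (hd : Cyc.HasRelDim (Y ↘ Spec (CommRingCat.of A)) d)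
    (ω : Y.Modules) (hω : RelCanon.IsDualizingSheaf A Y d ω)
    (hG : ∀ y : Y, y ∉ RelCanon.gorLocus (Y ↘ Spec (CommRingCat.of A)) →
      (2 : WithBot ℕ∞) ≤ ringKrullDim (((Y ↘ Spec (CommRingCat.of A)).fiber ((Y ↘ Spec (CommRingCat.of A)) y)).presheaf.stalk ((Y ↘ Spec (CommRingCat.of A)).asFiber y)))
    (hQf : ∀ (t : (Spec (CommRingCat.of A))) (ωt : ((Y ↘ Spec (CommRingCat.of A)).fiber t).Modules), @RelCanon.IsDualizingSheaf ((Spec (CommRingCat.of A)).residueField t) _ ((Y ↘ Spec (CommRingCat.of A)).fiber t) ⟨(Y ↘ Spec (CommRingCat.of A)).fiberToSpecResidueField t⟩ d ωt → RelCanon.IsQGorWith ωt)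
    (hN : RelCanon.IsQGorWith ω)
    (y : Y) (ωy : ((Y ↘ Spec (CommRingCat.of A)).fiber ((Y ↘ Spec (CommRingCat.of A)) y)).Modules) (hωy : @RelCanon.IsDualizingSheaf ((Spec (CommRingCat.of A)).residueField ((Y ↘ Spec (CommRingCat.of A)) y)) _ ((Y ↘ Spec (CommRingCat.of A)).fiber ((Y ↘ Spec (CommRingCat.of A)) y)) ⟨(Y ↘ Spec (CommRingCat.of A)).fiberToSpecResidueField ((Y ↘ Spec (CommRingCat.of A)) y)⟩ d ωy)
    (hG2 : ∀ y' : Y, (Y ↘ Spec (CommRingCat.of A)) y' = (Y ↘ Spec (CommRingCat.of A)) y → y' ∉ RelCanon.gorLocus (Y ↘ Spec (CommRingCat.of A)) →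
      (3 : WithBot ℕ∞) ≤ ringKrullDim (((Y ↘ Spec (CommRingCat.of A)).fiber ((Y ↘ Spec (CommRingCat.of A)) y')).presheaf.stalk ((Y ↘ Spec (CommRingCat.of A)).asFiber y')))
    (hS3 : RelCanon.SkAt 3 (Coh.structureModule ((Y ↘ Spec (CommRingCat.of A)).fiber ((Y ↘ Spec (CommRingCat.of A)) y))) ((Y ↘ Spec (CommRingCat.of A)).asFiber y)) :
    RelCanon.gorIndexWithAt ω y = RelCanon.gorIndexWithAt ωy ((Y ↘ Spec (CommRingCat.of A)).asFiber y) := by
  let f := Y ↘ Spec (CommRingCat.of A)
  haveI : Flat f := hS.1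
  haveI : LocallyOfFiniteType f := hS.2.1
  haveI : LocallyOfFinitePresentation f := GrothLib.LocProp.locallyOfFinitePresentation_of_isLocallyNoetherian f
  haveI : IsLocallyNoetherian Y := LocallyOfFiniteType.isLocallyNoetherian f
  haveI : IsIso (Spec.map (CommRingCat.ofHom (RingHom.id A))) := by rw [CommRingCat.ofHom_id, Spec.map_id]; infer_instance
  obtain ⟨hωc, -, U, hbc, hUg⟩ := GrothLib.DualFree20.exists_bcOn_gor d hS hd ω hω A (RingHom.id A) Y (𝟙 Y)
    (IsPullback.of_horiz_isIso ⟨by simp⟩) ω hω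
  let m := RelCanon.gorIndexWithAt ω y
  let r := RelCanon.gorIndexWithAt ωy (f.asFiber y)
  have hmm : 0 < m ∧ RelCanon.InvertibleAt (RelCanon.refPowZ ω m) y := Nat.sInf_mem (hN y)
  obtain ⟨hQ, hdvd⟩ := GrothLib.DualFree20.fibre_index_of_invertibleAt d hS hd ω hω ⊤ (fun z _ => hG z) m hmm.1 y
    trivial hmm.2 ωy hωy
  have hrr : 0 < r ∧ RelCanon.InvertibleAt (RelCanon.refPowZ ωy r) (f.asFiber y) := Nat.sInf_mem hQ
  refine le_antisymm (Nat.sInf_le ⟨hrr.1, ?_⟩) (Nat.le_of_dvd hmm.1 hdvd)
  show RelCanon.InvertibleAt (RelCanon.refPowZ ω r) y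
  obtain ⟨hLc, hdata⟩ := GrothLib.ArtCrit20.exists_local_data_int d hS hd ω hω hG y (r : ℤ)
  rcases hdata with hi | ⟨J, -, hrefl, -, -, -⟩
  · exact hi
  let L := RelCanon.refPowZ ω (r : ℤ)
  have hLi : PicF.IsInvertible (L.restrict U.ι) := (hbc.refPowZ hωc hωc (r : ℤ)).1
  have hfib : RelCanon.InvertibleAt (RefHull.ddual ((Scheme.Modules.pullback (f.fiberι (f y))).obj L)) (f.asFiber y) := by
    let κ := (Spec (CommRingCat.of A)).residueField (f y)
    letI : (f.fiber (f y)).Over (Spec (CommRingCat.of κ)) := ⟨f.fiberToSpecResidueField (f y)⟩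
    let φ : CommRingCat.of A ⟶ κ := Spec.preimage ((Spec (CommRingCat.of A)).fromSpecResidueField (f y))
    have hsq : IsPullback (f.fiberι (f y)) ((f.fiber (f y)) ↘ Spec (CommRingCat.of κ)) f
        (Spec.map (CommRingCat.ofHom φ.hom)) := by
      change IsPullback (f.fiberι (f y)) (f.fiberToSpecResidueField (f y)) f (Spec.map φ)
      rw [Spec.map_preimage]
      exact IsPullback.of_hasPullback _ _
    obtain ⟨⟨e⟩, -⟩ := GrothLib.DualFree20.refPowZ_baseChange d hS hd ω hω hG κ φ.hom (f.fiber (f y))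
      (f.fiberι (f y)) hsq ωy hωy (r : ℤ)
    exact GrothLib.DualFree20.invertibleAt_of_iso e hrr.2
  have gen : ∀ x : Y, f.fiberι (f y) (f.asFiber y) = x →
      Module.IsReflexive (Y.presheaf.stalk x) (L.presheaf.stalk x) → RelCanon.InvertibleAt L x := by
    intro x hx hr'
    subst hx
    haveI := hr'
    exact GrothLib.ArtCrit20.invertibleAt_of_S3 f hS L hLc U hLi (f y) (f.asFiber y)
      (fun x hx hxU => hG2 x hx fun hg => hxU (hUg _ hg)) hS3 hfib
  exact gen y (f.fiberι_asFiber y) hrefl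

end Groth.Agent.S19830
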