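import Groth.Statements.S19831
import Groth.Agent.Lib.ArtCrit20.RootGeneral

set_option autoImplicit false
set_option maxHeartbeats 1000000
set_option linter.style.haveILetI false
set_option backward.isDefEq.respectTransparency false
universe u
open QGor

namespace Groth.Agent.S19831

open CategoryTheory AlgebraicGeometry in
/-- Let Y → Spec A be a proper S₂-morphism to a Noetherian affine base, of pure relative dimension d,
with relative canonical sheaf ω (characterised by the d-dualizing property over A), which is naively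
ℚ-Gorenstein: every fibre is Gorenstein in codimension one and ℚ-Gorenstein (for every t and every
d-dualizing module ω_t on the fibre Y_t over κ(t) — its canonical sheaf — some reflexive power
ω_t^{[r]}, r > 0, is invertible at each point), and some ω^{[r]}, r > 0, is invertible at each point
of Y. For a point y over t, with ω_t the canonical sheaf of Y_t as above, let m be the relative
Gorenstein index at y (least r > 0 with ω^{[r]} invertible at y) and r the Gorenstein index of Y_t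
at y (least r > 0 with ω_t^{[r]} invertible at y). Assume the image of m in κ(t) is non-zero (m is
prime to the characteristic of the residue field). Then m = r. -/
theorem result
    (A : Type u) [CommRing A] [IsNoetherianRing A] (Y : Scheme.{u}) [Y.Over (Spec (CommRingCat.of A))]
    [IsProper (Y ↘ Spec (CommRingCat.of A))] (d : ℕ)
    (hS : RelCanon.IsSkMor (Y ↘ Spec (CommRingCat.of A)) 2) (hd : Cyc.HasRelDim (Y ↘ Spec (CommRingCat.of A)) d)
    (ω : Y.Modules) (hω : RelCanon.IsDualizingSheaf A Y d ω)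
    (hG : ∀ y : Y, y ∉ RelCanon.gorLocus (Y ↘ Spec (CommRingCat.of A)) →
      (2 : WithBot ℕ∞) ≤ ringKrullDim (((Y ↘ Spec (CommRingCat.of A)).fiber ((Y ↘ Spec (CommRingCat.of A)) y)).presheaf.stalk ((Y ↘ Spec (CommRingCat.of A)).asFiber y)))
    (hQf : ∀ (t : (Spec (CommRingCat.of A))) (ωt : ((Y ↘ Spec (CommRingCat.of A)).fiber t).Modules), @RelCanon.IsDualizingSheaf ((Spec (CommRingCat.of A)).residueField t) _ ((Y ↘ Spec (CommRingCat.of A)).fiber t) ⟨(Y ↘ Spec (CommRingCat.of A)).fiberToSpecResidueField t⟩ d ωt → RelCanon.IsQGorWith ωt)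
    (hN : RelCanon.IsQGorWith ω)
    (y : Y) (ωy : ((Y ↘ Spec (CommRingCat.of A)).fiber ((Y ↘ Spec (CommRingCat.of A)) y)).Modules) (hωy : @RelCanon.IsDualizingSheaf ((Spec (CommRingCat.of A)).residueField ((Y ↘ Spec (CommRingCat.of A)) y)) _ ((Y ↘ Spec (CommRingCat.of A)).fiber ((Y ↘ Spec (CommRingCat.of A)) y)) ⟨(Y ↘ Spec (CommRingCat.of A)).fiberToSpecResidueField ((Y ↘ Spec (CommRingCat.of A)) y)⟩ d ωy)
    (hm : (RelCanon.gorIndexWithAt ω y : (Spec (CommRingCat.of A)).residueField ((Y ↘ Spec (CommRingCat.of A)) y)) ≠ 0) :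
    RelCanon.gorIndexWithAt ω y = RelCanon.gorIndexWithAt ωy ((Y ↘ Spec (CommRingCat.of A)).asFiber y) := by
  let f := Y ↘ Spec (CommRingCat.of A)
  haveI : Flat f := hS.1
  haveI : LocallyOfFiniteType f := hS.2.1
  haveI : LocallyOfFinitePresentation f := GrothLib.LocProp.locallyOfFinitePresentation_of_isLocallyNoetherian f
  haveI : IsLocallyNoetherian Y := LocallyOfFiniteType.isLocallyNoetherian f
  haveI : IsIso (Spec.map (CommRingCat.ofHom (RingHom.id A))) := by rw [CommRingCat.ofHom_id, Spec.map_id]; infer_instance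
  obtain ⟨hωc, -, U, hbc, hUg⟩ := GrothLib.DualFree20.exists_bcOn_gor d hS hd ω hω A (RingHom.id A) Y (𝟙 Y)
    (IsPullback.of_horiz_isIso ⟨by simp⟩) ω hω
  let m := RelCanon.gorIndexWithAt ω y
  let r := RelCanon.gorIndexWithAt ωy (f.asFiber y)
  have hmm : 0 < m ∧ RelCanon.InvertibleAt (RelCanon.refPowZ ω m) y := Nat.sInf_mem (hN y)
  obtain ⟨hQ, hdvd⟩ := GrothLib.DualFree20.fibre_index_of_invertibleAt d hS hd ω hω ⊤ (fun z _ => hG z) m hmm.1 y
    trivial hmm.2 ωy hωy
  have hrr : 0 < r ∧ RelCanon.InvertibleAt (RelCanon.refPowZ ωy r) (f.asFiber y) := Nat.sInf_mem hQ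
  refine le_antisymm (Nat.sInf_le ⟨hrr.1, ?_⟩) (Nat.le_of_dvd hmm.1 hdvd)
  show RelCanon.InvertibleAt (RelCanon.refPowZ ω r) y
  obtain ⟨k, hk⟩ := hdvd
  obtain ⟨k₀, rfl⟩ : ∃ k₀, k = k₀ + 1 := ⟨k - 1, by
    have : 0 < k := Nat.pos_of_ne_zero fun h => by subst h; exact absurd hk (by simpa using hmm.1.ne')
    omega⟩
  let L := RelCanon.refPowZ ω (r : ℤ)
  have hLc : Coh.IsCoh L := GrothLib.DualFree20.isCoh_refPowZ hωc _
  obtain ⟨eL⟩ := GrothLib.DualFree20.nonempty_refPow_restrict U hbc.1 r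
  have hLi : PicF.IsInvertible (L.restrict U.ι) :=
    GrothLib.ParaPair.isInvertible_of_iso eL (GrothLib.PerfLim10.isInvertible_tensorPow hbc.1 r)
  have hO : ∀ x : Y, x ∈ (⊤ : Y.Opens) → x ∉ U → (2 : ℕ∞) ≤ LocCoh.depth (Y.presheaf.stalk x) (Y.presheaf.stalk x) :=
    fun x _ hx => GrothLib.DualFree20.two_le_depth_of_fibre f hS x (hG x fun h => hx (hUg _ h))
  have hLk : RelCanon.InvertibleAt (RelCanon.refPowZ L ((k₀ + 1 : ℕ) : ℤ)) y := by
    obtain ⟨e₁⟩ := GrothLib.DualFree20.nonempty_refPow_restrict U hbc.1 m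
    obtain ⟨e₂⟩ := GrothLib.DualFree20.nonempty_refPow_restrict U hLi (k₀ + 1)
    obtain ⟨e₃⟩ := GrothLib.PerfLim10.nonempty_tensorPow_congr (GrothLib.PerfLim10.isInvertible_tensorPow hbc.1 r) eL (k₀ + 1)
    obtain ⟨e₄⟩ := GrothLib.PerfLim10.nonempty_tensorPow_tensorPow hbc.1 r (k₀ + 1)
    obtain ⟨H₁, hH₁, h₁⟩ := GrothLib.DualFree20.exists_ddual_refPowZ hωc (m : ℤ)
    obtain ⟨H₂, hH₂, h₂⟩ := GrothLib.DualFree20.exists_ddual_refPowZ hLc ((k₀ + 1 : ℕ) : ℤ)
    refine GrothLib.DualFree20.invertibleAt_of_agree hH₁ hH₂ h₁ h₂ U ⊤ hO ?_ trivial hmm.2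
    exact e₁ ≪≫ eqToIso (congrArg (CohB1.tensorPow (ω.restrict U.ι)) hk) ≪≫ e₄.symm ≪≫ e₃.symm ≪≫ e₂.symm
  have hfib : RelCanon.InvertibleAt (RefHull.ddual ((Scheme.Modules.pullback (f.fiberι (f y))).obj L)) (f.asFiber y) := by
    let κ := (Spec (CommRingCat.of A)).residueField (f y)
    letI : (f.fiber (f y)).Over (Spec (CommRingCat.of κ)) := ⟨f.fiberToSpecResidueField (f y)⟩
    let φ : CommRingCat.of A ⟶ κ := Spec.preimage ((Spec (CommRingCat.of A)).fromSpecResidueField (f y))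
    have hsq : IsPullback (f.fiberι (f y)) ((f.fiber (f y)) ↘ Spec (CommRingCat.of κ)) f
        (Spec.map (CommRingCat.ofHom φ.hom)) := by
      change IsPullback (f.fiberι (f y)) (f.fiberToSpecResidueField (f y)) f (Spec.map φ)
      rw [Spec.map_preimage]
      exact IsPullback.of_hasPullback _ _
    obtain ⟨⟨e⟩, -⟩ := GrothLib.DualFree20.refPowZ_baseChange d hS hd ω hω hG κ φ.hom (f.fiber (f y))
      (f.fiberι (f y)) hsq ωy hωy (r : ℤ)
    exact GrothLib.DualFree20.invertibleAt_of_iso e hrr.2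
  have hk0 : ((k₀ + 1 : ℕ) : (Spec (CommRingCat.of A)).residueField (f y)) ≠ 0 := fun h => hm (by
    show (m : (Spec (CommRingCat.of A)).residueField (f y)) = 0
    rw [show m = r * (k₀ + 1) from hk, Nat.cast_mul, h, mul_zero])
  have h := GrothLib.ArtCrit20.invertibleAt_of_root f hS L hLc U hLi (f y) (f.asFiber y)
    (fun x _ hx => hG x fun hg => hx (hUg _ hg)) hfib k₀ hk0 (by rwa [f.fiberι_asFiber])
  rw [f.fiberι_asFiber] at h
  obtain ⟨e₂⟩ := GrothLib.DualFree20.nonempty_refPow_restrict U hLi 1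
  obtain ⟨H₁, hH₁, h₁⟩ := GrothLib.DualFree20.exists_ddual_refPowZ hLc ((1 : ℕ) : ℤ)
  obtain ⟨H₂, hH₂, h₂⟩ := GrothLib.DualFree20.exists_ddual_refPowZ hωc (r : ℤ)
  exact GrothLib.DualFree20.invertibleAt_of_agree hH₁ hH₂ h₁ h₂ U ⊤ hO
    (e₂ ≪≫ GrothLib.OX.tensorUnitLeftIso (L.restrict U.ι)) trivial h

end Groth.Agent.S19831
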