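import Groth.Statements.S19832
import Groth.Agent.Lib.SkNhd1.Basic
import Groth.Agent.Lib.HomSh.Criterion
import Groth.Agent.Lib.SkLift5.Ring
import Groth.Agent.Lib.RelReg.Transversal
import Groth.Agent.Lib.CMMor6.Chart
import Groth.Agent.Lib.Equidim6.RelDim
import Groth.Agent.Lib.SnFibres.Basic
-- import your own Groth.Agent.* helpers here

set_option autoImplicit false
universe u
open QGor

namespace Groth.Agent.S19832

open CategoryTheory AlgebraicGeometry in
/-- Take f : Y → T flat and locally of finite type with Y and T locally Noetherian, an integer k ≥ 2, a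
point y of Y at which the fibre through y satisfies Serre's condition S_k, and an open subset Y° of
Y not containing y. Suppose the local codimension at y of Y_{f(y)} ∖ Y° in the fibre is at least c:
at every point z ∉ Y° of the fibre through y which specializes to y, the local ring of the fibre has
dimension ≥ c. Then y has an open neighbourhood U such that U → T is an S_k-morphism (flat, locally
of finite type, all fibres S_k at all points) of pure relative dimension (every irreducible
component of every fibre of U → T has the same dimension e), and at every point z ∈ U with z ∉ Y°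
the local ring at z of the fibre of f through z has dimension ≥ c; that is, codim(U_t ∖ Y°, U_t) ≥ c
for every t. -/
theorem result
    {Y T : Scheme.{u}} (f : Y ⟶ T) [IsLocallyNoetherian Y] [IsLocallyNoetherian T]
    [Flat f] [LocallyOfFiniteType f] (k : ℕ) (hk : 2 ≤ k) (y : Y)
    (hy : RelCanon.SkAt k (Coh.structureModule (f.fiber (f y))) (f.asFiber y))
    (Yo : Y.Opens) (hyo : y ∉ Yo) (c : WithBot ℕ∞)
    (hc : ∀ z : Y, f z = f y → z ∉ Yo → z ⤳ y →
      c ≤ ringKrullDim ((f.fiber (f z)).presheaf.stalk (f.asFiber z))) :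
    ∃ U : Y.Opens, y ∈ U ∧ RelCanon.IsSkMor (U.ι ≫ f) k ∧
      (∃ e : ℕ, Cyc.HasRelDim (U.ι ≫ f) e) ∧
      ∀ z : Y, z ∈ U → z ∉ Yo → c ≤ ringKrullDim ((f.fiber (f z)).presheaf.stalk (f.asFiber z)) := by
  haveI : LocallyOfFinitePresentation f := LocallyOfFinitePresentation.iff_locallyOfFiniteType.2 inferInstance
  haveI : ∀ t, IsLocallyNoetherian (f.fiber t) := fun t =>
    LocallyOfFiniteType.isLocallyNoetherian (f.fiberToSpecResidueField t)
  have key : ∀ {W : Scheme.{u}} [IsLocallyNoetherian W] (w : W),
      LocCoh.HasSk k (W.presheaf.stalk w) ((Coh.structureModule W).presheaf.stalk w) ↔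
        LocCoh.HasSk k (W.presheaf.stalk w) (W.presheaf.stalk w) := by
    intro W _ w
    haveI : Module.Finite (W.presheaf.stalk w) ((Coh.structureModule W).presheaf.stalk w) :=
      Module.Finite.equiv (GrothLib.HomSh.unitStalk w)
    exact ⟨fun h => GrothLib.SkLift5.hasSk_congr_linearEquiv (GrothLib.HomSh.unitStalk w).symm h,
      fun h => GrothLib.SkLift5.hasSk_congr_linearEquiv (GrothLib.HomSh.unitStalk w) h⟩
  obtain ⟨U, d, hyU, hSk, hdim, hcod⟩ := GrothLib.SkNhd1.exists_nhd f k hk y ((key (f.asFiber y)).1 hy) Yo c hc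
  haveI : LocallyOfFiniteType (U.ι ≫ f) := inferInstance
  haveI : ∀ t, IsLocallyNoetherian ((U.ι ≫ f).fiber t) := fun t =>
    LocallyOfFiniteType.isLocallyNoetherian ((U.ι ≫ f).fiberToSpecResidueField t)
  refine ⟨U, hyU, ⟨inferInstance, inferInstance, fun u => ?_⟩, ⟨d, ?_⟩, hcod⟩
  · refine (key ((U.ι ≫ f).asFiber u)).2 ?_
    obtain ⟨e⟩ := GrothLib.RelReg.nonempty_fiberStalk_open f U u
    exact GrothLib.SnFibres.hasSk_congr e.symm (hSk u.1 u.2)
  · refine (GrothLib.Equidim6.hasRelDim_iff (U.ι ≫ f) d).2 fun v => ?_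
    rw [GrothLib.CMMor6.fibreDimAt_comp_flat_lqf U.ι f v]
    exact hdim _ v.2

end Groth.Agent.S19832
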