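import Groth.Statements.S19833
import Groth.Agent.Lib.DualFree20.IndexLocal

set_option autoImplicit false
set_option maxHeartbeats 1000000
set_option linter.style.haveILetI false
set_option backward.isDefEq.respectTransparency false
universe u
open QGor

namespace Groth.Agent.S19833

open CategoryTheory AlgebraicGeometry in
/-- Conditions (i)+(ii) ⟺ (v), and (i)+(ii) ⟹ (iii), in the following form: let Y → Spec A be a proper
S₂-morphism to a Noetherian affine base, of pure relative dimension d, with relative canonical sheaf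
ω (characterised by the d-dualizing property over A); let Y° be the relative Gorenstein locus, as an
open subset with inclusion j, let y be a point and r > 0. The following are equivalent. (A) The
local ring of the fibre through y has dimension ≥ 2 at every point of that fibre outside Y° which
specializes to y (local codimension of the non-Gorenstein locus of the fibre at y is ≥ 2), and the
direct image j_*((ω|_{Y°})^{⊗ r}) is invertible at y. (B) On some open neighbourhood U of y: ω^{[r]}
(the double dual of ω^{⊗ r}) is invertible at every point; at every point of U outside Y° the local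
ring of the fibre has dimension ≥ 2; and at every z ∈ U, for every d-dualizing module ω' on the
fibre through z over κ(f(z)) (the canonical sheaf of the fibre), some ω'^{[s]} with s > 0 is
invertible at z and the least such s divides r (the fibre is ℚ-Gorenstein at z of index dividing r).
(The source takes Y° to be any open subset of the relative Gorenstein locus; for the implication (B)
⟹ (A) the whole locus is needed — with Y° empty and Y = Spec A the condition in (A) on the fibre
fails — so Y° is the full relative Gorenstein locus here.) -/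
theorem result
    (A : Type u) [CommRing A] [IsNoetherianRing A] (Y : Scheme.{u}) [Y.Over (Spec (CommRingCat.of A))]
    [IsProper (Y ↘ Spec (CommRingCat.of A))] (d : ℕ)
    (hS : RelCanon.IsSkMor (Y ↘ Spec (CommRingCat.of A)) 2) (hd : Cyc.HasRelDim (Y ↘ Spec (CommRingCat.of A)) d)
    (ω : Y.Modules) (hω : RelCanon.IsDualizingSheaf A Y d ω)
    (Yo : Y.Opens) (hYo : (Yo : Set Y) = RelCanon.gorLocus (Y ↘ Spec (CommRingCat.of A))) (y : Y) (r : ℕ) (hr : 0 < r) :
    ((∀ z : Y, (Y ↘ Spec (CommRingCat.of A)) z = (Y ↘ Spec (CommRingCat.of A)) y → z ∉ Yo → z ⤳ y → (2 : WithBot ℕ∞) ≤ ringKrullDim (((Y ↘ Spec (CommRingCat.of A)).fiber ((Y ↘ Spec (CommRingCat.of A)) z)).presheaf.stalk ((Y ↘ Spec (CommRingCat.of A)).asFiber z))) ∧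
      RelCanon.InvertibleAt ((Scheme.Modules.pushforward Yo.ι).obj (CohB1.tensorPow (ω.restrict Yo.ι) r)) y) ↔
    (∃ U : Y.Opens, y ∈ U ∧ ∀ z : Y, z ∈ U →
      RelCanon.InvertibleAt (RelCanon.refPowZ ω r) z ∧
      (z ∉ Yo → (2 : WithBot ℕ∞) ≤ ringKrullDim (((Y ↘ Spec (CommRingCat.of A)).fiber ((Y ↘ Spec (CommRingCat.of A)) z)).presheaf.stalk ((Y ↘ Spec (CommRingCat.of A)).asFiber z))) ∧
      ∀ ωz : ((Y ↘ Spec (CommRingCat.of A)).fiber ((Y ↘ Spec (CommRingCat.of A)) z)).Modules, @RelCanon.IsDualizingSheaf ((Spec (CommRingCat.of A)).residueField ((Y ↘ Spec (CommRingCat.of A)) z)) _ ((Y ↘ Spec (CommRingCat.of A)).fiber ((Y ↘ Spec (CommRingCat.of A)) z)) ⟨(Y ↘ Spec (CommRingCat.of A)).fiberToSpecResidueField ((Y ↘ Spec (CommRingCat.of A)) z)⟩ d ωz →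
        RelCanon.IsQGorWithAt ωz ((Y ↘ Spec (CommRingCat.of A)).asFiber z) ∧ RelCanon.gorIndexWithAt ωz ((Y ↘ Spec (CommRingCat.of A)).asFiber z) ∣ r) := by
  let f := Y ↘ Spec (CommRingCat.of A)
  haveI : Flat f := hS.1
  haveI : LocallyOfFinitePresentation f := GrothLib.LocProp.locallyOfFinitePresentation_of_isLocallyNoetherian f
  haveI : IsLocallyNoetherian Y := LocallyOfFiniteType.isLocallyNoetherian f
  have hmem : ∀ z, z ∈ RelCanon.gorLocus f → z ∈ Yo := fun z hz => by
    rw [← SetLike.mem_coe, hYo]; exact hz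
  constructor
  · rintro ⟨hc, W, hyW, hW⟩
    haveI : IsNoetherianRing ((f.fiber (f y)).presheaf.stalk (f.asFiber y)) :=
      GrothLib.DimCut.isNoetherianRing_stalk_fiber f _ _
    haveI : Module.Finite ((f.fiber (f y)).presheaf.stalk (f.asFiber y))
        ((Coh.structureModule (f.fiber (f y))).presheaf.stalk (f.asFiber y)) :=
      Module.Finite.equiv (GrothLib.HomSh.unitStalk (X := f.fiber (f y)) (f.asFiber y))
    obtain ⟨U₁, -, hy₁, -, -, hc₁⟩ := GrothLib.SkNhd1.exists_nhd f 2 le_rfl y
      (GrothLib.SkExt.hasSk_congr (GrothLib.HomSh.unitStalk (X := f.fiber (f y)) (f.asFiber y)).symm (hS.2.2 y))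
      Yo 2 hc
    have hU : ∀ z, z ∈ U₁ ⊓ W → z ∉ Yo →
        (2 : WithBot ℕ∞) ≤ ringKrullDim ((f.fiber (f z)).presheaf.stalk (f.asFiber z)) := fun z hz => hc₁ z hz.1
    obtain ⟨e⟩ := GrothLib.DualFree20.nonempty_restrict_refPow_push d hS hd ω hω Yo hYo (U₁ ⊓ W) hU r
    have hi : ∀ z, z ∈ U₁ ⊓ W → RelCanon.InvertibleAt (RelCanon.refPowZ ω r) z := fun z hz =>
      GrothLib.DualFree20.invertibleAt_congr_open (U₁ ⊓ W) e hz ⟨W, hz.2, hW⟩
    refine ⟨U₁ ⊓ W, ⟨hy₁, hyW⟩, fun z hz => ⟨hi z hz, hU z hz, fun ωz hωz => ?_⟩⟩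
    exact GrothLib.DualFree20.fibre_index_of_invertibleAt d hS hd ω hω (U₁ ⊓ W)
      (fun x hx hx' => hU x hx fun h => hx' (by rw [← hYo]; exact h)) r hr z hz (hi z hz) ωz hωz
  · rintro ⟨U, hyU, hU⟩
    refine ⟨fun z _ hz hzy => (hU z (hzy.mem_open U.2 hyU)).2.1 hz, ?_⟩
    obtain ⟨e⟩ := GrothLib.DualFree20.nonempty_restrict_refPow_push d hS hd ω hω Yo hYo U
      (fun z hz => (hU z hz).2.1) r
    exact GrothLib.DualFree20.invertibleAt_congr_open U e.symm hyU (hU y hyU).1

end Groth.Agent.S19833
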