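import Groth.Statements.S19834
import Groth.Agent.Lib.ExtSplit20.Main

set_option autoImplicit false
set_option maxHeartbeats 1000000
set_option linter.style.haveILetI false
set_option backward.isDefEq.respectTransparency false
universe u
open QGor

namespace Groth.Agent.S19834

open CategoryTheory AlgebraicGeometry in
/-- For a proper S₂-morphism Y → Spec A to a Noetherian affine base, of pure relative dimension d, all
of whose fibres satisfy Serre's condition S₃ at every point, with relative canonical sheaf ω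
(characterised by the d-dualizing property over A), the sheaf 𝓔xt¹_{O_Y}(ω, ω) vanishes; stated as:
every extension of ω|_V by ω|_V over an open V ⊆ Y is locally split, i.e. for every short exact
sequence 0 → S₁ → S₂ → S₃ → 0 of O_V-modules with S₁ ≅ ω|_V and S₃ ≅ ω|_V and every point y ∈ V
there are an open W ⊆ V containing y and a morphism S₃|_W → S₂|_W that is a section of S₂|_W →
S₃|_W. -/
theorem result
    (A : Type u) [CommRing A] [IsNoetherianRing A] (Y : Scheme.{u}) [Y.Over (Spec (CommRingCat.of A))]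
    [IsProper (Y ↘ Spec (CommRingCat.of A))] (d : ℕ)
    (hS : RelCanon.IsSkMor (Y ↘ Spec (CommRingCat.of A)) 2) (hd : Cyc.HasRelDim (Y ↘ Spec (CommRingCat.of A)) d)
    (ω : Y.Modules) (hω : RelCanon.IsDualizingSheaf A Y d ω)
    (hS3 : ∀ y : Y, RelCanon.SkAt 3 (Coh.structureModule ((Y ↘ Spec (CommRingCat.of A)).fiber ((Y ↘ Spec (CommRingCat.of A)) y))) ((Y ↘ Spec (CommRingCat.of A)).asFiber y))
    (V : Y.Opens) (S : ShortComplex (V : Scheme.{u}).Modules) (hSe : S.ShortExact)
    (e₁ : S.X₁ ≅ ω.restrict V.ι) (e₃ : S.X₃ ≅ ω.restrict V.ι) (y : Y) (hy : y ∈ V) :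
    ∃ (W : Y.Opens) (i : W ≤ V), y ∈ W ∧
      ∃ σ : S.X₃.restrict (Y.homOfLE i) ⟶ S.X₂.restrict (Y.homOfLE i),
        σ ≫ (Scheme.Modules.restrictFunctor (Y.homOfLE i)).map S.g = 𝟙 _ := by
  exact GrothLib.ExtSplit20.exists_local_section A Y d hS hd ω hω hS3 V S hSe e₁ e₃ y hy

end Groth.Agent.S19834
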