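import Groth.Statements.S19835
import Groth.Agent.Lib.DualFree20.BCCanon
import Groth.Agent.Lib.PBDeg17.DualRoots
import Groth.Agent.Lib.DualTensor11.Basic
import Groth.Agent.Lib.Seesaw26.LocalGood
import Groth.Agent.Lib.DualTF27.Bridge
import Groth.Agent.Lib.PBDeg17.OfUniv
import Groth.Agent.Lib.ParaPair.Basic
import Groth.Agent.Lib.RelProjK.Local
import Groth.Agent.Lib.PerfLim10.Main

set_option autoImplicit false
set_option maxHeartbeats 1000000
set_option linter.style.haveILetI false
set_option backward.isDefEq.respectTransparency false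
universe u
open QGor

namespace Groth.Agent.S19835

open CategoryTheory AlgebraicGeometry in
/-- For a proper S₂-morphism Y → Spec A to a Noetherian affine base, of pure relative dimension d, whose
fibres are Gorenstein in codimension one, with relative canonical sheaf ω (characterised by the
d-dualizing property over A): if ω is invertible, then the morphism is ℚ-Gorenstein with respect to
ω (every reflexive power ω^{[m]}, m ∈ ℤ, satisfies relative S₂ over the base at every point: flat
over the base with S₂ restriction to the fibre), and every fibre is ℚ-Gorenstein of Gorenstein index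
one, i.e. for every t every d-dualizing module on the fibre Y_t over κ(t) (the canonical sheaf of
the fibre) is invertible. -/
theorem result
    (A : Type u) [CommRing A] [IsNoetherianRing A] (Y : Scheme.{u}) [Y.Over (Spec (CommRingCat.of A))]
    [IsProper (Y ↘ Spec (CommRingCat.of A))] (d : ℕ)
    (hS : RelCanon.IsSkMor (Y ↘ Spec (CommRingCat.of A)) 2) (hd : Cyc.HasRelDim (Y ↘ Spec (CommRingCat.of A)) d)
    (ω : Y.Modules) (hω : RelCanon.IsDualizingSheaf A Y d ω)
    (hG : ∀ y : Y, y ∉ RelCanon.gorLocus (Y ↘ Spec (CommRingCat.of A)) →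
      (2 : WithBot ℕ∞) ≤ ringKrullDim (((Y ↘ Spec (CommRingCat.of A)).fiber ((Y ↘ Spec (CommRingCat.of A)) y)).presheaf.stalk ((Y ↘ Spec (CommRingCat.of A)).asFiber y)))
    (hinv : PicF.IsInvertible ω) :
    RelCanon.IsQGorMorWith (Y ↘ Spec (CommRingCat.of A)) ω ∧
    ∀ (t : (Spec (CommRingCat.of A))) (ωt : ((Y ↘ Spec (CommRingCat.of A)).fiber t).Modules), @RelCanon.IsDualizingSheaf ((Spec (CommRingCat.of A)).residueField t) _ ((Y ↘ Spec (CommRingCat.of A)).fiber t) ⟨(Y ↘ Spec (CommRingCat.of A)).fiberToSpecResidueField t⟩ d ωt → PicF.IsInvertible ωt := by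
  let f := Y ↘ Spec (CommRingCat.of A)
  haveI : Flat f := hS.1
  haveI : LocallyOfFiniteType f := hS.2.1
  haveI : IsLocallyNoetherian Y := LocallyOfFiniteType.isLocallyNoetherian f
  have hdual : ∀ {L : Y.Modules}, PicF.IsInvertible L → PicF.IsInvertible (RefHull.dual L) := fun {L} hL => by
    obtain ⟨e⟩ := GrothLib.DualTensor11.nonempty_dual_iso_iHom (GrothLib.LocFreeHom.isFinLocFree_of_isInvertible hL)
    exact GrothLib.ParaPair.isInvertible_of_iso e (GrothLib.PBDeg.exists_dual_inverse hL).1
  have hdd : ∀ {L : Y.Modules}, PicF.IsInvertible L → PicF.IsInvertible (RefHull.ddual L) := fun {L} hL =>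
    hdual (hdual hL)
  have hrel : ∀ {L : Y.Modules}, PicF.IsInvertible L → RelCanon.RelSk f 2 L := by
    intro L hL y
    refine ⟨GrothLib.Seesaw26.isFlatOver_of_isInvertible (f := f) hL y, ?_⟩
    obtain ⟨e⟩ := GrothLib.DualTF27.nonempty_stalk_iso_of_rank_one
      (GrothLib.PBDeg.rankOne_iff.2 (GrothLib.RelProjK.isInvertible_pullback (f.fiberι (f y)) hL)) (f.asFiber y)
    haveI : IsLocallyNoetherian (f.fiber (f y)) := by
      haveI : LocallyOfFiniteType (f.fiberToSpecResidueField (f y)) :=
        MorphismProperty.pullback_snd _ _ (inferInstance : LocallyOfFiniteType f)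
      exact LocallyOfFiniteType.isLocallyNoetherian (f.fiberToSpecResidueField (f y))
    haveI : Module.Finite ((f.fiber (f y)).presheaf.stalk (f.asFiber y))
        ((Coh.structureModule (f.fiber (f y))).presheaf.stalk (f.asFiber y)) :=
      Module.Finite.equiv (GrothLib.HomSh.unitStalk (X := f.fiber (f y)) (f.asFiber y))
    haveI : Module.Finite ((f.fiber (f y)).presheaf.stalk (f.asFiber y))
        ((f.fiber (f y)).presheaf.stalk (f.asFiber y)) := inferInstance
    exact GrothLib.SkExt.hasSk_congr e.symm.toLinearEquiv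
      (GrothLib.SkExt.hasSk_congr (GrothLib.HomSh.unitStalk (X := f.fiber (f y)) (f.asFiber y)).symm (hS.2.2 y))
  refine ⟨fun m => ?_, fun t ωt hωt => ?_⟩
  · cases m with
    | ofNat m => exact hrel (hdd (GrothLib.Ample.isInvertible_tensorPow hinv m))
    | negSucc n => exact hrel (hdd (GrothLib.Ample.isInvertible_tensorPow (hdual hinv) (n + 1)))
  · let κ := (Spec (CommRingCat.of A)).residueField t
    letI : (f.fiber t).Over (Spec (CommRingCat.of κ)) := ⟨f.fiberToSpecResidueField t⟩
    let φ : CommRingCat.of A ⟶ κ := Spec.preimage ((Spec (CommRingCat.of A)).fromSpecResidueField t)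
    have hsq : IsPullback (f.fiberι t) ((f.fiber t) ↘ Spec (CommRingCat.of κ)) f (Spec.map (CommRingCat.ofHom φ.hom)) := by
      change IsPullback (f.fiberι t) (f.fiberToSpecResidueField t) f (Spec.map φ)
      rw [Spec.map_preimage]
      exact IsPullback.of_hasPullback _ _
    haveI : IsProper ((f.fiber t) ↘ Spec (CommRingCat.of κ)) :=
      MorphismProperty.of_isPullback hsq (inferInstance : IsProper f)
    obtain ⟨e⟩ := GrothLib.DualFree20.nonempty_iso_of_isDualizingSheaf
      (GrothLib.DualFree20.isDualizingSheaf_pullback_of_relS2 d hS hd ω hω (hrel hinv) κ φ.hom (f.fiber t) (f.fiberι t) hsq)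
      hωt
    exact GrothLib.ParaPair.isInvertible_of_iso e.symm (GrothLib.RelProjK.isInvertible_pullback (f.fiberι t) hinv)

end Groth.Agent.S19835
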