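import Groth.Statements.S19838
import Groth.Agent.Lib.ArtCrit20.RootGeo

set_option autoImplicit false
set_option maxHeartbeats 1000000
set_option linter.style.haveILetI false
set_option backward.isDefEq.respectTransparency false
universe u
open QGor

namespace Groth.Agent.S19838

open CategoryTheory AlgebraicGeometry in
/-- Let Y → Spec A be a proper S₂-morphism to a Noetherian affine base, of pure relative dimension d,
with relative canonical sheaf ω (characterised by the d-dualizing property over A), and t a point of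
Spec A whose fibre Y_t is Gorenstein in codimension one and quasi-Gorenstein (every d-dualizing
module on Y_t over κ(t), i.e. its canonical sheaf, is invertible). If ω^{[r]} is invertible for some
r > 0 whose image in κ(t) is non-zero, then for every m ∈ ℤ the reflexive power ω^{[m]} satisfies
relative S₂ over the base at every point of Y_t (the morphism is ℚ-Gorenstein along Y_t). -/
theorem result
    (A : Type u) [CommRing A] [IsNoetherianRing A] (Y : Scheme.{u}) [Y.Over (Spec (CommRingCat.of A))]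
    [IsProper (Y ↘ Spec (CommRingCat.of A))] (d : ℕ)
    (hS : RelCanon.IsSkMor (Y ↘ Spec (CommRingCat.of A)) 2) (hd : Cyc.HasRelDim (Y ↘ Spec (CommRingCat.of A)) d)
    (ω : Y.Modules) (hω : RelCanon.IsDualizingSheaf A Y d ω)
    (t : (Spec (CommRingCat.of A)))
    (hG1 : ∀ y : Y, (Y ↘ Spec (CommRingCat.of A)) y = t → y ∉ RelCanon.gorLocus (Y ↘ Spec (CommRingCat.of A)) → (2 : WithBot ℕ∞) ≤ ringKrullDim (((Y ↘ Spec (CommRingCat.of A)).fiber ((Y ↘ Spec (CommRingCat.of A)) y)).presheaf.stalk ((Y ↘ Spec (CommRingCat.of A)).asFiber y)))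
    (hqg : ∀ ωt : ((Y ↘ Spec (CommRingCat.of A)).fiber t).Modules, @RelCanon.IsDualizingSheaf ((Spec (CommRingCat.of A)).residueField t) _ ((Y ↘ Spec (CommRingCat.of A)).fiber t) ⟨(Y ↘ Spec (CommRingCat.of A)).fiberToSpecResidueField t⟩ d ωt → PicF.IsInvertible ωt)
    (r : ℕ) (hr : 0 < r) (hrk : (r : (Spec (CommRingCat.of A)).residueField t) ≠ 0)
    (hinv : PicF.IsInvertible (RelCanon.refPowZ ω r)) :
    ∀ m : ℤ, ∀ y : Y, (Y ↘ Spec (CommRingCat.of A)) y = t → RelCanon.RelSkAt (Y ↘ Spec (CommRingCat.of A)) 2 (RelCanon.refPowZ ω m) y := by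
  intro m y hy
  subst hy
  let f := Y ↘ Spec (CommRingCat.of A)
  haveI : LocallyOfFiniteType f := hS.2.1
  haveI : IsLocallyNoetherian Y := LocallyOfFiniteType.isLocallyNoetherian f
  haveI : IsIso (Spec.map (CommRingCat.ofHom (RingHom.id A))) := by rw [CommRingCat.ofHom_id, Spec.map_id]; infer_instance
  obtain ⟨hωc, -, -⟩ := GrothLib.DualFree20.exists_bcOn_gor d hS hd ω hω A (RingHom.id A) Y (𝟙 Y)
    (IsPullback.of_horiz_isIso ⟨by simp⟩) ω hω
  obtain ⟨r₀, rfl⟩ : ∃ k, r = k + 1 := ⟨r - 1, by omega⟩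
  have h1 : RelCanon.InvertibleAt (RelCanon.refPowZ ω ((r₀ + 1 : ℕ) : ℤ)) y :=
    GrothLib.DualFree20.invertibleAt_of_restrict ⊤ (GrothLib.ParaPair.isInvertible_of_iso
      ((Scheme.Modules.restrictFunctorIsoPullback _).app _) (GrothLib.RelProjK.isInvertible_pullback _ hinv)) y trivial
  rw [← f.fiberι_asFiber y] at h1
  have h := GrothLib.ArtCrit20.invertibleAt_refPowZ_of_root d hS hd ω hω _ hG1 hqg r₀ hrk (f.asFiber y) h1 m
  rw [f.fiberι_asFiber y] at h
  exact GrothLib.ArtCrit20.relSkAt_of_invertibleAt f hS (GrothLib.DualFree20.isCoh_refPowZ hωc m) h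

end Groth.Agent.S19838
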