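import Groth.Statements.S1984
import Groth.Agent.Lib.DVRExt.TotallyRamified
import Groth.Agent.Lib.DVRExt.Independent
import Mathlib.FieldTheory.SeparableClosure
-- import your own Groth.Agent.* helpers here

set_option autoImplicit false
universe u
open EtAlg

namespace Groth.Agent.S1984

open TensorProduct in
open IsLocalRing GrothLib.DVRExt in
theorem key (A B K L : Type u) [CommRing A] [IsDomain A] [IsDiscreteValuationRing A]
    [CommRing B] [IsDomain B] [IsDiscreteValuationRing B] [Algebra A B] [IsLocalHom (algebraMap A B)]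
    (hinj : Function.Injective (algebraMap A B))
    [Field K] [Field L] [Algebra A K] [IsFractionRing A K] [Algebra B L] [IsFractionRing B L]
    [Algebra K L] [Algebra A L] [IsScalarTower A K L] [IsScalarTower A B L]
    (hw : EtRam.IsWeaklyUnramified A B) (K₁ : Type u) [Field K₁] [Algebra K K₁] [FiniteDimensional K K₁]
    [Algebra.IsSeparable K K₁] (ht : EtRam.IsTotallyRamified A ((algebraMap K K₁).comp (algebraMap A K)))
    (M : Type u) [Field M] [Algebra K M] [Algebra L M] [Algebra K₁ M] [IsScalarTower K L M]
    [IsScalarTower K K₁ M] (hgen : Algebra.adjoin L (Set.range (algebraMap K₁ M)) = ⊤)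
    (W : ValuationSubring M) (hW : EtRam.Dominates B ((algebraMap L M).comp (algebraMap B L)) W) :
    Module.finrank K K₁ ≤ Module.finrank L M ∧ (maximalIdeal (W.comap (algebraMap K₁ M))).map
      (EtRam.inclOfComap W (algebraMap K₁ M)) = maximalIdeal W := by
  let ψ : L ⊗[K] K₁ →ₐ[L] M := Algebra.TensorProduct.lift (Algebra.ofId L M) (IsScalarTower.toAlgHom K K₁ M)
    fun _ _ => mul_comm _ _
  have hψ : Function.Surjective ψ := by
    rw [← AlgHom.range_eq_top, ← top_le_iff, ← hgen, Algebra.adjoin_le_iff]
    rintro _ ⟨x, rfl⟩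
    refine ⟨1 ⊗ₜ x, ?_⟩
    show ψ (1 ⊗ₜ x) = _
    refine (Algebra.TensorProduct.lift_tmul _ _ _ (1 : L) x).trans ?_
    rw [map_one, one_mul]; rfl
  have : FiniteDimensional L M := Module.Finite.of_surjective ψ.toLinearMap hψ
  have hdim : Module.finrank L M ≤ Module.finrank K K₁ := by
    have h := LinearMap.finrank_le_finrank_of_injective (f := (LinearMap.dualMap ψ.toLinearMap))
      (LinearMap.dualMap_injective_of_surjective hψ)
    rwa [Subspace.dual_finrank_eq, Subspace.dual_finrank_eq, Module.finrank_baseChange] at h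
  have : Algebra.IsSeparable L M := by
    rw [← separableClosure.eq_top_iff]
    refine top_le_iff.mp fun x _ => ?_
    have hx : x ∈ Algebra.adjoin L (Set.range (algebraMap K₁ M)) := hgen ▸ Algebra.mem_top
    refine (Algebra.adjoin_le ?_ : Algebra.adjoin L (Set.range (algebraMap K₁ M)) ≤ (separableClosure L M).toSubalgebra) hx
    rintro _ ⟨y, rfl⟩
    show algebraMap K₁ M y ∈ separableClosure L M
    rw [mem_separableClosure_iff]
    refine IsSeparable.tower_top (F := K) L ?_
    show (minpoly K (algebraMap K₁ M y)).Separable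
    rw [minpoly.algebraMap_eq (algebraMap K₁ M).injective y]
    exact Algebra.IsSeparable.isSeparable K y
  have hdomA : EtRam.Dominates A ((algebraMap K M).comp (algebraMap A K)) W := by
    have e : ∀ a, algebraMap K M (algebraMap A K a) = algebraMap L M (algebraMap B L (algebraMap A B a)) := fun a => by
      rw [IsScalarTower.algebraMap_apply K L M, ← IsScalarTower.algebraMap_apply A K L,
        ← IsScalarTower.algebraMap_apply A B L]
    refine ⟨fun a => ?_, fun a ha => ?_⟩
    · rw [RingHom.comp_apply, e]; exact hW.1 _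
    · rw [RingHom.comp_apply, e]
      exact hW.2 _ fun hu => ha (IsUnit.of_map (algebraMap A B) a hu)
  have hV := dominates_comap A K (L := K₁) M W hdomA
  have hn := finrank_le_ramificationIdx _ ht hV
  obtain ⟨hdV, hiV, hlV⟩ := dominates_algebra A K K₁ _ hV
  obtain ⟨hdW, hiW, hlW⟩ := dominates_algebra B L M W hW
  let _ : Algebra A (W.comap (algebraMap K₁ M)) :=
    (((algebraMap K K₁).comp (algebraMap A K)).codRestrict (W.comap (algebraMap K₁ M)).toSubring hV.1).toAlgebra
  let _ : Algebra B W := (((algebraMap L M).comp (algebraMap B L)).codRestrict W.toSubring hW.1).toAlgebra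
  let _ : Algebra A W := ((algebraMap B W).comp (algebraMap A B)).toAlgebra
  let _ : Algebra (W.comap (algebraMap K₁ M)) W := (EtRam.inclOfComap W (algebraMap K₁ M)).toAlgebra
  have : IsScalarTower A B W := .of_algebraMap_eq' rfl
  have : IsScalarTower A (W.comap (algebraMap K₁ M)) W := .of_algebraMap_eq fun a => Subtype.ext (by
    show algebraMap L M (algebraMap B L (algebraMap A B a)) = algebraMap K₁ M (algebraMap K K₁ (algebraMap A K a))
    rw [← IsScalarTower.algebraMap_apply K K₁ M, IsScalarTower.algebraMap_apply K L M,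
      ← IsScalarTower.algebraMap_apply A K L, ← IsScalarTower.algebraMap_apply A B L])
  have : IsLocalHom (algebraMap A (W.comap (algebraMap K₁ M))) := hlV
  have : IsLocalHom (algebraMap B W) := hlW
  have : IsLocalHom (algebraMap (W.comap (algebraMap K₁ M)) W) := EtRam.isLocalHom_inclOfComap _ _
  have : IsLocalHom (algebraMap A W) := RingHom.isLocalHom_comp (algebraMap B W) (algebraMap A B)
  have hi2 : Function.Injective (algebraMap (W.comap (algebraMap K₁ M)) W) := fun x y h =>
    Subtype.ext ((algebraMap K₁ M).injective (congrArg Subtype.val h))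
  have e1 := ramificationIdx_tower (A := A) (B := W.comap (algebraMap K₁ M)) (C := W) hiV hi2
  have e2 := ramificationIdx_tower (A := A) (B := B) (C := W) hinj hiW
  rw [(weaklyUnramified_iff hinj).mp hw, one_mul, e1] at e2
  have hle : Ideal.ramificationIdx' (maximalIdeal B) (maximalIdeal W) ≤ Module.finrank L M := by
    let _ : Algebra B M := ((algebraMap L M).comp (algebraMap B L)).toAlgebra
    have : IsScalarTower B L M := .of_algebraMap_eq' rfl
    have : IsScalarTower B W M := .of_algebraMap_eq' rfl
    obtain ⟨ϖ, hϖ⟩ := IsDiscreteValuationRing.exists_irreducible W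
    obtain ⟨-, he⟩ := map_maximalIdeal_eq_pow (A := B) (B := W) hiW
    have h := linearIndependent_pow (A := B) (B := W) hiW hϖ
    have h1 := h.map' (IsScalarTower.toAlgHom B W M).toLinearMap
      (LinearMap.ker_eq_bot.mpr (IsFractionRing.injective W M))
    have h2 := (LinearIndependent.iff_fractionRing (R := B) (K := L)).mp h1
    have h3 := h2.fintype_card_le_finrank
    rwa [Fintype.card_fin] at h3
  have hpos := (map_maximalIdeal_eq_pow (A := W.comap (algebraMap K₁ M)) (B := W) hi2).1
  have hn0 : 0 < Module.finrank K K₁ := Module.finrank_pos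
  refine ⟨?_, (weaklyUnramified_iff (A := W.comap (algebraMap K₁ M)) (B := W) hi2).mpr ?_⟩
  · nlinarith
  · nlinarith

open TensorProduct in
/-- Let A -> B be a weakly unramified extension of discrete valuation rings with fraction fields K ⊂ L,
and K₁/K a finite separable extension which is totally ramified with respect to A. Then L ⊗_K K₁ is
a field and K₁ is a weak solution for A -> B (the valuation ring of L ⊗_K K₁ over B is weakly
unramified over that of K₁ over A). -/
theorem result (A B K L : Type u) [CommRing A] [IsDomain A] [IsDiscreteValuationRing A]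
    [CommRing B] [IsDomain B] [IsDiscreteValuationRing B] [Algebra A B] [IsLocalHom (algebraMap A B)]
    (hinj : Function.Injective (algebraMap A B))
    [Field K] [Field L] [Algebra A K] [IsFractionRing A K] [Algebra B L] [IsFractionRing B L]
    [Algebra K L] [Algebra A L] [IsScalarTower A K L] [IsScalarTower A B L]
    (hw : EtRam.IsWeaklyUnramified A B) (K₁ : Type u) [Field K₁] [Algebra K K₁] [FiniteDimensional K K₁]
    [Algebra.IsSeparable K K₁] (ht : EtRam.IsTotallyRamified A ((algebraMap K K₁).comp (algebraMap A K))) :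
    IsField (L ⊗[K] K₁) ∧ EtRam.IsWeakSolution B K L K₁ := by
  refine ⟨?_, fun M _ _ _ _ _ _ hgen W hW => (key A B K L hinj hw K₁ ht M hgen W hW).2⟩
  have hnt : Nontrivial (L ⊗[K] K₁) := inferInstance
  obtain ⟨I, hI⟩ := Ideal.exists_maximal (L ⊗[K] K₁)
  let _ := Ideal.Quotient.field I
  let _ : Algebra K₁ ((L ⊗[K] K₁) ⧸ I) :=
    ((Ideal.Quotient.mk I).comp (Algebra.TensorProduct.includeRight (R := K) (A := L)).toRingHom).toAlgebra
  have : IsScalarTower K K₁ ((L ⊗[K] K₁) ⧸ I) := .of_algebraMap_eq fun k => by
    show _ = Ideal.Quotient.mk I (1 ⊗ₜ algebraMap K K₁ k)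
    rw [← Algebra.TensorProduct.tmul_one_eq_one_tmul (R := K) (A := L) (B := K₁)]
    rfl
  have hgen : Algebra.adjoin L (Set.range (algebraMap K₁ ((L ⊗[K] K₁) ⧸ I))) = ⊤ := by
    refine top_le_iff.mp fun x hx' => ?_
    clear hx'
    obtain ⟨y, rfl⟩ := Ideal.Quotient.mk_surjective x
    induction y with
    | zero => rw [map_zero]; exact Subalgebra.zero_mem _
    | add a b ha hb => rw [map_add]; exact Subalgebra.add_mem _ ha hb
    | tmul l k =>
      have e : (l ⊗ₜ[K] k : L ⊗[K] K₁) = algebraMap L (L ⊗[K] K₁) l * (1 ⊗ₜ k) := by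
        rw [Algebra.TensorProduct.algebraMap_apply, Algebra.TensorProduct.tmul_mul_tmul]; simp
      rw [e, map_mul]
      exact Subalgebra.mul_mem _ (Subalgebra.algebraMap_mem _ l) (Algebra.subset_adjoin ⟨k, rfl⟩)
  let g : B →+* (L ⊗[K] K₁) ⧸ I := (algebraMap L _).comp (algebraMap B L)
  obtain ⟨W, hW, hWloc⟩ := IsLocalRing.exists_factor_valuationRing g
  have hdom : EtRam.Dominates B g W := ⟨hW, fun b hb =>
    (W.valuation_lt_one_iff ⟨_, hW b⟩).mp fun hu => hb (hWloc.map_nonunit _ hu)⟩
  have hdim := (key A B K L hinj hw K₁ ht _ hgen W hdom).1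
  have hinjmk : Function.Injective (Ideal.Quotient.mk I) := by
    let q : L ⊗[K] K₁ →ₗ[L] (L ⊗[K] K₁) ⧸ I := (Ideal.Quotient.mkₐ L I).toLinearMap
    have hq : Function.Surjective q := Ideal.Quotient.mk_surjective
    have h1 := LinearMap.finrank_range_add_finrank_ker q
    rw [LinearMap.range_eq_top.mpr hq, finrank_top, Module.finrank_baseChange] at h1
    have h2 : Module.finrank L (LinearMap.ker q) = 0 := by omega
    exact LinearMap.ker_eq_bot.mp (Submodule.finrank_eq_zero.mp h2)
  exact MulEquiv.isField (Field.toIsField ((L ⊗[K] K₁) ⧸ I))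
    (RingEquiv.ofBijective _ ⟨hinjmk, Ideal.Quotient.mk_surjective⟩).toMulEquiv

end Groth.Agent.S1984
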