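import Groth.Statements.S19840
import Groth.Agent.Lib.DualFree20.QGorDescent

set_option autoImplicit false
set_option maxHeartbeats 1000000
set_option linter.style.haveILetI false
set_option backward.isDefEq.respectTransparency false
universe u
open QGor

namespace Groth.Agent.S19840

open CategoryTheory AlgebraicGeometry in
/-- Let Y → Spec A be a proper S₂-morphism to a Noetherian affine base, of pure relative dimension d,
whose fibres are Gorenstein in codimension one and ℚ-Gorenstein (w.r.t. their canonical sheaves),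
with relative canonical sheaf ω (characterised by the d-dualizing property over A); let A → B be a
ring map to a Noetherian ring with Spec B → Spec A flat and surjective, Y' → Y a cartesian square
over it with projection p, and ω' the relative canonical sheaf of Y' over B (a module with the
d-dualizing property over B). (2) If the base change is naively ℚ-Gorenstein (some ω'^{[r]}, r > 0,
invertible at each point of Y') then so is Y → Spec A. (6) If every ω'^{[m]}, m ∈ ℤ, satisfies
relative S₂ over Spec B, then every ω^{[m]} satisfies relative S₂ over Spec A. -/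
theorem result
    (A : Type u) [CommRing A] [IsNoetherianRing A] (Y : Scheme.{u}) [Y.Over (Spec (CommRingCat.of A))]
    [IsProper (Y ↘ Spec (CommRingCat.of A))] (d : ℕ)
    (hS : RelCanon.IsSkMor (Y ↘ Spec (CommRingCat.of A)) 2) (hd : Cyc.HasRelDim (Y ↘ Spec (CommRingCat.of A)) d)
    (ω : Y.Modules) (hω : RelCanon.IsDualizingSheaf A Y d ω)
    (hG : ∀ y : Y, y ∉ RelCanon.gorLocus (Y ↘ Spec (CommRingCat.of A)) →
      (2 : WithBot ℕ∞) ≤ ringKrullDim (((Y ↘ Spec (CommRingCat.of A)).fiber ((Y ↘ Spec (CommRingCat.of A)) y)).presheaf.stalk ((Y ↘ Spec (CommRingCat.of A)).asFiber y)))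
    (hQf : ∀ (t : (Spec (CommRingCat.of A))) (ωt : ((Y ↘ Spec (CommRingCat.of A)).fiber t).Modules), @RelCanon.IsDualizingSheaf ((Spec (CommRingCat.of A)).residueField t) _ ((Y ↘ Spec (CommRingCat.of A)).fiber t) ⟨(Y ↘ Spec (CommRingCat.of A)).fiberToSpecResidueField t⟩ d ωt → RelCanon.IsQGorWith ωt)
    (B : Type u) [CommRing B] [IsNoetherianRing B] (φ : A →+* B)
    [Flat (Spec.map (CommRingCat.ofHom φ))] [Surjective (Spec.map (CommRingCat.ofHom φ))]
    (Y' : Scheme.{u}) [Y'.Over (Spec (CommRingCat.of B))] (p : Y' ⟶ Y)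
    (hp : IsPullback p (Y' ↘ Spec (CommRingCat.of B)) (Y ↘ Spec (CommRingCat.of A)) (Spec.map (CommRingCat.ofHom φ)))
    (ω' : Y'.Modules) (hω' : RelCanon.IsDualizingSheaf B Y' d ω') :
    (RelCanon.IsQGorWith ω' → RelCanon.IsQGorWith ω) ∧
    (RelCanon.IsQGorMorWith (Y' ↘ Spec (CommRingCat.of B)) ω' → RelCanon.IsQGorMorWith (Y ↘ Spec (CommRingCat.of A)) ω) := by
  obtain ⟨hωc, hm⟩ := GrothLib.DualFree20.nonempty_refPowZ_flat d hS hd ω hω hG B φ Y' p hp ω' hω'
  haveI : IsLocallyNoetherian Y := LocallyOfFiniteType.isLocallyNoetherian (Y ↘ Spec (CommRingCat.of A))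
  haveI : IsProper (Y' ↘ Spec (CommRingCat.of B)) := MorphismProperty.of_isPullback (P := @IsProper) hp inferInstance
  haveI : IsLocallyNoetherian Y' := LocallyOfFiniteType.isLocallyNoetherian (Y' ↘ Spec (CommRingCat.of B))
  haveI : Flat p := MorphismProperty.of_isPullback (P := @Flat) hp.flip inferInstance
  haveI : Surjective p := MorphismProperty.of_isPullback (P := @Surjective) hp.flip inferInstance
  refine ⟨fun h y => ?_, fun h m y => ?_⟩
  · obtain ⟨y', rfl⟩ := p.surjective y
    obtain ⟨r, hr, hi⟩ := h y'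
    obtain ⟨e⟩ := hm (r : ℤ)
    exact ⟨r, hr, GrothLib.DualFree20.invertibleAt_descend p (GrothLib.DualFree20.isCoh_refPowZ hωc _) y'
      (GrothLib.DualFree20.invertibleAt_of_iso e hi)⟩
  · obtain ⟨y', rfl⟩ := p.surjective y
    obtain ⟨e⟩ := hm m
    have hω'c := (GrothLib.DualFree20.exists_bcOn d hS hd ω hω hG B φ Y' p hp ω' hω').2.1
    exact GrothLib.DualFree20.relSkAt_descend hp (GrothLib.DualFree20.isCoh_refPowZ hωc _) y'
      (GrothLib.DualFree20.relSk_of_iso e.symm (GrothLib.DualFree20.isCoh_refPowZ hω'c _) (h m) y')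

end Groth.Agent.S19840
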