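import Groth.Statements.S19841
import Groth.Agent.Lib.ArtCrit20.Crit

set_option autoImplicit false
set_option maxHeartbeats 1000000
set_option linter.style.haveILetI false
set_option backward.isDefEq.respectTransparency false
universe u
open QGor

namespace Groth.Agent.S19841

open CategoryTheory AlgebraicGeometry in
/-- (i) ⇔ (ii): let Y → Spec A be a proper S₂-morphism to a Noetherian affine base, of pure relative
dimension d, with fibres Gorenstein in codimension one and relative canonical sheaf ω (characterised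
by the d-dualizing property over A); let y be a point over t ∈ Spec A at which the fibre Y_t is
ℚ-Gorenstein (w.r.t. its canonical sheaf), and m > 0. Then ω^{[m]} satisfies relative S₂ over the
base at y if and only if for every Artinian local ring A', every surjective ring map from the local
ring A_t of Spec A at t onto A', every cartesian square Y' → Y over Spec A' → Spec A with projection
p, every module ω' with the d-dualizing property for Y' over A' (its relative canonical sheaf) and
every point y' of Y' mapping to y, the reflexive power ω'^{[m]} satisfies relative S₂ over Spec A'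
at y'. -/
theorem result
    (A : Type u) [CommRing A] [IsNoetherianRing A] (Y : Scheme.{u}) [Y.Over (Spec (CommRingCat.of A))]
    [IsProper (Y ↘ Spec (CommRingCat.of A))] (d : ℕ)
    (hS : RelCanon.IsSkMor (Y ↘ Spec (CommRingCat.of A)) 2) (hd : Cyc.HasRelDim (Y ↘ Spec (CommRingCat.of A)) d)
    (ω : Y.Modules) (hω : RelCanon.IsDualizingSheaf A Y d ω)
    (hG : ∀ y : Y, y ∉ RelCanon.gorLocus (Y ↘ Spec (CommRingCat.of A)) →
      (2 : WithBot ℕ∞) ≤ ringKrullDim (((Y ↘ Spec (CommRingCat.of A)).fiber ((Y ↘ Spec (CommRingCat.of A)) y)).presheaf.stalk ((Y ↘ Spec (CommRingCat.of A)).asFiber y)))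
    (y : Y) (t : (Spec (CommRingCat.of A))) (ht : (Y ↘ Spec (CommRingCat.of A)) y = t)
    (hQy : ∀ ωt : ((Y ↘ Spec (CommRingCat.of A)).fiber ((Y ↘ Spec (CommRingCat.of A)) y)).Modules, @RelCanon.IsDualizingSheaf ((Spec (CommRingCat.of A)).residueField ((Y ↘ Spec (CommRingCat.of A)) y)) _ ((Y ↘ Spec (CommRingCat.of A)).fiber ((Y ↘ Spec (CommRingCat.of A)) y)) ⟨(Y ↘ Spec (CommRingCat.of A)).fiberToSpecResidueField ((Y ↘ Spec (CommRingCat.of A)) y)⟩ d ωt → RelCanon.IsQGorWithAt ωt ((Y ↘ Spec (CommRingCat.of A)).asFiber y))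
    (m : ℕ) (hm : 0 < m) :
    RelCanon.RelSkAt (Y ↘ Spec (CommRingCat.of A)) 2 (RelCanon.refPowZ ω m) y ↔
    ∀ (A' : Type u) [CommRing A'] [IsArtinianRing A'] [IsLocalRing A']
      (ψ : Localization.AtPrime t.asIdeal →+* A') (hψ : Function.Surjective ψ)
      (Y' : Scheme.{u}) [Y'.Over (Spec (CommRingCat.of A'))] (p : Y' ⟶ Y)
      (hp : IsPullback p (Y' ↘ Spec (CommRingCat.of A')) (Y ↘ Spec (CommRingCat.of A))
        (Spec.map (CommRingCat.ofHom (ψ.comp (algebraMap A (Localization.AtPrime t.asIdeal))))))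
      (ω' : Y'.Modules) (hω' : RelCanon.IsDualizingSheaf A' Y' d ω') (y' : Y') (hy' : p y' = y),
      RelCanon.RelSkAt (Y' ↘ Spec (CommRingCat.of A')) 2 (RelCanon.refPowZ ω' m) y' := by
  subst ht
  exact ⟨fun h A' _ _ _ ψ hψ Y' _ p hp ω' hω' y' hy' =>
      GrothLib.ArtCrit20.relSkAt_artinian_of d hS hd ω hω hG m y h A' ψ hψ Y' p hp ω' hω' y' hy',
    fun h => GrothLib.ArtCrit20.relSkAt_of_artinian d hS hd ω hω hG m y h⟩

end Groth.Agent.S19841
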