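import Groth.Statements.S19842
import Groth.Agent.Lib.ArtCrit20.Invert

set_option autoImplicit false
set_option maxHeartbeats 1000000
set_option linter.style.haveILetI false
set_option backward.isDefEq.respectTransparency false
universe u
open QGor

namespace Groth.Agent.S19842

open CategoryTheory AlgebraicGeometry in
/-- (iii) ⇔ (iv): in the same situation — Y → Spec A a proper S₂-morphism to a Noetherian affine base,
of pure relative dimension d, fibres Gorenstein in codimension one, relative canonical sheaf ω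
characterised by the d-dualizing property over A, a point y over t with Y_t ℚ-Gorenstein at y
(w.r.t. its canonical sheaf), m > 0 —, the reflexive power ω^{[m]} is invertible at y if and only if
for every Artinian local ring A', every surjective ring map from the local ring A_t onto A', every
cartesian square Y' → Y over Spec A' → Spec A with projection p, every module ω' with the
d-dualizing property for Y' over A' and every point y' of Y' mapping to y, ω'^{[m]} is invertible at
y'. -/
theorem result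
    (A : Type u) [CommRing A] [IsNoetherianRing A] (Y : Scheme.{u}) [Y.Over (Spec (CommRingCat.of A))]
    [IsProper (Y ↘ Spec (CommRingCat.of A))] (d : ℕ)
    (hS : RelCanon.IsSkMor (Y ↘ Spec (CommRingCat.of A)) 2) (hd : Cyc.HasRelDim (Y ↘ Spec (CommRingCat.of A)) d)
    (ω : Y.Modules) (hω : RelCanon.IsDualizingSheaf A Y d ω)
    (hG : ∀ y : Y, y ∉ RelCanon.gorLocus (Y ↘ Spec (CommRingCat.of A)) →
      (2 : WithBot ℕ∞) ≤ ringKrullDim (((Y ↘ Spec (CommRingCat.of A)).fiber ((Y ↘ Spec (CommRingCat.of A)) y)).presheaf.stalk ((Y ↘ Spec (CommRingCat.of A)).asFiber y)))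
    (y : Y) (t : (Spec (CommRingCat.of A))) (ht : (Y ↘ Spec (CommRingCat.of A)) y = t)
    (hQy : ∀ ωt : ((Y ↘ Spec (CommRingCat.of A)).fiber ((Y ↘ Spec (CommRingCat.of A)) y)).Modules, @RelCanon.IsDualizingSheaf ((Spec (CommRingCat.of A)).residueField ((Y ↘ Spec (CommRingCat.of A)) y)) _ ((Y ↘ Spec (CommRingCat.of A)).fiber ((Y ↘ Spec (CommRingCat.of A)) y)) ⟨(Y ↘ Spec (CommRingCat.of A)).fiberToSpecResidueField ((Y ↘ Spec (CommRingCat.of A)) y)⟩ d ωt → RelCanon.IsQGorWithAt ωt ((Y ↘ Spec (CommRingCat.of A)).asFiber y))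
    (m : ℕ) (hm : 0 < m) :
    RelCanon.InvertibleAt (RelCanon.refPowZ ω m) y ↔
    ∀ (A' : Type u) [CommRing A'] [IsArtinianRing A'] [IsLocalRing A']
      (ψ : Localization.AtPrime t.asIdeal →+* A') (hψ : Function.Surjective ψ)
      (Y' : Scheme.{u}) [Y'.Over (Spec (CommRingCat.of A'))] (p : Y' ⟶ Y)
      (hp : IsPullback p (Y' ↘ Spec (CommRingCat.of A')) (Y ↘ Spec (CommRingCat.of A))
        (Spec.map (CommRingCat.ofHom (ψ.comp (algebraMap A (Localization.AtPrime t.asIdeal))))))
      (ω' : Y'.Modules) (hω' : RelCanon.IsDualizingSheaf A' Y' d ω') (y' : Y') (hy' : p y' = y),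
      RelCanon.InvertibleAt (RelCanon.refPowZ ω' m) y' := by
  subst ht
  let f := Y ↘ Spec (CommRingCat.of A)
  haveI : LocallyOfFiniteType f := hS.2.1
  haveI : IsLocallyNoetherian Y := LocallyOfFiniteType.isLocallyNoetherian f
  refine ⟨fun h A' _ _ _ ψ hψ Y' _ p hp ω' hω' y' hy' => ?_, fun h => ?_⟩
  · obtain ⟨⟨e⟩, -⟩ := GrothLib.DualFree20.refPowZ_baseChange d hS hd ω hω hG A' _ Y' p hp ω' hω' (m : ℤ)
    exact GrothLib.DualFree20.invertibleAt_of_iso e.symm
      (GrothLib.ArtCrit20.invertibleAt_ddual_pullback p y' (by rw [hy']; exact h))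
  · have hsk : RelCanon.RelSkAt f 2 (RelCanon.refPowZ ω m) y :=
      GrothLib.ArtCrit20.relSkAt_of_artinian d hS hd ω hω hG m y fun A' _ _ _ ψ hψ Y' _ p hp ω' hω' y' hy' => by
        haveI : IsProper (Y' ↘ Spec (CommRingCat.of A')) := MorphismProperty.of_isPullback (P := @IsProper) hp inferInstance
        haveI : IsLocallyNoetherian Y' := LocallyOfFiniteType.isLocallyNoetherian (Y' ↘ Spec (CommRingCat.of A'))
        obtain ⟨-, hω'c, -⟩ := GrothLib.DualFree20.exists_bcOn d hS hd ω hω hG A' _ Y' p hp ω' hω'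
        exact GrothLib.ArtCrit20.relSkAt_of_invertibleAt _ (GrothLib.DualFree20.isSkMor_of_isPullback hp hS)
          (GrothLib.DualFree20.isCoh_refPowZ hω'c (m : ℤ)) (h A' ψ hψ Y' p hp ω' hω' y' hy')
    let κ := (Spec (CommRingCat.of A)).residueField (f y)
    obtain ⟨χ, hχ⟩ := GrothLib.ArtCrit20.stalk_test (A := A) (t := f y) κ ((Spec (CommRingCat.of A)).residue (f y)).hom
    let ψ := ((Spec (CommRingCat.of A)).residue (f y)).hom.comp χ.toRingHom
    letI : (f.fiber (f y)).Over (Spec (CommRingCat.of κ)) := ⟨f.fiberToSpecResidueField (f y)⟩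
    have hp : IsPullback (f.fiberι (f y)) ((f.fiber (f y)) ↘ Spec (CommRingCat.of κ)) f
        (Spec.map (CommRingCat.ofHom (ψ.comp (algebraMap A (Localization.AtPrime (f y).asIdeal))))) := by
      rw [hχ]
      exact IsPullback.of_hasPullback _ _
    haveI : IsProper ((f.fiber (f y)) ↘ Spec (CommRingCat.of κ)) :=
      MorphismProperty.of_isPullback (P := @IsProper) hp inferInstance
    obtain ⟨ω', hω'⟩ := GrothLib.DualFree20.exists_isDualizingSheaf (A := κ) (Y := f.fiber (f y)) d
      (fun s => (GrothLib.FibreBC.topologicalKrullDim_fiber hp s).le.trans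
        (GrothLib.FibPd.topologicalKrullDim_le_of_components fun Z hZ => (hd _ Z hZ).le))
    obtain ⟨⟨e⟩, -⟩ := GrothLib.DualFree20.refPowZ_baseChange d hS hd ω hω hG κ _ (f.fiber (f y)) (f.fiberι (f y)) hp ω' hω' (m : ℤ)
    have hsurj : Function.Surjective ψ :=
      ((Spec (CommRingCat.of A)).residue_surjective (f y)).comp χ.surjective
    exact GrothLib.ArtCrit20.invertibleAt_of_relSkAt d hS hd ω hω hG m y hsk
      (GrothLib.DualFree20.invertibleAt_of_iso e
        (h κ ψ hsurj (f.fiber (f y)) (f.fiberι (f y)) hp ω' hω' (f.asFiber y) (f.fiberι_asFiber y)))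

end Groth.Agent.S19842
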