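import Groth.Statements.S19843
import Groth.Agent.Lib.ArtCrit20.Dvr

set_option autoImplicit false
set_option maxHeartbeats 1000000
set_option linter.style.haveILetI false
set_option backward.isDefEq.respectTransparency false
universe u
open QGor

namespace Groth.Agent.S19843

open CategoryTheory AlgebraicGeometry in
/-- Let Y → Spec A be a proper S₂-morphism to a REDUCED Noetherian affine base, of pure relative
dimension d, with fibres Gorenstein in codimension one and relative canonical sheaf ω (characterised
by the d-dualizing property over A). Then all reflexive powers ω^{[m]}, m ∈ ℤ, satisfy relative S₂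
over the base at every point if and only if, for every discrete valuation ring R, every ring map A →
R, every cartesian square Y' → Y over Spec R → Spec A and every module ω' with the d-dualizing
property for Y' over R (its relative canonical sheaf), all ω'^{[m]} satisfy relative S₂ over Spec R
at every point of Y'. (The source's notion of ℚ-Gorenstein morphism also requires ℚ-Gorenstein
fibres; that clause is left out on both sides here, and the printed argument proves the equivalence
of the remaining conditions.) -/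
theorem result
    (A : Type u) [CommRing A] [IsNoetherianRing A] (Y : Scheme.{u}) [Y.Over (Spec (CommRingCat.of A))]
    [IsProper (Y ↘ Spec (CommRingCat.of A))] (d : ℕ)
    (hS : RelCanon.IsSkMor (Y ↘ Spec (CommRingCat.of A)) 2) (hd : Cyc.HasRelDim (Y ↘ Spec (CommRingCat.of A)) d)
    (ω : Y.Modules) (hω : RelCanon.IsDualizingSheaf A Y d ω)
    [_root_.IsReduced A]
    (hG : ∀ y : Y, y ∉ RelCanon.gorLocus (Y ↘ Spec (CommRingCat.of A)) →
      (2 : WithBot ℕ∞) ≤ ringKrullDim (((Y ↘ Spec (CommRingCat.of A)).fiber ((Y ↘ Spec (CommRingCat.of A)) y)).presheaf.stalk ((Y ↘ Spec (CommRingCat.of A)).asFiber y))) :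
    RelCanon.IsQGorMorWith (Y ↘ Spec (CommRingCat.of A)) ω ↔
    ∀ (B : Type u) [CommRing B] [IsDomain B] [IsDiscreteValuationRing B] (φ : A →+* B)
      (Y' : Scheme.{u}) [Y'.Over (Spec (CommRingCat.of B))] (p : Y' ⟶ Y)
      (hp : IsPullback p (Y' ↘ Spec (CommRingCat.of B)) (Y ↘ Spec (CommRingCat.of A)) (Spec.map (CommRingCat.ofHom φ)))
      (ω' : Y'.Modules) (hω' : RelCanon.IsDualizingSheaf B Y' d ω'),
      RelCanon.IsQGorMorWith (Y' ↘ Spec (CommRingCat.of B)) ω' := by
  refine ⟨fun h B _ _ _ φ Y' _ p hp ω' hω' m => ?_, fun h m y => GrothLib.ArtCrit20.relSkAt_of_dvr d hS hd ω hω hG h m y⟩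
  obtain ⟨⟨e⟩, hr⟩ := (GrothLib.DualFree20.refPowZ_baseChange d hS hd ω hω hG B φ Y' p hp ω' hω' m).2 (h m)
  haveI : LocallyOfFiniteType (Y' ↘ Spec (CommRingCat.of B)) :=
    MorphismProperty.of_isPullback (P := @LocallyOfFiniteType) hp hS.2.1
  haveI : LocallyOfFiniteType (Y ↘ Spec (CommRingCat.of A)) := hS.2.1
  haveI : IsLocallyNoetherian Y' := LocallyOfFiniteType.isLocallyNoetherian (Y' ↘ Spec (CommRingCat.of B))
  haveI : IsLocallyNoetherian Y := LocallyOfFiniteType.isLocallyNoetherian (Y ↘ Spec (CommRingCat.of A))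
  obtain ⟨hωc, hω'c, -⟩ := GrothLib.DualFree20.exists_bcOn d hS hd ω hω hG B φ Y' p hp ω' hω'
  exact GrothLib.DualFree20.relSk_of_iso e (GrothLib.ModDesc.isCoh_pullback p _ (GrothLib.DualFree20.isCoh_refPowZ hωc m)) hr

end Groth.Agent.S19843
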