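import Groth.Statements.S19844
import Groth.Agent.Lib.ArtCrit20.S3Fibre

set_option autoImplicit false
set_option maxHeartbeats 1000000
set_option linter.style.haveILetI false
set_option backward.isDefEq.respectTransparency false
universe u
open QGor

namespace Groth.Agent.S19844

open CategoryTheory AlgebraicGeometry in
/-- Let Y → Spec A be a proper S₂-morphism to a Noetherian affine base, of pure relative dimension d,
with fibres Gorenstein in codimension one and relative canonical sheaf ω (characterised by the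
d-dualizing property over A); let t be a point of Spec A and ω_t a d-dualizing module on the fibre
Y_t over κ(t) (the canonical sheaf of the fibre). Assume (i) Y_t is ℚ-Gorenstein: some ω_t^{[r]}, r
> 0, is invertible at each point; (ii) Y_t is Gorenstein in codimension two: at every point of Y_t
outside the relative Gorenstein locus the local ring of Y_t has dimension ≥ 3; (iii) every
ω_t^{[m]}, m ∈ ℤ, satisfies S₃ at every point of Y_t. Then for every m ∈ ℤ the reflexive power
ω^{[m]} satisfies relative S₂ over the base at every point of Y_t. -/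
theorem result
    (A : Type u) [CommRing A] [IsNoetherianRing A] (Y : Scheme.{u}) [Y.Over (Spec (CommRingCat.of A))]
    [IsProper (Y ↘ Spec (CommRingCat.of A))] (d : ℕ)
    (hS : RelCanon.IsSkMor (Y ↘ Spec (CommRingCat.of A)) 2) (hd : Cyc.HasRelDim (Y ↘ Spec (CommRingCat.of A)) d)
    (ω : Y.Modules) (hω : RelCanon.IsDualizingSheaf A Y d ω)
    (hG : ∀ y : Y, y ∉ RelCanon.gorLocus (Y ↘ Spec (CommRingCat.of A)) →
      (2 : WithBot ℕ∞) ≤ ringKrullDim (((Y ↘ Spec (CommRingCat.of A)).fiber ((Y ↘ Spec (CommRingCat.of A)) y)).presheaf.stalk ((Y ↘ Spec (CommRingCat.of A)).asFiber y)))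
    (t : (Spec (CommRingCat.of A))) (ωt : ((Y ↘ Spec (CommRingCat.of A)).fiber t).Modules) (hωt : @RelCanon.IsDualizingSheaf ((Spec (CommRingCat.of A)).residueField t) _ ((Y ↘ Spec (CommRingCat.of A)).fiber t) ⟨(Y ↘ Spec (CommRingCat.of A)).fiberToSpecResidueField t⟩ d ωt)
    (h1 : RelCanon.IsQGorWith ωt)
    (h2 : ∀ y : Y, (Y ↘ Spec (CommRingCat.of A)) y = t → y ∉ RelCanon.gorLocus (Y ↘ Spec (CommRingCat.of A)) → (3 : WithBot ℕ∞) ≤ ringKrullDim (((Y ↘ Spec (CommRingCat.of A)).fiber ((Y ↘ Spec (CommRingCat.of A)) y)).presheaf.stalk ((Y ↘ Spec (CommRingCat.of A)).asFiber y)))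
    (h3 : ∀ m : ℤ, RelCanon.HasSk 3 (RelCanon.refPowZ ωt m)) :
    ∀ m : ℤ, ∀ y : Y, (Y ↘ Spec (CommRingCat.of A)) y = t → RelCanon.RelSkAt (Y ↘ Spec (CommRingCat.of A)) 2 (RelCanon.refPowZ ω m) y := by
  intro m y hy
  subst hy
  have h := GrothLib.ArtCrit20.relSkAt_of_fibre_S3 d hS hd ω hω hG _ ωt hωt h2 m (h3 m)
    ((Y ↘ Spec (CommRingCat.of A)).asFiber y)
  rwa [Scheme.Hom.fiberι_asFiber] at h

end Groth.Agent.S19844
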