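import Groth.Statements.S19846
import Groth.Agent.Lib.ArtCrit20.Lifts

set_option autoImplicit false
set_option maxHeartbeats 1000000
set_option linter.style.haveILetI false
set_option backward.isDefEq.respectTransparency false
universe u
open QGor

namespace Groth.Agent.S19846

open CategoryTheory AlgebraicGeometry in
/-- Let Y → Spec A be a proper S₂-morphism to a Noetherian affine base, of pure relative dimension d,
with relative canonical sheaf ω (characterised by the d-dualizing property over A); let Y° be the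
relative Gorenstein locus, t a point of Spec A and ω_t a d-dualizing module on the fibre Y_t over
κ(t) (its canonical sheaf), with Y_t ℚ-Gorenstein: Gorenstein in codimension one (local rings of Y_t
of dimension ≥ 2 at points outside Y°) and some ω_t^{[r]}, r > 0, invertible at each point. If for
every m ≥ 1 there is a coherent O_Y-module M_m with M_m ⊗ O_{Y_t} ≅ ω_t^{[m]} and M_m|_{Y°} ≅
(ω|_{Y°})^{⊗ m}, then for every m ≥ 0 the reflexive power ω^{[m]} satisfies relative S₂ over the
base at every point of Y_t. (The printed conclusion is that the morphism is ℚ-Gorenstein along Y_t;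
the printed argument establishes the relative S₂ property for the non-negative powers, which is what
is stated.) -/
theorem result
    (A : Type u) [CommRing A] [IsNoetherianRing A] (Y : Scheme.{u}) [Y.Over (Spec (CommRingCat.of A))]
    [IsProper (Y ↘ Spec (CommRingCat.of A))] (d : ℕ)
    (hS : RelCanon.IsSkMor (Y ↘ Spec (CommRingCat.of A)) 2) (hd : Cyc.HasRelDim (Y ↘ Spec (CommRingCat.of A)) d)
    (ω : Y.Modules) (hω : RelCanon.IsDualizingSheaf A Y d ω)
    (Yo : Y.Opens) (hYo : (Yo : Set Y) = RelCanon.gorLocus (Y ↘ Spec (CommRingCat.of A)))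
    (t : (Spec (CommRingCat.of A))) (ωt : ((Y ↘ Spec (CommRingCat.of A)).fiber t).Modules) (hωt : @RelCanon.IsDualizingSheaf ((Spec (CommRingCat.of A)).residueField t) _ ((Y ↘ Spec (CommRingCat.of A)).fiber t) ⟨(Y ↘ Spec (CommRingCat.of A)).fiberToSpecResidueField t⟩ d ωt)
    (hG1 : ∀ y : Y, (Y ↘ Spec (CommRingCat.of A)) y = t → y ∉ Yo → (2 : WithBot ℕ∞) ≤ ringKrullDim (((Y ↘ Spec (CommRingCat.of A)).fiber ((Y ↘ Spec (CommRingCat.of A)) y)).presheaf.stalk ((Y ↘ Spec (CommRingCat.of A)).asFiber y)))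
    (hQ : RelCanon.IsQGorWith ωt)
    (M : ℕ → Y.Modules) (hMc : ∀ m : ℕ, 1 ≤ m → Coh.IsCoh (M m))
    (hMt : ∀ m : ℕ, 1 ≤ m →
      Nonempty ((Scheme.Modules.pullback ((Y ↘ Spec (CommRingCat.of A)).fiberι t)).obj (M m) ≅ RelCanon.refPowZ ωt m))
    (hMo : ∀ m : ℕ, 1 ≤ m → Nonempty ((M m).restrict Yo.ι ≅ CohB1.tensorPow (ω.restrict Yo.ι) m)) :
    ∀ (m : ℕ) (y : Y), (Y ↘ Spec (CommRingCat.of A)) y = t → RelCanon.RelSkAt (Y ↘ Spec (CommRingCat.of A)) 2 (RelCanon.refPowZ ω m) y := by
  intro m y hy
  subst hy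
  exact GrothLib.ArtCrit20.relSkAt_of_lifts d hS hd ω hω Yo hYo y ωt hωt hG1 M hMc hMt hMo m

end Groth.Agent.S19846
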