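import Groth.Statements.S1985
import Groth.Agent.Lib.NagataDesc4.Basic

set_option autoImplicit false
universe u
open EtAlg

namespace Groth.Agent.S1985

/-- Let A -> B be an extension of discrete valuation rings whose extension of fraction fields L/K is
separable. If B is a Nagata ring then so is A. -/
theorem result (A B K L : Type u) [CommRing A] [IsDomain A] [IsDiscreteValuationRing A]
    [CommRing B] [IsDomain B] [IsDiscreteValuationRing B] [Algebra A B] [IsLocalHom (algebraMap A B)]
    (hinj : Function.Injective (algebraMap A B))
    [Field K] [Field L] [Algebra A K] [IsFractionRing A K] [Algebra B L] [IsFractionRing B L]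
    [Algebra K L] [Algebra A L] [IsScalarTower A K L] [IsScalarTower A B L] [Algebra.IsSeparable K L] (hB : CAlg.IsNagata B) :
    CAlg.IsNagata A := by
  exact NagataDesc4.isNagata A B K L hinj hB

end Groth.Agent.S1985
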