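import Groth.Statements.S19856
import Mathlib
-- import your own Groth.Agent.* helpers here

set_option autoImplicit false
universe u v
open CAlg

namespace Groth.Agent.S19856

/-- Ring-level form: let O be a discrete valuation ring and G a finite group acting faithfully on O by
ring automorphisms, such that every element of G acts trivially on the residue field of O (that is,
g • a - a lies in the maximal ideal for all a) and such that the order of G is nonzero in the
residue field of O. Then G is cyclic. (The source states this for a finite group of order invertible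
in an algebraically closed field k acting faithfully on a smooth connected k-variety and the
subgroup of elements fixing pointwise a codimension-one irreducible component of the ramification
locus, applied to the local ring at the generic point of that component; it is stated here for an
arbitrary discrete valuation ring with a faithful action. The source also shows that this subgroup
is nontrivial; that geometric part is not stated.) -/
theorem result
    (O : Type u) [CommRing O] [IsDomain O] [IsDiscreteValuationRing O]
    (G : Type v) [Group G] [Finite G] [MulSemiringAction G O] [FaithfulSMul G O]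
    (htriv : ∀ (g : G) (a : O), g • a - a ∈ IsLocalRing.maximalIdeal O)
    (hcard : ((Nat.card G : ℕ) : IsLocalRing.ResidueField O) ≠ 0) :
    IsCyclic G := by
  classical
  obtain ⟨π, hπ⟩ := IsDiscreteValuationRing.exists_irreducible O
  have hm : IsLocalRing.maximalIdeal O = Ideal.span {π} :=
    (IsDiscreteValuationRing.irreducible_iff_uniformizer π).1 hπ
  have hu : ∀ g : G, ∃ u : O, g • π = u * π := fun g => by
    have h : g • π ∈ IsLocalRing.maximalIdeal O := by
      have := Ideal.add_mem _ (htriv g π) (hm ▸ Ideal.subset_span rfl : π ∈ IsLocalRing.maximalIdeal O)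
      rwa [sub_add_cancel] at this
    rw [hm, Ideal.mem_span_singleton'] at h
    obtain ⟨u, hu⟩ := h
    exact ⟨u, hu.symm⟩
  choose u hu using hu
  have hres : ∀ (g : G) (a : O), IsLocalRing.residue O (g • a) = IsLocalRing.residue O a := fun g a => by
    rw [← sub_eq_zero, ← map_sub, IsLocalRing.residue_eq_zero_iff]
    exact htriv g a
  have hmul : ∀ g h : G, u (g * h) = g • u h * u g := fun g h => mul_right_cancel₀ hπ.ne_zero (by
    rw [← hu, mul_smul, hu h, smul_mul', hu g, mul_assoc])
  have hone : u 1 = 1 := mul_right_cancel₀ hπ.ne_zero (by rw [← hu, one_smul, one_mul])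
  let f : G →* IsLocalRing.ResidueField O :=
    { toFun := fun g => IsLocalRing.residue O (u g)
      map_one' := by rw [hone, map_one]
      map_mul' := fun g h => by rw [hmul, map_mul, hres, mul_comm] }
  refine isCyclic_of_subgroup_isDomain f ((injective_iff_map_eq_one f).2 fun g hg => ?_)
  have hg1 : π ∣ u g - 1 := by
    rw [← Ideal.mem_span_singleton, ← hm, ← IsLocalRing.residue_eq_zero_iff, map_sub, map_one, sub_eq_zero]
    exact hg
  have hd : ∀ a : O, π ∣ g • a - a := fun a => by
    rw [← Ideal.mem_span_singleton, ← hm]
    exact htriv g a
  have hsm : ∀ (N : ℕ) (x : O), π ^ N ∣ x → π ^ N ∣ g • x := by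
    rintro N _ ⟨b, rfl⟩
    rw [smul_mul', smul_pow', hu, mul_pow, mul_comm (u g ^ N), mul_assoc]
    exact dvd_mul_right _ _
  have hdm : ∀ (N : ℕ) (x : O), π ^ N ∣ x → π ^ (N + 1) ∣ g • x - x := by
    rintro N _ ⟨b, rfl⟩
    rw [smul_mul', smul_pow', hu, mul_pow,
      show u g ^ N * π ^ N * g • b - π ^ N * b = π ^ N * (u g ^ N * (g • b - b) + (u g ^ N - 1) * b) by ring, pow_succ]
    exact mul_dvd_mul_left _ (dvd_add (dvd_mul_of_dvd_right (hd b) _)
      (dvd_mul_of_dvd_left (hg1.trans (sub_one_dvd_pow_sub_one _ _)) _))
  have hord : IsUnit ((orderOf g : ℕ) : O) := by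
    rw [← IsLocalRing.residue_ne_zero_iff_isUnit, map_natCast]
    intro h0
    obtain ⟨q, hq⟩ := orderOf_dvd_natCard g
    exact hcard (by rw [hq, Nat.cast_mul, h0, zero_mul])
  have hall : ∀ (N : ℕ) (a : O), π ^ N ∣ g • a - a := by
    intro N
    induction N with
    | zero => intro a; rw [pow_zero]; exact one_dvd _
    | succ N ih =>
      intro a
      have hj : ∀ j : ℕ, π ^ (N + 1) ∣ g ^ j • a - a - (j : O) * (g • a - a) := by
        intro j
        induction j with
        | zero => simp
        | succ j hjv =>
          have h1 := dvd_add (hsm _ _ hjv) (dvd_mul_of_dvd_right (hdm N _ (ih a)) (j : O))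
          convert h1 using 1
          rw [pow_succ', mul_smul, smul_sub, smul_sub, smul_mul', Nat.cast_succ,
            show g • (j : O) = (j : O) from map_natCast (MulSemiringAction.toRingHom G O g) j]
          ring
      have h := hj (orderOf g)
      rw [pow_orderOf_eq_one, one_smul, sub_self, zero_sub, dvd_neg] at h
      exact (hord.dvd_mul_left).1 h
  refine eq_of_smul_eq_smul (α := O) fun a => ?_
  rw [one_smul, ← sub_eq_zero]
  by_contra hne
  obtain ⟨n, hn⟩ := (FiniteMultiplicity.of_not_isUnit hπ.not_isUnit hne)
  exact hn (hall _ a)

end Groth.Agent.S19856
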