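import Groth.Statements.S19859
import Groth.Agent.Lib.DualRing.Local

set_option autoImplicit false
universe u
open CategoryTheory
attribute [local instance] HasDerivedCategory.standard
open Dual

namespace Groth.Agent.S19859

/-- Let A be a Noetherian local ring with a normalized dualizing complex ω (so the codimension function
of ω vanishes at the closed point) and M a nonzero finite A-module with support of dimension d. Then
Ext^{-d}(M, ω), the A-module of morphisms M → ω[-d] in D(A), is nonzero. (The source states this at
every point x of a locally Noetherian scheme with a dualizing complex, in the degree given by the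
codimension function at x minus the dimension of the stalk; localizing and shifting reduces to the
closed point of a local ring with a normalized complex, which is the form stated here.) -/
theorem result (A : Type u) [CommRing A] [IsLocalRing A]
    [IsNoetherianRing A] (ω : Dual.D A) (hω : Dual.IsDualizing A ω) (hn : Dual.IsNormalized A ω)
    (M : Type u) [AddCommGroup M] [Module A M] [Module.Finite A M] [Nontrivial M]
    (d : ℕ) (hd : Module.supportDim A M = d) :
    Nontrivial (Dual.inD A M ⟶ ω⟦(-(d : ℤ))⟧) := by
  obtain ⟨l, hl⟩ : ∃ l : LTSeries (Module.support A M), l.length = d := Order.le_krullDim_iff.1 hd.ge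
  let r := l.head.1
  haveI : Nontrivial (LocalizedModule r.asIdeal.primeCompl M) := l.head.2
  have hbound : ∀ s : PrimeSpectrum A, Module.annihilator A M ≤ s.asIdeal →
      (-GrothLib.DualRing.deg hω s.asIdeal).toNat ≤ d := by
    intro s hs
    have hle : ringKrullDim (A ⧸ s.asIdeal) ≤ Module.supportDim A M := by
      rw [Module.supportDim_eq_ringKrullDim_quotient_annihilator]
      exact ringKrullDim_le_of_surjective (Ideal.Quotient.factor hs) (Ideal.Quotient.factor_surjective _)
    rw [hd, GrothLib.DualRing.ringKrullDim_quotient_eq hω hn s.asIdeal] at hle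
    exact Nat.cast_le.1 (WithBot.coe_le_coe.1 hle)
  have hann : Module.annihilator A M ≤ r.asIdeal := Module.mem_support_iff_of_finite.1 l.head.2
  have h3 : (l.length : ℕ∞) ≤ Order.coheight r := by
    refine le_trans ?_ (Order.length_le_coheight (p := l.map (fun y => y.1) (fun _ _ h => h)) ?_)
    · exact le_rfl
    · exact le_rfl
  rw [GrothLib.DualRing.coheight_eq hω,
    show GrothLib.DualRing.degS hω (IsLocalRing.closedPoint A) = 0 from GrothLib.DualRing.deg_maximal hω hn,
    zero_sub] at h3
  have h4 : l.length ≤ (-GrothLib.DualRing.deg hω r.asIdeal).toNat := Nat.cast_le.1 h3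
  have h5 := hbound r hann
  have h6 := GrothLib.DualRing.deg_nonpos hω hn r.asIdeal
  have hdeg : GrothLib.DualRing.deg hω r.asIdeal = -(d : ℤ) := by omega
  have hfin : GrothLib.DualRing.len r.asIdeal M ≠ ⊤ :=
    GrothLib.DualRing.len_ne_top_of_minimal (Module.annihilator A M) (fun s hs hle hsr => by
      by_contra hne
      have hlt := GrothLib.DualRing.deg_lt hω (r := s) (q := r.asIdeal) (lt_of_le_of_ne hsr hne)
      have := hbound ⟨s, hs⟩ hle
      change (-GrothLib.DualRing.deg hω s).toNat ≤ d at this
      omega) M fun a ha x => Module.mem_annihilator.1 ha x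
  have hne : GrothLib.DualRing.len r.asIdeal (GrothLib.DualRing.EH ω (Dual.inD A M) (-(d : ℤ))) ≠ 0 := by
    rw [← hdeg, GrothLib.DualRing.len_EH_eq (ω := ω) (p := r.asIdeal) M (fun i hi => GrothLib.DualRing.mu_ne_deg hω r.asIdeal hi) hfin,
      GrothLib.DualRing.mu_deg hω r.asIdeal, one_mul]
    exact (GrothLib.DualRing.nontrivial_localized_iff _ M).1 inferInstance
  rw [← not_subsingleton_iff_nontrivial]
  intro hs
  haveI : Subsingleton (GrothLib.DualRing.EH ω (Dual.inD A M) (-(d : ℤ))) := hs
  exact hne GrothLib.DualRing.len_eq_zero_of_subsingleton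

end Groth.Agent.S19859
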