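import Groth.Statements.S7151
import Groth.Agent.Lib.EtRam10.Deform
import Mathlib.FieldTheory.PurelyInseparable.Tower
import Mathlib.RingTheory.Artinian.Module

set_option autoImplicit false
universe u
open EtAlg

namespace Groth.Agent.S7151

set_option maxHeartbeats 1000000
open Polynomial TensorProduct GrothLib.EtRam10


/-- Let p be a prime and A → B an injective local homomorphism of discrete valuation rings whose fields
of fractions are K ⊆ L, where K has characteristic p, L is separable (geometrically reduced) over K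
and B is a Nagata ring. Let K ⊆ K₁ ⊆ K₂ be finite extensions such that K₂ is a solution for A ⊆ B
and K₂/K₁ is purely inseparable of degree p. Then some finite separable extension K₃/K₁ is also a
solution for A ⊆ B. -/
theorem result (p : ℕ) (hp : p.Prime) (A B K L : Type u)
    [CommRing A] [IsDomain A] [IsDiscreteValuationRing A] [CommRing B] [IsDomain B] [IsDiscreteValuationRing B]
    [Algebra A B] (hinj : Function.Injective (algebraMap A B)) [IsLocalHom (algebraMap A B)]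
    [Field K] [Field L] [Algebra A K] [IsFractionRing A K] [Algebra B L] [IsFractionRing B L]
    [Algebra K L] [Algebra A L] [IsScalarTower A K L] [IsScalarTower A B L] [CharP K p]
    [Algebra.IsGeometricallyReduced K L] (hB : CAlg.IsNagata B)
    (K₁ K₂ : Type u) [Field K₁] [Field K₂] [Algebra K K₁] [Algebra K K₂] [Algebra K₁ K₂] [IsScalarTower K K₁ K₂]
    [FiniteDimensional K K₁] [FiniteDimensional K₁ K₂] (hsol : EtRam.IsSolution B K L K₂)
    [IsPurelyInseparable K₁ K₂] (hdeg : Module.finrank K₁ K₂ = p) :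
    ∃ (K₃ : Type u) (_ : Field K₃) (_ : Algebra K K₃) (_ : Algebra K₁ K₃) (_ : IsScalarTower K K₁ K₃),
      FiniteDimensional K₁ K₃ ∧ Algebra.IsSeparable K₁ K₃ ∧ EtRam.IsSolution B K L K₃ := by
  classical
  haveI := Fact.mk hp
  haveI hcL : CharP L p := charP_of_injective_algebraMap (algebraMap K L).injective p
  haveI : CharP K₁ p := charP_of_injective_algebraMap (algebraMap K K₁).injective p
  haveI : CharP K₂ p := charP_of_injective_algebraMap (algebraMap K₁ K₂).injective p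
  haveI : FiniteDimensional K K₂ := FiniteDimensional.trans K K₁ K₂
  -- `p`-th powers land in `K₁`
  have hpow : ∀ y : K₂, ∃ l : K₁, algebraMap K₁ K₂ l = y ^ p := by
    intro y
    obtain ⟨n, l, hl⟩ := IsPurelyInseparable.minpoly_eq_X_pow_sub_C K₁ p y
    have hy := minpoly.aeval K₁ y
    rw [hl, map_sub, map_pow, aeval_X, aeval_C, sub_eq_zero] at hy
    have hd : (minpoly K₁ y).natDegree ≤ p := hdeg ▸ minpoly.natDegree_le y
    rw [hl, natDegree_X_pow_sub_C] at hd
    rcases n with _ | _ | n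
    · rw [pow_zero, pow_one] at hy
      exact ⟨l ^ p, by rw [map_pow, hy]⟩
    · rw [pow_one] at hy
      exact ⟨l, hy.symm⟩
    · exfalso
      have := Nat.pow_lt_pow_right hp.one_lt (show 1 < n + 1 + 1 by omega)
      rw [pow_one] at this
      omega
  -- an integral generator
  letI : Algebra A K₁ := ((algebraMap K K₁).comp (algebraMap A K)).toAlgebra
  letI : Algebra A K₂ := ((algebraMap K K₂).comp (algebraMap A K)).toAlgebra
  haveI : IsScalarTower A K K₁ := .of_algebraMap_eq' rfl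
  haveI : IsScalarTower A K K₂ := .of_algebraMap_eq' rfl
  haveI : IsScalarTower A K₁ K₂ := .of_algebraMap_eq fun x => IsScalarTower.algebraMap_apply K K₁ K₂ _
  obtain ⟨d₀, hd₀int, hd₀⟩ : ∃ d : K₂, IsIntegral A d ∧ d ∉ (algebraMap K₁ K₂).range := by
    by_contra hcon
    push Not at hcon
    have hall : ∀ e : K₂, e ∈ (algebraMap K₁ K₂).range := by
      intro e
      obtain ⟨r, hr0, hr⟩ := ((IsFractionRing.isAlgebraic_iff A K K₂).mpr
        (IsIntegral.of_finite K e).isAlgebraic).exists_integral_multiple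
      obtain ⟨k, hk⟩ := hcon _ hr
      have hrK : algebraMap A K₁ r ≠ 0 := by
        rw [IsScalarTower.algebraMap_apply A K K₁, _root_.map_ne_zero, _root_.map_ne_zero_iff _ (IsFractionRing.injective A K)]
        exact hr0
      refine ⟨k / algebraMap A K₁ r, ?_⟩
      rw [map_div₀, hk, Algebra.smul_def, ← IsScalarTower.algebraMap_apply A K₁ K₂, mul_div_cancel_left₀]
      rw [IsScalarTower.algebraMap_apply A K₁ K₂, _root_.map_ne_zero]
      exact hrK
    have h1 : Module.finrank K₁ K₂ ≤ 1 := by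
      refine finrank_le_one (1 : K₂) fun e => ?_
      obtain ⟨k, hk⟩ := hall e
      exact ⟨k, by rw [← hk, Algebra.smul_def, mul_one]⟩
    exact absurd (hdeg ▸ h1) (not_le.mpr hp.one_lt)
  obtain ⟨a, ha⟩ := hpow d₀
  have haint : IsIntegral A a := (isIntegral_algebraMap_iff (algebraMap K₁ K₂).injective).mp (ha ▸ hd₀int.pow p)
  have hanp : ∀ x : K₁, x ^ p ≠ a := fun x hx => hd₀ ⟨x, frobenius_inj K₂ p (by
    show (algebraMap K₁ K₂ x) ^ p = d₀ ^ p
    rw [← map_pow, hx, ha])⟩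
  have hirr₂ : Irreducible (X ^ p - C a : K₁[X]) := X_pow_sub_C_irreducible_of_prime hp hanp
  have hd₀root : aeval d₀ (X ^ p - C a : K₁[X]) = 0 := by
    rw [map_sub, map_pow, aeval_X, aeval_C, ha, sub_self]
  have hmin : minpoly K₁ d₀ = X ^ p - C a :=
    (minpoly.eq_of_irreducible_of_monic hirr₂ hd₀root (monic_X_pow_sub_C a hp.ne_zero)).symm
  have hd₀I : IsIntegral K₁ d₀ := IsIntegral.of_finite K₁ d₀
  have htop₂ : Algebra.adjoin K₁ ({d₀} : Set K₂) = ⊤ := by
    have h1 : IntermediateField.adjoin K₁ {d₀} = ⊤ := by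
      apply IntermediateField.eq_of_le_of_finrank_eq le_top
      rw [IntermediateField.adjoin.finrank hd₀I, hmin, natDegree_X_pow_sub_C, IntermediateField.finrank_top', hdeg]
    rw [← IntermediateField.adjoin_simple_toSubalgebra_of_isAlgebraic hd₀I.isAlgebraic, h1,
      IntermediateField.top_toSubalgebra]
  let pb := PowerBasis.ofAdjoinEqTop hd₀I htop₂
  have hrep₂ : ∀ x : K₂, ∃ c : Fin p → K₁, x = ∑ i, algebraMap K₁ K₂ (c i) * d₀ ^ (i : ℕ) := fun x =>
    exists_sum_pow _ (monic_X_pow_sub_C a hp.ne_zero) (natDegree_X_pow_sub_C) hp.ne_zero d₀ hd₀root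
      (htop₂ ▸ Algebra.mem_top)
  obtain ⟨f, hf1, hfd⟩ : ∃ f : K₂ →ₗ[K₁] K₁, f 1 = 0 ∧ f d₀ = 1 := by
    have hdim : pb.dim = p := by
      show (PowerBasis.ofAdjoinEqTop hd₀I htop₂).dim = p
      rw [PowerBasis.ofAdjoinEqTop_dim, hmin, natDegree_X_pow_sub_C]
    have hgen : pb.gen = d₀ := PowerBasis.ofAdjoinEqTop_gen hd₀I htop₂
    have h0 : 0 < pb.dim := hdim ▸ hp.pos
    have h1 : 1 < pb.dim := hdim ▸ hp.one_lt
    refine ⟨pb.basis.coord ⟨1, h1⟩, ?_, ?_⟩
    · have e : (1 : K₂) = pb.basis ⟨0, h0⟩ := by rw [pb.basis_eq_pow, pow_zero]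
      rw [e, Module.Basis.coord_apply, Module.Basis.repr_self, Finsupp.single_apply, if_neg (by simp)]
    · have e : d₀ = pb.basis ⟨1, h1⟩ := by rw [pb.basis_eq_pow, pow_one, hgen]
      rw [e, Module.Basis.coord_apply, Module.Basis.repr_self, Finsupp.single_eq_same]
  -- the factors of `L ⊗ K₁`
  haveI : Module.Finite L (L ⊗[K] K₁) := inferInstance
  haveI : IsArtinianRing (L ⊗[K] K₁) := IsArtinianRing.of_finite L (L ⊗[K] K₁)
  haveI : IsReduced (L ⊗[K] K₁) :=
    isReduced_of_injective (Algebra.TensorProduct.comm K L K₁) (Algebra.TensorProduct.comm K L K₁).injective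
  haveI : IsReduced (L ⊗[K] K₂) :=
    isReduced_of_injective (Algebra.TensorProduct.comm K L K₂) (Algebra.TensorProduct.comm K L K₂).injective
  obtain ⟨ϖA, hϖA⟩ := IsDiscreteValuationRing.exists_irreducible A
  obtain ⟨π, hπ⟩ := IsDiscreteValuationRing.exists_irreducible B
  have hbound : ∀ P : MaximalSpectrum (L ⊗[K] K₁), ∃ γ : B, γ ≠ 0 ∧
      ∀ (M₃ : Type u) [Field M₃] (j : ((L ⊗[K] K₁) ⧸ P.asIdeal) →+* M₃) (W : ValuationSubring M₃),
      EtRam.Dominates B (j.comp (algebraMap B ((L ⊗[K] K₁) ⧸ P.asIdeal))) W →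
      ∀ (l : Fin p → ((L ⊗[K] K₁) ⧸ P.asIdeal)) (i : Fin p),
        W.valuation (j (algebraMap B _ (γ * π))) ^ p * W.valuation (j (l i)) ^ p ≤
          W.valuation (j (∑ k, l k ^ p * Ideal.Quotient.mk P.asIdeal (1 ⊗ₜ a) ^ (k : ℕ))) := by
    intro P
    haveI := P.isMaximal
    letI : Field ((L ⊗[K] K₁) ⧸ P.asIdeal) := Ideal.Quotient.field P.asIdeal
    haveI : FiniteDimensional L ((L ⊗[K] K₁) ⧸ P.asIdeal) :=
      Module.Finite.of_surjective (Ideal.Quotient.mkₐ L P.asIdeal).toLinearMap (Ideal.Quotient.mkₐ_surjective L _)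
    obtain ⟨M₂, _, _, d, bas, hd, hbas⟩ := exists_root_basis hp ((L ⊗[K] K₁) ⧸ P.asIdeal)
      (Ideal.Quotient.mk P.asIdeal (1 ⊗ₜ a)) fun x hx => by
        obtain ⟨x, rfl⟩ := Ideal.Quotient.mk_surjective x
        rw [← map_pow, Ideal.Quotient.eq] at hx
        exact not_pow_mem_of_reduced hp K L K₁ K₂ a d₀ ha.symm f hf1 hfd P.asIdeal x hx
    letI : Algebra L M₂ := ((algebraMap ((L ⊗[K] K₁) ⧸ P.asIdeal) M₂).comp (algebraMap L _)).toAlgebra
    haveI : IsScalarTower L ((L ⊗[K] K₁) ⧸ P.asIdeal) M₂ := .of_algebraMap_eq' rfl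
    letI : Algebra B M₂ := ((algebraMap L M₂).comp (algebraMap B L)).toAlgebra
    haveI : IsScalarTower B L M₂ := .of_algebraMap_eq' rfl
    haveI : IsScalarTower B ((L ⊗[K] K₁) ⧸ P.asIdeal) M₂ := .of_algebraMap_eq fun b =>
      congrArg (algebraMap ((L ⊗[K] K₁) ⧸ P.asIdeal) M₂) (IsScalarTower.algebraMap_apply B L _ b).symm
    haveI : CharP M₂ p := charP_of_injective_algebraMap (algebraMap L M₂).injective p
    exact exists_pth_root_bound (L := L) hp hB hπ.maximalIdeal_eq M₂ _ d hd bas hbas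
  choose γ hγ0 hγ using hbound
  haveI : Fintype (MaximalSpectrum (L ⊗[K] K₁)) := Fintype.ofFinite _
  set Γ : B := ∏ P, γ P with hΓ
  have hΓ0 : Γ ≠ 0 := Finset.prod_ne_zero_iff.mpr fun P _ => hγ0 P
  obtain ⟨oΓ, uΓ, hoΓ⟩ := IsDiscreteValuationRing.eq_unit_mul_pow_irreducible hΓ0 hπ
  set m := (oΓ + 1) * p + 1 with hm
  set g : K₁ := algebraMap A K₁ (ϖA ^ m) with hg
  have hg0 : g ≠ 0 := by
    rw [hg, IsScalarTower.algebraMap_apply A K K₁, _root_.map_ne_zero, _root_.map_ne_zero_iff _ (IsFractionRing.injective A K)]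
    exact pow_ne_zero _ hϖA.ne_zero
  set F : K₁[X] := X ^ p - (C g * X + C a) with hF
  have hFdeg : (C g * X + C a).degree < (p : WithBot ℕ) :=
    lt_of_le_of_lt degree_linear_le (by exact_mod_cast hp.one_lt)
  have hFm : F.Monic := monic_X_pow_sub hFdeg
  have hFn : F.natDegree = p := by
    apply natDegree_eq_of_degree_eq_some
    rw [hF, degree_sub_eq_left_of_degree_lt (by rwa [degree_X_pow]), degree_X_pow]
  have hFsep : F.Separable := by
    rw [separable_def']
    refine ⟨0, C (-g)⁻¹, ?_⟩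
    have hder : derivative F = C (-g) := by
      rw [hF, derivative_sub, derivative_X_pow, derivative_add, derivative_C_mul_X, derivative_C, add_zero,
        CharP.cast_eq_zero K₁ p, map_zero, zero_mul, zero_sub, map_neg]
    rw [zero_mul, zero_add, hder, ← map_mul, inv_mul_cancel₀ (neg_ne_zero.mpr hg0), map_one]
  obtain ⟨h, hirr, hdvd⟩ := WfDvdMonoid.exists_irreducible_factor (not_isUnit_of_natDegree_pos F (hFn ▸ hp.pos)) hFm.ne_zero
  haveI := Fact.mk hirr
  suffices key : ∀ (K₃ : Type u) [Field K₃] [Algebra K K₃] [Algebra K₁ K₃] [IsScalarTower K K₁ K₃] (y : K₃),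
      aeval y F = 0 → Algebra.adjoin K₁ ({y} : Set K₃) = ⊤ →
      FiniteDimensional K₁ K₃ ∧ Algebra.IsSeparable K₁ K₃ ∧ EtRam.IsSolution B K L K₃ by
    refine ⟨AdjoinRoot h, inferInstance, inferInstance, inferInstance, inferInstance,
      key (AdjoinRoot h) (AdjoinRoot.root h) ?_ AdjoinRoot.adjoinRoot_eq_top⟩
    obtain ⟨c, hc⟩ := hdvd
    rw [hc, map_mul, AdjoinRoot.aeval_eq, AdjoinRoot.mk_self, zero_mul]
  intro K₃ _ _ _ _ y hy htop₃
  have hyI : IsIntegral K₁ y := ⟨F, hFm, hy⟩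
  have htop₃' : IntermediateField.adjoin K₁ {y} = ⊤ := by
    apply IntermediateField.toSubalgebra_injective
    rw [IntermediateField.adjoin_simple_toSubalgebra_of_isAlgebraic hyI.isAlgebraic, htop₃, IntermediateField.top_toSubalgebra]
  refine ⟨(finite_of_adjoin_eq_top y F hFm hy htop₃').1, ?_, ?_⟩
  · haveI : Algebra.IsSeparable K₁ (IntermediateField.adjoin K₁ {y}) :=
      (IntermediateField.isSeparable_adjoin_simple_iff_isSeparable K₁ K₃).mpr
        (Polynomial.Separable.of_dvd hFsep (minpoly.dvd K₁ y hy))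
    exact AlgEquiv.Algebra.isSeparable ((IntermediateField.equivOfEq htop₃').trans IntermediateField.topEquiv)
  intro M₃ _ _ _ _ _ _ hgen W hW
  haveI : CharP M₃ p := charP_of_injective_algebraMap (algebraMap K M₃).injective p
  letI : Algebra K₁ M₃ := ((algebraMap K₃ M₃).comp (algebraMap K₁ K₃)).toAlgebra
  haveI : IsScalarTower K₁ K₃ M₃ := .of_algebraMap_eq' rfl
  haveI : IsScalarTower K K₁ M₃ := .of_algebraMap_eq fun x => by
    rw [IsScalarTower.algebraMap_apply K K₃ M₃, IsScalarTower.algebraMap_apply K K₁ K₃]; rfl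
  let φT : L ⊗[K] K₁ →ₐ[L] M₃ :=
    Algebra.TensorProduct.lift (Algebra.ofId L M₃) (IsScalarTower.toAlgHom K K₁ M₃) fun _ _ => mul_comm _ _
  haveI : (RingHom.ker φT).IsPrime := RingHom.ker_isPrime φT
  haveI hPm : (RingHom.ker φT).IsMaximal := IsArtinianRing.isMaximal_of_isPrime _
  let P : MaximalSpectrum (L ⊗[K] K₁) := ⟨RingHom.ker φT, hPm⟩
  letI : Field ((L ⊗[K] K₁) ⧸ RingHom.ker φT) := Ideal.Quotient.field _
  let jA : ((L ⊗[K] K₁) ⧸ RingHom.ker φT) →ₐ[L] M₃ := Ideal.kerLiftAlg φT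
  letI : Algebra ((L ⊗[K] K₁) ⧸ RingHom.ker φT) M₃ := jA.toRingHom.toAlgebra
  let f₁ : K₁ →+* ((L ⊗[K] K₁) ⧸ RingHom.ker φT) :=
    (Ideal.Quotient.mk _).comp (Algebra.TensorProduct.includeRight (R := K) (A := L)).toRingHom
  have hjf : ∀ k, algebraMap ((L ⊗[K] K₁) ⧸ RingHom.ker φT) M₃ (f₁ k) = algebraMap K₁ M₃ k := fun k => by
    show φT (1 ⊗ₜ k) = _
    simp [φT]
  have hjL : ∀ l, algebraMap ((L ⊗[K] K₁) ⧸ RingHom.ker φT) M₃ (algebraMap L _ l) = algebraMap L M₃ l :=
    fun l => jA.commutes l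
  obtain ⟨M₂, _, _, d, bas, hd, hbas⟩ := exists_root_basis hp ((L ⊗[K] K₁) ⧸ RingHom.ker φT) (f₁ a) fun x hx => by
    obtain ⟨x, rfl⟩ := Ideal.Quotient.mk_surjective x
    rw [← map_pow] at hx
    exact not_pow_mem_of_reduced hp K L K₁ K₂ a d₀ ha.symm f hf1 hfd (RingHom.ker φT) x (Ideal.Quotient.eq.mp hx)
  letI : Algebra L M₂ := ((algebraMap ((L ⊗[K] K₁) ⧸ RingHom.ker φT) M₂).comp (algebraMap L _)).toAlgebra
  haveI : IsScalarTower L ((L ⊗[K] K₁) ⧸ RingHom.ker φT) M₂ := .of_algebraMap_eq' rfl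
  letI : Algebra K₁ M₂ := ((algebraMap ((L ⊗[K] K₁) ⧸ RingHom.ker φT) M₂).comp f₁).toAlgebra
  haveI : CharP M₂ p := charP_of_injective_algebraMap (algebraMap L M₂).injective p
  -- `K₂ → M₂`
  obtain ⟨i₂, hi₂⟩ : ∃ i₂ : K₂ →ₐ[K₁] M₂, i₂ d₀ = d := by
    have hgen₂ : pb.gen = d₀ := PowerBasis.ofAdjoinEqTop_gen hd₀I htop₂
    have hroot : aeval d (minpoly K₁ pb.gen) = 0 := by
      rw [hgen₂, hmin, map_sub, map_pow, aeval_X, aeval_C, hd]
      exact sub_self _
    exact ⟨pb.lift d hroot, by conv_lhs => rw [← hgen₂]; exact pb.lift_gen d hroot⟩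
  letI : Algebra K₂ M₂ := i₂.toRingHom.toAlgebra
  letI : Algebra K M₂ := ((algebraMap L M₂).comp (algebraMap K L)).toAlgebra
  haveI : IsScalarTower K L M₂ := .of_algebraMap_eq' rfl
  haveI : IsScalarTower K K₂ M₂ := .of_algebraMap_eq fun k => by
    show algebraMap L M₂ (algebraMap K L k) = i₂ (algebraMap K K₂ k)
    rw [IsScalarTower.algebraMap_apply K K₁ K₂, i₂.commutes]
    show algebraMap ((L ⊗[K] K₁) ⧸ RingHom.ker φT) M₂ (Ideal.Quotient.mk _ (algebraMap L (L ⊗[K] K₁) (algebraMap K L k))) =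
      algebraMap ((L ⊗[K] K₁) ⧸ RingHom.ker φT) M₂ (Ideal.Quotient.mk _ (1 ⊗ₜ algebraMap K K₁ k))
    rw [Algebra.TensorProduct.algebraMap_apply, Algebra.algebraMap_self, RingHom.id_apply,
      Algebra.TensorProduct.tmul_one_eq_one_tmul]
  have hgenM₂ : Algebra.adjoin L (Set.range (algebraMap K₂ M₂)) = ⊤ := by
    rw [eq_top_iff]
    intro z hz0
    clear hz0
    rw [← bas.sum_repr z]
    refine sum_mem fun i _ => ?_
    rw [hbas, Algebra.smul_def]
    refine mul_mem ?_ (pow_mem (Algebra.subset_adjoin (show d ∈ Set.range (algebraMap K₂ M₂) from ⟨d₀, hi₂⟩)) _)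
    obtain ⟨t, ht⟩ := Ideal.Quotient.mk_surjective (bas.repr z i)
    rw [← ht]
    clear ht
    induction t using TensorProduct.induction_on with
    | zero => rw [map_zero, map_zero]; exact zero_mem _
    | tmul l k =>
      have e : l ⊗ₜ[K] k = algebraMap L (L ⊗[K] K₁) l * (1 ⊗ₜ k) := by simp
      rw [e, map_mul, map_mul]
      refine mul_mem (Subalgebra.algebraMap_mem _ l) (Algebra.subset_adjoin ⟨algebraMap K₁ K₂ k, ?_⟩)
      exact i₂.commutes k
    | add s t hs ht => rw [map_add, map_add]; exact add_mem hs ht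
  -- the comparison maps
  set ym : M₃ := algebraMap K₃ M₃ y with hym
  have hyp : ym ^ p = algebraMap K₁ M₃ g * ym + algebraMap K₁ M₃ a := by
    have h1 := congrArg (algebraMap K₃ M₃) hy
    simp only [hF, map_sub, map_add, map_mul, map_pow, aeval_X, aeval_C, map_zero, sub_eq_zero,
      ← IsScalarTower.algebraMap_apply] at h1
    exact h1
  let φ : M₂ →ₗ[(L ⊗[K] K₁) ⧸ RingHom.ker φT] M₃ :=
    bas.constr ((L ⊗[K] K₁) ⧸ RingHom.ker φT) fun i => ym ^ (i : ℕ)
  have hφsum : ∀ l : Fin p → ((L ⊗[K] K₁) ⧸ RingHom.ker φT),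
      φ (∑ i, algebraMap _ M₂ (l i) * d ^ (i : ℕ)) = ∑ i, algebraMap _ M₃ (l i) * ym ^ (i : ℕ) := by
    intro l
    rw [map_sum]
    refine Finset.sum_congr rfl fun i _ => ?_
    rw [← Algebra.smul_def, map_smul, ← hbas, Module.Basis.constr_basis, Algebra.smul_def]
  have hrep : ∀ z : M₂, ∃ l : Fin p → ((L ⊗[K] K₁) ⧸ RingHom.ker φT), z = ∑ i, algebraMap _ M₂ (l i) * d ^ (i : ℕ) :=
    fun z => ⟨fun i => bas.repr z i, by
      conv_lhs => rw [← bas.sum_repr z]
      exact Finset.sum_congr rfl fun i _ => by rw [Algebra.smul_def, hbas]⟩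
  have hφsurj : Function.Surjective φ := by
    intro w
    have hw : w ∈ Algebra.adjoin ((L ⊗[K] K₁) ⧸ RingHom.ker φT) ({ym} : Set M₃) := by
      have hw0 : w ∈ Algebra.adjoin L (Set.range (algebraMap K₃ M₃)) := hgen ▸ Algebra.mem_top
      induction hw0 using Algebra.adjoin_induction with
      | mem w hw =>
        obtain ⟨w, rfl⟩ := hw
        have h1 : w ∈ Algebra.adjoin K₁ ({y} : Set K₃) := htop₃ ▸ Algebra.mem_top
        induction h1 using Algebra.adjoin_induction with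
        | mem w hw => rw [Set.mem_singleton_iff] at hw; subst hw; exact Algebra.subset_adjoin rfl
        | algebraMap k =>
          rw [← IsScalarTower.algebraMap_apply K₁ K₃ M₃, ← hjf k]
          exact Subalgebra.algebraMap_mem _ _
        | add s t _ _ hs ht => rw [map_add]; exact add_mem hs ht
        | mul s t _ _ hs ht => rw [map_mul]; exact mul_mem hs ht
      | algebraMap l => rw [← hjL l]; exact Subalgebra.algebraMap_mem _ _
      | add s t _ _ hs ht => exact add_mem hs ht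
      | mul s t _ _ hs ht => exact mul_mem hs ht
    obtain ⟨l, hl⟩ := exists_sum_pow (p := p) (X ^ p - (C (f₁ g) * X + C (f₁ a)))
      (monic_X_pow_sub (lt_of_le_of_lt degree_linear_le (by exact_mod_cast hp.one_lt)))
      (by
        apply natDegree_eq_of_degree_eq_some
        rw [degree_sub_eq_left_of_degree_lt, degree_X_pow]
        rw [degree_X_pow]
        exact lt_of_le_of_lt degree_linear_le (by exact_mod_cast hp.one_lt))
      hp.ne_zero ym (by
        simp only [map_sub, map_add, map_mul, map_pow, aeval_X, aeval_C, hjf, hyp, sub_self]) hw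
    exact ⟨_, (hφsum l).trans hl.symm⟩
  obtain ⟨N, hN⟩ := exists_frobenius_hom hp (M₁ := (L ⊗[K] K₁) ⧸ RingHom.ker φT) (M₂ := M₂) fun z => by
    obtain ⟨l, rfl⟩ := hrep z
    refine ⟨∑ i, l i ^ p * f₁ a ^ (i : ℕ), ?_⟩
    rw [sum_pow_char p, map_sum]
    refine Finset.sum_congr rfl fun i _ => ?_
    rw [map_mul, map_pow, map_pow, mul_pow, ← pow_mul, mul_comm (i : ℕ) p, pow_mul, hd]
  let ψ : M₂ →+* M₃ := (algebraMap ((L ⊗[K] K₁) ⧸ RingHom.ker φT) M₃).comp N
  have hψB : ∀ b : B, ψ (algebraMap L M₂ (algebraMap B L b)) = algebraMap L M₃ (algebraMap B L b) ^ p := by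
    intro b
    have h1 : N (algebraMap L M₂ (algebraMap B L b)) = algebraMap L _ (algebraMap B L b) ^ p := by
      apply (algebraMap ((L ⊗[K] K₁) ⧸ RingHom.ker φT) M₂).injective
      rw [hN, map_pow]
      rfl
    show algebraMap _ M₃ (N _) = _
    rw [h1, map_pow, hjL]
  have hWB : ∀ b : B, W.valuation (algebraMap L M₃ (algebraMap B L b)) ≤ 1 := fun b =>
    (W.valuation_le_one_iff _).mpr (hW.1 b)
  have hVdom : EtRam.Dominates B ((algebraMap L M₂).comp (algebraMap B L)) (W.comap ψ) := by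
    refine ⟨fun b => ?_, fun b hb => valuation_comap_lt_one ψ W ?_⟩
    · show ψ (algebraMap L M₂ (algebraMap B L b)) ∈ W
      rw [← W.valuation_le_one_iff, hψB, map_pow]
      exact pow_le_one₀ zero_le' (hWB b)
    · show W.valuation (ψ (algebraMap L M₂ (algebraMap B L b))) < 1
      rw [hψB, map_pow]
      exact pow_lt_one₀ zero_le' (hW.2 b hb) hp.ne_zero
  obtain ⟨hwu, hgr⟩ := hsol M₂ hgenM₂ (W.comap ψ) hVdom
  -- valuations
  letI : Algebra A M₃ := ((algebraMap L M₃).comp (algebraMap A L)).toAlgebra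
  have hAM : ∀ r : A, algebraMap K₁ M₃ (algebraMap A K₁ r) = algebraMap L M₃ (algebraMap B L (algebraMap A B r)) := fun r => by
    rw [← IsScalarTower.algebraMap_apply A B L, IsScalarTower.algebraMap_apply A K L,
      ← IsScalarTower.algebraMap_apply K L M₃, IsScalarTower.algebraMap_apply A K K₁,
      ← IsScalarTower.algebraMap_apply K K₁ M₃]
  have hva : W.valuation (algebraMap K₁ M₃ a) ≤ 1 := by
    rw [W.valuation_le_one_iff]
    let jK : K₁ →ₐ[A] M₃ :=
      { algebraMap K₁ M₃ with commutes' := fun r => (hAM r).trans (by rw [← IsScalarTower.algebraMap_apply A B L]; rfl) }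
    refine mem_of_isIntegral W (fun r => ?_) (haint.map jK)
    show algebraMap L M₃ (algebraMap A L r) ∈ W
    rw [IsScalarTower.algebraMap_apply A B L]
    exact hW.1 _
  have hρ : algebraMap A B ϖA ∈ IsLocalRing.maximalIdeal B := fun hu =>
    hϖA.not_isUnit (IsUnit.of_map (algebraMap A B) ϖA hu)
  have hvπ : W.valuation (algebraMap L M₃ (algebraMap B L π)) < 1 :=
    hW.2 π (hπ.maximalIdeal_eq ▸ Ideal.mem_span_singleton_self π)
  have hvπ0 : 0 < W.valuation (algebraMap L M₃ (algebraMap B L π)) := by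
    refine zero_lt_iff.mpr ((Valuation.ne_zero_iff _).mpr ((_root_.map_ne_zero _).mpr ?_))
    exact (_root_.map_ne_zero_iff _ (IsFractionRing.injective B L)).mpr hπ.ne_zero
  have hvg : W.valuation (algebraMap K₁ M₃ g) <
      W.valuation (algebraMap L M₃ (algebraMap B L (γ P * π))) ^ p := by
    obtain ⟨w, hw⟩ : π ∣ algebraMap A B ϖA := Ideal.mem_span_singleton.mp (hπ.maximalIdeal_eq ▸ hρ)
    obtain ⟨δ, hδ⟩ : γ P ∣ Γ := Finset.dvd_prod_of_mem γ (Finset.mem_univ P)
    calc W.valuation (algebraMap K₁ M₃ g) ≤ W.valuation (algebraMap L M₃ (algebraMap B L π)) ^ m := by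
          rw [hg, hAM, map_pow, hw, mul_pow, map_mul, map_mul, map_mul, map_pow, map_pow, map_pow]
          exact mul_le_of_le_one_right' (hWB _)
      _ < W.valuation (algebraMap L M₃ (algebraMap B L π)) ^ ((oΓ + 1) * p) :=
          pow_lt_pow_right_of_lt_one₀ hvπ0 hvπ (Nat.lt_succ_self _)
      _ = W.valuation (algebraMap L M₃ (algebraMap B L (π ^ (oΓ + 1)))) ^ p := by
          rw [map_pow, map_pow, map_pow, ← pow_mul]
      _ ≤ W.valuation (algebraMap L M₃ (algebraMap B L (γ P * π))) ^ p := by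
          refine pow_le_pow_left₀ zero_le' ?_ p
          have e : π ^ (oΓ + 1) = γ P * π * (δ * ↑uΓ⁻¹) := by
            rw [show γ P * π * (δ * ↑uΓ⁻¹) = (γ P * δ) * ↑uΓ⁻¹ * π by ring, ← hδ, hoΓ]
            rw [show (↑uΓ * π ^ oΓ) * ↑uΓ⁻¹ * π = (↑uΓ * ↑uΓ⁻¹) * π ^ (oΓ + 1) by ring, Units.mul_inv, one_mul]
          rw [e, map_mul (algebraMap B L) (γ P * π), map_mul (algebraMap L M₃), map_mul W.valuation]
          exact mul_le_of_le_one_right' (hWB _)
  have hvg1 : W.valuation (algebraMap K₁ M₃ g) < 1 := hvg.trans_le (pow_le_one₀ zero_le' (hWB _))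
  have hvy : W.valuation ym ≤ 1 := by
    by_contra hgt
    push Not at hgt
    have h1 : W.valuation (ym ^ p) ≤ W.valuation ym := by
      rw [hyp]
      refine W.valuation.map_add_le ?_ (hva.trans hgt.le)
      rw [map_mul]; exact mul_le_of_le_one_left' hvg1.le
    rw [map_pow] at h1
    exact absurd h1 (not_le.mpr (lt_self_pow₀ hgt hp.one_lt))
  have hdomj : EtRam.Dominates B ((algebraMap ((L ⊗[K] K₁) ⧸ RingHom.ker φT) M₃).comp
      (algebraMap B ((L ⊗[K] K₁) ⧸ RingHom.ker φT))) W := by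
    have e : ∀ b, algebraMap ((L ⊗[K] K₁) ⧸ RingHom.ker φT) M₃ (algebraMap B _ b) =
        algebraMap L M₃ (algebraMap B L b) := fun b => by rw [IsScalarTower.algebraMap_apply B L ((L ⊗[K] K₁) ⧸ RingHom.ker φT), hjL]
    exact ⟨fun b => by rw [RingHom.comp_apply, e]; exact hW.1 b,
      fun b hb => by rw [RingHom.comp_apply, e]; exact hW.2 b hb⟩
  have hclose : ∀ z, z ≠ 0 → W.valuation (φ z ^ p - ψ z) < W.valuation (ψ z) := by
    intro z hz
    have hψz : W.valuation (ψ z) ≠ 0 := (Valuation.ne_zero_iff _).mpr ((_root_.map_ne_zero _).mpr hz)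
    obtain ⟨l, rfl⟩ := hrep z
    have hNz : N (∑ i, algebraMap _ M₂ (l i) * d ^ (i : ℕ)) = ∑ i, l i ^ p * f₁ a ^ (i : ℕ) := by
      apply (algebraMap ((L ⊗[K] K₁) ⧸ RingHom.ker φT) M₂).injective
      rw [hN, sum_pow_char p, map_sum]
      refine Finset.sum_congr rfl fun i _ => ?_
      rw [map_mul, map_pow, map_pow, mul_pow, ← pow_mul, mul_comm (i : ℕ) p, pow_mul, hd]
    have hψe : ψ (∑ i, algebraMap _ M₂ (l i) * d ^ (i : ℕ)) =
        ∑ i, algebraMap _ M₃ (l i) ^ p * algebraMap K₁ M₃ a ^ (i : ℕ) := by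
      show algebraMap _ M₃ (N _) = _
      rw [hNz, map_sum]
      refine Finset.sum_congr rfl fun i _ => ?_
      rw [map_mul, map_pow, map_pow, hjf]
    have hb := hγ P M₃ (algebraMap ((L ⊗[K] K₁) ⧸ RingHom.ker φT) M₃) W hdomj l
    have e1 : φ (∑ i, algebraMap _ M₂ (l i) * d ^ (i : ℕ)) ^ p - ψ (∑ i, algebraMap _ M₂ (l i) * d ^ (i : ℕ)) =
        ∑ i, algebraMap _ M₃ (l i) ^ p * ((ym ^ p) ^ (i : ℕ) - algebraMap K₁ M₃ a ^ (i : ℕ)) := by
      rw [hφsum, sum_pow_char p, hψe, ← Finset.sum_sub_distrib]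
      refine Finset.sum_congr rfl fun i _ => ?_
      rw [mul_pow, ← pow_mul, mul_comm (i : ℕ) p, pow_mul, mul_sub]
    rw [e1]
    refine Valuation.map_sum_lt _ hψz fun i _ => ?_
    rw [map_mul, map_pow]
    have hyi : W.valuation ((ym ^ p) ^ (i : ℕ) - algebraMap K₁ M₃ a ^ (i : ℕ)) ≤ W.valuation (algebraMap K₁ M₃ g) := by
      refine (valuation_pow_sub_pow_le W (by rw [map_pow]; exact pow_le_one₀ zero_le' hvy) hva _).trans ?_
      rw [hyp, add_sub_cancel_right, map_mul]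
      exact mul_le_of_le_one_right' hvy
    rcases eq_or_ne (W.valuation (algebraMap _ M₃ (l i))) 0 with h0 | h0
    · rw [h0, zero_pow hp.ne_zero, zero_mul]; exact zero_lt_iff.mpr hψz
    refine lt_of_lt_of_le (mul_lt_mul_of_pos_left (hyi.trans_lt hvg) (pow_pos (zero_lt_iff.mpr h0) p)) ?_
    have h3 := hb i
    rw [show algebraMap ((L ⊗[K] K₁) ⧸ RingHom.ker φT) M₃ (algebraMap B _ (γ P * π)) =
      algebraMap L M₃ (algebraMap B L (γ P * π)) by rw [IsScalarTower.algebraMap_apply B L ((L ⊗[K] K₁) ⧸ RingHom.ker φT), hjL]] at h3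
    rw [mul_comm]
    refine h3.trans_eq ?_
    congr 1
    show algebraMap _ M₃ _ = algebraMap _ M₃ (N _)
    rw [hNz]
    rfl
  have hφK : ∀ c : Fin p → K₁, φ (i₂ (∑ i, algebraMap K₁ K₂ (c i) * d₀ ^ (i : ℕ))) =
      algebraMap K₃ M₃ (∑ i, algebraMap K₁ K₃ (c i) * y ^ (i : ℕ)) := by
    intro c
    have e : i₂ (∑ i, algebraMap K₁ K₂ (c i) * d₀ ^ (i : ℕ)) =
        ∑ i, algebraMap ((L ⊗[K] K₁) ⧸ RingHom.ker φT) M₂ (f₁ (c i)) * d ^ (i : ℕ) := by
      simp only [map_sum, map_mul, map_pow, i₂.commutes, hi₂]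
      rfl
    rw [e, hφsum, map_sum]
    simp only [map_mul, map_pow, hjf]
    rfl
  refine transfer_solution hp ψ φ.toAddMonoidHom hφsurj W hclose i₂.toRingHom (algebraMap K₃ M₃) ?_ ?_ hwu hgr
  · intro x
    obtain ⟨c, rfl⟩ := hrep₂ x
    exact ⟨_, hφK c⟩
  · intro x
    obtain ⟨c, rfl⟩ := exists_sum_pow F hFm hFn hp.ne_zero y hy (htop₃ ▸ Algebra.mem_top (x := x))
    exact ⟨_, hφK c⟩


end Groth.Agent.S7151
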