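import Groth.Statements.S1986
import Groth.Agent.S7151
import Groth.Agent.Lib.GeomRed2.Basic
import Mathlib.FieldTheory.PurelyInseparable.Tower

set_option autoImplicit false
universe u
open EtAlg

namespace Groth.Agent.S1986

/-- Let A -> B be an extension of discrete valuation rings with separable extension of fraction fields
L/K and B a Nagata ring. If some finite extension of K is a solution for A -> B, then some finite
separable extension of K is a solution as well. -/
theorem result (A B K L : Type u) [CommRing A] [IsDomain A] [IsDiscreteValuationRing A]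
    [CommRing B] [IsDomain B] [IsDiscreteValuationRing B] [Algebra A B] [IsLocalHom (algebraMap A B)]
    (hinj : Function.Injective (algebraMap A B))
    [Field K] [Field L] [Algebra A K] [IsFractionRing A K] [Algebra B L] [IsFractionRing B L]
    [Algebra K L] [Algebra A L] [IsScalarTower A K L] [IsScalarTower A B L] [Algebra.IsSeparable K L] (hB : CAlg.IsNagata B)
    (K₂ : Type u) [Field K₂] [Algebra K K₂] [FiniteDimensional K K₂] (h₂ : EtRam.IsSolution B K L K₂) :
    ∃ (K₃ : Type u) (_ : Field K₃) (_ : Algebra K K₃) (_ : FiniteDimensional K K₃) (_ : Algebra.IsSeparable K K₃),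
      EtRam.IsSolution B K L K₃ := by
  classical
  haveI : Algebra.IsGeometricallyReduced K L := GrothLib.GeomRed2.isGeometricallyReduced_of_isSeparable
  suffices key : ∀ (n : ℕ) (K₂ : Type u) [Field K₂] [Algebra K K₂] [FiniteDimensional K K₂],
      Field.finInsepDegree K K₂ = n → EtRam.IsSolution B K L K₂ →
      ∃ (K₃ : Type u) (_ : Field K₃) (_ : Algebra K K₃) (_ : FiniteDimensional K K₃) (_ : Algebra.IsSeparable K K₃),
        EtRam.IsSolution B K L K₃ from key _ K₂ rfl h₂
  intro n
  induction n using Nat.strong_induction_on with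
  | _ n ih =>
    intro K₂ _ _ _ hn hsol
    by_cases hsep : Algebra.IsSeparable K K₂
    · exact ⟨K₂, inferInstance, inferInstance, inferInstance, hsep, hsol⟩
    -- characteristic
    obtain ⟨p, hp⟩ := ExpChar.exists K
    haveI := hp
    obtain ⟨hpp, hchar⟩ : p.Prime ∧ CharP K p := by
      rcases hp with _ | ⟨hprime, _⟩
      · exfalso
        haveI : PerfectField K := inferInstance
        exact hsep inferInstance
      · exact ⟨hprime, inferInstance⟩
    haveI := hchar
    haveI := Fact.mk hpp
    haveI : CharP K₂ p := charP_of_injective_algebraMap (algebraMap K K₂).injective p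
    haveI : ExpChar K₂ p := ExpChar.prime hpp
    set S := separableClosure K K₂ with hS
    have hSne : S ≠ ⊤ := fun h => hsep ((separableClosure.eq_top_iff K K₂).mp h)
    have hex : ∃ m : ℕ, ∃ E : IntermediateField K K₂, S ≤ E ∧ E ≠ ⊤ ∧ Module.finrank E K₂ = m := ⟨_, S, le_rfl, hSne, rfl⟩
    obtain ⟨E, hSE, hEne, hEm⟩ := Nat.find_spec hex
    have hpow : ∀ x : K₂, ∃ j : ℕ, x ^ p ^ j ∈ E := by
      intro x
      haveI : ExpChar S p := expChar_of_injective_algebraMap (algebraMap K S).injective p
      obtain ⟨j, s, hs⟩ := (isPurelyInseparable_iff_pow_mem S p).mp inferInstance x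
      exact ⟨j, hs ▸ hSE s.2⟩
    haveI : ExpChar E p := expChar_of_injective_algebraMap (algebraMap K E).injective p
    haveI : IsPurelyInseparable E K₂ := (isPurelyInseparable_iff_pow_mem E p).mpr fun x => by
      obtain ⟨j, hj⟩ := hpow x
      exact ⟨j, ⟨_, hj⟩, rfl⟩
    obtain ⟨y, hy, hyp⟩ : ∃ y : K₂, y ∉ E ∧ y ^ p ∈ E := by
      obtain ⟨x, hx⟩ : ∃ x : K₂, x ∉ E := by
        by_contra hcon
        push Not at hcon
        exact hEne (eq_top_iff.mpr fun x _ => hcon x)
      obtain ⟨j, hj⟩ := hpow x
      induction j with
      | zero => exact absurd (by simpa using hj) hx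
      | succ j ihj =>
        by_cases h : x ^ p ^ j ∈ E
        · exact ihj h
        · exact ⟨_, h, by rwa [← pow_mul, ← pow_succ]⟩
    have hdeg : Module.finrank E K₂ = p := by
      have hyI : IsIntegral E y := IsIntegral.of_finite E y
      have hroot : Polynomial.aeval y (Polynomial.X ^ p - Polynomial.C (⟨_, hyp⟩ : E)) = 0 := by simp
      have hirr : Irreducible (Polynomial.X ^ p - Polynomial.C (⟨_, hyp⟩ : E)) :=
        X_pow_sub_C_irreducible_of_prime hpp fun x hx => hy (by
          have : (x : K₂) = y := frobenius_inj K₂ p (by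
            haveI : CharP K₂ p := charP_of_injective_algebraMap (algebraMap K K₂).injective p
            show (x : K₂) ^ p = y ^ p
            exact congrArg Subtype.val hx)
          exact this ▸ x.2) 
      have hfy : Module.finrank E (IntermediateField.adjoin E {y}) = p := by
        rw [IntermediateField.adjoin.finrank hyI,
          ← minpoly.eq_of_irreducible_of_monic hirr hroot (Polynomial.monic_X_pow_sub_C _ hpp.ne_zero),
          Polynomial.natDegree_X_pow_sub_C]
      by_contra hne
      set E' : IntermediateField K K₂ := (IntermediateField.adjoin E {y}).restrictScalars K with hE'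
      have h1 : IntermediateField.adjoin E {y} ≠ ⊤ := fun h => hne (by
        rw [← IntermediateField.finrank_top', ← h, hfy])
      have hEE' : E ≤ E' := fun x hx => (IntermediateField.adjoin E {y}).algebraMap_mem ⟨x, hx⟩
      have h2 := Nat.find_min' hex (m := Module.finrank E' K₂) ⟨E', hSE.trans hEE',
        fun h => h1 (IntermediateField.restrictScalars_eq_top_iff.mp h), rfl⟩
      rw [← hEm] at h2
      have h3 : Module.finrank E (IntermediateField.adjoin E {y}) * Module.finrank (IntermediateField.adjoin E {y}) K₂ =
          Module.finrank E K₂ := Module.finrank_mul_finrank _ _ _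
      have h4 : Module.finrank E' K₂ = Module.finrank (IntermediateField.adjoin E {y}) K₂ := rfl
      have h5 : 0 < Module.finrank E K₂ := Module.finrank_pos
      rw [hfy] at h3
      rw [h4] at h2
      have := hpp.one_lt
      nlinarith
    obtain ⟨K₃, _, _, _, _, hfd, hsep₃, hsol₃⟩ :=
      Groth.Agent.S7151.result p hpp A B K L hinj hB E K₂ hsol hdeg
    haveI := hfd
    haveI := hsep₃
    haveI : FiniteDimensional K K₃ := FiniteDimensional.trans K E K₃
    refine ih (Field.finInsepDegree K K₃) ?_ K₃ rfl hsol₃
    rw [← hn, ← Field.finInsepDegree_mul_finInsepDegree_of_isAlgebraic K E K₃,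
      ← Field.finInsepDegree_mul_finInsepDegree_of_isAlgebraic K E K₂,
      Algebra.IsSeparable.finInsepDegree_eq E K₃, IsPurelyInseparable.finInsepDegree_eq E K₂, hdeg, mul_one]
    exact lt_mul_of_one_lt_right (Nat.pos_of_ne_zero (NeZero.ne _)) hpp.one_lt


end Groth.Agent.S1986
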