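import Groth.Statements.S19863
import Groth.Agent.Lib.NormalHom.OnePlus

set_option autoImplicit false
universe u
open EGA4 TensorProduct

namespace Groth.Agent.S19863

/-- Let A be a Noetherian ring, J a proper ideal of A, Â the J-adic completion and A_T the localization
of A at T = 1 + J. If the canonical map A → Â is a regular homomorphism (flat, with Noetherian
geometrically regular fibres), then A_T is a regular ring if and only if Â is a regular ring
(Noetherian, with regular local rings at all primes). (The cases of the henselization of the pair
and of the weak completion are not stated here.) -/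
theorem result
    (A : Type u) [CommRing A] [IsNoetherianRing A] (J : Ideal A) (hJ : J ≠ ⊤)
    (hf : CAlg.IsRegularHom A (AdicCompletion J A))
    (T : Submonoid A) (hT : T = MonoidHom.mker (Ideal.Quotient.mk J)) :
    IsRegularRing (Localization T) ↔ IsRegularRing (AdicCompletion J A) := by
  obtain ⟨φ, hφ, hff⟩ := GrothLib.NormalHom.exists_algebra_onePlus T hT
  letI := φ.toAlgebra
  haveI := hff
  haveI : IsScalarTower A (Localization T) (AdicCompletion J A) := IsScalarTower.of_algebraMap_eq' hφ.symm
  haveI : IsNoetherianRing (AdicCompletion J A) :=
    GrothLib.AdicExtra.isNoetherianRing_adicCompletion_of_fg J (IsNoetherian.noetherian J)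
  haveI : IsNoetherianRing (Localization T) := IsLocalization.isNoetherianRing T _ inferInstance
  refine ⟨fun h => ?_, fun h => GrothLib.Serre.isRegularRing_of_faithfullyFlat (Localization T) (AdicCompletion J A)⟩
  refine GrothLib.Serre.isRegularRing_of_flat_of_fibres (Localization T) (AdicCompletion J A) fun P _ => ?_
  haveI : Algebra.EssFiniteType A P.ResidueField := Algebra.EssFiniteType.comp A (Localization T) _
  haveI := GrothLib.GeomReg.isRegularRing_field_tensor hf P.ResidueField
  haveI := IsLocalization.tensorProduct_compatibleSMul T (Localization T) P.ResidueField (AdicCompletion J A)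
  exact IsRegularRing.of_ringEquiv (R := P.ResidueField ⊗[A] AdicCompletion J A)
    (Algebra.TensorProduct.equivOfCompatibleSMul (Localization T) A A P.ResidueField (AdicCompletion J A)).toRingEquiv

end Groth.Agent.S19863
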