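import Groth.Statements.S19866
import Groth.Agent.Lib.FibCat.Strict


set_option autoImplicit false
set_option backward.isDefEq.respectTransparency false
set_option backward.isDefEq.respectTransparency.types false
universe v₁ v₂ u₁ u₂
open CategoryTheory
open FibCat

namespace Groth.Agent.S19866

open CategoryTheory.Functor CategoryTheory.Pseudofunctor

theorem isCartesian_transport {𝒮 : Type u₁} [Category.{v₁} 𝒮] {𝒳 : Type u₂} [Category.{v₂} 𝒳]
    {G : Type*} [Category G] (q : G ⥤ 𝒮) (Φ : 𝒳 ⥤ G) (Ψ : G ⥤ 𝒳) (h₁ : Φ ⋙ Ψ = 𝟭 𝒳) (h₂ : Ψ ⋙ Φ = 𝟭 G)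
    {R S : 𝒮} (f : R ⟶ S) {b : G} {a : 𝒳} (m : b ⟶ Φ.obj a) [q.IsCartesian f m] :
    (Φ ⋙ q).IsCartesian f (Ψ.map m ≫ eqToHom (Functor.congr_obj h₁ a)) := by
  let e : 𝒳 ≌ G := CategoryTheory.Equivalence.mk Φ Ψ (eqToIso h₁.symm) (eqToIso h₂)
  have : Φ.Full := inferInstanceAs e.functor.Full
  have : Φ.Faithful := inferInstanceAs e.functor.Faithful
  have hl : ∀ {x y : 𝒳} (t : x ⟶ y) {R' S' : 𝒮} (g : R' ⟶ S'),
      q.IsHomLift g (Φ.map t) ↔ (Φ ⋙ q).IsHomLift g t := fun {x y} t {R' S'} g =>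
    ⟨fun _ => IsHomLift.of_fac' (Φ ⋙ q) g t (IsHomLift.domain_eq q g (Φ.map t))
        (IsHomLift.codomain_eq q g (Φ.map t)) (IsHomLift.fac' q g (Φ.map t)),
      fun _ => IsHomLift.of_fac' q g (Φ.map t) (IsHomLift.domain_eq (Φ ⋙ q) g t)
        (IsHomLift.codomain_eq (Φ ⋙ q) g t) (IsHomLift.fac' (Φ ⋙ q) g t)⟩
  have hb : Φ.obj (Ψ.obj b) = b := Functor.congr_obj h₂ b
  let φ : Ψ.obj b ⟶ a := Ψ.map m ≫ eqToHom (Functor.congr_obj h₁ a)
  have hφ : Φ.map φ = eqToHom hb ≫ m := by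
    have := Functor.congr_hom h₂ m
    simp only [Functor.comp_map, Functor.id_map] at this
    simp [φ, this, eqToHom_map]
  change (Φ ⋙ q).IsCartesian f φ
  have : q.IsHomLift f (Φ.map φ) := by rw [hφ]; infer_instance
  have : (Φ ⋙ q).IsHomLift f φ := (hl φ f).1 inferInstance
  refine { universal_property := fun {z} t ht => ?_ }
  have := (hl t f).2 ht
  obtain ⟨χ, hχ⟩ := Φ.map_surjective (IsCartesian.map q f m (Φ.map t) ≫ eqToHom hb.symm)
  refine ⟨χ, ⟨(hl χ _).1 ?_, Φ.map_injective ?_⟩, fun χ' h' => Φ.map_injective ?_⟩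
  · rw [hχ]; infer_instance
  · rw [Functor.map_comp, hχ, hφ]; simp
  · have := (hl χ' _).2 h'.1
    have e2 := congrArg Φ.map h'.2
    rw [Functor.map_comp, hφ, ← Category.assoc] at e2
    have := IsCartesian.map_uniq q f m (Φ.map t) (Φ.map χ' ≫ eqToHom hb) e2
    rw [hχ, ← this]
    simp

/-- Let p : 𝒳 → 𝒮 be a functor, F : 𝒮ᵒᵖ → Cat a strict functor, and suppose 𝒳 is isomorphic over 𝒮 to
the category of pairs (U, x), x an object of F(U), built from F: there are functors Φ : 𝒳 → ∫F and Ψ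
: ∫F → 𝒳 inverse to each other on the nose with Φ followed by the projection equal to p. Then 𝒳 has
a cleavage over 𝒮 which is a splitting: the chosen transport morphism over each identity is the
identity, and the chosen transport morphism of g at f^* a followed by that of f at a is the chosen
transport morphism of g ≫ f at a. In particular the inverse-image functors of that cleavage satisfy
(fg)^* = g^* f^* on the nose, which is the published conclusion; no fibredness hypothesis is needed,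
𝒳 being fibred as a consequence. -/
theorem result {𝒮 : Type u₁} [Category.{v₁} 𝒮] {𝒳 : Type u₂} [Category.{v₂} 𝒳]
    (p : 𝒳 ⥤ 𝒮) (F : 𝒮ᵒᵖ ⥤ Cat.{v₂, u₂})
    (Φ : 𝒳 ⥤ Pseudofunctor.CoGrothendieck F.toPseudofunctor')
    (Ψ : Pseudofunctor.CoGrothendieck F.toPseudofunctor' ⥤ 𝒳)
    (h₁ : Φ ⋙ Ψ = 𝟭 𝒳) (h₂ : Ψ ⋙ Φ = 𝟭 _)
    (h₃ : Φ ⋙ Pseudofunctor.CoGrothendieck.forget F.toPseudofunctor' = p) :
    ∃ K : FibCat.Cleavage p, K.IsSplitting := by
    subst h₃
    let K₀ := Cleavage.ofCoGrothendieck F.toPseudofunctor'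
    let K : Cleavage (Φ ⋙ CoGrothendieck.forget F.toPseudofunctor') :=
      { obj := fun {R S a} ha f => Ψ.obj (K₀.obj (a := Φ.obj a) ha f)
        lift := fun {R S a} ha f => Ψ.map (K₀.lift (a := Φ.obj a) ha f) ≫ eqToHom (Functor.congr_obj h₁ a)
        isCartesian := fun {R S a} ha f => isCartesian_transport _ Φ Ψ h₁ h₂ f (K₀.lift (a := Φ.obj a) ha f) }
    obtain ⟨hn, hs⟩ := GrothLib.FibCat.Strict.isSplitting_ofCoGrothendieck (F := F)
    refine ⟨K, fun S a ha => ?_, fun S T U f g a ha => ?_⟩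
    · obtain ⟨h, e⟩ := hn (a := Φ.obj a) ha
      refine ⟨(congrArg Ψ.obj h).trans (Functor.congr_obj h₁ a), ?_⟩
      change Ψ.map (K₀.lift (a := Φ.obj a) ha (𝟙 S)) ≫ _ = _
      rw [e]
      simp [eqToHom_map]
    · obtain ⟨h, e⟩ := hs f g (a := Φ.obj a) ha
      let b := K₀.obj (a := Φ.obj a) ha f
      have hb : Φ.obj (Ψ.obj b) = b := Functor.congr_obj h₂ b
      have hb' : ∀ (c : CoGrothendieck F.toPseudofunctor') (hc : c = b) (hc' : (CoGrothendieck.forget _).obj c = T),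
          ∃ h' : K₀.obj hc' g = K₀.obj (a := b) (K₀.obj_proj ha f) g,
            K₀.lift hc' g ≫ eqToHom hc = eqToHom h' ≫ K₀.lift (a := b) (K₀.obj_proj ha f) g := by
        rintro c rfl hc'
        exact ⟨rfl, by simp⟩
      obtain ⟨h', e'⟩ := hb' (Φ.obj (Ψ.obj b)) hb (K.obj_proj ha f)
      refine ⟨congrArg Ψ.obj (h'.trans h), ?_⟩
      change (Ψ.map (K₀.lift (a := Φ.obj (Ψ.obj b)) _ g) ≫ eqToHom (Functor.congr_obj h₁ (Ψ.obj b))) ≫
        Ψ.map (K₀.lift (a := Φ.obj a) ha f) ≫ eqToHom (Functor.congr_obj h₁ a) =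
        eqToHom _ ≫ Ψ.map (K₀.lift (a := Φ.obj a) ha (g ≫ f)) ≫ eqToHom (Functor.congr_obj h₁ a)
      have e1 : eqToHom (Functor.congr_obj h₁ (Ψ.obj b)) = Ψ.map (eqToHom hb) := by rw [eqToHom_map]
      erw [e1, ← Functor.map_comp, e', ← Functor.map_comp_assoc, Category.assoc, e]
      simp [eqToHom_map]
      rfl

end Groth.Agent.S19866
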