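import Groth.Statements.S19868
import Groth.Agent.Lib.PLie.DualThree
import Mathlib.Algebra.CharP.Two

set_option autoImplicit false
universe u v
open PLie

namespace Groth.Agent.S19868

open GrothLib.PLie TrivSqZeroExt

open DualNumber in
/-- Let K be a field of prime characteristic p, K[ε] the ring of dual numbers (taken with its
characteristic-p structure) and a, …, i ∈ K. Let L be a Lie algebra over K[ε], free as a module with
basis x = bs 0, y = bs 1, z = bs 2 and brackets [x,y] = aε x + bε y + cε z, [x,z] = dε x + eε y + fε
z, [y,z] = (1 + gε) x + hε y + iε z, a first-order deformation of the Heisenberg algebra (the Jacobi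
identity forces b + f = 0). Then L carries a p-mapping over K[ε] if and only if b = c = e = 0 when p
= 2; for odd p there is no condition. (The published statement is about the singularity of the point
h_3 in the restrictable locus of the rank-one-centre stratum of the moduli scheme of based
three-dimensional Lie algebras over the prime field; this row states the restrictability criterion
for the first-order deformations of h_3 asserted in its proof, over any field of characteristic p in
place of the prime field.) -/
theorem result (K : Type u) [Field K] (p : ℕ) [Fact p.Prime] [CharP K p]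
    [CharP (DualNumber K) p] (a b c d e f g h i : K)
    (L : Type v) [LieRing L] [LieAlgebra (DualNumber K) L] (bs : Module.Basis (Fin 3) (DualNumber K) L)
    (hxy : ⁅bs 0, bs 1⁆ = (a • ε : DualNumber K) • bs 0 + (b • ε : DualNumber K) • bs 1 + (c • ε : DualNumber K) • bs 2)
    (hxz : ⁅bs 0, bs 2⁆ = (d • ε : DualNumber K) • bs 0 + (e • ε : DualNumber K) • bs 1 + (f • ε : DualNumber K) • bs 2)
    (hyz : ⁅bs 1, bs 2⁆ = (1 + g • ε : DualNumber K) • bs 0 + (h • ε : DualNumber K) • bs 1 + (i • ε : DualNumber K) • bs 2) :
    Nonempty (PLie.PMap (DualNumber K) p L) ↔ (p = 2 → b = 0 ∧ c = 0 ∧ e = 0) := by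
  classical
  open GrothLib.PLie TrivSqZeroExt DualNumber in
  have hp := (Fact.out : p.Prime)
  open GrothLib.PLie TrivSqZeroExt DualNumber in
  have hpK : (p : K) = 0 := CharP.cast_eq_zero K p
  have h10 : ⁅bs 1, bs 0⁆ = -((a • ε : DualNumber K) • bs 0 + (b • ε : DualNumber K) • bs 1 + (c • ε : DualNumber K) • bs 2) := by
    rw [← lie_skew, hxy]
  have h20 : ⁅bs 2, bs 0⁆ = -((d • ε : DualNumber K) • bs 0 + (e • ε : DualNumber K) • bs 1 + (f • ε : DualNumber K) • bs 2) := by
    rw [← lie_skew, hxz]
  have h21 : ⁅bs 2, bs 1⁆ = -((1 + g • ε : DualNumber K) • bs 0 + (h • ε : DualNumber K) • bs 1 + (i • ε : DualNumber K) • bs 2) := by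
    rw [← lie_skew, hyz]
  -- the Jacobi identity
  have hjac : b + f = 0 := by
    have hj := lie_jacobi (bs 0) (bs 1) (bs 2)
    rw [hyz, h20, hxy] at hj
    have hj0 := congrArg (fun v => GrothLib.PLie.crd bs v 0) hj
    simp [GrothLib.PLie.crd, lie_add, lie_smul, hxy, hxz, hyz, h10, h20, h21, smul_smul] at hj0
    linear_combination -hj0
  rw [GrothLib.PLie.nonempty_pmap_iff bs]
  constructor
  · intro hw hp2
    subst hp2
    obtain ⟨w, hy'⟩ := hw 1
    obtain ⟨w', hz'⟩ := hw 2
    obtain ⟨A, B, C, rfl⟩ := GrothLib.PLie.expand bs w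
    obtain ⟨A', B', C', rfl⟩ := GrothLib.PLie.expand bs w'
    have key : ∀ (u : L) (j : Fin 3) (v : L), u = v → GrothLib.PLie.crd bs u j = GrothLib.PLie.crd bs v j :=
      fun u j v h => by rw [h]
    have e00 := key _ 0 _ (hy' 0); have e01 := key _ 1 _ (hy' 0)
    have e10 := key _ 0 _ (hy' 1); have e11 := key _ 1 _ (hy' 1)
    have e20 := key _ 0 _ (hy' 2); have e21 := key _ 1 _ (hy' 2)
    have f00 := key _ 0 _ (hz' 0)
    have f10 := key _ 0 _ (hz' 1)
    have f20 := key _ 0 _ (hz' 2)
    simp [GrothLib.PLie.crd, lie_add, add_lie, lie_smul, smul_lie, pow_two, Module.End.mul_apply, hxy, hxz, hyz,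
      h10, h20, h21, smul_smul] at e00 e01 e10 e11 e20 e21 f00 f10 f20
    have h2 : (2 : K) = 0 := by exact_mod_cast hpK
    obtain ⟨hy0, -⟩ := e10
    obtain ⟨hyB, -⟩ := e20
    obtain ⟨hz0, -⟩ := f10
    obtain ⟨hzB, -⟩ := f20
    have hyC : fst C = 0 := by first | exact hy0 | linear_combination hy0 | linear_combination -hy0
    have hyB' : fst B = 0 := by first | exact hyB | linear_combination hyB | linear_combination -hyB
    have hzC : fst C' = 0 := by first | exact hz0 | linear_combination hz0 | linear_combination -hz0
    have hzB' : fst B' = 0 := by first | exact hzB | linear_combination hzB | linear_combination -hzB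
    simp [hyC, hyB', hzC, hzB'] at e00 e01 e11 e21 f00
    have hc : c = 0 := by first | exact e00.symm | linear_combination e00 | linear_combination -e00 | linear_combination e00 + c * h2 | linear_combination -e00 + c * h2
    have he : e = 0 := by first | exact f00.symm | linear_combination f00 | linear_combination -f00 | linear_combination f00 + e * h2 | linear_combination -f00 + e * h2
    subst he
    refine ⟨?_, hc, rfl⟩
    simp at e21
    first | exact e21.symm | exact e21 | linear_combination e21 | linear_combination -e21
  · intro hcond j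
    have hsq : ∀ (u : L), (LieAlgebra.ad (DualNumber K) L (bs 0) ^ 2) u = 0 := by
      refine fun u => LinearMap.congr_fun (bs.ext (f₂ := 0) fun l => GrothLib.PLie.ext_crd bs fun m => ?_) u
      fin_cases l <;> fin_cases m <;>
        simp [GrothLib.PLie.crd, lie_add, lie_smul, pow_two, Module.End.mul_apply, hxy, hxz, hyz, smul_smul]
    rcases eq_or_ne p 2 with hp2 | hp2
    · obtain ⟨rfl, rfl, rfl⟩ := hcond hp2
      subst hp2
      have h2 : (2 : K) = 0 := by exact_mod_cast hpK
      obtain rfl : f = 0 := by linear_combination hjac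
      refine ⟨![0, ((a + i) • ε : DualNumber K) • bs 1, ((d + h) • ε : DualNumber K) • bs 2] j, fun l => ?_⟩
      fin_cases j
      · simp [hsq]
      all_goals
        refine GrothLib.PLie.ext_crd bs fun m => ?_
        fin_cases l <;> fin_cases m <;>
          simp [GrothLib.PLie.crd, lie_add, lie_smul, pow_two, Module.End.mul_apply, hxy, hxz, hyz, h10, h20, h21,
            smul_smul, CharTwo.neg_eq] <;> grind
    · have h4 : ∀ (jj : Fin 3), jj ≠ 0 → ∀ u, (LieAlgebra.ad (DualNumber K) L (bs jj) ^ 4) u = 0 := by
        intro jj hjj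
        refine fun u => LinearMap.congr_fun (bs.ext (f₂ := 0) fun l => GrothLib.PLie.ext_crd bs fun m => ?_) u
        fin_cases jj <;> first
          | exact absurd rfl hjj
          | (fin_cases l <;> fin_cases m <;>
              simp [GrothLib.PLie.crd, lie_add, lie_smul, pow_succ, Module.End.mul_apply, hxy, hxz, hyz, h10, h20,
                h21, smul_smul])
      rcases eq_or_ne p 3 with hp3 | hp3
      · subst hp3
        refine ⟨![0, ((-c) • ε : DualNumber K) • bs 1, (e • ε : DualNumber K) • bs 2] j, fun l => ?_⟩
        fin_cases j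
        · simp [pow_succ' _ 2, hsq]
        all_goals
          refine GrothLib.PLie.ext_crd bs fun m => ?_
          fin_cases l <;> fin_cases m <;>
            simp [GrothLib.PLie.crd, lie_add, lie_smul, pow_succ, Module.End.mul_apply, hxy, hxz, hyz, h10, h20, h21,
              smul_smul] <;> grind
      · refine ⟨0, fun l => ?_⟩
        have hp4 : 4 ≤ p := by have := hp.two_le; omega
        rw [zero_lie]
        symm
        fin_cases j
        · obtain ⟨q, hq⟩ : ∃ q, p = q + 2 := ⟨p - 2, by omega⟩
          rw [hq, pow_add, Module.End.mul_apply]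
          simp [hsq]
        all_goals
          obtain ⟨q, hq⟩ : ∃ q, p = q + 4 := ⟨p - 4, by omega⟩
          rw [hq, pow_add, Module.End.mul_apply, h4 _ (by decide), map_zero]


end Groth.Agent.S19868
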