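import Groth.Statements.S1987
import Mathlib.RingTheory.Polynomial.Eisenstein.Basic
import Mathlib.RingTheory.DiscreteValuationRing.TFAE
import Mathlib.RingTheory.AdjoinRoot
-- import your own Groth.Agent.* helpers here

set_option autoImplicit false
set_option linter.unusedSectionVars false
set_option linter.unusedVariables false
universe u
open Polynomial
open EtAlg

namespace Groth.Agent.S1987

section
open Polynomial IsLocalRing

variable {A : Type u} [CommRing A] [IsDomain A] [IsDiscreteValuationRing A] {π : A} {n : ℕ}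

theorem eisen (hπ : Irreducible π) (hn : 2 ≤ n) : (X ^ n - C π : A[X]).IsEisensteinAt (maximalIdeal A) := by
  have h0 : n ≠ 0 := by omega
  refine ⟨?_, fun {i} hi => ?_, ?_⟩
  · rw [(monic_X_pow_sub_C π h0).leadingCoeff]
    exact (maximalIdeal.isMaximal A).isPrime.one_notMem
  · rw [natDegree_X_pow_sub_C] at hi
    rw [coeff_sub, coeff_X_pow, if_neg hi.ne, coeff_C]
    split
    · rw [zero_sub, hπ.maximalIdeal_eq]
      exact neg_mem (Ideal.mem_span_singleton_self _)
    · simp
  · rw [coeff_sub, coeff_X_pow, if_neg (Ne.symm h0), coeff_C_zero, zero_sub, hπ.maximalIdeal_eq,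
      Ideal.span_singleton_pow, Ideal.mem_span_singleton, dvd_neg]
    intro ⟨c, hc⟩
    refine hπ.not_isUnit (IsUnit.of_mul_eq_one c ?_)
    exact mul_left_cancel₀ hπ.ne_zero (by rw [mul_one]; linear_combination -hc)

theorem irreducible_f (hπ : Irreducible π) (hn : 2 ≤ n) : Irreducible (X ^ n - C π : A[X]) :=
  (eisen hπ hn).irreducible (maximalIdeal.isMaximal A).isPrime
    (monic_X_pow_sub_C π (by omega)).isPrimitive (by rw [natDegree_X_pow_sub_C]; omega)

theorem root_pow (hn : 2 ≤ n) :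
    AdjoinRoot.root (X ^ n - C π : A[X]) ^ n = algebraMap A (AdjoinRoot (X ^ n - C π : A[X])) π := by
  have h := AdjoinRoot.mk_self (f := (X ^ n - C π : A[X]))
  rw [map_sub, map_pow, AdjoinRoot.mk_X, AdjoinRoot.mk_C, sub_eq_zero] at h
  rw [h, AdjoinRoot.algebraMap_eq]

theorem exists_const (r : AdjoinRoot (X ^ n - C π : A[X])) :
    ∃ a : A, r - algebraMap A _ a ∈ Ideal.span {AdjoinRoot.root (X ^ n - C π : A[X])} := by
  induction r using AdjoinRoot.induction_on with
  | ih q =>
    refine ⟨q.coeff 0, ?_⟩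
    have e := congrArg (AdjoinRoot.mk (X ^ n - C π : A[X])) (X_mul_divX_add q)
    rw [map_add, map_mul, AdjoinRoot.mk_X, AdjoinRoot.mk_C] at e
    rw [← e, AdjoinRoot.algebraMap_eq, add_sub_cancel_right]
    exact Ideal.mul_mem_right _ _ (Ideal.mem_span_singleton_self _)

theorem root_mem_maximal (hπ : Irreducible π) (hn : 2 ≤ n)
    (M : Ideal (AdjoinRoot (X ^ n - C π : A[X]))) (hM : M.IsMaximal) :
    AdjoinRoot.root (X ^ n - C π : A[X]) ∈ M := by
  have : Module.Finite A (AdjoinRoot (X ^ n - C π : A[X])) :=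
    (monic_X_pow_sub_C π (by omega : n ≠ 0)).finite_adjoinRoot
  have h1 : algebraMap A (AdjoinRoot (X ^ n - C π : A[X])) π ∈ M := by
    have := eq_maximalIdeal (Ideal.isMaximal_comap_of_isIntegral_of_isMaximal (R := A) M)
    have hmem : π ∈ maximalIdeal A := hπ.not_isUnit
    rwa [← this, Ideal.mem_comap] at hmem
  rw [← root_pow hn] at h1
  exact hM.isPrime.mem_of_pow_mem n h1

theorem span_root_maximal (hπ : Irreducible π) (hn : 2 ≤ n) [Nontrivial (AdjoinRoot (X ^ n - C π : A[X]))] :
    ∀ M : Ideal (AdjoinRoot (X ^ n - C π : A[X])), M.IsMaximal →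
      M = Ideal.span {AdjoinRoot.root (X ^ n - C π : A[X])} := by
  intro M hM
  refine le_antisymm (fun r hr => ?_) (by
    rw [Ideal.span_singleton_le_iff_mem]; exact root_mem_maximal hπ hn M hM)
  obtain ⟨a, ha⟩ := exists_const r
  have hle : Ideal.span {AdjoinRoot.root (X ^ n - C π : A[X])} ≤ M := by
    rw [Ideal.span_singleton_le_iff_mem]; exact root_mem_maximal hπ hn M hM
  have haM : algebraMap A _ a ∈ M := by
    have := sub_mem hr (hle ha); simpa using this
  have haπ : a ∈ maximalIdeal A := by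
    intro hu
    exact hM.ne_top (Ideal.eq_top_of_isUnit_mem _ haM (hu.map _))
  rw [hπ.maximalIdeal_eq, Ideal.mem_span_singleton] at haπ
  obtain ⟨c, rfl⟩ := haπ
  rw [map_mul, ← root_pow hn] at ha
  rw [← sub_add_cancel r (AdjoinRoot.root (X ^ n - C π : A[X]) ^ n * algebraMap A _ c)]
  refine add_mem ha (Ideal.mul_mem_right _ _ (Ideal.pow_mem_of_mem _ (Ideal.mem_span_singleton_self _) n (by omega)))

end

/-- Let A be a discrete valuation ring with uniformizer π and n ≥ 2, and let A' = A[x]/(x^n - π). Then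
x^n - π is irreducible over A, A' is an integrally closed discrete valuation ring (so it is the
integral closure of A in its fraction field K₁ = K(π^{1/n}), of degree n over K), the maximal ideal
of A generates the n-th power of the maximal ideal of A' (ramification index n), and K₁ is totally
ramified with respect to A. -/
theorem result (A : Type u) [CommRing A] [IsDomain A] [IsDiscreteValuationRing A] (π : A)
    (hπ : Irreducible π) (n : ℕ) (hn : 2 ≤ n) :
    Irreducible (X ^ n - C π : A[X]) ∧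
    ∃ (_ : IsDomain (AdjoinRoot (X ^ n - C π : A[X]))) (_ : IsDiscreteValuationRing (AdjoinRoot (X ^ n - C π : A[X]))),
      IsIntegrallyClosed (AdjoinRoot (X ^ n - C π : A[X])) ∧
      (IsLocalRing.maximalIdeal A).map (algebraMap A (AdjoinRoot (X ^ n - C π : A[X]))) = IsLocalRing.maximalIdeal (AdjoinRoot (X ^ n - C π : A[X])) ^ n ∧
      ∀ (K₁ : Type u) [Field K₁] [Algebra (AdjoinRoot (X ^ n - C π : A[X])) K₁] [IsFractionRing (AdjoinRoot (X ^ n - C π : A[X])) K₁],
        EtRam.IsTotallyRamified A ((algebraMap (AdjoinRoot (X ^ n - C π : A[X])) K₁).comp (algebraMap A (AdjoinRoot (X ^ n - C π : A[X])))) := by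
  have hirr := irreducible_f hπ hn
  refine ⟨hirr, ?_⟩
  have hdom : IsDomain (AdjoinRoot (X ^ n - C π : A[X])) := AdjoinRoot.isDomain_of_prime hirr.prime
  have hf := monic_X_pow_sub_C π (by omega : n ≠ 0)
  have : Module.Finite A (AdjoinRoot (X ^ n - C π : A[X])) := hf.finite_adjoinRoot
  have : IsNoetherianRing (AdjoinRoot (X ^ n - C π : A[X])) :=
    Algebra.FiniteType.isNoetherianRing A _
  obtain ⟨M₀, hM₀⟩ := Ideal.exists_maximal (AdjoinRoot (X ^ n - C π : A[X]))
  have hloc : IsLocalRing (AdjoinRoot (X ^ n - C π : A[X])) :=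
    IsLocalRing.of_unique_max_ideal ⟨M₀, hM₀, fun M hM =>
      (span_root_maximal hπ hn M hM).trans (span_root_maximal hπ hn M₀ hM₀).symm⟩
  have hmax := span_root_maximal hπ hn _ (IsLocalRing.maximalIdeal.isMaximal (AdjoinRoot (X ^ n - C π : A[X])))
  have hinj : Function.Injective (algebraMap A (AdjoinRoot (X ^ n - C π : A[X]))) :=
    AdjoinRoot.of.injective_of_degree_ne_zero (by rw [degree_X_pow_sub_C (by omega)]; exact_mod_cast (by omega : n ≠ 0))
  have hroot0 : AdjoinRoot.root (X ^ n - C π : A[X]) ≠ 0 := by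
    intro h0
    have h := root_pow (π := π) hn
    rw [h0, zero_pow (by omega : n ≠ 0)] at h
    exact hπ.ne_zero (hinj (by rw [← h, map_zero]))
  have hnf : ¬ IsField (AdjoinRoot (X ^ n - C π : A[X])) := by
    rw [IsLocalRing.isField_iff_maximalIdeal_eq, hmax, Ideal.span_singleton_eq_bot]
    exact hroot0
  have hdvr : IsDiscreteValuationRing (AdjoinRoot (X ^ n - C π : A[X])) := by
    refine ((IsDiscreteValuationRing.TFAE _ hnf).out 0 4).mpr ?_
    rw [hmax]
    exact ⟨⟨_, rfl⟩⟩
  refine ⟨hdom, hdvr, inferInstance, ?_, ?_⟩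
  · rw [hπ.maximalIdeal_eq, Ideal.map_span, Set.image_singleton, ← root_pow hn, hmax, Ideal.span_singleton_pow]
  intro K₁ _ _ _
  let V0 : ValuationSubring K₁ :=
    { (algebraMap (AdjoinRoot (X ^ n - C π : A[X])) K₁).range with
      mem_or_inv_mem' := fun z => by
        rcases ValuationRing.isInteger_or_isInteger (AdjoinRoot (X ^ n - C π : A[X])) z with ⟨r, hr⟩ | ⟨r, hr⟩
        · exact Or.inl ⟨r, hr⟩
        · exact Or.inr ⟨r, hr⟩ }
  have hV0mem : ∀ z, z ∈ V0 ↔ ∃ r, algebraMap (AdjoinRoot (X ^ n - C π : A[X])) K₁ r = z := fun z => Iff.rfl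
  have hlt0 : V0.valuation (algebraMap _ K₁ (AdjoinRoot.root (X ^ n - C π : A[X]))) < 1 := by
    refine lt_of_le_of_ne ((V0.valuation_le_one_iff _).mpr ⟨_, rfl⟩) fun h1 => ?_
    have h2 : V0.valuation ((algebraMap _ K₁ (AdjoinRoot.root (X ^ n - C π : A[X])))⁻¹) ≤ 1 := by
      rw [map_inv₀, h1, inv_one]
    obtain ⟨r, hr⟩ := (hV0mem _).mp ((V0.valuation_le_one_iff _).mp h2)
    have hne : algebraMap _ K₁ (AdjoinRoot.root (X ^ n - C π : A[X])) ≠ 0 := fun h0 =>
      hroot0 (IsFractionRing.injective _ K₁ (by rw [h0, map_zero]))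
    have hu : IsUnit (AdjoinRoot.root (X ^ n - C π : A[X])) :=
      IsUnit.of_mul_eq_one r (IsFractionRing.injective _ K₁ (by rw [map_mul, hr, mul_inv_cancel₀ hne, map_one]))
    exact (IsLocalRing.maximalIdeal.isMaximal _).ne_top
      (Ideal.eq_top_of_isUnit_mem _ (hmax ▸ Ideal.mem_span_singleton_self _) hu)
  have hdom0 : EtRam.Dominates A ((algebraMap (AdjoinRoot (X ^ n - C π : A[X])) K₁).comp
      (algebraMap A (AdjoinRoot (X ^ n - C π : A[X])))) V0 := by
    refine ⟨fun a => ⟨_, rfl⟩, fun a ha => ?_⟩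
    rw [hπ.maximalIdeal_eq, Ideal.mem_span_singleton] at ha
    obtain ⟨c, rfl⟩ := ha
    rw [RingHom.comp_apply, map_mul, ← root_pow hn, map_mul, map_pow, map_mul, map_pow]
    refine (mul_le_mul' le_rfl ((V0.valuation_le_one_iff _).mpr ⟨_, rfl⟩)).trans_lt ?_
    rw [mul_one]
    exact pow_lt_one₀ zero_le hlt0 (by omega)
  have huniq : ∀ V, EtRam.Dominates A ((algebraMap (AdjoinRoot (X ^ n - C π : A[X])) K₁).comp
      (algebraMap A (AdjoinRoot (X ^ n - C π : A[X])))) V → V = V0 := by
    intro V ⟨hV1, hV2⟩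
    have hroot : V.valuation (algebraMap _ K₁ (AdjoinRoot.root (X ^ n - C π : A[X]))) < 1 := by
      have h := hV2 π hπ.not_isUnit
      rw [RingHom.comp_apply, ← root_pow hn, map_pow, map_pow] at h
      exact (pow_lt_one_iff_of_nonneg zero_le (by omega : n ≠ 0)).mp h
    have hR : ∀ r, algebraMap (AdjoinRoot (X ^ n - C π : A[X])) K₁ r ∈ V := by
      intro r
      induction r using AdjoinRoot.induction_on with
      | ih q =>
        induction q using Polynomial.induction_on' with
        | add p q hp hq => rw [map_add, map_add]; exact add_mem hp hq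
        | monomial k a =>
          rw [← C_mul_X_pow_eq_monomial, map_mul, map_mul, map_pow, map_pow, AdjoinRoot.mk_X, AdjoinRoot.mk_C]
          exact mul_mem (hV1 a) (pow_mem ((V.valuation_le_one_iff _).mp hroot.le) k)
    refine SetLike.ext fun z => ⟨fun hz => ?_, fun h => by obtain ⟨r, hr⟩ := (hV0mem z).mp h; exact hr ▸ hR r⟩
    rcases V0.mem_or_inv_mem z with h | ⟨r, hr⟩
    · exact h
    · by_cases hu : IsUnit r
      · obtain ⟨w, rfl⟩ := hu
        exact ⟨↑w⁻¹, by rw [map_units_inv, hr, inv_inv]⟩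
      · have hr' : r ∈ IsLocalRing.maximalIdeal _ := hu
        rw [hmax, Ideal.mem_span_singleton] at hr'
        obtain ⟨s, rfl⟩ := hr'
        by_cases hz0 : z = 0
        · exact hz0 ▸ V0.zero_mem
        exfalso
        have h1 : V.valuation z⁻¹ < 1 := by
          rw [← hr, map_mul, map_mul]
          exact (mul_le_mul' le_rfl ((V.valuation_le_one_iff _).mpr (hR s))).trans_lt (by rwa [mul_one])
        have h2 := (V.valuation_le_one_iff z).mpr hz
        have h3 : V.valuation z * V.valuation z⁻¹ = 1 := by rw [← map_mul, mul_inv_cancel₀ hz0, map_one]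
        exact absurd h3 ((mul_le_mul' h2 le_rfl).trans_lt (by rwa [one_mul])).ne
  refine ⟨⟨V0, hdom0⟩, fun V V' h h' => (huniq V h).trans (huniq V' h').symm, fun V h => ?_⟩
  obtain rfl := huniq V h
  intro v
  obtain ⟨⟨z, hz⟩, rfl⟩ := IsLocalRing.residue_surjective v
  obtain ⟨r, rfl⟩ := (hV0mem z).mp hz
  obtain ⟨a, ha⟩ := exists_const r
  rw [Ideal.mem_span_singleton] at ha
  obtain ⟨s, hs⟩ := ha
  refine ⟨a, ?_⟩
  refine (Ideal.Quotient.eq.mpr ?_)
  rw [V0.valuation_lt_one_iff]
  show V0.valuation (algebraMap _ K₁ (algebraMap A _ a) - algebraMap _ K₁ r) < 1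
  rw [Valuation.map_sub_swap, ← map_sub, hs, map_mul, map_mul]
  exact (mul_le_mul' le_rfl ((V0.valuation_le_one_iff _).mpr ⟨_, rfl⟩)).trans_lt (by rwa [mul_one])

end Groth.Agent.S1987
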