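import Groth.Statements.S19876
import Groth.Agent.Lib.FlatValCrit1.Main
-- import your own Groth.Agent.* helpers here

set_option autoImplicit false
universe u
open scoped TensorProduct
open FlatMor

namespace Groth.Agent.S19876

attribute [local instance] Algebra.TensorProduct.rightAlgebra
open TensorProduct

/-- A flat module is flat at every point. -/
theorem flatAt_of_flat {A B M : Type u} [CommRing A] [CommRing B] [Algebra A B] [AddCommGroup M] [Module B M]
    [Module A M] [IsScalarTower A B M] (q : Ideal B) [q.IsPrime] [Module.Flat A M] : FlatCA.FlatAt A q M := by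
  rw [GrothLib.FlatAbove.flatAt_iff_killed]
  intro X Y _ _ _ _ f hf z hz
  exact ⟨1, fun h => Ideal.IsPrime.ne_top ‹_› ((Ideal.eq_top_iff_one q).2 h), by
    rw [one_smul]; exact Module.Flat.lTensor_preserves_injective_linearMap f hf (hz.trans (map_zero _).symm)⟩

/-- A base change of a flat module, seen over the base change of the ring, is flat at every point. -/
theorem flatAt_doubleBaseChange {A B V M : Type u} [CommRing A] [CommRing B] [CommRing V] [Algebra A B] [Algebra A V]
    [AddCommGroup M] [Module A M] [Module B M] [IsScalarTower A B M] [Module.Flat V (V ⊗[A] M)]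
    (r : Ideal (V ⊗[A] B)) [r.IsPrime] : FlatCA.FlatAt V r ((V ⊗[A] B) ⊗[B] M) := by
  haveI : Algebra.IsPushout A V B (V ⊗[A] B) := inferInstance
  haveI : Module.Flat V ((V ⊗[A] B) ⊗[B] M) := Module.Flat.of_linearEquiv
    (Algebra.IsPushout.cancelBaseChange A V B (V ⊗[A] B) M)
  exact flatAt_of_flat r

theorem flatAt_of_forall (A : Type u) [CommRing A] [IsReduced A] [IsNoetherianRing A] (B : Type u) [CommRing B]
    [Algebra A B] [Algebra.FiniteType A B] (M : Type u) [AddCommGroup M] [Module A M] [Module B M]
    [IsScalarTower A B M] [Module.Finite B M]
    (h : ∀ (R : Type u) [CommRing R] [IsDomain R] [IsDiscreteValuationRing R] [Algebra A R], Module.Flat R (R ⊗[A] M))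
    (q : Ideal B) [q.IsPrime] : FlatCA.FlatAt A q M := by
  let p := q.comap (algebraMap A B)
  let A' := Localization.AtPrime p
  let B' := A' ⊗[A] B
  let M' := B' ⊗[B] M
  haveI : IsNoetherianRing A' := IsLocalization.isNoetherianRing p.primeCompl _ inferInstance
  haveI : IsReduced A' := inferInstance
  haveI : Algebra.IsPushout A B A' B' := Algebra.IsPushout.symm inferInstance
  let W := Algebra.algebraMapSubmonoid B p.primeCompl
  haveI : IsLocalization W B' := (Algebra.isLocalization_iff_isPushout p.primeCompl A').2 inferInstance
  have hW : Disjoint (W : Set B) (q : Set B) := by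
    rw [Set.disjoint_left]
    rintro _ ⟨w, hw, rfl⟩ hq
    exact hw hq
  haveI hqp : (q.map (algebraMap B B')).IsPrime := IsLocalization.isPrime_of_isPrime_disjoint W B' q inferInstance hW
  have hqc : (q.map (algebraMap B B')).comap (algebraMap B B') = q :=
    IsLocalization.comap_map_of_isPrime_disjoint W B' inferInstance hW
  have hmax : (q.map (algebraMap B B')).comap (algebraMap A' B') = IsLocalRing.maximalIdeal A' := by
    have e : ((q.map (algebraMap B B')).comap (algebraMap A' B')).comap (algebraMap A A') = p := by
      rw [Ideal.comap_comap, ← IsScalarTower.algebraMap_eq A A' B', IsScalarTower.algebraMap_eq A B B',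
        ← Ideal.comap_comap, hqc]
    rw [← IsLocalization.map_comap p.primeCompl A' ((q.map (algebraMap B B')).comap (algebraMap A' B')), Ideal.under_def, e,
      IsLocalization.AtPrime.map_eq_maximalIdeal]
  have hflat : FlatCA.FlatAt A' (q.map (algebraMap B B')) M' := by
    refine GrothLib.FlatValCrit1.flatAt_of_forall_dvr (A := A') _ hmax M' ?_
    intro V _ _ _ _ _ r _ _ _
    letI : Algebra A V := ((algebraMap A' V).comp (algebraMap A A')).toAlgebra
    haveI : IsScalarTower A A' V := IsScalarTower.of_algebraMap_eq fun _ => rfl
    haveI := h V
    haveI : Module.Flat V (V ⊗[A'] (A' ⊗[A] M)) := (GrothLib.Flattening.flat_cancel (A := A) (B := A') (C := V) M).2 inferInstance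
    haveI : Module.Flat V (V ⊗[A'] M') := Module.Flat.of_linearEquiv
      (AlgebraTensorModule.congr (LinearEquiv.refl V V) (Algebra.IsPushout.cancelBaseChange A A' B B' M))
    exact flatAt_doubleBaseChange (M := M') r
  haveI : IsLocalizedModule W (TensorProduct.mk B B' M 1) :=
    (isLocalizedModule_iff_isBaseChange W B' _).2 (TensorProduct.isBaseChange B M B')
  haveI : IsScalarTower A A' M' := inferInstance
  haveI : IsScalarTower A B' M' := TensorProduct.isScalarTower_left
  have hA : FlatCA.FlatAt A (q.map (algebraMap B B')) M' := by
    haveI : Module.Flat A' (LocalizedModule (q.map (algebraMap B B')).primeCompl M') := hflat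
    haveI : Module.Flat A A' := IsLocalization.flat A' p.primeCompl
    show Module.Flat A (LocalizedModule (q.map (algebraMap B B')).primeCompl M')
    haveI : IsScalarTower A A' (LocalizedModule (q.map (algebraMap B B')).primeCompl M') :=
      IsScalarTower.of_algebraMap_smul fun a x => by
        rw [← algebraMap_smul B' (algebraMap A A' a) x, ← algebraMap_smul B' a x,
          ← IsScalarTower.algebraMap_apply A A' B']
    exact Module.Flat.trans A A' _
  have := (GrothLib.Flattening.flatAt_localization_iff W (TensorProduct.mk B B' M 1) (q.map (algebraMap B B'))).1 hA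
  simpa only [hqc] using this

/-- Affine form. Suppose A is a Noetherian ring that is reduced, B is a finitely generated A-algebra
(finite type), and M is a B-module that is finitely generated over B. Then flatness of M over A
holds exactly when, for each discrete valuation ring R together with any ring homomorphism A → R,
the base change R ⊗_A M is a flat R-module. (In the source the statement concerns a coherent module
on a scheme of finite type over a reduced Noetherian scheme, with base changes to spectra of
discrete valuation rings; since flatness is local on both source and target, what is recorded here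
is the affine version, and the discrete valuation rings are taken in the universe of A.) -/
theorem result (A : Type u) [CommRing A] [IsReduced A]
    [IsNoetherianRing A] (B : Type u) [CommRing B] [Algebra A B] [Algebra.FiniteType A B]
    (M : Type u) [AddCommGroup M] [Module A M] [Module B M] [IsScalarTower A B M] [Module.Finite B M] :
    Module.Flat A M ↔
      ∀ (R : Type u) [CommRing R] [IsDomain R] [IsDiscreteValuationRing R] [Algebra A R],
        Module.Flat R (R ⊗[A] M) := by
  refine ⟨fun _ R _ _ _ _ => inferInstance, fun h => ?_⟩
  refine Module.flat_of_isLocalized_maximal (R := A) B (M := M) (fun P => LocalizedModule P.primeCompl M)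
    (fun P => LocalizedModule.mkLinearMap P.primeCompl M) fun P _ => ?_
  exact flatAt_of_forall A B M h P

end Groth.Agent.S19876
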