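import Groth.Statements.S19878
import Mathlib.AlgebraicGeometry.Noetherian
import Mathlib.AlgebraicGeometry.Morphisms.Immersion
import Mathlib.RingTheory.Nakayama
import Groth.Agent.Lib.FSchSys.Ker

set_option autoImplicit false
universe u
open LVCorr

namespace Groth.Agent.S19878

open AlgebraicGeometry CategoryTheory CategoryTheory.Limits in
/-- If `J ^ k ≤ J ^ (k + 1)` on a locally Noetherian scheme, the support of `J` is clopen. -/
theorem isClopen_support_of_pow_le {Y : Scheme.{u}} [IsLocallyNoetherian Y] (J : Y.IdealSheafData)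
    (k : ℕ) (h : J ^ k ≤ J ^ (k + 1)) : IsClopen (J.support : Set Y) := by
  refine ⟨J.support.isClosed, ?_⟩
  rw [isOpen_iff_forall_mem_open]
  intro x hx
  obtain ⟨_, ⟨U, hU, rfl⟩, hxU, -⟩ := Y.isBasis_affineOpens.exists_subset_of_mem_open
    (Set.mem_univ x) isOpen_univ
  have hN : IsNoetherianRing Γ(Y, U) := IsLocallyNoetherian.component_noetherian ⟨U, hU⟩
  set 𝔞 : Ideal Γ(Y, U) := J.ideal ⟨U, hU⟩ with h𝔞
  have hle : 𝔞 ^ k ≤ 𝔞 • 𝔞 ^ k := by
    have := h ⟨U, hU⟩
    simp only [Scheme.IdealSheafData.ideal_pow, Pi.pow_apply] at this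
    rwa [smul_eq_mul, ← pow_succ']
  obtain ⟨r, hr1, hr2⟩ := Submodule.exists_sub_one_mem_and_smul_eq_zero_of_fg_of_le_smul 𝔞 (𝔞 ^ k)
    (hN.noetherian _) hle
  refine ⟨(Y.basicOpen r : Set Y), ?_, (Y.basicOpen r).2, ?_⟩
  · intro y hy
    rw [SetLike.mem_coe] at hy
    have hyU : y ∈ U := Y.basicOpen_le r hy
    rw [SetLike.mem_coe, Scheme.IdealSheafData.mem_support_iff_of_mem (U := ⟨U, hU⟩) hyU,
      Scheme.mem_zeroLocus_iff]
    intro f hf hfy
    rw [Scheme.mem_basicOpen _ _ _ hyU] at hfy hy
    have h0 : r * f ^ k = 0 := hr2 _ (Ideal.pow_mem_pow hf k)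
    have h1 : IsUnit (Y.presheaf.germ U y hyU (r * f ^ k)) := by
      rw [map_mul, map_pow]
      exact hy.mul (hfy.pow k)
    rw [h0, map_zero] at h1
    exact not_isUnit_zero h1
  · rw [SetLike.mem_coe, Scheme.mem_basicOpen _ _ _ hxU]
    rw [SetLike.mem_coe, Scheme.IdealSheafData.mem_support_iff_of_mem (U := ⟨U, hU⟩) hxU,
      Scheme.mem_zeroLocus_iff] at hx
    have hne : ¬ IsUnit (Y.presheaf.germ U x hxU (1 - r)) := by
      have := hx (1 - r) (by simpa [h𝔞] using neg_mem hr1)
      rwa [Scheme.mem_basicOpen _ _ _ hxU] at this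
    refine (IsLocalRing.isUnit_or_isUnit_of_add_one ?_).resolve_right hne
    rw [← map_add]; simp

open AlgebraicGeometry CategoryTheory CategoryTheory.Limits in
/-- Let k be a field, C a k-scheme of finite type, X a k-scheme and c = (c₁, c₂) : C → X ×_k X a
correspondence; let Fix(c) = C ×_{X ×_k X} X be its scheme of fixed points (pullback along the
diagonal), with projections i : Fix(c) → C and δ : Fix(c) → X. Let Z ⊂ X be the closed subscheme of
a quasi-coherent ideal I and suppose c is contracting near Z in a neighbourhood of the fixed points: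
there is an open W ⊆ C containing the image of Fix(c) such that on W the inverse image ideal of I
under c₁ is contained in the inverse image ideal of I under c₂ (c stabilizes Z on W) and some power
(I·O_W via c₁)^k₀ is contained in (I·O_W via c₂)^(k₀+1). Then every connected open subset β of
Fix(c) whose image under δ meets Z is contained, as a set, in δ⁻¹(Z). (The source works with
separated schemes of finite type over an algebraically closed field; this row assumes only that C is
of finite type over a field k.) -/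
theorem result {C X Fx : Scheme.{u}} (k : Type u) [Field k]
    (pC : C ⟶ Spec (CommRingCat.of k)) [LocallyOfFiniteType pC] [QuasiCompact pC]
    (pX : X ⟶ Spec (CommRingCat.of k)) (c₁ c₂ : C ⟶ X) (hc : c₁ ≫ pX = c₂ ≫ pX)
    (i : Fx ⟶ C) (δ : Fx ⟶ X) (hF : IsPullback i δ (pullback.lift c₁ c₂ hc) (pullback.diagonal pX))
    (I : X.IdealSheafData) (W : C.Opens) (hW : Set.range i.base ⊆ (W : Set C))
    (hle : I.comap (W.ι ≫ c₁) ≤ I.comap (W.ι ≫ c₂))
    (k₀ : ℕ) (hpow : I.comap (W.ι ≫ c₁) ^ k₀ ≤ I.comap (W.ι ≫ c₂) ^ (k₀ + 1))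
    (β : Fx.Opens) (hβ : _root_.IsConnected (β : Set Fx))
    (hβZ : (δ.base '' (β : Set Fx) ∩ (I.support : Set X)).Nonempty) :
    (β : Set Fx) ⊆ δ.base ⁻¹' (I.support : Set X) := by
  have h₁ : i ≫ c₁ = δ := by
    have := congrArg (fun g => g ≫ pullback.fst pX pX) hF.w
    simp only [Category.assoc] at this
    erw [pullback.lift_fst, pullback.diagonal_fst, Category.comp_id] at this
    exact this
  have h₂ : i ≫ c₂ = δ := by
    have := congrArg (fun g => g ≫ pullback.snd pX pX) hF.w
    simp only [Category.assoc] at this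
    erw [pullback.lift_snd, pullback.diagonal_snd, Category.comp_id] at this
    exact this
  have hrange : Set.range i.base ⊆ Set.range W.ι.base := by simpa using hW
  obtain ⟨i', hi'⟩ : ∃ i', i' ≫ W.ι = i := ⟨IsOpenImmersion.lift W.ι i hrange, by simp⟩
  have hJ₁ : (I.comap (W.ι ≫ c₁)).comap i' = I.comap δ := by
    rw [← Scheme.IdealSheafData.comap_comp, ← Category.assoc, hi', h₁]
  have hJ₂ : (I.comap (W.ι ≫ c₂)).comap i' = I.comap δ := by
    rw [← Scheme.IdealSheafData.comap_comp, ← Category.assoc, hi', h₂]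
  have hp : (I.comap δ) ^ k₀ ≤ (I.comap δ) ^ (k₀ + 1) := by
    have := Scheme.IdealSheafData.comap_mono i' hpow
    simpa only [GrothLib.FSchSys.comap_pow, hJ₁, hJ₂] using this
  have : IsImmersion i := MorphismProperty.of_isPullback hF.flip inferInstance
  have : LocallyOfFiniteType (i ≫ pC) := inferInstance
  have : IsLocallyNoetherian Fx := LocallyOfFiniteType.isLocallyNoetherian (i ≫ pC)
  have hcl := isClopen_support_of_pow_le (I.comap δ) k₀ hp
  rw [Scheme.IdealSheafData.support_comap, TopologicalSpace.Closeds.coe_preimage] at hcl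
  obtain ⟨_, ⟨⟨y, hy, rfl⟩, hyZ⟩⟩ := hβZ
  exact hβ.isPreconnected.subset_isClopen hcl ⟨y, hy, hyZ⟩

end Groth.Agent.S19878
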