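import Groth.Statements.S19879
import Groth.Agent.S18397
import Groth.Agent.Lib.BlowUp.EffCartier

set_option autoImplicit false
universe u
open CategoryTheory CategoryTheory.Limits AlgebraicGeometry
open LVCorr

namespace Groth.Agent.S19879

open TopologicalSpace

/-- An ideal sheaf with `J ^ k ≤ J ^ (k + 1)` on a locally Noetherian scheme: its support is open. -/
theorem exists_open_subset_support {Z : Scheme.{u}} [IsLocallyNoetherian Z] (J : Z.IdealSheafData) (k : ℕ)
    (hk : k ≠ 0) (hJ : J ^ k ≤ J ^ (k + 1)) (z : Z) (hz : z ∈ J.support) :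
    ∃ O : Z.Opens, z ∈ O ∧ (O : Set Z) ⊆ J.support := by
  obtain ⟨_, ⟨(V : Z.Opens), hV, rfl⟩, hzV, -⟩ := Z.isBasis_affineOpens.exists_subset_of_mem_open
    (Set.mem_univ z) isOpen_univ
  let W : Z.affineOpens := ⟨V, hV⟩
  haveI : IsNoetherianRing Γ(Z, V) := IsLocallyNoetherian.component_noetherian W
  have hle : (J.ideal W) ^ k ≤ J.ideal W * (J.ideal W) ^ k := by
    have h := hJ W
    simp only [Scheme.IdealSheafData.ideal_pow, Pi.pow_apply] at h
    rwa [pow_succ'] at h
  obtain ⟨r, hr1, hr⟩ := Submodule.exists_sub_one_mem_and_smul_eq_zero_of_fg_of_le_smul (J.ideal W)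
    ((J.ideal W) ^ k) (IsNoetherian.noetherian _) hle
  refine ⟨Z.basicOpen r, ?_, fun y hy => ?_⟩
  · rw [Z.mem_basicOpen _ _ hzV]
    by_contra hn
    have hsup := (J.mem_support_iff_of_mem (U := W) hzV).1 hz
    rw [Scheme.mem_zeroLocus_iff] at hsup
    refine hsup (r - 1) hr1 ?_
    rw [Z.mem_basicOpen _ _ hzV, map_sub, map_one]
    have := (IsLocalRing.isUnit_one_sub_self_of_mem_nonunits _ hn).neg
    rwa [neg_sub] at this
  · have hyV : y ∈ V := Z.basicOpen_le r hy
    rw [SetLike.mem_coe, J.mem_support_iff_of_mem (U := W) hyV, Scheme.mem_zeroLocus_iff]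
    intro a ha hya
    rw [Z.mem_basicOpen _ _ hyV] at hya
    have hy := (Z.mem_basicOpen r y hyV).1 hy
    have h0 : r * a ^ k = 0 := hr (a ^ k) (Ideal.pow_mem_pow ha k)
    have h1 : IsUnit (Z.presheaf.germ V y hyV (r * a ^ k)) := by
      rw [map_mul, map_pow]; exact hy.mul (hya.pow k)
    rw [h0, map_zero] at h1
    exact not_isUnit_zero h1


open AlgebraicGeometry CategoryTheory CategoryTheory.Limits in
/-- Let k₀ be a finite field with p^e elements, K an algebraic closure of k₀, C₀ a scheme of finite type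
over k₀, C = C₀ ×_{k₀} Spec K with its projections, and Fr : C → C the n-th power of the geometric
Frobenius (over K, compatible with the (e·n)-th power of the absolute p-Frobenius of C₀). Let X be
locally of finite type over K and c₁, c₂ : C → X morphisms over K with c₂ locally quasi-finite, and
let d < p^(e n) be such that for every closed point x of X, with J_x the inverse image under c₂ of
the ideal sheaf of the reduced point x, one has (√J_x)^d ⊂ J_x (so p^(e n) exceeds the ramification
degree of c₂). Then the scheme of fixed points of the twisted correspondence (c₁ ∘ Fr, c₂), namely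
the pullback of (c₁ ∘ Fr, c₂) : C → X ×_K X along the diagonal of X, has finite and discrete
underlying topological space. (In the source X, c₁ and c₂ are also defined over k₀ and all schemes
are separated; neither is needed here.) -/
theorem result {C C₀ X Fx : Scheme.{u}}
    (p : ℕ) [Fact p.Prime] (k₀ : Type u) [Field k₀] [Fintype k₀] [CharP k₀ p] (e : ℕ)
    (hq : Fintype.card k₀ = p ^ e) (K : Type u) [Field K] [Algebra k₀ K] [IsAlgClosure k₀ K]
    (f₀ : C₀ ⟶ Spec (CommRingCat.of k₀)) [LocallyOfFiniteType f₀] [QuasiCompact f₀] [FrobSch.IsCharP C₀ p]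
    (πC₀ : C ⟶ C₀) (πK : C ⟶ Spec (CommRingCat.of K))
    (hC : IsPullback πC₀ πK f₀ (Spec.map (CommRingCat.ofHom (algebraMap k₀ K))))
    (n : ℕ) (Fr : C ⟶ C)
    (hFr₀ : Fr ≫ πC₀ = πC₀ ≫ End.asHom (End.of (FrobSch.frob C₀ p) ^ (e * n)))
    (hFrK : Fr ≫ πK = πK)
    (pX : X ⟶ Spec (CommRingCat.of K)) [LocallyOfFiniteType pX]
    (c₁ c₂ : C ⟶ X) (hc₁ : c₁ ≫ pX = πK) (hc₂ : c₂ ≫ pX = πK)
    [LocallyQuasiFinite c₂] [LocallyOfFiniteType c₂]
    (hcomm : (Fr ≫ c₁) ≫ pX = c₂ ≫ pX) (d : ℕ) (hn : d < p ^ (e * n))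
    (hd : ∀ (x : X) (hx : IsClosed ({x} : Set X)),
      ((Scheme.IdealSheafData.vanishingIdeal ⟨{x}, hx⟩).comap c₂).radical ^ d ≤
        (Scheme.IdealSheafData.vanishingIdeal ⟨{x}, hx⟩).comap c₂)
    (i : Fx ⟶ C) (δ : Fx ⟶ X) (hF : IsPullback i δ (pullback.lift (Fr ≫ c₁) c₂ hcomm) (pullback.diagonal pX)) :
    Finite Fx ∧ DiscreteTopology Fx := by
  haveI : LocallyOfFiniteType πK := MorphismProperty.of_isPullback hC inferInstance
  haveI : QuasiCompact πK := MorphismProperty.of_isPullback hC inferInstance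
  haveI : IsNoetherianRing K := inferInstance
  haveI : IsLocallyNoetherian C := LocallyOfFiniteType.isLocallyNoetherian πK
  haveI : CompactSpace C := QuasiCompact.compactSpace_of_compactSpace πK
  haveI : IsNoetherian C := {}
  haveI : IsImmersion i := MorphismProperty.of_isPullback hF.flip inferInstance
  haveI : NoetherianSpace Fx := i.isEmbedding.isInducing.noetherianSpace
  haveI : IsLocallyNoetherian Fx := LocallyOfFiniteType.isLocallyNoetherian i
  haveI : JacobsonSpace Fx := LocallyOfFiniteType.jacobsonSpace (i ≫ πK)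
  haveI : JacobsonSpace X := LocallyOfFiniteType.jacobsonSpace pX
  haveI : LocallyOfFiniteType δ := by
    haveI : LocallyOfFiniteType (δ ≫ pX) := by
      have e : δ ≫ pX = i ≫ πK := by
        have h := congrArg (· ≫ pullback.snd pX pX ≫ pX) hF.w
        simp only [Category.assoc, pullback.lift_snd_assoc, pullback.diagonal_snd_assoc] at h
        rw [← h, hc₂]
      rw [e]; infer_instance
    exact locallyOfFiniteType_of_comp δ pX
  have h₁ : i ≫ Fr ≫ c₁ = δ := by
    have h := congrArg (· ≫ pullback.fst pX pX) hF.w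
    simpa only [Category.assoc, pullback.lift_fst, pullback.diagonal_fst, Category.comp_id] using h
  have h₂ : i ≫ c₂ = δ := by
    have h := congrArg (· ≫ pullback.snd pX pX) hF.w
    simpa only [Category.assoc, pullback.lift_snd, pullback.diagonal_snd, Category.comp_id] using h
  have hopen : ∀ c ∈ closedPoints Fx, IsOpen ({c} : Set Fx) := by
    intro c hc
    have hx : IsClosed ({δ.base c} : Set X) := δ.closePoints_subset_preimage_closedPoints hc
    let m := Scheme.IdealSheafData.vanishingIdeal (⟨{δ.base c}, hx⟩ : Closeds X)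
    obtain ⟨W, hW, hle, k, hk⟩ := Groth.Agent.S18397.result p k₀ e hq K f₀ πC₀ πK hC n Fr hFr₀ hFrK pX c₁ c₂
      hc₁ hc₂ hcomm d hn hd (δ.base c) hx
    have hcW : c ∈ i ⁻¹ᵁ W := hW ⟨δ.base c, by
      show (δ ≫ pullback.diagonal pX).base c = (i ≫ pullback.lift (Fr ≫ c₁) c₂ hcomm).base c
      rw [hF.w]⟩
    let W' := i ⁻¹ᵁ W
    let J := m.comap (W'.ι ≫ δ)
    have hJ₁ : (m.comap (W.ι ≫ Fr ≫ c₁)).comap (i ∣_ W) = J := by
      rw [← Scheme.IdealSheafData.comap_comp, morphismRestrict_ι_assoc, h₁]
    have hJ₂ : (m.comap (W.ι ≫ c₂)).comap (i ∣_ W) = J := by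
      rw [← Scheme.IdealSheafData.comap_comp, morphismRestrict_ι_assoc, h₂]
    have hJ : J ^ k ≤ J ^ (k + 1) := by
      have h := Scheme.IdealSheafData.comap_mono (f := i ∣_ W) hk
      simp only [GrothLib.BlowUp.comap_pow] at h
      rw [← hJ₁] 
      conv_rhs => rw [hJ₁, ← hJ₂]
      exact h
    have hsupp : (J.support : Set W'.toScheme) = (W'.ι ≫ δ).base ⁻¹' {δ.base c} := by
      simp [J, m, Scheme.IdealSheafData.support_comap]
      rfl
    have hcs : (⟨c, hcW⟩ : W'.toScheme) ∈ J.support := by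
      show (⟨c, hcW⟩ : W'.toScheme) ∈ (J.support : Set W'.toScheme)
      rw [hsupp]; exact rfl
    have hk0 : k ≠ 0 := by
      rintro rfl
      have h1 : J = ⊤ := by
        simpa using hJ
      rw [h1, Scheme.IdealSheafData.support_top] at hcs
      exact hcs
    obtain ⟨O, hcO, hOs⟩ := exists_open_subset_support J k hk0 hJ _ hcs
    obtain ⟨U, hU, hUeq⟩ := (isDiscrete_iff_forall_mem_exists_isOpen.1
      (c₂.isDiscrete_preimage_singleton (δ.base c))) (i.base c) (show (i ≫ c₂).base c = δ.base c by rw [h₂])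
    have e : ({c} : Set Fx) = (W'.ι.base '' O) ∩ i.base ⁻¹' U := by
      ext y
      constructor
      · rintro rfl
        exact ⟨⟨_, hcO, rfl⟩, (hUeq.ge rfl).1⟩
      · rintro ⟨⟨z, hz, rfl⟩, hyU⟩
        have hz' := hOs hz
        rw [hsupp] at hz'
        refine i.isEmbedding.injective ((hUeq.le ⟨hyU, ?_⟩ : _ ∈ ({i.base c} : Set C)))
        show (i ≫ c₂).base (W'.ι.base z) = δ.base c
        rw [h₂]; exact hz'
    rw [e]
    exact (W'.ι.isOpenEmbedding.isOpenMap _ O.2).inter (hU.preimage i.continuous)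
  have hall : closedPoints Fx = Set.univ := by
    have hO : IsOpen (closedPoints Fx) := by
      rw [← Set.biUnion_of_singleton (closedPoints Fx)]
      exact isOpen_biUnion hopen
    have := closure_inter_closedPoints hO.isClosed_compl
    rw [Set.compl_inter_self, closure_empty] at this
    exact Set.compl_empty_iff.1 this.symm
  haveI : DiscreteTopology Fx := discreteTopology_iff_isOpen_singleton.2 fun c => hopen c (hall ▸ Set.mem_univ c)
  exact ⟨finite_of_compact_of_discrete, inferInstance⟩

end Groth.Agent.S19879
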