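import Groth.Statements.S1988
import Groth.Agent.Lib.DVRExt.Compositum
import Mathlib.FieldTheory.IntermediateField.Adjoin.Algebra
-- import your own Groth.Agent.* helpers here

set_option autoImplicit false
universe u
open EtAlg

namespace Groth.Agent.S1988

open GrothLib.DVRExt in
theorem descend_aux (B C K L M₀ K₁ : Type u) [CommRing B] [IsDomain B] [IsDiscreteValuationRing B]
    [CommRing C] [IsDomain C] [IsLocalRing C] [Algebra B C] [IsLocalHom (algebraMap B C)]
    (hinj : Function.Injective (algebraMap B C))
    [Field K] [Field L] [Field M₀] [Field K₁] [Algebra K L] [Algebra K M₀] [Algebra L M₀] [IsScalarTower K L M₀]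
    [Algebra K K₁] [FiniteDimensional K K₁] [Algebra B L] [IsFractionRing B L]
    [Algebra C M₀] [IsFractionRing C M₀] [Algebra B M₀] [IsScalarTower B C M₀] [IsScalarTower B L M₀]
    (P : ∀ (M : Type u) [Field M], ValuationSubring M → (K₁ →+* M) → Prop)
    (hP : ∀ (M M' : Type u) [Field M] [Field M'] (f : K₁ →+* M) (j : M →+* M') (W' : ValuationSubring M'),
      P M' W' (j.comp f) → P M (W'.comap j) f)
    (h : EtRam.ForallLocalExt C K M₀ K₁ P) : EtRam.ForallLocalExt B K L K₁ P := by
  intro M _ _ _ _ _ _ hgen W hW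
  obtain ⟨Ω, _, iM, i0, V, hsq, hVW, hVC⟩ := exists_compositum (C := C) (M₀ := M₀) hinj W hW
  let g : K₁ →+* Ω := iM.comp (algebraMap K₁ M)
  let _ : Algebra M₀ Ω := i0.toAlgebra
  let _ : Algebra K Ω := (i0.comp (algebraMap K M₀)).toAlgebra
  have : IsScalarTower K M₀ Ω := .of_algebraMap_eq' rfl
  have hK : ∀ k, g (algebraMap K K₁ k) = i0 (algebraMap K M₀ k) := fun k => by
    show iM _ = _
    rw [← IsScalarTower.algebraMap_apply, IsScalarTower.algebraMap_apply K L M,
      IsScalarTower.algebraMap_apply K L M₀]
    exact congrArg (fun F => F (algebraMap K L k)) hsq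
  let gK : K₁ →ₐ[K] Ω := { g with commutes' := hK }
  let F := IntermediateField.adjoin M₀ (Set.range g)
  have hjmem : ∀ m, iM m ∈ F := by
    intro m
    have hm : m ∈ Algebra.adjoin L (Set.range (algebraMap K₁ M)) := hgen ▸ Algebra.mem_top
    induction hm using Algebra.adjoin_induction with
    | mem x hx => obtain ⟨y, rfl⟩ := hx; exact IntermediateField.subset_adjoin _ _ ⟨y, rfl⟩
    | algebraMap l =>
      rw [show iM (algebraMap L M l) = i0 (algebraMap L M₀ l) from congrArg (fun F => F l) hsq]
      exact F.algebraMap_mem _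
    | add x y _ _ hx hy => rw [map_add]; exact add_mem hx hy
    | mul x y _ _ hx hy => rw [map_mul]; exact mul_mem hx hy
  let j : M →+* F := iM.codRestrict F hjmem
  let _ : Algebra K₁ F := (j.comp (algebraMap K₁ M)).toAlgebra
  have : IsScalarTower K M₀ F := .of_algebraMap_eq fun k => Subtype.ext rfl
  have : IsScalarTower K K₁ F := .of_algebraMap_eq fun k => Subtype.ext (hK k).symm
  have htop : Algebra.adjoin M₀ (Set.range (algebraMap K₁ F)) = ⊤ := by
    refine Subalgebra.map_injective (f := F.val) (RingHom.injective F.val.toRingHom) ?_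
    rw [AlgHom.map_adjoin, Algebra.map_top, IntermediateField.range_val, ← Set.range_comp]
    refine (IntermediateField.adjoin_toSubalgebra_of_isAlgebraic (F := M₀) ?_).symm
    rintro _ ⟨x, rfl⟩
    exact ((((Algebra.IsIntegral.isIntegral (R := K) x).map gK)).tower_top).isAlgebraic
  have hd : EtRam.Dominates C ((algebraMap M₀ F).comp (algebraMap C M₀)) (V.comap F.val.toRingHom) := by
    refine ⟨fun c => hVC.1 c, fun c hc => ?_⟩
    have h1 := hVC.2 c hc
    refine lt_of_le_of_ne (((V.comap F.val.toRingHom).valuation_le_one_iff _).mpr (hVC.1 c)) fun h2 => ?_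
    have h3 : (V.comap F.val.toRingHom).valuation (((algebraMap M₀ F).comp (algebraMap C M₀)) c)⁻¹ ≤ 1 := by
      rw [map_inv₀, h2, inv_one]
    have h4 : F.val.toRingHom ((((algebraMap M₀ F).comp (algebraMap C M₀)) c)⁻¹) ∈ V :=
      ((V.comap F.val.toRingHom).valuation_le_one_iff _).mp h3
    rw [map_inv₀] at h4
    have h4' : ((i0.comp (algebraMap C M₀)) c)⁻¹ ∈ V := h4
    by_cases h0 : (i0.comp (algebraMap C M₀)) c = 0
    · have : ((algebraMap M₀ F).comp (algebraMap C M₀)) c = 0 := Subtype.ext h0
      rw [this, map_zero] at h2; exact zero_ne_one h2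
    have h5 : V.valuation ((i0.comp (algebraMap C M₀)) c) * V.valuation (((i0.comp (algebraMap C M₀)) c)⁻¹) = 1 := by
      rw [← map_mul, mul_inv_cancel₀ h0, map_one]
    exact absurd h5 ((mul_le_mul' le_rfl ((V.valuation_le_one_iff _).mpr h4')).trans_lt (by rwa [mul_one])).ne
  have h6 := hP M F (algebraMap K₁ M) j _ (h F htop _ hd)
  have h7 : (V.comap F.val.toRingHom).comap j = W := by
    rw [← hVW]; rfl
  rwa [h7] at h6

/-- Let A -> B -> C be extensions of discrete valuation rings (local injective maps) with fraction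
fields K ⊂ L ⊂ M₀ and K₁/K a finite extension. (The solution predicates mention only B, C and the
fields: in them the bottom ring is recovered as B ∩ K, which the hypotheses on A force to be A.) If
K₁ is a weak solution (resp. a solution) for A -> C then it is a weak solution (resp. a solution)
for A -> B. -/
theorem result (A B C K L M₀ K₁ : Type u) [CommRing A] [IsDomain A] [IsDiscreteValuationRing A]
    [CommRing B] [IsDomain B] [IsDiscreteValuationRing B] [Algebra A B] [IsLocalHom (algebraMap A B)]
    (hinjA : Function.Injective (algebraMap A B))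
    [CommRing C] [IsDomain C] [IsDiscreteValuationRing C] [Algebra B C] [IsLocalHom (algebraMap B C)]
    (hinj : Function.Injective (algebraMap B C))
    [Field K] [Field L] [Field M₀] [Field K₁] [Algebra K L] [Algebra K M₀] [Algebra L M₀] [IsScalarTower K L M₀]
    [Algebra K K₁] [FiniteDimensional K K₁] [Algebra A K] [IsFractionRing A K]
    [Algebra B L] [IsFractionRing B L] [Algebra A L] [IsScalarTower A K L] [IsScalarTower A B L]
    [Algebra C M₀] [IsFractionRing C M₀] [Algebra B M₀]
    [IsScalarTower B C M₀] [IsScalarTower B L M₀] :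
    (EtRam.IsWeakSolution C K M₀ K₁ → EtRam.IsWeakSolution B K L K₁) ∧
    (EtRam.IsSolution C K M₀ K₁ → EtRam.IsSolution B K L K₁) := by
  refine ⟨fun h => ?_, fun h => ?_⟩
  · exact descend_aux B C K L M₀ K₁ hinj _
      (fun M M' _ _ f j W' h => GrothLib.DVRExt.weaklyUnramified_descend f j W' h) h
  · exact descend_aux B C K L M₀ K₁ hinj _
      (fun M M' _ _ f j W' h => ⟨GrothLib.DVRExt.weaklyUnramified_descend f j W' h.1,
        GrothLib.DVRExt.geomReduced_descend f j W' h.2⟩) h

end Groth.Agent.S1988
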