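import Groth.Statements.S19880
-- import your own Groth.Agent.* helpers here
import Groth.Agent.Lib.RatGeneral28.Main
import Groth.Agent.Lib.CurveMult.HyperAff

set_option autoImplicit false
set_option maxHeartbeats 1600000
set_option linter.style.haveILetI false
set_option backward.isDefEq.respectTransparency false
universe u
open CategoryTheory CategoryTheory.Limits AlgebraicGeometry
open JacVar

namespace Groth.Agent.S19880

/-- Let k be a separably closed field, C a smooth proper geometrically connected curve of genus g > 0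
over k with a k-rational point, and r > 2g an integer. Then for every effective divisor D of degree
r on C there is an (r − g)-tuple γ = (P_1, …, P_{r−g}) of k-rational points of C with h⁰(D − P_1 − ⋯
− P_{r−g}) = 1; since every invertible module L of degree r > 2g − 2 is of the form O(D) with D
effective, this is stated as: for every invertible module L of degree r on C there are k-rational
points P_1, …, P_{r−g} with h⁰(C, L ⊗ I_{P_1} ⊗ ⋯ ⊗ I_{P_{r−g}}) = 1. (In the source this is the
statement that the symmetric power C^(r) is the union of the open pieces C^γ.) -/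
theorem result (k : Type u) [Field k] [IsSepClosed k]
    (C : Scheme.{u}) [C.Over (Spec (CommRingCat.of k))]
    [IsProper (C ↘ Spec (CommRingCat.of k))] [Smooth (C ↘ Spec (CommRingCat.of k))] [GeometricallyConnected (C ↘ Spec (CommRingCat.of k))]
    (hdim : topologicalKrullDim ↥C = 1)
    (g : ℕ) (hg : Curv2.genus k C = g) (hg0 : 0 < g)
    (σ₀ : Spec (CommRingCat.of k) ⟶ C) (hσ₀ : σ₀ ≫ (C ↘ Spec (CommRingCat.of k)) = 𝟙 _)
    (r : ℕ) (hr : 2 * g < r)
    (L : C.Modules) (hL : PicF.IsInvertible L) (hLdeg : Curv2.deg k C L 1 = (r : ℤ)) :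
    ∃ σ : Fin (r - g) → (Spec (CommRingCat.of k) ⟶ C), (∀ t, σ t ≫ (C ↘ Spec (CommRingCat.of k)) = 𝟙 _) ∧
      Module.finrank k (Coh.HH C (CohB1.tensorMod L (FGA.tensorList (List.ofFn fun t : Fin (r - g) =>
        ClSub.idealMod (σ t).ker))) 0) = 1 := by
  haveI : ConnectedSpace C :=
    GeometricallyConnected.connectedSpace_of_subsingleton (C ↘ Spec (CommRingCat.of k))
  haveI := GrothLib.Euler.isIntegral_of_smooth_connected k (C ↘ Spec (CommRingCat.of k))
  haveI := GrothLib.Euler.isNoetherian_of_proper (X := C) k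
  haveI := GrothLib.CurveRR.regCurve_of_smooth (C ↘ Spec (CommRingCat.of k)) hdim
  have h0 := GrothLib.CurveMult.finrank_H0_eq_one_of_geometricallyConnected k (C := C)
  have hK := GrothLib.CurveRR.isFunctionField k h0
  obtain ⟨D, ⟨eL⟩⟩ := GrothLib.CurveRR.exists_iso_oD k hL
  have hd : D.deg = (r : ℤ) := by
    rw [← GrothLib.CurveRR.deg_oD D, ← GrothLib.Euler.deg_of_iso k eL 1, hLdeg]
  have hgf : FunFld.genus k C.functionField = g := (GrothLib.CurveRR.genus_eq k h0).symm.trans hg
  have hell := GrothLib.FunFld.ell_eq_of_deg_ge hK (D := D) (by rw [hd, hgf]; omega)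
  rw [hd, hgf] at hell
  obtain ⟨σ, S, hσ, ⟨e⟩, hS⟩ := GrothLib.RatGeneral28.exists_general_points k D (r - g) (by omega)
  refine ⟨σ, hσ, ?_⟩
  obtain ⟨e'⟩ := GrothLib.CurveRR.nonempty_tensor_iso k eL e
  rw [(GrothLib.Euler.hhEquiv (A := k) e' 0).finrank_eq, GrothLib.CurveRR.finrank_H0_oD, ← sub_eq_add_neg]
  omega

end Groth.Agent.S19880
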