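import Groth.Statements.S19886
import Groth.Agent.Lib.ASProp18.Proper
-- import your own Groth.Agent.* helpers here

set_option autoImplicit false
universe u
open CategoryTheory CategoryTheory.Limits AlgebraicGeometry
open EtCoh

namespace Groth.Agent.S19886

/-- Let k be a separably closed field of characteristic p > 0 and X a scheme proper over k of dimension
d. Then the étale cohomology groups H^q(X_et, Z/p) with constant coefficients vanish for all q > d.
(The same vanishing for X separated of finite type over an algebraically closed field is a separate
statement; here the field is only separably closed and X is proper.) -/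
theorem result (k : Type u) [Field k] [IsSepClosed k]
    (p : ℕ) [Fact p.Prime] [CharP k p]
    (X : Scheme.{u}) (f : X ⟶ Spec (CommRingCat.of k)) [IsProper f]
    (d : ℕ) (hd : topologicalKrullDim X = d) (q : ℕ) (hq : d + 1 ≤ q) :
    Subsingleton (EtCoh.H X (EtCoh.const X (ZMod p)) q) := GrothLib.ASProp18.subsingleton_H_const p f d hd.le q hq

end Groth.Agent.S19886
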