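import Groth.Statements.S19887
import Groth.Agent.Lib.Nagata6.Absolute
import Groth.Agent.Lib.Nagata6.Glue
set_option backward.isDefEq.respectTransparency false

set_option autoImplicit false
universe u
open LVCorr

namespace Groth.Agent.S19887

open AlgebraicGeometry CategoryTheory CategoryTheory.Limits in
/-- Let k be a field and R a discrete valuation ring with a k-algebra structure, with generic point η
(an open point of Spec R). Let X be a separated k-scheme of finite type, X_R = X ×_k Spec R, and let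
(X̃, φ) be a lift of X over R: X̃ is a separated R-scheme of finite type (locally of finite type and
quasi-compact over R) and φ : X̃ → X_R an R-morphism inducing an isomorphism over η. Then there
exist a scheme Ỹ and a proper morphism ψ : Ỹ → X̃ such that (1) (Ỹ, ψ ∘ φ) is a lift of X, i.e. ψ ∘
φ is an isomorphism over η, (2) Ỹ is proper over X̃, and (3) for every compactification of X, i.e.
every open immersion of X over k into a proper k-scheme X̄ (with X̄_R = X̄ ×_k Spec R and the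
induced morphism X_R → X̄_R), Ỹ embeds by an open immersion into a scheme Ỹ(X̄) proper over R and
lifting X̄ (an R-morphism Ỹ(X̄) → X̄_R that is an isomorphism over η) such that Ỹ → Ỹ(X̄) → X̄_R
equals Ỹ → X̃ → X_R → X̄_R. (The source works over an algebraically closed field k and a discrete
valuation ring over k with residue field k, and its compactifications are dense open immersions;
none of this is used.) -/
theorem result
    (k : Type u) [Field k] (R : Type u) [CommRing R] [IsDomain R] [IsDiscreteValuationRing R] [Algebra k R]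
    (η : (Spec (CommRingCat.of R)).Opens) (hη : (η : Set ↥(Spec (CommRingCat.of R))) = {genericPoint ↥(Spec (CommRingCat.of R))})
    (X : Scheme.{u}) (pX : X ⟶ Spec (CommRingCat.of k)) [IsSeparated pX] [LocallyOfFiniteType pX] [QuasiCompact pX]
    (XR : Scheme.{u}) (a : XR ⟶ X) (b : XR ⟶ Spec (CommRingCat.of R)) (hXR : IsPullback a b pX (Spec.map (CommRingCat.ofHom (algebraMap k R))))
    (Xt : Scheme.{u}) (q : Xt ⟶ Spec (CommRingCat.of R)) [IsSeparated q] [LocallyOfFiniteType q] [QuasiCompact q]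
    (φ : Xt ⟶ XR) (hφ : φ ≫ b = q) (hφη : IsIso (φ ∣_ (b ⁻¹ᵁ η))) :
    ∃ (Y : Scheme.{u}) (ψ : Y ⟶ Xt), IsProper ψ ∧ IsIso ((ψ ≫ φ) ∣_ (b ⁻¹ᵁ η)) ∧
      ∀ (Xb : Scheme.{u}) (pXb : Xb ⟶ Spec (CommRingCat.of k)) [IsProper pXb] (jX : X ⟶ Xb) [IsOpenImmersion jX]
        (hj : jX ≫ pXb = pX)
        (XbR : Scheme.{u}) (ab : XbR ⟶ Xb) (bb : XbR ⟶ Spec (CommRingCat.of R)) (hXbR : IsPullback ab bb pXb (Spec.map (CommRingCat.ofHom (algebraMap k R))))
        (jR : XR ⟶ XbR) (hjR₁ : jR ≫ ab = a ≫ jX) (hjR₂ : jR ≫ bb = b),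
        ∃ (Yb : Scheme.{u}) (qb : Yb ⟶ Spec (CommRingCat.of R)) (_ : IsProper qb) (φb : Yb ⟶ XbR) (_ : φb ≫ bb = qb)
          (_ : IsIso (φb ∣_ (bb ⁻¹ᵁ η))) (e : Y ⟶ Yb) (_ : IsOpenImmersion e),
          e ≫ φb = ψ ≫ φ ≫ jR := by
  refine ⟨Xt, 𝟙 Xt, inferInstance, by rw [Category.id_comp]; exact hφη, ?_⟩
  intro Xb pXb _ jX _ hj XbR ab bb hXbR jR hjR₁ hjR₂
  haveI : IsProper bb := MorphismProperty.of_isPullback hXbR ‹IsProper pXb›
  haveI : IsOpenImmersion jR := by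
    have h1 : IsPullback a jR jX ab :=
      IsPullback.of_bot (by rw [hjR₂, hj]; exact hXR) hjR₁.symm hXbR
    exact MorphismProperty.of_isPullback h1 ‹IsOpenImmersion jX›
  haveI : CompactSpace XbR := QuasiCompact.compactSpace_of_compactSpace bb
  haveI : QuasiSeparatedSpace XbR := quasiSeparatedSpace_of_quasiSeparated bb
  haveI : CompactSpace Xt := QuasiCompact.compactSpace_of_compactSpace q
  let O : XbR.Opens := bb ⁻¹ᵁ η
  let B : XR.Opens := b ⁻¹ᵁ η
  haveI hOc : CompactSpace O.toScheme := by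
    refine isCompact_iff_compactSpace.mp (bb.isCompact_preimage ?_)
    rw [hη]; exact isCompact_singleton
  haveI : IsIso (φ ∣_ B) := hφη
  let j₁ : B.toScheme ⟶ Xt := inv (φ ∣_ B) ≫ (φ ⁻¹ᵁ B).ι
  have hB : Set.range (B.ι ≫ jR) ⊆ Set.range O.ι := by
    rintro _ ⟨z, rfl⟩
    rw [Scheme.Opens.range_ι]
    show bb (jR z.1) ∈ η
    rw [← Scheme.Hom.comp_apply, hjR₂]
    exact z.2
  let j₂ : B.toScheme ⟶ O.toScheme := IsOpenImmersion.lift O.ι (B.ι ≫ jR) hB
  have hj₂ : j₂ ≫ O.ι = B.ι ≫ jR := IsOpenImmersion.lift_fac _ _ _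
  haveI : IsOpenImmersion j₂ := by
    haveI : IsOpenImmersion (j₂ ≫ O.ι) := hj₂ ▸ inferInstance
    exact IsOpenImmersion.of_comp j₂ O.ι
  have hj₁ : j₁ ≫ φ = B.ι := by
    show (inv (φ ∣_ B) ≫ (φ ⁻¹ᵁ B).ι) ≫ φ = B.ι
    rw [Category.assoc, ← morphismRestrict_ι, IsIso.inv_hom_id_assoc]
  have hp : j₁ ≫ φ ≫ jR = j₂ ≫ O.ι := by rw [reassoc_of% hj₁, hj₂]
  haveI : IsSeparated φ := by
    haveI : IsSeparated (φ ≫ b) := hφ ▸ inferInstance
    exact IsSeparated.of_comp φ b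
  haveI : LocallyOfFiniteType φ := by
    haveI : LocallyOfFiniteType (φ ≫ b) := hφ ▸ inferInstance
    exact locallyOfFiniteType_of_comp φ b
  have hin : ∀ x : Xt, (φ ≫ jR) x ∈ O → ∃ z, j₁ z = x := fun x hx => by
    have hxB : x ∈ φ ⁻¹ᵁ B := by
      show b (φ x) ∈ η
      rw [← hjR₂]; exact hx
    refine ⟨(φ ∣_ B) ⟨x, hxB⟩, ?_⟩
    show ((φ ∣_ B) ≫ inv (φ ∣_ B) ≫ (φ ⁻¹ᵁ B).ι) ⟨x, hxB⟩ = x
    rw [IsIso.hom_inv_id_assoc]
    rfl
  have hcl : IsClosed (Set.range (fun z => pullback.lift j₁ j₂ hp z)) := by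
    have : Set.range (fun z => pullback.lift j₁ j₂ hp z) = Set.univ := by
      refine Set.eq_univ_iff_forall.2 fun w => ?_
      obtain ⟨z, hz⟩ := hin (pullback.fst (φ ≫ jR) O.ι w) (by
        rw [← Scheme.Hom.comp_apply, pullback.condition, Scheme.Hom.comp_apply]
        exact (pullback.snd (φ ≫ jR) O.ι w).2)
      refine ⟨z, (pullback.fst (φ ≫ jR) O.ι).isOpenEmbedding.injective ?_⟩
      rw [← Scheme.Hom.comp_apply, pullback.lift_fst, hz]
    rw [this]; exact isClosed_univ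
  obtain ⟨W, q₀, o₁, o₂, hq₀s, hq₀c, hq₀t, ho₁, ho₂, hq₁, hq₂, hglue, hcov, -⟩ :=
    GrothLib.Nagata6.exists_separated_glue (φ ≫ jR) O.ι j₁ j₂ hp hcl
  obtain ⟨P, jc, p₀, hjc, hjcq, hp₀, hjp⟩ := GrothLib.Nagata6.exists_compactification q₀
  haveI : IsOpenImmersion jc.toImage := by
    have h1 : IsPullback (𝟙 W) jc.toImage jc jc.imageι :=
      IsPullback.of_horiz_isIso_mono ⟨by rw [Category.id_comp, Scheme.Hom.toImage_imageι]⟩
    exact MorphismProperty.of_isPullback h1 hjc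
  let φb : jc.image ⟶ XbR := jc.imageι ≫ p₀
  haveI : IsProper φb := inferInstance
  have hto : jc.toImage ≫ φb = q₀ := by
    show jc.toImage ≫ jc.imageι ≫ p₀ = q₀
    rw [Scheme.Hom.toImage_imageι_assoc, hjp]
  let s : O.toScheme ⟶ jc.image := o₂ ≫ jc.toImage
  have hs : s ≫ φb = O.ι := by rw [Category.assoc, hto, hq₂]
  let s' : O.toScheme ⟶ (φb ⁻¹ᵁ O).toScheme := IsOpenImmersion.lift (φb ⁻¹ᵁ O).ι s (by
    rw [Scheme.Opens.range_ι]
    rintro _ ⟨z, rfl⟩
    show φb (s z) ∈ O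
    rw [← Scheme.Hom.comp_apply, hs]
    exact z.2)
  have hs' : s' ≫ (φb ⁻¹ᵁ O).ι = s := IsOpenImmersion.lift_fac _ _ _
  have hsec : s' ≫ (φb ∣_ O) = 𝟙 _ := by
    rw [← cancel_mono O.ι, Category.assoc, morphismRestrict_ι, reassoc_of% hs', hs, Category.id_comp]
  haveI : IsClosedImmersion s' := by
    haveI : IsClosedImmersion (s' ≫ (φb ∣_ O)) := hsec ▸ inferInstance
    exact IsClosedImmersion.of_comp s' (φb ∣_ O)
  haveI : IsOpenImmersion s' := by
    haveI : IsOpenImmersion (s' ≫ (φb ⁻¹ᵁ O).ι) := hs' ▸ inferInstance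
    exact IsOpenImmersion.of_comp s' (φb ⁻¹ᵁ O).ι
  haveI : Surjective s' := ⟨fun y => by
    by_contra hy
    let V : (φb ⁻¹ᵁ O).toScheme.Opens := ⟨(Set.range s')ᶜ, s'.isClosedEmbedding.isClosed_range.isOpen_compl⟩
    have hV : ((φb ⁻¹ᵁ O).ι ''ᵁ V : Set jc.image).Nonempty := ⟨_, ⟨y, hy, rfl⟩⟩
    obtain ⟨_, ⟨v, hv, rfl⟩, w, hw⟩ := jc.toImage.denseRange.inter_open_nonempty _ ((φb ⁻¹ᵁ O).ι ''ᵁ V).2 hV
    have hw' : w ∈ Set.range o₁ ∪ Set.range o₂ := by rw [hcov]; trivial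
    have hgoal : ∀ o, o₂ o = w → False := fun o ho => hv ⟨o, (φb ⁻¹ᵁ O).ι.isOpenEmbedding.injective (by
      rw [← Scheme.Hom.comp_apply, hs']
      exact (congrArg (fun t => jc.toImage t) ho).trans hw)⟩
    rcases hw' with ⟨x, hx⟩ | ⟨o, ho⟩
    · obtain ⟨z, hz⟩ := hin x (by
        rw [← hq₁, Scheme.Hom.comp_apply, hx, ← hto, Scheme.Hom.comp_apply, hw]
        exact v.2)
      refine hgoal (j₂ z) ?_
      rw [← hx, ← hz]
      exact (congr($hglue z)).symm
    · exact hgoal o ho⟩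
  haveI : IsIso s' := (isIso_iff_isOpenImmersion_and_surjective _).2 ⟨inferInstance, inferInstance⟩
  have hiso : IsIso (φb ∣_ O) := IsIso.of_isIso_fac_left hsec
  exact ⟨jc.image, φb ≫ bb, inferInstance, φb, rfl, hiso, o₁ ≫ jc.toImage, inferInstance,
    by rw [Category.assoc, hto, hq₁, Category.id_comp]⟩

end Groth.Agent.S19887
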