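import Groth.Statements.S19889
import Groth.Agent.Lib.GrpSchField.Orbit
import Groth.Agent.Lib.DiagGrp.Homs
import Groth.Agent.Lib.DiagGrp.SubgroupEq
import Groth.Agent.Lib.GrpSchField.Pts
import Groth.Agent.Lib.Rigidity.SmoothGroup
import Groth.Agent.Lib.Rigidity.PointsExt
import Mathlib.AlgebraicGeometry.AlgClosed.Basic
import Groth.Agent.Lib.Rigidity.Component
import Groth.Agent.Lib.GrpSchField.Open
import Groth.Agent.Lib.GrpSchField.Field
-- import your own Groth.Agent.* helpers here

set_option autoImplicit false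
universe u
open CategoryTheory CategoryTheory.Limits MonoidalCategory CartesianMonoidalCategory MonObj GrpObj AlgebraicGeometry
open GrpSch

namespace Groth.Agent.S19889

/-- Let k be an algebraically closed field, G a commutative group scheme locally of finite type over k,
and i : G⁰ → G its identity component (a homomorphism that is an open immersion onto the connected
component of the unit point). Then the natural map from the torsion subgroup of G(k) to the torsion
subgroup of G(k)/G⁰(k) is surjective: if g is a k-point of G and gⁿ lies in G⁰(k) for some n ≥ 1,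
then there is a k-point t of G of finite order such that t⁻¹ g lies in G⁰(k). -/
theorem result (k : Type u) [Field k] [IsAlgClosed k]
    {G G0 : Over (Spec (CommRingCat.of k))} [GrpObj G] [IsCommMonObj G] [GrpObj G0]
    [LocallyOfFiniteType G.hom] (i : G0 ⟶ G) [IsMonHom i] (hi : AutSch.IsIdComp i)
    (g : 𝟙_ (Over (Spec (CommRingCat.of k))) ⟶ G) (n : ℕ) (hn : 0 < n)
    (hg : g ^ n ∈ AutSch.ptsRange i) :
    ∃ t : 𝟙_ (Over (Spec (CommRingCat.of k))) ⟶ G, IsOfFinOrder t ∧ t⁻¹ * g ∈ AutSch.ptsRange i := by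
  classical
  obtain ⟨-, hopen, hrange⟩ := hi
  have : IsOpenImmersion i.left := hopen
  have : Mono i := by
    have : Mono ((Over.forget (Spec (CommRingCat.of k))).map i) := inferInstanceAs (Mono i.left)
    exact (Over.forget _).mono_of_mono_map this
  have hcomm : ∀ {T : Over (Spec (CommRingCat.of k))} (a b : T ⟶ G0), a * b = b * a := fun a b => by
    rw [← cancel_mono i, MonObj.mul_comp, MonObj.mul_comp, mul_comm]
  have hlft : LocallyOfFiniteType G0.hom := by rw [← Over.w i]; infer_instance
  -- G0 is connected, hence irreducible and compact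
  have hconn : ConnectedSpace G0.left := by
    rw [connectedSpace_iff_univ]
    refine ⟨⟨η[G0].left (IsLocalRing.closedPoint k), trivial⟩, ?_⟩
    rw [← i.left.isOpenEmbedding.isInducing.isPreconnected_image, Set.image_univ]
    have e : Set.range i.left.base = connectedComponentIn Set.univ (η[G].left.base (IsLocalRing.closedPoint k)) := by
      rw [hrange]
      have h0 : ∀ p : ↥(𝟙_ (Over (Spec (CommRingCat.of k)))).left, p = IsLocalRing.closedPoint k :=
        fun p => Subsingleton.elim (α := PrimeSpectrum k) _ _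
      have h1 : G.hom.base ⁻¹' {(𝟙_ (Over (Spec (CommRingCat.of k)))).hom.base (IsLocalRing.closedPoint k)} = Set.univ :=
        Set.eq_univ_of_forall fun _ => Subsingleton.elim (α := PrimeSpectrum k) _ _
      refine Set.Subset.antisymm ?_ ?_
      · refine Set.iUnion_subset fun p => ?_
        rw [h0 p, h1]
      · exact h1 ▸ Set.subset_iUnion_of_subset (IsLocalRing.closedPoint k) subset_rfl
    rw [e]
    exact isPreconnected_connectedComponentIn
  have hirr : IrreducibleSpace G0.left := GrothLib.Rigidity.irreducibleSpace_of_connected G0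
  have hcpt : CompactSpace G0.left := by
    obtain ⟨_, ⟨W, hW, rfl⟩, hxW, -⟩ := G0.left.isBasis_affineOpens.exists_subset_of_mem_open
      (a := η[G0].left (IsLocalRing.closedPoint k)) (Set.mem_univ _) isOpen_univ
    have hd : Dense (W : Set G0.left) := W.2.dense ⟨_, hxW⟩
    refine ⟨?_⟩
    have h1 := (GrothLib.GrpSchField.isCompact_pairs G0 hW.isCompact).image μ[G0].left.continuous
    convert h1
    refine (Set.eq_univ_of_forall fun x => ?_).symm
    obtain ⟨q, hq1, hq2, hq3⟩ := GrothLib.GrpSchField.exists_mul_mem_of_dense G0 W.2 hd hd x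
    exact ⟨q, ⟨hq1, hq2⟩, hq3⟩
  have : QuasiCompact G0.hom := (quasiCompact_iff_compactSpace _).mpr hcpt
  have hnoeth : IsLocallyNoetherian G0.left := LocallyOfFiniteType.isLocallyNoetherian G0.hom
  have : AlgebraicGeometry.IsNoetherian G0.left := {}
  have hsep : IsSeparated G0.hom := GrothLib.GrpSchField.isSeparated G0
  -- closed images of the power maps
  let ψ : ℕ → (G0 ⟶ G0) := fun m => (𝟙 G0) ^ (n ^ m)
  have hψpt : ∀ m {T : Over (Spec (CommRingCat.of k))} (a : T ⟶ G0), a ≫ ψ m = a ^ (n ^ m) := fun m T a => by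
    rw [MonObj.comp_pow, Category.comp_id]
  have hψmon : ∀ m, IsMonHom (ψ m) := fun m => GrothLib.DiagGrp.isMonHom_of_points _ fun T a b => by
    rw [hψpt, hψpt, hψpt]
    exact Commute.mul_pow (hcomm a b) _
  have hcl : ∀ m, IsClosed (Set.range (ψ m).left) := fun m => by
    have := hψmon m
    refine GrothLib.GrpSchField.isClosed_range_of_isLocallyClosed (ψ m) ?_
    have e : (GrothLib.DiagGrp.translAction (ψ m)).orbitMap η[G0] = ψ m := by
      refine (GrothLib.DiagGrp.lift_transl (ψ m) (𝟙 G0) (toUnit G0 ≫ η[G0])).trans ?_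
      rw [Category.id_comp, ← Hom.one_def, _root_.mul_one]
    have : QuasiCompact (ψ m).left := by
      have : QuasiCompact ((ψ m).left ≫ G0.hom) := by rw [Over.w (ψ m)]; infer_instance
      exact QuasiCompact.of_comp (ψ m).left G0.hom
    have : QuasiCompact ((GrothLib.DiagGrp.translAction (ψ m)).orbitMap η[G0]).left := by rw [e]; infer_instance
    have h := GrothLib.GrpSchField.isLocallyClosed_range_orbitMap (GrothLib.DiagGrp.translAction (ψ m)) η[G0]
    rwa [e] at h
  let C : ℕ →o (TopologicalSpace.Closeds G0.left)ᵒᵈ :=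
    ⟨fun m => OrderDual.toDual ⟨Set.range (ψ m).left, hcl m⟩, monotone_nat_of_le_succ fun m => by
      change Set.range (ψ (m + 1)).left ⊆ Set.range (ψ m).left
      have e : ψ (m + 1) = ((𝟙 G0) ^ n) ≫ ψ m := by
        rw [hψpt]
        change (𝟙 G0) ^ (n ^ (m + 1)) = _
        rw [← pow_mul, pow_succ']
      rw [e, Over.comp_left, Scheme.Hom.comp_base, TopCat.coe_comp]
      exact Set.range_comp_subset_range _ _⟩
  obtain ⟨M, hM⟩ := WellFoundedGT.monotone_chain_condition C
  obtain ⟨h, hh⟩ := (AutSch.mem_ptsRange_iff i _).mp hg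
  have hstab : (h ≫ ψ M).left (IsLocalRing.closedPoint k) ∈ Set.range (ψ (M + 1)).left := by
    have := congrArg (fun c : (TopologicalSpace.Closeds G0.left)ᵒᵈ => ((OrderDual.ofDual c : TopologicalSpace.Closeds G0.left) : Set G0.left)) (hM (M + 1) (Nat.le_succ M))
    change Set.range (ψ M).left = Set.range (ψ (M + 1)).left at this
    rw [← this, Over.comp_left, Scheme.Hom.comp_apply]
    exact Set.mem_range_self _
  have : JacobsonSpace G0.left := LocallyOfFiniteType.jacobsonSpace (Y := Spec _) G0.hom
  set y := (h ≫ ψ M).left (IsLocalRing.closedPoint k)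
  have hy : IsClosed ({y} : Set G0.left) := GrothLib.Rigidity.isClosed_point (h ≫ ψ M)
  obtain ⟨x, hxy, hx⟩ := nonempty_inter_closedPoints
    (Z := (ψ (M + 1)).left ⁻¹' {y}) hstab ((hy.preimage (ψ (M + 1)).left.continuous).isLocallyClosed)
  obtain ⟨b, hb⟩ := GrothLib.Rigidity.exists_point_over G0 x hx
  have hbeq : b ≫ ψ (M + 1) = h ≫ ψ M := by
    apply Over.OverMorphism.ext
    refine ext_of_apply_closedPoint_eq G0.hom (Over.w _) (Over.w _) ?_
    rw [Over.comp_left, Scheme.Hom.comp_apply, hb]
    exact hxy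
  rw [hψpt, hψpt] at hbeq
  refine ⟨g * (b ≫ i)⁻¹, ?_, (AutSch.mem_ptsRange_iff i _).mpr ⟨b, ?_⟩⟩
  · refine isOfFinOrder_iff_pow_eq_one.mpr ⟨n ^ (M + 1), Nat.pow_pos hn, ?_⟩
    have e : ∀ (a : 𝟙_ (Over (Spec (CommRingCat.of k))) ⟶ G0) (l : ℕ), (a ≫ i) ^ l = (a ^ l) ≫ i :=
      fun a l => (map_pow (IsMonHom.monoidHom i _) a l).symm
    rw [mul_pow, inv_pow, e, hbeq, ← e, hh, ← pow_mul, ← pow_succ', mul_inv_cancel]
  · rw [_root_.mul_inv, _root_.inv_inv, mul_comm g⁻¹, _root_.mul_assoc, inv_mul_cancel, _root_.mul_one]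

end Groth.Agent.S19889
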