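import Groth.Statements.S19890
import Mathlib.RingTheory.Flat.EquationalCriterion
import Mathlib.RingTheory.UniqueFactorizationDomain.Kaplansky
import Mathlib.RingTheory.Flat.FaithfullyFlat.Algebra
import Mathlib.RingTheory.Ideal.AssociatedPrime.Localization
-- import your own Groth.Agent.* helpers here

set_option autoImplicit false
universe u
open CAlg

namespace Groth.Agent.S19890

/-- Let R → R' be a faithfully flat ring map between Noetherian integrally closed local domains. Then
unique factorization descends along this map: when R' is a UFD, so is R. (The first assertion of the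
lemma, descent of principality for an ideal whose extension to R' is principal, is a separate
statement.) -/
theorem result
    (R R' : Type u) [CommRing R] [CommRing R'] [IsDomain R] [IsDomain R']
    [IsNoetherianRing R] [IsNoetherianRing R'] [IsLocalRing R] [IsLocalRing R']
    [IsIntegrallyClosed R] [IsIntegrallyClosed R']
    [Algebra R R'] [Module.FaithfullyFlat R R'] [UniqueFactorizationMonoid R'] :
    UniqueFactorizationMonoid R := by
  classical
  rw [UniqueFactorizationMonoid.iff_exists_prime_mem_of_isPrime]
  intro I hI hIp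
  obtain ⟨a, haI, ha⟩ := Submodule.exists_mem_ne_zero_of_ne_bot hI
  obtain ⟨p, hp, hpI⟩ := Ideal.exists_minimalPrimes_le ((Ideal.span_singleton_le_iff_mem I).2 haI)
  have hpp : p.IsPrime := hp.1.1
  have hap : a ∈ p := (Ideal.span_singleton_le_iff_mem p).1 hp.1.2
  -- p = (a) : b
  have hass : p ∈ associatedPrimes R (R ⧸ Ideal.span {a}) := by
    refine Module.associatedPrimes.minimalPrimes_annihilator_subset_associatedPrimes R _ ?_
    rwa [Ideal.annihilator_quotient]
  obtain ⟨-, z, hz⟩ := isAssociatedPrime_iff.1 hass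
  obtain ⟨b, rfl⟩ := Ideal.Quotient.mk_surjective z
  have hmem : ∀ r, r ∈ p ↔ ∃ v, r * b = v * a := fun r => by
    rw [hz, Submodule.mem_colon_singleton, Submodule.mem_bot]
    show r • Ideal.Quotient.mk _ b = 0 ↔ _
    rw [Algebra.smul_def, Ideal.Quotient.algebraMap_eq, ← map_mul, Ideal.Quotient.eq_zero_iff_mem,
      Ideal.mem_span_singleton']
    exact exists_congr fun v => eq_comm
  let φ := algebraMap R R'
  have hinj : Function.Injective φ := FaithfulSMul.algebraMap_injective R R'
  have ha' : φ a ≠ 0 := fun h => ha (hinj (h.trans (map_zero φ).symm))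
  -- p R' is principal
  obtain ⟨g, hg⟩ : ∃ g : R', p.map φ = Ideal.span {g} := by
    obtain ⟨a', b', c', hrel, hca, hcb⟩ := UniqueFactorizationMonoid.exists_reduced_factors (φ a) ha' (φ b)
    have hc : c' ≠ 0 := fun h => ha' (by rw [← hca, h, zero_mul])
    refine ⟨a', le_antisymm (Ideal.map_le_iff_le_comap.2 fun r hr => ?_) ?_⟩
    · obtain ⟨v, hv⟩ := (hmem r).1 hr
      rw [Ideal.mem_comap, Ideal.mem_span_singleton]
      refine hrel.dvd_of_dvd_mul_right ⟨φ v, mul_left_cancel₀ hc ?_⟩
      have h := congrArg φ hv
      rw [map_mul, map_mul, ← hca, ← hcb] at h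
      linear_combination h
    · rw [Ideal.span_le, Set.singleton_subset_iff]
      have hrelation : ∑ i : Fin 2, ![b, a] i • ![a', -b'] i = 0 := by
        rw [Fin.sum_univ_two]
        simp only [Matrix.cons_val_zero, Matrix.cons_val_one, Algebra.smul_def]
        show φ b * a' + φ a * -b' = 0
        rw [← hca, ← hcb]
        ring
      obtain ⟨m, A, y, hx, hA⟩ := Module.Flat.isTrivialRelation_of_sum_smul_eq_zero hrelation
      have h0 := hx 0
      simp only [Matrix.cons_val_zero] at h0
      rw [h0]
      refine Submodule.sum_mem _ fun j _ => ?_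
      rw [Algebra.smul_def]
      refine Ideal.mul_mem_right _ _ (Ideal.mem_map_of_mem φ ((hmem _).2 ⟨-A 1 j, ?_⟩))
      have := hA j
      rw [Fin.sum_univ_two] at this
      simp only [Matrix.cons_val_zero, Matrix.cons_val_one] at this
      linear_combination this
  -- p is principal
  have hgm : g ∈ p.map φ := hg ▸ Ideal.mem_span_singleton_self g
  have hg0 : g ≠ 0 := fun h => ha' (by
    have := Ideal.mem_map_of_mem φ hap
    rwa [hg, h, Ideal.span_singleton_zero, Ideal.mem_bot] at this)
  obtain ⟨x, hx, hxu⟩ : ∃ x ∈ p, ∃ u : R', IsUnit u ∧ φ x = u * g := by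
    by_contra hne
    push Not at hne
    have hle : p.map φ ≤ IsLocalRing.maximalIdeal R' * Ideal.span {g} := by
      refine Ideal.map_le_iff_le_comap.2 fun x hx => ?_
      obtain ⟨u, hu⟩ := Ideal.mem_span_singleton'.1 (hg ▸ Ideal.mem_map_of_mem φ hx)
      rw [Ideal.mem_comap, ← hu]
      refine Ideal.mul_mem_mul ((IsLocalRing.mem_maximalIdeal _).2 fun huu => hne x hx u huu hu.symm)
        (Ideal.mem_span_singleton_self g)
    obtain ⟨m, hm, hmg⟩ := Ideal.mem_mul_span_singleton.1 (hle hgm)
    have : m = 1 := mul_right_cancel₀ hg0 (by rw [hmg, one_mul])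
    exact (IsLocalRing.maximalIdeal.isMaximal R').ne_top ((Ideal.eq_top_iff_one _).2 (this ▸ hm))
  obtain ⟨u, hu, hxu⟩ := hxu
  have hmap : p.map φ = (Ideal.span {x}).map φ := by
    rw [Ideal.map_span, Set.image_singleton, hxu, Ideal.span_singleton_mul_left_unit hu, hg]
  have hpx : p = Ideal.span {x} := by
    have h := congrArg (Ideal.comap φ) hmap
    rwa [Ideal.comap_map_eq_self_of_faithfullyFlat, Ideal.comap_map_eq_self_of_faithfullyFlat] at h
  have hx0 : x ≠ 0 := fun h => ha (by rw [hpx, h, Ideal.span_singleton_zero, Ideal.mem_bot] at hap; exact hap)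
  exact ⟨x, hpI hx, (Ideal.span_singleton_prime hx0).1 (hpx ▸ hpp)⟩

end Groth.Agent.S19890
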