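import Groth.Statements.S19892
import Groth.Agent.Lib.DVRDom.Scheme

set_option autoImplicit false
universe u
open CategoryTheory AlgebraicGeometry
open ValCrit

namespace Groth.Agent.S19892

/-- Let h : Z → Y and f : Y → X be morphisms of quasi-compact quasi-separated schemes, with h dominant
and f locally of finite type. Then f is proper if and only if the following refined valuative
criterion holds: for every point z of Z, every valuation ring R of the residue field κ(z) and every
morphism φ : Spec R → X whose restriction to Spec κ(z) is the canonical morphism Spec κ(z) → Z → Y →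
X, there is exactly one morphism Spec R → Y lying over φ and restricting to Spec κ(z) → Z → Y on the
generic point. (The published statement does not require h to be dominant; its proof uses that every
point of Y generalises to a point of h(Z), and for Z empty the criterion holds whatever f is, so
dominance of h is assumed here.) -/
theorem result {X Y Z : Scheme.{u}} (h : Z ⟶ Y) (f : Y ⟶ X)
    [CompactSpace ↥Z] [QuasiSeparatedSpace ↥Z] [CompactSpace ↥Y] [QuasiSeparatedSpace ↥Y]
    [CompactSpace ↥X] [QuasiSeparatedSpace ↥X] (hd : DenseRange h.base)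
    [LocallyOfFiniteType f] :
    IsProper f ↔
      ∀ (z : ↥Z) (R : ValuationSubring ↑(Z.residueField z)) (φ : Spec (CommRingCat.of ↥R) ⟶ X),
        Spec.map (CommRingCat.ofHom R.subtype) ≫ φ = Z.fromSpecResidueField z ≫ h ≫ f →
        ∃! φ' : Spec (CommRingCat.of ↥R) ⟶ Y,
          Spec.map (CommRingCat.ofHom R.subtype) ≫ φ' = Z.fromSpecResidueField z ≫ h ∧ φ' ≫ f = φ := by
  constructor
  · intro hP z R φ w
    have hE : ValuativeCriterion.Existence f :=
      (UniversallyClosed.eq_valuativeCriterion.{u}.le _ _ _ hP.toUniversallyClosed).1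
    obtain ⟨l, hl, hl'⟩ := GrothLib.DVRDom.exists_lift_of_existence (K := Z.residueField z) hE
      (Z.fromSpecResidueField z ≫ h) φ ((Category.assoc _ _ _).trans w.symm)
    exact ⟨l, ⟨hl', hl⟩, fun l' h' ↦
      GrothLib.DVRDom.eq_of_isSeparated (K := Z.residueField z) f l' l (h'.2.trans hl.symm) (h'.1.trans hl'.symm)⟩
  intro H
  have : QuasiSeparated f := QuasiSeparated.of_quasiSeparatedSpace f
  have : QuasiCompact (h ≫ Limits.terminal.from Y) := inferInstance
  have : QuasiCompact h := QuasiCompact.of_comp h (Limits.terminal.from Y)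
  have : QuasiCompact (f ≫ Limits.terminal.from X) := inferInstance
  have : QuasiCompact f := QuasiCompact.of_comp f (Limits.terminal.from X)
  have hd' : ∀ y : Y, ∃ z, True ∧ h.base z ⤳ y := fun y ↦ by
    obtain ⟨z, hz⟩ := GrothLib.DVRDom.exists_specializes_of_denseRange h hd y
    exact ⟨z, trivial, hz⟩
  have : IsSeparated f := by
    have hE : ValuativeCriterion.Existence (Limits.pullback.diagonal f) :=
      GrothLib.DVRDom.existence_of_lifts_of_isSeparated (Limits.pullback.diagonal f) h (fun _ ↦ True) hd'
        (fun _ _ ↦ True)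
        (fun z V₀ _ _ C _ _ _ ↦ by
          obtain ⟨V, hV⟩ := C.exists_le_valuationSubring
          exact ⟨V, trivial, hV⟩)
        (fun z V _ _ ↦ GrothLib.DVRDom.lifts_diagonal (L := Z.residueField z) f _ V fun l₁ l₂ hl h₁ h₂ ↦
          (H z V (l₁ ≫ f) (by rw [← Category.assoc, h₁]; exact Category.assoc _ _ _)).unique
            ⟨h₁, rfl⟩ ⟨h₂, hl.symm⟩)
    have := UniversallyClosed.of_valuativeCriterion (Limits.pullback.diagonal f) hE
    exact ⟨IsClosedImmersion.of_isPreimmersion _ (Limits.pullback.diagonal f).isClosedMap.isClosed_range⟩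
  have : UniversallyClosed f := by
    refine UniversallyClosed.of_valuativeCriterion f
      (GrothLib.DVRDom.existence_of_lifts_of_isSeparated f h (fun _ ↦ True) hd' (fun _ _ ↦ True)
        (fun z V₀ _ _ C _ _ _ ↦ by
          obtain ⟨V, hV⟩ := C.exists_le_valuationSubring
          exact ⟨V, trivial, hV⟩) ?_)
    intro z V _ _ y w
    obtain ⟨l, ⟨hl, hl'⟩, -⟩ := H z V y (w.trans (Category.assoc _ _ _))
    exact ⟨l, hl', hl⟩
  exact {}

end Groth.Agent.S19892
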