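import Groth.Statements.S19893
import Groth.Agent.Lib.Chev24.Divisible
import Groth.Agent.Lib.Chevalley.AffineQuot
import Groth.Agent.Lib.SplitTors24.Point
import Groth.Agent.Lib.QuotTorus14.Basic
import Groth.Agent.Lib.KerDiag14.Basic
import Groth.Agent.Lib.GrpSchField.HomFlat
import Groth.Agent.Lib.CurveLocus.Basic
import Groth.Agent.Lib.Dim.QuasiFinite
import Groth.Agent.Lib.Neutral.ArtinHom
import Groth.Agent.Lib.Cube.Square
import Groth.Agent.Lib.GrpDeligne.AbVar
import Groth.Agent.Lib.RedSmooth.Basic
import Groth.Agent.Lib.DiagGrp.KernelFP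
import Mathlib
-- import your own Groth.Agent.* helpers here

set_option autoImplicit false
universe u
open CategoryTheory CategoryTheory.Limits MonoidalCategory CartesianMonoidalCategory AlgebraicGeometry MonObj
open Neron

namespace Groth.Agent.S19893

/-- Let k be a field and P a pseudo-abelian variety over k, that is a smooth connected commutative
k-group scheme of finite type all of whose smooth connected affine closed subgroup schemes are
trivial. Suppose P is an extension 0 → E → P → V → 0 with E → P a closed immersion that is the
kernel of a surjective homomorphism P → V, where E is an abelian variety over k (proper, smooth,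
geometrically integral) and V is a smooth connected affine k-group whose base change to an algebraic
closure of k contains no non-trivial subtorus. Suppose L is a finite, purely inseparable field
extension of k such that the base change P_L is likewise an extension 0 → H → P_L → A → 0 with H a
smooth connected affine L-group having no non-trivial subtorus over an algebraic closure of L and A
an abelian variety over L of dimension g (so that g is the virtual abelian rank of P). Then the
dimension of E equals g. (Both extensions are taken as data: their existence is a result of the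
literature that the source quotes. The second assertion of the proposition, on good reduction, is
not part of this statement. The source works over the fraction field of an excellent discrete
valuation ring of characteristic p > 0; the assertion and its argument use only the field, so k is
an arbitrary field here.) -/
theorem result
    (k : Type u) [Field k]
    (P : Over (Spec (CommRingCat.of k))) [GrpObj P] [IsCommMonObj P]
    [Smooth P.hom] [LocallyOfFiniteType P.hom] [QuasiCompact P.hom] [ConnectedSpace ↥P.left]
    (hP : ∀ (H : Over (Spec (CommRingCat.of k))) [GrpObj H] (j : H ⟶ P) [IsMonHom j],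
      IsClosedImmersion j.left → Smooth H.hom → ConnectedSpace ↥H.left → IsAffine H.left → IsIso η[H])
    (E V : Over (Spec (CommRingCat.of k))) [GrpObj E] [GrpObj V]
    (iE : E ⟶ P) [IsMonHom iE] (q : P ⟶ V) [IsMonHom q]
    (hiE : IsClosedImmersion iE.left) (hkerE : AlgGrp.IsKernel iE q) (hq : Surjective q.left)
    [IsProper E.hom] [Smooth E.hom] [GeometricallyIntegral E.hom]
    [Smooth V.hom] [ConnectedSpace ↥V.left] [IsAffine V.left]
    (hV : Red.HasNoSubtorus (AlgebraicClosure k)
      (Red.bc (Spec.map (CommRingCat.ofHom (algebraMap k (AlgebraicClosure k)))) V))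
    (L : Type u) [Field L] [Algebra k L] [FiniteDimensional k L] [IsPurelyInseparable k L]
    (H A : Over (Spec (CommRingCat.of L))) [GrpObj H] [GrpObj A]
    (i : H ⟶ Red.bc (Spec.map (CommRingCat.ofHom (algebraMap k L))) P) [IsMonHom i] (π : Red.bc (Spec.map (CommRingCat.ofHom (algebraMap k L))) P ⟶ A) [IsMonHom π]
    (hi : IsClosedImmersion i.left) (hker : AlgGrp.IsKernel i π) (hπ : Surjective π.left)
    [Smooth H.hom] [ConnectedSpace ↥H.left] [IsAffine H.left]
    (hH : Red.HasNoSubtorus (AlgebraicClosure L) (Red.bc (Spec.map (CommRingCat.ofHom (algebraMap L (AlgebraicClosure L)))) H))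
    [IsProper A.hom] [Smooth A.hom] [GeometricallyIntegral A.hom]
    (g : ℕ) (hg : topologicalKrullDim ↥A.left = g) :
    topologicalKrullDim ↥E.left = g := by
  let j : Spec (CommRingCat.of L) ⟶ Spec (CommRingCat.of k) := Spec.map (CommRingCat.ofHom (algebraMap k L))
  let e : Red.bc j E ⟶ Red.bc j P := (Over.pullback j).map iE
  let v : Red.bc j P ⟶ Red.bc j V := (Over.pullback j).map q
  haveI : IsMonHom e := inferInstanceAs (IsMonHom ((Over.pullback j).map iE))
  haveI : IsMonHom v := inferInstanceAs (IsMonHom ((Over.pullback j).map q))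
  have hkL : AlgGrp.IsKernel e v := GrothLib.SplitTors24.isKernel_bc j hkerE
  haveI : IsProper (Red.bc j E).hom := inferInstanceAs (IsProper (pullback.snd E.hom j))
  haveI : LocallyOfFiniteType (Red.bc j P).hom := inferInstanceAs (LocallyOfFiniteType (pullback.snd P.hom j))
  haveI : QuasiCompact (Red.bc j P).hom := inferInstanceAs (QuasiCompact (pullback.snd P.hom j))
  haveI : Smooth (Red.bc j V).hom := inferInstanceAs (Smooth (pullback.snd V.hom j))
  haveI : IsAffineHom V.hom := isAffineHom_of_isAffine _
  haveI : IsAffineHom (Red.bc j V).hom := inferInstanceAs (IsAffineHom (pullback.snd V.hom j))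
  haveI : IsAffine (Red.bc j V).left := isAffine_of_isAffineHom (Red.bc j V).hom
  haveI : IsReduced (Red.bc j V).left := GrothLib.RedSmooth.isReduced_of_smooth (Red.bc j V).hom
  haveI : Surjective v.left := MorphismProperty.pullbackLift_fst_snd j (Over.w q).symm hq
  haveI : QuasiCompact v.left := by
    haveI : QuasiCompact (v.left ≫ (Red.bc j V).hom) := by rw [Over.w]; infer_instance
    exact QuasiCompact.of_comp v.left (Red.bc j V).hom
  haveI : Flat v.left := GrothLib.GrpSchField.flat_hom v
  haveI : IsSeparated (Red.bc j P).hom := GrothLib.GrpSchField.isSeparated _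
  haveI : IsClosedImmersion e.left :=
    MorphismProperty.of_isPullback (GrothLib.FibreLocus.isPullback_map_left iE j).flip hiE
  haveI : IsSeparated A.hom := inferInstance
  haveI : IsReduced A.left := GrothLib.RedSmooth.isReduced_of_smooth A.hom
  let φ : Red.bc j E ⟶ A := e ≫ π
  haveI : IsProper φ.left := by
    haveI : IsProper (φ.left ≫ A.hom) := by rw [Over.w]; infer_instance
    exact IsProper.of_comp φ.left A.hom
  -- the image of the abelian subvariety
  obtain ⟨I, _, p, i', hp, hi', hpi, hps, hpf, -, hm, hIlft, -⟩ := GrothLib.Neutral.exists_factor_field φ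
  haveI := hp; haveI := hi'; haveI := hm; haveI := hps; haveI := hIlft
  haveI := (GrothLib.Neutral.isClosedImmersion_factor φ hpi).1
  haveI := GrothLib.Cube.isCommMonObj_abVar (A := A)
  have hIn : AlgGrp.IsNormalHom i' := fun T g n => ⟨n, by rw [mul_inv_eq_iff_eq_mul, _root_.mul_comm]⟩
  obtain ⟨Q, _, r, hr, hQs, hQq, hrf, hrs, -, hkr⟩ := GrothLib.Chev24.exists_quot i' hIn
  haveI := hr; haveI := hQs; haveI := hQq; haveI := hrf; haveI := hrs
  haveI : IsSeparated Q.hom := GrothLib.GrpSchField.isSeparated Q
  have hφr : φ ≫ r = 1 := by
    rw [← hpi, Category.assoc, GrothLib.GrpSchField.comp_eq_one hkr, MonObj.comp_one]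
  -- it descends to the affine quotient
  have hlfp : LocallyOfFinitePresentation v.left := by
    haveI : IsNoetherianRing (CommRingCat.of L) := inferInstanceAs (IsNoetherianRing L)
    haveI : LocallyOfFinitePresentation (v.left ≫ (Red.bc j V).hom) := by rw [Over.w]; infer_instance
    exact GrothLib.DiagGrp.lfp_of_comp_of_lft _ (Red.bc j V).hom ‹_› inferInstance
  haveI := hlfp
  obtain ⟨d, hd⟩ := GrothLib.QuotTorus14.exists_desc v (π ≫ r) fun C _ x a a' h => by
    have h1 : (a⁻¹ * a') ≫ v = 1 := by rw [MonObj.mul_comp, GrpObj.inv_comp, h, inv_mul_cancel]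
    rw [Hom.one_def] at h1
    have h2 : IsPullback.lift hkL (a⁻¹ * a') (toUnit _) h1 ≫ e = a⁻¹ * a' := IsPullback.lift_fst hkL _ _ h1
    have h3 : (a⁻¹ * a') ≫ π ≫ r = 1 := by
      rw [← h2, Category.assoc, show e ≫ π ≫ r = φ ≫ r from (Category.assoc _ _ _).symm, hφr, MonObj.comp_one]
    rwa [MonObj.mul_comp, GrpObj.inv_comp, inv_mul_eq_one] at h3
  haveI : IsMonHom (v ≫ d) := by rw [hd]; infer_instance
  haveI : IsMonHom d := GrothLib.QuotTorus14.isMonHom_desc v d
  haveI : Surjective π.left := hπ
  haveI : Surjective (π ≫ r).left := by rw [Over.comp_left]; infer_instance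
  haveI : Surjective d.left := by
    haveI : Surjective (v.left ≫ d.left) := by rw [← Over.comp_left, hd]; infer_instance
    exact Surjective.of_comp v.left d.left
  haveI : IsAffine Q.left := GrothLib.Chevalley.isAffine_of_surjective_hom d
  haveI : UniversallyClosed Q.hom := by
    haveI : UniversallyClosed (r.left ≫ Q.hom) := by rw [Over.w]; infer_instance
    exact UniversallyClosed.of_comp_surjective r.left Q.hom
  haveI : IsProper Q.hom := { }
  haveI : IsFinite Q.hom := IsFinite.iff_isProper_and_isAffineHom.2 ⟨‹_›, isAffineHom_of_isAffine _⟩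
  haveI : IsIntegral A.left := GeometricallyIntegral.isIntegral_of_subsingleton A.hom
  haveI : ConnectedSpace A.left := inferInstance
  haveI : ConnectedSpace Q.left := r.left.surjective.connectedSpace r.left.continuous
  haveI : Subsingleton ↥Q.left := by
    haveI : DiscreteTopology ↥Q.left := by
      have hu : ∀ s, Q.hom ⁻¹' {s} = Set.univ := fun s => Set.eq_univ_of_forall fun _ => Subsingleton.elim _ _
      refine discreteTopology_iff_isOpen_singleton.mpr fun z => ?_
      have h1 := Q.hom.isDiscrete_preimage_singleton (Q.hom z)
      rw [hu] at h1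
      haveI := isDiscrete_univ_iff.mp h1
      exact isOpen_discrete _
    exact PreconnectedSpace.trivial_of_discrete
  haveI : Surjective i'.left := by
    haveI : Surjective η[Q].left := ⟨fun x => ⟨IsLocalRing.closedPoint L, Subsingleton.elim _ _⟩⟩
    exact MorphismProperty.of_isPullback (hkr.map (Over.forget _)).flip ‹Surjective η[Q].left›
  haveI : Surjective φ.left := by rw [← hpi, Over.comp_left]; infer_instance
  -- the kernel is finite
  let K₀ := pullback φ η[A]
  let iK : K₀ ⟶ Red.bc j E := pullback.fst φ η[A]
  have hK₀ : AlgGrp.IsKernel iK φ := by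
    show IsPullback _ _ _ _
    rw [Subsingleton.elim (toUnit _) (pullback.snd φ η[A])]
    exact IsPullback.of_hasPullback φ η[A]
  obtain ⟨_, _⟩ := GrothLib.GrpDeligne.exists_grpObj_kernel φ iK hK₀
  haveI := GrothLib.GrpSchField.unit_isClosedImmersion A
  haveI : IsClosedImmersion iK.left :=
    MorphismProperty.of_isPullback (hK₀.map (Over.forget _)).flip (inferInstanceAs (IsClosedImmersion η[A].left))
  have hw : (iK ≫ e) ≫ π = toUnit K₀ ≫ η[A] := by rw [Category.assoc]; exact hK₀.w
  let l : K₀ ⟶ H := IsPullback.lift hker (iK ≫ e) (toUnit K₀) hw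
  have hl : l ≫ i = iK ≫ e := IsPullback.lift_fst hker _ _ hw
  haveI : IsClosedImmersion l.left := by
    haveI : IsClosedImmersion (l.left ≫ i.left) := by
      rw [← Over.comp_left, hl, Over.comp_left]; infer_instance
    haveI := hi
    exact IsClosedImmersion.of_comp l.left i.left
  haveI : IsAffine K₀.left := isAffine_of_isAffineHom l.left
  haveI : IsProper K₀.hom := by rw [← Over.w iK]; infer_instance
  haveI : IsFinite K₀.hom := IsFinite.iff_isProper_and_isAffineHom.2 ⟨‹_›, isAffineHom_of_isAffine _⟩
  haveI : LocallyQuasiFinite φ.left := (GrothLib.KerDiag14.lqf_iff φ iK hK₀).2.1.2 inferInstance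
  haveI : IsFinite φ.left := (IsFinite.iff_isProper_and_locallyQuasiFinite _).2 ⟨inferInstance, inferInstance⟩
  haveI : GeometricallyIntegral (Red.bc j E).hom := inferInstanceAs (GeometricallyIntegral (pullback.snd E.hom j))
  haveI : IsIntegral (Red.bc j E).left := GeometricallyIntegral.isIntegral_of_subsingleton (Red.bc j E).hom
  obtain ⟨n, hn, hn'⟩ := GrothLib.Dim.dim_closure_range_eq φ.left A.hom
  have hu : closure (Set.range φ.left) = Set.univ := by rw [φ.left.surjective.range_eq, closure_univ]
  rw [hu, (IsHomeomorph.topologicalKrullDim_eq _ (Homeomorph.Set.univ ↥A.left).isHomeomorph)] at hn'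
  have h3 : topologicalKrullDim ↥(Red.bc j E).left = topologicalKrullDim ↥E.left :=
    (IsHomeomorph.topologicalKrullDim_eq _ (Scheme.homeoOfIso (pullbackSymmetry E.hom j)).isHomeomorph).trans
      (GrothLib.CurveLocus.topologicalKrullDim_pullback E.hom L)
  rw [← h3, hn, ← hn', hg]

end Groth.Agent.S19893
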