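import Groth.Statements.S19895
-- import your own Groth.Agent.* helpers here
import Groth.Agent.Lib.Verlinde.Schur

set_option autoImplicit false
open Complex
open VerlindeComb

namespace Groth.Agent.S19895

/-- Fix integers r ≥ 2 and k ≥ 1, and two partitions λ, λ' with k ≥ λ_1 ≥ ⋯ ≥ λ_{r-1} ≥ λ_r = 0 and k ≥
λ'_1 ≥ ⋯ ≥ λ'_{r-1} ≥ λ'_r = 0 such that λ is not equivalent to the dual partition λ'* = (k − λ'_r,
…, k − λ'_1), two integer vectors being equivalent when their difference is a constant vector (a, …,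
a). For an integer vector v with r + k > v_1 > ⋯ > v_{r-1} > v_r = 0 put z(v)_j = exp(2πi v_j / (r +
k)), let S_μ(v) = det(z(v)_j^{μ_i + r − i}) / det(z(v)_j^{r − i}) be the Schur value and P(v) =
∏_{i<j} (2 sin(π (v_i − v_j)/(r + k)))². Then the sum over all such v of exp(−2πi (|λ| + |λ'|) (v_1
+ ⋯ + v_r) / (r (r + k))) · S_λ(v) · S_{λ'}(v) · P(v) vanishes; that is, the genus-zero Verlinde
number of rank r, degree 0 and level k with two parabolic points of types λ, λ' is zero. (Only the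
vanishing case is stated; the complementary case, where the number equals 1, is not part of this
statement. The source allows r = 1, where the non-equivalence hypothesis cannot hold.) Indices are
0-based below: lam i stands for λ_{i+1}. -/
theorem result (r k : ℕ) (hr : 2 ≤ r)
    (hk : 1 ≤ k) (lam lam' : Fin r → ℕ) (hlam : Antitone lam) (hlamk : ∀ i, lam i ≤ k)
    (hlam0 : ∀ i : Fin r, (i : ℕ) = r - 1 → lam i = 0)
    (hlam' : Antitone lam') (hlam'k : ∀ i, lam' i ≤ k) (hlam'0 : ∀ i : Fin r, (i : ℕ) = r - 1 → lam' i = 0)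
    (hne : ¬ ∃ a : ℤ, ∀ i, (lam i : ℤ) - ((k - lam' (Fin.rev i) : ℕ) : ℤ) = a)
    (z : (Fin r → ℕ) → Fin r → ℂ)
    (hz : ∀ v j, z v j = Complex.exp (2 * Real.pi * Complex.I * (v j : ℂ) / ((r : ℂ) + k)))
    (S : (Fin r → ℕ) → (Fin r → ℕ) → ℂ)
    (hS : ∀ μ v, S μ v = (Matrix.of fun i j : Fin r => z v j ^ (μ i + (r - 1 - (i : ℕ)))).det /
        (Matrix.of fun i j : Fin r => z v j ^ (r - 1 - (i : ℕ))).det)
    (P : (Fin r → ℕ) → ℝ)
    (hP : ∀ v, P v = ∏ p ∈ (Finset.univ : Finset (Fin r × Fin r)).filter (fun p => p.1 < p.2),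
        ((2 : ℝ) * Real.sin (Real.pi * ((v p.1 : ℝ) - (v p.2 : ℝ)) / ((r : ℝ) + k))) ^ 2) :
    (∑ v ∈ (Finset.univ : Finset (Fin r → Fin (r + k))).filter
        (fun v : Fin r → Fin (r + k) => StrictAnti v ∧ ∀ i : Fin r, (i : ℕ) = r - 1 → (v i : ℕ) = 0),
      Complex.exp (-(2 * Real.pi * Complex.I * (((∑ i, lam i) + (∑ i, lam' i) : ℕ) : ℂ) *
          ((∑ j, (v j : ℕ) : ℕ) : ℂ) / ((r : ℂ) * ((r : ℂ) + k)))) *
        S lam (fun j => (v j : ℕ)) * S lam' (fun j => (v j : ℕ)) * (P (fun j => (v j : ℕ)) : ℂ)) = 0 := by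
  obtain ⟨n, rfl⟩ : ∃ n, r = n + 1 := ⟨r - 1, by omega⟩
  have hN : 0 < n + 1 + k := by omega
  have : NeZero (n + 1 + k) := ⟨hN.ne'⟩
  let a : Fin (n + 1) → ℕ := fun i => lam i + (n + 1 - 1 - (i : ℕ))
  let b : Fin (n + 1) → ℕ := fun i => lam' i + (n + 1 - 1 - (i : ℕ))
  have ha : StrictAnti a := GrothLib.Verlinde.strictAnti_add_delta hlam
  have hb : StrictAnti b := GrothLib.Verlinde.strictAnti_add_delta hlam'
  have halt : ∀ i, a i < n + 1 + k := fun i => by have := hlamk i; simp only [a]; omega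
  have hblt : ∀ i, b i < n + 1 + k := fun i => by have := hlam'k i; simp only [b]; omega
  let p : Fin (n + 1) → ℤ := fun i => (a i : ℤ)
  let q : Fin (n + 1) → ℤ := fun i => (b i : ℤ)
  have hzE : ∀ (v : Fin (n + 1) → ℕ) j,
      z v j = GrothLib.Verlinde.E (n + 1) (n + 1 + k) (((n + 1 : ℕ) : ℤ) * v j) := fun v j => by
    rw [hz v j]; exact GrothLib.Verlinde.exp_eq_E (Nat.succ_pos n) _ _ (by push_cast; ring)
  let m := (GrothLib.Verlinde.pairs (n + 1)).card
  have hterm : ∀ v : Fin (n + 1) → Fin (n + 1 + k), StrictAnti v →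
      Complex.exp (-(2 * Real.pi * Complex.I * (((∑ i, lam i) + (∑ i, lam' i) : ℕ) : ℂ) *
          ((∑ j, (v j : ℕ) : ℕ) : ℂ) / (((n + 1 : ℕ) : ℂ) * (((n + 1 : ℕ) : ℂ) + k)))) *
        S lam (fun j => (v j : ℕ)) * S lam' (fun j => (v j : ℕ)) * (P (fun j => (v j : ℕ)) : ℂ) =
      (-1) ^ m * GrothLib.Verlinde.G (GrothLib.Verlinde.tw (n + 1 + k) p) (GrothLib.Verlinde.tw (n + 1 + k) q)
        (fun j => (v j : ℕ)) := by
    intro v hv
    set w : Fin (n + 1) → ℕ := fun j => (v j : ℕ) with hw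
    have hinj : Function.Injective (z w) := by
      rw [show z w = fun j => GrothLib.Verlinde.E (n + 1) (n + 1 + k) (((n + 1 : ℕ) : ℤ) * w j) from funext (hzE w)]
      exact GrothLib.Verlinde.E_injective (Nat.succ_pos n) w (Fin.val_injective.comp hv.injective) fun i => (v i).2
    have hΔ := GrothLib.Verlinde.prod_pairs_sub_ne_zero hinj
    have hP' := GrothLib.Verlinde.prod_two_sin_mul (((n + 1 : ℕ) : ℝ) + k) w (z w) (fun j => by
      rw [hz w j]; push_cast; rfl)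
    rw [← hP w] at hP'
    have hdet : ∀ (μ : Fin (n + 1) → ℕ),
        (Matrix.of fun i j : Fin (n + 1) => z w j ^ μ i).det =
          GrothLib.Verlinde.E (n + 1) (n + 1 + k) ((∑ i, (μ i : ℤ)) * ∑ j, (w j : ℤ)) *
            (Matrix.of fun i j => GrothLib.Verlinde.tw (n + 1 + k) (fun i => (μ i : ℤ)) i ^ w j).det := by
      intro μ
      rw [← GrothLib.Verlinde.det_E_eq]
      congr 1
      ext i j
      rw [Matrix.of_apply, Matrix.of_apply, hzE, GrothLib.Verlinde.E_pow]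
      congr 1
      ring
    have hexp : Complex.exp (-(2 * Real.pi * Complex.I * (((∑ i, lam i) + (∑ i, lam' i) : ℕ) : ℂ) *
          ((∑ j, (v j : ℕ) : ℕ) : ℂ) / (((n + 1 : ℕ) : ℂ) * (((n + 1 : ℕ) : ℂ) + k)))) =
        GrothLib.Verlinde.E (n + 1) (n + 1 + k)
          (-(((∑ i, (lam i : ℤ)) + ∑ i, (lam' i : ℤ)) * ∑ j, (w j : ℤ))) := by
      rw [GrothLib.Verlinde.E]
      congr 1
      simp only [hw]
      push_cast
      ring
    have hz1 : ∏ j, z w j ^ (n + 1 - 1) = GrothLib.Verlinde.E (n + 1) (n + 1 + k)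
        (((n + 1 : ℕ) : ℤ) * ((n + 1 - 1 : ℕ) : ℤ) * ∑ j, (w j : ℤ)) := by
      simp only [Finset.mul_sum, GrothLib.Verlinde.E_sum, hzE, GrothLib.Verlinde.E_pow]
      exact Finset.prod_congr rfl fun j _ => by congr 1; ring
    have hsum : (∑ i, (a i : ℤ)) + (∑ i, (b i : ℤ)) =
        ((∑ i, (lam i : ℤ)) + ∑ i, (lam' i : ℤ)) + ((n + 1 : ℕ) : ℤ) * ((n + 1 - 1 : ℕ) : ℤ) := by
      rw [← GrothLib.Verlinde.two_mul_sum_delta (r := n + 1)]
      simp only [a, b, Nat.cast_add, Finset.sum_add_distrib]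
      ring
    rw [hS lam w, hS lam' w, hexp, GrothLib.Verlinde.det_delta, hdet a, hdet b, GrothLib.Verlinde.G]
    rw [hz1] at hP'
    have hkey : GrothLib.Verlinde.E (n + 1) (n + 1 + k) (((n + 1 : ℕ) : ℤ) * ((n + 1 - 1 : ℕ) : ℤ) * ∑ j, (w j : ℤ)) =
        GrothLib.Verlinde.E (n + 1) (n + 1 + k) (-(((∑ i, (lam i : ℤ)) + ∑ i, (lam' i : ℤ)) * ∑ j, (w j : ℤ))) *
          GrothLib.Verlinde.E (n + 1) (n + 1 + k) ((∑ i, (a i : ℤ)) * ∑ j, (w j : ℤ)) *
          GrothLib.Verlinde.E (n + 1) (n + 1 + k) ((∑ i, (b i : ℤ)) * ∑ j, (w j : ℤ)) := by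
      rw [← GrothLib.Verlinde.E_add, ← GrothLib.Verlinde.E_add]
      congr 1
      linear_combination (-(∑ j, (w j : ℤ))) * hsum
    rw [hkey] at hP'
    simp only [p, q]
    field_simp
    linear_combination ((Matrix.of fun i j => GrothLib.Verlinde.tw (n + 1 + k) (fun i => (a i : ℤ)) i ^ w j).det *
      (Matrix.of fun i j => GrothLib.Verlinde.tw (n + 1 + k) (fun i => (b i : ℤ)) i ^ w j).det) * hP'
  rw [Finset.sum_congr rfl fun v hv => hterm v (Finset.mem_filter.mp hv).2.1, ← Finset.mul_sum,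
    GrothLib.Verlinde.sum_eq_zero p q ?_, mul_zero]
  rintro ⟨π, hπ⟩
  apply hne
  let f : Fin (n + 1) → ℤ := fun i => p i + q (π i)
  have hsumf : ∑ j, f j = ∑ j, p j + ∑ j, q j := by
    rw [Finset.sum_add_distrib, Equiv.sum_comp π q]
  have hconst := GrothLib.Verlinde.eq_of_dvd (n + 1 + k) (f := f) (fun i j => by
    have := halt i; have := halt j; have := hblt (π i); have := hblt (π j)
    simp only [f, p, q]; omega) (fun i => by rw [hsumf]; exact hπ i)
  have hanti : StrictMono (b ∘ π) := fun i j hij => by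
    have h1 := hconst i j
    have h2 := ha hij
    simp only [f, p, q] at h1
    show b (π i) < b (π j)
    omega
  have hrev : StrictMono (b ∘ Fin.rev) := fun i j hij => hb (Fin.rev_lt_rev.mpr hij)
  have hπrev : b ∘ π = b ∘ Fin.rev := (StrictMono.range_inj hanti hrev).mp (by
    rw [EquivLike.range_comp b π]; exact (EquivLike.range_comp b (Fin.revPerm : Equiv.Perm (Fin (n + 1)))).symm)
  refine ⟨f 0 - ((n + 1 - 1 : ℕ) : ℤ) - k, fun i => ?_⟩
  have h1 := hconst i 0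
  have h2 := congrFun hπrev i
  have := hlam'k (Fin.rev i)
  simp only [Function.comp_apply] at h2
  simp only [f, p, q] at h1 ⊢
  rw [h2] at h1
  simp only [a, b, Fin.val_rev] at h1 ⊢
  omega

end Groth.Agent.S19895
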