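import Groth.Statements.S19898
-- import your own Groth.Agent.* helpers here
import Groth.Agent.Lib.PolLaw.NormCoeff

set_option autoImplicit false
universe u
open scoped TensorProduct
open SymTen

namespace Groth.Agent.S19898

/-- Let R be a commutative ring and R' a commutative R-algebra that is free of rank d as an R-module.
Let (C, γ) be the degree-d divided power algebra of R' over R, given as an R-algebra C with a
multiplicative homogeneous degree-d polynomial law γ : R' → C that is universal among such laws; let
φ : C → T^d_R(R') be the R-algebra homomorphism into the d-fold tensor power whose composite with γ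
is the law x ↦ x ⊗ ⋯ ⊗ x, and π : C → R the R-algebra homomorphism whose composite with γ is the
norm law of R' over R. Let T^d_R(R') act on itself factor by factor and let I_d ⊂ T^d_R(R') be the
R-span of the pure tensors with two equal factors, so that T^d_R(R')/I_d is the top exterior power
Λ^d_R(R'), free of rank one. Then for every c ∈ C and every x ∈ T^d_R(R') the element φ(c)·x − π(c)
x lies in I_d: the symmetric tensor φ(c) acts on Λ^d_R(R') as multiplication by the scalar π(c),
i.e. the homomorphism TS^d_R(R') → R given by the action on the top exterior power, composed with φ,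
equals π. (The source states this for R' finite locally free of constant rank d; the free case is
the affine-local form.) -/
theorem result (R : Type u) [CommRing R] (R' : Type u) [CommRing R']
    [Algebra R R'] [Module.Free R R'] [Module.Finite R R'] (d : ℕ) (hd : Module.finrank R R' = d)
    {C : Type u} [CommRing C] [Algebra R C] (γ : PolLaw.MulLaw R R' C d) (hγ : PolLaw.IsGammaD γ)
    (φ : C →ₐ[R] (⨂[R] _ : Fin d, R')) (hφ : PolLaw.MulLaw.postcomp φ γ = SymTen.tpowLaw R R' d)
    (π : C →ₐ[R] R) (hπ : PolLaw.MulLaw.postcomp π γ = PolLaw.normLaw R R' d hd)
    (c : C) (x : ⨂[R] _ : Fin d, R') :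
    SymTen.tpowAct R R' R' d (φ c) x - π c • x ∈ SymTen.altSpan R R' d := by
  exact GrothLib.PolLaw.tpowAct_sub_norm_mem_altSpan hd γ hγ φ hφ π hπ c x

end Groth.Agent.S19898
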