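import Groth.Statements.S19899
import Groth.Agent.Lib.GenusZeroDesc9.Main

set_option autoImplicit false
universe u
open CategoryTheory CategoryTheory.Limits AlgebraicGeometry
open Curves

namespace Groth.Agent.S19899

/-- Let k be an algebraically closed field and C a reduced, connected scheme proper over k of dimension
one with H¹(C, O_C) = 0 (a curve of arithmetic genus zero), and let ν : C' → C be its normalization,
given as a finite morphism over k from a smooth k-scheme C' that restricts to an isomorphism over a
dense open subset U of C whose preimage is dense in C'. Let ψ be an automorphism of C' over k fixing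
every point of C' that lies over a singular point of C (a point whose local ring is not regular).
Then ψ descends to C: there is a unique endomorphism φ of C with ν ∘ ψ = φ ∘ ν, and φ is an
automorphism. (The source states the resulting group isomorphism between the automorphisms of the
pointed curve C fixing each irreducible component and each singular point and the automorphisms of
C' fixing each component and each point above a marked or singular point; the descent statement here
is its non-trivial half and needs neither the marked points nor the condition on components.) -/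
theorem result
    (k : Type u) [Field k] [IsAlgClosed k] (C : Scheme.{u}) [C.Over (Spec (CommRingCat.of k))]
    [IsProper (C ↘ Spec (CommRingCat.of k))] [IsReduced C] [ConnectedSpace ↥C]
    (hdim : topologicalKrullDim ↥C = 1) (hgen : Curv2.genus k C = 0)
    (C' : Scheme.{u}) [C'.Over (Spec (CommRingCat.of k))] [Smooth (C' ↘ Spec (CommRingCat.of k))]
    (ν : C' ⟶ C) [IsFinite ν] (hν : ν ≫ (C ↘ Spec (CommRingCat.of k)) = C' ↘ Spec (CommRingCat.of k))
    (U : C.Opens) (hU : Dense (U : Set ↥C)) (hU' : Dense ((ν ⁻¹ᵁ U : C'.Opens) : Set ↥C'))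
    [IsIso (ν ∣_ U)]
    (ψ : C' ≅ C') (hψ : ψ.hom ≫ (C' ↘ Spec (CommRingCat.of k)) = C' ↘ Spec (CommRingCat.of k))
    (hfix : ∀ x : ↥C', ¬ IsRegularLocalRing (C.presheaf.stalk (ν.base x)) → ψ.hom.base x = x) :
    ∃! φ : C ⟶ C, ν ≫ φ = ψ.hom ≫ ν ∧ IsIso φ := by
  haveI := GrothLib.GenusZeroDesc9.surjective ν U hU
  have hinj := GrothLib.GenusZeroDesc9.app_injective_of_surjective ν
  haveI := GrothLib.GenusZeroDesc9.surjective ν U hU
  have hgen' : Subsingleton (Coh.HH C (Coh.structureModule C) 1) := by
    haveI := GrothLib.Euler.isNoetherian_of_proper (X := C) k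
    haveI := GrothLib.Euler.finiteDimensional_HH k
      (GrothLib.Euler.isCoh_of_isInvertible (GrothLib.Euler.isInvertible_structure (X := C))) 1
    exact Module.finrank_zero_iff.1 hgen
  have hfix' : ∀ y, ¬ IsRegularLocalRing (C.presheaf.stalk (ν y)) → ψ.inv y = y := fun y hy => by
    conv_lhs => rw [← hfix y hy]
    show (ψ.hom ≫ ψ.inv) y = y
    rw [Iso.hom_inv_id]; rfl
  obtain ⟨φ, hφ⟩ := GrothLib.GenusZeroDesc9.exists_descend ν hν hgen' U hU hdim hU' ψ.hom hψ hfix
  obtain ⟨φ', hφ'⟩ := GrothLib.GenusZeroDesc9.exists_descend ν hν hgen' U hU hdim hU' ψ.inv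
    (by rw [Iso.inv_comp_eq, hψ]) hfix'
  have e1 : φ ≫ φ' = 𝟙 C := GrothLib.GenusZeroDesc9.hom_ext_of_injective ν (hinj) ν.surjective (by
    rw [reassoc_of% hφ, hφ', Iso.hom_inv_id_assoc, Category.comp_id])
  have e2 : φ' ≫ φ = 𝟙 C := GrothLib.GenusZeroDesc9.hom_ext_of_injective ν (hinj) ν.surjective (by
    rw [reassoc_of% hφ', hφ, Iso.inv_hom_id_assoc, Category.comp_id])
  exact ⟨φ, ⟨hφ, ⟨φ', e1, e2⟩⟩, fun χ hχ =>
    GrothLib.GenusZeroDesc9.hom_ext_of_injective ν (hinj) ν.surjective (hχ.1.trans hφ.symm)⟩

end Groth.Agent.S19899
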