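import Groth.Statements.S19908
import Groth.Agent.Lib.AlgSt.LargestOpen.BaseChange


set_option autoImplicit false
set_option backward.isDefEq.respectTransparency false
set_option backward.isDefEq.respectTransparency.types false
open CategoryTheory AlgebraicGeometry
universe u
open AlgSt

namespace Groth.Agent.S19908

set_option backward.isDefEq.respectTransparency false
set_option backward.isDefEq.respectTransparency.types false
open GrothLib.AlgSt GrothLib.AlgSt.LargestOpen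

/-- Let `P`, `Q`, `R` be properties of morphisms of algebraic spaces over `S`, each stable under base
change and fppf local on the base, such that smooth morphisms have `R`, every morphism `f : X ⟶ Y`
of algebraic spaces with `Q` admits a largest open subspace `W ⊂ X` on which `f` has `P`, and for
such `f` and every `g : Y' ⟶ Y` with `R` the inverse image of `W` in `X ×_Y Y'` is the largest open
subspace on which the base change of `f` has `P`. Let `f : 𝒳 ⟶ 𝒴` be a 1-morphism of algebraic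
stacks over `S`, representable by algebraic spaces, with `Q`, and let `𝒳' ⊂ 𝒳` be the largest open
substack on which `f` has `P` (given by its object predicate `Q₀`). Then for every 1-morphism `z : 𝒵
⟶ 𝒴` of algebraic stacks representable by algebraic spaces with `R`, the inverse image of `𝒳'` in `𝒵
×_𝒴 𝒳` (the objects whose second component satisfies `Q₀`) is the largest open substack of `𝒵 ×_𝒴 𝒳`
on which the base change `𝒵 ×_𝒴 𝒳 ⟶ 𝒵` has `P`. (Stability under base change is asked for every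
pullback square of fppf sheaves whose four corners are algebraic spaces; part (A), the existence of
`𝒳'`, is a separate statement and enters here as the hypotheses on `Q₀`.) -/
theorem result {S : Scheme.{u}} {𝒳 𝒴 𝒵 : AlgSt.Cat S}
    (h𝒳 : AlgSt.IsAlgStack Scheme.fppfPrecoverage 𝒳) (h𝒴 : AlgSt.IsAlgStack Scheme.fppfPrecoverage 𝒴)
    (h𝒵 : AlgSt.IsAlgStack Scheme.fppfPrecoverage 𝒵)
    (P Q R : MorphismProperty (AlgSp.Sp S))
    (hPb : ∀ ⦃X₁ Y₁ X₂ Y₂ : AlgSp.Sp S⦄, AlgSp.IsAlgSpace X₁ → AlgSp.IsAlgSpace Y₁ → AlgSp.IsAlgSpace X₂ →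
      AlgSp.IsAlgSpace Y₂ → ∀ (a : X₁ ⟶ Y₁) (b : Y₂ ⟶ Y₁) (a' : X₂ ⟶ Y₂) (b' : X₂ ⟶ X₁),
      IsPullback b' a' a b → P a → P a')
    (hQb : ∀ ⦃X₁ Y₁ X₂ Y₂ : AlgSp.Sp S⦄, AlgSp.IsAlgSpace X₁ → AlgSp.IsAlgSpace Y₁ → AlgSp.IsAlgSpace X₂ →
      AlgSp.IsAlgSpace Y₂ → ∀ (a : X₁ ⟶ Y₁) (b : Y₂ ⟶ Y₁) (a' : X₂ ⟶ Y₂) (b' : X₂ ⟶ X₁),
      IsPullback b' a' a b → Q a → Q a')
    (hRb : ∀ ⦃X₁ Y₁ X₂ Y₂ : AlgSp.Sp S⦄, AlgSp.IsAlgSpace X₁ → AlgSp.IsAlgSpace Y₁ → AlgSp.IsAlgSpace X₂ →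
      AlgSp.IsAlgSpace Y₂ → ∀ (a : X₁ ⟶ Y₁) (b : Y₂ ⟶ Y₁) (a' : X₂ ⟶ Y₂) (b' : X₂ ⟶ X₁),
      IsPullback b' a' a b → R a → R a')
    (hP : AlgSp.IsLocalOnBase AlgSp.IsFppfCover P) (hQ : AlgSp.IsLocalOnBase AlgSp.IsFppfCover Q)
    (hR : AlgSp.IsLocalOnBase AlgSp.IsFppfCover R)
    (h₂ : ∀ (X Y : AlgSp.Space S) (g : X ⟶ Y), AlgSp.LocP @Smooth g.hom → R g.hom)
    (h₃ : ∀ (X Y : AlgSp.Space S) (f : X ⟶ Y), Q f.hom →
      ∃ (W : AlgSp.Space S) (w : W ⟶ X), (AlgSp.RepWith @IsOpenImmersion w.hom ∧ P (w ≫ f).hom ∧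
          ∀ (W₁ : AlgSp.Space S) (w₁ : W₁ ⟶ X), AlgSp.RepWith @IsOpenImmersion w₁.hom → P (w₁ ≫ f).hom →
            ∃ k : W₁ ⟶ W, k ≫ w = w₁))
    (h₄ : ∀ (X Y X' Y' : AlgSp.Space S) (f : X ⟶ Y) (g : Y' ⟶ Y) (f' : X' ⟶ Y') (g' : X' ⟶ X),
      IsPullback g'.hom f'.hom f.hom g.hom → Q f.hom → R g.hom →
      ∀ (W : AlgSp.Space S) (w : W ⟶ X), (AlgSp.RepWith @IsOpenImmersion w.hom ∧ P (w ≫ f).hom ∧
          ∀ (W₁ : AlgSp.Space S) (w₁ : W₁ ⟶ X), AlgSp.RepWith @IsOpenImmersion w₁.hom → P (w₁ ≫ f).hom →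
            ∃ k : W₁ ⟶ W, k ≫ w = w₁) →
        ∀ (W' : AlgSp.Space S) (w' : W' ⟶ X') (k : W' ⟶ W), IsPullback k.hom w'.hom w.hom g'.hom →
          (AlgSp.RepWith @IsOpenImmersion w'.hom ∧ P (w' ≫ f').hom ∧
          ∀ (W₁ : AlgSp.Space S) (w₁ : W₁ ⟶ X'), AlgSp.RepWith @IsOpenImmersion w₁.hom → P (w₁ ≫ f').hom →
            ∃ k : W₁ ⟶ W', k ≫ w' = w₁))
    (f : 𝒳 ⥤ᵇ 𝒴) (hf : AlgSt.RepByAlgSpWith Q f)
    (Q₀ : 𝒳.obj → Prop) (hQ₀ : AlgSt.IsOpenSubstack 𝒳 Q₀ Scheme.fppfPrecoverage)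
    (hQ₀P : AlgSt.RepByAlgSpWith P (BasedFunctor.comp (AlgSt.subIncl 𝒳 Q₀) f))
    (hQ₀max : ∀ Q₁ : 𝒳.obj → Prop, AlgSt.IsOpenSubstack 𝒳 Q₁ Scheme.fppfPrecoverage →
      AlgSt.RepByAlgSpWith P (BasedFunctor.comp (AlgSt.subIncl 𝒳 Q₁) f) → ∀ y, Q₁ y → Q₀ y)
    (z : 𝒵 ⥤ᵇ 𝒴) (hz : AlgSt.RepByAlgSpWith R z) :
    AlgSt.IsOpenSubstack (FibCat.fp z f) (fun b ↦ Q₀ b.obj.snd) Scheme.fppfPrecoverage ∧
      AlgSt.RepByAlgSpWith P
        (BasedFunctor.comp (AlgSt.subIncl (FibCat.fp z f) fun b ↦ Q₀ b.obj.snd) (FibCat.fpFst z f)) ∧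
        ∀ Q₁ : (FibCat.fp z f).obj → Prop, AlgSt.IsOpenSubstack (FibCat.fp z f) Q₁ Scheme.fppfPrecoverage →
          AlgSt.RepByAlgSpWith P (BasedFunctor.comp (AlgSt.subIncl (FibCat.fp z f) Q₁) (FibCat.fpFst z f)) →
            ∀ b, Q₁ b → Q₀ b.obj.snd := by
  obtain ⟨V, yV, hsm, hsu⟩ := h𝒴.atlas
  obtain ⟨W, hW, hall, hWP, hmax⟩ := exists_largest_points h𝒳 h𝒴 hPb hQb (descendsToSchemes_of_isLocalOnBase hP) h₂ h₃ h₄ hf yV hsm hsu
  have g𝒳 := h𝒳.isStack.1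
  have hfp : AlgSt.IsAlgStack Scheme.fppfPrecoverage (FibCat.fp z f) := isAlgStack_fp h𝒴.isStack h𝒴.diag h𝒵 h𝒳 z f
  have hWO := isOpenSubstack_openPred h𝒳 hW
  have hr₀ : Set.range (AlgSt.Points.map (AlgSt.subIncl 𝒳 Q₀)) = W := by
    refine Set.Subset.antisymm (hmax Q₀ hQ₀ hQ₀P) ?_
    rw [← range_points_map_subIncl_openPred g𝒳 (W := W)]
    exact (openSubstack_le_iff h𝒳 hWO hQ₀).1 (hQ₀max _ hWO hWP)
  let W' := AlgSt.Points.map (FibCat.fpSnd z f) ⁻¹' W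
  have hW' : IsOpen W' := hW.preimage (continuous_points_map hfp h𝒳 _)
  have hQ' : (fun b : (FibCat.fp z f).obj => Q₀ b.obj.snd) = openPred W' := by
    funext b
    refine propext ((openPred_range_iff h𝒳 hQ₀ _).symm.trans ?_)
    rw [hr₀]
    exact openPred_obj_preimage g𝒳 hfp.isStack.1 (FibCat.fpSnd z f) W b
  refine ⟨hQ' ▸ isOpenSubstack_openPred hfp hW', ?_, fun Q₁ hQ₁ hP₁ b hb => ?_⟩
  · rw [hQ']
    intro T w
    obtain ⟨E, -⟩ := exists_fib (y := w) (repByAlgSpWith_fpFst z hf)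
    have hPi := isoInvariant_of_stableSp hPb
    refine (E.hasRep_sub_iff hfp h𝒵.isStack.1 hPi (isOpenSubstack_openPred hfp hW')).2 ?_
    rw [range_points_map_subIncl_openPred hfp.isStack.1]
    refine (memOn_pushPaste E W).1 ?_
    have h := (E.pushPaste.hasRep_sub_iff h𝒳 h𝒴.isStack.1 hPi hWO).1 (hWP T _)
    rw [range_points_map_subIncl_openPred g𝒳] at h
    exact h
  · have hle := largest_fp h𝒳 h𝒴 h𝒵 hPb hQb h₂ h₄ hf z hz yV hsu hall hfp hQ₁ hP₁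
    have hsub : ∀ y, Q₁ y → openPred W' y := (openSubstack_le_iff hfp hQ₁ (isOpenSubstack_openPred hfp hW')).2
      (by rw [range_points_map_subIncl_openPred hfp.isStack.1]; exact hle)
    exact (congrFun hQ' b).symm ▸ hsub b hb

end Groth.Agent.S19908
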