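import Groth.Statements.S19912
import Mathlib
import Groth.Agent.Lib.RegLoc.Basic

set_option backward.isDefEq.respectTransparency false
set_option backward.isDefEq.respectTransparency.types false

set_option autoImplicit false
universe u
open CategoryTheory CategoryTheory.Limits AlgebraicGeometry
open Models

namespace Groth.Agent.S19912

/-- Let R be a discrete valuation ring with fraction field K and YR a scheme over Spec R. Let V be a
discrete valuation ring which is an R-algebra in such a way that the maximal ideal of R generates
the maximal ideal of V (ramification index one), and let σ : Spec V -> YR be a morphism over Spec R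
sending the closed point of Spec V to y. If the local ring of YR at y is regular, then the local
ring at y of the special fibre of YR, namely O_{YR,y}/𝔪_R O_{YR,y}, is regular. (The published
statement takes YR a normal projective flat model of a smooth projective geometrically connected
curve Y over K and phrases the hypothesis through a point Q of Y rational over an extension L of K
unramified over K with y in the closure of Q: by the valuative criterion such a point yields a
morphism as above from the spectrum of the localization of the integral closure of R in L at a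
maximal ideal over y, which is the form used here.) -/
theorem result
    (R : Type u) [CommRing R] [IsDomain R] [IsDiscreteValuationRing R]
    (YR : Over (Spec (CommRingCat.of R)))
    (V : Type u) [CommRing V] [IsDomain V] [IsDiscreteValuationRing V] [Algebra R V]
    (hV : Ideal.map (algebraMap R V) (IsLocalRing.maximalIdeal R) = IsLocalRing.maximalIdeal V)
    (σ : Spec (CommRingCat.of V) ⟶ YR.left)
    (hσ : σ ≫ YR.hom = Spec.map (CommRingCat.ofHom (algebraMap R V)))
    (y : YR.left) (hy : σ.base (IsLocalRing.closedPoint V) = y)
    (hreg : IsRegularLocalRing (YR.left.presheaf.stalk y)) :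
    IsRegularLocalRing (YR.left.presheaf.stalk y ⧸
      Ideal.map (Models.stalkHom R YR y) (IsLocalRing.maximalIdeal R)) := by
  subst hy
  let φ := Scheme.stalkClosedPointTo σ
  have hφ : ∀ r : R, φ (Models.stalkHom R YR (σ.base (IsLocalRing.closedPoint V)) r) = algebraMap R V r := by
    intro r
    have h1 := Scheme.germ_stalkClosedPointTo σ ⊤ trivial
    have h2 := ConcreteCategory.congr_hom h1 (Coh.toGlobal YR.hom r)
    have h4 : (Scheme.ΓSpecIso (CommRingCat.of R)).inv ≫ YR.hom.appTop ≫ σ.appTop ≫ (Scheme.ΓSpecIso (CommRingCat.of V)).hom =
        CommRingCat.ofHom (algebraMap R V) := by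
      rw [← Scheme.Hom.comp_appTop_assoc, hσ, Scheme.ΓSpecIso_naturality, Iso.inv_hom_id_assoc]
    refine h2.trans ?_
    refine Eq.trans ?_ (ConcreteCategory.congr_hom h4 r)
    simp [Coh.toGlobal]
    rfl
  obtain ⟨ϖ, hϖ⟩ := IsDiscreteValuationRing.exists_irreducible R
  have hmR : IsLocalRing.maximalIdeal R = Ideal.span {ϖ} := hϖ.maximalIdeal_eq
  have hmV : IsLocalRing.maximalIdeal V = Ideal.span {algebraMap R V ϖ} := by
    rw [← hV, hmR, Ideal.map_span, Set.image_singleton]
  let a := Models.stalkHom R YR (σ.base (IsLocalRing.closedPoint V)) ϖ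
  have ha : φ a = algebraMap R V ϖ := hφ ϖ
  haveI : IsLocalHom φ.hom := inferInstance
  have hnV : algebraMap R V ϖ ∈ IsLocalRing.maximalIdeal V := hmV ▸ Ideal.mem_span_singleton_self _
  have hmem : a ∈ IsLocalRing.maximalIdeal _ := fun hu => hnV (ha ▸ hu.map φ.hom)
  have hsq : a ∉ IsLocalRing.maximalIdeal _ ^ 2 := fun h => by
    have h1 : φ.hom a ∈ IsLocalRing.maximalIdeal V ^ 2 := by
      refine Ideal.pow_right_mono ?_ 2 (Ideal.map_pow (φ.hom) (IsLocalRing.maximalIdeal _) 2 ▸ Ideal.mem_map_of_mem φ.hom h)
      exact ((IsLocalRing.local_hom_TFAE φ.hom).out 0 2 rfl rfl).mp ‹IsLocalHom φ.hom›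
    rw [hmV, Ideal.span_singleton_pow, Ideal.mem_span_singleton, show φ.hom a = algebraMap R V ϖ from ha] at h1
    have hne : algebraMap R V ϖ ≠ 0 := fun e =>
      IsDiscreteValuationRing.not_a_field V (by rw [hmV, e]; simp)
    obtain ⟨c, hc⟩ := h1
    have : IsUnit (algebraMap R V ϖ) := IsUnit.of_mul_eq_one c (mul_left_cancel₀ hne (by rw [mul_one, ← mul_assoc, ← sq]; exact hc.symm))
    exact hnV this
  rw [hmR, Ideal.map_span, Set.image_singleton]
  exact (GrothLib.RegLoc.quotient_isRegularLocalRing hmem hsq).1

end Groth.Agent.S19912
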