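import Groth.Statements.S19917
import Mathlib

set_option autoImplicit false
universe u
open CategoryTheory CategoryTheory.Limits AlgebraicGeometry MonObj
open SGA7

namespace Groth.Agent.S19917

section

variable {R K Ω : Type u} [CommRing R] [IsDomain R] [IsDiscreteValuationRing R] [Field K] [Algebra R K]
  [IsFractionRing R K] [Field Ω] [Algebra K Ω] [Algebra R Ω] [IsScalarTower R K Ω]
  {W : ValuationSubring Ω}

theorem val_le_one (hW : SGA7.LiesOver K R W) (x : R) : W.valuation (algebraMap R Ω x) ≤ 1 := by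
  rw [IsScalarTower.algebraMap_apply R K Ω, W.valuation_le_one_iff]
  exact hW.1 x

theorem val_unit (hW : SGA7.LiesOver K R W) {x : R} (hx : IsUnit x) : W.valuation (algebraMap R Ω x) = 1 := by
  obtain ⟨u, rfl⟩ := hx
  refine le_antisymm (val_le_one hW _) ?_
  have h : W.valuation (algebraMap R Ω u) * W.valuation (algebraMap R Ω ↑u⁻¹) = 1 := by
    rw [← map_mul, ← map_mul, Units.mul_inv, map_one, map_one]
  rw [← h]
  exact mul_le_of_le_one_right' (val_le_one hW _)

theorem val_natCast (hW : SGA7.LiesOver K R W) {r : ℕ} (hrk : (r : IsLocalRing.ResidueField R) ≠ 0) :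
    W.valuation (r : Ω) = 1 := by
  rw [← map_natCast (algebraMap R Ω)]
  refine val_unit hW (IsLocalRing.notMem_maximalIdeal.1 fun h => hrk ?_)
  rw [← map_natCast (IsLocalRing.residue R)]
  exact (IsLocalRing.residue_eq_zero_iff _).2 h

theorem val_le_one_of_isIntegral (hW : SGA7.LiesOver K R W) {x : Ω} (hx : IsIntegral R x) :
    W.valuation x ≤ 1 := by
  let φ : R →+* W := (algebraMap R Ω).codRestrict W.toSubring fun r => by
    rw [IsScalarTower.algebraMap_apply R K Ω]; exact hW.1 r
  obtain ⟨p, hp, hpx⟩ := hx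
  have hW' : IsIntegral W x := by
    refine ⟨p.map φ, hp.map φ, ?_⟩
    rw [Polynomial.eval₂_map]
    exact hpx
  obtain ⟨y, rfl⟩ := IsIntegrallyClosed.isIntegral_iff.1 hW'
  exact (W.valuation_le_one_iff _).2 y.2

theorem eq_one_of_pow_eq_one {r : ℕ} (hr0 : W.valuation (r : Ω) = 1) {ζ : Ω} (h1 : ζ ^ r = 1)
    (hv : W.valuation (ζ - 1) < 1) : ζ = 1 := by
  by_contra hne
  have hζ : W.valuation ζ ≤ 1 := by
    have := W.valuation.map_add (ζ - 1) 1
    rw [sub_add_cancel, map_one] at this
    exact this.trans (max_le hv.le le_rfl)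
  have hsum : ∑ i ∈ Finset.range r, ζ ^ i = 0 := by
    have h := geom_sum_mul ζ r
    rw [h1, sub_self, mul_eq_zero] at h
    exact h.resolve_right (sub_ne_zero.2 hne)
  have hr : W.valuation (∑ i ∈ Finset.range r, (ζ ^ i - 1)) < 1 := by
    refine W.valuation.map_sum_lt' zero_lt_one fun i _ => ?_
    rw [← geom_sum_mul ζ i, map_mul]
    refine lt_of_le_of_lt (mul_le_of_le_one_left' (W.valuation.map_sum_le fun j _ => ?_)) hv
    rw [map_pow]
    exact pow_le_one₀ zero_le hζ
  rw [Finset.sum_sub_distrib, hsum, Finset.sum_const, Finset.card_range, nsmul_one, zero_sub, Valuation.map_neg,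
    hr0] at hr
  exact lt_irrefl _ hr

variable (hW : SGA7.LiesOver K R W) (hI : ∀ σ : Ω ≃ₐ[K] Ω, SGA7.IsInertia W σ)

include hI in
theorem mem_of_pow_mem [IsGalois K Ω] {r : ℕ} (hr0 : W.valuation (r : Ω) = 1) (L : IntermediateField K Ω) {y : Ω}
    (hy : y ^ r ∈ L) (hv : W.valuation y = 1) : y ∈ L := by
  rw [← InfiniteGalois.fixedField_fixingSubgroup L, IntermediateField.mem_fixedField_iff]
  intro σ hσ
  have hy0 : y ≠ 0 := fun h => by rw [h, map_zero] at hv; exact zero_ne_one hv
  have h1 := (hI σ y ((W.valuation_le_one_iff y).1 hv.le)).2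
  have hζ : (σ y / y) ^ r = 1 := by
    rw [div_pow, ← map_pow, (IntermediateField.mem_fixingSubgroup_iff _ _).1 hσ _ hy, div_self (pow_ne_zero _ hy0)]
  have h2 : W.valuation (σ y / y - 1) < 1 := by
    rw [show σ y / y - 1 = (σ y - y) / y by rw [sub_div, div_self hy0], map_div₀, hv, div_one]
    exact h1
  exact (div_eq_one_iff_eq hy0).1 (eq_one_of_pow_eq_one hr0 hζ h2)

include hW hI in
/-- Total ramification. -/
theorem totallyRamified [IsSepClosure K Ω] {r : ℕ} (hrk : (r : IsLocalRing.ResidueField R) ≠ 0)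
    (L : IntermediateField K Ω) (hLr : Module.finrank K L = r) (hLG : IsGalois K L) :
    (∀ P : Ideal (integralClosure R L), P.IsMaximal → P.ramificationIdx R = r) ∧
      ∀ π : R, IsLocalRing.maximalIdeal R = Ideal.span {π} →
        ∃ (c u : L), (u : Ω) * (c : Ω) ^ r = algebraMap R Ω π ∧ W.valuation (u : Ω) = 1 := by
  classical
  have hr : 0 < r := Nat.pos_of_ne_zero fun h => hrk (by rw [h, Nat.cast_zero])
  haveI : FiniteDimensional K L := Module.finite_of_finrank_pos (hLr ▸ hr)
  let C := integralClosure R L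
  haveI : IsDedekindDomain C := IsIntegralClosure.isDedekindDomain R K L C
  haveI : Module.Finite R C := IsIntegralClosure.finite R K L C
  haveI : IsFractionRing C L := IsIntegralClosure.isFractionRing_of_finite_extension R K L C
  have hCv : ∀ c : C, W.valuation ((c : L) : Ω) ≤ 1 := fun c =>
    val_le_one_of_isIntegral hW (c.2.map (L.val.restrictScalars R))
  let P0 : Ideal C :=
    { carrier := {c | W.valuation ((c : L) : Ω) < 1}
      add_mem' := fun {a b} ha hb => by
        simp only [Set.mem_setOf_eq, Subalgebra.coe_add, IntermediateField.coe_add] at *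
        exact lt_of_le_of_lt (W.valuation.map_add _ _) (max_lt ha hb)
      zero_mem' := by simp
      smul_mem' := fun a b hb => by
        simp only [Set.mem_setOf_eq, smul_eq_mul, Subalgebra.coe_mul, IntermediateField.coe_mul, map_mul] at *
        exact lt_of_le_of_lt (mul_le_of_le_one_left' (hCv a)) hb }
  have hRC : ∀ x : R, ((algebraMap R C x : L) : Ω) = algebraMap R Ω x := fun x => rfl
  have hm : ∀ x : R, W.valuation (algebraMap R Ω x) < 1 ↔ x ∈ IsLocalRing.maximalIdeal R := fun x => by
    refine ⟨fun h => by_contra fun hx => ?_, fun h => ?_⟩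
    · rw [val_unit hW (IsLocalRing.notMem_maximalIdeal.1 hx)] at h
      exact lt_irrefl _ h
    · rw [IsScalarTower.algebraMap_apply R K Ω]; exact hW.2 x h
  have hext : ∀ (σ : L ≃ₐ[K] L) (c : C), W.valuation ((σ c : L) - (c : L) : Ω) < 1 := fun σ c => by
    have h := (hI (σ.liftNormal Ω) _ ((W.valuation_le_one_iff _).1 (hCv c))).2
    rwa [show σ.liftNormal Ω ((c : L) : Ω) = ((σ c : L) : Ω) from AlgEquiv.liftNormal_commutes σ Ω (c : L)] at h
  have hσint : ∀ (σ : L ≃ₐ[K] L) (c : C), IsIntegral R (σ c) := fun σ c =>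
    c.2.map (σ.toAlgHom.restrictScalars R)
  have hmax : ∀ P : Ideal C, P.IsMaximal → P = P0 := by
    intro P hP
    refine hP.eq_of_le (fun h => ?_) ?_
    · have : W.valuation (((1 : C) : L) : Ω) < 1 := (Ideal.eq_top_iff_one _).1 h
      simp at this
    intro c hc
    by_contra hc0
    have hc1 : W.valuation ((c : L) : Ω) = 1 := le_antisymm (hCv c) (not_lt.1 hc0)
    obtain ⟨n, hn⟩ := IsIntegrallyClosed.isIntegral_iff.1 (Algebra.isIntegral_norm K c.2)
    let g : C := ∏ σ ∈ (Finset.univ : Finset (L ≃ₐ[K] L)).erase 1, ⟨σ c, hσint σ c⟩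
    have hg : algebraMap R C n = c * g := Subtype.ext (by
      change algebraMap R L n = _
      rw [IsScalarTower.algebraMap_apply R K L, hn, Algebra.norm_eq_prod_automorphisms,
        ← Finset.mul_prod_erase _ _ (Finset.mem_univ (1 : L ≃ₐ[K] L))]
      simp [g, Subalgebra.coe_prod])
    have hval : W.valuation (algebraMap R Ω n) = 1 := by
      rw [← hRC, hg]
      simp only [g, Subalgebra.coe_mul, IntermediateField.coe_mul, map_mul, hc1, _root_.one_mul, Subalgebra.coe_prod,
        SubmonoidClass.coe_finsetProd, map_prod]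
      refine Finset.prod_eq_one fun σ _ => ?_
      refine (W.valuation.map_eq_of_sub_lt ?_).trans hc1
      rw [hc1]; exact hext σ c
    have hnm : n ∈ IsLocalRing.maximalIdeal R := by
      haveI := Ideal.isMaximal_comap_of_isIntegral_of_isMaximal (R := R) P
      rw [← IsLocalRing.eq_maximalIdeal this, Ideal.mem_comap, hg]
      exact Ideal.mul_mem_right _ _ hc
    rw [← hm, hval] at hnm
    exact lt_irrefl _ hnm
  haveI : IsLocalRing C := IsLocalRing.of_unique_max_ideal
    ((Ideal.exists_maximal C).elim fun P hP => ⟨P, hP, fun Q hQ => (hmax Q hQ).trans (hmax P hP).symm⟩)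
  set P := IsLocalRing.maximalIdeal C
  have hP : P = P0 := hmax P inferInstance
  let m := IsLocalRing.maximalIdeal R
  have hcomap : P.comap (algebraMap R C) = m :=
    IsLocalRing.eq_maximalIdeal (Ideal.isMaximal_comap_of_isIntegral_of_isMaximal P)
  haveI : P.LiesOver m := ⟨hcomap.symm⟩
  have hm0 : m ≠ ⊥ := IsDiscreteValuationRing.not_a_field R
  -- the residue fields agree
  have hsurj : Function.Surjective (algebraMap (R ⧸ m) (C ⧸ P)) := by
    intro z
    obtain ⟨c, rfl⟩ := Ideal.Quotient.mk_surjective z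
    obtain ⟨a, ha⟩ := IsIntegrallyClosed.isIntegral_iff.1 (Algebra.isIntegral_trace (F := L) (L := K) c.2)
    obtain ⟨w, hw⟩ : IsUnit ((r : R)) := IsLocalRing.notMem_maximalIdeal.1 fun h => hrk (by
      rw [← map_natCast (IsLocalRing.residue R)]; exact (IsLocalRing.residue_eq_zero_iff _).2 h)
    refine ⟨Ideal.Quotient.mk m (↑w⁻¹ * a), ?_⟩
    change Ideal.Quotient.mk P (algebraMap R C (↑w⁻¹ * a)) = _
    rw [Ideal.Quotient.eq, hP]
    change W.valuation _ < 1
    have htr : algebraMap R Ω a = ∑ σ : L ≃ₐ[K] L, ((σ c : L) : Ω) := by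
      rw [IsScalarTower.algebraMap_apply R K Ω, ha, IsScalarTower.algebraMap_apply K L Ω,
        trace_eq_sum_automorphisms, map_sum]
      rfl
    have hcard : Fintype.card (L ≃ₐ[K] L) = r := by
      rw [← Nat.card_eq_fintype_card, IsGalois.card_aut_eq_finrank, hLr]
    have hu : algebraMap R Ω ↑w⁻¹ * (r : Ω) = 1 := by
      rw [← map_natCast (algebraMap R Ω), ← hw, ← map_mul, Units.inv_mul, map_one]
    change W.valuation (algebraMap R Ω (↑w⁻¹ * a) - ((c : L) : Ω)) < 1
    rw [map_mul, htr]
    have e : algebraMap R Ω ↑w⁻¹ * ∑ σ : L ≃ₐ[K] L, ((σ c : L) : Ω) - ((c : L) : Ω) =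
        algebraMap R Ω ↑w⁻¹ * ∑ σ : L ≃ₐ[K] L, (((σ c : L) : Ω) - ((c : L) : Ω)) := by
      rw [Finset.sum_sub_distrib, mul_sub, Finset.sum_const, Finset.card_univ, hcard, nsmul_eq_mul, ← _root_.mul_assoc, hu,
        _root_.one_mul]
    rw [e, map_mul, val_unit hW (Units.isUnit _), _root_.one_mul]
    exact W.valuation.map_sum_lt' zero_lt_one fun σ _ => hext σ c
  letI := Ideal.Quotient.field m
  have hf : m.inertiaDeg' P = 1 := by
    rw [Ideal.inertiaDeg'_algebraMap]
    exact ((AlgEquiv.ofBijective (Algebra.ofId (R ⧸ m) (C ⧸ P))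
      ⟨(algebraMap (R ⧸ m) (C ⧸ P)).injective, hsurj⟩).toLinearEquiv.finrank_eq).symm.trans (Module.finrank_self _)
  haveI := FaithfulSMul.of_field_isFractionRing R C K L
  have he : m.ramificationIdx' P = r := by
    have h := Ideal.ramificationIdx_mul_inertiaDeg_of_isLocalRing (S := C) K L hm0
    rwa [hf, _root_.mul_one, hLr] at h
  refine ⟨fun Q hQ => ?_, fun π hπ => ?_⟩
  · rw [hmax Q hQ, ← hP, ← Ideal.ramificationIdx'_eq_ramificationIdx m P hm0, he]
  have hπ0 : π ≠ 0 := fun h => hm0 (show IsLocalRing.maximalIdeal R = ⊥ by rw [hπ, h, Ideal.span_singleton_zero])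
  have hPm : m.map (algebraMap R C) ≠ ⊥ := Ideal.map_ne_bot_of_ne_bot hm0
  have hnf : ¬ IsField C := fun h => hPm (eq_bot_iff.2 (by
    have h1 : P = ⊥ := IsLocalRing.isField_iff_maximalIdeal_eq.1 h
    rw [← h1]; exact Ideal.map_le_iff_le_comap.2 hcomap.ge))
  haveI : IsDiscreteValuationRing C :=
    ((IsDiscreteValuationRing.TFAE C hnf).out 2 0 : IsDedekindDomain C ↔ IsDiscreteValuationRing C).1 inferInstance
  obtain ⟨ϖ, hϖ⟩ := IsDiscreteValuationRing.exists_irreducible C
  obtain ⟨n, hn⟩ := IsDiscreteValuationRing.ideal_eq_span_pow_irreducible hPm hϖ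
  have hPϖ : P = Ideal.span {ϖ} := hϖ.maximalIdeal_eq
  have hnr : n = r := by
    rw [← he]
    refine (Ideal.ramificationIdx'_spec ?_ fun h => ?_).symm
    · rw [hn, hPϖ, Ideal.span_singleton_pow]
    · rw [hn, hPϖ, Ideal.span_singleton_pow, Ideal.span_singleton_le_span_singleton,
        pow_dvd_pow_iff hϖ.ne_zero hϖ.not_isUnit] at h
      omega
  rw [show m = Ideal.span {π} from hπ, Ideal.map_span, Set.image_singleton, Ideal.span_singleton_eq_span_singleton] at hn
  obtain ⟨u, hu⟩ := hn.symm
  refine ⟨(ϖ : L), ((u : C) : L), ?_, le_antisymm (hCv _) ?_⟩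
  · rw [← hRC, ← hu, hnr, mul_comm]
    simp
  · have h : W.valuation (((u : C) : L) : Ω) * W.valuation (((↑u⁻¹ : C) : L) : Ω) = 1 := by
      rw [← map_mul, ← IntermediateField.coe_mul, ← Subalgebra.coe_mul, Units.mul_inv]
      simp
    rw [← h]
    exact mul_le_of_le_one_right' (hCv _)

end

/-- Let R be a discrete valuation ring with fraction field K and residue field k, Ω a separable closure
of K and W a valuation subring of Ω lying over R. Assume that every K-automorphism of Ω belongs to
the inertia group at W, i.e. K coincides with its maximal extension inside Ω at which the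
restriction of W is unramified over R. Let r ≥ 1 be an integer whose image in k is non-zero. Then
there is exactly one intermediate field L of Ω over K with [L : K] = r and L Galois over K; moreover
every such L is totally (and tamely) ramified over R: every maximal ideal of the integral closure of
R in L has ramification index r over R. -/
theorem result (R K Ω : Type u) [CommRing R] [IsDomain R]
    [IsDiscreteValuationRing R] [Field K] [Algebra R K] [IsFractionRing R K] [Field Ω] [Algebra K Ω]
    [IsSepClosure K Ω] [Algebra R Ω] [IsScalarTower R K Ω]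
    (W : ValuationSubring Ω) (hW : SGA7.LiesOver K R W)
    (hI : ∀ σ : Ω ≃ₐ[K] Ω, SGA7.IsInertia W σ)
    (r : ℕ) (hr : 0 < r) (hrk : (r : IsLocalRing.ResidueField R) ≠ 0) :
    (∃! L : IntermediateField K Ω, Module.finrank K L = r ∧ IsGalois K L) ∧
      ∀ L : IntermediateField K Ω, Module.finrank K L = r → IsGalois K L →
        ∀ P : Ideal (integralClosure R L), P.IsMaximal → P.ramificationIdx R = r := by
  classical
  haveI : IsSepClosed Ω := IsSepClosure.sep_closed K
  have hr0 := val_natCast hW hrk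
  haveI : NeZero (r : Ω) := ⟨fun h => by rw [h, map_zero] at hr0; exact zero_ne_one hr0⟩
  obtain ⟨π, hπirr⟩ := IsDiscreteValuationRing.exists_irreducible R
  have hπ : IsLocalRing.maximalIdeal R = Ideal.span {π} := hπirr.maximalIdeal_eq
  have hπ0 : algebraMap R Ω π ≠ 0 := by
    rw [IsScalarTower.algebraMap_apply R K Ω]
    exact (map_ne_zero _).2 ((map_ne_zero_iff _ (IsFractionRing.injective R K)).2 hπirr.ne_zero)
  obtain ⟨y, hy⟩ := IsSepClosed.exists_pow_nat_eq (algebraMap R Ω π) r
  have hroot : ∀ z : Ω, z ^ r = 1 → z ∈ (⊥ : IntermediateField K Ω) := fun z hz => by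
    refine mem_of_pow_mem hI hr0 ⊥ (by rw [hz]; exact one_mem _) ?_
    refine (pow_eq_one_iff.1 ?_).resolve_right hr.ne'
    rw [← map_pow, hz, map_one]
  have hy0 : y ≠ 0 := fun h => hπ0 (by rw [← hy, h, zero_pow hr.ne'])
  let f : Polynomial R := Polynomial.X ^ r - Polynomial.C π
  have hfm : f.Monic := Polynomial.monic_X_pow_sub_C _ hr.ne'
  have hfirr : Irreducible f := by
    refine Polynomial.irreducible_of_eisenstein_criterion (P := IsLocalRing.maximalIdeal R)
      (IsLocalRing.maximalIdeal.isMaximal R).isPrime ?_ (fun n hn => ?_) ?_ ?_ hfm.isPrimitive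
    · rw [hfm.leadingCoeff]; exact (Ideal.ne_top_iff_one _).1 (IsLocalRing.maximalIdeal.isMaximal R).ne_top
    · rw [Polynomial.degree_X_pow_sub_C hr, Nat.cast_lt] at hn
      simp only [f, Polynomial.coeff_sub, Polynomial.coeff_X_pow, Polynomial.coeff_C, if_neg hn.ne, zero_sub, neg_mem_iff]
      split_ifs
      · rw [hπ]; exact Ideal.mem_span_singleton_self π
      · exact zero_mem _
    · rw [Polynomial.degree_X_pow_sub_C hr]; exact_mod_cast hr
    · simp only [f, Polynomial.coeff_sub, Polynomial.coeff_X_pow, if_neg hr.ne, Polynomial.coeff_C_zero, zero_sub,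
        neg_mem_iff, hπ, Ideal.span_singleton_pow, Ideal.mem_span_singleton]
      intro h
      have := (pow_dvd_pow_iff (n := 2) (m := 1) hπirr.ne_zero hπirr.not_isUnit).1 (by rwa [pow_one])
      omega
  have hfK : minpoly K y = f.map (algebraMap R K) :=
    (minpoly.eq_of_irreducible_of_monic ((hfm.irreducible_iff_irreducible_map_fraction_map).1 hfirr)
      (by simp [f, hy, ← IsScalarTower.algebraMap_apply]) (hfm.map _)).symm
  let L0 := IntermediateField.adjoin K {y}
  have hint : IsIntegral K y := Algebra.IsIntegral.isIntegral y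
  have hL0r : Module.finrank K L0 = r := by
    rw [IntermediateField.adjoin.finrank hint, hfK, hfm.natDegree_map, Polynomial.natDegree_X_pow_sub_C]
  haveI : FiniteDimensional K L0 := IntermediateField.adjoin.finiteDimensional hint
  haveI : Normal K L0 := by
    refine IntermediateField.normal_iff_forall_map_le'.2 fun σ => ?_
    rw [IntermediateField.adjoin_map, IntermediateField.adjoin_le_iff, Set.image_singleton, Set.singleton_subset_iff]
    have h : σ y / y ∈ L0 := (bot_le : ⊥ ≤ L0) (hroot _ (by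
      rw [div_pow, ← map_pow, hy, IsScalarTower.algebraMap_apply R K Ω, AlgEquiv.commutes,
        div_self (by rw [← IsScalarTower.algebraMap_apply]; exact hπ0)]))
    have := mul_mem h (IntermediateField.mem_adjoin_simple_self K y)
    rwa [div_mul_cancel₀ _ hy0] at this
  haveI : Algebra.IsSeparable K L0 := Algebra.isSeparable_tower_bot_of_isSeparable K L0 Ω
  have hL0G : IsGalois K L0 := ⟨⟩
  refine ⟨⟨L0, ⟨hL0r, hL0G⟩, fun L ⟨hL, hLG⟩ => ?_⟩, fun L hL hLG => (totallyRamified hW hI hrk L hL hLG).1⟩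
  obtain ⟨c, u, hcu, hu⟩ := (totallyRamified hW hI hrk L hL hLG).2 π hπ
  obtain ⟨z, hz⟩ := IsSepClosed.exists_pow_nat_eq (u : Ω) r
  have hzL : z ∈ L := mem_of_pow_mem hI hr0 L (by rw [hz]; exact u.2) ((pow_eq_one_iff.1 (by
    rw [← map_pow, hz, hu])).resolve_right hr.ne')
  have hzc : (z * c) ^ r = algebraMap R Ω π := by rw [mul_pow, hz, hcu]
  have hzc0 : z * c ≠ 0 := fun h => hπ0 (by rw [← hzc, h, zero_pow hr.ne'])
  have hyL : y ∈ L := by
    have h : y / (z * c) ∈ L := (bot_le : ⊥ ≤ L) (hroot _ (by rw [div_pow, hy, hzc, div_self hπ0]))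
    have := mul_mem h (mul_mem hzL c.2)
    rwa [div_mul_cancel₀ _ hzc0] at this
  haveI : FiniteDimensional K L := Module.finite_of_finrank_pos (hL ▸ hr)
  exact (IntermediateField.eq_of_le_of_finrank_eq (IntermediateField.adjoin_le_iff.2 (Set.singleton_subset_iff.2 hyL))
    (hL0r.trans hL.symm)).symm

end Groth.Agent.S19917
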