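import Groth.Statements.S19918
import Groth.Agent.Lib.ArSurf29.Torsion

set_option autoImplicit false
universe u
open CategoryTheory CategoryTheory.Limits AlgebraicGeometry
open Models

namespace Groth.Agent.S19918

/-- Kernel of Pic(X)[n] → Pic(C)[n]: let R be a discrete valuation ring with fraction field K, C a
smooth proper curve over K with H^0(C, O_C) = K, X a regular proper model of C with generic-fibre
inclusion g : C → X, Γ_1, …, Γ_n the irreducible components of the closed fibre with multiplicities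
m_1, …, m_n, d = gcd(m_1, …, m_n), and L_i invertible O_X-modules with L_i ⊗ I(Γ_i) ≅ O_X (that is,
L_i = O_X(Γ_i)). Let h ≥ 1 and put e = gcd(h, d). If M is an invertible O_X-module with M^{⊗h} ≅ O_X
whose pullback to C is trivial, then there is exactly one natural number k < e with M ≅ L_1^{k
m_1/e} ⊗ ⋯ ⊗ L_n^{k m_n/e} = O_X(k·(1/e)·X_s). In other words the kernel of Pic(X)[h] → Pic(C)[h] is
cyclic of order gcd(h, d), generated by the class of O_X((1/e)·X_s). -/
theorem result (R : Type u) [CommRing R] [IsDomain R] [IsDiscreteValuationRing R]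
    (C X : Scheme.{u}) (f : C ⟶ Spec (CommRingCat.of (FractionRing R))) (p : X ⟶ Spec (CommRingCat.of R))
    (hC : Curve.IsSmoothProperCurve (FractionRing R) C f) (hH0 : IsIso f.appTop)
    (hX : Models.IsRegularProperModel R X p C f)
    {n : ℕ} (Γ : Fin n → ArSurf.VertComp R (Over.mk p)) (hΓ : Models.IsComponentList R (Over.mk p) Γ)
    (g : C ⟶ X) (hg : IsPullback g f p (Spec.map (CommRingCat.ofHom (algebraMap R (FractionRing R)))))
    (L : Fin n → X.Modules) (hL : ∀ i, ClSub.IsInverseOf (L i) (ClSub.idealMod (Γ i).ι.ker))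
    (h : ℕ) (hh : 0 < h)
    (M : X.Modules) (hM : PicF.IsInvertible M)
    (htors : Nonempty (CohB1.tensorPow M h ≅ Coh.structureModule X))
    (htriv : Nonempty ((Scheme.Modules.pullback g).obj M ≅ Coh.structureModule C)) :
    ∃! k : ℕ, k < Nat.gcd h (Models.multGcd R (Over.mk p) Γ) ∧
      Nonempty (M ≅ FGA.multiTwist L (fun i => k * (Models.mult R (Over.mk p) (Γ i) / Nat.gcd h (Models.multGcd R (Over.mk p) Γ)))) := by
  haveI : Flat (Over.mk p).hom := hX.1.1
  haveI : IsProper (Over.mk p).hom := hX.2.1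
  haveI : IsLocallyNoetherian (Over.mk p).left :=
    LocallyOfFiniteType.isLocallyNoetherian (Over.mk p).hom
  haveI : IsIntegral C := hC.2.2.1
  haveI : Nonempty (Fin n) := GrothLib.ArSurf29.nonempty_fin hΓ g inferInstance
  set e := Nat.gcd h (Models.multGcd R (Over.mk p) Γ) with he
  have he0 : 0 < e := Nat.gcd_pos_of_pos_left _ hh
  let w : Fin n → ℕ := fun j => Models.mult R (Over.mk p) (Γ j) / e
  have hed : ∀ j, e ∣ Models.mult R (Over.mk p) (Γ j) := fun j =>
    (Nat.gcd_dvd_right h (Models.multGcd R (Over.mk p) Γ)).trans (Finset.gcd_dvd (Finset.mem_univ j))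
  have hw : ∀ j, Models.mult R (Over.mk p) (Γ j) = e * w j := fun j => (Nat.mul_div_cancel' (hed j)).symm
  obtain ⟨k', hk'⟩ := GrothLib.ArSurf29.exists_eq_prod_of_torsion (X := Over.mk p) hX.2.2 hΓ hg hL hH0
    ((GrothLib.ArSurf29.pull_cls_eq_one_iff g hM).1 htriv) hh (by
      rw [← GrothLib.Cube.clsMod_tensorPow hM]
      exact (GrothLib.Cube.clsMod_eq_one_iff _).2 htors)
  have key : ∀ k : ℕ, Nonempty (M ≅ FGA.multiTwist L (fun i => k * w i)) ↔ ∃ c : ℤ, k' - k = c * e := fun k => by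
    obtain ⟨hk, ek⟩ := GrothLib.ArSurf29.cls_multiTwist (GrothLib.ArSurf29.isInvertible_inverse hX.2.2 hΓ hL) (fun i => k * w i)
    rw [← GrothLib.Cube.clsMod_eq_iff hM hk, ek, hk', ← mul_inv_eq_one, ← Finset.prod_inv_distrib, ← Finset.prod_mul_distrib]
    have h1 : (∏ j, GrothLib.ArSurf29.vcls hX.2.2 hΓ hL j ^ ((k' - k) * (w j : ℤ)) = 1) ↔ ∃ c : ℤ, k' - k = c * e := by
      rw [GrothLib.ArSurf29.prod_vcls_zpow_eq_one_iff hX.2.2 hΓ hL hg hH0]
      constructor
      · rintro ⟨c, hc⟩
        obtain ⟨j⟩ := ‹Nonempty (Fin n)›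
        refine ⟨c, mul_right_cancel₀ (b := (w j : ℤ)) ?_ ?_⟩
        · have := GrothLib.ArSurf29.mult_pos (Γ := Γ j) (GrothLib.ArSurf29.isMaxComp hΓ j) hX.2.2
          rw [hw j] at this
          exact_mod_cast (Nat.pos_of_mul_pos_left this).ne'
        · rw [hc j, hw j]; push_cast; ring
      · rintro ⟨c, hc⟩
        exact ⟨c, fun j => by rw [hc, hw j]; push_cast; ring⟩
    rw [← h1]
    refine Eq.congr_left (Finset.prod_congr rfl fun j _ => ?_)
    rw [sub_mul, zpow_sub, ← Nat.cast_mul, zpow_natCast]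
    rfl
  have hmod := Int.emod_nonneg k' (show (e : ℤ) ≠ 0 by exact_mod_cast he0.ne')
  refine ⟨(k' % e).toNat, ⟨?_, (key _).2 ⟨k' / e, ?_⟩⟩, fun k ⟨hk, hkM⟩ => ?_⟩
  · have := Int.emod_lt_of_pos k' (show (0 : ℤ) < e by exact_mod_cast he0)
    omega
  · rw [Int.toNat_of_nonneg hmod]
    have := Int.emod_add_ediv_mul k' e
    omega
  · obtain ⟨c, hc⟩ := (key k).1 hkM
    have h1 : k' % e = k := by
      rw [show k' = (k : ℤ) + c * e by omega, Int.add_mul_emod_self_right,
        Int.emod_eq_of_lt (by positivity) (by exact_mod_cast hk)]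
    omega

end Groth.Agent.S19918
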