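import Groth.Statements.S1992
import Mathlib.RingTheory.Polynomial.ScaleRoots
import Mathlib.FieldTheory.IsSepClosed
import Mathlib.RingTheory.Localization.Integral
-- import your own Groth.Agent.* helpers here

set_option autoImplicit false
universe u
open Polynomial
open EtAlg

namespace Groth.Agent.S1992

/-- Let A be an absolutely integrally closed ring, i.e. every monic polynomial over A is a product of
linear factors X - a. Then for every prime p of A the localization A_p is a strictly henselian local
ring (henselian with separably closed residue field). -/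
theorem result (A : Type u) [CommRing A]
    (hA : ∀ f : A[X], f.Monic → ∃ s : Multiset A, f = (s.map fun a => X - C a).prod)
    (p : Ideal A) [p.IsPrime] :
    EtCoh.IsStrictlyHenselianLocalRing (Localization.AtPrime p) := by
  let K := Localization.AtPrime p
  have key : ∀ F : K[X], F.Monic → ∃ s : Multiset K, F = (s.map fun a => X - C a).prod := by
    intro F hF
    obtain ⟨b, hb⟩ := IsLocalization.integerNormalization_map_to_map p.primeCompl F
    set G := IsLocalization.integerNormalization p.primeCompl F
    let n := F.natDegree
    let P : A[X] := X ^ n + ∑ i ∈ Finset.range n, C (G.coeff i * (b : A) ^ (n - i - 1)) * X ^ i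
    have hPm : P.Monic := by
      refine monic_X_pow_add ((degree_sum_le _ _).trans_lt ((Finset.sup_lt_iff (WithBot.bot_lt_coe _)).mpr fun i hi => ?_))
      exact (degree_C_mul_X_pow_le i _).trans_lt (WithBot.coe_lt_coe.mpr (Finset.mem_range.mp hi))
    obtain ⟨s, hs⟩ := hA P hPm
    obtain ⟨u, hu⟩ := IsLocalization.map_units K b
    refine ⟨s.map fun a => algebraMap A K a * (↑u⁻¹ : K), ?_⟩
    have hmap : P.map (algebraMap A K) = F.scaleRoots (u : K) := by
      ext i
      rw [coeff_scaleRoots, coeff_map]
      show algebraMap A K (P.coeff i) = F.coeff i * (u : K) ^ (n - i)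
      have hP : P.coeff i = if i < n then G.coeff i * (b : A) ^ (n - i - 1) else if i = n then 1 else 0 := by
        simp only [P, coeff_add, coeff_X_pow, finsetSum_coeff, coeff_C_mul_X_pow, Finset.sum_ite_eq, Finset.mem_range]
        rcases lt_trichotomy i n with h | h | h
        · rw [if_neg h.ne, zero_add, if_pos h]
        · simp [h]
        · rw [if_neg h.ne', if_neg h.not_gt, add_zero]
      rw [hP]
      rcases lt_trichotomy i n with h | h | h
      · have hG : algebraMap A K (G.coeff i) = (u : K) * F.coeff i := by
          have := congrArg (fun Q : K[X] => Q.coeff i) hb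
          rw [coeff_map, coeff_smul, Algebra.smul_def, ← hu] at this
          exact this
        rw [if_pos h, map_mul, map_pow, hG, ← hu, show n - i = (n - i - 1) + 1 by omega, pow_succ,
          Nat.add_sub_cancel]
        ring
      · subst h
        rw [if_neg (lt_irrefl _), if_pos rfl, map_one, Nat.sub_self, pow_zero, mul_one]
        exact hF.coeff_natDegree.symm
      · rw [if_neg h.not_gt, if_neg h.ne', map_zero, coeff_eq_zero_of_natDegree_lt h, zero_mul]
    have hF' : F = (F.scaleRoots (u : K)).scaleRoots (↑u⁻¹ : K) := by
      rw [← scaleRoots_mul, Units.mul_inv, scaleRoots_one]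
    rw [hF', ← hmap, hs, Polynomial.map_multiset_prod, Multiset.map_map, Multiset.map_map]
    clear hs
    induction s using Multiset.induction_on with
    | empty => simp
    | cons a s ih =>
      rw [Multiset.map_cons, Multiset.map_cons, Multiset.prod_cons, Multiset.prod_cons]
      rw [← ih]
      have hunit : IsUnit (↑u⁻¹ : K) := u⁻¹.isUnit
      simp only [Function.comp_apply, Polynomial.map_sub, map_X, map_C]
      rw [mul_scaleRoots' _ _ _ (by
        rw [(monic_X_sub_C _).leadingCoeff,
          (monic_multiset_prod_of_monic s _ fun i _ => monic_X_sub_C _).leadingCoeff, one_mul]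
        exact one_ne_zero), X_sub_C_scaleRoots]
  let mK := IsLocalRing.maximalIdeal K
  have hh : HenselianLocalRing K := ⟨fun F hF a₀ h₁ _ => by
    obtain ⟨s, hs⟩ := key F hF
    rw [hs, eval_multiset_prod, Multiset.map_map] at h₁
    obtain ⟨_, hmem, hcm⟩ :=
      ((IsLocalRing.maximalIdeal.isMaximal K).isPrime.multiset_prod_mem_iff_exists_mem _).mp h₁
    obtain ⟨c, hc, rfl⟩ := Multiset.mem_map.mp hmem
    refine ⟨c, ?_, ?_⟩
    · rw [hs, IsRoot, eval_multiset_prod, Multiset.map_map]
      exact Multiset.prod_eq_zero (Multiset.mem_map.mpr ⟨c, hc, by simp⟩)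
    · rw [← neg_sub]
      exact neg_mem (by simpa using hcm)⟩
  refine ⟨hh, ?_⟩
  haveI : IsAlgClosed (IsLocalRing.ResidueField K) := by
    refine IsAlgClosed.of_exists_root _ fun q hq hirr => ?_
    obtain ⟨F, hFq, hFd, hFm⟩ := lifts_and_degree_eq_and_monic
      (show q ∈ lifts (IsLocalRing.residue K) from (mem_lifts q).mpr (map_surjective _ IsLocalRing.residue_surjective q)) hq
    obtain ⟨s, hs⟩ := key F hFm
    rcases s.empty_or_exists_mem with rfl | ⟨a, ha⟩
    · exfalso
      rw [hs] at hFq
      simp at hFq
      exact hirr.ne_one hFq.symm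
    · refine ⟨IsLocalRing.residue K a, ?_⟩
      rw [← hFq, hs, Polynomial.map_multiset_prod, eval_multiset_prod, Multiset.map_map, Multiset.map_map]
      exact Multiset.prod_eq_zero (Multiset.mem_map.mpr ⟨a, ha, by simp⟩)
  infer_instance

end Groth.Agent.S1992
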