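import Groth.Statements.S19923
-- import your own Groth.Agent.* helpers here
import Groth.Agent.Lib.Poincare.DualRel
import Groth.Agent.Lib.Poincare.TensorInv

set_option autoImplicit false
universe u
open CategoryTheory CategoryTheory.Limits MonoidalCategory CartesianMonoidalCategory MonObj GrpObj AlgebraicGeometry
open AbVar

namespace Groth.Agent.S19923

/-- Let A be an abelian variety over a field k (a proper, geometrically integral commutative k-group
scheme; k arbitrary), given with a dual (Â, φ_A) and a dual (Â̂, φ_Â) of Â — each represents the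
fppf-sheafified functor of invertible classes algebraically equivalent to zero on geometric fibres,
with φ multiplicative — and with a Poincaré class ξ on A ×_k Â whose transpose ξ' on Â ×_k A lies in
Pic⁰ on the fibres over A; put ι_A = φ_Â(ξ') : A → Â̂ (the double-duality morphism). Let L be an
invertible O_A-module with an inverse L⁻¹, and let Λ be a module on A ×_k A isomorphic to m^*L ⊗
p₁^*L⁻¹ ⊗ p₂^*L⁻¹ (m the group law, p₁, p₂ the projections) whose class lies in Pic⁰ on the fibres
over the second factor, so that φ_L := φ_A(Λ) : A → Â is the homomorphism a ↦ t_a^*L ⊗ L⁻¹. If φ̂_L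
: Â̂ → Â is a transpose of φ_L (φ_A of the pull-back of a Pic⁰ class c along (φ_L)_T equals φ_Â(c)
followed by φ̂_L), then φ_L = ι_A followed by φ̂_L: the homomorphism φ_L is symmetric. -/
theorem result (K : Type u) [Field K]
    (A At Att : Over (Spec (CommRingCat.of K)))
    [GrpObj A] [IsCommMonObj A] [IsProper A.hom] [GeometricallyIntegral A.hom]
    [GrpObj At] [IsCommMonObj At] [IsProper At.hom] [GeometricallyIntegral At.hom]
    [GrpObj Att] [IsCommMonObj Att] [IsProper Att.hom] [GeometricallyIntegral Att.hom]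
    (φA : ∀ T : Over (Spec (CommRingCat.of K)), PicF.Cl (PicF.XT A.hom T) → (T ⟶ At))
    (hAt : AbDual.IsDualAV Scheme.fppfPrecoverage A At φA)
    (φAt : ∀ T : Over (Spec (CommRingCat.of K)), PicF.Cl (PicF.XT At.hom T) → (T ⟶ Att))
    (hAtt : AbDual.IsDualAV Scheme.fppfPrecoverage At Att φAt)
    (ξ : PicF.Cl (PicF.XT A.hom At)) (hξ : AbDual.IsPoincareCl A At φA ξ)
    (hξ' : AbDual.IsPicZeroCl At.hom A (PicF.pullCl (pullbackSymmetry At.hom A.hom).hom ξ))
    (L Linv : A.left.Modules) (hL : PicF.IsInvertible L)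
    (hLinv : Nonempty (CohB1.tensorMod L Linv ≅ Coh.structureModule A.left))
    (Λ : (PicF.XT A.hom A).Modules)
    (hΛ : Nonempty (Λ ≅ CohB1.tensorMod (CohB1.tensorMod ((Scheme.Modules.pullback (μ[A]).left).obj L)
      ((Scheme.Modules.pullback (fst A A).left).obj Linv)) ((Scheme.Modules.pullback (snd A A).left).obj Linv)))
    (hΛ0 : AbDual.IsPicZeroCl A.hom A (PicF.cl Λ))
    (tl : Att ⟶ At) [IsMonHom tl]
    (htl : AbDual.IsTranspose (φA A (PicF.cl Λ)) φA φAt tl) :
    φA A (PicF.cl Λ) = φAt A (PicF.pullCl (pullbackSymmetry At.hom A.hom).hom ξ) ≫ tl := by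
  haveI : Flat A.hom := inferInstance
  haveI : LocallyOfFinitePresentation A.hom := inferInstance
  have hw : ∀ (B C : Over (Spec (CommRingCat.of K))), (pullbackSymmetry B.hom C.hom).hom = (lift (snd B C) (fst B C)).left :=
    fun B C => by
    refine Limits.pullback.hom_ext ?_ ?_
    · exact (pullbackSymmetry_hom_comp_fst _ _).trans
        (congrArg (fun h : B ⊗ C ⟶ C => h.left) (lift_fst (snd B C) (fst B C))).symm
    · exact (pullbackSymmetry_hom_comp_snd _ _).trans
        (congrArg (fun h : B ⊗ C ⟶ B => h.left) (lift_snd (snd B C) (fst B C))).symm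
  obtain ⟨P, rfl, hP, -⟩ := hξ.1
  obtain ⟨hz, hid, hrig⟩ := hξ
  have hx := GrothLib.Cube.hasCls_clsMod hP
  set x : GrothLib.Cube.Pic (A ⊗ At).left := GrothLib.Cube.clsMod hP
  rw [hw At A] at hξ' ⊢
  have hz1 := (GrothLib.Dual.pz_iff hx).1 hz
  have hsw := (GrothLib.Dual.pz_iff (hx.pullback _)).1 hξ'
  rw [GrothLib.Dual.dphi_eq (φ := φA) hx] at hid
  rw [GrothLib.Dual.secT_eq] at hrig
  have hr := GrothLib.Dual.cls_eq_of_cl_eq (hx.pullback _) (GrothLib.Cube.hasCls_structureModule _) hrig
  -- the Mumford class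
  obtain ⟨iLinv⟩ := hLinv
  have hLi : PicF.IsInvertible Linv :=
    GrothLib.KL.isInvertible_of_tensor_iso iLinv hL GrothLib.Euler.isInvertible_structure
  have hy := GrothLib.Cube.hasCls_clsMod hL
  set y : GrothLib.Cube.Pic A.left := GrothLib.Cube.clsMod hL
  have hyi := GrothLib.Cube.hasCls_clsMod hLi
  have hinv : GrothLib.Cube.clsMod hLi = y⁻¹ :=
    eq_inv_of_mul_eq_one_right ((hy.tensor hyi).eq (GrothLib.Cube.hasCls_structureModule _) ⟨iLinv⟩)
  obtain ⟨iΛ⟩ := hΛ
  have hT := ((hy.pullback (μ[A]).left).tensor (hyi.pullback (fst A A).left)).tensor (hyi.pullback (snd A A).left)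
  have hΛi : PicF.IsInvertible Λ := GrothLib.RelProjK.isInvertible_of_iso iΛ hT.choose
  set m : GrothLib.Cube.Pic (A ⊗ A).left := GrothLib.Cube.addClass (fst A A) (snd A A) y
  have hm : GrothLib.Cube.HasCls Λ m := by
    have h := GrothLib.Cube.hasCls_clsMod hΛi
    rw [h.eq hT ⟨iΛ⟩] at h
    convert h using 1
    rw [hinv, map_inv, map_inv]
    show GrothLib.Cube.addClass (fst A A) (snd A A) y = _
    rw [GrothLib.Cube.addClass, show (μ[A] : A ⊗ A ⟶ A) = fst A A * snd A A by
      rw [Hom.mul_def, lift_fst_snd, Category.id_comp], _root_.mul_inv, _root_.mul_assoc]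
  have hzm := (GrothLib.Dual.pz_iff hm).1 hΛ0
  rw [GrothLib.Dual.dphi_eq (φ := φA) hm] at htl ⊢
  set lam := GrothLib.Dual.dphi φA A m with hlam
  have key : GrothLib.Cube.pull (A ◁ lam).left x = m := by
    refine GrothLib.Dual.eq_of_dphi hAt (hz1.pullT lam) hzm ?_ ?_
    · have e2 : lift (1 : A ⟶ A) (𝟙 A) ≫ A ◁ lam = lam ≫ lift (1 : At ⟶ A) (𝟙 At) := by
        apply CartesianMonoidalCategory.hom_ext <;> simp [MonObj.comp_one]
      rw [GrothLib.CubeRel26.pull_pull_over, e2, ← GrothLib.CubeRel26.pull_pull_over, hr, map_one,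
        GrothLib.Cube.pull_addClass, lift_fst, lift_snd, GrothLib.Cube.addClass, _root_.one_mul,
        GrothLib.Cube.pull_one_hom, _root_.one_mul, mul_inv_cancel]
    · rw [GrothLib.Dual.dphi_pull hAt hz1 lam, hid, Category.comp_id, hlam]
  show lam = φAt A (PicF.cl _) ≫ tl
  rw [GrothLib.Dual.dphi_eq (φ := φAt) (hx.pullback _), ← GrothLib.Dual.dphi_transpose htl hsw]
  have e : lam ▷ A ≫ lift (snd At A) (fst At A) = lift (snd A A) (fst A A) ≫ A ◁ lam := by
    apply CartesianMonoidalCategory.hom_ext <;> simp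
  rw [GrothLib.CubeRel26.pull_pull_over, e, ← GrothLib.CubeRel26.pull_pull_over, key, GrothLib.Cube.pull_addClass,
    lift_fst, lift_snd]
  show lam = GrothLib.Dual.dphi φA A (GrothLib.Cube.addClass (snd A A) (fst A A) y)
  rw [show GrothLib.Cube.addClass (snd A A) (fst A A) y = m by
    show _ = GrothLib.Cube.addClass (fst A A) (snd A A) y
    rw [GrothLib.Cube.addClass, GrothLib.Cube.addClass, GrothLib.Cube.hom_mul_comm (snd A A) (fst A A),
      mul_comm (GrothLib.Cube.pull (snd A A).left y)], hlam]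

end Groth.Agent.S19923
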