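import Groth.Statements.S19924
import Groth.Agent.Lib.ArSurf29.Torsion

set_option autoImplicit false
universe u
open CategoryTheory CategoryTheory.Limits AlgebraicGeometry
open Models

namespace Groth.Agent.S19924

/-- Let R be a discrete valuation ring with fraction field K, C a smooth proper curve over K with H^0(C,
O_C) = K, X a regular proper model of C with generic-fibre inclusion g : C → X, Γ_1, …, Γ_n the
irreducible components of the closed fibre with multiplicities m_1, …, m_n, and L_i invertible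
O_X-modules with L_i ⊗ I(Γ_i) ≅ O_X. Let h ≥ 1, let N be an invertible O_C-module with N^{⊗h} ≅ O_C,
let M be an invertible O_X-module whose pullback to C is N, and let a, b be exponent vectors with
M^{⊗h} ⊗ L_1^{a_1} ⊗ ⋯ ⊗ L_n^{a_n} ≅ L_1^{b_1} ⊗ ⋯ ⊗ L_n^{b_n}, i.e. M^{⊗h} ≅ O_X(Σ (b_i − a_i)
Γ_i). Then N is the pullback of some invertible O_X-module M' with M'^{⊗h} ≅ O_X if and only if
there are integers c_1, …, c_n and e with b_i − a_i = h c_i + e m_i for all i: the class of Σ (b_i −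
a_i) Γ_i modulo h ℤ^n + ℤ·(m_1, …, m_n) is the obstruction to lifting the h-torsion class N to an
h-torsion class on X. -/
theorem result (R : Type u) [CommRing R] [IsDomain R] [IsDiscreteValuationRing R]
    (C X : Scheme.{u}) (f : C ⟶ Spec (CommRingCat.of (FractionRing R))) (p : X ⟶ Spec (CommRingCat.of R))
    (hC : Curve.IsSmoothProperCurve (FractionRing R) C f) (hH0 : IsIso f.appTop)
    (hX : Models.IsRegularProperModel R X p C f)
    {n : ℕ} (Γ : Fin n → ArSurf.VertComp R (Over.mk p)) (hΓ : Models.IsComponentList R (Over.mk p) Γ)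
    (g : C ⟶ X) (hg : IsPullback g f p (Spec.map (CommRingCat.ofHom (algebraMap R (FractionRing R)))))
    (L : Fin n → X.Modules) (hL : ∀ i, ClSub.IsInverseOf (L i) (ClSub.idealMod (Γ i).ι.ker))
    (h : ℕ) (hh : 0 < h)
    (N : C.Modules) (hN : PicF.IsInvertible N) (hNt : Nonempty (CohB1.tensorPow N h ≅ Coh.structureModule C))
    (M : X.Modules) (hM : PicF.IsInvertible M) (hMN : Nonempty ((Scheme.Modules.pullback g).obj M ≅ N))
    (a b : Fin n → ℕ)
    (hab : Nonempty (CohB1.tensorMod (CohB1.tensorPow M h) (FGA.multiTwist L a) ≅ FGA.multiTwist L b)) :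
    (∃ M' : X.Modules, PicF.IsInvertible M' ∧ Nonempty (CohB1.tensorPow M' h ≅ Coh.structureModule X) ∧
        Nonempty ((Scheme.Modules.pullback g).obj M' ≅ N)) ↔
      ∃ (c : Fin n → ℤ) (e : ℤ), ∀ i, ((b i : ℤ) - (a i : ℤ)) = (h : ℤ) * c i + e * (Models.mult R (Over.mk p) (Γ i) : ℤ) := by
  haveI : Flat (Over.mk p).hom := hX.1.1
  haveI : IsProper (Over.mk p).hom := hX.2.1
  haveI : IsLocallyNoetherian (Over.mk p).left :=
    LocallyOfFiniteType.isLocallyNoetherian (Over.mk p).hom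
  obtain ⟨ha, ea⟩ := GrothLib.ArSurf29.cls_multiTwist (GrothLib.ArSurf29.isInvertible_inverse hX.2.2 hΓ hL) a
  obtain ⟨hb, eb⟩ := GrothLib.ArSurf29.cls_multiTwist (GrothLib.ArSurf29.isInvertible_inverse hX.2.2 hΓ hL) b
  have hh' := GrothLib.Ample.isInvertible_tensorPow hM h
  have hx : (GrothLib.Cube.clsMod hM : GrothLib.Cube.Pic (Over.mk p).left) ^ h = ∏ j, GrothLib.ArSurf29.vcls hX.2.2 hΓ hL j ^ ((b j : ℤ) - a j) := by
    have h1 := (GrothLib.Cube.clsMod_eq_iff (GrothLib.Ample.isInvertible_tensorMod hh' ha) hb).2 hab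
    rw [GrothLib.Cube.clsMod_tensorMod hh' ha, GrothLib.Cube.clsMod_tensorPow hM, ea, eb, ← eq_mul_inv_iff_mul_eq] at h1
    refine h1.trans ?_
    rw [← Finset.prod_inv_distrib, ← Finset.prod_mul_distrib]
    refine Finset.prod_congr rfl fun j _ => ?_
    rw [zpow_sub, zpow_natCast, zpow_natCast]
    rfl
  have hMN' := (GrothLib.ArSurf29.pull_cls_eq_iff g hM hN).1 hMN
  constructor
  · rintro ⟨M', hM', hM'h, hM'N⟩
    obtain ⟨c, hc⟩ := GrothLib.ArSurf29.exists_eq_prod_vcls' hX.2.2 hΓ hL hg (x := GrothLib.Cube.clsMod hM * (GrothLib.Cube.clsMod hM')⁻¹) (by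
      rw [map_mul, map_inv, hMN', (GrothLib.ArSurf29.pull_cls_eq_iff g hM' hN).1 hM'N, mul_inv_cancel])
    have h2 : (GrothLib.Cube.clsMod hM' : GrothLib.Cube.Pic (Over.mk p).left) ^ h = 1 := by
      rw [← GrothLib.Cube.clsMod_tensorPow hM']
      exact (GrothLib.Cube.clsMod_eq_one_iff _).2 hM'h
    obtain ⟨e, he⟩ := (GrothLib.ArSurf29.prod_vcls_zpow_eq_one_iff hX.2.2 hΓ hL hg hH0 (fun j => ((b j : ℤ) - a j) - (h : ℤ) * c j)).1 (by
      have h3 := congrArg (fun y : GrothLib.Cube.Pic (Over.mk p).left => y ^ h) hc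
      simp only [mul_pow, inv_pow, h2, inv_one, mul_one, hx, ← Finset.prod_pow] at h3
      have h4 : ∀ j, GrothLib.ArSurf29.vcls hX.2.2 hΓ hL j ^ (((b j : ℤ) - a j) - (h : ℤ) * c j) = GrothLib.ArSurf29.vcls hX.2.2 hΓ hL j ^ ((b j : ℤ) - a j) * ((GrothLib.ArSurf29.vcls hX.2.2 hΓ hL j ^ c j) ^ h)⁻¹ :=
        fun j => by rw [zpow_sub, mul_comm (h : ℤ), zpow_mul, zpow_natCast, zpow_natCast]
      rw [Finset.prod_congr rfl fun j _ => h4 j, Finset.prod_mul_distrib, Finset.prod_inv_distrib, h3, mul_inv_cancel])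
    exact ⟨fun j => (c j : ℤ), e, fun j => by linear_combination he j⟩
  · rintro ⟨c, e, hce⟩
    let y : GrothLib.Cube.Pic (Over.mk p).left := (show GrothLib.Cube.Pic (Over.mk p).left from GrothLib.Cube.clsMod hM) * (∏ j, GrothLib.ArSurf29.vcls hX.2.2 hΓ hL j ^ c j)⁻¹
    have hy : y ^ h = 1 := by
      rw [mul_pow, inv_pow, hx, ← Finset.prod_pow, mul_inv_eq_one]
      simp only [hce, zpow_add, Finset.prod_mul_distrib, GrothLib.ArSurf29.prod_vcls_mult_zpow, mul_one]
      exact Finset.prod_congr rfl fun j _ => by rw [mul_comm, zpow_mul, zpow_natCast]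
    have hy' := GrothLib.HodgeIndex.isInv_rep y
    refine ⟨GrothLib.HodgeIndex.rep y, hy', (GrothLib.Cube.clsMod_eq_one_iff (GrothLib.Ample.isInvertible_tensorPow hy' h)).1 ?_,
      (GrothLib.ArSurf29.pull_cls_eq_iff g hy' hN).2 ?_⟩
    · rw [GrothLib.Cube.clsMod_tensorPow hy', GrothLib.HodgeIndex.cls_rep, hy]
    · rw [GrothLib.HodgeIndex.cls_rep, map_mul, map_inv, map_prod, hMN']
      simp only [map_zpow, GrothLib.ArSurf29.pull_vcls hX.2.2 hΓ hL hg, one_zpow, Finset.prod_const_one, inv_one, mul_one]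

end Groth.Agent.S19924
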