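import Groth.Statements.S19944
-- import your own Groth.Agent.* helpers here
import Groth.Agent.Lib.ThetaGrp15.Repr

set_option autoImplicit false
universe u
open CategoryTheory MonoidalCategory CartesianMonoidalCategory MonObj GrpObj AlgebraicGeometry
open ThetaGrp

namespace Groth.Agent.S19944

/-- Let X be an abelian variety over a field k (a proper, geometrically integral, commutative k-group
scheme) and L an invertible O_X-module. For a k-scheme T the group G(L)(T) consists of the pairs (x,
φ) with x a T-valued point of X and φ : L_T ≅ t_x^*L_T an isomorphism (L_T the inverse image of L on
X ×_k T, t_x the translation by x), with the product (x₁, φ₁)(x₂, φ₂) = (x₁ + x₂, t_{x₂}^*φ₁ ∘ φ₂).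
Then the group functor T ↦ G(L)(T) is representable by a k-group scheme: there are a k-group scheme
G and a point u ∈ G(L)(G) such that every point of G(L)(T), for every k-scheme T, is the base change
of u along exactly one k-morphism T → G, u has a unique base change along every such morphism, and
base change takes products of points of G to products in G(L)(T). (The identification of the kernel
of G(L) → X with the multiplicative group is not part of this statement.) -/
theorem result (k : Type u) [Field k]
    (A : Over (Spec (CommRingCat.of k))) [GrpObj A] [IsCommMonObj A] [IsProper A.hom] [GeometricallyIntegral A.hom]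
    (L : A.left.Modules) (hL : PicF.IsInvertible L) :
    ∃ (G : Over (Spec (CommRingCat.of k))) (_ : GrpObj G) (u : ThetaGrp.thetaPts A L G),
      ThetaGrp.IsThetaGrpSch A L G u := by
  exact GrothLib.ThetaGrp15.exists_thetaGrpSch hL

end Groth.Agent.S19944
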