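import Groth.Statements.S19945
-- import your own Groth.Agent.* helpers here
import Groth.Agent.Lib.ThetaGrp15.Local

set_option autoImplicit false
universe u
open CategoryTheory MonoidalCategory CartesianMonoidalCategory MonObj GrpObj AlgebraicGeometry
open ThetaGrp

namespace Groth.Agent.S19945

/-- Let X be an abelian variety over a field k (a proper, geometrically integral, commutative k-group
scheme), L an invertible O_X-module and i : K → X a closed immersion exhibiting K as K(L), the
maximal closed subscheme of X over which the Mumford bundle m^*L ⊗ p_1^*L⁻¹ ⊗ p_2^*L⁻¹, restricted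
to X ×_k K, is the inverse image of an invertible module on K, with its universal property for
morphisms T → X. For a k-scheme T and a T-valued point x of X, the following are equivalent: x
factors through i; every point of T has an open neighbourhood U over which some point of the theta
group G(L)(U) lies over the restriction of x, that is, there is an isomorphism L_U ≅ t_x^*L_U of
modules on X ×_k U. In other words the map G(L) → X, (x, φ) ↦ x, has image the subfunctor K(L),
surjectively for the Zariski topology. -/
theorem result (k : Type u) [Field k]
    (A : Over (Spec (CommRingCat.of k))) [GrpObj A] [IsCommMonObj A] [IsProper A.hom] [GeometricallyIntegral A.hom]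
    (L : A.left.Modules) (hL : PicF.IsInvertible L)
    (K : Over (Spec (CommRingCat.of k))) (iK : K ⟶ A) (hK : ThetaGrp.IsKL A L iK)
    (T : Over (Spec (CommRingCat.of k))) (x : T ⟶ A) :
    (∃ y : T ⟶ K, y ≫ iK = x) ↔
      ∀ t : ↥T.left, ∃ U : T.left.Opens, t ∈ U ∧
        ∃ β : ThetaGrp.thetaPts A L (Over.mk (U.ι ≫ T.hom)),
          ThetaGrp.IsOverPt β ((Over.homMk U.ι rfl : Over.mk (U.ι ≫ T.hom) ⟶ T) ≫ x) := by
  exact GrothLib.ThetaGrp15.factors_iff_locally_lift hL hK x

end Groth.Agent.S19945
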