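import Groth.Statements.S19947
-- import your own Groth.Agent.* helpers here
import Groth.Agent.Lib.ThetaGrp15.Descent
import Groth.Agent.Lib.ThetaGrp15.Level

set_option autoImplicit false
universe u
open CategoryTheory MonoidalCategory CartesianMonoidalCategory MonObj GrpObj AlgebraicGeometry
open ThetaGrp

namespace Groth.Agent.S19947

/-- Let f : X → Y be a surjective homomorphism of abelian varieties over a field k (proper,
geometrically integral, commutative k-group schemes), i : N → X its kernel (a homomorphism of
k-group schemes forming a cartesian square with the unit section of Y), L an invertible O_X-module,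
and G a k-group scheme with a point u ∈ G(L)(G) representing the theta group of L (every point of
G(L)(T) is the base change of u along a unique T → G, multiplicatively). Then L descends to Y, i.e.
there is an invertible O_Y-module M with f^*M ≅ L, if and only if the inclusion i lifts to a
homomorphism of group schemes j : N → G over X: for every k-scheme T and every T-valued point n of
N, the base change of u along j(n) lies over the translation by i(n). (The source states a bijection
between the isomorphism classes of such M and the set of such homomorphisms; this row states that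
one set is non-empty exactly when the other is.) -/
theorem result (k : Type u) [Field k]
    (A : Over (Spec (CommRingCat.of k))) [GrpObj A] [IsCommMonObj A] [IsProper A.hom] [GeometricallyIntegral A.hom]
    (B : Over (Spec (CommRingCat.of k))) [GrpObj B] [IsCommMonObj B] [IsProper B.hom] [GeometricallyIntegral B.hom]
    (f : A ⟶ B) [IsMonHom f] (hf : Surjective f.left)
    (N : Over (Spec (CommRingCat.of k))) [GrpObj N] (i : N ⟶ A) [IsMonHom i] (hN : AlgGrp.IsKernel i f)
    (L : A.left.Modules) (hL : PicF.IsInvertible L)
    (G : Over (Spec (CommRingCat.of k))) [GrpObj G] (u : ThetaGrp.thetaPts A L G)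
    (hG : ThetaGrp.IsThetaGrpSch A L G u) :
    (∃ M : B.left.Modules, PicF.IsInvertible M ∧ Nonempty ((Scheme.Modules.pullback f.left).obj M ≅ L)) ↔
      ∃ j : N ⟶ G, IsMonHom j ∧
        ∀ (T : Over (Spec (CommRingCat.of k))) (n : T ⟶ N) (β : ThetaGrp.thetaPts A L T),
          ThetaGrp.IsBaseChange β (n ≫ j) u → ThetaGrp.IsOverPt β (n ≫ i) := by
  constructor
  · rintro ⟨M, -, ⟨e⟩⟩
    obtain ⟨j, hj, -, hover⟩ := GrothLib.ThetaGrp15.exists_levelSubgrp e i hN u hG
    exact ⟨j, hj, hover⟩
  · rintro ⟨j, hj, hover⟩
    haveI : Surjective f.left := hf
    obtain ⟨h1, h2⟩ := GrothLib.ThetaGrp15.flat_left f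
    haveI := h1
    haveI := h2
    exact GrothLib.ThetaGrp15.exists_descent (f := f) (i := i) (j := j) (u := u)
      ⟨inferInstance, inferInstance, hj, hN, hG, hover⟩ hL

end Groth.Agent.S19947
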