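import Groth.Statements.S19948
-- import your own Groth.Agent.* helpers here
import Groth.Agent.Lib.ThetaGrp15.KerIso

set_option autoImplicit false
universe u
open CategoryTheory MonoidalCategory CartesianMonoidalCategory MonObj GrpObj AlgebraicGeometry
open ThetaGrp

namespace Groth.Agent.S19948

/-- Let k be an algebraically closed field, f : X → Y an isogeny of abelian varieties over k (X, Y
proper, geometrically integral, commutative k-group schemes; f a finite surjective homomorphism), i
: N → X the kernel of f (a homomorphism forming a cartesian square with the unit section of Y), L an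
invertible O_X-module and i_K : K → X a closed immersion exhibiting K as K(L), the maximal closed
subscheme of X over which the Mumford bundle m^*L ⊗ p_1^*L⁻¹ ⊗ p_2^*L⁻¹, restricted to X ×_k K, is
the inverse image of an invertible module on K, with its universal property. Then L is the inverse
image of an invertible O_Y-module (there is an invertible M on Y with f^*M ≅ L) if and only if the
kernel of f lies inside K(L) as a subgroup scheme and the commutator pairing e_L is trivial on it: i
factors through i_K, and for every k-scheme T any two points (x₁, φ₁), (x₂, φ₂) of G(L)(T) whose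
translations are by points of N commute. (Algebraic closedness is used for the converse; over other
fields an isotropic kernel descends in general only after a finite extension of k.) -/
theorem result (k : Type u) [Field k] [IsAlgClosed k]
    (A : Over (Spec (CommRingCat.of k))) [GrpObj A] [IsCommMonObj A] [IsProper A.hom] [GeometricallyIntegral A.hom]
    (B : Over (Spec (CommRingCat.of k))) [GrpObj B] [IsCommMonObj B] [IsProper B.hom] [GeometricallyIntegral B.hom]
    (f : A ⟶ B) [IsMonHom f] [IsFinite f.left] (hf : Surjective f.left)
    (N : Over (Spec (CommRingCat.of k))) [GrpObj N] (i : N ⟶ A) [IsMonHom i] (hN : AlgGrp.IsKernel i f)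
    (L : A.left.Modules) (hL : PicF.IsInvertible L)
    (K : Over (Spec (CommRingCat.of k))) (iK : K ⟶ A) (hK : ThetaGrp.IsKL A L iK) :
    (∃ M : B.left.Modules, PicF.IsInvertible M ∧ Nonempty ((Scheme.Modules.pullback f.left).obj M ≅ L)) ↔
      ((∃ y : N ⟶ K, y ≫ iK = i) ∧ ThetaGrp.IsIsotropic L i) := by
  constructor
  · rintro ⟨M, -, ⟨e⟩⟩
    exact GrothLib.ThetaGrp15.kernel_of_descent e hN hL hK
  · rintro ⟨hNK, hiso⟩
    haveI : Surjective f.left := hf
    obtain ⟨h1, h2⟩ := GrothLib.ThetaGrp15.flat_left f
    haveI := h1
    haveI := h2
    haveI : IsFinite N.hom := by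
      have h := MorphismProperty.of_isPullback (P := @IsFinite) (hN.map (Over.forget _)) ‹IsFinite f.left›
      rw [← Over.w (CartesianMonoidalCategory.toUnit N)]
      exact @MorphismProperty.comp_mem _ _ @IsFinite _ _ _ _ _ _ h
        (inferInstanceAs (IsFinite (𝟙 (Spec (CommRingCat.of k)))))
    haveI : Mono i := ⟨fun a b h => hN.hom_ext h (toUnit_unique _ _)⟩
    haveI : IsCommMonObj N := ⟨by
      rw [← cancel_mono i, Category.assoc, IsMonHom.mul_hom, ← Category.assoc, ← BraidedCategory.braiding_naturality, Category.assoc, IsCommMonObj.mul_comm]⟩
    obtain ⟨G, hGrp, u, hG⟩ := GrothLib.ThetaGrp15.exists_thetaGrpSch (A := A) hL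
    obtain ⟨j, hj, hlies⟩ := GrothLib.ThetaGrp15.exists_lift_kernel i hL hK hNK hiso hG
    exact GrothLib.ThetaGrp15.exists_descent (f := f) (i := i) (j := j) (u := u)
      ⟨inferInstance, inferInstance, hj, hN, hG, hlies⟩ hL

end Groth.Agent.S19948
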