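import Groth.Statements.S1995
import Groth.Agent.Lib.Hensel.PairHull
import Groth.Agent.Lib.Hensel.Properties
import Mathlib.RingTheory.Idempotents
import Mathlib.Algebra.Group.Pi.Units
-- import your own Groth.Agent.* helpers here

set_option autoImplicit false
universe u
open EtAlg

namespace Groth.Agent.S1995

/-- Let I_1, …, I_n be pairwise comaximal ideals of a ring A, B a henselization of the pair (A, I_1 ∩ …
∩ I_n) and B_i a henselization of (A, I_i) for each i. Then B is isomorphic as an A-algebra to the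
product of the B_i (any such isomorphism is the natural comparison map, by the universal property). -/
theorem result (A : Type u) [CommRing A] {n : ℕ} (I : Fin n → Ideal A)
    (hI : Pairwise fun i j => I i ⊔ I j = ⊤) (B : Type u) [CommRing B] [Algebra A B]
    (hB : Hens2.IsPairHenselization A (⨅ i, I i) B) (Bi : Fin n → Type u) [∀ i, CommRing (Bi i)] [∀ i, Algebra A (Bi i)]
    (hBi : ∀ i, Hens2.IsPairHenselization A (I i) (Bi i)) :
    Nonempty (B ≃ₐ[A] ∀ i, Bi i) := by
  classical
  set K := ⨅ i, I i with hK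
  have hcop : Pairwise (fun i j ↦ IsCoprime (I i) (I j)) := fun i j h ↦
    Ideal.isCoprime_iff_sup_eq.mpr (hI h)
  choose a ha using fun i ↦ Ideal.exists_forall_sub_mem_ideal (I := I) hcop
    (fun j ↦ if j = i then (1 : A) else 0)
  have ha0 : ∀ i j, j ≠ i → a i ∈ I j := fun i j h ↦ by simpa [h] using ha i j
  have ha1 : ∀ i, a i - 1 ∈ I i := fun i ↦ by simpa using ha i i
  have hxa : ∀ i, ∀ x ∈ I i, x * a i ∈ K := fun i x hx ↦ Ideal.mem_iInf.mpr fun j ↦ by
    by_cases h : j = i
    · subst h; exact (I j).mul_mem_right _ hx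
    · exact (I j).mul_mem_left _ (ha0 i j h)
  -- the product pair
  have hmapi : ∀ i, K.map (algebraMap A (Bi i)) = (I i).map (algebraMap A (Bi i)) := fun i ↦ by
    refine le_antisymm (Ideal.map_mono (iInf_le _ i)) ?_
    rw [Ideal.map_le_iff_le_comap]
    intro x hx
    have hu : IsUnit (algebraMap A (Bi i) (a i)) :=
      GrothLib.Hensel.isUnit_of_sub_one_mem (hBi i).1.jac
        (by rw [← map_one (algebraMap A (Bi i)), ← map_sub]; exact Ideal.mem_map_of_mem _ (ha1 i))
    rw [Ideal.mem_comap]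
    refine (Ideal.mul_unit_mem_iff_mem _ hu).mp ?_
    rw [← map_mul]
    exact Ideal.mem_map_of_mem _ (hxa i x hx)
  set P := ∀ i, Bi i
  set KP := K.map (algebraMap A P) with hKP
  have hKPmem : ∀ x : P, x ∈ KP ↔ ∀ i, x i ∈ (I i).map (algebraMap A (Bi i)) := fun x ↦ by
    refine ⟨fun hx i ↦ ?_, fun hx ↦ ?_⟩
    · have := Ideal.mem_map_of_mem (Pi.evalRingHom Bi i) hx
      rw [hKP, Ideal.map_map] at this
      rw [← hmapi]
      exact this
    · rw [← Finset.univ_sum_single x]
      refine Ideal.sum_mem _ fun i _ ↦ ?_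
      have hxi := hx i
      rw [← hmapi, show algebraMap A (Bi i) = (Pi.evalRingHom Bi i).comp (algebraMap A P) from rfl,
        ← Ideal.map_map, Ideal.mem_map_iff_of_surjective _ (Function.surjective_eval i)] at hxi
      obtain ⟨y, hy, hyi⟩ := hxi
      have : Pi.single i (x i) = Pi.single i (1 : Bi i) * y := funext fun j ↦ by
        by_cases h : j = i
        · subst h; simpa using hyi.symm
        · simp [h]
      rw [this]
      exact Ideal.mul_mem_left _ _ hy
  have hP : HenselianRing P KP := by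
    have hjac : KP ≤ Ideal.jacobson ⊥ :=
      GrothLib.Hensel.le_jacobson_of_forall_isUnit_one_add fun x hx ↦ by
        rw [Pi.isUnit_iff]
        exact fun i ↦ GrothLib.Hensel.isUnit_one_add_of_mem (hBi i).1.jac ((hKPmem x).mp hx i)
    refine ⟨hjac, fun p hp a₀ h₁ h₂ ↦ ?_⟩
    have hu := Pi.isUnit_iff.mp (GrothLib.Hensel.isUnit_of_isUnit_mk hjac h₂)
    have hev : ∀ (i) (q : Polynomial P) (r : P),
        (q.map (Pi.evalRingHom Bi i)).eval (r i) = q.eval r i := fun i q r ↦ by
      rw [Polynomial.eval_map, ← Pi.evalRingHom_apply Bi i r, Polynomial.eval₂_hom]; rfl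
    choose r hr hra using fun i ↦ (hBi i).1.is_henselian (p.map (Pi.evalRingHom Bi i)) (hp.map _) (a₀ i)
      (by rw [hev]; exact (hKPmem _).mp h₁ i)
      (by rw [Polynomial.derivative_map, hev]; exact (hu i).map _)
    exact ⟨r, funext fun i ↦ (hev i p r).symm.trans (hr i), (hKPmem _).mpr hra⟩
  -- idempotents in B
  have := hB.1
  set J := K.map (algebraMap A B)
  have hidem : ∀ i, ∃ e : B, IsIdempotentElem e ∧ e - algebraMap A B (a i) ∈ J := fun i ↦ by
    obtain ⟨e, he, he'⟩ := GrothLib.Hensel.exists_isIdempotentElem_lift (A := B) (I := J) (B := B)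
      (b := algebraMap A B (a i)) (by
        rw [Algebra.algebraMap_self, Ideal.map_id, ← map_mul, ← map_sub]
        refine Ideal.mem_map_of_mem _ (Ideal.mem_iInf.mpr fun j ↦ ?_)
        by_cases h : j = i
        · subst h
          rw [show a j * a j - a j = a j * (a j - 1) by ring]
          exact (I j).mul_mem_left _ (ha1 j)
        · exact (I j).sub_mem ((I j).mul_mem_left _ (ha0 i j h)) (ha0 i j h))
    exact ⟨e, he, by simpa using he'⟩
  choose e he heJ using hidem
  have hmk : ∀ i, Ideal.Quotient.mk J (e i) = Ideal.Quotient.mk J (algebraMap A B (a i)) :=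
    fun i ↦ Ideal.Quotient.eq.mpr (heJ i)
  have horth : Pairwise fun i j ↦ e i * e j = 0 := fun i j hij ↦
    GrothLib.Hensel.eq_of_isIdempotentElem_of_sub_mem hB.1.jac ((he i).mul (he j)) .zero (by
      rw [sub_zero, ← Ideal.Quotient.eq_zero_iff_mem, map_mul, hmk, hmk, ← map_mul, ← map_mul,
        Ideal.Quotient.eq_zero_iff_mem]
      refine Ideal.mem_map_of_mem _ (Ideal.mem_iInf.mpr fun l ↦ ?_)
      by_cases h : l = i
      · subst h; exact (I l).mul_mem_left _ (ha0 j l hij)
      · exact (I l).mul_mem_right _ (ha0 i l h))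
  have hoi : OrthogonalIdempotents e := ⟨he, horth⟩
  have hce : CompleteOrthogonalIdempotents e := ⟨hoi, by
    refine GrothLib.Hensel.eq_of_isIdempotentElem_of_sub_mem hB.1.jac hoi.isIdempotentElem_sum .one ?_
    rw [← Ideal.Quotient.eq, map_sum, Finset.sum_congr rfl fun i _ ↦ hmk i, ← map_sum, ← map_sum,
      ← map_one (algebraMap A B), Ideal.Quotient.eq, ← map_sub]
    refine Ideal.mem_map_of_mem _ (Ideal.mem_iInf.mpr fun l ↦ ?_)
    rw [← Finset.add_sum_erase _ _ (Finset.mem_univ l), add_sub_right_comm]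
    exact (I l).add_mem (ha1 l)
      ((I l).sum_mem fun i hi ↦ ha0 i l (Finset.ne_of_mem_erase hi).symm)⟩
  let q (i : Fin n) : B →ₐ[A] B ⧸ Ideal.span {1 - e i} := Ideal.Quotient.mkₐ A _
  have hqe : ∀ i, q i (e i) = 1 := fun i ↦ by
    rw [← map_one (q i)]
    refine (Ideal.Quotient.eq.mpr ?_)
    rw [← Ideal.neg_mem_iff, neg_sub]
    exact Ideal.subset_span rfl
  have hhen : ∀ i, HenselianRing (B ⧸ Ideal.span {1 - e i}) (J.map (Ideal.Quotient.mk _)) :=
    fun i ↦ GrothLib.Hensel.henselianRing_quotient (Ideal.span {1 - e i}) J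
  have hIle : ∀ i, (I i).map (algebraMap A (B ⧸ Ideal.span {1 - e i})) ≤
      J.map (Ideal.Quotient.mk _) := fun i ↦ by
    rw [Ideal.map_le_iff_le_comap]
    intro x hx
    rw [Ideal.mem_comap]
    have h1 : q i (algebraMap A B (x * a i)) ∈ J.map (Ideal.Quotient.mk _) :=
      Ideal.mem_map_of_mem _ (Ideal.mem_map_of_mem _ (hxa i x hx))
    have h2 : q i (e i - algebraMap A B (a i)) ∈ J.map (Ideal.Quotient.mk _) :=
      Ideal.mem_map_of_mem _ (heJ i)
    rw [map_mul, map_mul, AlgHom.commutes] at h1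
    rw [map_sub, hqe] at h2
    have := Ideal.add_mem _ h1 (Ideal.mul_mem_left _ (algebraMap A _ x) h2)
    rwa [mul_sub, mul_one, add_sub_cancel] at this
  have hu := fun i ↦ GrothLib.Hensel.IsPairHenselization.existsUnique_algHom (hBi i) _
    (J.map (Ideal.Quotient.mk (Ideal.span {1 - e i}))) (hJ := hIle i)
  let h (i : Fin n) : Bi i →ₐ[A] B ⧸ Ideal.span {1 - e i} := (hu i).some.default
  let φ : B →ₐ[A] ∀ i, B ⧸ Ideal.span {1 - e i} := AlgHom.pi q
  let φe := AlgEquiv.ofBijective φ hce.bijective_pi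
  let H : P →ₐ[A] B := φe.symm.toAlgHom.comp
    (AlgHom.pi fun i ↦ (h i).comp (Pi.evalAlgHom A Bi i))
  obtain ⟨⟨⟨G⟩, -⟩⟩ := GrothLib.Hensel.IsPairHenselization.existsUnique_algHom hB P KP le_rfl
  have := GrothLib.Hensel.IsPairHenselization.subsingleton_algHom hB B J le_rfl
  have hHe : ∀ i, H (Pi.single i 1) = e i := fun i ↦ by
    show φe.symm (fun j ↦ h j ((Pi.single i (1 : Bi i) : P) j)) = e i
    rw [AlgEquiv.symm_apply_eq]
    funext j
    show _ = q j (e i)
    by_cases hji : j = i
    · subst hji; rw [Pi.single_eq_same, map_one, hqe]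
    · rw [Pi.single_eq_of_ne hji, map_zero]
      have h0 : q j (e j * e i) = 0 := by rw [horth hji, map_zero]
      rw [map_mul, hqe, one_mul] at h0
      exact h0.symm
  have hGe : ∀ i, G (e i) = Pi.single i 1 := fun i ↦ by
    refine GrothLib.Hensel.eq_of_isIdempotentElem_of_sub_mem hP.jac ((he i).map G) ?_ ?_
    · show Pi.single i (1 : Bi i) * Pi.single i 1 = Pi.single i 1
      rw [← Pi.single_mul, one_mul]
    · have hGJ : J.map G.toRingHom ≤ KP := by
        rw [Ideal.map_map, show G.toRingHom.comp (algebraMap A B) = algebraMap A P from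
          G.comp_algebraMap]
      have hG0 : G (e i - algebraMap A B (a i)) ∈ KP := hGJ (Ideal.mem_map_of_mem G.toRingHom (heJ i))
      rw [map_sub, AlgHom.commutes] at hG0
      rw [show G (e i) - Pi.single i 1 = (G (e i) - algebraMap A P (a i)) +
        (algebraMap A P (a i) - Pi.single i 1) by ring]
      refine KP.add_mem hG0 ((hKPmem _).mpr fun j ↦ ?_)
      show algebraMap A (Bi j) (a i) - (Pi.single i (1 : Bi i) : P) j ∈ _
      by_cases hji : j = i
      · subst hji
        rw [Pi.single_eq_same, ← map_one (algebraMap A (Bi j)), ← map_sub]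
        exact Ideal.mem_map_of_mem _ (ha1 j)
      · rw [Pi.single_eq_of_ne hji, sub_zero]
        exact Ideal.mem_map_of_mem _ (ha0 i j hji)
  refine ⟨AlgEquiv.ofAlgHom G H ?_ (Subsingleton.elim _ _)⟩
  set T := G.comp H
  have hT : ∀ i, T (Pi.single i 1) = Pi.single i 1 := fun i ↦ by
    show G (H _) = _
    rw [hHe, hGe]
  have hloc : ∀ x i, T x i = T (Pi.single i (x i)) i := fun x i ↦ by
    have : Pi.single i (x i) = Pi.single i (1 : Bi i) * x := funext fun j ↦ by
      show _ = (Pi.single i (1 : Bi i) : ∀ j, Bi j) j * x j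
      by_cases hji : j = i
      · subst hji; rw [Pi.single_eq_same, Pi.single_eq_same, one_mul]
      · rw [Pi.single_eq_of_ne hji, Pi.single_eq_of_ne hji, zero_mul]
    rw [this, map_mul, hT]
    show _ = (Pi.single i (1 : Bi i) : ∀ j, Bi j) i * T x i
    rw [Pi.single_eq_same, one_mul]
  refine AlgHom.ext fun x ↦ funext fun i ↦ ?_
  let Ti : Bi i →+* Bi i :=
    { toFun := fun y ↦ T (Pi.single i y) i
      map_one' := by rw [hT, Pi.single_eq_same]
      map_mul' := fun y z ↦ by rw [Pi.single_mul, map_mul]; rfl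
      map_zero' := by rw [Pi.single_zero, map_zero]; rfl
      map_add' := fun y z ↦ by rw [Pi.single_add, map_add]; rfl }
  have := (hBi i).1
  have hTi : Ti = RingHom.id _ := by
    refine ((hBi i).2 (Bi i) _ (algebraMap A (Bi i)) inferInstance le_rfl).unique
      (RingHom.ext fun r ↦ ?_) (RingHom.id_comp _)
    show T (Pi.single i (algebraMap A P r i)) i = _
    rw [← hloc, AlgHom.commutes]
    rfl
  show T x i = x i
  rw [hloc]
  exact RingHom.congr_fun hTi (x i)
end Groth.Agent.S1995
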