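import Groth.Statements.S19954
-- import your own Groth.Agent.* helpers here
import Groth.Agent.Lib.ThetaGrp15.Isotropic

set_option autoImplicit false
universe u
open CategoryTheory MonoidalCategory CartesianMonoidalCategory MonObj GrpObj AlgebraicGeometry
open ThetaGrp

namespace Groth.Agent.S19954

/-- Let f : X → Y be a homomorphism of abelian varieties over a field k (proper, geometrically integral,
commutative k-group schemes), L an invertible O_Y-module, and i_K : K → Y a closed immersion
exhibiting K as K(L), the maximal closed subscheme of Y over which the Mumford bundle m^*L ⊗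
p_1^*L⁻¹ ⊗ p_2^*L⁻¹, restricted to Y ×_k K, is the inverse image of an invertible module on K, with
its universal property. The identity e_{f^*L} = e_L ∘ (f, f) on f⁻¹(K(L)) is stated here through the
vanishing of the two commutator pairings: for a k-scheme H and a k-morphism i_H : H → X such that f
∘ i_H factors through i_K, the pairing e_L is trivial on the image of H in Y — for every k-scheme T,
any two points of G(L)(T) lying over the translations by f(i_H(h₁)), f(i_H(h₂)) for T-valued points
h₁, h₂ of H commute — if and only if e_{f^*L} is trivial on H: any two points of G(f^*L)(T) lying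
over the translations by i_H(h₁), i_H(h₂) commute. -/
theorem result (k : Type u) [Field k]
    (A : Over (Spec (CommRingCat.of k))) [GrpObj A] [IsCommMonObj A] [IsProper A.hom] [GeometricallyIntegral A.hom]
    (B : Over (Spec (CommRingCat.of k))) [GrpObj B] [IsCommMonObj B] [IsProper B.hom] [GeometricallyIntegral B.hom]
    (f : A ⟶ B) [IsMonHom f]
    (L : B.left.Modules) (hL : PicF.IsInvertible L)
    (K : Over (Spec (CommRingCat.of k))) (iK : K ⟶ B) (hK : ThetaGrp.IsKL B L iK)
    (H : Over (Spec (CommRingCat.of k))) (iH : H ⟶ A) (hH : ∃ y : H ⟶ K, y ≫ iK = iH ≫ f) :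
    ThetaGrp.IsIsotropic L (iH ≫ f) ↔
      ThetaGrp.IsIsotropic ((Scheme.Modules.pullback f.left).obj L) iH := by
  exact GrothLib.ThetaGrp15.isIsotropic_comp_iff hL hK iH hH

end Groth.Agent.S19954
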