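import Groth.Statements.S19955
-- import your own Groth.Agent.* helpers here
import Groth.Agent.Lib.ThetaGrp15.Mumford

set_option autoImplicit false
universe u
open CategoryTheory MonoidalCategory CartesianMonoidalCategory MonObj GrpObj AlgebraicGeometry
open ThetaGrp

namespace Groth.Agent.S19955

/-- Let A be an abelian variety over a field k (a proper, geometrically integral, commutative k-group
scheme), L an invertible O_A-module, and Λ an invertible module on A ×_k A which is the Mumford
bundle of L, stated without inverses: Λ ⊗ p_1^*L ⊗ p_2^*L ≅ m^*L for the group law m and the
projections p_1, p_2. Let i : K → A be a closed subgroup scheme exhibiting K as K(L) (the maximal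
closed subscheme of A over which Λ, restricted to A ×_k K, is the inverse image of an invertible
module on K, with its universal property), and let G be a k-group scheme with a point u ∈ G(Λ)(G)
representing the theta group of Λ on the k-group scheme A ×_k A (every point of G(Λ)(T) — a T-valued
point z of A × A with an isomorphism Λ_T ≅ t_z^*Λ_T — is the base change of u along a unique T → G,
multiplicatively). Then the action of K × {e} on A × A by translations lifts to Λ compatibly with
the group law of K: there is a homomorphism of group schemes j : K → G such that for every k-scheme
T and every T-valued point y of K, the base change of u along j(y) lies over the translation by the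
point (i(y), e) of A × A. (In the source L is a fixed ample invertible module and the equivariant
structure is moreover shown to be unique once an isomorphism of the fibre of L at e with k is fixed;
the argument for existence uses only that L is invertible, and the uniqueness is not part of this
statement.) -/
theorem result (k : Type u) [Field k]
    (A : Over (Spec (CommRingCat.of k))) [GrpObj A] [IsCommMonObj A] [IsProper A.hom] [GeometricallyIntegral A.hom]
    (L : A.left.Modules) (hL : PicF.IsInvertible L)
    (Λ : (A ⊗ A).left.Modules) (hΛi : PicF.IsInvertible Λ)
    (hΛ : AgPol.IsLambdaSheaf μ[A].left (fst A A).left (snd A A).left L Λ)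
    (K : Over (Spec (CommRingCat.of k))) [GrpObj K] (iK : K ⟶ A) [IsMonHom iK] (hK : ThetaGrp.IsKL A L iK)
    (G : Over (Spec (CommRingCat.of k))) [GrpObj G] (u : ThetaGrp.thetaPts (A ⊗ A) Λ G)
    (hG : ThetaGrp.IsThetaGrpSch (A ⊗ A) Λ G u) :
    ∃ j : K ⟶ G, IsMonHom j ∧
      ∀ (T : Over (Spec (CommRingCat.of k))) (y : T ⟶ K) (β : ThetaGrp.thetaPts (A ⊗ A) Λ T),
        ThetaGrp.IsBaseChange β (y ≫ j) u → ThetaGrp.IsOverPt β (y ≫ lift iK (1 : K ⟶ A)) := by
  exact GrothLib.ThetaGrp15.exists_hom_mumford hL hΛi hΛ iK hK u hG

end Groth.Agent.S19955
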