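import Groth.Statements.S19956
-- import your own Groth.Agent.* helpers here
import Groth.Agent.Lib.ThetaGrp15.PerpMain

set_option autoImplicit false
universe u
open CategoryTheory MonoidalCategory CartesianMonoidalCategory MonObj GrpObj AlgebraicGeometry
open ThetaGrp

namespace Groth.Agent.S19956

/-- Let f : X → Y be a surjective homomorphism of abelian varieties over a field k (proper,
geometrically integral, commutative k-group schemes), i : N → X its kernel (a homomorphism forming a
cartesian square with the unit section of Y), M an invertible O_Y-module and L = f^*M. Let G be a
k-group scheme with a point u ∈ G(L)(G) representing the theta group of L (every point of G(L)(T) is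
the base change of u along a unique T → G, multiplicatively), and j : N → G a level subgroup lying
over i: a homomorphism of group schemes and an immersion such that a point of N whose image lies
over the identity translation is trivial, and such that for every T-valued point n of N the base
change of u along j(n) lies over the translation by i(n). Let i_M : K_M → Y be a closed immersion
exhibiting K_M as K(M) (the maximal closed subscheme of Y over which the Mumford bundle of M,
restricted to Y ×_k K_M, is the inverse image of an invertible module on K_M, with its universal
property). For a k-scheme T, a T-valued point g of G and the T-valued point x of X under it (the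
base change of u along g lies over the translation by x): g lies in the centralizer of j(N) — for
every T' → T and every T'-valued point n of N, the restriction of g commutes with j(n) in the group
G(T') — if and only if f(x) factors through i_M. (The source states this for the level subgroup
attached to the descent M; by the source's description of f⁻¹(K(M)) as Ker(f)^⊥ both sides depend
only on Ker(f), so it is stated for any level structure over i. The identification of G(M) with the
centralizer modulo j(N) is not part of this statement.) -/
theorem result (k : Type u) [Field k]
    (A : Over (Spec (CommRingCat.of k))) [GrpObj A] [IsCommMonObj A] [IsProper A.hom] [GeometricallyIntegral A.hom]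
    (B : Over (Spec (CommRingCat.of k))) [GrpObj B] [IsCommMonObj B] [IsProper B.hom] [GeometricallyIntegral B.hom]
    (f : A ⟶ B) [IsMonHom f] (hf : Surjective f.left)
    (N : Over (Spec (CommRingCat.of k))) [GrpObj N] (i : N ⟶ A) [IsMonHom i] (hN : AlgGrp.IsKernel i f)
    (M : B.left.Modules) (hM : PicF.IsInvertible M)
    (G : Over (Spec (CommRingCat.of k))) [GrpObj G]
    (u : ThetaGrp.thetaPts A ((Scheme.Modules.pullback f.left).obj M) G)
    (hG : ThetaGrp.IsThetaGrpSch A ((Scheme.Modules.pullback f.left).obj M) G u)
    (j : N ⟶ G) [IsMonHom j] (hj : ThetaGrp.IsLevelSubgrp u j)
    (hover : ∀ (T : Over (Spec (CommRingCat.of k))) (n : T ⟶ N)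
      (β : ThetaGrp.thetaPts A ((Scheme.Modules.pullback f.left).obj M) T),
      ThetaGrp.IsBaseChange β (n ≫ j) u → ThetaGrp.IsOverPt β (n ≫ i))
    (KM : Over (Spec (CommRingCat.of k))) (iM : KM ⟶ B) (hKM : ThetaGrp.IsKL B M iM)
    (T : Over (Spec (CommRingCat.of k))) (g : T ⟶ G) (x : T ⟶ A)
    (β : ThetaGrp.thetaPts A ((Scheme.Modules.pullback f.left).obj M) T)
    (hβ : ThetaGrp.IsBaseChange β g u) (hx : ThetaGrp.IsOverPt β x) :
    (∀ (T' : Over (Spec (CommRingCat.of k))) (t : T' ⟶ T) (n : T' ⟶ N),
        (t ≫ g) * (n ≫ j) = (n ≫ j) * (t ≫ g)) ↔
      ∃ y : T ⟶ KM, y ≫ iM = x ≫ f := by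
  haveI := hf
  exact GrothLib.ThetaGrp15.forall_commute_iff hN hM hG j hover hKM g x β hβ hx

end Groth.Agent.S19956
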