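import Groth.Statements.S19957
import Groth.Agent.Lib.GrpdSplit13.Arrows
-- import your own Groth.Agent.* helpers here

set_option autoImplicit false
universe u
open CategoryTheory CategoryTheory.Limits AlgebraicGeometry
open Grpd

namespace Groth.Agent.S19957

/-- Let (U, R, s, t, c) be a groupoid scheme over S with U affine and s, t separated, flat and locally
of finite presentation, and let u ∈ U be a point such that the set of points of the stabilizer G → U
(the base change of j = (t, s) : R → U ×_S U along the diagonal of U) lying over u is finite and s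
is quasi-finite at the image in R of each of these points. Then there exist an etale morphism U' → U
with U' affine and a point u' of U' lying over u with trivial residue field extension κ(u) = κ(u'),
such that the restriction R' of R to U' (the groupoid scheme on U' whose arrows form the base change
of j along U' ×_S U' → U ×_S U) is split over u': there is an open subscheme P ⊂ R' which is a
subgroupoid (the identity of U', the inverse of P and the composition of composable pairs of P land
in P), with s'|_P and t'|_P finite, and containing the image in R' of every point of the stabilizer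
G' → U' of R' lying over u'. -/
theorem result (S : Scheme.{u}) (G : Grpd.GroupoidScheme S) [IsAffine G.U]
    [IsSeparated G.s] [IsSeparated G.t] [Flat G.s] [Flat G.t]
    [LocallyOfFinitePresentation G.s] [LocallyOfFinitePresentation G.t]
    (u : ↥G.U) (hfin : Set.Finite {g : ↥G.stabilizer | G.stabilizerToU g = u})
    (hqf : ∀ g : ↥G.stabilizer, G.stabilizerToU g = u →
      Dual3.QuasiFiniteAt G.s ((pullback.fst G.j G.diag : G.stabilizer ⟶ G.R) g)) :
    ∃ (G' : Grpd.GroupoidScheme S) (φ : Grpd.GroupoidScheme.Hom G' G) (u' : ↥G'.U),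
      IsAffine G'.U ∧ Etale φ.fU ∧ φ.fU u' = u ∧ IsIso (φ.fU.residueFieldMap u') ∧
      IsPullback φ.fR G'.j G.j
        (pullback.map G'.pU G'.pU G.pU G.pU φ.fU φ.fU (𝟙 S)
          ((Category.comp_id _).trans φ.fU_over.symm) ((Category.comp_id _).trans φ.fU_over.symm)) ∧
      ∃ (P : Scheme.{u}) (ιP : P ⟶ G'.R), IsOpenImmersion ιP ∧
        (∃ eP : G'.U ⟶ P, eP ≫ ιP = G'.e) ∧ (∃ iP : P ⟶ P, iP ≫ ιP = ιP ≫ G'.i) ∧
        (∃ cP : pullback (ιP ≫ G'.s) (ιP ≫ G'.t) ⟶ P,
          cP ≫ ιP = pullback.map (ιP ≫ G'.s) (ιP ≫ G'.t) G'.s G'.t ιP ιP (𝟙 G'.U)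
            (Category.comp_id _) (Category.comp_id _) ≫ G'.c) ∧
        IsFinite (ιP ≫ G'.s) ∧ IsFinite (ιP ≫ G'.t) ∧
        ∀ g' : ↥G'.stabilizer, G'.stabilizerToU g' = u' →
          ∃ p : ↥P, ιP p = (pullback.fst G'.j G'.diag : G'.stabilizer ⟶ G'.R) g' := by
  have himg : GrothLib.GrpdSplit13.stabSet G u ⊆
      ⇑(pullback.fst G.j G.diag : G.stabilizer ⟶ G.R) '' {g : ↥G.stabilizer | G.stabilizerToU g = u} :=
    fun r hr => by
      obtain ⟨g, hg₁, hg₂⟩ := GrothLib.GrpdSplit13.exists_stabilizer_of_mem G hr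
      exact ⟨g, hg₁, hg₂⟩
  obtain ⟨G', φ, u', h1, h2, h3, h4, h5, P, ιP, h6, h7, h8, h9, h10, h11, h12⟩ :=
    GrothLib.GrpdSplit13.exists_split G u (GrothLib.GrpdSplit13.stabSet G u) ((hfin.image _).subset himg)
      (fun r hr => by
        obtain ⟨g, hg₁, rfl⟩ := himg hr
        exact AlgebraicGeometry.Scheme.Hom.quasiFiniteAt_iff_isOpen_singleton_asFiber.2 (hqf g hg₁))
      (fun r hr => GrothLib.GrpdSplit13.stabSet_st G hr) (GrothLib.GrpdSplit13.e_mem_stabSet G u)
      (fun z hz₁ hz₂ => GrothLib.GrpdSplit13.c_mem_stabSet G z hz₁ hz₂)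
      (fun r hr => GrothLib.GrpdSplit13.i_mem_stabSet G hr)
  refine ⟨G', φ, u', h1, h2, h3, h4, h5, P, ιP, h6, h7, h8, h9, h10, h11, fun g' hg' => ?_⟩
  have hm := GrothLib.GrpdSplit13.mem_stabSet_of_stabilizer G' g'
  rw [hg'] at hm
  obtain ⟨hms, hmt⟩ := GrothLib.GrpdSplit13.stabSet_st G' hm
  refine h12 _ hms hmt ⟨?_, ?_⟩
  · rw [← Scheme.Hom.comp_apply φ.fR, φ.comm_s, Scheme.Hom.comp_apply, hms, h3]
  · refine GrothLib.GrpdSplit13.fromSpecResidueField_eq_of_comp φ.fR G.s G.t _ ?_
    rw [φ.comm_s, φ.comm_t, ← Category.assoc, ← Category.assoc, hm.2]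

end Groth.Agent.S19957
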