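import Groth.Statements.S19960
import Groth.Agent.Lib.HomCorep20.FibreLocal
import Groth.Agent.Lib.Hilb20.Stable
import Groth.Agent.Lib.Hilb20.Slope
import Groth.Agent.Lib.Hilb20.Poly
import Groth.Agent.Lib.Ample.RelAmple
import Groth.Agent.Lib.ASBun21.HomFinite
import Groth.Agent.Lib.FormalExist7.OpenPush

set_option autoImplicit false
set_option maxHeartbeats 1000000
set_option linter.style.haveILetI false
set_option backward.isDefEq.respectTransparency false
open CategoryTheory CategoryTheory.Limits AlgebraicGeometry Polynomial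
universe u
open ShStab

namespace Groth.Agent.S19960

/-- Let k be a field and X an integral scheme, smooth and proper over k, with a closed immersion ι into
projective N-space over k compatible with the structure maps, polarised by the ample O_X(1) =
ι^*O(1). Let S be a k-scheme of finite type and F a coherent sheaf on X ×_k S, flat over S, whose
fibres F_s on X_s = (X ×_k S) ×_S Spec κ(s) have a fixed Hilbert polynomial P with respect to
O_X(1)|_{X_s}. Then the set of points s of S for which F_s is simple over κ(s) is open, where F_s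
simple means that End(F_s) is one-dimensional over κ(s): F_s is nonzero and every endomorphism of
F_s is multiplication by a scalar c ∈ κ(s) on the sections over every open of X_s. -/
theorem result (k : Type u) [Field k]
    (X : Scheme.{u}) [X.Over (Spec (CommRingCat.of k))] [IsIntegral X]
    [Smooth (X ↘ Spec (CommRingCat.of k))] [IsProper (X ↘ Spec (CommRingCat.of k))]
    (N : ℕ) (ι : X ⟶ CohB1.ProjSpace N k) [IsClosedImmersion ι]
    (hι : ι ≫ CohB1.ProjSpace.toSpec N k = X ↘ Spec (CommRingCat.of k))
    (hL : CohB1.IsAmple ((Scheme.Modules.pullback ι).obj (Twist.twistProjSpace N k 1)))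
    (S : Scheme.{u}) (q : S ⟶ Spec (CommRingCat.of k)) [LocallyOfFiniteType q] [CompactSpace S]
    (F : (pullback (X ↘ Spec (CommRingCat.of k)) q).Modules) (hF : Coh.IsCoh F)
    (hfl : FlatMod.IsFlatOver (pullback.snd (X ↘ Spec (CommRingCat.of k)) q) F) (P : ℚ[X])
    (hP : ∀ s : S, ShStab.IsHilbPoly (S.residueField s) (Over.mk ((pullback.snd (X ↘ Spec (CommRingCat.of k)) q).fiberToSpecResidueField s)).left (CohIII.fiberMod (pullback.snd (X ↘ Spec (CommRingCat.of k)) q) ((Scheme.Modules.pullback (pullback.fst (X ↘ Spec (CommRingCat.of k)) q)).obj ((Scheme.Modules.pullback ι).obj (Twist.twistProjSpace N k 1))) s) (CohIII.fiberMod (pullback.snd (X ↘ Spec (CommRingCat.of k)) q) F s) P) :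
    IsOpen {s : S | ¬ IsZero (CohIII.fiberMod (pullback.snd (X ↘ Spec (CommRingCat.of k)) q) F s) ∧
      ∀ φ : (CohIII.fiberMod (pullback.snd (X ↘ Spec (CommRingCat.of k)) q) F s) ⟶ (CohIII.fiberMod (pullback.snd (X ↘ Spec (CommRingCat.of k)) q) F s), ∃ c : ↥(S.residueField s),
        ∀ (V : ((pullback.snd (X ↘ Spec (CommRingCat.of k)) q).fiber s).Opens) (x : (CohIII.fiberMod (pullback.snd (X ↘ Spec (CommRingCat.of k)) q) F s).val.obj (Opposite.op V)),
          (φ.app V) x = (((pullback.snd (X ↘ Spec (CommRingCat.of k)) q).fiber s).ringCatSheaf.obj.map (homOfLE (le_top : V ≤ ⊤)).op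
            (Coh.toGlobal ((pullback.snd (X ↘ Spec (CommRingCat.of k)) q).fiberToSpecResidueField s) c)) • x} := by
  classical
  let a := X ↘ Spec (CommRingCat.of k)
  let f := pullback.snd a q
  let L₀ := (Scheme.Modules.pullback ι).obj (Twist.twistProjSpace N k 1)
  let L₁ := (Scheme.Modules.pullback (pullback.fst a q)).obj L₀
  haveI : IsProper f := inferInstanceAs (IsProper (pullback.snd a q))
  haveI : IsLocallyNoetherian S := LocallyOfFiniteType.isLocallyNoetherian q
  let Z := fun s : S => CohIII.fiberMod f F s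
  have hiff : ∀ s : S, (¬ IsZero (Z s) ∧ ∀ φ : Z s ⟶ Z s, ∃ c : ↥(S.residueField s),
      ∀ (V : (f.fiber s).Opens) (x : (Z s).val.obj (Opposite.op V)),
        (φ.app V) x = ((f.fiber s).ringCatSheaf.obj.map (homOfLE (le_top : V ≤ ⊤)).op
          (Coh.toGlobal (f.fiberToSpecResidueField s) c)) • x) ↔
      (¬ IsZero (Z s) ∧ GrothLib.HomCorep20.homRank f F F s ≤ 1) := by
    intro s
    letI : (f.fiber s).Over (Spec (CommRingCat.of (S.residueField s))) := ⟨f.fiberToSpecResidueField s⟩
    haveI : IsProper ((f.fiber s) ↘ Spec (CommRingCat.of (S.residueField s))) :=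
      inferInstanceAs (IsProper (pullback.snd f (S.fromSpecResidueField s)))
    haveI : Module.Finite (S.residueField s) (Z s ⟶ Z s) :=
      GrothLib.ASBun21.finite_hom _ (GrothLib.FormalExist7.isCoh_pullbackMod _ hF)
        (GrothLib.FormalExist7.isCoh_pullbackMod _ hF)
    have key : ∀ (φ : Z s ⟶ Z s) (c : S.residueField s), c • 𝟙 (Z s) = φ ↔
        ∀ (V : (f.fiber s).Opens) (x : (Z s).val.obj (Opposite.op V)),
          (φ.app V) x = ((f.fiber s).ringCatSheaf.obj.map (homOfLE (le_top : V ≤ ⊤)).op
            (Coh.toGlobal (f.fiberToSpecResidueField s) c)) • x := by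
      intro φ c
      constructor
      · rintro rfl V x
        exact KLin.smul_app_apply c (𝟙 (Z s)) V x
      · intro h
        refine Scheme.Modules.hom_ext _ _ fun V => ?_
        ext x
        exact (KLin.smul_app_apply c (𝟙 (Z s)) V x).trans (h V x).symm
    constructor
    · rintro ⟨h0, h⟩
      refine ⟨h0, ?_⟩
      show Module.finrank (S.residueField s) (Z s ⟶ Z s) ≤ 1
      refine finrank_le_one (𝟙 (Z s)) fun φ => ?_
      obtain ⟨c, hc⟩ := h φ
      exact ⟨c, (key φ c).2 hc⟩
    · rintro ⟨h0, h⟩
      refine ⟨h0, fun φ => ?_⟩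
      have h1 : (𝟙 (Z s) : Z s ⟶ Z s) ≠ 0 := fun e => h0 ((IsZero.iff_id_eq_zero _).2 e)
      have h2 : Module.finrank (S.residueField s) (Z s ⟶ Z s) = 1 :=
        le_antisymm h (Module.finrank_pos_iff_exists_ne_zero.2 ⟨_, h1⟩)
      obtain ⟨c, hc⟩ := exists_smul_eq_of_finrank_eq_one h2 h1 φ
      exact ⟨c, (key φ c).1 hc⟩
  suffices hopen : IsOpen {s : S | ¬ IsZero (Z s) ∧ GrothLib.HomCorep20.homRank f F F s ≤ 1} from
    (show _ = {s : S | ¬ IsZero (Z s) ∧ GrothLib.HomCorep20.homRank f F F s ≤ 1} from Set.ext hiff) ▸ hopen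
  have hzero : ∀ s : S, IsZero (Z s) ↔ P = 0 := by
    intro s
    letI : (f.fiber s).Over (Spec (CommRingCat.of (S.residueField s))) := ⟨f.fiberToSpecResidueField s⟩
    haveI : IsProper ((f.fiber s) ↘ Spec (CommRingCat.of (S.residueField s))) :=
      inferInstanceAs (IsProper (pullback.snd f (S.fromSpecResidueField s)))
    have hPs : ShStab.IsHilbPoly (S.residueField s) (f.fiber s) (CohIII.fiberMod f L₁ s) (Z s) P := hP s
    constructor
    · intro h
      refine Polynomial.funext fun r => ?_
      have hm : ∀ m : ℕ, P.eval (m : ℚ) = (0 : ℚ[X]).eval (m : ℚ) := fun m =>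
        (hPs m).symm.trans (GrothLib.Hilb20.isHilbPoly_of_isZero h m)
      rw [Polynomial.eq_of_infinite_eval_eq P 0
        (Set.Infinite.mono (by rintro _ ⟨m, rfl⟩; exact hm m)
          (Set.infinite_range_of_injective (Nat.cast_injective (R := ℚ))))]
    · rintro rfl
      obtain ⟨d, hd⟩ := GrothLib.Hilb20.exists_dimLT (X := f.fiber s) (k := S.residueField s) (CohB1.support (Z s))
      refine GrothLib.Hilb20.isZero_of_isHilbPoly_zero (k := S.residueField s) ?_
        (GrothLib.FormalExist7.isCoh_pullbackMod _ hF) hd hPs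
      have hsq : IsPullback (f.fiberι s ≫ pullback.fst a q) (f.fiberToSpecResidueField s) a
          (S.fromSpecResidueField s ≫ q) :=
        IsPullback.paste_horiz (show IsPullback (f.fiberι s) (f.fiberToSpecResidueField s) f (S.fromSpecResidueField s)
          from IsPullback.of_hasPullback f (S.fromSpecResidueField s)) (IsPullback.of_hasPullback a q)
      haveI : IsAffineHom (f.fiberι s ≫ pullback.fst a q) :=
        MorphismProperty.of_isPullback hsq.flip (inferInstance : IsAffineHom (S.fromSpecResidueField s ≫ q))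
      exact (GrothLib.Ample.isAmple_pullback_comp_iff _ _ L₀).2
        (GrothLib.Ample.isAmple_pullback_of_isAffineHom _ hL)
  by_cases hP0 : P = 0
  · rw [show {s : S | ¬ IsZero (Z s) ∧ GrothLib.HomCorep20.homRank f F F s ≤ 1} = ∅ from
      Set.eq_empty_of_forall_notMem fun s h => h.1 ((hzero s).2 hP0)]
    exact isOpen_empty
  · refine isOpen_iff_forall_mem_open.2 fun s hs => ?_
    obtain ⟨V, hV, hsV, -⟩ := exists_isAffineOpen_mem_and_subset (show s ∈ (⊤ : S.Opens) from trivial)
    haveI : IsNoetherianRing Γ(S, V) := IsLocallyNoetherian.component_noetherian ⟨V, hV⟩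
    let W := f ⁻¹ᵁ V
    have hsq : IsPullback (W.ι ≫ pullback.fst a q) (f ∣_ V) a (V.ι ≫ q) :=
      IsPullback.paste_horiz (isPullback_morphismRestrict f V).flip (IsPullback.of_hasPullback a q)
    haveI : IsAffine (V : Scheme.{u}) := hV
    haveI : IsAffineHom (W.ι ≫ pullback.fst a q) :=
      MorphismProperty.of_isPullback hsq.flip (inferInstance : IsAffineHom (V.ι ≫ q))
    have hres : PerfAux.HasResolutionProperty (W : Scheme.{u}) :=
      GrothLib.ResProp22.hasResolutionProperty_of_isAmple (GrothLib.Ample.isAmple_pullback_of_isAffineHom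
        (W.ι ≫ pullback.fst a q) hL)
    refine ⟨{t | t ∈ V ∧ GrothLib.HomCorep20.homRank f F F t ≤ 1}, fun t ht => ⟨?_, ht.2⟩,
      GrothLib.HomCorep20.isOpen_homRank_le hV f F F hF hF hfl hres 1, hsV, hs.2⟩
    exact fun h => hP0 ((hzero t).1 h)

end Groth.Agent.S19960
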