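import Groth.Statements.S19962
import Mathlib
import Groth.Agent.Lib.BEExact.Criterion
-- import your own Groth.Agent.* helpers here

set_option autoImplicit false
universe u
open CAlg

namespace Groth.Agent.S19962

/-- Let R be a Noetherian commutative ring, not assumed local, and 0 → R^(n_e) → ⋯ → R^(n_1) → R^(n_0) a
complex of finite free modules with 1 ≤ e, the map R^(n_(i+1)) → R^(n_i) being given by the matrix A
i. Suppose that for every 1 ≤ j ≤ e the matrix of R^(n_j) → R^(n_(j-1)) has rank n_j - n_(j+1) + ⋯ ±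
n_e, the rank of a matrix being the largest size of a nonzero minor, and that its ideal of minors of
that size is either the unit ideal or contains an R-regular sequence of length j. Then the complex
is exact at R^(n_e), …, R^(n_1). -/
theorem result {R : Type u} [CommRing R] [IsNoetherianRing R]
    (e : ℕ) (he : 1 ≤ e) (n : ℕ → ℕ) (A : (i : ℕ) → Matrix (Fin (n i)) (Fin (n (i + 1))) R)
    (hA : ∀ i, i + 2 ≤ e → A i * A (i + 1) = 0)
    (hrank : ∀ j, 1 ≤ j → j ≤ e →
      (CAlgX.matrixRank (A (j - 1)) : ℤ) = ∑ t ∈ Finset.Icc j e, (-1 : ℤ) ^ (t - j) * (n t : ℤ))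
    (hdet : ∀ j, 1 ≤ j → j ≤ e →
      CAlgX.detIdeal (A (j - 1)) = ⊤ ∨
        ∃ rs : List R, rs.length = j ∧ (∀ r ∈ rs, r ∈ CAlgX.detIdeal (A (j - 1))) ∧
          RingTheory.Sequence.IsRegular R rs) :
    LinearMap.ker (A (e - 1)).mulVecLin = ⊥ ∧
      ∀ i, i + 2 ≤ e → LinearMap.ker (A i).mulVecLin = LinearMap.range (A (i + 1)).mulVecLin := by
  exact GrothLib.BEExact.isExact_of_ranks e n A he (fun i => CAlgX.matrixRank (A i)) hA
    (fun i hi => by rw [GrothLib.BEExact.σ_eq_sum_Icc]; exact hrank (i + 1) (Nat.le_add_left 1 i) hi)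
    (fun i hi => hdet (i + 1) (Nat.le_add_left 1 i) hi)

end Groth.Agent.S19962
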