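import Groth.Statements.S19963
import Mathlib
import Groth.Agent.Lib.Horrocks.RatFunDescent

set_option autoImplicit false
open Polynomial TensorProduct
universe u
open CAlg

namespace Groth.Agent.S19963

/-- Let A be a commutative ring and let A(t) denote the localization of the polynomial ring A[t] at the
multiplicative subset of monic polynomials, viewed as an A-algebra. If P and P' are finitely
generated projective A-modules such that A(t) ⊗_A P and A(t) ⊗_A P' are isomorphic A(t)-modules,
then P and P' are isomorphic A-modules: non-isomorphic finite projective modules stay non-isomorphic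
over A(t). (The published statement also covers base change to the ring A((t)) of Laurent power
series, and modules over A(t) itself; only the A(t) assertion for modules over A is stated.) -/
theorem result
    (A : Type u) [CommRing A] (M : Submonoid A[X]) (hM : ∀ f : A[X], f ∈ M ↔ f.Monic)
    (At : Type u) [CommRing At] [Algebra A[X] At] [IsLocalization M At]
    [Algebra A At] [IsScalarTower A A[X] At]
    (P P' : Type u) [AddCommGroup P] [Module A P] [Module.Finite A P] [Module.Projective A P]
    [AddCommGroup P'] [Module A P'] [Module.Finite A P'] [Module.Projective A P']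
    (h : Nonempty ((At ⊗[A] P) ≃ₗ[At] (At ⊗[A] P'))) :
    Nonempty (P ≃ₗ[A] P') := by
  classical
  obtain ⟨φ⟩ := h
  obtain ⟨n, π, i, -, -, hπi⟩ := Module.Finite.exists_comp_eq_id_of_projective A P
  obtain ⟨n', π', i', -, -, hπi'⟩ := Module.Finite.exists_comp_eq_id_of_projective A P'
  let ε := LinearMap.toMatrix' (i.comp π)
  let ε' := LinearMap.toMatrix' (i'.comp π')
  have hε : ε * ε = ε := by
    simp only [ε]
    rw [← LinearMap.toMatrix'_comp, LinearMap.comp_assoc, ← LinearMap.comp_assoc _ i π, hπi, LinearMap.id_comp]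
  have hε' : ε' * ε' = ε' := by
    simp only [ε']
    rw [← LinearMap.toMatrix'_comp, LinearMap.comp_assoc, ← LinearMap.comp_assoc _ i' π', hπi', LinearMap.id_comp]
  let Pn := fun k : ℕ => TensorProduct.piScalarRight A At At (Fin k)
  let iL : (At ⊗[A] P) →ₗ[At] (Fin n → At) := (Pn n).toLinearMap.comp (i.baseChange At)
  let πL : (Fin n → At) →ₗ[At] (At ⊗[A] P) := (π.baseChange At).comp (Pn n).symm.toLinearMap
  let iL' : (At ⊗[A] P') →ₗ[At] (Fin n' → At) := (Pn n').toLinearMap.comp (i'.baseChange At)
  let πL' : (Fin n' → At) →ₗ[At] (At ⊗[A] P') := (π'.baseChange At).comp (Pn n').symm.toLinearMap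
  have hbc : ∀ {k : ℕ} {V : Type u} [AddCommGroup V] [Module A V] (j : V →ₗ[A] Fin k → A)
      (ρ : (Fin k → A) →ₗ[A] V),
      LinearMap.toMatrix' (((Pn k).toLinearMap.comp (j.baseChange At)).comp
        ((ρ.baseChange At).comp (Pn k).symm.toLinearMap)) = (LinearMap.toMatrix' (j.comp ρ)).map (algebraMap A At) := by
    intro k V _ _ j ρ
    ext a b : 1
    simp [Pn, LinearMap.toMatrix'_apply, TensorProduct.piScalarRight_symm_single, Algebra.smul_def,
      Pi.single_apply, ← Pi.single_apply]
  have hπiL : πL.comp iL = LinearMap.id := by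
    refine LinearMap.ext fun x => ?_
    simp only [πL, iL, LinearMap.comp_apply, LinearEquiv.coe_coe, LinearEquiv.symm_apply_apply]
    rw [← LinearMap.comp_apply, ← LinearMap.baseChange_comp, hπi, LinearMap.baseChange_id]
  have hπiL' : πL'.comp iL' = LinearMap.id := by
    refine LinearMap.ext fun x => ?_
    simp only [πL', iL', LinearMap.comp_apply, LinearEquiv.coe_coe, LinearEquiv.symm_apply_apply]
    rw [← LinearMap.comp_apply, ← LinearMap.baseChange_comp, hπi', LinearMap.baseChange_id]
  let ι := algebraMap (Polynomial A) At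
  let u := LinearMap.toMatrix' ((iL'.comp φ.toLinearMap).comp πL)
  let w := LinearMap.toMatrix' ((iL.comp φ.symm.toLinearMap).comp πL')
  have hC : ∀ {k : ℕ} (δ : Matrix (Fin k) (Fin k) A), (δ.map Polynomial.C).map ι = δ.map (algebraMap A At) :=
    fun δ => by
      ext a b : 1
      exact (IsScalarTower.algebraMap_apply A (Polynomial A) At _).symm
  have eπ : ∀ z, πL (iL z) = z := fun z => LinearMap.congr_fun hπiL z
  have eπ' : ∀ z, πL' (iL' z) = z := fun z => LinearMap.congr_fun hπiL' z
  have euw : u * w = (ε'.map Polynomial.C).map ι := by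
    rw [hC, ← hbc, ← LinearMap.toMatrix'_comp]
    congr 1
    refine LinearMap.ext fun z => ?_
    simp only [LinearMap.comp_apply, LinearEquiv.coe_coe, eπ, LinearEquiv.apply_symm_apply]
    rfl
  have ewu : w * u = (ε.map Polynomial.C).map ι := by
    rw [hC, ← hbc, ← LinearMap.toMatrix'_comp]
    congr 1
    refine LinearMap.ext fun z => ?_
    simp only [LinearMap.comp_apply, LinearEquiv.coe_coe, eπ', LinearEquiv.symm_apply_apply]
    rfl
  have eu : (ε'.map Polynomial.C).map ι * u = u ∧ u * (ε.map Polynomial.C).map ι = u := by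
    rw [hC, hC, ← hbc, ← hbc, ← LinearMap.toMatrix'_comp, ← LinearMap.toMatrix'_comp]
    constructor <;> congr 1 <;> refine LinearMap.ext fun z => ?_
    · show iL' (πL' (iL' (φ (πL z)))) = iL' (φ (πL z))
      rw [eπ']
    · show iL' (φ (πL (iL (πL z)))) = iL' (φ (πL z))
      rw [eπ]
  have ew : (ε.map Polynomial.C).map ι * w = w ∧ w * (ε'.map Polynomial.C).map ι = w := by
    rw [hC, hC, ← hbc, ← hbc, ← LinearMap.toMatrix'_comp, ← LinearMap.toMatrix'_comp]
    constructor <;> congr 1 <;> refine LinearMap.ext fun z => ?_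
    · show iL (πL (iL (φ.symm (πL' z)))) = iL (φ.symm (πL' z))
      rw [eπ]
    · show iL (φ.symm (πL' (iL' (πL' z)))) = iL (φ.symm (πL' z))
      rw [eπ']
  let S : Finset At := (Finset.univ.image fun ij : Fin n' × Fin n => u ij.1 ij.2) ∪
    (Finset.univ.image fun ij : Fin n × Fin n' => w ij.1 ij.2)
  obtain ⟨⟨q, hq⟩, hS⟩ := IsLocalization.exist_integer_multiples_of_finset M S
  choose a ha using fun i j => hS (u i j) (Finset.mem_union_left _
    (Finset.mem_image.mpr ⟨(i, j), Finset.mem_univ _, rfl⟩))
  choose b hb using fun i j => hS (w i j) (Finset.mem_union_right _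
    (Finset.mem_image.mpr ⟨(i, j), Finset.mem_univ _, rfl⟩))
  let U₀ : Matrix (Fin n') (Fin n) (Polynomial A) := Matrix.of a
  let W₀ : Matrix (Fin n) (Fin n') (Polynomial A) := Matrix.of b
  have hU₀ : U₀.map ι = ι q • u := by
    ext i j : 1
    simp only [U₀, ι, Matrix.map_apply, Matrix.of_apply, Matrix.smul_apply, ha, smul_eq_mul]
    simp [Algebra.smul_def]
  have hW₀ : W₀.map ι = ι q • w := by
    ext i j : 1
    simp only [W₀, ι, Matrix.map_apply, Matrix.of_apply, Matrix.smul_apply, hb, smul_eq_mul]
    simp [Algebra.smul_def]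
  have hinj : Function.Injective ι := IsLocalization.injective At fun f hf => ((hM f).1 hf).mem_nonZeroDivisors
  have hsm : ∀ {k l : ℕ} (c : Polynomial A) (X : Matrix (Fin k) (Fin l) (Polynomial A)),
      (c • X).map ι = ι c • X.map ι := fun c X => by ext i j; simp
  have hm := @Matrix.map_injective
  obtain ⟨X, Y, h1, h2⟩ := GrothLib.Horrocks.eqv_of_monic ε hε ε' hε' U₀ W₀ (((hM q).1 hq).mul ((hM q).1 hq))
    (hm hinj (by simp only [Matrix.map_mul, hU₀, Matrix.mul_smul, eu.1]))
    (hm hinj (by simp only [Matrix.map_mul, hU₀, Matrix.smul_mul, eu.2]))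
    (hm hinj (by simp only [Matrix.map_mul, hW₀, Matrix.mul_smul, ew.1]))
    (hm hinj (by simp only [Matrix.map_mul, hW₀, Matrix.smul_mul, ew.2]))
    (hm hinj (by simp only [Matrix.map_mul, hsm, hU₀, hW₀, Matrix.smul_mul, Matrix.mul_smul, smul_smul, euw, map_mul]))
    (hm hinj (by simp only [Matrix.map_mul, hsm, hU₀, hW₀, Matrix.smul_mul, Matrix.mul_smul, smul_smul, ewu, map_mul]))
  exact ⟨GrothLib.Horrocks.equivOfEqv i π hπi i' π' hπi' X Y h1 h2⟩

end Groth.Agent.S19963
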