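import Groth.Statements.S19967
import Groth.Agent.Lib.Chev28.FlatDimOne

set_option autoImplicit false
universe u
open CategoryTheory CategoryTheory.Limits AlgebraicGeometry
open FlatMor

namespace Groth.Agent.S19967

/-- Let f : S' → S be a flat morphism of locally Noetherian schemes, i : C → S and i' : C' → S' closed
immersions with C and C' integral, and g : C' → C with g ≫ i = i' ≫ f. Let φ : C' → C ×_S S' be the
induced morphism and η ∈ S the image of the generic point of C. If φ becomes an isomorphism after
base change along the canonical morphism Spec O_{S,η} → S (that is, after pulling back to (C ×_S S')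
×_S Spec O_{S,η}), then φ is an isomorphism. (In the source S and S' are excellent surfaces over an
algebraically closed field, C and C' regular curves not inside the singular loci, and the
isomorphism over Spec O_{S,η} is part of the definition of a morphism of surface-curve pairs; those
extra hypotheses play no part.) -/
theorem result
    {S S' C C' : Scheme.{u}} [IsLocallyNoetherian S] [IsLocallyNoetherian S']
    (f : S' ⟶ S) [Flat f] (i : C ⟶ S) [IsClosedImmersion i] [IsIntegral C]
    (i' : C' ⟶ S') [IsClosedImmersion i'] [IsIntegral C']
    (g : C' ⟶ C) (hsq : g ≫ i = i' ≫ f)
    (hgen : IsIso (pullback.snd (pullback.lift g i' hsq)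
      (pullback.fst (pullback.fst i f ≫ i) (S.fromSpecStalk (i.base (genericPoint C)))))) :
    IsIso (pullback.lift g i' hsq) := by
  exact GrothLib.Chev28.isIso_lift_of_generic f i i' g hsq hgen

end Groth.Agent.S19967
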