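import Groth.Statements.S19968
import Groth.Agent.Lib.Ample.Criterion
import Mathlib

set_option autoImplicit false
universe u
open CategoryTheory AlgebraicGeometry Opposite
open LinSer

namespace Groth.Agent.S19968

open GrothLib.Ample Opposite in
/-- Evaluation of sections at a rational point. -/
theorem exists_ev {k : Type u} [Field k] {X : Scheme.{u}} [X.Over (Spec (CommRingCat.of k))]
    (p : Spec (CommRingCat.of k) ⟶ X) (hp : p ≫ (X ↘ Spec (CommRingCat.of k)) = 𝟙 _)
    (U : X.Opens) (hU : p (IsLocalRing.closedPoint k) ∈ U) :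
    ∃ ev : Γ(X, U) →+* k,
      (∀ f, p (IsLocalRing.closedPoint k) ∈ X.basicOpen f → ev f ≠ 0) ∧
      ∀ c : k, ev (res le_top (Coh.toGlobal (X ↘ Spec (CommRingCat.of k)) c)) = c := by
  have hpt : ∀ z : Spec (CommRingCat.of k), z = IsLocalRing.closedPoint k := fun z => Subsingleton.elim _ _
  have e : (⊤ : (Spec (CommRingCat.of k)).Opens) ≤ p ⁻¹ᵁ U := fun z _ => by
    show p z ∈ U
    rw [hpt z]; exact hU
  refine ⟨((Scheme.ΓSpecIso (CommRingCat.of k)).hom.hom).comp (p.appLE U ⊤ e).hom, fun f hf h0 => ?_,
    fun c => ?_⟩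
  · have h1 : (p.appLE U ⊤ e).hom f = 0 := by
      apply (Scheme.ΓSpecIso (CommRingCat.of k)).commRingCatIsoToRingEquiv.injective
      rw [map_zero]
      exact h0
    have h2 : (IsLocalRing.closedPoint k : Spec (CommRingCat.of k)) ∈
        (Spec (CommRingCat.of k)).basicOpen ((p.appLE U ⊤ e).hom f) := by
      rw [Scheme.basicOpen_appLE]
      exact ⟨trivial, hf⟩
    rw [h1, Scheme.basicOpen_zero] at h2
    exact h2
  · have h1 : (X ↘ Spec (CommRingCat.of k)).appTop ≫ X.presheaf.map (homOfLE le_top).op ≫ p.appLE U ⊤ e =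
        𝟙 _ := by
      rw [Scheme.Hom.map_appLE]
      have key : ∀ (q : Spec (CommRingCat.of k) ⟶ Spec (CommRingCat.of k)) (_ : q = 𝟙 _) (e' : _),
          q.appLE ⊤ ⊤ e' = 𝟙 _ := by
        rintro q rfl e'
        simp [Scheme.Hom.appLE]
      exact (Scheme.Hom.comp_appLE p (X ↘ Spec (CommRingCat.of k)) ⊤ ⊤ le_rfl).symm.trans (key _ hp _)
    have h2 := congrArg (fun h => (Scheme.ΓSpecIso (CommRingCat.of k)).hom.hom (h.hom ((Scheme.ΓSpecIso (CommRingCat.of k)).inv.hom c))) h1
    exact h2.trans (by simp)

/-- Rational points impose at most one condition each on a complete linear system. Let k be a field, X a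
scheme over k, L an invertible O_X-module, and p_1, …, p_n morphisms Spec k → X over k (k-rational
points). Suppose there are n + 1 global sections of L, given as morphisms t_0, …, t_n : O_X → L,
whose values in Γ(X, L) are linearly independent over k. Then there is a nonzero morphism s : O_X →
L such that no p_i lands in the open X_s where s generates L; that is, s vanishes at every p_i and
the p_i lie on a common member of the complete linear system of L. (The source has X an irreducible
projective variety over the complex numbers, L base-point-free and the points closed, and phrases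
this as surjectivity of the incidence correspondence onto X^n for n at most the dimension of the
linear system; only rationality of the points and the dimension count are used, and
base-point-freeness plays no part in this item.) -/
theorem result
    (k : Type u) [Field k] (X : Scheme.{u}) [X.Over (Spec (CommRingCat.of k))]
    (L : X.Modules) (hL : PicF.IsInvertible L)
    (n : ℕ) (p : Fin n → (Spec (CommRingCat.of k) ⟶ X))
    (hp : ∀ i, p i ≫ (X ↘ Spec (CommRingCat.of k)) = 𝟙 _)
    (t : Fin (n + 1) → (Coh.structureModule X ⟶ L))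
    (ht : LinSer.LinIndep k X L (fun j => (L.unitHomEquiv (t j)).val (op ⊤))) :
    ∃ s : Coh.structureModule X ⟶ L, s ≠ 0 ∧
      ∀ i, (p i) (IsLocalRing.closedPoint k) ∉ CohB1.genLocus L s := by
  classical
  obtain ⟨C, ⟨d⟩⟩ := GrothLib.Ample.exists_cocycle hL
  let a : Fin (n + 1) → C.sect 1 ⊤ := fun j => ((C.twist 1).unitHomEquiv (t j ≫ d.hom)).1 (op ⊤)
  choose l hl using fun i => C.exists_mem ((p i) (IsLocalRing.closedPoint k))
  choose ev hev hevc using fun i => exists_ev (p i) (hp i) (⊤ ⊓ C.D (l i)) ⟨trivial, hl i⟩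
  let φ : (Fin (n + 1) → k) →ₗ[k] (Fin n → k) :=
    LinearMap.pi fun i => ∑ j, (ev i ((a j).1 (l i))) • LinearMap.proj j
  obtain ⟨c, hc, hc0⟩ : ∃ c ∈ LinearMap.ker φ, c ≠ 0 := by
    refine Submodule.exists_mem_ne_zero_of_ne_bot (LinearMap.ker_ne_bot_of_finrank_lt ?_)
    simp
  let g : k → Γ(X, ⊤) := fun z => Coh.toGlobal (X ↘ Spec (CommRingCat.of k)) z
  let b : C.sect 1 ⊤ := ∑ j, g (c j) • a j
  refine ⟨C.hom b ≫ d.inv, fun h0 => hc0 (ht c ?_), fun i hi => ?_⟩
  · have hb : C.hom b = 0 := by
      rw [← cancel_mono d.inv, h0]; simp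
    have hb0 : b = 0 := by
      have h1 := C.hom_app_one b ⊤
      rw [hb] at h1
      refine Eq.trans ?_ h1.symm
      exact C.sect_ext fun _ => ((C.sectRes_apply le_top b _).trans (GrothLib.Ample.res_self _ _)).symm
    have h2 : ∀ j, a j = d.hom.app ⊤ (((L.unitHomEquiv (t j))).val (op ⊤)) := fun j => rfl
    have h3 : d.hom.app ⊤ (∑ j, g (c j) • (show Γ(L, ⊤) from ((L.unitHomEquiv (t j))).val (op ⊤))) = b := by
      rw [map_sum]
      exact Finset.sum_congr rfl fun j _ => GrothLib.Ample.app_smul d.hom _ _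
    rw [hb0] at h3
    have h4 := congrArg (d.inv.app ⊤) h3
    refine Eq.trans ?_ (h4.trans (map_zero _))
    exact (congrArg (fun q : L ⟶ L => q.app ⊤ _) d.hom_inv_id).symm
  · change _ ∈ CohB1.genLocus L (C.hom b ≫ d.symm.hom) at hi
    rw [GrothLib.Ample.genLocus_comp_iso d.symm, C.genLocus_hom, C.mem_locus_iff b (hl i)] at hi
    refine hev i _ hi ?_
    have hbv : b.1 (l i) = ∑ j, GrothLib.Ample.res inf_le_left (g (c j)) * (a j).1 (l i) := by
      simp only [b, AddSubmonoidClass.coe_finsetSum, Finset.sum_apply, GrothLib.Ample.Cocycle.smul_apply]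
    rw [hbv, map_sum]
    have h5 := congrFun (LinearMap.mem_ker.mp hc) i
    simp only [φ, LinearMap.pi_apply, LinearMap.sum_apply, LinearMap.smul_apply,
      LinearMap.proj_apply, smul_eq_mul, Pi.zero_apply] at h5
    rw [← h5]
    exact Finset.sum_congr rfl fun j _ => by rw [map_mul, hevc, mul_comm]

end Groth.Agent.S19968
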