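import Groth.Statements.S19969
import Groth.Agent.Lib.EssFree.Over
-- import your own Groth.Agent.* helpers here

set_option autoImplicit false
universe u
open CategoryTheory MonoidalCategory CartesianMonoidalCategory AlgebraicGeometry
open AlgGrp

namespace Groth.Agent.S19969

/-- Let k be a field, X and Y arbitrary k-schemes and a : Y ×_k X → X a k-morphism such that every open
subscheme U of X is stable under a, in the sense that the preimage of U under the projection Y ×_k X
→ X is contained in the preimage of U under a. Consider the subfunctor X^a of X whose T-valued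
points, for a k-scheme T, are the k-morphisms x : T → X with a ∘ (id_Y × x) = x ∘ pr_T as morphisms
Y ×_k T → X. Then X^a is represented by a closed subscheme of X: there is a closed immersion j : Z →
X over k lying in X^a(Z) through which every element of X^a(T) factors. Neither separatedness of X
nor any finiteness condition on X or Y is assumed. -/
theorem result (k : Type u) [Field k]
    (X Y : Over (Spec (CommRingCat.of k))) (a : Y ⊗ X ⟶ X)
    (hstab : ∀ U : X.left.Opens, (CartesianMonoidalCategory.snd Y X).left ⁻¹ᵁ U ≤ a.left ⁻¹ᵁ U) :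
    ∃ (Z : Over (Spec (CommRingCat.of k))) (j : Z ⟶ X), IsClosedImmersion j.left ∧
      (Y ◁ j) ≫ a = CartesianMonoidalCategory.snd Y Z ≫ j ∧
      ∀ (T : Over (Spec (CommRingCat.of k))) (x : T ⟶ X),
        (Y ◁ x) ≫ a = CartesianMonoidalCategory.snd Y T ≫ x → ∃ z : T ⟶ Z, z ≫ j = x := by
  let σ := lift (CartesianMonoidalCategory.snd X Y) (CartesianMonoidalCategory.fst X Y) ≫ a
  let b := CartesianMonoidalCategory.fst X Y
  let Δ : X ⟶ X ⊗ X := lift (𝟙 X) (𝟙 X)
  have hΔ : Δ.left = Limits.pullback.diagonal X.hom := by
    simp only [Δ, Over.lift_left]; rfl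
  have sq := ((IsPullback.of_hasPullback (lift σ b) Δ).map (Over.forget _))
  have : IsClosedImmersion (Limits.pullback.fst (lift σ b) Δ).left := by
    have : IsImmersion (Limits.pullback.fst (lift σ b) Δ).left :=
      MorphismProperty.of_isPullback sq.flip
        (show IsImmersion Δ.left by rw [hΔ]; infer_instance)
    refine IsClosedImmersion.of_isPreimmersion _ ?_
    have hr : Set.range (Limits.pullback.fst (lift σ b) Δ).left =
        (lift σ b).left ⁻¹' Set.range Δ.left := by
      show Set.range ((Over.forget _).map (Limits.pullback.fst (lift σ b) Δ)) = _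
      rw [← sq.isoPullback_hom_fst, Scheme.Hom.comp_base, TopCat.coe_comp, Set.range_comp,
        Set.range_eq_univ.mpr (Surjective.surj (f := sq.isoPullback.hom)), Set.image_univ,
        Scheme.Pullback.range_fst]
      rfl
    rw [hr, ← isOpen_compl_iff, isOpen_iff_forall_mem_open]
    intro p hp
    obtain ⟨_, ⟨(U : X.left.Opens), hU, rfl⟩, hbU, -⟩ := X.left.isBasis_affineOpens.exists_subset_of_mem_open
      (Set.mem_univ (b.left p)) isOpen_univ
    have : IsAffine U := hU
    let j := U.ι ≫ X.hom
    have : IsSeparated j := inferInstance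
    let jj := Limits.pullback.map j j X.hom X.hom U.ι U.ι (𝟙 _) (Category.comp_id _) (Category.comp_id _)
    have hjj : IsOpenImmersion jj :=
      MorphismProperty.pullbackMap (P := @IsOpenImmersion) (inferInstanceAs (IsOpenImmersion U.ι))
        (inferInstanceAs (IsOpenImmersion U.ι)) rfl rfl
    have hd : Limits.pullback.diagonal j ≫ jj = U.ι ≫ Limits.pullback.diagonal X.hom := by
      apply Limits.pullback.hom_ext
      · simp only [Category.assoc, jj, Limits.pullback.map, Limits.pullback.diagonal_fst, Category.comp_id]
        rw [Limits.pullback.lift_fst, ← Category.assoc, Limits.pullback.diagonal_fst, Category.id_comp]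
      · simp only [Category.assoc, jj, Limits.pullback.map, Limits.pullback.diagonal_snd, Category.comp_id]
        rw [Limits.pullback.lift_snd, ← Category.assoc, Limits.pullback.diagonal_snd, Category.id_comp]
    refine ⟨(lift σ b).left ⁻¹' (jj '' (Set.range (Limits.pullback.diagonal j))ᶜ), ?_, ?_, ?_⟩
    · rintro q ⟨w, hw, hwq⟩ ⟨x, hx⟩
      rw [hΔ] at hx
      have hxU : x ∈ Set.range U.ι := by
        have h1 : Limits.pullback.fst X.hom X.hom (jj w) = x := by
          rw [hwq, ← hx, ← Scheme.Hom.comp_apply, Limits.pullback.diagonal_fst]; simp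
        rw [← h1, ← Scheme.Hom.comp_apply, Limits.pullback.lift_fst, Scheme.Hom.comp_apply]
        exact Set.mem_range_self _
      obtain ⟨v, rfl⟩ := hxU
      refine hw ⟨v, jj.isOpenEmbedding.injective ?_⟩
      rw [hwq, ← hx, ← Scheme.Hom.comp_apply, ← Scheme.Hom.comp_apply, hd]
    · exact (jj.isOpenEmbedding.isOpenMap _
        (Limits.pullback.diagonal j).isClosedEmbedding.isClosed_range.isOpen_compl).preimage
          (lift σ b).left.continuous
    · obtain ⟨w, hw⟩ : (lift σ b).left p ∈ Set.range jj := by
        rw [Scheme.Pullback.range_map, Scheme.Opens.range_ι]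
        refine ⟨?_, ?_⟩
        · show (lift σ b ≫ CartesianMonoidalCategory.fst X X).left p ∈ U
          rw [lift_fst]
          exact hstab U (show (lift (CartesianMonoidalCategory.snd X Y)
            (CartesianMonoidalCategory.fst X Y) ≫ CartesianMonoidalCategory.snd Y X).left p ∈ U by
              rw [lift_snd]; exact hbU)
        · show (lift σ b ≫ CartesianMonoidalCategory.snd X X).left p ∈ U
          rw [lift_snd]; exact hbU
      refine ⟨w, fun ⟨v, hv⟩ => hp ⟨U.ι v, ?_⟩, hw⟩
      rw [hΔ, ← hw, ← hv, ← Scheme.Hom.comp_apply, ← Scheme.Hom.comp_apply, hd]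
  obtain ⟨Z, z, hz, hZ⟩ := GrothLib.EssFree.exists_closed_forall_eq' σ b
    (GrothLib.EssFree.projCover_field X Y)
  have key : ∀ (T : Over (Spec (CommRingCat.of k))) (x : T ⟶ X), (∃ w, w ≫ z = x) ↔
      (Y ◁ x) ≫ a = CartesianMonoidalCategory.snd Y T ≫ x := by
    intro T x
    rw [hZ T x]
    constructor
    · intro h
      have := h (Y ⊗ T) (CartesianMonoidalCategory.snd Y T) (CartesianMonoidalCategory.fst Y T)
      have h2 : Y ◁ x = lift (CartesianMonoidalCategory.fst Y T) (CartesianMonoidalCategory.snd Y T ≫ x) := by
        apply CartesianMonoidalCategory.hom_ext <;> simp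
      rw [h2]
      simpa [σ, b, comp_lift_assoc] using this
    · intro h T' t y
      have := congrArg (lift y t ≫ ·) h
      simpa [σ, b, comp_lift_assoc] using this
  exact ⟨Z, z, hz, (key Z z).1 ⟨𝟙 _, Category.id_comp _⟩, fun T x hx => (key T x).2 hx⟩

end Groth.Agent.S19969
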