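import Groth.Statements.S19974
import Mathlib

set_option autoImplicit false
universe u v w x
open scoped BigOperators
open DefMod

namespace Groth.Agent.S19974

/-- Let K be a field of characteristic 0, O a commutative K-algebra with a K-linear derivation δ, and D
the ring of differential operators O[∂], presented abstractly as a K-algebra D with an algebra map ι
: O → D and an element ∂ of D such that ∂ ι(f) = ι(f) ∂ + ι(δ f) for every f in O and such that
every element of D is in a unique way a finite sum of terms ι(f_i) ∂^i. Let E be a left D-module,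
given as a K-vector space with a K-algebra map ρ : D → End_K(E), which is finite free as an
O-module. A K-derivation of D with values in the D-bimodule End_K(E) is a K-linear map s with s(PQ)
= s(P) ρ(Q) + ρ(P) s(Q); a K-derivation of O with values in End_K(E) is a K-linear map r with r(fg)
= r(f) ρ(ι g) + ρ(ι f) r(g). Then: (a) for every K-derivation s of D into End_K(E), the pair (r, v)
= (s ∘ ι, s(∂)) satisfies the identity [r(f), ρ(∂)] + [ρ(ι f), v] + r(δ f) = 0 for all f in O; (b)
conversely, for every K-derivation r of O into End_K(E) and every v in End_K(E) satisfying that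
identity for all f, there is exactly one K-derivation s of D into End_K(E) with s ∘ ι = r and s(∂) =
v. In other words s ↦ (s ∘ ι, s(∂)) maps the K-derivations of D injectively onto the pairs
satisfying the identity. -/
theorem result
    (K : Type u) [Field K] [CharZero K]
    (O : Type v) [CommRing O] [Algebra K O] (δ : Derivation K O O)
    (D : Type w) [Ring D] [Algebra K D] (ι : O →ₐ[K] D) (d : D)
    (hd : ∀ f : O, d * ι f = ι f * d + ι (δ f))
    (hbasis : Function.Bijective (fun c : ℕ →₀ O => c.sum (fun i f => ι f * d ^ i)))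
    (E : Type x) [AddCommGroup E] [Module K E] (ρ : D →ₐ[K] Module.End K E)
    (hE : ∃ (n : ℕ) (b : Fin n → E), Function.Bijective (fun c : Fin n → O => ∑ i, ρ (ι (c i)) (b i))) :
    (∀ s : D →ₗ[K] Module.End K E, (∀ P Q : D, s (P * Q) = s P * ρ Q + ρ P * s Q) →
      ∀ f : O, (s (ι f) * ρ d - ρ d * s (ι f)) + (ρ (ι f) * s d - s d * ρ (ι f)) + s (ι (δ f)) = 0) ∧
    ∀ (r : O →ₗ[K] Module.End K E) (v : Module.End K E),
      (∀ f g : O, r (f * g) = r f * ρ (ι g) + ρ (ι f) * r g) →
      (∀ f : O, (r f * ρ d - ρ d * r f) + (ρ (ι f) * v - v * ρ (ι f)) + r (δ f) = 0) →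
      ∃! s : D →ₗ[K] Module.End K E,
        (∀ P Q : D, s (P * Q) = s P * ρ Q + ρ P * s Q) ∧ s ∘ₗ ι.toLinearMap = r ∧ s d = v := by
  classical
  refine ⟨fun s hs f => ?_, fun r v hr hrv => ?_⟩
  · have h := congrArg s (hd f)
    rw [map_add, hs, hs] at h
    rw [← sub_eq_zero.2 h.symm]
    abel
  let e : (ℕ →₀ O) ≃ₗ[K] D := LinearEquiv.ofBijective
    { toFun := fun c => c.sum (fun i f => ι f * d ^ i)
      map_add' := fun a b => Finsupp.sum_add_index' (by simp) (by simp [add_mul])
      map_smul' := fun t c => by
        rw [Finsupp.sum_smul_index' (fun i => by simp), RingHom.id_apply, Finsupp.smul_sum]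
        exact Finsupp.sum_congr fun i _ => by rw [map_smul, smul_mul_assoc] } hbasis
  have he : ∀ i f, e (Finsupp.single i f) = ι f * d ^ i := fun i f => by
    show (Finsupp.single i f).sum (fun i f => ι f * d ^ i) = _
    exact Finsupp.sum_single_index (by rw [map_zero, zero_mul])
  let S : ℕ → Module.End K E := fun i => Nat.rec 0 (fun n Sn => v * ρ (d ^ n) + ρ d * Sn) i
  let L : ℕ → (O →ₗ[K] Module.End K E) := fun i =>
    { toFun := fun f => r f * ρ (d ^ i) + ρ (ι f) * S i
      map_add' := fun a b => by simp [add_mul]; abel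
      map_smul' := fun t a => by simp [smul_add] }
  let s : D →ₗ[K] Module.End K E := (Finsupp.lsum K L).comp e.symm.toLinearMap
  have hs0 : ∀ i f, s (ι f * d ^ i) = r f * ρ (d ^ i) + ρ (ι f) * S i := fun i f => by
    show (Finsupp.lsum K L) (e.symm (ι f * d ^ i)) = _
    rw [← he, LinearEquiv.symm_apply_apply, Finsupp.lsum_single]
    rfl
  have ind : ∀ {p : D → Prop}, p 0 → (∀ a b, p a → p b → p (a + b)) → (∀ i f, p (ι f * d ^ i)) → ∀ P, p P := by
    intro p h0 hadd hb P
    obtain ⟨c, rfl⟩ := e.surjective P
    induction c using Finsupp.induction_linear with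
    | zero => rw [map_zero]; exact h0
    | add a b ha hb' => rw [map_add]; exact hadd _ _ ha hb'
    | single i f => rw [he]; exact hb i f
  have r1 : r 1 = 0 := by
    have := hr 1 1
    simp only [mul_one, one_mul, map_one ι, map_one ρ] at this
    exact (left_eq_add).1 this
  have sι : ∀ f, s (ι f) = r f := fun f => by
    have := hs0 0 f
    rw [pow_zero, mul_one, map_one, mul_one] at this
    rw [this, show S 0 = 0 from rfl, mul_zero, add_zero]
  have s1 : s 1 = 0 := by rw [← map_one ι, sι, r1]
  have hleft : ∀ f P, s (ι f * P) = r f * ρ P + ρ (ι f) * s P := fun f => by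
    refine ind (by simp) (fun a b ha hb => by rw [mul_add, map_add, ha, hb, map_add, map_add, mul_add, mul_add]; abel)
      fun i g => ?_
    rw [← mul_assoc, ← map_mul, hs0, hs0, hr, map_mul, map_mul ρ, map_mul ρ, add_mul, mul_add, ← mul_assoc,
      ← mul_assoc, ← mul_assoc]
    abel
  have hdl : ∀ P, s (d * P) = v * ρ P + ρ d * s P := by
    refine ind (by simp) (fun a b ha hb => by rw [mul_add, map_add, ha, hb, map_add, map_add, mul_add, mul_add]; abel)
      fun i g => ?_
    have hgd : ρ d * ρ (ι g) = ρ (ι g) * ρ d + ρ (ι (δ g)) := by rw [← map_mul, hd, map_add, map_mul]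
    rw [← mul_assoc, hd, add_mul, mul_assoc, ← pow_succ', map_add, hs0, hs0, hs0, map_mul ρ,
      show S (i + 1) = v * ρ (d ^ i) + ρ d * S i from rfl, mul_add (ρ d), ← mul_assoc (ρ d) (ρ (ι g)), hgd]
    have h0 := congrArg (fun z => z * ρ (d ^ i)) (hrv g)
    simp only [zero_mul] at h0
    rw [pow_succ', map_mul ρ]
    rw [← sub_eq_zero]
    refine Eq.trans ?_ h0
    simp only [add_mul, sub_mul, mul_add, ← mul_assoc]
    abel
  have hmul : ∀ P Q, s (P * Q) = s P * ρ Q + ρ P * s Q := by
    refine ind (fun Q => by simp) (fun a b ha hb Q => by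
      rw [add_mul, map_add, ha, hb, map_add, map_add, add_mul, add_mul]; abel) fun i f Q => ?_
    have hpow : ∀ j Q, s (d ^ j * Q) = s (d ^ j) * ρ Q + ρ (d ^ j) * s Q := by
      intro j
      induction j with
      | zero => intro Q; rw [pow_zero, one_mul, s1, zero_mul, zero_add, map_one, one_mul]
      | succ j ih =>
        intro Q
        rw [pow_succ', mul_assoc, hdl, ih, hdl, map_mul ρ, map_mul ρ, add_mul, mul_add, mul_assoc, mul_assoc, mul_assoc]
        abel
    rw [mul_assoc, hleft, hpow, hleft, map_mul ρ, map_mul ρ, add_mul, mul_add, mul_assoc, mul_assoc, mul_assoc]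
    abel
  have hsd : s d = v := by
    have := hdl 1
    rwa [mul_one, map_one ρ, mul_one, s1, mul_zero, add_zero] at this
  refine ⟨s, ⟨hmul, LinearMap.ext sι, hsd⟩, fun s' hs' => ?_⟩
  obtain ⟨hm', hι', hd'⟩ := hs'
  have s1' : s' 1 = 0 := by
    have := hm' 1 1
    simp only [mul_one, one_mul, map_one ρ] at this
    exact (left_eq_add).1 this
  refine LinearMap.ext (ind (by simp) (fun a b ha hb => by rw [map_add, map_add, ha, hb]) fun i f => ?_)
  have hp : ∀ j, s' (d ^ j) = s (d ^ j) := by
    intro j
    induction j with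
    | zero => rw [pow_zero, s1', s1]
    | succ j ih => rw [pow_succ', hm', hmul, ih, hd', hsd]
  rw [hm', hmul, hp, sι, show s' (ι f) = r f from LinearMap.congr_fun hι' f]

end Groth.Agent.S19974
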