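import Groth.Statements.S19985
import Groth.Agent.Lib.RelCone8.Fibre

set_option autoImplicit false
set_option backward.isDefEq.respectTransparency false
set_option maxHeartbeats 800000
universe u
open CategoryTheory CategoryTheory.Limits AlgebraicGeometry Opposite TopologicalSpace
open scoped HomogeneousIdeal
noncomputable section
open EGA2

namespace Groth.Agent.S19985

/-- Let 𝒮 be a quasi-coherent positively graded O_Y-algebra with 𝒮_0 = O_Y which is generated by 𝒮_1
(over every affine open U the ring 𝒮(U) is generated by its degree-0 and degree-1 parts), Ŝ = 𝒮[z]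
(graded homomorphism ι : 𝒮 → Ŝ and a degree-one global section z, polynomial over affine opens), C =
Spec(𝒮), X = Proj(𝒮) and Ĉ = Proj(Ŝ) with their charts, E ⊆ C and Ê ⊆ Ĉ the pointed cones, i : C → Ĉ
the canonical open immersion and p : Ê → X the canonical retraction (the morphism which on each
affine piece Spec Ŝ(U)_(ι f), f ∈ 𝒮(U) homogeneous of positive degree, is Spec of 𝒮(U)_(f) → Ŝ(U)_(ι
f) followed by the chart of X). Then p is of finite type (locally of finite type and quasi-compact)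
and for every point x of X the fibre p⁻¹(x) = Ê ×_X Spec k(x) is isomorphic over k(x) to the affine
line Spec k(x)[T]; and for every factorisation i' : E → Ê of i restricted to E, the composite π = p
∘ i' : E → X is of finite type and its fibre at every x is isomorphic over k(x) to Spec k(x)[T,
T⁻¹]. -/
theorem result {Y PC P : Scheme.{u}} (𝒮 𝒮h : RelProj.QCGrAlg Y) (h0 : RelCone.StrZeroBij 𝒮)
    (hgen : 𝒮.IsGenDegOne)
    (ι : 𝒮.toQCAlg ⟶ 𝒮h.toQCAlg) (z : 𝒮h.presheaf.obj (op ⊤)) (hz : RelCone.IsPolyOver 𝒮 𝒮h ι z)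
    (pC : PC ⟶ Y)
    (chartC : ∀ (U : Y.Opens) (hU : IsAffineOpen U), (((pC ⁻¹ᵁ U : PC.Opens) : Scheme.{u}) ≅ Proj (𝒮h.deg U hU)))
    (hPC : RelProj.IsRelProj 𝒮h pC chartC)
    (p : P ⟶ Y)
    (chart : ∀ (U : Y.Opens) (hU : IsAffineOpen U), (((p ⁻¹ᵁ U : P.Opens) : Scheme.{u}) ≅ Proj (𝒮.deg U hU)))
    (hP : RelProj.IsRelProj 𝒮 p chart)
    (i : 𝒮.toQCAlg.spec ⟶ PC) (hi : RelCone.IsConeImm 𝒮 hz pC chartC i)
    (r : ((RelCone.pointedProjCone 𝒮 hz pC chartC : PC.Opens) : Scheme.{u}) ⟶ P)
    (hr : (∀ (U : Y.Opens) (hU : IsAffineOpen U) (d : ℕ) (hd : 0 < d) (f : 𝒮.presheaf.obj (op U)) (hf : f ∈ 𝒮.deg U hU d)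
        (g : Spec (CommRingCat.of (HomogeneousLocalization.Away (𝒮h.deg U hU) ((RelProj.gradedHomAt ι hz.graded U hU) f))) ⟶
          ((RelCone.pointedProjCone 𝒮 hz pC chartC : PC.Opens) : Scheme.{u})),
        g ≫ (RelCone.pointedProjCone 𝒮 hz pC chartC).ι =
            Proj.awayι (𝒮h.deg U hU) ((RelProj.gradedHomAt ι hz.graded U hU) f) ((RelProj.gradedHomAt ι hz.graded U hU).2 hf) hd ≫
              RelProj.emb pC chartC U hU →
          g ≫ r =
            Spec.map (CommRingCat.ofHom (HomogeneousLocalization.Away.map (RelProj.gradedHomAt ι hz.graded U hU) f)) ≫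
              Proj.awayι (𝒮.deg U hU) f hf hd ≫ RelProj.emb p chart U hU)) :
    (LocallyOfFiniteType r ∧ QuasiCompact r ∧
        ∀ x : ↥P, ∃ e : pullback r (P.fromSpecResidueField x) ≅ Spec (CommRingCat.of (Polynomial (P.residueField x))),
          e.hom ≫ Spec.map (CommRingCat.ofHom (algebraMap (P.residueField x) (Polynomial (P.residueField x)))) =
            pullback.snd r (P.fromSpecResidueField x)) ∧
      ∀ i' : ((RelCone.pointedCone 𝒮 : 𝒮.toQCAlg.spec.Opens) : Scheme.{u}) ⟶
          ((RelCone.pointedProjCone 𝒮 hz pC chartC : PC.Opens) : Scheme.{u}),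
        i' ≫ (RelCone.pointedProjCone 𝒮 hz pC chartC).ι = (RelCone.pointedCone 𝒮).ι ≫ i →
          LocallyOfFiniteType (i' ≫ r) ∧ QuasiCompact (i' ≫ r) ∧
        ∀ x : ↥P, ∃ e : pullback (i' ≫ r) (P.fromSpecResidueField x) ≅ Spec (CommRingCat.of (LaurentPolynomial (P.residueField x))),
          e.hom ≫ Spec.map (CommRingCat.ofHom (algebraMap (P.residueField x) (LaurentPolynomial (P.residueField x)))) =
            pullback.snd (i' ≫ r) (P.fromSpecResidueField x) := by
  have h := (GrothLib.RelCone8.isRetr_iff hz hPC r).2 hr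
  constructor
  · haveI := GrothLib.RelCone8.isAffineHom_retr hz hPC hP h
    have hex := fun k : GrothLib.RelCone8.DegOneIdx 𝒮 => GrothLib.RelCone8.polyEquiv_aux (𝒮.deg k.1.1 k.1.2) k.2.2
      (GrothLib.RelCone8.gh hz k.1) (GrothLib.RelCone8.zAt_mem hz k.1) (GrothLib.RelCone8.bij_poly hz k.1)
    choose e he using hex
    exact GrothLib.RelCone8.fibres_of_charts (chart := chart) hgen
      (L := fun k => CommRingCat.of (Polynomial (HomogeneousLocalization.Away (𝒮.deg k.1.1 k.1.2) (k.2 : 𝒮.presheaf.obj (op k.1.1)))))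
      (fun k => CommRingCat.ofHom Polynomial.C) _
      (fun k => GrothLib.Cone8.isPullback_iso
        (a₀ := CommRingCat.ofHom (Polynomial.C : HomogeneousLocalization.Away (𝒮.deg k.1.1 k.1.2) (k.2 : 𝒮.presheaf.obj (op k.1.1)) →+* _))
        (GrothLib.RelCone8.isPullback_chartAt hz hPC hP h (GrothLib.RelCone8.toIdx k)) (e k).toCommRingCatIso
        (CommRingCat.hom_ext (RingHom.ext (he k))))
      (fun k => RingHom.finiteType_algebraMap.2 (inferInstance : Algebra.FiniteType _ (Polynomial _)))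
      (fun R => CommRingCat.of (Polynomial R)) (fun R => CommRingCat.ofHom (algebraMap R (Polynomial R)))
      (fun k x g => ⟨_, GrothLib.Cone8.isPushout_poly g⟩)
  · intro i' hi'
    haveI := GrothLib.RelCone8.isAffineHom_cone_retr hz hPC hi i' hi' hP h
    have hex := fun k : GrothLib.RelCone8.DegOneIdx 𝒮 => GrothLib.RelCone8.laurentEquiv_aux (𝒮.deg k.1.1 k.1.2) k.2.2
    choose e he using hex
    exact GrothLib.RelCone8.fibres_of_charts (chart := chart) hgen
      (L := fun k => CommRingCat.of (LaurentPolynomial (HomogeneousLocalization.Away (𝒮.deg k.1.1 k.1.2) (k.2 : 𝒮.presheaf.obj (op k.1.1)))))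
      (fun k => CommRingCat.ofHom LaurentPolynomial.C) _
      (fun k => GrothLib.Cone8.isPullback_iso
        (a₀ := CommRingCat.ofHom (LaurentPolynomial.C : HomogeneousLocalization.Away (𝒮.deg k.1.1 k.1.2) (k.2 : 𝒮.presheaf.obj (op k.1.1)) →+* _))
        (GrothLib.RelCone8.isPullback_coneChart hz hPC hi i' hi' hP h (GrothLib.RelCone8.toIdx k)) (e k).toCommRingCatIso
        (CommRingCat.hom_ext (RingHom.ext (he k))))
      (fun k => RingHom.finiteType_algebraMap.2 (inferInstance : Algebra.FiniteType _ (LaurentPolynomial _)))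
      (fun R => CommRingCat.of (LaurentPolynomial R)) (fun R => CommRingCat.ofHom (algebraMap R (LaurentPolynomial R)))
      (fun k x g => ⟨_, GrothLib.Cone8.isPushout_laurent g⟩)

end Groth.Agent.S19985
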