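import Groth.Statements.S1999
import Groth.Agent.Lib.InertiaFilt.Basic
import Groth.Agent.Lib.InertiaFilt.Card
-- import your own Groth.Agent.* helpers here

set_option autoImplicit false
universe u
open scoped Pointwise
open EtAlg

namespace Groth.Agent.S1999

/-- Parts (2)–(5) in the case of part (6): let A be a discrete valuation ring with fraction field K, L/K
a finite Galois extension with group G, B the integral closure of A in L, m a maximal ideal of B
whose residue field is separable over that of A, and e the ramification index of m over A. Let D be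
the decomposition group (stabilizer of m), I the inertia group (elements acting trivially on B/m)
and P the wild inertia group, here the elements of D acting trivially on B/m² (the description valid
in the separable residue field case). Then P ≤ I, P is normal in D, P is a p-group if the residue
characteristic is p > 0 and trivial if it is 0, and I/P is cyclic of order the prime-to-p part of e
and isomorphic to a subgroup of the e-th roots of unity of B/m — more precisely to the full group of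
e-th roots of unity of B/m. -/
theorem result (A K L B : Type u) [CommRing A] [IsDomain A] [IsDiscreteValuationRing A]
    [CommRing B] [IsDomain B] [Field K] [Field L] [Algebra A K] [Algebra B L] [IsFractionRing A K] [IsFractionRing B L]
    [Algebra A B] [Algebra K L] [Algebra A L] [IsScalarTower A K L] [IsScalarTower A B L] [IsIntegralClosure B A L]
    [FiniteDimensional K L] [IsGalois K L] (m : Ideal B) [m.IsMaximal]
    [Algebra.IsSeparable (A ⧸ m.comap (algebraMap A B)) (B ⧸ m)] :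
    letI := IsIntegralClosure.MulSemiringAction A K L B
    let D : Subgroup (L ≃ₐ[K] L) := MulAction.stabilizer (L ≃ₐ[K] L) m
    let I : Subgroup (L ≃ₐ[K] L) := m.inertia (L ≃ₐ[K] L)
    let P : Subgroup (L ≃ₐ[K] L) := D ⊓ (m ^ 2).inertia (L ≃ₐ[K] L)
    let e : ℕ := Ideal.ramificationIdx' (IsLocalRing.maximalIdeal A) m
    P ≤ I ∧ I ≤ D ∧ (P.subgroupOf D).Normal ∧
    (∀ p : ℕ, p.Prime → CharP (A ⧸ m.comap (algebraMap A B)) p → IsPGroup p P) ∧
    (CharZero (A ⧸ m.comap (algebraMap A B)) → P = ⊥) ∧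
    (∀ [(P.subgroupOf I).Normal],
      IsCyclic (I ⧸ P.subgroupOf I) ∧
      (∀ p : ℕ, p.Prime → CharP (A ⧸ m.comap (algebraMap A B)) p → Nat.card (I ⧸ P.subgroupOf I) = e / p ^ e.factorization p) ∧
      (CharZero (A ⧸ m.comap (algebraMap A B)) → Nat.card (I ⧸ P.subgroupOf I) = e) ∧
      Nonempty (I ⧸ P.subgroupOf I ≃* ↥(rootsOfUnity e (B ⧸ m)))) := by
  classical
  letI := IsIntegralClosure.MulSemiringAction A K L B
  intro D I P e
  haveI : Algebra.IsIntegral A B := IsIntegralClosure.isIntegral_algebra A L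
  haveI : IsGaloisGroup (L ≃ₐ[K] L) A B := IsGaloisGroup.of_isFractionRing _ _ _ K L
  haveI : IsDedekindDomain B := IsIntegralClosure.isDedekindDomain A K L B
  haveI : Module.Finite A B := IsIntegralClosure.finite A K L B
  haveI hinj : FaithfulSMul A B := by
    rw [faithfulSMul_iff_algebraMap_injective]
    refine Function.Injective.of_comp (f := algebraMap B L) ?_
    rw [← RingHom.coe_comp, ← IsScalarTower.algebraMap_eq, IsScalarTower.algebraMap_eq A K L]
    exact (algebraMap K L).injective.comp (IsFractionRing.injective A K)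
  haveI : Module.IsTorsionFree A B := Module.isTorsionFree_iff_algebraMap_injective.mpr
    (FaithfulSMul.algebraMap_injective A B)
  let q : Ideal A := m.comap (algebraMap A B)
  haveI hqm : q.IsMaximal := Ideal.isMaximal_comap_of_isIntegral_of_isMaximal m
  have hq : q = IsLocalRing.maximalIdeal A := IsLocalRing.eq_maximalIdeal hqm
  haveI : m.LiesOver q := ⟨rfl⟩
  letI : Algebra (A ⧸ q) (B ⧸ m) := Ideal.Quotient.algebraOfLiesOver m q
  letI := Ideal.Quotient.field q
  letI := Ideal.Quotient.field m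
  haveI : Algebra.IsSeparable (A ⧸ q) (B ⧸ m) := ‹_›
  have hq0 : q ≠ ⊥ := hq ▸ IsDiscreteValuationRing.not_a_field A
  have hm0 : m ≠ ⊥ := Ideal.ne_bot_of_liesOver_of_ne_bot hq0 m
  -- the ramification index is the order of inertia
  have he : e = Nat.card I := by
    show Ideal.ramificationIdx' (IsLocalRing.maximalIdeal A) m = _
    rw [← hq, Ideal.ramificationIdx'_eq_ramificationIdx q m hq0,
      GrothLib.InertiaFilt.card_inertia_eq q m, Ideal.ramificationIdxIn_eq_ramificationIdx q m (L ≃ₐ[K] L)]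
  haveI : Algebra.FormallyUnramified A (B ⧸ m) := by
    haveI : Algebra.FormallyUnramified (A ⧸ q) (B ⧸ m) := Algebra.FormallyUnramified.of_isSeparable _ _
    haveI : Algebra.FormallyUnramified A (A ⧸ q) :=
      Algebra.FormallyUnramified.of_surjective (Algebra.ofId A (A ⧸ q)) Ideal.Quotient.mk_surjective
    exact Algebra.FormallyUnramified.comp A (A ⧸ q) (B ⧸ m)
  have hPI : P ≤ I := fun σ hσ x => Ideal.pow_le_self two_ne_zero (hσ.2 x)
  have hID : I ≤ D := Ideal.inertia_le_stabilizer m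
  obtain ⟨π, hπ, hπ2⟩ := Ideal.exists_mem_pow_notMem_pow_succ m hm0 (Ideal.IsPrime.ne_top inferInstance) 1
  rw [pow_one] at hπ
  have hgen : m ≤ Ideal.span {π} ⊔ m ^ 2 := by
    have hlt : m ^ (1 + 1) < Ideal.span {π} ⊔ m ^ (1 + 1) := lt_of_le_of_ne le_sup_right fun h =>
      hπ2 (h ▸ Ideal.mem_sup_left (Ideal.mem_span_singleton_self π))
    have := Ideal.eq_prime_pow_of_succ_lt_of_le hm0 hlt
      (by rw [pow_one]; exact sup_le ((Ideal.span_singleton_le_iff_mem _).mpr hπ) (Ideal.pow_le_self two_ne_zero))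
    rw [pow_one] at this
    exact this.ge
  have hstab2 : ∀ g ∈ D, ∀ y ∈ m ^ 2, g • y ∈ m ^ 2 := by
    intro g hg y hy
    have hgm : ∀ z ∈ m, g • z ∈ m := fun z hz => by
      have h := (Ideal.smul_mem_pointwise_smul_iff (a := g) (S := m) (x := z)).mpr hz
      rwa [show g • m = m from hg] at h
    rw [pow_two] at hy ⊢
    induction hy using Submodule.mul_induction_on' with
    | mem_mul_mem a ha b hb => rw [smul_mul']; exact Ideal.mul_mem_mul (hgm a ha) (hgm b hb)
    | add a _ b _ iha ihb => rw [smul_add]; exact Ideal.add_mem _ iha ihb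
  have hnormal : (P.subgroupOf D).Normal := by
    refine ⟨fun s hs g => ?_⟩
    refine ⟨(g * s * g⁻¹).2, fun x => ?_⟩
    have h1 := hstab2 g.1 g.2 _ (hs.2 (g.1⁻¹ • x))
    rw [smul_sub, smul_inv_smul, smul_smul, smul_smul] at h1
    exact h1
  have hcast : ∀ l : ℕ, (l : B) ∈ m ↔ (l : A ⧸ q) = 0 := fun l => by
    rw [← map_natCast (Ideal.Quotient.mk q), Ideal.Quotient.eq_zero_iff_mem, Ideal.mem_comap, map_natCast]
  -- elements of `P` of prime order invertible in the residue field are trivial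
  have hkey : ∀ (l : ℕ) (σ : L ≃ₐ[K] L), σ ∈ P → σ ^ l = 1 → (l : A ⧸ q) ≠ 0 → σ = 1 := by
    intro l σ hσ hl hl0
    have hfix := GrothLib.InertiaFilt.smul_eq_self_of_pow_eq_one (m := m) (mt (hcast l).mp hl0) hl hσ.2
    refine AlgEquiv.ext fun y => ?_
    obtain ⟨b, s, hs, rfl⟩ := IsFractionRing.div_surjective B y
    have hb : ∀ b : B, σ (algebraMap B L b) = algebraMap B L b := fun b =>
      (algebraMap_galRestrict_apply A σ b).symm.trans (congrArg (algebraMap B L) (hfix b))
    rw [map_div₀, hb, hb, AlgEquiv.one_apply]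
  have hpgroup : ∀ p : ℕ, p.Prime → CharP (A ⧸ q) p → IsPGroup p P := by
    intro p hp hchar g
    refine ⟨_, (orderOf_dvd_iff_pow_eq_one).mp (dvd_of_eq (Nat.eq_prime_pow_of_unique_prime_dvd
      (orderOf_pos g).ne' fun {l} hl hdvd => ?_))⟩
    by_contra hne
    obtain ⟨c, hc⟩ := hdvd
    have h1 : ((g ^ c) : P) ^ l = 1 := by rw [← pow_mul, mul_comm c l, ← hc, pow_orderOf_eq_one]
    have h2 := hkey l ((g ^ c : P) : L ≃ₐ[K] L) (g ^ c : P).2
      (by rw [← Subgroup.coe_pow, h1, Subgroup.coe_one])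
      (fun h => hne ((Nat.prime_dvd_prime_iff_eq hp hl).mp ((CharP.cast_eq_zero_iff (A ⧸ q) p l).mp h)).symm)
    have h3 : orderOf g ∣ c := orderOf_dvd_iff_pow_eq_one.mpr (Subtype.ext h2)
    have hc0 : 0 < c := by
      have := orderOf_pos g
      rw [hc] at this
      exact Nat.pos_of_mul_pos_left this
    have := Nat.le_of_dvd hc0 h3
    have := Nat.lt_mul_iff_one_lt_left hc0 |>.mpr hl.one_lt
    omega
  have hbot : CharZero (A ⧸ q) → P = ⊥ := by
    intro h0
    refine (Subgroup.eq_bot_iff_forall _).mpr fun σ hσ => ?_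
    exact hkey (orderOf σ) σ hσ (pow_orderOf_eq_one σ) (Nat.cast_ne_zero.mpr (orderOf_pos σ).ne')
  refine ⟨hPI, hID, hnormal, hpgroup, hbot, fun {hN} => ?_⟩
  -- the tame character
  let πm : m := ⟨π, hπ⟩
  have hπ0 : m.toCotangent πm ≠ 0 := fun h => hπ2 ((Ideal.toCotangent_eq_zero _ _).mp h)
  have hmk : ∀ (c : B) (z : m.Cotangent), Ideal.Quotient.mk m c • z = c • z := fun c z => by
    rw [← Ideal.Quotient.algebraMap_eq, algebraMap_smul]
  have hsurj : ∀ z : m.Cotangent, ∃ c : B ⧸ m, c • m.toCotangent πm = z := by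
    intro z
    obtain ⟨⟨z, hz⟩, rfl⟩ := m.toCotangent_surjective z
    obtain ⟨a, ha, b, hb, hab⟩ := Submodule.mem_sup.mp (hgen hz)
    obtain ⟨c, rfl⟩ := Ideal.mem_span_singleton'.mp ha
    refine ⟨Ideal.Quotient.mk m c, ?_⟩
    rw [hmk, ← map_smul, Ideal.toCotangent_eq]
    have : b = z - c * π := eq_sub_of_add_eq' hab
    show c * π - z ∈ m ^ 2
    rw [← neg_sub, neg_mem_iff, ← this]
    exact hb
  have hcancel : ∀ c d : B ⧸ m, c • m.toCotangent πm = d • m.toCotangent πm → c = d := fun c d h => by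
    by_contra hne
    exact hπ0 ((smul_eq_zero.mp (show (c - d) • m.toCotangent πm = 0 by rw [sub_smul, h, sub_self])).resolve_left
      (sub_ne_zero.mpr hne))
  have hσm : ∀ (σ : I) (y : B), y ∈ m → (σ : L ≃ₐ[K] L) • y ∈ m := fun σ y hy => by
    simpa using m.add_mem (σ.2 y) hy
  choose θ hθ using fun σ : I => hsurj (m.toCotangent ⟨(σ : L ≃ₐ[K] L) • π, hσm σ π hπ⟩)
  have hθ1 : ∀ σ : I, θ σ = 1 ↔ (σ : L ≃ₐ[K] L) • π - π ∈ m ^ 2 := fun σ => by
    rw [show ((σ : L ≃ₐ[K] L) • π - π ∈ m ^ 2) ↔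
      m.toCotangent ⟨(σ : L ≃ₐ[K] L) • π, hσm σ π hπ⟩ = m.toCotangent πm from (m.toCotangent_eq (x := ⟨(σ : L ≃ₐ[K] L) • π, hσm σ π hπ⟩) (y := πm)).symm,
      ← hθ σ]
    exact ⟨fun h => by rw [h, one_smul], fun h => hcancel _ _ (h.trans (one_smul _ _).symm)⟩
  have hθmul : ∀ σ τ : I, θ (σ * τ) = θ σ * θ τ := by
    intro σ τ
    obtain ⟨b, hb⟩ := Ideal.Quotient.mk_surjective (θ τ)
    refine hcancel _ _ ?_
    rw [hθ, mul_comm, mul_smul, hθ, ← hb, hmk, ← map_smul, Ideal.toCotangent_eq]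
    have h1 : b * π - (τ : L ≃ₐ[K] L) • π ∈ m ^ 2 := by
      have := hθ τ
      rw [← hb, hmk, ← map_smul, Ideal.toCotangent_eq] at this
      exact this
    have h2 := hstab2 σ.1 (hID σ.2) _ h1
    show ((σ * τ : I) : L ≃ₐ[K] L) • π - b * ((σ : L ≃ₐ[K] L) • π) ∈ m ^ 2
    rw [Subgroup.coe_mul, mul_smul,
      show (σ : L ≃ₐ[K] L) • (τ : L ≃ₐ[K] L) • π - b * ((σ : L ≃ₐ[K] L) • π) =
        ((σ : L ≃ₐ[K] L) • b - b) * ((σ : L ≃ₐ[K] L) • π) -
          (σ : L ≃ₐ[K] L) • (b * π - (τ : L ≃ₐ[K] L) • π) by rw [smul_sub, smul_mul']; ring]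
    refine Ideal.sub_mem _ ?_ h2
    rw [pow_two]
    exact Ideal.mul_mem_mul (σ.2 b) (hσm σ π hπ)
  let θh : I →* (B ⧸ m) :=
    { toFun := θ
      map_one' := (hθ1 1).mpr (by simp)
      map_mul' := hθmul }
  let Θ : I →* (B ⧸ m)ˣ := θh.toHomUnits
  have hker : Θ.ker = P.subgroupOf I := by
    ext σ
    rw [MonoidHom.mem_ker, Units.ext_iff, Subgroup.mem_subgroupOf]
    show θ σ = 1 ↔ _
    rw [hθ1]
    refine ⟨fun h => ⟨hID σ.2, fun x => ?_⟩, fun h => h.2 π⟩
    exact GrothLib.InertiaFilt.smul_sub_mem_sq_of_fix_generator (A := A) σ.2 hπ hgen h x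
  let ψ : I ⧸ P.subgroupOf I →* (B ⧸ m)ˣ := QuotientGroup.lift _ Θ hker.ge
  have hψ : Function.Injective ψ := by
    rw [← MonoidHom.ker_eq_bot_iff, QuotientGroup.ker_lift, hker, QuotientGroup.map_mk'_self]
  have hcyc : IsCyclic (I ⧸ P.subgroupOf I) :=
    isCyclic_of_injective_ringHom ((Units.coeHom (B ⧸ m)).comp ψ) (Units.val_injective.comp hψ)
  let n := Nat.card (I ⧸ P.subgroupOf I)
  have hprod : e = n * Nat.card P := by
    rw [he, Subgroup.card_eq_card_quotient_mul_card_subgroup (P.subgroupOf I),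
      Nat.card_congr (Subgroup.subgroupOfEquivOfLe hPI).toEquiv]
  have hn0 : n ≠ 0 := Nat.card_pos.ne'
  have hcop : ∀ p : ℕ, p.Prime → CharP (A ⧸ q) p → ¬ p ∣ n := by
    intro p hp hchar hdvd
    haveI := Fact.mk hp
    haveI : CharP (B ⧸ m) p := charP_of_injective_algebraMap (algebraMap (A ⧸ q) (B ⧸ m)).injective p
    obtain ⟨g, hg⟩ := exists_prime_orderOf_dvd_card' p hdvd
    have hg1 : g ≠ 1 := fun h => hp.one_lt.ne (by rw [← hg, h, orderOf_one])
    refine hg1 (hψ (Units.ext ?_))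
    have h1 : ((ψ g : (B ⧸ m)ˣ) : B ⧸ m) ^ p = 1 := by
      rw [← Units.val_pow_eq_pow_val, ← map_pow, ← hg, pow_orderOf_eq_one, map_one, Units.val_one]
    rw [map_one, Units.val_one]
    exact sub_eq_zero.mp (eq_zero_of_pow_eq_zero (n := p) (by rw [sub_pow_char, h1, one_pow, sub_self]))
  have hcharcase : ∀ p : ℕ, p.Prime → CharP (A ⧸ q) p → n = e / p ^ e.factorization p := by
    intro p hp hchar
    haveI := Fact.mk hp
    obtain ⟨a, ha⟩ := IsPGroup.iff_card.mp (hpgroup p hp hchar)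
    rw [hprod, ha, Nat.factorization_mul hn0 (pow_ne_zero _ hp.ne_zero), Finsupp.add_apply,
      Nat.factorization_eq_zero_of_not_dvd (hcop p hp hchar), zero_add, hp.factorization_pow,
      Finsupp.single_eq_same, Nat.mul_div_cancel _ (pow_pos hp.pos _)]
  have hzerocase : CharZero (A ⧸ q) → n = e := fun h0 => by
    rw [hprod, hbot h0, Subgroup.card_bot, mul_one]
  refine ⟨hcyc, fun p hp hchar => hcharcase p hp hchar, hzerocase, ?_⟩
  haveI : NeZero n := ⟨hn0⟩
  haveI : NeZero e := ⟨by rw [he]; exact Nat.card_pos.ne'⟩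
  have hμ : rootsOfUnity e (B ⧸ m) ≤ rootsOfUnity n (B ⧸ m) := by
    intro u hu
    rw [mem_rootsOfUnity] at hu ⊢
    obtain ⟨p, hp⟩ := CharP.exists (A ⧸ q)
    rcases CharP.char_is_prime_or_zero (A ⧸ q) p with hpp | hp0
    · haveI := Fact.mk hpp
      haveI : CharP (B ⧸ m) p := charP_of_injective_algebraMap (algebraMap (A ⧸ q) (B ⧸ m)).injective p
      obtain ⟨a, ha⟩ := IsPGroup.iff_card.mp (hpgroup p hpp hp)
      refine Units.ext (sub_eq_zero.mp (eq_zero_of_pow_eq_zero (n := p ^ a) ?_))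
      rw [sub_pow_char_pow, Units.val_pow_eq_pow_val, ← pow_mul, ← ha, ← hprod,
        ← Units.val_pow_eq_pow_val, hu, Units.val_one, one_pow, sub_self]
    · haveI : CharP (A ⧸ q) 0 := hp0 ▸ hp
      rw [hzerocase (CharP.charP_to_charZero _)]
      exact hu
  let ψ' : I ⧸ P.subgroupOf I →* rootsOfUnity e (B ⧸ m) := ψ.codRestrict _ fun g => by
    rw [mem_rootsOfUnity, ← map_pow, hprod, pow_mul, pow_card_eq_one', one_pow, map_one]
  have hψ' : Function.Injective ψ' := fun a b h => hψ (congrArg Subtype.val h)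
  refine ⟨MulEquiv.ofBijective ψ' ((Nat.bijective_iff_injective_and_card _).mpr
    ⟨hψ', le_antisymm (Nat.card_le_card_of_injective _ hψ') ?_⟩)⟩
  exact (Nat.card_le_card_of_injective _ (Subgroup.inclusion_injective hμ)).trans (card_rootsOfUnity _ _)

end Groth.Agent.S1999
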