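import Groth.Statements.S19994
import Groth.Agent.Lib.WildQuot.LiftAut
import Groth.Agent.Lib.Serre.Regular
import Mathlib.RingTheory.Smooth.Flat
import Mathlib.RingTheory.Etale.Locus
-- import your own Groth.Agent.* helpers here

set_option autoImplicit false
universe u v w
open WildQuot

namespace Groth.Agent.S19994

/-- Let `A` be a complete regular local ring of Krull dimension at least `2` and prime characteristic
`p`, with maximal ideal `m`; let `k` be a field with a ring map `k → A` whose composite with `A →
A/m` is onto; let `G` be a group of order `p` acting on `A` by ring automorphisms fixing the image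
of `k` and ramified precisely at the origin (for every prime `P ≠ m`, the inertia subgroup of `P`,
i.e. the elements of `G` fixing every element modulo `P`, is trivial). Then the singular locus of
`Spec A^G` is contained in the closed point: for every non-maximal prime ideal `P` of the invariant
ring `A^G`, the localization `(A^G)_P` is a regular local ring. (The published statement also
asserts that the punctured spectrum of `A` is a `G`-torsor over the punctured spectrum of `A^G`;
this row omits that clause. Together with the non-regularity of `A^G` itself, the singular locus is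
exactly the closed point.) -/
theorem result
    (p : ℕ) [Fact p.Prime] (A : Type u) [CommRing A] [IsRegularLocalRing A] [CharP A p]
    [IsAdicComplete (IsLocalRing.maximalIdeal A) A] (hdim : 2 ≤ ringKrullDim A)
    (k : Type v) [Field k] [Algebra k A]
    (hk : Function.Surjective (IsLocalRing.residue A ∘ algebraMap k A))
    (G : Type w) [Group G] [Finite G] [MulSemiringAction G A] (hcard : Nat.card G = p)
    (hGk : ∀ (σ : G) (c : k), σ • algebraMap k A c = algebraMap k A c)
    (hram : ∀ P : Ideal A, P.IsPrime → P ≠ IsLocalRing.maximalIdeal A → P.inertia G = ⊥)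
    (P : Ideal (FixedPoints.subring A G)) [P.IsPrime] (hP : ¬ P.IsMaximal) :
    IsRegularLocalRing (Localization.AtPrime P) := by
  classical
  haveI := GrothLib.CMFree.isDomain_of_isRegularLocalRing A
  have hp := (Fact.out : p.Prime)
  have hbot : (⊥ : Ideal A) ≠ IsLocalRing.maximalIdeal A := fun h => by
    rw [← IsLocalRing.maximalIdeal_height_eq_ringKrullDim, ← h, Ideal.height_bot] at hdim
    exact absurd (WithBot.coe_le_coe.mp hdim) (by simp)
  let ρ := MulSemiringAction.toRingAut G A
  have hρ : Function.Injective ρ := by
    rw [injective_iff_map_eq_one]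
    intro g hg
    exact (Subgroup.eq_bot_iff_forall _).mp (hram ⊥ Ideal.isPrime_bot hbot) g fun a => by
      show g • a - a ∈ (⊥ : Ideal A)
      rw [Ideal.mem_bot, sub_eq_zero]
      exact RingEquiv.congr_fun hg a
  let e := MonoidHom.ofInjective hρ
  haveI : Finite ρ.range := Finite.of_equiv G e.toEquiv
  haveI := Fintype.ofFinite ρ.range
  have hcard' : Fintype.card ρ.range = p := by
    rw [← Nat.card_eq_fintype_card, ← hcard]
    exact (Nat.card_congr e.toEquiv).symm
  obtain ⟨f, hf, hfσ⟩ := GrothLib.WildQuot.exists_coeff_field hk hGk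
  letI : Algebra (IsLocalRing.ResidueField A) A := f.toAlgebra
  have hfσ' : ∀ (σ : ρ.range) (c : IsLocalRing.ResidueField A),
      σ • algebraMap (IsLocalRing.ResidueField A) A c = algebraMap (IsLocalRing.ResidueField A) A c := by
    intro σ c
    obtain ⟨g, rfl⟩ := e.surjective σ
    exact hfσ g c
  obtain ⟨hnoe', hfin', -, -⟩ := GrothLib.WildQuot.fixed_facts hf hcard' hfσ'
  let B := FixedPoints.subring A G
  have heq : FixedPoints.subring A ρ.range = B := by
    ext a
    exact ⟨fun h g => h (e g), fun h s => by obtain ⟨g, rfl⟩ := e.surjective s; exact h g⟩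
  haveI : IsNoetherianRing B := heq ▸ hnoe'
  haveI : Module.Finite B A := by
    have h : ∀ (S T : Subring A), S = T → Module.Finite S A → Module.Finite T A := by
      rintro S T rfl h
      exact h
    exact h _ _ heq hfin'
  haveI := Fintype.ofFinite G
  haveI : IsLocalRing B := GrothLib.WildQuot.isLocalRing_fixed
  haveI : Algebra.IsInvariant B A ρ.range := ⟨fun a ha => ⟨⟨a, fun g => ha (e g)⟩, rfl⟩⟩
  haveI : SMulCommClass ρ.range B A := ⟨fun s b a => by
    obtain ⟨g, rfl⟩ := e.surjective s
    show g • ((b : A) * a) = (b : A) * g • a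
    rw [smul_mul', b.2 g]⟩
  haveI : FaithfulSMul B A := (faithfulSMul_iff_algebraMap_injective B A).mpr Subtype.val_injective
  haveI : Algebra.IsIntegral B A := Algebra.IsIntegral.of_finite B A
  obtain ⟨Q, hQ, hQp⟩ : ∃ Q : Ideal A, Q.IsPrime ∧ Q.under B = P := by
    obtain ⟨Q, -, h1, h2⟩ := Ideal.exists_ideal_over_prime_of_isIntegral (S := A) P ⊥ (by
      rw [Ideal.comap_bot_of_injective _ (FaithfulSMul.algebraMap_injective B A)]; exact bot_le)
    exact ⟨Q, h1, h2⟩
  haveI := hQ
  haveI : Q.LiesOver P := ⟨hQp.symm⟩
  have hmax : ∀ q' : Ideal A, q'.IsPrime → q'.under B = Q.under B → q' ≠ IsLocalRing.maximalIdeal A := by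
    intro q' hq' heq' hm
    subst hm
    refine hP ?_
    rw [← hQp, ← heq']
    exact Ideal.IsMaximal.under B (IsLocalRing.maximalIdeal A)
  haveI : Algebra.IsEtaleAt B Q :=
    GrothLib.Purity.isEtaleAt_of_inertia (G := ρ.range) Q fun q' hq' heq' s hs => by
      by_contra! hall
      obtain ⟨g, rfl⟩ := e.surjective s
      refine hs ?_
      rw [(Subgroup.eq_bot_iff_forall _).mp (hram q' hq' (hmax q' hq' heq')) g (fun a => hall a), map_one]
  haveI : Algebra.FinitePresentation B A := Algebra.FinitePresentation.of_finiteType.mp inferInstance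
  obtain ⟨x, hxQ, hxet⟩ := Algebra.exists_etale_of_isEtaleAt (R := B) Q
  let AQ := Localization.AtPrime Q
  let Ax := Localization.Away x
  have hle : Submonoid.powers x ≤ Q.primeCompl := Submonoid.powers_le.mpr hxQ
  letI : Algebra Ax AQ := IsLocalization.localizationAlgebraOfSubmonoidLe Ax AQ _ _ hle
  haveI : IsScalarTower A Ax AQ :=
    IsLocalization.localization_isScalarTower_of_submonoid_le Ax AQ _ _ hle
  haveI := IsLocalization.isLocalization_of_submonoid_le Ax AQ _ _ hle
  haveI : Module.Flat Ax AQ := IsLocalization.flat AQ (Q.primeCompl.map (algebraMap A Ax))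
  haveI : IsScalarTower B Ax AQ := IsScalarTower.of_algebraMap_eq fun b => by
    rw [IsScalarTower.algebraMap_apply B A Ax, ← IsScalarTower.algebraMap_apply A Ax AQ,
      ← IsScalarTower.algebraMap_apply B A AQ]
  haveI : Module.Flat B AQ := Module.Flat.trans B Ax AQ
  haveI : IsRegularLocalRing AQ := GrothLib.Serre.isRegularLocalRing_localization A Q AQ
  let BP := Localization.AtPrime P
  letI : Algebra BP AQ := Localization.AtPrime.algebraOfLiesOver P Q
  haveI : IsScalarTower B BP AQ := IsScalarTower.of_algebraMap_eq fun b => by
    rw [RingHom.algebraMap_toAlgebra]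
    exact ((Localization.localRingHom_to_map P Q (algebraMap B A) hQp.symm b).trans
      (IsScalarTower.algebraMap_apply B A AQ b).symm).symm
  haveI : IsLocalHom (algebraMap BP AQ) := by
    rw [RingHom.algebraMap_toAlgebra]
    exact Localization.isLocalHom_localRingHom P Q (algebraMap B A) hQp.symm
  haveI : Module.Flat BP AQ := (Module.flat_iff_of_isLocalization BP P.primeCompl AQ).mpr inferInstance
  haveI : IsNoetherianRing BP := IsLocalization.isNoetherianRing P.primeCompl BP inferInstance
  exact GrothLib.Serre.isRegularLocalRing_of_flat BP AQ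

end Groth.Agent.S19994
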