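import Groth.Statements.S19996
import Mathlib.RingTheory.PowerSeries.Inverse
import Mathlib.RingTheory.PowerSeries.Order
import Mathlib.Algebra.CharP.Algebra
import Mathlib.Algebra.CharP.Lemmas
import Mathlib.RingTheory.PowerSeries.Trunc
-- import your own Groth.Agent.* helpers here

set_option autoImplicit false
universe u
open WildQuot

namespace Groth.Agent.S19996

/-- Let `k` be a field of characteristic `p > 0`, `A = k[[u]]`, and `σ` a `k`-algebra automorphism of
`A` of order exactly `p` with ramification break `m`, i.e. `σ u - u` has order `m + 1`. Then `p`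
divides `m + 1` if and only if there are a uniformizer `s` of `A` (a power series of order `1`) and
a `σ`-invariant power series `a` with `σ s = s + a`. (The published statement has a third equivalent
condition, that `Spec A` is a torsor under the effective model of the action; this row omits it.) -/
theorem result
    (p : ℕ) [Fact p.Prime] (k : Type u) [Field k] [CharP k p]
    (σ : PowerSeries k ≃ₐ[k] PowerSeries k) (hσp : σ ^ p = 1) (hσ1 : σ ≠ 1)
    (m : ℕ) (hm : (σ PowerSeries.X - PowerSeries.X).order = ((m + 1 : ℕ) : ℕ∞)) :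
    p ∣ m + 1 ↔
      ∃ s a : PowerSeries k, s.order = 1 ∧ σ a = a ∧ σ s = s + a := by
  classical
  have hp : p.Prime := Fact.out
  let X : PowerSeries k := PowerSeries.X
  have hX0 : X ≠ 0 := PowerSeries.X_ne_zero
  obtain ⟨η, hη, hδ⟩ : ∃ η, PowerSeries.constantCoeff η ≠ 0 ∧ σ X - X = X ^ (m + 1) * η := by
    have hdvd : X ^ (m + 1) ∣ σ X - X := PowerSeries.X_pow_dvd_iff.2 fun i hi =>
      PowerSeries.coeff_of_lt_order i (by rw [hm]; exact_mod_cast hi)
    obtain ⟨η, hη⟩ := hdvd
    refine ⟨η, fun h0 => ?_, hη⟩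
    have h1 : PowerSeries.coeff (m + 1) (σ X - X) ≠ 0 := by
      have := PowerSeries.coeff_order (φ := σ X - X) (fun e => by rw [e, PowerSeries.order_zero] at hm; exact ENat.top_ne_natCast _ hm)
      rwa [hm, ENat.toNat_coe] at this
    apply h1
    rw [hη]
    show PowerSeries.coeff (m + 1) (PowerSeries.X ^ (m + 1) * η) = 0
    rw [PowerSeries.coeff_X_pow_mul', if_pos le_rfl, Nat.sub_self]
    simpa using h0
  -- decomposition by the order
  have hdec : ∀ w : PowerSeries k, w ≠ 0 → ∃ (j : ℕ) (e : PowerSeries k), PowerSeries.constantCoeff e ≠ 0 ∧ w = X ^ j * e := by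
    intro w hw
    have hne : w.order ≠ ⊤ := fun e => hw (PowerSeries.order_eq_top.1 e)
    obtain ⟨e, he⟩ := PowerSeries.X_pow_order_dvd (φ := w)
    refine ⟨_, e, fun h0 => ?_, he⟩
    refine PowerSeries.coeff_order hw ?_
    conv_lhs => arg 2; rw [he]
    simpa [PowerSeries.coeff_X_pow_mul'] using h0
  -- `σ` is trivial modulo `X ^ (m + 1)`
  have hσX : X ∣ σ X := by
    have : σ X = X + X ^ (m + 1) * η := by rw [← hδ]; ring
    rw [this, pow_succ]
    exact dvd_add dvd_rfl ⟨X ^ m * η, by ring⟩
  have hθ : ∀ w, X ^ (m + 1) ∣ σ w - w := by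
    intro w
    obtain ⟨P, r, hw⟩ : ∃ (P : Polynomial k) (r : PowerSeries k), w = (P : PowerSeries k) + X ^ (m + 1) * r := by
      obtain ⟨r, hr⟩ : X ^ (m + 1) ∣ w - (PowerSeries.trunc (m + 1) w : PowerSeries k) := by
        rw [PowerSeries.X_pow_dvd_iff]
        intro i hi
        rw [map_sub, Polynomial.coeff_coe, PowerSeries.coeff_trunc, if_pos hi, sub_self]
      exact ⟨_, r, by rw [← hr]; ring⟩
    have hP : ∀ P : Polynomial k, X ^ (m + 1) ∣ σ (P : PowerSeries k) - (P : PowerSeries k) := by
      intro P
      clear hw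
      induction P using Polynomial.induction_on' with
      | add a b ha hb =>
        rw [Polynomial.coe_add, map_add]
        simpa [add_sub_add_comm] using dvd_add ha hb
      | monomial i c =>
        have hc : σ (PowerSeries.C c) = PowerSeries.C c := σ.commutes c
        rw [Polynomial.coe_monomial, PowerSeries.monomial_eq_C_mul_X_pow, map_mul, hc, map_pow, ← mul_sub]
        exact dvd_mul_of_dvd_right (dvd_trans ⟨η, hδ⟩ (sub_dvd_pow_sub_pow _ _ i)) _
    rw [hw, map_add, map_mul, map_pow, add_sub_add_comm]
    exact dvd_add (hP P) (dvd_sub (dvd_mul_of_dvd_left (pow_dvd_pow_of_dvd hσX _) _) (dvd_mul_right _ _))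
  have hσpow : ∀ n : ℕ, ∀ w, (σ ^ n) w = σ^[n] w := fun n w => by rw [AlgEquiv.coe_pow]
  have hc1 : ∀ w, PowerSeries.constantCoeff (σ w) = PowerSeries.constantCoeff w := fun w => by
    obtain ⟨r, hr⟩ := hθ w
    have := congrArg PowerSeries.constantCoeff hr
    rw [map_sub, map_mul, map_pow] at this
    simpa [X, sub_eq_zero] using this
  -- the break is positive
  have hm0 : m ≠ 0 := by
    rintro rfl
    set c := PowerSeries.constantCoeff η
    have hit : ∀ n : ℕ, ∃ r, PowerSeries.constantCoeff r = (1 + c) ^ n ∧ σ^[n] X = X * r := by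
      intro n
      induction n with
      | zero => exact ⟨1, by simp, by simp⟩
      | succ n ih =>
        obtain ⟨r, hr, hn⟩ := ih
        refine ⟨(1 + η) * σ r, by rw [map_mul, map_add, map_one, hc1, hr, pow_succ'], ?_⟩
        rw [Function.iterate_succ_apply', hn, map_mul, show σ X = X * (1 + η) by rw [mul_add, mul_one, ← pow_one X, ← hδ]; ring]
        ring
    obtain ⟨r, hr, hn⟩ := hit p
    rw [← hσpow, hσp, AlgEquiv.one_apply] at hn
    have hr1 : r = 1 := mul_left_cancel₀ hX0 (by rw [← hn, mul_one])
    rw [hr1, map_one] at hr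
    haveI : ExpChar k p := ExpChar.prime hp
    rw [add_pow_char, one_pow, left_eq_add] at hr
    exact hη (pow_eq_zero_iff hp.ne_zero |>.1 hr)
  -- effect on elements of order prime to `p`
  have hlead : ∀ (j : ℕ) (e : PowerSeries k), PowerSeries.constantCoeff e ≠ 0 → ¬ p ∣ j →
      ∃ f, PowerSeries.constantCoeff f ≠ 0 ∧ σ (X ^ j * e) - X ^ j * e = X ^ (j + m) * f := by
    intro j e he hj
    obtain ⟨t, ht⟩ := hθ e
    obtain ⟨i, rfl⟩ : ∃ i, j = i + 1 := ⟨j - 1, (Nat.succ_pred (fun h => hj (by rw [h]; exact dvd_zero p))).symm⟩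
    let s := 1 + X ^ m * η
    have hs : σ X = X * s := by
      show σ X = X * (1 + X ^ m * η)
      rw [mul_add, mul_one, ← mul_assoc, ← pow_succ', ← hδ]
      ring
    obtain ⟨g, hg, hg'⟩ : ∃ g, PowerSeries.constantCoeff g = ((i + 1 : ℕ) : k) * PowerSeries.constantCoeff η ∧
        s ^ (i + 1) - 1 = X ^ m * g := by
      refine ⟨(∑ l ∈ Finset.range (i + 1), s ^ l) * η, ?_, ?_⟩
      · rw [map_mul, map_sum]
        congr 1
        rw [Finset.sum_congr rfl (fun l _ => show PowerSeries.constantCoeff (s ^ l) = 1 by simp [s, X, hm0]),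
          Finset.sum_const, Finset.card_range, nsmul_one]
      · rw [← geom_sum_mul]
        show _ * (1 + X ^ m * η - 1) = _
        ring
    refine ⟨g * e + s ^ (i + 1) * (X * t), ?_, ?_⟩
    · rw [map_add, map_mul, hg, map_mul, map_mul, show PowerSeries.constantCoeff X = 0 from PowerSeries.constantCoeff_X,
        zero_mul, mul_zero, add_zero]
      exact mul_ne_zero (mul_ne_zero (fun h0 => hj ((CharP.cast_eq_zero_iff k p _).1 h0)) hη) he
    · rw [map_mul, map_pow, hs, mul_pow, eq_add_of_sub_eq hg', eq_add_of_sub_eq ht]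
      ring
  have hinv : ∀ (j : ℕ) (e : PowerSeries k), PowerSeries.constantCoeff e ≠ 0 → σ (X ^ j * e) = X ^ j * e → p ∣ j := by
    intro j e he hfix
    by_contra hj
    obtain ⟨f, hf, hf'⟩ := hlead j e he hj
    rw [hfix, sub_self, eq_comm, mul_eq_zero] at hf'
    rcases hf' with h | h
    · exact pow_ne_zero _ hX0 h
    · exact hf (by rw [h, map_zero])
  have huniq : ∀ (i j : ℕ) (e f : PowerSeries k), PowerSeries.constantCoeff e ≠ 0 → PowerSeries.constantCoeff f ≠ 0 →
      X ^ i * e = X ^ j * f → i = j := by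
    intro i j e f he hf h
    have h1 := congrArg PowerSeries.order h
    rw [PowerSeries.order_mul, PowerSeries.order_mul, PowerSeries.order_X_pow, PowerSeries.order_X_pow,
      PowerSeries.order_zero_of_unit (PowerSeries.isUnit_iff_constantCoeff.2 (isUnit_iff_ne_zero.2 he)),
      PowerSeries.order_zero_of_unit (PowerSeries.isUnit_iff_constantCoeff.2 (isUnit_iff_ne_zero.2 hf)),
      add_zero, add_zero] at h1
    exact_mod_cast h1
  constructor
  · intro hdiv
    -- an invariant of order `p`
    let y := ∏ i ∈ Finset.range p, σ^[i] X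
    have hy : σ y = y := by
      have hr : ∀ n, σ (∏ i ∈ Finset.range n, σ^[i] X) * X = (∏ i ∈ Finset.range n, σ^[i] X) * σ^[n] X := by
        intro n
        rw [map_prod, ← Finset.prod_range_succ, Finset.prod_range_succ', Function.iterate_zero_apply]
        simp only [Function.iterate_succ_apply']
      refine mul_right_cancel₀ hX0 ((hr p).trans ?_)
      rw [← hσpow, hσp, AlgEquiv.one_apply]
    obtain ⟨ye, hye, hye'⟩ : ∃ ye, PowerSeries.constantCoeff ye ≠ 0 ∧ y = X ^ p * ye := by
      have hX1 : ∀ i, ∃ r, PowerSeries.constantCoeff r ≠ 0 ∧ σ^[i] X = X * r := by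
        intro i
        induction i with
        | zero => exact ⟨1, by simp, by simp⟩
        | succ i ih =>
          obtain ⟨r, hr, hn⟩ := ih
          refine ⟨(1 + X ^ m * η) * σ r, ?_, ?_⟩
          · rw [map_mul, hc1]
            refine mul_ne_zero ?_ hr
            simp [X, hm0]
          · rw [Function.iterate_succ_apply', hn, map_mul, ← mul_assoc, mul_add, mul_one, ← mul_assoc, ← pow_succ', ← hδ]
            ring
      choose r hr hr' using hX1
      refine ⟨∏ i ∈ Finset.range p, r i, by rw [map_prod]; exact Finset.prod_ne_zero_iff.2 fun i _ => hr i, ?_⟩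
      show ∏ i ∈ Finset.range p, σ^[i] X = _
      rw [Finset.prod_congr rfl (fun i _ => hr' i), Finset.prod_mul_distrib, Finset.prod_const, Finset.card_range]
    -- a non-invariant element killed by the square of `σ - 1`
    let θ : Module.End k (PowerSeries k) := σ.toLinearMap - 1
    have hθap : ∀ w, θ w = σ w - w := fun w => rfl
    haveI : CharP (Module.End k (PowerSeries k)) p := charP_of_injective_algebraMap (algebraMap k _).injective p
    haveI : ExpChar (Module.End k (PowerSeries k)) p := ExpChar.prime hp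
    have hθp : θ ^ p = 0 := by
      show (σ.toLinearMap - 1) ^ p = 0
      rw [sub_pow_char_of_commute p (Commute.one_right σ.toLinearMap), one_pow, sub_eq_zero]
      refine LinearMap.ext fun w => ?_
      rw [Module.End.pow_apply]
      show σ^[p] w = w
      rw [← hσpow, hσp, AlgEquiv.one_apply]
    have hexn : ∃ n, (θ ^ n) X = 0 := ⟨p, by rw [hθp]; rfl⟩
    obtain ⟨N, hN⟩ : ∃ N, Nat.find hexn = N + 2 := by
      refine ⟨Nat.find hexn - 2, ?_⟩
      have h0 : Nat.find hexn ≠ 0 := fun h => hX0 (by
        have := Nat.find_spec hexn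
        rwa [h, pow_zero] at this)
      have h1 : Nat.find hexn ≠ 1 := fun h => by
        have := Nat.find_spec hexn
        rw [h, pow_one, hθap, hδ, mul_eq_zero] at this
        rcases this with h | h
        · exact pow_ne_zero _ hX0 h
        · exact hη (by rw [h, map_zero])
      omega
    let v := (θ ^ N) X
    have hv1 : θ v ≠ 0 := fun h => Nat.find_min hexn (show N + 1 < Nat.find hexn by omega) (by
      rw [pow_succ', Module.End.mul_apply]; exact h)
    have hv2 : θ (θ v) = 0 := by
      have := Nat.find_spec hexn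
      rwa [hN, pow_succ', Module.End.mul_apply, pow_succ', Module.End.mul_apply] at this
    -- adjust the order
    obtain ⟨D, he0, hhe0, hv1'⟩ := hdec _ hv1
    have hσord : ∀ (j : ℕ) (e : PowerSeries k), X ^ j ∣ σ (X ^ j * e) := fun j e => by
      rw [map_mul, map_pow]
      exact dvd_mul_of_dvd_left (pow_dvd_pow_of_dvd hσX j) _
    have hadj : ∀ (n : ℕ) (w : PowerSeries k), θ w = θ v → (∀ j e, PowerSeries.constantCoeff e ≠ 0 → w = X ^ j * e → D < j + n) →
        ∃ (j : ℕ) (e : PowerSeries k), PowerSeries.constantCoeff e ≠ 0 ∧ ¬ p ∣ j ∧ θ (X ^ j * e) = θ v := by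
      intro n
      induction n with
      | zero =>
        intro w hw hb
        exfalso
        have hw0 : w ≠ 0 := fun h => hv1 (by rw [← hw, h, map_zero])
        obtain ⟨j, e, he, hwe⟩ := hdec w hw0
        have hj : D < j := hb j e he hwe
        obtain ⟨t, ht⟩ : X ^ j ∣ θ v := by
          rw [← hw, hθap, hwe]
          exact dvd_sub (hσord j e) (dvd_mul_right _ _)
        rw [hv1', show j = D + (j - D) by omega, pow_add, mul_assoc] at ht
        have := mul_left_cancel₀ (pow_ne_zero _ hX0) ht
        exact hhe0 (by rw [this]; simp [X, show j - D ≠ 0 by omega])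
      | succ n ih =>
        intro w hw hb
        have hw0 : w ≠ 0 := fun h => hv1 (by rw [← hw, h, map_zero])
        obtain ⟨j, e, he, hwe⟩ := hdec w hw0
        by_cases hj : p ∣ j
        · obtain ⟨l, rfl⟩ := hj
          let c := PowerSeries.constantCoeff e / PowerSeries.constantCoeff ye ^ l
          refine ih (w - PowerSeries.C c * y ^ l) ?_ fun j' e' he' hw' => ?_
          · rw [map_sub, hw, hθap (PowerSeries.C c * y ^ l), map_mul, map_pow, hy,
              show σ (PowerSeries.C c) = PowerSeries.C c from σ.commutes c, sub_self, sub_zero]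
          · have hcc : PowerSeries.constantCoeff (e - PowerSeries.C c * ye ^ l) = 0 := by
              simp [c, div_mul_cancel₀ _ (pow_ne_zero l hye)]
            obtain ⟨e1, he1⟩ := PowerSeries.X_dvd_iff.2 hcc
            have h1 : w - PowerSeries.C c * y ^ l = X ^ (p * l + 1) * e1 := by
              rw [hwe, hye', pow_succ, mul_assoc, show X * e1 = e - PowerSeries.C c * ye ^ l from he1.symm]
              ring
            have h2 : p * l + 1 ≤ j' := by
              by_contra hlt
              push Not at hlt
              rw [hw', show p * l + 1 = j' + (p * l + 1 - j') by omega, pow_add, mul_assoc] at h1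
              have := mul_left_cancel₀ (pow_ne_zero _ hX0) h1
              exact he' (by rw [this]; simp [X, show p * l + 1 - j' ≠ 0 by omega])
            have h3 := hb _ e he hwe
            omega
        · exact ⟨j, e, he, hj, by rw [← hwe, hw]⟩
    obtain ⟨j, e, he, hj, hje⟩ := hadj (D + 1) v rfl fun j e _ _ => by omega
    obtain ⟨f, hf, hf'⟩ := hlead j e he hj
    have hθfix : σ (X ^ (j + m) * f) = X ^ (j + m) * f := by
      rw [← hf', ← hθap, hje]
      exact sub_eq_zero.1 hv2
    have hd := hinv _ f hf hθfix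
    obtain ⟨l, hl⟩ : ∃ l, j = p * l + 1 := by
      obtain ⟨a, ha⟩ := hd
      obtain ⟨b, hb⟩ := hdiv
      have hab : b ≤ a := Nat.le_of_mul_le_mul_left (by
        rcases Nat.eq_zero_or_pos j with h | h
        · exact absurd (h ▸ dvd_zero p) hj
        · omega) hp.pos
      obtain ⟨l, rfl⟩ := Nat.exists_eq_add_of_le hab
      rw [Nat.mul_add] at ha
      exact ⟨l, by omega⟩
    have hyu : IsUnit (ye ^ l) := (PowerSeries.isUnit_iff_constantCoeff.2 (isUnit_iff_ne_zero.2 hye)).pow l
    obtain ⟨yi, hyi⟩ := hyu.exists_right_inv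
    have hyi0 : PowerSeries.constantCoeff yi ≠ 0 := fun h => by
      have := congrArg PowerSeries.constantCoeff hyi
      rw [map_mul, h, mul_zero, map_one] at this
      exact zero_ne_one this
    have hsy : (X * (e * yi)) * y ^ l = X ^ j * e := by
      rw [hye', hl, mul_pow, pow_succ, ← pow_mul]
      linear_combination (X ^ (p * l) * X * e) * hyi
    have hsfix : σ (σ (X * (e * yi)) - X * (e * yi)) = σ (X * (e * yi)) - X * (e * yi) := by
      refine mul_right_cancel₀ (show y ^ l ≠ 0 from pow_ne_zero _ (by rw [hye']; exact mul_ne_zero (pow_ne_zero _ hX0) fun h => hye (by rw [h, map_zero]))) ?_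
      have h1 : (σ (X * (e * yi)) - X * (e * yi)) * y ^ l = X ^ (j + m) * f := by
        rw [sub_mul, hsy, ← hf', ← hsy, map_mul σ (X * (e * yi)), map_pow, hy]
      have h2 := congrArg σ h1
      rw [map_mul, map_pow, hy, hθfix] at h2
      rw [h2, h1]
    refine ⟨X * (e * yi), σ (X * (e * yi)) - X * (e * yi), ?_, hsfix, by ring⟩
    rw [PowerSeries.order_mul, PowerSeries.order_X,
      PowerSeries.order_zero_of_unit (PowerSeries.isUnit_iff_constantCoeff.2 (by
        rw [map_mul]; exact isUnit_iff_ne_zero.2 (mul_ne_zero he hyi0))), add_zero]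
  · rintro ⟨s, a, hs, ha, hsa⟩
    have hs0 : s ≠ 0 := fun h => by rw [h, PowerSeries.order_zero] at hs; exact ENat.top_ne_natCast 1 (by exact_mod_cast hs)
    obtain ⟨j, e, he, hse⟩ := hdec s hs0
    have hj : j = 1 := by
      have h1 := congrArg PowerSeries.order hse
      rw [hs, PowerSeries.order_mul, PowerSeries.order_X_pow,
        PowerSeries.order_zero_of_unit (PowerSeries.isUnit_iff_constantCoeff.2 (isUnit_iff_ne_zero.2 he)), add_zero] at h1
      exact_mod_cast h1.symm
    subst hj
    obtain ⟨f, hf, hf'⟩ := hlead 1 e he hp.not_dvd_one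
    have ha' : a = X ^ (1 + m) * f := by rw [← hf', ← hse, hsa]; ring
    rw [add_comm m 1]
    exact hinv _ f hf (by rw [← ha', ha])

end Groth.Agent.S19996
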