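import Groth.Statements.S19997
import Mathlib
import Mathlib.RingTheory.Polynomial.Basic
import Mathlib.Algebra.CharP.Lemmas
import Mathlib.Algebra.Polynomial.Div

set_option autoImplicit false
universe u
open WildQuot

namespace Groth.Agent.S19997

open scoped Polynomial

/-- finite differences: the n-th difference of a polynomial of degree at most n -/
theorem diff_pow {A : Type u} [CommRing A] (D : A →+ A) {u d : A}
    (hD : ∀ x, D (x * u) = D x * (u + d) + x * d) (hd : ∀ x, D (x * d) = D x * d) (h1 : D 1 = 0) :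
    ∀ (n i : ℕ), i ≤ n → D^[n] (u ^ i) = if i = n then (n.factorial : A) * d ^ n else 0 := by
  have hmul : ∀ (n : ℕ) (x : A), D^[n + 1] (x * u) =
      D^[n + 1] x * (u + (n + 1 : ℕ) * d) + (n + 1 : ℕ) * (D^[n] x * d) := by
    intro n
    induction n with
    | zero => intro x; simp [hD]
    | succ n ih =>
      intro x
      rw [Function.iterate_succ_apply' _ (n + 1), ih x, map_add]
      have e : ∀ (m : ℕ) (y : A), D ((m : A) * y) = (m : A) * D y := fun m y => by
        rw [← nsmul_eq_mul, map_nsmul, nsmul_eq_mul]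
      rw [mul_add, map_add, hD, mul_left_comm _ ((n + 1 : ℕ) : A) d, e, e, hd, hd,
        ← Function.iterate_succ_apply' D (n + 1) x, ← Function.iterate_succ_apply' D n x]
      push_cast
      ring
  intro n
  induction n with
  | zero => intro i hi; simp [Nat.le_zero.1 hi]
  | succ n ih =>
    intro i hi
    rcases i with _ | i
    · have h0 : D^[n + 1] (1 : A) = 0 := by
        rw [Function.iterate_succ_apply, h1, iterate_map_zero]
      simp [h0]
    · rw [pow_succ, hmul, Function.iterate_succ_apply' D n (u ^ i), ih i (by omega)]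
      have hc : ∀ m : ℕ, D (m : A) = 0 := fun m => by
        rw [show (m : A) = m • (1 : A) by simp, map_nsmul, h1, smul_zero]
      have hcd : ∀ m : ℕ, D ((n.factorial : A) * d ^ m) = 0 := fun m => by
        induction m with
        | zero => simpa using hc n.factorial
        | succ m ihm => rw [pow_succ, ← mul_assoc, hd, ihm, zero_mul]
      by_cases h : i = n
      · subst h
        rw [if_pos rfl, if_pos rfl, hcd, Nat.factorial_succ]
        push_cast
        ring
      · simp [h]


open MvPolynomial in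
/-- Let `k` be a field of characteristic `p > 0`, `n ≥ 2`, `R = k[[x_1, …, x_n]]`, `a_1, …, a_n ∈ R`
with zero constant term and pairwise coprime, `μ ∈ R` nonzero and coprime to each `a_i`, `A = R[u_1,
…, u_n] / (u_i ^ p - (μ a_i) ^ (p-1) u_i - x_i : i = 1..n)`, and `σ` the `R`-algebra automorphism of
`A` with `σ u_i = u_i + μ a_i` for every `i` (it generates a group `G` of order `p`). Fix an index
`i₀` and let `A_ci ⊆ A` be the `R`-subalgebra generated by the minor elements `z_j = a_{i₀} u_j -
a_j u_{i₀}`, `j ≠ i₀` (these are `σ`-invariant). Then `A_ci[1/(μ a_{i₀})] = A^G[1/(μ a_{i₀})]`: for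
every `σ`-invariant `t ∈ A` some power `(μ a_{i₀}) ^ N t` lies in `A_ci`. (The published statement
uses the first index for `i₀`.) -/
theorem result
    (p : ℕ) [Fact p.Prime] (k : Type u) [Field k] [CharP k p] (n : ℕ) (hn : 2 ≤ n)
    (a : Fin n → MvPowerSeries (Fin n) k) (μ : MvPowerSeries (Fin n) k)
    (ham : ∀ i, MvPowerSeries.constantCoeff (a i) = 0) (hcop : ∀ i j, i ≠ j → IsRelPrime (a i) (a j))
    (hμ : μ ≠ 0) (hμa : ∀ i, IsRelPrime μ (a i)) (i₀ : Fin n) :
    let R := MvPowerSeries (Fin n) k
    let I : Ideal (MvPolynomial (Fin n) R) :=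
      Ideal.span (Set.range fun i : Fin n =>
        X i ^ p - C ((μ * a i) ^ (p - 1)) * X i - C (MvPowerSeries.X i))
    let A := MvPolynomial (Fin n) R ⧸ I
    let u : Fin n → A := fun i => Ideal.Quotient.mk I (X i)
    let z : {j : Fin n // j ≠ i₀} → A := fun j =>
      algebraMap R A (a i₀) * u j.1 - algebraMap R A (a j.1) * u i₀
    ∀ σ : A ≃ₐ[R] A, (∀ i, σ (u i) = u i + algebraMap R A (μ * a i)) →
      ∀ t : A, σ t = t →
        ∃ N : ℕ, algebraMap R A (μ * a i₀) ^ N * t ∈ Algebra.adjoin R (Set.range z) := by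
  intro R I A u z σ hσ t ht
  classical
  let d : A := algebraMap R A (μ * a i₀)
  let S : Subalgebra R A := Algebra.adjoin R (Set.range z)
  have hσd : σ d = d := σ.commutes _
  have hσS : ∀ s ∈ S, σ s = s := by
    intro s hs
    refine AlgHom.mem_equalizer σ.toAlgHom (AlgHom.id R A) s |>.1 ((Algebra.adjoin_le ?_ : S ≤ AlgHom.equalizer σ.toAlgHom (AlgHom.id R A)) hs)
    rintro _ ⟨j, rfl⟩
    show σ (z j) = z j
    simp only [z, map_sub, map_mul, AlgEquiv.commutes, hσ]
    ring
  -- every element is, up to a power of `a i₀`, a polynomial in `u i₀` over `S`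
  let ev : Polynomial S →+* A := Polynomial.eval₂RingHom S.val.toRingHom (u i₀)
  have evC : ∀ s : S, ev (Polynomial.C s) = (s : A) := fun s => Polynomial.eval₂_C _ _
  have evX : ev Polynomial.X = u i₀ := Polynomial.eval₂_X _ _
  let M : Subalgebra R A :=
    { carrier := {x | ∃ (N : ℕ) (f : Polynomial S), algebraMap R A (a i₀) ^ N * x = ev f}
      mul_mem' := by
        rintro x y ⟨N, f, hf⟩ ⟨N', g, hg⟩
        exact ⟨N + N', f * g, by rw [map_mul, ← hf, ← hg, pow_add]; ring⟩
      add_mem' := by
        rintro x y ⟨N, f, hf⟩ ⟨N', g, hg⟩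
        refine ⟨N + N', Polynomial.C (⟨algebraMap R A (a i₀) ^ N', pow_mem (S.algebraMap_mem _) _⟩ : S) * f +
          Polynomial.C (⟨algebraMap R A (a i₀) ^ N, pow_mem (S.algebraMap_mem _) _⟩ : S) * g, ?_⟩
        rw [map_add, map_mul, map_mul, evC, evC, ← hf, ← hg]
        rw [pow_add]
        ring
      algebraMap_mem' := fun r => ⟨0, Polynomial.C (algebraMap R S r), by rw [evC, pow_zero, one_mul]; rfl⟩ }
  have hM : M = ⊤ := by
    have hgen : Algebra.adjoin R (Set.range u) = ⊤ := by
      have e : Set.range u = (Ideal.Quotient.mkₐ R I) '' Set.range (X : Fin n → MvPolynomial (Fin n) R) := by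
        rw [← Set.range_comp]; rfl
      rw [e, ← AlgHom.map_adjoin, MvPolynomial.adjoin_range_X, Algebra.map_top]
      exact (AlgHom.range_eq_top _).2 (Ideal.Quotient.mkₐ_surjective R I)
    refine top_le_iff.1 (hgen ▸ Algebra.adjoin_le ?_)
    rintro _ ⟨j, rfl⟩
    by_cases hj : j = i₀
    · exact ⟨0, Polynomial.X, by rw [evX, hj, pow_zero, one_mul]⟩
    · refine ⟨1, Polynomial.C (⟨z ⟨j, hj⟩, Algebra.subset_adjoin ⟨_, rfl⟩⟩ : S) +
        Polynomial.C (algebraMap R S (a j)) * Polynomial.X, ?_⟩
      rw [map_add, map_mul, evC, evC, evX]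
      show _ = z ⟨j, hj⟩ + algebraMap R A (a j) * u i₀
      simp only [z, pow_one]
      ring
  obtain ⟨N, f, hf⟩ : t ∈ M := hM ▸ Algebra.mem_top
  let b : R := (μ * a i₀) ^ (p - 1)
  let P : Polynomial S := Polynomial.X ^ p - (Polynomial.C (algebraMap R S b) * Polynomial.X +
    Polynomial.C (algebraMap R S (MvPowerSeries.X i₀)))
  have hp : 1 < p := (Fact.out : p.Prime).one_lt
  have hdeg : (Polynomial.C (algebraMap R S b) * Polynomial.X + Polynomial.C (algebraMap R S (MvPowerSeries.X i₀))).degree < ((p : ℕ) : WithBot ℕ) :=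
    lt_of_le_of_lt (Polynomial.degree_linear_le) (by exact_mod_cast hp)
  have hPm : P.Monic := Polynomial.monic_X_pow_sub hdeg
  have hPu : ev P = 0 := by
    have h : Ideal.Quotient.mk I (X i₀ ^ p - C b * X i₀ - C (MvPowerSeries.X i₀)) = 0 :=
      Ideal.Quotient.eq_zero_iff_mem.2 (Ideal.subset_span ⟨i₀, rfl⟩)
    have h2 := congrArg ev (show P + (Polynomial.C (algebraMap R S b) * Polynomial.X + Polynomial.C (algebraMap R S (MvPowerSeries.X i₀))) = Polynomial.X ^ p by simp only [P]; abel)
    rw [map_add ev, map_add ev, map_mul ev, map_pow ev, evC, evC, evX] at h2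
    simp only [map_sub, map_mul, map_pow] at h
    have h3 : u i₀ ^ p - algebraMap R A b * u i₀ - algebraMap R A (MvPowerSeries.X i₀) = 0 := h
    change ev P + (algebraMap R A b * u i₀ + algebraMap R A (MvPowerSeries.X i₀)) = u i₀ ^ p at h2
    linear_combination h2 + h3
  let g := f %ₘ P
  have hg : algebraMap R A (a i₀) ^ N * t = ∑ i ∈ Finset.range p, (g.coeff i : A) * u i₀ ^ i := by
    rw [hf, ← Polynomial.modByMonic_add_div f P, map_add, map_mul, hPu, zero_mul, add_zero]
    show Polynomial.eval₂ S.val.toRingHom (u i₀) g = _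
    by_cases hn' : Nontrivial S
    · refine Polynomial.eval₂_eq_sum_range' _ ?_ _
      by_cases h0 : g = 0
      · show g.natDegree < p
        rw [h0, Polynomial.natDegree_zero]; omega
      · refine (Polynomial.natDegree_lt_iff_degree_lt h0).2 ((Polynomial.degree_modByMonic_lt f hPm).trans_eq ?_)
        exact Polynomial.degree_sub_eq_left_of_degree_lt (by rwa [Polynomial.degree_X_pow]) |>.trans (Polynomial.degree_X_pow p)
    · have := not_nontrivial_iff_subsingleton.1 hn'
      haveI : Subsingleton A := subsingleton_of_zero_eq_one (congrArg Subtype.val (Subsingleton.elim (0 : S) 1))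
      exact Subsingleton.elim _ _
  let D : A →+ A := (σ.toAlgHom.toRingHom.toAddMonoidHom) - AddMonoidHom.id A
  have hDapp : ∀ x, D x = σ x - x := fun x => rfl
  have hDu : ∀ x, D (x * u i₀) = D x * (u i₀ + d) + x * d := fun x => by
    simp only [hDapp, map_mul, hσ, d]
    ring
  have hDd : ∀ x, D (x * d) = D x * d := fun x => by
    simp only [hDapp, map_mul, hσd]; ring
  have hD1 : D 1 = 0 := by simp [hDapp]
  have hDS : ∀ s ∈ S, ∀ x, D (s * x) = s * D x := fun s hs x => by
    simp only [hDapp, map_mul, hσS s hs]; ring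
  haveI : CharP R p := charP_of_injective_ringHom (f := (MvPowerSeries.C : k →+* R)) MvPowerSeries.C_injective p
  have key : ∀ m, m ≤ p → ∀ c : ℕ → A, (∀ i, c i ∈ S) → σ (∑ i ∈ Finset.range m, c i * u i₀ ^ i) =
      (∑ i ∈ Finset.range m, c i * u i₀ ^ i) → ∃ K, d ^ K * (∑ i ∈ Finset.range m, c i * u i₀ ^ i) ∈ S := by
    intro m
    induction m with
    | zero => intro _ c _ _; exact ⟨0, by simp⟩
    | succ m ih =>
      intro hm c hc hfix
      rcases m with _ | m
      · exact ⟨0, by simpa using hc 0⟩
      have hDs : ∀ j, D^[j + 1] (∑ i ∈ Finset.range (m + 2), c i * u i₀ ^ i) = 0 := fun j => by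
        rw [Function.iterate_succ_apply, show D (∑ i ∈ Finset.range (m + 2), c i * u i₀ ^ i) = 0 by
          rw [hDapp, hfix, sub_self], iterate_map_zero]
      have hlin : ∀ j (s : A), s ∈ S → ∀ x, D^[j] (s * x) = s * D^[j] x := fun j s hs => by
        induction j with
        | zero => intro x; rfl
        | succ j ihj => intro x; rw [Function.iterate_succ_apply', Function.iterate_succ_apply', ihj, hDS s hs]
      have htop : c (m + 1) * (((m + 1).factorial : A) * d ^ (m + 1)) = 0 := by
        have hsum : ∀ (j : ℕ) (F : ℕ → A) (s : Finset ℕ), D^[j] (∑ i ∈ s, F i) = ∑ i ∈ s, D^[j] (F i) := fun j F s => by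
          induction j generalizing F with
          | zero => rfl
          | succ j ihj => simp only [Function.iterate_succ_apply, map_sum, ihj]
        rw [← hDs m, hsum (m + 1)]
        symm
        refine (Finset.sum_eq_single_of_mem (m + 1) (Finset.mem_range.2 (by omega)) fun i hi hne => ?_).trans ?_
        · rw [hlin _ _ (hc i), diff_pow (A := A) D hDu hDd hD1 (m + 1) i (by simp at hi; omega), if_neg hne, mul_zero]
        · rw [hlin _ _ (hc _), diff_pow (A := A) D hDu hDd hD1 (m + 1) (m + 1) le_rfl, if_pos rfl]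
      have hfac : IsUnit (((m + 1).factorial : R)) := by
        have h : ¬ p ∣ (m + 1).factorial := by
          rw [(Fact.out : p.Prime).dvd_factorial]; omega
        have hk : IsUnit (((m + 1).factorial : k)) := IsUnit.mk0 _ fun e => h ((CharP.cast_eq_zero_iff k p _).1 e)
        have := hk.map (MvPowerSeries.C : k →+* R)
        rwa [map_natCast] at this
      have htop' : c (m + 1) * d ^ (m + 1) = 0 := by
        have hu' : IsUnit (((m + 1).factorial : A)) := by
          have := hfac.map (algebraMap R A); rwa [map_natCast] at this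
        refine hu'.mul_right_eq_zero.1 ?_
        rw [← htop]; ring
      have hdS : d ∈ S := S.algebraMap_mem _
      have e : ∑ i ∈ Finset.range (m + 1), d ^ (m + 1) * c i * u i₀ ^ i =
          d ^ (m + 1) * ∑ i ∈ Finset.range (m + 2), c i * u i₀ ^ i := by
        rw [Finset.sum_range_succ _ (m + 1), mul_add, ← mul_assoc (d ^ (m + 1)) (c (m + 1)), mul_comm (d ^ (m + 1)) (c (m + 1)),
          htop', zero_mul, add_zero, Finset.mul_sum]
        exact Finset.sum_congr rfl fun i _ => mul_assoc _ _ _
      obtain ⟨K, hK⟩ := ih (by omega) (fun i => d ^ (m + 1) * c i) (fun i => mul_mem (pow_mem hdS _) (hc i)) (by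
        rw [e, map_mul, map_pow, hσd, hfix])
      refine ⟨K + (m + 1), ?_⟩
      rw [pow_add, mul_assoc, ← e]
      exact hK
  obtain ⟨K, hK⟩ := key p le_rfl (fun i => (g.coeff i : A)) (fun i => (g.coeff i).2) (by
    rw [← hg, map_mul, map_pow, AlgEquiv.commutes, ht])
  refine ⟨K + N, ?_⟩
  rw [← hg] at hK
  have h2 := S.mul_mem (pow_mem (S.algebraMap_mem μ) N) hK
  show d ^ (K + N) * t ∈ S
  convert h2 using 1
  simp only [d, map_mul, mul_pow, pow_add]
  ring


end Groth.Agent.S19997
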