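import Groth.Statements.S19998
import Groth.Agent.Lib.WildQuot.ASGroup
-- import your own Groth.Agent.* helpers here

set_option autoImplicit false
universe u
open WildQuot

namespace Groth.Agent.S19998

open MvPolynomial in
/-- Let `k` be a field of characteristic `p > 0`, `n ≥ 2`, `R = k[[x_1, …, x_n]]`, `a_1, …, a_n ∈ R`
with zero constant term, `A = R[u_1, …, u_n] / (u_i ^ p - a_i ^ (p-1) u_i - x_i : i = 1..n)`, and
`σ` the `R`-algebra automorphism of `A` with `σ u_i = u_i + a_i` for every `i` (when some `a_i` is
non-zero it generates a group `G` of order `p`). Let `I ⊆ A` be the ideal generated by the elements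
`σ t - t`, `t ∈ A`, which defines the fixed-point scheme of `G`. Then `I ⊆ (u_1, …, u_n) ^ p` (the
`p`-th power of the maximal ideal of `A`), and the length of `A / I` over `A` equals `p ^ n` times
the length of `R / (a_1, …, a_n)` over `R`; in particular it is a multiple of `p ^ n`. (The
published statement is for an arbitrary moderately ramified action, which has this normal form with
`a_1, …, a_n` a system of parameters of `R`, and records only divisibility by `p ^ n`; here the
`a_i` are arbitrary non-units, both lengths being infinite when `(a_1, …, a_n)` is not primary to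
the maximal ideal of `R`.) -/
theorem result
    (p : ℕ) [Fact p.Prime] (k : Type u) [Field k] [CharP k p] (n : ℕ) (hn : 2 ≤ n)
    (a : Fin n → MvPowerSeries (Fin n) k)
    (ham : ∀ i, MvPowerSeries.constantCoeff (a i) = 0) :
    let R := MvPowerSeries (Fin n) k
    let I : Ideal (MvPolynomial (Fin n) R) :=
      Ideal.span (Set.range fun i : Fin n =>
        X i ^ p - C (a i ^ (p - 1)) * X i - C (MvPowerSeries.X i))
    let A := MvPolynomial (Fin n) R ⧸ I
    let u : Fin n → A := fun i => Ideal.Quotient.mk I (X i)
    ∀ σ : A ≃ₐ[R] A, (∀ i, σ (u i) = u i + algebraMap R A (a i)) →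
      Ideal.span (Set.range fun t : A => σ t - t) ≤ Ideal.span (Set.range u) ^ p ∧
        Module.length A (A ⧸ Ideal.span (Set.range fun t : A => σ t - t)) =
          (p ^ n : ℕ∞) * Module.length R (R ⧸ Ideal.span (Set.range a)) := by
  intro R I A u σ hσ
  exact GrothLib.WildQuot.fixedIdeal_facts a ham σ hσ

end Groth.Agent.S19998
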