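import Groth.Statements.S2000
import Groth.Agent.Lib.Glue.Descent
-- import your own Groth.Agent.* helpers here

set_option autoImplicit false
universe u
open TensorProduct
open EtAlg

namespace Groth.Agent.S2000

/-- Beauville–Laszlo, essential surjectivity with glueability: take a glueing pair (R -> R', f). Fix an
R'-module M', an R-module M₁ on which multiplication by f is bijective (i.e. an R_f-module), and α
an R'-linear isomorphism from the localization of M' at f to R' ⊗_R M₁ (an isomorphism of
R'_f-modules). Then there is an R-module M, glueable for (R -> R', f), with an R'-isomorphism R' ⊗_R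
M ≅ M' and an R-isomorphism M_f ≅ M₁ under which α becomes the canonical identification (R' ⊗_R M)_f
= R' ⊗_R M_f. -/
theorem result (R R' : Type u) [CommRing R] [CommRing R'] [Algebra R R'] (f : R)
    (hRR : EtGlue.IsGlueingPair R R' f) (M' : Type u) [AddCommGroup M'] [Module R' M'] (M₁ : Type u) [AddCommGroup M₁]
    [Module R M₁] (hf : Function.Bijective fun x : M₁ => f • x)
    (α : LocalizedModule (Submonoid.powers (algebraMap R R' f)) M' ≃ₗ[R'] R' ⊗[R] M₁) :
    ∃ (M : Type u) (_ : AddCommGroup M) (_ : Module R M) (_ : EtGlue.IsGlueable R R' f M)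
      (e' : R' ⊗[R] M ≃ₗ[R'] M') (e₁ : LocalizedModule (Submonoid.powers f) M ≃ₗ[R] M₁),
      ∀ m : M, α (LocalizedModule.mkLinearMap (Submonoid.powers (algebraMap R R' f)) M' (e' ((1 : R') ⊗ₜ[R] m))) =
        (1 : R') ⊗ₜ[R] e₁ (LocalizedModule.mkLinearMap (Submonoid.powers f) M m) := by
  letI : Module R M' := Module.compHom M' (algebraMap R R')
  haveI : IsScalarTower R R' M' :=
    IsScalarTower.of_algebraMap_smul fun r x => rfl
  let L : M' →ₗ[R'] R' ⊗[R] M₁ :=
    α.toLinearMap.comp (LocalizedModule.mkLinearMap (Submonoid.powers (algebraMap R R' f)) M')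
  let M : Submodule R (M' × M₁) :=
    LinearMap.eqLocus ((L.restrictScalars R).comp (LinearMap.fst R M' M₁))
      ((TensorProduct.mk R R' M₁ 1).comp (LinearMap.snd R M' M₁))
  let p₁ : M →ₗ[R] M' := (LinearMap.fst R M' M₁).comp M.subtype
  let p₂ : M →ₗ[R] M₁ := (LinearMap.snd R M' M₁).comp M.subtype
  have hG : Glue.IsGlued f p₁ p₂ L :=
    { bij := hf
      surj := fun z => by
        obtain ⟨⟨x, ⟨_, k, rfl⟩⟩, hx⟩ := IsLocalizedModule.surj (Submonoid.powers (algebraMap R R' f))
          (LocalizedModule.mkLinearMap (Submonoid.powers (algebraMap R R' f)) M') (α.symm z)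
        refine ⟨k, x, ?_⟩
        rw [← algebraMap_smul R' (f ^ k) z, map_pow]
        refine α.symm.injective ?_
        rw [map_smul]
        simpa [L, Submonoid.smul_def] using hx
      ker := fun x hx => by
        obtain ⟨⟨_, k, rfl⟩, hk⟩ := (IsLocalizedModule.eq_zero_iff (Submonoid.powers (algebraMap R R' f))
          (LocalizedModule.mkLinearMap (Submonoid.powers (algebraMap R R' f)) M')).mp
            (α.injective (hx.trans (map_zero α).symm))
        exact ⟨k, by rw [← algebraMap_smul R' (f ^ k) x, map_pow]; exact hk⟩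
      comm := fun m => m.2
      inj := fun m h1 h2 => Subtype.ext (Prod.ext h1 h2)
      pull := fun x y hxy => ⟨⟨(x, y), hxy⟩, rfl, rfl⟩ }
  haveI := hG.isLocalizedModule
  refine ⟨M, inferInstance, inferInstance, hG.isGlueable hRR,
    LinearEquiv.ofBijective _ (hG.bijective_liftBaseChange hRR),
    IsLocalizedModule.iso (Submonoid.powers f) p₂, fun m => ?_⟩
  have h₁ : IsLocalizedModule.iso (Submonoid.powers f) p₂
      (LocalizedModule.mkLinearMap (Submonoid.powers f) M m) = p₂ m :=
    IsLocalizedModule.iso_mk_one _ p₂ m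
  rw [h₁, LinearEquiv.ofBijective_apply, LinearMap.liftBaseChange_tmul, one_smul]
  exact m.2

end Groth.Agent.S2000
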