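import Groth.Statements.S20003
import Groth.Agent.Lib.FMK22.TorsionFreeDual
import Groth.Agent.Lib.FMK22.PhiShift
import Groth.Agent.S0341

set_option autoImplicit false
universe u
open CategoryTheory CategoryTheory.Limits AlgebraicGeometry
attribute [local instance] HasDerivedCategory.standard
open FMK

namespace Groth.Agent.S20003

/-- Let k be an algebraically closed field, X and Y proper schemes over k with structure morphisms a and
b, X with Cohen–Macaulay local rings and equidimensional of dimension d, Y with Gorenstein local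
rings. Let Ra_* on D_QCoh have the right adjoint a^× (given as data with its adjunction), O an
object of D_QCoh(Spec k) isomorphic to the structure sheaf in degree 0, and ω_X = H^{−d}(a^×O) the
dualizing module of X; write RΔ(F) = RHom(F, ω_X). Let P be a cochain complex of modules on X ×_k Y
defining a perfect object and P' a cochain complex representing its derived dual RHom(P, O_{X×Y});
for a kernel K write Φ_K = Rpr_{Y,*}(Lpr_X^*(−) ⊗^L K) and R^iΦ_K = H^i ∘ Φ_K, the derived functors
involved being assumed to exist. Let F be a cochain complex of O_X-modules defining a perfect object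
which is GV with respect to P: R^iΦ_P F = 0 for i < 0 and, for i ≥ 0, the local ring of Y at every
point of the support of R^iΦ_P F has dimension ≥ i. Suppose that Φ_{P'}(RΔ F)[d] is isomorphic in
D(O_Y) to a coherent O_Y-module G placed in degree 0 whose stalks are torsion-free
(non-zero-divisors of O_{Y,y} act injectively on G_y for every y). Then F is M-regular with respect
to P: for every i > 0, the local ring of Y at every point of the support of R^iΦ_P F has dimension ≥
i + 1. (The published statement asserts the equivalence of M-regularity with this torsion-freeness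
and with an injectivity condition on a natural map; this row is the implication from
torsion-freeness, and takes the sheaf G as given rather than deducing that the transform is a sheaf.
The published statement takes X and Y projective over k; this row takes them proper, the
first-syzygy step being local on Y.) -/
theorem result (k : Type u) [Field k] [IsAlgClosed k]
    (X Y : Scheme.{u}) (a : X ⟶ Spec (CommRingCat.of k)) (b : Y ⟶ Spec (CommRingCat.of k)) [IsProper a] [IsProper b]
    (hXcm : ∀ x : ↥X, LocCoh.IsCohenMacaulayLocalRing ↑(X.presheaf.stalk x))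
    (hYg : ∀ y : ↥Y, LocCoh.IsGorensteinLocalRing ↑(Y.presheaf.stalk y))
    (d : ℕ) (hd : topologicalKrullDim ↥X = (d : WithBot ℕ∞))
    (hXeq : ∀ Z ∈ irreducibleComponents ↥X, topologicalKrullDim ↥Z = (d : WithBot ℕ∞))
    [DCoh.HasRpush a] (ha : DCoh.RpushPreservesQCoh a)
    (adx : DCoh.DQCoh (Spec (CommRingCat.of k)) ⥤ DCoh.DQCoh X) (adj : DCoh.RpushQ a ha ⊣ adx)
    (O : DCoh.DQCoh (Spec (CommRingCat.of k)))
    (hO : Nonempty (O.obj ≅ DCoh.inD (Spec (CommRingCat.of k)) (Coh.structureModule (Spec (CommRingCat.of k)))))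
    (P : CochainComplex (pullback a b).Modules ℤ) (hP : DCoh.IsPerfect (DCoh.toD (pullback a b) P))
    [DCoh.HasLpull (pullback.fst a b)] [DCoh.HasLTensorCx P] [DCoh.HasRSheafHom P] [DCoh.HasRpush (pullback.snd a b)]
    (P' : CochainComplex (pullback a b).Modules ℤ) [DCoh.HasLTensorCx P']
    (hP' : Nonempty (DCoh.toD (pullback a b) P' ≅
      (DCoh.RSheafHom P).obj (DCoh.inD (pullback a b) (Coh.structureModule (pullback a b)))))
    (F : CochainComplex X.Modules ℤ) (hF : DCoh.IsPerfect (DCoh.toD X F)) [DCoh.HasLTensorCx F] [DCoh.HasRSheafHom F]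
    (hGVneg : ∀ i : ℤ, i < 0 → IsZero (DCoh.HD ((FMK.phi a b P).obj (DCoh.toD X F)) i))
    (hGV : ∀ (i : ℕ) (y : ↥Y), y ∈ CohB1.support (DCoh.HD ((FMK.phi a b P).obj (DCoh.toD X F)) (i : ℤ)) →
      ((i : ℕ) : WithBot ℕ∞) ≤ ringKrullDim ↑(Y.presheaf.stalk y))
    (G : Y.Modules) (hGc : Coh.IsCoh G)
    (hG : Nonempty (DCoh.inD Y G ≅ (shiftFunctor (DCoh.D Y) (d : ℤ)).obj ((FMK.phi a b P').obj
      ((DCoh.RSheafHom F).obj (DCoh.inD X (DCoh.HD (adx.obj O).obj (-(d : ℤ))))))))
    (htf : ∀ (y : ↥Y) (r : ↑(Y.presheaf.stalk y)), r ∈ nonZeroDivisors ↑(Y.presheaf.stalk y) →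
      ∀ m : ↑(G.presheaf.stalk y), r • m = 0 → m = 0)
    (i : ℕ) (hi : 0 < i) (y : ↥Y)
    (hy : y ∈ CohB1.support (DCoh.HD ((FMK.phi a b P).obj (DCoh.toD X F)) (i : ℤ))) :
    ((i + 1 : ℕ) : WithBot ℕ∞) ≤ ringKrullDim ↑(Y.presheaf.stalk y) := by
  haveI : IsNoetherian (Spec (CommRingCat.of k)) := inferInstance
  haveI : IsNoetherian Y := GrothLib.RightAdj22.isNoetherian_of_proper b
  obtain ⟨K, hKf, ⟨eK⟩⟩ := GrothLib.OX.exists_kflat_rep ((FMK.phi a b P).obj (DCoh.toD X F))
  haveI := GrothLib.OX.hasLTensorCx K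
  haveI := GrothLib.OX.hasRSheafHom K
  obtain ⟨hKp, ⟨e⟩⟩ := GrothLib.FMK22.nonempty_dual_phi a b hXcm d hXeq ha adj O hO P hP P' hP' F hF K ⟨eK⟩
  obtain ⟨s⟩ := GrothLib.FMK22.nonempty_phi_shift a b P'
    ((DCoh.RSheafHom F).obj (DCoh.inD X (DCoh.HD (adx.obj O).obj (-(d : ℤ))))) (d : ℤ)
  obtain ⟨D, -, _, _, hDp, ⟨iK⟩, ⟨iD⟩⟩ := GrothLib.RightAdj20.exists_dual_pair K hKf hKp
  obtain ⟨eG⟩ := hG
  haveI : LocCoh.IsCohenMacaulayLocalRing ↑(Y.presheaf.stalk y) :=
    haveI := hYg y
    Groth.Agent.S0341.result _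
  by_contra hcon
  obtain ⟨δ, hδ⟩ : ∃ δ : ℕ, ringKrullDim ↑(Y.presheaf.stalk y) = δ := by
    obtain ⟨x, hx⟩ := WithBot.ne_bot_iff_exists.1 (ringKrullDim_ne_bot (R := ↑(Y.presheaf.stalk y)))
    obtain ⟨δ, hδ⟩ := ENat.ne_top_iff_exists.1 (show x ≠ ⊤ from fun h => by
      refine hcon ?_
      rw [← hx, h]
      exact WithBot.coe_le_coe.2 le_top)
    exact ⟨δ, by rw [← hx, ← hδ]; rfl⟩
  rw [hδ, Nat.cast_le, not_le] at hcon
  refine GrothLib.FMK22.notMem_support_dual_torsionFree D hDp G (iD ≪≫ e ≪≫ s ≪≫ eG.symm) y (htf y) δ hδ i hi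
    (by omega) ?_
  exact GrothLib.FMK22.mem_support_of_iso ((DerivedCategory.homologyFunctor _ (i : ℤ)).mapIso (eK.symm ≪≫ iK)) hy

end Groth.Agent.S20003
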