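import Groth.Statements.S20004
import Groth.Agent.S15800
import Mathlib.RingTheory.Localization.Finiteness
import Mathlib.RingTheory.Algebraic.Integral
import Mathlib.LinearAlgebra.Dimension.Localization
-- import your own Groth.Agent.* helpers here

set_option autoImplicit false
universe u v w
open WildQuot

namespace Groth.Agent.S20004

/-- Let `A` be a complete regular local ring of Krull dimension at least `2` and prime characteristic
`p`; let `k` be a field with `k → A` mapping onto the residue field, such that `k` has no Galois
extension of degree `p`; let `G` be a group of order `p` acting on `A` by `k`-algebra automorphisms,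
ramified precisely at the origin (for every non-maximal prime `P`, the inertia subgroup of `P` is
trivial). Let `R` be a `k`-algebra with an injective structure map `R → A` whose image is fixed by
`G` (so `R ⊆ A^G`), with `A` finite over `R`. Galois extensions of fraction fields are expressed
through automorphism counts: since `A` and `A^G` are normal domains finite over `R`,
`Frac(A^G)/Frac(R)` is Galois exactly when `p` times the number of `k`-algebra automorphisms of
`A^G` fixing the image of `R` equals the rank `[Frac A : Frac R]` of `A` over `R`, and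
`Frac(A)/Frac(R)` is Galois exactly when the number of `R`-algebra automorphisms of `A` equals that
rank. The row: the first equality implies the second. (The published statement assumes `R ⊆ A^G`
finite with `Frac(A^G)/Frac(R)` Galois and concludes that `Frac(A)/Frac(R)` is Galois; here `R` is
taken to contain `k`, as the norm subrings of the source do.) -/
theorem result
    (p : ℕ) [Fact p.Prime] (A : Type u) [CommRing A] [IsRegularLocalRing A] [CharP A p]
    [IsAdicComplete (IsLocalRing.maximalIdeal A) A] (hdim : 2 ≤ ringKrullDim A)
    (k : Type v) [Field k] [Algebra k A]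
    (hk : Function.Surjective (IsLocalRing.residue A ∘ algebraMap k A))
    (hkp : ∀ (L : Type v) [Field L] [Algebra k L], IsGalois k L → Module.finrank k L ≠ p)
    (G : Type w) [Group G] [Finite G] [MulSemiringAction G A] (hcard : Nat.card G = p)
    [SMulCommClass G k A]
    (hram : ∀ P : Ideal A, P.IsPrime → P ≠ IsLocalRing.maximalIdeal A → P.inertia G = ⊥)
    (R : Type v) [CommRing R] [Algebra k R] [Algebra R A] [IsScalarTower k R A] [Module.Finite R A]
    (hRinj : Function.Injective (algebraMap R A))
    (hRG : ∀ (σ : G) (r : R), σ • algebraMap R A r = algebraMap R A r)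
    (hgal : p * Nat.card {φ : FixedPoints.subalgebra k A G ≃ₐ[k] FixedPoints.subalgebra k A G //
        ∀ b : FixedPoints.subalgebra k A G, (b : A) ∈ Set.range (algebraMap R A) → (φ b : A) = b} =
      Module.finrank R A) :
    Nat.card (A ≃ₐ[R] A) = Module.finrank R A := by
  classical
  haveI := GrothLib.CMFree.isDomain_of_isRegularLocalRing A
  haveI : IsDomain R := hRinj.isDomain _
  haveI : FaithfulSMul R A := (faithfulSMul_iff_algebraMap_injective R A).mpr hRinj
  haveI : Algebra.IsIntegral R A := Algebra.IsIntegral.of_finite R A
  haveI : Algebra.IsAlgebraic R A := Algebra.IsIntegral.isAlgebraic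
  let K := FractionRing R
  let L := FractionRing A
  letI : Algebra K L := FractionRing.liftAlgebra R L
  haveI : IsScalarTower R K L := FractionRing.isScalarTower_liftAlgebra R L
  haveI : FaithfulSMul R L := (faithfulSMul_iff_algebraMap_injective R L).mpr (by
    rw [IsScalarTower.algebraMap_eq R A L]
    exact (IsFractionRing.injective A L).comp hRinj)
  have hfr : Module.finrank K L = Module.finrank R A := IsFractionRing.finrank_eq R K A L
  haveI : Module.IsTorsionFree R A := Module.isTorsionFree_iff_algebraMap_injective.mpr hRinj
  haveI : FiniteDimensional K L := FiniteDimensional.of_finrank_pos (hfr.trans_gt Module.finrank_pos)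
  -- upper bound
  let Φ : (A ≃ₐ[R] A) → (L ≃ₐ[K] L) := fun σ => IsFractionRing.fieldEquivOfAlgEquiv K L L σ
  have hΦ : Function.Injective Φ := by
    intro σ τ h
    refine AlgEquiv.ext fun x => IsFractionRing.injective A L ?_
    rw [← IsFractionRing.fieldEquivOfAlgEquiv_algebraMap K L L σ x,
      ← IsFractionRing.fieldEquivOfAlgEquiv_algebraMap K L L τ x]
    exact AlgEquiv.congr_fun h _
  haveI : Finite (A ≃ₐ[R] A) := Finite.of_injective Φ hΦ
  refine le_antisymm ?_ ?_
  · rw [← hfr]
    refine (Nat.card_le_card_of_injective Φ hΦ).trans ?_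
    have h2 := AlgEquiv.card_le (F := K) (K := L)
    rwa [← Nat.card_eq_fintype_card] at h2
  -- lower bound
  rw [← hgal]
  let B := FixedPoints.subalgebra k A G
  let S := {φ : B ≃ₐ[k] B // ∀ b : B, (b : A) ∈ Set.range (algebraMap R A) → (φ b : A) = b}
  have hlift : ∀ φ : S, ∃ ψ : A ≃ₐ[k] A, ∀ x : B, ψ x = φ.1 x := fun φ =>
    Groth.Agent.S15800.result p A hdim k hk hkp G hcard hram φ.1
  choose ψ hψ using hlift
  let F : G × S → (A ≃ₐ[R] A) := fun gφ =>
    AlgEquiv.ofRingEquiv (f := (MulSemiringAction.toRingEquiv G A gφ.1).trans (ψ gφ.2).toRingEquiv)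
      (fun r => by
        show ψ gφ.2 (gφ.1 • algebraMap R A r) = algebraMap R A r
        rw [hRG gφ.1 r]
        exact (hψ gφ.2 ⟨algebraMap R A r, fun s => hRG s r⟩).trans (gφ.2.2 _ ⟨r, rfl⟩))
  have hbot : (⊥ : Ideal A) ≠ IsLocalRing.maximalIdeal A := fun h => by
    rw [← IsLocalRing.maximalIdeal_height_eq_ringKrullDim, ← h, Ideal.height_bot] at hdim
    exact absurd (WithBot.coe_le_coe.mp hdim) (by simp)
  have hF : Function.Injective F := by
    rintro ⟨g, φ⟩ ⟨g', φ'⟩ h
    have h1 : ∀ a : A, ψ φ (g • a) = ψ φ' (g' • a) := fun a => AlgEquiv.congr_fun h a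
    have hφ : φ = φ' := by
      refine Subtype.ext (AlgEquiv.ext fun x => Subtype.ext ?_)
      have h2 := h1 (x : A)
      rw [show g • (x : A) = x from x.2 g, show g' • (x : A) = x from x.2 g', hψ, hψ] at h2
      exact h2
    subst hφ
    refine Prod.ext ?_ rfl
    refine inv_mul_eq_one.mp ((Subgroup.eq_bot_iff_forall _).mp
      (hram ⊥ Ideal.isPrime_bot hbot) (g⁻¹ * g') fun a => ?_)
    show (g⁻¹ * g') • a - a ∈ (⊥ : Ideal A)
    rw [Ideal.mem_bot, sub_eq_zero, mul_smul, ← (ψ φ).injective (h1 a), inv_smul_smul]
  calc p * Nat.card S = Nat.card (G × S) := by rw [Nat.card_prod, hcard]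
    _ ≤ Nat.card (A ≃ₐ[R] A) := Nat.card_le_card_of_injective F hF

end Groth.Agent.S20004
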