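import Groth.Statements.S20007
import Groth.Agent.Lib.CartTorsor.Factor
import Groth.Agent.Lib.CartTorsor.Gauge
import Groth.Agent.Lib.CartTorsor.GLPts
-- import your own Groth.Agent.* helpers here

set_option autoImplicit false
universe u
open CategoryTheory MonoidalCategory CartesianMonoidalCategory MonObj AlgebraicGeometry
open GIT

namespace Groth.Agent.S20007

/-- The general linear group is special. Over an algebraically closed field k of characteristic zero,
let n be a natural number and let the group scheme GL_{n,k} (the general linear group over Spec k)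
act on a k-scheme X; let φ : X → Y be a GL_{n,k}-torsor over the k-scheme Y: the square formed by
the action, the second projection GL_{n,k} ×_k X → X and φ twice is cartesian, and φ acquires
sections on the members of some fpqc covering family of Y. Then φ is locally trivial: it acquires
sections on the members of some Zariski open covering of Y. (The statement holds over any base; the
ground field is the standing one of the text.) -/
theorem result
    (k : Type u) [Field k] [IsAlgClosed k] [CharZero k] (n : ℕ)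
    (X Y : Over (Spec (CommRingCat.of k)))
    (a : AlgGrp.Action (FrB.GLn n (Spec (CommRingCat.of k))) X) (φ : X ⟶ Y)
    (hcart : IsPullback a.act (snd (FrB.GLn n (Spec (CommRingCat.of k))) X) φ φ)
    (hloc : NonAbH1.IsLocallyTrivialFor Scheme.fpqcPrecoverage (Over.mk φ.left : Over Y.left)) :
    NonAbH1.IsLocallyTrivialFor Scheme.zariskiPrecoverage (Over.mk φ.left : Over Y.left) := by
  haveI : IsAffineHom (FrB.GLn n (Spec (CommRingCat.of k))).hom := by
    haveI : IsAffine (FrB.GLZ.{u} n).left :=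
      inferInstanceAs (IsAffine (Spec (CommRingCat.of (CoordGrp.GLn n (ULift.{u} ℤ)))))
    haveI : IsAffineHom (FrB.GLZ.{u} n).hom := isAffineHom_of_isAffine _
    exact MorphismProperty.of_isPullback (P := @IsAffineHom) (IsPullback.of_hasPullback _ _)
      ‹IsAffineHom (FrB.GLZ.{u} n).hom›
  haveI : Flat (FrB.GLn n (Spec (CommRingCat.of k))).hom := GrothLib.DiagGrp.flat_of_field _
  obtain ⟨_, _, _⟩ := GrothLib.CartTorsor.affine_flat hcart hloc
  refine GrothLib.CartTorsor.zariski_of_forall φ.left fun y => ?_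
  obtain ⟨V, hV, hyV, -⟩ := exists_isAffineOpen_mem_and_subset (x := y) (U := ⊤) trivial
  let R : CommRingCat.{u} := Γ(Y.left, V)
  let j : Spec R ⟶ Y.left := hV.fromSpec
  haveI : IsAffine (Limits.pullback φ.left j) := isAffine_of_isAffineHom (Limits.pullback.snd φ.left j)
  let A : CommRingCat.{u} := Γ(Limits.pullback φ.left j, ⊤)
  obtain ⟨ρ, hρ⟩ : ∃ ρ : R ⟶ A, Spec.map ρ =
      (Limits.pullback φ.left j).isoSpec.inv ≫ Limits.pullback.snd φ.left j := Spec.map_surjective _
  obtain ⟨ks, hks⟩ : ∃ ks : CommRingCat.of k ⟶ R, Spec.map ks = j ≫ Y.hom := Spec.map_surjective _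
  letI : Algebra R A := ρ.hom.toAlgebra
  letI : Algebra k R := ks.hom.toAlgebra
  letI : Algebra k A := (ρ.hom.comp ks.hom).toAlgebra
  haveI : IsScalarTower k R A := IsScalarTower.of_algebraMap_eq fun _ => rfl
  haveI : Module.FaithfullyFlat R A := by
    haveI h1 : Flat (Spec.map ρ) := by rw [hρ]; infer_instance
    haveI h2 : Surjective (Spec.map ρ) := by rw [hρ]; infer_instance
    haveI : Module.Flat R A := (HasRingHomProperty.Spec_iff (P := @Flat)).mp h1
    exact Module.FaithfullyFlat.of_comap_surjective h2.surj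
  let u : VecGrp.pt k A ⟶ X := Over.homMk
    ((Limits.pullback φ.left j).isoSpec.inv ≫ Limits.pullback.fst φ.left j) (by
      change _ = Spec.map (ρ.hom.comp ks.hom |> CommRingCat.ofHom)
      rw [show CommRingCat.ofHom (ρ.hom.comp ks.hom) = ks ≫ ρ from rfl, Spec.map_comp, hks, hρ,
        Category.assoc, Category.assoc, ← Limits.pullback.condition_assoc, Over.w φ])
  have hu : u.left ≫ φ.left = Spec.map (CommRingCat.ofHom (algebraMap R A)) ≫ j := by
    change (_ ≫ _) ≫ _ = Spec.map ρ ≫ j
    rw [hρ, Category.assoc, Category.assoc, Limits.pullback.condition]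
  have hcomp : ∀ {B C : Type u} [CommRing B] [Algebra k B] [CommRing C] [Algebra k C] (e : A →ₐ[k] B)
      (f : B →ₐ[k] C), VecGrp.ptMap f ≫ VecGrp.ptMap e = VecGrp.ptMap (f.comp e) := fun e f =>
    Over.OverMorphism.ext (LieS.specMap_comp e.toRingHom f.toRingHom)
  have hφ : ∀ (B : Type u) [CommRing B] [Algebra R B] [Algebra k B] [IsScalarTower k R B] (i : A →ₐ[R] B),
      ((VecGrp.ptMap (i.restrictScalars k) ≫ u) ≫ φ).left = Spec.map (CommRingCat.ofHom (algebraMap R B)) ≫ j := by
    intro B _ _ _ _ i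
    rw [Over.comp_left, Over.comp_left, Category.assoc, hu, ← Category.assoc]
    congr 1
    refine (LieS.specMap_comp _ _).trans ?_
    exact congrArg (fun g => Spec.map (CommRingCat.ofHom g)) i.comp_algebraMap
  have huniq : ∀ {T : Over (Spec (CommRingCat.of k))} (g g' : T ⟶ FrB.GLn n (Spec (CommRingCat.of k)))
      (x : T ⟶ X), lift g x ≫ a.act = lift g' x ≫ a.act → g = g' := by
    intro T g g' x h
    have h1 := congrArg (· ≫ fst _ X) (hcart.hom_ext h (show lift g x ≫ snd _ X = lift g' x ≫ snd _ X by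
      rw [lift_snd, lift_snd]))
    simpa only [lift_fst] using h1
  let B := TensorProduct R A A
  let i₁ : A →ₐ[R] B := Algebra.TensorProduct.includeLeft
  let i₂ : A →ₐ[R] B := Algebra.TensorProduct.includeRight
  let u₁ := VecGrp.ptMap (i₁.restrictScalars k) ≫ u
  let u₂ := VecGrp.ptMap (i₂.restrictScalars k) ≫ u
  have h12 : u₁ ≫ φ = u₂ ≫ φ := Over.OverMorphism.ext ((hφ B i₁).trans (hφ B i₂).symm)
  let gg := hcart.lift u₁ u₂ h12 ≫ fst _ X
  have hγ : lift gg u₂ ≫ a.act = u₁ := by
    conv_rhs => rw [← hcart.lift_fst u₁ u₂ h12]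
    congr 1
    conv_lhs => arg 2; rw [← hcart.lift_snd u₁ u₂ h12]
    rw [← comp_lift, lift_fst_snd, Category.comp_id]
  have hγmap : ∀ (C : Type u) [CommRing C] [Algebra R C] [Algebra k C] [IsScalarTower k R C] (f : B →ₐ[R] C),
      lift (VecGrp.ptMap (f.restrictScalars k) ≫ gg) (VecGrp.ptMap ((f.comp i₂).restrictScalars k) ≫ u) ≫ a.act =
        VecGrp.ptMap ((f.comp i₁).restrictScalars k) ≫ u := by
    intro C _ _ _ _ f
    have e : ∀ i : A →ₐ[R] B, VecGrp.ptMap ((f.comp i).restrictScalars k) ≫ u =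
        VecGrp.ptMap (f.restrictScalars k) ≫ VecGrp.ptMap (i.restrictScalars k) ≫ u := fun i => by
      rw [← Category.assoc, hcomp]; rfl
    rw [e, e, ← comp_lift, Category.assoc, hγ]
  have hcoc : (GrothLib.CartTorsor.toMat B gg).map (GrothLib.CartTorsor.d13 R A) =
      (GrothLib.CartTorsor.toMat B gg).map (GrothLib.CartTorsor.d12 R A) *
        (GrothLib.CartTorsor.toMat B gg).map (GrothLib.CartTorsor.d23 R A) := by
    let C := TensorProduct R A (TensorProduct R A A)
    let D₁₂ := (GrothLib.CartTorsor.d12 R A).restrictScalars k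
    let D₁₃ := (GrothLib.CartTorsor.d13 R A).restrictScalars k
    let D₂₃ := (GrothLib.CartTorsor.d23 R A).restrictScalars k
    have key : VecGrp.ptMap D₁₃ ≫ gg = (VecGrp.ptMap D₁₂ ≫ gg) * (VecGrp.ptMap D₂₃ ≫ gg) := by
      have a13 := hγmap C (GrothLib.CartTorsor.d13 R A)
      have a12 := hγmap C (GrothLib.CartTorsor.d12 R A)
      have a23 := hγmap C (GrothLib.CartTorsor.d23 R A)
      have e3 : (GrothLib.CartTorsor.d13 R A).comp i₂ = (GrothLib.CartTorsor.d23 R A).comp i₂ := by
        ext x; simp [i₂]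
      have e2 : (GrothLib.CartTorsor.d12 R A).comp i₂ = (GrothLib.CartTorsor.d23 R A).comp i₁ := by
        ext x; simp [i₁, i₂]
      have e1 : (GrothLib.CartTorsor.d13 R A).comp i₁ = (GrothLib.CartTorsor.d12 R A).comp i₁ := by
        ext x; simp [i₁, Algebra.TensorProduct.one_def]
      refine huniq _ _ (VecGrp.ptMap (((GrothLib.CartTorsor.d13 R A).comp i₂).restrictScalars k) ≫ u) ?_
      rw [a13, AlgGrp.Action.lift_mul_act, e3, a23, ← e2, a12, e1]
    have := congrArg (GrothLib.CartTorsor.toMat C) key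
    rw [GrothLib.CartTorsor.toMat_mul, GrothLib.CartTorsor.toMat_comp, GrothLib.CartTorsor.toMat_comp,
      GrothLib.CartTorsor.toMat_comp] at this
    exact this
  have hinv : GrothLib.CartTorsor.toMat B gg⁻¹ * GrothLib.CartTorsor.toMat B gg = 1 := by
    rw [← GrothLib.CartTorsor.toMat_mul, inv_mul_cancel, GrothLib.CartTorsor.toMat_one]
  obtain ⟨y₀, hy₀⟩ : y ∈ Set.range j.base := by rw [hV.range_fromSpec]; exact hyV
  obtain ⟨f, M, N, hf, hMN, hM⟩ :=
    GrothLib.CartTorsor.exists_gauge _ _ hinv hcoc (y₀ : PrimeSpectrum R).asIdeal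
  let Rf := Localization.Away f
  let A' := TensorProduct R Rf A
  let iot : A →ₐ[R] A' := Algebra.TensorProduct.includeRight
  have hdet : IsUnit (M.map iot).det := by
    have e := congrArg (fun m : Matrix (Fin n) (Fin n) A => m.map iot) hMN
    simp only [Matrix.map_mul] at e
    have e' := congrArg Matrix.det e
    rw [Matrix.det_mul] at e'
    refine isUnit_of_mul_isUnit_left (y := (N.map iot).det) ?_
    rw [e', Algebra.algebraMap_eq_smul_one]
    have : ((f • (1 : A)) • (1 : Matrix (Fin n) (Fin n) A)).map iot = algebraMap R A' f • 1 := by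
      ext i l
      by_cases h : i = l
      · subst h; simp [Matrix.map_apply, Algebra.algebraMap_eq_smul_one]
      · simp [Matrix.map_apply, Matrix.one_apply_ne h]
    rw [this, Matrix.det_smul, Matrix.det_one, _root_.mul_one, IsScalarTower.algebraMap_apply R Rf A']
    exact ((IsLocalization.Away.algebraMap_isUnit f).map (algebraMap Rf A')).pow _
  obtain ⟨m, hm⟩ := GrothLib.CartTorsor.exists_toMat (k := k) A' (M.map iot) hdet
  let x₀ : VecGrp.pt k A' ⟶ X := lift m⁻¹ (VecGrp.ptMap (iot.restrictScalars k) ≫ u) ≫ a.act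
  let c : Spec (CommRingCat.of A') ⟶ Spec (CommRingCat.of Rf) :=
    Spec.map (CommRingCat.ofHom (algebraMap Rf A'))
  haveI : Flat c := (HasRingHomProperty.Spec_iff (P := @Flat)).mpr
    (RingHom.flat_algebraMap_iff.mpr inferInstance)
  haveI : Surjective c := ⟨PrimeSpectrum.comap_surjective_of_faithfullyFlat⟩
  haveI : EffectiveEpi c :=
    GrothLib.TorsorDesc.effectiveEpi_of_localSections c (GrothLib.CartTorsor.isLocallyTrivialFor_of_flat c)
  let p₁ : A' →ₐ[R] TensorProduct R A' A' := Algebra.TensorProduct.includeLeft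
  let p₂ : A' →ₐ[R] TensorProduct R A' A' := Algebra.TensorProduct.includeRight
  have hx : VecGrp.ptMap (B' := TensorProduct R A' A') (p₁.restrictScalars k) ≫ x₀ = VecGrp.ptMap (B' := TensorProduct R A' A') (p₂.restrictScalars k) ≫ x₀ := by
    let F : B →ₐ[R] TensorProduct R A' A' := Algebra.TensorProduct.map iot iot
    have e1 : F.comp i₁ = p₁.comp iot := AlgHom.ext fun x => by
      show iot x ⊗ₜ[R] iot (1 : A) = iot x ⊗ₜ[R] (1 : A')
      rw [map_one]
    have e2 : F.comp i₂ = p₂.comp iot := AlgHom.ext fun x => by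
      show iot (1 : A) ⊗ₜ[R] iot x = (1 : A') ⊗ₜ[R] iot x
      rw [map_one]
    have hmm : VecGrp.ptMap (B' := TensorProduct R A' A') (p₁.restrictScalars k) ≫ m =
        (VecGrp.ptMap (F.restrictScalars k) ≫ gg) * (VecGrp.ptMap (B' := TensorProduct R A' A') (p₂.restrictScalars k) ≫ m) := by
      refine GrothLib.CartTorsor.toMat_injective _ ?_
      rw [GrothLib.CartTorsor.toMat_mul, GrothLib.CartTorsor.toMat_comp, GrothLib.CartTorsor.toMat_comp,
        GrothLib.CartTorsor.toMat_comp, hm, Matrix.map_map, Matrix.map_map]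
      have hM' := congrArg (fun q : Matrix (Fin n) (Fin n) B => q.map F) hM
      simp only [Matrix.map_mul, Matrix.map_map] at hM'
      have f1 : (F ∘ i₁ : A → _) = p₁ ∘ iot := funext fun x => AlgHom.congr_fun e1 x
      have f2 : (F ∘ i₂ : A → _) = p₂ ∘ iot := funext fun x => AlgHom.congr_fun e2 x
      change M.map (p₁ ∘ iot) = (GrothLib.CartTorsor.toMat B gg).map F * M.map (p₂ ∘ iot)
      rw [← f1, ← f2]
      exact hM'
    have g2 := hγmap (TensorProduct R A' A') F
    rw [e1, e2] at g2
    have hu' : ∀ q : A' →ₐ[R] TensorProduct R A' A',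
        VecGrp.ptMap (B' := TensorProduct R A' A') (q.restrictScalars k) ≫
            VecGrp.ptMap (iot.restrictScalars k) ≫ u =
          VecGrp.ptMap (B' := TensorProduct R A' A') ((q.comp iot).restrictScalars k) ≫ u := fun q => by
      rw [← Category.assoc, hcomp]; rfl
    simp only [x₀, comp_lift_assoc, GrpObj.comp_inv, hu']
    rw [hmm, _root_.mul_inv_rev, AlgGrp.Action.lift_mul_act, ← g2, ← AlgGrp.Action.lift_mul_act,
      ← AlgGrp.Action.lift_mul_act, inv_mul_cancel_right]
  let σ : Spec (CommRingCat.of Rf) ⟶ X.left := EffectiveEpi.desc c x₀.left fun {T} g₁ g₂ hg => by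
    have hg' : g₁ ≫ Spec.map (CommRingCat.ofHom (algebraMap R A')) =
        g₂ ≫ Spec.map (CommRingCat.ofHom (algebraMap R A')) := by
      rw [IsScalarTower.algebraMap_eq R Rf A', CommRingCat.ofHom_comp, Spec.map_comp]
      simp only [c] at hg
      rw [reassoc_of% hg]
    let t := Limits.pullback.lift g₁ g₂ hg' ≫ (pullbackSpecIso R A' A').hom
    have t1 : g₁ = t ≫ Spec.map (CommRingCat.ofHom p₁.toRingHom) := by
      refine (Limits.pullback.lift_fst g₁ g₂ hg').symm.trans ?_
      simp only [t, Category.assoc]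
      exact congrArg (_ ≫ ·) ((Iso.eq_inv_comp _).mp (pullbackSpecIso_inv_fst R A' A').symm).symm
    have t2 : g₂ = t ≫ Spec.map (CommRingCat.ofHom p₂.toRingHom) := by
      refine (Limits.pullback.lift_snd g₁ g₂ hg').symm.trans ?_
      simp only [t, Category.assoc]
      exact congrArg (_ ≫ ·) ((Iso.eq_inv_comp _).mp (pullbackSpecIso_inv_snd R A' A').symm).symm
    rw [t1, t2, Category.assoc, Category.assoc]
    exact congrArg (t ≫ ·) (congrArg CommaMorphism.left hx)
  have hσ : σ ≫ φ.left = Spec.map (CommRingCat.ofHom (algebraMap R Rf)) ≫ j := by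
    rw [← cancel_epi c, ← Category.assoc, EffectiveEpi.fac, ← Over.comp_left, ← Category.assoc]
    have e : x₀ ≫ φ = (VecGrp.ptMap (iot.restrictScalars k) ≫ u) ≫ φ := by
      simp only [x₀, Category.assoc, hcart.w, lift_snd_assoc]
    rw [e, hφ A' iot, ← Spec.map_comp, ← CommRingCat.ofHom_comp, ← IsScalarTower.algebraMap_eq]
  let J : Spec (CommRingCat.of Rf) ⟶ Y.left := Spec.map (CommRingCat.ofHom (algebraMap R Rf)) ≫ j
  haveI : IsOpenImmersion (Spec.map (CommRingCat.ofHom (algebraMap R Rf))) :=
    IsOpenImmersion.of_isLocalization f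
  refine ⟨J.opensRange, J.isoOpensRange.inv ≫ σ, ?_, ?_⟩
  · have hmem : (y₀ : PrimeSpectrum R) ∈ Set.range (PrimeSpectrum.comap (algebraMap R Rf)) := by
      rw [PrimeSpectrum.localization_away_comap_range Rf f]; exact hf
    obtain ⟨z, hz⟩ := hmem
    exact ⟨z, (congrArg (fun w => j.base w) hz).trans hy₀⟩
  · rw [Category.assoc, hσ, Scheme.Hom.isoOpensRange_inv_comp]

end Groth.Agent.S20007
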