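import Groth.Statements.S20008
import Groth.Agent.Lib.CartTorsor.Factor
import Groth.Agent.Lib.GrpSchField.HomFlat
import Groth.Agent.Lib.GrpSchField.Criteria
import Groth.Agent.Lib.RedSmooth.Basic
-- import your own Groth.Agent.* helpers here

set_option autoImplicit false
universe u
open CategoryTheory MonoidalCategory CartesianMonoidalCategory MonObj AlgebraicGeometry
open GIT

namespace Groth.Agent.S20008

/-- An extension of special groups is special. Over an algebraically closed field k of characteristic
zero, let G be an affine group scheme of finite type over k with a closed normal subgroup scheme N,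
the kernel of a surjective homomorphism q : G → Q onto an affine group scheme Q of finite type over
k (the factor group G/N). Call an affine group scheme H of finite type over k special when for every
action of H on a k-scheme X and every morphism ψ : X → Y of k-schemes which is an H-torsor over Y —
the square formed by the action, the second projection H ×_k X → X and ψ twice is cartesian, and ψ
acquires sections on the members of some fpqc covering family of Y — the morphism ψ acquires
sections on the members of some Zariski open covering of Y. If N and Q are special, then G is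
special. -/
theorem result
    (k : Type u) [Field k] [IsAlgClosed k] [CharZero k]
    (G N Q : Over (Spec (CommRingCat.of k))) [GrpObj G] [GrpObj N] [GrpObj Q]
    [IsAffine G.left] [LocallyOfFiniteType G.hom]
    (iN : N ⟶ G) [IsMonHom iN] [IsClosedImmersion iN.left] (hnorm : AlgGrp.IsNormalHom iN)
    (q : G ⟶ Q) [IsMonHom q] [Surjective q.left] [IsAffine Q.left] [LocallyOfFiniteType Q.hom]
    (hker : AlgGrp.IsKernel iN q)
    (hN : ∀ (X Y : Over (Spec (CommRingCat.of k))) (b : AlgGrp.Action N X) (ψ : X ⟶ Y),
      IsPullback b.act (snd N X) ψ ψ →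
      NonAbH1.IsLocallyTrivialFor Scheme.fpqcPrecoverage (Over.mk ψ.left : Over Y.left) →
      NonAbH1.IsLocallyTrivialFor Scheme.zariskiPrecoverage (Over.mk ψ.left : Over Y.left))
    (hQ : ∀ (X Y : Over (Spec (CommRingCat.of k))) (b : AlgGrp.Action Q X) (ψ : X ⟶ Y),
      IsPullback b.act (snd Q X) ψ ψ →
      NonAbH1.IsLocallyTrivialFor Scheme.fpqcPrecoverage (Over.mk ψ.left : Over Y.left) →
      NonAbH1.IsLocallyTrivialFor Scheme.zariskiPrecoverage (Over.mk ψ.left : Over Y.left))
    (X Y : Over (Spec (CommRingCat.of k))) (a : AlgGrp.Action G X) (φ : X ⟶ Y)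
    (hcart : IsPullback a.act (snd G X) φ φ)
    (hloc : NonAbH1.IsLocallyTrivialFor Scheme.fpqcPrecoverage (Over.mk φ.left : Over Y.left)) :
    NonAbH1.IsLocallyTrivialFor Scheme.zariskiPrecoverage (Over.mk φ.left : Over Y.left) := by
  haveI : IsAffineHom G.hom := isAffineHom_of_isAffine _
  haveI : IsAffineHom Q.hom := isAffineHom_of_isAffine _
  haveI : IsAffineHom q.left := isAffineHom_of_isAffine _
  haveI : Flat G.hom := GrothLib.DiagGrp.flat_of_field _
  haveI : IsLocallyNoetherian (Spec (CommRingCat.of k)) := inferInstance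
  haveI : LocallyOfFinitePresentation G.hom := inferInstance
  haveI : Smooth Q.hom := GrothLib.GrpSchField.smooth_of_charZero Q
  haveI : AlgebraicGeometry.IsReduced Q.left := GrothLib.RedSmooth.isReduced_of_smooth Q.hom
  haveI : Flat q.left := GrothLib.GrpSchField.flat_hom q
  obtain ⟨W, b, π₁, r, hfac, hb, hrloc, hπ, hπloc⟩ := GrothLib.CartTorsor.exists_factor hker hcart hloc
  have h2 := hQ W Y b r hb hrloc
  have h1 := hN X W (a.restrict iN) π₁ hπ hπloc
  refine GrothLib.CartTorsor.zariski_of_forall φ.left fun y => ?_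
  obtain ⟨U, s, hy, hs⟩ := GrothLib.CartTorsor.forall_of_zariski h2 y
  obtain ⟨V, t, hV, ht⟩ := GrothLib.CartTorsor.forall_of_zariski h1 (s ⟨y, hy⟩)
  let i : ((U.ι ''ᵁ (s ⁻¹ᵁ V)) : Scheme.{u}) ⟶ (U : Scheme.{u}) :=
    IsOpenImmersion.lift U.ι (U.ι ''ᵁ (s ⁻¹ᵁ V)).ι (by
      rw [Scheme.Opens.range_ι, Scheme.Opens.range_ι]; exact U.ι_image_le _)
  have hi : i ≫ U.ι = (U.ι ''ᵁ (s ⁻¹ᵁ V)).ι := IsOpenImmersion.lift_fac _ _ _
  have hrange : Set.range (i ≫ s).base ⊆ Set.range V.ι.base := by
    rintro _ ⟨z, rfl⟩
    rw [Scheme.Opens.range_ι]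
    obtain ⟨z', hz', hzz'⟩ := z.2
    have : i z = z' := U.ι.isOpenEmbedding.injective (by
      rw [← Scheme.Hom.comp_apply, hi]; exact hzz'.symm)
    change s (i z) ∈ V
    rw [this]
    exact hz'
  refine ⟨_, IsOpenImmersion.lift V.ι (i ≫ s) hrange ≫ t, ⟨⟨y, hy⟩, hV, rfl⟩, ?_⟩
  rw [← hfac, Over.comp_left, Category.assoc, reassoc_of% ht, IsOpenImmersion.lift_fac_assoc,
    Category.assoc, hs, hi]

end Groth.Agent.S20008
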