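import Groth.Statements.S2001
import Groth.Agent.Lib.Glue.Torsion
-- import your own Groth.Agent.* helpers here

set_option autoImplicit false
universe u
open TensorProduct
open EtAlg

namespace Groth.Agent.S2001

/-- Let (R -> R', f) be a glueing pair and M, N R-modules glueable for it. Given an R'-linear map φ' :
R' ⊗_R M -> R' ⊗_R N and an R-linear map φ₁ : M_f -> N_f which induce the same map into (R' ⊗_R N)_f
on elements of M, there is a unique R-linear map ψ : M -> N whose base change to R' is φ' and whose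
localization is φ₁. -/
theorem result (R R' : Type u) [CommRing R] [CommRing R'] [Algebra R R'] (f : R)
    (hRR : EtGlue.IsGlueingPair R R' f) (M N : Type u) [AddCommGroup M] [Module R M] [AddCommGroup N] [Module R N]
    (hM : EtGlue.IsGlueable R R' f M) (hN : EtGlue.IsGlueable R R' f N)
    (φ' : R' ⊗[R] M →ₗ[R'] R' ⊗[R] N)
    (φ₁ : LocalizedModule (Submonoid.powers f) M →ₗ[R] LocalizedModule (Submonoid.powers f) N)
    (hc : ∀ m : M, EtGlue.locOfTensor R R' f N (φ' ((1 : R') ⊗ₜ[R] m)) =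
      EtGlue.tensorOfLoc R R' f N (φ₁ (LocalizedModule.mkLinearMap (Submonoid.powers f) M m))) :
    ∃! ψ : M →ₗ[R] N, ψ.baseChange R' = φ' ∧
      IsLocalizedModule.map (Submonoid.powers f) (LocalizedModule.mkLinearMap (Submonoid.powers f) M)
        (LocalizedModule.mkLinearMap (Submonoid.powers f) N) ψ = φ₁ := by
  let mkM := LocalizedModule.mkLinearMap (Submonoid.powers f) M
  let mkN := LocalizedModule.mkLinearMap (Submonoid.powers f) N
  have h : ∀ m : M, ∃ n : N, (1 : R') ⊗ₜ[R] n = φ' ((1 : R') ⊗ₜ[R] m) ∧ mkN n = φ₁ (mkM m) :=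
    fun m => hN.2 _ _ (hc m)
  choose g hg₁ hg₂ using h
  have huniq : ∀ (m : M) (n : N), (1 : R') ⊗ₜ[R] n = φ' ((1 : R') ⊗ₜ[R] m) → mkN n = φ₁ (mkM m) →
      g m = n := fun m n h₁ h₂ => hN.1 (Prod.ext ((hg₁ m).trans h₁.symm) ((hg₂ m).trans h₂.symm))
  refine ⟨{ toFun := g, map_add' := fun a b => ?_, map_smul' := fun c a => ?_ }, ⟨?_, ?_⟩,
    fun ψ hψ => ?_⟩
  · refine huniq _ _ ?_ ?_
    · rw [tmul_add, hg₁, hg₁, tmul_add, map_add]
    · rw [map_add, hg₂, hg₂, map_add, map_add]
  · refine huniq _ _ ?_ ?_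
    · rw [RingHom.id_apply, tmul_smul, tmul_smul, hg₁, LinearMap.map_smul_of_tower]
    · rw [RingHom.id_apply, map_smul, hg₂, map_smul, map_smul]
  · refine TensorProduct.AlgebraTensorModule.ext fun s m => ?_
    rw [LinearMap.baseChange_tmul]
    show s ⊗ₜ[R] g m = φ' (s ⊗ₜ[R] m)
    have e : ∀ {P : Type u} [AddCommGroup P] [Module R P] (p : P),
        s ⊗ₜ[R] p = s • ((1 : R') ⊗ₜ[R] p) := fun p => by rw [smul_tmul', smul_eq_mul, mul_one]
    rw [e, e m, map_smul, hg₁]
  · refine IsLocalizedModule.ext (Submonoid.powers f) mkM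
      (IsLocalizedModule.map_units mkN) (LinearMap.ext fun m => ?_)
    rw [LinearMap.comp_apply, IsLocalizedModule.map_apply, LinearMap.comp_apply]
    exact hg₂ m
  · refine LinearMap.ext fun m => (huniq m (ψ m) ?_ ?_).symm
    · rw [← hψ.1, LinearMap.baseChange_tmul]
    · rw [← hψ.2, IsLocalizedModule.map_apply]

end Groth.Agent.S2001
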