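import Groth.Statements.S20010
import Mathlib.AlgebraicGeometry.AffineTransitionLimit
-- import your own Groth.Agent.* helpers here

set_option autoImplicit false
universe u
open CategoryTheory CategoryTheory.Limits AlgebraicGeometry TopologicalSpace
open ModPair

namespace Groth.Agent.S20010

/-- Let (X_i) be a cofiltered system of schemes with affine transition morphisms such that X_{i₀} is
quasi-compact and quasi-separated for some index i₀, let X be its limit, and let {U_a ⟶ X} be a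
family of quasi-compact open immersions (open immersions of finite presentation) which is jointly
surjective (a covering family for the Zariski class). Then the covering descends: for some index i
there is a finite jointly surjective family {V_j ⟶ X_i}_{j < n} of quasi-compact open immersions
such that every V_j ×_{X_i} X is one of the U_a, i.e. for each j some U_{a_j} ⟶ X is the base change
of V_j ⟶ X_i along X ⟶ X_i. -/
theorem result {I : Type u} [SmallCategory I] [IsCofiltered I]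
    (D : I ⥤ Scheme.{u}) (c : Cone D) (hc : IsLimit c)
    [∀ (i j : I) (t : i ⟶ j), IsAffineHom (D.map t)] (i₀ : I) [CompactSpace (D.obj i₀)]
    [QuasiSeparatedSpace (D.obj i₀)] {ι : Type u} (U : ι → Scheme.{u}) (u : ∀ a, U a ⟶ c.pt)
    [∀ a, IsOpenImmersion (u a)] [∀ a, QuasiCompact (u a)] (hcov : ∀ x : c.pt, ∃ (a : ι) (y : U a), (u a).base y = x) :
    ∃ (i : I) (n : ℕ) (V : Fin n → Scheme.{u}) (v : ∀ j, V j ⟶ D.obj i) (a : Fin n → ι)
      (e : ∀ j, U (a j) ⟶ V j),
      (∀ j, IsOpenImmersion (v j) ∧ QuasiCompact (v j)) ∧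
      (∀ x : D.obj i, ∃ (j : Fin n) (y : V j), (v j).base y = x) ∧
      ∀ j, IsPullback (e j) (u (a j)) (v j) (c.π.app i) := by
  classical
  haveI := isAffineHom_π_app D c hc i₀
  haveI : CompactSpace c.pt := QuasiCompact.compactSpace_of_compactSpace (c.π.app i₀)
  obtain ⟨t, ht⟩ := isCompact_univ.elim_finite_subcover (fun a => Set.range (u a))
    (fun a => (u a).isOpenEmbedding.isOpen_range)
    (fun x _ => by obtain ⟨a, y, hy⟩ := hcov x; exact Set.mem_iUnion.2 ⟨a, y, hy⟩)
  let n := t.card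
  let a : Fin n → ι := fun k => (t.equivFin.symm k).1
  have hc' : ∀ k, IsCompact ((u (a k)).opensRange : Set c.pt) := fun k => by
    haveI : CompactSpace (U (a k)) := QuasiCompact.compactSpace_of_compactSpace (u (a k))
    exact isCompact_range (u (a k)).continuous
  choose i₁ V₁ hV₁ hV₁' using fun k => exists_preimage_eq D c hc _ (hc' k)
  obtain ⟨i₂, hi₂⟩ := IsCofiltered.inf_objs_exists (insert i₀ (Finset.univ.image i₁))
  have f₁ : ∀ k, i₂ ⟶ i₁ k := fun k => (hi₂ (by simp)).some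
  have f₀ : i₂ ⟶ i₀ := (hi₂ (by simp)).some
  haveI : CompactSpace (D.obj i₂) := QuasiCompact.compactSpace_of_compactSpace (D.map f₀)
  let W : (D.obj i₂).Opens := ⨆ k, D.map (f₁ k) ⁻¹ᵁ V₁ k
  have hW : c.π.app i₂ ⁻¹ᵁ (⊤ : (D.obj i₂).Opens) ≤ c.π.app i₂ ⁻¹ᵁ W := fun x _ => by
    obtain ⟨b, hb⟩ := Set.mem_iUnion.1 (ht (Set.mem_univ x))
    obtain ⟨hbt, y, hy⟩ := Set.mem_iUnion.1 hb
    refine Opens.mem_iSup.2 ⟨t.equivFin ⟨b, hbt⟩, ?_⟩
    show x ∈ c.π.app i₂ ⁻¹ᵁ (D.map (f₁ _) ⁻¹ᵁ V₁ _)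
    rw [← Scheme.Hom.comp_preimage, c.w, hV₁']
    have h : ∀ a', a' = b → x ∈ (u a').opensRange := by rintro _ rfl; exact ⟨y, hy⟩
    exact h _ (by simp [a])
  obtain ⟨i, f, hf⟩ := exists_map_preimage_le_map_preimage D c hc isCompact_univ hW
  haveI : CompactSpace (D.obj i) := QuasiCompact.compactSpace_of_compactSpace (D.map (f ≫ f₀))
  haveI : QuasiSeparatedSpace (D.obj i) := quasiSeparatedSpace_of_quasiSeparated (D.map (f ≫ f₀))
  let V : Fin n → (D.obj i).Opens := fun k => D.map (f ≫ f₁ k) ⁻¹ᵁ V₁ k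
  have hpre : ∀ k, c.π.app i ⁻¹ᵁ V k = (u (a k)).opensRange := fun k => by
    rw [← Scheme.Hom.comp_preimage, c.w, hV₁']
  let e : ∀ k, U (a k) ⟶ (V k : Scheme.{u}) := fun k => IsOpenImmersion.lift (V k).ι (u (a k) ≫ c.π.app i) (by
    rintro _ ⟨y, rfl⟩
    rw [Scheme.Opens.range_ι, Scheme.Hom.comp_apply]
    exact (hpre k).ge ⟨y, rfl⟩)
  refine ⟨i, n, fun k => (V k : Scheme.{u}), fun k => (V k).ι, a, e, fun k => ⟨inferInstance, ?_⟩, fun x => ?_,
    fun k => IsOpenImmersion.isPullback (e k) (u (a k)) (V k).ι (c.π.app i) (by simp [e]) (by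
      rw [Scheme.Opens.opensRange_ι]; exact hpre k)⟩
  · haveI : CompactSpace (V k : Scheme.{u}) :=
      isCompact_iff_compactSpace.1 (QuasiCompact.isCompact_preimage (f := D.map (f ≫ f₁ k)) _ (V₁ k).2 (hV₁ k))
    exact quasiCompact_of_compactSpace _
  · have hx := hf (show x ∈ D.map f ⁻¹ᵁ (⊤ : (D.obj i₂).Opens) from trivial)
    obtain ⟨k, hk⟩ := Opens.mem_iSup.1 hx
    have hk' : x ∈ V k := by
      simp only [V, D.map_comp]
      exact hk
    exact ⟨k, ⟨x, hk'⟩, rfl⟩

end Groth.Agent.S20010
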