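import Groth.Statements.S20012
import Groth.Agent.Lib.ModLim8.ModMain

set_option autoImplicit false
universe u
open CategoryTheory CategoryTheory.Limits AlgebraicGeometry TopologicalSpace
open ModPair

namespace Groth.Agent.S20012

/-- Let (S, I_S) be a modulus pair — a scheme with the quasi-coherent ideal sheaf of an effective
Cartier divisor — with S quasi-compact and quasi-separated, and let (X, I_X) be a modulus pair with
an ambient morphism f : X ⟶ S (modulus condition I_X ≤ I_S.comap f) which is quasi-compact and
separated. Then (X, I_X) is a limit of finite-type S-pairs along affine, minimal,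
scheme-theoretically dominant transitions: there are a cofiltered system D of S-schemes with limit X
(as an S-scheme) and quasi-coherent ideal sheaves J_i of effective Cartier divisors on its members
such that every X_i ⟶ S is separated and of finite type and satisfies the modulus condition J_i ≥
I_S pulled back, every transition morphism is affine, minimal (J_i is the pull-back of J_j) and
scheme-theoretically dominant, and I_X is the pull-back of J_i along the projection for every i.
(The full faithfulness half of the published statement is the hom formula for such systems and is
not part of this row.) -/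
theorem result
    {X S : Scheme.{u}} [CompactSpace S] [QuasiSeparatedSpace S]
    (IS : S.IdealSheafData) (hS : BlowUp.IsEffCartierIdeal IS)
    (IX : X.IdealSheafData) (hX : BlowUp.IsEffCartierIdeal IX)
    (f : X ⟶ S) [QuasiCompact f] [IsSeparated f] (hf : ModPair.IsAmbient IX IS f) :
    ∃ (I : Type u) (_ : SmallCategory I) (_ : IsCofiltered I) (D : I ⥤ Over S) (c : Cone D)
      (_ : IsLimit c) (e : c.pt ≅ Over.mk f) (J : ∀ i, (D.obj i).left.IdealSheafData),
      (∀ i, BlowUp.IsEffCartierIdeal (J i)) ∧
      (∀ i, LocallyOfFiniteType (D.obj i).hom ∧ QuasiCompact (D.obj i).hom ∧ IsSeparated (D.obj i).hom) ∧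
      (∀ i, ModPair.IsAmbient (J i) IS (D.obj i).hom) ∧
      (∀ (i j : I) (t : i ⟶ j), IsAffineHom (D.map t).left ∧ ModPair.IsMinimal (J i) (J j) (D.map t).left ∧
          IsSchemeTheoreticallyDominant (D.map t).left) ∧
      (∀ i, IX = (J i).comap (e.inv.left ≫ (c.π.app i).left)) := by
  exact GrothLib.ModLim8.exists_pairs_approx IS IX hX f hf

end Groth.Agent.S20012
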