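import Groth.Statements.S20013
import Groth.Agent.Lib.RegQCoh16.Basic
import Mathlib.Algebra.Homology.Augment

set_option autoImplicit false
universe u
open KRR

namespace Groth.Agent.S20013

section
set_option backward.isDefEq.respectTransparency false
set_option linter.all false
open CategoryTheory CategoryTheory.Limits AlgebraicGeometry
open GrothLib.RegSheaf GrothLib.RegQCoh16
noncomputable section

variable {n : ℕ} {T : Scheme.{u}}

theorem qcoh_twF (d : ℤ) (F : (KRR.PY n T).Modules) [hF : F.IsQuasicoherent] :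
    (KRR.twF n T d F).IsQuasicoherent :=
  @GrothLib.GenFlatBC9.isQuasicoherent_tens _ (Twist.twistOver n T d) F
    (isQuasicoherent_of_invertible (isInvertible_twistOver d)) hF

theorem van_zero_iff (M : (KRR.PY n T).Modules) :
    Van (KRR.pr n T) M 0 ↔ IsZero ((Coh.pushAb (KRR.pr n T)).obj (Coh.toAb M)) :=
  ⟨fun h => h.of_iso ((Coh.pushAb (KRR.pr n T)).rightDerivedZeroIsoSelf.app _).symm,
    fun h => h.of_iso ((Coh.pushAb (KRR.pr n T)).rightDerivedZeroIsoSelf.app _)⟩

/-- All direct images of the kernel vanish when those of the other two terms do. -/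
theorem van_X₁ {S : ShortComplex (KRR.PY n T).Modules} (hS : S.ShortExact)
    (h₂ : ∀ q, Van (KRR.pr n T) S.X₂ q) (h₃ : ∀ q, Van (KRR.pr n T) S.X₃ q) (q : ℕ) :
    Van (KRR.pr n T) S.X₁ q := by
  have hS' := GrothLib.QCoh.toAbFun_map_shortExact _ hS
  match q with
  | 0 =>
    rw [van_zero_iff]
    haveI := hS'.mono_f
    haveI : Mono ((Coh.pushAb (KRR.pr n T)).map (S.map (GrothLib.QCoh.toAbFun (KRR.PY n T))).f) :=
      inferInstance
    exact IsZero.of_mono ((Coh.pushAb (KRR.pr n T)).map (S.map (GrothLib.QCoh.toAbFun (KRR.PY n T))).f)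
      ((van_zero_iff S.X₂).1 (h₂ 0))
  | 1 =>
    haveI : Epi ((Coh.pushAb (KRR.pr n T)).map (S.map (GrothLib.QCoh.toAbFun (KRR.PY n T))).g) :=
      ⟨fun _ _ _ => ((van_zero_iff S.X₃).1 (h₃ 0)).eq_of_src _ _⟩
    exact isZero_rightDerived_X₁_one (Coh.pushAb (KRR.pr n T)) _ hS' (h₂ 1)
  | k + 2 => exact isZero_rightDerived_X₁ (Coh.pushAb (KRR.pr n T)) k _ hS' (h₂ _) (h₃ _)

/-- The counit sequence. -/
def seq (G : (KRR.PY n T).Modules) : ShortComplex (KRR.PY n T).Modules :=
  ShortComplex.mk (kernel.ι ((Scheme.Modules.pullbackPushforwardAdjunction (KRR.pr n T)).counit.app G))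
    ((Scheme.Modules.pullbackPushforwardAdjunction (KRR.pr n T)).counit.app G) (kernel.condition _)

theorem seq_shortExact {G : (KRR.PY n T).Modules} [G.IsQuasicoherent] (hG : KRR.IsRegSheaf n T G) :
    (seq G).ShortExact := by
  haveI := GrothLib.RegSheaf.epi_counit hG
  exact { exact := ShortComplex.exact_of_f_is_kernel _ (kernelIsKernel _)
          epi_g := GrothLib.RegSheaf.epi_counit hG
          mono_f := inferInstanceAs (Mono (kernel.ι _)) }

/-- The twists `-1, …, -k` are killed by every direct image. -/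
def Low (k : ℕ) (G : (KRR.PY n T).Modules) : Prop :=
  ∀ j : ℕ, 1 ≤ j → j ≤ k → ∀ q, Van (KRR.pr n T) (KRR.twF n T (-(j : ℤ)) G) q

theorem step {G : (KRR.PY n T).Modules} [G.IsQuasicoherent] (hG : KRR.IsRegSheaf n T G) {k : ℕ} (hk : k ≤ n)
    (hlow : Low k G) :
    (seq G).X₁.IsQuasicoherent ∧ KRR.IsRegSheaf n T (KRR.twF n T 1 (seq G).X₁) ∧
      Low (k + 1) (KRR.twF n T 1 (seq G).X₁) ∧
      IsZero ((Scheme.Modules.pushforward (KRR.pr n T)).obj (seq G).X₁) := by
  haveI := GrothLib.Chow.isProper_toBase n T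
  let A := (Scheme.Modules.pushforward (KRR.pr n T)).obj G
  haveI : A.IsQuasicoherent := GrothLib.QCoh.isQuasicoherent_pushforward (KRR.pr n T) G
  haveI : ((Scheme.Modules.pullback (KRR.pr n T)).obj A).IsQuasicoherent :=
    GrothLib.FittSheaf.isQuasicoherent_pullback _ A
  haveI : ((Scheme.Modules.pushforward (KRR.pr n T) ⋙ Scheme.Modules.pullback (KRR.pr n T)).obj G).IsQuasicoherent :=
    ‹((Scheme.Modules.pullback (KRR.pr n T)).obj A).IsQuasicoherent›
  haveI hq2 : (seq G).X₂.IsQuasicoherent := ‹((Scheme.Modules.pullback (KRR.pr n T)).obj A).IsQuasicoherent›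
  have hS := seq_shortExact hG
  haveI : ((𝟭 (KRR.PY n T).Modules).obj G).IsQuasicoherent := ‹G.IsQuasicoherent›
  haveI hq : (seq G).X₁.IsQuasicoherent := GrothLib.QCoh.isQuasicoherent_kernel _
  haveI hi : IsIso ((Scheme.Modules.pushforward (KRR.pr n T)).map (seq G).g) := isIso_push_counit G
  have h₂ : KRR.IsRegSheaf n T (KRR.twF n T 1 (seq G).X₂) := fun i hi => by
    by_cases hin : i ≤ n + 1
    · exact van_of_iso (KRR.pr n T) (nonempty_twF_twF (by ring) _).some.symm
        (GrothLib.RegQCoh16.van_twF_pullback A (d := -(i : ℤ) + 1) (by omega) (Or.inl hi))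
    · haveI := qcoh_twF (n := n) (T := T) 1 (seq G).X₂
      haveI := qcoh_twF (n := n) (T := T) (-(i : ℤ)) (KRR.twF n T 1 (seq G).X₂)
      exact van_of_lt _ (by omega)
  haveI : Epi ((Scheme.Modules.pushforward (KRR.pr n T)).map (seq G).g) := inferInstance
  have hreg := isRegSheaf_twF_one_X₁ hS h₂ hG
  have hzero : IsZero ((Scheme.Modules.pushforward (KRR.pr n T)).obj (seq G).X₁) := by
    haveI := hS.mono_f
    haveI : (Scheme.Modules.pushforward (KRR.pr n T)).IsRightAdjoint :=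
      (Scheme.Modules.pullbackPushforwardAdjunction (KRR.pr n T)).isRightAdjoint
    refine IsZero.of_mono_eq_zero ((Scheme.Modules.pushforward (KRR.pr n T)).map (seq G).f) ?_
    rw [← cancel_mono ((Scheme.Modules.pushforward (KRR.pr n T)).map (seq G).g), ← Functor.map_comp,
      (seq G).zero, Functor.map_zero, zero_comp]
  refine ⟨hq, hreg, fun j hj hjk q => ?_, hzero⟩
  obtain ⟨i, rfl⟩ : ∃ i, j = i + 1 := ⟨j - 1, by omega⟩
  refine van_of_iso (KRR.pr n T) (nonempty_twF_twF (a := -((i + 1 : ℕ) : ℤ)) (b := 1) (c := -(i : ℤ))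
    (by push_cast; ring) (seq G).X₁).some.symm ?_
  rcases Nat.eq_zero_or_pos i with rfl | hi0
  · refine van_of_iso (KRR.pr n T) (nonempty_twF_zero (seq G).X₁).some.symm ?_
    match q with
    | 0 => exact (van_zero_iff _).2 ((GrothLib.QCoh.toAbFun T).map_isZero hzero)
    | 1 =>
      exact van_of_iso (KRR.pr n T) ((nonempty_twF_twF (a := -((1 : ℕ) : ℤ)) (b := 1) (c := 0)
        (by norm_num) (seq G).X₁).some ≪≫ (nonempty_twF_zero (seq G).X₁).some) (hreg 1 le_rfl)
    | p + 2 =>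
      exact isZero_rightDerived_X₁ (Coh.pushAb (KRR.pr n T)) p _
        (GrothLib.QCoh.toAbFun_map_shortExact _ hS)
        (van_of_iso (KRR.pr n T) (nonempty_twF_zero _).some
          (GrothLib.RegQCoh16.van_twF_pullback A (d := 0) (q := p + 2) (by omega) (Or.inl (by omega))))
        (van_zero_twist hG (by omega))
  · exact van_X₁ (twF_map_shortExact (-(i : ℤ)) hS)
      (fun q => GrothLib.RegQCoh16.van_twF_pullback A (d := -(i : ℤ)) (by omega) (Or.inr (by omega)))
      (fun q => hlow i hi0 (by omega) q) q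

/-- The last kernel is zero. -/
theorem isIso_counit_last {G : (KRR.PY n T).Modules} [G.IsQuasicoherent] (hG : KRR.IsRegSheaf n T G)
    (hlow : Low n G) : IsIso ((Scheme.Modules.pullbackPushforwardAdjunction (KRR.pr n T)).counit.app G) := by
  obtain ⟨hq, -, hl, hzero⟩ := step hG le_rfl hlow
  haveI := hq
  have hH : KRR.IsRegSheaf n T (seq G).X₁ := fun i hi => by
    by_cases hin : i ≤ n
    · exact van_of_iso (KRR.pr n T) (nonempty_twF_twF (a := -((i + 1 : ℕ) : ℤ)) (b := 1) (c := -(i : ℤ))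
        (by push_cast; ring) (seq G).X₁).some (hl (i + 1) (by omega) (by omega) i)
    · haveI := qcoh_twF (n := n) (T := T) (-(i : ℤ)) (seq G).X₁
      exact van_of_lt _ (by omega)
  haveI := GrothLib.RegSheaf.epi_counit hH
  haveI : (Scheme.Modules.pullback (KRR.pr n T)).Additive :=
    (Scheme.Modules.pullbackPushforwardAdjunction (KRR.pr n T)).left_adjoint_additive
  have hz : IsZero (seq G).X₁ := IsZero.of_epi
    ((Scheme.Modules.pullbackPushforwardAdjunction (KRR.pr n T)).counit.app (seq G).X₁)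
    ((Scheme.Modules.pullback (KRR.pr n T)).map_isZero hzero)
  have hS := seq_shortExact hG
  haveI := hS.epi_g
  haveI : Mono (seq G).g := hS.exact.mono_g (hz.eq_of_src _ _)
  exact isIso_of_mono_of_epi (seq G).g

/-- Resolutions by twists of modules from the base. -/
def Res (m : ℕ) (e : ℤ) (F : (KRR.PY n T).Modules) : Prop :=
  ∃ (Tm : ℕ → T.Modules) (C : ChainComplex (KRR.PY n T).Modules ℕ) (π : C.X 0 ⟶ F) (w : C.d 1 0 ≫ π = 0),
    (∀ i, Coh.IsQCoh (Tm i)) ∧
    (∀ i, i ≤ m → Nonempty (C.X i ≅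
      KRR.twF n T (-(e + (i : ℤ))) ((Scheme.Modules.pullback (KRR.pr n T)).obj (Tm i)))) ∧
    (∀ i, m < i → IsZero (C.X i)) ∧
    (∀ i, 1 ≤ i → C.ExactAt i) ∧ Epi π ∧ (ShortComplex.mk (C.d 1 0) π w).Exact

theorem res_zero {F : (KRR.PY n T).Modules} (e : ℤ) (A : T.Modules) (hA : Coh.IsQCoh A)
    (t : KRR.twF n T (-e) ((Scheme.Modules.pullback (KRR.pr n T)).obj A) ≅ F) : Res 0 e F := by
  let C := (ChainComplex.single₀ (KRR.PY n T).Modules).obj
    (KRR.twF n T (-e) ((Scheme.Modules.pullback (KRR.pr n T)).obj A))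
  have hz : ∀ i : ℕ, 0 < i → IsZero (C.X i) := fun i hi =>
    HomologicalComplex.isZero_single_obj_X (ComplexShape.down ℕ) 0 _ i (by omega)
  refine ⟨fun _ => A, C, (HomologicalComplex.singleObjXSelf (ComplexShape.down ℕ) 0 _).hom ≫ t.hom,
    (hz 1 one_pos).eq_of_src _ _, fun _ => hA, fun i hi => ?_, hz,
    fun i hi => ShortComplex.exact_of_isZero_X₂ _ (hz i hi), inferInstance, ?_⟩
  · obtain rfl : i = 0 := by omega
    exact ⟨HomologicalComplex.singleObjXSelf (ComplexShape.down ℕ) 0 _ ≪≫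
      eqToIso (by norm_num)⟩
  · rw [ShortComplex.exact_iff_mono _ ((hz 1 one_pos).eq_of_src _ _)]
    infer_instance

theorem res_succ {F : (KRR.PY n T).Modules} (m : ℕ) (e : ℤ) (A : T.Modules) (hA : Coh.IsQCoh A)
    {S : ShortComplex (KRR.PY n T).Modules} (hS : S.ShortExact)
    (t : S.X₂ ≅ KRR.twF n T (-e) ((Scheme.Modules.pullback (KRR.pr n T)).obj A)) (s : S.X₃ ≅ F)
    {F' : (KRR.PY n T).Modules} (s' : F' ≅ S.X₁) (h : Res m (e + 1) F') : Res (m + 1) e F := by
  obtain ⟨Tm, C, π, w, hq, hX, hzero, hhom, hπ, hex⟩ := h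
  haveI := hS.mono_f
  haveI := hS.epi_g
  let f := s'.hom ≫ S.f
  have hf : f ≫ S.g ≫ s.hom = 0 := by simp [f]
  have w' : C.d 1 0 ≫ π ≫ f = 0 := by rw [← Category.assoc, w, zero_comp]
  let D := ChainComplex.augment C (π ≫ f) w'
  refine ⟨fun i => i.casesOn A Tm, D, S.g ≫ s.hom,
    show (π ≫ f) ≫ S.g ≫ s.hom = 0 by rw [Category.assoc, hf, comp_zero],
    fun i => by cases i <;> [exact hA; exact hq _], fun i hi => ?_, fun i hi => ?_, fun i hi => ?_,
    epi_comp S.g s.hom, ?_⟩
  · rcases i with _ | q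
    · exact ⟨t ≪≫ eqToIso (by norm_num)⟩
    · obtain ⟨c⟩ := hX q (by omega)
      exact ⟨c ≪≫ eqToIso (by push_cast; ring_nf)⟩
  · obtain ⟨q, rfl⟩ : ∃ q, i = q + 1 := ⟨i - 1, by omega⟩
    exact hzero q (by omega)
  · obtain ⟨q, rfl⟩ : ∃ q, i = q + 1 := ⟨i - 1, by omega⟩
    rw [HomologicalComplex.exactAt_iff' D (q + 2) (q + 1) q ((ComplexShape.down ℕ).prev_eq' rfl)
        ((ComplexShape.down ℕ).next_eq' rfl)]
    rcases q with _ | q
    · let a : ShortComplex.mk (C.d 1 0) π w ⟶ D.sc' 2 1 0 :=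
        { τ₁ := 𝟙 (C.X 1), τ₂ := 𝟙 (C.X 0), τ₃ := f,
          comm₁₂ := (Category.id_comp _).trans (Category.comp_id _).symm,
          comm₂₃ := Category.id_comp _ }
      haveI : Epi a.τ₁ := inferInstanceAs (Epi (𝟙 (C.X 1)))
      haveI : IsIso a.τ₂ := inferInstanceAs (IsIso (𝟙 (C.X 0)))
      haveI : Mono a.τ₃ := inferInstanceAs (Mono (s'.hom ≫ S.f))
      exact (ShortComplex.exact_iff_of_epi_of_isIso_of_mono a).1 hex
    · have h1 := hhom (q + 1) (by omega)
      rw [HomologicalComplex.exactAt_iff' C (q + 2) (q + 1) q ((ComplexShape.down ℕ).prev_eq' rfl)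
          ((ComplexShape.down ℕ).next_eq' rfl)] at h1
      exact h1
  · let a : ShortComplex.mk (π ≫ f) (S.g ≫ s.hom) (by rw [Category.assoc, hf, comp_zero]) ⟶ S :=
      { τ₁ := π ≫ s'.hom, τ₂ := 𝟙 _, τ₃ := s.inv,
        comm₁₂ := by simp [f], comm₂₃ := by simp }
    haveI : Epi a.τ₁ := inferInstanceAs (Epi (π ≫ s'.hom))
    haveI : IsIso a.τ₂ := inferInstanceAs (IsIso (𝟙 _))
    haveI : Mono a.τ₃ := inferInstanceAs (Mono s.inv)
    exact (ShortComplex.exact_iff_of_epi_of_isIso_of_mono a).2 hS.exact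

theorem res_of_regular : ∀ (m k : ℕ), k + m = n → ∀ (G : (KRR.PY n T).Modules), Coh.IsQCoh G →
    KRR.IsRegSheaf n T G → Low k G → ∀ e : ℤ, Res m e (KRR.twF n T (-e) G) := by
  intro m
  induction m with
  | zero =>
    intro k hk G hq hG hlow e
    haveI : G.IsQuasicoherent := hq
    obtain rfl : k = n := by omega
    haveI := GrothLib.Chow.isProper_toBase k T
    haveI := isIso_counit_last hG hlow
    exact res_zero e _ (GrothLib.QCoh.isQuasicoherent_pushforward (KRR.pr k T) G)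
      (((DCoh.tensorBi (X := KRR.PY k T)).obj _).mapIso
        (asIso ((Scheme.Modules.pullbackPushforwardAdjunction (KRR.pr k T)).counit.app G)))
  | succ m ih =>
    intro k hk G hq hG hlow e
    haveI : G.IsQuasicoherent := hq
    haveI := GrothLib.Chow.isProper_toBase n T
    obtain ⟨hq', hreg, hl, -⟩ := step hG (by omega) hlow
    haveI := hq'
    exact res_succ m e _ (GrothLib.QCoh.isQuasicoherent_pushforward (KRR.pr n T) G)
      (twF_map_shortExact (-e) (seq_shortExact hG)) (Iso.refl _) (Iso.refl _)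
      (nonempty_twF_twF (a := -(e + 1)) (b := 1) (c := -e) (by ring) (seq G).X₁).some
      (ih (k + 1) (by omega) _ (qcoh_twF 1 _) hreg hl (e + 1))

end
end

set_option backward.isDefEq.respectTransparency false
open CategoryTheory CategoryTheory.Limits AlgebraicGeometry GrothLib.RegSheaf in

open CategoryTheory CategoryTheory.Limits AlgebraicGeometry in
/-- Let T be any scheme, p : P^n_T ⟶ T the projection, and F a quasi-coherent O-module on P^n_T which is
regular relative to p, i.e. R^i p_*(F(-i)) = 0 for every i ≥ 1 (higher direct images of the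
underlying abelian sheaves). Then F has a resolution 0 ⟶ p^*(T_n)(-n) ⟶ … ⟶ p^*(T_1)(-1) ⟶ p^*(T_0)
⟶ F ⟶ 0 with T_0, …, T_n quasi-coherent O_T-modules: there are such modules, a chain complex L of
O-modules on P^n_T whose i-th term is isomorphic to p^*(T_i)(-i) for i ≤ n and is zero for i > n,
and a quasi-isomorphism from L to F placed in degree 0. (Stated for P^n_T rather than for the
projective bundle of a vector bundle of rank n + 1, and for quasi-coherent modules, the generality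
in which regularity is defined in the text; only the existence of the resolution is asserted, not
that the T_i are canonically determined by F or exact in F.) -/
theorem result (n : ℕ) (T : Scheme.{u})
    (F : (KRR.PY n T).Modules) (hF : Coh.IsQCoh F) (hreg : KRR.IsRegSheaf n T F) :
    ∃ (Tm : ℕ → T.Modules) (L : ChainComplex (KRR.PY n T).Modules ℕ)
      (π : L ⟶ (ChainComplex.single₀ (KRR.PY n T).Modules).obj F),
      (∀ i, Coh.IsQCoh (Tm i)) ∧
      (∀ i, i ≤ n → Nonempty (L.X i ≅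
        KRR.twF n T (-(i : ℤ)) ((Scheme.Modules.pullback (KRR.pr n T)).obj (Tm i)))) ∧
      (∀ i, n < i → IsZero (L.X i)) ∧ QuasiIso π := by
  obtain ⟨Tm, C, π, w, hq, hX, hzero, hhom, hπ, hex⟩ := res_of_regular n 0 (zero_add n) F hF hreg
    (fun j hj hj' => absurd hj' (by omega)) 0
  let e₀ : KRR.twF n T (-(0 : ℤ)) F ≅ F := eqToIso (by simp) ≪≫ (nonempty_twF_zero F).some
  have hw : C.d 1 0 ≫ π ≫ e₀.hom = 0 := by rw [← Category.assoc, w, zero_comp]
  let ρ := (C.toSingle₀Equiv F).symm ⟨π ≫ e₀.hom, hw⟩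
  refine ⟨Tm, C, ρ, hq, fun i hi => ⟨(hX i hi).some ≪≫ eqToIso (by simp)⟩, hzero, ⟨fun i => ?_⟩⟩
  rcases Nat.eq_zero_or_pos i with rfl | hi
  · rw [ChainComplex.quasiIsoAt₀_iff]
    refine (ShortComplex.quasiIso_iff_of_zeros' _ ?_ ?_ ?_).2 ⟨?_, ?_⟩
    · simp
    · simp
    · simp
    · let a : ShortComplex.mk (C.d 1 0) π w ⟶ ShortComplex.mk (C.d 1 0) (π ≫ e₀.hom) hw :=
        { τ₁ := 𝟙 _, τ₂ := 𝟙 _, τ₃ := e₀.hom, comm₁₂ := by simp, comm₂₃ := by simp }
      have h := (ShortComplex.exact_iff_of_epi_of_isIso_of_mono a).1 hex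
      simpa [ρ] using h
    · haveI := hπ
      simpa [ρ] using (inferInstance : Epi (π ≫ e₀.hom))
  · rw [quasiIsoAt_iff_exactAt' _ _ (ChainComplex.exactAt_succ_single_obj F (i - 1) |> fun h =>
      (show i - 1 + 1 = i by omega) ▸ h)]
    exact hhom i hi


end Groth.Agent.S20013
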