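import Groth.Statements.S20016
import Groth.Agent.Lib.ModInt8.Basic

set_option autoImplicit false
universe u
open CategoryTheory AlgebraicGeometry TopologicalSpace Opposite
open ModPair

namespace Groth.Agent.S20016

/-- Let (X, I_X) be a modulus pair — a scheme X with the quasi-coherent ideal sheaf I_X of an effective
Cartier divisor — with interior X° (the open complement of the support of I_X), and suppose O_X is
integrally closed in O_{X°}: for every affine open U of X, every section of O_X over U ∩ X° which is
integral over Γ(U, O_X) along the restriction map is the restriction of a section over U. Let g : Y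
⟶ X be an étale morphism and Y° = g⁻¹(X°). Then O_Y is integrally closed in O_{Y°}: for every affine
open V of Y, every section of O_Y over V ∩ Y° which is integral over Γ(V, O_Y) along the restriction
map is the restriction of a section over V. (The text does not spell out the phrase integrally
closed for sheaves; it is rendered here affine-locally through restriction maps.) -/
theorem result {X Y : Scheme.{u}}
    (IX : X.IdealSheafData) (hX : BlowUp.IsEffCartierIdeal IX)
    (hint : ∀ U ∈ X.affineOpens, ∀ s : Γ(X, U ⊓ ModPair.interior IX),
      (X.presheaf.map (homOfLE (inf_le_left : U ⊓ ModPair.interior IX ≤ U)).op).hom.IsIntegralElem s →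
        s ∈ Set.range (X.presheaf.map (homOfLE (inf_le_left : U ⊓ ModPair.interior IX ≤ U)).op).hom)
    (g : Y ⟶ X) [Etale g] :
    ∀ V ∈ Y.affineOpens, ∀ t : Γ(Y, V ⊓ g ⁻¹ᵁ ModPair.interior IX),
      (Y.presheaf.map (homOfLE (inf_le_left : V ⊓ g ⁻¹ᵁ ModPair.interior IX ≤ V)).op).hom.IsIntegralElem t →
        t ∈ Set.range (Y.presheaf.map (homOfLE (inf_le_left : V ⊓ g ⁻¹ᵁ ModPair.interior IX ≤ V)).op).hom := by
  intro V _ t ht
  exact GrothLib.ModInt8.mem_range hX g hint V t ht

end Groth.Agent.S20016
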