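import Groth.Statements.S20017
import Groth.Agent.Lib.Torsor21.ExtendFinite

set_option autoImplicit false
set_option backward.isDefEq.respectTransparency false
set_option backward.isDefEq.respectTransparency.types false
universe u
open CategoryTheory AlgebraicGeometry
open NonAbH1 MonoidalCategory CartesianMonoidalCategory

namespace Groth.Agent.S20017

/-- Let X be a normal integral scheme (integral, with every local ring integrally closed), G a group
scheme over X whose structure morphism is finite and flat, and U ⊆ X a dense open subscheme. Then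
the restriction map H¹(X, G) → H¹(U, G|_U) on classes of fppf G-torsors — X-schemes with a G-action
which are pseudo-torsors and acquire sections on the members of some fppf covering family, up to
equivariant isomorphism — given by base change along the open immersion U → X, is injective. (G is
not assumed commutative; injectivity is that of a map of pointed sets.) -/
theorem result
    (X : Scheme.{u}) [AlgebraicGeometry.IsIntegral X] (hX : Pi1.IsNormalScheme X)
    (G : Over X) [GrpObj G] [IsFinite G.hom] [Flat G.hom]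
    (U : X.Opens) (hU : Dense (U : Set X)) :
    Function.Injective (NonAbH1.H1Sch.bcMap U.ι G Scheme.fppfPrecoverage) := by
  intro c₁ c₂ h
  obtain ⟨E₁, rfl⟩ := Quot.exists_rep c₁
  obtain ⟨E₂, rfl⟩ := Quot.exists_rep c₂
  have hequiv : Equivalence (fun A B : TorsorSch (Red.bc U.ι G) Scheme.fppfPrecoverage =>
      Nonempty (EquivIso A.act B.act)) :=
    ⟨fun A => ⟨⟨Iso.refl _, by simp⟩⟩,
      fun ⟨e⟩ => ⟨⟨e.iso.symm, by
        have := e.comm
        simp only [Iso.symm_hom, ← cancel_mono e.iso.hom, Category.assoc, Iso.inv_hom_id, Category.comp_id]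
        rw [this, ← Category.assoc, ← MonoidalCategory.whiskerLeft_comp, Iso.inv_hom_id,
          MonoidalCategory.whiskerLeft_id, Category.id_comp]⟩⟩,
      fun ⟨e⟩ ⟨e'⟩ => ⟨⟨e.iso ≪≫ e'.iso, by
        rw [Iso.trans_hom, reassoc_of% e.comm, e'.comm, MonoidalCategory.whiskerLeft_comp, Category.assoc]⟩⟩⟩
  obtain ⟨e⟩ := (hequiv.eqvGen_iff).1 (Quot.eqvGen_exact h)
  obtain ⟨z, -, hzU⟩ := hU.inter_open_nonempty Set.univ isOpen_univ Set.univ_nonempty
  have hη : genericPoint X ∈ U := (genericPoint_specializes _).mem_open U.2 hzU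
  let φ : E₁.X ⊗ Over.mk U.ι ⟶ E₂.X := Over.homMk (e.iso.hom.left ≫ Limits.pullback.fst E₂.X.hom U.ι) (by
    show (_ ≫ _) ≫ E₂.X.hom = Limits.pullback.fst E₁.X.hom U.ι ≫ E₁.X.hom
    rw [Category.assoc, Limits.pullback.condition, Limits.pullback.condition, ← Category.assoc]
    exact congrArg (· ≫ U.ι) (Over.w e.iso.hom))
  refine Quot.sound (GrothLib.Torsor21.exists_equivIso_of_open hX E₁.isTorsor E₂.isTorsor U hη φ ?_)
  intro R g x u
  let T' : Over (U : Scheme.{u}) := Over.mk u.left
  let g₀ : (Over.map U.ι).obj T' ⟶ G := Over.homMk g.left ((Over.w g).trans (Over.w u).symm)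
  let x₀ : (Over.map U.ι).obj T' ⟶ E₁.X := Over.homMk x.left ((Over.w x).trans (Over.w u).symm)
  let he := fun (Y : Over X) => (Over.mapPullbackAdj U.ι).homEquiv T' Y
  have hl : ∀ (Y : Over X) (p : (Over.map U.ι).obj T' ⟶ Y),
      (he Y p).left ≫ Limits.pullback.fst Y.hom U.ι = p.left ∧
      (he Y p).left ≫ Limits.pullback.snd Y.hom U.ι = u.left := by
    intro Y p
    refine ⟨?_, Over.w (he Y p)⟩
    have := congrArg CommaMorphism.left ((Over.mapPullbackAdj U.ι).homEquiv T' Y |>.symm_apply_apply p)
    rw [Adjunction.homEquiv_counit] at this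
    simpa using this
  have pair : ∀ (Y : Over X) (p : R ⟶ Y) (p₀ : (Over.map U.ι).obj T' ⟶ Y), p₀.left = p.left →
      (lift p u).left = (he Y p₀).left := by
    intro Y p p₀ hp
    apply Limits.pullback.hom_ext
    · exact ((congrArg CommaMorphism.left (lift_fst p u)).trans hp.symm).trans (hl Y p₀).1.symm
    · exact (congrArg CommaMorphism.left (lift_snd p u)).trans (hl Y p₀).2.symm
  let y₀ := (he E₂.X).symm (he E₁.X x₀ ≫ e.iso.hom)
  have key : he E₁.X (lift g₀ x₀ ≫ E₁.act.act) ≫ e.iso.hom = he E₂.X (lift g₀ y₀ ≫ E₂.act.act) := by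
    simp only [he, ← AlgGrp.Action.lift_homEquiv_bc_act, Category.assoc]
    erw [e.comm, lift_whiskerLeft_assoc]
    simp only [y₀, he, Equiv.apply_symm_apply]
    rfl
  have hy : (lift x u ≫ φ).left = y₀.left := by
    rw [Over.comp_left, pair _ x x₀ rfl]
    show (he E₁.X x₀).left ≫ e.iso.hom.left ≫ Limits.pullback.fst _ _ = _
    rw [← (hl E₂.X y₀).1, ← Category.assoc, ← Over.comp_left, Equiv.apply_symm_apply]
  have h3 : (lift g₀ y₀).left = (lift g (lift x u ≫ φ)).left := by
    apply Limits.pullback.hom_ext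
    · exact (congrArg CommaMorphism.left (lift_fst g₀ y₀)).trans (congrArg CommaMorphism.left (lift_fst g _)).symm
    · exact ((congrArg CommaMorphism.left (lift_snd g₀ y₀)).trans hy.symm).trans
        (congrArg CommaMorphism.left (lift_snd g _)).symm
  ext1
  rw [Over.comp_left, pair _ (lift g x ≫ E₁.act.act) (lift g₀ x₀ ≫ E₁.act.act) (by
    simp only [Over.comp_left]
    congr 1)]
  show (he E₁.X _).left ≫ e.iso.hom.left ≫ Limits.pullback.fst _ _ = _
  rw [← Category.assoc, ← Over.comp_left, key, (hl E₂.X _).1, Over.comp_left, h3]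
  rfl

end Groth.Agent.S20017
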