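import Groth.Statements.S20018
import Mathlib


set_option autoImplicit false
open CAlg

namespace Groth.Agent.S20018

open PowerSeries

variable {R : Type*} [CommRing R]

/-- A finite partial product. -/
noncomputable def pp (α : ℕ → R) (n : ℕ) : PowerSeries R :=
  ∏ i ∈ Finset.range n, (1 - PowerSeries.C (α i) * PowerSeries.X ^ (i + 1))

noncomputable def alpha (x : PowerSeries R) : ℕ → R
  | n => coeff (n + 1) (∏ i : Fin n, (1 - PowerSeries.C (alpha x i) * PowerSeries.X ^ ((i : ℕ) + 1)))
      - coeff (n + 1) x
termination_by n => n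
decreasing_by exact i.2

lemma alpha_spec (x : PowerSeries R) (n : ℕ) : alpha x n = coeff (n + 1)
    (∏ i ∈ Finset.range n, (1 - PowerSeries.C (alpha x i) * PowerSeries.X ^ (i + 1)))
      - coeff (n + 1) x := by
  rw [alpha, Fin.prod_univ_eq_prod_range
    (fun i => (1 - PowerSeries.C (alpha x i) * PowerSeries.X ^ (i + 1) : PowerSeries R)) n]

lemma coeff_step_lt (P : PowerSeries R) (a : R) {k n : ℕ} (h : k < n + 1) :
    coeff k (P * (1 - PowerSeries.C a * PowerSeries.X ^ (n + 1))) = coeff k P := by
  rw [mul_sub, mul_one, map_sub, ← mul_assoc, coeff_mul_X_pow', if_neg (by omega), sub_zero]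

lemma constantCoeff_pp (α : ℕ → R) (n : ℕ) : constantCoeff (∏ i ∈ Finset.range n,
    (1 - PowerSeries.C (α i) * PowerSeries.X ^ (i + 1))) = 1 := by
  rw [map_prod]
  exact Finset.prod_eq_one fun i _ => by simp

lemma coeff_step (α : ℕ → R) (a : R) (n : ℕ) :
    coeff (n + 1) ((∏ i ∈ Finset.range n, (1 - PowerSeries.C (α i) * PowerSeries.X ^ (i + 1))) *
        (1 - PowerSeries.C a * PowerSeries.X ^ (n + 1))) =
      coeff (n + 1) (∏ i ∈ Finset.range n, (1 - PowerSeries.C (α i) * PowerSeries.X ^ (i + 1))) - a := by
  rw [mul_sub, mul_one, map_sub, ← mul_assoc, coeff_mul_X_pow', if_pos le_rfl, Nat.sub_self,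
    coeff_zero_eq_constantCoeff_apply, map_mul, constantCoeff_pp, constantCoeff_C, one_mul]

lemma agree (x : PowerSeries R) (hx : constantCoeff x = 1) (α : ℕ → R)
    (hα : ∀ n, α n = coeff (n + 1)
      (∏ i ∈ Finset.range n, (1 - PowerSeries.C (α i) * PowerSeries.X ^ (i + 1))) - coeff (n + 1) x)
    (N : ℕ) :
    PowerSeries.trunc (N + 2) x = PowerSeries.trunc (N + 2) (∏ i ∈ Finset.range (N + 1),
      (1 - PowerSeries.C (α i) * PowerSeries.X ^ (i + 1))) := by
  ext k
  simp only [coeff_trunc]
  split_ifs with hk
  · have : ∀ n, ∀ k < n + 1, coeff k x = coeff k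
        (∏ i ∈ Finset.range n, (1 - PowerSeries.C (α i) * PowerSeries.X ^ (i + 1))) := by
      intro n
      induction n with
      | zero =>
        intro k hk
        obtain rfl : k = 0 := by omega
        simp [hx]
      | succ n ih =>
        intro k hk
        rw [Finset.prod_range_succ]
        rcases Nat.lt_or_ge k (n + 1) with h | h
        · rw [coeff_step_lt _ _ h, ih k h]
        · obtain rfl : k = n + 1 := by omega
          rw [coeff_step, hα n]
          ring
    exact this (N + 1) k hk
  · rfl


open PowerSeries in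
/-- Product expansion of big Witt vectors: let R be a commutative ring and x ∈ 1 + tR[[t]] a formal
power series with constant term 1. Then x can be written uniquely as an infinite product ∏_{i ≥ 1}
(1 - α_i t^i) with α_i ∈ R. The infinite product is expressed through its truncations: there is a
unique sequence α : ℕ → R (α i standing for the coefficient attached to t^{i+1}) such that for every
N the series x and the finite product ∏_{i=0}^{N} (1 - α_i t^{i+1}) agree modulo t^{N+2}. -/
theorem result
    (R : Type*) [CommRing R] (x : PowerSeries R) (hx : PowerSeries.constantCoeff x = 1) :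
    ∃! α : ℕ → R, ∀ N : ℕ,
      PowerSeries.trunc (N + 2) x =
        PowerSeries.trunc (N + 2) (∏ i ∈ Finset.range (N + 1),
          (1 - PowerSeries.C (α i) * PowerSeries.X ^ (i + 1) : PowerSeries R)) := by
  refine ⟨alpha x, fun N => agree x hx _ (alpha_spec x) N, fun β hβ => ?_⟩
  funext n
  induction n using Nat.strong_induction_on with
  | _ n ih =>
    have h1 := congrArg (Polynomial.coeff · (n + 1)) (hβ n)
    simp only [coeff_trunc, if_pos (by omega : n + 1 < n + 2)] at h1
    rw [Finset.prod_range_succ, coeff_step] at h1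
    rw [alpha_spec x n, h1, Finset.prod_congr rfl (fun i hi => show _ = (1 - PowerSeries.C (β i) * PowerSeries.X ^ (i + 1) : PowerSeries R) by rw [ih i (Finset.mem_range.1 hi)])]
    ring

end Groth.Agent.S20018
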