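import Groth.Statements.S20019
import Groth.Agent.Lib.CharRing.Integral
import Groth.Agent.Lib.GLSlice.Cartier
import Groth.Agent.Lib.HopfAG.Dense
import Groth.Agent.Lib.Comod.Semi
import Groth.Agent.Lib.N2.Reduced
import Groth.Agent.Lib.N2.FiniteType
import Groth.Agent.Lib.CharRing.Nagata
import Groth.Prelude.Def_ComodTens
import Mathlib

set_option autoImplicit false
open scoped TensorProduct
open HopfRep

namespace Groth.Agent.S20019

open TensorProduct

/-- Let A → B be a surjective homomorphism of finitely generated commutative Hopf algebras over the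
complex numbers, that is a closed embedding H ↪ G of complex linear algebraic groups with G = Spec A
and H = Spec B. For a comodule structure on the coordinate space ℂ^d with coaction e_i ↦ Σ_j e_j ⊗
a_ji, its character is Σ_i a_ii. Then R(H) is a finite R(G)-module, with the complexified
representation rings realised inside the coordinate rings by characters: there are finitely many
characters f_1, …, f_r of H-comodule structures such that every ℂ-linear combination of characters
of H-comodule structures on coordinate spaces is of the form Σ_j s_j f_j with each s_j in the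
ℂ-subalgebra of B generated by the images of the characters of G-comodule structures on coordinate
spaces. (The representation rings of the published statement are rendered through characters; over
the complex numbers the characters of pairwise non-isomorphic simple comodules are linearly
independent, so the span of characters is the complexified representation ring.) -/
theorem result
    (A B : Type) [CommRing A] [HopfAlgebra ℂ A] [Algebra.FiniteType ℂ A]
    [CommRing B] [HopfAlgebra ℂ B] [Algebra.FiniteType ℂ B]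
    (π : A →ₐc[ℂ] B) (hπ : Function.Surjective π) :
    ∃ F : Finset B,
      (↑F : Set B) ⊆ Set.range (fun p : (Σ d : ℕ, HopfRep.Comod ℂ B (Fin d → ℂ)) =>
          ∑ i : Fin p.1, TensorProduct.lid ℂ B (LinearMap.rTensor B (LinearMap.proj i)
            (@HopfRep.Comod.coact ℂ B _ _ _ _ (Fin p.1 → ℂ) _ _ p.2 (Pi.single i 1)))) ∧
      (↑(Submodule.span ℂ (Set.range (fun p : (Σ d : ℕ, HopfRep.Comod ℂ B (Fin d → ℂ)) =>
          ∑ i : Fin p.1, TensorProduct.lid ℂ B (LinearMap.rTensor B (LinearMap.proj i)
            (@HopfRep.Comod.coact ℂ B _ _ _ _ (Fin p.1 → ℂ) _ _ p.2 (Pi.single i 1)))))) : Set B) ⊆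
        ↑(Submodule.span (Algebra.adjoin ℂ (π '' Set.range (fun p : (Σ d : ℕ, HopfRep.Comod ℂ A (Fin d → ℂ)) =>
          ∑ i : Fin p.1, TensorProduct.lid ℂ A (LinearMap.rTensor A (LinearMap.proj i)
            (@HopfRep.Comod.coact ℂ A _ _ _ _ (Fin p.1 → ℂ) _ _ p.2 (Pi.single i 1))))))
          (↑F : Set B)) := by
  classical
  haveI : IsReduced B := GrothLib.GLSlice.isReduced_of_charZero ℂ B
  have hred : ∀ x : B, (∀ φ : B →ₐ[ℂ] ℂ, φ x = 0) → x = 0 := fun x hx => GrothLib.Dense.eq_zero_of_forall_point x hx
  -- a generating subcomodule of `A` containing `1`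
  obtain ⟨g, hg⟩ := (Algebra.FiniteType.out : (⊤ : Subalgebra ℂ A).FG)
  choose W hWfin hWmem hWsub using fun v : ↥(insert (1 : A) g) =>
    GrothLib.Comodule.exists_finite_subcomod (k := ℂ) (C := A) (V := A) (v : A)
  let U : Submodule ℂ A := ⨆ v, W v
  have hUsub : HopfRep.IsSubcomod (k := ℂ) (A := A) U := GrothLib.Comodule.isSubcomod_iSup hWsub
  haveI : Module.Finite ℂ U := by
    haveI := hWfin
    exact Submodule.finite_iSup W
  let e : U ≃ₗ[ℂ] (Fin (Module.finrank ℂ U) → ℂ) := (Module.finBasis ℂ U).equivFun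
  let cU : HopfRep.Comod ℂ A U := ComodSub.Comod.restr (HopfRep.Comod.regular ℂ A) U hUsub
  let c' : HopfRep.Comod ℂ A (Fin (Module.finrank ℂ U) → ℂ) := ComodTens.Comod.ofEquiv e cU
  let a := GrothLib.CharRing.matOf c'
  let ψ : (Fin (Module.finrank ℂ U) → ℂ) →ₗ[ℂ] A := U.subtype ∘ₗ e.symm.toLinearMap
  let ua : Fin (Module.finrank ℂ U) → A := fun i => ψ (Pi.single i 1)
  have hψ : ∀ w, CoalgebraStruct.comul (R := ℂ) (ψ w) = ψ.rTensor A (c'.coact w) := fun w => by
    obtain ⟨x, rfl⟩ := e.surjective w
    rw [show c'.coact (e x) = _ from ComodTens.ofEquiv_coact_apply e cU x]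
    have h2 := ComodSub.restr_coact_coe (HopfRep.Comod.regular ℂ A) U hUsub x
    rw [← LinearMap.rTensor_comp_apply, show ψ ∘ₗ (e : U →ₗ[ℂ] (Fin (Module.finrank ℂ U) → ℂ)) = U.subtype by ext; simp [ψ]]
    rw [show ψ (e x) = (x : A) by simp [ψ]]
    exact h2.symm
  have hua : ∀ i, CoalgebraStruct.comul (R := ℂ) (ua i) = ∑ j, ua j ⊗ₜ[ℂ] a j i := fun i => by
    rw [hψ, GrothLib.CharRing.coact_single c', map_sum]
    rfl
  let ub : Fin (Module.finrank ℂ U) → B := fun i => π (ua i)
  let a' := a.map π
  have hub : ∀ i, CoalgebraStruct.comul (R := ℂ) (ub i) = ∑ j, ub j ⊗ₜ[ℂ] a' j i := fun i => by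
    rw [← CoalgHomClass.map_comp_comul_apply π, hua, map_sum]
    rfl
  -- the filtration of `B`
  set S : Submodule ℂ B := Submodule.span ℂ (Set.range ub) with hS
  have hUS : ∀ x ∈ U, π x ∈ S := by
    intro x hx
    have hz : ∀ w : Fin (Module.finrank ℂ U) → ℂ, π (ψ w) ∈ S := fun w => by
      rw [pi_eq_sum_univ w, map_sum, map_sum]
      refine Submodule.sum_mem _ fun j _ => ?_
      rw [map_smul, map_smul]
      refine Submodule.smul_mem _ _ (Submodule.subset_span ⟨j, ?_⟩)
      have hj : (fun l => if j = l then (1 : ℂ) else 0) = (Pi.single j 1 : Fin (Module.finrank ℂ U) → ℂ) := by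
        funext l; simp [Pi.single_apply, eq_comm]
      rw [hj]
    have h := hz (e ⟨x, hx⟩)
    simpa [ψ] using h
  have hmemU : ∀ v ∈ insert (1 : A) g, π v ∈ S := fun v hv =>
    hUS _ (Submodule.mem_iSup_of_mem ⟨v, hv⟩ (hWmem ⟨v, hv⟩))
  have hone : (1 : Submodule ℂ B) ≤ S := by
    rw [Submodule.one_le, ← map_one π]
    exact hmemU 1 (Finset.mem_insert_self _ _)
  have hmono : Monotone fun m : ℕ => S ^ m := fun p q h => pow_le_pow_right' hone h
  have hfil : ∀ x : B, ∃ m, x ∈ S ^ m := by
    intro x
    obtain ⟨y, rfl⟩ := hπ x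
    have hy : y ∈ Algebra.adjoin ℂ (g : Set A) := hg ▸ Algebra.mem_top
    induction hy using Algebra.adjoin_induction with
    | mem v hv => exact ⟨1, by rw [pow_one]; exact hmemU v (Finset.mem_insert_of_mem hv)⟩
    | algebraMap c =>
      refine ⟨0, ?_⟩
      rw [pow_zero, show (π (algebraMap ℂ A c) : B) = algebraMap ℂ B c from (π : A →ₐ[ℂ] B).commutes c]
      exact Submodule.algebraMap_mem c
    | add p q _ _ hp hq =>
      obtain ⟨m, hm⟩ := hp
      obtain ⟨m', hm'⟩ := hq
      exact ⟨max m m', by rw [map_add]; exact Submodule.add_mem _ (hmono (le_max_left m m') hm) (hmono (le_max_right m m') hm')⟩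
    | mul p q _ _ hp hq =>
      obtain ⟨m, hm⟩ := hp
      obtain ⟨m', hm'⟩ := hq
      exact ⟨m + m', by rw [map_mul, pow_add]; exact Submodule.mul_mem_mul hm hm'⟩
  -- integrality of the characters
  let t : Finset B := Finset.univ.image fun i : Fin (Module.finrank ℂ U) => (GrothLib.CharRing.compound (i + 1) a').trace
  let C' : Subalgebra ℂ B := Algebra.adjoin ℂ (t : Set B)
  haveI : Algebra.FiniteType ℂ C' := (Subalgebra.fg_iff_finiteType C').1 (Subalgebra.fg_adjoin_finset t)
  have hN : CAlg.IsNagata C' := GrothLib.N2.isNagata_of_finiteType (R := ℂ) GrothLib.CharRing.isNagata_field C'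
  haveI : IsNoetherianRing C' := hN.1
  haveI : Algebra.FiniteType C' B := Algebra.FiniteType.of_restrictScalars_finiteType ℂ C' B
  haveI : Module.Finite C' (integralClosure C' B) := GrothLib.N2.finite_integralClosure_of_essFiniteType hN B
  have hint : GrothLib.CharRing.charSet ℂ B ⊆ (integralClosure C' B : Set B) := by
    rintro _ ⟨⟨n, c⟩, rfl⟩
    choose m hm using fun p : Fin n × Fin n => hfil (GrothLib.CharRing.matOf c p.1 p.2)
    exact GrothLib.CharRing.isIntegral_trace hred ub a' hub C'
      (fun i => Algebra.subset_adjoin (Finset.mem_image.2 ⟨i, Finset.mem_univ _, rfl⟩))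
      (GrothLib.CharRing.isMult_matOf c) (Finset.univ.sup m)
      fun j i => hmono (Finset.le_sup (Finset.mem_univ (j, i))) (hm (j, i))
  have hfg : (Submodule.span C' (GrothLib.CharRing.charSet ℂ B)).FG := by
    haveI hN' : IsNoetherian C' (Subalgebra.toSubmodule (integralClosure C' B)) :=
      isNoetherian_of_isNoetherianRing_of_finite C' (integralClosure C' B)
    exact Submodule.FG.of_le_of_isNoetherian (T := Subalgebra.toSubmodule (integralClosure C' B)) (Submodule.span_le.2 hint)
  obtain ⟨F, hF, hFspan⟩ := (Submodule.fg_span_iff_fg_span_finset_subset _).1 hfg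
  refine ⟨F, hF, fun x hx => ?_⟩
  let D : Subalgebra ℂ B := Algebra.adjoin ℂ (π '' GrothLib.CharRing.charSet ℂ A)
  have hCD : C' ≤ D := Algebra.adjoin_le fun y hy => by
    obtain ⟨i, -, rfl⟩ := Finset.mem_image.1 hy
    refine Algebra.subset_adjoin ⟨_, GrothLib.CharRing.trace_mem_charSet
      ((GrothLib.CharRing.isMult_matOf c').compound (i + 1)), ?_⟩
    exact (AddMonoidHom.map_trace (π : A →ₐ[ℂ] B).toRingHom.toAddMonoidHom _).trans
      (congrArg Matrix.trace (GrothLib.CharRing.compound_map (i + 1) a (π : A →ₐ[ℂ] B).toRingHom).symm)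
  have h1 : x ∈ Submodule.span C' (GrothLib.CharRing.charSet ℂ B) :=
    Submodule.span_le_restrictScalars ℂ C' _ hx
  rw [hFspan] at h1
  show x ∈ Submodule.span D (F : Set B)
  clear hx
  induction h1 using Submodule.span_induction with
  | mem y hy => exact Submodule.subset_span hy
  | zero => exact Submodule.zero_mem _
  | add p q _ _ hp hq => exact Submodule.add_mem _ hp hq
  | smul c y _ hy => exact Submodule.smul_mem _ (⟨(c : B), hCD c.2⟩ : D) hy

end Groth.Agent.S20019
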