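import Groth.Statements.S20025
import Groth.Agent.Lib.Quartic.Forms
-- import your own Groth.Agent.* helpers here

set_option autoImplicit false
universe u
open InvQ

namespace Groth.Agent.S20025

/-- For the special fibre of the invariant map, over a field in which 2 and 3 are nonzero, consider a
split binary quartic f = ∏_i (μ_i X₀ − λ_i X₁) given by four root points (λ_i, μ_i) ≠ (0, 0), with a
double zero (vanishing discriminant ∏_{i<j} (λ_j μ_i − λ_i μ_j)²) and no triple zero (no three root
points pairwise proportional); these are the forms of the fibre over the special point P³/Q² = 6 of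
the invariant map. Then exactly one of the two alternatives holds: f is a nonzero constant times the
form X₀² X₁ (X₀ − X₁) after an invertible linear substitution of the variables, or f is a nonzero
constant times X₀² X₁² after such a substitution. So this fibre consists of exactly two classes
under substitutions and scalars (one double zero and two simple zeros; two double zeros). (The
dimensions of the two orbits and which of them is open or closed in the fibre are not part of this
row; stated for split forms over any such field.) -/
theorem result (k : Type u) [Field k]
    (h2 : (2 : k) ≠ 0) (h3 : (3 : k) ≠ 0) (la mu : Fin 4 → k)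
    (hne : ∀ i, la i ≠ 0 ∨ mu i ≠ 0) (hd : W4c6intromoduli.disc la mu = 0)
    (h3z : ∀ i j l : Fin 4, i ≠ j → j ≠ l → i ≠ l →
      ¬ (la i * mu j = la j * mu i ∧ la j * mu l = la l * mu j)) :
    Xor
      (∃ (M : Matrix (Fin 2) (Fin 2) k) (c : k), IsUnit M.det ∧ c ≠ 0 ∧
        W4c6intromoduli.binForm la mu =
          MvPolynomial.C c * W4c6intromoduli.subst M
            (MvPolynomial.X 0 ^ 2 * MvPolynomial.X 1 * (MvPolynomial.X 0 - MvPolynomial.X 1)))
      (∃ (M : Matrix (Fin 2) (Fin 2) k) (c : k), IsUnit M.det ∧ c ≠ 0 ∧
        W4c6intromoduli.binForm la mu =
          MvPolynomial.C c * W4c6intromoduli.subst M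
            (MvPolynomial.X 0 ^ 2 * MvPolynomial.X 1 ^ 2)) := by
  exact GrothLib.Quartic.xor_normal_forms la mu hne hd h3z

end Groth.Agent.S20025
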