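import Groth.Statements.S20026
import Groth.Agent.Lib.TFCurv11.NodePushMain

set_option autoImplicit false
universe u
open CategoryTheory CategoryTheory.Limits AlgebraicGeometry
open TFNodal

namespace Groth.Agent.S20026

set_option backward.isDefEq.respectTransparency false


/-- Let k be algebraically closed of characteristic zero, X a connected proper curve over k (dimension
one) whose closed points are smooth points or nodes, and π : Y → X its normalization, given as a
finite morphism from a smooth k-scheme that is an isomorphism over the complement U of the nodes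
with dense preimage of U; let F be a coherent O_X-module, torsion free of rank r with type a(x) at
each node x (stalk free of rank r off the nodes, isomorphic to O_x^{a(x)} ⊕ m_x^{r − a(x)} at a node
x). Let p : π^*F → E₀ be an epimorphism onto a locally free O_Y-module of rank r, β : F → π_*E₀ the
composite of the unit with π_*p, and let i : F → π_*E be a monomorphism into the direct image of a
locally free O_Y-module E of rank r, factored as i = β ≫ π_*λ with λ : E₀ → E. Then at every node x
the stalk of coker(i) has length a(x) plus the length of the stalk of coker(π_*λ), and at every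
other point the two stalks have the same length (lengths over the local ring O_{X,x}, valued in ℕ∞).
The published statement compares only the total lengths (that of coker(i) exceeds that of
coker(π_*λ) by the sum of the types a(x) over the nodes); the statement here gives the comparison at
each point. -/
theorem result (k : Type u) [Field k] [IsAlgClosed k] [CharZero k]
    (X : Scheme.{u}) [X.Over (Spec (CommRingCat.of k))] [IsProper (X ↘ Spec (CommRingCat.of k))]
    [ConnectedSpace X] (hdim : topologicalKrullDim X = 1) (hnod : Curv2.AtWorstNodal k X)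
    (Y : Scheme.{u}) (π : Y ⟶ X) [IsFinite π] [Smooth (π ≫ (X ↘ Spec (CommRingCat.of k)))]
    (U : X.Opens) (hU : ∀ x : X, x ∈ U ↔ ¬ Curv2.IsNode k X x) (hUiso : IsIso (π ∣_ U))
    (hUd : Dense ((π ⁻¹ᵁ U : Y.Opens) : Set Y))
    (r : ℕ) (F : X.Modules) (hF : Coh.IsCoh F) (a : X → ℕ)
    (hfree : ∀ x : X, ¬ Curv2.IsNode k X x →
      Nonempty (F.presheaf.stalk x ≃ₗ[X.presheaf.stalk x] (Fin r → X.presheaf.stalk x)))
    (htype : ∀ x : X, Curv2.IsNode k X x → a x ≤ r ∧
      Nonempty (F.presheaf.stalk x ≃ₗ[X.presheaf.stalk x]
        ((Fin (a x) → X.presheaf.stalk x) × (Fin (r - a x) → IsLocalRing.maximalIdeal (X.presheaf.stalk x)))))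
    (E₀ : Y.Modules) (hE₀ : FlatMod.IsFinLocFreeOfRank r E₀)
    (p : (Scheme.Modules.pullback π).obj F ⟶ E₀) [Epi p]
    (E : Y.Modules) (hE : FlatMod.IsFinLocFreeOfRank r E)
    (i : F ⟶ (Scheme.Modules.pushforward π).obj E) [Mono i]
    (lam : E₀ ⟶ E) (hlam : (Scheme.Modules.pullbackPushforwardAdjunction π).unit.app F ≫
      (Scheme.Modules.pushforward π).map p ≫ (Scheme.Modules.pushforward π).map lam = i) :
    (∀ x : X, Curv2.IsNode k X x →
      Module.length (X.presheaf.stalk x) ((cokernel i).presheaf.stalk x) =
        (a x : ℕ∞) + Module.length (X.presheaf.stalk x)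
          ((cokernel ((Scheme.Modules.pushforward π).map lam)).presheaf.stalk x)) ∧
    (∀ x : X, ¬ Curv2.IsNode k X x →
      Module.length (X.presheaf.stalk x) ((cokernel i).presheaf.stalk x) =
        Module.length (X.presheaf.stalk x)
          ((cokernel ((Scheme.Modules.pushforward π).map lam)).presheaf.stalk x)) := by
  haveI : AlgebraicGeometry.IsReduced X := GrothLib.NormFlat11.isReduced_of_atWorstNodal X hnod
  haveI : IsLocallyNoetherian X := LocallyOfFiniteType.isLocallyNoetherian (X ↘ Spec (CommRingCat.of k))
  haveI := hUiso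
  have hfree' : ∀ y ∈ U, Nonempty (F.presheaf.stalk y ≃ₗ[X.presheaf.stalk y] (Fin r → X.presheaf.stalk y)) :=
    fun y hy => hfree y ((hU y).1 hy)
  haveI : AlgebraicGeometry.IsReduced Y := GrothLib.RedSmooth.isReduced_of_smooth (π ≫ (X ↘ Spec (CommRingCat.of k)))
  let β : F ⟶ (Scheme.Modules.pushforward π).obj E₀ :=
    (Scheme.Modules.pullbackPushforwardAdjunction π).unit.app F ≫ (Scheme.Modules.pushforward π).map p
  let L := (Scheme.Modules.pushforward π).map lam
  have hi : β ≫ L = i := by
    rw [← hlam]; simp only [β, L, Category.assoc]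
  have hii : ∀ x, Function.Injective (GrothLib.QCoh.stalkLin i x) := fun x =>
    (ModuleCat.mono_iff_injective _).1 ((GrothLib.OX.mono_iff i).1 inferInstance x)
  have hcomp : ∀ x v, GrothLib.QCoh.stalkLin i x v = GrothLib.QCoh.stalkLin L x (GrothLib.QCoh.stalkLin β x v) :=
    fun x v => by rw [← hi, GrothLib.QCoh.stalkLin_comp]
  have key : ∀ x, Function.Injective (GrothLib.QCoh.stalkLin L x) →
      Module.length (X.presheaf.stalk x) ((cokernel i).presheaf.stalk x) =
        Module.length (X.presheaf.stalk x) ((cokernel β).presheaf.stalk x) +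
          Module.length (X.presheaf.stalk x) ((cokernel L).presheaf.stalk x) := fun x hl => by
    rw [(GrothLib.NodePush11.nonempty_cokernel_stalk_equiv β x).some.length_eq,
      (GrothLib.NodePush11.nonempty_cokernel_stalk_equiv L x).some.length_eq,
      (GrothLib.NodePush11.nonempty_cokernel_stalk_equiv i x).some.length_eq,
      show GrothLib.QCoh.stalkLin i x = GrothLib.QCoh.stalkLin L x ∘ₗ GrothLib.QCoh.stalkLin β x from
        LinearMap.ext (hcomp x)]
    exact GrothLib.NodePush11.length_coker_comp _ _ hl
  constructor
  · intro x hx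
    obtain ⟨-, ⟨e⟩⟩ := htype x hx
    obtain ⟨hβi, hlen⟩ := GrothLib.NodePush11.beta_node hdim π U hU hUd hF a hx hfree' e hE₀ p
    refine (key x ?_).trans (congrArg (· + _) hlen)
    refine (injective_iff_map_eq_zero _).2 fun w hw => ?_
    obtain ⟨s, hsm, hs⟩ := GrothLib.NodeLattice11.exists_nzd_node k hx
    obtain ⟨V, hV, hxV, -⟩ := exists_isAffineOpen_mem_and_subset (x := x) (U := (⊤ : X.Opens)) trivial
    have hlf : FlatMod.IsFinLocFree E₀ := fun y => by obtain ⟨V, hy, e⟩ := hE₀ y; exact ⟨V, r, hy, e⟩
    -- some multiple of `w` lies in the image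
    have hm : ∀ z : (cokernel β).presheaf.stalk x, ∃ n : ℕ, s ^ n • z = 0 := fun z => by
      have hfl : IsFiniteLength (X.presheaf.stalk x) ((cokernel β).presheaf.stalk x) :=
        Module.length_ne_top_iff.1 (hlen.trans_ne (ENat.coe_ne_top _))
      exact GrothLib.NodePush11.exists_pow_smul_eq_zero_of_finiteLength hfl s hsm z
    let E := (GrothLib.NodePush11.nonempty_cokernel_stalk_equiv β x).some
    obtain ⟨n, hn⟩ := hm (E.symm (Submodule.Quotient.mk w))
    rw [← map_smul, E.symm.map_eq_zero_iff, ← Submodule.Quotient.mk_smul, Submodule.Quotient.mk_eq_zero] at hn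
    obtain ⟨v, hv⟩ := hn
    have hv0 : v = 0 := hii x (by rw [hcomp, hv, map_smul, hw, smul_zero, map_zero])
    rw [hv0, map_zero] at hv
    exact GrothLib.NodePush11.smul_injective_push π U hU hUd hx hlf hdim.le (s ^ n)
      (pow_mem hs n) w hv.symm
  · intro x hx
    have hb := GrothLib.NodePush11.beta_off π U hF ((hU x).2 hx) hfree' hE₀ p
    refine (key x ?_).trans ?_
    · intro w w' h
      obtain ⟨v, rfl⟩ := hb.2 w
      obtain ⟨v', rfl⟩ := hb.2 w'
      exact congrArg _ (hii x (((hcomp x v).trans h).trans (hcomp x v').symm))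
    · haveI := GrothLib.NodePush11.subsingleton_cokernel_stalk β x hb.2
      rw [Module.length_eq_zero, zero_add]

end Groth.Agent.S20026
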