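import Groth.Statements.S20027
import Groth.Agent.S18655
import Groth.Agent.Lib.GrLC.PolyTop
import Groth.Agent.Lib.GrSyz.Hilbert
import Groth.Agent.S0342
import Mathlib.RingTheory.RegularLocalRing.Defs
-- import your own Groth.Agent.* helpers here

set_option autoImplicit false
universe u
open GrLC

namespace Groth.Agent.S20027

open GrothLib.GrLC (cmp cmp_mem cmp_of_mem cmp_of_mem_ne) in
/-- The components of a polynomial. -/
theorem coeff_cmp (k : Type u) [Field k] (s : ℕ) (g : ℤ) (p : MvPolynomial (Fin s) k) (e : Fin s →₀ ℕ) :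
    MvPolynomial.coeff e (cmp (GrSyz.stdGr k (Fin s)) g p) =
      if (e.degree : ℤ) = g then MvPolynomial.coeff e p else 0 := by
  induction p using GrothLib.GrLC.gr_induction (GrSyz.stdGr k (Fin s)) with
  | h0 => simp
  | hadd a b ha hb => rw [map_add, MvPolynomial.coeff_add, ha, hb]; split_ifs <;> simp
  | hh i a ha =>
    by_cases hi : i = g
    · subst hi
      rw [cmp_of_mem _ ha]
      split_ifs with h
      · rfl
      · by_contra hne
        exact h ((GrothLib.GrSyz.weight_one e).symm.trans (ha hne))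
    · rw [cmp_of_mem_ne _ ha hi, MvPolynomial.coeff_zero]
      split_ifs with h
      · by_contra hne
        exact hi ((ha (Ne.symm hne)).symm.trans ((GrothLib.GrSyz.weight_one e).trans h))
      · rfl

open GrothLib.GrLC in
/-- A field, as the degree zero part. -/
theorem isField_deg0_of_bijective {k A : Type u} [Field k] [CommRing A] (f : k →+* A) (hf : Function.Bijective f) :
    IsField A :=
  (RingEquiv.ofBijective f hf).symm.toMulEquiv.isField (Field.toIsField k)

/-- Let k be a field, s ≥ 1, d ≥ 1, and R = k[X_1, …, X_s] graded with every variable in degree 1.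
Present the Veronese subring R^(d) = ⊕_j R_{jd} as a commutative ring R' with an injective ring
homomorphism φ : R' → R whose image is the set of polynomials whose homogeneous components in all
degrees not divisible by d are zero, and let m' be the maximal ideal of R' that is the preimage of
the ideal of polynomials with zero constant term (the irrelevant ideal of R^(d)). Let n be the least
integer such that n ≥ s and d divides n. Then the type of R^(d), namely the Bass number μ_s(m', R')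
= dim over the residue field of Ext^s over the local ring R'_{m'} from its residue field to R'_{m'}
(here s = dim R'), equals the binomial coefficient (n − 1 choose s − 1). -/
theorem result (k : Type u) [Field k] (s d : ℕ) (hs : 1 ≤ s)
    (hd : 1 ≤ d) (R' : Type u) [CommRing R'] (φ : R' →+* MvPolynomial (Fin s) k)
    (hφ : Function.Injective φ)
    (hrange : ∀ p : MvPolynomial (Fin s) k, p ∈ φ.range ↔
      ∀ j : ℕ, ¬ d ∣ j → MvPolynomial.homogeneousComponent j p = 0)
    (m' : Ideal R') [m'.IsMaximal]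
    (hm' : m' = Ideal.comap φ (RingHom.ker (MvPolynomial.constantCoeff : MvPolynomial (Fin s) k →+* k)))
    (n : ℕ) (hsn : s ≤ n) (hdn : d ∣ n) (hmin : ∀ n' : ℕ, s ≤ n' → d ∣ n' → n ≤ n') :
    GrLC.bassNum m' R' s = (Nat.choose (n - 1) (s - 1) : ℕ∞) := by
  classical
  let R := MvPolynomial (Fin s) k
  let 𝒮 := GrSyz.stdGr k (Fin s)
  let 𝒜 : ℤ → AddSubgroup R := fun g => (𝒮 g).toAddSubgroup
  letI : DirectSum.Decomposition 𝒜 :=
    (GrothLib.GrLC.isInternal_of_proj 𝒜 (GrothLib.GrLC.cmp 𝒮) (fun _ _ hx => GrothLib.GrLC.cmp_of_mem 𝒮 hx)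
      (fun _ _ hne _ hx => GrothLib.GrLC.cmp_of_mem_ne 𝒮 hx hne) (GrothLib.GrLC.cmp_mem 𝒮)
      (GrothLib.GrLC.exists_sum_cmp 𝒮)).chooseDecomposition
  haveI : SetLike.GradedMonoid 𝒜 :=
    { one_mem := SetLike.GradedOne.one_mem (A := 𝒮), mul_mem := fun {_ _ _ _} ha hb => SetLike.GradedMul.mul_mem (A := 𝒮) ha hb }
  letI : GradedRing 𝒜 := { ‹SetLike.GradedMonoid 𝒜›, ‹DirectSum.Decomposition 𝒜› with }
  have hsame : ∀ (g : ℤ) (x : R), x ∈ 𝒜 g ↔ x ∈ 𝒮 g := fun _ _ => Iff.rfl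
  have hposS : ∀ g : ℤ, g < 0 → 𝒮 g = ⊥ := fun g hg =>
    (Submodule.eq_bot_iff _).2 fun a ha => GrothLib.GrSyz.eq_zero_of_mem_neg hg ha
  have hpos : ∀ g : ℤ, g < 0 → 𝒜 g = ⊥ := fun g hg =>
    (AddSubgroup.eq_bot_iff_forall _).2 fun a ha => GrothLib.GrSyz.eq_zero_of_mem_neg hg ha
  have hC0 : ∀ p ∈ 𝒮 0, MvPolynomial.C (MvPolynomial.coeff 0 p) = p := fun p hp => by
    refine MvPolynomial.ext _ _ fun e => ?_
    rw [MvPolynomial.coeff_C]
    split_ifs with h
    · rw [h]
    · by_contra hne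
      have hw := (show p ∈ 𝒮 0 from hp) (Ne.symm hne)
      rw [GrothLib.GrSyz.weight_one, Nat.cast_eq_zero, Finsupp.degree_eq_zero_iff] at hw
      exact h hw.symm
  let c : k →+* GrLC.deg0 𝒜 :=
    { toFun := fun a => ⟨MvPolynomial.C a, (MvPolynomial.isWeightedHomogeneous_C _ a : _)⟩
      map_one' := Subtype.ext (map_one _)
      map_mul' := fun a b => Subtype.ext (map_mul _ a b)
      map_zero' := Subtype.ext (map_zero _)
      map_add' := fun a b => Subtype.ext (map_add _ a b) }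
  have hc : Function.Bijective c := ⟨fun a b h => MvPolynomial.C_injective _ _ (congrArg Subtype.val h),
    fun p => ⟨MvPolynomial.coeff 0 (p : R), Subtype.ext (hC0 _ p.2)⟩⟩
  have h0 : IsField (GrLC.deg0 𝒜) := isField_deg0_of_bijective c hc
  let m := GrothLib.GrLC.Ver.irrel 𝒜
  have hmX : m.toIdeal ≤ Ideal.span (MvPolynomial.X '' (Set.univ : Set (Fin s))) := Ideal.span_le.2 fun p hp => by
    obtain ⟨g, hg, hp⟩ := Set.mem_iUnion₂.1 hp
    rw [SetLike.mem_coe, MvPolynomial.mem_ideal_span_X_image]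
    intro e he
    by_contra h
    push Not at h
    obtain rfl : e = 0 := Finsupp.ext fun i => h i trivial
    have hw := (show p ∈ 𝒮 g from hp) (MvPolynomial.mem_support_iff.1 he)
    rw [map_zero] at hw
    exact (show (0 : ℤ) < g from hg).ne hw
  have hX : ∀ i, (MvPolynomial.X i : R) ∈ 𝒜 1 := fun i => MvPolynomial.isWeightedHomogeneous_X k _ i
  have hstd : Ideal.span (⋃ g ∈ Set.Ioi (0 : ℤ), (𝒜 g : Set R)) = Ideal.span ((𝒜 1 : AddSubgroup R) : Set R) := by
    refine le_antisymm (hmX.trans (Ideal.span_mono ?_)) (Ideal.span_mono fun x hx => Set.mem_iUnion₂.2 ⟨1, (one_pos : (0 : ℤ) < 1), hx⟩)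
    rintro _ ⟨i, -, rfl⟩
    exact hX i
  have hm := GrothLib.GrLC.Ver.isStarLocal_irrel hpos h0
  haveI : LocCoh.IsGorensteinRing R :=
    { (inferInstance : IsNoetherianRing R) with
      isGorensteinLocalRing_localization := fun p _ => Groth.Agent.S0342.result (Localization.AtPrime p) }
  have hn : ringKrullDim R = (s : WithBot ℕ∞) := by
    rw [MvPolynomial.ringKrullDim_of_isNoetherianRing, ringKrullDim_eq_zero_of_field]; simp
  let I := GrothLib.GrLC.starInjRes 𝒜 𝒜
  have hsame' : ∀ (g : ℤ) (x : R), x ∈ 𝒮 g ↔ x ∈ 𝒜 g := fun _ _ => Iff.rfl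
  let I₀ := GrothLib.GrLC.OverField.resTo hsame' I
  let m₀ := GrothLib.GrLC.OverField.idealTo hsame' m
  have hl : (GrothLib.GrLC.hspan (GrothLib.GrLC.varL k s)).toIdeal = m₀.toIdeal := by
    rw [GrothLib.GrLC.hspan_varL, GrothLib.GrLC.OverField.toIdeal_idealTo]
    refine le_antisymm (Ideal.span_le.2 ?_) (Ideal.span_le.2 fun p hp => ?_)
    · rintro a ⟨g, hg, ha⟩
      exact Ideal.subset_span (Set.mem_iUnion₂.2 ⟨g, hg, ha⟩)
    · obtain ⟨g, hg, hp⟩ := Set.mem_iUnion₂.1 hp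
      exact Ideal.subset_span ⟨g, hg, hp⟩
  have ha : GrLC.endDeg (I₀.Hgr m₀ s) = (((-(s : ℤ)) : WithTop ℤ) : WithBot (WithTop ℤ)) :=
    le_antisymm ((GrothLib.GrLC.endDeg_le_iff _ _).2 fun g hg =>
        (GrothLib.GrLC.Hgr_eq_bot_iff_van I₀ hl s g).2 (GrothLib.GrLC.van_S k s fun _ => hg))
      (GrothLib.GrLC.le_endDeg _ fun h => GrothLib.GrLC.not_van_S k s
        ((GrothLib.GrLC.Hgr_eq_bot_iff_van I₀ hl s _).1 h))
  -- the grading of the Veronese subring
  let 𝒜' : ℤ → AddSubgroup R' := fun j => (𝒜 (j * d)).comap (φ : R' →+ R)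
  have hin : ∀ (g : ℤ), (d : ℤ) ∣ g → ∀ p ∈ 𝒜 g, p ∈ φ.range := fun g hg p hp => by
    refine (hrange p).2 fun i hi => MvPolynomial.ext _ _ fun e => ?_
    rw [MvPolynomial.coeff_homogeneousComponent, MvPolynomial.coeff_zero]
    split_ifs with he
    · by_contra hne
      have hw := (show p ∈ 𝒮 g from hp) hne
      rw [GrothLib.GrSyz.weight_one, he] at hw
      exact hi (Int.natCast_dvd_natCast.1 (hw ▸ hg))
    · rfl
  have hout : ∀ (r : R') (g : ℤ), ¬ (d : ℤ) ∣ g → GrothLib.GrLC.cmp 𝒮 g (φ r) = 0 := fun r g hg =>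
    MvPolynomial.ext _ _ fun e => by
      rw [coeff_cmp, MvPolynomial.coeff_zero]
      split_ifs with he
      · have h1 := congrArg (MvPolynomial.coeff e) ((hrange (φ r)).1 ⟨r, rfl⟩ e.degree fun h =>
          hg (he ▸ Int.natCast_dvd_natCast.2 h))
        rwa [MvPolynomial.coeff_homogeneousComponent, if_pos rfl, MvPolynomial.coeff_zero] at h1
      · rfl
  have hpre : ∀ (j : ℤ) (r : R'), ∃ t, φ t = GrothLib.GrLC.cmp 𝒮 (j * d) (φ r) := fun j r =>
    hin _ (dvd_mul_left _ _) _ (GrothLib.GrLC.cmp_mem 𝒮 _ _)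
  choose pre hpre using hpre
  let pr : ℤ → R' →+ R' := fun j => AddMonoidHom.mk' (pre j) fun a b =>
    hφ (by rw [map_add, hpre, hpre, hpre, map_add, map_add])
  have hd0 : (d : ℤ) ≠ 0 := by omega
  letI : DirectSum.Decomposition 𝒜' :=
    (GrothLib.GrLC.isInternal_of_proj 𝒜' pr
      (fun j r hr => hφ ((hpre j r).trans (GrothLib.GrLC.cmp_of_mem 𝒮 hr)))
      (fun j i hne r hr => hφ (((hpre j r).trans
        (GrothLib.GrLC.cmp_of_mem_ne 𝒮 hr fun h => hne (mul_right_cancel₀ hd0 h))).trans (map_zero φ).symm))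
      (fun j r => by
        change φ (pre j r) ∈ 𝒮 (j * d)
        rw [hpre]
        exact GrothLib.GrLC.cmp_mem 𝒮 _ _)
      (fun r => by
        obtain ⟨S, hS⟩ := GrothLib.GrLC.exists_sum_cmp 𝒮 (φ r)
        refine ⟨(S.filter fun g => (d : ℤ) ∣ g).image (· / (d : ℤ)), hφ ?_⟩
        rw [Finset.sum_image fun a ha b hb h => by
            rw [← Int.ediv_mul_cancel (Finset.mem_filter.1 ha).2, ← Int.ediv_mul_cancel (Finset.mem_filter.1 hb).2]
            exact congrArg (· * (d : ℤ)) h,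
          map_sum]
        conv_lhs => rw [hS, ← Finset.sum_filter_add_sum_filter_not S (fun g => (d : ℤ) ∣ g)]
        rw [Finset.sum_eq_zero (s := S.filter fun g => ¬ (d : ℤ) ∣ g) fun g hg =>
          hout r g (Finset.mem_filter.1 hg).2, add_zero]
        refine Finset.sum_congr rfl fun g hg => ?_
        change _ = φ (pre (g / d) r)
        rw [hpre, Int.ediv_mul_cancel (Finset.mem_filter.1 hg).2])).chooseDecomposition
  haveI : SetLike.GradedMonoid 𝒜' :=
    { one_mem := by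
        change φ 1 ∈ 𝒮 (0 * d)
        rw [map_one, zero_mul]
        exact SetLike.GradedOne.one_mem
      mul_mem := fun {i j a b} ha hb => by
        change φ (a * b) ∈ 𝒮 ((i + j) * d)
        rw [map_mul, add_mul]
        exact SetLike.mul_mem_graded (show φ a ∈ 𝒮 (i * d) from ha) (show φ b ∈ 𝒮 (j * d) from hb) }
  letI : GradedRing 𝒜' := { ‹SetLike.GradedMonoid 𝒜'›, ‹DirectSum.Decomposition 𝒜'› with }
  have hdeg : ∀ j : ℤ, (𝒜' j).map (φ : R' →+ R) = 𝒜 (j * d) := fun j => by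
    refine le_antisymm ?_ fun p hp => ?_
    · rintro _ ⟨r, hr, rfl⟩; exact hr
    · obtain ⟨r, rfl⟩ := hin _ (dvd_mul_left _ _) p hp
      exact ⟨r, hp, rfl⟩
  haveI := Groth.Agent.S18671.isNoetherianRing_veronese φ hφ d (by omega) hdeg
  haveI : Nontrivial R' := φ.domain_nontrivial
  have hpos' := GrothLib.GrLC.Ver.neg_eq_bot hdeg hφ hpos (by omega)
  haveI hmax : (GrothLib.GrLC.Ver.irrel 𝒜').toIdeal.IsMaximal :=
    GrothLib.GrLC.isMaximal_of_isStarLocal (GrothLib.GrLC.pos_of_bot hpos')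
      (GrothLib.GrLC.Ver.isStarLocal_irrel hpos' (GrothLib.GrLC.Ver.isField_zero hdeg hφ h0))
  obtain rfl : m' = (GrothLib.GrLC.Ver.irrel 𝒜').toIdeal := by
    refine (hmax.eq_of_le (Ideal.IsMaximal.ne_top ‹_›) (Ideal.span_le.2 fun r hr => ?_)).symm
    obtain ⟨j, hj, hr⟩ := Set.mem_iUnion₂.1 hr
    rw [hm', SetLike.mem_coe, Ideal.mem_comap, RingHom.mem_ker, MvPolynomial.constantCoeff_eq]
    by_contra hne
    have hw := (show φ r ∈ 𝒮 (j * d) from hr) hne
    rw [map_zero] at hw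
    exact (mul_pos (show (0 : ℤ) < j from hj) (by omega : (0 : ℤ) < d)).ne hw
  have hρ : (n : ℤ) - s < d := by
    by_contra hcon
    obtain ⟨t, rfl⟩ := hdn
    obtain ⟨u, rfl⟩ : ∃ u, t = u + 1 := ⟨t - 1, by
      rcases Nat.eq_zero_or_pos t with rfl | ht
      · simp at hsn; omega
      · omega⟩
    rw [mul_add, mul_one] at hcon hmin
    push_cast at hcon
    have := hmin (d * u) (by nlinarith) (dvd_mul_right _ _)
    omega
  rw [Groth.Agent.S18655.result R 𝒜 hpos h0 m hm GrothLib.GrLC.Ver.irrel_toIdeal hstd s hn I (-(s : ℤ)) ha d (by omega)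
    R' 𝒜' φ hφ hdeg (GrothLib.GrLC.Ver.irrel 𝒜') GrothLib.GrLC.Ver.irrel_toIdeal ((n : ℤ) - s) (by omega) hρ
    (by
      obtain ⟨t, ht⟩ := hdn
      exact ⟨-t, by rw [ht]; push_cast; ring⟩)]
  refine congrArg Nat.cast ?_
  obtain ⟨r, rfl⟩ : ∃ r, s = r + 1 := ⟨s - 1, by omega⟩
  have h1 : Module.finrank k (GrSyz.stdGr k (Fin (r + 1)) ((n : ℤ) - (r + 1 : ℕ))) =
      Module.finrank (GrLC.deg0 𝒜) (GrLC.comp 𝒜 𝒜 ((n : ℤ) - (r + 1 : ℕ))) :=
    congrArg Cardinal.toNat (rank_eq_of_equiv_equiv c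
      (AddEquiv.refl (GrSyz.stdGr k (Fin (r + 1)) ((n : ℤ) - (r + 1 : ℕ))) : _ ≃+ GrLC.comp 𝒜 𝒜 ((n : ℤ) - (r + 1 : ℕ)))
      hc fun a x => Subtype.ext (MvPolynomial.smul_eq_C_mul (x : R) a))
  rw [← h1]
  have h2 := GrothLib.GrSyz.finrank_piece (k := k) (r := r) ((n : ℤ) - (r + 1 : ℕ))
  rw [if_pos (by omega), Nat.cast_inj] at h2
  rw [h2, show r + ((n : ℤ) - (r + 1 : ℕ)).toNat = n - 1 by omega, Nat.add_sub_cancel]

end Groth.Agent.S20027
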