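import Groth.Statements.S2006
import Groth.Agent.Lib.Glue.Finite
-- import your own Groth.Agent.* helpers here

set_option autoImplicit false
universe u
open TensorProduct
open EtAlg

namespace Groth.Agent.S2006

/-- Let R -> R' induce bijections R/f^n R -> R'/f^n R' for all n > 0 and let M be an R-module. Then M is
finitely generated if and only if R' ⊗_R M is finitely generated over R' and M_f is finitely
generated over R_f. -/
theorem result (R R' : Type u) [CommRing R] [CommRing R'] [Algebra R R'] (f : R)
    (hq : EtGlue.QuotPowBijective R R' f) (M : Type u) [AddCommGroup M] [Module R M] :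
    Module.Finite R M ↔ Module.Finite R' (R' ⊗[R] M) ∧
      Module.Finite (Localization.Away f) (LocalizedModule (Submonoid.powers f) M) := by
  let e : LocalizedModule (Submonoid.powers f) M ≃ₗ[Localization.Away f] Localization.Away f ⊗[R] M :=
    LocalizedModule.equivTensorProduct (Submonoid.powers f) M
  refine ⟨fun _ => ⟨inferInstance, Module.Finite.equiv e.symm⟩, fun ⟨_, _⟩ => ?_⟩
  haveI : Module.Finite (Localization.Away f) (Localization.Away f ⊗[R] M) := Module.Finite.equiv e
  exact Glue.finite_of_tensor hq (Localization.Away f) M

end Groth.Agent.S2006
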