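import Groth.Statements.S2007
import Groth.Agent.Lib.Glue.IdealTorsion
-- import your own Groth.Agent.* helpers here

set_option autoImplicit false
universe u
open TensorProduct
open EtAlg

namespace Groth.Agent.S2007

/-- Let R -> S be a flat ring map and I a finitely generated ideal of R such that R/I -> S/IS is
bijective. Let N be an R-module, M' an S-module and φ : M' -> S ⊗_R N an S-linear map whose kernel
and cokernel are I-power torsion (every element of the kernel, resp. of the target modulo the image,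
is killed by some power of I). Then there are an R-module M, an R-linear map ψ : M -> N and an
S-isomorphism S ⊗_R M ≅ M' identifying φ with the base change of ψ. -/
theorem result (R S : Type u) [CommRing R] [CommRing S] [Algebra R S] [Module.Flat R S] (I : Ideal R)
    (hI : I.FG) (hq : Function.Bijective (Ideal.quotientMap (I.map (algebraMap R S)) (algebraMap R S) Ideal.le_comap_map))
    (N : Type u) [AddCommGroup N] [Module R N] (M' : Type u) [AddCommGroup M'] [Module S M'] (φ : M' →ₗ[S] S ⊗[R] N)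
    (hker : ∀ x : M', φ x = 0 → ∃ n : ℕ, ∀ a ∈ I ^ n, algebraMap R S a • x = 0)
    (hcoker : ∀ y : S ⊗[R] N, ∃ n : ℕ, ∀ a ∈ I ^ n, algebraMap R S a • y ∈ LinearMap.range φ) :
    ∃ (M : Type u) (_ : AddCommGroup M) (_ : Module R M) (ψ : M →ₗ[R] N) (e : S ⊗[R] M ≃ₗ[S] M'),
      φ ∘ₗ e.toLinearMap = ψ.baseChange S := by
  letI : Module R M' := Module.compHom M' (algebraMap R S)
  haveI : IsScalarTower R S M' := IsScalarTower.of_algebraMap_smul fun r x => rfl
  let M : Submodule R (M' × N) :=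
    LinearMap.eqLocus ((φ.restrictScalars R).comp (LinearMap.fst R M' N))
      ((TensorProduct.mk R S N 1).comp (LinearMap.snd R M' N))
  let p : M →ₗ[R] M' := (LinearMap.fst R M' N).comp M.subtype
  let ψ : M →ₗ[R] N := (LinearMap.snd R M' N).comp M.subtype
  have hφ : ∀ z, φ (p.liftBaseChange S z) = ψ.baseChange S z := by
    intro z
    induction z with
    | zero => simp
    | tmul s m =>
      rw [LinearMap.liftBaseChange_tmul, map_smul, LinearMap.baseChange_tmul,
        show φ (p m) = (1 : S) ⊗ₜ[R] ψ m from m.2, smul_tmul', smul_eq_mul, mul_one]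
    | add a b ha hb => simp only [map_add, ha, hb]
  have htK : ∀ d : LinearMap.ker ψ, ∃ n : ℕ, ∀ a ∈ I ^ n, a • d = 0 := fun d => by
    have hpsi : ψ d = 0 := LinearMap.mem_ker.mp d.2
    obtain ⟨n, hn⟩ := hker (p d) (by rw [show φ (p d) = (1 : S) ⊗ₜ[R] ψ d from d.1.2, hpsi, tmul_zero])
    refine ⟨n, fun a ha => Subtype.ext (Subtype.ext (Prod.ext ?_ ?_))⟩
    · exact hn a ha
    · show a • ψ d = 0
      rw [hpsi, smul_zero]
  have htC : ∀ c : N ⧸ LinearMap.range ψ, ∃ n : ℕ, ∀ a ∈ I ^ n, a • c = 0 := fun c => by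
    obtain ⟨v, rfl⟩ := Submodule.Quotient.mk_surjective _ c
    obtain ⟨n, hn⟩ := hcoker ((1 : S) ⊗ₜ[R] v)
    refine ⟨n, fun a ha => (Submodule.Quotient.mk_eq_zero _).mpr ?_⟩
    obtain ⟨x, hx⟩ := hn a ha
    exact ⟨⟨(x, a • v), by
      show φ x = (1 : S) ⊗ₜ[R] (a • v)
      rw [hx, algebraMap_smul, tmul_smul]⟩, rfl⟩
  have hdec : ∀ z : S ⊗[R] N, ∃ (v : N) (z' : S ⊗[R] M), z = (1 : S) ⊗ₜ[R] v + ψ.baseChange S z' := by
    intro z
    obtain ⟨c, hc⟩ := Glue.surjective_one_tmul_of_pow_smul hq htC ((LinearMap.range ψ).mkQ.lTensor S z)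
    obtain ⟨v, rfl⟩ := Submodule.Quotient.mk_surjective _ c
    obtain ⟨z', hz'⟩ := (lTensor_exact S (LinearMap.exact_map_mkQ_range ψ)
      (Submodule.mkQ_surjective _) (z - (1 : S) ⊗ₜ[R] v)).mp (by
        rw [map_sub, LinearMap.lTensor_tmul, ← hc]; exact sub_self _)
    exact ⟨v, z', by rw [show ψ.baseChange S z' = z - (1 : S) ⊗ₜ[R] v from hz']; abel⟩
  have hbij : Function.Bijective (p.liftBaseChange S) := by
    refine ⟨(injective_iff_map_eq_zero _).mpr fun z hz => ?_, fun x => ?_⟩
    · obtain ⟨k, hk⟩ := (Module.Flat.lTensor_exact S (N := ↥(LinearMap.ker ψ)) (f := (LinearMap.ker ψ).subtype) (g := ψ)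
      (LinearMap.exact_subtype_ker_map ψ) z).mp
        (show ψ.baseChange S z = 0 by rw [← hφ, hz, map_zero])
      obtain ⟨d, rfl⟩ := Glue.surjective_one_tmul_of_pow_smul (M := LinearMap.ker ψ) hq htK k
      rw [TensorProduct.mk_apply, LinearMap.lTensor_tmul] at hk
      subst hk
      have h0 : p (d : M) = 0 := by simpa using hz
      have : d = 0 := Subtype.ext (Subtype.ext (Prod.ext h0 (LinearMap.mem_ker.mp d.2)))
      rw [this, map_zero, tmul_zero]
    · obtain ⟨v, z', hv⟩ := hdec (φ x)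
      have hmem : (x - p.liftBaseChange S z', v) ∈ M := by
        show φ (x - p.liftBaseChange S z') = (1 : S) ⊗ₜ[R] v
        rw [map_sub, hφ, hv, add_sub_cancel_right]
      refine ⟨(1 : S) ⊗ₜ[R] ⟨_, hmem⟩ + z', ?_⟩
      rw [map_add, LinearMap.liftBaseChange_tmul, one_smul]
      exact sub_add_cancel x _
  refine ⟨M, inferInstance, inferInstance, ψ, LinearEquiv.ofBijective _ hbij, LinearMap.ext fun z => ?_⟩
  exact hφ z

end Groth.Agent.S2007
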