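import Groth.Statements.S2008
import Mathlib.RingTheory.Flat.FaithfullyFlat.Algebra
import Mathlib.RingTheory.TensorProduct.Quotient
import Mathlib.RingTheory.LocalRing.ResidueField.Ideal
import Mathlib.Tactic.TFAE
-- import your own Groth.Agent.* helpers here

set_option autoImplicit false
universe u
open TensorProduct
open EtAlg

namespace Groth.Agent.S2008

/-- For a ring map R -> S and an ideal I of R the following are equivalent: (1) S is flat over R and
S/IS is faithfully flat over R/I; (2) S is flat over R and Spec(S/IS) -> Spec(R/I) is surjective;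
(3) S is flat over R and S ⊗_R M is nonzero for every nonzero R-module M killed by I; (4) S is flat
over R and S ⊗_R M is nonzero for every nonzero I-power torsion R-module M. (Faithfulness of base
change on these subcategories is stated as detection of nonzero objects, which is equivalent for an
exact functor.) -/
theorem result (R S : Type u) [CommRing R] [CommRing S] [Algebra R S] (I : Ideal R) :
    List.TFAE [
      Module.Flat R S ∧ Module.FaithfullyFlat (R ⧸ I) (S ⧸ I.map (algebraMap R S)),
      Module.Flat R S ∧ Function.Surjective (PrimeSpectrum.comap (Ideal.quotientMap (I.map (algebraMap R S)) (algebraMap R S) Ideal.le_comap_map)),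
      Module.Flat R S ∧ ∀ (M : Type u) [AddCommGroup M] [Module R M], (∀ (a : R) (m : M), a ∈ I → a • m = 0) →
        Nontrivial M → Nontrivial (S ⊗[R] M),
      Module.Flat R S ∧ ∀ (M : Type u) [AddCommGroup M] [Module R M], (∀ m : M, ∃ n : ℕ, ∀ a ∈ I ^ n, a • m = 0) →
        Nontrivial M → Nontrivial (S ⊗[R] M)] := by
  let J := I.map (algebraMap R S)
  let φ := Ideal.quotientMap J (algebraMap R S) Ideal.le_comap_map
  have hflat : Module.Flat R S → Module.Flat (R ⧸ I) (S ⧸ J) := fun _ =>
    Module.Flat.of_linearEquiv (Algebra.TensorProduct.quotIdealMapEquivQuotTensor S I).toLinearEquiv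
  tfae_have 1 → 2 := fun ⟨h, hf⟩ => ⟨h, PrimeSpectrum.comap_surjective_of_faithfullyFlat⟩
  tfae_have 2 → 1 := fun ⟨h, hs⟩ => by
    haveI := hflat h
    exact ⟨h, Module.FaithfullyFlat.of_comap_surjective hs⟩
  tfae_have 4 → 3 := fun ⟨h, h4⟩ => ⟨h, fun M _ _ hM hn =>
    h4 M (fun m => ⟨1, fun a ha => hM a m (by rwa [pow_one] at ha)⟩) hn⟩
  tfae_have 3 → 2 := fun ⟨h, h3⟩ => by
    refine ⟨h, fun p => ?_⟩
    let P : PrimeSpectrum R := PrimeSpectrum.comap (Ideal.Quotient.mk I) p
    have hIP : ∀ a ∈ I, algebraMap R P.asIdeal.ResidueField a = 0 := fun a ha =>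
      Ideal.algebraMap_residueField_eq_zero.mpr (by
        show Ideal.Quotient.mk I a ∈ p.asIdeal
        rw [Ideal.Quotient.eq_zero_iff_mem.mpr ha]; exact zero_mem _)
    have h1 : Nontrivial (S ⊗[R] P.asIdeal.ResidueField) :=
      h3 _ (fun a m ha => by rw [Algebra.smul_def, hIP a ha, zero_mul]) inferInstance
    obtain ⟨q, hq⟩ := (PrimeSpectrum.nontrivial_iff_mem_rangeComap (S := S) P).mp
      (TensorProduct.comm R S P.asIdeal.ResidueField).toEquiv.symm.nontrivial
    have hqJ : J ≤ q.asIdeal := Ideal.map_le_iff_le_comap.mpr fun a ha => by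
      show a ∈ (PrimeSpectrum.comap (algebraMap R S) q).asIdeal
      rw [hq]
      show Ideal.Quotient.mk I a ∈ p.asIdeal
      rw [Ideal.Quotient.eq_zero_iff_mem.mpr ha]; exact zero_mem _
    have hk : RingHom.ker (Ideal.Quotient.mk J) ≤ q.asIdeal := by rwa [Ideal.mk_ker]
    let q' : PrimeSpectrum (S ⧸ J) :=
      ⟨q.asIdeal.map (Ideal.Quotient.mk J), Ideal.map_isPrime_of_surjective Ideal.Quotient.mk_surjective hk⟩
    have hq' : PrimeSpectrum.comap (Ideal.Quotient.mk J) q' = q := PrimeSpectrum.ext (by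
      show (q.asIdeal.map (Ideal.Quotient.mk J)).comap (Ideal.Quotient.mk J) = q.asIdeal
      rw [Ideal.comap_map_of_surjective _ Ideal.Quotient.mk_surjective, ← RingHom.ker_eq_comap_bot]
      exact sup_eq_left.mpr hk)
    refine ⟨q', PrimeSpectrum.comap_injective_of_surjective _ (Ideal.Quotient.mk_surjective (I := I)) ?_⟩
    show PrimeSpectrum.comap (Ideal.Quotient.mk I) (PrimeSpectrum.comap φ q') = P
    rw [← hq, ← hq', ← PrimeSpectrum.comap_comp_apply, ← PrimeSpectrum.comap_comp_apply]
    rfl
  tfae_have 1 → 4 := fun ⟨h, hf⟩ => by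
    refine ⟨h, fun M _ _ hM hn => ?_⟩
    obtain ⟨m, hm⟩ := exists_ne (0 : M)
    have key : ∀ n : ℕ, ∀ m : M, m ≠ 0 → (∀ a ∈ I ^ n, a • m = 0) → ∃ m' : M, m' ≠ 0 ∧ ∀ a ∈ I, a • m' = 0 := by
      intro n
      induction n with
      | zero => exact fun m hm h0 => absurd (by simpa using h0 1 (by simp)) hm
      | succ n ih =>
        intro m hm h0
        by_cases hc : ∀ a ∈ I, a • m = 0
        · exact ⟨m, hm, hc⟩
        push Not at hc
        obtain ⟨b, hb, hbm⟩ := hc
        exact ih (b • m) hbm fun a ha => by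
          rw [← mul_smul]; exact h0 _ (by rw [pow_succ]; exact Ideal.mul_mem_mul ha hb)
    obtain ⟨n, hn'⟩ := hM m
    obtain ⟨m', hm', hIm⟩ := key n m hm hn'
    let g := LinearMap.toSpanSingleton R M m'
    have hker : I ≤ LinearMap.ker g := fun a ha => hIm a ha
    have hne : LinearMap.ker g ≠ ⊤ := fun htop => hm' (by
      have h1 : (1 : R) ∈ LinearMap.ker g := htop ▸ Submodule.mem_top
      simpa [g] using h1)
    obtain ⟨p, hp, hle⟩ := Ideal.exists_le_maximal _ hne
    haveI := hp.isPrime
    let pb : PrimeSpectrum (R ⧸ I) := ⟨p.map (Ideal.Quotient.mk I),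
      Ideal.map_isPrime_of_surjective Ideal.Quotient.mk_surjective (by rw [Ideal.mk_ker]; exact hker.trans hle)⟩
    obtain ⟨q, hq⟩ := PrimeSpectrum.comap_surjective_of_faithfullyFlat (B := S ⧸ J) pb
    have hqp : (q.asIdeal.comap (Ideal.Quotient.mk J)).comap (algebraMap R S) = p := by
      have h2 := congrArg (fun x : PrimeSpectrum (R ⧸ I) => x.asIdeal.comap (Ideal.Quotient.mk I)) hq
      dsimp only [pb] at h2
      rw [Ideal.comap_map_of_surjective _ Ideal.Quotient.mk_surjective, ← RingHom.ker_eq_comap_bot,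
        Ideal.mk_ker, sup_eq_left.mpr (hker.trans hle)] at h2
      exact h2
    have hinj : Function.Injective ((LinearMap.ker g).liftQ g le_rfl) :=
      LinearMap.ker_eq_bot.mp (Submodule.ker_liftQ_eq_bot _ _ _ le_rfl)
    haveI := h
    have hinjS := Module.Flat.lTensor_preserves_injective_linearMap (M := S) _ hinj
    refine @Function.Injective.nontrivial _ _ ?_ _ hinjS
    have hQ : Nontrivial (S ⧸ Ideal.map (algebraMap R S) (LinearMap.ker g)) :=
      Ideal.Quotient.nontrivial_iff.mpr fun htop => (q.isPrime.comap (Ideal.Quotient.mk J)).ne_top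
        (top_le_iff.mp (htop.symm.le.trans (Ideal.map_le_iff_le_comap.mpr (hle.trans hqp.symm.le))))
    exact (Algebra.TensorProduct.quotIdealMapEquivTensorQuot S (LinearMap.ker g)).toEquiv.symm.nontrivial
  tfae_finish

end Groth.Agent.S2008
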