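import Groth.Statements.S2009
import Groth.Agent.Lib.Glue.IdealTorsion
import Mathlib.RingTheory.TensorProduct.Quotient
-- import your own Groth.Agent.* helpers here

set_option autoImplicit false
universe u
open TensorProduct
open EtAlg

namespace Groth.Agent.S2009

/-- Let R -> S be flat with S/IS faithfully flat over R/I. Then the natural map M -> S ⊗_R M is
bijective for every I-power torsion R-module M if and only if R/I -> S/IS is bijective. -/
theorem result (R S : Type u) [CommRing R] [CommRing S] [Algebra R S] (I : Ideal R)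
    [Module.Flat R S] [Module.FaithfullyFlat (R ⧸ I) (S ⧸ I.map (algebraMap R S))] :
    (∀ (M : Type u) [AddCommGroup M] [Module R M], (∀ m : M, ∃ n : ℕ, ∀ a ∈ I ^ n, a • m = 0) →
      Function.Bijective (TensorProduct.mk R S M 1)) ↔
    Function.Bijective (Ideal.quotientMap (I.map (algebraMap R S)) (algebraMap R S) Ideal.le_comap_map) := by
  refine ⟨fun h => ?_, fun hq M _ _ hM => ⟨(injective_iff_map_eq_zero _).mpr fun m hm => ?_,
    Glue.surjective_one_tmul_of_pow_smul hq hM⟩⟩
  · have hb := h (R ⧸ I) fun q => ⟨1, fun a ha => by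
      rw [Algebra.smul_def, Ideal.Quotient.algebraMap_eq,
        Ideal.Quotient.eq_zero_iff_mem.mpr (by rwa [pow_one] at ha), zero_mul]⟩
    let e := (Algebra.TensorProduct.quotIdealMapEquivTensorQuot S I).symm
    have he : ⇑(Ideal.quotientMap (I.map (algebraMap R S)) (algebraMap R S) Ideal.le_comap_map) =
        ⇑e ∘ ⇑(TensorProduct.mk R S (R ⧸ I) 1) := by
      funext x
      obtain ⟨r, rfl⟩ := Ideal.Quotient.mk_surjective x
      rw [Function.comp_apply, Ideal.quotientMap_mk]
      show Ideal.Quotient.mk _ (algebraMap R S r) = Submodule.Quotient.mk (r • (1 : S))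
      rw [Algebra.algebraMap_eq_smul_one]
      rfl
    rw [he]
    exact e.bijective.comp hb
  · obtain ⟨n, hn⟩ := hM m
    exact Glue.eq_zero_of_pow_smul_eq_zero hq hn hm

end Groth.Agent.S2009
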