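import Groth.Statements.S2010
import Groth.Agent.Lib.GlueExt4.Basic

set_option autoImplicit false
universe u
open TensorProduct
open EtAlg

namespace Groth.Agent.S2010

/-- Let R -> S be flat and I a finitely generated ideal with R/I -> S/IS bijective; let N be an R-module
and M an I-power torsion R-module. For every short exact sequence 0 -> S ⊗_R N -> E' -> S ⊗_R M -> 0
of S-modules there are a short exact sequence 0 -> N -> E -> M -> 0 of R-modules and an R-linear map
E -> E' making the two squares with the maps n ↦ 1 ⊗ n and m ↦ 1 ⊗ m commute. -/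
theorem result (R S : Type u) [CommRing R] [CommRing S] [Algebra R S] [Module.Flat R S] (I : Ideal R)
    (hI : I.FG) (hq : Function.Bijective (Ideal.quotientMap (I.map (algebraMap R S)) (algebraMap R S) Ideal.le_comap_map))
    (N M : Type u) [AddCommGroup N] [Module R N] [AddCommGroup M] [Module R M]
    (hM : ∀ m : M, ∃ n : ℕ, ∀ a ∈ I ^ n, a • m = 0)
    (E' : Type u) [AddCommGroup E'] [Module S E'] [Module R E'] [IsScalarTower R S E'] (i' : S ⊗[R] N →ₗ[S] E') (p' : E' →ₗ[S] S ⊗[R] M)
    (hi' : Function.Injective i') (hp' : Function.Surjective p') (hex' : LinearMap.range i' = LinearMap.ker p') :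
    ∃ (E : Type u) (_ : AddCommGroup E) (_ : Module R E) (i : N →ₗ[R] E) (p : E →ₗ[R] M) (g : E →ₗ[R] E'),
      Function.Injective i ∧ Function.Surjective p ∧ LinearMap.range i = LinearMap.ker p ∧
      (∀ n : N, g (i n) = i' ((1 : S) ⊗ₜ[R] n)) ∧ (∀ e : E, p' (g e) = (1 : S) ⊗ₜ[R] p e) := by
  exact GlueExt4.exists_extension_lift S hI hq N M hM E' (i'.restrictScalars R) (p'.restrictScalars R)
    hi' hp' (SetLike.ext fun x => SetLike.ext_iff.mp hex' x)

end Groth.Agent.S2010
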