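import Groth.Statements.S2012
import Groth.Agent.Lib.Hensel.Basic
import Mathlib.RingTheory.Ideal.Pure
import Mathlib.RingTheory.Ideal.IdempotentFG
import Mathlib.RingTheory.Nakayama
-- import your own Groth.Agent.* helpers here

set_option autoImplicit false
universe u
open EtAlg

namespace Groth.Agent.S2012

/-- Let A be a ring and I an ideal contained in its Jacobson radical. Let B be an A-algebra which is
flat, integral and of finite presentation over A and such that A/I -> B/IB is bijective. Then A -> B
is bijective. -/
theorem result (A B : Type u) [CommRing A] [CommRing B] [Algebra A B]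
    (I : Ideal A) (hI : I ≤ (⊥ : Ideal A).jacobson) [Module.Flat A B] [Algebra.IsIntegral A B] [Algebra.FinitePresentation A B]
    (hq : Function.Bijective (Ideal.quotientMap (I.map (algebraMap A B)) (algebraMap A B) Ideal.le_comap_map)) :
    Function.Bijective (algebraMap A B) := by
  have : Module.Finite A B := Algebra.IsIntegral.finite
  set f := Algebra.linearMap A B
  have hsurj : Function.Surjective f := by
    refine LinearMap.surjective_of_surjective_comp_mkQ f I hI fun y ↦ ?_
    obtain ⟨y, rfl⟩ := Submodule.Quotient.mk_surjective _ y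
    obtain ⟨a, ha⟩ := hq.2 (Ideal.Quotient.mk (I.map (algebraMap A B)) y)
    obtain ⟨a, rfl⟩ := Ideal.Quotient.mk_surjective a
    rw [Ideal.quotientMap_mk, Ideal.Quotient.eq] at ha
    refine ⟨a, (Submodule.Quotient.eq _).mpr ?_⟩
    rw [Ideal.smul_top_eq_map]
    exact ha
  refine ⟨?_, hsurj⟩
  set K := RingHom.ker (algebraMap A B)
  have hfg : K.FG := Algebra.FinitePresentation.ker_fG_of_surjective (Algebra.ofId A B) hsurj
  have : K.Pure := Module.Flat.of_linearEquiv
    (Ideal.quotientKerAlgEquivOfSurjective (f := Algebra.ofId A B) hsurj).toLinearEquiv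
  obtain ⟨e, he, hKe⟩ := (Ideal.isIdempotentElem_iff_of_fg _ hfg).mp (Ideal.isIdempotentElem_of_pure K)
  have heI : e ∈ I := by
    rw [← Ideal.Quotient.eq_zero_iff_mem]
    apply hq.1
    rw [map_zero, Ideal.quotientMap_mk, show algebraMap A B e = 0 from
      (hKe ▸ Submodule.mem_span_singleton_self e : e ∈ K), map_zero]
  rw [RingHom.injective_iff_ker_eq_bot]
  show K = ⊥
  rw [hKe, GrothLib.Hensel.eq_zero_of_isIdempotentElem_of_mem_jacobson he (hI heI)]
  exact Ideal.span_singleton_eq_bot.mpr rfl
end Groth.Agent.S2012
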