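import Groth.Statements.S2014
import Mathlib.RingTheory.Length
import Mathlib.RingTheory.Nakayama
import Mathlib.RingTheory.Ideal.MinimalPrime.Noetherian
-- import your own Groth.Agent.* helpers here

set_option autoImplicit false
universe u
open EtAlg

namespace Groth.Agent.S2014

/-- Let R be a Noetherian local ring of Krull dimension 1 and x an element of the maximal ideal
contained in no minimal prime of R. Then the number of minimal prime ideals of R is at most the
length of R/xR as an R-module. -/
theorem result (R : Type u) [CommRing R] [IsNoetherianRing R] [IsLocalRing R]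
    (hdim : ringKrullDim R = 1) (x : R) (hx : x ∈ IsLocalRing.maximalIdeal R) (hmin : ∀ p ∈ minimalPrimes R, x ∉ p) :
    (Set.ncard (minimalPrimes R) : ℕ∞) ≤ Module.length R (R ⧸ Ideal.span {x}) := by
  classical
  have hfin : (minimalPrimes R).Finite := minimalPrimes.finite_of_isNoetherianRing R
  rw [Set.ncard_eq_toFinset_card _ hfin]
  suffices key : ∀ t : Finset (Ideal R), (∀ p ∈ t, p ∈ minimalPrimes R) →
      (t.card : ℕ∞) ≤ Module.length R (R ⧸ (t.inf id ⊔ Ideal.span {x})) by
    refine (key hfin.toFinset fun p hp => hfin.mem_toFinset.mp hp).trans ?_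
    exact Module.length_le_of_surjective (Submodule.factor (le_sup_right : Ideal.span {x} ≤ hfin.toFinset.inf id ⊔ Ideal.span {x}))
      (Submodule.factor_surjective _)
  intro t
  induction t using Finset.induction_on with
  | empty => simp
  | insert q t hqt ih =>
    intro ht
    rw [Finset.inf_insert, id, Finset.card_insert_of_notMem hqt]
    set J := t.inf id
    set P₁ := (q ⊓ J) ⊔ Ideal.span {x}
    set P₂ := J ⊔ Ideal.span {x}
    have hle : P₁ ≤ P₂ := sup_le_sup_right inf_le_right _
    let g : R ⧸ P₁ →ₗ[R] R ⧸ P₂ := Submodule.factor hle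
    have hne : Nontrivial (LinearMap.ker g) := by
      by_contra hn
      rw [not_nontrivial_iff_subsingleton] at hn
      have hJ : J ≤ (q ⊓ J) ⊔ Ideal.span {x} • J := by
        intro a ha
        have h0 : (⟨Submodule.Quotient.mk a, (Submodule.Quotient.mk_eq_zero P₂).mpr (Submodule.mem_sup_left ha)⟩ :
            LinearMap.ker g) = 0 := Subsingleton.elim _ _
        have h1 : a ∈ P₁ := (Submodule.Quotient.mk_eq_zero _).mp (congrArg Subtype.val h0)
        obtain ⟨b, hb, c, hc, rfl⟩ := Submodule.mem_sup.mp h1
        obtain ⟨r, rfl⟩ := Ideal.mem_span_singleton'.mp hc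
        have hr : r ∈ J := by
          rw [Submodule.mem_finsetInf]
          intro p hp
          have hmem : r * x ∈ p :=
            (Submodule.mem_finsetInf.mp ((Submodule.add_mem_iff_right J hb.2).mp ha)) p hp
          exact ((ht p (Finset.mem_insert_of_mem hp)).1.1.mem_or_mem hmem).resolve_right
            (hmin p (ht p (Finset.mem_insert_of_mem hp)))
        refine Submodule.add_mem_sup hb ?_
        rw [mul_comm, ← smul_eq_mul]
        exact Submodule.smul_mem_smul (Ideal.mem_span_singleton_self x) hr
      have hxj : Ideal.span {x} ≤ Ideal.jacobson ⊥ := by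
        rw [IsLocalRing.jacobson_eq_maximalIdeal _ bot_ne_top, Ideal.span_le, Set.singleton_subset_iff]
        exact hx
      have hJq : J ≤ q := (Submodule.le_of_le_smul_of_le_jacobson_bot (IsNoetherian.noetherian J) hxj hJ).trans inf_le_left
      have hqP : q.IsPrime := (ht q (Finset.mem_insert_self _ _)).1.1
      obtain ⟨p, hp, hpq⟩ := hqP.inf_le'.mp hJq
      have hpm := ht p (Finset.mem_insert_of_mem hp)
      exact hqt (le_antisymm hpq ((ht q (Finset.mem_insert_self _ _)).2 hpm.1 hpq) ▸ hp)
    rw [Module.length_eq_add_of_exact (LinearMap.ker g).subtype g Subtype.val_injective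
      (Submodule.factor_surjective hle) (LinearMap.exact_subtype_ker_map g), Nat.cast_succ, add_comm]
    exact add_le_add (Order.one_le_iff_ne_zero.mpr Module.length_pos.ne') (ih fun p hp => ht p (Finset.mem_insert_of_mem hp))

end Groth.Agent.S2014
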