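import Groth.Statements.S2015
import Mathlib.Algebra.Module.FinitePresentation
import Mathlib.LinearAlgebra.Pi
import Mathlib.Tactic.LinearCombination
-- import your own Groth.Agent.* helpers here

set_option autoImplicit false
universe u
open EtAlg

namespace Groth.Agent.S2015

/-- Let R be a nonzero ring such that for all a, b in R either a divides b or b divides a. Then each
finitely presented R-module decomposes as a direct sum of finitely many cyclic modules R/fR. -/
theorem result (R : Type u) [CommRing R] [Nontrivial R] (h : ∀ a b : R, a ∣ b ∨ b ∣ a)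
    (M : Type u) [AddCommGroup M] [Module R M] [Module.FinitePresentation R M] :
    ∃ (n : ℕ) (f : Fin n → R), Nonempty (M ≃ₗ[R] ((i : Fin n) → R ⧸ Ideal.span {f i})) := by
  classical
  suffices key : ∀ (n : ℕ) (K : Submodule R (Fin n → R)), K.FG →
      ∃ (m : ℕ) (f : Fin m → R), Nonempty (((Fin n → R) ⧸ K) ≃ₗ[R] ((i : Fin m) → R ⧸ Ideal.span {f i})) by
    obtain ⟨n, π, hπ⟩ := Module.Finite.exists_fin' R M
    obtain ⟨m, f, ⟨e⟩⟩ := key n (LinearMap.ker π) (Module.FinitePresentation.fg_ker π hπ)
    exact ⟨m, f, ⟨(π.quotKerEquivOfSurjective hπ).symm.trans e⟩⟩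
  intro n
  induction n with
  | zero =>
    intro K _
    exact ⟨0, Fin.elim0, ⟨LinearEquiv.ofSubsingleton _ _⟩⟩
  | succ n ih =>
    intro K hK
    obtain ⟨s, hs⟩ := hK
    have hmax : ∀ t : Finset R, t.Nonempty → ∃ a ∈ t, ∀ b ∈ t, a ∣ b := by
      intro t ht
      induction ht using Finset.Nonempty.cons_induction with
      | singleton a => exact ⟨a, Finset.mem_singleton_self a, fun b hb => by rw [Finset.mem_singleton.mp hb]⟩
      | cons b t hb ht ih =>
        obtain ⟨a, ha, had⟩ := ih
        rcases h a b with hab | hba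
        · exact ⟨a, Finset.mem_cons.mpr (Or.inr ha), fun c hc => (Finset.mem_cons.mp hc).elim (fun e => e ▸ hab) (had c)⟩
        · exact ⟨b, Finset.mem_cons_self _ _, fun c hc => (Finset.mem_cons.mp hc).elim (fun e => e ▸ dvd_rfl)
            fun hc => hba.trans (had c hc)⟩
    obtain ⟨a, i, u, k, hkK, hku, hui, hdvd⟩ : ∃ (a : R) (i : Fin (n + 1)) (u k : Fin (n + 1) → R),
        k ∈ K ∧ k = a • u ∧ u i = 1 ∧ ∀ g ∈ K, a ∣ g i := by
      rcases s.eq_empty_or_nonempty with hs0 | hs0
      · refine ⟨0, 0, fun _ => 1, 0, K.zero_mem, (zero_smul R _).symm, rfl, fun g hg => ?_⟩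
        rw [← hs, hs0, Finset.coe_empty, Submodule.span_empty, Submodule.mem_bot] at hg
        rw [hg]; exact dvd_zero _
      · obtain ⟨a, ha, had⟩ := hmax ((s ×ˢ (Finset.univ : Finset (Fin (n + 1)))).image fun p => p.1 p.2)
          ((hs0.product Finset.univ_nonempty).image _)
        obtain ⟨⟨k, i⟩, hki, rfl⟩ := Finset.mem_image.mp ha
        have hk : k ∈ s := (Finset.mem_product.mp hki).1
        have hd : ∀ g ∈ s, ∀ j, k i ∣ g j := fun g hg j =>
          had _ (Finset.mem_image.mpr ⟨(g, j), Finset.mem_product.mpr ⟨hg, Finset.mem_univ j⟩, rfl⟩)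
        choose c hc using fun j => hd k hk j
        refine ⟨k i, i, Function.update c i 1, k, hs ▸ Submodule.subset_span hk, ?_,
          Function.update_self i 1 c, fun g hg => ?_⟩
        · funext j
          rcases eq_or_ne j i with rfl | hj
          · simp
          · simp [Function.update_of_ne hj, ← hc]
        · rw [← hs] at hg
          induction hg using Submodule.span_induction with
          | mem g hg => exact hd g hg i
          | zero => exact dvd_zero _
          | add x y _ _ hx hy => exact dvd_add hx hy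
          | smul c x _ hx => exact hx.mul_left c
    let ψ₂ : (Fin (n + 1) → R) →ₗ[R] (Fin n → R) :=
      { toFun := fun v j => v (i.succAbove j) - v i * u (i.succAbove j)
        map_add' := fun v w => funext fun j => by simp [add_mul]; abel
        map_smul' := fun c v => funext fun j => by simp [mul_sub, mul_assoc] }
    let Φ : (Fin (n + 1) → R) →ₗ[R] (R ⧸ Ideal.span {a}) × ((Fin n → R) ⧸ K.map ψ₂) :=
      ((Ideal.span {a}).mkQ.comp (LinearMap.proj i)).prod ((K.map ψ₂).mkQ.comp ψ₂)
    have hψu : ψ₂ u = 0 := funext fun j => by simp [ψ₂, hui]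
    have hΦ : Function.Surjective Φ := by
      rintro ⟨x, w⟩
      obtain ⟨x, rfl⟩ := Submodule.Quotient.mk_surjective _ x
      obtain ⟨w, rfl⟩ := Submodule.Quotient.mk_surjective _ w
      refine ⟨i.insertNth 0 w + x • u, ?_⟩
      have h1 : ψ₂ (i.insertNth 0 w + x • u) = w := by
        rw [map_add, map_smul, hψu, smul_zero, add_zero]
        exact funext fun j => by simp [ψ₂]
      have h2 : (i.insertNth 0 w + x • u : Fin (n + 1) → R) i = x := by simp [hui]
      exact Prod.ext (congrArg Submodule.Quotient.mk h2) (congrArg Submodule.Quotient.mk h1)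
    have hker : LinearMap.ker Φ = K := by
      apply le_antisymm
      · intro v hv
        rw [LinearMap.mem_ker] at hv
        obtain ⟨d, hd⟩ := Ideal.mem_span_singleton'.mp
          ((Submodule.Quotient.mk_eq_zero _).mp (congrArg Prod.fst hv))
        obtain ⟨g, hg, hgv⟩ := (Submodule.Quotient.mk_eq_zero _).mp (congrArg Prod.snd hv)
        obtain ⟨c, hc⟩ := hdvd g hg
        have hdv : v i = d * a := hd.symm
        have : v = g + (d - c) • k := by
          funext j
          rcases eq_or_ne j i with rfl | hj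
          · simp [hku, hui, hdv, hc]; ring
          · obtain ⟨l, rfl⟩ := Fin.exists_succAbove_eq hj
            have e := congrFun hgv l
            simp only [ψ₂, LinearMap.coe_mk, AddHom.coe_mk] at e
            simp only [Pi.add_apply, Pi.smul_apply, hku, smul_eq_mul]
            linear_combination (-1 : R) * e + u (i.succAbove l) * hdv - u (i.succAbove l) * hc
        rw [this]
        exact K.add_mem hg (K.smul_mem _ hkK)
      · intro v hv
        rw [LinearMap.mem_ker]
        obtain ⟨c, hc⟩ := hdvd v hv
        exact Prod.ext ((Submodule.Quotient.mk_eq_zero _).mpr (Ideal.mem_span_singleton'.mpr ⟨c, by rw [mul_comm]; exact hc.symm⟩))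
          ((Submodule.Quotient.mk_eq_zero _).mpr ⟨v, hv, rfl⟩)
    obtain ⟨m, f, ⟨e⟩⟩ := ih (K.map ψ₂) (Submodule.FG.map _ ⟨s, hs⟩)
    refine ⟨m + 1, Fin.cons a f, ⟨?_⟩⟩
    exact (Submodule.quotEquivOfEq _ _ hker.symm).trans ((Φ.quotKerEquivOfSurjective hΦ).trans
      (((LinearEquiv.refl R _).prodCongr e).trans
        (Fin.consLinearEquiv R (fun i : Fin (m + 1) => R ⧸ Ideal.span {(Fin.cons a f : Fin (m + 1) → R) i}))))

end Groth.Agent.S2015
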