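import Groth.Statements.S2016
import Groth.Agent.S2015
import Mathlib

set_option autoImplicit false
universe u
open EtAlg

namespace Groth.Agent.S2016

theorem smul_one_quot {R : Type u} [CommRing R] (c : R) : c • (1 : R ⧸ Ideal.span {c}) = 0 := by
  rw [← map_one (Ideal.Quotient.mk (Ideal.span {c})), ← Ideal.Quotient.mk_eq_mk,
    ← Submodule.Quotient.mk_smul, Submodule.Quotient.mk_eq_zero, smul_eq_mul, mul_one]
  exact Ideal.mem_span_singleton_self _

theorem exists_hom {R : Type u} [CommRing R] {P : Type u} [AddCommGroup P] [Module R P] {n : ℕ}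
    (c : Fin n → R) (y : Fin n → P) (h : ∀ i, c i • y i = 0) :
    ∃ φ : ((i : Fin n) → R ⧸ Ideal.span {c i}) →ₗ[R] P, ∀ i, φ (Pi.single i 1) = y i := by
  classical
  let l : ∀ i, (R ⧸ Ideal.span {c i}) →ₗ[R] P := fun i =>
    Submodule.liftQ (Ideal.span {c i}) (LinearMap.toSpanSingleton R P (y i)) (by
      rw [Ideal.span, Submodule.span_le, Set.singleton_subset_iff, SetLike.mem_coe, LinearMap.mem_ker,
        LinearMap.toSpanSingleton_apply]
      exact h i)
  refine ⟨∑ i, (l i).comp (LinearMap.proj i), fun i => ?_⟩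
  rw [LinearMap.sum_apply, Finset.sum_eq_single i]
  · show l i ((Pi.single i 1 : (i : Fin n) → R ⧸ Ideal.span {c i}) i) = y i
    rw [Pi.single_eq_same]
    exact one_smul R (y i)
  · intro j _ hj
    show l j ((Pi.single i 1 : (i : Fin n) → R ⧸ Ideal.span {c i}) j) = 0
    rw [Pi.single_eq_of_ne hj, map_zero]
  · exact fun h => absurd (Finset.mem_univ i) h

theorem localStep (R : Type u) [CommRing R]
    (M : Type u) [AddCommGroup M] [Module R M] [Module.FinitePresentation R M]
    (m : Ideal R) [m.IsMaximal] (h : ∀ a b : Localization.AtPrime m, a ∣ b ∨ b ∣ a) :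
    ∃ g ∉ m, ∃ (n : ℕ) (f : Fin n → R) (π : ((i : Fin n) → R ⧸ Ideal.span {f i}) →ₗ[R] M)
      (σ : M →ₗ[R] ((i : Fin n) → R ⧸ Ideal.span {f i})), π ∘ₗ σ = g • LinearMap.id := by
  classical
  let S := m.primeCompl
  obtain ⟨n, c, ⟨e⟩⟩ :=
    Groth.Agent.S2015.result (Localization.AtPrime m) h (LocalizedModule S M)
  let E : Fin n → LocalizedModule S M := fun i => e.symm (Pi.single i 1)
  have hE : ∀ i, c i • E i = 0 := fun i => by
    rw [← map_smul, ← Pi.single_smul]
    have : c i • (1 : Localization.AtPrime m ⧸ Ideal.span {c i}) = 0 := smul_one_quot _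
    rw [this, Pi.single_zero, map_zero]
  have hx : ∀ i, ∃ (x : M) (s : S), E i = LocalizedModule.mk x s := fun i => by
    induction E i using LocalizedModule.induction_on with
    | h x s => exact ⟨x, s, rfl⟩
  choose x s hxs using hx
  have hbt : ∀ i, ∃ (b : R) (t : S), c i = Localization.mk b t := fun i => by
    induction c i using Localization.induction_on with
    | _ y => exact ⟨y.1, y.2, rfl⟩
  choose b t hbt using hbt
  have hu : ∀ i, ∃ u : S, (u : R) • b i • x i = 0 := fun i => by
    have h := hE i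
    rw [hbt, hxs, LocalizedModule.mk_smul_mk, ← LocalizedModule.zero_mk (1 : S),
      LocalizedModule.mk_eq] at h
    obtain ⟨u, hu⟩ := h
    exact ⟨u, by simpa [Submonoid.smul_def] using hu⟩
  choose u hu using hu
  let f : Fin n → R := fun i => (u i : R) * b i
  let N := (i : Fin n) → R ⧸ Ideal.span {f i}
  obtain ⟨π, hπ⟩ := exists_hom f x (fun i => by rw [mul_smul, hu])
  let w : Fin n → LocalizedModule S N := fun i => LocalizedModule.mk (Pi.single i 1) (s i)
  obtain ⟨γ, hγ⟩ := exists_hom c w (fun i => by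
    show c i • LocalizedModule.mk (Pi.single i 1 : N) (s i) = 0
    rw [hbt, LocalizedModule.mk_smul_mk, ← LocalizedModule.zero_mk (1 : S), LocalizedModule.mk_eq]
    refine ⟨u i, ?_⟩
    simp only [one_smul, smul_zero, Submonoid.smul_def, smul_smul]
    rw [← Pi.single_smul, smul_one_quot, Pi.single_zero])
  have hcomp : (LocalizedModule.map S π).comp γ = e.symm.toLinearMap := by
    refine LinearMap.pi_ext fun i z => ?_
    obtain ⟨z, rfl⟩ := Ideal.Quotient.mk_surjective z
    have hz : (Pi.single i (Ideal.Quotient.mk (Ideal.span {c i}) z) :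
        (i : Fin n) → Localization.AtPrime m ⧸ Ideal.span {c i}) = z • Pi.single i 1 := by
      rw [← Pi.single_smul, ← map_one (Ideal.Quotient.mk (Ideal.span {c i})), ← Ideal.Quotient.mk_eq_mk,
        ← Ideal.Quotient.mk_eq_mk, ← Submodule.Quotient.mk_smul, smul_eq_mul, mul_one]
    rw [hz, map_smul, map_smul, LinearMap.comp_apply, hγ, LocalizedModule.map_mk, hπ, ← hxs]
    rfl
  let g₀ : M →ₗ[R] LocalizedModule S N :=
    ((γ.comp e.toLinearMap).restrictScalars R).comp (LocalizedModule.mkLinearMap S M)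
  obtain ⟨σ, v, hσ⟩ := Module.FinitePresentation.exists_lift_of_isLocalizedModule S
    (LocalizedModule.mkLinearMap S N) g₀
  have hd : ∀ y : M, ∃ r : S, (r : R) • (π (σ y) - (v : R) • y) = 0 := by
    intro y
    have h1 := congrArg (LocalizedModule.map S π) (LinearMap.congr_fun hσ y)
    have h2 : LocalizedModule.map S π (γ (e (LocalizedModule.mk y 1))) = LocalizedModule.mk y 1 := by
      rw [← LinearMap.comp_apply, hcomp]; exact e.symm_apply_apply _
    have h3 : LocalizedModule.mk (π (σ y)) (1 : S) = LocalizedModule.mk ((v : R) • y) 1 := by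
      rw [← LocalizedModule.map_mk (S := S) π (σ y) 1, ← LocalizedModule.smul'_mk, ← h2]
      refine h1.trans ?_
      exact (LinearMap.map_smul_of_tower (LocalizedModule.map S π) (v : R) _)
    obtain ⟨r, hr⟩ := LocalizedModule.mk_eq.1 h3
    exact ⟨r, by rw [smul_sub, sub_eq_zero]; simpa [Submonoid.smul_def] using hr⟩
  choose r hr using hd
  obtain ⟨gens, hgens⟩ : (⊤ : Submodule R M).FG := Module.Finite.fg_top
  let t₀ : R := ∏ y ∈ gens, (r y : R)
  refine ⟨t₀ * v, fun hmem => ?_, n, f, π, t₀ • σ, ?_⟩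
  · rcases Ideal.IsPrime.mem_or_mem (inferInstance : m.IsPrime) hmem with h' | h'
    · obtain ⟨y, -, hy⟩ := (Ideal.IsPrime.prod_mem_iff).1 h'
      exact (r y).2 hy
    · exact v.2 h'
  · refine LinearMap.ext_on hgens fun y hy => ?_
    simp only [LinearMap.comp_apply, LinearMap.smul_apply, map_smul, LinearMap.id_coe, id_eq]
    rw [mul_smul, ← sub_eq_zero, ← smul_sub,
      show t₀ = (∏ z ∈ gens.erase y, (r z : R)) * r y from (Finset.prod_erase_mul _ _ hy).symm,
      mul_smul, hr, smul_zero]

theorem summand (R : Type u) [CommRing R]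
    (h : ∀ (m : Ideal R) [m.IsMaximal], ∀ a b : Localization.AtPrime m, a ∣ b ∨ b ∣ a)
    (M : Type u) [AddCommGroup M] [Module R M] [Module.FinitePresentation R M] :
    ∃ (n : ℕ) (f : Fin n → R) (i : M →ₗ[R] ((j : Fin n) → R ⧸ Ideal.span {f j}))
      (p : ((j : Fin n) → R ⧸ Ideal.span {f j}) →ₗ[R] M), p ∘ₗ i = LinearMap.id := by
  classical
  let J : Ideal R :=
    { carrier := {g | ∃ (n : ℕ) (f : Fin n → R) (π : ((i : Fin n) → R ⧸ Ideal.span {f i}) →ₗ[R] M)
        (σ : M →ₗ[R] ((i : Fin n) → R ⧸ Ideal.span {f i})), π ∘ₗ σ = g • LinearMap.id}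
      zero_mem' := ⟨0, Fin.elim0, 0, 0, by simp⟩
      smul_mem' := by
        rintro a g ⟨n, f, π, σ, hπσ⟩
        exact ⟨n, f, π, a • σ, by rw [LinearMap.comp_smul, hπσ, smul_smul, smul_eq_mul]⟩
      add_mem' := by
        rintro g g' ⟨n, f, π, σ, hπσ⟩ ⟨n', f', π', σ', hπσ'⟩
        refine ⟨n + n', Fin.append f f', ?_⟩
        let F := fun i => R ⧸ Ideal.span {(Fin.append f f') i}
        let eL : ∀ i, F (Fin.castAdd n' i) ≃ₗ[R] R ⧸ Ideal.span {f i} := fun i =>
          Submodule.quotEquivOfEq _ _ (by rw [Fin.append_left])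
        let eR : ∀ i, F (Fin.natAdd n i) ≃ₗ[R] R ⧸ Ideal.span {f' i} := fun i =>
          Submodule.quotEquivOfEq _ _ (by rw [Fin.append_right])
        let Lp : ((j : Fin (n + n')) → F j) →ₗ[R] ((i : Fin n) → R ⧸ Ideal.span {f i}) :=
          LinearMap.pi fun i => (eL i).toLinearMap.comp (LinearMap.proj _)
        let Rp : ((j : Fin (n + n')) → F j) →ₗ[R] ((i : Fin n') → R ⧸ Ideal.span {f' i}) :=
          LinearMap.pi fun i => (eR i).toLinearMap.comp (LinearMap.proj _)
        let σ'' : M →ₗ[R] ((j : Fin (n + n')) → F j) := LinearMap.pi fun j =>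
          Fin.addCases (motive := fun j => M →ₗ[R] F j)
            (fun i => (eL i).symm.toLinearMap.comp ((LinearMap.proj i).comp σ))
            (fun i => (eR i).symm.toLinearMap.comp ((LinearMap.proj i).comp σ')) j
        refine ⟨π.comp Lp + π'.comp Rp, σ'', ?_⟩
        have hL : Lp.comp σ'' = σ := by
          refine LinearMap.ext fun y => funext fun i => ?_
          simp [Lp, σ'']
        have hR : Rp.comp σ'' = σ' := by
          refine LinearMap.ext fun y => funext fun i => ?_
          simp [Rp, σ'']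
        rw [LinearMap.add_comp, LinearMap.comp_assoc, hL, LinearMap.comp_assoc, hR, hπσ, hπσ',
          add_smul] }
  have hJ : J = ⊤ := by
    by_contra hne
    obtain ⟨m, hm, hle⟩ := Ideal.exists_le_maximal J hne
    haveI := hm
    obtain ⟨g, hg, hmem⟩ := localStep R M m (fun a b => h m a b)
    exact hg (hle hmem)
  obtain ⟨n, f, π, σ, hπσ⟩ : (1 : R) ∈ J := hJ ▸ Submodule.mem_top
  exact ⟨n, f, σ, π, hπσ.trans (one_smul R _)⟩

/-- Let R be a ring such that for every maximal ideal m and all a, b in R_m, either a divides b or b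
divides a in R_m. Then each finitely presented R-module is a direct summand of a direct sum of
finitely many cyclic modules R/fR. -/
theorem result (R : Type u) [CommRing R]
    (h : ∀ (m : Ideal R) [m.IsMaximal], ∀ a b : Localization.AtPrime m, a ∣ b ∨ b ∣ a)
    (M : Type u) [AddCommGroup M] [Module R M] [Module.FinitePresentation R M] :
    ∃ (n : ℕ) (f : Fin n → R) (N : Type u) (_ : AddCommGroup N) (_ : Module R N),
      Nonempty ((M × N) ≃ₗ[R] ((i : Fin n) → R ⧸ Ideal.span {f i})) := by
  obtain ⟨n, f, i, p, hpi⟩ := summand R (fun m _ => h m) M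
  have hp : ∀ a, p (i a) = a := fun a => LinearMap.congr_fun hpi a
  refine ⟨n, f, LinearMap.ker p, inferInstance, inferInstance,
    ⟨LinearEquiv.ofBijective (LinearMap.coprod i (LinearMap.ker p).subtype) ⟨?_, ?_⟩⟩⟩
  · rw [injective_iff_map_eq_zero]
    rintro ⟨a, k, hk⟩ he
    have h0 := congrArg p he
    simp only [LinearMap.coprod_apply, Submodule.coe_subtype, map_add, hp, LinearMap.mem_ker.1 hk,
      add_zero, map_zero] at h0
    simp only [LinearMap.coprod_apply, Submodule.coe_subtype, h0, map_zero, zero_add] at he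
    simp [h0, he]
  · intro x
    exact ⟨⟨p x, ⟨x - i (p x), by simp [hp]⟩⟩, by simp⟩

end Groth.Agent.S2016
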