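import Groth.Statements.S2017
-- import your own Groth.Agent.* helpers here

set_option autoImplicit false
universe u
open EtAlg

namespace Groth.Agent.S2017

/-- Let R be a Noetherian ring, A, B, C R-algebras of finite type, f : A -> B a surjective R-algebra map
and g : C -> B an R-algebra map making B a finite C-module. Then the fibre product A ×_B C (the
equalizer of f ∘ pr₁ and g ∘ pr₂ in A × C) is an R-algebra of finite type. -/
theorem result (R A B C : Type u) [CommRing R] [IsNoetherianRing R] [CommRing A] [CommRing B]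
    [CommRing C] [Algebra R A] [Algebra R B] [Algebra R C] [Algebra.FiniteType R A] [Algebra.FiniteType R B]
    [Algebra.FiniteType R C] (f : A →ₐ[R] B) (hf : Function.Surjective f) (g : C →ₐ[R] B)
    (hg : (g.toRingHom).Finite) :
    Algebra.FiniteType R ↥(AlgHom.equalizer (f.comp (AlgHom.fst R A C)) (g.comp (AlgHom.snd R A C))) := by
  classical
  let P := AlgHom.equalizer (f.comp (AlgHom.fst R A C)) (g.comp (AlgHom.snd R A C))
  letI : Algebra C B := g.toRingHom.toAlgebra
  haveI : Module.Finite C B := hg
  obtain ⟨T, hT⟩ := (inferInstance : Module.Finite C B).fg_top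
  choose sec hsec using hf
  let G : Finset (A × C) := (T.image fun b => (sec b, (0 : C))) ∪ {(1, 0), (0, 1)}
  haveI : Module.Finite P (A × C) := by
    refine ⟨⟨G, eq_top_iff.mpr fun v _ => ?_⟩⟩
    let W : Submodule P (A × C) := Submodule.span P (G : Set (A × C))
    have hker : ∀ k : A, f k = 0 → (k, (0 : C)) ∈ W := fun k hk => by
      have h1 : (k, (0 : C)) ∈ P := by simp [P, hk]
      have h2 := W.smul_mem ⟨_, h1⟩
        (Submodule.subset_span (show ((1, 0) : A × C) ∈ G by simp [G]))
      simpa [Algebra.smul_def] using h2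
    have hC : ∀ c : C, ((0 : A), c) ∈ W := fun c => by
      have h1 : (sec (g c), c) ∈ P := by simp [P, hsec]
      have h2 := W.smul_mem ⟨_, h1⟩
        (Submodule.subset_span (show ((0, 1) : A × C) ∈ G by simp [G]))
      simpa [Algebra.smul_def] using h2
    have hB : ∀ b : B, ∃ a, f a = b ∧ (a, (0 : C)) ∈ W := fun b => by
      have hb : b ∈ Submodule.span C (T : Set B) := hT ▸ Submodule.mem_top
      induction hb using Submodule.span_induction with
      | mem x hx =>
        exact ⟨sec x, hsec x, Submodule.subset_span (by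
          simp only [G, Finset.coe_union, Finset.coe_image]
          exact Or.inl ⟨x, hx, rfl⟩)⟩
      | zero => exact ⟨0, map_zero f, W.zero_mem⟩
      | add x y _ _ hx hy =>
        obtain ⟨a, ha, haW⟩ := hx
        obtain ⟨a', ha', ha'W⟩ := hy
        exact ⟨a + a', by rw [map_add, ha, ha'], by simpa using W.add_mem haW ha'W⟩
      | smul c x _ hx =>
        obtain ⟨a, ha, haW⟩ := hx
        have h1 : (sec (g c), c) ∈ P := by simp [P, hsec]
        refine ⟨sec (g c) * a, by rw [map_mul, hsec, ha]; rfl, ?_⟩
        have h2 := W.smul_mem ⟨_, h1⟩ haW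
        simpa [Algebra.smul_def] using h2
    obtain ⟨a, c⟩ := v
    obtain ⟨a₀, ha₀, ha₀W⟩ := hB (f a)
    have h := W.add_mem (W.add_mem ha₀W (hker (a - a₀) (by rw [map_sub, ha₀, sub_self]))) (hC c)
    simpa using h
  refine ⟨fg_of_fg_of_fg R P (A × C) ?_ Module.Finite.fg_top Subtype.val_injective⟩
  exact Algebra.FiniteType.out

end Groth.Agent.S2017
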