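import Groth.Statements.S2018
import Mathlib.RingTheory.IntegralClosure.IsIntegral.Basic
-- import your own Groth.Agent.* helpers here

set_option autoImplicit false
universe u
open EtAlg

namespace Groth.Agent.S2018

/-- Let g : A' -> A be a surjective ring map and f : B -> A an integral ring map. Then the projection
from the fibre product B ×_A A' (the equalizer of f ∘ pr₁ and g ∘ pr₂ in B × A') to A' is integral. -/
theorem result (A A' B : Type u) [CommRing A] [CommRing A'] [CommRing B] (g : A' →+* A)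
    (hg : Function.Surjective g) (f : B →+* A) (hf : f.IsIntegral) :
    ((RingHom.snd B A').comp ((f.comp (RingHom.fst B A')).eqLocus (g.comp (RingHom.snd B A'))).subtype).IsIntegral := by
  intro a'
  obtain ⟨P₀, hP₀, hP₀0⟩ := hf (g a')
  rcases subsingleton_or_nontrivial B with hB | hB
  · haveI : Subsingleton A := subsingleton_of_zero_eq_one (by
      rw [← map_zero f, ← map_one f, Subsingleton.elim (0 : B) 1])
    exact RingHom.isIntegralElem_map (f := (RingHom.snd B A').comp
      ((f.comp (RingHom.fst B A')).eqLocus (g.comp (RingHom.snd B A'))).subtype) (x := (⟨((0 : B), a'), Subsingleton.elim _ _⟩ :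
      (f.comp (RingHom.fst B A')).eqLocus (g.comp (RingHom.snd B A'))))
  obtain ⟨P, hP, hP0, hdeg⟩ : ∃ P : Polynomial B, P.Monic ∧ P.eval₂ f (g a') = 0 ∧ 0 < P.natDegree :=
    ⟨P₀ * Polynomial.X, hP₀.mul Polynomial.monic_X, by rw [Polynomial.eval₂_mul, hP₀0, zero_mul],
      by rw [hP₀.natDegree_mul Polynomial.monic_X, Polynomial.natDegree_X]; omega⟩
  choose σ hσ using hg
  let P' : Polynomial ((f.comp (RingHom.fst B A')).eqLocus (g.comp (RingHom.snd B A'))) :=
    ∑ i ∈ Finset.range P.natDegree, Polynomial.C ⟨(P.coeff i, σ (f (P.coeff i))), by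
      show f (P.coeff i) = g (σ (f (P.coeff i))); rw [hσ]⟩ * Polynomial.X ^ i
  let pr := (RingHom.snd B A').comp ((f.comp (RingHom.fst B A')).eqLocus (g.comp (RingHom.snd B A'))).subtype
  let v := a' ^ P.natDegree + P'.eval₂ pr a'
  have hev : g v = 0 := by
    rw [← hP0, map_add, map_pow, Polynomial.hom_eval₂]
    rw [Polynomial.eval₂_finsetSum]
    conv_rhs => rw [hP.as_sum, Polynomial.eval₂_add, Polynomial.eval₂_X_pow, Polynomial.eval₂_finsetSum]
    congr 1
    refine Finset.sum_congr rfl fun i _ => ?_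
    rw [Polynomial.eval₂_mul, Polynomial.eval₂_mul, Polynomial.eval₂_C, Polynomial.eval₂_C,
      Polynomial.eval₂_X_pow, Polynomial.eval₂_X_pow]
    congr 1
    exact hσ _
  refine ⟨Polynomial.X ^ P.natDegree +
    (P' - Polynomial.C ⟨(0, v), by show f 0 = g v; rw [map_zero, hev]⟩), ?_, ?_⟩
  · refine Polynomial.monic_X_pow_add ?_
    refine (Polynomial.degree_sub_le _ _).trans_lt (max_lt ?_ ?_)
    · refine (Polynomial.degree_sum_le _ _).trans_lt ((Finset.sup_lt_iff (WithBot.bot_lt_coe _)).mpr fun i hi => ?_)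
      exact (Polynomial.degree_C_mul_X_pow_le i _).trans_lt (WithBot.coe_lt_coe.mpr (Finset.mem_range.mp hi))
    · exact (Polynomial.degree_C_le).trans_lt (WithBot.coe_lt_coe.mpr hdeg)
  · rw [Polynomial.eval₂_add, Polynomial.eval₂_X_pow, Polynomial.eval₂_sub, Polynomial.eval₂_C, ← add_sub_assoc]
    show v - v = 0
    rw [sub_self]

end Groth.Agent.S2018
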