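import Groth.Statements.S2020
import Groth.Agent.Lib.Milnor.Finite
import Groth.Agent.Lib.Milnor.Glue
-- import your own Groth.Agent.* helpers here

set_option autoImplicit false
universe u
open TensorProduct
open EtAlg

namespace Groth.Agent.S2020

/-- Let B' → B, B' → A', B → A and A' → A be ring homomorphisms forming a commutative square that is a
fibre product, B' = B ×_A A', with A' → A surjective. (1) Given a flat B-module N, a flat A'-module
M' and an A-linear isomorphism φ : A ⊗_B N ≅ A ⊗_{A'} M', the glued module N ×_φ M' (pairs (n, m')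
with φ(1 ⊗ n) = 1 ⊗ m') is a flat B'-module. (2) For every flat B'-module L', the map L' → (B ⊗_{B'}
L') × (A' ⊗_{B'} L') is injective, and any pair (x, y) whose two images in A ⊗_{B'} L' agree comes
from an element of L'. -/
theorem result (B' B A' A : Type u) [CommRing B'] [CommRing B] [CommRing A'] [CommRing A]
    [Algebra B' B] [Algebra B' A'] [Algebra B A] [Algebra A' A] [Algebra B' A] [IsScalarTower B' B A] [IsScalarTower B' A' A]
    (hsq : EtMil.IsFibreSquare B' B A' A) :
    (∀ (N M' : Type u) [AddCommGroup N] [Module B N] [Module B' N] [IsScalarTower B' B N]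
    [AddCommGroup M'] [Module A' M'] [Module B' M'] [IsScalarTower B' A' M'] (φ : A ⊗[B] N ≃ₗ[A] A ⊗[A'] M'), Module.Flat B N → Module.Flat A' M' → Module.Flat B' ↥(EtMil.glue B' φ)) ∧
    (∀ (L' : Type u) [AddCommGroup L'] [Module B' L'], Module.Flat B' L' →
      Function.Injective (fun l : L' => (((1 : B) ⊗ₜ[B'] l : B ⊗[B'] L'), ((1 : A') ⊗ₜ[B'] l : A' ⊗[B'] L'))) ∧
      ∀ (x : B ⊗[B'] L') (y : A' ⊗[B'] L'),
        (IsScalarTower.toAlgHom B' B A).toLinearMap.rTensor L' x = (IsScalarTower.toAlgHom B' A' A).toLinearMap.rTensor L' y →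
          ∃ l : L', (1 : B) ⊗ₜ[B'] l = x ∧ (1 : A') ⊗ₜ[B'] l = y) := by
  have hS := Milnor.sq_of_isFibreSquare hsq
  refine ⟨fun N M' _ _ _ _ _ _ _ _ φ hN hM => ?_, fun L' _ _ hL => ⟨fun l₁ l₂ hl => ?_, fun x y hxy =>
    Milnor.exists_preimage_pair hsq x y hxy⟩⟩
  · haveI := hN
    haveI := hM
    haveI : Module.Flat B (B ⊗[B'] EtMil.glue B' φ) := Module.Flat.of_linearEquiv
      (LinearEquiv.ofBijective _ (Milnor.bijective_liftBaseChange_fst (φ := φ) hS))
    haveI : Module.Flat A' (A' ⊗[B'] EtMil.glue B' φ) := Module.Flat.of_linearEquiv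
      (LinearEquiv.ofBijective _ (Milnor.bijective_liftBaseChange_snd (φ := φ) hS))
    exact Milnor.flat_of_pair hsq
  · haveI := hL
    simp only [Prod.mk.injEq] at hl
    let a : B' →ₗ[B'] B × A' := (Algebra.linearMap B' B).prod (Algebra.linearMap B' A')
    have ha : Function.Injective a := fun x y h =>
      Milnor.eq_of_pair hsq (congrArg Prod.fst h) (congrArg Prod.snd h)
    have h := Module.Flat.rTensor_preserves_injective_linearMap (M := L') a ha
    have e : ∀ l : L', a.rTensor L' ((1 : B') ⊗ₜ l) =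
        (LinearMap.inl B' B A').rTensor L' ((1 : B) ⊗ₜ l) + (LinearMap.inr B' B A').rTensor L' ((1 : A') ⊗ₜ l) := by
      intro l
      rw [LinearMap.rTensor_tmul, LinearMap.rTensor_tmul, LinearMap.rTensor_tmul, ← TensorProduct.add_tmul]
      simp [a]
    have := h (a₁ := (1 : B') ⊗ₜ l₁) (a₂ := (1 : B') ⊗ₜ l₂) (by rw [e, e, hl.1, hl.2])
    simpa using congrArg (TensorProduct.lid B' L') this

end Groth.Agent.S2020
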