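import Groth.Statements.S2028
import Groth.Agent.Lib.Smoothing.DesingStrict

set_option autoImplicit false
set_option backward.isDefEq.respectTransparency false
universe u
open Smoothing

namespace Groth.Agent.S2028

/-- Let `R` be Noetherian, `Λ` an `R`-algebra and `π ∈ R` with the annihilators of `π` and `π²` equal in
`R` and in `Λ`. Let `A → Λ` and `D → Λ` be `R`-algebra maps with `A`, `D` finitely presented, `π`
strictly standard in `A` over `R`, and `A → D/π⁴D` an `R`-algebra map compatible with the maps to
`Λ/π⁴Λ`. Then there is a finitely presented `R`-algebra `B` with compatible maps `A → B`, `D → B`,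
`B → Λ` such that the singular ideal of `D` over `R` extends into both the singular ideal of `B`
over `D` and the singular ideal of `B` over `R`. -/
theorem result {R Λ A D : Type u} [CommRing R] [IsNoetherianRing R]
    [CommRing Λ] [Algebra R Λ] (π : R) (hR : ∀ r : R, π ^ 2 * r = 0 → π * r = 0)
    (hΛ : ∀ x : Λ, π ^ 2 • x = 0 → π • x = 0) [CommRing A] [Algebra R A]
    [Algebra.FinitePresentation R A] [CommRing D] [Algebra R D] [Algebra.FinitePresentation R D]
    (φ : A →ₐ[R] Λ) (δ : D →ₐ[R] Λ) (hπ : Smoothing.IsStrictlyStandard R A (algebraMap R A π))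
    (ψ : A →ₐ[R] D ⧸ Ideal.span {algebraMap R D (π ^ 4)})
    (hψ : ∀ (a : A) (d : D), Ideal.Quotient.mk (Ideal.span {algebraMap R D (π ^ 4)}) d = ψ a →
      δ d - φ a ∈ Ideal.span {algebraMap R Λ (π ^ 4)}) :
    ∃ (B : Type u) (_ : CommRing B) (_ : Algebra R B) (_ : Algebra D B) (_ : IsScalarTower R D B),
      Algebra.FinitePresentation R B ∧
      ∃ (α : A →ₐ[R] B) (β : B →ₐ[R] Λ), β.comp α = φ ∧
        β.comp (IsScalarTower.toAlgHom R D B) = δ ∧
        (Smoothing.singularIdeal R D).map (algebraMap D B) ≤ Smoothing.singularIdeal D B ∧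
        (Smoothing.singularIdeal R D).map (algebraMap D B) ≤ Smoothing.singularIdeal R B := Smoothing.desingularize_strictly_standard π hR hΛ φ δ hπ ψ hψ

end Groth.Agent.S2028
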