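import Groth.Statements.S2038
import Mathlib
import Groth.Agent.Lib.AdicFSFlat.Criterion
-- import your own Groth.Agent.* helpers here

set_option autoImplicit false
universe u
open CAlg

namespace Groth.Agent.S2038

/-- Let `A → B` be a local homomorphism of Noetherian local rings with residue field `k` of `A`. Then `A
→ B` is flat with special fibre `B ⊗ k` geometrically regular over `k` if and only if `A → B` is
formally smooth for the adic topology of the maximal ideal of `B`. -/
theorem result {A B : Type u} [CommRing A] [CommRing B]
    [IsLocalRing A] [IsLocalRing B] [IsNoetherianRing A] [IsNoetherianRing B] [Algebra A B]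
    [IsLocalHom (algebraMap A B)] :
    (Module.Flat A B ∧ CAlg.IsGeometricallyRegular (IsLocalRing.maximalIdeal A).ResidueField
        ((IsLocalRing.maximalIdeal A).Fiber B)) ↔
      CAlgX.IsAdicFormallySmooth A B (IsLocalRing.maximalIdeal B) := by
  exact GrothLib.AdicFSFlat.isAdicFormallySmooth_iff

end Groth.Agent.S2038
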