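import Groth.Statements.S2040
import Groth.Agent.Lib.AdicFSFlat.Andre
import Groth.Agent.Lib.Cohen.Structure
import Groth.Agent.S2471
-- import your own Groth.Agent.* helpers here

set_option autoImplicit false
universe u
open CAlg

open IsLocalRing TensorProduct

namespace Groth.Agent.S2040

/-- For a complete Noetherian local ring `A` with residue field `k`, and a complete Noetherian local
`k`-algebra `B` which is formally smooth over `k` for the adic topology of its maximal ideal, there
is a Noetherian complete local ring `C` with a local homomorphism `A → C`, formally smooth for the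
adic topology of the maximal ideal of `C`, whose special fibre `C ⊗ k` is isomorphic to `B` over
`k`. -/
theorem result {A B : Type u} [CommRing A] [IsLocalRing A]
    [IsNoetherianRing A] [IsAdicComplete (IsLocalRing.maximalIdeal A) A] [CommRing B] [IsLocalRing B]
    [IsNoetherianRing B] [IsAdicComplete (IsLocalRing.maximalIdeal B) B]
    [Algebra (IsLocalRing.maximalIdeal A).ResidueField B]
    (hB : CAlgX.IsAdicFormallySmooth (IsLocalRing.maximalIdeal A).ResidueField B (IsLocalRing.maximalIdeal B)) :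
    ∃ (C : Type u) (_ : CommRing C) (_ : IsLocalRing C) (_ : Algebra A C),
      IsNoetherianRing C ∧ IsAdicComplete (IsLocalRing.maximalIdeal C) C ∧ IsLocalHom (algebraMap A C) ∧
        CAlgX.IsAdicFormallySmooth A C (IsLocalRing.maximalIdeal C) ∧
        Nonempty ((IsLocalRing.maximalIdeal A).Fiber C ≃ₐ[(IsLocalRing.maximalIdeal A).ResidueField] B) := by
  classical
  obtain ⟨Λ, _, d, f, hΛ, hf⟩ := GrothLib.Cohen.exists_surjective_mvPowerSeries A (maximalIdeal A).fg_of_isNoetherianRing
  haveI hΛl : IsLocalRing Λ := by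
    rcases hΛ with hF | hC
    · letI := hF.toField; infer_instance
    · obtain ⟨_, hv, -⟩ := hC; haveI := hv; infer_instance
  let R := MvPowerSeries (Fin d) Λ
  obtain ⟨a, q, hbase⟩ : ∃ a q, GrothLib.AdicFSFlat.IsBase q a Λ := by
    rcases hΛ with hF | hC
    · letI := hF.toField; exact ⟨0, 0, GrothLib.AdicFSFlat.isBase_field Λ 0⟩
    · obtain ⟨p, hp, hm⟩ := hC.2.2.2
      exact ⟨1, p, GrothLib.AdicFSFlat.isBase_cohen Λ hC p hp hm⟩
  haveI : IsRegularLocalRing R := (hbase.2.2.2 d).1
  let K := (maximalIdeal A).ResidueField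
  haveI : IsLocalHom f := Function.Surjective.isLocalHom f hf
  have hfm : ∀ x ∈ maximalIdeal R, f x ∈ maximalIdeal A := fun x hx hu => hx (isUnit_of_map_unit f x hu)
  letI : Algebra R B := ((algebraMap K B).comp ((algebraMap A K).comp f)).toAlgebra
  have hK : ∀ x ∈ maximalIdeal A, algebraMap A K x = 0 := fun x hx =>
    Ideal.algebraMap_residueField_eq_zero.2 hx
  have h0 : ∀ x ∈ maximalIdeal R, algebraMap R B x = 0 := fun x hx => by
    show algebraMap K B (algebraMap A K (f x)) = 0
    rw [hK _ (hfm x hx), map_zero]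
  haveI : IsRegularLocalRing B := (Groth.Agent.S2471.result.1 hB).1
  obtain ⟨Q, _, hQreg, _, π, hQc, hQloc, hQflat, hπs, hπk⟩ := GrothLib.AdicFSFlat.exists_flat_lift d hΛ B h0
  haveI := hQreg; haveI := hQc; haveI := hQloc; haveI := hQflat
  have hQfs : CAlgX.IsAdicFormallySmooth R Q (maximalIdeal Q) := by
    refine GrothLib.AdicFSFlat.isAdicFormallySmooth_of_adic (GrothLib.AdicFSLoc.isFormallySmoothAdic_of_flat _ ?_)
    set N := (maximalIdeal R).map (algebraMap R Q)
    haveI : IsLocalRing (Q ⧸ N) := GrothLib.RegLoc.isLocalRing_quotient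
      (((local_hom_TFAE (algebraMap R Q)).out 0 2 rfl rfl).mp inferInstance)
    rw [GrothLib.RegLoc.map_maximalIdeal_quotient]
    letI := Ideal.Quotient.field (maximalIdeal R)
    letI : Algebra (R ⧸ maximalIdeal R) B := (Ideal.Quotient.lift _ (algebraMap R B) h0).toAlgebra
    let g : (R ⧸ maximalIdeal R) →+* K := (algebraMap (A ⧸ maximalIdeal A) K).comp (Ideal.quotientMap _ f hfm)
    have hg : Function.Bijective g := (Ideal.bijective_algebraMap_quotient_residueField (maximalIdeal A)).comp
      ⟨(Ideal.quotientMap _ f hfm).injective, fun y => by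
        obtain ⟨y, rfl⟩ := Ideal.Quotient.mk_surjective y
        obtain ⟨r, rfl⟩ := hf y
        exact ⟨Ideal.Quotient.mk _ r, rfl⟩⟩
    have hB' : CAlgX.IsAdicFormallySmooth (R ⧸ maximalIdeal R) B (maximalIdeal B) :=
      GrothLib.AdicFSFlat.adicFormallySmooth_of_base_equiv g hg (fun c => by
        obtain ⟨r, rfl⟩ := Ideal.Quotient.mk_surjective c; rfl) hB
    let eR : (Q ⧸ N) ≃+* B :=
      (Ideal.quotEquivOfEq hπk.symm).trans (RingHom.quotientKerEquivOfSurjective hπs)
    let e : (Q ⧸ N) ≃ₐ[R ⧸ maximalIdeal R] B := AlgEquiv.ofRingEquiv (f := eR) fun c => by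
      obtain ⟨r, rfl⟩ := Ideal.Quotient.mk_surjective c
      exact π.commutes r
    refine GrothLib.AdicFSFlat.adicFormallySmooth_of_algEquiv e.symm (Ideal.map_le_iff_le_comap.2 fun x hx => ?_) hB'
    intro hu
    exact hx ((isUnit_map_iff e.symm x).1 hu)
  let J := (RingHom.ker f).map (algebraMap R Q)
  have hker : RingHom.ker f ≤ maximalIdeal R := le_maximalIdeal (RingHom.ker_ne_top f)
  have hJle : J ≤ maximalIdeal Q := (Ideal.map_mono hker).trans
    (((local_hom_TFAE (algebraMap R Q)).out 0 2 rfl rfl).mp inferInstance)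
  haveI : IsLocalRing (Q ⧸ J) := GrothLib.RegLoc.isLocalRing_quotient hJle
  let e : (R ⧸ RingHom.ker f) ≃+* A := RingHom.quotientKerEquivOfSurjective hf
  letI : Algebra A (Q ⧸ J) := ((algebraMap (R ⧸ RingHom.ker f) (Q ⧸ J)).comp e.symm.toRingHom).toAlgebra
  have he : ∀ r, e.symm (f r) = Ideal.Quotient.mk _ r := fun r => (RingEquiv.symm_apply_eq e).2 rfl
  have halg : ∀ r, algebraMap A (Q ⧸ J) (f r) = Ideal.Quotient.mk J (algebraMap R Q r) := fun r => by
    show algebraMap (R ⧸ RingHom.ker f) (Q ⧸ J) (e.symm (f r)) = _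
    rw [he]
    rfl
  haveI hloc : IsLocalHom (algebraMap A (Q ⧸ J)) := by
    refine ⟨fun x hx => ?_⟩
    obtain ⟨r, rfl⟩ := hf x
    rw [halg] at hx
    haveI := IsLocalHom.of_surjective (Ideal.Quotient.mk J) Ideal.Quotient.mk_surjective
    exact (isUnit_of_map_unit (algebraMap R Q) r (isUnit_of_map_unit (Ideal.Quotient.mk J) _ hx)).map f
  refine ⟨Q ⧸ J, inferInstance, inferInstance, inferInstance, inferInstance,
    GrothLib.AdicFSFlat.isAdicComplete_quotient J, hloc,
    GrothLib.AdicFSFlat.adicFormallySmooth_of_base_equiv e.symm.toRingHom e.symm.bijective (fun _ => rfl)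
      (GrothLib.AdicFSFlat.adicFormallySmooth_quotient hQfs (RingHom.ker f)), ?_⟩
  letI : Algebra A B := ((algebraMap K B).comp (algebraMap A K)).toAlgebra
  haveI : IsScalarTower A K B := IsScalarTower.of_algebraMap_eq fun _ => rfl
  let ρ0 : (Q ⧸ J) →+* B := Ideal.Quotient.lift J π.toRingHom fun x hx => by
    rw [← RingHom.mem_ker, hπk]
    exact Ideal.map_mono hker hx
  let ρ : (Q ⧸ J) →ₐ[A] B :=
    { ρ0 with
      commutes' := fun x => by
        obtain ⟨r, rfl⟩ := hf x
        show ρ0 (algebraMap A (Q ⧸ J) (f r)) = _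
        rw [halg]
        exact π.commutes r }
  let F : K ⊗[A] (Q ⧸ J) →ₐ[K] B :=
    Algebra.TensorProduct.lift (Algebra.ofId K B) ρ fun _ _ => Commute.all _ _
  refine ⟨AlgEquiv.ofBijective F ⟨?_, fun b => ?_⟩⟩
  · have hsurj : ∀ z : K ⊗[A] (Q ⧸ J), ∃ c, (1 : K) ⊗ₜ[A] c = z := by
      intro z
      induction z using TensorProduct.induction_on with
      | zero => exact ⟨0, tmul_zero _ _⟩
      | add x y hx hy =>
        obtain ⟨a, rfl⟩ := hx
        obtain ⟨b, rfl⟩ := hy
        exact ⟨a + b, tmul_add _ _ _⟩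
      | tmul c b =>
        obtain ⟨q, rfl⟩ := (Ideal.bijective_algebraMap_quotient_residueField (maximalIdeal A)).2 c
        obtain ⟨a, rfl⟩ := Ideal.Quotient.mk_surjective q
        refine ⟨a • b, ?_⟩
        rw [tmul_smul, smul_tmul', Algebra.smul_def, mul_one,
          IsScalarTower.algebraMap_apply A (A ⧸ maximalIdeal A) K]
        rfl
    rw [injective_iff_map_eq_zero]
    intro z hz
    obtain ⟨c, rfl⟩ := hsurj z
    obtain ⟨x, rfl⟩ := Ideal.Quotient.mk_surjective c
    have hx : π x = 0 := by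
      have : F ((1 : K) ⊗ₜ[A] (Ideal.Quotient.mk J x : Q ⧸ J)) = π x := by
        simp only [F, Algebra.TensorProduct.lift_tmul, map_one, one_mul]
        rfl
      rwa [this] at hz
    have hmem : x ∈ (maximalIdeal R).map (algebraMap R Q) := by rw [← hπk]; exact hx
    have hm : (Ideal.Quotient.mk J x : Q ⧸ J) ∈ (maximalIdeal A).map (algebraMap A (Q ⧸ J)) := by
      have h1 : (maximalIdeal R).map ((Ideal.Quotient.mk J).comp (algebraMap R Q)) ≤
          (maximalIdeal A).map (algebraMap A (Q ⧸ J)) := by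
        refine Ideal.map_le_iff_le_comap.2 fun r hr => ?_
        rw [Ideal.mem_comap, RingHom.comp_apply, ← halg]
        exact Ideal.mem_map_of_mem _ (hfm r hr)
      rw [← Ideal.map_map] at h1
      exact h1 (Ideal.mem_map_of_mem _ hmem)
    have h2 : (maximalIdeal A).map (algebraMap A (Q ⧸ J)) ≤
        RingHom.ker (Algebra.TensorProduct.includeRight (R := A) (A := K) (B := Q ⧸ J)).toRingHom :=
      Ideal.map_le_iff_le_comap.2 fun a ha => by
        rw [Ideal.mem_comap, RingHom.mem_ker]
        show (1 : K) ⊗ₜ[A] algebraMap A (Q ⧸ J) a = 0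
        rw [Algebra.algebraMap_eq_smul_one, tmul_smul, smul_tmul', Algebra.smul_def, mul_one, hK a ha, zero_tmul]
    exact h2 hm
  · obtain ⟨x, rfl⟩ := hπs b
    refine ⟨(1 : K) ⊗ₜ[A] (Ideal.Quotient.mk J x : Q ⧸ J), ?_⟩
    simp only [F, Algebra.TensorProduct.lift_tmul, map_one, one_mul]
    rfl

end Groth.Agent.S2040
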