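import Groth.Statements.S2041
import Mathlib
import Groth.Agent.S1959
import Groth.Agent.Lib.Hensel.PairNbhd
import Groth.Agent.Lib.Hensel.QuasiFiniteNhd
-- import your own Groth.Agent.* helpers here

set_option autoImplicit false
universe u
open CAlg

open scoped TensorProduct
open Polynomial

namespace Groth.Agent.S2041

open TensorProduct in
/-- Let `I ⊆ A` be an ideal, `A → B` integral and `ē` an idempotent of `B/IB`. Then there is an étale
`A`-algebra `A'` with `A/I → A'/IA'` bijective and an idempotent of `A' ⊗ B` whose class modulo `I`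
agrees with that of any lift of `ē`. -/
theorem result {A B : Type u} [CommRing A] [CommRing B] [Algebra A B]
    [Algebra.IsIntegral A B] (I : Ideal A) (e : B ⧸ I.map (algebraMap A B)) (he : IsIdempotentElem e) :
    ∃ (A' : Type u) (_ : CommRing A') (_ : Algebra A A'), Algebra.Etale A A' ∧
      Function.Bijective (algebraMap (A ⧸ I) (A' ⧸ I.map (algebraMap A A'))) ∧
      ∃ e' : A' ⊗[A] B, IsIdempotentElem e' ∧
        ∀ b : B, Ideal.Quotient.mk (I.map (algebraMap A B)) b = e →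
          e' - 1 ⊗ₜ b ∈ I.map (algebraMap A (A' ⊗[A] B)) := by
  classical
  obtain ⟨b, rfl⟩ := Ideal.Quotient.mk_surjective e
  obtain ⟨f, d, hf, hd, hfb, hfI⟩ := Groth.Agent.S1959.result A B I b he
  have hXX : IsCoprime (X ^ d : (A ⧸ I)[X]) ((X - 1) ^ d) :=
    (show IsCoprime (X : (A ⧸ I)[X]) (X - 1) from ⟨1, -1, by ring⟩).pow
  obtain ⟨A₁, _, _, _, hA₁, g, h, hfgh, hg, hh⟩ :=
    GrothLib.Hensel.exists_etale_lift_factorization f hf (X ^ d) ((X - 1) ^ d) hfI
      (by rw [Monic.leadingCoeff (monic_X_pow d)]; exact isUnit_one) hXX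
  rw [Polynomial.map_pow, Polynomial.map_X] at hg
  rw [Polynomial.map_pow, Polynomial.map_sub, Polynomial.map_X, Polynomial.map_one] at hh
  set I₁ := I.map (algebraMap A A₁) with hI₁
  -- `g`, `h` are comaximal after inverting some `s ≡ 1`
  obtain ⟨s, hs, hsgh⟩ : ∃ s : A₁, s - 1 ∈ I₁ ∧ C s ∈ Ideal.span {g, h} := by
    set F := f.map (algebraMap A A₁)
    set P : Ideal A₁[X] := Ideal.span {g, h}
    haveI : Module.Finite A₁ (A₁[X] ⧸ P) := by
      haveI : Module.Finite A₁ (A₁[X] ⧸ Ideal.span {F}) := (hf.map (algebraMap A A₁)).finite_quotient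
      have hFP : Ideal.span {F} ≤ P := by
        rw [Ideal.span_singleton_le_iff_mem, hfgh]
        exact Ideal.mul_mem_right _ _ (Ideal.subset_span (Or.inl rfl))
      exact Module.Finite.of_surjective (Ideal.Quotient.factorₐ A₁ hFP).toLinearMap
        (Ideal.Quotient.factor_surjective hFP)
    have hone : (1 : A₁[X] ⧸ P) ∈ I₁.map (algebraMap A₁ (A₁[X] ⧸ P)) := by
      obtain ⟨u, v, huv⟩ := (show IsCoprime (X ^ d : (A₁ ⧸ I₁)[X]) ((X - 1) ^ d) from
        (show IsCoprime (X : (A₁ ⧸ I₁)[X]) (X - 1) from ⟨1, -1, by ring⟩).pow)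
      obtain ⟨u, rfl⟩ := Polynomial.map_surjective (Ideal.Quotient.mk I₁) Ideal.Quotient.mk_surjective u
      obtain ⟨v, rfl⟩ := Polynomial.map_surjective (Ideal.Quotient.mk I₁) Ideal.Quotient.mk_surjective v
      have h0 : 1 - (u * g + v * h) ∈ I₁.map (C : A₁ →+* A₁[X]) := by
        rw [Ideal.mem_map_C_iff]
        intro n
        rw [← Ideal.Quotient.eq_zero_iff_mem, ← Polynomial.coeff_map, Polynomial.map_sub,
          Polynomial.map_add, Polynomial.map_mul, Polynomial.map_mul, hg, hh, huv, Polynomial.map_one,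
          sub_self, Polynomial.coeff_zero]
      have h1 := Ideal.mem_map_of_mem (Ideal.Quotient.mk P) h0
      rw [Ideal.map_map, map_sub, map_one, (Ideal.Quotient.eq_zero_iff_mem (a := u * g + v * h)).mpr
        (add_mem (Ideal.mul_mem_left _ _ (Ideal.subset_span (Or.inl rfl)))
          (Ideal.mul_mem_left _ _ (Ideal.subset_span (Or.inr rfl)))), sub_zero] at h1
      exact h1
    obtain ⟨s, hs, hs'⟩ := Submodule.exists_sub_one_mem_and_smul_eq_zero_of_fg_of_le_smul I₁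
      (⊤ : Submodule A₁ (A₁[X] ⧸ P)) Module.Finite.fg_top (fun x _ => by
        rw [Ideal.smul_top_eq_map]
        have := Ideal.mul_mem_left _ x hone
        rwa [mul_one] at this)
    refine ⟨s, hs, ?_⟩
    have h2 := hs' 1 trivial
    rw [← Ideal.Quotient.eq_zero_iff_mem, ← h2]
    show Ideal.Quotient.mk P (C s) = Ideal.Quotient.mk P (s • 1)
    rw [Polynomial.smul_eq_C_mul, mul_one]
  let A₂ := Localization.Away s
  haveI : Algebra.Etale A₁ A₂ := Algebra.Etale.of_isLocalizationAway s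
  haveI : Algebra.Etale A A₂ := Algebra.Etale.comp A A₁ A₂
  have h12 := GrothLib.Hensel.quotientMap_bijective_away I₁ (g := s) (by
    rw [← neg_sub]; exact neg_mem hs)
  have hI₂ : I.map (algebraMap A A₂) = I₁.map (algebraMap A₁ A₂) := by
    rw [hI₁, Ideal.map_map, ← IsScalarTower.algebraMap_eq]
  refine ⟨A₂, inferInstance, inferInstance, inferInstance, ?_, ?_⟩
  · have h2 : (algebraMap (A ⧸ I) (A₂ ⧸ I.map (algebraMap A A₂)) : A ⧸ I → _) =
        Ideal.quotEquivOfEq hI₂.symm ∘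
          (Ideal.quotientMap (I₁.map (algebraMap A₁ A₂)) (algebraMap A₁ A₂) Ideal.le_comap_map ∘
            Ideal.quotientMap I₁ (algebraMap A A₁) Ideal.le_comap_map) := by
      funext x
      obtain ⟨a, rfl⟩ := Ideal.Quotient.mk_surjective x
      show Ideal.Quotient.mk _ (algebraMap A A₂ a) = Ideal.Quotient.mk _ (algebraMap A₁ A₂ (algebraMap A A₁ a))
      rw [← IsScalarTower.algebraMap_apply A A₁ A₂]
    rw [h2]
    exact (Ideal.quotEquivOfEq hI₂.symm).bijective.comp (h12.comp hA₁)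
  obtain ⟨u, v, huv⟩ := Ideal.mem_span_pair.mp hsgh
  set T := A₂ ⊗[A] B with hT
  let bT : T := 1 ⊗ₜ b
  let ev : A₁[X] →+* A₂ ⊗[A] B :=
    Polynomial.eval₂RingHom ((algebraMap A₂ (A₂ ⊗[A] B)).comp (algebraMap A₁ A₂)) bT
  have hevf : ev (f.map (algebraMap A A₁)) = 0 := by
    show (f.map (algebraMap A A₁)).eval₂ _ bT = 0
    rw [Polynomial.eval₂_map, show ((algebraMap A₂ (A₂ ⊗[A] B)).comp (algebraMap A₁ A₂)).comp (algebraMap A A₁) =
      algebraMap A (A₂ ⊗[A] B) by
        rw [RingHom.comp_assoc, ← IsScalarTower.algebraMap_eq, ← IsScalarTower.algebraMap_eq]]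
    show aeval bT f = 0
    rw [show bT = (Algebra.TensorProduct.includeRight : B →ₐ[A] A₂ ⊗[A] B) b from rfl,
      Polynomial.aeval_algHom_apply, hfb, map_zero]
  obtain ⟨w, hw⟩ : IsUnit (ev (C s)) := by
    show IsUnit ((C s).eval₂ _ bT)
    rw [Polynomial.eval₂_C, RingHom.comp_apply]
    exact (IsLocalization.Away.algebraMap_isUnit (S := A₂) s).map _
  let E : T := (↑w⁻¹ : T) * (ev u * ev g)
  have hsum : ev u * ev g + ev v * ev h = (w : T) := by
    rw [hw, ← huv, map_add, map_mul, map_mul]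
  have hEE : IsIdempotentElem E := by
    have h3 : ev g * ev h = 0 := by rw [← map_mul, ← hfgh, hevf]
    show E * E = E
    have h4 : (↑w⁻¹ : T) * (w : T) = 1 := w.inv_mul
    linear_combination (↑w⁻¹ * ↑w⁻¹ * ev u * ev g) * hsum - (↑w⁻¹ * ↑w⁻¹ * ev u * ev v) * h3
      + (↑w⁻¹ * ev u * ev g) * h4
  refine ⟨E, hEE, fun b' hb' => ?_⟩
  set K := I.map (algebraMap A T)
  have hbb : (1 : A₂) ⊗ₜ[A] (b' - b) ∈ K := by
    have h5 := Ideal.mem_map_of_mem (Algebra.TensorProduct.includeRight : B →ₐ[A] T).toRingHom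
      (Ideal.Quotient.eq.mp hb')
    rw [Ideal.map_map, AlgHom.toRingHom_eq_coe, AlgHom.comp_algebraMap] at h5
    exact h5
  suffices hEb : E - bT ∈ K by
    have : E - 1 ⊗ₜ b' = (E - bT) - (1 : A₂) ⊗ₜ[A] (b' - b) := by
      simp only [bT, TensorProduct.tmul_sub]; ring
    rw [this]; exact sub_mem hEb hbb
  rw [← Ideal.Quotient.eq]
  let ρ := Ideal.Quotient.mk K
  have hkill : ∀ x ∈ I₁, ρ (algebraMap A₂ T (algebraMap A₁ A₂ x)) = 0 := fun x hx => by
    have h6 := Ideal.mem_map_of_mem ((algebraMap A₂ T).comp (algebraMap A₁ A₂)) hx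
    rw [hI₁, Ideal.map_map, RingHom.comp_assoc, ← IsScalarTower.algebraMap_eq,
      ← IsScalarTower.algebraMap_eq] at h6
    exact Ideal.Quotient.eq_zero_iff_mem.mpr h6
  let χ : A₁ ⧸ I₁ →+* T ⧸ K := Ideal.Quotient.lift I₁ (ρ.comp ((algebraMap A₂ T).comp (algebraMap A₁ A₂))) hkill
  have hρev : ∀ p : A₁[X], ρ (ev p) = (p.map (Ideal.Quotient.mk I₁)).eval₂ χ (ρ bT) := fun p => by
    rw [Polynomial.eval₂_map, Ideal.Quotient.lift_comp_mk]
    show ρ (p.eval₂ _ bT) = _
    rw [Polynomial.hom_eval₂]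
  have hidem : ρ bT * ρ bT = ρ bT := by
    rw [← map_mul, Ideal.Quotient.eq]
    have h7 := Ideal.mem_map_of_mem (Algebra.TensorProduct.includeRight : B →ₐ[A] T).toRingHom
      (Ideal.Quotient.eq.mp (show Ideal.Quotient.mk (I.map (algebraMap A B)) (b * b) = Ideal.Quotient.mk _ b by
        rw [map_mul]; exact he))
    rw [Ideal.map_map, AlgHom.toRingHom_eq_coe, AlgHom.comp_algebraMap, map_sub] at h7
    rw [map_mul] at h7
    exact h7
  have hpow : ρ bT ^ d = ρ bT := by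
    obtain ⟨d, rfl⟩ := Nat.exists_eq_add_of_le' hd
    exact (show IsIdempotentElem (ρ bT) from hidem).pow_succ_eq d
  have hg' : ρ (ev g) = ρ bT := by
    rw [hρev, hg]
    exact (Polynomial.eval₂_X_pow χ (ρ bT)).trans hpow
  have hh' : ρ bT * ρ (ev h) = 0 := by
    obtain ⟨d, rfl⟩ := Nat.exists_eq_add_of_le' hd
    have he' : ((X - 1 : (A₁ ⧸ I₁)[X]) ^ (d + 1)).eval₂ χ (ρ bT) = (ρ bT - 1) ^ (d + 1) := by
      show Polynomial.eval₂RingHom χ (ρ bT) _ = _
      rw [map_pow, map_sub, map_one]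
      show (X.eval₂ χ (ρ bT) - 1) ^ _ = _
      rw [Polynomial.eval₂_X]
    rw [hρev, hh]
    erw [he']
    rw [pow_succ']
    linear_combination ((ρ bT - 1) ^ d) * hidem
  have hs' := congrArg ρ hsum
  rw [map_add, map_mul, map_mul, hg'] at hs'
  have h8 : ρ (↑w⁻¹ : T) * ρ (w : T) = 1 := by rw [← map_mul, Units.inv_mul, map_one]
  show ρ E = ρ bT
  rw [show ρ E = ρ (↑w⁻¹ : T) * (ρ (ev u) * ρ bT) by rw [← hg', ← map_mul, ← map_mul]]
  linear_combination (ρ (↑w⁻¹ : T) * ρ bT) * hs' - (ρ (↑w⁻¹ : T) * ρ (ev u)) * hidem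
    - (ρ (↑w⁻¹ : T) * ρ (ev v)) * hh' + ρ bT * h8

end Groth.Agent.S2041
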