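import Groth.Statements.S2042
import Mathlib

set_option autoImplicit false
universe u
open CAlg

namespace Groth.Agent.S2042

/-- For an unramified finite type algebra `U` with a section modulo `I`, the kernel of the section is
generated modulo `I U` by an element which is idempotent modulo `I U`. -/
theorem exists_idempotent_mod {A : Type u} [CommRing A] (I : Ideal A) {U : Type u} [CommRing U]
    [Algebra A U] [Algebra.Etale A U] (ψ : U →ₐ[A] A ⧸ I) :
    ∃ e : U, e * (1 - e) ∈ I.map (algebraMap A U) ∧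
      RingHom.ker ψ.toRingHom ≤ I.map (algebraMap A U) ⊔ Ideal.span {e} ∧ ψ e = 0 := by
  classical
  set IU := I.map (algebraMap A U) with hIU
  set J := RingHom.ker ψ.toRingHom with hJ
  have hle : IU ≤ J := by
    rw [hIU, Ideal.map_le_iff_le_comap]
    intro a ha
    simp [hJ, RingHom.mem_ker, Ideal.Quotient.eq_zero_iff_mem.mpr ha]
  let g : U ⧸ IU →+* A ⧸ I := Ideal.Quotient.lift IU ψ.toRingHom hle
  have hgid : ∀ b : A ⧸ I, g (algebraMap (A ⧸ I) (U ⧸ IU) b) = b := by
    intro b
    obtain ⟨a, rfl⟩ := Ideal.Quotient.mk_surjective b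
    exact (Ideal.Quotient.lift_mk IU ψ.toRingHom hle).trans (ψ.commutes a)
  letI : Algebra (U ⧸ IU) (A ⧸ I) := g.toAlgebra
  haveI : IsScalarTower (A ⧸ I) (U ⧸ IU) (A ⧸ I) :=
    IsScalarTower.of_algebraMap_eq fun b => (hgid b).symm
  have hgs : Function.Surjective g := fun b => ⟨_, hgid b⟩
  haveI : Algebra.FormallyUnramified A (U ⧸ IU) :=
    Algebra.FormallyUnramified.of_surjective (IsScalarTower.toAlgHom A U (U ⧸ IU))
      Ideal.Quotient.mk_surjective
  haveI : Algebra.FormallyUnramified (A ⧸ I) (U ⧸ IU) :=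
    Algebra.FormallyUnramified.of_restrictScalars A (A ⧸ I) (U ⧸ IU)
  haveI : Algebra.FormallyEtale (U ⧸ IU) (A ⧸ I) :=
    Algebra.FormallyEtale.of_restrictScalars (R := A ⧸ I)
  have hidem : IsIdempotentElem (RingHom.ker g) :=
    (Algebra.FormallyEtale.iff_of_surjective (R := U ⧸ IU) (S := A ⧸ I) hgs).mp inferInstance
  obtain ⟨s, hs⟩ := (Algebra.FiniteType.out (R := A) (A := U))
  choose c hc using fun x : U => Ideal.Quotient.mk_surjective (ψ x)
  let J' : Ideal U := IU ⊔ Ideal.span ((fun x => x - algebraMap A U (c x)) '' (s : Set U))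
  have hJ'J : J' ≤ J := by
    refine sup_le hle (Ideal.span_le.mpr ?_)
    rintro _ ⟨x, _, rfl⟩
    simp [hJ, RingHom.mem_ker, hc x]
  have hJJ' : J ≤ J' := by
    intro u hu
    have : ∃ a : A, u - algebraMap A U a ∈ J' := by
      have hu' : u ∈ Algebra.adjoin A (s : Set U) := hs ▸ Algebra.mem_top
      clear hu
      induction hu' using Algebra.adjoin_induction with
      | mem x hx => exact ⟨c x, Ideal.mem_sup_right (Ideal.subset_span ⟨x, hx, rfl⟩)⟩
      | algebraMap r => exact ⟨r, by simp⟩
      | add x y _ _ hx hy =>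
        obtain ⟨a, ha⟩ := hx
        obtain ⟨b, hb⟩ := hy
        exact ⟨a + b, by simpa [add_sub_add_comm] using J'.add_mem ha hb⟩
      | mul x y _ _ hx hy =>
        obtain ⟨a, ha⟩ := hx
        obtain ⟨b, hb⟩ := hy
        refine ⟨a * b, ?_⟩
        have := J'.add_mem (J'.mul_mem_right y ha) (J'.mul_mem_left (algebraMap A U a) hb)
        convert this using 1
        rw [map_mul]; ring
    obtain ⟨a, ha⟩ := this
    have h1 : ψ (u - algebraMap A U a) = 0 := hJ'J ha
    have h2 : ψ u = 0 := hu
    rw [map_sub, h2, zero_sub, neg_eq_zero, AlgHom.commutes] at h1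
    have : algebraMap A U a ∈ J' :=
      Ideal.mem_sup_left (Ideal.mem_map_of_mem _ (Ideal.Quotient.eq_zero_iff_mem.mp h1))
    simpa using J'.add_mem ha this
  have hfg : (RingHom.ker g).FG := by
    have hk : RingHom.ker g = J.map (Ideal.Quotient.mk IU) :=
      Ideal.ker_quotient_lift ψ.toRingHom hle
    rw [hk, show J = J' from le_antisymm hJJ' hJ'J, Ideal.map_sup, Ideal.map_quotient_self, bot_sup_eq,
      Ideal.map_span, ← Set.image_comp, ← Finset.coe_image]
    exact ⟨_, rfl⟩
  obtain ⟨e', he', hke⟩ := (Ideal.isIdempotentElem_iff_of_fg _ hfg).mp hidem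
  obtain ⟨e, rfl⟩ := Ideal.Quotient.mk_surjective e'
  refine ⟨e, ?_, ?_, ?_⟩
  · rw [← Ideal.Quotient.eq_zero_iff_mem, map_mul, map_sub, map_one, mul_sub, mul_one, he'.eq, sub_self]
  · intro u hu
    have : Ideal.Quotient.mk IU u ∈ RingHom.ker g := by simpa [g, hJ, RingHom.mem_ker] using hu
    rw [hke, Ideal.mem_span_singleton'] at this
    obtain ⟨d, hd⟩ := this
    obtain ⟨d, rfl⟩ := Ideal.Quotient.mk_surjective d
    rw [← map_mul, eq_comm, Ideal.Quotient.eq] at hd
    exact Submodule.mem_sup.mpr ⟨_, hd, _, Ideal.mem_span_singleton'.mpr ⟨d, rfl⟩, by ring⟩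
  · have : Ideal.Quotient.mk IU e ∈ RingHom.ker g := hke ▸ Ideal.mem_span_singleton_self _
    simpa [g, RingHom.mem_ker] using this

open Polynomial in
/-- Let `I ⊆ A` be an ideal and `f ∈ A[X]` monic whose image in `(A/I)[X]` factors as a product of two
monic polynomials generating the unit ideal. Then over some étale `A`-algebra `A'` with `A/I →
A'/(I.map (algebraMap A A'))` bijective, `f` factors as a product of two monic polynomials lifting the given factors. -/
theorem result {A : Type u} [CommRing A] (I : Ideal A) (f : A[X])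
    (hf : f.Monic) (g h : (A ⧸ I)[X]) (hg : g.Monic) (hh : h.Monic) (hcop : IsCoprime g h)
    (hfgh : f.map (Ideal.Quotient.mk I) = g * h) :
    ∃ (A' : Type u) (_ : CommRing A') (_ : Algebra A A'), Algebra.Etale A A' ∧
      Function.Bijective (algebraMap (A ⧸ I) (A' ⧸ I.map (algebraMap A A'))) ∧
      ∃ g' h' : A'[X], g'.Monic ∧ h'.Monic ∧ f.map (algebraMap A A') = g' * h' ∧
        g'.map (Ideal.Quotient.mk (I.map (algebraMap A A'))) =
          g.map (algebraMap (A ⧸ I) (A' ⧸ I.map (algebraMap A A'))) ∧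
        h'.map (Ideal.Quotient.mk (I.map (algebraMap A A'))) =
          h.map (algebraMap (A ⧸ I) (A' ⧸ I.map (algebraMap A A'))) := by
  rcases subsingleton_or_nontrivial (A ⧸ I) with hsub | hnt
  · haveI : Subsingleton (A ⧸ I.map (algebraMap A A)) := by
      rwa [show I.map (algebraMap A A) = I by simp]
    refine ⟨A, inferInstance, Algebra.id A, inferInstance,
      ⟨fun a b _ => Subsingleton.elim a b, fun b => ⟨0, Subsingleton.elim _ _⟩⟩,
      f, 1, hf, monic_one, by simp, Subsingleton.elim _ _, Subsingleton.elim _ _⟩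
  have hdeg : f.natDegree = g.natDegree + h.natDegree := by
    rw [← hg.natDegree_mul hh, ← hfgh, hf.natDegree_map]
  let P : MonicDegreeEq A f.natDegree := .mk f hf rfl
  let U := UniversalCoprimeFactorizationRing g.natDegree h.natDegree hdeg P
  let q : { q : MonicDegreeEq (A ⧸ I) g.natDegree × MonicDegreeEq (A ⧸ I) h.natDegree //
      q.1.1 * q.2.1 = P.1.map (algebraMap A (A ⧸ I)) ∧ IsCoprime q.1.1 q.2.1 } :=
    ⟨(.mk g hg rfl, .mk h hh rfl), hfgh.symm, hcop⟩
  let ψ : U →ₐ[A] A ⧸ I :=
    (UniversalCoprimeFactorizationRing.homEquiv (A ⧸ I) g.natDegree h.natDegree hdeg P).symm q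
  have hψ := (UniversalCoprimeFactorizationRing.homEquiv (A ⧸ I) g.natDegree h.natDegree hdeg P).apply_symm_apply q
  have hψ1 : (UniversalCoprimeFactorizationRing.factor₁ g.natDegree h.natDegree hdeg P).1.map ψ.toRingHom = g := by
    have := congrArg (fun q => q.1.1.1) hψ
    simp [UniversalCoprimeFactorizationRing.homEquiv, UniversalFactorizationRing.homEquiv,
      UniversalCoprimeFactorizationRing.factor₁, MonicDegreeEq.map, Polynomial.map_map, q, ψ] at this ⊢
    exact this
  have hψ2 : (UniversalCoprimeFactorizationRing.factor₂ g.natDegree h.natDegree hdeg P).1.map ψ.toRingHom = h := by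
    have := congrArg (fun q => q.1.2.1) hψ
    simp [UniversalCoprimeFactorizationRing.homEquiv, UniversalFactorizationRing.homEquiv,
      UniversalCoprimeFactorizationRing.factor₂, MonicDegreeEq.map, Polynomial.map_map, q, ψ] at this ⊢
    exact this
  obtain ⟨e, hee, hJe, heJ⟩ := exists_idempotent_mod I ψ
  let A' := Localization.Away (1 - e)
  have hu : IsUnit (ψ (1 - e)) := by rw [map_sub, map_one, heJ, sub_zero]; exact isUnit_one
  let χ : A' →ₐ[A] A ⧸ I :=
    IsLocalization.Away.liftAlgHom (f := ψ) (1 - e) hu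
  have hχ : ∀ u : U, χ (algebraMap U A' u) = ψ u := fun u => by simp [χ]
  have hIχ : (I.map (algebraMap A A')) ≤ RingHom.ker χ.toRingHom := by
    rw [Ideal.map_le_iff_le_comap]
    intro a ha
    simp [RingHom.mem_ker, Ideal.Quotient.eq_zero_iff_mem.mpr ha]
  let χb : A' ⧸ (I.map (algebraMap A A')) →+* A ⧸ I := Ideal.Quotient.lift (I.map (algebraMap A A')) χ.toRingHom hIχ
  let jm : A ⧸ I →+* A' ⧸ (I.map (algebraMap A A')) := algebraMap _ _
  have hleft : ∀ b : A ⧸ I, χb (jm b) = b := by
    intro b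
    obtain ⟨a, rfl⟩ := Ideal.Quotient.mk_surjective b
    exact ((congrArg χb (Ideal.Quotient.algebraMap_quotient_map_quotient a)).trans
      (Ideal.Quotient.lift_mk _ χ.toRingHom hIχ)).trans (χ.commutes a)
  have he0 : algebraMap U A' e ∈ (I.map (algebraMap A A')) := by
    have h1 : algebraMap U A' (e * (1 - e)) ∈ (I.map (algebraMap A A')) := by
      rw [IsScalarTower.algebraMap_eq A U A', ← Ideal.map_map]
      exact Ideal.mem_map_of_mem _ hee
    rw [map_mul] at h1
    exact (Ideal.mul_unit_mem_iff_mem _ (IsLocalization.Away.algebraMap_isUnit (1 - e))).mp h1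
  have he1 : Ideal.Quotient.mk (I.map (algebraMap A A')) (algebraMap U A' (1 - e)) = 1 := by
    rw [← map_one (Ideal.Quotient.mk (I.map (algebraMap A A'))), Ideal.Quotient.eq, map_sub, map_one, sub_sub_cancel_left]
    exact neg_mem he0
  have hcomp : ∀ a : A, jm (Ideal.Quotient.mk I a) =
      Ideal.Quotient.mk (I.map (algebraMap A A')) (algebraMap U A' (algebraMap A U a)) := fun a => by
    rw [← IsScalarTower.algebraMap_apply A U A']
    exact Ideal.Quotient.algebraMap_quotient_map_quotient a
  have hsurjU : ∀ u : U, ∃ b, jm b = Ideal.Quotient.mk (I.map (algebraMap A A')) (algebraMap U A' u) := by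
    intro u
    obtain ⟨a, ha⟩ := Ideal.Quotient.mk_surjective (ψ u)
    refine ⟨Ideal.Quotient.mk I a, ?_⟩
    have : u - algebraMap A U a ∈ RingHom.ker ψ.toRingHom := by
      simp [RingHom.mem_ker, ← ha]
    obtain ⟨i, hi, j, hj, hij⟩ := Submodule.mem_sup.mp (hJe this)
    obtain ⟨c, rfl⟩ := Ideal.mem_span_singleton'.mp hj
    rw [hcomp, eq_comm, Ideal.Quotient.eq, ← map_sub, ← hij, map_add, map_mul]
    refine Ideal.add_mem _ ?_ (Ideal.mul_mem_left _ _ he0)
    rw [IsScalarTower.algebraMap_eq A U A', ← Ideal.map_map]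
    exact Ideal.mem_map_of_mem _ hi
  have hbij : Function.Bijective jm := by
    refine ⟨Function.LeftInverse.injective hleft, fun z => ?_⟩
    obtain ⟨z, rfl⟩ := Ideal.Quotient.mk_surjective z
    obtain ⟨⟨u, ⟨_, n, rfl⟩⟩, hz⟩ := IsLocalization.surj (.powers (1 - e)) z
    obtain ⟨b, hb⟩ := hsurjU u
    refine ⟨b, ?_⟩
    refine hb.trans (Ideal.Quotient.eq.mpr ?_)
    have h1 : ∀ k : ℕ, 1 - algebraMap U A' (1 - e) ^ k ∈ I.map (algebraMap A A') := by
      intro k
      induction k with
      | zero => simp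
      | succ k ih =>
        have : 1 - algebraMap U A' (1 - e) ^ (k + 1) = algebraMap U A' e +
            algebraMap U A' (1 - e) * (1 - algebraMap U A' (1 - e) ^ k) := by
          simp only [map_sub, map_one, pow_succ]; ring
        exact this ▸ add_mem he0 (Ideal.mul_mem_left _ _ ih)
    have hz' : z * algebraMap U A' (1 - e) ^ n = algebraMap U A' u := by simpa only [map_pow] using hz
    have : algebraMap U A' u - z = -(z * (1 - algebraMap U A' (1 - e) ^ n)) := by
      rw [← hz']; ring
    exact this ▸ neg_mem (Ideal.mul_mem_left _ _ (h1 n))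
  haveI : Algebra.Etale A A' :=
    haveI : Algebra.Etale U A' := Algebra.Etale.of_isLocalizationAway (1 - e)
    Algebra.Etale.comp A U A'
  have hinj : Function.Injective χb := by
    intro x y hxy
    obtain ⟨x, rfl⟩ := hbij.2 x
    obtain ⟨y, rfl⟩ := hbij.2 y
    rw [hleft, hleft] at hxy
    rw [hxy]
  refine ⟨A', inferInstance, inferInstance, inferInstance, hbij,
    (UniversalCoprimeFactorizationRing.factor₁ g.natDegree h.natDegree hdeg P).1.map (algebraMap U A'),
    (UniversalCoprimeFactorizationRing.factor₂ g.natDegree h.natDegree hdeg P).1.map (algebraMap U A'),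
    (MonicDegreeEq.monic _).map _, (MonicDegreeEq.monic _).map _, ?_, ?_, ?_⟩
  · rw [← Polynomial.map_mul, UniversalCoprimeFactorizationRing.factor₁_mul_factor₂,
      MonicDegreeEq.map_coe, Polynomial.map_map, ← IsScalarTower.algebraMap_eq]
    rfl
  all_goals apply Polynomial.map_injective χb hinj
  all_goals simp only [Polynomial.map_map]
  · rw [show χb.comp jm = RingHom.id _ from RingHom.ext hleft,
      Polynomial.map_id]
    refine Eq.trans ?_ hψ1
    congr 1
    exact RingHom.ext fun u => (Ideal.Quotient.lift_mk _ χ.toRingHom hIχ).trans (hχ u)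
  · rw [show χb.comp jm = RingHom.id _ from RingHom.ext hleft,
      Polynomial.map_id]
    refine Eq.trans ?_ hψ2
    congr 1
    exact RingHom.ext fun u => (Ideal.Quotient.lift_mk _ χ.toRingHom hIχ).trans (hχ u)

end Groth.Agent.S2042
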