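import Groth.Statements.S2044
import Mathlib
import Groth.Agent.S2042
import Groth.Agent.Lib.Horrocks.Main

set_option autoImplicit false
universe u
open CAlg

namespace Groth.Agent.S2044

open Polynomial Matrix in
/-- Étale neighbourhood with coprime lifted factorisation. -/
theorem exists_etale_coprime_lift {A : Type u} [CommRing A] (I : Ideal A) (f : A[X])
    (hf : f.Monic) (g h : (A ⧸ I)[X]) (hg : g.Monic) (hh : h.Monic) (hcop : IsCoprime g h)
    (hfgh : f.map (Ideal.Quotient.mk I) = g * h) :
    ∃ (A' : Type u) (_ : CommRing A') (_ : Algebra A A'), Algebra.Etale A A' ∧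
      Function.Bijective (algebraMap (A ⧸ I) (A' ⧸ I.map (algebraMap A A'))) ∧
      ∃ g' h' a b : A'[X], f.map (algebraMap A A') = g' * h' ∧ a * g' + b * h' = 1 ∧
        g'.map (Ideal.Quotient.mk (I.map (algebraMap A A'))) =
          g.map (algebraMap (A ⧸ I) (A' ⧸ I.map (algebraMap A A'))) ∧
        h'.map (Ideal.Quotient.mk (I.map (algebraMap A A'))) =
          h.map (algebraMap (A ⧸ I) (A' ⧸ I.map (algebraMap A A'))) := by
  obtain ⟨A', _, _, _, hbij, g', h', hg', hh', hfac, hgm, hhm⟩ :=
    Groth.Agent.S2042.result I f hf g h hg hh hcop hfgh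
  let I' := I.map (algebraMap A A')
  let r := resultant g' h'
  have hru : IsUnit (Ideal.Quotient.mk I' r) := by
    rcases subsingleton_or_nontrivial (A' ⧸ I') with hs | hnt
    · exact isUnit_of_subsingleton _
    have := (isUnit_resultant_iff_isCoprime (hg.map (algebraMap (A ⧸ I) (A' ⧸ I')))).mpr
      (hcop.map (Polynomial.mapRingHom (algebraMap (A ⧸ I) (A' ⧸ I'))))
    simp only [Polynomial.coe_mapRingHom] at this
    rw [← hgm, ← hhm, hg'.natDegree_map, hh'.natDegree_map, resultant_map_map] at this
    exact this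
  let A'' := Localization.Away r
  haveI : Algebra.Etale A' A'' := Algebra.Etale.of_isLocalizationAway r
  haveI : Algebra.Etale A A'' := Algebra.Etale.comp A A' A''
  let j : A' →+* A'' := algebraMap A' A''
  let I'' := I.map (algebraMap A A'')
  have hI'' : I'' = I'.map j := by
    simp only [I'', I', j]
    rw [Ideal.map_map, ← IsScalarTower.algebraMap_eq]
  let π : A' ⧸ I' →+* A'' ⧸ I'' := Ideal.quotientMap I'' j (by
    rw [hI'']; exact Ideal.le_comap_map)
  let s : A'' →+* A' ⧸ I' := IsLocalization.Away.lift r (g := Ideal.Quotient.mk I') hru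
  have hs : ∀ x, s (j x) = Ideal.Quotient.mk I' x := fun x => IsLocalization.Away.lift_eq r hru x
  have hker : I'' ≤ RingHom.ker s := by
    rw [hI'', Ideal.map_le_iff_le_comap]
    intro x hx
    rw [Ideal.mem_comap, RingHom.mem_ker, hs]
    exact Ideal.Quotient.eq_zero_iff_mem.mpr hx
  let s' : A'' ⧸ I'' →+* A' ⧸ I' := Ideal.Quotient.lift I'' s hker
  have h1 : ∀ z, s' (π z) = z := by
    intro z; obtain ⟨z, rfl⟩ := Ideal.Quotient.mk_surjective z; exact hs z
  have h2 : π.comp s' = RingHom.id _ := by
    refine Ideal.Quotient.ringHom_ext (IsLocalization.ringHom_ext (Submonoid.powers r)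
      (RingHom.ext fun x => ?_))
    change π (s (j x)) = Ideal.Quotient.mk I'' (j x)
    rw [hs]; rfl
  have hπ : (algebraMap (A ⧸ I) (A'' ⧸ I'')) = π.comp (algebraMap (A ⧸ I) (A' ⧸ I')) := by
    refine Ideal.Quotient.ringHom_ext (RingHom.ext fun x => ?_)
    change algebraMap (A ⧸ I) (A'' ⧸ I'') (Ideal.Quotient.mk I x) =
      π (algebraMap (A ⧸ I) (A' ⧸ I') (Ideal.Quotient.mk I x))
    rw [Ideal.Quotient.algebraMap_quotient_map_quotient,
      Ideal.Quotient.algebraMap_quotient_map_quotient, IsScalarTower.algebraMap_apply A A' A'']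
    rfl
  have hπb : Function.Bijective π :=
    ⟨Function.LeftInverse.injective h1, fun z => ⟨s' z, RingHom.congr_fun h2 z⟩⟩
  obtain ⟨a, b, hab⟩ : IsCoprime (g'.map j) (h'.map j) := by
    rcases subsingleton_or_nontrivial A'' with hss | hnt
    · exact ⟨0, 0, Subsingleton.elim _ _⟩
    rw [← isUnit_resultant_iff_isCoprime (hg'.map j), hg'.natDegree_map, hh'.natDegree_map,
      resultant_map_map]
    exact IsLocalization.Away.algebraMap_isUnit r
  refine ⟨A'', inferInstance, inferInstance, inferInstance, ?_, g'.map j, h'.map j, a, b, ?_,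
    hab, ?_, ?_⟩
  · rw [hπ]; exact hπb.comp hbij
  · rw [← Polynomial.map_mul, ← hfac, Polynomial.map_map]
    simp only [j, ← IsScalarTower.algebraMap_eq]
  · rw [hπ]
    calc _ = (g'.map (Ideal.Quotient.mk I')).map π := by rw [Polynomial.map_map, Polynomial.map_map]; rfl
      _ = _ := by rw [hgm, Polynomial.map_map]
  · rw [hπ]
    calc _ = (h'.map (Ideal.Quotient.mk I')).map π := by rw [Polynomial.map_map, Polynomial.map_map]; rfl
      _ = _ := by rw [hhm, Polynomial.map_map]

open Polynomial Matrix in
theorem exists_etale_idempotent_lift {A : Type u} [CommRing A] (I : Ideal A) (n : ℕ)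
    (e : Matrix (Fin n) (Fin n) (A ⧸ I)) (he : e * e = e) :
    ∃ (A' : Type u) (_ : CommRing A') (_ : Algebra A A'), Algebra.Etale A A' ∧
      Function.Bijective (algebraMap (A ⧸ I) (A' ⧸ I.map (algebraMap A A'))) ∧
      ∃ E : Matrix (Fin n) (Fin n) A', E * E = E ∧
        E.map (Ideal.Quotient.mk (I.map (algebraMap A A'))) =
          e.map (algebraMap (A ⧸ I) (A' ⧸ I.map (algebraMap A A'))) := by
  choose B hB using fun x y => Ideal.Quotient.mk_surjective (I := I) (e x y)
  let B : Matrix (Fin n) (Fin n) A := Matrix.of B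
  have hBe : B.map (Ideal.Quotient.mk I) = e := by ext x y; exact hB x y
  let C := B ^ 2 - B
  have hC : C.map (Ideal.Quotient.mk I) = 0 := by
    simp only [C]
    rw [Matrix.map_sub _ (map_sub _), pow_two, Matrix.map_mul, hBe, he, sub_self]
  let f := C.charpoly.comp (X ^ 2 - X)
  have hdeg : (X ^ 2 - X : (A ⧸ I)[X]) = X * (X - 1) := by ring
  have hq : (X ^ 2 - X : A[X]).Monic ∧ ((X ^ 2 - X : A[X]).natDegree ≠ 0 ∨ Subsingleton A) := by
    rcases subsingleton_or_nontrivial A with hA | hA
    · exact ⟨Subsingleton.elim _ _, Or.inr hA⟩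
    · have : (X ^ 2 - X : A[X]) = X * (X - Polynomial.C 1) := by simp; ring
      rw [this]
      refine ⟨monic_X.mul (monic_X_sub_C 1), Or.inl ?_⟩
      rw [monic_X.natDegree_mul (monic_X_sub_C 1)]; simp
  have hf : f.Monic := by
    rcases hq.2 with h | h
    · exact (Matrix.charpoly_monic C).comp hq.1 h
    · exact Subsingleton.elim _ _
  have hfB : aeval B f = 0 := by
    simp only [f, aeval_comp, map_sub, map_pow, aeval_X]
    exact Matrix.aeval_self_charpoly C
  have hfmap : f.map (Ideal.Quotient.mk I) = X ^ n * (X - 1) ^ n := by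
    simp only [f, Polynomial.map_comp, ← Matrix.charpoly_map, hC, Matrix.charpoly_zero,
      Fintype.card_fin, Polynomial.map_sub, Polynomial.map_pow, Polynomial.map_X, X_pow_comp,
      hdeg, mul_pow]
  obtain ⟨A', _, _, het, hbij, g', h', a, b, hfac, hab, hgm, hhm⟩ :=
    exists_etale_coprime_lift I f hf (X ^ n) ((X - 1) ^ n) (monic_X_pow n)
      ((by simpa using monic_X_sub_C (1 : A ⧸ I) : (X - 1 : (A ⧸ I)[X]).Monic).pow n)
      (IsCoprime.pow ⟨1, -1, by ring⟩) hfmap
  let B' := B.map (algebraMap A A')
  have hB'0 : aeval B' g' * aeval B' h' = 0 := by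
    rw [← map_mul, ← hfac, aeval_map_algebraMap]
    have := Polynomial.aeval_algHom_apply (Algebra.ofId A A').mapMatrix B f
    rw [hfB, map_zero] at this
    exact this
  refine ⟨A', inferInstance, inferInstance, het, hbij, aeval B' (a * g'), ?_, ?_⟩
  · have hsum : aeval B' (a * g') + aeval B' (b * h') = 1 := by rw [← map_add, hab, map_one]
    have h0 : aeval B' (a * g') * aeval B' (b * h') = 0 := by
      rw [← map_mul, show a * g' * (b * h') = a * b * (g' * h') by ring, map_mul, map_mul _ g',
        hB'0, mul_zero]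
    calc aeval B' (a * g') * aeval B' (a * g')
        = aeval B' (a * g') * (aeval B' (a * g') + aeval B' (b * h')) := by rw [mul_add, h0, add_zero]
      _ = _ := by rw [hsum, mul_one]
  · let I' := I.map (algebraMap A A')
    let κ := algebraMap (A ⧸ I) (A' ⧸ I')
    let e' := e.map κ
    have he' : e' * e' = e' := by simp only [e']; rw [← Matrix.map_mul, he]
    have hB' : B'.map (Ideal.Quotient.mk I') = e' := by
      ext x y
      simp only [e', B', κ, Matrix.map_apply, ← hBe]
      exact (Ideal.Quotient.algebraMap_quotient_map_quotient _).symm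
    have hev : ∀ p : A'[X], (aeval B' p).map (Ideal.Quotient.mk I') =
        aeval e' (p.map (Ideal.Quotient.mk I')) := by
      intro p
      induction p using Polynomial.induction_on with
      | C c => ext x y; by_cases h : x = y <;> simp [h, Matrix.algebraMap_matrix_apply]
      | add p q hp hq =>
        rw [map_add, Matrix.map_add _ (map_add _), hp, hq, Polynomial.map_add, map_add]
      | monomial k c _ =>
        simp only [map_mul, Polynomial.map_mul, map_pow, Polynomial.map_pow, Polynomial.map_C,
          Polynomial.map_X, aeval_C, aeval_X]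
        rw [Matrix.map_mul]
        congr 1
        · ext x y; by_cases h : x = y <;> simp [h, Matrix.algebraMap_matrix_apply]
        · rw [Matrix.map_pow, hB']
    rw [hev, Polynomial.map_mul, hgm]
    rcases Nat.eq_zero_or_pos n with h0 | h0
    · subst h0; exact Subsingleton.elim _ _
    obtain ⟨m, rfl⟩ := Nat.exists_eq_add_of_le' h0
    have hs := congrArg (aeval e') (congrArg (Polynomial.map (Ideal.Quotient.mk I')) hab)
    rw [Polynomial.map_add, Polynomial.map_mul, Polynomial.map_mul] at hs
    erw [hgm, hhm] at hs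
    simp only [Polynomial.map_pow, Polynomial.map_sub, Polynomial.map_X, Polynomial.map_one,
      map_add, map_mul, map_pow, map_sub, map_one, aeval_X] at hs ⊢
    have hp : e' ^ (m + 1) = e' := IsIdempotentElem.pow_succ_eq m he'
    have hz : (e' - 1) ^ (m + 1) * e' = 0 := by
      rw [pow_succ, mul_assoc, sub_mul, he', one_mul, sub_self, mul_zero]
    rw [hp]
    calc aeval e' (a.map (Ideal.Quotient.mk I')) * e'
        = (aeval e' (a.map (Ideal.Quotient.mk I')) * e' ^ (m + 1) +
            aeval e' (b.map (Ideal.Quotient.mk I')) * (e' - 1) ^ (m + 1)) * e' := by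
          rw [add_mul, hp, mul_assoc, he', mul_assoc, hz, mul_zero, add_zero]
      _ = e' := by rw [hs, one_mul]

theorem rangeProj {R : Type u} [CommRing R] {n : ℕ} (E : Matrix (Fin n) (Fin n) R)
    (hE : E * E = E) :
    ∃ (ρ : (Fin n → R) →ₗ[R] LinearMap.range (Matrix.toLin' E)),
      ρ.comp (LinearMap.range (Matrix.toLin' E)).subtype = LinearMap.id ∧
      LinearMap.toMatrix' ((LinearMap.range (Matrix.toLin' E)).subtype.comp ρ) = E := by
  refine ⟨(Matrix.toLin' E).rangeRestrict, LinearMap.ext fun ⟨x, y, hy⟩ => Subtype.ext ?_, ?_⟩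
  · subst hy
    change Matrix.toLin' E (Matrix.toLin' E y) = Matrix.toLin' E y
    rw [← LinearMap.comp_apply, ← Matrix.toLin'_mul, hE]
  · simp

theorem toMatrix_baseChange {R S : Type u} [CommRing R] [CommRing S] [Algebra R S] {n : ℕ}
    {V : Type u} [AddCommGroup V] [Module R V] (j : V →ₗ[R] Fin n → R) (ρ : (Fin n → R) →ₗ[R] V) :
    LinearMap.toMatrix' (((TensorProduct.piScalarRight R S S (Fin n)).toLinearMap.comp
        (j.baseChange S)).comp
      ((ρ.baseChange S).comp (TensorProduct.piScalarRight R S S (Fin n)).symm.toLinearMap)) =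
      (LinearMap.toMatrix' (j.comp ρ)).map (algebraMap R S) := by
  ext a b : 1
  simp [LinearMap.toMatrix'_apply, TensorProduct.piScalarRight_symm_single, Algebra.smul_def,
    Pi.single_apply, ← Pi.single_apply]

theorem baseChange_retract {R S : Type u} [CommRing R] [CommRing S] [Algebra R S] {n : ℕ}
    {V : Type u} [AddCommGroup V] [Module R V] (j : V →ₗ[R] Fin n → R) (ρ : (Fin n → R) →ₗ[R] V)
    (h : ρ.comp j = LinearMap.id) :
    ((ρ.baseChange S).comp (TensorProduct.piScalarRight R S S (Fin n)).symm.toLinearMap).comp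
      ((TensorProduct.piScalarRight R S S (Fin n)).toLinearMap.comp (j.baseChange S)) =
      LinearMap.id := by
  refine LinearMap.ext fun x => ?_
  simp only [LinearMap.comp_apply, LinearEquiv.coe_coe, LinearEquiv.symm_apply_apply]
  rw [← LinearMap.comp_apply, ← LinearMap.baseChange_comp, h, LinearMap.baseChange_id]


open TensorProduct in
/-- Let `I ⊆ A` be an ideal and `P` a finite projective `A/I`-module. Then there is an étale `A`-algebra
`A'` with `A/I → A'/IA'` bijective and a finite projective `A'`-module whose reduction modulo `IA'`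
is the base change of `P`. -/
theorem result {A : Type u} [CommRing A] (I : Ideal A) (P : Type u)
    [AddCommGroup P] [Module (A ⧸ I) P] [Module.Finite (A ⧸ I) P] [Module.Projective (A ⧸ I) P] :
    ∃ (A' : Type u) (_ : CommRing A') (_ : Algebra A A'), Algebra.Etale A A' ∧
      Function.Bijective (algebraMap (A ⧸ I) (A' ⧸ I.map (algebraMap A A'))) ∧
      ∃ (P' : Type u) (_ : AddCommGroup P') (_ : Module A' P'), Module.Finite A' P' ∧
        Module.Projective A' P' ∧
        Nonempty (((A' ⧸ I.map (algebraMap A A')) ⊗[A'] P') ≃ₗ[A' ⧸ I.map (algebraMap A A')]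
          ((A' ⧸ I.map (algebraMap A A')) ⊗[A ⧸ I] P)) := by
  classical
  obtain ⟨n, π, i, -, -, hπi⟩ := Module.Finite.exists_comp_eq_id_of_projective (A ⧸ I) P
  let e := LinearMap.toMatrix' (i.comp π)
  have he : e * e = e := by
    simp only [e]
    rw [← LinearMap.toMatrix'_comp, LinearMap.comp_assoc, ← LinearMap.comp_assoc _ i π, hπi,
      LinearMap.id_comp]
  obtain ⟨A', _, _, het, hbij, E, hE, hEe⟩ := exists_etale_idempotent_lift I n e he
  obtain ⟨ρ, hρ1, hρ2⟩ := rangeProj E hE
  let S := A' ⧸ I.map (algebraMap A A')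
  let P' := LinearMap.range (Matrix.toLin' E)
  haveI : Module.Projective A' P' := Module.Projective.of_split P'.subtype ρ hρ1
  haveI : Module.Finite A' P' := Module.Finite.of_surjective ρ fun x =>
    ⟨P'.subtype x, LinearMap.congr_fun hρ1 x⟩
  have h3 : (LinearMap.toMatrix' (i.comp π)).map (algebraMap (A ⧸ I) S) =
      (LinearMap.toMatrix' (P'.subtype.comp ρ)).map (algebraMap A' S) := by
    rw [hρ2]; exact hEe.symm
  have hidem : (e.map (algebraMap (A ⧸ I) S)) * (e.map (algebraMap (A ⧸ I) S)) =
      e.map (algebraMap (A ⧸ I) S) := by rw [← Matrix.map_mul, he]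
  exact ⟨A', inferInstance, inferInstance, het, hbij, P', inferInstance, inferInstance,
    inferInstance, inferInstance, ⟨GrothLib.Horrocks.equivOfEqv _ _
      (baseChange_retract (S := S) P'.subtype ρ hρ1) _ _ (baseChange_retract (S := S) i π hπi)
      (e.map (algebraMap (A ⧸ I) S)) (e.map (algebraMap (A ⧸ I) S))
      (hidem.trans (toMatrix_baseChange i π).symm)
      ((hidem.trans h3).trans (toMatrix_baseChange P'.subtype ρ).symm)⟩⟩

end Groth.Agent.S2044
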