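import Groth.Statements.S2045
import Groth.Agent.S2047
import Groth.Agent.Lib.Hensel.FormalFibres
import Groth.Agent.Lib.Ratliff.Excellent

set_option autoImplicit false
universe u
open CAlg

namespace Groth.Agent.S2045

/-- If `R` is a Noetherian local G-ring then its henselization is a G-ring. -/
theorem result {R S : Type u} [CommRing R] [IsLocalRing R] [IsNoetherianRing R]
    (hR : CAlg.IsGRing R) [CommRing S] [IsLocalRing S] [Algebra R S] [IsLocalHom (algebraMap R S)]
    [Hensel.IsHenselization R S] : CAlg.IsGRing S := by
  haveI : IsNoetherianRing S :=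
    (GrothLib.Hensel.IsHenselization.isNoetherianRing_iff (R := R) (S := S)).mp inferInstance
  have hS := (GrothLib.Hensel.IsHenselization.isRegularHom_completion_iff R S).2
    (GrothLib.Ratliff.isRegularHom_cpl_of_isGRing R hR)
  refine Groth.Agent.S2047.result.2 fun m hm => ?_
  have hms : m.primeCompl ≤ IsUnit.submonoid S := fun y hy =>
    IsLocalRing.notMem_maximalIdeal.1 ((IsLocalRing.eq_maximalIdeal hm) ▸ hy)
  exact GrothLib.Excellent.isRegularHom_completion_congr
    (IsLocalization.atUnits _ m.primeCompl (S := Localization.AtPrime m) hms).toRingEquiv hS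

end Groth.Agent.S2045
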