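import Groth.Statements.S2048
import Groth.Agent.Lib.CohenFinite.Basic
import Groth.Agent.Lib.AdicExtra.FiniteAlg
import Groth.Agent.Lib.DerivPow1.Main
import Mathlib

set_option autoImplicit false
universe u
open CAlg

namespace Groth.Agent.S2048

open GrothLib.DerivPow1

theorem core {k : Type u} [Field k] {d : ℕ} {B : Type u} [CommRing B] [IsDomain B]
    [Algebra (MvPowerSeries (ULift.{u} (Fin d)) k) B] [FaithfulSMul (MvPowerSeries (ULift.{u} (Fin d)) k) B]
    [Algebra.FiniteType (MvPowerSeries (ULift.{u} (Fin d)) k) B]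
    (p : ℕ) [Fact p.Prime] [CharP B p] (f : B)
    (hf : ∀ x : FractionRing B, x ^ p ≠ algebraMap B (FractionRing B) f) :
    ∃ D : Derivation ℤ B B, D f ≠ 0 := by
  classical
  have : CharP (FractionRing B) p := charP_of_injective_algebraMap (IsFractionRing.injective B _) p
  have : IsDomain (MvPowerSeries (ULift.{u} (Fin d)) k) := (FaithfulSMul.algebraMap_injective _ B).isDomain
  have : CharP (MvPowerSeries (ULift.{u} (Fin d)) k) p :=
    ((algebraMap (MvPowerSeries (ULift.{u} (Fin d)) k) B).charP_iff (FaithfulSMul.algebraMap_injective _ B) p).2 inferInstance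
  have : CharP k p := ((MvPowerSeries.C : k →+* MvPowerSeries (ULift.{u} (Fin d)) k).charP_iff
    (RingHom.injective _) p).2 inferInstance
  obtain ⟨G, hG⟩ := (inferInstance : Algebra.FiniteType (MvPowerSeries (ULift.{u} (Fin d)) k) B).1
  have : Algebra.IsAlgebraic (Algebra.adjoin (MvPowerSeries (ULift.{u} (Fin d)) k) (G : Set B)) B := ⟨fun y =>
    isAlgebraic_algebraMap (R := Algebra.adjoin (MvPowerSeries (ULift.{u} (Fin d)) k) (G : Set B)) (⟨y, hG ▸ Algebra.mem_top⟩ : Algebra.adjoin (MvPowerSeries (ULift.{u} (Fin d)) k) (G : Set B))⟩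
  obtain ⟨t, htG, ht⟩ := exists_isTranscendenceBasis_subset (R := MvPowerSeries (ULift.{u} (Fin d)) k) (A := B) (G : Set B)
  have htf : t.Finite := G.finite_toSet.subset htG
  have := htf.fintype
  obtain ⟨A, iA, iAd, hA⟩ : ∃ (A : Type u) (_ : CommRing A) (_ : IsDomain A),
      A = MvPolynomial t (MvPowerSeries (ULift.{u} (Fin d)) k) := ⟨_, inferInstance, inferInstance, rfl⟩
  clear hA iAd iA A
  letI algAB : Algebra (MvPolynomial t (MvPowerSeries (ULift.{u} (Fin d)) k)) B :=
    (MvPolynomial.aeval ((↑) : t → B)).toRingHom.toAlgebra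
  have : IsScalarTower (MvPowerSeries (ULift.{u} (Fin d)) k) (MvPolynomial t (MvPowerSeries (ULift.{u} (Fin d)) k)) B :=
    IsScalarTower.of_algebraMap_eq fun r => ((MvPolynomial.aeval ((↑) : t → B)).commutes r).symm
  have : FaithfulSMul (MvPolynomial t (MvPowerSeries (ULift.{u} (Fin d)) k)) B :=
    (faithfulSMul_iff_algebraMap_injective _ _).2 (algebraicIndependent_iff_injective_aeval.1 ht.1)
  have : Algebra.IsAlgebraic (MvPolynomial t (MvPowerSeries (ULift.{u} (Fin d)) k)) B := by
    have h1 := ht.isAlgebraic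
    refine ⟨fun y => ?_⟩
    obtain ⟨e, he⟩ : ∃ e : MvPolynomial t (MvPowerSeries (ULift.{u} (Fin d)) k) ≃+*
        Algebra.adjoin (MvPowerSeries (ULift.{u} (Fin d)) k) (Set.range ((↑) : t → B)),
        ∀ a, (e a : B) = MvPolynomial.aeval ((↑) : t → B) a := ⟨ht.1.aevalEquiv.toRingEquiv, fun a => rfl⟩
    obtain ⟨P, hP0, hPy⟩ := h1.isAlgebraic y
    refine ⟨P.map (e.symm : _ →+* _), (Polynomial.map_ne_zero_iff e.symm.injective).2 hP0, ?_⟩
    rw [Polynomial.aeval_def, Polynomial.eval₂_map, ← hPy, Polynomial.aeval_def]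
    congr 1
    refine RingHom.ext fun a => ?_
    show MvPolynomial.aeval ((↑) : t → B) (e.symm a) = (a : B)
    rw [← he, RingEquiv.apply_symm_apply]
  have : FaithfulSMul (MvPolynomial t (MvPowerSeries (ULift.{u} (Fin d)) k)) (FractionRing B) :=
    (faithfulSMul_iff_algebraMap_injective _ _).2 (by
      rw [IsScalarTower.algebraMap_eq _ B (FractionRing B)]
      exact (IsFractionRing.injective B _).comp (FaithfulSMul.algebraMap_injective _ B))
  letI := FractionRing.liftAlgebra (MvPolynomial t (MvPowerSeries (ULift.{u} (Fin d)) k)) (FractionRing B)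
  have hint : ∀ y : B, IsIntegral (FractionRing (MvPolynomial t (MvPowerSeries (ULift.{u} (Fin d)) k))) (algebraMap B (FractionRing B) y) := fun y =>
    ((IsFractionRing.isAlgebraic_iff (MvPolynomial t (MvPowerSeries (ULift.{u} (Fin d)) k)) _ _).1
      ((Algebra.IsAlgebraic.isAlgebraic y).algHom (IsScalarTower.toAlgHom _ B (FractionRing B)))).isIntegral
  have : FiniteDimensional (FractionRing (MvPolynomial t (MvPowerSeries (ULift.{u} (Fin d)) k))) (FractionRing B) := by
    have hfd : FiniteDimensional (FractionRing (MvPolynomial t (MvPowerSeries (ULift.{u} (Fin d)) k)))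
        (IntermediateField.adjoin (FractionRing (MvPolynomial t (MvPowerSeries (ULift.{u} (Fin d)) k)))
          (algebraMap B (FractionRing B) '' (G : Set B))) := by
      have := (G.finite_toSet.image (algebraMap B (FractionRing B))).to_subtype
      exact IntermediateField.finiteDimensional_adjoin fun x hx => by obtain ⟨y, -, rfl⟩ := hx; exact hint y
    have hmem : ∀ y : B, algebraMap B (FractionRing B) y ∈
        IntermediateField.adjoin (FractionRing (MvPolynomial t (MvPowerSeries (ULift.{u} (Fin d)) k)))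
          (algebraMap B (FractionRing B) '' (G : Set B)) := fun y => by
      have hy : y ∈ Algebra.adjoin (MvPowerSeries (ULift.{u} (Fin d)) k) (G : Set B) := hG ▸ Algebra.mem_top
      induction hy using Algebra.adjoin_induction with
      | mem b hb => exact IntermediateField.subset_adjoin _ _ ⟨b, hb, rfl⟩
      | algebraMap r =>
        rw [IsScalarTower.algebraMap_apply (MvPowerSeries (ULift.{u} (Fin d)) k) (MvPolynomial t (MvPowerSeries (ULift.{u} (Fin d)) k)) B,
          ← IsScalarTower.algebraMap_apply,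
          IsScalarTower.algebraMap_apply _ (FractionRing (MvPolynomial t (MvPowerSeries (ULift.{u} (Fin d)) k))) (FractionRing B)]
        exact IntermediateField.algebraMap_mem _ _
      | add a b _ _ ha hb => rw [map_add]; exact add_mem ha hb
      | mul a b _ _ ha hb => rw [map_mul]; exact mul_mem ha hb
    have htop : IntermediateField.adjoin (FractionRing (MvPolynomial t (MvPowerSeries (ULift.{u} (Fin d)) k)))
          (algebraMap B (FractionRing B) '' (G : Set B)) = ⊤ := eq_top_iff.2 fun z _ => by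
      obtain ⟨a, b, -, rfl⟩ := IsFractionRing.div_surjective B z
      exact div_mem (hmem a) (hmem b)
    rw [htop] at hfd
    exact Module.Finite.equiv IntermediateField.topEquiv.toLinearEquiv
  -- the family of subrings
  obtain ⟨ι, hne, kk, hdir, hkpow, hkinter, hkfin⟩ := exists_family k p
  choose rk hrk using fun i => exists_isRetr_subfield (kk i)
  choose S₁ r₁ hr₁ hS₁ using fun i => exists_retr_mvPowerSeries (ULift.{u} (Fin d)) p (hrk i)
  choose S r hr hS using fun i => exists_retr_mvPolynomial t p (hr₁ i)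
  have hdirS : ∀ i j, ∃ l, S l ≤ S i ∧ S l ≤ S j := fun i j => by
    obtain ⟨l, hl1, hl2⟩ := hdir i j
    refine ⟨l, fun a ha => ?_, fun a ha => ?_⟩
    · rw [hS] at ha ⊢
      exact fun e => ⟨(hS₁ i _).2 fun e' => ⟨hl1 (((hS₁ l _).1 (ha e).1) e').1, (((hS₁ l _).1 (ha e).1) e').2⟩, (ha e).2⟩
    · rw [hS] at ha ⊢
      exact fun e => ⟨(hS₁ j _).2 fun e' => ⟨hl2 (((hS₁ l _).1 (ha e).1) e').1, (((hS₁ l _).1 (ha e).1) e').2⟩, (ha e).2⟩
  have hpow₁ : ∀ i (a : MvPowerSeries (ULift.{u} (Fin d)) k), a ^ p ∈ S₁ i := fun i a => (hS₁ i _).2 fun e => by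
    obtain ⟨c, hc⟩ := (coeff_pow_mvPowerSeries (ULift.{u} (Fin d)) p a e).1
    exact ⟨hc ▸ hkpow i c, (coeff_pow_mvPowerSeries (ULift.{u} (Fin d)) p a e).2⟩
  have hpowS : ∀ i a, a ^ p ∈ S i := fun i a => (hS i _).2 fun e => by
    obtain ⟨c, hc⟩ := (coeff_pow_mvPolynomial t p a e).1
    exact ⟨hc ▸ hpow₁ i c, (coeff_pow_mvPolynomial t p a e).2⟩
  have hinterS : ∀ a, (∀ i, a ∈ S i) → ∃ y, y ^ p = a := fun a ha => by
    refine exists_pow_mvPolynomial t p a fun e => ⟨?_, fun he => ((hS (Classical.arbitrary ι) a).1 (ha _) e).2 he⟩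
    have hi : ∀ i, MvPolynomial.coeff e a ∈ S₁ i := fun i => ((hS i a).1 (ha i) e).1
    obtain ⟨y, hy⟩ := exists_pow_mvPowerSeries (ULift.{u} (Fin d)) p (MvPolynomial.coeff e a) fun e' => ⟨by
      obtain ⟨y, hy⟩ := hkinter _ fun i => ((hS₁ i _).1 (hi i) e').1
      exact ⟨y, hy.symm⟩, fun he' => ((hS₁ (Classical.arbitrary ι) _).1 (hi _) e').2 he'⟩
    exact ⟨y, hy.symm⟩
  obtain ⟨i, D, hleib, hDS, hDf⟩ := exists_derivation_field (L := FractionRing B)
    (K := FractionRing (MvPolynomial t (MvPowerSeries (ULift.{u} (Fin d)) k))) p S r hr hdirS hpowS hinterS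
    (algebraMap B (FractionRing B) f) hf
  -- bounded denominators
  have := hkfin i
  obtain ⟨G₁, hG₁⟩ := exists_span_mvPowerSeries (Fact.out : p.Prime).pos (kk i) (S₁ i) (hS₁ i)
  obtain ⟨b, hb⟩ := IsLocalization.exist_integer_multiples_of_finset (nonZeroDivisors B)
    ((G ∪ G₁.image (algebraMap _ B)).image fun y => D (algebraMap B (FractionRing B) y))
  have hsc : ∀ c ∈ S₁ i, D (algebraMap B (FractionRing B) (algebraMap _ B c)) = 0 := fun c hc => by
    rw [IsScalarTower.algebraMap_apply (MvPowerSeries (ULift.{u} (Fin d)) k) (MvPolynomial t (MvPowerSeries (ULift.{u} (Fin d)) k)) B,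
      ← IsScalarTower.algebraMap_apply]
    refine hDS _ ((hS i _).2 fun e => ?_)
    rw [MvPolynomial.algebraMap_eq, MvPolynomial.coeff_C]
    split_ifs with he
    · exact ⟨hc, fun h => absurd (he ▸ PDiv.zero p) h⟩
    · exact ⟨zero_mem _, fun _ => rfl⟩
  have hgood : ∀ y : B, ∃ z : B, algebraMap B (FractionRing B) z =
      algebraMap B (FractionRing B) b * D (algebraMap B (FractionRing B) y) := by
    have hgen : ∀ y ∈ G ∪ G₁.image (algebraMap _ B), ∃ z : B, algebraMap B (FractionRing B) z =
        algebraMap B (FractionRing B) b * D (algebraMap B (FractionRing B) y) := fun y hy => by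
      obtain ⟨z, hz⟩ := hb _ (Finset.mem_image_of_mem _ hy)
      exact ⟨z, hz.trans (Algebra.smul_def _ _)⟩
    intro y
    have hy : y ∈ Algebra.adjoin (MvPowerSeries (ULift.{u} (Fin d)) k) (G : Set B) := hG ▸ Algebra.mem_top
    induction hy using Algebra.adjoin_induction with
    | mem b' hb' => exact hgen b' (Finset.mem_union_left _ hb')
    | algebraMap r' =>
      induction hG₁ r' using Submodule.span_induction with
      | mem g hg => exact hgen _ (Finset.mem_union_right _ (Finset.mem_image_of_mem _ hg))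
      | zero => exact ⟨0, by simp⟩
      | add u v _ _ hu hv =>
        obtain ⟨z, hz⟩ := hu
        obtain ⟨w, hw⟩ := hv
        exact ⟨z + w, by rw [map_add, map_add, map_add, map_add, mul_add, hz, hw]⟩
      | smul c u _ hu =>
        obtain ⟨z, hz⟩ := hu
        refine ⟨algebraMap _ B (c : MvPowerSeries (ULift.{u} (Fin d)) k) * z, ?_⟩
        rw [Subring.smul_def, smul_eq_mul, map_mul, map_mul, map_mul, hleib, hsc _ c.2, mul_zero, add_zero, hz]
        ring
    | add u v _ _ hu hv =>
      obtain ⟨z, hz⟩ := hu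
      obtain ⟨w, hw⟩ := hv
      exact ⟨z + w, by rw [map_add, map_add, map_add, mul_add, hz, hw]⟩
    | mul u v _ _ hu hv =>
      obtain ⟨z, hz⟩ := hu
      obtain ⟨w, hw⟩ := hv
      refine ⟨u * w + v * z, ?_⟩
      rw [map_mul, hleib, map_add, map_mul, map_mul, hz, hw]
      ring
  choose E hE using hgood
  have hinj := IsFractionRing.injective B (FractionRing B)
  refine ⟨Derivation.mk' (AddMonoidHom.mk' E fun u v => hinj (by
      rw [map_add, hE, hE, hE, map_add, map_add, mul_add])).toIntLinearMap (fun u v => hinj ?_), fun h0 => hDf ?_⟩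
  · show algebraMap B (FractionRing B) (E (u * v)) = algebraMap B (FractionRing B) (u • E v + v • E u)
    rw [hE, map_mul, hleib, map_add, smul_eq_mul, smul_eq_mul, map_mul, map_mul, hE, hE]
    ring
  · have h1 : algebraMap B (FractionRing B) (E f) = 0 := by
      rw [show E f = 0 from h0, map_zero]
    rw [hE] at h1
    exact (mul_eq_zero.1 h1).resolve_left (IsFractionRing.to_map_ne_zero_of_mem_nonZeroDivisors b.2)

/-- Let `p` be a prime and `B` a domain of characteristic `p`, finitely generated as an algebra over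
some complete Noetherian local ring. If `f ∈ B` has no `p`-th root in the fraction field of `B`,
then some derivation `D : B → B` has `D(f) ≠ 0`. -/
theorem result {R B : Type u} [CommRing R] [IsLocalRing R]
    [IsNoetherianRing R] [IsAdicComplete (IsLocalRing.maximalIdeal R) R] [CommRing B] [IsDomain B]
    [Algebra R B] [Algebra.FiniteType R B] (p : ℕ) [Fact p.Prime] [CharP B p] (f : B)
    (hf : ∀ x : FractionRing B, x ^ p ≠ algebraMap B (FractionRing B) f) :
    ∃ D : Derivation ℤ B B, D f ≠ 0 := by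
  classical
  have : (RingHom.ker (algebraMap R B)).IsPrime := RingHom.ker_isPrime _
  obtain ⟨P, hP⟩ : ∃ P : Ideal R, P = RingHom.ker (algebraMap R B) := ⟨_, rfl⟩
  have : P.IsPrime := hP ▸ RingHom.ker_isPrime _
  have : IsLocalRing (R ⧸ P) := IsLocalRing.of_surjective' (Ideal.Quotient.mk P) Ideal.Quotient.mk_surjective
  have : IsAdicComplete (IsLocalRing.maximalIdeal (R ⧸ P)) (R ⧸ P) :=
    GrothLib.AdicExtra.isAdicComplete_localRing (R := R)
  obtain ⟨g, hg, hgs⟩ : ∃ g : R ⧸ P →+* B, Function.Injective g ∧ ∀ r, g (Ideal.Quotient.mk P r) = algebraMap R B r :=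
    ⟨Ideal.Quotient.lift P (algebraMap R B) (fun a ha => by rwa [hP, RingHom.mem_ker] at ha),
      RingHom.lift_injective_of_ker_le_ideal P _ hP.ge, fun r => rfl⟩
  have : CharP (R ⧸ P) p := (g.charP_iff hg p).2 inferInstance
  obtain ⟨Λ, iΛ, n, φ, hΛ, hφi, hφf, -⟩ := GrothLib.CohenFinite.exists_finite_injective (R ⧸ P)
  have : CharP (MvPowerSeries (Fin n) Λ) p := (φ.charP_iff hφi p).2 inferInstance
  have : CharP Λ p := ((MvPowerSeries.C : Λ →+* MvPowerSeries (Fin n) Λ).charP_iff
    (fun a b h => by simpa using congrArg MvPowerSeries.constantCoeff h) p).2 inferInstance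
  have hfield : IsField Λ := by
    rcases hΛ with hΛ | ⟨hdom, hdvr, -, q, hq, hqm⟩
    · exact hΛ
    · exfalso
      rcases eq_or_ne q p with rfl | hne
      · rw [CharP.cast_eq_zero, Ideal.span_singleton_eq_bot.2 rfl] at hqm
        exact IsDiscreteValuationRing.not_a_field Λ hqm
      · have hu : IsUnit (q : Λ) := by
          obtain ⟨a, b, hab⟩ := (Int.isCoprime_iff_gcd_eq_one).2
            (show Int.gcd (q : ℤ) (p : ℤ) = 1 from (Nat.coprime_primes hq (Fact.out : p.Prime)).2 hne)
          have h1 := congrArg (Int.cast : ℤ → Λ) hab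
          push_cast at h1
          rw [CharP.cast_eq_zero Λ p, mul_zero, add_zero] at h1
          exact IsUnit.of_mul_eq_one (a : Λ) (by rw [mul_comm]; exact h1)
        exact (IsLocalRing.maximalIdeal.isMaximal Λ).ne_top (hqm ▸ Ideal.span_singleton_eq_top.2 hu)
  letI : Field Λ := hfield.toField
  obtain ⟨e, -⟩ : ∃ e : MvPowerSeries (ULift.{u} (Fin n)) Λ ≃+* MvPowerSeries (Fin n) Λ, True :=
    ⟨(MvPowerSeries.renameEquiv Λ Equiv.ulift).toRingEquiv, trivial⟩
  letI : Algebra (MvPowerSeries (ULift.{u} (Fin n)) Λ) B := ((g.comp φ).comp e.toRingHom).toAlgebra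
  have : FaithfulSMul (MvPowerSeries (ULift.{u} (Fin n)) Λ) B :=
    (faithfulSMul_iff_algebraMap_injective _ _).2 ((hg.comp hφi).comp e.injective)
  have : Algebra.FiniteType (MvPowerSeries (ULift.{u} (Fin n)) Λ) B := by
    have h1 : (g.comp φ).FiniteType := by
      refine RingHom.FiniteType.comp ?_ hφf.finiteType
      refine RingHom.FiniteType.of_comp_finiteType (f := Ideal.Quotient.mk P) ?_
      rw [show g.comp (Ideal.Quotient.mk P) = algebraMap R B from RingHom.ext hgs, RingHom.finiteType_algebraMap]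
      infer_instance
    exact h1.comp (RingHom.Finite.of_surjective e.toRingHom e.surjective).finiteType
  exact core (k := Λ) (d := n) p f hf

end Groth.Agent.S2048
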