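import Groth.Statements.S2050
import Mathlib
import Groth.Agent.Lib.NagataFP.Global
-- import your own Groth.Agent.* helpers here

set_option autoImplicit false
universe u
open CAlg

namespace Groth.Agent.S2050

/-- Let `S = R[x_1, …, x_n]` and `M` a finite `S`-module, flat over `R`, such that for every prime `𝔭`
of `R` the localization `M_𝔭` is finitely presented over `S_𝔭`. If `R` embeds into the product of
finitely many of its local rings, then `M` is finitely presented over `S`. -/
theorem result {R : Type u} [CommRing R] (n : ℕ)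
    {M : Type u} [AddCommGroup M] [Module (MvPolynomial (Fin n) R) M] [Module R M]
    [IsScalarTower R (MvPolynomial (Fin n) R) M] [Module.Finite (MvPolynomial (Fin n) R) M] [Module.Flat R M]
    (s : Finset (PrimeSpectrum R))
    (hs : Function.Injective fun r : R => fun p : s => algebraMap R (Localization.AtPrime p.1.asIdeal) r)
    (hloc : ∀ (p : Ideal R) [p.IsPrime],
      Module.FinitePresentation
        (Localization (Algebra.algebraMapSubmonoid (MvPolynomial (Fin n) R) p.primeCompl))
        (LocalizedModule (Algebra.algebraMapSubmonoid (MvPolynomial (Fin n) R) p.primeCompl) M)) :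
    Module.FinitePresentation (MvPolynomial (Fin n) R) M := by
  classical
  let P := MvPolynomial (Fin n) R
  obtain ⟨r, π, hπ⟩ := Module.Finite.exists_fin' P M
  refine Module.finitePresentation_of_surjective π hπ
    (GrothLib.NagataFP.fg_ker_of_local π hπ s hs fun p hp => ?_)
  let T : Submonoid P := Algebra.algebraMapSubmonoid P p.primeCompl
  let St := Localization T
  let fF := LocalizedModule.mkLinearMap T (Fin r → P)
  let fM := LocalizedModule.mkLinearMap T M
  let Ψ := (IsLocalizedModule.map T fF fM π).extendScalarsOfIsLocalization T St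
  haveI : Module.FinitePresentation St (LocalizedModule T M) := hloc p
  haveI : Module.Finite St (LocalizedModule T (Fin r → P)) :=
    Module.Finite.of_isLocalizedModule T fF
  have hsurj : Function.Surjective Ψ := IsLocalizedModule.map_surjective T fF fM π hπ
  obtain ⟨G, hG⟩ := Module.FinitePresentation.fg_ker Ψ hsurj
  have hnum : ∀ g : G, ∃ (k : Fin r → P), k ∈ LinearMap.ker π ∧ ∃ t : T, (t : P) • (g : LocalizedModule T (Fin r → P)) = fF k := by
    intro g
    obtain ⟨⟨w, t⟩, hw⟩ := IsLocalizedModule.surj T fF g.1
    have hg : Ψ g.1 = 0 := LinearMap.mem_ker.1 (hG ▸ Submodule.subset_span g.2)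
    have h0 : fM (π w) = fM 0 := by
      rw [map_zero, ← IsLocalizedModule.map_apply T fF fM π w,
        show fF w = (t : P) • g.1 from hw.symm, map_smul,
        show IsLocalizedModule.map T fF fM π g.1 = 0 from hg, smul_zero]
    obtain ⟨t', ht'⟩ := IsLocalizedModule.exists_of_eq (S := T) h0
    refine ⟨(t' : P) • w, ?_, t' * t, ?_⟩
    · rw [LinearMap.mem_ker, map_smul]
      exact ht'.trans (smul_zero _)
    · rw [Submonoid.coe_mul, mul_smul, map_smul]
      exact congrArg ((t' : P) • ·) hw
  choose k hk t ht using hnum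
  refine ⟨Submodule.span P (Set.range k), ⟨Finset.univ.image k, by rw [Finset.coe_image, Finset.coe_univ, Set.image_univ]⟩,
    Submodule.span_le.2 (Set.range_subset_iff.2 hk), fun x hx => ?_⟩
  have hmem : fF x ∈ (Submodule.span P (Set.range k)).localized' St T fF := by
    have hx' : fF x ∈ LinearMap.ker Ψ := by
      rw [LinearMap.mem_ker]
      show IsLocalizedModule.map T fF fM π (fF x) = 0
      rw [IsLocalizedModule.map_apply, LinearMap.mem_ker.1 hx, map_zero]
    refine (?_ : LinearMap.ker Ψ ≤ _) hx'
    rw [← hG, Submodule.span_le]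
    intro g hg
    refine ⟨k ⟨g, hg⟩, Submodule.subset_span ⟨_, rfl⟩, t ⟨g, hg⟩, ?_⟩
    rw [IsLocalizedModule.mk'_eq_iff]
    exact (ht ⟨g, hg⟩).symm
  obtain ⟨m, hm, v, hv⟩ := hmem
  rw [IsLocalizedModule.mk'_eq_iff, Submonoid.smul_def, ← map_smul] at hv
  obtain ⟨w, hw⟩ := IsLocalizedModule.exists_of_eq (S := T) hv
  obtain ⟨u, hu, huw⟩ := (w * v).2
  refine ⟨u, hu, ?_⟩
  rw [show algebraMap R P u = (((w * v : T)) : P) from huw, Submonoid.coe_mul, mul_smul]
  exact (show (w : P) • ((v : P) • x) = (w : P) • m from hw.symm) ▸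
    Submodule.smul_mem _ _ hm

end Groth.Agent.S2050
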