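import Groth.Statements.S2052
import Groth.Agent.Lib.Hensel.Unibranch

set_option autoImplicit false
set_option backward.isDefEq.respectTransparency false
universe u
open CAlg

namespace Groth.Agent.S2052

/-- A local ring `A` is unibranch (its reduction is a domain with local integral closure) if and only if
the henselization of `A` has a unique minimal prime ideal. -/
theorem result {A Ah : Type u} [CommRing A] [IsLocalRing A]
    [CommRing Ah] [IsLocalRing Ah] [Algebra A Ah] [IsLocalHom (algebraMap A Ah)]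
    [Hensel.IsHenselization A Ah] :
    CAlg2.IsUnibranch A ↔ CAlgX.HasUniqueMinimalPrime Ah := by
  rw [← GrothLib.Hensel.numBranches_eq_one_iff, ← GrothLib.Hensel.IsHenselization.card_minimalPrimes (A := A) (S := Ah),
    GrothLib.Hensel.card_eq_one_iff, CAlgX.HasUniqueMinimalPrime]
  exact ⟨fun ⟨h, ⟨p⟩⟩ ↦ ⟨p.1, p.2, fun q hq ↦ congrArg Subtype.val (h.elim ⟨q, hq⟩ p)⟩,
    fun ⟨p, hp, hu⟩ ↦ ⟨⟨fun a b ↦ Subtype.ext ((hu a.1 a.2).trans (hu b.1 b.2).symm)⟩, ⟨⟨p, hp⟩⟩⟩⟩

end Groth.Agent.S2052
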