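import Groth.Statements.S2053
import Groth.Agent.Lib.CIPres.Factor
-- import your own Groth.Agent.* helpers here

set_option autoImplicit false
universe u
open CAlg

open IsLocalRing

set_option maxHeartbeats 800000

namespace Groth.Agent.S2053

/-- Consider a local homomorphism `A → B` between complete Noetherian local rings. Then there are power
series rings `R`, `S` in finitely many variables over coefficient rings which are both fields (when
the residue characteristic of `A` is zero) or both Cohen rings (when it is positive), surjections `R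
→ A`, `S → B` and a ring map `R → S` making the square commute, such that `R → S` is flat and `S/𝔪_R
S` is a regular ring. (The published statement also arranges that a regular system of parameters
maps into one; that is not asserted here.) -/
theorem result {A B : Type u} [CommRing A] [CommRing B]
    [IsLocalRing A] [IsLocalRing B] [IsNoetherianRing A] [IsNoetherianRing B]
    [IsAdicComplete (IsLocalRing.maximalIdeal A) A] [IsAdicComplete (IsLocalRing.maximalIdeal B) B]
    [Algebra A B] [IsLocalHom (algebraMap A B)] :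
    ∃ (Λ Λ' : Type u) (_ : CommRing Λ) (_ : CommRing Λ') (_ : IsLocalRing Λ) (n m : ℕ)
      (ρ : MvPowerSeries (Fin n) Λ →+* A) (σ : MvPowerSeries (Fin m) Λ' →+* B)
      (τ : MvPowerSeries (Fin n) Λ →+* MvPowerSeries (Fin m) Λ'),
      ((CharZero (IsLocalRing.ResidueField A) ∧ IsField Λ ∧ IsField Λ') ∨
        (¬ CharZero (IsLocalRing.ResidueField A) ∧ CAlg.IsCohenRing Λ ∧ CAlg.IsCohenRing Λ')) ∧
        Function.Surjective ρ ∧ Function.Surjective σ ∧ σ.comp τ = (algebraMap A B).comp ρ ∧
        τ.Flat ∧ IsRegularRing (MvPowerSeries (Fin m) Λ' ⧸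
          (IsLocalRing.maximalIdeal (MvPowerSeries (Fin n) Λ)).map τ) := by
  obtain ⟨q, hq⟩ := CharP.exists (ResidueField A)
  haveI : CharP (ResidueField B) q :=
    charP_of_injective_ringHom (IsLocalRing.ResidueField.map (algebraMap A B)).injective q
  obtain ⟨W, _, _, g, ⟨hWc, hWcompl, hWnoeth, a, t, rfl, ha, hmW, hregW⟩, hgloc, hg⟩ := GrothLib.CIPres.exists_coeff A q
  obtain ⟨W', _, _, g', ⟨hWc', hWcompl', hWnoeth', a', t', rfl, ha', hmW', hregW'⟩, hgloc', hg'⟩ := GrothLib.CIPres.exists_coeff B q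
  obtain rfl : a' = a := ha'.trans ha.symm
  obtain ⟨n, xA, hxA⟩ : ∃ (n : ℕ) (x : Fin n → A), Ideal.span (Set.range x) = maximalIdeal A :=
    Submodule.fg_iff_exists_fin_generating_family.mp (maximalIdeal A).fg_of_isNoetherianRing
  obtain ⟨k, xB, hxB⟩ : ∃ (k : ℕ) (x : Fin k → B), Ideal.span (Set.range x) = maximalIdeal B :=
    Submodule.fg_iff_exists_fin_generating_family.mp (maximalIdeal B).fg_of_isNoetherianRing
  have hAB : ∀ i, algebraMap A B (xA i) ∈ maximalIdeal B := fun i =>
    ((local_hom_TFAE (algebraMap A B)).out 0 2 rfl rfl).mp inferInstance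
      (Ideal.mem_map_of_mem _ (hxA ▸ Ideal.subset_span ⟨i, rfl⟩))
  let b : Fin (n + k) → B := Fin.append (fun i => algebraMap A B (xA i)) xB
  have hb : Ideal.span (Set.range b) = maximalIdeal B := by
    refine le_antisymm (Ideal.span_le.mpr ?_) ?_
    · rintro _ ⟨i, rfl⟩
      refine Fin.addCases (fun i => ?_) (fun l => ?_) i
      · rw [show b (Fin.castAdd k i) = _ from Fin.append_left _ _ _]
        exact hAB i
      · rw [show b (Fin.natAdd n l) = _ from Fin.append_right _ _ _]
        exact hxB ▸ Ideal.subset_span ⟨l, rfl⟩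
    · rw [← hxB]
      exact Ideal.span_mono (by rintro _ ⟨l, rfl⟩; exact ⟨Fin.natAdd n l, Fin.append_right _ _ _⟩)
  let R := MvPowerSeries (Fin n) W
  let S := MvPowerSeries (Fin (n + k)) W'
  obtain ⟨hRreg, hRdim⟩ := hregW n
  obtain ⟨hSreg, hSdim⟩ := hregW' (n + k)
  haveI : IsAdicComplete (maximalIdeal R) R := GrothLib.HLVT.isAdicComplete_powerSeries W n
  haveI : IsAdicComplete (maximalIdeal S) S := GrothLib.HLVT.isAdicComplete_powerSeries W' (n + k)
  obtain ⟨φ, hφs, hφC, hφX⟩ := GrothLib.CIPres.exists_surjective_ext g hg xA hxA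
  obtain ⟨ψ, hψs, hψC, hψX⟩ := GrothLib.CIPres.exists_surjective_ext g' hg' b hb
  let eψ : S ⧸ RingHom.ker ψ ≃+* B := RingHom.quotientKerEquivOfSurjective hψs
  haveI : Nontrivial (S ⧸ RingHom.ker ψ) := eψ.toEquiv.nontrivial
  haveI : IsLocalRing (S ⧸ RingHom.ker ψ) := IsLocalRing.of_surjective' _ Ideal.Quotient.mk_surjective
  let u : W →+* S ⧸ RingHom.ker ψ := eψ.symm.toRingHom.comp ((algebraMap A B).comp g)
  haveI : IsLocalHom u := ⟨fun w hw => hgloc.map_nonunit w
    (isUnit_of_map_unit (algebraMap A B) _ ((isUnit_map_iff eψ.symm _).mp hw))⟩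
  obtain ⟨v, -, hv⟩ := Groth.Agent.S2456.result hWc (RingHom.ker ψ) (RingHom.ker_ne_top ψ) u
  have hψv : ∀ w, ψ (v w) = algebraMap A B (g w) := fun w => by
    have := congrArg eψ (RingHom.congr_fun hv w)
    simpa [u, eψ] using this
  letI : Algebra W S := v.toAlgebra
  obtain ⟨θ, hθ⟩ := GrothLib.RegLoc.PS.exists_algHom (A := W) (maximalIdeal S)
    (fun i : Fin n => (MvPowerSeries.X (Fin.castAdd k i) : S)) (fun i => by
      rw [IsLocalRing.mem_maximalIdeal, mem_nonunits_iff, MvPowerSeries.isUnit_iff_constantCoeff]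
      simp)
  letI : Algebra R S := θ.toRingHom.toAlgebra
  have hθC : ∀ w, algebraMap R S (MvPowerSeries.C w) = v w := fun w => θ.commutes w
  have hy : (fun i => algebraMap R S (Fin.append (MvPowerSeries.X : Fin n → R)
      (fun _ : Fin a' => MvPowerSeries.C (q : W)) i)) =
      Fin.append (fun i => (MvPowerSeries.X (Fin.castAdd k i) : S)) (fun _ => MvPowerSeries.C (q : W')) := by
    funext i
    refine Fin.addCases (fun i => ?_) (fun j => ?_) i
    · rw [Fin.append_left, Fin.append_left]
      exact hθ i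
    · rw [Fin.append_right, Fin.append_right, hθC, map_natCast, map_natCast]
  have hmR := GrothLib.CIPres.maximalIdeal_powerSeries (d := n) _ hmW
  have hmS : Ideal.span (Set.range (Fin.append (fun i => algebraMap R S
      (Fin.append (MvPowerSeries.X : Fin n → R) (fun _ : Fin a' => MvPowerSeries.C (q : W)) i))
      (fun l : Fin k => (MvPowerSeries.X (Fin.natAdd n l) : S)))) = maximalIdeal S := by
    rw [← GrothLib.CIPres.maximalIdeal_powerSeries (d := n + k) _ hmW', hy]
    congr 1
    ext z
    constructor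
    · rintro ⟨i, rfl⟩
      refine Fin.addCases (fun i => ?_) (fun l => ?_) i
      · rw [Fin.append_left]
        refine Fin.addCases (fun i => ?_) (fun j => ?_) i
        · exact ⟨Fin.castAdd a' (Fin.castAdd k i), by simp⟩
        · exact ⟨Fin.natAdd (n + k) j, by simp⟩
      · exact ⟨Fin.castAdd a' (Fin.natAdd n l), by simp⟩
    · rintro ⟨i, rfl⟩
      refine Fin.addCases (fun i => ?_) (fun j => ?_) i
      · refine Fin.addCases (fun i => ?_) (fun l => ?_) i
        · exact ⟨Fin.castAdd k (Fin.castAdd a' i), by simp⟩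
        · exact ⟨Fin.natAdd (n + a') l, by simp⟩
      · exact ⟨Fin.castAdd k (Fin.natAdd n j), by simp⟩
  obtain ⟨hloc, hflat, hfib⟩ := GrothLib.CIPres.flat_and_regular_fibre _ _ hmR hRdim hmS (by rw [hSdim]; omega)
  have hcase : ∀ (W : Type u) [CommRing W] [IsLocalRing W], EGA41.IsCohenRingEGA W →
      Ideal.span (Set.range fun _ : Fin a' => (q : W)) = maximalIdeal W →
      (q = 0 → IsField W) ∧ (q ≠ 0 → CAlg.IsCohenRing W) := by
    intro W _ _ hWc hm
    refine ⟨fun h0 => ?_, fun h0 => hWc.resolve_left fun hF => ?_⟩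
    · rw [IsLocalRing.isField_iff_maximalIdeal_eq, ← hm, if_pos h0] at *
      subst ha
      simp
    · haveI := hF.2
      have : (q : W) ∈ maximalIdeal W := hm ▸ Ideal.subset_span ⟨⟨0, by rw [ha, if_neg h0]; omega⟩, rfl⟩
      rw [(IsLocalRing.isField_iff_maximalIdeal_eq).1 hF.1, Ideal.mem_bot] at this
      exact h0 (by exact_mod_cast this)
  haveI := hfib
  refine ⟨W, W', inferInstance, inferInstance, inferInstance, n, n + k, φ, ψ, θ.toRingHom, ?_, hφs, hψs,
    GrothLib.CIPres.psHom_ext _ _ (fun i => ?_) (RingHom.ext fun w => ?_) fun i => ?_, hflat,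
    GrothLib.Serre.isRegularRing_of_isRegularLocalRing _⟩
  · by_cases h0 : q = 0
    · subst h0
      haveI := hq
      exact Or.inl ⟨by exact @CharP.charP_to_charZero _ _ hq, (hcase W hWc hmW).1 rfl, (hcase W' hWc' hmW').1 rfl⟩
    · refine Or.inr ⟨fun hc => h0 ?_, (hcase W hWc hmW).2 h0, (hcase W' hWc' hmW').2 h0⟩
      haveI := hc
      exact CharP.eq (ResidueField A) hq (CharP.ofCharZero _)
  · rw [RingHom.comp_apply, show θ.toRingHom (MvPowerSeries.X i) = _ from hθ i, hψX,
      show b (Fin.castAdd k i) = _ from Fin.append_left _ _ _]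
    exact hAB i
  · have hθC' : ∀ w, θ.toRingHom (MvPowerSeries.C w) = v w := hθC
    simp only [RingHom.comp_apply, hθC', hψv, ← hφC]
  · rw [RingHom.comp_apply, RingHom.comp_apply, show θ.toRingHom (MvPowerSeries.X i) = _ from hθ i, hψX, hφX]
    exact Fin.append_left _ _ _

end Groth.Agent.S2053
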