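import Groth.Statements.S2055
import Groth.Agent.Lib.Glue.IdealTorsion
import Mathlib.LinearAlgebra.TensorProduct.Pi

set_option autoImplicit false
universe u
open CAlg

namespace Groth.Agent.S2055

open TensorProduct in
theorem exists_torsion_preimage {R S N : Type u} [CommRing R] [CommRing S] [Algebra R S]
    [Module.Flat R S] [AddCommGroup N] [Module R N] {I : Ideal R} (hI : I.FG)
    (hq : Function.Bijective
      (Ideal.quotientMap (I.map (algebraMap R S)) (algebraMap R S) Ideal.le_comap_map))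
    (n : ℕ) (y : S ⊗[R] N) (hy : ∀ a ∈ I ^ n, a • y = 0) :
    ∃ v : N, (1 : S) ⊗ₜ[R] v = y ∧ ∀ a ∈ I ^ n, a • v = 0 := by
  classical
  obtain ⟨G, hG⟩ := hI.pow (n := n)
  let Φ : N →ₗ[R] (G → N) := LinearMap.pi fun g => (g : R) • LinearMap.id
  have hker : ∀ v : N, v ∈ LinearMap.ker Φ → ∀ a ∈ I ^ n, a • v = 0 := by
    intro v hv a ha
    rw [← hG] at ha
    induction ha using Submodule.span_induction with
    | zero => simp
    | add a b _ _ ha hb => rw [add_smul, ha, hb, add_zero]
    | smul c a _ ha => rw [smul_eq_mul, mul_smul, ha, smul_zero]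
    | mem a ha => exact congrFun (LinearMap.mem_ker.1 hv) ⟨a, ha⟩
  have hex := Module.Flat.lTensor_exact (M := S) (LinearMap.exact_subtype_ker_map Φ)
  have h0 : Φ.lTensor S y = 0 := by
    apply (TensorProduct.piRight R R S (fun _ : G => N)).injective
    rw [map_zero]
    funext g
    have key : ∀ z : S ⊗[R] N,
        TensorProduct.piRight R R S (fun _ : G => N) (Φ.lTensor S z) g = (g : R) • z := by
      intro z
      induction z with
      | zero => simp
      | tmul s v => simp [Φ, TensorProduct.tmul_smul]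
      | add a b ha hb => simp only [map_add, Pi.add_apply, ha, hb, smul_add]
    rw [key, Pi.zero_apply]
    exact hy g (hG ▸ Submodule.subset_span g.2)
  obtain ⟨z, rfl⟩ := (hex y).1 h0
  obtain ⟨v, rfl⟩ := Groth.Agent.Glue.surjective_one_tmul_of_pow_smul hq
    (fun m : LinearMap.ker Φ => ⟨n, fun a ha => Subtype.ext (hker m m.2 a ha)⟩) z
  exact ⟨v, by simp, hker v v.2⟩



open TensorProduct in
/-- Let `R → S` be flat and `I ⊆ R` a finitely generated ideal with `R/I → S/IS` bijective. If one of
the `R`-modules `M`, `N` has every element killed by a power of `I`, then base change of linear maps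
`Hom_R(M, N) → Hom_S(S ⊗ M, S ⊗ N)` is bijective. -/
theorem result {R S M N : Type u} [CommRing R] [CommRing S]
    [Algebra R S] [Module.Flat R S] (I : Ideal R) (hI : I.FG)
    (hq : Function.Bijective (algebraMap (R ⧸ I) (S ⧸ I.map (algebraMap R S))))
    [AddCommGroup M] [Module R M] [AddCommGroup N] [Module R N]
    (hMN : (∀ x : M, ∃ n : ℕ, ∀ a ∈ I ^ n, a • x = 0) ∨ (∀ y : N, ∃ n : ℕ, ∀ a ∈ I ^ n, a • y = 0)) :
    Function.Bijective (fun f : M →ₗ[R] N => LinearMap.baseChange S f) := by
  have hq' : Function.Bijective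
      (Ideal.quotientMap (I.map (algebraMap R S)) (algebraMap R S) Ideal.le_comap_map) := hq
  have hchar : ∀ (f : M →ₗ[R] N) (m : M),
      f.baseChange S ((1 : S) ⊗ₜ[R] m) = (1 : S) ⊗ₜ[R] f m := fun f m => rfl
  have htor : ∀ {a : R} (f : M →ₗ[R] N) {m : M}, a • m = 0 → a • f m = 0 := fun f m h => by
    rw [← map_smul, h, map_zero]
  constructor
  · intro f g hfg
    ext m
    obtain ⟨n, hn⟩ : ∃ n : ℕ, ∀ a ∈ I ^ n, a • (f m - g m) = 0 := by
      rcases hMN with h | h
      · obtain ⟨n, hn⟩ := h m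
        exact ⟨n, fun a ha => by rw [smul_sub, htor f (hn a ha), htor g (hn a ha), sub_zero]⟩
      · exact h _
    refine sub_eq_zero.1 (Groth.Agent.Glue.eq_zero_of_pow_smul_eq_zero hq' hn ?_)
    have h : f.baseChange S = g.baseChange S := hfg
    rw [tmul_sub, ← hchar, ← hchar, h, sub_self]
  · intro G
    have hex : ∀ m : M, ∃ v : N, (1 : S) ⊗ₜ[R] v = G ((1 : S) ⊗ₜ[R] m) ∧
        ∃ n : ℕ, ∀ a ∈ I ^ n, a • v = 0 := by
      intro m
      rcases hMN with h | h
      · obtain ⟨n, hn⟩ := h m
        obtain ⟨v, hv, hv'⟩ := exists_torsion_preimage hI hq' n (G ((1 : S) ⊗ₜ[R] m))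
          (fun a ha => by
            rw [← LinearMap.map_smul_of_tower, ← tmul_smul, hn a ha, tmul_zero, map_zero])
        exact ⟨v, hv, n, hv'⟩
      · obtain ⟨v, hv⟩ := Groth.Agent.Glue.surjective_one_tmul_of_pow_smul hq' h
          (G ((1 : S) ⊗ₜ[R] m))
        exact ⟨v, hv, h v⟩
    choose f hf k hk using hex
    have huniq : ∀ (v : N) (m : M) (n : ℕ), (∀ a ∈ I ^ n, a • v = 0) →
        (1 : S) ⊗ₜ[R] v = G ((1 : S) ⊗ₜ[R] m) → v = f m := by
      intro v m n hn h
      refine sub_eq_zero.1 (Groth.Agent.Glue.eq_zero_of_pow_smul_eq_zero hq' (n := n + k m)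
        (fun a ha => ?_) (by rw [tmul_sub, h, hf, sub_self]))
      rw [smul_sub, hn a (Ideal.pow_le_pow_right (Nat.le_add_right _ _) ha),
        hk m a (Ideal.pow_le_pow_right (Nat.le_add_left _ _) ha), sub_zero]
    let f' : M →ₗ[R] N :=
      { toFun := f
        map_add' := fun x y => (huniq (f x + f y) (x + y) (k x + k y)
          (fun a ha => by
            rw [smul_add, hk x a (Ideal.pow_le_pow_right (Nat.le_add_right _ _) ha),
              hk y a (Ideal.pow_le_pow_right (Nat.le_add_left _ _) ha), add_zero])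
          (by rw [tmul_add, hf, hf, tmul_add, map_add])).symm
        map_smul' := fun c x => (huniq (c • f x) (c • x) (k x)
          (fun a ha => by rw [smul_comm, hk x a ha, smul_zero])
          (by rw [tmul_smul, hf, tmul_smul, LinearMap.map_smul_of_tower])).symm }
    refine ⟨f', ?_⟩
    ext m
    show (1 : S) ⊗ₜ[R] f m = G ((1 : S) ⊗ₜ[R] m)
    exact hf m

end Groth.Agent.S2055
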