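import Groth.Statements.S2058
import Groth.Agent.Lib.Depth.Basic
-- import your own Groth.Agent.* helpers here

set_option autoImplicit false
universe u
open CAlg

namespace Groth.Agent.S2058

theorem le_depth_two {R : Type u} [CommRing R] [IsLocalRing R] [IsNoetherianRing R] {x y : R}
    (hx : x ∈ IsLocalRing.maximalIdeal R) (hy : y ∈ IsLocalRing.maximalIdeal R)
    (hrx : IsSMulRegular R x) (hry : ∀ b : R, x ∣ y * b → x ∣ b) : (2 : ℕ∞) ≤ LocCoh.depth R R := by
  have htop : IsLocalRing.maximalIdeal R • (⊤ : Submodule R R) ≠ ⊤ := by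
    rw [smul_eq_mul, Ideal.mul_top]
    exact (IsLocalRing.maximalIdeal.isMaximal R).ne_top
  refine (GrothLib.Depth.le_idealDepth_iff_exists _ htop 2).2 ⟨[x, y], rfl, fun r hr => by rcases List.mem_pair.1 hr with rfl | rfl <;> assumption, ?_⟩
  rw [RingTheory.Sequence.isWeaklyRegular_cons_iff, RingTheory.Sequence.isWeaklyRegular_singleton_iff]
  refine ⟨hrx, isSMulRegular_iff_right_eq_zero_of_smul.2 ?_⟩
  intro v hv
  obtain ⟨v, rfl⟩ := Submodule.Quotient.mk_surjective _ v
  rw [← Submodule.Quotient.mk_smul, Submodule.Quotient.mk_eq_zero, Submodule.mem_smul_pointwise_iff_exists] at hv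
  obtain ⟨c, -, hc⟩ := hv
  obtain ⟨d, hd⟩ := hry v ⟨c, hc.symm⟩
  rw [Submodule.Quotient.mk_eq_zero, Submodule.mem_smul_pointwise_iff_exists]
  exact ⟨d, trivial, hd.symm⟩

/-- Let R be a Noetherian local ring which is not Artinian, is not a regular local ring of dimension
one, and has depth at most one. Then there is a finite ring map R → R' with R' ≠ 0, not bijective,
whose kernel and cokernel are killed by a power of the maximal ideal of R, such that the maximal
ideal of R is not an associated prime of the R-module R'. (This says that the four cases for a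
Noetherian local ring — Artinian, regular of dimension one, depth at least two, or admitting such a
map — cover everything; that they are mutually exclusive is not asserted.) -/
theorem result {R : Type u} [CommRing R] [IsLocalRing R] [IsNoetherianRing R]
    (h1 : ¬ IsArtinianRing R) (h2 : ¬ (IsRegularLocalRing R ∧ ringKrullDim R = 1))
    (h3 : LocCoh.depth R R ≤ 1) :
    ∃ (R' : Type u) (_ : CommRing R') (_ : Algebra R R'), Nontrivial R' ∧ Module.Finite R R' ∧
      ¬ Function.Bijective (algebraMap R R') ∧
      (∃ n : ℕ, (∀ x : R, algebraMap R R' x = 0 → ∀ a ∈ IsLocalRing.maximalIdeal R ^ n, a * x = 0) ∧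
        (∀ y : R', ∀ a ∈ IsLocalRing.maximalIdeal R ^ n, a • y ∈ Set.range (algebraMap R R'))) ∧
      IsLocalRing.maximalIdeal R ∉ associatedPrimes R R' := by
  classical
  set m := IsLocalRing.maximalIdeal R with hm
  by_cases hass : m ∈ associatedPrimes R R
  · let J : Ideal R :=
      { carrier := {x | ∃ n, ∀ a ∈ m ^ n, a * x = 0}
        zero_mem' := ⟨0, fun a _ => mul_zero a⟩
        add_mem' := by
          rintro x y ⟨n, hn⟩ ⟨k, hk⟩
          exact ⟨n + k, fun a ha => by
            rw [mul_add, hn a (Ideal.pow_le_pow_right (Nat.le_add_right n k) ha),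
              hk a (Ideal.pow_le_pow_right (Nat.le_add_left k n) ha), add_zero]⟩
        smul_mem' := by
          rintro c x ⟨n, hn⟩
          exact ⟨n, fun a ha => by rw [smul_eq_mul, mul_left_comm, hn a ha, mul_zero]⟩ }
    obtain ⟨s, hs⟩ := IsNoetherian.noetherian J
    choose k hk using fun x : s => (show (x : R) ∈ J from hs ▸ Submodule.subset_span x.2)
    let n := Finset.univ.sup k
    have hn : ∀ x ∈ J, ∀ a ∈ m ^ n, a * x = 0 := by
      intro x hx a ha
      rw [← hs] at hx
      induction hx using Submodule.span_induction with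
      | mem x hx => exact hk ⟨x, hx⟩ a (Ideal.pow_le_pow_right (Finset.le_sup (Finset.mem_univ _)) ha)
      | zero => exact mul_zero a
      | add x y _ _ h h' => rw [mul_add, h, h', add_zero]
      | smul c x _ h => rw [smul_eq_mul, mul_left_comm, h, mul_zero]
    have hJ : J ≠ ⊤ := fun h => h1 (isArtinianRing_iff_isNilpotent_maximalIdeal R |>.2 ⟨n, by
      rw [Submodule.zero_eq_bot, eq_bot_iff]
      intro a ha
      simpa using hn 1 (h ▸ trivial) a ha⟩)
    refine ⟨R ⧸ J, inferInstance, inferInstance, Ideal.Quotient.nontrivial_iff.2 hJ, inferInstance, ?_,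
      ⟨n, fun x hx => hn x (Ideal.Quotient.eq_zero_iff_mem.1 hx), fun y a _ => Ideal.Quotient.mk_surjective _⟩, ?_⟩
    · intro hbij
      obtain ⟨-, x, hx⟩ := isAssociatedPrime_iff.1 hass
      have hx' : ∀ a ∈ m, a * x = 0 := fun a ha => by
        rw [hx, Submodule.mem_colon_singleton, Submodule.mem_bot] at ha; exact ha
      have hxJ : algebraMap R (R ⧸ J) x = 0 := Ideal.Quotient.eq_zero_iff_mem.2 ⟨1, fun a ha => hx' a (pow_one m ▸ ha)⟩
      have hx0 : x = 0 := hbij.1 (hxJ.trans (map_zero _).symm)
      refine (IsLocalRing.maximalIdeal.isMaximal R).ne_top (eq_top_iff.2 fun a _ => ?_)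
      rw [← hm, hx, Submodule.mem_colon_singleton, hx0, smul_zero]
      exact zero_mem _
    · intro h
      obtain ⟨hp, x, hx⟩ := isAssociatedPrime_iff.1 h
      obtain ⟨x, rfl⟩ := Ideal.Quotient.mk_surjective x
      have hxJ : x ∈ J := ⟨n + 1, fun a ha => by
        rw [pow_succ] at ha
        induction ha using Submodule.mul_induction_on' with
        | mem_mul_mem b hb c hc =>
          rw [mul_assoc]
          refine hn _ (Ideal.Quotient.eq_zero_iff_mem.1 ?_) b hb
          rw [hx, Submodule.mem_colon_singleton, Submodule.mem_bot, Algebra.smul_def, Ideal.Quotient.algebraMap_eq,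
            ← map_mul] at hc
          exact hc
        | add b _ c _ hb hc => rw [add_mul, hb, hc, add_zero]⟩
      refine hp.ne_top (eq_top_iff.2 fun a _ => ?_)
      rw [hx, Submodule.mem_colon_singleton, Ideal.Quotient.eq_zero_iff_mem.2 hxJ, smul_zero]
      exact zero_mem _
  · -- a non zero divisor in the maximal ideal
    obtain ⟨x, hxm, hx⟩ : ∃ x ∈ m, x ∈ nonZeroDivisors R := by
      by_contra hcon
      push Not at hcon
      have hsub : (m : Set R) ⊆ ⋃ p ∈ associatedPrimes R R, (p : Set R) := by
        rw [biUnion_associatedPrimes_eq_compl_nonZeroDivisors]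
        exact hcon
      obtain ⟨p, hp, hle⟩ := (Ideal.subset_union_prime_finite (associatedPrimes.finite R R) ⊥ ⊥
        (fun p hp _ _ => hp.1)).1 hsub
      exact hass (by rw [hm, (IsLocalRing.maximalIdeal.isMaximal R).eq_of_le hp.1.ne_top hle]; exact hp)
    have hrx : IsSMulRegular R x := isSMulRegular_iff_right_eq_zero_of_smul.2 fun v hv =>
      (mem_nonZeroDivisors_iff_right.1 hx) v (by rw [mul_comm]; exact hv)
    -- the socle of `R / xR`
    obtain ⟨y, hy, hmy⟩ : ∃ y, ¬ x ∣ y ∧ ∀ a ∈ m, x ∣ a * y := by
      by_contra hcon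
      push Not at hcon
      let q : Ideal R := Ideal.span {x}
      haveI : Nontrivial (R ⧸ q) := Ideal.Quotient.nontrivial_iff.2 fun h => by
        rw [Ideal.span_singleton_eq_top] at h
        exact (IsLocalRing.mem_maximalIdeal x).1 hxm h
      have hsub : ¬ (m : Set R) ⊆ ⋃ p ∈ associatedPrimes R (R ⧸ q), (p : Set R) := by
        intro hsub
        obtain ⟨p, hp, hle⟩ := (Ideal.subset_union_prime_finite (associatedPrimes.finite R (R ⧸ q)) ⊥ ⊥
          (fun p hp _ _ => hp.1)).1 hsub
        obtain ⟨hp', w, hw⟩ := isAssociatedPrime_iff.1 hp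
        obtain ⟨w, rfl⟩ := Ideal.Quotient.mk_surjective w
        have hxw : ¬ x ∣ w := fun hd => hp'.ne_top (eq_top_iff.2 fun a _ => by
          rw [hw, Submodule.mem_colon_singleton, Ideal.Quotient.eq_zero_iff_mem.2 (Ideal.mem_span_singleton.2 hd), smul_zero]
          exact zero_mem _)
        obtain ⟨a, ha, hna⟩ := hcon w hxw
        refine hna (Ideal.mem_span_singleton.1 (Ideal.Quotient.eq_zero_iff_mem.1 ?_))
        have := hle ha
        rw [hw, Submodule.mem_colon_singleton, Submodule.mem_bot, Algebra.smul_def, Ideal.Quotient.algebraMap_eq,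
          ← map_mul] at this
        exact this
      obtain ⟨b, hbm, hb⟩ := Set.not_subset.1 hsub
      rw [biUnion_associatedPrimes_eq_zero_divisors] at hb
      have h2le := le_depth_two hxm hbm hrx fun c hc => by
        by_contra hne
        exact hb ⟨Ideal.Quotient.mk q c, fun h => hne (Ideal.mem_span_singleton.1 (Ideal.Quotient.eq_zero_iff_mem.1 h)),
          by rw [Algebra.smul_def, Ideal.Quotient.algebraMap_eq, ← map_mul];
             exact Ideal.Quotient.eq_zero_iff_mem.2 (Ideal.mem_span_singleton.2 hc)⟩
      exact absurd (h2le.trans h3) (by norm_num)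
    let K := Localization (nonZeroDivisors R)
    have hinj : Function.Injective (algebraMap R K) := IsLocalization.injective K le_rfl
    let z : K := IsLocalization.mk' K y ⟨x, hx⟩
    have hz : algebraMap R K x * z = algebraMap R K y := IsLocalization.mk'_spec' K y ⟨x, hx⟩
    have hza : ∀ a ∈ m, ∃ c, algebraMap R K a * z = algebraMap R K c ∧ a * y = x * c := fun a ha => by
      obtain ⟨c, hc⟩ := hmy a ha
      refine ⟨c, (IsLocalization.map_units K ⟨x, hx⟩).mul_left_cancel ?_, hc⟩
      rw [← map_mul, ← hc, map_mul, ← hz]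
      exact mul_left_comm _ _ _
    by_cases hcase : ∀ a ∈ m, ∀ c, a * y = x * c → c ∈ m
    · -- the endomorphism ring of the maximal ideal
      let T : Subalgebra R K :=
        { carrier := {w | ∀ a ∈ m, ∃ c ∈ m, algebraMap R K a * w = algebraMap R K c}
          mul_mem' := fun {v w} hv hw a ha => by
            obtain ⟨c, hc, hce⟩ := hv a ha
            obtain ⟨c', hc', hce'⟩ := hw c hc
            exact ⟨c', hc', by rw [← mul_assoc, hce, hce']⟩
          add_mem' := fun {v w} hv hw a ha => by
            obtain ⟨c, hc, hce⟩ := hv a ha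
            obtain ⟨c', hc', hce'⟩ := hw a ha
            exact ⟨c + c', add_mem hc hc', by rw [mul_add, hce, hce', map_add]⟩
          algebraMap_mem' := fun r a ha => ⟨a * r, m.mul_mem_right r ha, (map_mul _ a r).symm⟩ }
      have hzT : z ∈ T := fun a ha => by
        obtain ⟨c, hc, hce⟩ := hza a ha
        exact ⟨c, hcase a ha c hce, hc⟩
      haveI hfin : Module.Finite R T := by
        let xinv : K := IsLocalization.mk' K 1 ⟨x, hx⟩
        have hle : Subalgebra.toSubmodule T ≤ Submodule.span R {xinv} := fun w hw => by
          obtain ⟨c, -, hce⟩ := (show w ∈ T from hw) x hxm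
          refine Submodule.mem_span_singleton.2 ⟨c, ?_⟩
          rw [Algebra.smul_def, ← hce, mul_right_comm, IsLocalization.mk'_spec' K 1 ⟨x, hx⟩, map_one, one_mul]
        exact Module.Finite.of_injective (Submodule.inclusion hle) (Submodule.inclusion_injective hle)
      haveI : Nontrivial T := inferInstance
      refine ⟨T, inferInstance, inferInstance, inferInstance, hfin, ?_, ⟨1, fun w hw a _ => ?_, fun w a ha => ?_⟩, ?_⟩
      · intro hb
        obtain ⟨c, hc⟩ := hb.2 ⟨z, hzT⟩
        have hc' : algebraMap R K c = z := congrArg Subtype.val hc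
        refine hy ⟨c, hinj ?_⟩
        rw [map_mul, hc', hz]
      · have : algebraMap R K w = 0 := congrArg Subtype.val hw
        rw [hinj (this.trans (map_zero _).symm), mul_zero]
      · obtain ⟨c, -, hc⟩ := w.2 a (pow_one m ▸ ha)
        exact ⟨c, Subtype.ext (by rw [Algebra.smul_def]; exact hc.symm)⟩
      · intro h
        obtain ⟨hp, w, hw⟩ := isAssociatedPrime_iff.1 h
        have hxw : x • w = 0 := by
          rw [hw, Submodule.mem_colon_singleton, Submodule.mem_bot] at hxm
          exact hxm
        have hw0 : (w : K) = 0 := by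
          have := congrArg Subtype.val hxw
          rw [ZeroMemClass.coe_zero, SetLike.val_smul, Algebra.smul_def] at this
          exact (IsLocalization.map_units K ⟨x, hx⟩).mul_right_eq_zero.1 this
        refine hp.ne_top (eq_top_iff.2 fun a _ => ?_)
        rw [hw, Submodule.mem_colon_singleton, show w = 0 from Subtype.ext hw0, smul_zero]
        exact zero_mem _
    · -- the maximal ideal is principal
      push Not at hcase
      obtain ⟨a, ha, u, hau, hu⟩ := hcase
      have hu' : IsUnit u := by
        by_contra h
        exact hu ((IsLocalRing.mem_maximalIdeal u).2 h)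
      refine absurd ?_ h2
      have hspan : m = Ideal.span {a} := by
        refine le_antisymm (fun b hb => ?_) ((Ideal.span_singleton_le_iff_mem _).2 ha)
        obtain ⟨c, hc⟩ := hmy b hb
        refine Ideal.mem_span_singleton.2 (hu'.dvd_mul_left.1 ⟨c, hrx ?_⟩)
        show x * (u * b) = x * (a * c)
        calc x * (u * b) = b * (a * y) := by rw [hau]; ring
          _ = a * (b * y) := by ring
          _ = x * (a * c) := by rw [hc]; ring
      have hsf : (m.spanFinrank : WithBot ℕ∞) ≤ 1 := by
        have : m.spanFinrank ≤ 1 := by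
          rw [hspan]; exact (Submodule.spanFinrank_span_le_ncard_of_finite (Set.finite_singleton a)).trans (Set.ncard_singleton a).le
        exact_mod_cast this
      have hge : (1 : WithBot ℕ∞) ≤ ringKrullDim R := by
        by_contra h
        haveI : Ring.KrullDimLE 0 R := by
          rw [Ring.krullDimLE_iff]
          rcases hr : ringKrullDim R with _ | n
          · exact bot_le
          · rw [hr] at h
            change ¬ ((1 : ℕ∞) : WithBot ℕ∞) ≤ (n : WithBot ℕ∞) at h
            rw [WithBot.coe_le_coe, ENat.one_le_iff_ne_zero, not_not] at h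
            subst h; exact le_rfl
        exact h1 (isArtinianRing_iff_krullDimLE_zero.2 inferInstance)
      have hdim : ringKrullDim R = 1 := le_antisymm ((ringKrullDim_le_spanFinrank_maximalIdeal R).trans hsf) hge
      exact ⟨IsRegularLocalRing.of_spanFinrank_maximalIdeal_le _ (by rw [hdim]; exact hsf), hdim⟩

end Groth.Agent.S2058
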