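import Groth.Statements.S2059
import Mathlib.RingTheory.Jacobson.Ring
import Mathlib.RingTheory.Algebraic.LinearIndependent
import Mathlib.RingTheory.MvPolynomial
import Mathlib.SetTheory.Cardinal.Finsupp

set_option autoImplicit false
universe u
open CAlg

namespace Groth.Agent.S2059

open Cardinal in
theorem isAlgebraic_of_infinite {k T : Type u} [Field k] [CommRing T] [Algebra k T] (s : Set T)
    (hs : Algebra.adjoin k s = ⊤) (hinf : s.Infinite) (hcard : Cardinal.mk s < Cardinal.mk k)
    (M : Ideal T) [M.IsMaximal] : Algebra.IsAlgebraic k (T ⧸ M) := by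
  let := Ideal.Quotient.field M
  haveI := hinf.to_subtype
  let φ : MvPolynomial s k →ₐ[k] T ⧸ M :=
    (Ideal.Quotient.mkₐ k M).comp (MvPolynomial.aeval fun x : s => (x : T))
  have hφ : Function.Surjective φ := by
    have h1 : Function.Surjective (MvPolynomial.aeval (R := k) fun x : s => (x : T)) := by
      rw [← AlgHom.range_eq_top, ← Algebra.adjoin_range_eq_range_aeval, Subtype.range_coe]
      exact hs
    exact Ideal.Quotient.mk_surjective.comp h1
  have hrank : Module.rank k (T ⧸ M) < Cardinal.mk k := by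
    refine lt_of_le_of_lt (LinearMap.rank_le_of_surjective φ.toLinearMap hφ) ?_
    rw [MvPolynomial.rank_eq_lift, mk_finsupp_nat, max_eq_left (aleph0_le_mk s), lift_id]
    exact hcard
  refine ⟨fun x => ?_⟩
  by_contra hx
  have h2 := (show Transcendental k x from hx).linearIndependent_sub_inv.cardinal_le_rank
  exact absurd (lt_of_le_of_lt h2 hrank) (lt_irrefl _)



/-- Let `k` be a field and `S` a `k`-algebra generated by a set of cardinality smaller than that of `k`.
Then for every maximal ideal `𝔪` of `S` the residue field `S/𝔪` is algebraic over `k`, and `S` is a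
Jacobson ring. -/
theorem result {k S : Type u} [Field k] [CommRing S] [Algebra k S]
    (s : Set S) (hs : Algebra.adjoin k s = ⊤) (hcard : Cardinal.mk s < Cardinal.mk k) :
    (∀ (m : Ideal S) [m.IsMaximal], Algebra.IsAlgebraic k (S ⧸ m)) ∧ IsJacobsonRing S := by
  rcases s.finite_or_infinite with hfin | hinf
  · haveI : Algebra.FiniteType k S := ⟨⟨hfin.toFinset, by rw [hfin.coe_toFinset]; exact hs⟩⟩
    refine ⟨fun m _ => ?_, isJacobsonRing_of_finiteType (A := k)⟩
    let := Ideal.Quotient.field m
    haveI : Algebra.FiniteType k (S ⧸ m) :=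
      Algebra.FiniteType.of_surjective (Ideal.Quotient.mkₐ k m) Ideal.Quotient.mk_surjective
    haveI := finite_of_finite_type_of_isJacobsonRing k (S ⧸ m)
    exact Algebra.IsAlgebraic.of_finite k (S ⧸ m)
  refine ⟨fun m _ => isAlgebraic_of_infinite s hs hinf hcard m, ?_⟩
  rw [isJacobsonRing_iff_prime_eq]
  intro p hp
  refine le_antisymm (fun x hx => ?_) Ideal.le_jacobson
  by_contra hxp
  let S' := Localization.Away x
  let s' : Set S' := insert (IsLocalization.Away.invSelf x) (algebraMap S S' '' s)
  have hs' : Algebra.adjoin k s' = ⊤ := by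
    rw [eq_top_iff]
    intro z _
    obtain ⟨a, ⟨_, n, rfl⟩, rfl⟩ := IsLocalization.exists_mk'_eq (Submonoid.powers x) z
    have ha : algebraMap S S' a ∈ Algebra.adjoin k s' := by
      refine Algebra.adjoin_mono (Set.subset_insert _ _) ?_
      have h := Subalgebra.map_mono (f := IsScalarTower.toAlgHom k S S') (le_of_eq hs.symm)
      rw [AlgHom.map_adjoin] at h
      exact h ⟨a, Algebra.mem_top, rfl⟩
    have h2 : IsLocalization.mk' S' a (⟨x ^ n, n, rfl⟩ : Submonoid.powers x) =
        algebraMap S S' a * IsLocalization.Away.invSelf x ^ n := by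
      rw [IsLocalization.mk'_eq_iff_eq_mul, map_pow, mul_assoc, ← mul_pow, mul_comm
        (IsLocalization.Away.invSelf x), IsLocalization.Away.mul_invSelf, one_pow, mul_one]
    rw [h2]
    exact mul_mem ha (pow_mem (Algebra.subset_adjoin (Set.mem_insert _ _)) n)
  have hcard' : Cardinal.mk s' < Cardinal.mk k := by
    refine lt_of_le_of_lt (Cardinal.mk_insert_le.trans (add_le_add_left
      (Cardinal.mk_image_le (f := algebraMap S S') (s := s)) 1)) ?_
    haveI := hinf.to_subtype
    rwa [Cardinal.add_one_eq (Cardinal.aleph0_le_mk s)]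
  have hdisj : Disjoint (Submonoid.powers x : Set S) p := by
    rw [Set.disjoint_left]
    rintro _ ⟨n, rfl⟩ h
    exact hxp (hp.mem_of_pow_mem n h)
  have hp' := IsLocalization.isPrime_of_isPrime_disjoint (Submonoid.powers x) S' p hp hdisj
  obtain ⟨M, hM, hle⟩ := Ideal.exists_le_maximal _ hp'.ne_top
  let := Ideal.Quotient.field M
  have halg : Algebra.IsAlgebraic k (S' ⧸ M) := by
    rcases s'.finite_or_infinite with hf | hi
    · haveI : Algebra.FiniteType k S' := ⟨⟨hf.toFinset, by rw [hf.coe_toFinset]; exact hs'⟩⟩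
      haveI : Algebra.FiniteType k (S' ⧸ M) :=
        Algebra.FiniteType.of_surjective (Ideal.Quotient.mkₐ k M) Ideal.Quotient.mk_surjective
      haveI := finite_of_finite_type_of_isJacobsonRing k (S' ⧸ M)
      exact Algebra.IsAlgebraic.of_finite k (S' ⧸ M)
    · exact isAlgebraic_of_infinite s' hs' hi hcard' M
  let c : Ideal S := M.comap (algebraMap S S')
  haveI : c.IsPrime := Ideal.IsPrime.comap _
  let g : S ⧸ c →ₐ[k] S' ⧸ M :=
    Ideal.quotientMapₐ M (IsScalarTower.toAlgHom k S S') le_rfl
  have hg : Function.Injective g := Ideal.quotientMap_injective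
  haveI : Algebra.IsIntegral k (S ⧸ c) := ⟨fun y =>
    (isIntegral_algHom_iff g hg).1 (halg.isIntegral.1 (g y))⟩
  have hc : c.IsMaximal := Ideal.Quotient.maximal_of_isField _
    (isField_of_isIntegral_of_isField' (R := k) (Field.toIsField k))
  have hpc : p ≤ c := fun y hy => hle (Ideal.mem_map_of_mem _ hy)
  have hxc : x ∈ c := (Ideal.mem_sInf.1 hx) ⟨hpc, hc⟩
  exact hM.ne_top (Ideal.eq_top_of_isUnit_mem _ hxc
    (IsLocalization.map_units S' (⟨x, Submonoid.mem_powers x⟩ : Submonoid.powers x)))

end Groth.Agent.S2059
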