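import Groth.Statements.S2060
import Mathlib
-- import your own Groth.Agent.* helpers here

set_option autoImplicit false
universe u
open CAlg

namespace Groth.Agent.S2060

open IsLocalRing

theorem exists_der {R S : Type u} [CommRing R] [IsNoetherianRing R] [CommRing S] [Algebra R S]
    {n : ℕ} (q : Ideal S) [q.IsPrime] (f₀ : MvPolynomial (Fin n) R →ₐ[R] S)
    {P : Type u} [CommRing P] [IsLocalRing P] [IsNoetherianRing P] [Algebra R P]
    [Algebra (MvPolynomial (Fin n) R) P] [IsScalarTower R (MvPolynomial (Fin n) R) P]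
    [IsLocalization.AtPrime P (q.comap f₀.toRingHom)]
    [Algebra P (Localization.AtPrime q)] [IsScalarTower R P (Localization.AtPrime q)]
    (hfP : Function.Surjective (algebraMap P (Localization.AtPrime q)))
    (hf : ∀ s, algebraMap P (Localization.AtPrime q) (algebraMap (MvPolynomial (Fin n) R) P s) =
      algebraMap S (Localization.AtPrime q) (f₀ s))
    (hlift : ∀ (B' B : Type u) [CommRing B'] [CommRing B] [IsLocalRing B'] [IsLocalRing B]
        [IsArtinianRing B'] [IsArtinianRing B] [Algebra R B'] [Algebra R B] (π : B' →ₐ[R] B),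
        Function.Surjective π →
        (∃ t : B', RingHom.ker π.toRingHom = Ideal.span {t} ∧
          ∀ a ∈ IsLocalRing.maximalIdeal B', a * t = 0) →
        ∀ g : S →ₐ[R] B, (IsLocalRing.maximalIdeal B).comap g = q →
          ∃ g' : S →ₐ[R] B', π.comp g' = g)
    (lam : RingHom.ker (algebraMap P (Localization.AtPrime q)) →ₗ[P] ResidueField (Localization.AtPrime q)) :
    ∃ D : Derivation R P (ResidueField (Localization.AtPrime q)),
      ∀ x : RingHom.ker (algebraMap P (Localization.AtPrime q)), D x = lam x := by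
  classical
  by_cases h0 : lam = 0
  · exact ⟨0, fun x => by simp [h0]⟩
  let Sq := Localization.AtPrime q
  let k := ResidueField Sq
  let I := RingHom.ker (algebraMap P (Localization.AtPrime q))
  let e : P →ₐ[R] Sq := IsScalarTower.toAlgHom R P Sq
  let ρ : P →ₗ[P] k := Algebra.linearMap P k
  have hρ : Function.Surjective ρ := fun c => by
    obtain ⟨y, rfl⟩ := residue_surjective c
    obtain ⟨p, rfl⟩ := hfP y
    exact ⟨p, rfl⟩
  haveI : IsLocalHom (algebraMap P Sq) := IsLocalHom.of_surjective _ hfP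
  have hρ0 : ∀ p : P, p ∈ maximalIdeal P ↔ ρ p = 0 := fun p => by
    show p ∈ maximalIdeal P ↔ residue Sq (algebraMap P Sq p) = 0
    rw [residue_eq_zero_iff, IsLocalRing.mem_maximalIdeal, IsLocalRing.mem_maximalIdeal,
      mem_nonunits_iff, mem_nonunits_iff, isUnit_map_iff]
  obtain ⟨x₀, hx₀⟩ : ∃ x, lam x ≠ 0 := not_forall.mp fun h => h0 (LinearMap.ext h)
  obtain ⟨p₀, hp₀⟩ := hρ (lam x₀)⁻¹
  set w : I := p₀ • x₀ with hw
  have hlw : lam w = 1 := by
    rw [hw, map_smul, Algebra.smul_def, show algebraMap P k p₀ = (lam x₀)⁻¹ from hp₀, inv_mul_cancel₀ hx₀]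
  have hMlam : ∀ m ∈ maximalIdeal P, ∀ x : I, lam (m • x) = 0 := fun m hm x => by
    rw [map_smul, Algebra.smul_def, show algebraMap P k m = 0 from (hρ0 m).mp hm, zero_mul]
  obtain ⟨N₀, hN₀⟩ := Ideal.exists_pow_inf_eq_pow_smul (maximalIdeal P) (M := P) I
  set N := N₀ + 1
  have hAR : ∀ x : I, (x : P) ∈ maximalIdeal P ^ N → lam x = 0 := by
    intro x hx
    have h1 : (x : P) ∈ maximalIdeal P ^ N • ⊤ ⊓ I := ⟨by simpa using hx, x.2⟩
    rw [hN₀ N (Nat.le_succ _)] at h1
    have h2 : (x : P) ∈ maximalIdeal P • I := by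
      refine Submodule.smul_mono ?_ inf_le_right h1
      rw [Nat.add_sub_cancel_left, pow_one]
    obtain ⟨y, hy, hyx⟩ : (x : P) ∈ (maximalIdeal P • ⊤ : Submodule P I).map I.subtype := by
      rw [Submodule.map_smul'', Submodule.map_subtype_top]; exact h2
    obtain rfl : y = x := Subtype.ext hyx
    clear hyx hx h1
    exact Submodule.smul_induction_on hy (fun m hm z _ => hMlam m hm z)
      fun a b ha hb => by rw [map_add, ha, hb, add_zero]
  let Q : Ideal P := (LinearMap.ker lam).map I.subtype ⊔ maximalIdeal P ^ N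
  let U : Ideal P := I ⊔ maximalIdeal P ^ N
  have hQU : Q ≤ U := sup_le_sup (Submodule.map_subtype_le _ _) le_rfl
  have hMQ : maximalIdeal P ^ N ≤ Q := le_sup_right
  have hUM : U ≤ maximalIdeal P := sup_le (fun x hx => (hρ0 x).mpr
      (show residue Sq (algebraMap P Sq x) = 0 by rw [RingHom.mem_ker.mp hx, map_zero]))
    (Ideal.pow_le_self (Nat.succ_ne_zero _))
  have hwQ : (w : P) ∉ Q := by
    intro h
    obtain ⟨_, ⟨a, ha, rfl⟩, b, hb, hab⟩ := Submodule.mem_sup.mp h
    have hb' : b = ((w - a : I) : P) := by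
      rw [Submodule.coe_sub, ← hab, Submodule.subtype_apply, add_sub_cancel_left]
    have := hAR (w - a) (hb' ▸ hb)
    rw [map_sub, hlw, LinearMap.mem_ker.mp ha, sub_zero] at this
    exact one_ne_zero this
  have hdec : ∀ (x : I) (p : P), ρ p = lam x → (x : P) - p * w ∈ Q := fun x p hp => by
    refine Submodule.mem_sup_left ⟨x - p • w, ?_, rfl⟩
    show lam (x - p • w) = 0
    rw [map_sub, map_smul, hlw, ← hp, Algebra.smul_def, mul_one]
    exact sub_self _
  have hMw : ∀ m ∈ maximalIdeal P, m * (w : P) ∈ Q := fun m hm =>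
    Submodule.mem_sup_left ⟨m • w, hMlam m hm w, rfl⟩
  have hloc : ∀ J : Ideal P, J ≤ maximalIdeal P → maximalIdeal P ^ N ≤ J →
      IsLocalRing (P ⧸ J) ∧ IsArtinianRing (P ⧸ J) := fun J h1 h2 => by
    haveI : Nontrivial (P ⧸ J) := Ideal.Quotient.nontrivial_iff.mpr
      (ne_top_of_le_ne_top (maximalIdeal.isMaximal P).ne_top h1)
    exact ⟨IsLocalRing.of_surjective' _ Ideal.Quotient.mk_surjective,
      IsLocalRing.quotient_artinian_of_mem_minimalPrimes_of_isLocalRing J
        ⟨⟨inferInstance, h1⟩, fun p hp _ => hp.1.le_of_pow_le (h2.trans hp.2)⟩⟩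
  obtain ⟨_, _⟩ := hloc Q (hQU.trans hUM) hMQ
  obtain ⟨_, _⟩ := hloc U hUM le_sup_right
  let π : P ⧸ Q →ₐ[R] P ⧸ U := Ideal.Quotient.factorₐ R hQU
  have hπmk : ∀ x, π (Ideal.Quotient.mk Q x) = Ideal.Quotient.mk U x := fun x => rfl
  have hπ : Function.Surjective π := fun x => by
    obtain ⟨p, rfl⟩ := Ideal.Quotient.mk_surjective x
    exact ⟨_, hπmk p⟩
  have hker : RingHom.ker π.toRingHom = Ideal.span {Ideal.Quotient.mk Q (w : P)} := by
    refine le_antisymm (fun x hx => ?_) ((Ideal.span_singleton_le_iff_mem _).mpr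
      (Ideal.Quotient.eq_zero_iff_mem.mpr (Submodule.mem_sup_left w.2)))
    obtain ⟨p, rfl⟩ := Ideal.Quotient.mk_surjective x
    obtain ⟨a, ha, b, hb, rfl⟩ := Submodule.mem_sup.mp (Ideal.Quotient.eq_zero_iff_mem.mp hx)
    obtain ⟨r, hr⟩ := hρ (lam ⟨a, ha⟩)
    have h2 : Ideal.Quotient.mk Q (a + b) = Ideal.Quotient.mk Q r * Ideal.Quotient.mk Q (w : P) := by
      rw [map_add, Ideal.Quotient.eq_zero_iff_mem.mpr (hMQ hb), add_zero, ← map_mul, Ideal.Quotient.eq]
      exact hdec ⟨a, ha⟩ r hr
    rw [h2]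
    exact Ideal.mul_mem_left _ _ (Ideal.mem_span_singleton_self _)
  have hmw : ∀ c ∈ maximalIdeal (P ⧸ Q), c * Ideal.Quotient.mk Q (w : P) = 0 := fun c hc => by
    obtain ⟨p, rfl⟩ := Ideal.Quotient.mk_surjective c
    rw [← map_mul, Ideal.Quotient.eq_zero_iff_mem]
    exact hMw p ((IsLocalRing.mem_maximalIdeal _).mpr fun h => hc (h.map _))
  have hIU : RingHom.ker e.toRingHom ≤ RingHom.ker (Ideal.Quotient.mkₐ R U).toRingHom :=
    fun x hx => Ideal.Quotient.eq_zero_iff_mem.mpr (Submodule.mem_sup_left hx)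
  let gU : Sq →ₐ[R] P ⧸ U := AlgHom.liftOfSurjective e hfP (Ideal.Quotient.mkₐ R U) hIU
  have hgU : ∀ p, gU (algebraMap P Sq p) = Ideal.Quotient.mk U p :=
    AlgHom.liftOfSurjective_apply e hfP (Ideal.Quotient.mkₐ R U) hIU
  haveI : IsLocalHom gU.toRingHom := IsLocalHom.of_surjective _ fun x => by
    obtain ⟨p, rfl⟩ := Ideal.Quotient.mk_surjective x
    exact ⟨_, hgU p⟩
  let g : S →ₐ[R] P ⧸ U := gU.comp (IsScalarTower.toAlgHom R S Sq)
  have hg : (maximalIdeal (P ⧸ U)).comap g = q := by
    rw [show (maximalIdeal (P ⧸ U)).comap g =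
      ((maximalIdeal (P ⧸ U)).comap gU.toRingHom).comap (algebraMap S Sq) from rfl,
      IsLocalRing.maximalIdeal_comap]
    exact IsLocalization.AtPrime.comap_maximalIdeal Sq q
  obtain ⟨g', hg'⟩ := hlift (P ⧸ Q) (P ⧸ U) π hπ ⟨_, hker, hmw⟩ g hg
  haveI : IsLocalHom π.toRingHom := IsLocalHom.of_surjective _ hπ
  have hu : ∀ s : q.primeCompl, IsUnit (g' s) := fun s => by
    refine isUnit_of_map_unit π.toRingHom _ ?_
    show IsUnit (π (g' s))
    rw [show π (g' s) = g s from congr($hg' s)]
    exact (IsLocalization.map_units Sq s).map gU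
  let gq : Sq →ₐ[R] P ⧸ Q := IsLocalization.liftAlgHom (M := q.primeCompl) (f := g') hu
  let f' : P →ₐ[R] P ⧸ Q := gq.comp e
  have hπf : π.comp f' = Ideal.Quotient.mkₐ R U := by
    refine IsLocalization.algHom_ext (q.comap f₀.toRingHom).primeCompl (AlgHom.ext fun s => ?_)
    show π (gq (algebraMap P Sq (algebraMap _ P s))) = Ideal.Quotient.mk U (algebraMap _ P s)
    rw [← hgU, hf]
    rw [show gq (algebraMap S Sq (f₀ s)) = g' (f₀ s) from IsLocalization.lift_eq hu _]
    exact congr($hg' (f₀ s))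
  have hε : ∀ x : P, ∃ c : P, Ideal.Quotient.mk Q x - f' x = Ideal.Quotient.mk Q (c * w) := fun x => by
    have h1 : Ideal.Quotient.mk Q x - f' x ∈ RingHom.ker π.toRingHom := by
      rw [RingHom.mem_ker]
      show π (_ - _) = 0
      rw [map_sub, sub_eq_zero, hπmk]
      exact congr($hπf x).symm
    rw [hker, Ideal.mem_span_singleton'] at h1
    obtain ⟨c, hc⟩ := h1
    obtain ⟨c, rfl⟩ := Ideal.Quotient.mk_surjective c
    exact ⟨c, by rw [map_mul, hc]⟩
  choose c hc using hε
  have huniq : ∀ a b : P, Ideal.Quotient.mk Q (a * w) = Ideal.Quotient.mk Q (b * w) → ρ a = ρ b := by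
    intro a b hab
    rw [Ideal.Quotient.eq, ← sub_mul] at hab
    by_contra h
    have : IsUnit (a - b) := by
      by_contra hu'
      exact h (sub_eq_zero.mp (by rw [← map_sub]; exact (hρ0 _).mp ((IsLocalRing.mem_maximalIdeal _).mpr hu')))
    obtain ⟨u, hu'⟩ := this
    refine hwQ ?_
    have := Q.mul_mem_left (↑u⁻¹ : P) hab
    rwa [← hu', ← mul_assoc, Units.inv_mul, one_mul] at this
  let L : P →ₗ[R] k :=
    { toFun := fun x => ρ (c x)
      map_add' := fun x y => by
        rw [← map_add]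
        apply huniq
        rw [← hc, add_mul, map_add (Ideal.Quotient.mk Q) (c x * _), ← hc, ← hc, map_add, map_add]
        ring
      map_smul' := fun r x => by
        rw [RingHom.id_apply, ← IsScalarTower.algebraMap_smul P r (ρ (c x)), ← map_smul]
        apply huniq
        rw [← hc, smul_eq_mul, mul_assoc, map_mul (Ideal.Quotient.mk Q), ← hc, Algebra.smul_def,
          map_mul, map_mul, AlgHom.commutes,
          show Ideal.Quotient.mk Q (algebraMap R P r) = algebraMap R (P ⧸ Q) r from rfl]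
        ring }
  refine ⟨Derivation.mk' L fun a b => ?_, fun x => ?_⟩
  · show ρ (c (a * b)) = a • ρ (c b) + b • ρ (c a)
    rw [← map_smul, ← map_smul, ← map_add]
    apply huniq
    have h2 : (Ideal.Quotient.mk Q a - f' a) * (Ideal.Quotient.mk Q b - f' b) = 0 := by
      rw [hc, hc, ← map_mul, Ideal.Quotient.eq_zero_iff_mem, mul_mul_mul_comm, ← mul_assoc]
      exact hMw _ (Ideal.mul_mem_left _ _ (hUM (Submodule.mem_sup_left w.2)))
    rw [← hc, smul_eq_mul, smul_eq_mul, add_mul, mul_assoc, mul_assoc, map_add,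
      map_mul (Ideal.Quotient.mk Q) a, map_mul (Ideal.Quotient.mk Q) a, map_mul (Ideal.Quotient.mk Q) b,
      ← hc, ← hc, map_mul]
    linear_combination -h2
  · obtain ⟨p, hp⟩ := hρ (lam x)
    show ρ (c x) = lam x
    rw [← hp]
    apply huniq
    have hx0 : f' x = 0 := by
      show gq (algebraMap P Sq x) = 0
      rw [RingHom.mem_ker.mp x.2, map_zero]
    rw [← hc, hx0, sub_zero, Ideal.Quotient.eq]
    exact hdec x p hp

/-- Let `R` be Noetherian, `S` of finite type over `R` and `𝔮` a prime of `S`. Then `R → S` is smooth at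
`𝔮` if and only if for every surjection `B' → B` of Artinian local `R`-algebras whose kernel is
principal and killed by the maximal ideal of `B'`, every `R`-algebra map `S → B` under which the
maximal ideal pulls back to `𝔮` lifts to `B'`. -/
theorem result {R S : Type u} [CommRing R] [IsNoetherianRing R]
    [CommRing S] [Algebra R S] [Algebra.FiniteType R S] (q : Ideal S) [q.IsPrime] :
    Algebra.IsSmoothAt R q ↔
      ∀ (B' B : Type u) [CommRing B'] [CommRing B] [IsLocalRing B'] [IsLocalRing B]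
        [IsArtinianRing B'] [IsArtinianRing B] [Algebra R B'] [Algebra R B] (π : B' →ₐ[R] B),
        Function.Surjective π →
        (∃ t : B', RingHom.ker π.toRingHom = Ideal.span {t} ∧
          ∀ a ∈ IsLocalRing.maximalIdeal B', a * t = 0) →
        ∀ g : S →ₐ[R] B, (IsLocalRing.maximalIdeal B).comap g = q →
          ∃ g' : S →ₐ[R] B', π.comp g' = g := by
  classical
  let Sq := Localization.AtPrime q
  constructor
  · intro hsm B' B _ _ _ _ _ _ _ _ π hπ ⟨t, ht, hmt⟩ g hg
    have hu : ∀ s : q.primeCompl, IsUnit (g s) := fun s => by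
      by_contra h
      exact s.2 (hg ▸ (IsLocalRing.mem_maximalIdeal _).mpr h)
    let gq : Sq →ₐ[R] B := IsLocalization.liftAlgHom (M := q.primeCompl) (f := g) hu
    have hnil : IsNilpotent (RingHom.ker (π : B' →+* B)) := ⟨2, by
      show RingHom.ker π.toRingHom ^ 2 = ⊥
      rw [ht, pow_two, Ideal.span_singleton_mul_span_singleton, Ideal.span_singleton_eq_bot]
      refine hmt t ((IsLocalRing.mem_maximalIdeal _).mpr fun h => ?_)
      have h1 : (1 : B') ∈ RingHom.ker π.toRingHom := by
        rw [ht, Ideal.span_singleton_eq_top.mpr h]; trivial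
      exact one_ne_zero (RingHom.mem_ker.mp h1 |> fun h2 => (map_one π).symm.trans h2)⟩
    haveI : Algebra.FormallySmooth R Sq := hsm
    refine ⟨(Algebra.FormallySmooth.liftOfSurjective gq π hπ hnil).comp (IsScalarTower.toAlgHom R S Sq),
      AlgHom.ext fun x => ?_⟩
    simp only [AlgHom.comp_apply, Algebra.FormallySmooth.liftOfSurjective_apply]
    simp [gq, IsLocalization.lift_eq]
  · intro hlift
    obtain ⟨n, f₀, hf₀⟩ := Algebra.FiniteType.iff_quotient_mvPolynomial''.mp
      (inferInstance : Algebra.FiniteType R S)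
    let P := Localization.AtPrime (q.comap f₀.toRingHom)
    let fP : P →ₐ[R] Sq := IsLocalization.liftAlgHom (M := (q.comap f₀.toRingHom).primeCompl)
      (f := (IsScalarTower.toAlgHom R S Sq).comp f₀) fun x => by
        simpa using IsLocalization.map_units (M := q.primeCompl) Sq ⟨f₀ x.1, x.2⟩
    have hfP : Function.Surjective fP := by
      intro x
      obtain ⟨x, ⟨s, hs⟩, rfl⟩ := IsLocalization.exists_mk'_eq q.primeCompl x
      obtain ⟨x, rfl⟩ := hf₀ x
      obtain ⟨s, rfl⟩ := hf₀ s
      refine ⟨IsLocalization.mk' (M := (q.comap f₀.toRingHom).primeCompl) _ x ⟨s, hs⟩, ?_⟩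
      show IsLocalization.lift _ _ = _
      rw [IsLocalization.lift_mk'_spec]
      exact (IsLocalization.mk'_spec' Sq (f₀ x) (⟨f₀ s, hs⟩ : q.primeCompl)).symm
    algebraize [fP.toRingHom]
    haveI : IsScalarTower R P Sq := IsScalarTower.of_algebraMap_eq fun r => (fP.commutes r).symm
    haveI : Algebra.FormallyEtale (MvPolynomial (Fin n) R) P :=
      .of_isLocalization (q.comap f₀.toRingHom).primeCompl
    haveI : Algebra.FormallySmooth R P := .comp _ (MvPolynomial (Fin n) R) _
    haveI : Module.Free P Ω[P⁄R] :=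
      .of_equiv (KaehlerDifferential.tensorKaehlerEquivOfFormallyEtale R (MvPolynomial (Fin n) R) P)
    haveI : IsNoetherianRing P := IsLocalization.isNoetherianRing (q.comap f₀.toRingHom).primeCompl _ inferInstance
    haveI : Module.Finite P Ω[P⁄R] :=
      .equiv (KaehlerDifferential.tensorKaehlerEquivOfFormallyEtale R (MvPolynomial (Fin n) R) P)
    show Algebra.FormallySmooth R Sq
    rw [Algebra.FormallySmooth.iff_injective_cotangentComplexBaseChange_residueField (P := P) hfP
      (IsNoetherian.noetherian _), injective_iff_map_eq_zero]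
    intro z hz
    rw [← Module.forall_dual_apply_eq_zero_iff (IsLocalRing.ResidueField Sq)]
    intro φ
    let k := IsLocalRing.ResidueField Sq
    let I := RingHom.ker (algebraMap P Sq)
    let lam : I →ₗ[P] k := φ.restrictScalars P ∘ₗ TensorProduct.mk P k I 1
    obtain ⟨D, hD⟩ : ∃ D : Derivation R P k, ∀ x : I, D x = lam x :=
      exists_der q f₀ hfP (fun s => IsLocalization.lift_eq _ s) hlift lam
    have hfac : φ = (D.liftKaehlerDifferential.liftBaseChange k) ∘ₗ
        KaehlerDifferential.cotangentComplexBaseChange R Sq P k := by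
      refine TensorProduct.AlgebraTensorModule.ext fun a x => ?_
      rw [LinearMap.comp_apply, KaehlerDifferential.cotangentComplexBaseChange_tmul,
        map_smul, KaehlerDifferential.kerToTensor_apply, LinearMap.liftBaseChange_tmul, one_smul,
        Derivation.liftKaehlerDifferential_comp_D, hD,
        show lam x = φ (1 ⊗ₜ x) from rfl, ← map_smul]
      rw [TensorProduct.smul_tmul', smul_eq_mul, mul_one]
    rw [hfac, LinearMap.comp_apply, hz, map_zero]

end Groth.Agent.S2060
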