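import Groth.Statements.S2061
import Mathlib
import Groth.Agent.S2189
-- import your own Groth.Agent.* helpers here

set_option autoImplicit false
universe u
open CategoryTheory
open CAlg

namespace Groth.Agent.S2061

/-- For a Noetherian local ring `R` write `𝔪` for its maximal ideal and `κ` for its residue field. The
projective dimension of `κ` as an `R`-module is at least the `κ`-dimension of `𝔪/𝔪²`: if `κ` has
projective dimension less than `d` then `dim_κ 𝔪/𝔪² < d`. -/
theorem result {R : Type u} [CommRing R] [IsLocalRing R]
    [IsNoetherianRing R] (d : ℕ)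
    (hd : HasProjectiveDimensionLT (ModuleCat.of R (IsLocalRing.ResidueField R)) d) :
    Module.finrank (IsLocalRing.ResidueField R) (IsLocalRing.CotangentSpace R) < d := by
  set m := IsLocalRing.maximalIdeal R with hm
  let S : CategoryTheory.ShortComplex (ModuleCat.{u} R) :=
    { X₁ := ModuleCat.of R m
      X₂ := ModuleCat.of R R
      X₃ := ModuleCat.of R (IsLocalRing.ResidueField R)
      f := ModuleCat.ofHom m.subtype
      g := ModuleCat.ofHom (Algebra.linearMap R (IsLocalRing.ResidueField R))
      zero := by
        ext x
        change algebraMap R (IsLocalRing.ResidueField R) (x : R) = 0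
        rw [IsLocalRing.ResidueField.algebraMap_eq, IsLocalRing.residue_eq_zero_iff]
        exact x.2 }
  have hS : S.ShortExact :=
    { exact := by
        rw [CategoryTheory.ShortComplex.ShortExact.moduleCat_exact_iff_function_exact]
        intro x
        change algebraMap R (IsLocalRing.ResidueField R) x = 0 ↔ x ∈ Set.range m.subtype
        rw [IsLocalRing.ResidueField.algebraMap_eq, IsLocalRing.residue_eq_zero_iff]
        exact ⟨fun h => ⟨⟨x, h⟩, rfl⟩, fun ⟨y, hy⟩ => hy ▸ y.2⟩
      mono_f := (ModuleCat.mono_iff_injective _).mpr Subtype.val_injective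
      epi_g := (ModuleCat.epi_iff_surjective _).mpr Ideal.Quotient.mk_surjective }
  have h₃ : HasProjectiveDimensionLT S.X₃ (d + 1 + 1) :=
    hasProjectiveDimensionLT_of_ge (ModuleCat.of R (IsLocalRing.ResidueField R)) d _ (by omega)
  haveI : Module.Projective (R ⧸ m) m.Cotangent := by
    letI : Field (R ⧸ m) := Ideal.Quotient.field m
    exact Module.Projective.of_free
  obtain ⟨g, hg, rs, hreg, hrs⟩ := Groth.Agent.S2189.result m (d + 1)
    (hS.hasProjectiveDimensionLT_X₁ (d + 1) (hasProjectiveDimensionLT_of_ge S.X₂ 1 _ (by omega)) h₃)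
    m le_rfl
  have hu : IsUnit g := not_not.mp fun h => hg ((IsLocalRing.mem_maximalIdeal g).mpr h)
  let e : R ≃ₐ[R] Localization.Away g := IsLocalization.atUnits R (Submonoid.powers g)
    (by rintro _ ⟨k, rfl⟩; exact hu.pow k)
  set rs' := rs.map e.symm with hrs'
  have hreg' : RingTheory.Sequence.IsRegular R rs' := by
    refine (e.symm.toRingEquiv.toAddEquiv.isRegular_congr ?_).mp hreg
    exact List.forall₂_map_right_iff.mpr
      (List.forall₂_same.mpr fun r _ x => map_mul e.symm r x)
  have hofl : Ideal.ofList rs' = m := by
    have h1 := congrArg (Ideal.map e.symm.toAlgHom.toRingHom) hrs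
    rw [Ideal.map_ofList, Ideal.map_map] at h1
    have h2 : e.symm.toAlgHom.toRingHom.comp (algebraMap R (Localization.Away g)) = RingHom.id R :=
      RingHom.ext fun x => e.symm.commutes x
    rw [h2, Ideal.map_id] at h1
    exact h1
  have hlen : (rs'.length : WithBot ℕ∞) =
      projectiveDimension (ModuleCat.of R (IsLocalRing.ResidueField R)) := by
    rw [← ModuleCat.projectiveDimension_quotient_eq_length.{u} rs' hreg']
    refine projectiveDimension_eq_of_iso (LinearEquiv.toModuleIso ?_)
    exact (Shrink.linearEquiv R _).trans (Submodule.quotEquivOfEq _ _ hofl)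
  have hlt : rs'.length < d := by
    have := (projectiveDimension_lt_iff (n := d)).mpr hd
    rw [← hlen] at this
    exact_mod_cast this
  refine lt_of_le_of_lt ?_ hlt
  rw [← IsLocalRing.spanFinrank_maximalIdeal_eq_finrank_cotangentSpace]
  classical
  calc (IsLocalRing.maximalIdeal R).spanFinrank
      ≤ (↑rs'.toFinset : Set R).ncard := by
        rw [← hm, ← hofl, Ideal.ofList, show {r | r ∈ rs'} = (↑rs'.toFinset : Set R) by ext; simp]
        exact Submodule.spanFinrank_span_le_ncard_of_finite (Finset.finite_toSet _)
    _ ≤ rs'.length := by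
        rw [Set.ncard_coe_finset]
        exact List.toFinset_card_le rs'

end Groth.Agent.S2061
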