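import Groth.Statements.S2062
import Groth.Agent.Lib.DepthFlat.Basic
-- import your own Groth.Agent.* helpers here

set_option autoImplicit false
universe u
open CAlg

namespace Groth.Agent.S2062

open TensorProduct in
/-- Let `R → S` be a local homomorphism of Noetherian local rings, `M` a finite `R`-module and `N` a
finite `S`-module flat over `R`. Then the depth of the `S`-module `N ⊗_R M` is the depth of `M` plus
the depth of the `S`-module `N/𝔪_R N`. -/
theorem result {R S M N : Type u} [CommRing R] [CommRing S] [IsLocalRing R] [IsLocalRing S]
    [IsNoetherianRing R] [IsNoetherianRing S] [Algebra R S] [IsLocalHom (algebraMap R S)]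
    [AddCommGroup M] [Module R M] [Module.Finite R M] [AddCommGroup N] [Module S N] [Module R N]
    [IsScalarTower R S N] [Module.Finite S N] [Module.Flat R N] :
    LocCoh.depth S (N ⊗[R] M) =
      LocCoh.depth R M + LocCoh.depth S
        (N ⧸ (IsLocalRing.maximalIdeal R).map (algebraMap R S) • (⊤ : Submodule S N)) := by
  exact GrothLib.DepthFlat.depth_tensor

end Groth.Agent.S2062
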