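import Groth.Statements.S2064
import Mathlib
import Groth.Agent.Lib.BEExact.Basic
-- import your own Groth.Agent.* helpers here

set_option autoImplicit false
universe u
open CategoryTheory
open CAlg

namespace Groth.Agent.S2064

/-- Let `R` be a Noetherian local ring and `0 → M_e → M_{e-1} → … → M_0` a complex of finite `R`-modules
with `depth(M_j) ≥ j`. If `i > 0` is the largest index at which the complex is not exact, then the
homology at `M_i` has depth at least one. -/
theorem result {R : Type u} [CommRing R] [IsLocalRing R] [IsNoetherianRing R]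
    (C : ChainComplex (ModuleCat.{u} R) ℕ) (e : ℕ) (hzero : ∀ j, e < j → Limits.IsZero (C.X j))
    (hfin : ∀ j, Module.Finite R (C.X j)) (hdepth : ∀ j, j ≤ e → (j : ℕ∞) ≤ LocCoh.depth R (C.X j))
    (i : ℕ) (hi : 0 < i) (hnot : ¬ C.ExactAt i) (habove : ∀ j, i < j → C.ExactAt j) :
    1 ≤ LocCoh.depth R (C.homology i) := by
  let J := IsLocalRing.maximalIdeal R
  by_cases hie : e < i
  · exact absurd ((C.sc i).exact_of_isZero_X₂ (hzero i hie)) hnot
  let d : ∀ j, C.X (j + 1) →ₗ[R] C.X j := fun j => (C.d (j + 1) j).hom
  haveI hsub : ∀ j, e < j → Subsingleton (C.X j) := fun j hj => ModuleCat.subsingleton_of_isZero (hzero j hj)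
  have hinj : Function.Injective (d (e + 1 - 1)) := fun a b _ => by
    haveI := hsub (e + 1 - 1 + 1) (by omega)
    exact Subsingleton.elim a b
  have hdep : ∀ j, j ≤ e + 1 → (j : ℕ∞) ≤ LocCoh.idealDepth J (C.X j) := fun j hj => by
    by_cases h : j ≤ e
    · exact hdepth j h
    · haveI := hsub j (by omega)
      rw [GrothLib.BEExact.idealDepth_eq_top_of_subsingleton]
      exact le_top
  haveI : ∀ j, Module.Finite R (C.X j) := hfin
  have hex : ∀ j, i ≤ j → j + 2 ≤ e + 1 → LinearMap.ker (d j) = LinearMap.range (d (j + 1)) := fun j hj hj' =>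
    ((ShortComplex.moduleCat_exact_iff_range_eq_ker _).1
      ((C.exactAt_iff' (j + 1 + 1) (j + 1) j (by simp) (by simp)).1 (habove (j + 1) (by omega)))).symm
  have hcoker := GrothLib.BEExact.le_depth_coker J d (e + 1) hinj hdep i (by omega) hex
  let q := ((C.opcyclesIsCokernel (i + 1) i (by simp)).coconePointUniqueUpToIso
    (ModuleCat.cokernelIsColimit (C.d (i + 1) i))).toLinearEquiv
  let f : C.homology i →ₗ[R] (C.X i ⧸ LinearMap.range (d i)) := q.toLinearMap ∘ₗ (C.homologyι i).hom
  have hf : Function.Injective f :=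
    q.injective.comp ((ModuleCat.mono_iff_injective (C.homologyι i)).1 inferInstance)
  haveI : Module.Finite R (C.homology i) := Module.Finite.of_injective f hf
  exact GrothLib.BEExact.one_le_of_injective J f hf (le_trans (by exact_mod_cast hi) hcoker)

end Groth.Agent.S2064
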