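import Groth.Statements.S2065
import Mathlib
import Groth.Agent.Lib.BEExact.Ranks
-- import your own Groth.Agent.* helpers here

set_option autoImplicit false
universe u
open CAlg

namespace Groth.Agent.S2065

/-- Let `R` be a Noetherian local ring and `0 → R^{n_e} → … → R^{n_1} → R^{n_0}` a complex of finite
free modules, the map `R^{n_{i+1}} → R^{n_i}` being given by the matrix `A i`. The complex is exact
at `R^{n_e}, …, R^{n_1}` if and only if for each `1 ≤ j ≤ e` the matrix of `R^{n_j} → R^{n_{j-1}}`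
has rank `n_j - n_{j+1} + … ± n_e` and its ideal of minors of that size is the unit ideal or
contains a regular sequence of length `j`. -/
theorem result {R : Type u} [CommRing R] [IsLocalRing R] [IsNoetherianRing R]
    (e : ℕ) (he : 1 ≤ e) (n : ℕ → ℕ) (A : (i : ℕ) → Matrix (Fin (n i)) (Fin (n (i + 1))) R)
    (hA : ∀ i, i + 2 ≤ e → A i * A (i + 1) = 0) :
    (LinearMap.ker (A (e - 1)).mulVecLin = ⊥ ∧
        ∀ i, i + 2 ≤ e → LinearMap.ker (A i).mulVecLin = LinearMap.range (A (i + 1)).mulVecLin) ↔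
      ∀ j, 1 ≤ j → j ≤ e →
        (CAlgX.matrixRank (A (j - 1)) : ℤ) = ∑ t ∈ Finset.Icc j e, (-1 : ℤ) ^ (t - j) * (n t : ℤ) ∧
          (CAlgX.detIdeal (A (j - 1)) = ⊤ ∨
            ∃ rs : List R, rs.length = j ∧ (∀ r ∈ rs, r ∈ CAlgX.detIdeal (A (j - 1))) ∧
              RingTheory.Sequence.IsRegular R rs) := by
  refine ⟨fun h j hj hje => ?_, fun h => ?_⟩
  · obtain ⟨i, rfl⟩ : ∃ i, j = i + 1 := ⟨j - 1, by omega⟩
    have h1 := GrothLib.BEExact.ranks_of_isExact e n A h i (by omega)
    rw [GrothLib.BEExact.σ_eq_sum_Icc] at h1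
    exact h1
  · exact GrothLib.BEExact.isExact_of_ranks e n A he (fun i => CAlgX.matrixRank (A i)) hA
      (fun i hi => by rw [GrothLib.BEExact.σ_eq_sum_Icc]; exact (h (i + 1) (Nat.le_add_left 1 i) hi).1)
      (fun i hi => (h (i + 1) (Nat.le_add_left 1 i) hi).2)

end Groth.Agent.S2065
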