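import Groth.Statements.S2076
import Groth.Agent.Lib.AbsApprox.ClosedStage

set_option autoImplicit false
universe u
open CategoryTheory AlgebraicGeometry
open Lim

namespace Groth.Agent.S2076

/-- Let `X = lim X_i` be a cofiltered limit of quasi-compact schemes over `S` with affine transition
morphisms and `h : Y → X` a closed immersion with `Y → S` locally of finite type. Then `Y → X_i` is
a closed immersion for some `i`. -/
theorem result {I : Type u} [SmallCategory I] [IsCofiltered I] (S : Scheme.{u})
    (D : I ⥤ Over S) (c : Limits.Cone D) (hc : Limits.IsLimit c)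
    [∀ (i j : I) (f : i ⟶ j), IsAffineHom (D.map f).left] [∀ i, CompactSpace (D.obj i).left]
    {Y : Scheme.{u}} (h : Y ⟶ c.pt.left) [IsClosedImmersion h] [LocallyOfFiniteType (h ≫ c.pt.hom)] :
    ∃ i : I, IsClosedImmersion (h ≫ (c.π.app i).left) := by
    haveI : ∀ (i j : I) (f : i ⟶ j), IsAffineHom ((D ⋙ Over.forget S).map f) :=
      fun i j f => ‹∀ (i j : I) (f : i ⟶ j), IsAffineHom (D.map f).left› i j f
    haveI : ∀ i, CompactSpace ↥((D ⋙ Over.forget S).obj i) := fun i => ‹∀ i, CompactSpace (D.obj i).left› i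
    have hl := Limits.isLimitOfPreserves (Over.forget S) hc
    obtain ⟨i₀⟩ := IsCofiltered.nonempty (C := I)
    let h' : Y ⟶ ((Over.forget S).mapCone c).pt := h
    haveI : IsClosedImmersion h' := ‹IsClosedImmersion h›
    haveI : LocallyOfFiniteType (h' ≫ ((Over.forget S).mapCone c).π.app i₀) := by
      haveI : LocallyOfFiniteType ((h ≫ (c.π.app i₀).left) ≫ (D.obj i₀).hom) := by
        have e : (h ≫ (c.π.app i₀).left) ≫ (D.obj i₀).hom = h ≫ c.pt.hom := by
          rw [Category.assoc, Over.w (c.π.app i₀)]
          rfl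
        rw [e]
        infer_instance
      exact locallyOfFiniteType_of_comp (h ≫ (c.π.app i₀).left) (D.obj i₀).hom
    obtain ⟨k, hk⟩ := GrothLib.AbsApprox.exists_isClosedImmersion_stage (D ⋙ Over.forget S) _ hl h' i₀
    exact ⟨k, hk k (𝟙 k)⟩

end Groth.Agent.S2076
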