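import Groth.Statements.S2080
import Groth.Agent.Lib.GenFinite9.Basic

set_option autoImplicit false
universe u
open CategoryTheory AlgebraicGeometry
open Mor

namespace Groth.Agent.S2080

/-- Let `f : X → Y` be locally of finite type, quasi-compact and quasi-separated, and `η` a generic
point of an irreducible component of `Y`. Then `f⁻¹{η}` is finite if and only if there is an affine
open `V ∋ η` such that `f⁻¹(V) → V` is finite. -/
theorem result {X Y : Scheme.{u}} (f : X ⟶ Y) [LocallyOfFiniteType f]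
    [QuasiCompact f] [QuasiSeparated f] (η : Y) (hη : closure {η} ∈ irreducibleComponents (Y : Type u)) :
    (f.base ⁻¹' {η}).Finite ↔ ∃ V : Y.Opens, IsAffineOpen V ∧ η ∈ V ∧ IsFinite (f ∣_ V) := by
  refine ⟨fun h ↦ GrothLib.GenFinite9.exists_affine_finite f η hη h, ?_⟩
  rintro ⟨V, -, hηV, hfin⟩
  have h := (f ∣_ V).finite_preimage_singleton ⟨η, hηV⟩
  refine (h.image (f ⁻¹ᵁ V).ι).subset fun x hx ↦ ?_
  have hxV : x ∈ f ⁻¹ᵁ V := by
    change f x ∈ V
    rw [show f x = η from hx]
    exact hηV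
  refine ⟨⟨x, hxV⟩, Subtype.ext ?_, rfl⟩
  refine Eq.trans ?_ (show f x = η from hx)
  change ((f ∣_ V) ≫ V.ι) ⟨x, hxV⟩ = f x
  rw [morphismRestrict_ι]
  rfl

end Groth.Agent.S2080
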