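import Groth.Statements.S2081
import Groth.Agent.Lib.GenFinite9.Basic

set_option autoImplicit false
universe u
open CategoryTheory AlgebraicGeometry
open Mor

namespace Groth.Agent.S2081

/-- Let `f : X → Y` be locally of finite type and quasi-compact. Suppose `X` and `Y` have finitely many
irreducible components and that a point of `X` is a generic point of an irreducible component
exactly when its image is one in `Y`. Then `f⁻¹(V) → V` is finite for some dense open `V ⊆ Y`. -/
theorem result {X Y : Scheme.{u}} (f : X ⟶ Y) [LocallyOfFiniteType f]
    [QuasiCompact f] (hX : (irreducibleComponents (X : Type u)).Finite) (hY : (irreducibleComponents (Y : Type u)).Finite)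
    (hgen : ∀ x : X, closure {x} ∈ irreducibleComponents (X : Type u) ↔
      closure {f.base x} ∈ irreducibleComponents (Y : Type u)) :
    ∃ V : Y.Opens, Dense (V : Set Y) ∧ IsFinite (f ∣_ V) := by
  refine GrothLib.GenFinite9.exists_dense_finite f fun η hη x hx ↦
    GrothLib.GenFinite9.quasiFiniteAt_of_finite_fibre f ?_
  have hfin : {x : X | closure {x} ∈ irreducibleComponents (X : Type u)}.Finite :=
    Set.Finite.of_finite_image (hX.subset (Set.image_subset_iff.mpr fun z hz ↦ hz))
      fun a _ b _ h ↦ (Specializes.antisymm (specializes_iff_closure_subset.mpr h.ge)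
        (specializes_iff_closure_subset.mpr h.le)).eq
  refine hfin.subset fun z hz ↦ (hgen z).mpr ?_
  rw [show f z = f x from hz, hx]
  exact hη

end Groth.Agent.S2081
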