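import Groth.Statements.S2083
import Groth.Agent.Lib.Depth.CM
-- import your own Groth.Agent.* helpers here

set_option autoImplicit false
universe u
open CAlg

namespace Groth.Agent.S2083

/-- Let `R` be a Noetherian local ring, `M` a finite Cohen–Macaulay `R`-module and `g` a member of the
maximal ideal for which the support of `M/gM` has dimension exactly one less than that of `M`. Then
`g` is a nonzerodivisor on `M`, and the quotient `M/gM` is again Cohen–Macaulay, with depth one
smaller than that of `M`. -/
theorem result {R M : Type u} [CommRing R] [IsLocalRing R] [IsNoetherianRing R]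
    [AddCommGroup M] [Module R M] [Module.Finite R M] (hM : LocCoh.IsCohenMacaulayModule R M) (g : R)
    (hg : g ∈ IsLocalRing.maximalIdeal R)
    (hdim : Module.supportDim R (M ⧸ Ideal.span {g} • (⊤ : Submodule R M)) + 1 = Module.supportDim R M) :
    IsSMulRegular M g ∧ LocCoh.IsCohenMacaulayModule R (M ⧸ Ideal.span {g} • (⊤ : Submodule R M)) ∧
      LocCoh.depth R (M ⧸ Ideal.span {g} • (⊤ : Submodule R M)) + 1 = LocCoh.depth R M := by
  haveI := GrothLib.Depth.nontrivial_of_isCM hM
  have hreg : IsSMulRegular M g := by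
    by_contra hreg
    have h' : g ∈ ⋃ p ∈ associatedPrimes R M, (p : Set R) := by
      rw [biUnion_associatedPrimes_eq_compl_regular]; exact hreg
    obtain ⟨p, hp, hgp⟩ := Set.mem_iUnion₂.1 h'
    haveI := hp.isPrime
    have hge : Module.supportDim R M ≤ ringKrullDim (R ⧸ p) := by
      rw [hM]
      exact GrothLib.Depth.depth_le_dim_quotient hp
    have hle : ringKrullDim (R ⧸ p) ≤ Module.supportDim R (M ⧸ Ideal.span {g} • (⊤ : Submodule R M)) := by
      rw [Module.supportDim_eq_ringKrullDim_quotient_annihilator]
      have hmem : (⟨p, hp.isPrime⟩ : PrimeSpectrum R) ∈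
          Module.support R (M ⧸ Ideal.span {g} • (⊤ : Submodule R M)) := by
        rw [Module.support_quotient]
        refine ⟨Module.mem_support_iff_of_finite.2
          (le_of_eq_of_le Submodule.annihilator_top.symm (IsAssociatedPrime.annihilator_le hp)), ?_⟩
        exact (Ideal.span_singleton_le_iff_mem p).2 hgp
      have hle := Module.mem_support_iff_of_finite.1 hmem
      exact ringKrullDim_le_of_surjective (Ideal.Quotient.factor hle) (Ideal.Quotient.factor_surjective hle)
    obtain ⟨d, hd⟩ := ENat.ne_top_iff_exists.1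
      (GrothLib.Depth.idealDepth_ne_top (M := M) (IsLocalRing.maximalIdeal.isMaximal R).ne_top)
    have hMd : Module.supportDim R M = ((d : ℕ∞) : WithBot ℕ∞) := by rw [hM, LocCoh.depth, ← hd]
    have h3 := add_le_add (hge.trans hle) (le_refl (1 : WithBot ℕ∞))
    rw [hdim, hMd] at h3
    exact Nat.not_succ_le_self d (by exact_mod_cast h3)
  let e : QuotSMulTop g M ≃ₗ[R] M ⧸ Ideal.span {g} • (⊤ : Submodule R M) :=
    Submodule.quotEquivOfEq _ _ (Submodule.ideal_span_singleton_smul g ⊤).symm
  have hdep : LocCoh.idealDepth (IsLocalRing.maximalIdeal R) (QuotSMulTop g M) =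
      LocCoh.idealDepth (IsLocalRing.maximalIdeal R) (M ⧸ Ideal.span {g} • (⊤ : Submodule R M)) :=
    GrothLib.Depth.idealDepth_eq_of_equiv _ e
  refine ⟨hreg, ?_, ?_⟩
  · have h := GrothLib.Depth.isCM_quotSMulTop hM hg hreg
    unfold LocCoh.IsCohenMacaulayModule LocCoh.depth at h ⊢
    rw [← Module.supportDim_eq_of_equiv e, h, hdep]
  · rw [LocCoh.depth, LocCoh.depth, ← hdep]
    exact GrothLib.Depth.idealDepth_quotSMulTop_add_one _ hg hreg

end Groth.Agent.S2083
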