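import Groth.Statements.S2084
import Groth.Agent.Lib.CMModule.Chains
-- import your own Groth.Agent.* helpers here

set_option autoImplicit false
universe u
open CAlg

namespace Groth.Agent.S2084

/-- Let `R` be a Noetherian local ring admitting a finite Cohen–Macaulay module whose support is all of
`Spec R`. Then every maximal chain of prime ideals (starting at a minimal prime, ending at the
maximal ideal, with no prime strictly between consecutive members) has length equal to the dimension
of `R`. -/
theorem result {R M : Type u} [CommRing R] [IsLocalRing R] [IsNoetherianRing R]
    [AddCommGroup M] [Module R M] [Module.Finite R M] (hM : LocCoh.IsCohenMacaulayModule R M)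
    (hsupp : Module.support R M = Set.univ) (s : LTSeries (PrimeSpectrum R))
    (hhead : s.head.asIdeal ∈ minimalPrimes R) (hlast : s.last.asIdeal = IsLocalRing.maximalIdeal R)
    (hsat : ∀ i : Fin s.length, s (Fin.castSucc i) ⋖ s (Fin.succ i)) :
    (s.length : WithBot ℕ∞) = ringKrullDim R := by
  have key : ∀ i : Fin (s.length + 1), (s i).asIdeal.height = (i : ℕ) := by
    intro i
    induction i using Fin.induction with
    | zero =>
      simp only [Fin.val_zero, Nat.cast_zero]
      exact Ideal.height_eq_zero_iff.2 hhead
    | succ i ih =>
      refine le_antisymm ?_ ?_
      · refine (GrothLib.CMModule.height_le_succ hM hsupp _ _ (hsat i)).trans ?_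
        rw [ih]
        simp
      · have h1 : (s i.castSucc).asIdeal.height < (s i.succ).asIdeal.height :=
          Ideal.height_strict_mono_of_isPrime ((PrimeSpectrum.asIdeal_lt_asIdeal _ _).2 (s.step i))
        rw [ih] at h1
        simpa using Order.add_one_le_of_lt h1
  rw [← IsLocalRing.maximalIdeal_height_eq_ringKrullDim, ← hlast]
  exact (congrArg WithBot.some (key (Fin.last s.length))).symm

end Groth.Agent.S2084
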