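import Groth.Statements.S2085
import Groth.Agent.Lib.CMBasics.Basic
-- import your own Groth.Agent.* helpers here

set_option autoImplicit false
universe u
open CAlg

namespace Groth.Agent.S2085

/-- Let `M` be a finite module over a Noetherian ring `R`. Then every associated prime of `M` is minimal
in the support of `M` (no embedded primes) if and only if `M` satisfies Serre's condition `(S_1)`. -/
theorem result {R M : Type u} [CommRing R] [IsNoetherianRing R] [AddCommGroup M] [Module R M]
    [Module.Finite R M] :
    (∀ p ∈ associatedPrimes R M, p ∈ (Module.annihilator R M).minimalPrimes) ↔ LocCoh.HasSk 1 R M := by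
  classical
  have hass : ∀ (p : Ideal R) [p.IsPrime], LocCoh.depth (Localization.AtPrime p) (LocalizedModule p.primeCompl M) = 0 ↔ p ∈ associatedPrimes R M := by
    intro p _
    have : IsNoetherianRing (Localization.AtPrime p) := IsLocalization.isNoetherianRing p.primeCompl _ inferInstance
    have : Module.Finite (Localization.AtPrime p) (LocalizedModule p.primeCompl M) :=
      Module.Finite.of_isLocalizedModule p.primeCompl (LocalizedModule.mkLinearMap p.primeCompl M)
    rw [GrothLib.CMBasics.depth_eq_zero_iff, ← Module.associatedPrimes.preimage_comap_associatedPrimes_eq_associatedPrimes_of_isLocalizedModule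
      p.primeCompl (Localization.AtPrime p) (LocalizedModule.mkLinearMap p.primeCompl M), Set.mem_preimage,
      ← Ideal.under_def, IsLocalization.AtPrime.under_maximalIdeal (Localization.AtPrime p) p]
  constructor
  · intro h p _
    by_cases hd : LocCoh.depth (Localization.AtPrime p) (LocalizedModule p.primeCompl M) = 0
    · have hmin := h p ((hass p).mp hd)
      refine le_trans (min_le_right _ _) (le_trans ?_ (show ((0 : ℕ∞) : WithBot ℕ∞) ≤ _ from WithBot.coe_le_coe.mpr zero_le))
      rw [GrothLib.GrLC.supportDim_localized, WithBot.coe_zero]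
      have : Subsingleton {q : PrimeSpectrum R // q ∈ Module.support R M ∧ q.asIdeal ≤ p} := by
        have key : ∀ q : {q : PrimeSpectrum R // q ∈ Module.support R M ∧ q.asIdeal ≤ p}, q.1.asIdeal = p := fun q ↦
          le_antisymm q.2.2 (hmin.2 ⟨q.1.2, Module.mem_support_iff_of_finite.mp q.2.1⟩ q.2.2)
        exact ⟨fun a b ↦ Subtype.ext (PrimeSpectrum.ext ((key a).trans (key b).symm))⟩
      exact Order.krullDim_nonpos_of_subsingleton
    · refine le_trans (min_le_left _ _) ?_
      exact_mod_cast Order.one_le_iff_pos.mpr (pos_iff_ne_zero.mpr hd)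
  · intro h p hp
    haveI := hp.isPrime
    have h1 := h p
    rw [(hass p).mpr hp, GrothLib.GrLC.supportDim_localized, WithBot.coe_zero] at h1
    have hd0 : Order.krullDim {q : PrimeSpectrum R // q ∈ Module.support R M ∧ q.asIdeal ≤ p} ≤ 0 := by
      rcases min_le_iff.mp h1 with h2 | h2
      · exact absurd h2 (by simp)
      · exact h2
    have hann : Module.annihilator R M ≤ p :=
      le_of_eq_of_le Submodule.annihilator_top.symm (IsAssociatedPrime.annihilator_le hp)
    refine ⟨⟨hp.isPrime, hann⟩, fun q hq hqp ↦ ?_⟩
    rw [Order.krullDim_nonpos_iff_forall_isMax] at hd0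
    exact hd0 ⟨⟨q, hq.1⟩, Module.mem_support_iff_of_finite.mpr hq.2, hqp⟩
      (b := ⟨⟨p, hp.isPrime⟩, Module.mem_support_iff_of_finite.mpr hann, le_rfl⟩) hqp

end Groth.Agent.S2085
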