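import Groth.Statements.S2088
import Mathlib
import Groth.Agent.Lib.Gonflement.General
-- import your own Groth.Agent.* helpers here

set_option autoImplicit false
universe u
open CAlg

namespace Groth.Agent.S2088

/-- Let `(R, 𝔪, k)` be a local ring and `K/k` a field extension. Then there is a flat local homomorphism
of local rings `R → R'` with `𝔪R' = 𝔪_{R'}` whose residue field is isomorphic to `K` over `k`. -/
theorem result {R K : Type u} [CommRing R] [IsLocalRing R] [Field K]
    [Algebra (IsLocalRing.ResidueField R) K] :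
    ∃ (R' : Type u) (_ : CommRing R') (_ : IsLocalRing R') (_ : Algebra R R') (_ : IsLocalHom (algebraMap R R')),
      Module.Flat R R' ∧ (IsLocalRing.maximalIdeal R).map (algebraMap R R') = IsLocalRing.maximalIdeal R' ∧
      Nonempty (IsLocalRing.ResidueField R' ≃ₐ[IsLocalRing.ResidueField R] K) := by
  obtain ⟨B, iB, φ, ψ, hL, hF, hS, hK, hc⟩ := GrothLib.Gonflement.exists_flat_local_general (R := R) K
  haveI := hL
  letI : Algebra R B := φ.toAlgebra
  have hm : RingHom.ker ψ = IsLocalRing.maximalIdeal B :=
    IsLocalRing.eq_maximalIdeal (RingHom.ker_isMaximal_of_surjective ψ hS)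
  have hmap : (IsLocalRing.maximalIdeal R).map (algebraMap R B) = IsLocalRing.maximalIdeal B := hK ▸ hm
  haveI hloc : IsLocalHom (algebraMap R B) := ((IsLocalRing.local_hom_TFAE _).out 0 2).2 hmap.le
  refine ⟨B, iB, hL, φ.toAlgebra, hloc, hF, hmap, ⟨?_⟩⟩
  let e : IsLocalRing.ResidueField B ≃+* K :=
    (Ideal.quotEquivOfEq hm.symm).trans (RingHom.quotientKerEquivOfSurjective hS)
  refine AlgEquiv.ofRingEquiv (f := e) ?_
  intro x
  obtain ⟨a, rfl⟩ := IsLocalRing.residue_surjective x
  show ψ (φ a) = _
  exact RingHom.congr_fun hc a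

end Groth.Agent.S2088
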