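import Groth.Statements.S2090
import Groth.Agent.Lib.DepthKer.DepthTwo
-- import your own Groth.Agent.* helpers here

set_option autoImplicit false
universe u
open CAlg

namespace Groth.Agent.S2090

/-- Let `R` be Noetherian and `φ : M → N` a map of `R`-modules with `M` finite. Suppose that for every
prime `𝔭` either `φ_𝔭` is bijective, or `M_𝔭` has depth at least two and `𝔭` is not an associated
prime of `N`. Then `φ` is bijective. -/
theorem result {R M N : Type u} [CommRing R] [IsNoetherianRing R] [AddCommGroup M]
    [Module R M] [Module.Finite R M] [AddCommGroup N] [Module R N] (φ : M →ₗ[R] N)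
    (h : ∀ (p : Ideal R) [p.IsPrime],
      Function.Bijective (LocalizedModule.map p.primeCompl φ) ∨
        (2 ≤ LocCoh.depth (Localization.AtPrime p) (LocalizedModule p.primeCompl M) ∧
          p ∉ associatedPrimes R N)) :
    Function.Bijective φ := by
  exact GrothLib.DepthKer.bijective_of_depth_two φ h

end Groth.Agent.S2090
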