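import Groth.Statements.S2093
import Groth.Agent.Lib.RedCompl.Basic
-- import your own Groth.Agent.* helpers here

set_option autoImplicit false
universe u
open CAlg

namespace Groth.Agent.S2093

/-- Let `(R, 𝔪)` be a Noetherian local domain and `x ∈ 𝔪` nonzero such that `R/xR` has no embedded
associated primes, and for every associated prime `𝔭` of `R/xR` the local ring `R_𝔭` is regular and
the completion of `R/𝔭` is reduced. Then the completion of `R` is reduced. -/
theorem result {R : Type u} [CommRing R] [IsDomain R] [IsLocalRing R]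
    [IsNoetherianRing R] (x : R) (hx : x ≠ 0) (hxm : x ∈ IsLocalRing.maximalIdeal R)
    (hemb : ∀ p ∈ associatedPrimes R (R ⧸ Ideal.span {x}), p ∈ (Ideal.span {x}).minimalPrimes)
    (hreg : ∀ p ∈ associatedPrimes R (R ⧸ Ideal.span {x}), ∀ (_ : p.IsPrime),
      IsRegularLocalRing (Localization.AtPrime p) ∧
        IsReduced (AdicCompletion ((IsLocalRing.maximalIdeal R).map (Ideal.Quotient.mk p)) (R ⧸ p))) :
    IsReduced (AdicCompletion (IsLocalRing.maximalIdeal R) R) := by
  set Rh := AdicCompletion (IsLocalRing.maximalIdeal R) R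
  haveI : Module.Flat R Rh := AdicCompletion.flat_of_isNoetherian _
  haveI : Module.Finite R R := inferInstance
  suffices h : nilradical Rh ≤ (Ideal.span {algebraMap R Rh x}) * nilradical Rh by
    exact ⟨fun z hz => by
      have h1 : z ∈ (⊥ : Ideal Rh) := GrothLib.RedCompl.eq_bot_of_le_mul hxm h ▸ mem_nilradical.2 hz
      simpa using h1⟩
  intro z hz
  obtain ⟨t, htp, htz⟩ := GrothLib.RedCompl.exists_avoid (x := x) (T := fun t => algebraMap R Rh t * z ∈ Ideal.span {algebraMap R Rh x})
    (fun a b ha hb => by rw [map_add, add_mul]; exact add_mem ha hb)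
    (by rw [map_zero, zero_mul]; exact zero_mem _)
    (fun a b hb => by rw [map_mul, mul_assoc]; exact Ideal.mul_mem_left _ _ hb)
    fun p hp => haveI : p.IsPrime := hp.isPrime
    GrothLib.RedCompl.exists_mul_mem_span x hx p (hemb p hp) (hreg p hp hp.isPrime).1
      (hreg p hp hp.isPrime).2 z hz
  obtain ⟨w, hw⟩ := Ideal.mem_span_singleton'.1 (GrothLib.RedCompl.mem_span_of_mul_mem t htp z htz)
  rw [← hw, mul_comm w]
  refine Ideal.mul_mem_mul (Ideal.mem_span_singleton_self _) ?_
  rw [mem_nilradical] at hz ⊢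
  obtain ⟨N, hN⟩ := hz
  rw [← hw, mul_pow, ← map_pow] at hN
  exact ⟨N, GrothLib.RedCompl.eq_zero_of_mul_eq_zero (x ^ N) (pow_ne_zero _ hx) _ (by rwa [mul_comm] at hN)⟩

end Groth.Agent.S2093
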