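import Groth.Statements.S2094
import Groth.Agent.S4532
import Mathlib.Algebra.TrivSqZeroExt.Basic
import Mathlib.RingTheory.Smooth.Basic

set_option autoImplicit false
universe u
open CAlg

namespace Groth.Agent.S2094

open TrivSqZeroExt in
theorem finite_of_finiteType {A M : Type u} [CommRing A] [AddCommGroup M] [Module A M]
    [Algebra.FiniteType A (SymmetricAlgebra A M)] : Module.Finite A M := by
  classical
  letI : Module Aᵐᵒᵖ M := Module.compHom M ((RingHom.id A).fromOpposite mul_comm)
  haveI : IsCentralScalar A M := ⟨fun r m => rfl⟩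
  obtain ⟨S, hS⟩ := (inferInstance : Algebra.FiniteType A (SymmetricAlgebra A M)).out
  let ev : SymmetricAlgebra A M →ₐ[A] TrivSqZeroExt A M := SymmetricAlgebra.lift (TrivSqZeroExt.inrHom A M)
  let N := Submodule.span A ((fun s => (ev s).snd) '' (S : Set (SymmetricAlgebra A M)))
  have hall : ∀ z, (ev z).snd ∈ N := by
    intro z
    have hz : z ∈ Algebra.adjoin A (S : Set (SymmetricAlgebra A M)) := hS ▸ Algebra.mem_top
    induction hz using Algebra.adjoin_induction with
    | mem x hx => exact Submodule.subset_span ⟨x, hx, rfl⟩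
    | algebraMap r => rw [AlgHom.commutes, TrivSqZeroExt.algebraMap_eq_inl, snd_inl]; exact N.zero_mem
    | add x y _ _ hx hy => rw [map_add, snd_add]; exact add_mem hx hy
    | mul x y _ _ hx hy =>
      rw [map_mul, snd_mul, op_smul_eq_smul]
      exact add_mem (N.smul_mem _ hy) (N.smul_mem _ hx)
  refine ⟨⟨S.image fun s => (ev s).snd, ?_⟩⟩
  rw [Finset.coe_image, eq_top_iff]
  intro x _
  have h := hall (SymmetricAlgebra.ι A M x)
  rwa [SymmetricAlgebra.lift_ι_apply, inrHom_apply, snd_inr] at h

open TrivSqZeroExt in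
theorem projective_of_formallySmooth {A M : Type u} [CommRing A] [AddCommGroup M] [Module A M]
    [Algebra.FormallySmooth A (SymmetricAlgebra A M)] : Module.Projective A M := by
  letI : Module Aᵐᵒᵖ M := Module.compHom M ((RingHom.id A).fromOpposite mul_comm)
  haveI : IsCentralScalar A M := ⟨fun r m => rfl⟩
  let F := M →₀ A
  let π : (M →₀ A) →ₗ[A] M := Finsupp.linearCombination A id
  let Φ : TrivSqZeroExt A (M →₀ A) →ₐ[A] TrivSqZeroExt A M := TrivSqZeroExt.map π
  let ψ : SymmetricAlgebra A M →ₐ[A] TrivSqZeroExt A M := SymmetricAlgebra.lift (TrivSqZeroExt.inrHom A M)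
  have hs : Function.Surjective Φ := fun z => by
    obtain ⟨w, hw⟩ : ∃ w, π w = z.snd := ⟨Finsupp.single z.snd 1, by simp [π]⟩
    exact ⟨inl z.fst + inr w, TrivSqZeroExt.ext (by simp [Φ]) (by simp [Φ, hw])⟩
  have hnil : IsNilpotent (RingHom.ker Φ.toRingHom) := ⟨2, by
    rw [Submodule.pow_succ, Submodule.pow_one, Ideal.zero_eq_bot, eq_bot_iff, Ideal.mul_le]
    intro x hx y hy
    have hx' : x.fst = 0 := by simpa [Φ] using congrArg TrivSqZeroExt.fst (show Φ x = 0 from hx)
    have hy' : y.fst = 0 := by simpa [Φ] using congrArg TrivSqZeroExt.fst (show Φ y = 0 from hy)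
    rw [Ideal.mem_bot]
    exact TrivSqZeroExt.ext (by simp [hx']) (by simp [snd_mul, hx', hy'])⟩
  let G := Algebra.FormallySmooth.liftOfSurjective ψ Φ hs hnil
  let s : M →ₗ[A] (M →₀ A) :=
    { toFun := fun x => (G (SymmetricAlgebra.ι A M x)).snd
      map_add' := fun x y => by simp
      map_smul' := fun c x => by simp }
  refine Module.Projective.of_split (P := M) (M := M →₀ A) s π (LinearMap.ext fun x => ?_)
  have h : Φ (G (SymmetricAlgebra.ι A M x)) = ψ (SymmetricAlgebra.ι A M x) :=
    Algebra.FormallySmooth.liftOfSurjective_apply ψ Φ hs hnil _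
  have h2 := congrArg TrivSqZeroExt.snd h
  simpa [Φ, ψ, s] using h2

theorem finitePresentation_symmetricAlgebra {A M : Type u} [CommRing A] [AddCommGroup M] [Module A M]
    [Module.Finite A M] [Module.Projective A M] : Algebra.FinitePresentation A (SymmetricAlgebra A M) := by
  classical
  obtain ⟨n, π, hπ⟩ := Module.Finite.exists_fin' A M
  obtain ⟨s, hs⟩ := Module.projective_lifting_property π LinearMap.id hπ
  let r : MvPolynomial (Fin n) A →ₐ[A] SymmetricAlgebra A M :=
    MvPolynomial.aeval fun i => SymmetricAlgebra.ι A M (π (Pi.single i 1))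
  let σ : SymmetricAlgebra A M →ₐ[A] MvPolynomial (Fin n) A :=
    SymmetricAlgebra.lift ((Fintype.linearCombination A fun i => (MvPolynomial.X i : MvPolynomial (Fin n) A)).comp s)
  have hrσ : r.comp σ = AlgHom.id A _ := by
    refine SymmetricAlgebra.algHom_ext (LinearMap.ext fun x => ?_)
    show r (σ (SymmetricAlgebra.ι A M x)) = SymmetricAlgebra.ι A M x
    have hx : π (s x) = x := LinearMap.congr_fun hs x
    rw [SymmetricAlgebra.lift_ι_apply, LinearMap.comp_apply, Fintype.linearCombination_apply, map_sum]
    conv_rhs => rw [← hx, pi_eq_sum_univ' (s x), map_sum, map_sum]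
    refine Finset.sum_congr rfl fun i _ => ?_
    simp [r]
  have hsurj : Function.Surjective r := fun z => ⟨σ z, AlgHom.congr_fun hrσ z⟩
  refine Algebra.FinitePresentation.of_surjective hsurj ?_
  let J : Ideal (MvPolynomial (Fin n) A) :=
    Ideal.span (Set.range fun i => MvPolynomial.X i - σ (r (MvPolynomial.X i)))
  have hmod : ∀ f, f - σ (r f) ∈ J := fun f => by
    have h : (Ideal.Quotient.mkₐ A J).comp (σ.comp r) = Ideal.Quotient.mkₐ A J := MvPolynomial.algHom_ext fun i => by
      refine (Ideal.Quotient.eq.2 ?_).symm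
      exact Ideal.subset_span ⟨i, rfl⟩
    exact Ideal.Quotient.eq.1 (AlgHom.congr_fun h f).symm
  have hker : RingHom.ker r.toRingHom = J := by
    refine le_antisymm (fun f hf => ?_) (Ideal.span_le.2 ?_)
    · have := hmod f
      rwa [show r f = 0 from hf, map_zero, sub_zero] at this
    · rintro _ ⟨i, rfl⟩
      show r (MvPolynomial.X i - σ (r (MvPolynomial.X i))) = 0
      rw [map_sub, show r (σ (r (MvPolynomial.X i))) = r (MvPolynomial.X i) from AlgHom.congr_fun hrσ _, sub_self]
  rw [hker]
  exact ⟨Finset.univ.image fun i => MvPolynomial.X i - σ (r (MvPolynomial.X i)), by simp [J]⟩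



/-- The symmetric algebra of an `A`-module is a smooth `A`-algebra exactly when the module is finite
projective. -/
theorem result {A M : Type u} [CommRing A] [AddCommGroup M] [Module A M] :
    Algebra.Smooth A (SymmetricAlgebra A M) ↔ Module.Finite A M ∧ Module.Projective A M := by
  constructor
  · intro h
    exact ⟨finite_of_finiteType, projective_of_formallySmooth⟩
  · rintro ⟨hf, hp⟩
    haveI := hf
    haveI := hp
    exact ⟨Groth.Agent.S4532.result A M, finitePresentation_symmetricAlgebra⟩

end Groth.Agent.S2094
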