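import Groth.Statements.S2095
import Mathlib

set_option autoImplicit false
universe u
open CAlg

namespace Groth.Agent.S2095

open TensorProduct in
/-- Let `R → S` be a ring map, `𝔫 ⊆ S` an ideal and `R → R'` a ring map admitting an `R`-linear
retraction. If `R' → R' ⊗ S` is formally smooth for the adic topology of the extension of `𝔫`, then
`R → S` is formally smooth for the `𝔫`-adic topology. -/
theorem result {R S R' : Type u} [CommRing R] [CommRing S] [Algebra R S]
    (𝔫 : Ideal S) [CommRing R'] [Algebra R R'] (ρ : R' →ₗ[R] R) (hρ : ∀ r : R, ρ (algebraMap R R' r) = r)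
    (h : CAlgX.IsAdicFormallySmooth R' (R' ⊗[R] S)
      (𝔫.map (Algebra.TensorProduct.includeRight : S →ₐ[R] R' ⊗[R] S))) :
    CAlgX.IsAdicFormallySmooth R S 𝔫 := by
  intro A _ _ J hJ ψ ⟨n, hn⟩
  classical
  let ι : A →ₐ[R] R' ⊗[R] A := Algebra.TensorProduct.includeRight
  let J' : Ideal (R' ⊗[R] A) := J.map ι
  have hJ' : J' ^ 2 = ⊥ := by rw [← Ideal.map_pow, hJ, Ideal.map_bot]
  let θ : A ⧸ J →ₐ[R] (R' ⊗[R] A) ⧸ J' :=
    Ideal.Quotient.liftₐ J ((Ideal.Quotient.mkₐ R J').comp ι) fun a ha =>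
      Ideal.Quotient.eq_zero_iff_mem.2 (Ideal.mem_map_of_mem ι ha)
  let ψ' : R' ⊗[R] S →ₐ[R'] (R' ⊗[R] A) ⧸ J' :=
    Algebra.TensorProduct.lift (Algebra.ofId _ _) (θ.comp ψ) fun _ _ => Commute.all _ _
  have hψ' : ∀ x ∈ (𝔫.map (Algebra.TensorProduct.includeRight : S →ₐ[R] R' ⊗[R] S)) ^ n, ψ' x = 0 := by
    intro x hx
    rw [← Ideal.map_pow] at hx
    refine (Ideal.map_le_iff_le_comap (K := RingHom.ker ψ')).2 (fun s hs => ?_) hx
    show ψ' ((1 : R') ⊗ₜ[R] s) = 0
    rw [Algebra.TensorProduct.lift_tmul, map_one, one_mul, AlgHom.comp_apply, hn s hs, map_zero]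
  obtain ⟨χ', hχ'⟩ := h (R' ⊗[R] A) J' hJ' ψ' ⟨n, hψ'⟩
  choose a ha using fun s : S => Ideal.Quotient.mk_surjective (ψ s)
  let f : MvPolynomial S R →ₐ[R] A := MvPolynomial.aeval a
  let π : MvPolynomial S R →ₐ[R] S := MvPolynomial.aeval id
  have hπ : Function.Surjective π := fun s => ⟨MvPolynomial.X s, MvPolynomial.aeval_X _ _⟩
  have hf : ∀ p, Ideal.Quotient.mk J (f p) = ψ (π p) := fun p => by
    have : (Ideal.Quotient.mkₐ R J).comp f = ψ.comp π :=
      MvPolynomial.algHom_ext fun s => by simp [f, π, ha]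
    exact AlgHom.congr_fun this p
  let r : R' ⊗[R] A →ₗ[R] A :=
    (TensorProduct.lid R A).toLinearMap ∘ₗ TensorProduct.map ρ LinearMap.id
  have hr : ∀ (b : A) (x : R' ⊗[R] A), r (ι b * x) = b * r x := fun b x => by
    induction x using TensorProduct.induction_on with
    | zero => simp
    | tmul s c =>
      simp [r, ι, Algebra.TensorProduct.tmul_mul_tmul]
    | add x y hx hy => rw [mul_add, map_add, map_add, hx, hy, mul_add]
  have hρ1 : ρ (1 : R') = 1 := by rw [← map_one (algebraMap R R'), hρ]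
  have hr1 : ∀ b, r (ι b) = b := fun b => by simp [r, ι, hρ1]
  have hrJ' : ∀ x ∈ J', ∀ c, r (c * x) ∈ J := fun x hx => by
    induction hx using Submodule.span_induction with
    | mem x hx =>
      obtain ⟨j, hj, rfl⟩ := hx
      intro c
      rw [mul_comm c, hr]
      exact J.mul_mem_right _ hj
    | zero => exact fun c => by rw [mul_zero, map_zero]; exact J.zero_mem
    | add x y _ _ hx hy => exact fun c => by rw [mul_add, map_add]; exact J.add_mem (hx c) (hy c)
    | smul d x _ hx => exact fun c => by rw [smul_eq_mul, ← mul_assoc]; exact hx (c * d)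
  have hrJ : ∀ x ∈ J', r x ∈ J := fun x hx => by simpa using hrJ' x hx 1
  let f' : MvPolynomial S R →ₐ[R] R' ⊗[R] A := ι.comp f
  let g' : MvPolynomial S R →ₐ[R] R' ⊗[R] A :=
    (χ'.restrictScalars R).comp ((Algebra.TensorProduct.includeRight : S →ₐ[R] R' ⊗[R] S).comp π)
  have hfg : ∀ p, f' p - g' p ∈ J' := fun p => by
    rw [← Ideal.Quotient.eq_zero_iff_mem, map_sub, sub_eq_zero]
    have h2 := AlgHom.congr_fun hχ' ((1 : R') ⊗ₜ[R] π p)
    show θ (Ideal.Quotient.mk J (f p)) = Ideal.Quotient.mk J' (χ' ((1 : R') ⊗ₜ[R] π p))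
    refine Eq.trans ?_ h2.symm
    show _ = ψ' _
    rw [Algebra.TensorProduct.lift_tmul, map_one, one_mul, AlgHom.comp_apply, hf]
  have hsq : ∀ x ∈ J, ∀ y ∈ J, x * y = 0 := fun x hx y hy => by
    have : x * y ∈ J ^ 2 := pow_two J ▸ Ideal.mul_mem_mul hx hy
    rwa [hJ, Submodule.mem_bot] at this
  have hsq' : ∀ x ∈ J', ∀ y ∈ J', x * y = 0 := fun x hx y hy => by
    have : x * y ∈ J' ^ 2 := pow_two J' ▸ Ideal.mul_mem_mul hx hy
    rwa [hJ', Submodule.mem_bot] at this
  let D : MvPolynomial S R →ₗ[R] A := r ∘ₗ (f'.toLinearMap - g'.toLinearMap)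
  have hDJ : ∀ p, D p ∈ J := fun p => hrJ _ (hfg p)
  have hmul : ∀ p q, f (p * q) - D (p * q) = (f p - D p) * (f q - D q) := fun p q => by
    have e : f' (p * q) - g' (p * q) =
        ι (f p) * (f' q - g' q) + ι (f q) * (f' p - g' p) := by
      have := hsq' _ (hfg p) _ (hfg q)
      have e1 : ι (f p) = f' p := rfl
      have e2 : ι (f q) = f' q := rfl
      rw [e1, e2, map_mul, map_mul]
      linear_combination (-1 : R' ⊗[R] A) * this
    have h1 : D (p * q) = f p * D q + f q * D p := by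
      show r (f' (p * q) - g' (p * q)) = _
      rw [e, map_add, hr, hr]
      rfl
    rw [map_mul, h1]
    linear_combination (-1 : A) * hsq _ (hDJ p) _ (hDJ q)
  have hone : D 1 = 0 := by
    show r (f' 1 - g' 1) = 0
    rw [map_one, map_one, sub_self, map_zero]
  let χ₀ : MvPolynomial S R →ₐ[R] A := AlgHom.ofLinearMap (f.toLinearMap - D)
    (by show f 1 - D 1 = 1; rw [hone, map_one, sub_zero]) hmul
  have hker : RingHom.ker π ≤ RingHom.ker χ₀ := fun p hp => by
    rw [RingHom.mem_ker] at hp ⊢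
    show f p - r (f' p - g' p) = 0
    have : g' p = 0 := by
      show χ' ((1 : R') ⊗ₜ[R] π p) = 0
      rw [hp, TensorProduct.tmul_zero, map_zero]
    rw [this, sub_zero]
    show f p - r (ι (f p)) = 0
    rw [hr1, sub_self]
  refine ⟨AlgHom.liftOfSurjective π hπ χ₀ hker, AlgHom.ext fun s => ?_⟩
  obtain ⟨p, rfl⟩ := hπ s
  show Ideal.Quotient.mk J (AlgHom.liftOfSurjective π hπ χ₀ hker (π p)) = ψ (π p)
  erw [AlgHom.liftOfSurjective_apply]
  show Ideal.Quotient.mk J (f p - D p) = _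
  rw [map_sub, Ideal.Quotient.eq_zero_iff_mem.2 (hDJ p), sub_zero, hf]

end Groth.Agent.S2095
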