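import Groth.Statements.S2096
import Mathlib
import Groth.Agent.Lib.IndEt.Algebra
import Groth.Agent.Lib.IndEt.Comp
import Groth.Agent.Lib.GeomFact.Lift
-- import your own Groth.Agent.* helpers here

set_option autoImplicit false
universe u
open CAlg
open scoped TensorProduct

namespace Groth.Agent.S2096

/-- Let `B` be a Noetherian ind-étale `A`-algebra (a filtered colimit of étale algebras) and `𝔭` a prime
of `A`. Then only finitely many primes of `B` lie over `𝔭`, the fibre ring `B ⊗ κ(𝔭)` is reduced of
dimension zero, and each residue field extension `κ(𝔮)/κ(𝔭)` is separable algebraic. -/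
theorem result {A B : Type u} [CommRing A] [CommRing B] [Algebra A B] (hB : EtPBC.IsIndEtale A B)
    [IsNoetherianRing B] (p : Ideal A) [p.IsPrime] :
    {q : PrimeSpectrum B | q.asIdeal.LiesOver p}.Finite ∧ IsReduced (p.Fiber B) ∧ ringKrullDim (p.Fiber B) ≤ 0 ∧
      ∀ (q : Ideal B) [q.IsPrime] [q.LiesOver p],
        @Algebra.IsSeparable p.ResidueField q.ResidueField _ _
          (Ideal.ResidueField.mapₐ p q (Algebra.ofId A B) (q.over_def p)).toRingHom.toAlgebra := by
  haveI : IsNoetherianRing (p.Fiber B) := by
    haveI : Algebra.EssFiniteType B (B ⊗[A] p.ResidueField) := inferInstance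
    haveI := Algebra.EssFiniteType.isNoetherianRing B (B ⊗[A] p.ResidueField)
    exact isNoetherianRing_of_ringEquiv _ (Algebra.TensorProduct.comm A B p.ResidueField).toRingEquiv
  have hF : EtPBC.IsIndEtale p.ResidueField (p.Fiber B) := GrothLib.IndEt.isIndEtale_baseChange hB
  have hlift : ∀ x : p.Fiber B, ∃ (V : Type u) (_ : CommRing V) (_ : Algebra p.ResidueField V)
      (_ : Algebra.Etale p.ResidueField V) (b : V →ₐ[p.ResidueField] p.Fiber B), x ∈ b.range := fun x => by
    obtain ⟨V, _, _, _, b, v, hv⟩ := GrothLib.IndEt.exists_etale_lift hF (fun _ : Unit => x)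
    exact ⟨V, inferInstance, inferInstance, inferInstance, b, v (), hv ()⟩
  haveI hint : Algebra.IsIntegral p.ResidueField (p.Fiber B) := ⟨fun x => by
    obtain ⟨V, _, _, _, b, v, rfl⟩ := hlift x
    haveI : Module.Finite p.ResidueField V := Algebra.FormallyUnramified.finite_of_free _ _
    exact (IsIntegral.of_finite p.ResidueField v).map b⟩
  haveI : Ring.KrullDimLE 0 (p.Fiber B) := Ring.KrullDimLE.mk₀ fun P hP =>
    haveI := hP
    Ideal.isMaximal_of_isIntegral_of_isMaximal_comap (R := p.ResidueField) P
      ((Ideal.eq_bot_or_top (P.comap (algebraMap p.ResidueField (p.Fiber B)))).resolve_right (Ideal.IsPrime.comap (algebraMap p.ResidueField (p.Fiber B))).ne_top ▸ Ideal.bot_isMaximal)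
  haveI : IsArtinianRing (p.Fiber B) := IsNoetherianRing.isArtinianRing_of_krullDimLE_zero
  refine ⟨?_, ⟨fun x ⟨n, hn⟩ => ?_⟩, ?_, fun q _ _ => ?_⟩
  · have e := PrimeSpectrum.preimageEquivFiber A B ⟨p, inferInstance⟩
    haveI : Finite (PrimeSpectrum.comap (algebraMap A B) ⁻¹' {(⟨p, inferInstance⟩ : PrimeSpectrum A)}) :=
      Finite.of_equiv _ e.symm
    refine (Set.toFinite (PrimeSpectrum.comap (algebraMap A B) ⁻¹' {(⟨p, inferInstance⟩ : PrimeSpectrum A)})).subset ?_
    intro q hq
    exact PrimeSpectrum.ext hq.over.symm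
  · obtain ⟨V, _, _, _, b, hb⟩ := hlift x
    haveI : Algebra.FormallyUnramified p.ResidueField b.range :=
      Algebra.FormallyUnramified.of_surjective b.rangeRestrict b.rangeRestrict_surjective
    haveI : Algebra.FiniteType p.ResidueField b.range :=
      Algebra.FiniteType.of_surjective b.rangeRestrict b.rangeRestrict_surjective
    haveI : IsReduced b.range := Algebra.FormallyUnramified.isReduced_of_field p.ResidueField b.range
    have h0 : (⟨x, hb⟩ : b.range) = 0 := IsReduced.eq_zero _ ⟨n, Subtype.ext (by simpa using hn)⟩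
    exact congrArg Subtype.val h0
  · exact Ring.krullDimLE_iff.1 inferInstance
  · letI := (Ideal.ResidueField.mapₐ p q (Algebra.ofId A B) (q.over_def p)).toRingHom.toAlgebra
    haveI : IsScalarTower A p.ResidueField q.ResidueField := IsScalarTower.of_algebraMap_eq fun a =>
      ((Ideal.ResidueField.mapₐ p q (Algebra.ofId A B) (q.over_def p)).commutes a).symm
    exact GrothLib.GeomFact.isSeparable_residueField hB p q

end Groth.Agent.S2096
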