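import Groth.Statements.S2098
import Groth.Agent.Lib.AdicExtra.Split
-- import your own Groth.Agent.* helpers here

set_option autoImplicit false
universe u
open CAlg

namespace Groth.Agent.S2098

/-- Let `R` be Noetherian, `I` an ideal inside the Jacobson radical and `u : N → M` a map of finite
`R`-modules. If for arbitrarily large `n` the induced map `N/IⁿN → M/IⁿM` has a left inverse, then
`u` has a left inverse. -/
theorem result {R M N : Type u} [CommRing R] [IsNoetherianRing R] (I : Ideal R)
    (hI : I ≤ (⊥ : Ideal R).jacobson) [AddCommGroup M] [Module R M] [Module.Finite R M] [AddCommGroup N] [Module R N]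
    [Module.Finite R N] (u : N →ₗ[R] M)
    (h : ∀ n₀ : ℕ, ∃ n, n₀ ≤ n ∧ ∃ s : (M ⧸ (I ^ n) • (⊤ : Submodule R M)) →ₗ[R] (N ⧸ (I ^ n) • (⊤ : Submodule R N)),
      ∀ x : N, s (Submodule.Quotient.mk (u x)) = Submodule.Quotient.mk x) :
    ∃ s : M →ₗ[R] N, s.comp u = LinearMap.id := by
  exact GrothLib.AdicExtra.exists_leftInverse hI u h

end Groth.Agent.S2098
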