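import Groth.Statements.S2100
import Mathlib
import Groth.Agent.Lib.NoetherInt.Refined
import Groth.Agent.Lib.Dim.Ring
-- import your own Groth.Agent.* helpers here

set_option autoImplicit false
universe u
open CAlg

namespace Groth.Agent.S2100

/-- Let `k` be a field, `𝔮` a prime of `k[x_1, …, x_n]` and `r` the transcendence degree of `κ(𝔮)` over
`k`. Then there is a finite `k`-algebra map `φ : k[y_1, …, y_n] → k[x_1, …, x_n]` with `φ⁻¹(𝔮) =
(y_{r+1}, …, y_n)`. -/
theorem result {k : Type u} [Field k] (n r : ℕ) (q : Ideal (MvPolynomial (Fin n) k))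
    [q.IsPrime] (hr : Algebra.trdeg k q.ResidueField = r) :
    ∃ φ : MvPolynomial (Fin n) k →ₐ[k] MvPolynomial (Fin n) k, φ.toRingHom.Finite ∧
      q.comap φ = Ideal.span (Set.range fun i : {i : Fin n // r ≤ (i : ℕ)} => MvPolynomial.X (i : Fin n)) := by
  classical
  obtain ⟨s, hs, φ, hφ, hc⟩ := GrothLib.NoetherInt.exists_integral_comap_eq k n q
  have hfin : φ.toRingHom.Finite := by
    refine RingHom.IsIntegral.to_finite hφ ?_
    refine RingHom.FiniteType.of_comp_finiteType (f := algebraMap k (MvPolynomial (Fin n) k)) ?_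
    rw [show φ.toRingHom.comp (algebraMap k (MvPolynomial (Fin n) k)) = algebraMap k (MvPolynomial (Fin n) k) from
      RingHom.ext fun c => φ.commutes c]
    exact RingHom.finiteType_algebraMap.2 inferInstance
  suffices h : r = s by subst h; exact ⟨φ, hfin, hc⟩
  let ι : MvPolynomial (Fin s) k →ₐ[k] MvPolynomial (Fin n) k := MvPolynomial.rename (Fin.castLE hs)
  let π : MvPolynomial (Fin n) k →ₐ[k] MvPolynomial (Fin s) k :=
    MvPolynomial.aeval fun i : Fin n => if h : (i : ℕ) < s then MvPolynomial.X ⟨i, h⟩ else 0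
  let g := (Ideal.Quotient.mkₐ k q).comp (φ.comp ι)
  have hπι : ∀ p, π (ι p) = p := by
    have : π.comp ι = AlgHom.id k _ := MvPolynomial.algHom_ext fun i => by simp [π, ι]
    exact fun p => DFunLike.congr_fun this p
  have hinj : Function.Injective g := by
    rw [injective_iff_map_eq_zero]
    intro p hp
    have hp' : ι p ∈ q.comap φ := (Ideal.Quotient.eq_zero_iff_mem (I := q) (a := φ (ι p))).1 hp
    rw [hc] at hp'
    have hle : Ideal.span (Set.range fun i : {i : Fin n // s ≤ (i : ℕ)} =>
        (MvPolynomial.X (i : Fin n) : MvPolynomial (Fin n) k)) ≤ RingHom.ker π := by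
      rw [Ideal.span_le]
      rintro _ ⟨i, rfl⟩
      simp [π, not_lt.2 i.2]
    rw [← hπι p]
    exact hle hp'
  have hgπ : g.comp π = (Ideal.Quotient.mkₐ k q).comp φ := by
    refine MvPolynomial.algHom_ext fun i => ?_
    by_cases h : (i : ℕ) < s
    · simp [π, g, ι, h]
    · have hX : φ (MvPolynomial.X i) ∈ q := by
        show MvPolynomial.X i ∈ q.comap φ
        rw [hc]
        exact Ideal.subset_span ⟨⟨i, not_lt.1 h⟩, rfl⟩
      have h0 : (Ideal.Quotient.mkₐ k q) (φ (MvPolynomial.X i)) = 0 := Ideal.Quotient.eq_zero_iff_mem.2 hX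
      simp only [AlgHom.comp_apply, g] at h0 ⊢
      rw [h0]
      simp [π, h]
  have hint : g.toRingHom.IsIntegral := by
    have h2 : (g.toRingHom.comp π.toRingHom).IsIntegral := by
      have e : g.toRingHom.comp π.toRingHom = (Ideal.Quotient.mkₐ k q).toRingHom.comp φ.toRingHom :=
        RingHom.ext fun x => DFunLike.congr_fun hgπ x
      rw [e]
      exact RingHom.IsIntegral.trans _ _ hφ (RingHom.isIntegral_of_surjective _ (Ideal.Quotient.mkₐ_surjective k q))
    exact RingHom.IsIntegral.tower_top _ _ h2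
  letI := g.toRingHom.toAlgebra
  haveI : Algebra.IsIntegral (MvPolynomial (Fin s) k) (MvPolynomial (Fin n) k ⧸ q) := ⟨hint⟩
  obtain ⟨t, ht, ht'⟩ := GrothLib.Dim.exists_nat_trdeg_eq_and_ringKrullDim_eq (k := k) (A := MvPolynomial (Fin n) k ⧸ q)
  rw [GrothLib.Dim.ringKrullDim_eq_of_isIntegral (R := MvPolynomial (Fin s) k) (S := MvPolynomial (Fin n) k ⧸ q) hinj,
    MvPolynomial.ringKrullDim_of_isNoetherianRing, ringKrullDim_eq_zero_of_field, zero_add, Nat.card_fin] at ht'
  have hst : s = t := by exact_mod_cast ht'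
  haveI : Algebra.IsAlgebraic (MvPolynomial (Fin n) k ⧸ q) q.ResidueField :=
    IsLocalization.isAlgebraic q.ResidueField (nonZeroDivisors (MvPolynomial (Fin n) k ⧸ q))
  have h3 := trdeg_add_eq k (MvPolynomial (Fin n) k ⧸ q) (A := q.ResidueField)
  rw [trdeg_eq_zero (R := MvPolynomial (Fin n) k ⧸ q) (A := q.ResidueField), add_zero, ht, hr] at h3
  have : t = r := by exact_mod_cast h3
  omega

end Groth.Agent.S2100
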