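import Groth.Statements.S2101
import Mathlib
-- import your own Groth.Agent.* helpers here

set_option autoImplicit false
universe u
open CAlg

namespace Groth.Agent.S2101

section Helpers
open scoped Classical

variable {A : Type u} [CommRing A]

theorem isRegular_ofFn_iff {r : ℕ} (f : Fin r → A) :
    RingTheory.Sequence.IsRegular A (List.ofFn f) ↔
      (∀ (i : Fin r) (a : A), a * f i ∈ Ideal.span (f '' {j | j < i}) → a ∈ Ideal.span (f '' {j | j < i})) ∧
      Ideal.span (Set.range f) ≠ ⊤ := by
  have hspan : Ideal.ofList (List.ofFn f) = Ideal.span (Set.range f) := by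
    rw [Ideal.ofList]
    congr 1
    ext a
    simp [List.mem_ofFn']
  have htake : ∀ (i : Fin r), Ideal.ofList ((List.ofFn f).take i) = Ideal.span (f '' {j | j < i}) := by
    intro i
    rw [Ideal.ofList]
    congr 1
    ext a
    simp only [Set.mem_setOf_eq, List.mem_take_iff_getElem, List.getElem_ofFn, List.length_ofFn, Set.mem_image]
    constructor
    · rintro ⟨j, hj, rfl⟩
      exact ⟨⟨j, by omega⟩, (by simp only [Fin.lt_def]; omega), rfl⟩
    · rintro ⟨j, hj, rfl⟩
      exact ⟨j, (by simp only [Fin.lt_def] at hj; omega), rfl⟩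
  have hreg : ∀ (J : Ideal A) (x : A), IsSMulRegular (A ⧸ (J • ⊤ : Submodule A A)) x ↔
      ∀ a : A, a * x ∈ J → a ∈ J := by
    intro J x
    rw [isSMulRegular_quotient_iff_mem_of_smul_mem]
    simp [mul_comm]
  rw [RingTheory.Sequence.isRegular_iff, RingTheory.Sequence.isWeaklyRegular_iff_Fin, hspan,
    smul_eq_mul, Ideal.mul_top, ne_comm]
  refine and_congr ?_ Iff.rfl
  constructor
  · intro h i
    have := h (Fin.cast (by simp) i)
    simp only [hreg, Fin.val_cast] at this
    rw [htake i] at this
    simpa using this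
  · intro h i
    rw [hreg]
    have := htake (Fin.cast (by simp) i)
    simp only [Fin.val_cast] at this
    rw [this]
    simp only [List.getElem_ofFn, Fin.getElem_fin]
    exact h (Fin.cast (by simp) i)

theorem mem_span_CX_iff {r : ℕ} (f : Fin r → A) (T : Set (Fin r)) (p : MvPolynomial (Fin r) A) :
    p ∈ Ideal.span ((fun j => MvPolynomial.C (f j) * MvPolynomial.X j) '' T) ↔
      ∀ ν, p.coeff ν ∈ Ideal.span (f '' {j | j ∈ T ∧ ν j ≠ 0}) := by
  constructor
  · intro hp
    induction hp using Submodule.span_induction with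
    | mem q hq =>
      obtain ⟨j, hj, rfl⟩ := hq
      intro ν
      rw [MvPolynomial.coeff_C_mul, MvPolynomial.coeff_X']
      split_ifs with h
      · rw [mul_one]
        exact Ideal.subset_span ⟨j, ⟨hj, by simp [← h]⟩, rfl⟩
      · simp
    | zero => simp
    | add q q' _ _ h h' => intro ν; rw [MvPolynomial.coeff_add]; exact add_mem (h ν) (h' ν)
    | smul c q _ h =>
      intro ν
      rw [smul_eq_mul, MvPolynomial.coeff_mul]
      refine Ideal.sum_mem _ fun x hx => Ideal.mul_mem_left _ _ ?_
      refine Ideal.span_mono ?_ (h x.2)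
      rintro _ ⟨j, ⟨hj, hj'⟩, rfl⟩
      refine ⟨j, ⟨hj, ?_⟩, rfl⟩
      rw [← Finset.HasAntidiagonal.mem_antidiagonal.1 hx]
      simp [hj']
  · intro h
    rw [p.as_sum]
    refine Ideal.sum_mem _ fun ν _ => ?_
    have := h ν
    generalize p.coeff ν = a at this ⊢
    induction this using Submodule.span_induction with
    | mem a ha =>
      obtain ⟨j, ⟨hj, hj'⟩, rfl⟩ := ha
      have e : MvPolynomial.monomial ν (f j) =
          MvPolynomial.monomial (ν - Finsupp.single j 1) 1 * (MvPolynomial.C (f j) * MvPolynomial.X j) := by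
        rw [MvPolynomial.C_mul_X_eq_monomial, MvPolynomial.monomial_mul, one_mul,
          tsub_add_cancel_of_le (Finsupp.single_le_iff.2 (Nat.one_le_iff_ne_zero.2 hj'))]
      rw [e]
      exact Ideal.mul_mem_left _ _ (Ideal.subset_span ⟨j, hj, rfl⟩)
    | zero => simp
    | add a b _ _ ha hb => rw [map_add]; exact add_mem ha hb
    | smul c a _ ha =>
      rw [smul_eq_mul, ← MvPolynomial.C_mul_monomial]
      exact Ideal.mul_mem_left _ _ ha

theorem insert_image {r : ℕ} (f : Fin r → A) (S : Finset (Fin r)) (m : Fin r) {a : A} :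
    a ∈ Ideal.span (f '' ↑(insert m S)) ↔ ∃ b, ∃ s ∈ Ideal.span (f '' ↑S), a = b * f m + s := by
  rw [Finset.coe_insert, Set.image_insert_eq, Ideal.mem_span_insert]

theorem key {r : ℕ} (f : Fin r → A)
    (h : ∀ (S : Finset (Fin r)) (i : Fin r), (∀ j ∈ S, j < i) →
      ∀ a, a * f i ∈ Ideal.span (f '' ↑S) → a ∈ Ideal.span (f '' ↑S)) :
    ∀ (n : ℕ) (S : Finset (Fin r)), S.card = n → ∀ i, i ∉ S →
      ∀ a, a * f i ∈ Ideal.span (f '' ↑S) → a ∈ Ideal.span (f '' ↑S) := by
  intro n
  induction n using Nat.strong_induction_on with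
  | _ n ih =>
    intro S hn i hi a ha
    by_cases hlt : ∀ j ∈ S, j < i
    · exact h S i hlt a ha
    push_neg at hlt
    obtain ⟨j₀, hj₀, hij₀⟩ := hlt
    set m := S.max' ⟨j₀, hj₀⟩
    have hm : m ∈ S := S.max'_mem _
    have him : i < m := lt_of_le_of_ne (hij₀.trans (S.le_max' _ hj₀)) fun e => hi (e ▸ hm)
    set S' := S.erase m
    have hS : S = insert m S' := (Finset.insert_erase hm).symm
    rw [hS, insert_image] at ha ⊢
    obtain ⟨b, s, hs, hab⟩ := ha
    have hb : b ∈ Ideal.span (f '' ↑(insert i S')) := by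
      refine h (insert i S') m (fun j hj => ?_) b ((insert_image f S' i).2 ⟨a, -s, neg_mem hs, by rw [hab]; ring⟩)
      rcases Finset.mem_insert.1 hj with rfl | hj
      · exact him
      · obtain ⟨hjm, hjS⟩ := Finset.mem_erase.1 hj
        exact lt_of_le_of_ne (S.le_max' _ hjS) hjm
    obtain ⟨c, s', hs', hb'⟩ := (insert_image f S' i).1 hb
    refine ⟨c, a - c * f m, ?_, by ring⟩
    refine ih _ ?_ S' rfl i (fun hi' => hi (Finset.mem_of_mem_erase hi')) _ ?_
    · rw [← hn]; exact Finset.card_erase_lt_of_mem hm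
    · have : (a - c * f m) * f i = s + s' * f m := by rw [sub_mul, hab, hb']; ring
      rw [this]
      exact add_mem hs (Ideal.mul_mem_right _ _ hs')

theorem exists_perm {r : ℕ} (T : Finset (Fin r)) (i : Fin r) (hi : i ∉ T) :
    ∃ σ : Equiv.Perm (Fin r), σ '' {j | j < σ.symm i} = ↑T ∧ True := by
  classical
  set t := T.card
  have htr : t < r := by
    have h := Finset.card_le_univ (insert i T)
    rw [Finset.card_insert_of_notMem hi, Fintype.card_fin] at h
    omega
  set U := (insert i T)ᶜ
  let l := T.toList ++ i :: U.toList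
  have hnd : l.Nodup := by
    refine List.Nodup.append T.nodup_toList (List.nodup_cons.2 ⟨by simp [U], U.nodup_toList⟩) ?_
    intro x hx hx'
    simp [U] at hx hx'
    rcases hx' with rfl | h
    · exact hi hx
    · exact h.2 hx
  have hlen : l.length = r := by
    rw [List.length_append, List.length_cons, Finset.length_toList, Finset.length_toList,
      Finset.card_compl, Fintype.card_fin, Finset.card_insert_of_notMem hi]
    omega
  let e : Fin r → Fin r := fun k => l.get (Fin.cast hlen.symm k)
  have he : Function.Injective e := (List.nodup_iff_injective_get.1 hnd).comp (Fin.cast_injective _)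
  let σ : Equiv.Perm (Fin r) := Equiv.ofBijective e ⟨he, Finite.injective_iff_surjective.1 he⟩
  have hσi : σ ⟨t, htr⟩ = i := by
    show l.get _ = i
    simp [l, t]
  refine ⟨σ, ?_, trivial⟩
  rw [show σ.symm i = ⟨t, htr⟩ from σ.symm_apply_eq.2 hσi.symm]
  ext x
  simp only [Set.mem_image, Set.mem_setOf_eq, Finset.mem_coe, Fin.lt_def]
  constructor
  · rintro ⟨j, hj, rfl⟩
    show l.get _ ∈ T
    have : (j : ℕ) < T.toList.length := by simpa using hj
    simp only [l, List.get_eq_getElem, Fin.val_cast, List.getElem_append_left this]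
    exact Finset.mem_toList.1 (List.getElem_mem _)
  · intro hx
    obtain ⟨n, hn, rfl⟩ := List.mem_iff_getElem.1 (Finset.mem_toList.2 hx)
    have hn' : n < t := by simpa [t] using hn
    refine ⟨⟨n, by omega⟩, hn', ?_⟩
    show l.get _ = _
    simp only [l, List.get_eq_getElem, Fin.val_cast, List.getElem_append_left hn]

theorem _root_.MvPolynomial.coeff_mul_C_mul_X {R : Type u} [CommRing R] {σ : Type*} (p : MvPolynomial σ R)
    (a : R) (i : σ) (ν : σ →₀ ℕ) :
    (p * (MvPolynomial.C a * MvPolynomial.X i)).coeff (ν + Finsupp.single i 1) = p.coeff ν * a := by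
  rw [← mul_assoc, MvPolynomial.coeff_mul_X, mul_comm p, MvPolynomial.coeff_C_mul, mul_comm]

end Helpers


/-- For elements `f_1, …, f_r` generating a proper ideal, all reorderings are regular sequences in `R`
if and only if the products `f_i x_i` form a regular sequence in `R[x_1, …, x_r]`. -/
theorem result {R : Type u} [CommRing R] {r : ℕ} (f : Fin r → R)
    (hf : Ideal.span (Set.range f) ≠ ⊤) :
    (∀ σ : Equiv.Perm (Fin r), RingTheory.Sequence.IsRegular R (List.ofFn (f ∘ σ))) ↔
      RingTheory.Sequence.IsRegular (MvPolynomial (Fin r) R)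
        (List.ofFn fun i => MvPolynomial.C (f i) * MvPolynomial.X i) := by
  classical
  simp only [isRegular_ofFn_iff]
  constructor
  · intro hσ
    refine ⟨fun i p hp => ?_, ?_⟩
    · rw [mem_span_CX_iff] at hp ⊢
      intro ν
      set T : Set (Fin r) := {j | j ∈ {j : Fin r | j < i} ∧ ν j ≠ 0} with hT
      set T' : Finset (Fin r) := Finset.univ.filter fun j => j < i ∧ ν j ≠ 0 with hT'
      have hTT : (T' : Set (Fin r)) = T := by ext; simp [hT, hT']
      have h1 := hp (ν + Finsupp.single i 1)
      rw [MvPolynomial.coeff_mul_C_mul_X] at h1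
      have hset : {j | j ∈ {j : Fin r | j < i} ∧ (ν + Finsupp.single i 1 : Fin r →₀ ℕ) j ≠ 0} = T := by
        ext j
        simp only [hT, Set.mem_setOf_eq]
        refine and_congr_right fun hj => ?_
        simp [ne_of_lt hj, Finsupp.single_apply, (ne_of_lt hj).symm]
      rw [hset, ← hTT] at h1
      rw [← hTT]
      obtain ⟨σ, hσ₁, hσ₂⟩ := exists_perm T' i (by simp [hT'])
      have := (hσ σ).1 (σ.symm i) (p.coeff ν)
      rw [Set.image_comp, hσ₁] at this
      simpa using this (by simpa using h1)
    · intro htop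
      refine hf (Ideal.eq_top_iff_one _ |>.2 ?_)
      have h1 : (1 : MvPolynomial (Fin r) R) ∈
          Ideal.span ((fun j => MvPolynomial.C (f j) * MvPolynomial.X j) '' Set.univ) := by
        rw [Set.image_univ, htop]; trivial
      rw [mem_span_CX_iff] at h1
      have h2 := h1 0
      simp at h2
      rw [h2]
      exact zero_mem _
  · rintro ⟨hreg, -⟩ σ
    refine ⟨fun i a ha => ?_, by rwa [σ.surjective.range_comp]⟩
    have hmain := key f (fun S k hS b hb => ?_) _ ((Finset.univ.filter (· < i)).image σ) rfl (σ i) (by simp)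
    · rw [Set.image_comp] at ha ⊢
      simp only [Finset.coe_image, Finset.coe_filter, Finset.mem_univ, true_and] at hmain
      exact hmain a ha
    · set ν : Fin r →₀ ℕ := ∑ j ∈ S, Finsupp.single j 1 with hν
      have hνj : ∀ j, ν j = if j ∈ S then 1 else 0 := fun j => by
        simp [hν, Finsupp.finset_sum_apply, Finsupp.single_apply]
      have := hreg k (MvPolynomial.monomial ν b)
      rw [mem_span_CX_iff, mem_span_CX_iff] at this
      have hset : {j | j ∈ {j : Fin r | j < k} ∧ ν j ≠ 0} = (S : Set (Fin r)) := by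
        ext j
        simp only [Set.mem_setOf_eq, hνj, ne_eq, ite_eq_right_iff, one_ne_zero, imp_false, not_not,
          Finset.mem_coe]
        exact ⟨fun h => h.2, fun h => ⟨hS j h, h⟩⟩
      have h2 := this (fun μ => ?_) ν
      · rwa [MvPolynomial.coeff_monomial, if_pos rfl, hset] at h2
      · rw [MvPolynomial.C_mul_X_eq_monomial, MvPolynomial.monomial_mul, MvPolynomial.coeff_monomial]
        split_ifs with h
        · refine Ideal.span_mono ?_ hb
          rintro _ ⟨j, hj, rfl⟩
          refine ⟨j, ⟨hS j hj, ?_⟩, rfl⟩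
          rw [← h, Finsupp.add_apply, hνj, if_pos (Finset.mem_coe.1 hj)]
          omega
        · exact zero_mem _

end Groth.Agent.S2101
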