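import Groth.Statements.S2102
import Groth.Agent.Lib.MorQ9.Normal

set_option autoImplicit false
universe u
open CategoryTheory AlgebraicGeometry
open Mor

namespace Groth.Agent.S2102

/-- The ring of global sections of an integral normal scheme is an integrally closed domain. -/
theorem result (X : Scheme.{u}) [IsIntegral X] (hX : Pi1.IsNormalScheme X) :
    IsIntegrallyClosed (Γ(X, ⊤) : Type u) := by
  exact GrothLib.MorQ9.isIntegrallyClosed_top fun x => (hX x).2

end Groth.Agent.S2102
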