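import Groth.Statements.S2113
import Mathlib
-- import your own Groth.Agent.* helpers here

set_option autoImplicit false
universe u
open CAlg

namespace Groth.Agent.S2113

/-- A Noetherian ring in which each prime is maximal or else lies below infinitely many primes is a
Jacobson ring. -/
theorem result {R : Type u} [CommRing R] [IsNoetherianRing R]
    (h : ∀ (p : Ideal R) [p.IsPrime], p.IsMaximal ∨ {q : PrimeSpectrum R | p ≤ q.asIdeal}.Infinite) :
    IsJacobsonRing R := by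
  classical
  rw [isJacobsonRing_iff_prime_eq]
  by_contra hne
  push Not at hne
  obtain ⟨p₀, hp₀, hp₀'⟩ := hne
  obtain ⟨p, ⟨hp, hpne⟩, hmax⟩ := set_has_maximal_iff_noetherian.mpr (inferInstance : IsNoetherian R R)
    {p : Ideal R | p.IsPrime ∧ p.jacobson ≠ p} ⟨p₀, hp₀, hp₀'⟩
  rcases h p with hmx | hinf
  · exact hpne (Ideal.jacobson_eq_self_of_isMaximal)
  obtain ⟨f, hf, hfp⟩ := SetLike.exists_of_lt (lt_of_le_of_ne Ideal.le_jacobson (Ne.symm hpne))
  have hall : ∀ q : Ideal R, q.IsPrime → p < q → f ∈ q := fun q hq hlt ↦ by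
    have : q.jacobson = q := by
      by_contra h'
      exact hmax q ⟨hq, h'⟩ hlt
    rw [← this]; exact Ideal.jacobson_mono hlt.le hf
  let J : Ideal R := p ⊔ Ideal.span {f}
  have hJ : J.minimalPrimes.Finite := Ideal.finite_minimalPrimes_of_isNoetherianRing R J
  have hsub : {q : PrimeSpectrum R | p ≤ q.asIdeal} ⊆ insert ⟨p, hp⟩ (PrimeSpectrum.asIdeal ⁻¹' J.minimalPrimes) := by
    intro q hpq
    rcases eq_or_lt_of_le (show p ≤ q.asIdeal from hpq) with he | hlt
    · exact Or.inl (PrimeSpectrum.ext he.symm)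
    refine Or.inr ?_
    have hJle : ∀ q' : Ideal R, q'.IsPrime → p < q' → J ≤ q' := fun q' hq' hl ↦
      sup_le hl.le ((Ideal.span_singleton_le_iff_mem _).mpr (hall q' hq' hl))
    by_contra hnm
    obtain ⟨q₁, hq₁, hq₁q⟩ := Ideal.exists_minimalPrimes_le (hJle q.asIdeal q.2 hlt)
    have hpq₁ : ∀ m ∈ J.minimalPrimes, p < m := fun m hm ↦
      lt_of_le_of_ne (le_sup_left.trans hm.1.2) fun e ↦ hfp (e ▸ hm.1.2 (Ideal.mem_sup_right (Ideal.mem_span_singleton_self f)))
    obtain ⟨x, hxq, hx⟩ : ∃ x ∈ q.asIdeal, ∀ m ∈ J.minimalPrimes, x ∉ m := by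
      by_contra hcon
      push Not at hcon
      have hU : (q.asIdeal : Set R) ⊆ ⋃ m ∈ (↑hJ.toFinset : Set (Ideal R)), (m : Set R) := fun x hx ↦ by
        obtain ⟨m, hm, hxm⟩ := hcon x hx
        exact Set.mem_biUnion (hJ.mem_toFinset.mpr hm) hxm
      obtain ⟨m, hm, hle⟩ := (Ideal.subset_union_prime ⊥ ⊥ (fun m hm _ _ ↦ (hJ.mem_toFinset.mp hm).1.1)).1 hU
      have hm' := hJ.mem_toFinset.mp hm
      exact hnm (show q.asIdeal ∈ J.minimalPrimes by rw [le_antisymm hle (hm'.2 ⟨q.2, hJle _ q.2 hlt⟩ hle)]; exact hm')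
    obtain ⟨Q, hQ, hQq⟩ := Ideal.exists_minimalPrimes_le (show p ⊔ Ideal.span {x} ≤ q.asIdeal from
      sup_le hlt.le ((Ideal.span_singleton_le_iff_mem _).mpr hxq))
    haveI := hQ.1.1
    have hxQ : x ∈ Q := hQ.1.2 (Ideal.mem_sup_right (Ideal.mem_span_singleton_self x))
    have hxp : x ∉ p := fun hxp ↦ hx q₁ hq₁ ((hpq₁ q₁ hq₁).le hxp)
    have hpQ : p < Q := lt_of_le_of_ne (le_sup_left.trans hQ.1.2) fun e ↦ hxp (e ▸ hxQ)
    obtain ⟨m, hm, hmQ⟩ := Ideal.exists_minimalPrimes_le (hJle Q hQ.1.1 hpQ)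
    have hmQ' : m < Q := lt_of_le_of_ne hmQ fun e ↦ hx m hm (e ▸ hxQ)
    -- height of Q in R/p is at most one
    have hc : (Ideal.span {Ideal.Quotient.mk p x}).comap (Ideal.Quotient.mk p) = p ⊔ Ideal.span {x} := by
      rw [← Set.image_singleton, ← Ideal.map_span, Ideal.comap_map_of_surjective _ Ideal.Quotient.mk_surjective,
        ← RingHom.ker_eq_comap_bot, Ideal.mk_ker, sup_comm]
    have hQ' := hQ
    rw [← hc, Ideal.comap_minimalPrimes_eq_of_surjective Ideal.Quotient.mk_surjective] at hQ'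
    obtain ⟨Q', hQ'min, hQ'eq⟩ := hQ'
    haveI := hQ'min.1.1
    have h1 := Ideal.height_le_one_of_isPrincipal_of_mem_minimalPrimes _ Q' hQ'min
    haveI hmp := hm.1.1
    have hmp' : p ≤ m := (hpq₁ m hm).le
    haveI : (m.map (Ideal.Quotient.mk p)).IsPrime := Ideal.map_isPrime_of_surjective Ideal.Quotient.mk_surjective (by rw [Ideal.mk_ker]; exact hmp')
    have hmc : (m.map (Ideal.Quotient.mk p)).comap (Ideal.Quotient.mk p) = m := by
      rw [Ideal.comap_map_of_surjective _ Ideal.Quotient.mk_surjective, ← RingHom.ker_eq_comap_bot, Ideal.mk_ker, sup_eq_left.mpr hmp']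
    have hlt1 : m.map (Ideal.Quotient.mk p) < Q' := by
      refine lt_of_le_of_ne ?_ fun e ↦ hmQ'.ne (by rw [← hmc, e, hQ'eq])
      rw [Ideal.map_le_iff_le_comap, hQ'eq]
      exact hmQ'.le
    haveI : Ideal.IsPrime (⊥ : Ideal (R ⧸ p)) := Ideal.isPrime_bot
    have hlt0 : (⊥ : Ideal (R ⧸ p)) < m.map (Ideal.Quotient.mk p) := by
      refine bot_lt_iff_ne_bot.mpr fun e ↦ (hpq₁ m hm).ne ?_
      rw [← hmc, e, ← RingHom.ker_eq_comap_bot, Ideal.mk_ker]
    have a1 := Ideal.height_strict_mono_of_isPrime hlt0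
    have a2 := Ideal.height_strict_mono_of_isPrime hlt1
    have a3 := lt_of_lt_of_le a2 h1
    exact absurd (ENat.lt_one_iff_eq_zero.mp a3 ▸ a1) (not_lt.mpr zero_le)
  exact hinf ((Set.Finite.insert _ (hJ.preimage (fun a _ b _ e ↦ PrimeSpectrum.ext e))).subset hsub)

end Groth.Agent.S2113
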