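import Groth.Statements.S2114
import Groth.Agent.Lib.N2.Local
import Groth.Agent.Lib.Cohen.Nagata
import Mathlib.RingTheory.ZariskisMainTheorem
-- import your own Groth.Agent.* helpers here

set_option autoImplicit false
universe u
open CAlg

namespace Groth.Agent.S2114

/-- Let `R ⊆ S` be an extension of domains which is of finite type and quasi-finite, with `R` Noetherian
and N-2 (integral closures in finite extensions of the fraction field are finite). Then `S` is N-2. -/
theorem result {R S : Type u} [CommRing R] [IsDomain R] [IsNoetherianRing R] [CommRing S]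
    [IsDomain S] [Algebra R S] (hinj : Function.Injective (algebraMap R S)) [Algebra.FiniteType R S]
    [Algebra.QuasiFinite R S] (hR : CAlg.IsN2 R) : CAlg.IsN2 S := by
  classical
  haveI : IsNoetherianRing S := Algebra.FiniteType.isNoetherianRing R S
  have key : ∀ p : {p : Ideal S // p.IsPrime}, ∃ r : S, r ∉ p.1 ∧
      ∀ [IsDomain (Localization.Away r)], CAlg.IsN2 (Localization.Away r) := by
    rintro ⟨p, hp⟩
    haveI := hp
    obtain ⟨S', hS', r, hr, hbij⟩ := Algebra.QuasiFiniteAt.exists_fg_and_exists_notMem_and_awayMap_bijective (R := R) p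
    haveI : Module.Finite R S' := Module.Finite.iff_fg.2 hS'
    have hinj' : Function.Injective (algebraMap R S') := fun a b h => hinj (congrArg Subtype.val h :)
    have hr0 : r ≠ 0 := fun h => hr (by rw [h]; exact zero_mem p)
    haveI : IsDomain (Localization.Away r) :=
      IsLocalization.isDomain_localization (powers_le_nonZeroDivisors_of_noZeroDivisors hr0)
    have h2 : CAlg.IsN2 (Localization.Away r) :=
      GrothLib.N2.isN2_of_isLocalization S' (Submonoid.powers r) _ (GrothLib.Cohen.isN2_of_finite hinj' hR)
    exact ⟨r.1, hr, fun {_} => GrothLib.N2.isN2_of_ringEquiv (RingEquiv.ofBijective _ hbij) h2⟩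
  choose r hr hN using key
  have htop : Ideal.span (Set.range r) = ⊤ := by
    by_contra h
    obtain ⟨m, hm, hle⟩ := Ideal.exists_le_maximal _ h
    exact hr ⟨m, hm.isPrime⟩ (hle (Ideal.subset_span ⟨⟨m, hm.isPrime⟩, rfl⟩))
  obtain ⟨F, hF, hF'⟩ := Submodule.mem_span_finite_of_mem_span ((Ideal.eq_top_iff_one _).1 htop)
  choose idx hidx using fun z : F => hF z.2
  let J := {z : F // (z : S) ≠ 0}
  let f : J → S := fun z => r (idx z.1)
  have hf : Ideal.span (Set.range f) = ⊤ := by
    rw [eq_top_iff, ← (Ideal.eq_top_iff_one _).2 hF', Ideal.span_le]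
    intro z hz
    by_cases h0 : z = 0
    · rw [SetLike.mem_coe, h0]; exact zero_mem _
    · exact Ideal.subset_span ⟨⟨⟨z, hz⟩, h0⟩, hidx ⟨z, hz⟩⟩
  haveI : ∀ j : J, IsDomain (Localization.Away (f j)) := fun j =>
    IsLocalization.isDomain_localization (powers_le_nonZeroDivisors_of_noZeroDivisors (by
      show r (idx j.1) ≠ 0
      rw [hidx]; exact j.2))
  exact GrothLib.N2.isN2_of_span f hf (fun j => Localization.Away (f j)) fun j => hN (idx j.1)

end Groth.Agent.S2114
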