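import Groth.Statements.S2118
import Mathlib.RingTheory.Flat.EquationalCriterion
import Mathlib.Algebra.Category.ModuleCat.FilteredColimits
import Mathlib.CategoryTheory.Limits.ConcreteCategory.Basic

set_option autoImplicit false
universe u
open CategoryTheory
open CAlg

namespace Groth.Agent.S2118

open Limits

section

variable (R : Type u) [CommRing R] (M : Type u) [AddCommGroup M] [Module R M]

/-- The free module on countably many copies of `M`. -/
abbrev Big : Type u := (M × ℕ) →₀ R

/-- The canonical map onto `M`. -/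
noncomputable def piMap : Big R M →ₗ[R] M := Finsupp.linearCombination R Prod.fst

/-- A finite free approximation of `M`. -/
structure Idx : Type u where
  s : Finset (M × ℕ)
  K : Submodule R (Big R M)
  fg : K.FG
  le : K ≤ Finsupp.supported R R (s : Set (M × ℕ))
  ker : K ≤ LinearMap.ker (piMap R M)
  free : Module.Free R ↥((Finsupp.supported R R (s : Set (M × ℕ))).map K.mkQ)

instance : Preorder (Idx R M) where
  le p q := p.s ⊆ q.s ∧ p.K ≤ q.K
  le_refl p := ⟨subset_rfl, le_rfl⟩
  le_trans p q r h h' := ⟨h.1.trans h'.1, h.2.trans h'.2⟩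

variable {R M}

/-- The approximating module. -/
noncomputable abbrev objM (p : Idx R M) : Submodule R (Big R M ⧸ p.K) :=
  (Finsupp.supported R R (p.s : Set (M × ℕ))).map p.K.mkQ

theorem exists_ge [Module.Flat R M] (s : Finset (M × ℕ)) (K : Submodule R (Big R M)) (hfg : K.FG)
    (hle : K ≤ Finsupp.supported R R (s : Set (M × ℕ))) (hker : K ≤ LinearMap.ker (piMap R M)) :
    ∃ p : Idx R M, s ⊆ p.s ∧ K ≤ p.K := by
  classical
  let S := Finsupp.supported R R (s : Set (M × ℕ))
  haveI : Module.Free R S := Module.Free.of_equiv (Finsupp.supportedEquivFinsupp _).symm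
  haveI : Module.Finite R S := Module.Finite.equiv (Finsupp.supportedEquivFinsupp _).symm
  haveI : Module.Finite R K := .of_fg hfg
  let x : S →ₗ[R] M := piMap R M ∘ₗ S.subtype
  let incl : K →ₗ[R] S := Submodule.inclusion hle
  have hx0 : x ∘ₗ incl = 0 := LinearMap.ext fun v => hker v.2
  obtain ⟨k, a, y, hay, haf⟩ := Module.Flat.exists_factorization_of_comp_eq_zero_of_free
    (K := ↥K) (N := ↥S) (f := incl) (x := x) hx0
  obtain ⟨N, hN⟩ : ∃ N : ℕ, ∀ i ∈ s, i.2 < N :=
    ⟨s.sup (fun i => i.2) + 1, fun i hi => Nat.lt_succ_of_le (Finset.le_sup (f := fun i => i.2) hi)⟩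
  let e : Fin k → M × ℕ := fun j => (y (Finsupp.single j 1), N + j)
  have he_notin : ∀ j, e j ∉ s := fun j h => absurd (hN _ h) (by simp [e])
  have he_inj : Function.Injective e := fun i j h => by
    have := congrArg Prod.snd h
    exact Fin.ext (by simpa [e] using this)
  let Φ : Big R M →ₗ[R] (Fin k →₀ R) := Finsupp.linearCombination R fun i =>
    if h : i ∈ s then a ⟨Finsupp.single i 1, Finsupp.single_mem_supported R (1 : R) h⟩
    else if h' : ∃ j, e j = i then Finsupp.single h'.choose 1 else 0
  have hΦs : ∀ i (h : i ∈ s), Φ (Finsupp.single i 1) =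
      a ⟨Finsupp.single i 1, Finsupp.single_mem_supported R (1 : R) h⟩ := fun i h => by
    simp only [Φ, Finsupp.linearCombination_single, one_smul, dif_pos h]
  have hΦe : ∀ j, Φ (Finsupp.single (e j) 1) = Finsupp.single j 1 := fun j => by
    have hex : ∃ j', e j' = e j := ⟨j, rfl⟩
    simp only [Φ, Finsupp.linearCombination_single, one_smul, dif_neg (he_notin j), dif_pos hex]
    rw [he_inj hex.choose_spec]
  let s' := s ∪ Finset.univ.image e
  let S' := Finsupp.supported R R (s' : Set (M × ℕ))
  have hπ : ∀ v ∈ S', piMap R M v = y (Φ v) := by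
    intro v hv
    have hv' := hv
    simp only [S', Finsupp.supported_eq_span_single] at hv'
    induction hv' using Submodule.span_induction with
    | mem x hx =>
      obtain ⟨i, hi, rfl⟩ := hx
      rcases Finset.mem_union.1 (Finset.mem_coe.1 hi) with hi | hi
      · rw [hΦs i hi]
        exact LinearMap.congr_fun hay ⟨Finsupp.single i 1, Finsupp.single_mem_supported R (1 : R) hi⟩
      · obtain ⟨j, -, rfl⟩ := Finset.mem_image.1 hi
        rw [hΦe j]
        simp [piMap, e]
    | zero => simp
    | add x x' hx hx' h h' =>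
      rw [map_add, map_add, map_add,
        h (by simpa [S', Finsupp.supported_eq_span_single] using hx),
        h' (by simpa [S', Finsupp.supported_eq_span_single] using hx')]
    | smul c x hx h =>
      rw [map_smul, map_smul, map_smul, h (by simpa [S', Finsupp.supported_eq_span_single] using hx)]
  let σ : (Fin k →₀ R) →ₗ[R] Big R M :=
    Finsupp.linearCombination R fun j => Finsupp.single (e j) (1 : R)
  have hσS : ∀ z, σ z ∈ S' := fun z => by
    induction z using Finsupp.induction_linear with
    | zero => simp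
    | add z z' h h' => rw [map_add]; exact add_mem h h'
    | single j c =>
      simp only [σ, Finsupp.linearCombination_single]
      exact Submodule.smul_mem _ _ (Finsupp.single_mem_supported R (1 : R) (by simp [s']))
  have hΦσ : ∀ z, Φ (σ z) = z := fun z => by
    induction z using Finsupp.induction_linear with
    | zero => simp
    | add z z' h h' => rw [map_add, map_add, h, h']
    | single j c => simp only [σ, Finsupp.linearCombination_single, map_smul, hΦe]; simp
  let K' := LinearMap.ker Φ ⊓ S'
  have hK'fg : K'.FG := by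
    have : K' = S'.map (LinearMap.id - σ ∘ₗ Φ) := by
      ext v
      constructor
      · rintro ⟨hv, hv'⟩
        refine ⟨v, hv', ?_⟩
        simp [LinearMap.mem_ker.1 hv]
      · rintro ⟨w, hw, rfl⟩
        refine ⟨?_, sub_mem hw (hσS _)⟩
        simp [LinearMap.mem_ker, hΦσ]
    rw [this]
    haveI : Module.Finite R S' := Module.Finite.equiv (Finsupp.supportedEquivFinsupp _).symm
    exact (Module.Finite.iff_fg.1 inferInstance).map _
  have hK'ker : K' ≤ LinearMap.ker (piMap R M) := fun v hv => by
    rw [LinearMap.mem_ker, hπ v hv.2, LinearMap.mem_ker.1 hv.1, map_zero]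
  let g : ↥(S'.map K'.mkQ) →ₗ[R] (Fin k →₀ R) :=
    (K'.liftQ Φ inf_le_left) ∘ₗ (S'.map K'.mkQ).subtype
  have hg : Function.Bijective g := by
    constructor
    · rw [injective_iff_map_eq_zero]
      rintro ⟨_, v, hv, rfl⟩ h
      have h' : Φ v = 0 := h
      exact Subtype.ext ((Submodule.Quotient.mk_eq_zero K').2 ⟨h', hv⟩)
    · intro z
      exact ⟨⟨K'.mkQ (σ z), σ z, hσS z, rfl⟩, hΦσ z⟩
  refine ⟨⟨s', K', hK'fg, inf_le_right, hK'ker,
    Module.Free.of_equiv (LinearEquiv.ofBijective g hg).symm⟩, Finset.subset_union_left,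
    fun v hv => ⟨?_, Finsupp.supported_mono (by simp [s']) (hle hv)⟩⟩
  have h0 : a ⟨v, hle hv⟩ = 0 := LinearMap.congr_fun haf ⟨v, hv⟩
  have hagree : ∀ w : S, Φ w = a w := by
    rintro ⟨w, hw⟩
    have hw' := hw
    simp only [S, Finsupp.supported_eq_span_single] at hw'
    induction hw' using Submodule.span_induction with
    | mem x hx =>
      obtain ⟨i, hi, rfl⟩ := hx
      exact hΦs i hi
    | zero => rw [map_zero]; exact (map_zero a).symm
    | add x x' hx hx' h h' =>
      have hx₁ : x ∈ S := by simpa [S, Finsupp.supported_eq_span_single] using hx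
      have hx₂ : x' ∈ S := by simpa [S, Finsupp.supported_eq_span_single] using hx'
      rw [map_add]
      show Φ x + Φ x' = a (⟨x, hx₁⟩ + ⟨x', hx₂⟩)
      rw [map_add, ← h hx₁, ← h' hx₂]
    | smul c x hx h =>
      have hx₁ : x ∈ S := by simpa [S, Finsupp.supported_eq_span_single] using hx
      show Φ (c • x) = a (c • ⟨x, hx₁⟩)
      rw [map_smul, map_smul, ← h hx₁]
  show Φ v = 0
  rw [hagree ⟨v, hle hv⟩]
  exact h0

theorem directed [Module.Flat R M] : IsDirected (Idx R M) (fun a b => a ≤ b) := ⟨fun p q => by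
  classical
  obtain ⟨r, hs, hK⟩ := exists_ge (p.s ∪ q.s) (p.K ⊔ q.K) (p.fg.sup q.fg)
    (sup_le (p.le.trans (Finsupp.supported_mono (by simp)))
      (q.le.trans (Finsupp.supported_mono (by simp)))) (sup_le p.ker q.ker)
  exact ⟨r, ⟨Finset.subset_union_left.trans hs, le_sup_left.trans hK⟩,
    ⟨Finset.subset_union_right.trans hs, le_sup_right.trans hK⟩⟩⟩

theorem mapQ_mem {p q : Idx R M} (h : p ≤ q) :
    ∀ x ∈ objM p, (p.K.mapQ q.K LinearMap.id h.2) x ∈ objM q := by
  rintro _ ⟨v, hv, rfl⟩
  exact ⟨v, Finsupp.supported_mono (Finset.coe_subset.2 h.1) hv, rfl⟩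

/-- The diagram of finite free approximations. -/
noncomputable def diagram : Idx R M ⥤ ModuleCat.{u} R where
  obj p := ModuleCat.of R ↥(objM p)
  map {p q} h := ModuleCat.ofHom ((p.K.mapQ q.K LinearMap.id (leOfHom h).2).restrict (mapQ_mem (leOfHom h)))
  map_id p := by
    refine ModuleCat.hom_ext (LinearMap.ext fun x => Subtype.ext ?_)
    obtain ⟨_, v, hv, rfl⟩ := x
    rfl
  map_comp f g := by
    refine ModuleCat.hom_ext (LinearMap.ext fun x => Subtype.ext ?_)
    obtain ⟨_, v, hv, rfl⟩ := x
    rfl

/-- The cocone onto `M`. -/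
noncomputable def cocone : Cocone (diagram (R := R) (M := M)) where
  pt := ModuleCat.of R M
  ι :=
    { app := fun p => ModuleCat.ofHom ((p.K.liftQ (piMap R M) p.ker) ∘ₗ (objM p).subtype)
      naturality := fun p q h => by
        refine ModuleCat.hom_ext (LinearMap.ext fun x => ?_)
        obtain ⟨_, v, hv, rfl⟩ := x
        rfl }

/-- `M` is the colimit. -/
noncomputable def isColimit [Module.Flat R M] : IsColimit (cocone (R := R) (M := M)) := by
  classical
  haveI := directed (R := R) (M := M)
  haveI : Nonempty (Idx R M) :=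
    let ⟨p, _⟩ := exists_ge (R := R) (M := M) ∅ ⊥ Submodule.fg_bot bot_le bot_le
    ⟨p⟩
  apply isColimitOfReflects (forget (ModuleCat.{u} R))
  refine Types.FilteredColimit.isColimitOf' _ _ (fun m => ?_) (fun p x x' h => ?_)
  · obtain ⟨p, hs, -⟩ := exists_ge (R := R) (M := M) {((m : M), 0)} ⊥ Submodule.fg_bot bot_le bot_le
    refine ⟨p, ⟨p.K.mkQ (Finsupp.single ((m : M), 0) 1), _,
      Finsupp.single_mem_supported R (1 : R) (hs (Finset.mem_singleton_self _)), rfl⟩, ?_⟩
    show (m : M) = piMap R M (Finsupp.single ((m : M), 0) 1)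
    rw [piMap, Finsupp.linearCombination_single, one_smul]
  · obtain ⟨_, v, hv, rfl⟩ := x
    obtain ⟨_, v', hv', rfl⟩ := x'
    have hvv : piMap R M v = piMap R M v' := h
    have hmem : v - v' ∈ Finsupp.supported R R (p.s : Set (M × ℕ)) := sub_mem hv hv'
    obtain ⟨q, hs, hK⟩ := exists_ge p.s (p.K ⊔ Submodule.span R {v - v'})
      (p.fg.sup (Submodule.fg_span_singleton _))
      (sup_le p.le ((Submodule.span_singleton_le_iff_mem _ _).2 hmem))
      (sup_le p.ker ((Submodule.span_singleton_le_iff_mem _ _).2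
        (by rw [LinearMap.mem_ker, map_sub, hvv, sub_self])))
    have hpq : p ≤ q := ⟨hs, le_sup_left.trans hK⟩
    refine ⟨q, homOfLE hpq, Subtype.ext ?_⟩
    show q.K.mkQ v = q.K.mkQ v'
    exact (Submodule.Quotient.eq q.K).2
      (hK (Submodule.mem_sup_right (Submodule.mem_span_singleton_self _)))

theorem flat_of_isColimit {J : Type u} [SmallCategory J] [IsFiltered J]
    (F : J ⥤ ModuleCat.{u} R) (hF : ∀ j, Module.Finite R (F.obj j) ∧ Module.Free R (F.obj j))
    (c : Cocone F) (hc : IsColimit c) : Module.Flat R c.pt := by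
  classical
  refine Module.Flat.of_forall_exists_factorization fun {l f x} hx => ?_
  choose jj zz hzz using fun i : Fin l =>
    Concrete.isColimit_exists_rep F hc (x (Finsupp.single i 1))
  obtain ⟨j₀, hj₀⟩ := IsFiltered.sup_objs_exists (Finset.univ.image jj)
  let x' : (Fin l →₀ R) →ₗ[R] F.obj j₀ := Finsupp.linearCombination R fun i =>
    (F.map (hj₀ (Finset.mem_image_of_mem jj (Finset.mem_univ i))).some).hom (zz i)
  have hx' : x = (c.ι.app j₀).hom ∘ₗ x' := by
    refine Finsupp.lhom_ext' fun i => LinearMap.ext_ring ?_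
    simp only [LinearMap.comp_apply, Finsupp.lsingle_apply, x', Finsupp.linearCombination_single,
      one_smul]
    rw [← hzz i]
    exact (ConcreteCategory.congr_hom
      (c.w (hj₀ (Finset.mem_image_of_mem jj (Finset.mem_univ i))).some) (zz i)).symm
  have h0 : (c.ι.app j₀).hom (x' f) = (c.ι.app j₀).hom 0 := by
    rw [map_zero, ← LinearMap.comp_apply, ← hx', hx]
  obtain ⟨j₁, f₁, g₁, hfg⟩ := Concrete.isColimit_exists_of_rep_eq F hc (x' f) 0 h0
  have hfg' : (F.map f₁).hom (x' f) = 0 := hfg.trans (map_zero (F.map g₁).hom)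
  haveI := (hF j₁).1
  haveI := (hF j₁).2
  let b := (Module.Free.chooseBasis R (F.obj j₁)).reindex (Fintype.equivFin _)
  refine ⟨_, b.repr.toLinearMap ∘ₗ (F.map f₁).hom ∘ₗ x',
    (c.ι.app j₁).hom ∘ₗ b.repr.symm.toLinearMap, ?_, by simp [hfg']⟩
  rw [hx']
  refine LinearMap.ext fun v => ?_
  simp only [LinearMap.comp_apply, LinearEquiv.coe_coe, LinearEquiv.symm_apply_apply]
  exact (ConcreteCategory.congr_hom (c.w f₁) (x' v)).symm

end



/-- An `R`-module `M` is flat if and only if it is isomorphic to the colimit of a diagram of finite free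
`R`-modules indexed by a nonempty directed preorder (in the same universe). -/
theorem result {R : Type u} [CommRing R] (M : Type u) [AddCommGroup M] [Module R M] :
    Module.Flat R M ↔
      ∃ (J : Type u) (_ : Preorder J) (_ : IsDirected J (fun a b => a ≤ b)) (_ : Nonempty J)
        (F : J ⥤ ModuleCat.{u} R), (∀ j, Module.Finite R (F.obj j) ∧ Module.Free R (F.obj j)) ∧
        Nonempty (Limits.colimit F ≅ ModuleCat.of R M) := by
  constructor
  · intro hflat
    haveI := directed (R := R) (M := M)
    obtain ⟨p, -, -⟩ := exists_ge (R := R) (M := M) ∅ ⊥ Submodule.fg_bot bot_le bot_le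
    refine ⟨Idx R M, inferInstance, directed, ⟨p⟩, diagram, fun q => ⟨?_, q.free⟩,
      ⟨(colimit.isColimit _).coconePointUniqueUpToIso isColimit⟩⟩
    haveI : Module.Finite R ↥(Finsupp.supported R R (q.s : Set (M × ℕ))) :=
      Module.Finite.equiv (Finsupp.supportedEquivFinsupp _).symm
    exact Module.Finite.iff_fg.2 ((Module.Finite.iff_fg.1 this).map q.K.mkQ)
  · rintro ⟨J, _, hdir, hne, F, hF, ⟨e⟩⟩
    haveI : Module.Flat R (colimit F : ModuleCat.{u} R) :=
      flat_of_isColimit F hF (colimit.cocone F) (colimit.isColimit F)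
    exact Module.Flat.of_linearEquiv e.symm.toLinearEquiv

end Groth.Agent.S2118
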