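import Groth.Statements.S2119
import Mathlib
-- import your own Groth.Agent.* helpers here

set_option autoImplicit false
universe u
open CAlg

namespace Groth.Agent.S2119

/-- Nagata's criterion for factoriality, final assertion: let `A` be a domain in which every nonzero
nonunit factors into irreducibles, and `S` the multiplicative subset generated by a set of prime
elements. If the localization `S⁻¹A` is a unique factorization domain, then so is `A`. -/
theorem result {A : Type u} [CommRing A] [IsDomain A]
    (hfac : ∀ a : A, a ≠ 0 → ¬ IsUnit a → ∃ f : Multiset A, (∀ b ∈ f, Irreducible b) ∧ Associated f.prod a) (P : Set A)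
    (hP : ∀ p ∈ P, Prime p) [IsDomain (Localization (Submonoid.closure P))]
    (hS : UniqueFactorizationMonoid (Localization (Submonoid.closure P))) : UniqueFactorizationMonoid A := by
  classical
  let S := Submonoid.closure P
  let L := Localization S
  have hS0 : S ≤ nonZeroDivisors A := Submonoid.closure_le.mpr fun q hq ↦
    mem_nonZeroDivisors_of_ne_zero (hP q hq).ne_zero
  have hsplit : ∀ s ∈ S, ∀ a b c : A, b * c = a * s → ∃ b' c' sb sc : A, sb ∈ S ∧ sc ∈ S ∧ a = b' * c' ∧ b = b' * sb ∧ c = c' * sc := by
    intro s hs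
    induction hs using Submonoid.closure_induction with
    | mem q hq =>
      intro a b c h
      have hqm : q ∈ S := Submonoid.subset_closure hq
      rcases (hP q hq).dvd_or_dvd (Dvd.intro_left a h.symm) with ⟨b', rfl⟩ | ⟨c', rfl⟩
      · exact ⟨b', c, q, 1, hqm, one_mem _, mul_right_cancel₀ (hP q hq).ne_zero (by rw [← h]; ring), mul_comm _ _, (mul_one c).symm⟩
      · exact ⟨b, c', 1, q, one_mem _, hqm, mul_right_cancel₀ (hP q hq).ne_zero (by rw [← h]; ring), (mul_one b).symm, mul_comm _ _⟩
    | one =>
      intro a b c h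
      exact ⟨b, c, 1, 1, one_mem _, one_mem _, by simpa using h.symm, (mul_one b).symm, (mul_one c).symm⟩
    | mul s t _ _ hs ht =>
      intro a b c h
      obtain ⟨b', c', sb, sc, hb, hc, he, rfl, rfl⟩ := ht (a * s) b c (by rw [h]; ring)
      obtain ⟨b'', c'', sb', sc', hb', hc', he', rfl, rfl⟩ := hs a b' c' he.symm
      exact ⟨b'', c'', sb' * sb, sc' * sc, mul_mem hb' hb, mul_mem hc' hc, he', by ring, by ring⟩
  have hprime : ∀ a : A, Irreducible a → Prime a := by
    intro a ha
    by_cases hd : ∃ q ∈ P, q ∣ a
    · obtain ⟨q, hq, c, rfl⟩ := hd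
      rcases ha.isUnit_or_isUnit rfl with h1 | h1
      · exact absurd h1 (hP q hq).not_unit
      · exact (associated_mul_unit_right q c h1).prime (hP q hq)
    push Not at hd
    have hdiv : ∀ s ∈ S, ∀ b : A, a ∣ s * b → a ∣ b := by
      intro s hs
      induction hs using Submonoid.closure_induction with
      | mem q hq =>
        rintro b ⟨x, hx⟩
        rcases (hP q hq).dvd_or_dvd (Dvd.intro b hx) with h1 | ⟨x', rfl⟩
        · exact absurd h1 (hd q hq)
        · exact ⟨x', mul_left_cancel₀ (hP q hq).ne_zero (by rw [hx]; ring)⟩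
      | one => intro b hb; simpa using hb
      | mul s t _ _ hs ht => intro b hb; exact ht b (hs (t * b) (by rwa [← mul_assoc]))
    have hnu : ¬ IsUnit (algebraMap A L a) := by
      intro hu
      obtain ⟨x, s, hxs⟩ := IsLocalization.exists_mk'_eq S (↑(hu.unit⁻¹) : L)
      have h1 : algebraMap A L (a * x) = algebraMap A L s := by
        rw [map_mul, ← IsLocalization.mk'_spec L x s, hxs, ← mul_assoc, IsUnit.mul_val_inv, one_mul]
      have h2 := IsLocalization.injective L hS0 h1
      exact ha.not_isUnit (isUnit_of_dvd_one (hdiv s s.2 1 (by rw [mul_one, ← h2]; exact dvd_mul_right a x)))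
    have hirr : Irreducible (algebraMap A L a) := by
      refine ⟨hnu, fun u v huv ↦ ?_⟩
      obtain ⟨b, s, rfl⟩ := IsLocalization.exists_mk'_eq S u
      obtain ⟨c, t, rfl⟩ := IsLocalization.exists_mk'_eq S v
      rw [← IsLocalization.mk'_mul, IsLocalization.eq_mk'_iff_mul_eq, ← map_mul] at huv
      have h2 : a * ((s * t : S) : A) = b * c := IsLocalization.injective L hS0 huv
      obtain ⟨b', c', sb, sc, hb, hc, he, rfl, rfl⟩ := hsplit _ (s * t).2 a b c h2.symm
      rcases ha.isUnit_or_isUnit he with h1 | h1
      · left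
        have : IsUnit (algebraMap A L (b' * sb)) := by
          rw [map_mul]; exact (h1.map _).mul (IsLocalization.map_units L ⟨sb, hb⟩)
        rw [← IsLocalization.mk'_spec L (b' * sb) s] at this
        exact isUnit_of_mul_isUnit_left this
      · right
        have : IsUnit (algebraMap A L (c' * sc)) := by
          rw [map_mul]; exact (h1.map _).mul (IsLocalization.map_units L ⟨sc, hc⟩)
        rw [← IsLocalization.mk'_spec L (c' * sc) t] at this
        exact isUnit_of_mul_isUnit_left this
    have hpr := (UniqueFactorizationMonoid.irreducible_iff_prime).mp hirr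
    refine ⟨ha.ne_zero, ha.not_isUnit, fun b c hbc ↦ ?_⟩
    have back : ∀ b : A, algebraMap A L a ∣ algebraMap A L b → a ∣ b := by
      rintro b ⟨w, hw⟩
      obtain ⟨x, s, rfl⟩ := IsLocalization.exists_mk'_eq S w
      have h1 : algebraMap A L ((s : A) * b) = algebraMap A L (a * x) := by
        rw [map_mul, map_mul, hw, mul_left_comm, IsLocalization.mk'_spec']
      exact hdiv s s.2 b ⟨x, IsLocalization.injective L hS0 h1⟩
    exact (hpr.dvd_or_dvd (map_dvd (algebraMap A L) hbc |>.trans (by rw [map_mul]))).imp (back b) (back c)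
  refine UniqueFactorizationMonoid.of_exists_prime_factors fun a ha ↦ ?_
  by_cases hu : IsUnit a
  · exact ⟨0, by simp, by simpa using (associated_one_iff_isUnit.mpr hu).symm⟩
  · obtain ⟨f, hf, hfa⟩ := hfac a ha hu
    exact ⟨f, fun b hb ↦ hprime b (hf b hb), hfa⟩

end Groth.Agent.S2119
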