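import Groth.Statements.S2120
import Groth.Agent.Lib.MorQ9.Small

set_option autoImplicit false
universe u
open CategoryTheory AlgebraicGeometry
open Mor

namespace Groth.Agent.S2120

/-- Let `f : X → Y` be surjective and universally closed. If `X` is quasi-separated then so is `Y`; if
`X` is separated then so is `Y`. -/
theorem result {X Y : Scheme.{u}} (f : X ⟶ Y) [Surjective f] [UniversallyClosed f] :
    (QuasiSeparatedSpace X → QuasiSeparatedSpace Y) ∧ (X.IsSeparated → Y.IsSeparated) := by
  refine ⟨fun h => ?_, fun h => ?_⟩
  · refine ⟨fun U V hU hU' hV hV' => ?_⟩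
    have hc : IsCompact (f ⁻¹' U ∩ f ⁻¹' V) :=
      h.inter_isCompact _ _ (hU.preimage f.continuous) (f.isCompact_preimage (U := ⟨U, hU⟩) hU')
        (hV.preimage f.continuous) (f.isCompact_preimage (U := ⟨V, hV⟩) hV')
    have := hc.image f.continuous
    rwa [← Set.preimage_inter, Set.image_preimage_eq _ f.surjective] at this
  · haveI := h
    haveI : IsSeparated (f ≫ CategoryTheory.Limits.terminal.from Y) := by rw [CategoryTheory.Limits.terminal.comp_from]; infer_instance
    haveI := GrothLib.MorQ9.isSeparated_of_comp f (CategoryTheory.Limits.terminal.from Y)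
    exact ⟨this⟩

end Groth.Agent.S2120
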