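import Groth.Statements.S2121
import Groth.Agent.Lib.BlowUp6.Valuation

set_option autoImplicit false
universe u
open CategoryTheory AlgebraicGeometry
open Mor

namespace Groth.Agent.S2121

/-- Let `f : X → Y` be quasi-compact and `z` a point in the closure of `f(X)` (the underlying set of the
scheme theoretic image). Then there are a valuation ring `A` with fraction field `K` and morphisms
`Spec K → X`, `Spec A → Y` forming a commutative square with `f` and `Spec K → Spec A`, such that
the closed point of `Spec A` maps to `z`. -/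
theorem result {X Y : Scheme.{u}} (f : X ⟶ Y) [QuasiCompact f] (z : Y)
    (hz : z ∈ closure (Set.range f.base)) :
    ∃ (A : Type u) (_ : CommRing A) (_ : IsDomain A) (_ : ValuationRing A)
      (x : Spec (CommRingCat.of (FractionRing A)) ⟶ X) (y : Spec (CommRingCat.of A) ⟶ Y),
      x ≫ f = Spec.map (CommRingCat.ofHom (algebraMap A (FractionRing A))) ≫ y ∧
      y.base (IsLocalRing.closedPoint A) = z := by
  obtain ⟨A, hA1, hA2, hA3, K, hK, hAK, hfr, a, φ, h, hc⟩ :=
    GrothLib.BlowUp6.exists_valuation_arc f z hz
  let e : FractionRing A ≃ₐ[A] K := FractionRing.algEquiv A K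
  refine ⟨A, hA1, hA2, hA3, Spec.map (CommRingCat.ofHom e.symm.toAlgHom.toRingHom) ≫ a, φ, ?_, hc⟩
  rw [Category.assoc, ← h, ← Spec.map_comp_assoc, ← CommRingCat.ofHom_comp]
  congr 3
  ext r
  simp

end Groth.Agent.S2121
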