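import Groth.Statements.S2125
import Groth.Agent.Lib.MinPrimesHens1.Basic
-- import your own Groth.Agent.* helpers here

set_option autoImplicit false
universe u
open CAlg

namespace Groth.Agent.S2125

open TensorProduct in
/-- Let `A` be a local ring with finitely many minimal primes, `A'` the integral closure of `A_red` in
its total ring of fractions and `A^h` the henselization of `A`. Then contraction along `A^h → A' ⊗_A
A^h` is a bijection from the minimal primes of `A' ⊗_A A^h` onto the minimal primes of `A^h`. -/
theorem result {A Ah : Type u} [CommRing A] [IsLocalRing A]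
    (hfin : (minimalPrimes A).Finite) [CommRing Ah] [IsLocalRing Ah] [Algebra A Ah] [IsLocalHom (algebraMap A Ah)]
    [Hensel.IsHenselization A Ah] :
    Set.BijOn (fun P : Ideal ((CAlg2.normRed A) ⊗[A] Ah) =>
        P.comap (Algebra.TensorProduct.includeRight.toRingHom :
          Ah →+* (CAlg2.normRed A) ⊗[A] Ah))
      (minimalPrimes ((CAlg2.normRed A) ⊗[A] Ah))
      (minimalPrimes Ah) := by
  have := GrothLib.Hensel.IsHenselization.faithfullyFlat (R := A) (S := Ah)
  exact GrothLib.MinPrimesHens1.bijOn_normRed hfin GrothLib.Hensel.IsHenselization.etaleStages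

end Groth.Agent.S2125
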