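import Groth.Statements.S2130
import Groth.Agent.Lib.MinPrimesSm2.Henselian

set_option autoImplicit false
set_option linter.all false
universe u
open CAlg

namespace Groth.Agent.S2130

/-- Let `R → S` be smooth, `𝔮` a prime of `S` over `𝔭` with `κ(𝔮)/κ(𝔭)` purely inseparable, and `A = R_𝔭
→ B = S_𝔮`. Then henselizations of `A` and `B` have the same number of minimal prime ideals (the
same number of branches). -/
theorem result {R S Ah Bh : Type u} [CommRing R] [CommRing S]
    [Algebra R S] [Algebra.Smooth R S] (q : Ideal S) [q.IsPrime] (p : Ideal R) [p.IsPrime] [q.LiesOver p]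
    (hpi : @IsPurelyInseparable p.ResidueField q.ResidueField _ _
      (Ideal.ResidueField.mapₐ p q (Algebra.ofId R S) (q.over_def p)).toRingHom.toAlgebra)
    [CommRing Ah] [IsLocalRing Ah] [Algebra (Localization.AtPrime p) Ah]
    [IsLocalHom (algebraMap (Localization.AtPrime p) Ah)] [Hensel.IsHenselization (Localization.AtPrime p) Ah]
    [CommRing Bh] [IsLocalRing Bh] [Algebra (Localization.AtPrime q) Bh]
    [IsLocalHom (algebraMap (Localization.AtPrime q) Bh)] [Hensel.IsHenselization (Localization.AtPrime q) Bh] :
    (minimalPrimes Ah).encard = (minimalPrimes Bh).encard := by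
  obtain ⟨As, _, _, _, _, _⟩ : ∃ (As : Type u) (_ : CommRing As) (_ : IsLocalRing As)
      (_ : Algebra (Localization.AtPrime p) As) (_ : IsLocalHom (algebraMap (Localization.AtPrime p) As)),
      Hensel.IsStrictHenselization (Localization.AtPrime p) As :=
    ⟨GrothLib.Hensel.StrictHens (Localization.AtPrime p), inferInstance, inferInstance, inferInstance, inferInstance, inferInstance⟩
  obtain ⟨Bs, _, _, _, _, _⟩ : ∃ (Bs : Type u) (_ : CommRing Bs) (_ : IsLocalRing Bs)
      (_ : Algebra (Localization.AtPrime q) Bs) (_ : IsLocalHom (algebraMap (Localization.AtPrime q) Bs)),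
      Hensel.IsStrictHenselization (Localization.AtPrime q) Bs :=
    ⟨GrothLib.Hensel.StrictHens (Localization.AtPrime q), inferInstance, inferInstance, inferInstance, inferInstance, inferInstance⟩
  let f := Localization.localRingHom p q (algebraMap R S) (q.over_def p)
  obtain ⟨j, hjl, hj⟩ := GrothLib.MinPrimesSm2.exists_strictHens_map (As := As) (Bs := Bs) f
  obtain ⟨-, h1, h2⟩ := GrothLib.MinPrimesSm2.isPrime_map_and_comap_map q p j hj
  exact GrothLib.MinPrimesSm2.encard_minimalPrimes_henselization f hpi j hj
    (GrothLib.MinPrimesSm2.bijOn_map_minimalPrimes j h1 h2) h2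

end Groth.Agent.S2130
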