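import Groth.Statements.S2131
import Mathlib.Algebra.Module.FinitePresentation
import Mathlib.RingTheory.Spectrum.Prime.Topology

set_option autoImplicit false
universe u
open CAlg

namespace Groth.Agent.S2131

/-- For an `R`-linear map from a finite module to a finitely presented module, the primes at which its
localization is bijective form an open subset of `Spec R`. -/
theorem result {R M N : Type u} [CommRing R] [AddCommGroup M] [Module R M] [Module.Finite R M]
    [AddCommGroup N] [Module R N] [Module.FinitePresentation R N] (φ : M →ₗ[R] N) :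
    IsOpen {p : PrimeSpectrum R | Function.Bijective (LocalizedModule.map p.asIdeal.primeCompl φ)} := by
  rw [isOpen_iff_forall_mem_open]
  intro p hp
  obtain ⟨g, hg, hb⟩ := Module.FinitePresentation.exists_notMem_bijective φ p.asIdeal
    (LocalizedModule.mkLinearMap _ M) (LocalizedModule.mkLinearMap _ N) hp
  refine ⟨PrimeSpectrum.basicOpen g, fun q hq => ?_, (PrimeSpectrum.basicOpen g).2, hg⟩
  have hpow : ∀ k : ℕ, g ^ k ∈ q.asIdeal.primeCompl := fun k h => hq (q.2.mem_of_pow_mem k h)
  have hz0 : ∀ {S : Submonoid R} {X : Type u} [AddCommGroup X] [Module R X] {y : X} {s : S},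
      LocalizedModule.mk y s = 0 ↔ ∃ u ∈ S, u • y = 0 := by
    intro S X _ _ y s
    rw [← LocalizedModule.zero_mk 1, LocalizedModule.mk_eq]
    simp [Submonoid.smul_def]
  constructor
  · rw [injective_iff_map_eq_zero]
    intro x hx
    induction x using LocalizedModule.induction_on with
    | _ y s =>
      rw [LocalizedModule.map_mk, hz0] at hx
      obtain ⟨u, hu, huy⟩ := hx
      have h1 : LocalizedModule.map (Submonoid.powers g) φ (LocalizedModule.mk (u • y) 1) = 0 := by
        rw [LocalizedModule.map_mk, map_smul, huy, LocalizedModule.zero_mk]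
      have h2 := hb.1 (h1.trans (map_zero _).symm)
      rw [hz0] at h2
      obtain ⟨_, ⟨k, rfl⟩, hk⟩ := h2
      rw [hz0]
      exact ⟨g ^ k * u, mul_mem (hpow k) hu, by rw [mul_smul]; exact hk⟩
  · intro x
    induction x using LocalizedModule.induction_on with
    | _ y s =>
      obtain ⟨z, hz⟩ := hb.2 (LocalizedModule.mk y 1)
      induction z using LocalizedModule.induction_on with
      | _ w t =>
        rw [LocalizedModule.map_mk, LocalizedModule.mk_eq] at hz
        obtain ⟨⟨_, k, rfl⟩, hk⟩ := hz
        obtain ⟨_, l, rfl⟩ := t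
        simp only [Submonoid.smul_def, one_smul, Submonoid.coe_one, smul_smul] at hk
        refine ⟨LocalizedModule.mk (g ^ k • w) (⟨g ^ k * g ^ l, mul_mem (hpow k) (hpow l)⟩ * s), ?_⟩
        rw [LocalizedModule.map_mk, LocalizedModule.mk_eq, map_smul]
        refine ⟨1, ?_⟩
        simp only [Submonoid.smul_def, Submonoid.coe_mul, Submonoid.coe_one, one_smul, smul_smul]
        rw [mul_comm (g ^ k * g ^ l) (s : R), mul_smul, mul_smul (s : R), hk]

end Groth.Agent.S2131
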