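import Groth.Statements.S2132
import Mathlib
-- import your own Groth.Agent.* helpers here

set_option autoImplicit false
universe u
open CategoryTheory
open CAlg

namespace Groth.Agent.S2132

open CategoryTheory Limits

/-- Let `F : J ⥤ CommRingCat` be a filtered diagram of henselian local rings with local transition maps
and `c` a colimit cocone. Then the colimit is a henselian local ring. -/
theorem result {J : Type u} [SmallCategory J] [IsFiltered J] (F : J ⥤ CommRingCat.{u})
    (hF : ∀ j, HenselianLocalRing (F.obj j)) (hloc : ∀ (i j : J) (a : i ⟶ j), IsLocalHom (F.map a).hom)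
    (c : Limits.Cocone F) (hc : Limits.IsColimit c) : HenselianLocalRing c.pt := by
  classical
  have := hF
  let hct := isColimitOfPreserves (forget CommRingCat) hc
  have hsurj : ∀ x : c.pt, ∃ (j : J) (y : F.obj j), c.ι.app j y = x := fun x =>
    Types.jointly_surjective _ hct x
  have heq : ∀ (j : J) (y z : F.obj j), c.ι.app j y = c.ι.app j z →
      ∃ (k : J) (g : j ⟶ k), F.map g y = F.map g z := by
    intro j y z h
    obtain ⟨k, g, g', hk⟩ := (Types.FilteredColimit.isColimit_eq_iff (F ⋙ forget CommRingCat) hct).1 h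
    refine ⟨IsFiltered.coeq g g', g ≫ IsFiltered.coeqHom g g', ?_⟩
    rw [Functor.map_comp, ConcreteCategory.comp_apply, ConcreteCategory.comp_apply]
    conv_rhs => rw [← ConcreteCategory.comp_apply, ← Functor.map_comp, IsFiltered.coeq_condition g g',
      Functor.map_comp, ConcreteCategory.comp_apply]
    exact congrArg _ hk
  have hw : ∀ {i j : J} (g : i ⟶ j) (y : F.obj i), c.ι.app j (F.map g y) = c.ι.app i y := fun g y => by
    rw [← ConcreteCategory.comp_apply, c.w g]
  have hlift : ∀ (j : J) (x : c.pt), ∃ (k : J) (g : j ⟶ k) (y : F.obj k), c.ι.app k y = x := by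
    intro j x
    obtain ⟨i, y, hy⟩ := hsurj x
    exact ⟨IsFiltered.max j i, IsFiltered.leftToMax j i, F.map (IsFiltered.rightToMax j i) y,
      (hw (IsFiltered.rightToMax j i) y).trans hy⟩
  have hloc' : ∀ j, IsLocalHom (c.ι.app j).hom := fun j => ⟨fun y hy => by
    obtain ⟨z', hz'⟩ := hy.exists_right_inv
    obtain ⟨k, g, z, rfl⟩ := hlift j z'
    have h1 : c.ι.app k (F.map g y * z) = c.ι.app k 1 := by
      rw [map_mul, hw, map_one]; exact hz'
    obtain ⟨l, g', hl⟩ := heq k _ _ h1
    rw [map_mul, map_one, ← ConcreteCategory.comp_apply, ← Functor.map_comp] at hl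
    have := hloc j l (g ≫ g')
    exact isUnit_of_map_unit (F.map (g ≫ g')).hom y (IsUnit.of_mul_eq_one _ hl)⟩
  have hnt : Nontrivial c.pt := by
    obtain ⟨j⟩ : Nonempty J := IsFiltered.nonempty
    refine ⟨⟨0, 1, fun h => ?_⟩⟩
    obtain ⟨k, g, hk⟩ := heq j 0 1 (by simpa using h)
    rw [map_zero, map_one] at hk
    exact zero_ne_one hk
  have hlocal : IsLocalRing c.pt := IsLocalRing.of_isUnit_or_isUnit_one_sub_self fun x => by
    obtain ⟨j, y, rfl⟩ := hsurj x
    rcases IsLocalRing.isUnit_or_isUnit_one_sub_self y with h | h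
    · exact Or.inl (h.map (c.ι.app j).hom)
    · refine Or.inr ?_
      have := h.map (c.ι.app j).hom
      rwa [map_sub, map_one] at this
  refine ⟨fun f hf a₀ h₁ h₂ => ?_⟩
  -- descend the coefficients and the approximate root
  have hcoef : ∀ s : Finset ℕ, ∃ (j : J) (r : ℕ → F.obj j) (a : F.obj j),
      c.ι.app j a = a₀ ∧ ∀ i ∈ s, c.ι.app j (r i) = f.coeff i := by
    intro s
    induction s using Finset.induction_on with
    | empty =>
      obtain ⟨j, a, ha⟩ := hsurj a₀
      exact ⟨j, fun _ => 0, a, ha, fun _ h => absurd h (Finset.notMem_empty _)⟩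
    | @insert i s his ih =>
      obtain ⟨j, r, a, ha, hr⟩ := ih
      obtain ⟨k, g, y, hy⟩ := hlift j (f.coeff i)
      refine ⟨k, fun m => if m = i then y else F.map g (r m), F.map g a, (hw g a).trans ha, ?_⟩
      intro m hm
      rcases Finset.mem_insert.1 hm with rfl | hm
      · simp [hy]
      · dsimp only
        rw [if_neg (fun e : m = i => his (e ▸ hm))]
        exact (hw g _).trans (hr m hm)
  obtain ⟨j, r, a, ha, hr⟩ := hcoef (Finset.range f.natDegree)
  let p : Polynomial (F.obj j) := Polynomial.X ^ f.natDegree +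
    ∑ i ∈ Finset.range f.natDegree, Polynomial.C (r i) * Polynomial.X ^ i
  have hp : p.Monic := by
    refine Polynomial.monic_X_pow_add (lt_of_le_of_lt (Polynomial.degree_sum_le _ _) ?_)
    rw [Finset.sup_lt_iff (WithBot.bot_lt_coe _)]
    intro i hi
    exact (Polynomial.degree_C_mul_X_pow_le i _).trans_lt (WithBot.coe_lt_coe.2 (Finset.mem_range.1 hi))
  let φ : F.obj j →+* c.pt := (c.ι.app j).hom
  have hpf : p.map φ = f := by
    conv_rhs => rw [hf.as_sum]
    simp only [p, Polynomial.map_add, Polynomial.map_pow, Polynomial.map_X, Polynomial.map_sum,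
      Polynomial.map_mul, Polynomial.map_C]
    congr 1
    exact Finset.sum_congr rfl fun i hi => by rw [show φ (r i) = f.coeff i from hr i hi]
  have := hloc' j
  have ha' : φ a = a₀ := ha
  rw [← hpf, ← ha', Polynomial.eval_map, Polynomial.eval₂_hom] at h₁
  rw [← hpf, ← ha', Polynomial.derivative_map, Polynomial.eval_map, Polynomial.eval₂_hom] at h₂
  obtain ⟨b, hb, hba⟩ := HenselianLocalRing.is_henselian p hp a
    ((IsLocalRing.mem_maximalIdeal _).2 fun hu =>
      (IsLocalRing.mem_maximalIdeal _).1 h₁ (hu.map φ)) (isUnit_of_map_unit φ _ h₂)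
  refine ⟨φ b, ?_, ?_⟩
  · show f.eval (φ b) = 0
    rw [← hpf]
    rw [Polynomial.eval_map, Polynomial.eval₂_hom, hb, map_zero]
  · rw [← ha', ← map_sub]
    exact (IsLocalRing.mem_maximalIdeal _).2 fun hu =>
      (IsLocalRing.mem_maximalIdeal _).1 hba (isUnit_of_map_unit φ _ hu)

end Groth.Agent.S2132
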