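import Groth.Statements.S2133
import Mathlib
-- import your own Groth.Agent.* helpers here

set_option autoImplicit false
universe u
open CAlg

namespace Groth.Agent.S2133

/-- Let `R → R'` be an injective ring map of finite type and `g ∈ R` a nonzerodivisor on `R'` such that
every element of `R'` lands in `R` after multiplication by a power of `g` (so `R_g = R'_g`). Then
for every derivation `D` of `R` there is `N` such that `g^N D` extends to a derivation of `R'`. -/
theorem result {R R' : Type u} [CommRing R] [CommRing R'] [Algebra R R'] [Algebra.FiniteType R R']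
    (hinj : Function.Injective (algebraMap R R')) (g : R) (hg : IsSMulRegular R' (algebraMap R R' g))
    (hloc : ∀ x : R', ∃ n : ℕ, (algebraMap R R' g) ^ n * x ∈ Set.range (algebraMap R R')) (D : Derivation ℤ R R) :
    ∃ (N : ℕ) (D' : Derivation ℤ R' R'), ∀ r : R, D' (algebraMap R R' r) = algebraMap R R' (g ^ N * D r) := by
  classical
  let g' := algebraMap R R' g
  let L := Localization.Away g'
  let ι := algebraMap R' L
  have hι : Function.Injective ι := IsLocalization.injective L (M := Submonoid.powers g') (fun a ha => by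
    obtain ⟨k, rfl⟩ := ha
    exact mem_nonZeroDivisors_iff_right.2 fun z hz => (hg.pow k) (show g' ^ k • z = g' ^ k • 0 by
      rw [smul_zero, smul_eq_mul, mul_comm, hz]))
  haveI hLloc : IsLocalization (Submonoid.powers g) L := by
    refine (isLocalization_iff _ _).2 ⟨?_, ?_, ?_⟩
    · rintro ⟨_, k, rfl⟩
      rw [IsScalarTower.algebraMap_apply R R' L, map_pow]
      exact IsLocalization.map_units L (⟨g' ^ k, k, rfl⟩ : Submonoid.powers g')
    · intro z
      obtain ⟨⟨x, _, k, rfl⟩, hx⟩ := IsLocalization.surj (Submonoid.powers g') z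
      obtain ⟨n, r, hr⟩ := hloc x
      refine ⟨⟨r, ⟨g ^ (k + n), k + n, rfl⟩⟩, ?_⟩
      have hx' : z * algebraMap R' L (g' ^ k) = algebraMap R' L x := hx
      show z * algebraMap R L (g ^ (k + n)) = algebraMap R L r
      rw [IsScalarTower.algebraMap_apply R R' L, IsScalarTower.algebraMap_apply R R' L, hr, map_pow,
        map_mul, ← hx', pow_add, map_mul]
      ring
    · intro x y hxy
      rw [IsScalarTower.algebraMap_apply R R' L, IsScalarTower.algebraMap_apply R R' L] at hxy
      exact ⟨1, by rw [hinj (hι hxy)]⟩
  let f : R →+* TrivSqZeroExt L L :=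
    { toFun := fun r => ((algebraMap R L r, algebraMap R L (D r)) : TrivSqZeroExt L L)
      map_one' := by
        apply TrivSqZeroExt.ext
        · exact map_one (algebraMap R L)
        · show algebraMap R L (D 1) = 0
          rw [Derivation.map_one_eq_zero, map_zero]
      map_mul' := fun x y => by
        apply TrivSqZeroExt.ext
        · exact map_mul (algebraMap R L) x y
        · show algebraMap R L (D (x * y)) = algebraMap R L x • algebraMap R L (D y) +
            MulOpposite.op (algebraMap R L y) • algebraMap R L (D x)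
          rw [Derivation.leibniz, map_add, smul_eq_mul, smul_eq_mul, map_mul, map_mul, op_smul_eq_smul,
            smul_eq_mul, smul_eq_mul]
      map_zero' := by
        apply TrivSqZeroExt.ext
        · exact map_zero (algebraMap R L)
        · show algebraMap R L (D 0) = 0
          rw [map_zero, map_zero]
      map_add' := fun x y => by
        apply TrivSqZeroExt.ext
        · exact map_add (algebraMap R L) x y
        · show algebraMap R L (D (x + y)) = algebraMap R L (D x) + algebraMap R L (D y)
          rw [map_add, map_add] }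
  have hu : ∀ s : Submonoid.powers g, IsUnit (f s) := fun s => by
    rw [TrivSqZeroExt.isUnit_iff_isUnit_fst]
    exact IsLocalization.map_units L s
  let Ψ : L →+* TrivSqZeroExt L L := IsLocalization.lift hu
  have hfst : ∀ z, (Ψ z).fst = z := fun z => by
    have h1 : (TrivSqZeroExt.fstHom L L L).toRingHom.comp Ψ = RingHom.id L :=
      IsLocalization.ringHom_ext (Submonoid.powers g) (RingHom.ext fun r => by
        show (Ψ (algebraMap R L r)).fst = algebraMap R L r
        rw [IsLocalization.lift_eq]; rfl)
    exact RingHom.congr_fun h1 z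
  let δ : L → L := fun z => (Ψ z).snd
  have hδR : ∀ r, δ (algebraMap R L r) = algebraMap R L (D r) := fun r => by
    show (Ψ _).snd = _
    rw [IsLocalization.lift_eq]; rfl
  have hadd : ∀ y z, δ (y + z) = δ y + δ z := fun y z => by
    show (Ψ _).snd = _
    rw [map_add, TrivSqZeroExt.snd_add]
  have hmul : ∀ y z, δ (y * z) = y * δ z + z * δ y := fun y z => by
    show (Ψ _).snd = _
    rw [map_mul, TrivSqZeroExt.snd_mul, hfst, hfst, op_smul_eq_smul, smul_eq_mul, smul_eq_mul]
  obtain ⟨S, hS⟩ := Algebra.FiniteType.out (R := R) (A := R')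
  have hex : ∀ z : L, ∃ n : ℕ, ∀ m, n ≤ m → ι g' ^ m * z ∈ ι.range := fun z => by
    obtain ⟨⟨x, _, k, rfl⟩, hx⟩ := IsLocalization.surj (Submonoid.powers g') z
    refine ⟨k, fun m hm => ⟨g' ^ (m - k) * x, ?_⟩⟩
    have hx' : z * ι (g' ^ k) = ι x := hx
    rw [map_mul, ← hx', map_pow, map_pow]
    rw [show ι g' ^ m = ι g' ^ (m - k) * ι g' ^ k by rw [← pow_add, Nat.sub_add_cancel hm]]
    ring
  choose N hN using fun x : R' => hex (δ (ι x))
  let M := S.sup N
  have key : ∀ x : R', ι g' ^ M * δ (ι x) ∈ ι.range := fun x => by
    have hx : x ∈ Algebra.adjoin R (S : Set R') := hS ▸ Algebra.mem_top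
    induction hx using Algebra.adjoin_induction with
    | mem y hy => exact hN y M (Finset.le_sup hy)
    | algebraMap r =>
      refine ⟨g' ^ M * algebraMap R R' (D r), ?_⟩
      rw [map_mul, map_pow, show ι (algebraMap R R' r) = algebraMap R L r from
        (IsScalarTower.algebraMap_apply R R' L r).symm, hδR, IsScalarTower.algebraMap_apply R R' L (D r)]
    | add a b _ _ ha hb => rw [map_add, hadd, mul_add]; exact add_mem ha hb
    | mul a b _ _ ha hb =>
      rw [map_mul, hmul, mul_add, ← mul_assoc, mul_comm (ι g' ^ M) (ι a), mul_assoc, ← mul_assoc (ι g' ^ M) (ι b),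
        mul_comm (ι g' ^ M) (ι b), mul_assoc (ι b)]
      exact add_mem (mul_mem ⟨a, rfl⟩ hb) (mul_mem ⟨b, rfl⟩ ha)
  choose E hE using key
  let E' : R' →ₗ[ℤ] R' := (AddMonoidHom.mk' E fun a b => hι (by
    rw [map_add, hE, hE, hE, map_add, hadd, mul_add])).toIntLinearMap
  refine ⟨M, Derivation.mk' E' fun a b => hι ?_, fun r => hι ?_⟩
  · show ι (E (a * b)) = ι (a • E b + b • E a)
    rw [map_add, smul_eq_mul, smul_eq_mul, map_mul, map_mul, hE, hE, hE, map_mul, hmul]
    ring
  · show ι (E (algebraMap R R' r)) = _
    rw [hE, show ι (algebraMap R R' r) = algebraMap R L r from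
      (IsScalarTower.algebraMap_apply R R' L r).symm, hδR, map_mul, map_mul, map_pow, map_pow,
      IsScalarTower.algebraMap_apply R R' L (D r)]

end Groth.Agent.S2133
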