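import Groth.Statements.S2134
import Mathlib

set_option autoImplicit false
universe u
open CAlg

namespace Groth.Agent.S2134

/-- Let `K/k` be a field extension and `(K_α)` a nonempty family of intermediate fields, directed
downwards, with intersection `k`. For a `K`-subspace `V` of `K^n` (`n ≥ 1`), `V` contains a nonzero
vector with all coordinates in `k` if and only if for every `α` it contains a nonzero vector with
all coordinates in `K_α`. -/
theorem result {k K : Type u} [Field k] [Field K] [Algebra k K] {ι : Type u} [Nonempty ι]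
    (F : ι → IntermediateField k K) (hdir : ∀ a b : ι, ∃ c, F c ≤ F a ⊓ F b) (hinf : ⨅ a, F a = ⊥) (n : ℕ) (hn : 1 ≤ n)
    (V : Submodule K (Fin n → K)) :
    (∃ v ∈ V, v ≠ 0 ∧ ∀ i, v i ∈ Set.range (algebraMap k K)) ↔
      ∀ a, ∃ v ∈ V, v ≠ 0 ∧ ∀ i, v i ∈ F a := by
  classical
  constructor
  · rintro ⟨v, hv, hv0, h⟩ a
    refine ⟨v, hv, hv0, fun i => ?_⟩
    obtain ⟨c, hc⟩ := h i
    exact hc ▸ (F a).algebraMap_mem c
  · intro h
    let att : ι → Finset (Fin n) → Prop := fun a S =>
      ∃ v ∈ V, v ≠ 0 ∧ (∀ i, v i ∈ F a) ∧ ∀ i, i ∉ S → v i = 0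
    have mono : ∀ a c, F c ≤ F a → ∀ S, att c S → att a S := fun a c hle S ⟨v, h1, h2, h3, h4⟩ =>
      ⟨v, h1, h2, fun i => hle (h3 i), h4⟩
    let ok : Finset (Fin n) → Prop := fun S => ∀ a, att a S
    have htop : ok Finset.univ := fun a => by
      obtain ⟨v, h1, h2, h3⟩ := h a
      exact ⟨v, h1, h2, h3, fun i hi => absurd (Finset.mem_univ i) hi⟩
    obtain ⟨S, hS, hmin⟩ := Finset.exists_min_image (Finset.univ.filter ok) Finset.card
      ⟨_, Finset.mem_filter.2 ⟨Finset.mem_univ _, htop⟩⟩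
    rw [Finset.mem_filter] at hS
    have hc0 : ∃ c0, ∀ T : Finset (Fin n), T.card < S.card → ¬ att c0 T := by
      have : ∀ 𝒯 : Finset (Finset (Fin n)), ∃ c0, ∀ T ∈ 𝒯, T.card < S.card → ¬ att c0 T := by
        intro 𝒯
        induction 𝒯 using Finset.induction with
        | empty => exact ⟨Classical.arbitrary ι, by simp⟩
        | insert T 𝒯 _ ih =>
          obtain ⟨c, hc⟩ := ih
          by_cases hT : T.card < S.card
          · obtain ⟨a, ha⟩ : ∃ a, ¬ att a T := not_forall.1 fun hok =>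
              absurd (hmin T (Finset.mem_filter.2 ⟨Finset.mem_univ _, hok⟩)) (not_le.2 hT)
            obtain ⟨d, hd⟩ := hdir a c
            refine ⟨d, fun U hU hUc => ?_⟩
            rcases Finset.mem_insert.1 hU with rfl | hU
            · exact fun hh => ha (mono a d (hd.trans inf_le_left) _ hh)
            · exact fun hh => hc U hU hUc (mono c d (hd.trans inf_le_right) _ hh)
          · refine ⟨c, fun U hU hUc => ?_⟩
            rcases Finset.mem_insert.1 hU with rfl | hU
            · exact absurd hUc hT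
            · exact hc U hU hUc
      obtain ⟨c0, hc0⟩ := this Finset.univ
      exact ⟨c0, fun T => hc0 T (Finset.mem_univ _)⟩
    obtain ⟨c0, hc0⟩ := hc0
    obtain ⟨w, hw1, hw2, hw3, hw4⟩ := hS.2 c0
    obtain ⟨i0, hi0⟩ := Function.ne_iff.1 hw2
    have hi0S : i0 ∈ S := by_contra fun h' => hi0 (hw4 i0 h')
    refine ⟨(w i0)⁻¹ • w, V.smul_mem _ hw1, ?_, fun i => ?_⟩
    · exact smul_ne_zero (inv_ne_zero hi0) hw2
    have key : ∀ a, ((w i0)⁻¹ • w) i ∈ F a := fun a => by
      obtain ⟨c, hc⟩ := hdir a c0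
      obtain ⟨u, hu1, hu2, hu3, hu4⟩ := hS.2 c
      have hu0 : u i0 ≠ 0 := by
        intro h0
        refine hc0 (S.erase i0) (Finset.card_erase_lt_of_mem hi0S)
          ⟨u, hu1, hu2, fun j => (hc.trans inf_le_right) (hu3 j), fun j hj => ?_⟩
        by_cases hj0 : j = i0
        · exact hj0 ▸ h0
        · exact hu4 j fun h' => hj (Finset.mem_erase.2 ⟨hj0, h'⟩)
      have he : (w i0)⁻¹ • w = (u i0)⁻¹ • u := by
        by_contra hne
        refine hc0 (S.erase i0) (Finset.card_erase_lt_of_mem hi0S)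
          ⟨(w i0)⁻¹ • w - (u i0)⁻¹ • u, V.sub_mem (V.smul_mem _ hw1) (V.smul_mem _ hu1),
            sub_ne_zero.2 hne, fun j => ?_, fun j hj => ?_⟩
        · have hh := fun j => (hc.trans inf_le_right) (hu3 j)
          exact sub_mem (mul_mem (inv_mem (hw3 i0)) (hw3 j)) (mul_mem (inv_mem (hh i0)) (hh j))
        · by_cases hj0 : j = i0
          · subst hj0; simp [inv_mul_cancel₀ hi0, inv_mul_cancel₀ hu0]
          · have hjS : j ∉ S := fun h' => hj (Finset.mem_erase.2 ⟨hj0, h'⟩)
            simp [hw4 j hjS, hu4 j hjS]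
      rw [he]
      exact (hc.trans inf_le_left) (mul_mem (inv_mem (hu3 i0)) (hu3 i))
    have : ((w i0)⁻¹ • w) i ∈ (⨅ a, F a) := by
      rw [← SetLike.mem_coe, IntermediateField.coe_iInf]
      exact Set.mem_iInter.2 key
    rw [hinf] at this
    exact IntermediateField.mem_bot.1 this

end Groth.Agent.S2134
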