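import Groth.Statements.S2136
import Groth.Agent.Lib.BrnchNhd.Equiv
import Groth.Agent.Lib.BrnchNhd.Ascend
import Groth.Agent.S1451

set_option autoImplicit false
set_option backward.isDefEq.respectTransparency false
universe u
open CAlg
open CategoryTheory CategoryTheory.Limits AlgebraicGeometry

namespace Groth.Agent.S2136

/-- Let `A` be a domain, `A → B` a ring map of finite type, and `𝔮` a prime of `B` lying over `𝔭 ⊆ A`,
with `A_𝔭` geometrically unibranch, `A → B` unramified at `𝔮` and `A_𝔭 → B_𝔮` injective. Then `B_g`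
is étale over `A` for some `g ∉ 𝔮`. (`B` is assumed of finite type over `A` throughout; the
published statement needs this only after inverting an element outside `𝔮`.) -/
theorem result {A B : Type u} [CommRing A] [IsDomain A] [CommRing B]
    [Algebra A B] (q : Ideal B) [q.IsPrime] (p : Ideal A) [p.IsPrime] [q.LiesOver p]
    (hA : CAlg2.IsGeomUnibranch (Localization.AtPrime p)) [Algebra.FiniteType A B] [Algebra.IsUnramifiedAt A q]
    (hinj : Function.Injective (Localization.localRingHom p q (algebraMap A B) (q.over_def p))) :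
    ∃ g : B, g ∉ q ∧ Algebra.Etale A (Localization.Away g) := by
  classical
  let f : Spec (.of B) ⟶ Spec (.of A) := Spec.map (CommRingCat.ofHom (algebraMap A B))
  haveI : LocallyOfFiniteType f := HasRingHomProperty.Spec_iff.mpr
    (RingHom.finiteType_algebraMap.mpr ‹_›)
  let x : Spec (CommRingCat.of B) := (⟨q, ‹_›⟩ : PrimeSpectrum B)
  let pp : PrimeSpectrum A := ⟨p, ‹_›⟩
  have hfx : f x = pp := PrimeSpectrum.ext (q.over_def p).symm
  have hgeom : CAlg2.IsGeomUnibranch ((Spec (CommRingCat.of A)).presheaf.stalk (f x)) := by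
    rw [hfx]
    exact GrothLib.BrnchNhd.isGeomUnibranch_of_ringEquiv
      ((StructureSheaf.stalkIso A pp).toRingEquiv) hA
  obtain ⟨P, hP, hPc⟩ := Ideal.exists_comap_eq_of_mem_minimalPrimes_of_injective
    (f := Localization.localRingHom p q (algebraMap A B) (q.over_def p)) hinj ⊥
    ⟨⟨Ideal.isPrime_bot, bot_le⟩, fun _ _ _ ↦ bot_le⟩
  have hPA : (P.comap (algebraMap B (Localization.AtPrime q))).comap (algebraMap A B) = ⊥ := by
    ext a
    have := SetLike.ext_iff.mp hPc (algebraMap A (Localization.AtPrime p) a)
    simp only [Ideal.mem_comap, Localization.localRingHom_to_map, Ideal.mem_bot,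
      map_eq_zero_iff _ (IsLocalization.injective (Localization.AtPrime p)
        p.primeCompl_le_nonZeroDivisors)] at this ⊢
    exact this
  let z : Spec (CommRingCat.of B) :=
    (⟨P.comap (algebraMap B (Localization.AtPrime q)), hP.comap _⟩ : PrimeSpectrum B)
  have hzx : z ⤳ x := by
    refine (PrimeSpectrum.le_iff_specializes _ _).mp ?_
    show P.comap (algebraMap B (Localization.AtPrime q)) ≤ q
    conv_rhs => rw [← IsLocalization.AtPrime.comap_maximalIdeal (Localization.AtPrime q) q]
    exact Ideal.comap_mono (IsLocalRing.le_maximalIdeal hP.ne_top)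
  obtain ⟨_, ⟨r, rfl⟩, hrq, hr⟩ := PrimeSpectrum.isTopologicalBasis_basic_opens.exists_subset_of_mem_open
    (show (⟨q, ‹_›⟩ : PrimeSpectrum B) ∈ Algebra.unramifiedLocus A B from
      ‹Algebra.IsUnramifiedAt A q›) (Algebra.isOpen_unramifiedLocus (R := A) (A := B))
  haveI := Algebra.basicOpen_subset_unramifiedLocus_iff.mp hr
  let j : Spec (.of (Localization.Away r)) ⟶ Spec (.of B) :=
    Spec.map (CommRingCat.ofHom (algebraMap B (Localization.Away r)))
  haveI : FormallyUnramified (j ≫ f) := by
    rw [← Spec.map_comp]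
    refine HasRingHomProperty.Spec_iff.mpr ?_
    show ((algebraMap B (Localization.Away r)).comp (algebraMap A B)).FormallyUnramified
    rw [← IsScalarTower.algebraMap_eq]
    exact RingHom.formallyUnramified_algebraMap.mpr inferInstance
  have hjx : x ∈ j.opensRange := by
    show x ∈ Set.range (PrimeSpectrum.comap (algebraMap B (Localization.Away r)))
    rw [PrimeSpectrum.localization_away_comap_range (Localization.Away r) r]
    exact hrq
  have hunr : ∃ U : (Spec (CommRingCat.of B)).Opens, x ∈ U ∧ FormallyUnramified (U.ι ≫ f) :=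
    ⟨j.opensRange, hjx, by
      rw [← j.isoOpensRange_inv_comp, Category.assoc,
        MorphismProperty.cancel_left_of_respectsIso @FormallyUnramified]
      infer_instance⟩
  obtain ⟨U, hxU, hU⟩ := Groth.Agent.S1451.result f x hgeom
    ⟨z, hzx, by rw [genericPoint_eq_bot_of_affine]; exact PrimeSpectrum.ext hPA⟩ hunr
  obtain ⟨_, ⟨g, rfl⟩, hgq, hgU⟩ := PrimeSpectrum.isTopologicalBasis_basic_opens.exists_subset_of_mem_open
    (show (⟨q, ‹_›⟩ : PrimeSpectrum B) ∈ (U.carrier : Set (PrimeSpectrum B)) from hxU) U.2
  refine ⟨g, hgq, RingHom.etale_algebraMap.mp ?_⟩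
  let i : Spec (.of (Localization.Away g)) ⟶ Spec (.of B) :=
    Spec.map (CommRingCat.ofHom (algebraMap B (Localization.Away g)))
  have hi : Set.range i ⊆ Set.range U.ι := by
    rw [Scheme.Opens.range_ι]
    show Set.range (PrimeSpectrum.comap (algebraMap B (Localization.Away g))) ⊆ _
    rw [PrimeSpectrum.localization_away_comap_range (Localization.Away g) g]
    exact hgU
  haveI := hU
  haveI : IsOpenImmersion (IsOpenImmersion.lift U.ι i hi) :=
    @IsOpenImmersion.of_comp _ _ _ _ U.ι inferInstance (by rw [IsOpenImmersion.lift_fac]; infer_instance)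
  have het : Etale (i ≫ f) := by
    rw [← IsOpenImmersion.lift_fac U.ι i hi, Category.assoc]; infer_instance
  rw [← Spec.map_comp, HasRingHomProperty.Spec_iff (P := @Etale)] at het
  rwa [IsScalarTower.algebraMap_eq A B (Localization.Away g)]

end Groth.Agent.S2136
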