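import Groth.Statements.S2138
import Groth.Agent.Lib.SymbFlat.Basic

set_option autoImplicit false
universe u
open CAlg

namespace Groth.Agent.S2138

/-- Let `R → S` be flat and `𝔭` a prime of `R` whose extension `𝔮 = 𝔭S` is prime. Then for every `n` the
extension to `S` of the symbolic power `𝔭^{(n)}` (the contraction of `𝔭ⁿR_𝔭`) equals the symbolic
power `𝔮^{(n)}`. -/
theorem result {R S : Type u} [CommRing R] [CommRing S] [Algebra R S] [Module.Flat R S]
    (p : Ideal R) [p.IsPrime] [(p.map (algebraMap R S)).IsPrime] (n : ℕ) :
    (((p ^ n).map (algebraMap R (Localization.AtPrime p))).comap (algebraMap R (Localization.AtPrime p))).map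
        (algebraMap R S) =
      (((p.map (algebraMap R S)) ^ n).map (algebraMap S (Localization.AtPrime (p.map (algebraMap R S))))).comap
        (algebraMap S (Localization.AtPrime (p.map (algebraMap R S)))) := GrothLib.SymbFlat.map_symb p n

end Groth.Agent.S2138
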