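import Groth.Statements.S2140
import Groth.Agent.Lib.GenFree.Presentation
import Mathlib.RingTheory.Localization.BaseChange
import Mathlib.RingTheory.IsTensorProduct
-- import your own Groth.Agent.* helpers here

set_option autoImplicit false
universe u
open CAlg
open scoped TensorProduct

namespace Groth.Agent.S2140

/-- Let `R → S` be an injective ring map of finite type between domains. Then there are nonzero `f ∈ R`
and `g ∈ S` such that `S_{fg}` is a finitely presented `R_f`-algebra. -/
theorem result {R S : Type u} [CommRing R] [IsDomain R] [CommRing S] [IsDomain S]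
    [Algebra R S] [Algebra.FiniteType R S] (hinj : Function.Injective (algebraMap R S)) :
    ∃ (f : R) (g : S), f ≠ 0 ∧ g ≠ 0 ∧
      ∀ (Rf Sfg : Type u) [CommRing Rf] [CommRing Sfg] [Algebra R Rf] [IsLocalization.Away f Rf]
        [Algebra S Sfg] [IsLocalization.Away (algebraMap R S f * g) Sfg] [Algebra Rf Sfg] [Algebra R Sfg]
        [IsScalarTower R S Sfg] [IsScalarTower R Rf Sfg], Algebra.FinitePresentation Rf Sfg := by
  obtain ⟨f, -, hf, -, -, hfp, -⟩ :=
    GrothLib.GenFree.exists_free_and_finitePresentation (R := R) S S 1 one_ne_zero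
  refine ⟨f, 1, hf, one_ne_zero, ?_⟩
  intro Rf Sfg _ _ _ _ _ _ _ _ _ _
  have : IsLocalization (Algebra.algebraMapSubmonoid S (Submonoid.powers f)) Sfg := by
    rw [Algebra.algebraMapSubmonoid, Submonoid.map_powers]
    have h : IsLocalization.Away (algebraMap R S f * 1) Sfg := inferInstance
    rw [mul_one] at h
    exact h
  have : Algebra.IsPushout R Rf S Sfg :=
    (Algebra.isPushout_of_isLocalization (Submonoid.powers f) Rf S Sfg).symm
  let Af := Localization.Away f
  let e : Af ≃ₐ[R] Rf := IsLocalization.algEquiv (Submonoid.powers f) Af Rf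
  let _ : Algebra Af Rf := e.toAlgHom.toRingHom.toAlgebra
  have : IsScalarTower R Af Rf := IsScalarTower.of_algebraMap_eq fun r => (e.commutes r).symm
  have h2 : Algebra.FinitePresentation Rf (Rf ⊗[Af] (Af ⊗[R] S)) := inferInstance
  have h3 : Algebra.FinitePresentation Rf (Rf ⊗[R] S) :=
    Algebra.FinitePresentation.equiv (Algebra.TensorProduct.cancelBaseChange R Af Rf Rf S)
  exact Algebra.FinitePresentation.equiv (Algebra.IsPushout.equiv R Rf S Sfg)

end Groth.Agent.S2140
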