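import Groth.Statements.S2143
import Groth.Agent.Lib.LocalDimAlg.Basic
-- import your own Groth.Agent.* helpers here

set_option autoImplicit false
universe u
open CAlg

namespace Groth.Agent.S2143

/-- (1) = (3): let `S` be of finite type over a field `k` and `𝔭` a prime of `S`. The local dimension of
`Spec S` at `𝔭` is the infimum of `dim S_𝔪` over the maximal ideals `𝔪 ⊇ 𝔭`. -/
theorem result {k S : Type u} [Field k] [CommRing S] [Algebra k S] [Algebra.FiniteType k S]
    (p : Ideal S) [p.IsPrime] :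
    FlatMor.localDim (PrimeSpectrum S) ⟨p, inferInstance⟩ =
      ⨅ m : {m : Ideal S // m.IsMaximal ∧ p ≤ m}, ringKrullDim (Localization.AtPrime (hp := m.2.1.isPrime') m.1) := by
  have : IsJacobsonRing S := isJacobsonRing_of_finiteType (A := k)
  have hd : ∀ m : Ideal S, ∀ [m.IsMaximal], ringKrullDim (Localization.AtPrime m) =
      (m.height : WithBot ℕ∞) + ringKrullDim (S ⧸ m) := by
    intro m _
    have hF : IsField (S ⧸ m) := (Ideal.Quotient.maximal_ideal_iff_isField_quotient m).1 ‹_›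
    rw [IsLocalization.AtPrime.ringKrullDim_eq_height m, ringKrullDim_eq_zero_of_isField hF, add_zero]
  refine le_antisymm (le_iInf fun ⟨m, hm, hpm⟩ => ?_) ?_
  · rw [hd m, ← GrothLib.LocalDimAlg.localDim_eq k m]
    refine le_iInf fun U => iInf_le_of_le ⟨U.1, ?_⟩ le_rfl
    exact (((PrimeSpectrum.le_iff_specializes ⟨p, inferInstance⟩ ⟨m, hm.isPrime⟩).1 hpm).mem_open
      U.1.isOpen U.2)
  · obtain ⟨g, hg, hle⟩ := GrothLib.LocalDimAlg.exists_dim_basicOpen_le k p
    have hjac : p.jacobson = p := (isJacobsonRing_iff_prime_eq.1 inferInstance) p inferInstance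
    obtain ⟨m, ⟨hpm, hm⟩, hgm⟩ : ∃ m : Ideal S, (p ≤ m ∧ m.IsMaximal) ∧ g ∉ m := by
      by_contra hc
      push Not at hc
      refine hg (hjac ▸ Ideal.mem_sInf.2 fun {m} hm => hc m hm)
    refine iInf_le_of_le ⟨m, hm, hpm⟩ ?_
    rw [hd m, GrothLib.LocalDimAlg.localDim_eq k p]
    exact (GrothLib.LocalDimAlg.le_dim_basicOpen k m hgm).trans hle

end Groth.Agent.S2143
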