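import Groth.Statements.S2144
import Mathlib
import Groth.Agent.Lib.RingStage.FaithfullyFlat

set_option autoImplicit false
universe u
open CAlg

namespace Groth.Agent.S2144

open TensorProduct in
/-- Let `R → A → B` be ring maps with `A → B` faithfully flat and of finite presentation. Then there are
an `R`-algebra `A₀` of finite presentation mapping to `A` and a faithfully flat finitely presented
`A₀`-algebra `B₀` with `B ≅ A ⊗_{A₀} B₀` as `A`-algebras. -/
theorem result {R A B : Type u} [CommRing R] [CommRing A] [CommRing B] [Algebra R A]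
    [Algebra A B] [Algebra.FinitePresentation A B] [Module.FaithfullyFlat A B] :
    ∃ (A₀ B₀ : Type u) (_ : CommRing A₀) (_ : CommRing B₀) (_ : Algebra R A₀) (_ : Algebra A₀ A) (_ : IsScalarTower R A₀ A)
      (_ : Algebra A₀ B₀), Algebra.FinitePresentation R A₀ ∧ Algebra.FinitePresentation A₀ B₀ ∧ Module.FaithfullyFlat A₀ B₀ ∧
      Nonempty (B ≃ₐ[A] A ⊗[A₀] B₀) := by
  exact GrothLib.RingStage.exists_model_faithfullyFlat_over R A B

end Groth.Agent.S2144
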