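import Groth.Statements.S2145
import Groth.Agent.Lib.SpreadLoc.Basic

set_option autoImplicit false
universe u
open CAlg
open GrothLib.SpreadLoc

namespace Groth.Agent.S2145

/-- Let `S`, `S'` be finitely presented `R`-algebras and `𝔮 ⊆ S`, `𝔮' ⊆ S'` primes with `S_𝔮 ≅ S'_{𝔮'}`
as `R`-algebras. Then `S_g ≅ S'_{g'}` as `R`-algebras for some `g ∉ 𝔮`, `g' ∉ 𝔮'`. -/
theorem result {R S S' : Type u} [CommRing R] [CommRing S] [CommRing S'] [Algebra R S]
    [Algebra R S'] [Algebra.FinitePresentation R S] [Algebra.FinitePresentation R S'] (q : Ideal S) [q.IsPrime]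
    (q' : Ideal S') [q'.IsPrime] (e : Localization.AtPrime q ≃ₐ[R] Localization.AtPrime q') :
    ∃ (g : S) (g' : S'), g ∉ q ∧ g' ∉ q' ∧ Nonempty (Localization.Away g ≃ₐ[R] Localization.Away g') := by
  obtain ⟨g₁', hg₁', ψ₀, hψ₀⟩ := exists_lift q' (e.toAlgHom.comp (natP q))
  obtain ⟨g₂, hg₂, χ₀, hχ₀⟩ := exists_lift q (e.symm.toAlgHom.comp (natP q'))
  have hP' : ∀ (g : S') (hg : g ∉ q') (x : S') (u : (Localization.Away g)ˣ) (y : Localization.Away g),
      y * u = nat (R := R) g x → IsUnit (toPrime (R := R) q' hg y) → x ∉ q' := fun g hg x u y he hu hm => by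
    have := hu.mul (u.isUnit.map (toPrime (R := R) q' hg))
    rw [← map_mul, he, toPrime, extend_apply] at this
    exact (IsLocalization.AtPrime.isUnit_to_map_iff (Localization.AtPrime q') q' x).mp this hm
  have hP : ∀ (g : S) (hg : g ∉ q) (x : S) (u : (Localization.Away g)ˣ) (y : Localization.Away g),
      y * u = nat (R := R) g x → IsUnit (toPrime (R := R) q hg y) → x ∉ q := fun g hg x u y he hu hm => by
    have := hu.mul (u.isUnit.map (toPrime (R := R) q hg))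
    rw [← map_mul, he, toPrime, extend_apply] at this
    exact (IsLocalization.AtPrime.isUnit_to_map_iff (Localization.AtPrime q) q x).mp this hm
  -- `ψ₀ : S → S'_{g₁'}` sends `g₂` to `c₁ / unit`
  obtain ⟨c₁, u₁, hu₁⟩ := exists_mul_eq_nat (R := R) (ψ₀ g₂)
  have hc₁ : c₁ ∉ q' := hP' _ hg₁' c₁ u₁ _ hu₁ (by
    rw [← AlgHom.comp_apply, hψ₀]
    exact (IsLocalization.map_units (Localization.AtPrime q) (⟨g₂, hg₂⟩ : q.primeCompl)).map e)
  have hG' : g₁' * c₁ ∉ q' := mul_notMem q' hg₁' hc₁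
  let ψ₁ : S →ₐ[R] Localization.Away (g₁' * c₁) := (mapDvd (dvd_mul_right g₁' c₁)).comp ψ₀
  have hψ₁ : (toPrime q' hG').comp ψ₁ = e.toAlgHom.comp (natP q) := by
    rw [← AlgHom.comp_assoc, toPrime_comp_mapDvd q' _ hg₁' hG', hψ₀]
  have hψ₁u : IsUnit (ψ₁ g₂) := by
    have h := congrArg (mapDvd (R := R) (dvd_mul_right g₁' c₁)) hu₁
    rw [map_mul, mapDvd, extend_apply] at h
    exact isUnit_of_mul_isUnit_left (h ▸ isUnit_nat_of_dvd (dvd_mul_left c₁ g₁'))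
  let α : S' →ₐ[R] Localization.Away (g₁' * c₁) := (extend ψ₁ hψ₁u).comp χ₀
  have hE : (toPrime q' hG').comp (extend ψ₁ hψ₁u) = e.toAlgHom.comp (toPrime q hg₂) :=
    algHom_ext (by rw [AlgHom.comp_assoc, AlgHom.comp_assoc, extend_comp, hψ₁, toPrime, extend_comp])
  obtain ⟨l, hl, hlk⟩ := exists_comp_eq q' hG' α (nat _) (by
    rw [show (toPrime q' hG').comp (nat _) = natP q' from extend_comp _ _]
    rw [← AlgHom.comp_assoc, hE, AlgHom.comp_assoc, hχ₀]
    ext x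
    simp)
  -- `ψ₂ : S_{g₂} → S'_H`, left inverse of `χ₀`
  have hH : g₁' * c₁ * l ∉ q' := mul_notMem q' hG' hl
  let ψ₂ : Localization.Away g₂ →ₐ[R] Localization.Away (g₁' * c₁ * l) :=
    (mapDvd (dvd_mul_right _ l)).comp (extend ψ₁ hψ₁u)
  have hψ₂χ : ψ₂.comp χ₀ = nat _ := by
    rw [AlgHom.comp_assoc, hlk _ (dvd_mul_right _ l) (dvd_mul_left _ _), mapDvd, extend_comp]
  have hψ₂P : (toPrime q' hH).comp ψ₂ = e.toAlgHom.comp (toPrime q hg₂) := by
    rw [← AlgHom.comp_assoc, toPrime_comp_mapDvd q' _ hG' hH, hE]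
  obtain ⟨d, u₂, hu₂⟩ := exists_mul_eq_nat (R := R) (χ₀ (g₁' * c₁ * l))
  have hd : d ∉ q := hP _ hg₂ d u₂ _ hu₂ (by
    rw [← AlgHom.comp_apply, hχ₀]
    exact (IsLocalization.map_units (Localization.AtPrime q') (⟨_, hH⟩ : q'.primeCompl)).map e.symm)
  have hG : g₂ * d ∉ q := mul_notMem q hg₂ hd
  let χ₁ : S' →ₐ[R] Localization.Away (g₂ * d) := (mapDvd (dvd_mul_right g₂ d)).comp χ₀
  have hχ₁u : IsUnit (χ₁ (g₁' * c₁ * l)) := by
    have h := congrArg (mapDvd (R := R) (dvd_mul_right g₂ d)) hu₂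
    rw [map_mul, mapDvd, extend_apply] at h
    exact isUnit_of_mul_isUnit_left (h ▸ isUnit_nat_of_dvd (dvd_mul_left d g₂))
  let χ₂ := extend χ₁ hχ₁u
  have hψ₂g : IsUnit (ψ₂ (nat (R := R) g₂ (g₂ * d))) := by
    rw [map_mul, map_mul, ← hu₂, map_mul, ← AlgHom.comp_apply ψ₂ χ₀, hψ₂χ]
    exact ((IsLocalization.Away.algebraMap_isUnit g₂).map ψ₂).mul
      ((IsLocalization.Away.algebraMap_isUnit _).mul (u₂.isUnit.map _))
  let ψ₃ := extend (ψ₂.comp (nat g₂)) hψ₂g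
  have hψ₃ : ψ₃.comp (mapDvd (dvd_mul_right g₂ d)) = ψ₂ :=
    algHom_ext (by simp only [ψ₃, mapDvd, AlgHom.comp_assoc, extend_comp])
  have hψχ : ψ₃.comp χ₂ = AlgHom.id R _ := algHom_ext (by
    rw [AlgHom.comp_assoc, extend_comp, ← AlgHom.comp_assoc, hψ₃, hψ₂χ, AlgHom.id_comp])
  have hψ₃P : (toPrime q' hH).comp ψ₃ = e.toAlgHom.comp (toPrime q hG) := algHom_ext (by
    rw [AlgHom.comp_assoc, extend_comp, ← AlgHom.comp_assoc, hψ₂P, AlgHom.comp_assoc, AlgHom.comp_assoc,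
      toPrime, toPrime, extend_comp, extend_comp])
  have hχ₂P : (toPrime q hG).comp χ₂ = e.symm.toAlgHom.comp (toPrime q' hH) := algHom_ext (by
    rw [AlgHom.comp_assoc, extend_comp, ← AlgHom.comp_assoc, toPrime_comp_mapDvd q _ hg₂ hG, hχ₀,
      AlgHom.comp_assoc, toPrime, extend_comp])
  obtain ⟨m, hm, hmk⟩ := exists_comp_eq q hG ((χ₂.comp ψ₃).comp (nat _)) (nat _) (by
    rw [show (toPrime q hG).comp (nat _) = natP q from extend_comp _ _]
    rw [← AlgHom.comp_assoc, ← AlgHom.comp_assoc, hχ₂P, AlgHom.comp_assoc _ _ ψ₃, hψ₃P]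
    ext x
    simp only [AlgHom.comp_apply]
    rw [toPrime, extend_apply]
    simp)
  have hGm : g₂ * d * m ∉ q := mul_notMem q hG hm
  obtain ⟨c₃, u₃, hu₃⟩ := exists_mul_eq_nat (R := R) (ψ₃ (nat (R := R) _ m))
  have hc₃ : c₃ ∉ q' := hP' _ hH c₃ u₃ _ hu₃ (by
    rw [← AlgHom.comp_apply, hψ₃P, AlgHom.comp_apply, toPrime, extend_apply]
    exact (IsLocalization.map_units (Localization.AtPrime q) (⟨m, hm⟩ : q.primeCompl)).map e)
  let ψ' := (mapDvd (R := R) (dvd_mul_right (g₁' * c₁ * l) c₃)).comp ψ₃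
  have hψ' : IsUnit ((ψ'.comp (nat _)) (g₂ * d * m)) := by
    rw [AlgHom.comp_apply, map_mul (nat (R := R) _), map_mul ψ']
    refine ((IsLocalization.Away.algebraMap_isUnit (g₂ * d)).map ψ').mul ?_
    have h := congrArg (mapDvd (R := R) (dvd_mul_right (g₁' * c₁ * l) c₃)) hu₃
    rw [map_mul, show mapDvd (R := R) (dvd_mul_right (g₁' * c₁ * l) c₃) (nat (R := R) _ c₃) =
      nat (R := R) _ c₃ from extend_apply _ _ _] at h
    exact isUnit_of_mul_isUnit_left (h.symm ▸ isUnit_nat_of_dvd (dvd_mul_left c₃ _))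
  let χ' := (mapDvd (R := R) (dvd_mul_right (g₂ * d) m)).comp χ₂
  have hβ : (χ'.comp ψ₃).comp (nat _) = nat _ := by
    rw [AlgHom.comp_assoc _ χ₂, AlgHom.comp_assoc, hmk _ (dvd_mul_right _ m) (dvd_mul_left _ _), mapDvd,
      extend_comp]
  have hχ' : IsUnit ((χ'.comp (nat _)) (g₁' * c₁ * l * c₃)) := by
    rw [AlgHom.comp_apply, map_mul (nat (R := R) _), map_mul χ', ← hu₃, map_mul χ',
      show χ' (ψ₃ (nat (R := R) _ m)) = nat (R := R) _ m from AlgHom.congr_fun hβ m]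
    exact ((IsLocalization.Away.algebraMap_isUnit _).map χ').mul
      ((isUnit_nat_of_dvd (dvd_mul_left m _)).mul (u₃.isUnit.map _))
  refine ⟨g₂ * d * m, g₁' * c₁ * l * c₃, hGm, mul_notMem q' hH hc₃,
    ⟨AlgEquiv.ofAlgHom (extend _ hψ') (extend _ hχ') ?_ ?_⟩⟩
  · refine algHom_ext ?_
    rw [AlgHom.comp_assoc, extend_comp, AlgHom.id_comp, ← AlgHom.comp_assoc]
    have : (extend _ hψ').comp χ' = (ψ'.comp χ₂) := by
      rw [show χ' = (mapDvd _).comp χ₂ from rfl, ← AlgHom.comp_assoc]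
      congr 1
      exact algHom_ext (by simp only [mapDvd, AlgHom.comp_assoc, extend_comp])
    rw [this, show ψ' = (mapDvd _).comp ψ₃ from rfl, AlgHom.comp_assoc _ ψ₃, hψχ, AlgHom.comp_id,
      mapDvd, extend_comp]
  · refine algHom_ext ?_
    rw [AlgHom.comp_assoc, extend_comp, AlgHom.id_comp, ← AlgHom.comp_assoc]
    have : (extend _ hχ').comp ψ' = (χ'.comp ψ₃) := by
      rw [show ψ' = (mapDvd _).comp ψ₃ from rfl, ← AlgHom.comp_assoc]
      congr 1
      exact algHom_ext (by simp only [mapDvd, AlgHom.comp_assoc, extend_comp])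
    rw [this, hβ]

end Groth.Agent.S2145
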