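import Groth.Statements.S2146
import Groth.Agent.Lib.SpreadLoc.Basic
import Mathlib

set_option autoImplicit false
universe u
open CAlg

namespace Groth.Agent.S2146

/-- Let `S` be a finitely presented `R`-algebra and `𝔮` a prime of `S` over `𝔭` such that the induced
map `R_𝔭 → S_𝔮` is bijective. Then for some `f ∉ 𝔭` there is an `R_f`-algebra `C` with `S_f ≅ R_f ×
C` as `R_f`-algebras. -/
theorem result {R S : Type u} [CommRing R] [CommRing S] [Algebra R S]
    [Algebra.FinitePresentation R S] (q : Ideal S) [q.IsPrime] (p : Ideal R) [p.IsPrime] [q.LiesOver p]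
    (h : Function.Bijective (Localization.localRingHom p q (algebraMap R S) (q.over_def p))) :
    ∃ f : R, f ∉ p ∧ ∀ (Rf Sf : Type u) [CommRing Rf] [CommRing Sf] [Algebra R Rf] [IsLocalization.Away f Rf]
      [Algebra S Sf] [IsLocalization.Away (algebraMap R S f) Sf] [Algebra Rf Sf] [Algebra R Sf] [IsScalarTower R S Sf]
      [IsScalarTower R Rf Sf],
      ∃ (C : Type u) (_ : CommRing C) (_ : Algebra Rf C), Nonempty (Sf ≃ₐ[Rf] (Rf × C)) := by
  classical
  let loc := Localization.localRingHom p q (algebraMap R S) (q.over_def p)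
  let eb := RingEquiv.ofBijective loc h
  have hloc : ∀ r : R, loc (algebraMap R _ r) = algebraMap S _ (algebraMap R S r) :=
    fun r => Localization.localRingHom_to_map p q (algebraMap R S) (q.over_def p) r
  let φ : S →ₐ[R] Localization.AtPrime p :=
    { toRingHom := eb.symm.toRingHom.comp (algebraMap S (Localization.AtPrime q))
      commutes' := fun r => eb.injective (by
        show eb (eb.symm (algebraMap S _ (algebraMap R S r))) = loc (algebraMap R _ r)
        rw [eb.apply_symm_apply, hloc]) }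
  have hφ : ∀ x, loc (φ x) = algebraMap S (Localization.AtPrime q) x := fun x => eb.apply_symm_apply _
  obtain ⟨f₀, hf₀, ψ, hψ⟩ := GrothLib.SpreadLoc.exists_lift p φ
  obtain ⟨gen, hgen⟩ := ‹Algebra.FinitePresentation R S›.out.elim fun n ⟨π, hπ, _⟩ =>
    (⟨Finset.univ.image fun i => π (MvPolynomial.X i), by
      rw [Finset.coe_image, Finset.coe_univ, Set.image_univ, show (Set.range fun i => π (MvPolynomial.X i)) =
        π '' Set.range MvPolynomial.X from Set.range_comp _ _, ← AlgHom.map_adjoin, MvPolynomial.adjoin_range_X,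
        Algebra.map_top, AlgHom.range_eq_top]
      exact hπ⟩ : ∃ s : Finset S, Algebra.adjoin R (s : Set S) = ⊤)
  choose n a ha using fun x : gen => IsLocalization.Away.surj f₀ (ψ x)
  have hker : ∀ x : gen, ∃ s : q.primeCompl,
      (s : S) * (algebraMap R S f₀ ^ n x * (x : S) - algebraMap R S (a x)) = 0 := fun x => by
    refine (IsLocalization.map_eq_zero_iff q.primeCompl (Localization.AtPrime q) _).mp ?_
    have h1 := congrArg loc (congrArg (GrothLib.SpreadLoc.toPrime (R := R) p hf₀) (ha x))
    rw [map_mul, map_pow] at h1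
    have h2 : ∀ r : R, GrothLib.SpreadLoc.toPrime (R := R) p hf₀ (algebraMap R _ r) = algebraMap R _ r :=
      fun r => (GrothLib.SpreadLoc.toPrime (R := R) p hf₀).commutes r
    rw [h2, h2, ← AlgHom.comp_apply, hψ, map_mul, map_pow, hφ, hloc, hloc] at h1
    rw [map_sub, map_mul, map_pow, sub_eq_zero, mul_comm, h1]
  choose s hs using hker
  let S₀ : S := ∏ x, (s x : S)
  have hS₀ : S₀ ∉ q := fun hm => by
    obtain ⟨x, -, hx⟩ := (‹q.IsPrime›.prod_mem_iff).mp hm
    exact (s x).2 hx
  obtain ⟨c, u, hc⟩ := GrothLib.SpreadLoc.exists_mul_eq_nat (R := R) (ψ S₀)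
  have hcp : c ∉ p := fun hm => by
    have h1 := congrArg (GrothLib.SpreadLoc.toPrime (R := R) p hf₀) hc
    rw [map_mul, ← AlgHom.comp_apply, hψ, GrothLib.SpreadLoc.toPrime, GrothLib.SpreadLoc.extend_apply] at h1
    have hu : IsUnit (φ S₀) := (IsLocalization.map_units (Localization.AtPrime q) (⟨S₀, hS₀⟩ : q.primeCompl)).map eb.symm
    exact (IsLocalization.AtPrime.isUnit_to_map_iff (Localization.AtPrime p) p c).mp
      (h1 ▸ hu.mul (u.isUnit.map _)) hm
  refine ⟨f₀ * c, fun hm => (‹p.IsPrime›.mem_or_mem hm).elim hf₀ hcp, ?_⟩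
  intro Rf Sf _ _ _ _ _ _ _ _ _ _
  have hu₀ : IsUnit (algebraMap R Rf f₀) := isUnit_of_dvd_unit (map_dvd _ (dvd_mul_right f₀ c))
    (IsLocalization.Away.algebraMap_isUnit (f₀ * c))
  have huc : IsUnit (algebraMap R Rf c) := isUnit_of_dvd_unit (map_dvd _ (dvd_mul_left c f₀))
    (IsLocalization.Away.algebraMap_isUnit (f₀ * c))
  let π : Localization.Away f₀ →ₐ[R] Rf := GrothLib.SpreadLoc.extend (Algebra.ofId R Rf) hu₀
  let ψ' : S →ₐ[R] Rf := π.comp ψ
  have hψu : IsUnit (ψ' S₀) := by
    have h1 := congrArg π hc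
    rw [map_mul, GrothLib.SpreadLoc.extend_apply] at h1
    exact isUnit_of_mul_isUnit_left (h1.symm ▸ huc : IsUnit (ψ' S₀ * π u))
  have hψf : IsUnit (ψ' (algebraMap R S (f₀ * c))) := by
    rw [AlgHom.commutes]
    exact IsLocalization.Away.algebraMap_isUnit (f₀ * c)
  let σR : Sf →ₐ[R] Rf := IsLocalization.Away.liftAlgHom (algebraMap R S (f₀ * c)) hψf
  have hσS : ∀ x, σR (algebraMap S Sf x) = ψ' x := fun x => IsLocalization.Away.lift_eq (algebraMap R S (f₀ * c)) hψf x
  have hcomp : σR.toRingHom.comp (algebraMap Rf Sf) = RingHom.id Rf :=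
    IsLocalization.ringHom_ext (Submonoid.powers (f₀ * c)) (RingHom.ext fun r => by
      simp only [RingHom.comp_apply, RingHom.id_apply, ← IsScalarTower.algebraMap_apply]
      exact σR.commutes r)
  let σ : Sf →ₐ[Rf] Rf := { σR.toRingHom with commutes' := fun r => RingHom.congr_fun hcomp r }
  let T : Sf := algebraMap S Sf S₀
  have hgenT : ∀ x : gen, T * algebraMap S Sf x = T * algebraMap Rf Sf (σ (algebraMap S Sf x)) := fun x => by
    obtain ⟨w, hw⟩ : (s x : S) ∣ S₀ := Finset.dvd_prod_of_mem _ (Finset.mem_univ x)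
    have h1 : T * (algebraMap R Sf f₀ ^ n x * algebraMap S Sf x - algebraMap R Sf (a x)) = 0 := by
      have := congrArg (fun z => algebraMap S Sf (w * z)) (hs x)
      simp only [mul_zero, map_zero, map_mul, map_sub, map_pow, ← IsScalarTower.algebraMap_apply] at this
      rw [← this, show T = algebraMap S Sf w * algebraMap S Sf (s x : S) by
        rw [← map_mul, mul_comm, ← hw]]
      ring
    have h2 : σ (algebraMap S Sf x) * algebraMap R Rf f₀ ^ n x = algebraMap R Rf (a x) := by
      show σR (algebraMap S Sf x) * _ = _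
      have h3 := congrArg π (ha x)
      rw [map_mul, map_pow, AlgHom.commutes, AlgHom.commutes] at h3
      rw [hσS]
      exact h3
    have h4 := congrArg (algebraMap Rf Sf) h2
    rw [map_mul, map_pow, ← IsScalarTower.algebraMap_apply, ← IsScalarTower.algebraMap_apply] at h4
    have hu : IsUnit (algebraMap R Sf f₀ ^ n x) := by
      rw [IsScalarTower.algebraMap_apply R Rf Sf]
      exact (hu₀.map _).pow _
    refine hu.mul_left_cancel ?_
    linear_combination h1 - T * h4
  let Q : Subalgebra R Sf :=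
    { carrier := {y | T * y = T * algebraMap Rf Sf (σ y)}
      mul_mem' := fun {y z} hy hz => by
        simp only [Set.mem_setOf_eq] at hy hz ⊢
        rw [map_mul, map_mul]
        linear_combination z * hy + algebraMap Rf Sf (σ y) * hz
      add_mem' := fun {y z} hy hz => by
        simp only [Set.mem_setOf_eq] at hy hz ⊢
        rw [map_add, map_add, mul_add, mul_add, hy, hz]
      algebraMap_mem' := fun r => by
        simp only [Set.mem_setOf_eq]
        rw [IsScalarTower.algebraMap_apply R Rf Sf, AlgHom.commutes, Algebra.algebraMap_self_apply] }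
  have hS : ∀ x : S, algebraMap S Sf x ∈ Q := fun x => by
    have hle : Algebra.adjoin R (gen : Set S) ≤ Q.comap (IsScalarTower.toAlgHom R S Sf) :=
      Algebra.adjoin_le fun y hy => hgenT ⟨y, hy⟩
    rw [hgen] at hle
    exact hle trivial
  have hall : ∀ y : Sf, T * y = T * algebraMap Rf Sf (σ y) := fun y => by
    obtain ⟨m, b, hb⟩ := IsLocalization.Away.surj (algebraMap R S (f₀ * c)) y
    have h1 : T * algebraMap S Sf b = T * algebraMap Rf Sf (σ (algebraMap S Sf b)) := hS b
    rw [← hb, ← IsScalarTower.algebraMap_apply, IsScalarTower.algebraMap_apply R Rf Sf, map_mul σ,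
      map_pow σ, AlgHom.commutes, Algebra.algebraMap_self_apply] at h1
    simp only [map_mul, map_pow, ← mul_assoc] at h1
    refine (((IsLocalization.Away.algebraMap_isUnit (f₀ * c)).map (algebraMap Rf Sf)).pow m).mul_right_cancel ?_
    simp only [map_mul, ← mul_assoc]
    exact h1
  have hσT : IsUnit (σ T) := by
    show IsUnit (σR T)
    rwa [hσS]
  obtain ⟨t, ht⟩ := hσT.exists_left_inv
  let e : Sf := T * algebraMap Rf Sf t
  have hσe : σ e = 1 := by
    simp only [e, map_mul, AlgHom.commutes, Algebra.algebraMap_self_apply]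
    rw [mul_comm, ht]
  have hey : ∀ y, e * y = e * algebraMap Rf Sf (σ y) := fun y => by
    simp only [e]
    linear_combination algebraMap Rf Sf t * hall y
  refine ⟨Sf ⧸ Ideal.span {e}, inferInstance, inferInstance,
    ⟨AlgEquiv.ofBijective (σ.prod (Ideal.Quotient.mkₐ Rf (Ideal.span {e}))) ⟨?_, ?_⟩⟩⟩
  · rw [injective_iff_map_eq_zero]
    intro y hy
    obtain ⟨h1, h2⟩ := Prod.mk_eq_zero.mp hy
    obtain ⟨z, rfl⟩ := Ideal.mem_span_singleton.mp (Ideal.Quotient.eq_zero_iff_mem.mp h2)
    change σ (e * z) = 0 at h1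
    rw [map_mul, hσe, one_mul] at h1
    rw [hey z, h1, map_zero, mul_zero]
  · rintro ⟨r, z⟩
    obtain ⟨z, rfl⟩ := Ideal.Quotient.mk_surjective z
    refine ⟨z * (1 - e) + algebraMap Rf Sf r * e, Prod.ext ?_ ?_⟩
    · show σ _ = r
      rw [map_add, map_mul, map_mul, map_sub, map_one, hσe, AlgHom.commutes]
      simp
    · show Ideal.Quotient.mk _ _ = Ideal.Quotient.mk _ z
      rw [Ideal.Quotient.eq]
      exact Ideal.mem_span_singleton.mpr ⟨algebraMap Rf Sf r - z, by ring⟩

end Groth.Agent.S2146
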