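import Groth.Statements.S2148
import Mathlib
import Groth.Agent.Lib.PBasis.Field

set_option autoImplicit false
universe u
open CAlg

namespace Groth.Agent.S2148

/-- Let `k` be a perfect field of characteristic `p > 0` and `K` an extension field of `k`. For `a ∈ K`,
the differential `da` vanishes in `Ω_{K/k}` if and only if `a` is a `p`-th power in `K`. -/
theorem result {k K : Type u} [Field k] [Field K] [Algebra k K] (p : ℕ) [Fact p.Prime]
    [CharP k p] [PerfectRing k p] (a : K) :
    KaehlerDifferential.D k K a = 0 ↔ ∃ b : K, b ^ p = a := by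
  haveI : CharP K p := charP_of_injective_algebraMap (algebraMap k K).injective p
  refine ⟨fun h => ?_, fun ⟨b, hb⟩ => by
    rw [← hb, GrothLib.PBasis.leibniz_pow_p p (KaehlerDifferential.D k K) (CharP.cast_eq_zero K p)]⟩
  have hn : ¬ EGA41.IsPIndependent p k (fun _ : PUnit.{u + 1} => a) := fun hi => by
    have := (GrothLib.PBasis.isPIndependent_iff_linearIndependent _).1 hi
    exact this.ne_zero PUnit.unit h
  rw [GrothLib.PBasis.isPIndependent_iff] at hn
  push Not at hn
  obtain ⟨i, hi⟩ := hn
  have hi' : a ∈ GrothLib.PBasis.genField p k (∅ : Set K) := by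
    convert hi using 2
    symm
    exact Set.image_eq_empty.2 (Set.eq_empty_of_forall_notMem fun j (hj : j ≠ i) => hj (Subsingleton.elim _ _))
  clear hi h i
  induction hi' using IntermediateField.adjoin_induction with
  | mem y hy =>
    rcases hy with ⟨z, rfl⟩ | hy
    · exact ⟨z, rfl⟩
    · exact absurd hy (Set.notMem_empty y)
  | algebraMap r =>
    obtain ⟨s, rfl⟩ : ∃ s, s ^ p = r := surjective_frobenius k p r
    exact ⟨algebraMap k K s, (map_pow _ _ _).symm⟩
  | add x y _ _ h1 h2 =>
    obtain ⟨u, rfl⟩ := h1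
    obtain ⟨v, rfl⟩ := h2
    exact ⟨u + v, add_pow_char u v p⟩
  | inv x _ h1 =>
    obtain ⟨u, rfl⟩ := h1
    exact ⟨u⁻¹, inv_pow u p⟩
  | mul x y _ _ h1 h2 =>
    obtain ⟨u, rfl⟩ := h1
    obtain ⟨v, rfl⟩ := h2
    exact ⟨u * v, mul_pow u v p⟩

end Groth.Agent.S2148
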