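import Groth.Statements.S2149
import Groth.Agent.Lib.UnivInj.Basic
import Mathlib.RingTheory.Localization.BaseChange
import Mathlib.RingTheory.LocalProperties.Exactness
-- import your own Groth.Agent.* helpers here

set_option autoImplicit false
universe u
open CAlg

namespace Groth.Agent.S2149
open TensorProduct

/-- Let `R → S` be a ring map and `u : M → M'` a map of `S`-modules. Then `u`, viewed as an `R`-linear
map, is universally injective exactly when, for every maximal ideal `𝔪` of `S`, the localized map
`M_𝔪 → M'_𝔪` is also universally injective as an `R`-linear map. -/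
theorem result {R S M M' : Type u} [CommRing R] [CommRing S] [Algebra R S]
    [AddCommGroup M] [Module S M] [Module R M] [IsScalarTower R S M] [AddCommGroup M'] [Module S M'] [Module R M']
    [IsScalarTower R S M'] (u : M →ₗ[S] M') :
    CAlgX.UniversallyInjective R (u.restrictScalars R) ↔
      ∀ (m : Ideal S) [m.IsMaximal],
        CAlgX.UniversallyInjective R ((LocalizedModule.map m.primeCompl u).restrictScalars R) := by
  constructor
  · intro h m hm Q _ _
    rw [injective_iff_map_eq_zero]
    intro z hz
    let gM : M ⊗[R] Q →ₗ[S] LocalizedModule m.primeCompl M ⊗[R] Q :=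
      TensorProduct.AlgebraTensorModule.rTensor R Q (LocalizedModule.mkLinearMap m.primeCompl M)
    let gM' : M' ⊗[R] Q →ₗ[S] LocalizedModule m.primeCompl M' ⊗[R] Q :=
      TensorProduct.AlgebraTensorModule.rTensor R Q (LocalizedModule.mkLinearMap m.primeCompl M')
    let uQ : M ⊗[R] Q →ₗ[S] M' ⊗[R] Q := TensorProduct.AlgebraTensorModule.rTensor R Q u
    have hsq : ∀ t, ((LocalizedModule.map m.primeCompl u).restrictScalars R).rTensor Q (gM t) = gM' (uQ t) := fun t => by
      induction t using TensorProduct.induction_on with
      | zero => simp
      | tmul a q => simp [gM, gM', uQ, LocalizedModule.map_mk]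
      | add a b ha hb => simp [map_add, ha, hb]
    obtain ⟨⟨w, s⟩, hw⟩ := IsLocalizedModule.surj m.primeCompl gM z
    simp only [Submonoid.smul_def] at hw
    have hlin : ∀ t, ((LocalizedModule.map m.primeCompl u).restrictScalars R).rTensor Q ((s : S) • t) =
        (s : S) • ((LocalizedModule.map m.primeCompl u).restrictScalars R).rTensor Q t := fun t => by
      induction t using TensorProduct.induction_on with
      | zero => simp
      | tmul a q => simp [TensorProduct.smul_tmul']
      | add a b ha hb => simp [map_add, smul_add, ha, hb]
    have h0 : gM' (uQ w) = 0 := by rw [← hsq, ← hw, hlin, hz, smul_zero]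
    obtain ⟨c, hc⟩ := (IsLocalizedModule.eq_zero_iff m.primeCompl gM').1 h0
    rw [Submonoid.smul_def, ← map_smul] at hc
    have hcw : (c : S) • w = 0 := h Q (by
      rw [map_zero, ← hc]
      generalize (c : S) • w = t
      induction t using TensorProduct.induction_on with
      | zero => simp
      | tmul a q => simp [uQ]
      | add a b ha hb => simp [map_add, ha, hb])
    have hgw : gM w = 0 :=
      (IsLocalizedModule.eq_zero_iff m.primeCompl gM).2 ⟨c, hcw⟩
    refine IsLocalizedModule.smul_injective gM s ?_
    simp only [Submonoid.smul_def, hw, hgw, smul_zero]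
  · intro h Q _ _
    rw [injective_iff_map_eq_zero]
    intro z hz
    refine Module.eq_of_localization_maximal
      (fun P _ => LocalizedModule P.primeCompl M ⊗[R] Q)
      (fun P _ => TensorProduct.AlgebraTensorModule.rTensor R Q (LocalizedModule.mkLinearMap P.primeCompl M))
      z 0 fun P hP => h P Q ?_
    rw [map_zero, map_zero]
    calc _ = TensorProduct.AlgebraTensorModule.rTensor R Q (LocalizedModule.mkLinearMap P.primeCompl M')
          ((u.restrictScalars R).rTensor Q z) := by
            clear hz
            induction z using TensorProduct.induction_on with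
            | zero => simp
            | tmul a q => simp [LocalizedModule.map_mk]
            | add a b ha hb => simp only [map_add]; exact congrArg₂ (· + ·) ha hb
      _ = 0 := by rw [hz, map_zero]

end Groth.Agent.S2149
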