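import Groth.Statements.S2155
import Groth.Agent.Lib.UnramLoc9.SmoothBC

set_option autoImplicit false
universe u
open CategoryTheory AlgebraicGeometry
open Mor
open CategoryTheory.Limits (pullback pullback.fst pullback.snd)

namespace Groth.Agent.S2155

/-- Consider a cartesian square with `f : X → S` locally of finite presentation, base change `g : S' →
S`, and `f' : X' → S'`, `g' : X' → X` the projections. If `f` is flat, or if `g` is flat, then the
open set of points where `f'` is smooth is the preimage under `g'` of the open set of points where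
`f` is smooth. -/
theorem result {X S X' S' : Scheme.{u}} (f : X ⟶ S) (g : S' ⟶ S) (f' : X' ⟶ S') (g' : X' ⟶ X)
    (h : IsPullback g' f' f g) [LocallyOfFinitePresentation f] [LocallyOfFinitePresentation f'] (hflat : Flat f ∨ Flat g) :
    f'.smoothLocus = g' ⁻¹ᵁ f.smoothLocus := by
  refine TopologicalSpace.Opens.ext (Set.ext fun x' => ?_)
  show x' ∈ f'.smoothLocus ↔ g' x' ∈ f.smoothLocus
  rw [← GrothLib.LocProp.smooth_nhd_iff, ← GrothLib.LocProp.smooth_nhd_iff]
  refine ⟨fun hs => ?_, GrothLib.LocProp.nhd_of_isPullback (W := @Smooth) h x'⟩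
  let e' := h.isoPullback
  have hfst : e'.hom ≫ pullback.fst f g = g' := h.isoPullback_hom_fst
  have hsnd : e'.hom ≫ pullback.snd f g = f' := h.isoPullback_hom_snd
  obtain ⟨U, hxU, hU⟩ := hs
  have hs' : ∃ U' : (pullback f g).Opens, e'.hom x' ∈ U' ∧ Smooth (U'.ι ≫ pullback.snd f g) := by
    refine ⟨e'.hom ''ᵁ U, ⟨x', hxU, rfl⟩, ?_⟩
    have : (e'.hom ''ᵁ U).ι ≫ pullback.snd f g = (e'.hom.isoImage U).inv ≫ U.ι ≫ f' := by
      rw [← hsnd, Scheme.Hom.isoImage_inv_ι_assoc]
    rw [this]
    infer_instance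
  have key : g' x' = pullback.fst f g (e'.hom x') := by rw [← hfst]; rfl
  rw [key]
  rcases hflat with hf | hg
  · exact GrothLib.UnramLoc9.smooth_nhd_of_baseChange_of_flat f g _ hs'
  · exact GrothLib.LocProp.smooth_nhd_of_baseChange f g _ (Flat.stalkMap g _) hs'

end Groth.Agent.S2155
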