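import Groth.Statements.S2156
import Groth.Agent.Lib.EtLocal.PointFibre
-- import your own Groth.Agent.* helpers here

set_option autoImplicit false
set_option backward.isDefEq.respectTransparency false
universe u
open CategoryTheory AlgebraicGeometry
open Mor

open CategoryTheory CategoryTheory.Limits AlgebraicGeometry

namespace Groth.Agent.S2156

/-- Let `f : X → S` be locally of finite presentation and `x ∈ X` with image `s`. Then `f` is smooth at
`x` if and only if `O_{S,s} → O_{X,x}` is flat and the fibre `X_s → Spec κ(s)` is smooth at the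
point corresponding to `x`. -/
theorem result {X S : Scheme.{u}} (f : X ⟶ S) [LocallyOfFinitePresentation f] (x : X)
    [LocallyOfFinitePresentation (f.fiberToSpecResidueField (f.base x))] :
    x ∈ f.smoothLocus ↔
      (f.stalkMap x).hom.Flat ∧ f.asFiber x ∈ (f.fiberToSpecResidueField (f.base x)).smoothLocus := by
  rw [← GrothLib.LocProp.smooth_nhd_iff]
  constructor
  · intro hx
    obtain ⟨U, hxU, hU⟩ := id hx
    refine ⟨(GrothLib.LocProp.stalkMap_comp_ι_iff RingHom.Flat.respectsIso U.ι f ⟨x, hxU⟩).mp
      (Flat.stalkMap (U.ι ≫ f) ⟨x, hxU⟩), ?_⟩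
    rw [← GrothLib.LocProp.smooth_nhd_iff]
    exact GrothLib.EtLocal.nhd_fibre (W := @Smooth) (IsPullback.of_hasPullback f _) _
      (f.fiberι_asFiber x) hx
  · rintro ⟨hflat, hfib⟩
    exact GrothLib.EtLocal.smooth_nhd_of_flat_of_fibre_nhd f x hflat _ (f.fiberι_asFiber x)
      ((GrothLib.LocProp.smooth_nhd_iff _ _).mpr hfib)

end Groth.Agent.S2156
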