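import Groth.Statements.S2158
import Groth.Agent.Lib.OmegaFree.Basic
import Groth.Agent.Lib.LocProp.StalkField

set_option autoImplicit false
universe u
open CategoryTheory AlgebraicGeometry
open Mor

namespace Groth.Agent.S2158

/-- Let `f : X → S` be locally of finite type and quasi-separated (so that the diagonal is quasi-compact
and the prelude's sheaf of differentials is the conormal sheaf of the diagonal near every point), `x
∈ X`, `s = f(x)`. Then the stalk `Ω_{X/S,x}` vanishes if and only if `𝔪_s O_{X,x} = 𝔪_x` and
`κ(x)/κ(s)` is a finite separable extension. -/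
theorem result {X S : Scheme.{u}} (f : X ⟶ S) [LocallyOfFiniteType f] [QuasiSeparated f] (x : X) :
    Subsingleton ((Omega.sheaf f).presheaf.stalk x) ↔
      ((IsLocalRing.maximalIdeal (S.presheaf.stalk (f.base x))).map (f.stalkMap x).hom =
          IsLocalRing.maximalIdeal (X.presheaf.stalk x) ∧
        (f.residueFieldMap x).hom.Finite ∧
        @Algebra.IsSeparable (S.residueField (f.base x)) (X.residueField x) _ _ (f.residueFieldMap x).hom.toAlgebra) := by
  refine Iff.trans ?_ ((GrothLib.LocProp.formallyUnramified_stalk_iff f x).trans Iff.rfl)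
  letI := (f.stalkMap x).hom.toAlgebra
  obtain ⟨e⟩ := GrothLib.OmegaFree.nonempty_stalk_equiv f x
  rw [show (f.stalkMap x).hom.FormallyUnramified ↔
      Algebra.FormallyUnramified (S.presheaf.stalk (f.base x)) (X.presheaf.stalk x) from Iff.rfl,
    Algebra.formallyUnramified_iff]
  exact e.toEquiv.subsingleton_congr

end Groth.Agent.S2158
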