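import Groth.Statements.S2159
import Mathlib.Algebra.Module.Projective
import Mathlib.LinearAlgebra.Prod
import Mathlib.Tactic.Abel

set_option autoImplicit false
universe u
open CAlg

namespace Groth.Agent.S2159

/-- Given surjections `p₁ : P₁ → M` and `p₂ : P₂ → M` from projective modules, with kernels `K` and `L`,
there is an isomorphism `K ⊕ P₂ ≅ L ⊕ P₁`. -/
theorem result {R M P₁ P₂ : Type u} [CommRing R] [AddCommGroup M] [Module R M] [AddCommGroup P₁] [Module R P₁]
    [Module.Projective R P₁] [AddCommGroup P₂] [Module R P₂] [Module.Projective R P₂] (p₁ : P₁ →ₗ[R] M) (p₂ : P₂ →ₗ[R] M)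
    (h₁ : Function.Surjective p₁) (h₂ : Function.Surjective p₂) :
    Nonempty ((LinearMap.ker p₁ × P₂) ≃ₗ[R] (LinearMap.ker p₂ × P₁)) := by
  obtain ⟨s, hs⟩ := Module.projective_lifting_property p₁ p₂ h₁
  obtain ⟨t, ht⟩ := Module.projective_lifting_property p₂ p₁ h₂
  have hs' : ∀ y, p₁ (s y) = p₂ y := LinearMap.congr_fun hs
  have ht' : ∀ x, p₂ (t x) = p₁ x := LinearMap.congr_fun ht
  refine ⟨{
    toFun := fun a => (⟨a.2 - t ((a.1 : P₁) + s a.2), by
        rw [LinearMap.mem_ker, map_sub, ht', map_add, hs', LinearMap.mem_ker.1 a.1.2, zero_add,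
          sub_self]⟩, (a.1 : P₁) + s a.2)
    invFun := fun b => (⟨b.2 - s ((b.1 : P₂) + t b.2), by
        rw [LinearMap.mem_ker, map_sub, hs', map_add, ht', LinearMap.mem_ker.1 b.1.2, zero_add,
          sub_self]⟩, (b.1 : P₂) + t b.2)
    map_add' := fun a b => by
      ext <;> simp <;> abel
    map_smul' := fun c a => by
      ext <;> simp [smul_sub]
    left_inv := fun a => by ext <;> simp
    right_inv := fun b => by ext <;> simp }⟩

end Groth.Agent.S2159
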