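import Groth.Statements.S2160
import Mathlib.RingTheory.Ideal.KrullsHeightTheorem
import Mathlib.RingTheory.Spectrum.Prime.Topology
-- import your own Groth.Agent.* helpers here

set_option autoImplicit false
universe u
open CAlg

namespace Groth.Agent.S2160

/-- Let `R` be a Noetherian local domain of Krull dimension at least `2`. Then every nonempty open
subset of `Spec R` is infinite. -/
theorem result {R : Type u} [CommRing R] [IsDomain R] [IsLocalRing R] [IsNoetherianRing R]
    (hdim : 2 ≤ ringKrullDim R) (U : Set (PrimeSpectrum R)) (hU : IsOpen U) (hne : U.Nonempty) : U.Infinite := by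
  classical
  obtain ⟨x0, hx0⟩ := hne
  obtain ⟨_, ⟨f, rfl⟩, hx0f, hfU⟩ := PrimeSpectrum.isTopologicalBasis_basic_opens.exists_subset_of_mem_open hx0 hU
  intro hfin
  have hf0 : f ≠ 0 := fun h => by simp [h] at hx0f
  let V : Finset (PrimeSpectrum R) := (hfin.subset hfU).toFinset.filter fun P => P.asIdeal ≠ ⊥
  have hg : ∀ P ∈ V, ∃ g ∈ P.asIdeal, g ≠ 0 := fun P hP =>
    Submodule.exists_mem_ne_zero_of_ne_bot (Finset.mem_filter.mp hP).2
  choose! g hgP hg0 using hg
  let h : R := f * ∏ P ∈ V, g P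
  have hh : h ≠ 0 := mul_ne_zero hf0 (Finset.prod_ne_zero_iff.mpr hg0)
  have hmem : ∀ P : Ideal R, P.IsPrime → P ≠ ⊥ → h ∈ P := by
    intro P hP hPb
    by_cases hfP : f ∈ P
    · exact P.mul_mem_right _ hfP
    · have hPV : (⟨P, hP⟩ : PrimeSpectrum R) ∈ V := Finset.mem_filter.mpr ⟨(Set.Finite.mem_toFinset _).mpr hfP, hPb⟩
      exact P.mul_mem_left _ (P.mem_of_dvd (Finset.dvd_prod_of_mem g hPV) (hgP _ hPV))
  let m := IsLocalRing.maximalIdeal R
  have hmb : m ≠ ⊥ := fun hb => by
    have h0 := (IsLocalRing.maximalIdeal_height_eq_ringKrullDim (R := R))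
    rw [show IsLocalRing.maximalIdeal R = ⊥ from hb, Ideal.height_bot] at h0
    exact absurd (h0 ▸ hdim) (by decide)
  have hsub : (m : Set R) ⊆ ⋃ P ∈ (Ideal.span {h}).minimalPrimes, (P : Set R) := by
    intro a ha
    rcases eq_or_ne a 0 with rfl | ha0
    · obtain ⟨P, hP⟩ := Ideal.nonempty_minimalPrimes (I := Ideal.span {h})
        (ne_top_of_le_ne_top (IsLocalRing.maximalIdeal.isMaximal R).ne_top
          ((Ideal.span_singleton_le_iff_mem m).mpr (hmem m inferInstance hmb)))
      exact Set.mem_biUnion hP P.zero_mem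
    · obtain ⟨Q, hQ⟩ := Ideal.nonempty_minimalPrimes (I := Ideal.span {a})
        (ne_top_of_le_ne_top (IsLocalRing.maximalIdeal.isMaximal R).ne_top ((Ideal.span_singleton_le_iff_mem m).mpr ha))
      have haQ : a ∈ Q := hQ.1.2 (Ideal.mem_span_singleton_self a)
      refine Set.mem_biUnion ?_ haQ
      haveI := hQ.1.1
      refine ⟨⟨hQ.1.1, (Ideal.span_singleton_le_iff_mem Q).mpr
        (hmem Q hQ.1.1 fun hb => ha0 (by simpa [hb] using haQ))⟩, fun P hP hPQ => ?_⟩
      by_contra hle
      haveI := hP.1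
      have h1 := Ideal.height_le_iff.mp (Ideal.height_le_one_of_isPrincipal_of_mem_minimalPrimes _ _ hQ) P hP.1 (lt_of_le_not_ge hPQ hle)
      have hPb : P.height = 0 := ENat.lt_one_iff_eq_zero.mp h1
      rw [Ideal.height_eq_zero_iff_eq_bot] at hPb
      exact hh ((Submodule.mem_bot R).mp (hPb ▸ hP.2 (Ideal.mem_span_singleton_self h)))
  have fin := Ideal.finite_minimalPrimes_of_isNoetherianRing R (Ideal.span {h})
  obtain ⟨P, hP, hle⟩ := (m.subset_union_prime_finite fin (f := id) 0 0 fun _ hP _ _ => hP.1.1).1 hsub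
  haveI := hP.1.1
  have h1 : m.height ≤ 1 := (Ideal.height_mono hle).trans (Ideal.height_le_one_of_isPrincipal_of_mem_minimalPrimes _ _ hP)
  have h2 := IsLocalRing.maximalIdeal_height_eq_ringKrullDim (R := R)
  rw [← h2] at hdim
  exact absurd ((WithBot.coe_le_coe.mp (le_of_le_of_eq hdim rfl) : (2 : ℕ∞) ≤ m.height).trans h1) (by decide)

end Groth.Agent.S2160
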