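import Groth.Statements.S2161
import Mathlib

set_option autoImplicit false
universe u
open CAlg

namespace Groth.Agent.S2161

/-- Let R → S be a ring map whose kernel consists of nilpotent elements, and suppose S is generated as
an R-algebra by elements x for which some power (T − x)ⁿ, n > 0, is the image of a polynomial over
R. Then Spec S → Spec R is a homeomorphism, and for every prime 𝔮 of S over 𝔭 the extension
κ(𝔮)/κ(𝔭) is purely inseparable. -/
theorem result {R S : Type u} [CommRing R] [CommRing S] [Algebra R S]
    (hker : ∀ r : R, algebraMap R S r = 0 → IsNilpotent r) (G : Set S) (hG : Algebra.adjoin R G = ⊤)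
    (hpow : ∀ x ∈ G, ∃ (n : ℕ) (P : Polynomial R), 0 < n ∧
      Polynomial.map (algebraMap R S) P = (Polynomial.X - Polynomial.C x) ^ n) :
    IsHomeomorph (PrimeSpectrum.comap (algebraMap R S)) ∧
      ∀ (q : Ideal S) [q.IsPrime] (p : Ideal R) [p.IsPrime] [q.LiesOver p],
        @IsPurelyInseparable p.ResidueField q.ResidueField _ _
          (Ideal.ResidueField.mapₐ p q (Algebra.ofId R S) (q.over_def p)).toRingHom.toAlgebra := by
  classical
  have hmonic : ∀ x ∈ G, ∃ (n : ℕ) (P : Polynomial R), 0 < n ∧ P.Monic ∧
      Polynomial.map (algebraMap R S) P = (Polynomial.X - Polynomial.C x) ^ n := fun x hx => by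
    obtain ⟨n, P, hn, hP⟩ := hpow x hx
    obtain ⟨Q, hQ, -, hQm⟩ := Polynomial.lifts_and_natDegree_eq_and_monic
      (show (Polynomial.X - Polynomial.C x) ^ n ∈ Polynomial.lifts (algebraMap R S) from ⟨P, hP⟩)
      ((Polynomial.monic_X_sub_C x).pow n)
    exact ⟨n, Q, hn, hQm, hQ⟩
  have hint : (algebraMap R S).IsIntegral := by
    intro x
    have hle : Algebra.adjoin R G ≤ integralClosure R S := by
      rw [Algebra.adjoin_le_iff]
      intro y hy
      obtain ⟨n, P, hn, hPm, hP⟩ := hmonic y hy
      refine ⟨P, hPm, ?_⟩
      rw [← Polynomial.eval_map, hP]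
      simp [zero_pow hn.ne']
    exact hle (hG ▸ trivial)
  -- two maps to a field that agree on R agree
  have huniq : ∀ (Ω : Type u) [Field Ω] (u v : S →+* Ω),
      u.comp (algebraMap R S) = v.comp (algebraMap R S) → u = v := by
    intro Ω _ u v huv
    refine RingHom.ext fun s => ?_
    have hs : s ∈ Algebra.adjoin R G := hG ▸ trivial
    induction hs using Algebra.adjoin_induction with
    | mem x hx =>
      obtain ⟨n, P, hn, -, hP⟩ := hmonic x hx
      have h1 : ∀ w : S →+* Ω,
          P.map (w.comp (algebraMap R S)) = (Polynomial.X - Polynomial.C (w x)) ^ n := fun w => by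
        rw [← Polynomial.map_map, hP]
        simp
      have h2 := (h1 u).symm.trans ((congrArg P.map huv).trans (h1 v))
      have h3 := congrArg (Polynomial.eval (v x)) h2
      simp [zero_pow hn.ne'] at h3
      exact (sub_eq_zero.mp h3.1).symm
    | algebraMap r => exact RingHom.congr_fun huv r
    | add x y _ _ hx hy => rw [map_add, map_add, hx, hy]
    | mul x y _ _ hx hy => rw [map_mul, map_mul, hx, hy]
  have halg : ∀ (p : Ideal R) [p.IsPrime] (q : Ideal S) [q.IsPrime] (h : p = q.comap (algebraMap R S)),
      @Algebra.IsAlgebraic p.ResidueField q.ResidueField _ _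
        (Ideal.ResidueField.map p q (algebraMap R S) h).toAlgebra := by
    intro p _ q _ h
    let ρ := Ideal.ResidueField.map p q (algebraMap R S) h
    letI := ρ.toAlgebra
    refine ⟨fun y => ?_⟩
    have hmem : ∀ s : S, IsAlgebraic p.ResidueField (algebraMap S q.ResidueField s) := fun s => by
      obtain ⟨P, hPm, hP⟩ := hint s
      refine ⟨P.map (algebraMap R p.ResidueField), (hPm.map _).ne_zero, ?_⟩
      rw [Polynomial.aeval_def, Polynomial.eval₂_map]
      have hc : (algebraMap p.ResidueField q.ResidueField).comp (algebraMap R p.ResidueField) =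
          (algebraMap S q.ResidueField).comp (algebraMap R S) :=
        RingHom.ext fun r => Ideal.ResidueField.map_algebraMap p q _ h r
      rw [hc, ← Polynomial.hom_eval₂, hP, map_zero]
    obtain ⟨x, z, -, rfl⟩ := IsFractionRing.div_surjective (S ⧸ q) y
    obtain ⟨x, rfl⟩ := Ideal.Quotient.mk_surjective x
    obtain ⟨z, rfl⟩ := Ideal.Quotient.mk_surjective z
    rw [div_eq_mul_inv]
    exact (hmem x).mul (hmem z).inv
  have hinj : Function.Injective (PrimeSpectrum.comap (algebraMap R S)) := by
    intro q q' h
    have h' : q'.asIdeal.comap (algebraMap R S) = q.asIdeal.comap (algebraMap R S) :=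
      (congrArg PrimeSpectrum.asIdeal h).symm
    set p := q.asIdeal.comap (algebraMap R S) with hp
    let Ω := AlgebraicClosure q.asIdeal.ResidueField
    let ρ := Ideal.ResidueField.map p q.asIdeal (algebraMap R S) hp
    let ρ' := Ideal.ResidueField.map p q'.asIdeal (algebraMap R S) h'.symm
    letI := ρ'.toAlgebra
    letI : Algebra p.ResidueField Ω := ((algebraMap q.asIdeal.ResidueField Ω).comp ρ).toAlgebra
    haveI : Algebra.IsAlgebraic p.ResidueField q'.asIdeal.ResidueField := halg p q'.asIdeal h'.symm
    let j : q'.asIdeal.ResidueField →ₐ[p.ResidueField] Ω := IsAlgClosed.lift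
    let u : S →+* Ω := (algebraMap q.asIdeal.ResidueField Ω).comp (algebraMap S q.asIdeal.ResidueField)
    let v : S →+* Ω := j.toRingHom.comp (algebraMap S q'.asIdeal.ResidueField)
    have huv : u = v := huniq Ω u v (RingHom.ext fun r => by
      show algebraMap _ Ω (algebraMap S q.asIdeal.ResidueField (algebraMap R S r)) =
        j (algebraMap S q'.asIdeal.ResidueField (algebraMap R S r))
      rw [← Ideal.ResidueField.map_algebraMap p q.asIdeal _ hp,
        ← Ideal.ResidueField.map_algebraMap p q'.asIdeal _ h'.symm]
      exact (j.commutes (algebraMap R p.ResidueField r)).symm)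
    ext s
    have hu : u s = 0 ↔ s ∈ q.asIdeal := by
      simp [u, Ideal.algebraMap_residueField_eq_zero]
    have hv : v s = 0 ↔ s ∈ q'.asIdeal := by
      simp [v, Ideal.algebraMap_residueField_eq_zero]
    rw [← hu, ← hv, huv]
  have hclosed := PrimeSpectrum.isClosedMap_comap_of_isIntegral (algebraMap R S) hint
  have hsurj : Function.Surjective (PrimeSpectrum.comap (algebraMap R S)) := by
    rw [← Set.range_eq_univ, ← hclosed.isClosed_range.closure_eq]
    exact DenseRange.closure_range ((PrimeSpectrum.denseRange_comap_iff_ker_le_nilRadical (algebraMap R S)).mpr fun r hr => hker r hr)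
  refine ⟨isHomeomorph_iff_continuous_isClosedMap_bijective.mpr
    ⟨PrimeSpectrum.continuous_comap _, hclosed, hinj, hsurj⟩, fun q _ p _ _ => ?_⟩
  have hp : p = q.comap (algebraMap R S) := q.over_def p
  let ρ := Ideal.ResidueField.map p q (algebraMap R S) hp
  letI := ρ.toAlgebra
  show IsPurelyInseparable p.ResidueField q.ResidueField
  haveI : Algebra.IsAlgebraic p.ResidueField q.ResidueField := halg p q hp
  rw [isPurelyInseparable_iff_finSepDegree_eq_one, Field.finSepDegree, Nat.card_eq_one_iff_unique]
  refine ⟨⟨fun f g => ?_⟩, ⟨IsAlgClosed.lift⟩⟩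
  have hfg := huniq (AlgebraicClosure q.ResidueField)
    (f.toRingHom.comp (algebraMap S q.ResidueField)) (g.toRingHom.comp (algebraMap S q.ResidueField))
    (RingHom.ext fun r => by
      show f (algebraMap S q.ResidueField (algebraMap R S r)) =
        g (algebraMap S q.ResidueField (algebraMap R S r))
      rw [← Ideal.ResidueField.map_algebraMap p q _ hp]
      exact (f.commutes (algebraMap R p.ResidueField r)).trans
        (g.commutes (algebraMap R p.ResidueField r)).symm)
  refine AlgHom.ext fun y => ?_
  obtain ⟨x, z, -, rfl⟩ := IsFractionRing.div_surjective (S ⧸ q) y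
  obtain ⟨x, rfl⟩ := Ideal.Quotient.mk_surjective x
  obtain ⟨z, rfl⟩ := Ideal.Quotient.mk_surjective z
  rw [map_div₀, map_div₀]
  exact congr_arg₂ (· / ·) (RingHom.congr_fun hfg x) (RingHom.congr_fun hfg z)

end Groth.Agent.S2161
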