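import Groth.Statements.S2165
import Groth.Agent.Lib.CIPres.Completion

set_option autoImplicit false
universe u
open LCI

namespace Groth.Agent.S2165

theorem result {R : Type u} [CommRing R] [IsRegularRing R]
    (p : Ideal R) [p.IsPrime] (rs : List R) (hmem : ∀ r ∈ rs, r ∈ p)
    (hreg : RingTheory.Sequence.IsRegular R rs)
    [IsLocalRing (Localization.AtPrime p ⧸
      Ideal.map (algebraMap R (Localization.AtPrime p)) (Ideal.ofList rs))] :
    Pi1.IsCompleteIntersection (Localization.AtPrime p ⧸
      Ideal.map (algebraMap R (Localization.AtPrime p)) (Ideal.ofList rs)) := by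
  haveI : IsRegularLocalRing (Localization.AtPrime p) := inferInstance
  have hle : Ideal.map (algebraMap R (Localization.AtPrime p)) (Ideal.ofList rs) ≤
      IsLocalRing.maximalIdeal (Localization.AtPrime p) := by
    rw [← Localization.AtPrime.map_eq_maximalIdeal]
    exact Ideal.map_mono (Ideal.span_le.mpr hmem)
  have hne := ne_top_of_le_ne_top (IsLocalRing.maximalIdeal.isMaximal _).ne_top hle
  refine (GrothLib.CIPres.isCompleteIntersection_quotient_iff _ hne).mpr
    ⟨rs.map (algebraMap R (Localization.AtPrime p)), (Ideal.map_ofList _ rs).symm, hreg.toIsWeaklyRegular.of_flat, ?_⟩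
  intro h
  refine hne ?_
  rw [Ideal.map_ofList]
  simpa [Ideal.mul_top, eq_comm] using h

end Groth.Agent.S2165
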