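import Groth.Statements.S2167
import Groth.Agent.Lib.CMFree.Params

set_option autoImplicit false
universe u
open LCI

namespace Groth.Agent.S2167

theorem result {R : Type u} [CommRing R] [IsRegularLocalRing R]
    (I : Ideal R) (hI : I ≠ ⊤) :
    (∃ rs : List R, Ideal.ofList rs = I ∧ RingTheory.Sequence.IsRegular R rs) ↔
      (((⊤ : Submodule (R ⧸ I) I.Cotangent).spanFinrank : WithBot ℕ∞) + ringKrullDim (R ⧸ I)
        ≤ ringKrullDim R) := by
  classical
  constructor
  · rintro ⟨rs, rfl, hrs⟩
    rw [← ringKrullDim_add_length_eq_ringKrullDim_of_isRegular rs hrs, add_comm]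
    refine add_le_add le_rfl ?_
    let v : Fin rs.length → (Ideal.ofList rs).Cotangent := fun i =>
      (Ideal.ofList rs).toCotangent ⟨rs.get i, Ideal.subset_span (List.get_mem rs i)⟩
    have hv : Submodule.span (R ⧸ Ideal.ofList rs) (Set.range v) = ⊤ := by
      rw [eq_top_iff]
      intro y _
      obtain ⟨⟨x, hx⟩, rfl⟩ := Ideal.toCotangent_surjective _ y
      have hx' : x ∈ Ideal.span (Set.range rs.get) := by
        refine (?_ : Ideal.ofList rs ≤ _) hx
        refine Ideal.span_le.mpr fun a ha => ?_
        obtain ⟨i, rfl⟩ := List.get_of_mem (show a ∈ rs from ha)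
        exact Ideal.subset_span ⟨i, rfl⟩
      obtain ⟨a, ha⟩ := Ideal.mem_span_range_iff_exists_fun.mp hx'
      refine (Submodule.mem_span_range_iff_exists_fun _).mpr ⟨fun i => Ideal.Quotient.mk _ (a i), ?_⟩
      have : (⟨x, hx⟩ : Ideal.ofList rs) = ∑ i, a i • ⟨rs.get i, Ideal.subset_span (List.get_mem rs i)⟩ := by
        ext
        simp [← ha]
      rw [this, map_sum]
      exact Finset.sum_congr rfl fun i _ => by rw [map_smul]; exact algebraMap_smul (R ⧸ Ideal.ofList rs) (a i) _
    have hn : (⊤ : Submodule (R ⧸ Ideal.ofList rs) (Ideal.ofList rs).Cotangent).spanFinrank ≤ rs.length := by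
      rw [← hv]
      refine (Submodule.spanFinrank_span_le_ncard_of_finite (Set.finite_range v)).trans ?_
      rw [← Set.image_univ]
      exact (Set.ncard_image_le Set.finite_univ).trans (by simp [Set.ncard_univ])
    exact_mod_cast hn
  · intro h
    haveI : Module.Finite R I.Cotangent := Module.Finite.of_surjective I.toCotangent I.toCotangent_surjective
    haveI : Module.Finite (R ⧸ I) I.Cotangent := Module.Finite.of_restrictScalars_finite R (R ⧸ I) I.Cotangent
    obtain ⟨s, hscard, hs⟩ :=
      Submodule.FG.exists_span_finset_card_eq_spanFinrank (Module.Finite.fg_top (R := R ⧸ I) (M := I.Cotangent))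
    choose z hz using fun y : s => Ideal.toCotangent_surjective I y.1
    let rs := (s.attach.toList.map fun y => (z y : R))
    have hle : Ideal.ofList rs ≤ I := Ideal.span_le.mpr fun a ha => by
      obtain ⟨y, -, rfl⟩ := List.mem_map.mp (show a ∈ rs from ha)
      exact (z y).2
    have hIle : I ≤ Ideal.ofList rs ⊔ IsLocalRing.maximalIdeal R • I := by
      intro x hx
      have hmem : I.toCotangent ⟨x, hx⟩ ∈ Submodule.span (R ⧸ I) (Set.range fun y : s => y.1) := by
        rw [Subtype.range_coe_subtype]
        exact hs.symm ▸ Submodule.mem_top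
      obtain ⟨a, ha⟩ := (Submodule.mem_span_range_iff_exists_fun _).mp hmem
      choose b hb using fun y => Ideal.Quotient.mk_surjective (a y)
      refine Submodule.mem_sup.mpr ⟨∑ y, b y * (z y : R), ?_, x - ∑ y, b y * (z y : R), ?_, by ring⟩
      · exact Ideal.sum_mem _ fun y _ => Ideal.mul_mem_left _ _ (Ideal.subset_span
          (List.mem_map.mpr ⟨y, Finset.mem_toList.mpr (Finset.mem_attach _ _), rfl⟩))
      · refine Submodule.smul_mono_left (IsLocalRing.le_maximalIdeal hI) ?_
        rw [smul_eq_mul, ← pow_two, show x - ∑ y, b y * (z y : R) =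
          ((⟨x, hx⟩ : I) : R) - ((∑ y, b y • z y : I) : R) by simp]
        refine (Ideal.toCotangent_eq I).mp ?_
        rw [map_sum, ← ha]
        refine Finset.sum_congr rfl fun y _ => ?_
        rw [map_smul, hz, ← hb]
        exact algebraMap_smul (R ⧸ I) (b y) _
    have heq : Ideal.ofList rs = I := le_antisymm hle (Submodule.le_of_le_smul_of_le_jacobson_bot
      (IsNoetherian.noetherian I) (IsLocalRing.maximalIdeal_le_jacobson _) hIle)
    refine ⟨rs, heq, GrothLib.CMFree.isRegular_of_ringKrullDim_quotient R rs (heq ▸ hI) ?_⟩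
    rw [heq, add_comm]
    convert h using 3
    simp [rs, hscard]

end Groth.Agent.S2167
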