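import Groth.Statements.S2168
import Groth.Agent.Lib.CIPres.Localize

set_option autoImplicit false
universe u
open LCI

namespace Groth.Agent.S2168

theorem result {A : Type u} [CommRing A] [IsNoetherianRing A]
    [IsLocalRing A] (hA : Pi1.IsCompleteIntersection A) (p : Ideal A) [p.IsPrime] :
    Pi1.IsCompleteIntersection (Localization.AtPrime p) :=
  GrothLib.CIPres.isCI_localization hA p

end Groth.Agent.S2168
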