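import Groth.Statements.S2169
import Groth.Agent.Lib.CIPres.Completion

set_option autoImplicit false
universe u
open LCI

namespace Groth.Agent.S2169

theorem result {A R : Type u} [CommRing A] [CommRing R]
    [IsNoetherianRing A] [IsLocalRing A] [IsAdicComplete (IsLocalRing.maximalIdeal A) A]
    [IsRegularLocalRing R] (f : R →+* A) (hf : Function.Surjective f)
    (hA : Pi1.IsCompleteIntersection A) :
    ∃ rs : List R, Ideal.ofList rs = RingHom.ker f ∧ RingTheory.Sequence.IsRegular R rs := by
  obtain ⟨B, _, _, rs, -, hrs, ⟨e⟩⟩ := hA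
  let e' : B ⧸ Ideal.span {r | r ∈ rs} ≃+* A := e.symm.trans
    (AdicCompletion.ofAlgEquiv (IsLocalRing.maximalIdeal A)).symm.toRingEquiv
  exact GrothLib.CIPres.exists_isRegular_ker f hf (e'.toRingHom.comp (Ideal.Quotient.mk _))
    (e'.surjective.comp Ideal.Quotient.mk_surjective)
    ⟨rs, by rw [RingHom.ker_comp_of_injective _ e'.injective, Ideal.mk_ker], hrs⟩

end Groth.Agent.S2169
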