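import Groth.Statements.S2170
import Groth.Agent.Lib.NumType.Matrix


set_option autoImplicit false
open Finset
open Models

namespace Groth.Agent.S2170

/-- Let A be a symmetric real n × n matrix with non-negative off-diagonal entries and m a vector with
positive entries such that for every i, ∑_{j ≠ i} A_{ij} m_j ≤ −A_{ii} m_i. Then the kernel of A is
the span of the vectors equal to m on an index set I and zero off I, for those I such that A_{ij} =
0 whenever i ∈ I and j ∉ I and such that equality holds in the above inequality for every i ∈ I. The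
published statement omits the symmetry of A (without which it fails) and applies it only to
symmetric matrices; stated here with A symmetric. -/
theorem result {n : ℕ} (A : Matrix (Fin n) (Fin n) ℝ) (m : Fin n → ℝ)
    (hsymm : A.IsSymm) (hA : ∀ i j, i ≠ j → 0 ≤ A i j) (hm : ∀ i, 0 < m i)
    (hle : ∀ i, ∑ j ∈ univ.erase i, A i j * m j ≤ -(A i i * m i)) :
    LinearMap.ker (Matrix.mulVecLin A) = Submodule.span ℝ
      {x : Fin n → ℝ | ∃ I : Finset (Fin n), (∀ i ∈ I, ∀ j ∉ I, A i j = 0) ∧
        (∀ i ∈ I, ∑ j ∈ univ.erase i, A i j * m j = -(A i i * m i)) ∧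
        x = fun i => if i ∈ I then m i else 0} := by
  have hsplit : ∀ i, ∑ j, A i j * m j = A i i * m i + ∑ j ∈ univ.erase i, A i j * m j :=
    fun i => (Finset.add_sum_erase univ (fun j => A i j * m j) (mem_univ i)).symm
  apply le_antisymm
  · intro x hx
    have hAx : A.mulVec x = 0 := by simpa using hx
    have hr : ∀ i, ∑ j, A i j * m j ≤ 0 := fun i => by rw [hsplit]; linarith [hle i]
    obtain ⟨-, h2⟩ := GrothLib.NumType.quad_nonpos A hsymm m hA hm hr x
    obtain ⟨hrow, hloc⟩ := h2 (by rw [hAx]; simp)
    classical
    set y : Fin n → ℝ := fun i => x i / m i with hy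
    have hdec : x = ∑ c ∈ (univ.image y).erase 0,
        c • (fun i => if i ∈ univ.filter (fun j => y j = c) then m i else 0) := by
      funext i
      simp only [Finset.sum_apply, Pi.smul_apply, smul_eq_mul, mem_filter, mem_univ, true_and, mul_ite, mul_zero]
      rw [Finset.sum_ite_eq]
      have hxy : y i * m i = x i := div_mul_cancel₀ _ (hm i).ne'
      rcases eq_or_ne (y i) 0 with h | h
      · simp [h] at hxy ⊢; exact hxy.symm
      · simp [h, hxy]
    rw [hdec]
    refine Submodule.sum_mem _ fun c hc => Submodule.smul_mem _ _ (Submodule.subset_span ?_)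
    refine ⟨univ.filter (fun j => y j = c), fun i hi j hj => ?_, fun i hi => ?_, rfl⟩
    · simp only [mem_filter, mem_univ, true_and] at hi hj
      by_contra h
      exact hj ((hloc i j h).symm.trans hi)
    · simp only [mem_filter, mem_univ, true_and] at hi
      have hc0 : c ≠ 0 := (mem_erase.mp hc).1
      have hxi : x i ≠ 0 := fun h => hc0 (by rw [← hi, hy]; simp [h])
      have := hrow i hxi
      rw [hsplit] at this
      linarith
  · rw [Submodule.span_le]
    rintro x ⟨I, hI, hIeq, rfl⟩
    show _ ∈ LinearMap.ker (Matrix.mulVecLin A)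
    rw [LinearMap.mem_ker, Matrix.mulVecLin_apply]
    funext i
    simp only [Matrix.mulVec, dotProduct, mul_ite, mul_zero, Pi.zero_apply]
    by_cases hi : i ∈ I
    · have : ∑ j, (if j ∈ I then A i j * m j else 0) = ∑ j, A i j * m j :=
        Finset.sum_congr rfl fun j _ => by
          by_cases hj : j ∈ I
          · simp [hj]
          · simp [hj, hI i hi j hj]
      rw [this, hsplit, hIeq i hi]; ring
    · refine Finset.sum_eq_zero fun j _ => ?_
      by_cases hj : j ∈ I
      · have := hI j hj i hi
        rw [hsymm.apply i j] at this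
        simp [hj, this]
      · simp [hj]

end Groth.Agent.S2170
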