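import Groth.Statements.S2171
import Groth.Agent.Lib.NumType.Matrix


set_option autoImplicit false
open Finset
open Models

namespace Groth.Agent.S2171

/-- Let A be a symmetric real n by n matrix with non-negative off-diagonal entries, m a vector with
positive entries such that A m = 0, and assume no proper non-empty index set I has A i j = 0 for all
i in I and j outside I. Then x^t A x is at most 0 for every real vector x, with equality exactly
when x is a real multiple of m. -/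
theorem result {n : ℕ} (A : Matrix (Fin n) (Fin n) ℝ)
    (m : Fin n → ℝ) (hsymm : A.IsSymm) (hA : ∀ i j, i ≠ j → 0 ≤ A i j) (hm : ∀ i, 0 < m i)
    (hAm : A.mulVec m = 0)
    (hconn : ∀ I : Finset (Fin n), I.Nonempty → I ≠ univ → ∃ i ∈ I, ∃ j ∉ I, A i j ≠ 0)
    (x : Fin n → ℝ) :
    dotProduct x (A.mulVec x) ≤ 0 ∧ (dotProduct x (A.mulVec x) = 0 ↔ ∃ q : ℝ, x = q • m) := by
  have hr : ∀ i, ∑ j, A i j * m j = 0 := fun i => congrFun hAm i
  obtain ⟨h1, h2⟩ := GrothLib.NumType.quad_nonpos A hsymm m hA hm (fun i => (hr i).le) x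
  refine ⟨h1, fun h0 => ?_, ?_⟩
  · rcases Nat.eq_zero_or_pos n with rfl | hn
    · exact ⟨0, funext fun i => i.elim0⟩
    obtain ⟨-, h3⟩ := h2 h0
    refine ⟨x ⟨0, hn⟩ / m ⟨0, hn⟩, funext fun i => ?_⟩
    have hc : ∀ i, x i / m i = x ⟨0, hn⟩ / m ⟨0, hn⟩ :=
      GrothLib.NumType.Conn.univ_of_closed hconn _ ⟨⟨0, hn⟩, rfl⟩
        (fun a b ha hab => (h3 a b hab).symm.trans ha)
    rw [Pi.smul_apply, smul_eq_mul, ← hc i, div_mul_cancel₀ _ (hm i).ne']
  · rintro ⟨q, rfl⟩
    simp [Matrix.mulVec_smul, hAm]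

end Groth.Agent.S2171
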