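import Groth.Statements.S2181
import Groth.Agent.Lib.NumType.Contraction
import Mathlib.RingTheory.PrincipalIdealDomain


set_option autoImplicit false
open Finset
open Models Models.NumericalType

namespace Groth.Agent.S2181

/-- If the genus of a numerical type is at most 0 then its Picard group is infinite cyclic. -/
theorem result {n : ℕ} (T : Models.NumericalType n) (hg : T.genus ≤ 0) : Nonempty (T.Pic ≃+ ℤ) := by
  induction n with
  | zero => exact absurd T.pos (lt_irrefl 0)
  | succ n ih =>
    rcases Nat.eq_zero_or_pos n with rfl | hn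
    · have h0 := GrothLib.NumType.row_sum T 0
      rw [Fin.sum_univ_one] at h0
      have ha : T.a 0 0 = 0 := (mul_eq_zero.mp h0).resolve_right (T.m_pos 0).ne'
      have hP : LinearMap.range (Matrix.mulVecLin T.picMatrix) = ⊥ := by
        rw [LinearMap.range_eq_bot]
        ext x i
        simp [Models.NumericalType.picMatrix, Fin.eq_zero, ha, Matrix.mulVec, dotProduct]
      exact ⟨((Submodule.quotEquivOfEqBot _ hP).trans (LinearEquiv.funUnique (Fin 1) ℤ ℤ)).toAddEquiv⟩
    obtain ⟨k, hk⟩ : ∃ k, T.IsMinusOne k := by
      by_contra h
      push Not at h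
      have := GrothLib.NumType.one_le_genus_of_isMinimal T h (by omega)
      omega
    set σ := Equiv.swap k (Fin.last n)
    set U := GrothLib.NumType.reindexType T σ
    have hU : U.IsMinusOne (Fin.last n) := by
      show T.IsMinusOne (σ (Fin.last n))
      rw [Equiv.swap_apply_right]; exact hk
    have hc := GrothLib.NumType.isContraction_contract hU
    obtain ⟨f, hf, -⟩ := GrothLib.NumType.exists_pic_map hU _ hc
    obtain ⟨e⟩ := ih (GrothLib.NumType.contract hU) (by
      rw [GrothLib.NumType.genus_of_isContraction hU _ hc, GrothLib.NumType.genus_reindex]; exact hg)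
    set g : T.Pic →ₗ[ℤ] ℤ :=
      (e.toIntLinearEquiv.toLinearMap.comp f).comp (GrothLib.NumType.picReindexEquiv T σ).symm.toLinearMap with hgdef
    have hginj : Function.Injective g :=
      (e.injective.comp hf).comp (GrothLib.NumType.picReindexEquiv T σ).symm.injective
    have hne : LinearMap.range g ≠ ⊥ := fun h => by
      rw [LinearMap.range_eq_bot] at h
      have hs : Subsingleton T.Pic := ⟨fun a b => hginj (by rw [h]; rfl)⟩
      have := GrothLib.NumType.finrank_pic T
      rw [Module.finrank_zero_of_subsingleton] at this
      exact zero_ne_one this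
    obtain ⟨a, ha⟩ := (IsPrincipalIdealRing.principal (LinearMap.range g)).principal
    have ha0 : a ≠ 0 := fun h0 => hne (by rw [ha, h0]; simp)
    exact ⟨((LinearEquiv.ofInjective g hginj).trans ((LinearEquiv.ofEq _ _ ha).trans
      (LinearEquiv.toSpanNonzeroSingleton ℤ ℤ a ha0).symm)).toAddEquiv⟩

end Groth.Agent.S2181
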