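import Groth.Statements.S2182
import Groth.Agent.Lib.NumType.Genus


set_option autoImplicit false
open Finset
open Models Models.NumericalType

namespace Groth.Agent.S2182

/-- In a numerical type, whenever a i j > 0 one has m i * a i j at most m j * |a j j| and m i * w i at
most m j * |a j j|. -/
theorem result {n : ℕ} (T : Models.NumericalType n) (i j : Fin n) (hij : 0 < T.a i j) :
    T.m i * T.a i j ≤ T.m j * |T.a j j| ∧ T.m i * T.w i ≤ T.m j * |T.a j j| := by
  have hne : i ≠ j → GrothLib.NumType.Adj T i j := fun h => ⟨h, hij.ne'⟩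
  rcases eq_or_ne i j with rfl | h
  · rcases Nat.lt_or_ge 1 n with hn | hn
    · have := GrothLib.NumType.diag_neg T hn i; omega
    · exfalso
      have : Subsingleton (Fin n) := Fin.subsingleton_iff_le_one.mpr hn
      have h0 := GrothLib.NumType.row_sum T i
      rw [Fintype.sum_eq_single i (fun k hk => absurd (Subsingleton.elim k i) hk)] at h0
      have := mul_pos hij (T.m_pos i); omega
  have hr := GrothLib.NumType.row_le (T := T) (i := j) {i} (by simpa using h.symm)
  rw [Finset.sum_singleton, GrothLib.NumType.a_comm T j i] at hr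
  have h1 : T.m i * T.a i j ≤ T.m j * |T.a j j| := by
    have := mul_le_mul_of_nonneg_left (neg_le_abs (T.a j j)) (T.m_pos j).le
    linarith
  exact ⟨h1, le_trans (mul_le_mul_of_nonneg_left (hne h).le_left (T.m_pos i).le) h1⟩

end Groth.Agent.S2182
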