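import Groth.Statements.S2183
import Groth.Agent.Lib.NumType.Bounds


set_option autoImplicit false
open Finset
open Models Models.NumericalType

namespace Groth.Agent.S2183

open Classical in
/-- Let T be a minimal numerical type with n > 1 indices and genus g at least 2, and let J be the set of
indices which are not (-2)-indices. Then J has at most 2g - 2 elements, and for j in J one has g j <
g, m j * |a j j| at most 6g - 6, and m i * a i j at most 6g - 6 for every index i. -/
theorem result {n : ℕ} (T : Models.NumericalType n) (hmin : T.IsMinimal) (hn : 1 < n) (hg : 2 ≤ T.genus) :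
    ((univ.filter fun j => ¬T.IsMinusTwo j).card : ℤ) ≤ 2 * T.genus - 2 ∧
      ∀ j, ¬T.IsMinusTwo j →
        T.g j < T.genus ∧ T.m j * |T.a j j| ≤ 6 * T.genus - 6 ∧
          ∀ i, T.m i * T.a i j ≤ 6 * T.genus - 6 := by
  refine ⟨?_, fun j hj => GrothLib.NumType.bounds_not_minusTwo hmin hn hg j hj⟩
  suffices hs : ∀ s : Finset (Fin n), (∀ j ∈ s, ¬T.IsMinusTwo j) → (s.card : ℤ) ≤ 2 * T.genus - 2 from
    hs _ (fun j hj => (mem_filter.mp hj).2)
  intro s hs
  have h1 : ∀ j ∈ s, (1 : ℤ) ≤ GrothLib.NumType.contrib T j := fun j hj =>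
    (GrothLib.NumType.diag_le_contrib hn j (hmin j) (hs j hj)).1
  have h2 := Finset.card_nsmul_le_sum _ _ 1 h1
  rw [nsmul_eq_mul, mul_one] at h2
  have h3 : ∑ j ∈ s, GrothLib.NumType.contrib T j ≤ ∑ j, GrothLib.NumType.contrib T j :=
    Finset.sum_le_sum_of_subset_of_nonneg (Finset.subset_univ _)
      fun j _ _ => GrothLib.NumType.contrib_nonneg T hn j (hmin j)
  have := h2.trans h3
  have := GrothLib.NumType.two_genus T
  omega

end Groth.Agent.S2183
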