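import Groth.Statements.S2185
import Groth.Agent.Lib.NumType.Torsion
import Groth.Agent.Lib.NumType.Bounds
import Groth.Agent.Lib.NumType.TopGenus
import Groth.Agent.Lib.NumType.Contraction


set_option autoImplicit false
open Finset
open Models Models.NumericalType

namespace Groth.Agent.S2185

theorem le_of_injective {M N : Type} [AddCommGroup M] [AddCommGroup N] (r : ℤ) (f : M →ₗ[ℤ] N)
    (hf : Function.Injective f) (hfin : Finite (Submodule.torsionBy ℤ N r)) :
    Finite (Submodule.torsionBy ℤ M r) ∧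
      Nat.card (Submodule.torsionBy ℤ M r) ≤ Nat.card (Submodule.torsionBy ℤ N r) := by
  let g : Submodule.torsionBy ℤ M r → Submodule.torsionBy ℤ N r := fun q => ⟨f q, by
    have := q.2
    rw [Submodule.mem_torsionBy_iff] at this ⊢
    rw [← map_smul, this, map_zero]⟩
  have hg : Function.Injective g := fun a b h => Subtype.ext (hf (congrArg Subtype.val h))
  exact ⟨Finite.of_injective g hg, Nat.card_le_card_of_injective g hg⟩

open GrothLib.NumType in
theorem minimal_bound {n : ℕ} (T : Models.NumericalType n) (hg : 2 ≤ T.genus) (ℓ : ℕ) (hℓ : ℓ.Prime)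
    (hℓg : 768 * T.genus < ℓ) (hmin : T.IsMinimal) :
    Finite (Submodule.torsionBy ℤ T.Pic (ℓ : ℤ)) ∧
      Nat.card (Submodule.torsionBy ℤ T.Pic (ℓ : ℤ)) ≤ ℓ ^ T.topGenus.toNat ∧ T.topGenus ≤ T.genus := by
  have hsmall : ∀ z : ℤ, 0 < |z| → |z| ≤ 768 * T.genus → ¬ (ℓ : ℤ) ∣ z := by
    intro z h0 h1 hd
    have := Int.le_of_dvd h0 ((dvd_abs _ _).mpr hd)
    omega
  have ha : ∀ i j, T.a i j ≠ 0 → ¬ (ℓ : ℤ) ∣ T.a i j := fun i j h => by
    refine hsmall _ (abs_pos.mpr h) ?_
    exact le_trans (le_mul_of_one_le_left (abs_nonneg _) (T.m_pos i)) (mul_abs_le hmin hg i j)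
  have hmtop : (∀ i, ¬ (ℓ : ℤ) ∣ T.m i) ∧ T.topGenus ≤ T.genus := by
    rcases Nat.lt_or_ge 1 n with hn | hn
    · refine ⟨fun i => hsmall _ (abs_pos.mpr (T.m_pos i).ne') ?_, topGenus_le_genus T hmin hn⟩
      rw [abs_of_pos (T.m_pos i)]
      exact le_trans (le_mul_of_one_le_right (T.m_pos i).le (abs_pos.mpr (diag_neg T hn i).ne))
        (mul_abs_le hmin hg i i)
    · have := T.pos
      obtain rfl : n = 1 := by omega
      refine ⟨fun i => hsmall _ (abs_pos.mpr (T.m_pos i).ne') ?_, ?_⟩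
      · rw [abs_of_pos (T.m_pos i), Subsingleton.elim i 0]
        have h0 := row_sum T 0
        rw [Fin.sum_univ_one] at h0
        have h2 := two_genus T
        rw [Fin.sum_univ_one, contrib, (mul_eq_zero.mp h0).resolve_right (T.m_pos 0).ne'] at h2
        have h3 : T.m 0 * (T.w 0 * (T.g 0 - 1)) = T.genus - 1 := by linarith
        have := Int.le_of_dvd (by omega) (Dvd.intro _ h3)
        omega
      · have : T.edgeCount = 0 := by
          rw [Models.NumericalType.edgeCount, Finset.card_eq_zero, Finset.filter_eq_empty_iff]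
          intro p _ h
          exact absurd h.1 (by rw [Subsingleton.elim p.1 p.2]; exact lt_irrefl _)
        unfold Models.NumericalType.topGenus
        omega
  obtain ⟨hfin, hc⟩ := torsion_coker_bound T.a T.m T.symm T.offDiag_nonneg T.mulVec_m (conn T) ℓ hℓ ha hmtop.1
  obtain ⟨h1, h2⟩ := le_of_injective (ℓ : ℤ) (picToCokerA T) (picToCokerA_injective T) hfin
  refine ⟨h1, le_trans h2 (le_trans hc (Nat.pow_le_pow_right hℓ.pos ?_)), hmtop.2⟩
  have := card_le_edgeCount_succ T
  show T.edgeCount + 1 - n ≤ _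
  unfold Models.NumericalType.topGenus
  omega

open GrothLib.NumType in
theorem general_bound (ℓ : ℕ) (hℓ : ℓ.Prime) : ∀ (n : ℕ) (T : Models.NumericalType n), 2 ≤ T.genus →
    768 * T.genus < ℓ → Finite (Submodule.torsionBy ℤ T.Pic (ℓ : ℤ)) ∧
      Nat.card (Submodule.torsionBy ℤ T.Pic (ℓ : ℤ)) ≤ ℓ ^ T.genus.toNat := by
  intro n
  induction n with
  | zero => exact fun T => absurd T.pos (lt_irrefl 0)
  | succ n ih =>
    intro T hg hℓg
    by_cases hmin : T.IsMinimal
    · obtain ⟨h1, h2, h3⟩ := minimal_bound T hg ℓ hℓ hℓg hmin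
      exact ⟨h1, le_trans h2 (Nat.pow_le_pow_right hℓ.pos (Int.toNat_le_toNat h3))⟩
    simp only [Models.NumericalType.IsMinimal, not_forall, not_not] at hmin
    obtain ⟨k, hk⟩ := hmin
    set σ := Equiv.swap k (Fin.last n)
    set U := reindexType T σ
    have hU : U.IsMinusOne (Fin.last n) := by
      show T.IsMinusOne (σ (Fin.last n))
      rw [Equiv.swap_apply_right]; exact hk
    have hc := isContraction_contract hU
    obtain ⟨f, hf, -⟩ := exists_pic_map hU _ hc
    have hG : (contract hU).genus = T.genus := by rw [genus_of_isContraction hU _ hc, genus_reindex]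
    obtain ⟨h1, h2⟩ := ih (contract hU) (by rw [hG]; exact hg) (by rw [hG]; exact hℓg)
    obtain ⟨h3, h4⟩ := le_of_injective (ℓ : ℤ) (f.comp (picReindexEquiv T σ).symm.toLinearMap)
      (hf.comp (picReindexEquiv T σ).symm.injective) h1
    exact ⟨h3, le_trans h4 (hG ▸ h2)⟩

/-- Let T be a numerical type of genus g at least 2 and l a prime bigger than 768 g. Then the l-torsion
subgroup of Pic(T) has at most l^g elements (F_l-dimension at most g); if T is minimal it has at
most l^(g_top) elements where g_top is the topological genus, itself at most g. -/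
theorem result {n : ℕ} (T : Models.NumericalType n) (hg : 2 ≤ T.genus) (ℓ : ℕ) (hℓ : ℓ.Prime)
    (hℓg : 768 * T.genus < ℓ) :
    Nat.card (Submodule.torsionBy ℤ T.Pic (ℓ : ℤ)) ≤ ℓ ^ T.genus.toNat ∧
      (T.IsMinimal → Nat.card (Submodule.torsionBy ℤ T.Pic (ℓ : ℤ)) ≤ ℓ ^ T.topGenus.toNat ∧
        T.topGenus ≤ T.genus) := by
  have hmin := minimal_bound T hg ℓ hℓ hℓg
  refine ⟨(general_bound ℓ hℓ n T hg hℓg).2, fun h => ⟨(hmin h).2.1, (hmin h).2.2⟩⟩

end Groth.Agent.S2185
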