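import Groth.Statements.S2186
import Groth.Agent.Lib.CIPres.Relative
import Groth.Agent.Lib.CIPres.Factor
import Groth.Agent.Lib.CIPres.TransReg
import Groth.Agent.Lib.CIPres.FibrePd
import Groth.Agent.Lib.CIPres.Completion
import Groth.Agent.Lib.RegCompl.Basic
import Groth.Agent.S2200
import Groth.Agent.S18536

set_option autoImplicit false
universe u
open LCI

namespace Groth.Agent.S2186


section

open IsLocalRing RingTheory.Sequence GrothLib.CIPres

/-- Regularity of an ideal does not see a surjection between flat algebras with regular closed fibres. -/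
theorem ker_comp_regular_iff {A S T B : Type u} [CommRing A] [CommRing S] [CommRing T] [CommRing B]
    [IsNoetherianRing A] [IsLocalRing A] [IsNoetherianRing S] [IsLocalRing S] [IsNoetherianRing T] [IsLocalRing T]
    [IsLocalRing B] [Algebra A S] [Algebra A T] [Algebra A B]
    [IsLocalHom (algebraMap A S)] [IsLocalHom (algebraMap A T)] [Module.Flat A S] [Module.Flat A T]
    [IsRegularLocalRing (S ⧸ (maximalIdeal A).map (algebraMap A S))]
    [IsRegularLocalRing (T ⧸ (maximalIdeal A).map (algebraMap A T))]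
    (π : S →ₐ[A] T) (hπ : Function.Surjective π) (g : T →ₐ[A] B) (hg : Function.Surjective g) :
    (∃ rs : List S, Ideal.ofList rs = RingHom.ker (g.comp π) ∧ IsRegular S rs) ↔
      ∃ rs : List T, Ideal.ofList rs = RingHom.ker g ∧ IsRegular T rs := by
  classical
  let mS := (maximalIdeal A).map (algebraMap A S)
  let mT := (maximalIdeal A).map (algebraMap A T)
  let L := RingHom.ker π
  have hmap : mS.map π = mT := by
    show Ideal.map π.toRingHom _ = _
    rw [Ideal.map_map]
    exact congrArg (Ideal.map · (maximalIdeal A)) π.comp_algebraMap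
  let π' : S ⧸ mS →+* T ⧸ mT := Ideal.quotientMap mT π.toRingHom (Ideal.map_le_iff_le_comap.1 hmap.le)
  have hπ' : Function.Surjective π' := fun y => by
    obtain ⟨t, rfl⟩ := Ideal.Quotient.mk_surjective y
    obtain ⟨s, rfl⟩ := hπ t
    exact ⟨Ideal.Quotient.mk mS s, rfl⟩
  have hLm : L ≠ ⊤ := RingHom.ker_ne_top π.toRingHom
  obtain ⟨rb, hrb, hrbreg⟩ := exists_isRegular_ker π' hπ' (RingHom.id (T ⧸ mT)) Function.surjective_id
    ⟨[], (Ideal.ofList_nil).trans ((RingHom.injective_iff_ker_eq_bot (RingHom.id (T ⧸ mT))).1 Function.injective_id).symm, IsRegular.nil (T ⧸ mT) (T ⧸ mT)⟩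
  have hlift : ∀ x ∈ RingHom.ker π', ∃ s ∈ L, Ideal.Quotient.mk mS s = x := fun x hx => by
    obtain ⟨s, rfl⟩ := Ideal.Quotient.mk_surjective x
    have h1 : π s ∈ Ideal.map π.toRingHom mS := hmap.ge (Ideal.Quotient.eq_zero_iff_mem.1 hx)
    obtain ⟨y, hy, hys⟩ := (Ideal.mem_map_iff_of_surjective π.toRingHom hπ).1 h1
    refine ⟨s - y, ?_, ?_⟩
    · show π (s - y) = 0
      rw [map_sub, sub_eq_zero]
      exact hys.symm
    · rw [map_sub, Ideal.Quotient.eq_zero_iff_mem.2 hy, sub_zero]
  choose l hl hl' using hlift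
  let bs : List S := rb.attach.map fun r => l r.1 (hrb ▸ Ideal.subset_span r.2)
  have hbs : bs.map (Ideal.Quotient.mk mS) = rb := by
    simp only [bs, List.map_map, Function.comp_def, hl']
    exact List.attach_map_subtype_val rb
  have hbsreg : IsWeaklyRegular S bs :=
    (isTransRegularSeq_of_fib (A := A) bs (hbs ▸ hrbreg.toIsWeaklyRegular)).1
  have hbsL : Ideal.ofList bs ≤ L := Ideal.span_le.2 fun x hx => by
    obtain ⟨r, -, rfl⟩ := List.mem_map.1 hx
    exact hl _ _
  have hcap : L ⊓ mS ≤ mS * L := fun x hx => by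
    letI : Algebra S T := π.toRingHom.toAlgebra
    haveI : IsScalarTower A S T := IsScalarTower.of_algebraMap_eq fun a => (π.commutes a).symm
    let f : (Fin 1 → S) →ₗ[S] T := Algebra.linearMap S T ∘ₗ LinearMap.proj 0
    have hf : Function.Surjective f := fun t => by
      obtain ⟨s, rfl⟩ := hπ t
      exact ⟨fun _ => s, rfl⟩
    let k : LinearMap.ker f := ⟨fun _ => x, show π x = 0 from hx.1⟩
    have h0 : (1 : S ⧸ mS) ⊗ₜ[S] k = 0 := by
      refine injective_lTensor_ker (A := A) f hf ?_
      rw [map_zero, LinearMap.lTensor_tmul, Submodule.subtype_apply]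
      show (1 : S ⧸ mS) ⊗ₜ[S] (fun _ : Fin 1 => x) = 0
      rw [show (fun _ : Fin 1 => x) = x • (fun _ : Fin 1 => (1 : S)) by funext i; simp,
        ← TensorProduct.smul_tmul, Algebra.smul_def, mul_one, Ideal.Quotient.algebraMap_eq,
        Ideal.Quotient.eq_zero_iff_mem.2 hx.2, TensorProduct.zero_tmul]
    have h1 := Submodule.mem_map_of_mem (f := (LinearMap.proj 0 : (Fin 1 → S) →ₗ[S] S) ∘ₗ (LinearMap.ker f).subtype)
      (mem_smul_top_of_tmul_eq_zero mS k h0)
    rw [Submodule.map_smul''] at h1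
    refine Submodule.smul_mono le_rfl ?_ h1
    rintro _ ⟨z, -, rfl⟩
    exact z.2
  have hK : Ideal.ofList bs = L := by
    refine le_antisymm hbsL (Submodule.le_of_le_smul_of_le_jacobson_bot (IsNoetherian.noetherian _)
      ((IsLocalRing.map_maximalIdeal_le (algebraMap A S)).trans (IsLocalRing.maximalIdeal_le_jacobson _)) fun x hx => ?_)
    have h1 : Ideal.Quotient.mk mS x ∈ (Ideal.ofList bs).map (Ideal.Quotient.mk mS) := by
      rw [Ideal.map_ofList, hbs, hrb]
      show π' _ = 0
      show Ideal.Quotient.mk mT (π x) = 0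
      rw [show π x = 0 from hx, map_zero]
    obtain ⟨y, hy, hyx⟩ := (Ideal.mem_map_iff_of_surjective _ Ideal.Quotient.mk_surjective).1 h1
    refine Submodule.mem_sup.2 ⟨y, hy, x - y, ?_, add_sub_cancel _ _⟩
    exact hcap ⟨sub_mem hx (hbsL hy), Ideal.Quotient.eq.1 hyx.symm⟩
  let J := RingHom.ker (g.comp π)
  have hJ : J ≠ ⊤ := RingHom.ker_ne_top (g.comp π).toRingHom
  have hLJ : L ≤ J := fun x hx => show g (π x) = 0 by rw [show π x = 0 from hx, map_zero]
  let e : (S ⧸ L) ≃+* T := RingHom.quotientKerEquivOfSurjective (f := π.toRingHom) hπ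
  have heJ : (J.map (Ideal.Quotient.mk L)).map e.toRingHom = RingHom.ker g := by
    rw [Ideal.map_map]
    show Ideal.map π.toRingHom (Ideal.comap π.toRingHom (RingHom.ker g.toRingHom)) = _
    exact Ideal.map_comap_of_surjective _ hπ _
  constructor
  · rintro ⟨rs, hrs, hreg⟩
    letI : Algebra (S ⧸ L) (S ⧸ J) := (Ideal.Quotient.factor hLJ).toAlgebra
    haveI : IsScalarTower S (S ⧸ L) (S ⧸ J) := IsScalarTower.of_algebraMap_eq fun _ => rfl
    haveI : IsScalarTower A (S ⧸ L) (S ⧸ J) := IsScalarTower.of_algebraMap_eq fun _ => rfl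
    haveI : Nontrivial (S ⧸ L) := Ideal.Quotient.nontrivial_iff.mpr hLm
    haveI : IsLocalRing (S ⧸ L) := IsLocalRing.of_surjective' _ Ideal.Quotient.mk_surjective
    have hcompA : e.toRingHom.comp (algebraMap A (S ⧸ L)) = algebraMap A T := π.comp_algebraMap
    haveI : IsLocalHom (algebraMap A (S ⧸ L)) := ⟨fun a ha => (isUnit_map_iff (algebraMap A T) a).1 (by
      rw [← hcompA]; exact ha.map e.toRingHom)⟩
    haveI : Module.Flat A (S ⧸ L) :=
      Module.Flat.of_linearEquiv ({ e with
        map_smul' := fun a x => (by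
          rw [Algebra.smul_def, Algebra.smul_def, map_mul, ← RingHom.congr_fun hcompA a]
          rfl : e (a • x) = a • e x) } : (S ⧸ L) ≃ₗ[A] T)
    have hfibmap : mT = ((maximalIdeal A).map (algebraMap A (S ⧸ L))).map e.toRingHom := by
      rw [Ideal.map_map, hcompA]
    haveI : IsRegularLocalRing ((S ⧸ L) ⧸ (maximalIdeal A).map (algebraMap A (S ⧸ L))) :=
      IsRegularLocalRing.of_ringEquiv (Ideal.quotientEquiv _ _ e hfibmap).symm
    have hSB : DRing.HasFiniteTorDim S (S ⧸ J) := by
      obtain ⟨d, hd⟩ := hasFiniteTorDim_quotient_regular rs hreg.toIsWeaklyRegular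
      exact ⟨d, GrothLib.PHom.torDimLE_of_equiv (Submodule.quotEquivOfEq _ _ hrs) hd⟩
    have hAB : DRing.HasFiniteTorDim A (S ⧸ J) :=
      GrothLib.PHom.finiteTorDim_trans (A := A) (B := S) (GrothLib.PHom.finiteTorDim_of_flat S) hSB
    let ε : (Fin 1 → S ⧸ L) →ₗ[S ⧸ L] S ⧸ J := Algebra.linearMap (S ⧸ L) (S ⧸ J) ∘ₗ LinearMap.proj 0
    have hε : Function.Surjective ε := fun b => by
      obtain ⟨t, ht⟩ := Ideal.Quotient.factor_surjective hLJ b
      exact ⟨fun _ => t, ht⟩
    have hfd := hasFiniteTorDim_of_tor_residue (A := A) (T := S ⧸ L) (M := S ⧸ J) ε hε (finite_tor_residue hAB)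
    obtain ⟨-, rs', hrs', hreg'⟩ := Groth.Agent.S2200.result L J hLJ hJ hfd ⟨rs, hrs, hreg⟩
    refine ⟨rs'.map e, ?_, IsRegular.of_isWeaklyRegular_of_mem_maximalIdeal T (fun r hr => ?_)
      (GrothLib.CIField.isWeaklyRegular_ringEquiv e rs' hreg'.toIsWeaklyRegular)⟩
    · rw [← heJ, ← hrs', Ideal.map_ofList]
      rfl
    · refine le_maximalIdeal (RingHom.ker_ne_top g.toRingHom) ?_
      show r ∈ RingHom.ker g
      rw [← heJ, ← hrs', Ideal.map_ofList]
      exact Ideal.subset_span hr
  · rintro ⟨rs, hrs, hreg⟩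
    refine exists_isRegular_lift bs L J hK hJ hLJ hbsreg ⟨rs.map e.symm, ?_, ?_⟩
    · have h := congrArg (Ideal.map e.symm.toRingHom) hrs
      rw [Ideal.map_ofList, ← heJ, Ideal.map_map, show e.symm.toRingHom.comp e.toRingHom = RingHom.id _ from
        RingHom.ext e.symm_apply_apply, Ideal.map_id] at h
      exact h
    · haveI : Nontrivial (S ⧸ L) := Ideal.Quotient.nontrivial_iff.mpr hLm
      haveI : IsLocalRing (S ⧸ L) := IsLocalRing.of_surjective' _ Ideal.Quotient.mk_surjective
      refine IsRegular.of_isWeaklyRegular_of_mem_maximalIdeal (S ⧸ L) (fun r hr => ?_)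
        (GrothLib.CIField.isWeaklyRegular_ringEquiv e.symm rs hreg.toIsWeaklyRegular)
      obtain ⟨t, ht, rfl⟩ := List.mem_map.1 hr
      rw [IsLocalRing.mem_maximalIdeal, mem_nonunits_iff, isUnit_map_iff]
      exact (IsLocalRing.mem_maximalIdeal t).1
        (le_maximalIdeal (RingHom.ker_ne_top g.toRingHom) (hrs.le (Ideal.subset_span ht)))

/-- Two maps out of a completion into a complete local ring agree once they agree on the ring. -/
theorem cpl_hom_ext {S B : Type u} [CommRing S] [IsNoetherianRing S] [IsLocalRing S] [CommRing B] [IsLocalRing B]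
    [IsHausdorff (maximalIdeal B) B] (f f' : EGA4.Cpl S →+* B)
    (hf : (maximalIdeal S).map (f.comp (algebraMap S _)) ≤ maximalIdeal B)
    (h : f.comp (algebraMap S _) = f'.comp (algebraMap S _)) : f = f' := by
  refine RingHom.ext fun x => eq_of_sub_eq_zero (IsHausdorff.haus ‹_› _ fun n => ?_)
  rw [SModEq.sub_mem, sub_zero, smul_eq_mul, Ideal.mul_top]
  obtain ⟨s, hs⟩ := (GrothLib.ComplAlg.isFormalCompl_adicCompletion (maximalIdeal S)).surj n x
  have key : ∀ φ : EGA4.Cpl S →+* B, φ.comp (algebraMap S _) = f.comp (algebraMap S _) →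
      φ x - f (algebraMap S _ s) ∈ maximalIdeal B ^ n := fun φ hφ => by
    rw [show f (algebraMap S _ s) = φ (algebraMap S _ s) from (RingHom.congr_fun hφ s).symm, ← map_sub]
    have h1 := Ideal.mem_map_of_mem φ hs
    rw [Ideal.map_map, hφ, Ideal.map_pow] at h1
    exact Ideal.pow_right_mono hf n h1
  have := sub_mem (key f rfl) (key f' h.symm)
  rwa [sub_sub_sub_cancel_right] at this

/-- Passing to the completion of the source of a presentation. -/
theorem exists_completed {A S B : Type u} [CommRing A] [CommRing S] [CommRing B]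
    [IsNoetherianRing A] [IsLocalRing A] [IsNoetherianRing S] [IsLocalRing S] [IsLocalRing B]
    [IsAdicComplete (maximalIdeal B) B] [Algebra A S] [Algebra A B] [IsLocalHom (algebraMap A B)]
    [Module.Flat A S] [IsRegularLocalRing (S ⧸ (maximalIdeal A).map (algebraMap A S))]
    (g : S →ₐ[A] B) (hg : Function.Surjective g) :
    IsLocalHom (algebraMap A S) ∧ IsLocalHom (algebraMap A (EGA4.Cpl S)) ∧ Module.Flat A (EGA4.Cpl S) ∧
      IsRegularLocalRing (EGA4.Cpl S ⧸ (maximalIdeal A).map (algebraMap A (EGA4.Cpl S))) ∧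
      ∃ gc : EGA4.Cpl S →ₐ[A] B, Function.Surjective gc ∧ (∀ s, gc (algebraMap S _ s) = g s) ∧
        ((∃ rs : List S, Ideal.ofList rs = RingHom.ker g ∧ IsRegular S rs) ↔
          ∃ rs : List (EGA4.Cpl S), Ideal.ofList rs = RingHom.ker gc ∧ IsRegular (EGA4.Cpl S) rs) := by
  haveI : IsLocalHom g.toRingHom := hg.isLocalHom
  haveI hAS : IsLocalHom (algebraMap A S) := ⟨fun a ha => (isUnit_map_iff (algebraMap A B) a).1 (by
    rw [← g.commutes]; exact ha.map g)⟩
  haveI hff := GrothLib.Excellent.faithfullyFlat_cpl S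
  haveI : IsScalarTower A S (EGA4.Cpl S) := IsScalarTower.of_algebraMap_eq fun _ => rfl
  haveI : IsNoetherianRing (EGA4.Cpl S) := GrothLib.AdicExtra.isNoetherianRing_adicCompletion _
  haveI hloc : IsLocalHom (algebraMap A (EGA4.Cpl S)) := by
    rw [IsScalarTower.algebraMap_eq A S (EGA4.Cpl S)]
    exact RingHom.isLocalHom_comp _ _
  haveI hflat : Module.Flat A (EGA4.Cpl S) := Module.Flat.trans A S _
  obtain ⟨ψ, hψ⟩ := Groth.Agent.S18536.exists_cpl_map g.toRingHom
    (Ideal.map_le_iff_le_comap.1 (IsLocalRing.map_maximalIdeal_le g.toRingHom))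
  let eB := AdicCompletion.ofAlgEquiv (maximalIdeal B)
  let gc0 : EGA4.Cpl S →+* B := eB.symm.toRingEquiv.toRingHom.comp ψ
  have hgc : ∀ s, gc0 (algebraMap S _ s) = g s := fun s => by
    show eB.symm (ψ (algebraMap S _ s)) = g s
    rw [hψ]
    exact eB.symm.commutes (g s)
  let gc : EGA4.Cpl S →ₐ[A] B := { gc0 with
    commutes' := fun a => by
      show gc0 (algebraMap A (EGA4.Cpl S) a) = _
      rw [IsScalarTower.algebraMap_apply A S (EGA4.Cpl S), hgc, g.commutes] }
  have hgcs : Function.Surjective gc := fun b => by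
    obtain ⟨s, rfl⟩ := hg b
    exact ⟨_, hgc s⟩
  let mA := (maximalIdeal A).map (algebraMap A S)
  haveI : Nontrivial (S ⧸ mA) := inferInstance
  haveI : IsLocalRing (S ⧸ mA) := IsLocalRing.of_surjective' _ Ideal.Quotient.mk_surjective
  have hfib : IsRegularLocalRing (EGA4.Cpl S ⧸ (maximalIdeal A).map (algebraMap A (EGA4.Cpl S))) := by
    obtain ⟨e⟩ := nonempty_completion_quotient mA
    haveI : IsRegularLocalRing (AdicCompletion (maximalIdeal (S ⧸ mA)) (S ⧸ mA)) :=
      GrothLib.AdicExtra.isRegularLocalRing_adicCompletion_iff.1 inferInstance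
    refine IsRegularLocalRing.of_ringEquiv (e.trans (Ideal.quotEquivOfEq ?_))
    rw [Ideal.map_map, ← IsScalarTower.algebraMap_eq]
  let J := RingHom.ker g
  let Q := EGA4.Cpl S
  have hker : RingHom.ker gc = J.map (algebraMap S Q) := by
    refine le_antisymm (fun x hx => ?_) (Ideal.map_le_iff_le_comap.2 fun s hs => ?_)
    swap
    · show gc0 (algebraMap S _ s) = 0
      rw [hgc]; exact hs
    let K := J.map (algebraMap S Q)
    have hK : K ≠ ⊤ := fun h => RingHom.ker_ne_top g.toRingHom (by
      rw [← Ideal.comap_map_eq_self_of_faithfullyFlat (B := Q) (RingHom.ker g.toRingHom)]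
      exact Ideal.comap_eq_top_iff.2 h)
    haveI : Nontrivial (Q ⧸ K) := Ideal.Quotient.nontrivial_iff.mpr hK
    haveI : IsLocalRing (Q ⧸ K) := IsLocalRing.of_surjective' _ Ideal.Quotient.mk_surjective
    have hn : ∀ n, Ideal.Quotient.mk K x ∈ maximalIdeal (Q ⧸ K) ^ n := fun n => by
      obtain ⟨s, hs⟩ := (GrothLib.ComplAlg.isFormalCompl_adicCompletion (maximalIdeal S)).surj n x
      have h1 := Ideal.mem_map_of_mem gc0 hs
      rw [Ideal.map_map, show gc0.comp (algebraMap S Q) = g.toRingHom from RingHom.ext hgc, map_sub, hgc,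
        show gc0 x = 0 from hx, zero_sub, neg_mem_iff] at h1
      obtain ⟨y, hy, hys⟩ := (Ideal.mem_map_iff_of_surjective g.toRingHom hg).1 h1
      have h2 : algebraMap S Q (s - y) ∈ K := Ideal.mem_map_of_mem _ (show g (s - y) = 0 by
        rw [map_sub, sub_eq_zero]; exact hys.symm)
      have h3 := add_mem hs (Ideal.mem_map_of_mem (algebraMap S Q) hy)
      have h4 := Ideal.mem_map_of_mem (Ideal.Quotient.mk K) h3
      rw [Ideal.map_pow, ← AdicCompletion.maximalIdeal_eq_map, Ideal.map_pow,
        GrothLib.RegLoc.map_maximalIdeal_quotient K] at h4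
      rwa [show x - algebraMap S Q s + algebraMap S Q y = x - algebraMap S Q (s - y) by rw [map_sub]; ring,
        map_sub, Ideal.Quotient.eq_zero_iff_mem.2 h2, sub_zero] at h4
    have hk := Ideal.iInf_pow_eq_bot_of_isLocalRing (maximalIdeal (Q ⧸ K)) (maximalIdeal.isMaximal _).ne_top
    exact Ideal.Quotient.eq_zero_iff_mem.1
      ((Submodule.mem_bot (Q ⧸ K)).1 (hk ▸ (Submodule.mem_iInf _).2 hn))
  refine ⟨hAS, hloc, hflat, hfib, gc, hgcs, hgc, ⟨?_, fun h => ?_⟩⟩
  · rintro ⟨rs, hrs, hreg⟩
    have h1 : Ideal.ofList (rs.map (algebraMap S Q)) = RingHom.ker gc := by rw [hker, ← Ideal.map_ofList, hrs]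
    exact ⟨_, h1, IsRegular.of_isWeaklyRegular_of_mem_maximalIdeal Q
      (fun r hr => le_maximalIdeal (RingHom.ker_ne_top gc.toRingHom) (h1.le (Ideal.subset_span hr)))
      hreg.toIsWeaklyRegular.of_flat⟩
  · rw [hker] at h
    exact exists_isRegular_of_map (Q := Q) J (RingHom.ker_ne_top g.toRingHom) h

/-- A flat algebra with regular closed fibre mapping onto a given complete local algebra. -/
theorem exists_model {A B : Type u} [CommRing A] [CommRing B] [IsNoetherianRing A]
    [IsNoetherianRing B] [IsLocalRing A] [IsLocalRing B]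
    [IsAdicComplete (maximalIdeal A) A] [IsAdicComplete (maximalIdeal B) B]
    [Algebra A B] [IsLocalHom (algebraMap A B)] :
    ∃ (S : Type u) (_ : CommRing S) (_ : IsNoetherianRing S) (_ : IsLocalRing S) (_ : Algebra A S)
      (_ : IsLocalHom (algebraMap A S)) (_ : Module.Flat A S)
      (_ : IsRegularLocalRing (S ⧸ (maximalIdeal A).map (algebraMap A S))) (g : S →ₐ[A] B), Function.Surjective g := by
  obtain ⟨R, S, _, _, _, _, _, _, _, _, _, _, φ, ψ, hφ, hψ, hcomp⟩ := exists_factorization (A := A) (B := B)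
  set I := RingHom.ker φ
  set J := RingHom.ker ψ
  have hI : I ≠ ⊤ := RingHom.ker_ne_top φ
  have hJ : J ≠ ⊤ := RingHom.ker_ne_top ψ
  let IS := I.map (algebraMap R S)
  have hIJ : IS ≤ J := Ideal.map_le_iff_le_comap.mpr fun r hr => by
    show ψ (algebraMap R S r) = 0
    rw [← RingHom.comp_apply, hcomp, RingHom.comp_apply, RingHom.mem_ker.mp hr, map_zero]
  haveI : Nontrivial (S ⧸ IS) := Ideal.Quotient.nontrivial_iff.mpr (ne_top_of_le_ne_top hJ hIJ)
  haveI : IsLocalRing (S ⧸ IS) := IsLocalRing.of_surjective' _ Ideal.Quotient.mk_surjective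
  let eR : R ⧸ I ≃+* A := RingHom.quotientKerEquivOfSurjective hφ
  let h : A →+* S ⧸ IS := (Ideal.quotientMap IS (algebraMap R S) Ideal.le_comap_map).comp eR.symm.toRingHom
  letI : Algebra A (S ⧸ IS) := h.toAlgebra
  have hhφ : (algebraMap A (S ⧸ IS)).comp φ = (Ideal.Quotient.mk IS).comp (algebraMap R S) :=
    RingHom.ext fun r => by
      show h (φ r) = _
      have h1 : eR.symm (φ r) = Ideal.Quotient.mk I r := eR.symm_apply_apply (Ideal.Quotient.mk I r)
      show (Ideal.quotientMap IS (algebraMap R S) Ideal.le_comap_map) (eR.symm (φ r)) = _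
      rw [h1]
      rfl
  haveI : Module.Flat A (S ⧸ IS) := by
    refine RingHom.flat_algebraMap_iff.mp ?_
    letI : Algebra (R ⧸ I) (S ⧸ IS) := Ideal.Quotient.algebraQuotientMapQuotient
    haveI : Module.Flat (R ⧸ I) (S ⧸ IS) := GrothLib.GorFlat.flat_quotient I
    exact RingHom.Flat.comp (RingHom.Flat.of_bijective eR.symm.bijective)
      (RingHom.flat_algebraMap_iff.mpr ‹Module.Flat (R ⧸ I) (S ⧸ IS)›)
  haveI : IsLocalHom φ := hφ.isLocalHom
  have hm : (maximalIdeal A).map (algebraMap A (S ⧸ IS)) =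
      ((maximalIdeal R).map (algebraMap R S)).map (Ideal.Quotient.mk IS) := by
    rw [← IsLocalRing.map_maximalIdeal_of_surjective φ hφ, Ideal.map_map, hhφ, Ideal.map_map]
  haveI : IsRegularLocalRing ((S ⧸ IS) ⧸ (maximalIdeal A).map (algebraMap A (S ⧸ IS))) :=
    IsRegularLocalRing.of_ringEquiv
      ((DoubleQuot.quotQuotEquivQuotOfLE (Ideal.map_mono (le_maximalIdeal hI))).symm.trans
        (Ideal.quotEquivOfEq hm.symm))
  let g₀ : S ⧸ IS →+* B := Ideal.Quotient.lift IS ψ fun x hx => hIJ hx
  let g : S ⧸ IS →ₐ[A] B :=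
    { g₀ with
      commutes' := fun a => by
        obtain ⟨r, rfl⟩ := hφ a
        show g₀ ((algebraMap A (S ⧸ IS)).comp φ r) = (algebraMap A B).comp φ r
        rw [hhφ, ← hcomp]
        rfl }
  have hg : Function.Surjective g := fun b => by
    obtain ⟨s, hs⟩ := hψ b
    exact ⟨Ideal.Quotient.mk IS s, hs⟩
  haveI : IsLocalHom (algebraMap A (S ⧸ IS)) := by
    haveI : IsLocalHom (g.toRingHom.comp (algebraMap A (S ⧸ IS))) := by
      rw [show g.toRingHom.comp (algebraMap A (S ⧸ IS)) = algebraMap A B from g.comp_algebraMap]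
      infer_instance
    exact isLocalHom_of_comp _ g.toRingHom
  exact ⟨S ⧸ IS, inferInstance, inferInstance, inferInstance, inferInstance, inferInstance, inferInstance, inferInstance, g, hg⟩

theorem main_step {A B S S' : Type u} [CommRing A] [CommRing B] [CommRing S] [CommRing S'] [IsNoetherianRing A]
    [IsNoetherianRing S] [IsNoetherianRing S'] [IsLocalRing A] [IsLocalRing B] [IsLocalRing S] [IsLocalRing S']
    [IsAdicComplete (maximalIdeal A) A] [IsAdicComplete (maximalIdeal B) B]
    [Algebra A B] [Algebra A S] [Algebra A S'] [IsLocalHom (algebraMap A B)]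
    [Module.Flat A S] [Module.Flat A S']
    [IsRegularLocalRing (S ⧸ (maximalIdeal A).map (algebraMap A S))]
    [IsRegularLocalRing (S' ⧸ (maximalIdeal A).map (algebraMap A S'))]
    (g : S →ₐ[A] B) (g' : S' →ₐ[A] B) (hg : Function.Surjective g) (hg' : Function.Surjective g')
    (h : ∃ rs : List S, Ideal.ofList rs = RingHom.ker g ∧ IsRegular S rs) :
    ∃ rs : List S', Ideal.ofList rs = RingHom.ker g' ∧ IsRegular S' rs := by
  obtain ⟨hS, hSc, hSf, hSr, gc, hgc, hgcs, hiff⟩ := exists_completed g hg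
  obtain ⟨hS', hSc', hSf', hSr', gc', hgc', hgcs', hiff'⟩ := exists_completed g' hg'
  haveI : IsLocalHom g.toRingHom := hg.isLocalHom
  haveI : IsLocalHom g'.toRingHom := hg'.isLocalHom
  -- the fibre product
  let T := AlgHom.equalizer (g.comp (AlgHom.fst A S S')) (g'.comp (AlgHom.snd A S S'))
  let p : T →ₐ[A] S := (AlgHom.fst A S S').comp T.val
  let p' : T →ₐ[A] S' := (AlgHom.snd A S S').comp T.val
  have hgp : ∀ t : T, g (p t) = g' (p' t) := fun t => t.2
  have hp : Function.Surjective p := fun s => by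
    obtain ⟨s', hs'⟩ := hg' (g s)
    exact ⟨⟨(s, s'), hs'.symm⟩, rfl⟩
  have hp' : Function.Surjective p' := fun s' => by
    obtain ⟨s, hs⟩ := hg (g' s')
    exact ⟨⟨(s, s'), hs⟩, rfl⟩
  haveI : IsNoetherianRing T := by
    letI : Algebra T S := p.toRingHom.toAlgebra
    letI : Algebra T S' := p'.toRingHom.toAlgebra
    have hN : ∀ {X : Type u} [CommRing X] [IsNoetherianRing X] (q : T →+* X), Function.Surjective q →
        letI := q.toAlgebra; IsNoetherian T X := by
      intro X _ _ q hq
      letI : Algebra T X := q.toAlgebra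
      show IsNoetherian T X
      refine ⟨fun N => ?_⟩
      obtain ⟨s, hs⟩ := IsNoetherian.noetherian (Ideal.span (N : Set X))
      refine ⟨s, ?_⟩
      rw [← Submodule.restrictScalars_span T X hq, hs]
      show Submodule.restrictScalars T (Submodule.span X (N : Set X)) = N
      rw [Submodule.restrictScalars_span T X hq, Submodule.span_eq]
    haveI : IsNoetherian T S := hN p.toRingHom hp
    haveI : IsNoetherian T S' := hN p'.toRingHom hp'
    let f := Algebra.linearMap T S
    let f' := Algebra.linearMap T S'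
    haveI : IsNoetherian T (LinearMap.ker f) := isNoetherian_of_injective (f' ∘ₗ (LinearMap.ker f).subtype)
      fun a b hab => Subtype.ext (Subtype.ext (Prod.ext ((a.2 : p a.1 = 0).trans (b.2 : p b.1 = 0).symm) hab))
    exact isNoetherian_of_range_eq_ker (M := LinearMap.ker f) (N := T) (P := S) (LinearMap.ker f).subtype f
      (Submodule.range_subtype (LinearMap.ker f))
  haveI : Nontrivial T := ⟨0, 1, fun h => zero_ne_one ((congrArg p h).trans (map_one p) |> (map_zero p).symm.trans)⟩
  have hunit : ∀ t : T, IsUnit (p t) → IsUnit t := fun t ht => by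
    have ht' : IsUnit (p' t) := (isUnit_map_iff g'.toRingHom _).1 (show IsUnit (g' (p' t)) from hgp t ▸ ht.map g)
    obtain ⟨u, hu⟩ := ht.exists_right_inv
    obtain ⟨u', hu'⟩ := ht'.exists_right_inv
    have hcompat : g u = g' u' := by
      have h1 : g (p t) * g u = 1 := by rw [← map_mul, hu, map_one]
      have h2 : g (p t) * g' u' = 1 := by rw [hgp, ← map_mul, hu', map_one]
      exact (ht.map g).mul_left_cancel (h1.trans h2.symm)
    exact IsUnit.of_mul_eq_one ⟨(u, u'), hcompat⟩ (Subtype.ext (Prod.ext hu hu'))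
  haveI : IsLocalRing T := IsLocalRing.of_nonunits_add fun a b ha hb hab => by
    have := hab.map p
    rw [map_add] at this
    rcases IsLocalRing.isUnit_or_isUnit_of_isUnit_add this with h | h
    · exact ha (hunit _ h)
    · exact hb (hunit _ h)
  haveI : IsLocalHom p.toRingHom := hp.isLocalHom
  haveI : IsLocalHom p'.toRingHom := hp'.isLocalHom
  haveI : IsLocalHom (algebraMap A T) := ⟨fun a ha => (isUnit_map_iff (algebraMap A S) a).1 (by
    rw [← p.commutes]; exact ha.map p)⟩
  let Q := EGA4.Cpl T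
  haveI : IsNoetherianRing Q := GrothLib.AdicExtra.isNoetherianRing_adicCompletion _
  haveI : IsScalarTower A S (EGA4.Cpl S) := IsScalarTower.of_algebraMap_eq fun _ => rfl
  haveI : IsScalarTower A S' (EGA4.Cpl S') := IsScalarTower.of_algebraMap_eq fun _ => rfl
  haveI := GrothLib.Excellent.faithfullyFlat_cpl T
  haveI : IsLocalHom (algebraMap A Q) := by
    rw [IsScalarTower.algebraMap_eq A T Q]
    exact RingHom.isLocalHom_comp _ _
  obtain ⟨π0, hπ0⟩ := Groth.Agent.S18536.exists_cpl_map p.toRingHom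
    (Ideal.map_le_iff_le_comap.1 (IsLocalRing.map_maximalIdeal_le p.toRingHom))
  obtain ⟨π0', hπ0'⟩ := Groth.Agent.S18536.exists_cpl_map p'.toRingHom
    (Ideal.map_le_iff_le_comap.1 (IsLocalRing.map_maximalIdeal_le p'.toRingHom))
  have hsurjQ : ∀ {X : Type u} [CommRing X] [IsNoetherianRing X] [IsLocalRing X] (q : T →+* X),
      Function.Surjective q → ∀ π : Q →+* EGA4.Cpl X, (∀ t, π (algebraMap T Q t) = algebraMap X _ (q t)) →
      Function.Surjective π := by
    intro X _ _ _ q hq π hπ
    have hI : (maximalIdeal Q).map π = maximalIdeal (EGA4.Cpl X) := by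
      rw [AdicCompletion.maximalIdeal_eq_map, Ideal.map_map, show π.comp (algebraMap T Q) =
        (algebraMap X (EGA4.Cpl X)).comp q from RingHom.ext hπ, ← Ideal.map_map,
        IsLocalRing.map_maximalIdeal_of_surjective q hq, ← AdicCompletion.maximalIdeal_eq_map]
    haveI : IsHausdorff ((maximalIdeal Q).map π) (EGA4.Cpl X) := by rw [hI]; infer_instance
    refine surjective_of_mk_map_comp_surjective (I := maximalIdeal Q) π fun y => ?_
    obtain ⟨z, rfl⟩ := Ideal.Quotient.mk_surjective y
    obtain ⟨x, hx⟩ := GrothLib.RegCompl.exists_sub_mem_map (maximalIdeal X) (IsNoetherian.noetherian _) z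
    obtain ⟨t, rfl⟩ := hq x
    refine ⟨algebraMap T Q t, Ideal.Quotient.eq.2 ?_⟩
    rw [hI, AdicCompletion.maximalIdeal_eq_map, hπ, ← neg_sub]
    exact neg_mem hx
  let π1 : Q →ₐ[A] EGA4.Cpl S := { π0 with
    commutes' := fun a => by
      show π0 (algebraMap A Q a) = _
      rw [IsScalarTower.algebraMap_apply A T Q, hπ0, IsScalarTower.algebraMap_apply A S (EGA4.Cpl S)]
      exact congrArg _ (p.commutes a) }
  let π1' : Q →ₐ[A] EGA4.Cpl S' := { π0' with
    commutes' := fun a => by
      show π0' (algebraMap A Q a) = _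
      rw [IsScalarTower.algebraMap_apply A T Q, hπ0', IsScalarTower.algebraMap_apply A S' (EGA4.Cpl S')]
      exact congrArg _ (p'.commutes a) }
  have hQQ : gc.toRingHom.comp π1.toRingHom = gc'.toRingHom.comp π1'.toRingHom := by
    have e1 : ∀ t, gc (π0 (algebraMap T Q t)) = g (p t) := fun t => by rw [hπ0]; exact hgcs _
    have e2 : ∀ t, gc' (π0' (algebraMap T Q t)) = g' (p' t) := fun t => by rw [hπ0']; exact hgcs' _
    refine cpl_hom_ext _ _ ?_ (RingHom.ext fun t => (e1 t).trans ((hgp t).trans (e2 t).symm))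
    rw [Ideal.map_le_iff_le_comap]
    intro t ht
    show gc (π0 (algebraMap T Q t)) ∈ maximalIdeal B
    rw [e1]
    exact IsLocalRing.map_maximalIdeal_le g.toRingHom (Ideal.mem_map_of_mem _
      (IsLocalRing.map_maximalIdeal_le p.toRingHom (Ideal.mem_map_of_mem _ ht)))
  haveI := hSc
  haveI := hSc'
  haveI := hSf
  haveI := hSf'
  haveI := hSr
  haveI := hSr'
  haveI : IsNoetherianRing (EGA4.Cpl S) := GrothLib.AdicExtra.isNoetherianRing_adicCompletion _
  haveI : IsNoetherianRing (EGA4.Cpl S') := GrothLib.AdicExtra.isNoetherianRing_adicCompletion _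
  obtain ⟨U, _, _, _, _, _, _, _, ρ, hρ⟩ := exists_model (A := A) (B := Q)
  have k1 := ker_comp_regular_iff (π1.comp ρ) ((hsurjQ p.toRingHom hp π0 hπ0).comp hρ) gc hgc
  have k2 := ker_comp_regular_iff (π1'.comp ρ) ((hsurjQ p'.toRingHom hp' π0' hπ0').comp hρ) gc' hgc'
  have heq : gc.comp (π1.comp ρ) = gc'.comp (π1'.comp ρ) :=
    AlgHom.ext fun u => RingHom.congr_fun hQQ (ρ u)
  rw [← heq] at k2
  exact hiff'.2 (k2.1 (k1.2 (hiff.1 h)))

end


/-- Let A -> B be a local homomorphism of complete Noetherian local rings, and take two factorizations A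
-> S -> B and A -> S' -> B through Noetherian local rings with S -> B and S' -> B surjective, A -> S
and A -> S' flat, and regular closed fibres S/m_A S and S'/m_A S'. Then the kernel of S -> B is cut
out by a regular sequence exactly when the kernel of S' -> B is. -/
theorem result {A B S S' : Type u} [CommRing A] [CommRing B]
    [CommRing S] [CommRing S'] [IsNoetherianRing A] [IsNoetherianRing B] [IsNoetherianRing S]
    [IsNoetherianRing S'] [IsLocalRing A] [IsLocalRing B] [IsLocalRing S] [IsLocalRing S']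
    [IsAdicComplete (IsLocalRing.maximalIdeal A) A] [IsAdicComplete (IsLocalRing.maximalIdeal B) B]
    [Algebra A B] [Algebra A S] [Algebra A S'] [IsLocalHom (algebraMap A B)]
    [Module.Flat A S] [Module.Flat A S']
    [IsRegularLocalRing (S ⧸ Ideal.map (algebraMap A S) (IsLocalRing.maximalIdeal A))]
    [IsRegularLocalRing (S' ⧸ Ideal.map (algebraMap A S') (IsLocalRing.maximalIdeal A))]
    (g : S →ₐ[A] B) (g' : S' →ₐ[A] B) (hg : Function.Surjective g)
    (hg' : Function.Surjective g') :
    (∃ rs : List S, Ideal.ofList rs = RingHom.ker g ∧ RingTheory.Sequence.IsRegular S rs) ↔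
      (∃ rs' : List S', Ideal.ofList rs' = RingHom.ker g' ∧
        RingTheory.Sequence.IsRegular S' rs') := by
  exact ⟨main_step g g' hg hg', main_step g' g hg' hg⟩


end Groth.Agent.S2186
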