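import Groth.Statements.S2187
import Groth.Agent.Lib.Vasconcelos.Basic
-- import your own Groth.Agent.* helpers here

set_option autoImplicit false
universe u
open CategoryTheory
open LCI

namespace Groth.Agent.S2187

/-- Let R be a Noetherian local ring and I an ideal of finite projective dimension as an R-module. If F
is a direct summand of the conormal module I/I^2 which is isomorphic to R/I, then there is a
nonzerodivisor x in I whose class in I/I^2 generates F. -/
theorem result {R : Type u} [CommRing R]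
    [IsNoetherianRing R] [IsLocalRing R] (I : Ideal R) (n : ℕ)
    (hpd : HasProjectiveDimensionLT (ModuleCat.of R I) n)
    (F G : Submodule (R ⧸ I) I.Cotangent) (hFG : IsCompl F G) (e : F ≃ₗ[R ⧸ I] (R ⧸ I)) :
    ∃ (x : R) (hx : x ∈ I), x ∈ nonZeroDivisors R ∧
      Submodule.span (R ⧸ I) {I.toCotangent ⟨x, hx⟩} = F := by
  obtain ⟨x₀, hx₀⟩ := I.toCotangent_surjective ((e.symm 1 : F) : I.Cotangent)
  let ψ : I →ₗ[R] R ⧸ I :=
    (e.toLinearMap ∘ₗ F.projectionOnto G hFG).restrictScalars R ∘ₗ I.toCotangent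
  have hψ : ψ ⟨(x₀ : R), x₀.2⟩ = 1 := by
    show e (F.projectionOnto G hFG (I.toCotangent x₀)) = 1
    rw [hx₀, Submodule.projectionOnto_apply_left, e.apply_symm_apply]
  haveI := hpd
  have h : GrothLib.Serre.PdLE R I n := hasProjectiveDimensionLT_of_ge _ n _ (by omega)
  obtain ⟨j, hj, hnzd⟩ := GrothLib.Vasconcelos.exists_nonZeroDivisor_add I n h x₀ x₀.2 ψ hψ
  have hxI : (x₀ : R) + j ∈ I := I.add_mem x₀.2 (Ideal.pow_le_self two_ne_zero hj)
  refine ⟨(x₀ : R) + j, hxI, hnzd, ?_⟩
  have hcl : I.toCotangent ⟨(x₀ : R) + j, hxI⟩ = ((e.symm 1 : F) : I.Cotangent) := by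
    rw [← hx₀]
    exact (Ideal.toCotangent_eq I).mpr (by simpa using hj)
  rw [hcl]
  refine le_antisymm ((Submodule.span_singleton_le_iff_mem _ _).mpr (e.symm 1).2) fun z hz => ?_
  refine Submodule.mem_span_singleton.mpr ⟨e ⟨z, hz⟩, ?_⟩
  rw [← Submodule.coe_smul, ← map_smul, smul_eq_mul, mul_one, e.symm_apply_apply]

end Groth.Agent.S2187
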