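import Groth.Statements.S2188
import Groth.Agent.Lib.Vasconcelos.Basic
-- import your own Groth.Agent.* helpers here

set_option autoImplicit false
universe u
open CategoryTheory
open LCI

namespace Groth.Agent.S2188

/-- Let R be a Noetherian local ring and I an ideal of finite projective dimension as an R-module. If F
is a direct summand of I/I^2 which is free of rank r over R/I, then there is a regular sequence x_1,
..., x_r of R inside I whose classes in I/I^2 generate F. -/
theorem result {R : Type u} [CommRing R]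
    [IsNoetherianRing R] [IsLocalRing R] (I : Ideal R) (hI : I ≠ ⊤) (n : ℕ)
    (hpd : HasProjectiveDimensionLT (ModuleCat.of R I) n)
    (F G : Submodule (R ⧸ I) I.Cotangent) (hFG : IsCompl F G) (r : ℕ)
    (e : F ≃ₗ[R ⧸ I] (Fin r → R ⧸ I)) :
    ∃ (x : Fin r → R) (hx : ∀ i, x i ∈ I), RingTheory.Sequence.IsRegular R (List.ofFn x) ∧
      Submodule.span (R ⧸ I) (Set.range fun i => I.toCotangent ⟨x i, hx i⟩) = F := by
  choose x₀ hx₀ using fun k => I.toCotangent_surjective ((e.symm (Pi.single k 1) : F) : I.Cotangent)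
  let ψ : Fin r → (I →ₗ[R] R ⧸ I) := fun i =>
    (LinearMap.proj i ∘ₗ e.toLinearMap ∘ₗ F.projectionOnto G hFG).restrictScalars R ∘ₗ I.toCotangent
  have hψ : ∀ i k, ψ i ⟨(x₀ k : R), (x₀ k).2⟩ = if i = k then 1 else 0 := by
    intro i k
    show e (F.projectionOnto G hFG (I.toCotangent (x₀ k))) i = _
    rw [hx₀, Submodule.projectionOnto_apply_left, e.apply_symm_apply, Pi.single_apply]
  haveI := hpd
  have h : GrothLib.Serre.PdLE R I n := hasProjectiveDimensionLT_of_ge _ n _ (by omega)
  obtain ⟨y, hy, hw⟩ := GrothLib.Vasconcelos.exists_weaklyRegular r R I hI n h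
    (fun k => (x₀ k : R)) (fun k => (x₀ k).2) ψ hψ
  have hyI : ∀ k, y k ∈ I := fun k => by
    simpa using I.add_mem (Ideal.pow_le_self two_ne_zero (hy k)) (x₀ k).2
  refine ⟨y, hyI, ⟨hw, ?_⟩, ?_⟩
  · intro htop
    rw [smul_eq_mul, Ideal.mul_top] at htop
    refine hI (top_le_iff.mp (htop.le.trans (Ideal.span_le.mpr ?_)))
    intro z hz
    obtain ⟨k, rfl⟩ := List.mem_ofFn.mp hz
    exact hyI k
  have hcl : (fun k => I.toCotangent ⟨y k, hyI k⟩) =
      fun k => ((e.symm (Pi.single k 1) : F) : I.Cotangent) := funext fun k => by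
    rw [← hx₀]
    exact (Ideal.toCotangent_eq I).mpr (hy k)
  rw [hcl]
  refine le_antisymm (Submodule.span_le.mpr (Set.range_subset_iff.mpr fun k => (e.symm _).2))
    fun z hz => ?_
  have hsum : z = ∑ k, e ⟨z, hz⟩ k • ((e.symm (Pi.single k 1) : F) : I.Cotangent) := by
    simp only [← Submodule.coe_smul, ← map_smul, ← Pi.single_smul, smul_eq_mul, mul_one,
      ← Submodule.coe_sum, ← map_sum, Finset.univ_sum_single (e ⟨z, hz⟩), e.symm_apply_apply]
  rw [hsum]
  exact sum_mem fun k _ => Submodule.smul_mem _ _ (Submodule.subset_span ⟨k, rfl⟩)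

end Groth.Agent.S2188
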