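import Groth.Statements.S2190
import Groth.Agent.Lib.NumType.Genus


set_option autoImplicit false
open Finset
open Models Models.NumericalType

namespace Groth.Agent.S2190

/-- A minimal numerical type of genus zero has a single index, with m = 1, a = 0, w = 1 and g = 0. -/
theorem result {n : ℕ} (T : Models.NumericalType n) (hmin : T.IsMinimal) (hg : T.genus = 0) :
    n = 1 ∧ ∀ i, T.m i = 1 ∧ T.a i i = 0 ∧ T.w i = 1 ∧ T.g i = 0 := by
  have hn : n = 1 := by
    by_contra hn
    have := T.pos
    have := GrothLib.NumType.one_le_genus_of_isMinimal T hmin (by omega)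
    omega
  refine ⟨hn, fun i => ?_⟩
  subst hn
  obtain rfl : i = 0 := Subsingleton.elim _ _
  have h0 := GrothLib.NumType.row_sum T 0
  rw [Fin.sum_univ_one] at h0
  have ha : T.a 0 0 = 0 := (mul_eq_zero.mp h0).resolve_right (T.m_pos 0).ne'
  have h2 := GrothLib.NumType.two_genus T
  rw [hg, Fin.sum_univ_one, GrothLib.NumType.contrib, ha] at h2
  have h3 : T.m 0 * (T.w 0 * (1 - T.g 0)) = 1 := by linarith
  have hm := Int.eq_one_of_dvd_one (T.m_pos 0).le (Dvd.intro _ h3)
  rw [hm, one_mul] at h3
  have hw := Int.eq_one_of_dvd_one (T.w_pos 0).le (Dvd.intro _ h3)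
  rw [hw, one_mul] at h3
  exact ⟨hm, ha, hw, by omega⟩

end Groth.Agent.S2190
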