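import Groth.Statements.S2191
import Groth.Agent.Lib.DPowPoly.Gens

set_option autoImplicit false
universe u v
open DPow

namespace Groth.Agent.S2191

/-- Part (2): if two ideals I and J of a ring carry divided power structures agreeing on their
intersection, then exactly one divided power structure on the ideal I + J restricts to the given
ones on I and on J. -/
theorem result {A : Type u} [CommRing A] {I J : Ideal A} (γ : DividedPowers I)
    (δ : DividedPowers J) (h : ∀ (n : ℕ) (x : A), x ∈ I ⊓ J → γ.dpow n x = δ.dpow n x) :
    ∃! ε : DividedPowers (I ⊔ J),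
      (∀ (n : ℕ) (x : A), x ∈ I → ε.dpow n x = γ.dpow n x) ∧
        (∀ (n : ℕ) (x : A), x ∈ J → ε.dpow n x = δ.dpow n x) := by
  exact GrothLib.DPowPoly.existsUnique_dp_sup γ δ h

end Groth.Agent.S2191
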