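import Groth.Statements.S2195
import Groth.Agent.Lib.TraceEtale.Basic
import Mathlib.RingTheory.Discriminant
import Mathlib.RingTheory.Finiteness.ModuleFinitePresentation
import Mathlib.Algebra.Algebra.Shrink

set_option autoImplicit false
universe u v
open Disc

namespace Groth.Agent.S2195

/-- Ring form of the statement: let B be an A-algebra which is finite free as an A-module with basis b.
Then A -> B is etale if and only if the discriminant of b (the determinant of the matrix of traces
Tr(b_i b_j)) is a unit of A, i.e. the discriminant locus is empty. -/
theorem result {A : Type u} {B : Type v} [CommRing A] [CommRing B]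
    [Algebra A B] {ι : Type} [Fintype ι] [DecidableEq ι] (b : Module.Basis ι A B) :
    Algebra.Etale A B ↔ IsUnit (Algebra.discr A b) := by
  have : Module.Finite A B := .of_basis b
  have : Module.Free A B := .of_basis b
  have : Small.{u} B := small_map b.equivFun.toEquiv
  let e : Shrink.{u} B ≃ₐ[A] B := Shrink.algEquiv A B
  have key := GrothLib.TraceEtale.formallyUnramified_iff_isUnit_det (b.map e.symm.toLinearEquiv)
  have hdisc : Algebra.discr A b = Algebra.discr A (b.map e.symm.toLinearEquiv) :=
    Algebra.discr_eq_discr_of_algEquiv _ e.symm
  rw [← Algebra.discr_def, ← hdisc, Algebra.FormallyUnramified.iff_of_equiv e] at key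
  rw [← key]
  refine ⟨fun h => inferInstance, fun h => ?_⟩
  have : Module.FinitePresentation A B := Module.finitePresentation_of_projective A B
  exact Algebra.Etale.of_formallyUnramified_of_flat

end Groth.Agent.S2195
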