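import Groth.Statements.S2201
import Groth.Agent.Lib.CIPres.Relative

set_option autoImplicit false
universe u
open LCI

namespace Groth.Agent.S2201

theorem result {R S : Type u} [CommRing R] [CommRing S] [IsNoetherianRing R]
    [IsNoetherianRing S] [IsLocalRing R] [IsLocalRing S] [Algebra R S] [IsLocalHom (algebraMap R S)]
    [Module.Flat R S]
    [IsRegularLocalRing (S ⧸ Ideal.map (algebraMap R S) (IsLocalRing.maximalIdeal R))]
    (I : Ideal R) (J : Ideal S) (hI : I ≠ ⊤) (hJ : J ≠ ⊤) (hIJ : I.map (algebraMap R S) ≤ J)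
    [Algebra (R ⧸ I) (S ⧸ J)] [IsScalarTower R (R ⧸ I) (S ⧸ J)] :
    let P3 := (∃ rs : List R, Ideal.ofList rs = I ∧ RingTheory.Sequence.IsRegular R rs) ∧
      ∃ rs' : List (S ⧸ I.map (algebraMap R S)),
        Ideal.ofList rs' = J.map (Ideal.Quotient.mk (I.map (algebraMap R S))) ∧
          RingTheory.Sequence.IsRegular (S ⧸ I.map (algebraMap R S)) rs'
    let Jreg := ∃ rs : List S, Ideal.ofList rs = J ∧ RingTheory.Sequence.IsRegular S rs
    ((Jreg ∧ DRing.HasFiniteTorDim (R ⧸ I) (S ⧸ J)) ↔ P3) ∧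
      ((Jreg ∧ Set.Finite {p : ℕ | ¬Subsingleton (DRing.Tor (R ⧸ I) p (S ⧸ J)
        ((R ⧸ I) ⧸ (IsLocalRing.maximalIdeal R).map (Ideal.Quotient.mk I)))}) ↔ P3) := by
  intro P3 Jreg
  refine ⟨⟨fun h => ?_, fun h => ?_⟩, ⟨fun h => ?_, fun h => ?_⟩⟩
  · haveI : Nontrivial (R ⧸ I) := Ideal.Quotient.nontrivial_iff.mpr hI
    haveI : IsLocalRing (R ⧸ I) :=
      IsLocalRing.of_surjective' (Ideal.Quotient.mk I) Ideal.Quotient.mk_surjective
    refine GrothLib.CIPres.regular_of_tor_finite I J hI hJ hIJ h.1 ?_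
    rw [GrothLib.RegLoc.map_maximalIdeal_quotient I]
    exact GrothLib.CIPres.finite_tor_residue h.2
  · exact GrothLib.CIPres.regular_torDim_of_regular I J hI hJ hIJ h.1 h.2
  · exact GrothLib.CIPres.regular_of_tor_finite I J hI hJ hIJ h.1 h.2
  · haveI : Nontrivial (R ⧸ I) := Ideal.Quotient.nontrivial_iff.mpr hI
    haveI : IsLocalRing (R ⧸ I) :=
      IsLocalRing.of_surjective' (Ideal.Quotient.mk I) Ideal.Quotient.mk_surjective
    obtain ⟨h1, h2⟩ := GrothLib.CIPres.regular_torDim_of_regular I J hI hJ hIJ h.1 h.2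
    refine ⟨h1, ?_⟩
    rw [GrothLib.RegLoc.map_maximalIdeal_quotient I]
    exact GrothLib.CIPres.finite_tor_residue h2

end Groth.Agent.S2201
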