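import Groth.Statements.S2202
import Groth.Agent.Lib.CIPres.Relative
import Groth.Agent.Lib.CIPres.Factor

set_option autoImplicit false
universe u
open LCI

namespace Groth.Agent.S2202

open IsLocalRing RingTheory.Sequence GrothLib.CIPres in
theorem forward {A B : Type u} [CommRing A] [CommRing B] [IsNoetherianRing A]
    [IsNoetherianRing B] [IsLocalRing A] [IsLocalRing B]
    [IsAdicComplete (maximalIdeal A) A] [IsAdicComplete (maximalIdeal B) B]
    [Algebra A B] [IsLocalHom (algebraMap A B)] (hB : Pi1.IsCompleteIntersection B)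
    (hfin : Set.Finite {p : ℕ | ¬Subsingleton (DRing.Tor A p B (ResidueField A))}) :
    Pi1.IsCompleteIntersection A ∧
        ∃ (S : Type u) (_ : CommRing S) (_ : IsNoetherianRing S) (_ : IsLocalRing S) (_ : Algebra A S)
          (_ : Module.Flat A S)
          (_ : IsRegularLocalRing (S ⧸ Ideal.map (algebraMap A S) (maximalIdeal A)))
          (g : S →ₐ[A] B), Function.Surjective g ∧
            ∃ rs : List S, Ideal.ofList rs = RingHom.ker g ∧ IsRegular S rs := by
  obtain ⟨R, S, _, _, _, _, _, _, _, _, _, _, φ, ψ, hφ, hψ, hcomp⟩ := exists_factorization (A := A) (B := B)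
  set I := RingHom.ker φ
  set J := RingHom.ker ψ
  have hI : I ≠ ⊤ := RingHom.ker_ne_top φ
  have hJ : J ≠ ⊤ := RingHom.ker_ne_top ψ
  let IS := I.map (algebraMap R S)
  have hIJ : IS ≤ J := Ideal.map_le_iff_le_comap.mpr fun r hr => by
    show ψ (algebraMap R S r) = 0
    rw [← RingHom.comp_apply, hcomp, RingHom.comp_apply, RingHom.mem_ker.mp hr, map_zero]
  haveI : Nontrivial (S ⧸ IS) := Ideal.Quotient.nontrivial_iff.mpr (ne_top_of_le_ne_top hJ hIJ)
  haveI : IsLocalRing (S ⧸ IS) := IsLocalRing.of_surjective' _ Ideal.Quotient.mk_surjective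
  let eR : R ⧸ I ≃+* A := RingHom.quotientKerEquivOfSurjective hφ
  let h : A →+* S ⧸ IS := (Ideal.quotientMap IS (algebraMap R S) Ideal.le_comap_map).comp eR.symm.toRingHom
  letI : Algebra A (S ⧸ IS) := h.toAlgebra
  have hhφ : (algebraMap A (S ⧸ IS)).comp φ = (Ideal.Quotient.mk IS).comp (algebraMap R S) :=
    RingHom.ext fun r => by
      show h (φ r) = _
      have h1 : eR.symm (φ r) = Ideal.Quotient.mk I r := eR.symm_apply_apply (Ideal.Quotient.mk I r)
      show (Ideal.quotientMap IS (algebraMap R S) Ideal.le_comap_map) (eR.symm (φ r)) = _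
      rw [h1]
      rfl
  haveI : Module.Flat A (S ⧸ IS) := by
    refine RingHom.flat_algebraMap_iff.mp ?_
    letI : Algebra (R ⧸ I) (S ⧸ IS) := Ideal.Quotient.algebraQuotientMapQuotient
    haveI : Module.Flat (R ⧸ I) (S ⧸ IS) := GrothLib.GorFlat.flat_quotient I
    exact RingHom.Flat.comp (RingHom.Flat.of_bijective eR.symm.bijective)
      (RingHom.flat_algebraMap_iff.mpr ‹Module.Flat (R ⧸ I) (S ⧸ IS)›)
  haveI : IsLocalHom φ := hφ.isLocalHom
  have hm : (maximalIdeal A).map (algebraMap A (S ⧸ IS)) =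
      ((maximalIdeal R).map (algebraMap R S)).map (Ideal.Quotient.mk IS) := by
    rw [← IsLocalRing.map_maximalIdeal_of_surjective φ hφ, Ideal.map_map, hhφ, Ideal.map_map]
  haveI : IsRegularLocalRing ((S ⧸ IS) ⧸ (maximalIdeal A).map (algebraMap A (S ⧸ IS))) :=
    IsRegularLocalRing.of_ringEquiv
      ((DoubleQuot.quotQuotEquivQuotOfLE (Ideal.map_mono (le_maximalIdeal hI))).symm.trans
        (Ideal.quotEquivOfEq hm.symm))
  let g₀ : S ⧸ IS →+* B := Ideal.Quotient.lift IS ψ fun x hx => hIJ hx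
  let g : S ⧸ IS →ₐ[A] B :=
    { g₀ with
      commutes' := fun a => by
        obtain ⟨r, rfl⟩ := hφ a
        show g₀ ((algebraMap A (S ⧸ IS)).comp φ r) = (algebraMap A B).comp φ r
        rw [hhφ, ← hcomp]
        rfl }
  have hg : Function.Surjective g := fun b => by
    obtain ⟨s, hs⟩ := hψ b
    exact ⟨Ideal.Quotient.mk IS s, hs⟩
  haveI : IsLocalHom (algebraMap A (S ⧸ IS)) := by
    haveI : IsLocalHom (g.toRingHom.comp (algebraMap A (S ⧸ IS))) := by
      rw [show g.toRingHom.comp (algebraMap A (S ⧸ IS)) = algebraMap A B from g.comp_algebraMap]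
      infer_instance
    exact isLocalHom_of_comp _ g.toRingHom
  letI : Algebra (S ⧸ IS) B := g.toRingHom.toAlgebra
  haveI : IsScalarTower A (S ⧸ IS) B := IsScalarTower.of_algebraMap_eq fun a => (g.commutes a).symm
  let ε : (Fin 1 → S ⧸ IS) →ₗ[S ⧸ IS] B := Algebra.linearMap (S ⧸ IS) B ∘ₗ LinearMap.proj 0
  have hε : Function.Surjective ε := fun b => by
    obtain ⟨t, ht⟩ := hg b
    exact ⟨fun _ => t, ht⟩
  obtain ⟨d, hd⟩ := hasFiniteTorDim_of_tor_residue (A := A) (T := S ⧸ IS) (M := B) ε hε hfin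
  letI : Algebra (S ⧸ IS) (S ⧸ J) := (Ideal.Quotient.factor hIJ).toAlgebra
  haveI : IsScalarTower S (S ⧸ IS) (S ⧸ J) := IsScalarTower.of_algebraMap_eq fun _ => rfl
  let eS : S ⧸ J ≃+* B := RingHom.quotientKerEquivOfSurjective hψ
  let e : B ≃ₗ[S ⧸ IS] S ⧸ J := LinearEquiv.symm
    { eS.toAddEquiv with
      map_smul' := fun c x => by
        obtain ⟨s, rfl⟩ := Ideal.Quotient.mk_surjective c
        obtain ⟨y, rfl⟩ := Ideal.Quotient.mk_surjective x
        show eS (Ideal.Quotient.factor hIJ (Ideal.Quotient.mk IS s) * Ideal.Quotient.mk J y) =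
          g (Ideal.Quotient.mk IS s) * eS (Ideal.Quotient.mk J y)
        rw [map_mul]
        rfl }
  have hJreg := (isCI_iff_ker ψ hψ).mp hB
  obtain ⟨h1, rs', hrs', hreg'⟩ := Groth.Agent.S2200.result IS J hIJ hJ
    ⟨d, GrothLib.PHom.torDimLE_of_equiv e hd⟩ hJreg
  refine ⟨(isCI_iff_ker φ hφ).mpr (exists_isRegular_of_map (Q := S) I hI h1),
    S ⧸ IS, inferInstance, inferInstance, inferInstance, inferInstance, inferInstance, inferInstance, g, hg,
    rs', hrs'.trans ?_, hreg'⟩
  exact (Ideal.ker_quotient_lift (f := ψ) _).symm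

open IsLocalRing RingTheory.Sequence GrothLib.CIPres in
theorem backward {A B : Type u} [CommRing A] [CommRing B] [IsNoetherianRing A]
    [IsNoetherianRing B] [IsLocalRing A] [IsLocalRing B]
    [Algebra A B] [IsLocalHom (algebraMap A B)] (hA : Pi1.IsCompleteIntersection A)
    {S : Type u} [CommRing S] [IsNoetherianRing S] [IsLocalRing S] [Algebra A S] [Module.Flat A S]
    [IsRegularLocalRing (S ⧸ Ideal.map (algebraMap A S) (maximalIdeal A))]
    (g : S →ₐ[A] B) (hg : Function.Surjective g) (rs : List S) (hrs : Ideal.ofList rs = RingHom.ker g)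
    (hreg : IsRegular S rs) :
    Pi1.IsCompleteIntersection B ∧
        Set.Finite {p : ℕ | ¬Subsingleton (DRing.Tor A p B (ResidueField A))} := by
  haveI : IsLocalHom (algebraMap A S) := by
    haveI : IsLocalHom (g.toRingHom.comp (algebraMap A S)) := by
      rw [show g.toRingHom.comp (algebraMap A S) = algebraMap A B from g.comp_algebraMap]
      infer_instance
    exact isLocalHom_of_comp _ g.toRingHom
  have hS : Pi1.IsCompleteIntersection S := isCI_iff_of_flat.mpr ⟨hA, isCI_of_regular _⟩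
  let e : S ⧸ Ideal.ofList rs ≃+* B :=
    (Ideal.quotEquivOfEq hrs).trans (RingHom.quotientKerEquivOfSurjective (f := g.toRingHom) hg)
  haveI : Nontrivial (S ⧸ Ideal.ofList rs) := e.toEquiv.nontrivial
  haveI : IsLocalRing (S ⧸ Ideal.ofList rs) := IsLocalRing.of_surjective' _ Ideal.Quotient.mk_surjective
  refine ⟨(isCI_congr e).mp (isCI_quotient hS rs hreg), ?_⟩
  letI : Algebra S B := g.toRingHom.toAlgebra
  haveI : IsScalarTower A S B := IsScalarTower.of_algebraMap_eq fun a => (g.commutes a).symm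
  let l : S →ₗ[S] B := Algebra.linearMap S B
  let el : (S ⧸ Ideal.ofList rs) ≃ₗ[S] B :=
    (Submodule.quotEquivOfEq _ _ (hrs.trans (by rfl) : Ideal.ofList rs = LinearMap.ker l)).trans
      (l.quotKerEquivOfSurjective hg)
  obtain ⟨d, hd⟩ := hasFiniteTorDim_quotient_regular rs hreg.toIsWeaklyRegular
  exact finite_tor_residue (GrothLib.PHom.finiteTorDim_trans (A := A) (B := S)
    (GrothLib.PHom.finiteTorDim_of_flat S) ⟨d, GrothLib.PHom.torDimLE_of_equiv el hd⟩)

theorem result {A B : Type u} [CommRing A] [CommRing B] [IsNoetherianRing A]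
    [IsNoetherianRing B] [IsLocalRing A] [IsLocalRing B]
    [IsAdicComplete (IsLocalRing.maximalIdeal A) A] [IsAdicComplete (IsLocalRing.maximalIdeal B) B]
    [Algebra A B] [IsLocalHom (algebraMap A B)] :
    (Pi1.IsCompleteIntersection B ∧
        Set.Finite {p : ℕ | ¬Subsingleton (DRing.Tor A p B (IsLocalRing.ResidueField A))}) ↔
      (Pi1.IsCompleteIntersection A ∧
        ∃ (S : Type u) (_ : CommRing S) (_ : IsNoetherianRing S) (_ : IsLocalRing S) (_ : Algebra A S)
          (_ : Module.Flat A S)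
          (_ : IsRegularLocalRing (S ⧸ Ideal.map (algebraMap A S) (IsLocalRing.maximalIdeal A)))
          (g : S →ₐ[A] B), Function.Surjective g ∧
            ∃ rs : List S, Ideal.ofList rs = RingHom.ker g ∧ RingTheory.Sequence.IsRegular S rs) := by
  constructor
  · exact fun h => forward h.1 h.2
  · rintro ⟨hA, S, _, _, _, _, _, _, g, hg, rs, hrs, hreg⟩
    exact backward hA g hg rs hrs hreg

end Groth.Agent.S2202
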