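import Groth.Statements.S2203
import Mathlib.CategoryTheory.Center.Linear
import Mathlib.Algebra.Category.ModuleCat.Biproducts
import Mathlib.LinearAlgebra.Span.Basic
import Mathlib.Algebra.Category.ModuleCat.Basic
import Mathlib.CategoryTheory.Preadditive.AdditiveFunctor
import Mathlib.CategoryTheory.Adjunction.Additive

set_option autoImplicit false
set_option linter.style.haveILetI false
universe u
open CategoryTheory
open QCohCat

namespace Groth.Agent.S2203

/-- Ring-isomorphism part of the statement: let A and B be commutative rings whose categories of modules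
are equivalent. Then A and B are isomorphic as rings. (The source moreover describes the equivalence
as base change followed by tensoring with an invertible module.) -/
theorem result (A B : Type u) [CommRing A] [CommRing B]
    (F : ModuleCat.{u} A ≌ ModuleCat.{u} B) : Nonempty (A ≃+* B) := by
  haveI : F.functor.Additive := Functor.additive_of_preserves_binary_products _
  have key : ∀ (R : Type u) [CommRing R], Nonempty (CatCenter (ModuleCat.{u} R) ≃+* R) := by
    intro R _
    refine ⟨(RingEquiv.ofBijective (Linear.toCatCenter R (ModuleCat.{u} R)) ⟨fun a b h => ?_, fun z => ?_⟩).symm⟩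
    · have h' : ((Linear.toCatCenter R (ModuleCat.{u} R) a).app (ModuleCat.of R R)).hom (1 : R) =
          ((Linear.toCatCenter R (ModuleCat.{u} R) b).app (ModuleCat.of R R)).hom (1 : R) := by rw [h]
      have e : ∀ c : R, ((Linear.toCatCenter R (ModuleCat.{u} R) c).app (ModuleCat.of R R)).hom (1 : R) = c :=
        fun c => (show c • (1 : R) = c from mul_one c)
      rwa [e, e] at h'
    · refine ⟨(z.app (ModuleCat.of R R)).hom (1 : R), CatCenter.ext _ _ fun M => ModuleCat.hom_ext (LinearMap.ext fun m => ?_)⟩
      let f : ModuleCat.of R R ⟶ M := ModuleCat.ofHom (LinearMap.toSpanSingleton R M m)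
      have hn := congrArg (fun g => g.hom (1 : R)) (z.naturality f)
      show ((z.app (ModuleCat.of R R)).hom (1 : R)) • m = (z.app M).hom m
      have h1 : f.hom (1 : R) = m := one_smul R m
      simp only [ModuleCat.hom_comp, LinearMap.comp_apply, h1] at hn
      rw [hn]
      rfl
  obtain ⟨eA⟩ := key A
  obtain ⟨eB⟩ := key B
  let φ : CatCenter (ModuleCat.{u} A) →+* CatCenter (ModuleCat.{u} B) :=
    { toFun := fun z =>
        { app := fun Y => F.counitIso.inv.app Y ≫ F.functor.map (z.app (F.inverse.obj Y)) ≫ F.counitIso.hom.app Y
          naturality := fun Y Y' g => by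
            have h1 : g ≫ F.counitIso.inv.app Y' = F.counitIso.inv.app Y ≫ F.functor.map (F.inverse.map g) :=
              F.counitIso.inv.naturality g
            have h2 : F.functor.map (F.inverse.map g) ≫ F.counitIso.hom.app Y' = F.counitIso.hom.app Y ≫ g :=
              F.counitIso.hom.naturality g
            show g ≫ F.counitIso.inv.app Y' ≫ F.functor.map (z.app (F.inverse.obj Y')) ≫ F.counitIso.hom.app Y' =
              (F.counitIso.inv.app Y ≫ F.functor.map (z.app (F.inverse.obj Y)) ≫ F.counitIso.hom.app Y) ≫ g
            rw [reassoc_of% h1, ← F.functor.map_comp_assoc, CatCenter.naturality, F.functor.map_comp_assoc, h2]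
            simp only [Category.assoc] }
      map_one' := by
        refine CatCenter.ext _ _ fun Y => ?_
        show F.counitIso.inv.app Y ≫ F.functor.map (𝟙 (F.inverse.obj Y)) ≫ F.counitIso.hom.app Y = 𝟙 Y
        rw [F.functor.map_id]
        erw [Category.id_comp]
        exact Iso.inv_hom_id_app _ _
      map_mul' := fun z w => CatCenter.ext _ _ fun Y => by
        show F.counitIso.inv.app Y ≫ F.functor.map (w.app _ ≫ z.app (F.inverse.obj Y)) ≫ F.counitIso.hom.app Y =
          (F.counitIso.inv.app Y ≫ F.functor.map (w.app _) ≫ F.counitIso.hom.app Y) ≫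
            (F.counitIso.inv.app Y ≫ F.functor.map (z.app _) ≫ F.counitIso.hom.app Y)
        simp only [Functor.map_comp, Category.assoc, Iso.hom_inv_id_app_assoc]
      map_zero' := CatCenter.ext _ _ fun Y => by
        show F.counitIso.inv.app Y ≫ F.functor.map (0 : F.inverse.obj Y ⟶ F.inverse.obj Y) ≫ F.counitIso.hom.app Y =
          (0 : Y ⟶ Y)
        simp
      map_add' := fun z w => CatCenter.ext _ _ fun Y => by
        show F.counitIso.inv.app Y ≫ F.functor.map ((z.app (F.inverse.obj Y) : F.inverse.obj Y ⟶ F.inverse.obj Y) + (show F.inverse.obj Y ⟶ F.inverse.obj Y from w.app _)) ≫ F.counitIso.hom.app Y =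
          (F.counitIso.inv.app Y ≫ F.functor.map (z.app _) ≫ F.counitIso.hom.app Y) +
            (F.counitIso.inv.app Y ≫ F.functor.map (w.app _) ≫ F.counitIso.hom.app Y)
        simp [Preadditive.add_comp, Preadditive.comp_add] }
  have hφ : Function.Bijective φ := by
    refine ⟨fun z w h => CatCenter.ext _ _ fun M => ?_, fun w => ?_⟩
    · have h' : F.counitIso.inv.app (F.functor.obj M) ≫ F.functor.map (z.app _) ≫ F.counitIso.hom.app _ =
          F.counitIso.inv.app (F.functor.obj M) ≫ F.functor.map (w.app _) ≫ F.counitIso.hom.app _ :=
        congrArg (fun x : CatCenter (ModuleCat.{u} B) => x.app (F.functor.obj M)) h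
      rw [cancel_epi, cancel_mono] at h'
      have h'' := F.functor.map_injective h'
      have nz := z.naturality (F.unitIso.hom.app M)
      have nw := w.naturality (F.unitIso.hom.app M)
      dsimp at nz nw
      rw [h''] at nz
      rw [nz] at nw
      exact (cancel_mono (F.unitIso.hom.app M)).1 nw
    · refine ⟨{ app := fun M => F.functor.preimage (w.app (F.functor.obj M)), naturality := fun M M' g => ?_ }, ?_⟩
      · apply F.functor.map_injective
        simp only [Functor.map_comp, Functor.map_preimage, Functor.id_map]
        exact w.naturality _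
      · refine CatCenter.ext _ _ fun Y => ?_
        show F.counitIso.inv.app Y ≫ F.functor.map (F.functor.preimage (w.app _)) ≫ F.counitIso.hom.app Y = w.app Y
        rw [Functor.map_preimage]
        show F.counitIso.inv.app Y ≫ w.app (F.functor.obj (F.inverse.obj Y)) ≫ F.counitIso.hom.app Y = w.app Y
        have hw : w.app (F.functor.obj (F.inverse.obj Y)) ≫ F.counitIso.hom.app Y = F.counitIso.hom.app Y ≫ w.app Y :=
          (CatCenter.naturality w (F.counitIso.hom.app Y)).symm
        rw [hw]
        exact Iso.inv_hom_id_app_assoc F.counitIso Y (w.app Y)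
  exact ⟨eA.symm.trans ((RingEquiv.ofBijective φ hφ).trans eB)⟩

end Groth.Agent.S2203
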