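import Groth.Statements.S2204
import Groth.Agent.Lib.FlatCx.EW
import Mathlib.CategoryTheory.Preadditive.AdditiveFunctor
import Mathlib.Algebra.Category.ModuleCat.Biproducts
import Mathlib.Algebra.Category.Grp.Colimits
import Mathlib.CategoryTheory.Limits.Preserves.Finite

set_option autoImplicit false
set_option linter.style.haveILetI false
universe u
open CategoryTheory CategoryTheory.Limits TensorProduct
open QCohCat

namespace Groth.Agent.S2204

/-- The implication (2) to (1): for commutative rings A and B, any functor from A-modules to B-modules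
preserving finite colimits and arbitrary direct sums is given by tensoring: there is a module K over
both A and B with commuting actions and B-linear isomorphisms K tensor_A M = F(M), natural in the
A-module M. -/
theorem result (A B : Type u) [CommRing A]
    [CommRing B] (F : ModuleCat.{u} A ⥤ ModuleCat.{u} B) [PreservesFiniteColimits F]
    (hsum : ∀ J : Type u, PreservesColimitsOfShape (Discrete J) F) :
    ∃ (K : Type u) (_ : AddCommGroup K) (_ : Module A K) (_ : Module B K) (_ : SMulCommClass A B K)
      (η : ∀ M : ModuleCat.{u} A, (K ⊗[A] M) ≃ₗ[B] F.obj M),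
      ∀ (M N : ModuleCat.{u} A) (f : M ⟶ N) (x : K ⊗[A] M),
        η N (LinearMap.lTensor K f.hom x) = F.map f (η M x) := by
  haveI := hsum
  haveI : PreservesBinaryBiproducts F := preservesBinaryBiproducts_of_preservesBinaryCoproducts F
  haveI : F.Additive := Functor.additive_of_preservesBinaryBiproducts F
  let θ : ∀ M : ModuleCat.{u} A, A →+* Module.End B (F.obj M) := fun M =>
    { toFun := fun a => (F.map (a • 𝟙 M)).hom
      map_one' := by rw [one_smul, F.map_id]; rfl
      map_mul' := fun a b => by
        have e : (a * b) • 𝟙 M = (b • 𝟙 M) ≫ (a • 𝟙 M) := by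
          rw [Linear.smul_comp, Category.id_comp, smul_smul, mul_comm]
        rw [e, F.map_comp]; rfl
      map_zero' := by rw [zero_smul, F.map_zero]; rfl
      map_add' := fun a b => by rw [add_smul, F.map_add]; rfl }
  let mod : ∀ M : ModuleCat.{u} A, Module A (F.obj M) := fun M => Module.compHom (F.obj M) (θ M)
  let T : ModuleCat.{u} A ⥤ ModuleCat.{u} A :=
    { obj := fun M => @ModuleCat.of A _ (F.obj M) _ (mod M)
      map := fun {M N} f =>
        letI := mod M
        letI := mod N
        ModuleCat.ofHom
          { toFun := (F.map f).hom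
            map_add' := map_add _
            map_smul' := fun a x => by
              have e : (a • 𝟙 M) ≫ f = f ≫ (a • 𝟙 N) := by simp
              exact congrArg (fun g => g.hom x) (((F.map_comp _ f).symm.trans (congrArg F.map e)).trans (F.map_comp f _)) }
      map_id := fun M => by ext x; exact congrArg (fun g => g.hom x) (F.map_id M)
      map_comp := fun f g => by ext x; exact congrArg (fun h => h.hom x) (F.map_comp f g) }
  let iso : T ⋙ forget₂ (ModuleCat.{u} A) AddCommGrpCat ≅ F ⋙ forget₂ (ModuleCat.{u} B) AddCommGrpCat :=
    NatIso.ofComponents (fun _ => Iso.refl _) (fun _ => rfl)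
  haveI : PreservesFiniteColimits (forget₂ (ModuleCat.{u} B) AddCommGrpCat.{u}) :=
    PreservesColimitsOfSize.preservesFiniteColimits.{u, u} _
  haveI hTfin : PreservesFiniteColimits T := by
    haveI : PreservesFiniteColimits (F ⋙ forget₂ (ModuleCat.{u} B) AddCommGrpCat) :=
      comp_preservesFiniteColimits _ _
    haveI : PreservesFiniteColimits (T ⋙ forget₂ (ModuleCat.{u} A) AddCommGrpCat) :=
      preservesFiniteColimits_of_natIso iso.symm
    exact ⟨fun J _ _ => preservesColimitsOfShape_of_reflects_of_preserves T (forget₂ (ModuleCat.{u} A) AddCommGrpCat)⟩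
  haveI : ∀ J : Type u, PreservesColimitsOfShape (Discrete J) T := fun J => by
    haveI : PreservesColimitsOfShape (Discrete J) (T ⋙ forget₂ (ModuleCat.{u} A) AddCommGrpCat) :=
      preservesColimitsOfShape_of_natIso iso.symm
    exact preservesColimitsOfShape_of_reflects_of_preserves T (forget₂ (ModuleCat.{u} A) AddCommGrpCat)
  haveI : T.Additive := ⟨fun {M N} {f g} => by ext x; exact congrArg (fun h => h.hom x) (F.map_add (f := f) (g := g))⟩
  haveI : T.Linear A := ⟨fun {M N} f a => by
    ext x
    have e : a • f = f ≫ (a • 𝟙 N) := by simp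
    exact congrArg (fun g => g.hom x) ((congrArg F.map e).trans (F.map_comp f _))⟩
  let K := F.obj (ModuleCat.of A A)
  letI hA : Module A K := mod (ModuleCat.of A A)
  haveI hc : SMulCommClass A B K := ⟨fun a b x => map_smul (θ (ModuleCat.of A A) a) b x⟩
  have hbij : ∀ M, Function.Bijective (GrothLib.FlatCx.cmpT T M) := fun M =>
    GrothLib.FlatCx.cmpT_bijective_of_halfExact T (fun S hS => GrothLib.FlatCx.map_exact_of_rightExact T S hS)
      (fun M => GrothLib.FlatCx.cmpT_surjective_of_rightExact T M) M
  refine ⟨K, inferInstance, hA, inferInstance, hc, fun M => LinearEquiv.ofBijective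
    { toFun := (GrothLib.FlatCx.cmpT T M : (K ⊗[A] M) → (F.obj M))
      map_add' := map_add (GrothLib.FlatCx.cmpT T M)
      map_smul' := fun b z => ?_ } (hbij M), fun M N f x => GrothLib.FlatCx.cmpT_map T f x⟩
  induction z using TensorProduct.induction_on with
  | zero =>
    rw [smul_zero, map_zero]
    exact (smul_zero b).symm
  | add p q hp hq =>
    rw [smul_add, map_add, map_add, RingHom.id_apply, hp, hq]
    exact (smul_add b _ _).symm
  | tmul k m => exact map_smul (F.map (GrothLib.FlatCx.pt m)).hom b k

end Groth.Agent.S2204
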