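import Groth.Statements.S2205
import Groth.Agent.Lib.NoetherDiff.Radical

set_option autoImplicit false
universe u v
open Disc

namespace Groth.Agent.S2205

/-- Special case: affine, with B finite free over the Noetherian ring A (the source allows flat
quasi-finite morphisms of Noetherian schemes); then the relative dualizing module is Hom_A(B, A) and
the trace element is the usual trace. A prime q of B contains the different (the set of b with b
Hom_A(B, A) inside B Trace) if and only if A -> B is not unramified at q; for such maps unramified
and etale at q agree. -/
theorem result {A : Type u} {B : Type v} [CommRing A]
    [CommRing B] [Algebra A B] [IsNoetherianRing A] [Module.Finite A B] [Module.Free A B]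
    (q : Ideal B) [q.IsPrime] :
    Disc.differentSet A B ⊆ q ↔ ¬Algebra.IsUnramifiedAt A q :=
  GrothLib.NoetherDiff.differentSet_subset_iff q

end Groth.Agent.S2205
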