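import Groth.Statements.S2207
import Mathlib.RingTheory.DividedPowers.DPMorphism
import Mathlib.Tactic.LinearCombination
import Mathlib.Tactic.Ring

set_option autoImplicit false
universe u v
open DPow

namespace Groth.Agent.S2207

/-- Existence in case (2): let I = (x) be a principal ideal of A with a divided power structure and B
any A-algebra. Then there is a divided power structure on I B for which A -> B is a homomorphism of
divided power rings. -/
theorem result {A : Type u} {B : Type v} [CommRing A] [CommRing B] [Algebra A B]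
    (x : A) (γ : DividedPowers (Ideal.span {x})) :
    ∃ δ : DividedPowers ((Ideal.span {x}).map (algebraMap A B)), γ.IsDPMorphism δ (algebraMap A B) := by
  classical
  set φ := algebraMap A B with hφ
  revert γ
  generalize hI : Ideal.span {x} = I
  intro γ
  have hxI : x ∈ I := hI ▸ Ideal.mem_span_singleton_self x
  have hJ : I.map φ = Ideal.span {φ x} := by rw [← hI, Ideal.map_span, Set.image_singleton]
  have hmem : ∀ {z : B}, z ∈ I.map φ → ∃ b : B, b * φ x = z := fun hz =>
    Ideal.mem_span_singleton'.1 (hJ ▸ hz)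
  have hbJ : ∀ b : B, b * φ x ∈ I.map φ := fun b =>
    Ideal.mul_mem_left _ _ (Ideal.mem_map_of_mem φ hxI)
  -- well-definedness
  have wd : ∀ (n : ℕ) (b b' : B), b * φ x = b' * φ x →
      b ^ n * φ (γ.dpow n x) = b' ^ n * φ (γ.dpow n x) := by
    intro n b b' h
    rcases Nat.eq_zero_or_pos n with rfl | hn
    · simp
    obtain ⟨c, hc⟩ : ∃ c, c * x = γ.dpow n x := Ideal.mem_span_singleton'.1 (by rw [hI]; exact γ.dpow_mem (by omega) hxI)
    rw [← hc, map_mul, ← sub_eq_zero, ← sub_mul]
    obtain ⟨d, hd⟩ := sub_dvd_pow_sub_pow b b' n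
    rw [hd, show (b - b') * d * (φ c * φ x) = d * φ c * ((b - b') * φ x) by ring, sub_mul, h,
      sub_self, mul_zero]
  let dp : ℕ → B → B := fun n z =>
    if hz : z ∈ I.map φ then (hmem hz).choose ^ n * φ (γ.dpow n x) else 0
  have dp_eq : ∀ (n : ℕ) (b : B), dp n (b * φ x) = b ^ n * φ (γ.dpow n x) := fun n b => by
    simp only [dp, dif_pos (hbJ b)]
    exact wd n _ _ (hmem (hbJ b)).choose_spec
  let δ : DividedPowers (I.map φ) :=
    { dpow := dp
      dpow_null := fun hz => dif_neg hz
      dpow_zero := fun hz => by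
        obtain ⟨b, rfl⟩ := hmem hz
        rw [dp_eq, γ.dpow_zero hxI, map_one, pow_zero, one_mul]
      dpow_one := fun hz => by
        obtain ⟨b, rfl⟩ := hmem hz
        rw [dp_eq, γ.dpow_one hxI, pow_one]
      dpow_mem := fun hn hz => by
        obtain ⟨b, rfl⟩ := hmem hz
        rw [dp_eq]
        exact Ideal.mul_mem_left _ _ (Ideal.mem_map_of_mem φ (γ.dpow_mem hn hxI))
      dpow_add := fun {n} {y z} hy hz => by
        obtain ⟨b, rfl⟩ := hmem hy
        obtain ⟨b', rfl⟩ := hmem hz
        rw [← add_mul, dp_eq, (Commute.all b b').add_pow', Finset.sum_mul]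
        refine Finset.sum_congr rfl fun k hk => ?_
        rw [Finset.HasAntidiagonal.mem_antidiagonal] at hk
        rw [dp_eq, dp_eq, nsmul_eq_mul]
        have := congrArg φ (γ.mul_dpow (m := k.1) (n := k.2) hxI)
        rw [hk, map_mul, map_mul, map_natCast] at this
        linear_combination (-(b ^ k.1 * b' ^ k.2)) * this
      dpow_mul := fun {n a} {z} hz => by
        obtain ⟨b, rfl⟩ := hmem hz
        rw [← mul_assoc, dp_eq, dp_eq, mul_pow, mul_assoc]
      mul_dpow := fun {m n} {z} hz => by
        obtain ⟨b, rfl⟩ := hmem hz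
        have := congrArg φ (γ.mul_dpow (m := m) (n := n) hxI)
        rw [map_mul, map_mul, map_natCast] at this
        rw [dp_eq, dp_eq, dp_eq, pow_add]
        linear_combination (b ^ m * b ^ n) * this
      dpow_comp := fun {m n} {z} hn hz => by
        obtain ⟨b, rfl⟩ := hmem hz
        obtain ⟨c, hc⟩ : ∃ c, c * x = γ.dpow n x := Ideal.mem_span_singleton'.1 (by rw [hI]; exact γ.dpow_mem hn hxI)
        rw [dp_eq, dp_eq, ← hc, map_mul, ← mul_assoc, dp_eq, mul_pow, mul_assoc, ← map_pow,
          ← map_mul, ← γ.dpow_mul hxI, hc, γ.dpow_comp hn hxI, map_mul, map_natCast, ← pow_mul,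
          mul_comm n m]
        ring }
  refine ⟨δ, le_rfl, fun {n} a ha => ?_⟩
  obtain ⟨c, rfl⟩ := Ideal.mem_span_singleton'.1 (hI ▸ ha)
  change dp n (φ (c * x)) = _
  rw [map_mul, dp_eq, γ.dpow_mul hxI, map_mul, map_pow]

end Groth.Agent.S2207
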