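import Groth.Statements.S2209
import Groth.Agent.Lib.ArSurf29.Global

set_option autoImplicit false
universe u
open CategoryTheory AlgebraicGeometry
open Models

namespace Groth.Agent.S2209

/-- Let R be a discrete valuation ring with fraction field K, C a smooth proper curve over K whose ring
of global functions is K (the map K -> H^0(C, O_C) is an isomorphism), and X a regular proper model
of C over R. Then the special fibre of X is connected. -/
theorem result (R : Type u) [CommRing R] [IsDomain R]
    [IsDiscreteValuationRing R] (C X : Scheme.{u})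
    (f : C ⟶ Spec (CommRingCat.of (FractionRing R))) (p : X ⟶ Spec (CommRingCat.of R))
    (hC : Curve.IsSmoothProperCurve (FractionRing R) C f) (hH0 : IsIso f.appTop)
    (hX : Models.IsRegularProperModel R X p C f) :
    ConnectedSpace ↥(Models.specialFibre R X p) := by
  haveI : Flat (Over.mk p).hom := hX.1.1
  haveI : IsProper (Over.mk p).hom := hX.2.1
  haveI : IsIntegral C := hC.2.2.1
  obtain ⟨g, hg⟩ := hX.1.2.2.2
  have hpre := GrothLib.ArSurf29.isPreconnected_fibre (X := Over.mk p) hg hH0
  let s := Spec.map (CommRingCat.ofHom (algebraMap R (IsLocalRing.ResidueField R)))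
  haveI : IsClosedImmersion s := IsClosedImmersion.spec_of_surjective _ (IsLocalRing.residue_surjective (R := R))
  let i := Limits.pullback.fst p s
  have hs : Set.range s = {IsLocalRing.closedPoint R} := by
    have h1 : ∀ z : PrimeSpectrum (IsLocalRing.ResidueField R), s z = IsLocalRing.closedPoint R := fun z => by
      refine PrimeSpectrum.ext ?_
      show Ideal.comap (algebraMap R (IsLocalRing.ResidueField R)) z.asIdeal = IsLocalRing.maximalIdeal R
      rw [Ideal.eq_bot_of_prime z.asIdeal, ← RingHom.ker_eq_comap_bot]
      exact IsLocalRing.ker_residue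
    exact Set.ext fun q => ⟨fun ⟨z, hz⟩ => hz ▸ h1 z, fun hq => ⟨default, (h1 _).trans hq.symm⟩⟩
  have hrange : Set.range i = Models.specialFibreSet R (Over.mk p) := by
    rw [Scheme.Pullback.range_fst, hs]
    rfl
  have hcl : IsClosedImmersion i := inferInstance
  obtain ⟨c⟩ := (inferInstance : Nonempty C)
  have hps : PreconnectedSpace ↥(Limits.pullback p s) := by
    refine ⟨?_⟩
    rw [← i.isClosedEmbedding.isInducing.isPreconnected_image, Set.image_univ, hrange]
    exact hpre
  have hne : (Models.specialFibreSet R (Over.mk p)).Nonempty := by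
    haveI : IsProper p := hX.2.1
    have hclp : IsClosed (p '' closure {g c}) := p.isClosedMap _ isClosed_closure
    obtain ⟨x, -, hx⟩ := (IsLocalRing.specializes_closedPoint (p (g c))).mem_closed hclp ⟨g c, subset_closure rfl, rfl⟩
    exact ⟨x, hx⟩
  obtain ⟨x, hx⟩ := hne
  rw [← hrange] at hx
  obtain ⟨z, -⟩ := hx
  exact { toPreconnectedSpace := hps, toNonempty := ⟨z⟩ }

end Groth.Agent.S2209
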