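import Groth.Statements.S2211
import Mathlib.RingTheory.DividedPowers.Basic
import Mathlib.Data.Nat.Choose.Lucas
import Mathlib.NumberTheory.Padics.PadicVal.Basic

set_option autoImplicit false
universe u
open DPow

namespace Groth.Agent.S2211

/-- First part: let p be a prime and A a ring in which every integer prime to p is invertible, I an
ideal of A. Two divided power structures on I coincide exactly when their p-th divided power maps
agree on I. -/
theorem result {A : Type u} [CommRing A] (p : ℕ) (hp : p.Prime)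
    (hA : ∀ n : ℕ, ¬ p ∣ n → IsUnit (n : A)) {I : Ideal A} (γ γ' : DividedPowers I) :
    γ = γ' ↔ ∀ x ∈ I, γ.dpow p x = γ'.dpow p x := by
  refine ⟨fun h _ _ => h ▸ rfl, fun h => ?_⟩
  haveI := Fact.mk hp
  have hv : ∀ e : ℕ, (p - 1) * padicValNat p (p ^ e).factorial + 1 = p ^ e := by
    intro e
    induction e with
    | zero => simp
    | succ e ih =>
      rw [pow_succ', padicValNat_factorial_mul, mul_add]
      obtain ⟨q, rfl⟩ : ∃ q, p = q + 1 := ⟨p - 1, by have := hp.pos; omega⟩
      simp only [Nat.add_sub_cancel] at ih ⊢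
      nlinarith [ih]
  have hbell : ∀ e : ℕ, ¬ p ∣ Nat.uniformBell p (p ^ e) := by
    intro e hdvd
    have hq : p ^ e ≠ 0 := pow_ne_zero _ hp.ne_zero
    have heq := Nat.uniformBell_mul_eq p hq
    have hne : Nat.uniformBell p (p ^ e) ≠ 0 := fun h0 => by
      rw [h0, zero_mul, zero_mul] at heq; exact (Nat.factorial_ne_zero _) heq.symm
    have := congrArg (padicValNat p) heq
    rw [padicValNat.mul (mul_ne_zero hne (pow_ne_zero _ (Nat.factorial_ne_zero _)))
      (Nat.factorial_ne_zero _), padicValNat.mul hne (pow_ne_zero _ (Nat.factorial_ne_zero _)),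
      padicValNat.pow, padicValNat_factorial_mul] at this
    have h1 : padicValNat p p.factorial = 1 := by
      have := padicValNat_factorial_mul (p := p) 1
      simpa using this
    have h2 : 1 ≤ padicValNat p (Nat.uniformBell p (p ^ e)) := one_le_padicValNat_of_dvd hne hdvd
    have h3 := hv e
    have h4 : p * padicValNat p (p ^ e).factorial =
        (p - 1) * padicValNat p (p ^ e).factorial + padicValNat p (p ^ e).factorial := by
      rw [← Nat.add_one_mul, Nat.sub_add_cancel hp.pos]
    omega
  have hch : ∀ (n e : ℕ), p ^ e ∣ n → ¬ p ∣ n / p ^ e → ¬ p ∣ n.choose (p ^ e) := by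
    intro n e
    induction e generalizing n with
    | zero => intro _ h; simpa using h
    | succ e ih =>
      intro hd hnd hdvd
      have hn : n % p = 0 := Nat.mod_eq_zero_of_dvd ((dvd_pow_self p (Nat.succ_ne_zero e)).trans hd)
      have key := Choose.choose_modEq_choose_mod_mul_choose_div_nat (p := p) (n := n) (k := p ^ (e + 1))
      rw [hn, pow_succ, Nat.mul_mod_left, Nat.mul_div_cancel _ hp.pos, Nat.choose_self, one_mul] at key
      obtain ⟨c, rfl⟩ := Nat.dvd_of_mod_eq_zero hn
      rw [Nat.mul_div_cancel_left _ hp.pos, ← pow_succ] at key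
      refine ih c ?_ ?_ (Nat.modEq_zero_iff_dvd.1 (key.symm.trans (Nat.modEq_zero_iff_dvd.2 hdvd)))
      · rw [pow_succ'] at hd; exact (Nat.mul_dvd_mul_iff_left hp.pos).1 hd
      · rwa [pow_succ', Nat.mul_div_mul_left _ _ hp.pos] at hnd
  ext n x hx
  induction n using Nat.strong_induction_on with
  | _ n ih =>
    rcases Nat.lt_or_ge n 2 with hn | hn
    · interval_cases n
      · rw [γ.dpow_zero hx, γ'.dpow_zero hx]
      · rw [γ.dpow_one hx, γ'.dpow_one hx]
    obtain ⟨e, m, hm, rfl⟩ := Nat.exists_eq_pow_mul_and_not_dvd (n := n) (by omega) p hp.ne_one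
    have hm0 : m ≠ 0 := fun h => hm (h ▸ dvd_zero p)
    rcases Nat.lt_or_ge m 2 with hm1 | hm2
    · obtain rfl : m = 1 := by omega
      rw [mul_one] at *
      obtain ⟨e, rfl⟩ : ∃ k, e = k + 1 := ⟨e - 1, by
        rcases e with _ | e
        · simp at hn
        · omega⟩
      have hlt : p ^ e < p ^ (e + 1) := Nat.pow_lt_pow_right hp.one_lt (by omega)
      have hq : p ^ e ≠ 0 := pow_ne_zero _ hp.ne_zero
      apply (hA _ (hbell e)).mul_left_cancel
      rw [pow_succ', ← γ.dpow_comp hq hx, ← γ'.dpow_comp hq hx, ih _ hlt,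
        h _ (γ'.dpow_mem hq hx)]
    · have hpe : 0 < p ^ e := pow_pos hp.pos e
      have hle : p ^ e < p ^ e * m := lt_mul_of_one_lt_right hpe hm2
      have hu : IsUnit (((p ^ e * m).choose (p ^ e) : ℕ) : A) :=
        hA _ (hch _ e (dvd_mul_right _ _) (by rwa [Nat.mul_div_cancel_left _ hpe]))
      apply hu.mul_left_cancel
      obtain ⟨k, hk⟩ : ∃ k, p ^ e * m = p ^ e + k := ⟨p ^ e * m - p ^ e, by omega⟩
      rw [hk] at hle ih ⊢
      rw [← γ.mul_dpow hx, ← γ'.mul_dpow hx, ih _ hle, ih k (by omega)]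

end Groth.Agent.S2211
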