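import Groth.Statements.S2212
import Groth.Agent.Lib.DPowPoly.OfPrime

set_option autoImplicit false
universe u
open DPow

namespace Groth.Agent.S2212

/-- Second part: let p be a prime, A a ring in which every integer prime to p is invertible and I an
ideal. Let d : A -> A send I into I and satisfy p! d(x) = x^p, d(a x) = a^p d(x), and d(x + y) =
d(x) + d(y) + sum over i + j = p with i, j > 0 of x^i y^j / (i! j!), for x, y in I and a in A. Then
there is exactly one divided power structure on I whose p-th divided power is d on I. -/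
theorem result {A : Type u} [CommRing A] (p : ℕ) (hp : p.Prime)
    (hA : ∀ n : ℕ, ¬ p ∣ n → IsUnit (n : A)) {I : Ideal A} (d : A → A)
    (hdI : ∀ x ∈ I, d x ∈ I) (h1 : ∀ x ∈ I, (p.factorial : A) * d x = x ^ p)
    (h2 : ∀ (a x : A), x ∈ I → d (a * x) = a ^ p * d x)
    (h3 : ∀ x ∈ I, ∀ y ∈ I, d (x + y) = d x + d y +
      ((Finset.antidiagonal p).filter fun k => 0 < k.1 ∧ 0 < k.2).sum
        fun k => Ring.inverse ((k.1.factorial * k.2.factorial : ℕ) : A) * x ^ k.1 * y ^ k.2) :
    ∃! γ : DividedPowers I, ∀ x ∈ I, γ.dpow p x = d x := by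
  exact GrothLib.DPowPoly.OfPrime.existsUnique_dp hA d hdI h1 h2 h3 hp

end Groth.Agent.S2212
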