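import Groth.Statements.S2213
import Groth.Agent.Lib.DPowPoly.Envelope
import Mathlib.Algebra.MvPolynomial.Eval

set_option autoImplicit false
universe u
open DPow

namespace Groth.Agent.S2213

/-- Let (A, I) be a ring with divided powers and t a natural number. There is a divided power ring (D,
J) with an A-algebra structure making A -> D a divided power homomorphism and elements x_1, ..., x_t
of J, such that for every divided power ring (C, K) with a divided power homomorphism A -> C and
every choice of k_1, ..., k_t in K there is exactly one divided power homomorphism D -> C over A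
sending x_i to k_i (the divided power polynomial algebra). -/
theorem result {A : Type u} [CommRing A] {I : Ideal A} (γ : DividedPowers I) (t : ℕ) :
    ∃ (D : Type u) (_ : CommRing D) (_ : Algebra A D) (J : Ideal D) (δ : DividedPowers J)
      (x : Fin t → D), (∀ i, x i ∈ J) ∧ γ.IsDPMorphism δ (algebraMap A D) ∧
      ∀ (C : Type u) [CommRing C] [Algebra A C] (K : Ideal C) (ε : DividedPowers K),
        γ.IsDPMorphism ε (algebraMap A C) → ∀ k : Fin t → C, (∀ i, k i ∈ K) →
          ∃! φ : D →ₐ[A] C, (∀ i, φ (x i) = k i) ∧ δ.IsDPMorphism ε φ.toRingHom := by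
  let J : Ideal (MvPolynomial (Fin t) A) :=
    I.map (algebraMap A _) ⊔ Ideal.span (Set.range MvPolynomial.X)
  obtain ⟨D, _, _, JD, δ, hJ, hδ, huniv⟩ := GrothLib.DPowPoly.exists_envelope γ J
  let alg : Algebra A D :=
    ((algebraMap (MvPolynomial (Fin t) A) D).comp (algebraMap A (MvPolynomial (Fin t) A))).toAlgebra
  refine ⟨D, inferInstance, alg, JD, δ, fun i => algebraMap (MvPolynomial (Fin t) A) D (.X i),
    fun i => hJ (Ideal.mem_map_of_mem _ (Ideal.mem_sup_right (Ideal.subset_span ⟨i, rfl⟩))),
    hδ, ?_⟩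
  intro C _ _ K ε hε k hk
  obtain ⟨χ, ⟨hχ, hχ'⟩, huniq⟩ := huniv C K ε hε (MvPolynomial.aeval k) (by
    simp only [J, Ideal.map_sup, sup_le_iff, Ideal.map_le_iff_le_comap, Ideal.span_le]
    refine ⟨fun a ha => ?_, ?_⟩
    · simpa using hε.1 (Ideal.mem_map_of_mem _ ha)
    · rintro _ ⟨i, rfl⟩
      simpa using hk i)
  refine ⟨{ χ with commutes' := fun a => (DFunLike.congr_fun hχ _).trans ((MvPolynomial.aeval k).commutes a) },
    ⟨fun i => (DFunLike.congr_fun hχ _).trans (MvPolynomial.aeval_X k i), hχ'⟩, ?_⟩
  rintro φ ⟨hφ, hφ'⟩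
  have h := huniq φ.toRingHom ⟨?_, hφ'⟩
  · exact AlgHom.ext fun d => DFunLike.congr_fun h d
  refine MvPolynomial.ringHom_ext (fun a => ?_) (fun i => ?_)
  · exact (φ.commutes a).trans ((MvPolynomial.aeval k).commutes a).symm
  · exact (hφ i).trans (MvPolynomial.aeval_X k i).symm

end Groth.Agent.S2213
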