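import Groth.Statements.S2217
import Mathlib
import Groth.Agent.Lib.Different2.Frobenius
import Groth.Agent.Lib.Different2.Invertible
import Groth.Agent.Lib.Different2.OmegaBC

set_option autoImplicit false
universe u
open Disc

namespace Groth.Agent.S2217

open TensorProduct


/-- Equivalence of (2) and (4) in the affine finite free case: let A be a Noetherian ring and B an
A-algebra which is finite free as an A-module (so A -> B is flat and quasi-finite). Then all fibre
rings kappa(p) tensor_A B are Gorenstein if and only if omega_{B/A} = Hom_A(B, A), with its B-module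
structure through the argument, is an invertible B-module. -/
theorem result {A B : Type u} [CommRing A] [CommRing B]
    [Algebra A B] [IsNoetherianRing A] [Module.Finite A B] [Module.Free A B] :
    (∀ (p : Ideal A) [p.IsPrime], LocCoh.IsGorensteinRing (p.Fiber B)) ↔
      Module.Invertible B (Disc.Omega A B) := by
  classical
  haveI : IsNoetherianRing B := IsNoetherianRing.of_finite A B
  constructor
  · intro h
    haveI : Module.Finite B (Disc.Omega A B) :=
      GrothLib.Different2.finite_omega (inferInstance : Algebra.IsPushout A A B B)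
    let e := Module.Free.chooseBasis A B
    refine GrothLib.Different2.invertible_of_locally_cyclic (fun b hb => e.ext_elem fun i => ?_) fun q hq => ?_
    · have h1 := congrArg (fun l : Disc.Omega A B => l.toLinearMap 1) (hb ⟨e.coord i⟩)
      simp only [Disc.Omega.smul_toLinearMap_apply, mul_one] at h1
      simpa using h1
    haveI := hq
    let p : Ideal A := q.comap (algebraMap A B)
    haveI : p.IsMaximal := Ideal.isMaximal_comap_of_isIntegral_of_isMaximal q
    letI : Algebra B (p.Fiber B) := Algebra.TensorProduct.rightAlgebra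
    have hB : Algebra.IsPushout A p.ResidueField B (p.Fiber B) := TensorProduct.isPushout
    obtain ⟨eG⟩ := (GrothLib.Different2.gorenstein_iff_nonempty_omega_equiv (k := p.ResidueField)).1 (h p)
    obtain ⟨eB, -⟩ := GrothLib.Different2.exists_omega_baseChangeEquiv hB
    let eF : p.Fiber B ≃ₗ[p.Fiber B] p.Fiber B ⊗[B] Disc.Omega A B := eG.trans eB.symm
    have hπ : Function.Surjective (algebraMap B (p.Fiber B)) := by
      intro y
      induction y using TensorProduct.induction_on with
      | zero => exact ⟨0, map_zero _⟩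
      | tmul x b =>
        obtain ⟨a, ha⟩ : ∃ a, algebraMap A p.ResidueField a = x := by
          obtain ⟨a, ha⟩ := p.algebraMap_residueField_surjective x
          exact ⟨a, ha⟩
        refine ⟨algebraMap A B a * b, ?_⟩
        show (1 : p.ResidueField) ⊗ₜ[A] (algebraMap A B a * b) = x ⊗ₜ[A] b
        rw [← Algebra.smul_def, TensorProduct.tmul_smul, TensorProduct.smul_tmul', Algebra.smul_def, ha, mul_one]
      | add x y hx hy =>
        obtain ⟨u, hu⟩ := hx
        obtain ⟨v, hv⟩ := hy
        exact ⟨u + v, by rw [map_add, hu, hv]⟩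
    let ρ : p.Fiber B →ₐ[A] B ⧸ q := Algebra.TensorProduct.lift
      (Ideal.ResidueField.liftₐ p (IsScalarTower.toAlgHom A A (B ⧸ q))
        (fun a ha => by
          rw [RingHom.mem_ker]
          show algebraMap A (B ⧸ q) a = 0
          rw [IsScalarTower.algebraMap_apply A B (B ⧸ q), Ideal.Quotient.algebraMap_eq]
          exact Ideal.Quotient.eq_zero_iff_mem.2 ha)
        (fun a ha => by
          show IsUnit (algebraMap A (B ⧸ q) a)
          letI := Ideal.Quotient.field q
          rw [IsScalarTower.algebraMap_apply A B (B ⧸ q), Ideal.Quotient.algebraMap_eq, isUnit_iff_ne_zero]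
          exact fun h0 => ha ((Ideal.Quotient.eq_zero_iff_mem (I := q)).1 h0)))
      (IsScalarTower.toAlgHom A B (B ⧸ q)) fun _ _ => Commute.all _ _
    have hρ : ∀ b, ρ (algebraMap B (p.Fiber B) b) = Ideal.Quotient.mk q b := fun b => by
      show ρ ((1 : p.ResidueField) ⊗ₜ[A] b) = _
      rw [Algebra.TensorProduct.lift_tmul, map_one, one_mul]
      rfl
    obtain ⟨m, hm⟩ : ∃ m, (1 : p.Fiber B) ⊗ₜ[B] m = eF 1 := by
      generalize eF 1 = w
      induction w using TensorProduct.induction_on with
      | zero => exact ⟨0, TensorProduct.tmul_zero _ _⟩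
      | tmul x n =>
        obtain ⟨b, rfl⟩ := hπ x
        exact ⟨b • n, by rw [TensorProduct.tmul_smul, TensorProduct.smul_tmul', Algebra.smul_def, mul_one]⟩
      | add x y hx hy =>
        obtain ⟨u, hu⟩ := hx
        obtain ⟨v, hv⟩ := hy
        exact ⟨u + v, by rw [TensorProduct.tmul_add, hu, hv]⟩
    let C := Disc.Omega A B ⧸ Submodule.span B {m}
    have hsmall : (⊤ : Submodule B C) ≤ q • ⊤ := by
      let ρB : p.Fiber B →ₗ[B] B ⧸ q :=
        { toFun := ρ, map_add' := map_add ρ
          map_smul' := fun b x => by
            rw [Algebra.smul_def, map_mul, hρ, RingHom.id_apply, Algebra.smul_def, Ideal.Quotient.algebraMap_eq] }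
      let E := TensorProduct.quotTensorEquivQuotSMul C q
      let G : p.Fiber B ⊗[B] Disc.Omega A B →ₗ[B] C ⧸ q • (⊤ : Submodule B C) :=
        E.toLinearMap.comp (TensorProduct.map ρB (Submodule.mkQ _))
      intro x _
      obtain ⟨n, rfl⟩ := Submodule.Quotient.mk_surjective _ x
      obtain ⟨b, hb⟩ := hπ (eF.symm (1 ⊗ₜ n))
      have h2 : (1 : p.Fiber B) ⊗ₜ[B] n = (1 : p.Fiber B) ⊗ₜ[B] (b • m) := by
        rw [TensorProduct.tmul_smul, hm, ← algebraMap_smul (p.Fiber B) b, hb, ← map_smul, smul_eq_mul, mul_one,
          LinearEquiv.apply_symm_apply]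
      have h3 := congrArg G h2
      have hG : ∀ y : Disc.Omega A B, G ((1 : p.Fiber B) ⊗ₜ[B] y) = Submodule.Quotient.mk (Submodule.Quotient.mk y) := by
        intro y
        show E (ρ 1 ⊗ₜ[B] _) = _
        rw [map_one, show (1 : B ⧸ q) = Ideal.Quotient.mk q 1 from rfl, TensorProduct.quotTensorEquivQuotSMul_mk_tmul,
          one_smul]
        rfl
      rw [hG, hG, Submodule.Quotient.mk_smul, show (Submodule.Quotient.mk m : C) = 0 from
        (Submodule.Quotient.mk_eq_zero _).2 (Submodule.mem_span_singleton_self m), smul_zero,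
        Submodule.Quotient.mk_zero, Submodule.Quotient.mk_eq_zero] at h3
      exact h3
    haveI : Module.Finite B C := inferInstance
    obtain ⟨r, hr, hr0⟩ := Submodule.exists_sub_one_mem_and_smul_eq_zero_of_fg_of_le_smul q ⊤
      Module.Finite.fg_top hsmall
    refine ⟨m, r, fun hrq => hq.ne_top ((Ideal.eq_top_iff_one q).2 (by simpa using q.sub_mem hrq hr)), fun x => ?_⟩
    have h4 := hr0 (Submodule.Quotient.mk x) trivial
    rw [← Submodule.Quotient.mk_smul, Submodule.Quotient.mk_eq_zero, Submodule.mem_span_singleton] at h4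
    exact h4
  · intro h p hp
    letI : Algebra B (p.Fiber B) := Algebra.TensorProduct.rightAlgebra
    have hB : Algebra.IsPushout A p.ResidueField B (p.Fiber B) := TensorProduct.isPushout
    haveI : IsArtinianRing (p.Fiber B) := IsArtinianRing.of_finite p.ResidueField (p.Fiber B)
    haveI : Module.Free (p.Fiber B) (p.Fiber B ⊗[B] Disc.Omega A B) := inferInstance
    obtain ⟨eU⟩ := Module.Invertible.free_iff_linearEquiv.1 this
    obtain ⟨eB, -⟩ := GrothLib.Different2.exists_omega_baseChangeEquiv hB
    exact (GrothLib.Different2.gorenstein_iff_nonempty_omega_equiv (k := p.ResidueField)).2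
      ⟨eU.symm.trans eB⟩

end Groth.Agent.S2217
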