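import Groth.Statements.S2221
import Groth.Agent.Lib.NoetherDiff.Theta

set_option autoImplicit false
universe u
open Disc

namespace Groth.Agent.S2221

/-- Affine finite free case: let A be a Noetherian ring and B an A-algebra which is finite free as an
A-module, and suppose omega = Hom_A(B, A) is an invertible B-module. Then the different of B over A
(the b with b omega inside B Trace) equals the Noether different of B over A. -/
theorem result {A B : Type u} [CommRing A]
    [CommRing B] [Algebra A B] [IsNoetherianRing A] [Module.Finite A B] [Module.Free A B]
    [Module.Invertible B (Disc.Omega A B)] :
    Disc.differentSet A B = (Disc.noetherDifferent A B : Set B) :=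
  GrothLib.NoetherDiff.differentSet_eq

end Groth.Agent.S2221
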