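import Groth.Statements.S2225
import Groth.Agent.Lib.GorEquiv.Basic
import Groth.Agent.Lib.DeformIso.Basic
import Groth.Agent.S0342
import Groth.Agent.S0343

set_option backward.isDefEq.respectTransparency false


set_option autoImplicit false
universe u
open CategoryTheory AlgebraicGeometry
open Models

namespace Groth.Agent.S2225

/-- Part (1), for the closed fibre: let R be a discrete valuation ring with fraction field K, C a smooth
proper curve over K and X a regular model of C over R (flat, of finite type, all local rings
regular). Then every local ring of the special fibre X_k is a Gorenstein local ring; together with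
flatness and regularity of the generic fibre this says X -> Spec R is a Gorenstein morphism. -/
theorem result (R : Type u) [CommRing R] [IsDomain R]
    [IsDiscreteValuationRing R] (C X : Scheme.{u})
    (f : C ⟶ Spec (CommRingCat.of (FractionRing R))) (p : X ⟶ Spec (CommRingCat.of R))
    (hC : Curve.IsSmoothProperCurve (FractionRing R) C f) (hX : Models.IsModel R X p C f)
    (hreg : Models.IsRegularScheme X) (x : ↥(Models.specialFibre R X p)) :
    LocCoh.IsGorensteinLocalRing ((Models.specialFibre R X p).presheaf.stalk x) := by
  haveI : Flat p := hX.1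
  haveI : LocallyOfFiniteType p := hX.2.1
  haveI : IsLocallyNoetherian X := LocallyOfFiniteType.isLocallyNoetherian p
  obtain ⟨t, ht⟩ := IsDiscreteValuationRing.exists_irreducible R
  have hmt := ht.maximalIdeal_eq
  unfold Models.specialFibre at x ⊢
  have hsurj : Function.Surjective (algebraMap R (IsLocalRing.ResidueField R)) := IsLocalRing.residue_surjective
  haveI : IsClosedImmersion (Spec.map (CommRingCat.ofHom (algebraMap R (IsLocalRing.ResidueField R)))) :=
    IsClosedImmersion.spec_of_surjective _ hsurj
  have hc := IsPullback.of_hasPullback p (Spec.map (CommRingCat.ofHom (algebraMap R (IsLocalRing.ResidueField R))))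
  set i := Limits.pullback.fst p (Spec.map (CommRingCat.ofHom (algebraMap R (IsLocalRing.ResidueField R))))
  set y := i x
  haveI hr : IsRegularLocalRing (X.presheaf.stalk y) := hreg y
  have hpy : p y = IsLocalRing.closedPoint R := by
    show (i ≫ p) x = _
    rw [Limits.pullback.condition]
    show Spec.map _ (Limits.pullback.snd p _ x) = _
    rw [Subsingleton.elim (Limits.pullback.snd p (Spec.map (CommRingCat.ofHom (algebraMap R (IsLocalRing.ResidueField R)))) x) (IsLocalRing.closedPoint (IsLocalRing.ResidueField R))]
    haveI : IsLocalHom (algebraMap R (IsLocalRing.ResidueField R)) := IsLocalHom.of_surjective _ hsurj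
    exact IsLocalRing.comap_closedPoint _
  have hty : p y ∈ (⊤ : (Spec (CommRingCat.of R)).Opens) := trivial
  set g₀ := ((Spec (CommRingCat.of R)).presheaf.germ ⊤ (p y) hty).hom ((Scheme.ΓSpecIso (CommRingCat.of R)).inv.hom t) with hg₀
  set g := (p.stalkMap y).hom g₀ with hg
  have hnot : ¬ IsUnit g₀ := by
    intro hu
    have hmem := ((Spec (CommRingCat.of R)).mem_basicOpen _ _ hty).2 hu
    rw [basicOpen_eq_of_affine', hpy, PrimeSpectrum.mem_basicOpen] at hmem
    apply hmem
    show (Scheme.ΓSpecIso (CommRingCat.of R)).hom.hom ((Scheme.ΓSpecIso (CommRingCat.of R)).inv.hom t) ∈ IsLocalRing.maximalIdeal R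
    rw [← RingHom.comp_apply, ← CommRingCat.hom_comp, Iso.inv_hom_id, hmt]
    exact Ideal.mem_span_singleton_self t
  have hgm : g ∈ IsLocalRing.maximalIdeal (X.presheaf.stalk y) := fun hu =>
    hnot (isUnit_of_map_unit (p.stalkMap y).hom _ hu)
  have hg0 : g₀ ≠ 0 := by
    intro h0
    have hinj := germ_injective_of_isIntegral (Spec (CommRingCat.of R)) (p y) hty
    have h1 : (Scheme.ΓSpecIso (CommRingCat.of R)).inv.hom t = 0 := hinj (h0.trans (map_zero _).symm)
    exact ht.ne_zero ((ConcreteCategory.bijective_of_isIso (Scheme.ΓSpecIso (CommRingCat.of R)).inv).1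
      (h1.trans (map_zero _).symm))
  have hgreg : IsSMulRegular (X.presheaf.stalk y) g := by
    letI := (p.stalkMap y).hom.toAlgebra
    haveI : Module.Flat ((Spec (CommRingCat.of R)).presheaf.stalk (p y)) (X.presheaf.stalk y) :=
      Flat.stalkMap p y
    have := Module.Flat.isSMulRegular_of_isRegular (M := X.presheaf.stalk y) (isRegular_of_ne_zero hg0)
    intro a b hab
    exact this hab
  have hker : RingHom.ker (i.stalkMap x).hom = Ideal.span {g} := by
    rw [GrothLib.DeformIso.ker_stalkMap_of_isPullback hc x ⟨⊤, isAffineOpen_top _⟩ trivial, Scheme.Hom.ker_apply]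
    have hk : RingHom.ker ((Spec.map (CommRingCat.ofHom (algebraMap R (IsLocalRing.ResidueField R)))).app ⊤).hom =
        (IsLocalRing.maximalIdeal R).map (Scheme.ΓSpecIso (CommRingCat.of R)).inv.hom := by
      ext c
      have h1 := congrArg (fun φ => φ.hom c)
        (Scheme.ΓSpecIso_naturality (CommRingCat.ofHom (algebraMap R (IsLocalRing.ResidueField R))))
      simp only [CommRingCat.hom_comp, RingHom.comp_apply] at h1
      have hinv : c = (Scheme.ΓSpecIso (CommRingCat.of R)).inv.hom ((Scheme.ΓSpecIso (CommRingCat.of R)).hom.hom c) := by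
        rw [← RingHom.comp_apply, ← CommRingCat.hom_comp, Iso.hom_inv_id]; rfl
      constructor
      · intro hc'
        rw [hinv]
        refine Ideal.mem_map_of_mem _ ?_
        rw [← IsLocalRing.residue_eq_zero_iff]
        refine h1.symm.trans ?_
        rw [show ((Spec.map (CommRingCat.ofHom (algebraMap R (IsLocalRing.ResidueField R)))).appTop).hom c = 0 from hc', map_zero]
      · intro hc'
        have hc2 : (Scheme.ΓSpecIso (CommRingCat.of R)).hom.hom c ∈ IsLocalRing.maximalIdeal R := by
          have := Ideal.mem_map_of_mem (Scheme.ΓSpecIso (CommRingCat.of R)).hom.hom hc'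
          rwa [Ideal.map_map, ← CommRingCat.hom_comp, Iso.inv_hom_id, CommRingCat.hom_id, Ideal.map_id] at this
        apply (ConcreteCategory.bijective_of_isIso (Scheme.ΓSpecIso (CommRingCat.of (IsLocalRing.ResidueField R))).hom).1
        refine (h1.trans ?_).trans (map_zero _).symm
        exact (IsLocalRing.residue_eq_zero_iff _).2 hc2
    rw [hk, hmt, Ideal.map_span, Ideal.map_span, Ideal.map_span, Set.image_singleton, Set.image_singleton, Set.image_singleton]
  haveI := Groth.Agent.S0342.result (X.presheaf.stalk y)
  haveI := (Groth.Agent.S0343.result (X.presheaf.stalk y) g hgm hgreg).1 inferInstance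
  exact GrothLib.GorEquiv.of_ringEquiv ((Ideal.quotEquivOfEq hker.symm).trans
    (RingHom.quotientKerEquivOfSurjective (i.stalkMap_surjective x)))

end Groth.Agent.S2225
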