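import Groth.Statements.S2228
import Groth.Agent.Lib.NoetherDiff.Theta

set_option autoImplicit false
universe u
open TensorProduct
open Disc

namespace Groth.Agent.S2228

/-- Special case: B finite free over the Noetherian ring A (the source allows flat quasi-finite maps).
Let J be the annihilator of the kernel of the multiplication map B tensor_A B -> B and omega =
Hom_A(B, A) with its B-module structure through the argument. Pairing xi = sum of b_i tensor c_i in
J with lambda in omega to the sum of lambda(b_i) c_i identifies J with the B-linear maps omega -> B:
every B-linear Phi : omega -> B arises from exactly one xi in J in this way. -/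
theorem result {A B : Type u} [CommRing A] [CommRing B] [Algebra A B]
    [IsNoetherianRing A] [Module.Finite A B] [Module.Free A B] (Φ : Disc.Omega A B →ₗ[B] B) :
    ∃! ξ : B ⊗[A] B,
      ξ ∈ Submodule.annihilator (RingHom.ker (Algebra.TensorProduct.lmul' (S := B) A)) ∧
        ∀ l : Disc.Omega A B,
          Φ l = TensorProduct.lift ((LinearMap.lsmul A B).comp l.toLinearMap) ξ :=
  GrothLib.NoetherDiff.existsUnique_pair Φ

end Groth.Agent.S2228
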