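import Groth.Statements.S2231
import Groth.Agent.Lib.OX.PerfectLemmas
import Groth.Agent.Lib.TorBC25.Perfect

set_option autoImplicit false
set_option maxHeartbeats 1000000
set_option linter.style.haveILetI false
set_option backward.isDefEq.respectTransparency false
universe u
open CategoryTheory AlgebraicGeometry
attribute [local instance] HasDerivedCategory.standard
open QCohCat

namespace Groth.Agent.S2231

/-- Case (3): let X -> S be proper, flat and of finite presentation, Y -> S arbitrary, and K a complex
of modules on X x_S Y which is perfect. Assuming the derived functors L pr_1^*, - tensor^L K and R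
pr_2,* exist (unproved hypotheses carried as binders), the Fourier-Mukai transform of a perfect
object of D(O_X) is a perfect object of D(O_Y). -/
theorem result {S X Y : Scheme.{u}} (a : X ⟶ S)
    (b : Y ⟶ S) [IsProper a] [Flat a] [LocallyOfFinitePresentation a]
    (K : CochainComplex (Limits.pullback a b).Modules ℤ)
    (hK : DCoh.IsPerfect (DCoh.toD (Limits.pullback a b) K))
    [DCoh.HasLpull (Limits.pullback.fst a b)] [DCoh.HasLTensorCx K]
    [DCoh.HasRpush (Limits.pullback.snd a b)] (M : DCoh.D X) (hM : DCoh.IsPerfect M) :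
    DCoh.IsPerfect ((DCoh.Rpush (Limits.pullback.snd a b)).obj
        ((DCoh.LTensorCx K).obj ((DCoh.Lpull (Limits.pullback.fst a b)).obj M))) := by
  haveI : IsProper (Limits.pullback.snd a b) := MorphismProperty.pullback_snd a b inferInstance
  haveI : Flat (Limits.pullback.snd a b) := MorphismProperty.pullback_snd a b inferInstance
  haveI : LocallyOfFinitePresentation (Limits.pullback.snd a b) := MorphismProperty.pullback_snd a b inferInstance
  have hN : DCoh.IsPerfect ((DCoh.Lpull (Limits.pullback.fst a b)).obj M) :=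
    GrothLib.OX.isPerfect_lpull _ hM
  obtain ⟨L, r, hL, -, hr, -⟩ := GrothLib.OX.exists_kflat_resolution K
  haveI : IsIso (DerivedCategory.Q.map r) := (DerivedCategory.isIso_Q_map_iff_quasiIso _ r).2 hr
  have hLp : DCoh.IsPerfect (DerivedCategory.Q.obj L) :=
    GrothLib.OX.isPerfect_of_iso hK (asIso (DerivedCategory.Q.map r)).symm
  haveI := GrothLib.OX.hasLTensorCx L
  obtain ⟨P, hP, ⟨e⟩⟩ := GrothLib.OX.exists_kflat_rep ((DCoh.Lpull (Limits.pullback.fst a b)).obj M)
  obtain ⟨v⟩ := GrothLib.OX.ltensorCx_value K P hP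
  obtain ⟨w⟩ := GrothLib.OX.ltensorCx_value L P hP
  haveI := GrothLib.OX.quasiIso_tensor_map_of_isKFlat r P hP
  haveI : IsIso (DerivedCategory.Q.map (((DCoh.tensorCx (X := Limits.pullback a b)).obj P).map r)) :=
    (DerivedCategory.isIso_Q_map_iff_quasiIso _ _).2 inferInstance
  have ht : DCoh.IsPerfect ((DCoh.LTensorCx K).obj ((DCoh.Lpull (Limits.pullback.fst a b)).obj M)) :=
    GrothLib.OX.isPerfect_of_iso (GrothLib.OX.isPerfect_ltensor L hL hLp hN)
      ((DCoh.LTensorCx L).mapIso e.symm ≪≫ w ≪≫
        asIso (DerivedCategory.Q.map (((DCoh.tensorCx (X := Limits.pullback a b)).obj P).map r)) ≪≫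
        v.symm ≪≫ (DCoh.LTensorCx K).mapIso e)
  exact GrothLib.OX.isPerfect_of_iso (GrothLib.TorBC25.isPerfect_RR (Limits.pullback.snd a b) ht)
    ((GrothLib.OX.rpushIsoRres (Limits.pullback.snd a b)).app _).symm

end Groth.Agent.S2231
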