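import Groth.Statements.S2232
import Groth.Agent.Lib.TensorPerf20.Main
import Groth.Agent.Lib.RpushSupp20.Main
import Groth.Agent.Lib.OX.RegularPerfect

set_option autoImplicit false
set_option maxHeartbeats 400000
set_option linter.style.haveILetI false
set_option backward.isDefEq.respectTransparency false
universe u
open CategoryTheory AlgebraicGeometry
attribute [local instance] HasDerivedCategory.standard
open QCohCat

namespace Groth.Agent.S2232

/-- Case (3): let S be Noetherian, X -> S and Y -> S of finite type with all local rings of X regular,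
and K a bounded complex of modules on X x_S Y with coherent cohomology sheaves whose supports are
proper over Y. Assuming the derived functors L pr_1^*, - tensor^L K and R pr_2,* exist (unproved
hypotheses carried as binders), the Fourier-Mukai transform of a bounded object of D(O_X) with
coherent cohomology sheaves is a bounded object of D(O_Y) with coherent cohomology sheaves. -/
theorem result {S X Y : Scheme.{u}} [IsNoetherian S]
    (a : X ⟶ S) (b : Y ⟶ S) [LocallyOfFiniteType a] [QuasiCompact a] [LocallyOfFiniteType b]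
    [QuasiCompact b] (hreg : Models.IsRegularScheme X)
    (K : CochainComplex (Limits.pullback a b).Modules ℤ)
    (hKcoh : DCoh.IsCohD (DCoh.toD (Limits.pullback a b) K)) (kₗ kᵤ : ℤ)
    (hKge : DerivedCategory.IsGE (DCoh.toD (Limits.pullback a b) K) kₗ)
    (hKle : DerivedCategory.IsLE (DCoh.toD (Limits.pullback a b) K) kᵤ)
    (hsupp : ∀ i : ℤ, ClSub.IsProperOver (Limits.pullback.snd a b)
      (CohB1.support (DCoh.HD (DCoh.toD (Limits.pullback a b) K) i)))
    [DCoh.HasLpull (Limits.pullback.fst a b)] [DCoh.HasLTensorCx K]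
    [DCoh.HasRpush (Limits.pullback.snd a b)]
    (M : DCoh.D X) (hM : DCoh.IsCohD M) (m n : ℤ) (hMge : DerivedCategory.IsGE M m)
    (hMle : DerivedCategory.IsLE M n) :
    DCoh.IsCohD ((DCoh.Rpush (Limits.pullback.snd a b)).obj
        ((DCoh.LTensorCx K).obj ((DCoh.Lpull (Limits.pullback.fst a b)).obj M))) ∧
      ∃ m' n' : ℤ, DerivedCategory.IsGE ((DCoh.Rpush (Limits.pullback.snd a b)).obj
        ((DCoh.LTensorCx K).obj ((DCoh.Lpull (Limits.pullback.fst a b)).obj M))) m' ∧
        DerivedCategory.IsLE ((DCoh.Rpush (Limits.pullback.snd a b)).obj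
        ((DCoh.LTensorCx K).obj ((DCoh.Lpull (Limits.pullback.fst a b)).obj M))) n' := by
  haveI : IsLocallyNoetherian X := LocallyOfFiniteType.isLocallyNoetherian a
  haveI : IsLocallyNoetherian Y := LocallyOfFiniteType.isLocallyNoetherian b
  haveI : CompactSpace X := QuasiCompact.compactSpace_of_compactSpace a
  haveI : CompactSpace Y := QuasiCompact.compactSpace_of_compactSpace b
  let p := Limits.pullback.fst a b
  let q := Limits.pullback.snd a b
  haveI : IsLocallyNoetherian (Limits.pullback a b) := LocallyOfFiniteType.isLocallyNoetherian q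
  haveI : CompactSpace (Limits.pullback a b : Scheme.{u}) := QuasiCompact.compactSpace_of_compactSpace q
  haveI := hMge
  haveI := hMle
  have hN : DCoh.IsPerfect ((DCoh.Lpull p).obj M) :=
    GrothLib.OX.isPerfect_lpull p (GrothLib.OX.isPerfect_of_regular (fun x => hreg x) hM (a := m) (b := n))
  let H := fun i => (GrothLib.OX.hdIso K i)
  let T : Set (Limits.pullback a b : Scheme.{u}) :=
    ⋃ i : Finset.Icc kₗ kᵤ, CohB1.support (DCoh.HD (DCoh.toD _ K) i.1)
  have hT : ClSub.IsProperOver q T := GrothLib.ProperOver.isProperOver_iUnion q _ fun i => hsupp i.1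
  have hz : ∀ i, i < kₗ ∨ kᵤ < i → Limits.IsZero (DCoh.HD (DCoh.toD _ K) i) := fun i hi => by
    rcases hi with hi | hi
    · exact @DerivedCategory.isZero_of_isGE _ _ _ _ _ kₗ i hi hKge
    · exact @DerivedCategory.isZero_of_isLE _ _ _ _ _ kᵤ i hi hKle
  have hKT : ∀ i, GrothLib.TensorPerf20.suppP _ T (K.homology i) := fun i =>
    (GrothLib.TensorPerf20.suppP _ T).prop_of_iso (H i) ⟨hKcoh i, fun x hx => by
      by_cases hi : i < kₗ ∨ kᵤ < i
      · exact absurd (ModuleCat.subsingleton_of_isZero ((GrothLib.OX.stalk x).map_isZero (hz i hi))) hx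
      · exact Set.mem_iUnion.2 ⟨⟨i, Finset.mem_Icc.2 (by omega)⟩, hx⟩⟩
  obtain ⟨hL, lo, hi, hge, hle⟩ := GrothLib.TensorPerf20.isCohD_bounded_LTensorCx K T hKT kₗ kᵤ
    (fun i hi => (hz i hi).of_iso (H i).symm) hN
  have hP : WSerre.cohIn (GrothLib.RpushSupp20.properP q)
      ((DCoh.LTensorCx K).obj ((DCoh.Lpull p).obj M)) := fun i =>
    GrothLib.RpushSupp20.properP_of_subset q (hL i).1 hT (hL i).2
  haveI := hge
  haveI := hle
  obtain ⟨h₁, h₂⟩ := GrothLib.RpushSupp20.isCohD_Rpush q _ lo hP
  obtain ⟨n', hn'⟩ := GrothLib.RpushSupp20.exists_isLE_Rpush q _ lo hi hP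
  exact ⟨h₁, lo, n', h₂, hn'⟩

end Groth.Agent.S2232
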