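import Groth.Statements.S2234
import Groth.Agent.Lib.NLAmp.Main

set_option autoImplicit false
universe u
attribute [local instance] HasDerivedCategory.standard
open LCI

namespace Groth.Agent.S2234

theorem result {A B : Type u} [CommRing A] [CommRing B] [Algebra A B]
    [Module.Flat A B] [Algebra.FinitePresentation A B] :
    DRing.HasTorAmplitudeIn B (-1) 0 (LCI.NL A B) ↔ LCI.IsLCI A B :=
  ⟨fun h => GrothLib.NLAmp.isLCI_of_amp h, fun h => (GrothLib.NLAmp.perfect_and_amp_of_isLCI h).2⟩

end Groth.Agent.S2234
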