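import Groth.Statements.S2235
import Groth.Agent.Lib.KoszulColon.Colon

set_option autoImplicit false
universe u
open TensorProduct
open Disc

namespace Groth.Agent.S2235

/-- Let A -> P be a ring map, f_1, ..., f_n a Koszul-regular sequence in P with B = P/(f_1, ..., f_n)
flat over A, and g_1, ..., g_n a Koszul-regular sequence in P tensor_A B generating the kernel of
the multiplication map P tensor_A B -> B. Write f_i tensor 1 = sum_j c_ij g_j. Then the annihilator
of the kernel of B tensor_A B -> B is the principal ideal generated by the image of det(c_ij). -/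
theorem result {A P : Type u} [CommRing A] [CommRing P] [Algebra A P]
    {n : ℕ} (f : Fin n → P) (hf : LCI.IsKoszulRegularSeq P (List.ofFn f))
    [Module.Flat A (P ⧸ Ideal.span (Set.range f))]
    (g : Fin n → P ⊗[A] (P ⧸ Ideal.span (Set.range f)))
    (hg : LCI.IsKoszulRegularSeq (P ⊗[A] (P ⧸ Ideal.span (Set.range f))) (List.ofFn g))
    (hgker : Ideal.span (Set.range g) = RingHom.ker (Algebra.TensorProduct.productMap
      (Ideal.Quotient.mkₐ A (Ideal.span (Set.range f))) (AlgHom.id A (P ⧸ Ideal.span (Set.range f)))))
    (c : Matrix (Fin n) (Fin n) (P ⊗[A] (P ⧸ Ideal.span (Set.range f))))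
    (hc : ∀ i, f i ⊗ₜ[A] (1 : P ⧸ Ideal.span (Set.range f)) = ∑ j, c i j * g j) :
    Submodule.annihilator (RingHom.ker
        (Algebra.TensorProduct.lmul' (S := P ⧸ Ideal.span (Set.range f)) A)) =
      Ideal.span {Algebra.TensorProduct.map (Ideal.Quotient.mkₐ A (Ideal.span (Set.range f)))
        (AlgHom.id A (P ⧸ Ideal.span (Set.range f))) (Matrix.det c)} := GrothLib.KoszulColon.annihilator_diagonal f hf g hgker c hc

end Groth.Agent.S2235
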