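import Groth.Statements.S2237
import Groth.Agent.Lib.RelGCIReg.Local
import Groth.Agent.Lib.LCI6.Syntomic
import Mathlib.RingTheory.QuasiFinite.Basic
-- import your own Groth.Agent.* helpers here

set_option autoImplicit false
universe u
attribute [local instance] HasDerivedCategory.standard
open LCI

namespace Groth.Agent.S2237

/-- Implication (2) to (5), affine form: let A -> B be flat, quasi-finite and a local complete
intersection homomorphism (finite type with a Koszul-regular presentation). Then for every prime q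
of B there are g in B outside q, a natural number n and polynomials f_1, ..., f_n in A[x_1, ...,
x_n] such that B_g is isomorphic as an A-algebra to A[x_1, ..., x_n]/(f_1, ..., f_n). -/
theorem result {A B : Type u} [CommRing A]
    [CommRing B] [Algebra A B] [Module.Flat A B] [Algebra.QuasiFinite A B] (hlci : LCI.IsLCI A B)
    (q : Ideal B) [q.IsPrime] :
    ∃ g : B, g ∉ q ∧ ∃ (n : ℕ) (f : Fin n → MvPolynomial (Fin n) A),
      Nonempty (Localization.Away g ≃ₐ[A]
        (MvPolynomial (Fin n) A ⧸ Ideal.span (Set.range f))) := by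
  classical
  obtain ⟨g, hg, n, c, F, hF, ⟨e⟩⟩ := GrothLib.RelGCIReg.exists_relGCI_away
    (GrothLib.LCI6.isSyntomic_iff.mpr ⟨inferInstance, hlci⟩) q
  haveI : (q.map (algebraMap B (Localization.Away g))).IsPrime :=
    IsLocalization.isPrime_of_isPrime_disjoint (Submonoid.powers g) _ q inferInstance
      (by rw [Set.disjoint_left]; rintro x ⟨k, rfl⟩ hx; exact hg (Ideal.IsPrime.mem_of_pow_mem inferInstance k hx))
  haveI : Algebra.QuasiFinite A (Synt.RelGCIRing A n c F) :=
    (Algebra.QuasiFinite.iff_of_algEquiv e).1 inferInstance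
  let P : PrimeSpectrum (Synt.RelGCIRing A n c F) :=
    ⟨(q.map (algebraMap B (Localization.Away g))).comap e.symm.toRingHom, inferInstance⟩
  let p : PrimeSpectrum A := PrimeSpectrum.comap (algebraMap A (Synt.RelGCIRing A n c F)) P
  haveI : IsArtinianRing (p.asIdeal.Fiber (Synt.RelGCIRing A n c F)) := inferInstance
  haveI hnt : Nontrivial (p.asIdeal.Fiber (Synt.RelGCIRing A n c F)) :=
    (PrimeSpectrum.nontrivial_iff_mem_rangeComap p).2 ⟨P, rfl⟩
  obtain ⟨hcn, hdim⟩ := hF p hnt
  haveI : Ring.KrullDimLE 0 (p.asIdeal.Fiber (Synt.RelGCIRing A n c F)) := Ring.KrullDimLE.mk₀ fun I hI => by haveI := hI; exact @IsArtinianRing.isMaximal_of_isPrime (p.asIdeal.Fiber (Synt.RelGCIRing A n c F)) _ I hI inferInstance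
  replace hdim := (ringKrullDimZero_iff_ringKrullDim_eq_zero (R := p.asIdeal.Fiber (Synt.RelGCIRing A n c F))).1 inferInstance |>.symm.trans hdim
  have hnc : n = c := by
    have : ((n - c : ℕ) : WithBot ℕ∞) = ((0 : ℕ) : WithBot ℕ∞) := hdim.symm.trans Nat.cast_zero.symm
    have := Nat.cast_injective this
    omega
  subst hnc
  exact ⟨g, hg, n, F, ⟨e⟩⟩

end Groth.Agent.S2237
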