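import Groth.Statements.S3571
import Groth.Agent.Lib.RelSpec.Basic

set_option autoImplicit false
universe u
open CategoryTheory AlgebraicGeometry TopologicalSpace
open EGA2

namespace Groth.Agent.S3571

open Opposite

lemma away_of_lift_sep {R R' : Type u} [CommRing R] [CommRing R'] (r : R →+* R') (a : R)
    (hu : IsUnit (r a)) (hl : ∀ s : R', ∃ (n : ℕ) (t : R), r t = r a ^ n * s)
    (hs : ∀ x : R, r x = 0 → ∃ n : ℕ, a ^ n * x = 0) :
    letI := r.toAlgebra
    IsLocalization.Away a R' := by
  letI := r.toAlgebra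
  refine ⟨?_, fun s => ?_, fun {x y} h => ?_⟩
  · rintro ⟨_, n, rfl⟩
    rw [map_pow]
    exact hu.pow n
  · obtain ⟨n, t, ht⟩ := hl s
    refine ⟨⟨t, ⟨a ^ n, n, rfl⟩⟩, ?_⟩
    change s * r (a ^ n) = r t
    rw [ht, map_pow, mul_comm]
  · obtain ⟨n, hn⟩ := hs (x - y) (by rw [map_sub]; exact sub_eq_zero.mpr h)
    refine ⟨⟨a ^ n, n, rfl⟩, ?_⟩
    rw [mul_sub, sub_eq_zero] at hn
    exact hn

/-- Let S be a scheme and B a sheaf of commutative rings on S with a morphism O_S → B making B a
quasi-coherent O_S-module (a quasi-coherent O_S-algebra). Then there are a scheme X and an affine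
morphism f : X → S together with an isomorphism of sheaves of rings B ≅ f_*O_X compatible with the
two structure maps from O_S (X is the relative spectrum of B; it is in fact unique up to unique
S-isomorphism, but only existence is asserted here). -/
theorem result {S : Scheme.{u}}
    (B : Sheaf (Opens.grothendieckTopology S) CommRingCat.{u}) (φ : S.sheaf ⟶ B)
    (hB : Coh.IsQCoh ((SheafOfModules.restrictScalars
      ((sheafCompose (Opens.grothendieckTopology S) (forget₂ CommRingCat.{u} RingCat.{u})).map φ)).obj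
      (SheafOfModules.unit ((sheafCompose (Opens.grothendieckTopology S) (forget₂ CommRingCat.{u} RingCat.{u})).obj B)))) :
    ∃ (X : Scheme.{u}) (f : X ⟶ S) (_ : IsAffineHom f)
      (e : B ≅ (TopCat.Sheaf.pushforward CommRingCat.{u} f.base).obj X.sheaf),
      (φ ≫ e.hom).hom = f.c := by
  refine GrothLib.RelSpec.exists_affineHom_of_coequifibered B φ ?_
  refine Scheme.AffineZariskiSite.coequifibered_iff_forall_isLocalizationAway.mpr fun U g => ?_
  let M : S.Modules := (SheafOfModules.restrictScalars
        ((sheafCompose (Opens.grothendieckTopology S) (forget₂ CommRingCat.{u} RingCat.{u})).map φ)).obj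
        (SheafOfModules.unit ((sheafCompose (Opens.grothendieckTopology S) (forget₂ CommRingCat.{u} RingCat.{u})).obj B))
  haveI : M.IsQuasicoherent := hB
  obtain ⟨hl, hs⟩ := GrothLib.QCoh.smulLift_and_smulSep_of_isAffineOpen U.2 M g
  let a := φ.hom.app (op U.1) g
  have hres : ∀ r, B.obj.map (homOfLE (S.basicOpen_le g)).op (φ.hom.app (op U.1) r) =
      φ.hom.app (op (S.basicOpen g)) (S.presheaf.map (homOfLE (S.basicOpen_le g)).op r) := fun r =>
    (congrArg (fun ψ => ψ.hom r) (φ.hom.naturality (homOfLE (S.basicOpen_le g)).op)).symm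
  have hunit : IsUnit (φ.hom.app (op (S.basicOpen g)) (S.presheaf.map (homOfLE (S.basicOpen_le g)).op g)) := by
    refine IsUnit.map (φ.hom.app (op (S.basicOpen g))).hom ?_
    exact RingedSpace.isUnit_res_basicOpen _ g
  refine away_of_lift_sep (B.obj.map (homOfLE (S.basicOpen_le g)).op).hom a ((hres g).symm ▸ hunit) (fun s => ?_)
    (fun x hx => ?_)
  · obtain ⟨n, t, ht⟩ := hl s
    refine ⟨n, t, ?_⟩
    refine ht.trans ?_
    change φ.hom.app (op (S.basicOpen g)) ((S.presheaf.map (homOfLE (S.basicOpen_le g)).op g) ^ n) * s = _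
    exact congrArg (· * s) ((map_pow _ _ _).trans (congrArg (· ^ n) (hres g).symm))
  · obtain ⟨n, hn⟩ := hs x hx
    refine ⟨n, ?_⟩
    exact (congrArg (· * x) (map_pow (φ.hom.app (op U.1)).hom g n).symm).trans hn

end Groth.Agent.S3571
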