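import Groth.Statements.S2326
import Groth.Agent.Lib.RLpsi8.IdealAmple
import Groth.Agent.Lib.CurveMult.GGCurve
import Groth.Agent.Lib.CurveMult.NefGenusZero
import Groth.Agent.Lib.FgSupport6.Exists

set_option autoImplicit false
set_option backward.isDefEq.respectTransparency false
universe u
open CategoryTheory CategoryTheory.Limits AlgebraicGeometry TopologicalSpace Opposite
open EGA2

namespace Groth.Agent.S2326

/-- Let X be a quasi-compact separated scheme (the source also allows a prescheme with Noetherian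
underlying space) and L an invertible module. Suppose that for every quasi-coherent ideal sheaf I of
finite type there are n > 0 and k > 0 with I ⊗ L^{⊗n} a quotient of O_X^k. Then L is ample. -/
theorem result (X : Scheme.{u}) [CompactSpace X] [X.IsSeparated] (L : X.Modules) (hL : PicF.IsInvertible L)
    (h : ∀ I : X.IdealSheafData, BlowUp.IsFiniteTypeIdeal I →
      ∃ (n k : ℕ) (p : FlatMod.freeMod X k ⟶ CohB1.tensorMod (ClSub.idealMod I) (CohB1.tensorPow L (n + 1))), 0 < k ∧ Epi p) :
    CohB1.IsAmple L := by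
  obtain ⟨c, ⟨e⟩⟩ := GrothLib.Ample.exists_cocycle hL
  refine (c.isAmple_iff e).mpr ⟨inferInstance, fun x => ?_⟩
  obtain ⟨W, hW, hxW, -⟩ := exists_isAffineOpen_mem_and_subset (Opens.mem_top x)
  obtain ⟨I, hI, hsupp⟩ := GrothLib.FgSupport6.exists_fg_support_eq W hW.isCompact
  obtain ⟨n, k, p, -, hp⟩ := h I hI
  have hgg : Curv2.IsGloballyGenerated (CohB1.tensorMod (ClSub.idealMod I) (CohB1.tensorPow L (n + 1))) :=
    haveI := hp
    GrothLib.CurveMult.isGloballyGenerated_of_epi p (GrothLib.CurveMult.isGloballyGenerated_sigma GrothLib.CurveMult.isGloballyGenerated_structure k)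
  obtain ⟨ι, s, hs⟩ := GrothLib.CurveMult.spanned_of_isGloballyGenerated hgg
  obtain ⟨d⟩ := c.nonempty_tensorPow_iso e (n + 1)
  obtain ⟨T, hT, z, hz⟩ := GrothLib.RLpsi8.exists_mem_basicOpen_val I (x := x) (by rw [hsupp]; exact fun h => h hxW)
  obtain ⟨a, ha⟩ := GrothLib.RLpsi8.exists_affine_locus_of_spanned c (ClSub.idealModι I) d hW
    (fun y hy O w => GrothLib.RLpsi8.not_mem_basicOpen_val I (by rw [hsupp]; exact hy) w) z hz s hs
  exact ⟨n, a, ha⟩

end Groth.Agent.S2326
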