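import Groth.Statements.S2328
import Groth.Agent.Lib.Ample.Product
import Groth.Agent.S2337
import Groth.Agent.S2332
import Groth.Agent.S2333

set_option autoImplicit false
universe u
open CategoryTheory CategoryTheory.Limits AlgebraicGeometry
open EGA2

namespace Groth.Agent.S2328

/-- Let X be a quasi-compact separated scheme, L an ample invertible module and L' an invertible module
such that every point of X lies in the generating locus X_{s'} of some global section s' of some
positive power of L'. Then L ⊗ L' is ample. -/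
theorem result (X : Scheme.{u}) [CompactSpace X] [X.IsSeparated] (L L' : X.Modules) (hL : CohB1.IsAmple L) (hL' : PicF.IsInvertible L')
    (h : ∀ x : X, ∃ (n : ℕ) (s' : Coh.structureModule X ⟶ CohB1.tensorPow L' (n + 1)), x ∈ CohB1.genLocus _ s') :
    CohB1.IsAmple (CohB1.tensorMod L L') := by
  obtain ⟨c, ⟨e⟩⟩ := GrothLib.Ample.exists_cocycle hL.1
  obtain ⟨c', ⟨e'⟩⟩ := GrothLib.Ample.exists_cocycle hL'
  obtain ⟨d⟩ := c.nonempty_tensorMod_iso_prod c' e e'
  refine ((c.prod c').isAmple_iff d).mpr ⟨inferInstance, c.isAmp_prod c' ((c.isAmple_iff e).mp hL).2 fun p => ?_⟩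
  obtain ⟨n, s, hs⟩ := h p
  obtain ⟨t⟩ := c'.nonempty_tensorPow_iso e' (n + 1)
  obtain ⟨b, hb⟩ := c'.exists_sect_of_section t s
  exact ⟨n, b, by rw [hb]; exact hs⟩

end Groth.Agent.S2328
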