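import Groth.Statements.S2329
import Groth.Agent.Lib.Ample.Twisting

set_option autoImplicit false
universe u
open CategoryTheory CategoryTheory.Limits AlgebraicGeometry
open EGA2

namespace Groth.Agent.S2329

/-- Let X be a quasi-compact separated scheme, L an ample invertible module and L' an invertible module.
Then there is n₀ > 0 such that L^{⊗n} ⊗ L' is ample and globally generated for every n ≥ n₀. -/
theorem result (X : Scheme.{u}) [CompactSpace X] [X.IsSeparated] (L L' : X.Modules) (hL : CohB1.IsAmple L) (hL' : PicF.IsInvertible L') :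
    ∃ n₀ : ℕ, 0 < n₀ ∧ ∀ n, n₀ ≤ n →
      CohB1.IsAmple (CohB1.tensorMod (CohB1.tensorPow L n) L') ∧ Curv2.IsGloballyGenerated (CohB1.tensorMod (CohB1.tensorPow L n) L') := by
  obtain ⟨c, ⟨e⟩⟩ := GrothLib.Ample.exists_cocycle hL.1
  obtain ⟨c', ⟨e'⟩⟩ := GrothLib.Ample.exists_cocycle hL'
  obtain ⟨n₀, h⟩ := c.eventually_isAmple_prod c' ((c.isAmple_iff e).mp hL).2
  refine ⟨n₀ + 1, Nat.succ_pos _, fun n hn => ?_⟩
  obtain ⟨d⟩ := c.nonempty_tensorPow_iso_pow e n
  obtain ⟨f⟩ := (c.pow n).nonempty_tensorMod_iso_prod c' d e'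
  obtain ⟨h1, h2⟩ := h n (by omega)
  exact ⟨(GrothLib.Ample.isAmple_iff_of_iso f).mpr h1, GrothLib.Ample.isGloballyGenerated_of_iso f.symm h2⟩

end Groth.Agent.S2329
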