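import Groth.Statements.S2334
import Groth.Agent.Lib.DVRDom.Scheme

set_option autoImplicit false
universe u
open CategoryTheory CategoryTheory.Limits AlgebraicGeometry
open EGA2

namespace Groth.Agent.S2334

/-- Locally Noetherian case of the valuative criterion of separatedness: let Y be a locally Noetherian
scheme and f : X → Y locally of finite type. Then f is separated if and only if for every discrete
valuation ring A with fraction field K, any two morphisms Spec A → X with the same composite to Y
which agree on Spec K are equal. (In the general criterion the diagonal must be assumed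
quasi-compact; that is automatic here.) -/
theorem result {X Y : Scheme.{u}} [IsLocallyNoetherian Y] (f : X ⟶ Y) [LocallyOfFiniteType f] :
    IsSeparated f ↔ ∀ (A : Type u) [CommRing A] [IsDomain A] [IsDiscreteValuationRing A] (g₁ g₂ : (Spec (CommRingCat.of A)) ⟶ X),
      g₁ ≫ f = g₂ ≫ f → (Spec.map (CommRingCat.ofHom (algebraMap A (FractionRing A)))) ≫ g₁ = (Spec.map (CommRingCat.ofHom (algebraMap A (FractionRing A)))) ≫ g₂ → g₁ = g₂ := by
  refine ⟨fun _ A _ _ _ g₁ g₂ h h' ↦ GrothLib.DVRDom.eq_of_isSeparated f g₁ g₂ h h', fun H ↦ ?_⟩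
  refine GrothLib.DVRDom.isSeparated_of_lifts f (𝟙 X) (fun _ ↦ True) (fun x ↦ ⟨x, trivial, specializes_rfl⟩) ?_
  intro u V _ _ l₁ l₂ h h₁ h₂
  obtain ⟨z, e₁, e₂⟩ := GrothLib.DVRDom.restrict_fractionRing_eq (L := X.residueField u) V l₁ l₂ (h₁.trans h₂.symm)
  exact H V l₁ l₂ h (e₁.trans e₂.symm)

end Groth.Agent.S2334
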