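import Groth.Statements.S2338
import Groth.Agent.Lib.Ample.Product
import Groth.Agent.S2337
import Groth.Agent.S2332
import Groth.Agent.S2333

set_option autoImplicit false
universe u
open CategoryTheory CategoryTheory.Limits AlgebraicGeometry
open EGA2

namespace Groth.Agent.S2338

/-- The composite of two quasi-affine morphisms is quasi-affine. -/
theorem result {X Y Z : Scheme.{u}} (f : X ⟶ Y) (g : Y ⟶ Z) (hf : Mor2.IsQuasiAffine f) (hg : Mor2.IsQuasiAffine g) :
    Mor2.IsQuasiAffine (f ≫ g) := by
  haveI := hf.1
  haveI := hg.1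
  exact (Groth.Agent.S2337.result (f ≫ g)).mpr (GrothLib.Ample.isRelAmple_structureModule_comp
    ((Groth.Agent.S2337.result f).mp hf) ((Groth.Agent.S2337.result g).mp hg))

end Groth.Agent.S2338
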