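import Groth.Statements.S2339
import Groth.Agent.Lib.Ample.Product
import Groth.Agent.S2337
import Groth.Agent.S2332
import Groth.Agent.S2333

set_option autoImplicit false
universe u
open CategoryTheory CategoryTheory.Limits AlgebraicGeometry
open EGA2

namespace Groth.Agent.S2339

/-- If f : X → Y is quasi-affine then so is its base change along any morphism Y' → Y. -/
theorem result {X Y Y' : Scheme.{u}} (f : X ⟶ Y) (hf : Mor2.IsQuasiAffine f) (g : Y' ⟶ Y) :
    Mor2.IsQuasiAffine (pullback.snd f g) := by
  haveI := hf.1
  haveI : QuasiCompact (pullback.snd f g) := inferInstance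
  refine (Groth.Agent.S2337.result (pullback.snd f g)).mpr ?_
  have h := Groth.Agent.S2332.result f g (Coh.structureModule X) ((Groth.Agent.S2337.result f).mp hf)
  obtain ⟨e⟩ := GrothLib.Ample.nonempty_pullback_structureModule (pullback.fst f g)
  exact ⟨h.1, fun V => (GrothLib.Ample.isAmple_iff_of_iso ((Scheme.Modules.restrictFunctor _).mapIso e)).mp (h.2 V)⟩

end Groth.Agent.S2339
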