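import Groth.Statements.S2341
import Mathlib.AlgebraicGeometry.QuasiAffine

set_option autoImplicit false
universe u
open CategoryTheory CategoryTheory.Limits AlgebraicGeometry
open EGA2

namespace Groth.Agent.S2341

/-- A quasi-compact morphism X → Y whose underlying map is a homeomorphism onto its image (for instance
a closed immersion) is quasi-affine. -/
theorem result {X Y : Scheme.{u}} (f : X ⟶ Y) [QuasiCompact f]
    (hf : Topology.IsEmbedding f.base) : Mor2.IsQuasiAffine f := by
  refine ⟨inferInstance, fun V hV => ?_⟩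
  let φ := f ∣_ V
  haveI : IsAffine V.toScheme := hV
  haveI : CompactSpace (f ⁻¹ᵁ V : Scheme.{u}) := isCompact_iff_compactSpace.mp (f.isCompact_preimage hV.isCompact)
  refine Scheme.IsQuasiAffine.of_forall_exists_mem_basicOpen _ fun x => ?_
  obtain ⟨U, hU, hxU, -⟩ := exists_isAffineOpen_mem_and_subset (U := ⊤) (x := x) trivial
  have hφ : Topology.IsInducing φ.base := by
    have h := (hf.restrictPreimage (V : Set Y)).isInducing
    rw [morphismRestrict_base]
    exact h
  obtain ⟨W, hW, hWU⟩ := hφ.isOpen_iff.mp U.2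
  have hxW : φ x ∈ W := by
    have : x ∈ φ.base ⁻¹' W := by rw [hWU]; exact hxU
    exact this
  obtain ⟨r, hrW, hxr⟩ := (isAffineOpen_top V.toScheme).exists_basicOpen_le (V := ⟨W, hW⟩) ⟨φ x, hxW⟩ trivial
  refine ⟨φ.appTop r, ?_, by rw [← Scheme.preimage_basicOpen_top]; exact hxr⟩
  have hle : (f ⁻¹ᵁ V).toScheme.basicOpen (φ.appTop r) ≤ U := by
    rw [← Scheme.preimage_basicOpen_top]
    intro z hz
    have : z ∈ φ.base ⁻¹' W := hrW hz
    rwa [hWU] at this
  have h2 := hU.basicOpen ((f ⁻¹ᵁ V).toScheme.presheaf.map (homOfLE le_top).op (φ.appTop r))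
  rw [Scheme.basicOpen_res, inf_eq_right.mpr hle] at h2
  exact h2

end Groth.Agent.S2341
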