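import Groth.Statements.S2342
import Groth.Agent.Lib.SchLoc8.Allied
import Mathlib.AlgebraicGeometry.Morphisms.IsIso

set_option autoImplicit false
universe u
open CategoryTheory CategoryTheory.Limits AlgebraicGeometry
open EGA2

namespace Groth.Agent.S2342

/-- Let A be a valuation ring with Y = Spec A, X an integral separated scheme and f : X → Y a morphism
which is closed as a map of topological spaces, such that the fibre over the generic point of Y
consists of exactly one point x and the induced map from the residue field of the generic point of Y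
to that of x is bijective. Then f is an isomorphism. -/
theorem result (A : Type u) [CommRing A] [IsDomain A] [ValuationRing A]
    (X : Scheme.{u}) [IsIntegral X] [X.IsSeparated] (f : X ⟶ Spec (CommRingCat.of A)) (hf : IsClosedMap f.base)
    (x : X) (hx : f.base ⁻¹' {genericPoint (Spec (CommRingCat.of A))} = {x})
    (hres : Function.Bijective (f.residueFieldMap x).hom) : IsIso f := by
  classical
  let Y := Spec (CommRingCat.of A)
  have : IsIntegral Y := inferInstance
  have hxgen : x = genericPoint X := by
    have h1 : f.base x = genericPoint Y := by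
      have h0 : x ∈ f.base ⁻¹' {genericPoint Y} := hx.ge rfl
      exact h0
    have h2 : f.base (genericPoint X) ⤳ genericPoint Y := h1 ▸ (genericPoint_specializes x).map f.continuous
    have h3 : f.base (genericPoint X) = genericPoint Y := (h2.antisymm (genericPoint_specializes _)).eq
    exact (hx.le h3).symm
  subst hxgen
  have hfη : f.base (genericPoint X) = genericPoint Y := hx.ge rfl
  have hval : ∀ p : Y, ValuationRing (Y.presheaf.stalk p) := by
    intro p
    let _ : Algebra A (Y.presheaf.stalk p) := StructureSheaf.stalkAlgebra (R := A) p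
    have : IsLocalization.AtPrime (Y.presheaf.stalk p) p.asIdeal := StructureSheaf.IsLocalization.to_stalk (R := A) p
    rw [ValuationRing.iff_dvd_total]
    refine ⟨fun a b ↦ ?_⟩
    obtain ⟨a, s, rfl⟩ := IsLocalization.exists_mk'_eq p.asIdeal.primeCompl a
    obtain ⟨b, t, rfl⟩ := IsLocalization.exists_mk'_eq p.asIdeal.primeCompl b
    have hd : ∀ (u v : A) (m n : p.asIdeal.primeCompl), u ∣ v →
        IsLocalization.mk' (Y.presheaf.stalk p) u m ∣ IsLocalization.mk' (Y.presheaf.stalk p) v n := by
      rintro u v m n ⟨c, rfl⟩
      refine ⟨IsLocalization.mk' (Y.presheaf.stalk p) (c * m) n, ?_⟩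
      rw [← IsLocalization.mk'_mul]
      exact IsLocalization.mk'_eq_of_eq (by push_cast; ring)
    exact (ValuationRing.dvd_total a b).imp (hd a b s t) (hd b a t s)
  let φ : Y.functionField ⟶ X.functionField :=
    Y.presheaf.stalkSpecializes (specializes_of_eq hfη) ≫ f.stalkMap (genericPoint X)
  have hφ : Function.Bijective φ.hom := by
    refine ⟨φ.hom.injective, fun z ↦ ?_⟩
    obtain ⟨w, hw⟩ := hres.2 ((X.residue (genericPoint X)).hom z)
    obtain ⟨v, rfl⟩ := Y.residue_surjective _ w
    have h4 : (X.residue (genericPoint X)).hom ((f.stalkMap (genericPoint X)).hom v) = (X.residue (genericPoint X)).hom z := by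
      rw [← hw]
      exact (ConcreteCategory.congr_hom (Scheme.residue_residueFieldMap f (genericPoint X)) v).symm
    refine ⟨(Y.presheaf.stalkSpecializes (specializes_of_eq hfη.symm)).hom v, ?_⟩
    have h5 : Function.Injective (X.residue (genericPoint X)).hom :=
      RingHom.injective (show X.functionField →+* X.residueField (genericPoint X) from (X.residue (genericPoint X)).hom)
    refine h5 (Eq.trans ?_ h4)
    congr 1
    show (f.stalkMap _).hom ((Y.presheaf.stalkSpecializes _ ≫ Y.presheaf.stalkSpecializes _).hom v) = _
    rw [TopCat.Presheaf.stalkSpecializes_comp, TopCat.Presheaf.stalkSpecializes_refl]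
    rfl
  let e := RingEquiv.ofBijective φ.hom hφ
  have hnat : ∀ x' : X, f.stalkMap x' ≫ GrothLib.SchLoc8.toFF x' =
      CommRingCat.ofHom (algebraMap (Y.presheaf.stalk (f.base x')) Y.functionField) ≫ φ := by
    intro x'
    show f.stalkMap x' ≫ X.presheaf.stalkSpecializes (genericPoint_specializes x') =
      Y.presheaf.stalkSpecializes (genericPoint_specializes (f.base x')) ≫ φ
    rw [← Scheme.Hom.stalkSpecializes_stalkMap f (genericPoint X) x' (genericPoint_specializes x')]
    exact ((congrArg (· ≫ f.stalkMap (genericPoint X)) (TopCat.Presheaf.stalkSpecializes_comp Y.presheaf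
      (specializes_of_eq hfη) (genericPoint_specializes (f.base x')))).symm.trans (Category.assoc _ _ _))
  have hloc : ∀ x' : X, Function.Bijective (f.stalkMap x').hom ∧
      (algebraMap (X.presheaf.stalk x') X.functionField).range =
        (φ.hom.comp (algebraMap (Y.presheaf.stalk (f.base x')) Y.functionField)).range := by
    intro x'
    have := hval (f.base x')
    let g : X.presheaf.stalk x' →+* Y.functionField :=
      e.symm.toRingHom.comp (algebraMap (X.presheaf.stalk x') X.functionField)
    have hg : g.comp (f.stalkMap x').hom = algebraMap (Y.presheaf.stalk (f.base x')) Y.functionField := by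
      ext a
      refine e.injective ((e.apply_symm_apply _).trans ?_)
      exact ConcreteCategory.congr_hom (hnat x') a
    have hb := bijective_rangeRestrict_comp_of_valuationRing (R := Y.presheaf.stalk (f.base x'))
      (K := Y.functionField) (f.stalkMap x').hom g hg
    have hgi : Function.Injective g := e.symm.injective.comp (IsFractionRing.injective _ _)
    have hsurj : Function.Surjective (f.stalkMap x').hom := fun b ↦ by
      obtain ⟨a, ha⟩ := hb.2 (g.rangeRestrict b)
      exact ⟨a, hgi (congrArg Subtype.val ha)⟩
    refine ⟨⟨fun a b h ↦ hb.1 (Subtype.ext (congrArg g h)), hsurj⟩, ?_⟩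
    ext z
    constructor
    · rintro ⟨b, rfl⟩
      obtain ⟨a, rfl⟩ := hsurj b
      exact ⟨a, (ConcreteCategory.congr_hom (hnat x') a).symm⟩
    · rintro ⟨a, rfl⟩
      exact ⟨(f.stalkMap x').hom a, ConcreteCategory.congr_hom (hnat x') a⟩
  have hinj : Function.Injective f.base := by
    intro x₁ x₂ h
    refine GrothLib.SchLoc8.eq_of_allied
      (Q := LocalSubring.range (algebraMap (X.presheaf.stalk x₁) X.functionField)) le_rfl ?_
    have key : ∀ p q : Y, p = q →
        (φ.hom.comp (algebraMap (Y.presheaf.stalk p) Y.functionField)).range =
        (φ.hom.comp (algebraMap (Y.presheaf.stalk q) Y.functionField)).range := by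
      rintro p q rfl; rfl
    have h6 := (hloc x₂).2.trans ((key _ _ h.symm).trans (hloc x₁).2.symm)
    exact (LocalSubring.toSubring_injective h6 :
      LocalSubring.range (algebraMap (X.presheaf.stalk x₂) X.functionField) =
        LocalSubring.range (algebraMap (X.presheaf.stalk x₁) X.functionField)).le
  have hsurj : Function.Surjective f.base := by
    intro p
    exact (hf.isClosed_range.stableUnderSpecialization (genericPoint_specializes p) ⟨_, hfη⟩)
  have hemb := Topology.IsClosedEmbedding.of_continuous_injective_isClosedMap f.continuous hinj hf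
  have : IsOpenImmersion f := by
    refine IsOpenImmersion.iff_isIso_stalkMap.mpr ⟨⟨hemb.isEmbedding, ?_⟩, fun z ↦
      (ConcreteCategory.isIso_iff_bijective _).mpr (hloc z).1⟩
    rw [hsurj.range_eq]; exact isOpen_univ
  have : Surjective f := ⟨hsurj⟩
  exact isIso_iff_isOpenImmersion_and_surjective f |>.mpr ⟨inferInstance, inferInstance⟩

end Groth.Agent.S2342
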