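import Groth.Statements.S2343
import Groth.Agent.Lib.Hensel.LocalSplit
import Groth.Agent.Lib.Hensel.Local
import Groth.Agent.Lib.FFDesc.Basic
import Mathlib.AlgebraicGeometry.Morphisms.FlatMono
import Mathlib.AlgebraicGeometry.Morphisms.QuasiFinite

set_option autoImplicit false
universe u
open CategoryTheory CategoryTheory.Limits AlgebraicGeometry
open EGA2

namespace Groth.Agent.S2343

/-- Let A be a complete Noetherian local ring, X a separated scheme locally of finite type over Spec A,
and x a point of X over the closed point which is isolated in its fibre. Then the local ring of X at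
x is a finite A-module and the canonical morphism Spec O_{X,x} → X is both an open and a closed
immersion (X is the disjoint sum of Spec O_{X,x} and another open subscheme). -/
theorem result (A : Type u) [CommRing A] [IsLocalRing A] [IsNoetherianRing A]
    [IsAdicComplete (IsLocalRing.maximalIdeal A) A] (X : Scheme.{u}) (f : X ⟶ Spec (CommRingCat.of A)) [LocallyOfFiniteType f] [IsSeparated f]
    (x : X) (hx : f.base x = IsLocalRing.closedPoint A)
    (hisol : IsOpen ((Subtype.val : (f.base ⁻¹' {IsLocalRing.closedPoint A}) → X) ⁻¹' {x})) :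
    ((Scheme.ΓSpecIso (CommRingCat.of A)).inv ≫ f.appTop ≫ X.presheaf.germ ⊤ x trivial).hom.Finite ∧ IsOpenImmersion (X.fromSpecStalk x) ∧ IsClosedImmersion (X.fromSpecStalk x) := by
  haveI : HenselianLocalRing A := GrothLib.Hensel.henselianLocalRing_of_henselianRing inferInstance
  have hqf : f.QuasiFiniteAt x := by
    rw [Scheme.Hom.quasiFiniteAt_iff_isOpen_singleton_asFiber, ← (f.fiberHomeo (f x)).isOpen_image]
    simp only [Set.image_singleton, Scheme.Hom.asFiber, Homeomorph.apply_symm_apply]
    have key : ∀ s, (hs : s = IsLocalRing.closedPoint A) → (h : f x = s) →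
        IsOpen ({⟨x, h⟩} : Set (f ⁻¹' {s})) := by
      rintro _ rfl h
      convert hisol
      ext ⟨y, hy⟩
      simp [Subtype.ext_iff]
    exact key _ hx rfl
  obtain ⟨_, ⟨V, hV, rfl⟩, hxV, -⟩ :=
    X.isBasis_affineOpens.exists_subset_of_mem_open (Set.mem_univ x) isOpen_univ
  let ψ := Spec.preimage (hV.fromSpec ≫ f)
  letI : Algebra A Γ(X, V) := ψ.hom.toAlgebra
  have hψ : Spec.map (CommRingCat.ofHom (algebraMap A Γ(X, V))) = hV.fromSpec ≫ f := Spec.map_preimage _
  let q := (hV.primeIdealOf ⟨x, hxV⟩).asIdeal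
  haveI hlies : q.LiesOver (IsLocalRing.maximalIdeal A) := ⟨by
    have h1 : Spec.map (CommRingCat.ofHom (algebraMap A Γ(X, V))) (hV.primeIdealOf ⟨x, hxV⟩) =
        IsLocalRing.closedPoint A := by
      rw [hψ, Scheme.Hom.comp_apply, hV.fromSpec_primeIdealOf]
      exact hx
    exact (congrArg PrimeSpectrum.asIdeal h1).symm⟩
  haveI : Algebra.FiniteType A Γ(X, V) := by
    refine RingHom.finiteType_algebraMap.mp ((HasRingHomProperty.Spec_iff (P := @LocallyOfFiniteType)).mp ?_)
    rw [show Spec.map ψ = hV.fromSpec ≫ f from hψ]; infer_instance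
  letI : Algebra Γ(X, V) (X.presheaf.stalk x) := (X.presheaf.germ V x hxV).hom.toAlgebra
  haveI : IsLocalization.AtPrime (X.presheaf.stalk x) q := hV.isLocalization_stalk ⟨x, hxV⟩
  letI : Algebra A (X.presheaf.stalk x) :=
    ((X.presheaf.germ V x hxV).hom.comp (algebraMap A Γ(X, V))).toAlgebra
  haveI : IsScalarTower A Γ(X, V) (X.presheaf.stalk x) := IsScalarTower.of_algebraMap_eq fun _ => rfl
  have hst : Spec.map (CommRingCat.ofHom (algebraMap A (X.presheaf.stalk x))) = X.fromSpecStalk x ≫ f := by
    have : CommRingCat.ofHom (algebraMap A (X.presheaf.stalk x)) =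
        CommRingCat.ofHom (algebraMap A Γ(X, V)) ≫ X.presheaf.germ V x hxV := rfl
    rw [this, Spec.map_comp, hψ, ← hV.fromSpecStalk_eq_fromSpecStalk hxV, IsAffineOpen.fromSpecStalk,
      Category.assoc]
  haveI : Algebra.QuasiFinite A (X.presheaf.stalk x) := by
    rw [← RingHom.quasiFinite_algebraMap]
    have h2 := Scheme.Hom.quasiFiniteAt_iff.mp hqf
    rw [← hst] at h2
    exact (HasRingHomProperty.Spec_iff (P := @LocallyQuasiFinite)).mp h2
  let e : (X.presheaf.stalk x) ≃ₐ[A] Localization.AtPrime q :=
    (IsLocalization.algEquiv q.primeCompl (X.presheaf.stalk x) (Localization.AtPrime q)).restrictScalars A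
  haveI : Algebra.QuasiFiniteAt A q := Algebra.QuasiFinite.of_surjective_algHom e.toAlgHom e.surjective
  haveI : Module.Finite A (Localization.AtPrime q) := GrothLib.Hensel.finite_localization_of_quasiFiniteAt q
  haveI hfinA : Module.Finite A (X.presheaf.stalk x) := Module.Finite.equiv e.symm.toLinearEquiv
  have hfin : IsFinite (X.fromSpecStalk x ≫ f) := by
    rw [← hst, IsFinite.SpecMap_iff]
    exact RingHom.finite_algebraMap.mpr hfinA
  haveI : IsFinite (X.fromSpecStalk x) := IsFinite.of_comp _ f
  haveI : IsClosedImmersion (X.fromSpecStalk x) :=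
    .of_isPreimmersion _ (X.fromSpecStalk x).isClosedMap.isClosed_range
  refine ⟨?_, ?_, inferInstance⟩
  · have heq : Spec.map ((Scheme.ΓSpecIso (CommRingCat.of A)).inv ≫ f.appTop ≫ X.presheaf.germ ⊤ x trivial) =
        Spec.map (CommRingCat.ofHom (algebraMap A (X.presheaf.stalk x))) := by
      rw [hst, Spec.map_comp, Spec.map_comp, ← Scheme.fromSpecStalk_toSpecΓ, Category.assoc, Category.assoc,
        ← Scheme.toSpecΓ_naturality_assoc]
      simp
    rw [Spec.map_injective heq]
    exact RingHom.finite_algebraMap.mpr hfinA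
  · haveI : IsLocallyNoetherian X := LocallyOfFiniteType.isLocallyNoetherian f
    haveI : Flat (X.fromSpecStalk x) := GrothLib.FFDesc.flat_fromSpecStalk' X x
    exact IsOpenImmersion.of_flat_of_mono _

end Groth.Agent.S2343
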