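import Groth.Statements.S2346
import Groth.Agent.Lib.CurvPt8.Basic

set_option autoImplicit false
set_option backward.isDefEq.respectTransparency false
universe u
open CategoryTheory CategoryTheory.Limits AlgebraicGeometry
open EGA2

namespace Groth.Agent.S2346

theorem curve_facts (k : Type u) [Field k] (X : Scheme.{u}) [X.Over (Spec (CommRingCat.of k))]
    [LocallyOfFiniteType (X ↘ (Spec (CommRingCat.of k)))] [QuasiCompact (X ↘ (Spec (CommRingCat.of k)))]
    [IrreducibleSpace X] (hX : ∀ x : X, IsClosed ({x} : Set X) → ringKrullDim (X.presheaf.stalk x) = 1) :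
    (∀ x : X, IsClosed ({x} : Set X) ↔ x ≠ genericPoint X) ∧
      (∀ F : Set X, IsClosed F → genericPoint X ∉ F → F.Finite) := by
  have : CompactSpace X := HasAffineProperty.iff_of_isAffine.mp ‹QuasiCompact (X ↘ (Spec (CommRingCat.of k)))›
  have : IsLocallyNoetherian X := LocallyOfFiniteType.isLocallyNoetherian (X ↘ (Spec (CommRingCat.of k)))
  have : IsNoetherian X := {}
  obtain ⟨h, h'⟩ := GrothLib.CurvPt8.dim_stalk_iff.1 hX
  have hmax : ∀ x : X, IsMax x → x = genericPoint X := fun x hx =>
    (Specializes.antisymm (hx ((genericPoint_spec X).specializes trivial))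
      ((genericPoint_spec X).specializes trivial)).eq
  have hiff : ∀ x : X, IsClosed ({x} : Set X) ↔ x ≠ genericPoint X := fun x =>
    ⟨fun hc e => h' x hc fun y _ => e ▸ ((genericPoint_spec X).specializes trivial : genericPoint X ⤳ y),
      fun hne => h x fun hm => hne (hmax x hm)⟩
  refine ⟨hiff, fun F hF hη => ?_⟩
  obtain ⟨S, hS, hSirr, hScl, hcov⟩ :=
    TopologicalSpace.NoetherianSpace.exists_finite_set_isClosed_irreducible hF
  rw [hcov]
  refine hS.sUnion fun C hC => ?_
  obtain ⟨c, hc⟩ := QuasiSober.sober (hScl C hC) (hSirr C hC)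
  have hcl : IsClosed ({c} : Set X) := (hiff c).2 fun e =>
    hη (e ▸ hcov ▸ Set.subset_sUnion_of_mem hC hc.mem)
  rw [← hc.def, hcl.closure_eq]
  exact Set.finite_singleton c

/-- Let X and Y be irreducible algebraic curves over k (separated, of finite type, local rings at closed
points one-dimensional) and f : X → Y a k-morphism. Then f is dominant if and only if every fibre
f⁻¹(y) is a finite set. -/
theorem result (k : Type u) [Field k] (X Y : Scheme.{u}) [X.Over (Spec (CommRingCat.of k))] [Y.Over (Spec (CommRingCat.of k))]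
    [LocallyOfFiniteType (X ↘ (Spec (CommRingCat.of k)))] [QuasiCompact (X ↘ (Spec (CommRingCat.of k)))] [IsSeparated (X ↘ (Spec (CommRingCat.of k)))] [LocallyOfFiniteType (Y ↘ (Spec (CommRingCat.of k)))] [QuasiCompact (Y ↘ (Spec (CommRingCat.of k)))] [IsSeparated (Y ↘ (Spec (CommRingCat.of k)))] [IrreducibleSpace X] [IrreducibleSpace Y]
    (hX : (∀ x : X, IsClosed ({x} : Set X) → ringKrullDim (X.presheaf.stalk x) = 1)) (hY : (∀ x : Y, IsClosed ({x} : Set Y) → ringKrullDim (Y.presheaf.stalk x) = 1))
    (f : X ⟶ Y) (hf : f ≫ (Y ↘ (Spec (CommRingCat.of k))) = X ↘ (Spec (CommRingCat.of k))) :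
    IsDominant f ↔ ∀ y : Y, (f.base ⁻¹' {y}).Finite := by
  obtain ⟨hXc, hXf⟩ := curve_facts k X hX
  obtain ⟨hYc, hYf⟩ := curve_facts k Y hY
  have : LocallyOfFiniteType (f ≫ (Y ↘ (Spec (CommRingCat.of k)))) := hf ▸ inferInstance
  have : LocallyOfFiniteType f := locallyOfFiniteType_of_comp f (Y ↘ (Spec (CommRingCat.of k)))
  have : JacobsonSpace X := LocallyOfFiniteType.jacobsonSpace (X ↘ (Spec (CommRingCat.of k)))
  have : JacobsonSpace Y := LocallyOfFiniteType.jacobsonSpace (Y ↘ (Spec (CommRingCat.of k)))
  constructor
  · intro _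
    have hgen : f.base (genericPoint X) = genericPoint Y := by
      refine ((genericPoint_spec Y).eq ?_).symm
      have := (genericPoint_spec X).image f.continuous
      rwa [Set.image_univ, f.denseRange.closure_range] at this
    intro y
    rcases eq_or_ne y (genericPoint Y) with rfl | hy
    · refine (Set.finite_singleton (genericPoint X)).subset fun x hx => ?_
      by_contra hne
      have h1 : f.base x ∈ closedPoints Y :=
        f.closePoints_subset_preimage_closedPoints ((hXc x).2 hne)
      exact (hYc _).1 h1 hx
    · exact hXf _ (((hYc y).2 hy).preimage f.continuous) fun hm => hy ((hgen.symm.trans hm).symm)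
  · intro hfin
    rcases eq_or_ne (f.base (genericPoint X)) (genericPoint Y) with hgen | hne
    · refine ⟨dense_iff_closure_eq.2 (Set.univ_subset_iff.1 ?_)⟩
      rw [← (genericPoint_spec Y).def]
      exact closure_mono (Set.singleton_subset_iff.2 ⟨_, hgen⟩)
    · exfalso
      have hcl : IsClosed (f.base ⁻¹' {f.base (genericPoint X)}) := ((hYc _).2 hne).preimage f.continuous
      have hu : f.base ⁻¹' {f.base (genericPoint X)} = Set.univ := Set.univ_subset_iff.1
        ((genericPoint_spec X).def ▸ closure_minimal (Set.singleton_subset_iff.2 rfl) hcl)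
      have hfX : (Set.univ : Set X).Finite := hu ▸ hfin _
      have hc : IsClosed (closedPoints X) := by
        have hs : (closedPoints X).Finite := hfX.subset (Set.subset_univ _)
        rw [← Set.biUnion_of_singleton (closedPoints X)]
        exact hs.isClosed_biUnion fun x hx => hx
      have : genericPoint X ∈ closedPoints X := by
        rw [← hc.closure_eq, closure_closedPoints]; trivial
      exact (hXc _).1 this rfl

end Groth.Agent.S2346
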