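import Groth.Statements.S2358
import Groth.Agent.Lib.NormalExt.Basic

set_option autoImplicit false
universe u
open CategoryTheory CategoryTheory.Limits AlgebraicGeometry
open EGA2

namespace Groth.Agent.S2358

/-- Let X be an integral normal scheme, g : X' → X an integral morphism, U a dense open of X and s : U →
X' a section of g over U. Then there is a section of g over all of X extending s. -/
theorem result {X X' : Scheme.{u}} [IsIntegral X] (hX : Pi1.IsNormalScheme X)
    (g : X' ⟶ X) [IsIntegralHom g] (U : X.Opens) (hU : Dense (U : Set X)) (s : (U : Scheme.{u}) ⟶ X') (hs : s ≫ g = U.ι) :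
    ∃ s' : X ⟶ X', s' ≫ g = 𝟙 X ∧ U.ι ≫ s' = s := by
  have hη : genericPoint X ∈ U := by
    refine ((genericPoint_spec X).mem_open_set_iff U.isOpen).mpr ?_
    obtain ⟨z, hz⟩ := hU.nonempty
    exact ⟨z, trivial, hz⟩
  obtain ⟨σ, hσ, hσt⟩ := GrothLib.NormalExt.exists_section (fun x => (hX x).2) g
    (U.fromSpecStalkOfMem (genericPoint X) hη ≫ s) (by rw [Category.assoc, hs, Scheme.Opens.fromSpecStalkOfMem_ι])
  refine ⟨σ, hσ, ?_⟩
  haveI : IsDominant (U.fromSpecStalkOfMem (genericPoint X) hη ≫ U.ι) := by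
    rw [Scheme.Opens.fromSpecStalkOfMem_ι]; exact GrothLib.NormalExt.isDominant_fromSpecStalk_genericPoint
  haveI : IsDominant (U.fromSpecStalkOfMem (genericPoint X) hη) := IsDominant.of_comp_of_isOpenImmersion _ U.ι
  haveI := isReduced_of_isOpenImmersion U.ι
  refine ext_of_isDominant_of_isSeparated g ?_ (U.fromSpecStalkOfMem (genericPoint X) hη) ?_
  · rw [Category.assoc, hσ, Category.comp_id, hs]
  · rw [← Category.assoc, Scheme.Opens.fromSpecStalkOfMem_ι, hσt]

end Groth.Agent.S2358
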