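import Groth.Statements.S2347
import Groth.Agent.S2358
import Groth.Agent.Lib.Japanese.IntegralSpec

set_option autoImplicit false
universe u
open CategoryTheory CategoryTheory.Limits AlgebraicGeometry
open EGA2

namespace Groth.Agent.S2347

/-- Let X be an integral normal scheme, X' an integral scheme and g : X' → X an integral morphism. If g
has a rational section (a morphism s from a dense open U of X to X' with g ∘ s the inclusion of U),
then g is an isomorphism. -/
theorem result {X X' : Scheme.{u}} [IsIntegral X] [IsIntegral X'] (hX : Pi1.IsNormalScheme X)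
    (g : X' ⟶ X) [IsIntegralHom g] (U : X.Opens) (hU : Dense (U : Set X)) (s : (U : Scheme.{u}) ⟶ X') (hs : s ≫ g = U.ι) :
    IsIso g := by
  have hη : genericPoint X ∈ U := by
    refine ((genericPoint_spec X).mem_open_set_iff U.isOpen).mpr ?_
    obtain ⟨z, hz⟩ := hU.nonempty
    exact ⟨z, trivial, hz⟩
  obtain ⟨σ, hσ, hσU⟩ := Groth.Agent.S2358.result hX g U hU s hs
  have hgσ : ∀ z, g (σ z) = z := fun z => by rw [← Scheme.Hom.comp_apply, hσ]; rfl
  have hgen : σ (genericPoint X) = genericPoint X' := by
    refine (GrothLib.Japanese.eq_of_specializes_of_isIntegralHom g (genericPoint_specializes _) ?_).symm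
    rw [hgσ]
    have hs' : g (genericPoint X') ⤳ genericPoint X := by
      have := (genericPoint_specializes (σ (genericPoint X))).map g.continuous
      rwa [hgσ] at this
    exact (Specializes.antisymm hs' (genericPoint_specializes _)).eq
  haveI : IsClosedImmersion σ := by
    have : IsClosedImmersion (σ ≫ g) := by rw [hσ]; infer_instance
    exact MorphismProperty.of_postcomp @IsClosedImmersion (W' := @IsSeparated) σ g inferInstance this
  haveI : IsDominant σ := by
    refine ⟨fun z => ?_⟩
    have h1 : genericPoint X' ∈ Set.range σ := ⟨_, hgen⟩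
    exact closure_mono (Set.singleton_subset_iff.mpr h1) ((genericPoint_spec X').symm ▸ Set.mem_univ z)
  haveI : Surjective σ := ⟨Set.range_eq_univ.mp (by
    rw [← σ.isClosedEmbedding.isClosed_range.closure_eq]; exact σ.denseRange.closure_range)⟩
  haveI : IsIso σ := isIso_of_isClosedImmersion_of_surjective σ
  exact ⟨σ, by rw [← cancel_epi σ, ← Category.assoc, hσ, Category.id_comp, Category.comp_id], hσ⟩

end Groth.Agent.S2347
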