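import Groth.Statements.S2349
import Groth.Agent.Lib.DVRDom.Scheme
import Groth.Agent.Lib.RedSub.Basic

set_option autoImplicit false
universe u
open CategoryTheory CategoryTheory.Limits AlgebraicGeometry
open EGA2

namespace Groth.Agent.S2349

/-- Let f : X → Y be separated and of finite type, and let j_i : X_i → X and h_i : Y_i → Y (i in a
finite index type) be closed immersions with morphisms f_i : X_i → Y_i satisfying j_i ≫ f = f_i ≫
h_i, such that the images of the j_i cover X. Then f is proper if and only if every f_i is proper. -/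
theorem result {X Y : Scheme.{u}} (f : X ⟶ Y) [IsSeparated f] [LocallyOfFiniteType f] [QuasiCompact f]
    (ι : Type u) [Finite ι] (Xi Yi : ι → Scheme.{u}) (j : ∀ i, Xi i ⟶ X) (h : ∀ i, Yi i ⟶ Y) (fi : ∀ i, Xi i ⟶ Yi i)
    [∀ i, IsClosedImmersion (j i)] [∀ i, IsClosedImmersion (h i)] (hcomm : ∀ i, j i ≫ f = fi i ≫ h i)
    (hcov : ∀ x : X, ∃ i, x ∈ Set.range (j i).base) : IsProper f ↔ ∀ i, IsProper (fi i) := by
  constructor
  · intro hP i
    have : IsProper (fi i ≫ h i) := by rw [← hcomm i]; infer_instance
    exact IsProper.of_comp (fi i) (h i)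
  intro H
  have : UniversallyClosed f := by
    refine UniversallyClosed.of_valuativeCriterion f
      (GrothLib.DVRDom.existence_of_lifts f (fun _ _ ↦ True)
        (fun x V₀ _ _ C _ _ _ ↦ by
          obtain ⟨V, hV⟩ := C.exists_le_valuationSubring
          exact ⟨V, trivial, hV⟩) ?_)
    intro x V _ y w
    obtain ⟨i, hi⟩ := hcov x
    obtain ⟨q', hq'⟩ := GrothLib.RedSub.exists_lift (X.fromSpecResidueField x) (j i) (by
      rintro _ ⟨z, rfl⟩
      exact (Scheme.fromSpecResidueField_apply x z).symm ▸ hi)
    have := H i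
    have hE : ValuativeCriterion.Existence (fi i ≫ h i) :=
      (UniversallyClosed.eq_valuativeCriterion.{u}.le _ _ _ inferInstance).1
    have w' : q' ≫ fi i ≫ h i = Spec.map (CommRingCat.ofHom (algebraMap V (X.residueField x))) ≫ y :=
      ((congrArg (q' ≫ ·) (hcomm i).symm).trans ((Category.assoc _ _ _).symm.trans (congrArg (· ≫ f) hq'))).trans w.symm
    obtain ⟨l, hl, hl'⟩ := GrothLib.DVRDom.exists_lift_of_existence (K := X.residueField x) hE q' y w'
    refine ⟨l ≫ j i, ?_, ?_⟩
    · rw [Category.assoc, hcomm i]; exact hl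
    · exact ((Category.assoc _ _ _).symm.trans (congrArg (· ≫ j i) hl')).trans hq'
  exact {}

end Groth.Agent.S2349
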