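import Groth.Statements.S2354
import Groth.Agent.Lib.DVRDom.Extend

set_option autoImplicit false
universe u
open CategoryTheory CategoryTheory.Limits AlgebraicGeometry
open EGA2

namespace Groth.Agent.S2354

/-- Extension over points of codimension ≤ 1: let Y be reduced and locally Noetherian with regular local
ring at every point whose local ring has dimension at most one, f : X → Y separated, of finite type
and closed as a map, V a dense open of Y and s : V → X a section of f over V. Then s extends to a
section of f over an open U ⊇ V containing every point of Y whose local ring has dimension at most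
one. (The source states that the indeterminacy locus has codimension ≥ 2 under the hypothesis that
the non-regular locus has codimension ≥ 2; with codimension measured by dimensions of local rings
this pointwise form is equivalent.) -/
theorem result {X Y : Scheme.{u}} [IsLocallyNoetherian Y] [IsReduced Y]
    (hreg : ∀ y : Y, ringKrullDim (Y.presheaf.stalk y) ≤ 1 → IsRegularLocalRing (Y.presheaf.stalk y))
    (f : X ⟶ Y) [IsSeparated f] [LocallyOfFiniteType f] [QuasiCompact f] (hcl : IsClosedMap f.base)
    (V : Y.Opens) (hV : Dense (V : Set Y)) (s : (V : Scheme.{u}) ⟶ X) (hs : s ≫ f = V.ι) :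
    ∃ (U : Y.Opens) (hVU : V ≤ U) (s' : (U : Scheme.{u}) ⟶ X), s' ≫ f = U.ι ∧ Y.homOfLE hVU ≫ s' = s ∧
      ∀ y : Y, ringKrullDim (Y.presheaf.stalk y) ≤ 1 → y ∈ U := by
  obtain ⟨U, hVU, s', h1, h2, h3⟩ := GrothLib.DVRDom.exists_extension_section f hcl V hV s hs
  refine ⟨U, hVU, s', h1, h2, fun y hy ↦ ?_⟩
  have := hreg y hy
  have := GrothLib.CMFree.isDomain_of_isRegularLocalRing (Y.presheaf.stalk y)
  exact h3 y this (GrothLib.DVRDom.valuationRing_of_isRegularLocalRing _ hy)

end Groth.Agent.S2354
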