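import Groth.Statements.S2355
import Groth.Agent.Lib.Ample.Functorial

set_option autoImplicit false
universe u
open CategoryTheory CategoryTheory.Limits AlgebraicGeometry
open EGA2

namespace Groth.Agent.S2355

/-- Let f : X → Y be quasi-compact, g : X' → X quasi-affine and L an O_X-module ample relative to f.
Then g^* L is ample relative to g ≫ f. -/
theorem result {X X' Y : Scheme.{u}} (f : X ⟶ Y) [QuasiCompact f] (g : X' ⟶ X) (hg : Mor2.IsQuasiAffine g)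
    (L : X.Modules) (hL : RelAmple.IsRelAmple f L) :
    RelAmple.IsRelAmple (g ≫ f) ((Scheme.Modules.pullback g).obj L) := by
  haveI := hg.1
  refine GrothLib.Ample.isRelAmple_of_cover fun y => ?_
  obtain ⟨W, hW, hyW, -⟩ := exists_isAffineOpen_mem_and_subset (TopologicalSpace.Opens.mem_top y)
  refine ⟨W, hyW, hW, ?_⟩
  let U : X.Opens := f ⁻¹ᵁ W
  let U' : X'.Opens := (g ≫ f) ⁻¹ᵁ W
  haveI : CompactSpace (U' : Scheme.{u}) :=
    isCompact_iff_compactSpace.mp ((g ≫ f).isCompact_preimage hW.isCompact)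
  let q : (U' : Scheme.{u}) ⟶ U := g.resLE U U' le_rfl
  have hA := (GrothLib.Ample.isAmple_restrict_iff U.ι L).mp (hL.2 ⟨W, hW⟩)
  obtain ⟨c, ⟨e⟩⟩ := GrothLib.Ample.exists_cocycle hA.1
  obtain ⟨d⟩ := c.nonempty_pullback_iso q e
  have hamp : CohB1.IsAmple ((Scheme.Modules.pullback q).obj ((Scheme.Modules.pullback U.ι).obj L)) := by
    refine ((c.comap q).isAmple_iff d).mpr ⟨inferInstance, (c.comap q).isAmp_of_quasiAffine_loci fun p => ?_⟩
    obtain ⟨n, a, hp, ha⟩ := ((c.isAmple_iff e).mp hA).2 (q p)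
    refine ⟨n, c.pullSect q le_top a, by rw [c.locus_pullSect]; exact hp, ?_⟩
    rw [c.locus_pullSect]
    haveI hq := hg.2 _ (ha.image_of_isOpenImmersion U.ι)
    let l : ((q ⁻¹ᵁ c.locus a : (U' : Scheme.{u}).Opens) : Scheme.{u}) ⟶ (g ⁻¹ᵁ (U.ι ''ᵁ c.locus a) : X'.Opens) :=
      IsOpenImmersion.lift (g ⁻¹ᵁ (U.ι ''ᵁ c.locus a)).ι ((q ⁻¹ᵁ c.locus a).ι ≫ U'.ι) (by
        rintro _ ⟨z, rfl⟩
        rw [Scheme.Opens.range_ι]
        refine ⟨q ((q ⁻¹ᵁ c.locus a).ι z), z.2, ?_⟩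
        show ((q ⁻¹ᵁ c.locus a).ι ≫ q ≫ U.ι) z = ((q ⁻¹ᵁ c.locus a).ι ≫ U'.ι ≫ g) z
        rw [Scheme.Hom.resLE_comp_ι])
    haveI : IsOpenImmersion (l ≫ (g ⁻¹ᵁ (U.ι ''ᵁ c.locus a)).ι) := by rw [IsOpenImmersion.lift_fac]; infer_instance
    haveI : IsOpenImmersion l := IsOpenImmersion.of_comp l (g ⁻¹ᵁ (U.ι ''ᵁ c.locus a)).ι
    haveI : CompactSpace ((q ⁻¹ᵁ c.locus a : (U' : Scheme.{u}).Opens) : Scheme.{u}) := by
      refine isCompact_iff_compactSpace.mp (U'.ι.isOpenEmbedding.isEmbedding.isInducing.isCompact_iff.mpr ?_)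
      show IsCompact ((U'.ι ''ᵁ (q ⁻¹ᵁ c.locus a) : X'.Opens) : Set X')
      have : U'.ι ''ᵁ (q ⁻¹ᵁ c.locus a) = g ⁻¹ᵁ (U.ι ''ᵁ c.locus a) := by
        ext x
        constructor
        · rintro ⟨z, hz, rfl⟩
          refine ⟨q z, hz, ?_⟩
          show (q ≫ U.ι) z = (U'.ι ≫ g) z
          rw [Scheme.Hom.resLE_comp_ι]
        · rintro ⟨w, hw, hwx⟩
          have hx : x ∈ U' := show g x ∈ U from hwx ▸ w.2
          refine ⟨⟨x, hx⟩, ?_, rfl⟩
          have : q ⟨x, hx⟩ = w := U.ι.isOpenEmbedding.injective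
            ((show (q ≫ U.ι) ⟨x, hx⟩ = (U'.ι ≫ g) ⟨x, hx⟩ by rw [Scheme.Hom.resLE_comp_ι]).trans hwx.symm)
          show q ⟨x, hx⟩ ∈ c.locus a
          rw [this]
          exact hw
      rw [this]
      exact g.isCompact_preimage (ha.image_of_isOpenImmersion U.ι).isCompact
    exact Scheme.IsQuasiAffine.of_isImmersion l
  rw [GrothLib.Ample.isAmple_pullback_comp_iff, Scheme.Hom.resLE_comp_ι,
    ← GrothLib.Ample.isAmple_pullback_comp_iff, ← GrothLib.Ample.isAmple_restrict_iff] at hamp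
  exact hamp

end Groth.Agent.S2355
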