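import Groth.Statements.S2357
import Groth.Agent.Lib.GradedAlg.Basic

set_option autoImplicit false
universe u
open CategoryTheory CategoryTheory.Limits AlgebraicGeometry
open EGA2

namespace Groth.Agent.S2357

/-- If A is a graded ring which is Noetherian, then Proj A is a Noetherian scheme. -/
theorem result {R A : Type u} [CommRing R] [CommRing A] [Algebra R A] (𝒜 : ℕ → Submodule R A) [GradedAlgebra 𝒜] [IsNoetherianRing A] :
    IsNoetherian (Proj 𝒜) := by
  have : IsNoetherianRing (𝒜 0) := GrothLib.GradedAlg.isNoetherianRing_zero (𝒜 := 𝒜)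
  have : Algebra.FiniteType (𝒜 0) A :=
    GrothLib.GradedAlg.finiteType_of_irrelevant_fg (𝒜 := 𝒜) (IsNoetherian.noetherian _)
  have : IsLocallyNoetherian (Proj 𝒜) := LocallyOfFiniteType.isLocallyNoetherian (Proj.toSpecZero 𝒜)
  have : CompactSpace (Proj 𝒜) := HasAffineProperty.iff_of_isAffine.mp (inferInstance : QuasiCompact (Proj.toSpecZero 𝒜))
  exact {}

end Groth.Agent.S2357
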