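import Groth.Statements.S2452
import Groth.Agent.Lib.AdicFS.Complete
import Groth.Agent.Lib.SepField.Smooth

set_option autoImplicit false
universe u
open EGA41

namespace Groth.Agent.S2452

open IsLocalRing in
/-- Let A be a local ring which is separated and complete for the adic topology of its maximal ideal
(not necessarily Noetherian), k a field contained in A, and suppose the residue field K of A is a
separable extension of k. Then there is a k-algebra section K → A of the residue map, i.e. a
coefficient field of A containing k. -/
theorem result {k A : Type u} [Field k] [CommRing A] [IsLocalRing A] [Algebra k A]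
    [IsAdicComplete (maximalIdeal A) A] [Algebra.IsGeometricallyReduced k (ResidueField A)] :
    ∃ σ : ResidueField A →ₐ[k] A, ∀ x : ResidueField A, residue A (σ x) = x := by
  haveI : Algebra.FormallySmooth k (ResidueField A) :=
    GrothLib.SepField.formallySmooth_iff_isGeometricallyReduced.2 inferInstance
  have hB : EGA41.IsFormallySmoothAdic k ⊥ (ResidueField A) ⊥ := fun C _ _ J hJ _ u _ =>
    Algebra.FormallySmooth.exists_lift J hJ u
  haveI : IsHausdorff ((maximalIdeal A).map (Ideal.Quotient.mk (maximalIdeal A)))
      (A ⧸ maximalIdeal A) := by
    rw [Ideal.map_quotient_self]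
    infer_instance
  obtain ⟨σ, -, hσ⟩ := GrothLib.AdicFS.exists_lift_adicComplete (𝔠 := maximalIdeal A) hB
    ⟨1, by rw [pow_one, Ideal.map_bot]; exact bot_le⟩ (J := maximalIdeal A) ⟨1, (pow_one _).le⟩
    (AlgHom.id k (ResidueField A)) ⟨1, by rw [pow_one, Ideal.map_bot]; exact bot_le⟩
  exact ⟨σ, fun x => AlgHom.congr_fun hσ x⟩

end Groth.Agent.S2452
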