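import Groth.Statements.S2455
import Groth.Agent.Lib.CohenAlg5.Basic

set_option autoImplicit false
universe u
open EGA41

namespace Groth.Agent.S2455

open IsLocalRing in
/-- Let A be a Noetherian local ring with residue field k and K a separable extension field of k. Then
there is a Cohen A-algebra B whose residue field is k-isomorphic to K; and two Cohen A-algebras
whose residue fields are k-isomorphic to K are isomorphic as A-algebras. -/
theorem result {A : Type u} [CommRing A] [IsLocalRing A] [IsNoetherianRing A]
    (K : Type u) [Field K] [Algebra (ResidueField A) K] [Algebra.IsGeometricallyReduced (ResidueField A) K] :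
    (∃ (B : Type u) (_ : CommRing B) (_ : IsLocalRing B) (_ : Algebra A B) (_ : IsLocalHom (algebraMap A B)),
      EGA41.IsCohenAlgebra A B ∧ Nonempty (ResidueField B ≃ₐ[ResidueField A] K)) ∧
    ∀ (B B' : Type u) [CommRing B] [IsLocalRing B] [Algebra A B] [IsLocalHom (algebraMap A B)]
      [CommRing B'] [IsLocalRing B'] [Algebra A B'] [IsLocalHom (algebraMap A B')],
      EGA41.IsCohenAlgebra A B → EGA41.IsCohenAlgebra A B' →
      Nonempty (ResidueField B ≃ₐ[ResidueField A] K) → Nonempty (ResidueField B' ≃ₐ[ResidueField A] K) →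
      Nonempty (B ≃ₐ[A] B') := by
  refine ⟨GrothLib.CohenAlg5.exists_cohenAlgebra K, fun B B' _ _ _ _ _ _ _ _ hB hB' h h' => ?_⟩
  obtain ⟨e⟩ := h
  obtain ⟨e'⟩ := h'
  exact GrothLib.CohenAlg5.nonempty_algEquiv hB hB' (e.trans e'.symm)

end Groth.Agent.S2455
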