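import Groth.Statements.S2457
import Groth.Agent.S2456

set_option autoImplicit false
universe u
open EGA41

namespace Groth.Agent.S2457

open IsLocalRing in
/-- Let W and W' be Cohen rings with residue fields K and K' and u : K ≅ K' an isomorphism. Then u is
induced by some isomorphism v : W ≅ W'. -/
theorem result {W W' : Type u} [CommRing W] [IsLocalRing W] [CommRing W'] [IsLocalRing W']
    (hW : EGA41.IsCohenRingEGA W) (hW' : EGA41.IsCohenRingEGA W') (u : ResidueField W ≃+* ResidueField W') :
    ∃ v : W ≃+* W', ∀ x : W, residue W' (v x) = u (residue W x) := by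
  have hNC : ∀ (V : Type u) [CommRing V] [IsLocalRing V], EGA41.IsCohenRingEGA V →
      IsNoetherianRing V ∧ IsAdicComplete (maximalIdeal V) V := by
    intro V _ _ hV
    rcases hV with ⟨hF, -⟩ | ⟨_, _, hc, -⟩
    · letI := hF.toField
      exact ⟨inferInstance, by rw [isField_iff_maximalIdeal_eq.1 hF]; infer_instance⟩
    · exact ⟨inferInstance, hc⟩
  obtain ⟨hN', hC'⟩ := hNC W' hW'
  haveI : IsLocalRing (W' ⧸ maximalIdeal W') := inferInstanceAs (IsLocalRing (ResidueField W'))
  let u₀ : W →+* W' ⧸ maximalIdeal W' := u.toRingHom.comp (residue W)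
  haveI : IsLocalHom u₀ := ⟨fun a ha => by
    rw [← residue_ne_zero_iff_isUnit]
    intro h
    refine ha.ne_zero ?_
    show u (residue W a) = 0
    rw [h, map_zero]⟩
  obtain ⟨v, hvloc, hv⟩ := Groth.Agent.S2456.result hW (maximalIdeal W') (maximalIdeal.isMaximal W').ne_top u₀
  have hv' : ∀ x, residue W' (v x) = u (residue W x) := fun x => RingHom.congr_fun hv x
  suffices hb : Function.Bijective v from ⟨RingEquiv.ofBijective v hb, hv'⟩
  haveI : CharP (ResidueField W) (ringChar (ResidueField W)) := ringChar.charP _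
  rcases hW with ⟨hF, h0⟩ | ⟨_, _, hc, p, hp, hm⟩
  · letI := hF.toField
    refine ⟨v.injective, fun y => ?_⟩
    rcases hW' with ⟨hF', -⟩ | ⟨_, _, -, q, hq, hm'⟩
    · obtain ⟨z, hz⟩ := u.surjective (residue W' y)
      obtain ⟨x, rfl⟩ := residue_surjective z
      refine ⟨x, ?_⟩
      have h1 : v x - y ∈ maximalIdeal W' := Ideal.Quotient.eq.1 ((hv' x).trans hz)
      rwa [isField_iff_maximalIdeal_eq.1 hF', Ideal.mem_bot, sub_eq_zero] at h1
    · exfalso
      have h1 : IsUnit ((q : W)) := isUnit_iff_ne_zero.2 (Nat.cast_ne_zero.2 hq.ne_zero)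
      have h2 := h1.map v
      rw [map_natCast] at h2
      exact (mem_maximalIdeal _).1 (hm' ▸ Ideal.mem_span_singleton_self _ : (q : W') ∈ maximalIdeal W') h2
  · have hp' : (p : W') ∈ maximalIdeal W' := by
      rw [← map_natCast v, mem_maximalIdeal, mem_nonunits_iff]
      intro h
      exact (mem_maximalIdeal _).1 (hm ▸ Ideal.mem_span_singleton_self _ : (p : W) ∈ maximalIdeal W)
        (IsLocalHom.map_nonunit (f := v) _ h)
    rcases hW' with ⟨hF', h0'⟩ | ⟨_, _, -, q, hq, hm'⟩
    · exfalso
      rw [isField_iff_maximalIdeal_eq.1 hF', Ideal.mem_bot] at hp'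
      exact Nat.cast_ne_zero.2 hp.ne_zero hp'
    · have hpq : p = q := by
        by_contra hne
        obtain ⟨a, b, hab⟩ := Nat.isCoprime_iff_coprime.2 ((Nat.coprime_primes hp hq).2 hne)
        refine (maximalIdeal.isMaximal W').ne_top ((Ideal.eq_top_iff_one _).2 ?_)
        rw [show (1 : W') = (a : W') * (p : W') + (b : W') * (q : W') by
          exact_mod_cast (congrArg (Int.cast (R := W')) hab).symm]
        exact add_mem (Ideal.mul_mem_left _ _ hp') (Ideal.mul_mem_left _ _ (hm' ▸ Ideal.mem_span_singleton_self _))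
      subst hpq
      haveI := GrothLib.Cohen.charZero_of_maximalIdeal_eq_span W' p hq hm'
      have hmap : (maximalIdeal W).map v = maximalIdeal W' := by
        rw [hm, Ideal.map_span, Set.image_singleton, map_natCast, hm']
      refine ⟨?_, ?_⟩
      · rw [RingHom.injective_iff_ker_eq_bot]
        by_contra hne
        haveI := RingHom.ker_isPrime v
        haveI : (RingHom.ker v).IsMaximal := Ideal.IsPrime.isMaximal inferInstance hne
        have h1 : (p : W) ∈ RingHom.ker v := by
          rw [IsLocalRing.eq_maximalIdeal ‹(RingHom.ker v).IsMaximal›, hm]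
          exact Ideal.mem_span_singleton_self _
        rw [RingHom.mem_ker, map_natCast] at h1
        exact Nat.cast_ne_zero.2 hp.ne_zero h1
      · haveI := hc
        haveI : IsHausdorff ((maximalIdeal W).map v) W' := by rw [hmap]; infer_instance
        refine surjective_of_mk_map_comp_surjective (I := maximalIdeal W) v fun y => ?_
        obtain ⟨y, rfl⟩ := Ideal.Quotient.mk_surjective y
        obtain ⟨z, hz⟩ := u.surjective (residue W' y)
        obtain ⟨x, rfl⟩ := residue_surjective z
        refine ⟨x, Ideal.Quotient.eq.2 ?_⟩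
        rw [hmap]
        exact Ideal.Quotient.eq.1 ((hv' x).trans hz)

end Groth.Agent.S2457
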