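import Groth.Statements.S2458
import Groth.Agent.S2452
import Groth.Agent.S2456
import Groth.Agent.Lib.Cohen.Exists
import Groth.Agent.Lib.Serre.Ring
import Mathlib

set_option autoImplicit false
universe u
open EGA41

namespace Groth.Agent.S2458

open IsLocalRing in
/-- An element outside the square of the maximal ideal belongs to a minimal system of generators. -/
theorem exists_complement {R : Type u} [CommRing R] [IsLocalRing R] [IsNoetherianRing R] (x : R)
    (hx : x ∈ maximalIdeal R) (hx2 : x ∉ maximalIdeal R ^ 2) :
    ∃ (n : ℕ) (y : Fin n → R), n + 1 = (maximalIdeal R).spanFinrank ∧ (∀ i, y i ∈ maximalIdeal R) ∧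
      Ideal.span ({x} ∪ Set.range y) = maximalIdeal R := by
  classical
  let V := CotangentSpace R
  let v : V := (maximalIdeal R).toCotangent ⟨x, hx⟩
  have hv : v ≠ 0 := fun hv => hx2 ((Ideal.toCotangent_eq_zero _ _).1 hv)
  let W : Submodule (ResidueField R) V := Submodule.span (ResidueField R) {v}
  let b := Module.finBasis (ResidueField R) (V ⧸ W)
  choose y1 hy1 using fun j => Submodule.Quotient.mk_surjective W (b j)
  choose y hy using fun j => (maximalIdeal R).toCotangent_surjective (y1 j)
  let s : Set (maximalIdeal R) := {⟨x, hx⟩} ∪ Set.range y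
  have hs : Submodule.span (ResidueField R) ((maximalIdeal R).toCotangent '' s) = ⊤ := by
    rw [Set.image_union, Submodule.span_union, Set.image_singleton, ← Set.range_comp,
      show (maximalIdeal R).toCotangent ∘ y = y1 from funext hy, sup_comm]
    refine eq_top_iff.2 ?_
    have := congrArg (Submodule.comap W.mkQ) b.span_eq
    rw [← show W.mkQ '' Set.range y1 = Set.range b by rw [← Set.range_comp]; exact congrArg Set.range (funext hy1),
      ← Submodule.map_span, Submodule.comap_map_eq, Submodule.ker_mkQ, Submodule.comap_top] at this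
    exact this.ge
  have hgen : Ideal.span (Subtype.val '' s) = maximalIdeal R := by
    have := congrArg (Submodule.map (maximalIdeal R).subtype) (CotangentSpace.span_image_eq_top_iff.1 hs)
    rwa [Submodule.map_span, Submodule.map_top, Submodule.range_subtype] at this
  refine ⟨_, fun j => (y j).1, ?_, fun j => (y j).2, ?_⟩
  · have h1 := Submodule.finrank_quotient_add_finrank W
    rw [finrank_span_singleton hv] at h1
    rw [h1, spanFinrank_maximalIdeal_eq_finrank_cotangentSpace]
  · refine Eq.trans ?_ hgen
    rw [Set.image_union, Set.image_singleton, ← Set.range_comp]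
    rfl

open IsLocalRing in
/-- A local ring with square zero maximal ideal is the square zero quotient of a regular local ring. -/
theorem exists_regular_aux {A R : Type u} [CommRing A] [IsLocalRing A] [IsArtinianRing A]
    (h : maximalIdeal A ^ 2 = ⊥) [CommRing R] [IsRegularLocalRing R] (ρ : R →+* A)
    (hρ : Function.Surjective ((residue A).comp ρ)) (S : Finset R) (hS : Ideal.span (S : Set R) = maximalIdeal R)
    {s : ℕ} (t : Fin s → A) (ht : ∀ i, t i ∈ maximalIdeal A)
    (hgen : maximalIdeal A ≤ Ideal.span (ρ '' S ∪ Set.range t))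
    (hcard : S.card + s ≤ (maximalIdeal A).spanFinrank) :
    ∃ (B : Type u) (_ : CommRing B) (_ : IsRegularLocalRing B), Nonempty (A ≃+* B ⧸ IsLocalRing.maximalIdeal B ^ 2) := by
  classical
  haveI : IsRegularRing R := GrothLib.Serre.isRegularRing_of_isRegularLocalRing R
  let P := MvPolynomial (Fin s) R
  let ψ : P →+* A := MvPolynomial.eval₂Hom ρ t
  have hC : ∀ r, ψ (MvPolynomial.C r) = ρ r := fun r => MvPolynomial.eval₂_C ρ t r
  have hX : ∀ i, ψ (MvPolynomial.X i) = t i := fun i => MvPolynomial.eval₂_X ρ t i
  have hmm : ∀ a ∈ maximalIdeal A, ∀ b ∈ maximalIdeal A, a * b = 0 := fun a ha b hb => by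
    have := Ideal.mul_mem_mul ha hb
    rwa [← pow_two, h, Ideal.mem_bot] at this
  have hmker : ∀ r ∈ maximalIdeal R, residue A (ρ r) = 0 := fun r hr => by
    have hk := IsLocalRing.eq_maximalIdeal (RingHom.ker_isMaximal_of_surjective ((residue A).comp ρ) hρ)
    exact hk.ge hr
  have hgm : ∀ g ∈ ρ '' (S : Set R) ∪ Set.range t, g ∈ maximalIdeal A := by
    rintro _ (⟨r, hr, rfl⟩ | ⟨i, rfl⟩)
    · exact (residue_eq_zero_iff _).1 (hmker r (hS.le (Ideal.subset_span hr)))
    · exact ht i
  have hψ : Function.Surjective ψ := by
    have hm : ∀ a ∈ maximalIdeal A, a ∈ ψ.range := fun a ha => by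
      have ha' := hgen ha
      induction ha' using Submodule.span_induction with
      | mem g hg =>
        rcases hg with ⟨r, -, rfl⟩ | ⟨i, rfl⟩
        · exact ⟨_, hC r⟩
        · exact ⟨_, hX i⟩
      | zero => exact zero_mem _
      | add x y hx hy hx' hy' =>
        exact add_mem (hx' (Ideal.span_le.2 hgm hx)) (hy' (Ideal.span_le.2 hgm hy))
      | smul c g hg hg' =>
        obtain ⟨r, hr⟩ := hρ (residue A c)
        have hcr : c - ρ r ∈ maximalIdeal A := by
          rw [← residue_eq_zero_iff, map_sub, sub_eq_zero]; exact hr.symm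
        have hgm' := Ideal.span_le.2 hgm hg
        rw [smul_eq_mul, show c * g = ρ r * g by linear_combination hmm _ hcr _ hgm']
        exact mul_mem ⟨_, hC r⟩ (hg' hgm')
    intro a
    obtain ⟨r, hr⟩ := hρ (residue A a)
    obtain ⟨q, hq⟩ := hm (a - ρ r) (by rw [← residue_eq_zero_iff, map_sub, sub_eq_zero]; exact hr.symm)
    exact ⟨MvPolynomial.C r + q, by rw [map_add, hC, hq, add_sub_cancel]⟩
  let P₀ : Ideal P := RingHom.ker ((residue A).comp ψ)
  haveI : P₀.IsMaximal := RingHom.ker_isMaximal_of_surjective _ (residue_surjective.comp hψ)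
  have hP₀ : P₀ = Ideal.span (((S.image MvPolynomial.C) : Finset P) ∪ Set.range MvPolynomial.X : Set P) := by
    refine le_antisymm (fun q hq => ?_) (Ideal.span_le.2 ?_)
    · let J : Ideal P := Ideal.span (((S.image MvPolynomial.C) : Finset P) ∪ Set.range MvPolynomial.X : Set P)
      have key : ∀ q : P, q - MvPolynomial.C (MvPolynomial.constantCoeff q) ∈ J := fun q => by
        induction q using MvPolynomial.induction_on with
        | C a => rw [MvPolynomial.constantCoeff_C, sub_self]; exact zero_mem _
        | add q q' h1 h2 => rw [map_add, map_add, add_sub_add_comm]; exact add_mem h1 h2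
        | mul_X q i _ =>
          rw [map_mul, MvPolynomial.constantCoeff_X, mul_zero, map_zero, sub_zero]
          exact J.mul_mem_left _ (Ideal.subset_span (Or.inr ⟨i, rfl⟩))
      have hle : J ≤ P₀ := Ideal.span_le.2 (by
        rintro _ (hc | ⟨i, rfl⟩)
        · obtain ⟨r, hr, rfl⟩ := Finset.mem_image.1 hc
          show residue A (ψ _) = 0
          rw [hC]; exact hmker r (hS.le (Ideal.subset_span hr))
        · show residue A (ψ _) = 0
          rw [hX]; exact (residue_eq_zero_iff _).2 (ht i))
      have h1 : MvPolynomial.constantCoeff q ∈ maximalIdeal R := by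
        rw [← IsLocalRing.eq_maximalIdeal (RingHom.ker_isMaximal_of_surjective ((residue A).comp ρ) hρ), RingHom.mem_ker]
        show residue A (ρ _) = 0
        rw [← hC]
        have := P₀.sub_mem hq (hle (key q))
        rwa [sub_sub_cancel] at this
      have h2 : MvPolynomial.C (MvPolynomial.constantCoeff q) ∈ J := by
        rw [← hS] at h1
        have := Ideal.mem_map_of_mem (MvPolynomial.C : R →+* P) h1
        rw [Ideal.map_span] at this
        refine Ideal.span_mono ?_ this
        rw [Finset.coe_image]
        exact Set.subset_union_left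
      have := J.add_mem (key q) h2
      rwa [sub_add_cancel] at this
    · rintro _ (hc | ⟨i, rfl⟩)
      · obtain ⟨r, hr, rfl⟩ := Finset.mem_image.1 hc
        show residue A (ψ _) = 0
        rw [hC]; exact hmker r (hS.le (Ideal.subset_span hr))
      · show residue A (ψ _) = 0
        rw [hX]; exact (residue_eq_zero_iff _).2 (ht i)
  let B := Localization.AtPrime P₀
  haveI : IsRegularLocalRing B := inferInstance
  have hunit : ∀ y : P₀.primeCompl, IsUnit (ψ y) := fun y => by
    by_contra hy
    exact y.2 ((residue_eq_zero_iff _).2 hy)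
  let φ : B →+* A := IsLocalization.lift hunit
  have hφ : Function.Surjective φ := fun a => by
    obtain ⟨q, hq⟩ := hψ a
    exact ⟨algebraMap P B q, by rw [IsLocalization.lift_eq, hq]⟩
  haveI : IsLocalHom φ := hφ.isLocalHom
  have hmap : (maximalIdeal B).map φ = maximalIdeal A := IsLocalRing.map_maximalIdeal_of_surjective φ hφ
  have hn : (maximalIdeal B).spanFinrank ≤ (maximalIdeal A).spanFinrank := by
    rw [← IsLocalization.AtPrime.map_eq_maximalIdeal P₀ B]
    refine (congrArg (fun I : Ideal P => (I.map (algebraMap P B)).spanFinrank) hP₀).trans_le ?_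
    rw [Ideal.map_span]
    refine (Submodule.spanFinrank_span_le_ncard_of_finite
      (((Finset.finite_toSet _).union (Set.finite_range _)).image _)).trans ?_
    refine (Set.ncard_image_le ((Finset.finite_toSet _).union (Set.finite_range _))).trans
      ((Set.ncard_union_le _ _).trans (le_trans (Nat.add_le_add ?_ ?_) hcard))
    · rw [Set.ncard_coe_finset]; exact Finset.card_image_le
    · have h2 := Finite.card_range_le (MvPolynomial.X : Fin s → P)
      rwa [Nat.card_coe_set_eq, Nat.card_fin] at h2
  have hker : RingHom.ker φ = maximalIdeal B ^ 2 := by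
    refine le_antisymm (fun x hx => by_contra fun hx2 => ?_) ?_
    · have hxn : x ∈ maximalIdeal B := fun hu => (hu.map φ).ne_zero hx
      obtain ⟨n, y, hn', hy, hspan⟩ := exists_complement x hxn hx2
      have hA : maximalIdeal A = Ideal.span (Set.range fun i => φ (y i)) := by
        rw [← hmap, ← hspan, Ideal.map_span, Set.image_union, Set.image_singleton, show φ x = 0 from hx,
          ← Set.range_comp, Ideal.span_union, Ideal.span_singleton_eq_bot.2 rfl, bot_sup_eq]
        rfl
      have h1 : (maximalIdeal A).spanFinrank ≤ n := by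
        rw [hA]
        refine (Submodule.spanFinrank_span_le_ncard_of_finite (Set.finite_range _)).trans ?_
        have h2 := Finite.card_range_le (fun i => φ (y i))
        rwa [Nat.card_coe_set_eq, Nat.card_fin] at h2
      omega
    · rw [← Ideal.map_eq_bot_iff_le_ker, Ideal.map_pow, hmap, h]
  exact ⟨B, inferInstance, ‹_›, ⟨(RingHom.quotientKerEquivOfSurjective hφ).symm.trans (Ideal.quotEquivOfEq hker)⟩⟩

open IsLocalRing in
/-- Let A be an Artinian local ring whose maximal ideal 𝔪 satisfies 𝔪² = 0. Then there is a regular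
local ring B with maximal ideal 𝔫 such that A ≅ B/𝔫². -/
theorem result {A : Type u} [CommRing A] [IsLocalRing A] [IsArtinianRing A]
    (h : maximalIdeal A ^ 2 = ⊥) :
    ∃ (B : Type u) (_ : CommRing B) (_ : IsRegularLocalRing B), Nonempty (A ≃+* B ⧸ IsLocalRing.maximalIdeal B ^ 2) := by
  classical
  have hm2 : IsAdicComplete (maximalIdeal A) A :=
    { haus' := fun x hx => by simpa [h] using hx 2
      prec' := fun f hf => ⟨f 2, fun k => by
        rcases le_total k 2 with hk | hk
        · exact hf hk
        · have hkn := hf hk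
          rw [h, Submodule.bot_smul, SModEq.bot] at hkn
          rw [hkn]⟩ }
  haveI := hm2
  let K := ResidueField A
  obtain ⟨d, hd⟩ : ∃ d, d = (maximalIdeal A).spanFinrank := ⟨_, rfl⟩
  have field_case : ∀ ρ : K →+* A, Function.Surjective ((residue A).comp ρ) →
      ∃ (B : Type u) (_ : CommRing B) (_ : IsRegularLocalRing B), Nonempty (A ≃+* B ⧸ IsLocalRing.maximalIdeal B ^ 2) := by
    intro ρ hρ
    obtain ⟨gs, hgs, hspan⟩ : ∃ g : Finset A, g.card = (maximalIdeal A).spanFinrank ∧ Ideal.span (g : Set A) = maximalIdeal A := by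
      have hfg : (maximalIdeal A).FG := IsNoetherian.noetherian _
      refine ⟨(Submodule.FG.finite_generators hfg).toFinset, ?_, ?_⟩
      · rw [← Set.ncard_eq_toFinset_card _ (Submodule.FG.finite_generators hfg)]; exact Submodule.FG.generators_ncard hfg
      · rw [Set.Finite.coe_toFinset]; exact Submodule.span_generators _
    refine exists_regular_aux h ρ hρ ∅ ?_ (fun i => (gs.equivFin.symm i : A)) (fun i => hspan.le (Ideal.subset_span (gs.equivFin.symm i).2)) ?_ ?_
    · rw [Finset.coe_empty, Ideal.span_empty, IsLocalRing.maximalIdeal_eq_bot]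
    · rw [← hspan]
      refine Ideal.span_mono fun a ha => Or.inr ⟨gs.equivFin ⟨a, ha⟩, ?_⟩
      simp
    · rw [Finset.card_empty, zero_add, hgs]
  obtain h0 | ⟨p, hp, hpk⟩ := CharP.exists' K
  · haveI : IsLocalRing (A ⧸ maximalIdeal A) := inferInstanceAs (IsLocalRing K)
    let u : K →+* A ⧸ maximalIdeal A := RingHom.id K
    haveI : IsLocalHom u := (show Function.Surjective u from fun x => ⟨x, rfl⟩).isLocalHom
    obtain ⟨v, -, hv⟩ := Groth.Agent.S2456.result (W := K) (C := A) (Or.inl ⟨Field.toIsField K, h0⟩) (maximalIdeal A)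
      (maximalIdeal.isMaximal A).ne_top u
    exact field_case v fun x => ⟨x, RingHom.congr_fun hv x⟩
  · haveI := hp
    by_cases hpA : (p : A) = 0
    · haveI : CharP A p := (CharP.charP_iff_prime_eq_zero hp.out).2 hpA
      letI : Algebra (ULift.{u} (ZMod p)) A :=
        ((ZMod.castHom (dvd_refl p) A).comp (ULift.ringEquiv : ULift.{u} (ZMod p) ≃+* ZMod p).toRingHom).toAlgebra
      haveI : Algebra.IsGeometricallyReduced (ULift.{u} (ZMod p)) (ResidueField A) :=
        GrothLib.SepField.isGeometricallyReduced_of_perfectField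
      obtain ⟨σ, hσ⟩ := Groth.Agent.S2452.result (k := ULift.{u} (ZMod p)) (A := A)
      exact field_case σ.toRingHom fun x => ⟨x, hσ x⟩
    · obtain ⟨W, _, _, hW, ⟨e⟩⟩ := GrothLib.Cohen.exists_cohenRing p hp.out K
      haveI : IsLocalRing (A ⧸ maximalIdeal A) := inferInstanceAs (IsLocalRing K)
      let u : W →+* A ⧸ maximalIdeal A := (e : ResidueField W →+* K).comp (residue W)
      haveI : IsLocalHom u := (show Function.Surjective u from e.surjective.comp residue_surjective).isLocalHom
      obtain ⟨v, -, hv⟩ := Groth.Agent.S2456.result (C := A) (Or.inr hW) (maximalIdeal A)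
        (maximalIdeal.isMaximal A).ne_top u
      have hvs : Function.Surjective ((residue A).comp v) := fun x => by
        obtain ⟨w, hw⟩ := (e.surjective.comp residue_surjective) x
        exact ⟨w, (RingHom.congr_fun hv w).trans hw⟩
      have hpm : (p : A) ∈ maximalIdeal A := (residue_eq_zero_iff _).1 (by rw [map_natCast]; exact CharP.cast_eq_zero K p)
      obtain ⟨n, y, hn, hy, hspan⟩ := exists_complement (p : A) hpm (by rw [h, Ideal.mem_bot]; exact hpA)
      obtain ⟨_, _, -, q, hq, hmW⟩ := hW
      have hqp : q = p := by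
        refine CharP.eq K ((CharP.charP_iff_prime_eq_zero hq).2 ?_) hpk
        have : residue W (q : W) = 0 := (residue_eq_zero_iff _).2 (hmW.ge (Ideal.mem_span_singleton_self _))
        rw [map_natCast] at this
        rw [← map_natCast e, this, map_zero]
      subst hqp
      refine exists_regular_aux h v hvs {(q : W)} ?_ y hy ?_ ?_
      · rw [Finset.coe_singleton, hmW]
      · rw [Finset.coe_singleton, Set.image_singleton, map_natCast, hspan]
      · rw [Finset.card_singleton]; omega

end Groth.Agent.S2458
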