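import Groth.Statements.S2459
import Groth.Agent.S2456
import Groth.Agent.Lib.Cohen.Exists
import Mathlib

set_option autoImplicit false
universe u
open EGA41

namespace Groth.Agent.S2459

open IsLocalRing in
/-- Let A be an Artinian local ring with maximal ideal 𝔪 and residue field of characteristic p (p = 0
allowed). Then A is isomorphic to a quotient of a Cohen ring if and only if 𝔪 is generated by p·1. -/
theorem result {A : Type u} [CommRing A] [IsLocalRing A] [IsArtinianRing A]
    (p : ℕ) [CharP (ResidueField A) p] :
    (∃ (W : Type u) (_ : CommRing W) (I : Ideal W), EGA41.IsCohenRingEGA W ∧ Nonempty (A ≃+* W ⧸ I)) ↔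
      maximalIdeal A = Ideal.span {(p : A)} := by
  have hnil : IsNilpotent (maximalIdeal A) := by
    have := IsArtinianRing.isNilpotent_jacobson_bot (R := A)
    rwa [IsLocalRing.jacobson_eq_maximalIdeal _ bot_ne_top] at this
  constructor
  · rintro ⟨W, _, I, hW, ⟨e⟩⟩
    haveI : Nontrivial (W ⧸ I) := e.injective.nontrivial
    let π : W →+* A := (e.symm : W ⧸ I →+* A).comp (Ideal.Quotient.mk I)
    have hπ : Function.Surjective π := e.symm.surjective.comp Ideal.Quotient.mk_surjective
    rcases hW with ⟨hf, hc⟩ | ⟨_, _, -, q, hq, hmW⟩
    · letI := hf.toField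
      haveI := hc
      have hb : Function.Bijective π := ⟨π.injective, hπ⟩
      have hA : maximalIdeal A = ⊥ := IsLocalRing.isField_iff_maximalIdeal_eq.1
        ((RingEquiv.ofBijective π hb).symm.toMulEquiv.isField hf)
      haveI : CharZero (ResidueField A) := ((residue A).comp π).injective |> charZero_of_injective_ringHom
      rw [CharP.eq (ResidueField A) ‹CharP (ResidueField A) p› (CharP.ofCharZero _), hA, Nat.cast_zero,
        Ideal.span_singleton_eq_bot.2 rfl]
    · haveI : IsLocalHom π := hπ.isLocalHom
      have hm : maximalIdeal A = Ideal.span {(q : A)} := by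
        rw [← IsLocalRing.map_maximalIdeal_of_surjective π hπ, hmW, Ideal.map_span, Set.image_singleton, map_natCast]
      have hq0 : (q : ResidueField A) = 0 := by
        rw [← map_natCast (residue A), residue_eq_zero_iff, hm]
        exact Ideal.mem_span_singleton_self _
      haveI := Fact.mk hq
      haveI : CharP (ResidueField A) q := (CharP.charP_iff_prime_eq_zero hq).2 hq0
      rw [CharP.eq (ResidueField A) ‹CharP (ResidueField A) p› ‹CharP (ResidueField A) q›, hm]
  · intro hm
    rcases CharP.char_is_prime_or_zero (ResidueField A) p with hp | hp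
    · obtain ⟨W, _, _, hW, ⟨e⟩⟩ := GrothLib.Cohen.exists_cohenRing p hp (ResidueField A)
      haveI : IsLocalRing (A ⧸ maximalIdeal A) := inferInstanceAs (IsLocalRing (ResidueField A))
      let u : W →+* A ⧸ maximalIdeal A := (e : ResidueField W →+* ResidueField A).comp (residue W)
      haveI : IsLocalHom u :=
        (show Function.Surjective u from e.surjective.comp residue_surjective).isLocalHom
      haveI : IsAdicComplete (maximalIdeal A) A := by
        obtain ⟨n, hn⟩ := hnil
        exact { haus' := fun x hx => by simpa [hn] using hx n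
                prec' := fun f hf => ⟨f n, fun k => by
                  rcases le_total k n with h | h
                  · exact hf h
                  · have hkn := hf h
                    rw [hn, Submodule.zero_eq_bot, Submodule.bot_smul, SModEq.bot] at hkn
                    rw [hkn]⟩ }
      obtain ⟨v, -, hv⟩ := Groth.Agent.S2456.result (C := A) (Or.inr hW) (maximalIdeal A)
        (IsLocalRing.maximalIdeal.isMaximal A).ne_top u
      refine ⟨W, inferInstance, RingHom.ker v, Or.inr hW, ⟨(RingHom.quotientKerEquivOfSurjective ?_).symm⟩⟩
      have hstep : ∀ n : ℕ, ∀ a : A, ∃ w, a - v w ∈ Ideal.span {(p : A) ^ n} := fun n => by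
        induction n with
        | zero => exact fun a => ⟨0, by simp⟩
        | succ n ih =>
          intro a
          obtain ⟨w, hw⟩ := ih a
          obtain ⟨b, hb⟩ := Ideal.mem_span_singleton'.1 hw
          obtain ⟨w', hw'⟩ := (e.surjective.comp residue_surjective) (residue A b)
          have h1 : b - v w' ∈ maximalIdeal A := by
            rw [← residue_eq_zero_iff, map_sub, sub_eq_zero]
            exact hw'.symm.trans (RingHom.congr_fun hv w').symm
          rw [hm] at h1
          obtain ⟨b', hb'⟩ := Ideal.mem_span_singleton'.1 h1
          refine ⟨w + w' * (p : W) ^ n, Ideal.mem_span_singleton'.2 ⟨b', ?_⟩⟩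
          rw [map_add, map_mul, map_pow, map_natCast]
          linear_combination (p : A) ^ n * hb' + hb
      intro a
      obtain ⟨n, hn⟩ := hnil
      obtain ⟨w, hw⟩ := hstep n a
      rw [← Ideal.span_singleton_pow, ← hm, hn, Submodule.zero_eq_bot, Ideal.mem_bot, sub_eq_zero] at hw
      exact ⟨w, hw.symm⟩
    · subst hp
      rw [Nat.cast_zero, Ideal.span_singleton_eq_bot.2 rfl, ← IsLocalRing.isField_iff_maximalIdeal_eq] at hm
      letI := hm.toField
      haveI : CharZero (ResidueField A) := CharP.charP_to_charZero _
      exact ⟨A, inferInstance, ⊥, Or.inl ⟨hm, RingHom.charZero (residue A)⟩, ⟨(RingEquiv.quotientBot A).symm⟩⟩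

end Groth.Agent.S2459
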