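import Groth.Statements.S2460
import Mathlib
import Groth.Agent.Lib.CKaehler2.Gens

set_option autoImplicit false
universe u
open EGA41

namespace Groth.Agent.S2460

open IsLocalRing


open IsLocalRing in
/-- Let A be a complete Noetherian local domain containing a field k₀ such that the residue field of A
is a finite extension of k₀. Then there are n and an injective local k₀-algebra homomorphism from
the power series ring k₀[[T_1, …, T_n]] into A making A a finite module over it. -/
theorem result {k₀ A : Type u} [Field k₀] [CommRing A] [IsDomain A] [IsLocalRing A] [IsNoetherianRing A]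
    [IsAdicComplete (maximalIdeal A) A] [Algebra k₀ A] [Module.Finite k₀ (ResidueField A)] :
    ∃ (n : ℕ) (w : MvPowerSeries (Fin n) k₀ →ₐ[k₀] A), Function.Injective w ∧ IsLocalHom w.toRingHom ∧ w.toRingHom.Finite := by
  classical
  obtain ⟨s, hmin, hcard⟩ := Ideal.exists_finset_card_eq_height_of_isNoetherianRing (maximalIdeal A)
  let x : Fin s.card → A := fun i => (s.equivFin.symm i : s)
  have hrange : Set.range x = (s : Set A) := Set.ext fun z =>
    ⟨fun ⟨i, hi⟩ => hi ▸ (s.equivFin.symm i).2, fun hz => ⟨s.equivFin ⟨z, hz⟩, by simp [x]⟩⟩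
  obtain ⟨alg, tow, -, hloc, hfin⟩ := GrothLib.CKaehler2.exists_finite_of_radical k₀ A x
    (fun i => hmin.1.2 (Ideal.subset_span (s.equivFin.symm i).2)) (by
      rw [hrange, Ideal.radical_eq_sInf]
      exact le_sInf fun P hP => hmin.2 ⟨hP.2, hP.1⟩ (le_maximalIdeal hP.2.ne_top))
  letI := alg
  haveI := tow
  haveI := hfin
  refine ⟨s.card, IsScalarTower.toAlgHom k₀ (MvPowerSeries (Fin s.card) k₀) A, ?_, hloc, RingHom.finite_algebraMap.2 hfin⟩
  exact GrothLib.CKaehler2.injective_of_dim k₀ A (by
    rw [← IsLocalRing.maximalIdeal_height_eq_ringKrullDim, ← hcard]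
    rfl)

end Groth.Agent.S2460
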