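import Groth.Statements.S2462
import Groth.Agent.Lib.AdicFS.Complete

set_option autoImplicit false
universe u
open EGA41

namespace Groth.Agent.S2462

open IsLocalRing in
/-- Let A carry the 𝔞-adic and B the 𝔟-adic topology with B formally smooth over A; let C be a complete
Noetherian local A-algebra with 𝔞C inside the maximal ideal (continuity of A → C) and J ≠ C an
ideal. Then every A-algebra homomorphism u : B → C/J sending 𝔟 into the maximal ideal of C/J
(continuity) is induced by an A-algebra homomorphism v : B → C sending 𝔟 into the maximal ideal of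
C. -/
theorem result {A B C : Type u} [CommRing A] (𝔞 : Ideal A) [CommRing B] [Algebra A B] (𝔟 : Ideal B)
    (hB : EGA41.IsFormallySmoothAdic A 𝔞 B 𝔟)
    [CommRing C] [IsLocalRing C] [IsNoetherianRing C] [IsAdicComplete (maximalIdeal C) C] [Algebra A C]
    (hA : 𝔞.map (algebraMap A C) ≤ maximalIdeal C) (J : Ideal C) (hJ : J ≠ ⊤)
    (u : B →ₐ[A] C ⧸ J) (hu : 𝔟.map u.toRingHom ≤ (maximalIdeal C).map (Ideal.Quotient.mk J)) :
    ∃ v : B →ₐ[A] C, 𝔟.map v.toRingHom ≤ maximalIdeal C ∧ (Ideal.Quotient.mkₐ A J).comp v = u := by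
  have hJm : J ≤ maximalIdeal C := IsLocalRing.le_maximalIdeal hJ
  haveI : IsHausdorff ((maximalIdeal C).map (Ideal.Quotient.mk J)) (C ⧸ J) := by
    haveI : Nontrivial (C ⧸ J) := Ideal.Quotient.nontrivial_iff.2 hJ
    haveI : IsLocalRing (C ⧸ J) := IsLocalRing.of_surjective' _ Ideal.Quotient.mk_surjective
    refine ⟨fun x hx => ?_⟩
    have h0 := Ideal.iInf_pow_smul_eq_bot_of_le_jacobson (M := C ⧸ J) ((maximalIdeal C).map (Ideal.Quotient.mk J))
      ((IsLocalRing.le_maximalIdeal fun htop => ?_).trans (IsLocalRing.maximalIdeal_le_jacobson _))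
    · rw [← Submodule.mem_bot (C ⧸ J), ← h0, Submodule.mem_iInf]
      exact fun n => SModEq.zero.1 (hx n)
    · have h1 := congrArg (Ideal.comap (Ideal.Quotient.mk J)) htop
      rw [Ideal.comap_map_of_surjective _ Ideal.Quotient.mk_surjective, ← RingHom.ker_eq_comap_bot,
        Ideal.mk_ker, sup_eq_left.2 hJm, Ideal.comap_top] at h1
      exact (IsLocalRing.maximalIdeal.isMaximal C).ne_top h1
  obtain ⟨v, -, hv⟩ := GrothLib.AdicFS.exists_lift_adicComplete (𝔠 := maximalIdeal C) hB
    ⟨1, by rw [pow_one]; exact hA⟩ ⟨1, by rw [pow_one]; exact hJm⟩ u ⟨1, by rw [pow_one]; exact hu⟩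
  refine ⟨v, Ideal.map_le_iff_le_comap.2 fun x hx => ?_, hv⟩
  have h1 : Ideal.Quotient.mk J (v x) ∈ (maximalIdeal C).map (Ideal.Quotient.mk J) := by
    rw [show Ideal.Quotient.mk J (v x) = u x from AlgHom.congr_fun hv x]
    exact hu (Ideal.mem_map_of_mem u.toRingHom hx)
  rw [Ideal.mem_quotient_iff_mem_sup, sup_eq_left.2 hJm] at h1
  exact h1

end Groth.Agent.S2462
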