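import Groth.Statements.S2464
import Groth.Agent.Lib.PBasis.Radicial

set_option autoImplicit false
universe u
open EGA41

namespace Groth.Agent.S2464

/-- Let p be a prime, B a ring of characteristic p and A → B an injective ring map whose image contains
every p-th power, and (x_α) a p-basis of B over A. Let E be an A-algebra and q : E → B a surjective
A-algebra homomorphism whose kernel K has K^p = 0. (i) q admits an A-algebra right inverse if and
only if, for all z ∈ E and a ∈ A with a ↦ q(z)^p in B, the image of a in E is z^p. (ii) When this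
holds, for every family (z_α) in E with q(z_α) = x_α there is a unique A-algebra homomorphism v : B
→ E with v(x_α) = z_α for all α, and q ∘ v is the identity. -/
theorem result (p : ℕ) [Fact p.Prime] {A B : Type u} [CommRing A] [CommRing B] [Algebra A B] [CharP B p]
    (hinj : Function.Injective (algebraMap A B)) (hpow : ∀ b : B, b ^ p ∈ Set.range (algebraMap A B))
    {ι : Type u} (x : ι → B) (hx : EGA41.IsPBasis p A x)
    {E : Type u} [CommRing E] [Algebra A E] (q : E →ₐ[A] B) (hq : Function.Surjective q) (hK : RingHom.ker q.toRingHom ^ p = ⊥) :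
    ((∃ v : B →ₐ[A] E, q.comp v = AlgHom.id A B) ↔ ∀ (z : E) (a : A), algebraMap A B a = q z ^ p → algebraMap A E a = z ^ p) ∧
    ((∀ (z : E) (a : A), algebraMap A B a = q z ^ p → algebraMap A E a = z ^ p) →
      ∀ z : ι → E, (∀ i, q (z i) = x i) →
        (∃! v : B →ₐ[A] E, ∀ i, v (x i) = z i) ∧ ∀ v : B →ₐ[A] E, (∀ i, v (x i) = z i) → q.comp v = AlgHom.id A B) := by
  have h := GrothLib.PBasis.isRootBasis_base hinj hpow hx
  refine ⟨?_, fun hZ z hz => ?_⟩
  rotate_left
  · obtain ⟨v, hv⟩ := h.exists_lift (E := E) z (fun i c hc => (hZ (z i) c (by rw [hz i, hc])).symm)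
    refine ⟨⟨v, hv, fun w hw => h.algHom_ext fun i => by rw [hw i, hv i]⟩, fun w hw => ?_⟩
    exact h.algHom_ext fun i => by rw [AlgHom.comp_apply, hw i, hz i]; rfl
  constructor
  · rintro ⟨v, hv⟩ z a hza
    have hK' : z - v (q z) ∈ RingHom.ker q.toRingHom := by
      rw [RingHom.mem_ker, AlgHom.toRingHom_eq_coe, RingHom.coe_coe, map_sub, ← AlgHom.comp_apply,
        hv, AlgHom.id_apply, sub_self]
    have h0 : (p : E) = 0 := by rw [← map_natCast v, CharP.cast_eq_zero B p, map_zero]
    rw [GrothLib.PBasis.pow_eq_of_sub_mem p h0 hK hK', ← map_pow, ← hza, v.commutes]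
  · intro hZ
    choose z hz using fun i => hq (x i)
    obtain ⟨v, hv⟩ := h.exists_lift (E := E) z (fun i c hc => (hZ (z i) c (by rw [hz i, hc])).symm)
    exact ⟨v, h.algHom_ext fun i => by rw [AlgHom.comp_apply, hv i, hz i]; rfl⟩

end Groth.Agent.S2464
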