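import Groth.Statements.S2466
import Groth.Agent.Lib.PBasis.Radicial

set_option autoImplicit false
universe u
open EGA41

namespace Groth.Agent.S2466

/-- Let p be a prime, B an A-algebra of characteristic p and (x_α) a p-basis of B over A. Then the
family of differentials (d_{B/A} x_α) is a basis of the B-module Ω_{B/A}. -/
theorem result (p : ℕ) [Fact p.Prime] {A B : Type u} [CommRing A] [CommRing B] [Algebra A B] [CharP B p]
    {ι : Type u} (x : ι → B) (hx : EGA41.IsPBasis p A x) :
    ∃ b : Module.Basis ι B (Ω[B⁄A]), ∀ i, b i = KaehlerDifferential.D A B (x i) := by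
  exact GrothLib.PBasis.exists_basis_kaehler (CharP.cast_eq_zero B p) x hx

end Groth.Agent.S2466
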