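import Groth.Statements.S2470
import Groth.Agent.Lib.Serre.Regular
import Groth.Agent.Lib.RegLoc.Basic
import Groth.Agent.Lib.FibreFlat.RegularFlat
import Groth.Agent.Lib.CMBasics.DimIneq
import Mathlib

set_option autoImplicit false
universe u
open EGA41

namespace Groth.Agent.S2470

open IsLocalRing in
/-- Minimal generators of the maximal ideal. -/
theorem exists_gens (R : Type u) [CommRing R] [IsLocalRing R] [IsNoetherianRing R] :
    ∃ x : Fin (maximalIdeal R).spanFinrank → R, Ideal.span (Set.range x) = maximalIdeal R := by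
  have hfg : (maximalIdeal R).FG := IsNoetherian.noetherian _
  obtain ⟨s, hs, hspan⟩ : ∃ s : Finset R, s.card = (maximalIdeal R).spanFinrank ∧ Ideal.span (s : Set R) = maximalIdeal R := by
    refine ⟨(Submodule.FG.finite_generators hfg).toFinset, ?_, ?_⟩
    · rw [← Set.ncard_eq_toFinset_card _ (Submodule.FG.finite_generators hfg)]
      exact Submodule.FG.generators_ncard hfg
    · rw [Set.Finite.coe_toFinset]
      exact Submodule.span_generators _
  refine ⟨fun i => ((s.equivFin.trans (finCongr hs)).symm i : R), Eq.trans ?_ hspan⟩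
  congr 1
  ext r
  constructor
  · rintro ⟨i, rfl⟩; exact ((s.equivFin.trans (finCongr hs)).symm i).2
  · intro hr; exact ⟨(s.equivFin.trans (finCongr hs)) ⟨r, hr⟩, by simp⟩

open IsLocalRing in
/-- Lifts of generators of the maximal ideal of a quotient. -/
theorem exists_lift_gens {R : Type u} [CommRing R] [IsLocalRing R] [IsNoetherianRing R] (I : Ideal R)
    (hI : I ≤ maximalIdeal R) [IsLocalRing (R ⧸ I)] :
    ∃ y : Fin (maximalIdeal (R ⧸ I)).spanFinrank → R, (∀ i, y i ∈ maximalIdeal R) ∧
      I ⊔ Ideal.span (Set.range y) = maximalIdeal R := by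
  haveI : IsLocalHom (Ideal.Quotient.mk I) := Ideal.Quotient.mk_surjective.isLocalHom
  have hmap : (maximalIdeal R).map (Ideal.Quotient.mk I) = maximalIdeal (R ⧸ I) :=
    IsLocalRing.map_maximalIdeal_of_surjective _ Ideal.Quotient.mk_surjective
  obtain ⟨z, hz⟩ := exists_gens (R ⧸ I)
  choose y hy using fun i => Ideal.Quotient.mk_surjective (z i)
  have hcomap : (maximalIdeal (R ⧸ I)).comap (Ideal.Quotient.mk I) = maximalIdeal R :=
    IsLocalRing.eq_maximalIdeal (Ideal.comap_isMaximal_of_surjective _ Ideal.Quotient.mk_surjective)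
  have hym : ∀ i, y i ∈ maximalIdeal R := fun i => by
    rw [← hcomap, Ideal.mem_comap, hy, ← hz]
    exact Ideal.subset_span ⟨i, rfl⟩
  refine ⟨y, hym, ?_⟩
  refine Eq.trans ?_ ((congrArg (Ideal.comap (Ideal.Quotient.mk I)) hz).trans hcomap)
  rw [← show Ideal.Quotient.mk I '' Set.range y = Set.range z by
    rw [← Set.range_comp]; exact congrArg Set.range (funext hy), ← Ideal.map_span,
    Ideal.comap_map_of_surjective _ Ideal.Quotient.mk_surjective, ← RingHom.ker_eq_comap_bot, Ideal.mk_ker, sup_comm]

open IsLocalRing in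
theorem exists_nat_dim (R : Type u) [CommRing R] [IsLocalRing R] [IsNoetherianRing R] :
    ∃ d : ℕ, ringKrullDim R = (d : WithBot ℕ∞) := by
  rcases hd : ringKrullDim R with _ | d
  · exact absurd hd ringKrullDim_ne_bot
  · rcases d with _ | d
    · exact absurd hd ringKrullDim_ne_top
    · exact ⟨d, rfl⟩

open IsLocalRing in
/-- Dimension formula for flat local homomorphisms. -/
theorem ringKrullDim_eq_add_of_flat (A B : Type u) [CommRing A] [CommRing B] [IsLocalRing A] [IsLocalRing B]
    [IsNoetherianRing A] [IsNoetherianRing B] [Algebra A B] [IsLocalHom (algebraMap A B)] [Module.Flat A B]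
    [IsLocalRing (B ⧸ (maximalIdeal A).map (algebraMap A B))] :
    ringKrullDim B = ringKrullDim A + ringKrullDim (B ⧸ (maximalIdeal A).map (algebraMap A B)) := by
  haveI : (maximalIdeal B).LiesOver (maximalIdeal A) :=
    ⟨(((local_hom_TFAE (algebraMap A B)).out 0 4 rfl rfl).1 inferInstance).symm⟩
  haveI : IsLocalHom (Ideal.Quotient.mk ((maximalIdeal A).map (algebraMap A B))) :=
    Ideal.Quotient.mk_surjective.isLocalHom
  rw [← maximalIdeal_height_eq_ringKrullDim, ← maximalIdeal_height_eq_ringKrullDim,
    ← maximalIdeal_height_eq_ringKrullDim, ← WithBot.coe_add, WithBot.coe_inj,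
    ← IsLocalRing.map_maximalIdeal_of_surjective (Ideal.Quotient.mk _) Ideal.Quotient.mk_surjective]
  exact Ideal.height_eq_height_add_of_liesOver_of_hasGoingDown (maximalIdeal A) (maximalIdeal B)

open IsLocalRing in
/-- Let A → B be a local homomorphism of Noetherian local rings with maximal ideals 𝔪, 𝔫 and residue
fields k, k', and let B₀ = B/𝔪B be the closed fibre. The following are equivalent: (a) B is regular
and the canonical map (𝔪/𝔪²) ⊗_k k' → 𝔫/𝔫² is injective — stated here through dimensions, as
rank_{k'} 𝔫/𝔫² = rank_k 𝔪/𝔪² + rank_{k'} of the cotangent space of B₀, which is equivalent since the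
cokernel of that map is the cotangent space of B₀; (c) B and B₀ are regular and B is flat over A;
(d) A and B₀ are regular and B is flat over A; (e) A and B₀ are regular and dim B = dim A + dim B₀.
(Condition (b) of the source, on regular systems of parameters, is not stated.) -/
theorem result {A B : Type u} [CommRing A] [IsLocalRing A] [IsNoetherianRing A] [CommRing B] [IsLocalRing B] [IsNoetherianRing B]
    [Algebra A B] [IsLocalHom (algebraMap A B)] [IsLocalRing (B ⧸ (maximalIdeal A).map (algebraMap A B))] :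
    [IsRegularLocalRing B ∧
       Module.finrank (ResidueField B) (CotangentSpace B) =
         Module.finrank (ResidueField A) (CotangentSpace A) +
           Module.finrank (ResidueField (B ⧸ (maximalIdeal A).map (algebraMap A B))) (CotangentSpace (B ⧸ (maximalIdeal A).map (algebraMap A B))),
     IsRegularLocalRing B ∧ IsRegularLocalRing (B ⧸ (maximalIdeal A).map (algebraMap A B)) ∧ Module.Flat A B,
     IsRegularLocalRing A ∧ IsRegularLocalRing (B ⧸ (maximalIdeal A).map (algebraMap A B)) ∧ Module.Flat A B,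
     IsRegularLocalRing A ∧ IsRegularLocalRing (B ⧸ (maximalIdeal A).map (algebraMap A B)) ∧
       ringKrullDim B = ringKrullDim A + ringKrullDim (B ⧸ (maximalIdeal A).map (algebraMap A B))].TFAE := by
  classical
  let I := (maximalIdeal A).map (algebraMap A B)
  let B0 := B ⧸ I
  let sA := (maximalIdeal A).spanFinrank
  let s0 := (maximalIdeal B0).spanFinrank
  have hIle : I ≤ maximalIdeal B := ((local_hom_TFAE (algebraMap A B)).out 0 2).1 ‹_›
  obtain ⟨x, hx⟩ := exists_gens A
  obtain ⟨y, hy, hxy⟩ := exists_lift_gens I hIle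
  have hgenB : Ideal.span (Set.range (Fin.append (fun i => algebraMap A B (x i)) y)) = maximalIdeal B := by
    rw [show ∀ (m n : ℕ) (f : Fin m → B) (g : Fin n → B), Set.range (Fin.append f g) = Set.range f ∪ Set.range g from
      fun m n f g => Set.ext fun b => ⟨fun ⟨i, hi⟩ => by
        refine Fin.addCases (fun i hi => Or.inl ⟨i, by simpa using hi⟩) (fun i hi => Or.inr ⟨i, by simpa using hi⟩) i hi,
        fun h => h.elim (fun ⟨i, hi⟩ => ⟨Fin.castAdd n i, by simpa using hi⟩) fun ⟨i, hi⟩ => ⟨Fin.natAdd m i, by simpa using hi⟩⟩, Ideal.span_union]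
    refine Eq.trans (congrArg (· ⊔ _) ?_) hxy
    show _ = (maximalIdeal A).map (algebraMap A B)
    refine Eq.trans ?_ (congrArg (Ideal.map (algebraMap A B)) hx)
    rw [Ideal.map_span, ← Set.range_comp]
    rfl
  have hle : (maximalIdeal B).spanFinrank ≤ sA + s0 := by
    rw [← hgenB]
    refine (Submodule.spanFinrank_span_le_ncard_of_finite (Set.finite_range _)).trans ?_
    have h2 := Finite.card_range_le (Fin.append (fun i => algebraMap A B (x i)) y)
    rwa [Nat.card_coe_set_eq, Nat.card_fin] at h2
  have hdimle := GrothLib.CMBasics.ringKrullDim_le_add_fibre A B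
  simp only [← spanFinrank_maximalIdeal_eq_finrank_cotangentSpace]
  tfae_have 2 → 3 := fun ⟨hB, h0, hf⟩ => ⟨by
    haveI := hB; haveI := hf
    exact GrothLib.Serre.isRegularLocalRing_of_flat A B, h0, hf⟩
  tfae_have 3 → 4 := fun ⟨hA, h0, hf⟩ => ⟨hA, h0, by
    haveI := hf
    exact ringKrullDim_eq_add_of_flat A B⟩
  tfae_have 4 → 1 := fun ⟨hA, h0, hd⟩ => by
    have hA' := (isRegularLocalRing_iff A).1 hA
    have h0' := (isRegularLocalRing_iff B0).1 h0
    have h1 : ((sA + s0 : ℕ) : WithBot ℕ∞) = ringKrullDim B := by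
      rw [hd, ← hA', ← h0', Nat.cast_add]
    have hB : IsRegularLocalRing B := IsRegularLocalRing.of_spanFinrank_maximalIdeal_le B
      ((Nat.cast_le.2 hle).trans h1.le)
    refine ⟨hB, ?_⟩
    have h2 := (isRegularLocalRing_iff B).1 hB
    rw [← h1] at h2
    exact_mod_cast h2
  tfae_have 1 → 2 := fun ⟨hB, hcot⟩ => by
    haveI := hB
    have hdB : ringKrullDim B = ((sA + s0 : ℕ) : WithBot ℕ∞) := by
      rw [← IsRegularLocalRing.spanFinrank_maximalIdeal (R := B), hcot]
    obtain ⟨dA, hdA⟩ : ∃ dA : ℕ, ringKrullDim A = (dA : WithBot ℕ∞) := exists_nat_dim A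
    obtain ⟨d0, hd0⟩ : ∃ d0 : ℕ, ringKrullDim B0 = (d0 : WithBot ℕ∞) := exists_nat_dim B0
    have hA1 : dA ≤ sA := by
      have := ringKrullDim_le_spanFinrank_maximalIdeal A
      rw [hdA] at this; exact_mod_cast this
    have h01 : d0 ≤ s0 := by
      have := ringKrullDim_le_spanFinrank_maximalIdeal B0
      rw [hd0] at this; exact_mod_cast this
    have h3 : sA + s0 ≤ dA + d0 := by
      have h4 : ringKrullDim B ≤ ringKrullDim A + ringKrullDim B0 := hdimle
      rw [hdB, hdA, hd0] at h4; exact_mod_cast h4
    have hA : IsRegularLocalRing A := IsRegularLocalRing.of_spanFinrank_maximalIdeal_le A (by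
      rw [hdA]; exact_mod_cast (show sA ≤ dA by omega))
    have h0 : IsRegularLocalRing B0 := IsRegularLocalRing.of_spanFinrank_maximalIdeal_le B0 (by
      rw [hd0]; exact_mod_cast (show s0 ≤ d0 by omega))
    haveI := hA
    refine ⟨hB, h0, GrothLib.FibreFlat.flat_of_weaklyRegular (List.ofFn x)
      (GrothLib.RegLoc.isWeaklyRegular_ofFn sA A rfl x hx) ?_ ?_ ?_⟩
    · have h2 := GrothLib.RegLoc.isWeaklyRegular_ofFn (sA + s0) B hcot _ hgenB
      rw [List.ofFn_fin_append, RingTheory.Sequence.isWeaklyRegular_append_iff] at h2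
      rw [← RingTheory.Sequence.isWeaklyRegular_map_algebraMap_iff B B, List.map_ofFn]
      exact h2.1
    · intro t ht
      obtain ⟨i, rfl⟩ := List.mem_ofFn.mp ht
      exact hIle (Ideal.mem_map_of_mem _ (hx ▸ Ideal.subset_span ⟨i, rfl⟩))
    · have e : Ideal.ofList (List.ofFn x) = maximalIdeal A := by
        refine Eq.trans ?_ hx
        rw [Ideal.ofList]
        congr 1
        ext r
        simp [List.mem_ofFn]
      rw [e]
      exact (Ideal.Quotient.maximal_ideal_iff_isField_quotient _).mp inferInstance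
  tfae_finish

end Groth.Agent.S2470
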