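import Groth.Statements.S2476
import Groth.Agent.S2469
import Groth.Agent.S2471
import Groth.Agent.Lib.AdicLim.Finite
import Mathlib

set_option autoImplicit false
universe u
open EGA41

namespace Groth.Agent.S2476

open IsLocalRing TensorProduct

/-- The residue map of an adically formally smooth local algebra maps to every infinitesimal extension. -/
theorem exists_hom_infinitesimal {k₀ A : Type u} [Field k₀] [CommRing A] [IsLocalRing A] [Algebra k₀ A]
    (hfs : CAlgX.IsAdicFormallySmooth k₀ A (maximalIdeal A)) (P : Algebra.Extension.{u} k₀ (ResidueField A)) :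
    Nonempty ((Algebra.Extension.ofSurjective (IsScalarTower.toAlgHom k₀ A (ResidueField A))
      residue_surjective).infinitesimal.Hom P.infinitesimal) := by
  let E : Algebra.Extension.{u} k₀ (ResidueField A) :=
    Algebra.Extension.ofSurjective (IsScalarTower.toAlgHom k₀ A (ResidueField A)) residue_surjective
  let π : P.infinitesimal.Ring →ₐ[k₀] ResidueField A := IsScalarTower.toAlgHom k₀ P.infinitesimal.Ring (ResidueField A)
  have hπ : Function.Surjective π := fun x => ⟨_, P.infinitesimal.algebraMap_σ x⟩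
  have hJ : RingHom.ker π ^ 2 = ⊥ := by
    have h : P.infinitesimal.ker ^ 2 = ⊥ := by
      rw [Algebra.Extension.ker_infinitesimal]; exact Ideal.cotangentIdeal_square _
    exact h
  let e := Ideal.quotientKerAlgEquivOfSurjective hπ
  obtain ⟨χ, hχ⟩ := hfs P.infinitesimal.Ring (RingHom.ker π) hJ
    (e.symm.toAlgHom.comp (IsScalarTower.toAlgHom k₀ A (ResidueField A))) ⟨1, fun x hx => by
      rw [pow_one] at hx
      show e.symm (residue A x) = 0
      rw [(residue_eq_zero_iff x).2 hx, map_zero]⟩
  have hχ' : ∀ a, π (χ a) = residue A a := fun a => by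
    have h : Ideal.Quotient.mk (RingHom.ker π) (χ a) = e.symm (residue A a) := AlgHom.congr_fun hχ a
    have h2 := congrArg e h
    rw [AlgEquiv.apply_symm_apply] at h2
    exact h2
  exact ⟨{
    toRingHom := Ideal.Quotient.lift (E.ker ^ 2) χ.toRingHom (fun a ha => by
      have hle : E.ker ≤ (RingHom.ker π).comap χ.toRingHom := fun b hb => (hχ' b).trans hb
      have h3 : χ.toRingHom a ∈ RingHom.ker π ^ 2 :=
        Ideal.le_comap_pow χ.toRingHom 2 (Ideal.pow_right_mono hle 2 ha)
      rwa [hJ, Ideal.mem_bot] at h3)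
    toRingHom_algebraMap := fun x => χ.commutes x
    algebraMap_toRingHom := fun x => by
      obtain ⟨a, rfl⟩ := Ideal.Quotient.mk_surjective x
      exact hχ' a }⟩

/-- The first homology of the residue map of an adically formally smooth local algebra. -/
theorem h1Cotangent_residue {k₀ A : Type u} [Field k₀] [CommRing A] [IsLocalRing A] [Algebra k₀ A]
    (hfs : CAlgX.IsAdicFormallySmooth k₀ A (maximalIdeal A)) :
    Nonempty ((Algebra.Extension.ofSurjective (IsScalarTower.toAlgHom k₀ A (ResidueField A))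
      residue_surjective).H1Cotangent ≃ₗ[ResidueField A] Algebra.H1Cotangent k₀ (ResidueField A)) := by
  obtain ⟨f⟩ := exists_hom_infinitesimal hfs (Algebra.Generators.self k₀ (ResidueField A)).toExtension
  haveI : Algebra.FormallySmooth k₀ (Algebra.Generators.self k₀ (ResidueField A)).toExtension.Ring :=
    (inferInstance : Algebra.FormallySmooth k₀ (MvPolynomial (ResidueField A) k₀))
  exact ⟨(LinearEquiv.ofBijective _ (Algebra.Extension.H1Cotangent.map_toInfinitesimal_bijective _)).trans
    ((Algebra.Extension.H1Cotangent.equiv f (Algebra.Extension.homInfinitesimal _ _)).trans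
      (LinearEquiv.ofBijective _ (Algebra.Extension.H1Cotangent.map_toInfinitesimal_bijective _)).symm)⟩

/-- The rank of `Ω ⊗ K` for an adically formally smooth local algebra. -/
theorem finrank_tensor_kaehler {k₀ A : Type u} [Field k₀] [CommRing A] [IsLocalRing A] [IsNoetherianRing A]
    [Algebra k₀ A] (hfs : CAlgX.IsAdicFormallySmooth k₀ A (maximalIdeal A))
    [Algebra.EssFiniteType k₀ (ResidueField A)] :
    Module.Finite (ResidueField A) (ResidueField A ⊗[A] Ω[A⁄k₀]) ∧
      (Module.finrank (ResidueField A) (ResidueField A ⊗[A] Ω[A⁄k₀]) : ℤ) =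
        (maximalIdeal A).spanFinrank + Cardinal.toNat (Algebra.trdeg k₀ (ResidueField A)) := by
  let K := ResidueField A
  let E : Algebra.Extension.{u} k₀ K :=
    Algebra.Extension.ofSurjective (IsScalarTower.toAlgHom k₀ A (ResidueField A)) residue_surjective
  obtain ⟨hΩ, hH, heq⟩ := Groth.Agent.S2469.euler_h1Cotangent (K := k₀) (L := K)
  obtain ⟨e1⟩ := h1Cotangent_residue hfs
  haveI : IsLocalRing E.Ring := inferInstanceAs (IsLocalRing A)
  haveI : IsNoetherianRing E.Ring := inferInstanceAs (IsNoetherianRing A)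
  have hsE : Function.Surjective (algebraMap E.Ring K) := residue_surjective (R := A)
  have hker : E.ker = maximalIdeal E.Ring :=
    IsLocalRing.eq_maximalIdeal (RingHom.ker_isMaximal_of_surjective (algebraMap E.Ring K) hsE)
  have hcot : Module.finrank K E.Cotangent = (maximalIdeal A).spanFinrank := by
    show Module.finrank K E.Cotangent = (maximalIdeal E.Ring).spanFinrank
    rw [spanFinrank_maximalIdeal_eq_finrank_cotangentSpace]
    exact Groth.Agent.S2469.rank_cotangent (Q := E.Ring) (L := K) (V := E.Cotangent) hsE E.ker hker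
      E.cotangentEquivCotangentKer
  haveI : Module.Finite K E.Cotangent := by
    haveI : Module.Finite E.Ring E.ker := Module.Finite.iff_fg.2 (IsNoetherian.noetherian _)
    haveI : Module.Finite E.Ring E.Cotangent := Module.Finite.of_surjective (Algebra.Extension.Cotangent.mk (P := E))
      Algebra.Extension.Cotangent.mk_surjective
    exact Module.Finite.of_restrictScalars_finite E.Ring K _
  have hex := E.exact_cotangentComplex_toKaehler
  haveI := hΩ
  haveI hr : Module.Finite K (LinearMap.range E.cotangentComplex) := Module.Finite.range _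
  haveI hker2 : Module.Finite K (LinearMap.ker E.toKaehler) := by rw [hex.linearMap_ker_eq]; infer_instance
  haveI hCS : Module.Finite K E.CotangentSpace := by
    refine ⟨Submodule.fg_of_fg_map_of_fg_inf_ker E.toKaehler ?_ ?_⟩
    · rw [Submodule.map_top]; exact IsNoetherian.noetherian _
    · rw [top_inf_eq]; exact Module.Finite.iff_fg.1 hker2
  refine ⟨hCS, ?_⟩
  let e2 : LinearMap.ker E.cotangentComplex ≃ₗ[K] Algebra.H1Cotangent k₀ K := e1
  have h1 := LinearMap.finrank_range_add_finrank_ker E.cotangentComplex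
  have h2 := LinearMap.finrank_range_add_finrank_ker E.toKaehler
  rw [LinearMap.range_eq_top.2 E.toKaehler_surjective, finrank_top, hex.linearMap_ker_eq] at h2
  rw [hcot, e2.finrank_eq] at h1
  show (Module.finrank K E.CotangentSpace : ℤ) =
    (maximalIdeal A).spanFinrank + Cardinal.toNat (Algebra.trdeg k₀ K)
  omega

/-- Lifting derivations into the residue field. -/
theorem exists_lift_derivation {k₀ A : Type u} [Field k₀] [CommRing A] [IsLocalRing A] [Algebra k₀ A]
    (hfs : CAlgX.IsAdicFormallySmooth k₀ A (maximalIdeal A)) (n : ℕ) (d : Derivation k₀ A (ResidueField A)) :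
    ∃ Δ : A → A, (∀ a b, Δ (a + b) - (Δ a + Δ b) ∈ maximalIdeal A ^ n) ∧
      (∀ a b, Δ (a * b) - (a * Δ b + b * Δ a) ∈ maximalIdeal A ^ n) ∧
      (∀ c, Δ (algebraMap k₀ A c) ∈ maximalIdeal A ^ n) ∧
      (n ≠ 0 → ∀ a, residue A (Δ a) = d a) := by
  classical
  let m := maximalIdeal A
  let R := A ⧸ m ^ n
  let q := Ideal.Quotient.mk (m ^ n)
  let C := TrivSqZeroExt R R
  let J : Ideal C :=
    { carrier := {x | TrivSqZeroExt.fst x = 0 ∧ TrivSqZeroExt.snd x ∈ m.map q}
      zero_mem' := ⟨rfl, zero_mem _⟩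
      add_mem' := fun {x y} hx hy => ⟨by rw [TrivSqZeroExt.fst_add, hx.1, hy.1, add_zero],
        by rw [TrivSqZeroExt.snd_add]; exact add_mem hx.2 hy.2⟩
      smul_mem' := fun c x hx => ⟨by rw [smul_eq_mul, TrivSqZeroExt.fst_mul, hx.1, mul_zero], by
        rw [smul_eq_mul, TrivSqZeroExt.snd_mul, hx.1, MulOpposite.op_zero, zero_smul, add_zero, smul_eq_mul]
        exact Ideal.mul_mem_left _ _ hx.2⟩ }
  have hJ : J ^ 2 = ⊥ := by
    rw [pow_two, eq_bot_iff, Ideal.mul_le]
    intro x hx y hy
    rw [Ideal.mem_bot]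
    refine TrivSqZeroExt.ext ?_ ?_
    · rw [TrivSqZeroExt.fst_mul, hx.1, zero_mul, TrivSqZeroExt.fst_zero]
    · rw [TrivSqZeroExt.snd_mul, hx.1, hy.1, MulOpposite.op_zero, zero_smul, zero_smul, add_zero,
        TrivSqZeroExt.snd_zero]
  choose l hl using residue_surjective (R := A)
  have hlm : ∀ x, residue A x = 0 → q x ∈ m.map q := fun x hx => Ideal.mem_map_of_mem q ((residue_eq_zero_iff x).1 hx)
  let f : A → C := fun a => TrivSqZeroExt.inl (q a) + TrivSqZeroExt.inr (q (l (d a)))
  have hf : ∀ a, TrivSqZeroExt.fst (f a) = q a ∧ TrivSqZeroExt.snd (f a) = q (l (d a)) := fun a =>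
    ⟨show TrivSqZeroExt.fst (TrivSqZeroExt.inl (q a) + TrivSqZeroExt.inr (q (l (d a)))) = q a by
      rw [TrivSqZeroExt.fst_add, TrivSqZeroExt.fst_inl, TrivSqZeroExt.fst_inr, add_zero],
    show TrivSqZeroExt.snd (TrivSqZeroExt.inl (q a) + TrivSqZeroExt.inr (q (l (d a)))) = q (l (d a)) by
      rw [TrivSqZeroExt.snd_add, TrivSqZeroExt.snd_inl, TrivSqZeroExt.snd_inr, zero_add]⟩
  have hmem : ∀ {x y : C}, TrivSqZeroExt.fst x = TrivSqZeroExt.fst y →
      (TrivSqZeroExt.snd x - TrivSqZeroExt.snd y ∈ m.map q) → Ideal.Quotient.mk J x = Ideal.Quotient.mk J y :=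
    fun {x y} h1 h2 => Ideal.Quotient.eq.2 ⟨by rw [TrivSqZeroExt.fst_sub, h1, sub_self], by rwa [TrivSqZeroExt.snd_sub]⟩
  let u : A →ₐ[k₀] C ⧸ J :=
    { toFun := fun a => Ideal.Quotient.mk J (f a)
      map_one' := by
        show Ideal.Quotient.mk J (f 1) = 1
        rw [← map_one (Ideal.Quotient.mk J)]
        refine hmem ((hf 1).1.trans (by rw [TrivSqZeroExt.fst_one, map_one])) ?_
        rw [(hf 1).2, TrivSqZeroExt.snd_one, sub_zero]
        exact hlm _ (by rw [hl, Derivation.map_one_eq_zero])
      map_mul' := fun a b => by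
        show Ideal.Quotient.mk J (f (a * b)) = Ideal.Quotient.mk J (f a) * Ideal.Quotient.mk J (f b)
        rw [← map_mul (Ideal.Quotient.mk J)]
        refine hmem (by rw [TrivSqZeroExt.fst_mul, (hf a).1, (hf b).1, (hf (a * b)).1, map_mul]) ?_
        rw [TrivSqZeroExt.snd_mul, (hf a).1, (hf b).1, (hf (a * b)).2, (hf a).2, (hf b).2, op_smul_eq_smul,
          smul_eq_mul, smul_eq_mul, ← map_mul q, ← map_mul q, ← map_add q, ← map_sub q]
        refine hlm _ ?_
        rw [map_sub, map_add, map_mul (residue A) a, map_mul (residue A) b, hl, hl, hl, Derivation.leibniz,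
          Algebra.smul_def, Algebra.smul_def, sub_eq_zero]
        rfl
      map_zero' := by
        show Ideal.Quotient.mk J (f 0) = 0
        rw [← map_zero (Ideal.Quotient.mk J)]
        refine hmem ((hf 0).1.trans (by rw [TrivSqZeroExt.fst_zero, map_zero])) ?_
        rw [(hf 0).2, TrivSqZeroExt.snd_zero, sub_zero]
        exact hlm _ (by rw [hl, map_zero])
      map_add' := fun a b => by
        show Ideal.Quotient.mk J (f (a + b)) = Ideal.Quotient.mk J (f a) + Ideal.Quotient.mk J (f b)
        rw [← map_add (Ideal.Quotient.mk J)]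
        refine hmem (by rw [(hf (a + b)).1, TrivSqZeroExt.fst_add, (hf a).1, (hf b).1, map_add]) ?_
        rw [(hf (a + b)).2, TrivSqZeroExt.snd_add, (hf a).2, (hf b).2, ← map_add q, ← map_sub q]
        exact hlm _ (by rw [map_sub, map_add (residue A), hl, hl, hl, map_add, sub_self])
      commutes' := fun c => by
        show Ideal.Quotient.mk J (f (algebraMap k₀ A c)) = Ideal.Quotient.mk J (algebraMap k₀ C c)
        refine hmem (by rw [(hf _).1]; rfl) ?_
        rw [(hf _).2]
        show q (l (d (algebraMap k₀ A c))) - 0 ∈ _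
        rw [sub_zero]
        exact hlm _ (by rw [hl]; simp) }
  have hd2 : ∀ a ∈ m ^ 2, d a = 0 := fun a ha => by
    rw [pow_two] at ha
    refine Submodule.mul_induction_on ha (fun x hx y hy => ?_) (fun x y hx hy => by rw [map_add, hx, hy, add_zero])
    have e1 : ∀ x ∈ m, algebraMap A (ResidueField A) x = 0 := fun x hx => (residue_eq_zero_iff x).2 hx
    rw [Derivation.leibniz, Algebra.smul_def, Algebra.smul_def, e1 x hx, e1 y hy, zero_mul, zero_mul, add_zero]
  obtain ⟨v, hv⟩ := hfs C J hJ u ⟨n + 2, fun a ha => by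
    show Ideal.Quotient.mk J (f a) = 0
    rw [← map_zero (Ideal.Quotient.mk J)]
    refine hmem ?_ ?_
    · rw [(hf a).1, TrivSqZeroExt.fst_zero]
      exact Ideal.Quotient.eq_zero_iff_mem.2 (Ideal.pow_le_pow_right (by omega) ha)
    · rw [(hf a).2, TrivSqZeroExt.snd_zero, sub_zero]
      exact hlm _ (by rw [hl]; exact hd2 a (Ideal.pow_le_pow_right (by omega) ha))⟩
  have hv' : ∀ a, TrivSqZeroExt.fst (v a) = q a ∧ TrivSqZeroExt.snd (v a) - q (l (d a)) ∈ m.map q := fun a => by
    obtain ⟨h1, h2⟩ := Ideal.Quotient.eq.1 (AlgHom.congr_fun hv a : Ideal.Quotient.mk J (v a) = Ideal.Quotient.mk J (f a))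
    rw [TrivSqZeroExt.fst_sub, sub_eq_zero, (hf a).1] at h1
    rw [TrivSqZeroExt.snd_sub, (hf a).2] at h2
    exact ⟨h1, h2⟩
  choose Δ hΔ using fun a => Ideal.Quotient.mk_surjective (TrivSqZeroExt.snd (v a))
  refine ⟨Δ, fun a b => Ideal.Quotient.eq.1 ?_, fun a b => Ideal.Quotient.eq.1 ?_, fun c => Ideal.Quotient.eq_zero_iff_mem.1 ?_,
    fun hn a => ?_⟩
  · rw [map_add, hΔ, hΔ, hΔ, map_add, TrivSqZeroExt.snd_add]
  · rw [map_add, map_mul, map_mul, hΔ, hΔ, hΔ, map_mul, TrivSqZeroExt.snd_mul, (hv' a).1, (hv' b).1,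
      op_smul_eq_smul, smul_eq_mul, smul_eq_mul]
  · rw [hΔ, v.commutes]
    rfl
  · have h2 : q (Δ a - l (d a)) ∈ m.map q := by rw [map_sub]; exact (hΔ a).symm ▸ (hv' a).2
    rw [Ideal.mem_quotient_iff_mem (Ideal.pow_le_self hn)] at h2
    rw [← hl (d a)]
    exact sub_eq_zero.1 (by rw [← map_sub]; exact (residue_eq_zero_iff _).2 h2)

open IsLocalRing in
/-- Let k₀ be a field and A a complete Noetherian local k₀-algebra, formally smooth over k₀ for the adic
topology, whose residue field K is a finitely generated extension of k₀. Then the 𝔪-adic completion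
Ω̂_{A/k₀} of Ω_{A/k₀} is a free A-module of rank dim A + trdeg_{k₀} K. -/
theorem result {k₀ A : Type u} [Field k₀] [CommRing A] [IsLocalRing A] [IsNoetherianRing A] [Algebra k₀ A]
    [IsAdicComplete (maximalIdeal A) A] (hfs : CAlgX.IsAdicFormallySmooth k₀ A (maximalIdeal A))
    [Algebra.EssFiniteType k₀ (ResidueField A)] :
    Module.Finite A (AdicCompletion (maximalIdeal A) (Ω[A⁄k₀])) ∧ Module.Free A (AdicCompletion (maximalIdeal A) (Ω[A⁄k₀])) ∧
      (Module.finrank A (AdicCompletion (maximalIdeal A) (Ω[A⁄k₀])) : WithBot ℕ∞) =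
        ringKrullDim A + (Cardinal.toNat (Algebra.trdeg k₀ (ResidueField A)) : WithBot ℕ∞) := by
  classical
  let K := ResidueField A
  let m := maximalIdeal A
  let M := Ω[A⁄k₀]
  obtain ⟨hfin, hrk⟩ := finrank_tensor_kaehler hfs
  haveI := hfin
  let r := Module.finrank K (K ⊗[A] M)
  let b := Module.finBasis K (K ⊗[A] M)
  have hsurj : Function.Surjective (fun ω : M => (1 : K) ⊗ₜ[A] ω) := fun z => by
    induction z with
    | zero => exact ⟨0, tmul_zero _ _⟩
    | tmul c ω =>
      obtain ⟨c, rfl⟩ := residue_surjective c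
      refine ⟨c • ω, ?_⟩
      show (1 : K) ⊗ₜ[A] (c • ω) = _
      rw [← smul_tmul]
      congr 1
      exact (Algebra.smul_def c (1 : K)).trans (mul_one _)
    | add x y hx hy =>
      obtain ⟨x', rfl⟩ := hx
      obtain ⟨y', rfl⟩ := hy
      exact ⟨x' + y', tmul_add _ _ _⟩
  choose w hw using fun i => hsurj (b i)
  let σ : (Fin r → A) →ₗ[A] M := Fintype.linearCombination A w
  have hσ : ∀ c, σ c = ∑ i, c i • w i := fun c => rfl
  -- generation
  have hgen1 : ∀ ω : M, ω ∈ LinearMap.range σ ⊔ (m • ⊤ : Submodule A M) := fun ω => by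
    choose c hc using fun i => residue_surjective (b.repr ((1 : K) ⊗ₜ ω) i)
    have h1 : (1 : K) ⊗ₜ[A] (ω - σ c) = 0 := by
      rw [tmul_sub, hσ, tmul_sum, sub_eq_zero]
      refine (b.sum_repr ((1 : K) ⊗ₜ ω)).symm.trans (Finset.sum_congr rfl fun i _ => ?_)
      rw [tmul_smul, ← hc, ← algebraMap_smul K (c i), ← hw i]
      rfl
    have h2 := congrArg (TensorProduct.quotTensorEquivQuotSMul M m) h1
    have h3 : (Submodule.Quotient.mk (ω - σ c) : M ⧸ (m • ⊤ : Submodule A M)) = 0 :=
      ((TensorProduct.quotTensorEquivQuotSMul_mk_one_tmul m (ω - σ c)).symm).trans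
        (h2.trans (LinearEquiv.map_zero _))
    rw [Submodule.Quotient.mk_eq_zero] at h3
    rw [← add_sub_cancel (σ c) ω]
    exact Submodule.add_mem_sup ⟨c, rfl⟩ h3
  have hgen : ∀ n : ℕ, ∀ ω : M, ω ∈ LinearMap.range σ ⊔ (m ^ n • ⊤ : Submodule A M) := by
    intro n
    induction n with
    | zero => intro ω; rw [pow_zero, Ideal.one_eq_top, Submodule.top_smul]; exact Submodule.mem_sup_right Submodule.mem_top
    | succ n ih =>
      have hle : (m • ⊤ : Submodule A M) ≤ LinearMap.range σ ⊔ (m ^ (n + 1) • ⊤ : Submodule A M) := by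
        refine Submodule.smul_le.2 fun a ha ω _ => ?_
        obtain ⟨x, hx, y, hy, rfl⟩ := Submodule.mem_sup.1 (ih ω)
        rw [smul_add, pow_succ', Submodule.mul_smul]
        exact Submodule.add_mem_sup (Submodule.smul_mem _ _ hx) (Submodule.smul_mem_smul ha hy)
      exact fun ω => sup_le le_sup_left hle (hgen1 ω)
  -- independence
  have hδ : ∀ i, ∃ δ : Derivation k₀ A K, ∀ j, δ.liftKaehlerDifferential (w j) = if j = i then 1 else 0 := fun i => by
    let ℓ : M →ₗ[A] K := ((b.coord i).restrictScalars A) ∘ₗ TensorProduct.mk A K M 1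
    refine ⟨ℓ.compDer (KaehlerDifferential.D k₀ A), fun j => ?_⟩
    rw [show (ℓ.compDer (KaehlerDifferential.D k₀ A)).liftKaehlerDifferential = ℓ from
      Derivation.liftKaehlerDifferential_unique _ _ (Derivation.ext fun a => by
        rw [Derivation.liftKaehlerDifferential_comp]) ]
    show b.coord i ((1 : K) ⊗ₜ w j) = _
    rw [show (1 : K) ⊗ₜ[A] w j = b j from hw j, Module.Basis.coord_apply, Module.Basis.repr_self, Finsupp.single_apply]
  choose δ hδ using hδ
  have hind : ∀ n : ℕ, ∀ c : Fin r → A, σ c ∈ (m ^ n • ⊤ : Submodule A M) → ∀ i, c i ∈ m ^ n := by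
    intro n c hc
    rcases eq_or_ne n 0 with rfl | hn
    · intro i; rw [pow_zero, Ideal.one_eq_top]; exact Submodule.mem_top
    let R := A ⧸ m ^ n
    choose Δ hΔa hΔm hΔc hΔr using fun i => exists_lift_derivation hfs n (δ i)
    let DR : Fin r → Derivation k₀ A R := fun i => Derivation.mk'
      { toFun := fun a => Ideal.Quotient.mk (m ^ n) (Δ i a)
        map_add' := fun a a' => by rw [← map_add]; exact Ideal.Quotient.eq.2 (hΔa i a a')
        map_smul' := fun s a => by
          rw [RingHom.id_apply, Algebra.smul_def s a, Ideal.Quotient.eq.2 (hΔm i _ _), map_add, map_mul, map_mul,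
            Ideal.Quotient.eq_zero_iff_mem.2 (hΔc i s), mul_zero, add_zero, Algebra.smul_def]
          rfl }
      (fun a a' => by
        show Ideal.Quotient.mk (m ^ n) (Δ i (a * a')) = a • Ideal.Quotient.mk (m ^ n) (Δ i a') + a' • Ideal.Quotient.mk (m ^ n) (Δ i a)
        rw [Ideal.Quotient.eq.2 (hΔm i a a'), map_add, map_mul, map_mul, Algebra.smul_def, Algebra.smul_def]
        rfl)
    let Mx : Matrix (Fin r) (Fin r) R := Matrix.of fun i j => (DR i).liftKaehlerDifferential (w j)
    let ρ : R →+* K := Ideal.Quotient.factor (Ideal.pow_le_self hn)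
    let ρl : R →ₗ[A] K := (Ideal.Quotient.factorₐ A (Ideal.pow_le_self hn)).toLinearMap
    have hρ : ∀ i, ρl ∘ₗ (DR i).liftKaehlerDifferential = (δ i).liftKaehlerDifferential := fun i =>
      Derivation.liftKaehlerDifferential_unique _ _ (Derivation.ext fun a => by
        show ρl ((DR i).liftKaehlerDifferential (KaehlerDifferential.D k₀ A a)) = _
        rw [Derivation.liftKaehlerDifferential_comp_D]
        show residue A (Δ i a) = (δ i).liftKaehlerDifferential (KaehlerDifferential.D k₀ A a)
        rw [Derivation.liftKaehlerDifferential_comp_D, hΔr i hn])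
    have hM1 : ρ.mapMatrix Mx = 1 := by
      ext i j
      show ρl ((DR i).liftKaehlerDifferential (w j)) = _
      rw [show ρl ((DR i).liftKaehlerDifferential (w j)) = (δ i).liftKaehlerDifferential (w j) from LinearMap.congr_fun (hρ i) _,
        hδ, Matrix.one_apply]
      simp only [eq_comm]
    have hdet : IsUnit Mx.det := by
      have h1 : ρ Mx.det = 1 := by rw [RingHom.map_det, hM1, Matrix.det_one]
      haveI : IsLocalHom ρ := by
        refine ⟨fun x hx => ?_⟩
        obtain ⟨x, rfl⟩ := Ideal.Quotient.mk_surjective x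
        exact (isUnit_of_map_unit (residue A) x hx).map _
      exact isUnit_of_map_unit ρ _ (h1 ▸ isUnit_one)
    let cbar : Fin r → R := fun j => Ideal.Quotient.mk (m ^ n) (c j)
    have hMc : Mx.mulVec cbar = 0 := funext fun i => by
      have h0 : (DR i).liftKaehlerDifferential (σ c) = 0 := by
        have h := Submodule.mem_map_of_mem (f := (DR i).liftKaehlerDifferential) hc
        rw [Submodule.map_smul''] at h
        have h' := Submodule.smul_mono le_rfl le_top h
        rw [Ideal.smul_top_eq_map, Submodule.restrictScalars_mem, Ideal.Quotient.algebraMap_eq, Ideal.map_quotient_self,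
          Ideal.mem_bot] at h'
        exact h'
      rw [Pi.zero_apply, ← h0, hσ, map_sum, Matrix.mulVec, dotProduct]
      refine Finset.sum_congr rfl fun j _ => ?_
      rw [map_smul, Algebra.smul_def, mul_comm]
      rfl
    have hc0 : cbar = 0 := by
      exact Matrix.mulVec_injective_of_isUnit ((Matrix.isUnit_iff_isUnit_det Mx).2 hdet)
        (hMc.trans (Matrix.mulVec_zero Mx).symm)
    exact fun i => Ideal.Quotient.eq_zero_iff_mem.1 (congrFun hc0 i)
  have hpi : ∀ (n : ℕ) (c : Fin r → A), (∀ i, c i ∈ m ^ n) → c ∈ (m ^ n • ⊤ : Submodule A (Fin r → A)) := fun n c hc => by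
    rw [pi_eq_sum_univ c]
    exact Submodule.sum_mem _ fun i _ => Submodule.smul_mem_smul (hc i) Submodule.mem_top
  have hbij : Function.Bijective (AdicCompletion.map m σ) := by
    refine ⟨?_, fun y => ?_⟩
    · rw [injective_iff_map_eq_zero]
      intro x hx
      refine AdicCompletion.ext fun n => ?_
      obtain ⟨c, hc⟩ := Submodule.Quotient.mk_surjective _ (x.val n)
      rw [← hc, AdicCompletion.val_zero, Pi.zero_apply, Submodule.Quotient.mk_eq_zero]
      refine hpi n c (hind n c ?_)
      rw [← Submodule.Quotient.mk_eq_zero (p := (m ^ n • ⊤ : Submodule A M))]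
      have := congrArg (fun z => AdicCompletion.eval m M n z) hx
      simp only [AdicCompletion.coe_eval, AdicCompletion.map_val_apply, ← hc, map_zero, AdicCompletion.val_zero,
        Pi.zero_apply] at this
      exact this
    · have hc : ∀ n, ∃ c : Fin r → A, (Submodule.Quotient.mk (σ c) : M ⧸ (m ^ n • ⊤ : Submodule A M)) = y.val n := fun n => by
        obtain ⟨ω, hω⟩ := Submodule.Quotient.mk_surjective _ (y.val n)
        obtain ⟨_, ⟨c, rfl⟩, z, hz, hcz⟩ := Submodule.mem_sup.1 (hgen n ω)
        exact ⟨c, by rw [← hω, Submodule.Quotient.eq, ← hcz, sub_add_cancel_left]; exact neg_mem hz⟩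
      choose c hc using hc
      refine ⟨⟨fun n => Submodule.Quotient.mk (c n), fun {i j} hij => ?_⟩, ?_⟩
      · show (Submodule.Quotient.mk (c j) : _ ⧸ (m ^ i • ⊤ : Submodule A (Fin r → A))) = Submodule.Quotient.mk (c i)
        rw [Submodule.Quotient.eq]
        refine hpi i _ (hind i _ ?_)
        rw [map_sub, ← Submodule.Quotient.eq, hc i, ← y.property hij, ← hc j]
        rfl
      · refine AdicCompletion.ext fun n => ?_
        rw [AdicCompletion.map_val_apply]
        exact hc n
  haveI : IsAdicComplete m (Fin r → A) := GrothLib.AdicLim.isAdicComplete_of_finite m _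
  let e : AdicCompletion m M ≃ₗ[A] (Fin r → A) :=
    ((LinearEquiv.ofBijective (AdicCompletion.map m σ) hbij).restrictScalars A).symm.trans
      (AdicCompletion.ofLinearEquiv m (Fin r → A)).symm
  refine ⟨Module.Finite.equiv e.symm, Module.Free.of_equiv e.symm, ?_⟩
  rw [e.finrank_eq, Module.finrank_fin_fun]
  haveI : IsRegularLocalRing A := (Groth.Agent.S2471.result.1 hfs).1
  rw [← IsRegularLocalRing.spanFinrank_maximalIdeal (R := A)]
  have hrk' : r = (maximalIdeal A).spanFinrank + Cardinal.toNat (Algebra.trdeg k₀ K) := by exact_mod_cast hrk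
  rw [hrk', Nat.cast_add]

end Groth.Agent.S2476
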