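import Groth.Statements.S2472
import Groth.Agent.S2469
import Groth.Agent.S2471
import Groth.Agent.S2476
import Groth.Agent.Lib.RegLoc.PowerSeries
import Mathlib

set_option autoImplicit false
universe u
open EGA41

namespace Groth.Agent.S2472

open TensorProduct
open KaehlerDifferential (D mapBaseChange)

/-- A prime field: a perfect field with a unique map to every ring. -/
theorem exists_primeField (K : Type u) [Field K] :
    ∃ (P : Type u) (_ : Field P) (_ : PerfectField P) (_ : Algebra P K), Algebra.FormallyUnramified ℤ P ∧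
      ∀ (R : Type u) [CommRing R] (f g : P →+* R), f = g := by
  obtain h0 | ⟨p, hp, hpk⟩ := CharP.exists' K
  · haveI : CharZero (ULift.{u} ℚ) := (ULift.ringEquiv : ULift.{u} ℚ ≃+* ℚ).toRingHom.charZero
    letI : Algebra (ULift.{u} ℚ) K := ((Rat.castHom K).comp (ULift.ringEquiv : ULift.{u} ℚ ≃+* ℚ).toRingHom).toAlgebra
    haveI : Algebra.FormallyUnramified ℤ ℚ := Algebra.FormallyUnramified.of_isLocalization (nonZeroDivisors ℤ)
    let e : ℚ ≃ₐ[ℤ] ULift.{u} ℚ := AlgEquiv.ofRingEquiv (f := (ULift.ringEquiv : ULift.{u} ℚ ≃+* ℚ).symm) fun z => by simp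
    refine ⟨ULift.{u} ℚ, inferInstance, inferInstance, inferInstance, Algebra.FormallyUnramified.of_equiv e, fun R _ f g => ?_⟩
    have h : f.comp (ULift.ringEquiv : ULift.{u} ℚ ≃+* ℚ).symm.toRingHom =
        g.comp (ULift.ringEquiv : ULift.{u} ℚ ≃+* ℚ).symm.toRingHom := Subsingleton.elim _ _
    exact RingHom.ext fun x => RingHom.congr_fun h x.down
  · haveI := hp
    haveI : PerfectField (ULift.{u} (ZMod p)) := inferInstance
    letI : Algebra (ULift.{u} (ZMod p)) K :=
      ((ZMod.castHom (dvd_refl p) K).comp (ULift.ringEquiv : ULift.{u} (ZMod p) ≃+* ZMod p).toRingHom).toAlgebra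
    refine ⟨ULift.{u} (ZMod p), inferInstance, inferInstance, inferInstance, .of_surjective (Algebra.ofId ℤ _) (by
      intro z
      refine ⟨(z.down.val : ℤ), (ULift.ringEquiv : ULift.{u} (ZMod p) ≃+* ZMod p).injective ?_⟩
      change ULift.ringEquiv (algebraMap ℤ (ULift.{u} (ZMod p)) _) = _
      rw [eq_intCast, map_intCast]
      simp; rfl), fun R _ f g => ?_⟩
    have h : f.comp (ULift.ringEquiv : ULift.{u} (ZMod p) ≃+* ZMod p).symm.toRingHom =
        g.comp (ULift.ringEquiv : ULift.{u} (ZMod p) ≃+* ZMod p).symm.toRingHom := RingHom.ext_zmod _ _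
    exact RingHom.ext fun x => RingHom.congr_fun h x.down

/-- The imperfection module over the prime ring is the first cotangent homology. -/
theorem h1_equiv_imperfection (K L : Type u) [Field K] [Field L] [Algebra K L] :
    Nonempty (Algebra.H1Cotangent K L ≃ₗ[L] EGA41.imperfection ℤ K L) := by
  obtain ⟨P, _, _, _, hu, -⟩ := exists_primeField K
  letI : Algebra P L := ((algebraMap K L).comp (algebraMap P K)).toAlgebra
  haveI := IsScalarTower.of_algebraMap_eq (R := P) (S := K) (A := L) fun _ => rfl
  haveI := hu
  haveI : Algebra.FormallySmooth P L := GrothLib.SepField.formallySmooth_iff_isGeometricallyReduced.2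
    GrothLib.SepField.isGeometricallyReduced_of_perfectField
  obtain ⟨e⟩ := Groth.Agent.S2469.finrank_ker_eq P K L
  obtain ⟨e'⟩ := Groth.Agent.S2469.map_imperfection_eq ℤ P K L
  exact ⟨e.trans e'.symm⟩

open IsLocalRing in
/-- Necessity: the residue field of a formally smooth Noetherian local algebra has finite imperfection. -/
theorem finite_imperfection {k K A : Type u} [Field k] [Field K] [Algebra k K] [CommRing A] [IsLocalRing A]
    [IsNoetherianRing A] [Algebra k A] (hfs : CAlgX.IsAdicFormallySmooth k A (maximalIdeal A))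
    (e : ResidueField A ≃ₐ[k] K) : Module.Finite K (EGA41.imperfection ℤ k K) := by
  let E : Algebra.Extension.{u} k (ResidueField A) :=
    Algebra.Extension.ofSurjective (IsScalarTower.toAlgHom k A (ResidueField A)) residue_surjective
  obtain ⟨e1⟩ := Groth.Agent.S2476.h1Cotangent_residue hfs
  haveI : IsNoetherianRing E.Ring := inferInstanceAs (IsNoetherianRing A)
  haveI : Module.Finite E.Ring E.ker := Module.Finite.iff_fg.2 (IsNoetherian.noetherian _)
  haveI : Module.Finite E.Ring E.Cotangent := Module.Finite.of_surjective (Algebra.Extension.Cotangent.mk (P := E))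
    Algebra.Extension.Cotangent.mk_surjective
  haveI : Module.Finite (ResidueField A) E.Cotangent := Module.Finite.of_restrictScalars_finite E.Ring _ _
  haveI : Module.Finite (ResidueField A) (LinearMap.ker E.cotangentComplex) := inferInstance
  let e2 : LinearMap.ker E.cotangentComplex ≃ₗ[ResidueField A] Algebra.H1Cotangent k (ResidueField A) := e1
  haveI : Module.Finite (ResidueField A) (Algebra.H1Cotangent k (ResidueField A)) := Module.Finite.equiv e2
  letI : Algebra (ResidueField A) K := e.toRingHom.toAlgebra
  haveI : IsScalarTower k (ResidueField A) K := .of_algebraMap_eq' e.toAlgHom.comp_algebraMap.symm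
  let g := Algebra.H1Cotangent.map k k (ResidueField A) K
  have hg : Function.Surjective g := (Algebra.H1Cotangent.mapEquiv k (ResidueField A) K e).surjective
  haveI : Module.Finite K (Algebra.H1Cotangent k K) :=
    Module.Finite.of_surjective (g.liftBaseChange K) fun y => by
      obtain ⟨x, rfl⟩ := hg y
      exact ⟨(1 : K) ⊗ₜ x, by rw [LinearMap.liftBaseChange_tmul, one_smul]⟩
  obtain ⟨e3⟩ := h1_equiv_imperfection k K
  exact Module.Finite.equiv e3

open IsLocalRing in
/-- A sufficient condition for the differentials of `k` to inject into those of `A` at the residue field. -/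
theorem injective_lTensor {k A K V : Type u} [Field k] [Field K] [Algebra k K] [CommRing A] [IsLocalRing A]
    [Algebra k A] [Algebra A K] [IsScalarTower k A K] (hτ : Function.Surjective (algebraMap A K))
    [AddCommGroup V] [Module K V] [Module A V] [IsScalarTower A K V]
    (ψ : K ⊗[k] Ω[k⁄ℤ] →ₗ[K] V) (hψ : ∀ z ∈ EGA41.imperfection ℤ k K, ψ z = 0 → z = 0)
    (d : Derivation ℤ A V) (hd : ∀ a, d (algebraMap k A a) = ψ ((1 : K) ⊗ₜ D ℤ k a)) :
    Function.Injective ((mapBaseChange ℤ k A).lTensor (ResidueField A)) := by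
  let f := (mapBaseChange ℤ k A).lTensor K
  let c : K ⊗[A] (A ⊗[k] Ω[k⁄ℤ]) ≃ₗ[K] K ⊗[k] Ω[k⁄ℤ] :=
    TensorProduct.AlgebraTensorModule.cancelBaseChange k A K K (Ω[k⁄ℤ])
  let g2 := d.liftKaehlerDifferential.liftBaseChange K
  have hmap : ∀ ω : Ω[k⁄ℤ], KaehlerDifferential.map ℤ ℤ A K (KaehlerDifferential.map ℤ ℤ k A ω) =
      KaehlerDifferential.map ℤ ℤ k K ω := fun ω => by
    induction (KaehlerDifferential.span_range_derivation ℤ k ▸ Submodule.mem_top :
        ω ∈ Submodule.span k (Set.range (D ℤ k))) using Submodule.span_induction with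
    | mem y hy => obtain ⟨s, rfl⟩ := hy; simp [← IsScalarTower.algebraMap_apply]
    | zero => simp
    | add a b _ _ ha hb => simp only [map_add, ha, hb]
    | smul s x _ hx => simp only [LinearMap.map_smul_of_tower, hx]
  have h1 : ∀ z, mapBaseChange ℤ A K (f z) = mapBaseChange ℤ k K (c z) := fun z => by
    induction z with
    | zero => simp
    | add x y hx hy => rw [map_add, map_add, map_add, map_add, hx, hy]
    | tmul t y =>
      induction y with
      | zero => simp
      | add x y hx hy => rw [tmul_add, map_add, map_add, map_add, map_add, hx, hy]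
      | tmul a ω =>
        simp only [f, c, LinearMap.lTensor_tmul, KaehlerDifferential.mapBaseChange_tmul,
          TensorProduct.AlgebraTensorModule.cancelBaseChange_tmul, map_smul, smul_assoc]
        rw [hmap, smul_comm]
  have h2 : ∀ z, g2 (f z) = ψ (c z) := fun z => by
    induction z with
    | zero => simp
    | add x y hx hy => rw [map_add, map_add, map_add, map_add, hx, hy]
    | tmul t y =>
      induction y with
      | zero => simp
      | add x y hx hy => rw [tmul_add, map_add, map_add, map_add, map_add, hx, hy]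
      | tmul a ω =>
        simp only [f, c, g2, LinearMap.lTensor_tmul, KaehlerDifferential.mapBaseChange_tmul,
          TensorProduct.AlgebraTensorModule.cancelBaseChange_tmul, map_smul, LinearMap.liftBaseChange_tmul]
        rw [show (a • t) ⊗ₜ[k] ω = (a • t) • ((1 : K) ⊗ₜ[k] ω) by rw [TensorProduct.smul_tmul', smul_eq_mul, mul_one],
          map_smul, smul_assoc, smul_comm]
        congr 2
        induction (KaehlerDifferential.span_range_derivation ℤ k ▸ Submodule.mem_top :
            ω ∈ Submodule.span k (Set.range (D ℤ k))) using Submodule.span_induction with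
        | mem y hy =>
          obtain ⟨s, rfl⟩ := hy
          rw [KaehlerDifferential.map_D, Derivation.liftKaehlerDifferential_comp_D, hd]
        | zero => simp
        | add a b _ _ ha hb => simp only [map_add, tmul_add, ha, hb]
        | smul s x _ hx =>
          rw [TensorProduct.tmul_smul, ← algebraMap_smul K s ((1 : K) ⊗ₜ[k] x), map_smul ψ,
            IsScalarTower.algebraMap_apply k A K, algebraMap_smul, ← hx,
            LinearMap.map_smul_of_tower (KaehlerDifferential.map ℤ ℤ k A),
            ← algebraMap_smul A s (KaehlerDifferential.map ℤ ℤ k A x), map_smul]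
  have hf : Function.Injective f := by
    rw [injective_iff_map_eq_zero]
    intro z hz
    have e1 := h1 z
    have e2 := h2 z
    rw [hz, map_zero] at e1 e2
    exact c.map_eq_zero_iff.1 (hψ _ (LinearMap.mem_ker.2 e1.symm) e2.symm)
  have hk : RingHom.ker (algebraMap A K) = maximalIdeal A :=
    IsLocalRing.eq_maximalIdeal (RingHom.ker_isMaximal_of_surjective _ hτ)
  let i : ResidueField A →ₐ[A] K := Ideal.Quotient.liftₐ _ (Algebra.ofId A K) fun a ha => hk.ge ha
  have hi : Function.Bijective i := ⟨i.toRingHom.injective, fun x => by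
    obtain ⟨a, rfl⟩ := hτ x
    exact ⟨residue A a, rfl⟩⟩
  let eI : ResidueField A ≃ₗ[A] K := LinearEquiv.ofBijective i.toLinearMap hi
  have hnat : ∀ w, f (LinearEquiv.rTensor _ eI w) =
      LinearEquiv.rTensor _ eI ((mapBaseChange ℤ k A).lTensor (ResidueField A) w) := fun w => by
    induction w with
    | zero => simp
    | add x y hx hy => simp only [map_add, hx, hy]
    | tmul t y => simp [f, LinearEquiv.rTensor_tmul]
  intro x y hxy
  exact (LinearEquiv.rTensor _ eI).injective (hf (by rw [hnat, hnat, hxy]))

/-- A complete ring for an ideal is complete for its square. -/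
theorem isAdicComplete_sq {A : Type u} [CommRing A] (I : Ideal A) [IsAdicComplete I A] :
    IsAdicComplete (I ^ 2) A := by
  have hle : ∀ n : ℕ, (I ^ 2) ^ n ≤ I ^ n := fun n => by
    rw [← pow_mul]; exact Ideal.pow_le_pow_right (by omega)
  refine { haus' := fun x hx => IsHausdorff.haus (I := I) inferInstance x fun n => ?_, prec' := fun f hf => ?_ }
  · have := hx n
    rw [SModEq.sub_mem, smul_eq_mul, Ideal.mul_top] at this ⊢
    exact hle n this
  · simp only [SModEq.sub_mem, smul_eq_mul, Ideal.mul_top] at hf ⊢
    obtain ⟨L, hL⟩ := IsPrecomplete.prec (I := I) inferInstance (f := f) fun {m n} h => by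
      rw [SModEq.sub_mem, smul_eq_mul, Ideal.mul_top]; exact hle m (hf h)
    refine ⟨L, fun n => ?_⟩
    have h1 := hf (show n ≤ 2 * n by omega)
    have h2 := hL (2 * n)
    rw [SModEq.sub_mem, smul_eq_mul, Ideal.mul_top, pow_mul] at h2
    simpa using add_mem h1 h2

open IsLocalRing in
/-- The deformed coefficient field. -/
theorem exists_deformation {k K A : Type u} [Field k] [Field K] [Algebra k K] [CommRing A] [IsLocalRing A]
    [IsNoetherianRing A] [IsRegularLocalRing A] [IsAdicComplete (maximalIdeal A) A]
    (c : K →+* A) (τ : A →+* K) (hτc : ∀ x, τ (c x) = x)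
    {n : ℕ} (X : Fin n → A) (hX : ∀ i, τ (X i) = 0)
    (der : Fin n → A →+ K) (hder : ∀ i a b, der i (a * b) = τ a * der i b + τ b * der i a)
    (hderc : ∀ i x, der i (c x) = 0) (hderX : ∀ i j, der i (X j) = if i = j then 1 else 0)
    (h : Module.Finite K (EGA41.imperfection ℤ k K)) (hn : Module.finrank K (EGA41.imperfection ℤ k K) ≤ n) :
    ∃ (_ : Algebra k A), CAlgX.IsAdicFormallySmooth k A (maximalIdeal A) ∧ Nonempty (ResidueField A ≃ₐ[k] K) := by
  classical
  haveI := h
  have hτs : Function.Surjective τ := fun x => ⟨c x, hτc x⟩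
  have hk : RingHom.ker τ = maximalIdeal A :=
    IsLocalRing.eq_maximalIdeal (RingHom.ker_isMaximal_of_surjective _ hτs)
  obtain ⟨P, hPf, hPp, algPk, -, huniq⟩ := exists_primeField k
  haveI : Algebra.FormallySmooth P k := GrothLib.SepField.formallySmooth_iff_isGeometricallyReduced.2
    GrothLib.SepField.isGeometricallyReduced_of_perfectField
  let Υ : Submodule K (K ⊗[k] Ω[k⁄ℤ]) := EGA41.imperfection ℤ k K
  haveI : Module.Finite K Υ := h
  obtain ⟨W, hW⟩ := Submodule.exists_isCompl Υ
  let pr := Υ.linearProjOfIsCompl W hW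
  have hpr : ∀ z : Υ, pr z = z := fun z => Submodule.linearProjOfIsCompl_apply_left hW z
  haveI : Module.Free K Υ := Module.Free.of_divisionRing K Υ
  let eY := (Module.finBasis K Υ).equivFun
  let ext0 := Function.ExtendByZero.linearMap K (Fin.castLE hn)
  have hext : Function.Injective ext0 := fun u v huv => funext fun j => by
    have := congrFun huv (Fin.castLE hn j)
    simpa [ext0, Function.ExtendByZero.linearMap, (Fin.castLE_injective hn).extend_apply] using this
  let ψ : K ⊗[k] Ω[k⁄ℤ] →ₗ[K] (Fin n → K) := ext0 ∘ₗ eY.toLinearMap ∘ₗ pr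
  have hψ : ∀ z ∈ EGA41.imperfection ℤ k K, ψ z = 0 → z = 0 := fun z hz h0 => by
    have h1 : pr z = ⟨z, hz⟩ := hpr ⟨z, hz⟩
    have h2 : eY (pr z) = 0 := hext (h0.trans (map_zero ext0).symm)
    rw [LinearEquiv.map_eq_zero_iff, h1] at h2
    exact congrArg Subtype.val h2
  let δ : k → Fin n → K := fun a => ψ ((1 : K) ⊗ₜ D ℤ k a)
  have hδa : ∀ a b, δ (a + b) = δ a + δ b := fun a b => by
    show ψ _ = ψ _ + ψ _
    rw [map_add, tmul_add, map_add]
  have hδm : ∀ a b, δ (a * b) = algebraMap k K a • δ b + algebraMap k K b • δ a := fun a b => by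
    show ψ _ = _ • ψ _ + _ • ψ _
    rw [Derivation.leibniz, tmul_add, tmul_smul, tmul_smul, map_add, ← algebraMap_smul K a, map_smul,
      ← algebraMap_smul K b, map_smul]
  have hδ1 : δ 1 = 0 := by
    show ψ _ = 0
    rw [Derivation.map_one_eq_zero, tmul_zero, map_zero]
  let I2 := maximalIdeal A ^ 2
  let lin : (Fin n → K) → A := fun v => ∑ i, c (v i) * X i
  have hlin : ∀ v, lin v ∈ maximalIdeal A := fun v => by
    rw [← hk, RingHom.mem_ker, map_sum]
    exact Finset.sum_eq_zero fun i _ => by rw [map_mul, hX, mul_zero]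
  have hlina : ∀ u v, lin (u + v) = lin u + lin v := fun u v => by
    simp only [lin, Pi.add_apply, map_add, add_mul, Finset.sum_add_distrib]
  have hlins : ∀ x v, lin (x • v) = c x * lin v := fun x v => by
    simp only [lin, Pi.smul_apply, smul_eq_mul, map_mul, Finset.mul_sum, mul_assoc]
  let φ2 : k →+* A ⧸ I2 :=
    { toFun := fun a => Ideal.Quotient.mk I2 (c (algebraMap k K a) + lin (δ a))
      map_one' := by simp [hδ1, lin]
      map_zero' := by
        have : δ 0 = 0 := by show ψ _ = 0; simp
        simp [this, lin]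
      map_add' := fun a b => by rw [← map_add]; congr 1; rw [hδa, hlina, map_add, map_add]; ring
      map_mul' := fun a b => by
        rw [← map_mul, Ideal.Quotient.eq, hδm, hlina, hlins, hlins, map_mul, map_mul]
        have h2 : lin (δ a) * lin (δ b) ∈ I2 := by
          show _ ∈ maximalIdeal A ^ 2
          rw [pow_two]; exact Ideal.mul_mem_mul (hlin _) (hlin _)
        convert neg_mem h2 using 1
        ring }
  letI algPA : Algebra P A := (c.comp ((algebraMap k K).comp (algebraMap P k))).toAlgebra
  let f2 : k →ₐ[P] A ⧸ I2 :=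
    { φ2 with
      commutes' := fun z => RingHom.congr_fun (huniq _ (φ2.comp (algebraMap P k)) (algebraMap P (A ⧸ I2))) z }
  haveI : IsAdicComplete I2 A := isAdicComplete_sq _
  obtain ⟨g, hg⟩ := Algebra.FormallySmooth.exists_mkₐ_comp_eq_of_isAdicComplete f2
  have hg2 : ∀ a, g a - (c (algebraMap k K a) + lin (δ a)) ∈ maximalIdeal A ^ 2 := fun a =>
    Ideal.Quotient.eq.1 (AlgHom.congr_fun hg a)
  have hsq : ∀ x ∈ maximalIdeal A ^ 2, τ x = 0 ∧ ∀ i, der i x = 0 := fun x hx => by
    rw [pow_two] at hx
    refine Submodule.mul_induction_on hx (fun a ha b hb => ?_) (fun a b ha hb =>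
      ⟨by rw [map_add, ha.1, hb.1, add_zero], fun i => by rw [map_add, ha.2 i, hb.2 i, add_zero]⟩)
    rw [← hk, RingHom.mem_ker] at ha hb
    exact ⟨by rw [map_mul, ha, zero_mul], fun i => by rw [hder, ha, hb, zero_mul, zero_mul, add_zero]⟩
  have hτg : ∀ a, τ (g a) = algebraMap k K a := fun a => by
    have := (hsq _ (hg2 a)).1
    rw [map_sub, map_add, hτc, show τ (lin (δ a)) = 0 from by
      rw [← RingHom.mem_ker, hk]; exact hlin _, add_zero, sub_eq_zero] at this
    exact this
  have hderg : ∀ a i, der i (g a) = δ a i := fun a i => by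
    have := (hsq _ (hg2 a)).2 i
    rw [map_sub, map_add, hderc, zero_add, sub_eq_zero] at this
    rw [this, map_sum, Finset.sum_eq_single i]
    · rw [hder, hτc, hderX, if_pos rfl, mul_one, hX, zero_mul, add_zero]
    · intro j _ hj
      rw [hder, hτc, hderX, if_neg (Ne.symm hj), mul_zero, hX, zero_mul, add_zero]
    · simp
  letI algA : Algebra k A := g.toRingHom.toAlgebra
  letI algK : Algebra A K := τ.toAlgebra
  haveI : IsScalarTower k A K := .of_algebraMap_eq fun a => (hτg a).symm
  letI : Module A (Fin n → K) := Module.compHom _ τ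
  haveI : IsScalarTower A K (Fin n → K) := ⟨fun a x v => by
    show (τ a * x) • v = τ a • x • v
    rw [mul_smul]⟩
  let dd : Derivation ℤ A (Fin n → K) := Derivation.mk' (AddMonoidHom.toIntLinearMap
    { toFun := fun a i => der i a
      map_zero' := funext fun i => map_zero _
      map_add' := fun a b => funext fun i => map_add _ a b }) fun a b => funext fun i => hder i a b
  refine ⟨algA, Groth.Agent.S2471.result.2 ⟨inferInstance,
    injective_lTensor hτs ψ hψ dd fun a => funext (hderg a)⟩, ?_⟩
  let i : ResidueField A →ₐ[k] K := Ideal.Quotient.liftₐ _ (IsScalarTower.toAlgHom k A K) fun a ha => hk.ge ha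
  exact ⟨AlgEquiv.ofBijective i ⟨i.toRingHom.injective, fun x => ⟨residue A (c x), hτc x⟩⟩⟩

open IsLocalRing in
/-- Existence part and the range of dimensions: let k ⊆ K be fields. There is a Noetherian local
k-algebra A, formally smooth over k for its adic topology, whose residue field is k-isomorphic to K,
if and only if Υ_{K/k} is a finite-dimensional K-vector space. When this holds, for every integer n
≥ rank Υ_{K/k} there is such an A which is moreover complete and of dimension n. (The source's
uniqueness-up-to-isomorphism clause for a given dimension is not stated.) -/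
theorem result {k K : Type u} [Field k] [Field K] [Algebra k K] :
    ((∃ (A : Type u) (_ : CommRing A) (_ : IsLocalRing A) (_ : IsNoetherianRing A) (_ : Algebra k A),
        CAlgX.IsAdicFormallySmooth k A (maximalIdeal A) ∧ Nonempty (ResidueField A ≃ₐ[k] K)) ↔
      Module.Finite K (EGA41.imperfection ℤ k K)) ∧
    (Module.Finite K (EGA41.imperfection ℤ k K) → ∀ n : ℕ, Module.finrank K (EGA41.imperfection ℤ k K) ≤ n →
      ∃ (A : Type u) (_ : CommRing A) (_ : IsLocalRing A) (_ : IsNoetherianRing A) (_ : Algebra k A),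
        IsAdicComplete (maximalIdeal A) A ∧ CAlgX.IsAdicFormallySmooth k A (maximalIdeal A) ∧
        Nonempty (ResidueField A ≃ₐ[k] K) ∧ ringKrullDim A = n) := by
  classical
  have key : Module.Finite K (EGA41.imperfection ℤ k K) → ∀ n : ℕ, Module.finrank K (EGA41.imperfection ℤ k K) ≤ n →
      ∃ (A : Type u) (_ : CommRing A) (_ : IsLocalRing A) (_ : IsNoetherianRing A) (_ : Algebra k A),
        IsAdicComplete (maximalIdeal A) A ∧ CAlgX.IsAdicFormallySmooth k A (maximalIdeal A) ∧
        Nonempty (ResidueField A ≃ₐ[k] K) ∧ ringKrullDim A = n := fun h n hn => by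
    let A := MvPowerSeries (Fin n) K
    let cf : Fin n → A →+ K := fun i => (MvPowerSeries.coeff (Finsupp.single i 1)).toAddMonoidHom
    obtain ⟨alg, hfs, he⟩ := exists_deformation (k := k) (A := A) MvPowerSeries.C MvPowerSeries.constantCoeff
      (fun x => MvPowerSeries.constantCoeff_C x) MvPowerSeries.X (fun i => MvPowerSeries.constantCoeff_X i) cf
      (fun i a b => by
        show MvPowerSeries.coeff (Finsupp.single i 1) (a * b) = _
        rw [MvPowerSeries.coeff_mul, Finsupp.antidiagonal_single, Finset.sum_map,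
          Finset.Nat.antidiagonal_succ, Finset.sum_cons, Finset.sum_map]
        simp [cf, mul_comm]) (fun i x => by
        show MvPowerSeries.coeff (Finsupp.single i 1) (MvPowerSeries.C x) = 0
        classical rw [MvPowerSeries.coeff_C, if_neg (by simp)]) (fun i j => by
        show MvPowerSeries.coeff (Finsupp.single i 1) (MvPowerSeries.X j) = _
        classical rw [MvPowerSeries.coeff_X]
        simp [Finsupp.single_left_inj]) h hn
    refine ⟨A, inferInstance, inferInstance, inferInstance, alg, inferInstance, hfs, he, ?_⟩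
    refine le_antisymm ((ringKrullDim_le_spanFinrank_maximalIdeal A).trans (Nat.cast_le.2 ?_))
      (GrothLib.RegLoc.PS.natCast_le_ringKrullDim K n)
    exact GrothLib.RegLoc.spanFinrank_le_of_span _ (GrothLib.RegLoc.PS.span_X K)
  refine ⟨⟨?_, fun h => ?_⟩, key⟩
  · rintro ⟨A, _, _, _, _, hfs, ⟨e⟩⟩
    exact finite_imperfection hfs e
  · obtain ⟨A, h1, h2, h3, h4, -, hfs, he, -⟩ := key h _ le_rfl
    exact ⟨A, h1, h2, h3, h4, hfs, he⟩

end Groth.Agent.S2472
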