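import Groth.Statements.S2473
import Groth.Agent.Lib.PPolyReg.Main
-- import your own Groth.Agent.* helpers here

set_option autoImplicit false
universe u
open EGA41

namespace Groth.Agent.S2473

open IsLocalRing TensorProduct in
/-- Let A be a regular local ring whose residue field K has characteristic p > 0; for 1 ≤ i ≤ r let F_i
= T_i^p + p Σ_{j=1}^{p-1} c_{ij} T_i^{p-j} − f_i with c_{ij}, f_i ∈ A, and let B be the quotient of
A[T_1, …, T_r] by the ideal generated by the F_i. Then B is a local ring, and B is regular if and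
only if the elements d f_i ⊗ 1 of Ω_{A/ℤ} ⊗_A K are linearly independent over K. Assumed in
addition: p lies in the square of the maximal ideal of A (which covers the case where A has
characteristic p); the printed statement omits this, and the equivalence can fail for A absolutely
unramified, e.g. A = ℤ_(p), r = 1, f_1 = p. (Condition (c) of the source, on the characteristic
homomorphism Ξ, is not stated.) -/
theorem result {A : Type u} [CommRing A] [IsRegularLocalRing A] (p : ℕ) [Fact p.Prime] [CharP (ResidueField A) p]
    {r : ℕ} (c : Fin r → Fin p → A) (f : Fin r → A)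
    (hp : (p : A) ∈ maximalIdeal A ^ 2) :
    let F : Fin r → MvPolynomial (Fin r) A := fun i =>
      MvPolynomial.X i ^ p + (p : MvPolynomial (Fin r) A) * (Finset.univ.sum fun j : Fin p =>
        if (j : ℕ) = 0 then 0 else MvPolynomial.C (c i j) * MvPolynomial.X i ^ (p - (j : ℕ))) - MvPolynomial.C (f i)
    IsLocalRing (MvPolynomial (Fin r) A ⧸ Ideal.span (Set.range F)) ∧
      (IsRegularRing (MvPolynomial (Fin r) A ⧸ Ideal.span (Set.range F)) ↔
        LinearIndependent (ResidueField A) (fun i => (1 : ResidueField A) ⊗ₜ[A] KaehlerDifferential.D ℤ A (f i))) := by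
  intro F
  let S : Fin r → MvPolynomial (Fin r) A := fun i => Finset.univ.sum fun j : Fin p =>
    if (j : ℕ) = 0 then 0 else MvPolynomial.C (c i j) * MvPolynomial.X i ^ (p - (j : ℕ))
  have hF : ∀ i, F i = MvPolynomial.X i ^ p + (p : MvPolynomial (Fin r) A) * S i - MvPolynomial.C (f i) := fun i => rfl
  have hint : ∀ i, ∃ q : Polynomial A, q.Monic ∧
      Polynomial.eval₂ ((Ideal.Quotient.mk (Ideal.span (Set.range F))).comp MvPolynomial.C)
        (Ideal.Quotient.mk _ (MvPolynomial.X i)) q = 0 := fun i => by
    let q : Polynomial A := Polynomial.X ^ p + ((Polynomial.C (p : A)) * (Finset.univ.sum fun j : Fin p =>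
      if (j : ℕ) = 0 then 0 else Polynomial.C (c i j) * Polynomial.X ^ (p - (j : ℕ))) - Polynomial.C (f i))
    refine ⟨q, Polynomial.monic_X_pow_add ?_, ?_⟩
    · have hp' : (0 : WithBot ℕ) < (p : WithBot ℕ) := by exact_mod_cast (Fact.out : p.Prime).pos
      refine lt_of_le_of_lt (Polynomial.degree_sub_le _ _) (max_lt ?_ (Polynomial.degree_C_le.trans_lt hp'))
      rw [← Polynomial.smul_eq_C_mul]
      refine lt_of_le_of_lt (Polynomial.degree_smul_le _ _) (lt_of_le_of_lt (Polynomial.degree_sum_le _ _)
        ((Finset.sup_lt_iff (WithBot.bot_lt_coe p)).2 fun j _ => ?_))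
      split_ifs with hj
      · rw [Polynomial.degree_zero]; exact WithBot.bot_lt_coe _
      · refine lt_of_le_of_lt (Polynomial.degree_C_mul_X_pow_le _ _) ?_
        exact Nat.cast_lt.2 <| Nat.sub_lt (Fact.out : p.Prime).pos (Nat.pos_of_ne_zero hj)
    · let ev := Polynomial.eval₂RingHom (MvPolynomial.C : A →+* MvPolynomial (Fin r) A) (MvPolynomial.X i)
      have hq : ev q = F i := by
        simp only [q, hF, S, map_add, map_sub, map_mul, map_sum, map_pow, apply_ite ev, map_zero]
        simp [ev, add_sub_assoc]
      have h := (Polynomial.hom_eval₂ q (MvPolynomial.C : A →+* MvPolynomial (Fin r) A)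
        (Ideal.Quotient.mk (Ideal.span (Set.range F))) (MvPolynomial.X i)).symm
      rw [h]
      exact (congrArg _ hq).trans (Ideal.Quotient.eq_zero_iff_mem.2 (Ideal.subset_span (Set.mem_range_self i)))
  exact ⟨GrothLib.PPolyReg.isLocalRing_B p f F S hF hint, GrothLib.PPolyReg.isRegular_iff p f F S hF hint hp⟩

end Groth.Agent.S2473
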