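import Groth.Statements.S2474
import Groth.Agent.Lib.N2.Reduced
import Groth.Agent.Lib.Cohen.NagataMain
import Mathlib

set_option autoImplicit false
universe u
open EGA41

namespace Groth.Agent.S2474

open TensorProduct

open IsLocalRing in
/-- An integral algebra whose base change to the completion has nil kernel into a finite algebra. -/
theorem finite_of_map {A C D : Type u} [CommRing A] [IsLocalRing A] [IsNoetherianRing A] [CommRing C] [Algebra A C]
    [Algebra.IsIntegral A C] [CommRing D] [Algebra A D] [Algebra (AdicCompletion (maximalIdeal A) A) D]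
    [IsScalarTower A (AdicCompletion (maximalIdeal A) A) D] [Module.Finite (AdicCompletion (maximalIdeal A) A) D]
    (ψ : AdicCompletion (maximalIdeal A) A ⊗[A] C →ₐ[AdicCompletion (maximalIdeal A) A] D)
    (hnil : ∀ z, ψ z = 0 → IsNilpotent z) :
    {m : Ideal C | m.IsMaximal}.Finite ∧ ∀ m : Ideal C, m.IsMaximal → Module.Finite A (C ⧸ m) := by
  classical
  let B := AdicCompletion (maximalIdeal A) A
  haveI : IsNoetherianRing D := IsNoetherianRing.of_finite B D
  haveI : Algebra.IsIntegral B D := inferInstance
  -- the maximal ideals of `D`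
  have hDfin : {N : Ideal D | N.IsMaximal}.Finite := by
    refine (((maximalIdeal B).map (algebraMap B D)).finite_minimalPrimes_of_isNoetherianRing).subset fun N hN' => ?_
    haveI : N.IsMaximal := hN'
    refine ⟨⟨inferInstance, Ideal.map_le_iff_le_comap.2
      (IsLocalRing.eq_maximalIdeal (Ideal.isMaximal_comap_of_isIntegral_of_isMaximal N)).ge⟩, fun P hP hPN => ?_⟩
    haveI := hP.1
    have hc : P.comap (algebraMap B D) = maximalIdeal B :=
      (IsLocalRing.le_maximalIdeal (Ideal.IsPrime.ne_top inferInstance)).antisymm (Ideal.map_le_iff_le_comap.1 hP.2)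
    exact ((Ideal.isMaximal_of_isIntegral_of_isMaximal_comap P (hc ▸ maximalIdeal.isMaximal B)).eq_of_le
      (Ideal.IsPrime.ne_top inferInstance) hPN).ge
  letI : Algebra (B ⊗[A] C) D := ψ.toRingHom.toAlgebra
  haveI : IsScalarTower B (B ⊗[A] C) D := IsScalarTower.of_algebraMap_eq (R := B) (S := B ⊗[A] C) (A := D) fun b => (ψ.commutes b).symm
  haveI : Algebra.IsIntegral (B ⊗[A] C) D := Algebra.IsIntegral.tower_top B
  let χ : C →ₐ[A] D := (ψ.restrictScalars A).comp Algebra.TensorProduct.includeRight
  have key : ∀ m : Ideal C, m.IsMaximal → ∃ N : Ideal D, N.IsMaximal ∧ m = N.comap χ.toRingHom := by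
    intro m hm
    haveI := hm
    have hmA : maximalIdeal A ≤ RingHom.ker (algebraMap A (C ⧸ m)) := fun a ha => by
      show algebraMap A (C ⧸ m) a = 0
      rw [IsScalarTower.algebraMap_apply A C (C ⧸ m), Ideal.Quotient.algebraMap_eq, Ideal.Quotient.eq_zero_iff_mem]
      exact (IsLocalRing.eq_maximalIdeal (Ideal.isMaximal_comap_of_isIntegral_of_isMaximal (R := A) m)).ge ha
    let ev : B →ₐ[A] C ⧸ m := (Ideal.Quotient.liftₐ (maximalIdeal A) (Algebra.ofId A (C ⧸ m)) fun a ha => hmA ha).comp
      (AdicCompletion.evalOneₐ (maximalIdeal A))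
    let θ : B ⊗[A] C →ₐ[A] C ⧸ m := Algebra.TensorProduct.lift ev (Ideal.Quotient.mkₐ A m) fun _ _ => Commute.all _ _
    have hθ : Function.Surjective θ := fun x => by
      obtain ⟨c, rfl⟩ := Ideal.Quotient.mk_surjective x
      exact ⟨1 ⊗ₜ c, by simp [θ]⟩
    letI : Field (C ⧸ m) := Ideal.Quotient.field m
    haveI : (RingHom.ker θ.toRingHom).IsMaximal := RingHom.ker_isMaximal_of_surjective _ hθ
    have hker : RingHom.ker (algebraMap (B ⊗[A] C) D) ≤ RingHom.ker θ.toRingHom := fun z hz => by
      obtain ⟨n, hn⟩ := hnil z hz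
      exact (inferInstance : (RingHom.ker θ.toRingHom).IsPrime).mem_of_pow_mem n (hn.symm ▸ zero_mem _)
    obtain ⟨N, hN, hNc⟩ := Ideal.exists_ideal_over_maximal_of_isIntegral (S := D) (RingHom.ker θ.toRingHom) hker
    refine ⟨N, hN, (Ideal.ext fun c => ?_)⟩
    have h1 := SetLike.ext_iff.1 hNc ((1 : B) ⊗ₜ[A] c)
    rw [Ideal.mem_comap, RingHom.mem_ker] at h1
    rw [← Ideal.Quotient.eq_zero_iff_mem, show (Ideal.Quotient.mk m c : C ⧸ m) = θ ((1 : B) ⊗ₜ[A] c) by simp [θ]]
    exact h1.symm
  refine ⟨(hDfin.image fun N => N.comap χ.toRingHom).subset fun m hm => ?_, fun m hm => ?_⟩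
  · obtain ⟨N, hN, h⟩ := key m hm
    exact ⟨N, hN, h.symm⟩
  · obtain ⟨N, hN, rfl⟩ := key m hm
    haveI := hN
    haveI : IsNoetherian A A := inferInstance
    let k := B ⧸ maximalIdeal B
    haveI : Module.Finite A k := by
      refine Module.Finite.of_surjective ((IsScalarTower.toAlgHom A B k).comp (Algebra.ofId A B)).toLinearMap ?_
      intro x
      obtain ⟨b, rfl⟩ := Ideal.Quotient.mk_surjective x
      obtain ⟨a, ha⟩ := Ideal.Quotient.mk_surjective (AdicCompletion.evalOneₐ (maximalIdeal A) b)
      refine ⟨a, (Ideal.Quotient.eq.2 ?_)⟩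
      letI : Field (A ⧸ maximalIdeal A) := Ideal.Quotient.field _
      have hmax : maximalIdeal B = RingHom.ker (AdicCompletion.evalOneₐ (maximalIdeal A)).toRingHom :=
        (IsLocalRing.eq_maximalIdeal (RingHom.ker_isMaximal_of_surjective (AdicCompletion.evalOneₐ (maximalIdeal A)).toRingHom (AdicCompletion.evalOneₐ_surjective _))).symm
      rw [hmax, RingHom.mem_ker, map_sub, sub_eq_zero]
      exact ((AdicCompletion.evalOneₐ (maximalIdeal A)).commutes a).trans ha
    have hNc : maximalIdeal B ≤ N.comap (algebraMap B D) :=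
      (IsLocalRing.eq_maximalIdeal (Ideal.isMaximal_comap_of_isIntegral_of_isMaximal N)).ge
    letI : Algebra k (D ⧸ N) := (Ideal.quotientMap N (algebraMap B D) hNc).toAlgebra
    haveI : IsScalarTower B k (D ⧸ N) := IsScalarTower.of_algebraMap_eq fun _ => rfl
    haveI : IsScalarTower A k (D ⧸ N) := IsScalarTower.of_algebraMap_eq fun a => by
      rw [IsScalarTower.algebraMap_apply A B (D ⧸ N), IsScalarTower.algebraMap_apply A B k,
        ← IsScalarTower.algebraMap_apply B k (D ⧸ N)]
    haveI : Module.Finite k (D ⧸ N) := Module.Finite.of_restrictScalars_finite B k _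
    haveI : Module.Finite A (D ⧸ N) := Module.Finite.trans k _
    haveI : IsNoetherian A (D ⧸ N) := isNoetherian_of_isNoetherianRing_of_finite A _
    exact Module.Finite.of_injective (Ideal.quotientMapₐ N χ le_rfl).toLinearMap (Ideal.quotientMap_injective)


open IsLocalRing in
/-- Let A be a Noetherian local domain with fraction field K, K' a finite extension of K and A' the
integral closure of A in K'. Then A' has only finitely many maximal ideals, and for every maximal
ideal 𝔪' of A' the field A'/𝔪' is a finite extension of the residue field of A (equivalently a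
finite A-module). -/
theorem result {A K' : Type u} [CommRing A] [IsDomain A] [IsLocalRing A] [IsNoetherianRing A]
    [Field K'] [Algebra A K'] [Algebra (FractionRing A) K'] [IsScalarTower A (FractionRing A) K'] [FiniteDimensional (FractionRing A) K'] :
    {m : Ideal (integralClosure A K') | m.IsMaximal}.Finite ∧
      ∀ (m : Ideal (integralClosure A K')), m.IsMaximal → Module.Finite A (integralClosure A K' ⧸ m) := by
  classical
  let B := AdicCompletion (maximalIdeal A) A
  haveI : Module.Flat A B := inferInstance
  haveI : Algebra.EssFiniteType A (FractionRing A) := Algebra.EssFiniteType.of_isLocalization _ (nonZeroDivisors A)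
  haveI : Algebra.EssFiniteType A K' := Algebra.EssFiniteType.comp A (FractionRing A) K'
  let T := B ⊗[A] K'
  let S := T ⧸ nilradical T
  haveI : IsReduced S := (Ideal.isRadical_iff_quotient_reduced _).1 (Ideal.radical_isRadical _)
  haveI : Algebra.EssFiniteType T S := inferInstance
  haveI : Algebra.EssFiniteType B S := Algebra.EssFiniteType.comp B T S
  have hN := GrothLib.Cohen.isNagata_of_isAdicComplete B
  let D := integralClosure B S
  haveI : Module.Finite B D := GrothLib.N2.finite_integralClosure_of_essFiniteType hN S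
  let C := integralClosure A K'
  let g : B ⊗[A] C →ₐ[B] T := Algebra.TensorProduct.map (AlgHom.id B B) C.val
  have hg : Function.Injective g :=
    Module.Flat.lTensor_preserves_injective_linearMap (M := B) C.val.toLinearMap Subtype.val_injective
  let ψ : B ⊗[A] C →ₐ[B] D := ((Ideal.Quotient.mkₐ B (nilradical T)).comp g).codRestrict (integralClosure B S)
    (fun z => (Algebra.IsIntegral.isIntegral (R := B) z).map _)
  refine finite_of_map (A := A) (C := C) (D := D) ψ fun z hz => ?_
  obtain ⟨n, hn⟩ : g z ∈ nilradical T := Ideal.Quotient.eq_zero_iff_mem.1 (congrArg Subtype.val hz)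
  exact ⟨n, hg (((map_pow g z n).trans hn).trans (map_zero g).symm)⟩

end Groth.Agent.S2474
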