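import Groth.Statements.S2475
import Groth.Agent.Lib.PBasis.Field
import Groth.Agent.Lib.PBasis.Tower

set_option autoImplicit false
universe u
open EGA41

open GrothLib.PBasis

namespace Groth.Agent.S2475

/-- Let K be a field of characteristic p > 0, k₀ ⊆ K a subfield and (k_α) a decreasing filtered family
of subfields of K containing k₀. Then ⋂_α k_α(K^p) = k₀(K^p) if and only if the canonical map
Ω_{K/k₀} → lim_α Ω_{K/k_α} is injective (an element of Ω_{K/k₀} whose image in every Ω_{K/k_α}
vanishes is zero). (Conditions (b), (b') of the source, on admissible subfields, are not stated.) -/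
theorem result (p : ℕ) [Fact p.Prime] {k₀ K : Type u} [Field k₀] [Field K] [Algebra k₀ K] [CharP K p]
    {ι : Type u} [Preorder ι] [IsDirected ι (· ≤ ·)] [Nonempty ι] (k : ι → IntermediateField k₀ K) (hk : Antitone k) :
    (⨅ i, k i ⊔ IntermediateField.adjoin k₀ (Set.range fun y : K => y ^ p)) = IntermediateField.adjoin k₀ (Set.range fun y : K => y ^ p) ↔
      ∀ ω : Ω[K⁄k₀], (∀ i, KaehlerDifferential.map k₀ (k i) K K ω = 0) → ω = 0 := by
  classical
  have hmem : ∀ {E : Type u} [Field E] [Algebra E K] (b : K),
      b ∈ pPowerSubalgebra p E K ↔
        b ∈ IntermediateField.adjoin E (Set.range fun y : K => y ^ p) := by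
    intro E _ _ b
    rw [← IntermediateField.mem_toSubalgebra,
      IntermediateField.adjoin_eq_algebra_adjoin E _ fun z hz =>
        GrothLib.PBasis.inv_mem_of_pow_mem (p := p) (Algebra.adjoin E (Set.range fun y : K => y ^ p))
          (fun w => Algebra.subset_adjoin ⟨w, rfl⟩) hz]
    rfl
  let L : ι → IntermediateField k₀ K := fun i =>
    k i ⊔ IntermediateField.adjoin k₀ (Set.range fun y : K => y ^ p)
  let L₀ : IntermediateField k₀ K := IntermediateField.adjoin k₀ (Set.range fun y : K => y ^ p)
  have hL : ∀ i b, b ∈ pPowerSubalgebra p (k i) K ↔ b ∈ L i := fun i b => by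
    rw [hmem]
    exact SetLike.ext_iff.1 (IntermediateField.restrictScalars_adjoin_eq_sup k₀ (k i)
      (Set.range fun y : K => y ^ p)) b
  constructor
  · intro hinf ω hω
    obtain ⟨B, -, hB⟩ := exists_pBasis_superset (p := p) (k := k₀) (K := K) (x := PEmpty.elim)
      ((isPIndependent_iff_linearIndependent _).2 linearIndependent_empty_type)
    obtain ⟨b, hb⟩ := exists_basis_kaehler (CharP.cast_eq_zero K p) _ hB
    let F : Finset B := (b.repr ω).support
    have hF : IsPIndependent p k₀ (fun j : F => (j.1 : K)) :=
      isPIndependent_comp hB.1 (Subtype.val : F → B) Subtype.val_injective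
    have hv : LinearIndependent L₀ (fun e : Red p F => pMonomial (fun j : F => (j.1 : K)) e.1) := by
      let f : pPowerSubalgebra p k₀ K →+* L₀ :=
        (algebraMap (pPowerSubalgebra p k₀ K) K).codRestrict L₀ fun c => (hmem c.1).1 c.2
      exact (linearIndependent_iff_of_bijective (M := K) f
        ⟨fun c d h => Subtype.ext (congrArg (fun z : L₀ => (z : K)) h :),
          fun c => ⟨⟨c.1, (hmem c.1).2 c.2⟩, rfl⟩⟩ (fun _ _ => rfl) _).1 hF
    have hex : ∀ T : Finset (Red p F), ∃ i,
        LinearIndepOn (L i) (fun e : Red p F => pMonomial (fun j : F => (j.1 : K)) e.1) ↑T := by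
      intro T
      induction T using Finset.induction_on with
      | empty => exact ⟨Classical.arbitrary ι, by simp⟩
      | insert m T hm ih =>
          obtain ⟨i, hi⟩ := ih
          by_contra hne
          push_neg at hne
          set v : Red p F → K := fun e => pMonomial (fun j : F => (j.1 : K)) e.1
          have hmono : ∀ j, i ≤ j → LinearIndepOn (L j) v ↑T := fun j hj => by
            have hle : L j ≤ L i := sup_le_sup_right (hk hj) _
            refine linearIndepOn_finset_iff.2 fun g hg e he => ?_
            have h1 := linearIndepOn_finset_iff.1 hi (fun e => (⟨(g e : K), hle (g e).2⟩ : L i))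
              (by
                refine Eq.trans (Finset.sum_congr rfl fun e _ => ?_) hg
                rw [IntermediateField.smul_def, IntermediateField.smul_def]) e he
            rw [← ZeroMemClass.coe_eq_zero] at h1
            rw [← ZeroMemClass.coe_eq_zero]
            exact h1
          have hc : ∀ j, i ≤ j → ∃ g : Red p F → L j, ∑ e ∈ T, g e • v e = v m := by
            intro j hj
            have := hne j
            rw [Finset.coe_insert, linearIndepOn_insert (by simpa using hm)] at this
            have := not_not.1 fun h => this ⟨hmono j hj, h⟩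
            exact (Submodule.mem_span_image_finset_iff_exists_fun' (L j)).1 this
          choose g hg using hc
          have hg0 : ∀ e ∈ T, (g i le_rfl e : K) ∈ L₀ := by
            intro e he
            rw [show L₀ = ⨅ i, L i from hinf.symm, ← SetLike.mem_coe, IntermediateField.coe_iInf,
              Set.mem_iInter]
            intro j
            obtain ⟨l, hil, hjl⟩ := exists_ge_ge i j
            have hli : L l ≤ L i := sup_le_sup_right (hk hil) _
            have h0 : ∑ e ∈ T, (g i le_rfl e - IntermediateField.inclusion hli (g l hil e)) • v e = 0 := by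
              simp only [sub_smul, Finset.sum_sub_distrib, hg i le_rfl]
              exact sub_eq_zero.2 (hg l hil).symm
            have h1 : (g i le_rfl e : K) = (g l hil e : K) :=
              congrArg Subtype.val (sub_eq_zero.1 (linearIndepOn_finset_iff.1 hi _ h0 e he))
            rw [h1]
            exact sup_le_sup_right (hk hjl) (IntermediateField.adjoin k₀ _) (g l hil e).2
          refine hv.notMem_span_image (s := (↑T : Set (Red p F))) (x := m) (by simpa using hm) ?_
          rw [show v m = ∑ e ∈ T.attach, (⟨_, hg0 e.1 e.2⟩ : L₀) • v e.1 by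
            rw [← hg i le_rfl, ← Finset.sum_attach]; rfl]
          exact sum_mem fun e _ => Submodule.smul_mem _ _
            (Submodule.subset_span ⟨e.1, e.2, rfl⟩)
    haveI : Finite (Red p F) := Finite.of_injective
      (fun e : Red p F => fun j => (⟨e.1 j, e.2 j⟩ : Fin p))
      (fun e e' h => Subtype.ext (Finsupp.ext fun j => congrArg Fin.val (congrFun h j)))
    haveI := Fintype.ofFinite (Red p F)
    obtain ⟨i, hi⟩ := hex Finset.univ
    rw [Finset.coe_univ, linearIndepOn_univ] at hi
    have hpi : IsPIndependent p (k i) (fun j : F => (j.1 : K)) := by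
      let f : pPowerSubalgebra p (k i) K →+* L i :=
        (algebraMap (pPowerSubalgebra p (k i) K) K).codRestrict (L i) fun c => (hL i c.1).1 c.2
      exact (linearIndependent_iff_of_bijective (M := K) f
        ⟨fun c d h => Subtype.ext (congrArg (fun z : L i => (z : K)) h :),
          fun c => ⟨⟨c.1, (hL i c.1).2 c.2⟩, rfl⟩⟩ (fun _ _ => rfl) _).2 hi
    rw [isPIndependent_iff_linearIndependent] at hpi
    have h0 := hω i
    rw [← b.linearCombination_repr ω, Finsupp.linearCombination_apply, Finsupp.sum, map_sum,
      ← Finset.sum_attach] at h0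
    simp only [map_smul, hb, KaehlerDifferential.map_D, Algebra.algebraMap_self, RingHom.id_apply] at h0
    have h1 := Fintype.linearIndependent_iff.1 hpi (fun j => b.repr ω j.1) h0
    refine b.repr.map_eq_zero_iff.1 (Finsupp.ext fun j => ?_)
    by_cases hj : j ∈ F
    · exact h1 ⟨j, hj⟩
    · exact Finsupp.notMem_support_iff.1 hj
  · intro hsep
    refine le_antisymm ?_ (le_iInf fun i => le_sup_right)
    intro y hy
    rw [← SetLike.mem_coe, IntermediateField.coe_iInf, Set.mem_iInter] at hy
    have hD : KaehlerDifferential.D k₀ K y = 0 := hsep _ fun i => by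
      rw [KaehlerDifferential.map_D]
      exact derivation_pPower (CharP.cast_eq_zero K p) (KaehlerDifferential.D (k i) K) ((hL i y).2 (hy i))
    by_contra hy'
    have hempty : IsPIndependent p k₀ (PEmpty.elim : PEmpty.{u+1} → K) :=
      (isPIndependent_iff_linearIndependent _).2 linearIndependent_empty_type
    have h1 := isPIndependent_option hempty (y := y) (fun h => hy' (by
      rw [Set.range_eq_empty, genField, Set.union_empty] at h
      exact h))
    exact ((isPIndependent_iff_linearIndependent _).1 h1).ne_zero none hD

end Groth.Agent.S2475
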