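import Groth.Statements.S2477
import Groth.Agent.Lib.RegLoc.PowerSeries
import Groth.Agent.Lib.AdicLim.Finite
import Mathlib

set_option autoImplicit false
universe u
open EGA41

namespace Groth.Agent.S2477

open IsLocalRing in
/-- Let k be a field and A = k[[T_1, …, T_r]] with its usual k-algebra structure. Then the adic
completion Ω̂_{A/k} of Ω_{A/k} is a free A-module of rank r. -/
theorem result (k : Type u) [Field k] (r : ℕ) :
    Module.Finite (MvPowerSeries (Fin r) k) (AdicCompletion (maximalIdeal (MvPowerSeries (Fin r) k)) (Ω[MvPowerSeries (Fin r) k⁄k])) ∧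
    Module.Free (MvPowerSeries (Fin r) k) (AdicCompletion (maximalIdeal (MvPowerSeries (Fin r) k)) (Ω[MvPowerSeries (Fin r) k⁄k])) ∧
      Module.finrank (MvPowerSeries (Fin r) k) (AdicCompletion (maximalIdeal (MvPowerSeries (Fin r) k)) (Ω[MvPowerSeries (Fin r) k⁄k])) = r := by
  classical
  let R := MvPowerSeries (Fin r) k
  let m := maximalIdeal R
  let M := Ω[R⁄k]
  haveI : IsAdicComplete m R := GrothLib.RegLoc.PS.isAdicComplete k
  haveI : IsNoetherianRing R := inferInstance
  let dd := KaehlerDifferential.D k R
  let φ : M →ₗ[R] (Fin r → R) := LinearMap.pi fun i => (MvPowerSeries.pderiv k i).liftKaehlerDifferential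
  let σ : (Fin r → R) →ₗ[R] M := Fintype.linearCombination R fun i => dd (MvPowerSeries.X i)
  have hφ : ∀ f i, φ (dd f) i = MvPowerSeries.pderiv k i f := fun f i =>
    Derivation.liftKaehlerDifferential_comp_D _ f
  have hφσ : φ ∘ₗ σ = LinearMap.id := by
    refine (Pi.basisFun R (Fin r)).ext fun i => funext fun j => ?_
    simp [σ, hφ, MvPowerSeries.pderiv_X, Pi.single_apply, Fintype.linearCombination_apply, eq_comm]
  have hgen : ∀ n : ℕ, ∀ ω : M, ω ∈ LinearMap.range σ ⊔ (m ^ n • ⊤ : Submodule R M) := by
    intro n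
    induction n with
    | zero => intro ω; rw [pow_zero, Ideal.one_eq_top, Submodule.top_smul]; exact Submodule.mem_sup_right Submodule.mem_top
    | succ n ih =>
      intro ω
      have hω : ω ∈ Submodule.span R (Set.range dd) := by rw [KaehlerDifferential.span_range_derivation]; exact Submodule.mem_top
      refine Submodule.span_le.2 ?_ hω
      rintro _ ⟨f, rfl⟩
      have hXr : ∀ i, dd (MvPowerSeries.X i) ∈ LinearMap.range σ := fun i =>
        ⟨Pi.single i 1, by simp [σ]⟩
      have hmem : f - MvPowerSeries.C (MvPowerSeries.constantCoeff f) ∈ Ideal.span (Set.range (MvPowerSeries.X : Fin r → R)) := by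
        rw [GrothLib.RegLoc.PS.span_X, GrothLib.RegLoc.PS.mem_max, map_sub, MvPowerSeries.constantCoeff_C, sub_self]
      have hC : dd (MvPowerSeries.C (MvPowerSeries.constantCoeff f)) = 0 := by
        rw [show (MvPowerSeries.C (MvPowerSeries.constantCoeff f) : R) = algebraMap k R (MvPowerSeries.constantCoeff f) by
          rw [MvPowerSeries.algebraMap_apply]; rfl]
        exact Derivation.map_algebraMap _ _
      obtain ⟨g, hg⟩ := (Submodule.mem_span_range_iff_exists_fun R).1 hmem
      rw [SetLike.mem_coe, ← sub_add_cancel f (MvPowerSeries.C (MvPowerSeries.constantCoeff f)), map_add, hC, add_zero, ← hg, map_sum]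
      refine sum_mem fun i _ => ?_
      rw [smul_eq_mul, Derivation.leibniz]
      refine add_mem (Submodule.mem_sup_left (Submodule.smul_mem _ _ (hXr i))) ?_
      obtain ⟨a, ha, b, hb, hab⟩ := Submodule.mem_sup.1 (ih (dd (g i)))
      rw [← hab, smul_add]
      refine add_mem (Submodule.mem_sup_left (Submodule.smul_mem _ _ ha)) (Submodule.mem_sup_right ?_)
      rw [pow_succ', Submodule.mul_smul]
      exact Submodule.smul_mem_smul (GrothLib.RegLoc.PS.X_mem k i) hb
  have hker : ∀ n : ℕ, ∀ ω : M, φ ω ∈ (m ^ n • ⊤ : Submodule R (Fin r → R)) → ω ∈ (m ^ n • ⊤ : Submodule R M) := by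
    intro n ω hω
    obtain ⟨_, ⟨c, rfl⟩, b, hb, hab⟩ := Submodule.mem_sup.1 (hgen n ω)
    have hφb : φ b ∈ (m ^ n • ⊤ : Submodule R (Fin r → R)) := by
      have := Submodule.mem_map_of_mem (f := φ) hb
      rw [Submodule.map_smul''] at this
      exact Submodule.smul_mono le_rfl le_top this
    have hc : c ∈ (m ^ n • ⊤ : Submodule R (Fin r → R)) := by
      have h1 : φ (σ c) = c := LinearMap.congr_fun hφσ c
      rw [← h1, show σ c = ω - b from eq_sub_of_add_eq hab, map_sub]
      exact sub_mem hω hφb
    rw [← hab]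
    refine add_mem ?_ hb
    have := Submodule.mem_map_of_mem (f := σ) hc
    rw [Submodule.map_smul''] at this
    exact Submodule.smul_mono le_rfl le_top this
  have hbij : Function.Bijective (AdicCompletion.map m φ) := by
    refine ⟨?_, fun y => ⟨AdicCompletion.map m σ y, ?_⟩⟩
    · rw [injective_iff_map_eq_zero]
      intro x hx
      refine AdicCompletion.ext fun n => ?_
      obtain ⟨ω, hω⟩ := Submodule.Quotient.mk_surjective _ (x.val n)
      rw [← hω, AdicCompletion.val_zero, Pi.zero_apply, Submodule.Quotient.mk_eq_zero]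
      refine hker n ω ?_
      rw [← Submodule.Quotient.mk_eq_zero (p := (m ^ n • ⊤ : Submodule R (Fin r → R)))]
      have := congrArg (fun z => AdicCompletion.eval m (Fin r → R) n z) hx
      simp only [AdicCompletion.coe_eval, AdicCompletion.map_val_apply, ← hω, map_zero, AdicCompletion.val_zero,
        Pi.zero_apply] at this
      exact this
    · rw [AdicCompletion.map_comp_apply, hφσ, AdicCompletion.map_id]
      rfl
  haveI : IsAdicComplete m (Fin r → R) := GrothLib.AdicLim.isAdicComplete_of_finite m _
  let e : AdicCompletion m M ≃ₗ[R] (Fin r → R) :=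
    ((LinearEquiv.ofBijective (AdicCompletion.map m φ) hbij).restrictScalars R).trans
      (AdicCompletion.ofLinearEquiv m (Fin r → R)).symm
  exact ⟨Module.Finite.equiv e.symm, Module.Free.of_equiv e.symm, e.finrank_eq.trans (Module.finrank_fin_fun R)⟩

end Groth.Agent.S2477
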