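import Groth.Statements.S2479
import Groth.Agent.Lib.Constr.Images

set_option autoImplicit false
universe u
open EGA41

open Topology

namespace Groth.Agent.S2479

open AlgebraicGeometry CategoryTheory Topology in
/-- Let X be a quasi-compact and quasi-separated scheme and E ⊆ X. Then E = f(X') for some quasi-compact
morphism f : X' → X if and only if E is an intersection of a family of constructible subsets of X. -/
theorem result {X : Scheme.{u}} [CompactSpace X] [QuasiSeparatedSpace X] (E : Set X) :
    (∃ (X' : Scheme.{u}) (f : X' ⟶ X), QuasiCompact f ∧ Set.range f.base = E) ↔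
      ∃ S : Set (Set X), (∀ s ∈ S, IsConstructible s) ∧ E = ⋂₀ S := by
  constructor
  · rintro ⟨X', f, hf, rfl⟩
    refine ⟨_, fun s hs => hs.1, GrothLib.Constr.eq_sInter_isConstructible_of_isClosed ?_⟩
    rw [GrothLib.Constr.isClosed_constructibleTopology_iff_isProConstructible, ← Set.image_univ]
    exact GrothLib.Constr.isProConstructible_image f
      (GrothLib.Constr.isProConstructible_of_isLocallyConstructible IsLocallyConstructible.univ)
  · rintro ⟨S, hS, rfl⟩
    obtain ⟨X', f, hX', hf⟩ := GrothLib.Constr.exists_isAffine_range_eq_of_isProConstructible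
      (GrothLib.Constr.isClosed_constructibleTopology_iff_isProConstructible.1
        (GrothLib.Constr.isClosed_sInter_isConstructible hS))
    exact ⟨X', f, AlgebraicGeometry.quasiCompact_of_compactSpace f, hf⟩

end Groth.Agent.S2479
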