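import Groth.Statements.S2480
import Groth.Agent.S4574
import Groth.Agent.Lib.NagataJac.Main
import Groth.Agent.Lib.NagataFS.Suff
import Groth.Agent.Lib.NagataFS.Conormal
import Groth.Agent.Lib.NagataFS.Lift
import Groth.Agent.Lib.NagataFS.DetectP
import Groth.Agent.Lib.NagataFS.DetectZero

set_option autoImplicit false
universe u
open EGA41

namespace Groth.Agent.S2480

theorem map_maximal_le {k R B : Type u} [CommRing k] [CommRing R] [IsLocalRing R] [CommRing B] [IsLocalRing B]
    [Algebra k R] [Algebra k B] (g : R →ₐ[k] B) (hg : Function.Surjective g) :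
    (IsLocalRing.maximalIdeal R).map g ≤ IsLocalRing.maximalIdeal B :=
  (IsLocalRing.map_maximalIdeal_of_surjective g.toRingHom hg).le

open IsLocalRing in
/-- Let k be a field of characteristic exponent p such that k is a finite extension of k^p (no condition
in characteristic zero); let A be a complete Noetherian local ring with residue field K, K₀ a
separable extension of k contained in A compatibly with k, over which K is finite, and suppose A is
a formally smooth K₀-algebra for its adic topology. Let q be an ideal of A and 𝔭 a prime ideal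
containing q, and B = A/q. Then B_𝔭 is a formally smooth k-algebra for its adic topology if and only
if there exist k-derivations D_1, …, D_m of A into itself and elements f_1, …, f_m of q whose images
generate qA_𝔭, with det(D_i f_j) ∉ 𝔭. (Condition (b') of the source is not stated.) -/
theorem result (p : ℕ) {k K₀ A : Type u} [Field k] [ExpChar k p]
    (hk : p = 1 ∨ Module.Finite (frobenius k p).fieldRange k)
    [Field K₀] [Algebra k K₀] [Algebra.IsGeometricallyReduced k K₀]
    [CommRing A] [IsLocalRing A] [IsNoetherianRing A] [IsAdicComplete (maximalIdeal A) A]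
    [Algebra k A] [Algebra K₀ A] [IsScalarTower k K₀ A] [Module.Finite K₀ (ResidueField A)]
    (hA : CAlgX.IsAdicFormallySmooth K₀ A (maximalIdeal A))
    (q 𝔭 : Ideal A) [𝔭.IsPrime] (hq : q ≤ 𝔭) [(𝔭.map (Ideal.Quotient.mk q)).IsPrime] :
    CAlgX.IsAdicFormallySmooth k (Localization.AtPrime (𝔭.map (Ideal.Quotient.mk q))) (maximalIdeal (Localization.AtPrime (𝔭.map (Ideal.Quotient.mk q)))) ↔
      ∃ (m : ℕ) (D : Fin m → Derivation k A A) (f : Fin m → A), (∀ i, f i ∈ q) ∧
        q.map (algebraMap A (Localization.AtPrime 𝔭)) = Ideal.span (Set.range fun i => algebraMap A (Localization.AtPrime 𝔭) (f i)) ∧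
        Matrix.det (Matrix.of fun i j => D i (f j)) ∉ 𝔭 := by
  classical
  let R := Localization.AtPrime 𝔭
  haveI : IsNoetherianRing R := IsLocalization.isNoetherianRing 𝔭.primeCompl _ inferInstance
  have hAk : CAlgX.IsAdicFormallySmooth k A (maximalIdeal A) := GrothLib.NagataFS.adicFS_of_separable _ hA
  have hR := Groth.Agent.S4574.result hAk 𝔭
  obtain ⟨g0, hg, hker, hga⟩ := GrothLib.NagataJac.exists_surjective_atPrime q 𝔭 hq
  let g : R →ₐ[k] Localization.AtPrime (𝔭.map (Ideal.Quotient.mk q)) :=
    { g0 with
      commutes' := fun c => by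
        show g0 (algebraMap k R c) = _
        rw [IsScalarTower.algebraMap_apply k A R, hga]
        exact (IsScalarTower.algebraMap_apply k (A ⧸ q) (Localization.AtPrime (𝔭.map (Ideal.Quotient.mk q))) c).symm }
  have hgker : RingHom.ker g = q.map (algebraMap A R) := hker
  constructor
  · intro hB
    let s : q → R := fun a => algebraMap A R a
    have hs : q.map (algebraMap A R) = Ideal.span (Set.range s) := by
      show Ideal.span _ = _
      congr 1
      ext z
      exact ⟨fun ⟨a, ha, h⟩ => ⟨⟨a, ha⟩, h⟩, fun ⟨⟨a, ha⟩, h⟩ => ⟨a, ha, h⟩⟩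
    obtain ⟨m, a, hgen, hmin⟩ := GrothLib.NagataFS.exists_minimal_generators s _ hs
    let f : Fin m → A := fun i => (a i : A)
    have hfq : ∀ i, f i ∈ q := fun i => (a i).2
    obtain ⟨δ, hδ⟩ := GrothLib.NagataFS.exists_dual_derivations g hg hB (fun i => algebraMap A R (f i))
      (fun j => hgker.ge (Ideal.mem_map_of_mem _ (hfq j))) (by rw [hgker]; exact hmin)
    obtain ⟨c, Db, hc, hDb⟩ : ∃ (c : A) (Db : Fin m → Derivation k A (A ⧸ 𝔭)), c ∉ 𝔭 ∧
        ∀ i j, Db i (f j) = if i = j then Ideal.Quotient.mk 𝔭 c else 0 := by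
      cases ‹ExpChar k p› with
      | zero =>
        refine GrothLib.NagataFS.exists_detect_zero (K₀ := K₀) 𝔭 f (fun j => hq (hfq j))
          (fun i => (δ i).compAlgebraMap A) fun i j => hδ i j
      | prime hp =>
        haveI := Fact.mk hp
        have hfin : Module.Finite (frobenius k p).fieldRange k := hk.resolve_left hp.ne_one
        have h1 : (algebraMap (frobenius k p).fieldRange k).Finite := RingHom.finite_algebraMap.2 hfin
        have h2 : (frobenius k p).rangeRestrictField.Finite :=
          RingHom.Finite.of_surjective _ (frobenius k p).rangeRestrictField_bijective.2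
        exact GrothLib.NagataFS.exists_detect_char p (K₀ := K₀) (h1.comp h2) 𝔭 hR f δ hδ
    choose D hD using fun i => GrothLib.NagataFS.exists_lift_derivation hAk 𝔭 (Db i)
    refine ⟨m, D, f, hfq, hgen, fun hdet => ?_⟩
    have h1 : Ideal.Quotient.mk 𝔭 (Matrix.det (Matrix.of fun i j => D i (f j))) = Ideal.Quotient.mk 𝔭 c ^ m := by
      rw [RingHom.map_det, show (Ideal.Quotient.mk 𝔭).mapMatrix (Matrix.of fun i j => D i (f j)) =
        Matrix.diagonal fun _ : Fin m => Ideal.Quotient.mk 𝔭 c from Matrix.ext fun i j => by
          rw [RingHom.mapMatrix_apply, Matrix.map_apply, Matrix.of_apply, hD, hDb, Matrix.diagonal_apply],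
        Matrix.det_diagonal, Finset.prod_const, Finset.card_univ, Fintype.card_fin]
    rw [Ideal.Quotient.eq_zero_iff_mem.2 hdet] at h1
    exact hc (Ideal.Quotient.eq_zero_iff_mem.1 (eq_zero_of_pow_eq_zero h1.symm))
  · rintro ⟨m, D, f, hf, hgen, hdet⟩
    haveI : Algebra.FormallySmooth A R := Algebra.FormallySmooth.of_isLocalization 𝔭.primeCompl
    choose D' hD' using fun i => GrothLib.NagataFS.exists_extend ((Algebra.linearMap A R).compDer (D i))
    refine GrothLib.NagataFS.adicFS_quotient g hg (maximalIdeal R) _ ?_ hR D' (fun i => algebraMap A R (f i))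
      (hgker.trans hgen) ?_
    · exact map_maximal_le g hg
    · rw [show (Matrix.of fun i j => D' i (algebraMap A R (f j))) =
        (algebraMap A R).mapMatrix (Matrix.of fun i j => D i (f j)) from Matrix.ext fun i j => by
          rw [RingHom.mapMatrix_apply, Matrix.map_apply, Matrix.of_apply, Matrix.of_apply, hD']
          rfl, ← RingHom.map_det]
      exact IsLocalization.map_units R (⟨_, hdet⟩ : 𝔭.primeCompl)

end Groth.Agent.S2480
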