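import Groth.Statements.S2481
import Groth.Agent.Lib.AdicFS.Basic
import Mathlib

set_option autoImplicit false
universe u
open EGA41

namespace Groth.Agent.S2481

open IsLocalRing

/-- The lifting property for local Artinian test algebras. -/
def ArtLifts (A B : Type u) [CommRing A] [IsLocalRing A] [CommRing B] [IsLocalRing B] [Algebra A B] : Prop :=
  ∀ (C : Type u) [CommRing C] [IsLocalRing C] [IsArtinianRing C] [Algebra A C] [IsLocalHom (algebraMap A C)]
    (J : Ideal C), IsNilpotent J → ∀ [IsLocalRing (C ⧸ J)] (u : B →ₐ[A] C ⧸ J) [IsLocalHom u.toRingHom],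
    Function.Bijective (ResidueField.map u.toRingHom) →
    ∃ f : B →ₐ[A] C, IsLocalHom f.toRingHom ∧ (Ideal.Quotient.mkₐ A J).comp f = u

variable {A B : Type u} [CommRing A] [IsLocalRing A] [CommRing B] [IsLocalRing B] [IsNoetherianRing B]
  [Algebra A B] [IsLocalHom (algebraMap A B)]

/-- An extension with simple kernel of an Artinian quotient of `B` lifts. -/
theorem exists_lift_simple (hart : ArtLifts A B) {C : Type u} [CommRing C] [Algebra A C] (N : Ideal C)
    (hN : N ^ 2 = ⊥) (hsimple : ∀ I : Ideal C, I ≤ N → I = ⊥ ∨ I = N)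
    (v : B →ₐ[A] C ⧸ N) (hv : Function.Surjective v) [Nontrivial (C ⧸ N)] {k : ℕ}
    (hk : ∀ x ∈ maximalIdeal B ^ k, v x = 0) :
    ∃ f : B →ₐ[A] C, (Ideal.Quotient.mkₐ A N).comp f = v := by
  haveI : IsLocalRing (C ⧸ N) := IsLocalRing.of_surjective' v.toRingHom hv
  haveI : IsLocalHom v.toRingHom := (show Function.Surjective v.toRingHom from hv).isLocalHom
  have hmap : (maximalIdeal B).map v.toRingHom = maximalIdeal (C ⧸ N) :=
    IsLocalRing.map_maximalIdeal_of_surjective v.toRingHom hv
  haveI : IsNoetherianRing (C ⧸ N) := isNoetherianRing_of_surjective B _ v.toRingHom hv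
  haveI : IsArtinianRing (C ⧸ N) := by
    rw [isArtinianRing_iff_isNilpotent_maximalIdeal]
    refine ⟨k, ?_⟩
    rw [← hmap, ← Ideal.map_pow, Submodule.zero_eq_bot, Ideal.map_eq_bot_iff_le_ker]
    exact fun x hx => hk x hx
  haveI : IsArtinian C N := by
    haveI : Finite (Submodule C N) := by
      classical
      refine Finite.of_injective (fun I : Submodule C N => decide (I = ⊥)) fun I I' h => ?_
      have hh : I = ⊥ ↔ I' = ⊥ := decide_eq_decide.1 h
      have key : ∀ I : Submodule C N, I = ⊥ ∨ I = ⊤ := fun I => by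
        have hc : (I.map N.subtype).comap N.subtype = I := Submodule.comap_map_eq_of_injective N.injective_subtype I
        rcases hsimple (I.map N.subtype) (Submodule.map_subtype_le N I) with h | h
        · left
          rw [← hc, h, Submodule.comap_bot, Submodule.ker_subtype]
        · right
          rw [← hc, h, Submodule.comap_subtype_self]
      rcases key I with h1 | h1 <;> rcases key I' with h2 | h2
      · rw [h1, h2]
      · rw [h1, hh.1 h1]
      · rw [hh.2 h2, h2]
      · rw [h1, h2]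
    exact Finite.to_wellFoundedLT
  haveI : Nontrivial C := (Ideal.Quotient.mk N).domain_nontrivial
  have hnil : N ≤ nilradical C := fun x hx => ⟨2, (Ideal.mem_bot).1 (hN ▸ Ideal.pow_mem_pow hx 2)⟩
  haveI : IsLocalHom (Ideal.Quotient.mk N) := ⟨fun a ha => by
    obtain ⟨b, hb⟩ := ha.exists_right_inv
    obtain ⟨b, rfl⟩ := Ideal.Quotient.mk_surjective b
    have h1 : a * b - 1 ∈ N := Ideal.Quotient.eq.1 (by rw [map_mul, hb, map_one])
    have h2 : IsUnit (a * b) := by
      rw [← add_sub_cancel 1 (a * b)]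
      exact (mem_nilradical.1 (hnil h1)).isUnit_one_add
    exact isUnit_of_mul_isUnit_left h2⟩
  haveI : IsLocalRing C := IsLocalRing.of_nonunits_add fun a b ha hb hab => by
    have h := hab.map (Ideal.Quotient.mk N)
    rw [map_add] at h
    rcases IsLocalRing.isUnit_or_isUnit_of_isUnit_add h with h1 | h1
    · exact ha (isUnit_of_map_unit _ _ h1)
    · exact hb (isUnit_of_map_unit _ _ h1)
  haveI : IsArtinianRing C := by
    haveI : IsArtinian C (C ⧸ N) := isArtinian_of_surjective_algebraMap (Ideal.Quotient.mk_surjective (I := N))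
    exact (isArtinian_iff_submodule_quotient N).2 ⟨inferInstance, inferInstance⟩
  haveI : IsLocalHom (algebraMap A C) := ⟨fun a ha => by
    refine isUnit_of_map_unit (algebraMap A B) a (isUnit_of_map_unit v.toRingHom _ ?_)
    show IsUnit (v (algebraMap A B a))
    rw [v.commutes]
    exact ha.map (Ideal.Quotient.mk N)⟩
  obtain ⟨f, -, hf⟩ := hart C N ⟨2, hN⟩ v ⟨RingHom.injective _, fun y => by
    obtain ⟨y, rfl⟩ := residue_surjective y
    obtain ⟨b, rfl⟩ := hv y
    exact ⟨residue B b, rfl⟩⟩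
  exact ⟨f, hf⟩

/-- Extensions of an Artinian quotient of `B` by a vector space lift. -/
theorem exists_lift_vector (hart : ArtLifts A B) {C : Type u} [CommRing C] [Algebra A C] (N : Ideal C)
    (hN : N ^ 2 = ⊥) (v : B →ₐ[A] C ⧸ N) (hv : Function.Surjective v) [Nontrivial (C ⧸ N)] {k : ℕ}
    (hk : ∀ x ∈ maximalIdeal B ^ k, v x = 0)
    (hm : ∀ b ∈ maximalIdeal B, ∀ c, Ideal.Quotient.mk N c = v b → ∀ y ∈ N, c * y = 0) :
    ∃ f : B →ₐ[A] C, (Ideal.Quotient.mkₐ A N).comp f = v := by
  classical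
  have hNN : ∀ a ∈ N, ∀ b ∈ N, a * b = 0 := fun a ha b hb => by
    have := Ideal.mul_mem_mul ha hb
    rwa [← pow_two, hN, Ideal.mem_bot] at this
  choose s hs using fun b : B => Ideal.Quotient.mk_surjective (v b)
  have key : ∀ c c' : C, Ideal.Quotient.mk N c = Ideal.Quotient.mk N c' → ∀ y ∈ N, c * y = c' * y := fun c c' hc y hy => by
    linear_combination hNN _ (Ideal.Quotient.eq.1 hc) y hy
  letI : Module B N :=
    { smul := fun b y => ⟨s b * y.1, N.mul_mem_left _ y.2⟩
      one_smul := fun y => Subtype.ext ((key _ 1 (by rw [hs, map_one, map_one]) _ y.2).trans (one_mul _))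
      mul_smul := fun b b' y => Subtype.ext ((key _ (s b * s b') (by rw [hs, map_mul, map_mul, hs, hs]) _ y.2).trans
        (mul_assoc _ _ _))
      smul_zero := fun b => Subtype.ext (mul_zero _)
      smul_add := fun b y y' => Subtype.ext (mul_add _ _ _)
      add_smul := fun b b' y => Subtype.ext ((key _ (s b + s b') (by rw [hs, map_add, map_add, hs, hs]) _ y.2).trans
        (add_mul _ _ _))
      zero_smul := fun y => Subtype.ext ((key _ 0 (by rw [hs, map_zero, map_zero]) _ y.2).trans (zero_mul _)) }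
  have htor : Module.IsTorsionBySet B N (maximalIdeal B : Set B) := fun y b =>
    Subtype.ext (hm b.1 b.2 (s b.1) (hs b.1) y.1 y.2)
  letI : Module (ResidueField B) N := Module.IsTorsionBySet.module htor
  have hsmul : ∀ (b : B) (c : C), Ideal.Quotient.mk N c = v b → ∀ y : N,
      c * (y : C) = ((residue B b • y : N) : C) := fun b c hc y => key _ (s b) (hc.trans (hs b).symm) _ y.2
  let ev : N →ₗ[ResidueField B] ((N →ₗ[ResidueField B] ResidueField B) → ResidueField B) :=
    LinearMap.pi fun φ => φ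
  have hev : Function.Injective ev := fun y y' h => sub_eq_zero.1
    ((Module.forall_dual_apply_eq_zero_iff (ResidueField B) (y - y')).1 fun φ => by
      rw [map_sub, sub_eq_zero]; exact congrFun h φ)
  obtain ⟨r, hr⟩ := ev.exists_leftInverse_of_injective (LinearMap.ker_eq_bot.2 hev)
  have hr' : ∀ y, r (ev y) = y := fun y => LinearMap.congr_fun hr y
  -- the kernels of the functionals
  have hlift : ∀ φ : N →ₗ[ResidueField B] ResidueField B, ∃ t : B → C,
      (∀ b, Ideal.Quotient.mk N (t b) = v b) ∧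
      (∀ b b', ∀ h : t (b + b') - (t b + t b') ∈ N, φ ⟨_, h⟩ = 0) ∧
      (∀ b b', ∀ h : t (b * b') - t b * t b' ∈ N, φ ⟨_, h⟩ = 0) ∧
      (∀ a, ∀ h : t (algebraMap A B a) - algebraMap A C a ∈ N, φ ⟨_, h⟩ = 0) := by
    intro φ
    let W : Ideal C :=
      { carrier := {c | ∃ h : c ∈ N, φ ⟨c, h⟩ = 0}
        zero_mem' := ⟨N.zero_mem, map_zero φ⟩
        add_mem' := fun {x y} ⟨hx, hx'⟩ ⟨hy, hy'⟩ => ⟨N.add_mem hx hy, by
          rw [show (⟨x + y, N.add_mem hx hy⟩ : N) = ⟨x, hx⟩ + ⟨y, hy⟩ from rfl, map_add, hx', hy', add_zero]⟩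
        smul_mem' := fun c y ⟨hy, hy'⟩ => ⟨N.mul_mem_left c hy, by
          obtain ⟨b, hb⟩ := hv (Ideal.Quotient.mk N c)
          rw [show (⟨c • y, N.mul_mem_left c hy⟩ : N) = residue B b • ⟨y, hy⟩ from
            Subtype.ext (hsmul b c hb.symm ⟨y, hy⟩), map_smul, hy', smul_zero]⟩ }
    have hWN : W ≤ N := fun y hy => hy.1
    let N' : Ideal (C ⧸ W) := N.map (Ideal.Quotient.mk W)
    let q : C ⧸ N →ₐ[A] (C ⧸ W) ⧸ N' := Ideal.quotientMapₐ N' (Ideal.Quotient.mkₐ A W) Ideal.le_comap_map
    have hcomap : N'.comap (Ideal.Quotient.mk W) = N := by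
      rw [Ideal.comap_map_of_surjective _ Ideal.Quotient.mk_surjective, ← RingHom.ker_eq_comap_bot, Ideal.mk_ker,
        sup_eq_left]
      exact hWN
    have hq : Function.Injective q := Ideal.quotientMap_injective' (H := Ideal.le_comap_map) hcomap.le
    have hqs : Function.Surjective q := Ideal.quotientMap_surjective (H := Ideal.le_comap_map) Ideal.Quotient.mk_surjective
    haveI : Nontrivial ((C ⧸ W) ⧸ N') := hq.nontrivial
    have hN' : N' ^ 2 = ⊥ := by rw [← Ideal.map_pow, hN, Ideal.map_bot]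
    have hsimple : ∀ I : Ideal (C ⧸ W), I ≤ N' → I = ⊥ ∨ I = N' := by
      intro I hI
      by_cases hIW : I.comap (Ideal.Quotient.mk W) ≤ W
      · refine Or.inl (eq_bot_iff.2 fun x hx => ?_)
        obtain ⟨x, rfl⟩ := Ideal.Quotient.mk_surjective x
        exact (Ideal.mem_bot).2 (Ideal.Quotient.eq_zero_iff_mem.2 (hIW hx))
      · refine Or.inr (hI.antisymm (Ideal.map_le_iff_le_comap.2 fun z hz => ?_))
        obtain ⟨y, hy, hyW⟩ := SetLike.not_le_iff_exists.1 hIW
        have hyN : y ∈ N := hcomap.le (Ideal.comap_mono hI hy)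
        have hy0 : φ ⟨y, hyN⟩ ≠ 0 := fun h => hyW ⟨hyN, h⟩
        obtain ⟨b, hb⟩ := residue_surjective (φ ⟨z, hz⟩ / φ ⟨y, hyN⟩)
        have hmem : z - s b * y ∈ W := ⟨N.sub_mem hz (N.mul_mem_left _ hyN), by
          rw [show (⟨z - s b * y, N.sub_mem hz (N.mul_mem_left _ hyN)⟩ : N) = ⟨z, hz⟩ - residue B b • ⟨y, hyN⟩ from
            Subtype.ext (congrArg (z - ·) (hsmul b (s b) (hs b) ⟨y, hyN⟩)), map_sub, map_smul, hb, smul_eq_mul,
            div_mul_cancel₀ _ hy0, sub_self]⟩
        have h2 : z - s b * y ∈ I.comap (Ideal.Quotient.mk W) := by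
          rw [Ideal.mem_comap, Ideal.Quotient.eq_zero_iff_mem.2 hmem]; exact zero_mem _
        have := Ideal.add_mem _ h2 (Ideal.mul_mem_left _ (s b) hy)
        rw [sub_add_cancel] at this
        exact this
    obtain ⟨f, hf⟩ := exists_lift_simple hart N' hN' hsimple (q.comp v) (hqs.comp hv) (k := k)
      (fun x hx => by rw [AlgHom.comp_apply, hk x hx, map_zero])
    choose t ht using fun b : B => Ideal.Quotient.mk_surjective (f b)
    refine ⟨t, fun b => hq ?_, fun b b' h => ?_, fun b b' h => ?_, fun a h => ?_⟩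
    · have := AlgHom.congr_fun hf b
      rw [AlgHom.comp_apply, AlgHom.comp_apply, ← ht] at this
      exact this
    · obtain ⟨_, h'⟩ : t (b + b') - (t b + t b') ∈ W :=
        Ideal.Quotient.eq.1 (by rw [map_add, ht, ht, ht, map_add])
      exact h'
    · obtain ⟨_, h'⟩ : t (b * b') - t b * t b' ∈ W :=
        Ideal.Quotient.eq.1 (by rw [map_mul, ht, ht, ht, map_mul])
      exact h'
    · obtain ⟨_, h'⟩ : t (algebraMap A B a) - algebraMap A C a ∈ W :=
        Ideal.Quotient.eq.1 (by rw [ht, f.commutes]; rfl)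
      exact h'
  choose t ht tadd tmul talg using hlift
  have hd : ∀ b c, Ideal.Quotient.mk N c = v b → ∀ φ, t φ b - c ∈ N := fun b c hc φ =>
    Ideal.Quotient.eq.1 ((ht φ b).trans hc.symm)
  let Δ : ∀ b c, Ideal.Quotient.mk N c = v b → (N →ₗ[ResidueField B] ResidueField B) → ResidueField B :=
    fun b c hc φ => φ ⟨_, hd b c hc φ⟩
  let F : B → C := fun b => s b + (r (Δ b (s b) (hs b)) : C)
  have hF : ∀ b c (hc : Ideal.Quotient.mk N c = v b), F b = c + (r (Δ b c hc) : C) := fun b c hc => by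
    have h1 : Δ b (s b) (hs b) = Δ b c hc - ev ⟨s b - c, Ideal.Quotient.eq.1 ((hs b).trans hc.symm)⟩ := by
      funext φ
      show φ _ = φ _ - φ _
      rw [← map_sub]
      exact congrArg φ (Subtype.ext (by simp))
    show s b + (r (Δ b (s b) (hs b)) : C) = _
    rw [h1, map_sub, hr', Submodule.coe_sub]
    ring
  have halg : ∀ a, F (algebraMap A B a) = algebraMap A C a := fun a => by
    have hc : Ideal.Quotient.mk N (algebraMap A C a) = v (algebraMap A B a) := by rw [v.commutes]; rfl
    have h0 : Δ _ _ hc = 0 := funext fun φ => talg φ a _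
    rw [hF _ _ hc, h0, map_zero, Submodule.coe_zero, add_zero]
  have hadd : ∀ b b', F (b + b') = F b + F b' := fun b b' => by
    have hc : Ideal.Quotient.mk N (s b + s b') = v (b + b') := by rw [map_add, map_add, hs, hs]
    have h0 : Δ _ _ hc = Δ b (s b) (hs b) + Δ b' (s b') (hs b') := funext fun φ => by
      have hm0 : t φ (b + b') - (t φ b + t φ b') ∈ N := Ideal.Quotient.eq.1 (by rw [map_add, ht, ht, ht, map_add])
      show φ _ = φ _ + φ _
      rw [← sub_eq_zero, ← map_add, ← map_sub, ← tadd φ b b' hm0]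
      exact congrArg φ (Subtype.ext (by simp; ring))
    rw [hF _ _ hc, h0, map_add, Submodule.coe_add]
    show _ = s b + _ + (s b' + _)
    ring
  have hmul : ∀ b b', F (b * b') = F b * F b' := fun b b' => by
    have hc : Ideal.Quotient.mk N (s b * s b') = v (b * b') := by rw [map_mul, map_mul, hs, hs]
    have h0 : Δ _ _ hc = residue B b • Δ b' (s b') (hs b') + residue B b' • Δ b (s b) (hs b) := funext fun φ => by
      have hm0 : t φ (b * b') - t φ b * t φ b' ∈ N := Ideal.Quotient.eq.1 (by rw [map_mul, ht, ht, ht, map_mul])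
      show φ _ = residue B b • φ _ + residue B b' • φ _
      rw [← sub_eq_zero, ← map_smul, ← map_smul, ← map_add, ← map_sub, ← tmul φ b b' hm0]
      refine congrArg φ (Subtype.ext ?_)
      have e1 := hsmul b (s b) (hs b) ⟨_, hd b' (s b') (hs b') φ⟩
      have e2 := hsmul b' (s b') (hs b') ⟨_, hd b (s b) (hs b) φ⟩
      have e3 := hNN _ (hd b (s b) (hs b) φ) _ (hd b' (s b') (hs b') φ)
      simp only [Submodule.coe_sub, Submodule.coe_add]
      rw [← e1, ← e2]
      linear_combination e3
    rw [hF _ _ hc, h0, map_add, map_smul, map_smul, Submodule.coe_add]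
    rw [← hsmul b (s b) (hs b), ← hsmul b' (s b') (hs b')]
    show _ = (s b + _) * (s b' + _)
    linear_combination - hNN _ (r (Δ b (s b) (hs b))).2 _ (r (Δ b' (s b') (hs b'))).2
  let f : B →ₐ[A] C :=
    { toFun := F
      map_one' := by rw [← map_one (algebraMap A B), halg, map_one]
      map_mul' := hmul
      map_zero' := by rw [← map_zero (algebraMap A B), halg, map_zero]
      map_add' := hadd
      commutes' := halg }
  refine ⟨f, AlgHom.ext fun b => ?_⟩
  show Ideal.Quotient.mk N (s b + _) = v b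
  rw [map_add, hs, Ideal.Quotient.eq_zero_iff_mem.2 (r (Δ b (s b) (hs b))).2, add_zero]

/-- The vector space case without surjectivity. -/
theorem exists_lift_vector' (hart : ArtLifts A B) {C : Type u} [CommRing C] [Algebra A C] (N : Ideal C)
    (hN : N ^ 2 = ⊥) (v : B →ₐ[A] C ⧸ N) {k : ℕ}
    (hk : ∀ x ∈ maximalIdeal B ^ k, v x = 0)
    (hm : ∀ b ∈ maximalIdeal B, ∀ c, Ideal.Quotient.mk N c = v b → ∀ y ∈ N, c * y = 0) :
    ∃ f : B →ₐ[A] C, (Ideal.Quotient.mkₐ A N).comp f = v := by
  rcases subsingleton_or_nontrivial (C ⧸ N) with h | h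
  · have hNt : N = ⊤ := Ideal.Quotient.subsingleton_iff.1 h
    haveI : Subsingleton C := by
      have h1 : (1 : C) = 0 := by
        have := Ideal.pow_mem_pow (I := N) (hNt ▸ Submodule.mem_top (x := (1 : C))) 2
        rwa [hN, Ideal.mem_bot, one_pow] at this
      exact subsingleton_of_zero_eq_one h1.symm
    exact ⟨{ toFun := fun _ => 0, map_one' := Subsingleton.elim _ _, map_mul' := fun _ _ => Subsingleton.elim _ _,
             map_zero' := rfl, map_add' := fun _ _ => Subsingleton.elim _ _,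
             commutes' := fun _ => Subsingleton.elim _ _ }, AlgHom.ext fun _ => Subsingleton.elim _ _⟩
  let C₁ : Subalgebra A C := v.range.comap (Ideal.Quotient.mkₐ A N)
  let N₁ : Ideal C₁ := N.comap C₁.val
  let j : C₁ ⧸ N₁ →ₐ[A] C ⧸ N := Ideal.quotientMapₐ N C₁.val le_rfl
  have hj : Function.Injective j := Ideal.quotientMap_injective
  have hsub : ∀ b, v b ∈ j.range := fun b => by
    obtain ⟨c, hc⟩ := Ideal.Quotient.mk_surjective (v b)
    exact ⟨Ideal.Quotient.mk N₁ ⟨c, ⟨b, hc.symm⟩⟩, hc⟩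
  let v₁ : B →ₐ[A] C₁ ⧸ N₁ := (AlgEquiv.ofInjective j hj).symm.toAlgHom.comp (v.codRestrict j.range hsub)
  have hjv : ∀ b, j (v₁ b) = v b := fun b =>
    congrArg Subtype.val ((AlgEquiv.ofInjective j hj).apply_symm_apply ⟨v b, hsub b⟩)
  have hv₁ : Function.Surjective v₁ := fun x => by
    obtain ⟨⟨c, b, hb⟩, rfl⟩ := Ideal.Quotient.mk_surjective x
    exact ⟨b, hj ((hjv b).trans hb)⟩
  haveI : Nontrivial (C₁ ⧸ N₁) := j.toRingHom.domain_nontrivial
  have hN₁ : N₁ ^ 2 = ⊥ := by
    rw [eq_bot_iff, pow_two, Ideal.mul_le]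
    intro x hx y hy
    rw [Ideal.mem_bot]
    refine Subtype.ext ?_
    have := Ideal.mul_mem_mul (show (x : C) ∈ N from hx) (show (y : C) ∈ N from hy)
    rwa [← pow_two, hN, Ideal.mem_bot] at this
  obtain ⟨f, hf⟩ := exists_lift_vector hart N₁ hN₁ v₁ hv₁
    (fun x hx => hj (by rw [hjv, hk x hx, map_zero]))
    (fun b hb c hc y hy => Subtype.ext (hm b hb c (by rw [← hjv, ← hc]; rfl) y hy))
  refine ⟨C₁.val.comp f, AlgHom.ext fun b => ?_⟩
  rw [← hjv, ← hf]
  rfl

/-- Square zero extensions lift. -/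
theorem exists_lift (hart : ArtLifts A B) : ∀ (n : ℕ) (C : Type u) [CommRing C] [Algebra A C] (J : Ideal C),
    J ^ 2 = ⊥ → ∀ u : B →ₐ[A] C ⧸ J, (∃ k : ℕ, ∀ x ∈ maximalIdeal B ^ k, u x = 0) →
      (((maximalIdeal B).map u.toRingHom).comap (Ideal.Quotient.mk J)) ^ n * J = ⊥ →
      ∃ v : B →ₐ[A] C, (Ideal.Quotient.mkₐ A J).comp v = u := by
  intro n
  induction n with
  | zero =>
    intro C _ _ J _ u _ h
    rw [pow_zero, one_mul] at h
    subst h
    exact ⟨(AlgEquiv.quotientBot A C).toAlgHom.comp u, AlgHom.ext fun b => by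
      exact (AlgEquiv.quotientBot A C).symm_apply_apply (u b)⟩
  | succ n ih =>
    intro C _ _ J hJ u hu h
    let M := ((maximalIdeal B).map u.toRingHom).comap (Ideal.Quotient.mk J)
    let N : Ideal C := M ^ n * J
    have hNJ : N ≤ J := Ideal.mul_le.2 fun a _ b hb => J.mul_mem_left a hb
    let J' : Ideal (C ⧸ N) := J.map (Ideal.Quotient.mk N)
    let q : C ⧸ J →ₐ[A] (C ⧸ N) ⧸ J' := Ideal.quotientMapₐ J' (Ideal.Quotient.mkₐ A N) Ideal.le_comap_map
    have hcomap : J'.comap (Ideal.Quotient.mk N) = J := by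
      rw [Ideal.comap_map_of_surjective _ Ideal.Quotient.mk_surjective, ← RingHom.ker_eq_comap_bot, Ideal.mk_ker,
        sup_eq_left]
      exact hNJ
    have hq : Function.Injective q := Ideal.quotientMap_injective' (H := Ideal.le_comap_map) hcomap.le
    have hqs : Function.Surjective q := Ideal.quotientMap_surjective (H := Ideal.le_comap_map) Ideal.Quotient.mk_surjective
    have hM' : ((maximalIdeal B).map (q.comp u).toRingHom).comap (Ideal.Quotient.mk J') ≤ M.map (Ideal.Quotient.mk N) := by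
      intro x hx
      obtain ⟨c, rfl⟩ := Ideal.Quotient.mk_surjective x
      refine Ideal.mem_map_of_mem _ (show Ideal.Quotient.mk J c ∈ (maximalIdeal B).map u.toRingHom from ?_)
      have h1 : q (Ideal.Quotient.mk J c) ∈ ((maximalIdeal B).map u.toRingHom).map q.toRingHom := by
        rw [Ideal.map_map]; exact hx
      obtain ⟨z, hz, hzq⟩ := (Ideal.mem_map_iff_of_surjective q.toRingHom hqs).1 h1
      exact hq hzq ▸ hz
    obtain ⟨k, hk⟩ := hu
    obtain ⟨v, hv⟩ := ih (C ⧸ N) J' (by rw [← Ideal.map_pow, hJ, Ideal.map_bot]) (q.comp u)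
      ⟨k, fun x hx => by rw [AlgHom.comp_apply, hk x hx, map_zero]⟩ (by
        rw [eq_bot_iff]
        refine (Ideal.mul_mono_left (Ideal.pow_right_mono hM' n)).trans ?_
        rw [← Ideal.map_pow, ← Ideal.map_mul, Ideal.map_quotient_self])
    obtain ⟨j, hj⟩ := GrothLib.AdicFS.exists_pow_of_lift (J := J') ⟨2, by rw [← Ideal.map_pow, hJ, Ideal.map_bot]; rfl⟩ v
      (I := maximalIdeal B) ⟨k, fun x hx => by
        refine (AlgHom.congr_fun hv x).trans ?_
        rw [AlgHom.comp_apply, hk x hx, map_zero]⟩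
    obtain ⟨f, hf⟩ := exists_lift_vector' hart N (by
        refine eq_bot_iff.2 (le_trans (Ideal.pow_right_mono hNJ 2) hJ.le)) v hj (by
      intro b hb c hc y hy
      have hcJ : Ideal.Quotient.mk J c = u b := hq (by
        refine Eq.trans ?_ (AlgHom.congr_fun hv b)
        show Ideal.Quotient.mk J' (Ideal.Quotient.mk N c) = Ideal.Quotient.mk J' (v b)
        rw [hc])
      have hcM : c ∈ M := Ideal.mem_comap.2 (hcJ ▸ Ideal.mem_map_of_mem u.toRingHom hb)
      have := Ideal.mul_mem_mul hcM hy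
      rwa [show M * N = M ^ (n + 1) * J by rw [pow_succ', mul_assoc], h, Ideal.mem_bot] at this)
    refine ⟨f, AlgHom.ext fun b => hq ?_⟩
    refine Eq.trans ?_ (AlgHom.congr_fun hv b)
    show Ideal.Quotient.mk J' (Ideal.Quotient.mk N (f b)) = Ideal.Quotient.mk J' (v b)
    rw [← hf]
    rfl

open IsLocalRing in
/-- Let A → B be a local homomorphism of Noetherian local rings with the adic topologies, K the residue
field of B. Then B is formally smooth over A if and only if: for every Artinian local ring C with a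
local homomorphism A → C, every nilpotent ideal J of C and every local A-algebra homomorphism u : B
→ C/J inducing a bijection of residue fields (so that C has residue field K and u induces the
identity on it), u is induced by a local A-algebra homomorphism B → C. -/
theorem result {A B : Type u} [CommRing A] [IsLocalRing A] [IsNoetherianRing A] [CommRing B] [IsLocalRing B] [IsNoetherianRing B]
    [Algebra A B] [IsLocalHom (algebraMap A B)] :
    EGA41.IsFormallySmoothAdic A (maximalIdeal A) B (maximalIdeal B) ↔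
      ∀ (C : Type u) [CommRing C] [IsLocalRing C] [IsArtinianRing C] [Algebra A C] [IsLocalHom (algebraMap A C)]
        (J : Ideal C), IsNilpotent J → ∀ [IsLocalRing (C ⧸ J)] (u : B →ₐ[A] C ⧸ J) [IsLocalHom u.toRingHom],
        Function.Bijective (ResidueField.map u.toRingHom) →
        ∃ f : B →ₐ[A] C, IsLocalHom f.toRingHom ∧ (Ideal.Quotient.mkₐ A J).comp f = u := by
  constructor
  · intro hfs C _ _ _ _ _ J hJ _ w _ _
    have hloc : ∀ {R S : Type u} [CommRing R] [IsLocalRing R] [CommRing S] [IsLocalRing S] (g : R →+* S)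
        [IsLocalHom g], (maximalIdeal R).map g ≤ maximalIdeal S := fun g _ =>
      ((local_hom_TFAE g).out 0 2).1 ‹_›
    obtain ⟨n, hn⟩ : IsNilpotent (maximalIdeal C) :=
      (isArtinianRing_iff_isNilpotent_maximalIdeal C).1 ‹_›
    have hmapJ : (maximalIdeal C).map (Ideal.Quotient.mk J) = maximalIdeal (C ⧸ J) :=
      IsLocalRing.map_maximalIdeal_of_surjective _ Ideal.Quotient.mk_surjective
    obtain ⟨f, hf⟩ := hfs C J hJ ⟨n, by
      rw [eq_bot_iff, Ideal.map_pow]
      exact (Ideal.pow_right_mono (hloc _) n).trans hn.le⟩ w ⟨n, (GrothLib.AdicFS.kills_iff_map_eq_bot w _).2 (by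
        rw [eq_bot_iff, Ideal.map_pow]
        refine (Ideal.pow_right_mono (hloc _) n).trans ?_
        rw [← hmapJ, ← Ideal.map_pow, hn, Submodule.zero_eq_bot, Ideal.map_bot])⟩
    refine ⟨f, ⟨fun b hb => ?_⟩, hf⟩
    refine isUnit_of_map_unit w.toRingHom b ?_
    rw [← hf]
    exact hb.map (Ideal.Quotient.mk J)
  · intro hart
    refine GrothLib.AdicFS.isFormallySmoothAdic_of_sqLifts fun C _ _ J hJ _ u hu => ?_
    obtain ⟨k, hk⟩ := hu
    refine exists_lift hart k C J hJ u ⟨k, hk⟩ (eq_bot_iff.2 ((Ideal.mul_mono_left ?_).trans (pow_two J ▸ hJ).le))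
    refine (Ideal.le_comap_pow _ k).trans ?_
    rw [← Ideal.map_pow, (GrothLib.AdicFS.kills_iff_map_eq_bot u _).1 hk, ← RingHom.ker_eq_comap_bot, Ideal.mk_ker]

end Groth.Agent.S2481
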