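import Groth.Statements.S2482
import Groth.Agent.S2456
import Groth.Agent.Lib.AdicFSLoc.FlatFibre
import Groth.Agent.Lib.SepField.Smooth
import Mathlib

set_option autoImplicit false
universe u
open EGA41

namespace Groth.Agent.S2482

open IsLocalRing in
/-- (a) ⟹ (b): let A, B be complete discrete valuation rings and u : A → B a ring homomorphism with
u(𝔪_A)B = 𝔪_B, such that the residue field L of B is separable over the residue field K of A. Then
for every complete discrete valuation ring B', every homomorphism u' : A → B' with u'(𝔪_A)B' =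
𝔪_{B'} and every isomorphism σ of residue fields L ≅ L' compatible with the maps from K, there is an
isomorphism w : B ≅ B' with u' = w ∘ u inducing σ on residue fields. -/
theorem result {A B B' : Type u} [CommRing A] [IsDomain A] [IsDiscreteValuationRing A] [IsAdicComplete (maximalIdeal A) A]
    [CommRing B] [IsDomain B] [IsDiscreteValuationRing B] [IsAdicComplete (maximalIdeal B) B]
    [CommRing B'] [IsDomain B'] [IsDiscreteValuationRing B'] [IsAdicComplete (maximalIdeal B') B']
    (u : A →+* B) [IsLocalHom u] (hu : (maximalIdeal A).map u = maximalIdeal B)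
    (hsep : letI := (ResidueField.map u).toAlgebra; Algebra.IsGeometricallyReduced (ResidueField A) (ResidueField B))
    (u' : A →+* B') [IsLocalHom u'] (hu' : (maximalIdeal A).map u' = maximalIdeal B')
    (σ : ResidueField B ≃+* ResidueField B') (hσ : (σ : ResidueField B →+* ResidueField B').comp (ResidueField.map u) = ResidueField.map u') :
    ∃ w : B ≃+* B', (w : B →+* B').comp u = u' ∧ ∀ b : B, residue B' (w b) = σ (residue B b) := by
  letI alg : Algebra A B := u.toAlgebra
  letI alg' : Algebra A B' := u'.toAlgebra
  haveI : IsLocalHom (algebraMap A B) := ‹IsLocalHom u›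
  have hmB : maximalIdeal B ≠ ⊥ := IsDiscreteValuationRing.not_a_field B
  have hinj : Function.Injective u := by
    rw [injective_iff_map_eq_zero]
    by_contra h
    push Not at h
    obtain ⟨a, ha, ha0⟩ := h
    have hk : RingHom.ker u = maximalIdeal A := IsLocalRing.eq_maximalIdeal
      ((RingHom.ker_isPrime u).isMaximal (fun hb => ha0 (hb.le (show a ∈ RingHom.ker u from ha))))
    refine hmB ?_
    rw [← hu, Ideal.map_eq_bot_iff_le_ker, hk]
  haveI : Module.IsTorsionFree A B := Module.isTorsionFree_iff_algebraMap_injective.2 hinj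
  haveI : Module.Flat A B := inferInstance
  let I := (maximalIdeal A).map (algebraMap A B)
  have hI : I = maximalIdeal B := hu
  have hfs : EGA41.IsFormallySmoothAdic A (maximalIdeal A) B (maximalIdeal B) := by
    refine GrothLib.AdicFSLoc.isFormallySmoothAdic_of_flat _ ?_
    letI : Field (A ⧸ maximalIdeal A) := Ideal.Quotient.field _
    letI algK : Algebra (ResidueField A) (ResidueField B) := (ResidueField.map u).toAlgebra
    haveI : Algebra.FormallySmooth (ResidueField A) (ResidueField B) :=
      GrothLib.SepField.formallySmooth_iff_isGeometricallyReduced.2 hsep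
    letI algQ : Algebra (A ⧸ maximalIdeal A) (ResidueField B) := algK
    haveI hs : Algebra.FormallySmooth (A ⧸ maximalIdeal A) (ResidueField B) :=
      ‹Algebra.FormallySmooth (ResidueField A) (ResidueField B)›
    let e : (B ⧸ I) ≃ₐ[A ⧸ maximalIdeal A] ResidueField B :=
      AlgEquiv.ofRingEquiv (f := Ideal.quotEquivOfEq hI) fun x => by
        obtain ⟨a, rfl⟩ := Ideal.Quotient.mk_surjective x
        rfl
    haveI : Algebra.FormallySmooth (A ⧸ maximalIdeal A) (B ⧸ I) := Algebra.FormallySmooth.of_equiv e.symm
    intro C _ _ J hJ ψ _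
    exact ⟨Algebra.FormallySmooth.lift J ⟨2, hJ⟩ ψ, Algebra.FormallySmooth.comp_lift J ⟨2, hJ⟩ ψ⟩
  haveI : IsLocalRing (B' ⧸ maximalIdeal B') := inferInstanceAs (IsLocalRing (ResidueField B'))
  let w₀ : B →ₐ[A] B' ⧸ maximalIdeal B' :=
    { (σ : ResidueField B →+* ResidueField B').comp (residue B) with
      commutes' := fun a => RingHom.congr_fun hσ (residue A a) }
  haveI : IsLocalHom w₀.toRingHom :=
    (show Function.Surjective w₀.toRingHom from σ.surjective.comp residue_surjective).isLocalHom
  have hmap₀ : (maximalIdeal B').map (Ideal.Quotient.mk (maximalIdeal B')) = ⊥ := Ideal.map_quotient_self _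
  haveI : IsHausdorff ((maximalIdeal B').map (Ideal.Quotient.mk (maximalIdeal B'))) (B' ⧸ maximalIdeal B') := by
    rw [hmap₀]; infer_instance
  obtain ⟨v₀, -, hv⟩ := GrothLib.AdicFS.exists_lift_adicComplete (C := B') (𝔠 := maximalIdeal B') (J := maximalIdeal B')
    hfs ⟨1, by rw [pow_one]; exact hu'.le⟩ ⟨1, (pow_one _).le⟩ w₀ ⟨1, by
      rw [pow_one, hmap₀, Ideal.map_le_iff_le_comap]
      intro b hb
      show σ (residue B b) = 0
      rw [(residue_eq_zero_iff b).2 hb, map_zero]⟩
  let v := v₀.toRingHom
  have hvA : v.comp u = u' := RingHom.ext v₀.commutes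
  have hvres : ∀ b, residue B' (v b) = σ (residue B b) := fun b => AlgHom.congr_fun hv b
  have hmap : (maximalIdeal B).map v = maximalIdeal B' := by rw [← hu, Ideal.map_map, hvA, hu']
  have hm' : maximalIdeal B' ≠ ⊥ := IsDiscreteValuationRing.not_a_field B'
  have hi : Function.Injective v := by
    rw [injective_iff_map_eq_zero]
    by_contra h
    push Not at h
    obtain ⟨b, hb, hb0⟩ := h
    have hk : RingHom.ker v = maximalIdeal B := IsLocalRing.eq_maximalIdeal
      ((RingHom.ker_isPrime v).isMaximal (fun hc => hb0 (hc.le (show b ∈ RingHom.ker v from hb))))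
    exact hm' (by rw [← hmap, Ideal.map_eq_bot_iff_le_ker, hk])
  haveI : IsHausdorff ((maximalIdeal B).map v) B' := by rw [hmap]; infer_instance
  have hs : Function.Surjective v := surjective_of_mk_map_comp_surjective (I := maximalIdeal B) (f := v) (by
    intro x
    obtain ⟨y, rfl⟩ := Ideal.Quotient.mk_surjective x
    obtain ⟨b, hb⟩ := (σ.surjective.comp residue_surjective) (residue B' y)
    refine ⟨b, Ideal.Quotient.eq.2 ?_⟩
    rw [hmap, ← residue_eq_zero_iff, map_sub, hvres]
    exact sub_eq_zero.2 hb)
  exact ⟨RingEquiv.ofBijective v ⟨hi, hs⟩, hvA, hvres⟩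

end Groth.Agent.S2482
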