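import Groth.Statements.S2483
import Groth.Agent.Lib.AdicFS.Complete
import Groth.Agent.Lib.SepField.Smooth
import Mathlib

set_option autoImplicit false
universe u
open EGA41

namespace Groth.Agent.S2483

open IsLocalRing in
/-- A nonzero absolute differential of the residue field gives a second section. -/
theorem exists_ne_section {P C : Type u} [Field P] [CommRing C] [IsLocalRing C] [IsNoetherianRing C]
    [IsAdicComplete (maximalIdeal C) C] (hm : maximalIdeal C ≠ ⊥) (u : ResidueField C →+* C)
    (hu : ∀ x, residue C (u x) = x) [Algebra P (ResidueField C)] [Algebra.FormallySmooth P (ResidueField C)]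
    (hP : ∀ x : P, KaehlerDifferential.D ℤ (ResidueField C) (algebraMap P (ResidueField C) x) = 0)
    (h : ¬ Subsingleton (Ω[ResidueField C⁄ℤ])) :
    ∃ v : ResidueField C →+* C, (∀ x, residue C (v x) = x) ∧ v ≠ u := by
  let K := ResidueField C
  let m := maximalIdeal C
  have hne : ¬ m ≤ m ^ 2 := fun hle => hm (Submodule.eq_bot_of_le_smul_of_le_jacobson_bot m m
    (IsNoetherian.noetherian _) (by rwa [smul_eq_mul, ← pow_two]) (IsLocalRing.maximalIdeal_le_jacobson _))
  obtain ⟨z, hz, hz2⟩ := SetLike.not_le_iff_exists.1 hne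
  obtain ⟨ω, hω⟩ : ∃ ω : Ω[K⁄ℤ], ω ≠ 0 := by
    by_contra h'
    push Not at h'
    exact h ⟨fun a b => (h' a).trans (h' b).symm⟩
  obtain ⟨ℓ, hℓ⟩ : ∃ ℓ : Ω[K⁄ℤ] →ₗ[K] K, ℓ ω ≠ 0 := by
    by_contra h'
    push Not at h'
    exact hω ((Module.forall_dual_apply_eq_zero_iff K ω).1 h')
  let δ : K → K := fun x => ℓ (KaehlerDifferential.D ℤ K x)
  have hδ : ∃ x, δ x ≠ 0 := by
    by_contra h'
    push Not at h'
    exact hℓ (LinearMap.congr_fun (LinearMap.ext_on (KaehlerDifferential.span_range_derivation ℤ K)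
      (by rintro _ ⟨x, rfl⟩; exact h' x) : ℓ = 0) ω)
  have hzz : z * z ∈ m ^ 2 := by rw [pow_two]; exact Ideal.mul_mem_mul hz hz
  letI : Algebra P C := (u.comp (algebraMap P K)).toAlgebra
  let φ : K →ₐ[P] C ⧸ m ^ 2 :=
    { toFun := fun x => Ideal.Quotient.mk _ (u x + u (δ x) * z)
      map_one' := by simp [δ]
      map_zero' := by simp [δ]
      map_add' := fun x y => by
        rw [← map_add (Ideal.Quotient.mk (m ^ 2))]
        refine congrArg _ ?_
        simp only [δ, map_add]
        ring
      map_mul' := fun x y => by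
        rw [← map_mul, Ideal.Quotient.eq]
        simp only [δ, Derivation.leibniz, map_add, map_smul, smul_eq_mul, map_mul]
        convert Ideal.mul_mem_left _ (-(u (δ x) * u (δ y))) hzz using 1
        simp only [δ]
        ring
      commutes' := fun x => by
        have h0 : δ (algebraMap P K x) = 0 := (congrArg ℓ (hP x)).trans (map_zero ℓ)
        show Ideal.Quotient.mk _ (u (algebraMap P K x) + u (δ (algebraMap P K x)) * z) = _
        rw [h0, map_zero, zero_mul, add_zero]
        rfl }
  haveI : IsAdicComplete m C := ‹_›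
  have hnil : Ideal.map (Ideal.Quotient.mk (m ^ 2)) m ^ 2 = ⊥ := by
    rw [← Ideal.map_pow, Ideal.map_quotient_self]
  haveI : IsHausdorff (m.map (Ideal.Quotient.mk (m ^ 2))) (C ⧸ m ^ 2) := ⟨fun x hx => by
    have := hx 2
    rwa [hnil, Submodule.bot_smul, SModEq.bot] at this⟩
  have hfs : EGA41.IsFormallySmoothAdic P (⊥ : Ideal P) K (⊥ : Ideal K) := fun D _ _ J hJ _ w _ =>
    ⟨Algebra.FormallySmooth.lift J hJ w, Algebra.FormallySmooth.comp_lift J hJ w⟩
  obtain ⟨v, -, hv⟩ := GrothLib.AdicFS.exists_lift_adicComplete (C := C) (𝔠 := m) (J := m ^ 2) hfs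
    ⟨1, by rw [pow_one, Ideal.map_bot]; exact bot_le⟩ ⟨1, by rw [pow_one]; exact Ideal.pow_le_self two_ne_zero⟩ φ
    ⟨1, by rw [pow_one, Ideal.map_bot]; exact bot_le⟩
  have hvx : ∀ x, v x - (u x + u (δ x) * z) ∈ m ^ 2 := fun x => Ideal.Quotient.eq.1 (AlgHom.congr_fun hv x)
  refine ⟨v.toRingHom, fun x => ?_, fun he => ?_⟩
  · have h1 := (residue_eq_zero_iff _).2 (Ideal.pow_le_self two_ne_zero (hvx x))
    rw [map_sub, map_add, map_mul, (residue_eq_zero_iff z).2 hz, mul_zero, add_zero, hu, sub_eq_zero] at h1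
    exact h1
  · obtain ⟨x, hx⟩ := hδ
    refine hz2 ?_
    have h1 := hvx x
    rw [show v x = u x from RingHom.congr_fun he x, sub_add_cancel_left, neg_mem_iff] at h1
    exact (Ideal.unit_mul_mem_iff_mem _ ((isUnit_iff_ne_zero.2 hx).map u)).1 h1

open IsLocalRing in
/-- Let C be a complete Noetherian local ring with maximal ideal 𝔍 ≠ 0 and residue field K, and u : K →
C a ring homomorphism which is a section of the residue map. Then u is the only such section if and
only if Ω_{K/ℤ} = 0. -/
theorem result {C : Type u} [CommRing C] [IsLocalRing C] [IsNoetherianRing C] [IsAdicComplete (maximalIdeal C) C]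
    (hm : maximalIdeal C ≠ ⊥) (u : ResidueField C →+* C) (hu : ∀ x, residue C (u x) = x) :
    (∀ v : ResidueField C →+* C, (∀ x, residue C (v x) = x) → v = u) ↔ Subsingleton (Ω[ResidueField C⁄ℤ]) := by
  constructor
  · intro huniq
    by_contra h
    have key : ∀ {P : Type u} [Field P] [PerfectField P] (g : P →+* ResidueField C),
        (∀ x : P, KaehlerDifferential.D ℤ (ResidueField C) (g x) = 0) → False := fun {P} _ _ g hg => by
      letI := g.toAlgebra
      haveI : Algebra.FormallySmooth P (ResidueField C) := GrothLib.SepField.formallySmooth_iff_isGeometricallyReduced.2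
        GrothLib.SepField.isGeometricallyReduced_of_perfectField
      obtain ⟨v, hv, hne⟩ := exists_ne_section hm u hu hg h
      exact hne (huniq v hv)
    obtain h0 | ⟨p, hp, hpk⟩ := CharP.exists' (ResidueField C)
    · haveI : CharZero (ULift.{u} ℚ) := (ULift.ringEquiv : ULift.{u} ℚ ≃+* ℚ).toRingHom.charZero
      refine key ((Rat.castHom (ResidueField C)).comp (ULift.ringEquiv : ULift.{u} ℚ ≃+* ℚ).toRingHom) fun x => ?_
      obtain ⟨q⟩ := x
      show KaehlerDifferential.D ℤ (ResidueField C) (q : ResidueField C) = 0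
      have h1 : (q.den : ℕ) • KaehlerDifferential.D ℤ (ResidueField C) (q : ResidueField C) = 0 := by
        rw [← map_nsmul, nsmul_eq_mul, Rat.cast_def, mul_div_cancel₀ _ (Nat.cast_ne_zero.2 q.den_ne_zero)]
        exact Derivation.map_intCast _ _
      rw [← Nat.cast_smul_eq_nsmul (ResidueField C), smul_eq_zero] at h1
      exact h1.resolve_left (Nat.cast_ne_zero.2 q.den_ne_zero)
    · haveI := hp
      haveI : Finite (ULift.{u} (ZMod p)) := inferInstance
      refine key ((ZMod.castHom (dvd_refl p) (ResidueField C)).comp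
        (ULift.ringEquiv : ULift.{u} (ZMod p) ≃+* ZMod p).toRingHom) fun x => ?_
      obtain ⟨n, hn⟩ := ZMod.intCast_surjective ((ULift.ringEquiv : ULift.{u} (ZMod p) ≃+* ZMod p) x)
      show KaehlerDifferential.D ℤ (ResidueField C) (ZMod.castHom (dvd_refl p) (ResidueField C)
        ((ULift.ringEquiv : ULift.{u} (ZMod p) ≃+* ZMod p) x)) = 0
      rw [← hn, map_intCast]
      exact Derivation.map_intCast _ _
  · intro hΩ v hv
    haveI : @Algebra.FormallyUnramified ℤ (ResidueField C) _ _ (Ring.toIntAlgebra _) := by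
      have h1 : Algebra.FormallyUnramified ℤ (ResidueField C) := ⟨hΩ⟩
      convert h1
      exact Algebra.algebra_ext _ _ fun r => by rw [eq_intCast, eq_intCast]
    have key : ∀ n : ℕ, (Ideal.Quotient.mk (maximalIdeal C ^ n)).comp v = (Ideal.Quotient.mk (maximalIdeal C ^ n)).comp u := by
      intro n
      let I : Ideal (C ⧸ maximalIdeal C ^ n) := (maximalIdeal C).map (Ideal.Quotient.mk _)
      have hI : IsNilpotent I := ⟨n, by rw [← Ideal.map_pow, Ideal.map_quotient_self]; rfl⟩
      have := Algebra.FormallyUnramified.ext (R := ℤ) I hI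
        (g₁ := ((Ideal.Quotient.mk _).comp v).toIntAlgHom) (g₂ := ((Ideal.Quotient.mk _).comp u).toIntAlgHom)
        (fun x => Ideal.Quotient.eq.2 (by
          show Ideal.Quotient.mk _ (v x) - Ideal.Quotient.mk _ (u x) ∈ I
          rw [← map_sub]
          refine Ideal.mem_map_of_mem _ ((residue_eq_zero_iff _).1 ?_)
          rw [map_sub, hv, hu, sub_self]))
      exact congrArg AlgHom.toRingHom this
    refine RingHom.ext fun x => sub_eq_zero.1 (IsHausdorff.haus (I := maximalIdeal C) inferInstance _ fun n => ?_)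
    rw [SModEq.zero, smul_eq_mul, Ideal.mul_top, ← Ideal.Quotient.eq]
    exact RingHom.congr_fun (key n) x

end Groth.Agent.S2483
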