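import Groth.Statements.S2486
import Groth.Agent.Lib.PBasis.Radicial

set_option autoImplicit false
universe u
open EGA41

namespace Groth.Agent.S2486

/-- Let p be a prime, B an A-algebra of characteristic p and (x_α) a family of elements of B. Then (a) B
is generated as an A[B^p]-algebra by the x_α if and only if (b) (x_α) is a system of p-generators of
B over A; these imply (c) Ω_{B/A} is generated by the d x_α; and if B is an A[B^p]-algebra of finite
type, (c) implies (a). -/
theorem result (p : ℕ) [Fact p.Prime] {A B : Type u} [CommRing A] [CommRing B] [Algebra A B] [CharP B p]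
    {ι : Type u} (x : ι → B) :
    (Algebra.adjoin (EGA41.pPowerSubalgebra p A B) (Set.range x) = ⊤ ↔ EGA41.IsPGenerating p A x) ∧
    (EGA41.IsPGenerating p A x → Submodule.span B (Set.range fun i => KaehlerDifferential.D A B (x i)) = ⊤) ∧
    (Algebra.FiniteType (EGA41.pPowerSubalgebra p A B) B →
      Submodule.span B (Set.range fun i => KaehlerDifferential.D A B (x i)) = ⊤ → EGA41.IsPGenerating p A x) := by
  have h0 := CharP.cast_eq_zero B p
  have h1 : Algebra.adjoin (EGA41.pPowerSubalgebra p A B) (Set.range x) = ⊤ ↔
      EGA41.IsPGenerating p A x := by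
    rw [EGA41.IsPGenerating, ← Algebra.toSubmodule_eq_top]
    exact Iff.of_eq (congrArg (· = ⊤)
      (GrothLib.PBasis.span_red_eq_adjoin p (fun i => GrothLib.PBasis.pow_mem_pPower (x i))).symm)
  refine ⟨h1, fun h => GrothLib.PBasis.span_D_eq_top h0 x (h1.2 h), fun hft hspan => h1.1 ?_⟩
  let A' := Algebra.adjoin (EGA41.pPowerSubalgebra p A B) (Set.range x)
  have : Algebra.FiniteType A' B :=
    Algebra.FiniteType.of_restrictScalars_finiteType (EGA41.pPowerSubalgebra p A B) A' B
  have hsub : Subsingleton (Ω[B⁄A']) := by
    refine ⟨fun a b => ?_⟩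
    have : ∀ ω, KaehlerDifferential.map A A' B B ω = 0 := by
      intro ω
      have hω : ω ∈ Submodule.span B (Set.range fun i => KaehlerDifferential.D A B (x i)) :=
        hspan ▸ Submodule.mem_top
      induction hω using Submodule.span_induction with
      | mem y hy =>
          obtain ⟨i, rfl⟩ := hy
          rw [KaehlerDifferential.map_D, Algebra.algebraMap_self_apply]
          exact Derivation.map_algebraMap _
            (⟨x i, Algebra.subset_adjoin (Set.mem_range_self i)⟩ : A')
      | zero => simp
      | add y z _ _ hy hz => rw [map_add, hy, hz, add_zero]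
      | smul r y _ hy => rw [map_smul, hy, smul_zero]
    obtain ⟨a, rfl⟩ := KaehlerDifferential.map_surjective A A' B a
    obtain ⟨b, rfl⟩ := KaehlerDifferential.map_surjective A A' B b
    rw [this, this]
  have hsurj := GrothLib.PBasis.surjective_of_subsingleton_kaehler (A := A') h0 (s := 1) (fun b => by
    rw [pow_one]
    exact ⟨⟨b ^ p, Subalgebra.algebraMap_mem A'
      (⟨b ^ p, Algebra.subset_adjoin ⟨b, rfl⟩⟩ : EGA41.pPowerSubalgebra p A B)⟩, rfl⟩)
  refine eq_top_iff.2 fun b _ => ?_
  obtain ⟨a, rfl⟩ := hsurj b
  exact a.2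

end Groth.Agent.S2486
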