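import Groth.Statements.S2487
import Groth.Agent.Lib.FibLift5.Basic

set_option autoImplicit false
universe u
open EGA41

namespace Groth.Agent.S2487

open IsLocalRing TensorProduct in
/-- Let A be a Noetherian local ring, J an ideal contained in the maximal ideal, A₀ = A/J, and B₀ a
complete Noetherian local ring with a local homomorphism A₀ → B₀ making B₀ formally smooth over A₀
(adic topologies). Then (existence) there are a complete Noetherian local ring B, a local
homomorphism A → B making B a flat A-module, and an A₀-algebra isomorphism u : A₀ ⊗_A B ≅ B₀;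
(uniqueness) if (B', u') is another such pair, there is an A-algebra isomorphism v : B ≅ B' with u'
∘ (1 ⊗ v) = u. -/
theorem result {A : Type u} [CommRing A] [IsLocalRing A] [IsNoetherianRing A]
    (J : Ideal A) (hJ : J ≤ maximalIdeal A) [IsLocalRing (A ⧸ J)]
    (B₀ : Type u) [CommRing B₀] [IsLocalRing B₀] [IsNoetherianRing B₀] [IsAdicComplete (maximalIdeal B₀) B₀]
    [Algebra (A ⧸ J) B₀] [IsLocalHom (algebraMap (A ⧸ J) B₀)]
    (hfs : EGA41.IsFormallySmoothAdic (A ⧸ J) (maximalIdeal (A ⧸ J)) B₀ (maximalIdeal B₀)) :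
    (∃ (B : Type u) (_ : CommRing B) (_ : IsLocalRing B) (_ : IsNoetherianRing B) (_ : Algebra A B) (_ : IsLocalHom (algebraMap A B)),
      IsAdicComplete (maximalIdeal B) B ∧ Module.Flat A B ∧ Nonempty ((A ⧸ J) ⊗[A] B ≃ₐ[A ⧸ J] B₀)) ∧
    ∀ (B B' : Type u) [CommRing B] [IsLocalRing B] [IsNoetherianRing B] [Algebra A B] [IsLocalHom (algebraMap A B)]
      [CommRing B'] [IsLocalRing B'] [IsNoetherianRing B'] [Algebra A B'] [IsLocalHom (algebraMap A B')],
      IsAdicComplete (maximalIdeal B) B → Module.Flat A B → IsAdicComplete (maximalIdeal B') B' → Module.Flat A B' →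
      ∀ (u : (A ⧸ J) ⊗[A] B ≃ₐ[A ⧸ J] B₀) (u' : (A ⧸ J) ⊗[A] B' ≃ₐ[A ⧸ J] B₀),
      ∃ v : B ≃ₐ[A] B', (u' : (A ⧸ J) ⊗[A] B' →ₐ[A ⧸ J] B₀).comp
          (Algebra.TensorProduct.map (AlgHom.id (A ⧸ J) (A ⧸ J)) (v : B →ₐ[A] B')) = (u : (A ⧸ J) ⊗[A] B →ₐ[A ⧸ J] B₀) := by
  let k := ResidueField A
  let N := (maximalIdeal (A ⧸ J)).map (algebraMap (A ⧸ J) B₀)
  let F := B₀ ⧸ N
  have hN : N ≤ maximalIdeal B₀ := ((local_hom_TFAE (algebraMap (A ⧸ J) B₀)).out 0 2 rfl rfl).mp inferInstance
  haveI : IsLocalRing F := GrothLib.RegLoc.isLocalRing_quotient hN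
  have hfs0 := GrothLib.AdicFSFlat.isAdicFormallySmooth_of_adic hfs
  letI : Algebra A B₀ := ((algebraMap (A ⧸ J) B₀).comp (Ideal.Quotient.mk J)).toAlgebra
  haveI : IsScalarTower A (A ⧸ J) B₀ := IsScalarTower.of_algebraMap_eq fun _ => rfl
  have hmJ : (maximalIdeal A).map (Ideal.Quotient.mk J) = maximalIdeal (A ⧸ J) :=
    GrothLib.RegLoc.map_maximalIdeal_quotient J
  have hmN : (maximalIdeal A).map (algebraMap A B₀) = N := by
    rw [IsScalarTower.algebraMap_eq A (A ⧸ J) B₀, ← Ideal.map_map, Ideal.Quotient.algebraMap_eq, hmJ]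
  let φ : k →+* F := Ideal.Quotient.lift (maximalIdeal A) ((Ideal.Quotient.mk N).comp (algebraMap A B₀)) fun a ha => by
    rw [RingHom.comp_apply, Ideal.Quotient.eq_zero_iff_mem, ← hmN]
    exact Ideal.mem_map_of_mem _ ha
  letI : Algebra k F := φ.toAlgebra
  have hFfs : CAlgX.IsAdicFormallySmooth k F (maximalIdeal F) := by
    let g : k →+* (A ⧸ J) ⧸ maximalIdeal (A ⧸ J) :=
      Ideal.quotientMap (maximalIdeal (A ⧸ J)) (Ideal.Quotient.mk J) (by rw [← hmJ]; exact Ideal.le_comap_map)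
    have hg : Function.Bijective g := ⟨g.injective, Ideal.quotientMap_surjective Ideal.Quotient.mk_surjective⟩
    refine GrothLib.AdicFSFlat.adicFormallySmooth_of_base_equiv g hg (fun c => ?_)
      (GrothLib.AdicFSFlat.adicFormallySmooth_quotient hfs0 (maximalIdeal (A ⧸ J)))
    obtain ⟨a, rfl⟩ := Ideal.Quotient.mk_surjective c
    rfl
  refine ⟨?_, ?_⟩
  · haveI : IsRegularLocalRing F := (Groth.Agent.S2471.result.1 hFfs).1
    haveI : IsAdicComplete (maximalIdeal F) F := GrothLib.AdicFSFlat.isAdicComplete_quotient N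
    obtain ⟨C, _, _, _, _, _, π, hc, hflat, hπs, hπk, hπc⟩ := GrothLib.FibLift5.exists_lift_regular (A := A) F
    haveI := hc; haveI := hflat
    have hC := GrothLib.FibLift5.isAdicFormallySmooth_of_fibre hFfs π hπs hπk fun a => RingHom.congr_fun hπc a
    let I := J.map (algebraMap A C)
    have hI : I ≤ maximalIdeal C :=
      (Ideal.map_mono hJ).trans (((local_hom_TFAE (algebraMap A C)).out 0 2 rfl rfl).mp inferInstance)
    haveI : IsLocalRing (C ⧸ I) := GrothLib.RegLoc.isLocalRing_quotient hI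
    haveI : IsAdicComplete (maximalIdeal (C ⧸ I)) (C ⧸ I) := GrothLib.AdicFSFlat.isAdicComplete_quotient I
    have hIker : I ≤ RingHom.ker π := by rw [hπk]; exact Ideal.map_mono hJ
    let πC : (C ⧸ I) →ₐ[A ⧸ J] F :=
      { Ideal.Quotient.lift I π fun x hx => hIker hx with
        commutes' := fun c => by
          obtain ⟨a, rfl⟩ := Ideal.Quotient.mk_surjective c
          show π (algebraMap A C a) = _
          rw [← RingHom.comp_apply, hπc]
          rfl }
    obtain ⟨v, -⟩ := GrothLib.FibLift5.exists_algEquiv (maximalIdeal (A ⧸ J)) πC (Ideal.Quotient.mkₐ (A ⧸ J) N)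
      (fun y => by obtain ⟨x, rfl⟩ := hπs y; exact ⟨Ideal.Quotient.mk I x, rfl⟩) Ideal.Quotient.mk_surjective
      (by
        refine (Ideal.ker_quotient_lift π (fun x hx => hIker hx)).trans ?_
        rw [hπk, Ideal.map_map, ← hmJ, Ideal.map_map]
        rfl)
      (Ideal.mk_ker) (GrothLib.AdicFSFlat.adicFormallySmooth_quotient hC J) hfs0
    exact ⟨C, inferInstance, inferInstance, inferInstance, inferInstance, inferInstance, hc, hflat,
      ⟨(Algebra.TensorProduct.quotIdealMapEquivQuotTensor C J).symm.trans v⟩⟩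
  · intro B B' _ _ _ _ _ _ _ _ _ _ hcB hB hcB' hB' u u'
    haveI := hcB; haveI := hB; haveI := hcB'; haveI := hB'
    have hproj : ∀ (D : Type u) [CommRing D] [IsLocalRing D] [IsNoetherianRing D] [Algebra A D]
        [IsLocalHom (algebraMap A D)] [Module.Flat A D] (w : (A ⧸ J) ⊗[A] D ≃ₐ[A ⧸ J] B₀),
        ∃ π : D →ₐ[A] B₀, (∀ d, π d = w (1 ⊗ₜ d)) ∧ Function.Surjective π ∧
          RingHom.ker π.toRingHom = J.map (algebraMap A D) ∧
          CAlgX.IsAdicFormallySmooth A D (maximalIdeal D) := by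
      intro D _ _ _ _ _ _ w
      let eD := Algebra.TensorProduct.quotIdealMapEquivQuotTensor D J
      let π : D →ₐ[A] B₀ := ((eD.trans w).toAlgHom.restrictScalars A).comp (Ideal.Quotient.mkₐ A (J.map (algebraMap A D)))
      have hπ : ∀ d, π d = w (1 ⊗ₜ d) := fun d => congrArg w (Algebra.TensorProduct.quotIdealMapEquivQuotTensor_mk (B := D) (I := J) (b := d))
      have hs : Function.Surjective π := (eD.trans w).surjective.comp Ideal.Quotient.mk_surjective
      have hk : RingHom.ker π.toRingHom = J.map (algebraMap A D) := by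
        ext d
        rw [RingHom.mem_ker]
        show (eD.trans w) (Ideal.Quotient.mk _ d) = 0 ↔ _
        rw [map_eq_zero_iff _ (eD.trans w).injective, Ideal.Quotient.eq_zero_iff_mem]
      refine ⟨π, hπ, hs, hk, GrothLib.FibLift5.isAdicFormallySmooth_of_fibre hFfs
        ((Ideal.Quotient.mk N).comp π.toRingHom) (Ideal.Quotient.mk_surjective.comp hs) ?_ fun a => ?_⟩
      · rw [← RingHom.comap_ker, Ideal.mk_ker, ← hmN, ← π.comp_algebraMap, ← Ideal.map_map]
        show Ideal.comap π.toRingHom (((maximalIdeal A).map (algebraMap A D)).map π.toRingHom) = _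
        rw [Ideal.comap_map_of_surjective' π.toRingHom hs, hk]
        exact sup_eq_left.2 (Ideal.map_mono hJ)
      · show Ideal.Quotient.mk N (π (algebraMap A D a)) = _
        rw [π.commutes]
        rfl
    obtain ⟨π, hπ, hs, hk, hfB⟩ := hproj B u
    obtain ⟨π', hπ', hs', hk', hfB'⟩ := hproj B' u'
    obtain ⟨v, hv⟩ := GrothLib.FibLift5.exists_algEquiv J π π' hs hs' hk hk' hfB hfB'
    refine ⟨v, Algebra.TensorProduct.ext (Subsingleton.elim _ _) (AlgHom.ext fun b => ?_)⟩
    show u' ((1 : A ⧸ J) ⊗ₜ[A] v b) = u (1 ⊗ₜ b)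
    rw [← hπ', hv, hπ]

end Groth.Agent.S2487
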