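import Groth.Statements.S2558
import Groth.Agent.Lib.UnivOpenAt6.Dominate
-- import your own Groth.Agent.* helpers here

set_option autoImplicit false
open CategoryTheory AlgebraicGeometry
universe u
open EGA43

namespace Groth.Agent.S2558

open CategoryTheory.Limits in
/-- Let f : X ⟶ Y be locally of finite presentation. Suppose that for every irreducible scheme Y' and
every morphism of finite type g : Y' ⟶ Y, each irreducible component of X ×_Y Y' has dense image in
Y'. Then f is universally open. -/
theorem result {X Y : Scheme.{u}} (f : X ⟶ Y) [LocallyOfFinitePresentation f]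
    (h : ∀ (Y' : Scheme.{u}) (g : Y' ⟶ Y) [IrreducibleSpace Y'] [LocallyOfFiniteType g] [QuasiCompact g],
      ∀ Z ∈ irreducibleComponents (↥(pullback f g) : Type u), Dense ((pullback.snd f g).base '' Z)) :
    UniversallyOpen f := by
    exact GrothLib.UnivOpenAt6.universallyOpen_of_components_dominate f h

end Groth.Agent.S2558
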