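import Groth.Statements.S2559
import Groth.Agent.Lib.Chev28.OpenDim

set_option autoImplicit false
open CategoryTheory AlgebraicGeometry
universe u
open EGA43

namespace Groth.Agent.S2559

/-- Let f : X ⟶ Y be a morphism of locally Noetherian schemes, x a point of X and y = f x. Suppose f is
open at the generic point of every irreducible component of the fibre over y passing through x. Then
dim O_{X,x} = dim O_{Y,y} + dim O_{X_y,x}. -/
theorem result {X Y : Scheme.{u}} [IsLocallyNoetherian X] [IsLocallyNoetherian Y]
    (f : X ⟶ Y) (x : X)
    (h : ∀ z : ↥(f.fiber (f.base x)), f.asFiber x ∈ closure {z} →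
      (∀ z' : ↥(f.fiber (f.base x)), z ∈ closure {z'} → z' = z) →
      EGA43.IsOpenAt f.base ((f.fiberι (f.base x)).base z)) :
    ringKrullDim (X.presheaf.stalk x) =
      ringKrullDim (Y.presheaf.stalk (f.base x)) +
        ringKrullDim ((f.fiber (f.base x)).presheaf.stalk (f.asFiber x)) := by
  exact GrothLib.Chev28.dim_stalk_eq_of_isOpenAt f x h

end Groth.Agent.S2559
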