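import Groth.Statements.S2560
import Groth.Agent.Lib.Chev28.FlatUniv
import Groth.Agent.Lib.UnivOpenAt6.Components

set_option autoImplicit false
open CategoryTheory AlgebraicGeometry
universe u
open EGA43

namespace Groth.Agent.S2560

/-- Let Y be a reduced locally Noetherian scheme and f : X ⟶ Y a universally open morphism locally of
finite type such that every fibre of f is geometrically reduced at each of its points. Then f is
flat. -/
theorem result {X Y : Scheme.{u}} [IsLocallyNoetherian Y] [IsReduced Y]
    (f : X ⟶ Y) [LocallyOfFiniteType f] [UniversallyOpen f]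
    (hfib : ∀ x : X, FBase.IsGeomReducedAt (f.fiberToSpecResidueField (f.base x)) (f.asFiber x)) :
    Flat f := by
  haveI : LocallyOfFinitePresentation f := inferInstance
  refine (Flat.iff_flat_stalkMap f).mpr fun x => ?_
  exact GrothLib.Chev28.flat_stalkMap_of_isUnivOpenAt_of_geomReducedAt f x inferInstance (hfib x) fun z _ =>
    (GrothLib.UnivOpenAt6.universallyOpen_iff_forall_univOpenAt f).mp ‹_› z

end Groth.Agent.S2560
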