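import Groth.Statements.S6884
import Groth.Agent.Lib.FinInjDescent.Integral
-- import your own Groth.Agent.* helpers here

set_option autoImplicit false
universe u
open TensorProduct
open CAlg

attribute [local instance] MvPolynomial.algebraMvPolynomial

namespace Groth.Agent.S6884

/-- For an injective integral ring map `R → S` and `n ≥ 0`, let `M` be a module of finite presentation
over the polynomial ring `R[x_1, …, x_n]`. Then flatness of `S ⊗_R M` over `S` forces flatness of
`M` over `R`. -/
theorem result (R S : Type u) [CommRing R]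
    [CommRing S] [Algebra R S] [Algebra.IsIntegral R S] (hinj : Function.Injective (algebraMap R S)) (n : ℕ)
    (M : Type u) [AddCommGroup M] [Module (MvPolynomial (Fin n) R) M] [Module R M]
    [IsScalarTower R (MvPolynomial (Fin n) R) M] [Module.FinitePresentation (MvPolynomial (Fin n) R) M]
    [Module.Flat S (S ⊗[R] M)] : Module.Flat R M := by
  classical
  obtain ⟨T, hT⟩ := GrothLib.FlatModel.exists_model' (R := R) (m := n) M (q := 0) Fin.elim0 fun j => j.elim0
  let R₀ : Subalgebra ℤ R := Algebra.adjoin ℤ (T : Set R)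
  obtain ⟨r, N₀, -, ⟨eM⟩⟩ := hT R₀ fun x hx => ⟨⟨x, Algebra.subset_adjoin hx⟩, rfl⟩
  haveI : IsNoetherianRing R₀ := isNoetherianRing_of_fg (Subalgebra.fg_adjoin_finset T)
  let M₀ := (Fin r → MvPolynomial (Fin n) R₀) ⧸ N₀
  haveI : Module.FinitePresentation (MvPolynomial (Fin n) R₀) M₀ := Module.finitePresentation_of_finite _ _
  let e : R ⊗[R₀] M₀ ≃ₗ[R] M := (GrothLib.FibreFlat.cancel (m := n) (R₀ := R₀) M₀ R).symm ≪≫ₗ eM.restrictScalars R
  exact GrothLib.FinInjDescent.flat_of_flat_baseChange_integral (R₀ := R₀) hinj (MvPolynomial (Fin n) R₀) M₀ M e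

end Groth.Agent.S6884
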