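import Groth.Statements.S2564
import Groth.Agent.S6884
import Mathlib.AlgebraicGeometry.Morphisms.Integral
import Mathlib.AlgebraicGeometry.Morphisms.Flat
import Groth.Agent.Lib.FibreFlat.OpenScheme

set_option autoImplicit false
open CategoryTheory AlgebraicGeometry
universe u
open EGA43

set_option backward.isDefEq.respectTransparency false

namespace Groth.Agent.S2564

open CategoryTheory.Limits TensorProduct in
/-- Let A ⟶ A' be an injective ring homomorphism making A' integral over A, f : X ⟶ Spec A locally of
finite presentation, x a point of X, and X' = X ×_{Spec A} Spec A'. If X' ⟶ Spec A' is flat at every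
point of X' lying over x, then f is flat at x. -/
theorem result {A A' : Type u} [CommRing A] [CommRing A']
    [Algebra A A'] [Algebra.IsIntegral A A'] (hinj : Function.Injective (algebraMap A A'))
    {X : Scheme.{u}} (f : X ⟶ Spec (CommRingCat.of A)) [LocallyOfFinitePresentation f] (x : X)
    (h : ∀ x' : ↥(pullback f (Spec.map (CommRingCat.ofHom (algebraMap A A')))),
      (pullback.fst f _).base x' = x →
      ((pullback.snd f (Spec.map (CommRingCat.ofHom (algebraMap A A')))).stalkMap x').hom.Flat) :
    (f.stalkMap x).hom.Flat := by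
  let g := Spec.map (CommRingCat.ofHom (algebraMap A A'))
  haveI : IsIntegralHom g :=
    IsIntegralHom.SpecMap_iff.mpr (algebraMap_isIntegral_iff.mpr inferInstance)
  let Z : Set ↥(pullback f g) := {x' | ((pullback.snd f g).stalkMap x').hom.Flat}ᶜ
  have hZ : IsClosed Z :=
    (GrothLib.FibreFlat.isOpen_flat_stalkMap (pullback.snd f g)).isClosed_compl
  have hT : IsClosed ((pullback.fst f g).base '' Z) := (pullback.fst f g).isClosedMap _ hZ
  have hxT : x ∉ (pullback.fst f g).base '' Z := fun ⟨x', hx', hxx'⟩ => hx' (h x' hxx')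
  obtain ⟨W, hW, hxW, hWT⟩ := exists_isAffineOpen_mem_and_subset (U := ⟨_, hT.isOpen_compl⟩) hxT
  let B : Type u := Γ(X, W)
  let φ : CommRingCat.of A ⟶ Γ(X, W) := Spec.preimage (hW.fromSpec ≫ f)
  have hφ : Spec.map φ = hW.fromSpec ≫ f := Spec.map_preimage _
  letI : Algebra A B := φ.hom.toAlgebra
  haveI : Algebra.FinitePresentation A B :=
    (HasRingHomProperty.Spec_iff (P := @LocallyOfFinitePresentation)).mp
      (show LocallyOfFinitePresentation (Spec.map φ) by rw [hφ]; infer_instance)
  let q := Spec.map (CommRingCat.ofHom (algebraMap A B))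
  have hq : q = hW.fromSpec ≫ f := hφ
  -- the base change over the chart is flat
  let j : pullback q g ⟶ pullback f g :=
    pullback.map q g f g hW.fromSpec (𝟙 _) (𝟙 _) (by rw [Category.comp_id, hq]) (by simp)
  haveI : IsOpenImmersion j := inferInstance
  have hfl : Flat (pullback.snd q g) := Flat.of_stalkMap _ fun z => by
    have hj1 : j ≫ pullback.fst f g = pullback.fst q g ≫ hW.fromSpec := pullback.lift_fst _ _ _
    have hj2 : j ≫ pullback.snd f g = pullback.snd q g := (pullback.lift_snd _ _ _).trans (Category.comp_id _)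
    have hmem : j z ∉ Z := fun hz => by
      have h1 : (pullback.fst f g) (j z) ∈ W := by
        rw [← Scheme.Hom.comp_apply, hj1, Scheme.Hom.comp_apply]
        exact hW.range_fromSpec.le ⟨_, rfl⟩
      exact hWT h1 ⟨j z, hz, rfl⟩
    rw [← hj2, Scheme.Hom.stalkMap_comp, CommRingCat.hom_comp]
    exact (not_not.mp hmem).comp (Flat.stalkMap j z)
  have hfl' : Module.Flat A' (A' ⊗[A] B) := by
    have h1 : Flat ((pullbackSpecIso A B A').inv ≫ pullback.snd q g) := inferInstance
    rw [pullbackSpecIso_inv_snd, Flat.SpecMap_iff, CommRingCat.hom_ofHom] at h1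
    have h2 : (algebraMap A' (A' ⊗[A] B)).Flat := by
      have e : algebraMap A' (A' ⊗[A] B) = (Algebra.TensorProduct.comm A B A').toRingEquiv.toRingHom.comp
          (Algebra.TensorProduct.includeRight (R := A) (A := B) (B := A')).toRingHom :=
        RingHom.ext fun a => by simp
      rw [e]
      exact h1.comp (RingHom.Flat.of_bijective (Algebra.TensorProduct.comm A B A').bijective)
    exact RingHom.flat_algebraMap_iff.mp h2
  obtain ⟨n, π, hπ, hπfg⟩ := Algebra.FinitePresentation.out (R := A) (A := B)
  letI : Algebra (MvPolynomial (Fin n) A) B := π.toRingHom.toAlgebra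
  haveI : IsScalarTower A (MvPolynomial (Fin n) A) B := IsScalarTower.of_algebraMap_eq fun a => (π.commutes a).symm
  haveI : Module.FinitePresentation (MvPolynomial (Fin n) A) B :=
    Module.finitePresentation_of_surjective (Algebra.linearMap (MvPolynomial (Fin n) A) B) hπ hπfg
  haveI := hfl'
  haveI : Module.Flat A B := Groth.Agent.S6884.result A A' hinj n B
  have hfq : Flat q := Flat.SpecMap_iff.mpr (RingHom.flat_algebraMap_iff.mpr inferInstance)
  obtain ⟨y, hy⟩ : ∃ y, hW.fromSpec y = x := hW.range_fromSpec.ge hxW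
  subst hy
  rw [hq] at hfq
  have h3 := Flat.stalkMap (hW.fromSpec ≫ f) y
  rw [Scheme.Hom.stalkMap_comp, CommRingCat.hom_comp] at h3
  haveI : IsIso (hW.fromSpec.stalkMap y) := inferInstance
  have e : (f.stalkMap (hW.fromSpec y)) = (f.stalkMap (hW.fromSpec y) ≫ hW.fromSpec.stalkMap y) ≫ inv (hW.fromSpec.stalkMap y) := by
    simp
  rw [e, CommRingCat.hom_comp]
  exact h3.comp (RingHom.Flat.of_bijective (ConcreteCategory.bijective_of_isIso (inv (hW.fromSpec.stalkMap y))))

end Groth.Agent.S2564
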