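import Groth.Statements.S2568
import Groth.Agent.Lib.Chev28.IrredBase

set_option autoImplicit false
open CategoryTheory AlgebraicGeometry
universe u
open EGA43

namespace Groth.Agent.S2568

/-- Chevalley's criterion in the case of irreducible source and base: let X and Y be irreducible
schemes, all local rings of Y geometrically unibranch, and f : X ⟶ Y a dominant morphism locally of
finite type such that for every point x the local dimension at x of the fibre through x equals the
dimension of the generic fibre (the fibre over the image of the generic point of X). Then f is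
universally open. -/
theorem result {X Y : Scheme.{u}} [IrreducibleSpace X] [IrreducibleSpace Y]
    (hY : ∀ y : Y, CAlg2.IsGeomUnibranch (Y.presheaf.stalk y)) (f : X ⟶ Y) [LocallyOfFiniteType f] [IsDominant f]
    (h : ∀ x : X, FlatMor.fibreDimAt f x = topologicalKrullDim ↥(f.fiber (f.base (genericPoint X)))) :
    UniversallyOpen f := by
  refine GrothLib.Chev28.universallyOpen_of_forall_isUnivOpenAt f fun x => ?_
  obtain ⟨Zs, ι, _, _, hrange, hgen⟩ := GrothLib.Chev28.exists_integral_closure (genericPoint X)
  obtain ⟨w, hw⟩ := hrange.ge (genericPoint_specializes x).mem_closure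
  obtain ⟨m, hm, hd⟩ := GrothLib.Chev28.exists_dim_closure_inter_fibre f (genericPoint X)
  rw [show closure ({genericPoint X} : Set X) = Set.univ from genericPoint_spec X, Set.univ_inter] at hd
  have hfib : topologicalKrullDim ↥(f.fiber (f (genericPoint X))) = topologicalKrullDim ↥(f ⁻¹' {f (genericPoint X)}) :=
    GrothLib.Dim.IsEmbedding.topologicalKrullDim_eq (f := f.fiberι (f (genericPoint X)))
      (f.fiberι (f (genericPoint X))).isEmbedding (f.range_fiberι _)
  have hfgen : f (genericPoint X) = genericPoint Y := by
    have hd : closure ({f (genericPoint X)} : Set Y) = Set.univ := by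
      rw [← GrothLib.Chev28.closure_image_closure_singleton f.continuous (genericPoint X),
        show closure ({genericPoint X} : Set X) = Set.univ from genericPoint_spec X, Set.image_univ]
      exact f.denseRange.closure_range
    exact (show IsGenericPoint (f (genericPoint X)) Set.univ from hd).eq (genericPoint_spec Y)
  rw [← hw]
  refine GrothLib.Chev28.isUnivOpenAt_of_comp ι f w
    (GrothLib.Chev28.isUnivOpenAt_of_integral_irred (ι ≫ f) w (fun y' hy' => ?_) hY m ?_ ?_)
  · rw [Scheme.Hom.comp_apply, hgen, hfgen] at hy' ⊢
    exact (hy'.antisymm (genericPoint_specializes y')).eq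
  · rw [GrothLib.AlgSp.resTrdeg_comp, GrothLib.AlgSp.resTrdeg_eq_zero_of_lqf ι, add_zero, hgen, hm]
  · exact (GrothLib.AbsApprox.fibreDimAt_le_of_isClosedImmersion ι f (ι ≫ f) rfl w).trans
      (((h (ι w)).trans (hfib.trans hd)).le)

end Groth.Agent.S2568
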