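import Groth.Statements.S2569
import Groth.Agent.Lib.Chev28.PropMain

set_option autoImplicit false
open CategoryTheory AlgebraicGeometry
universe u
open EGA43

namespace Groth.Agent.S2569

/-- Let Y be locally Noetherian and f : X ⟶ Y separated, of finite type and universally submersive
(every base change is a topological quotient map onto its target), with all fibres geometrically
connected. If the fibre over a point y is proper over the residue field of y, then f is proper over
some open neighbourhood of y. -/
theorem result {X Y : Scheme.{u}} [IsLocallyNoetherian Y] (f : X ⟶ Y)
    [IsSeparated f] [LocallyOfFiniteType f] [QuasiCompact f]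
    (hsub : MorphismProperty.universally (topologically fun g => Topology.IsQuotientMap g) f)
    (hconn : ∀ y : Y, GeometricallyConnected (f.fiberToSpecResidueField y))
    (y : Y) (hy : IsProper (f.fiberToSpecResidueField y)) :
    ∃ U : Y.Opens, y ∈ U ∧ IsProper (f ∣_ U) := by
  exact GrothLib.Chev28.isProper_nhd_of_submersive f hsub hconn y hy

end Groth.Agent.S2569
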