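import Groth.Statements.S2571
import Groth.Agent.Lib.QuasiSec.Finite
import Groth.Agent.Lib.NoethTop.KrullDim
import Groth.Agent.Lib.AlgSp.AffineDescent
import Groth.Agent.S0593
import Groth.Agent.Lib.AlgSp.FibreDimZero

set_option autoImplicit false
set_option backward.isDefEq.respectTransparency false
open CategoryTheory AlgebraicGeometry
universe u
open EGA43

namespace Groth.Agent.S2571

open TopologicalSpace

/-- A point in the fibre where the hypotheses of the quasi-section theorem hold. -/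
theorem exists_good_point {V Y : Scheme.{u}} [IsNoetherian V] (g : V ⟶ Y) [LocallyOfFiniteType g] (s : Y)
    (hs : s ∈ Set.range g) :
    ∃ (x : V) (Z : Set ↥(g.base ⁻¹' {s})) (z : V) (hxs : g.base x = s),
      IsClosed ((Subtype.val : ↥(g.base ⁻¹' {s}) → V) ⁻¹' {x}) ∧ Z ∈ irreducibleComponents ↥(g.base ⁻¹' {s}) ∧
      x ∈ Subtype.val '' Z ∧ (z ∈ Subtype.val '' Z ∧ Subtype.val '' Z ⊆ closure {z}) ∧
      FlatMor.localDim ↥(g.base ⁻¹' {s}) ⟨x, hxs⟩ = topologicalKrullDim ↥Z := by
  let F := ↥(g.base ⁻¹' {s})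
  let e : g.fiber s ≃ₜ F := g.fiberHomeo s
  haveI : NoetherianSpace F := Topology.IsInducing.subtypeVal.noetherianSpace
  obtain ⟨p, hp⟩ := hs
  obtain ⟨Z, hZ, -⟩ : ∃ Z ∈ irreducibleComponents F, (⟨p, hp⟩ : F) ∈ Z :=
    ⟨irreducibleComponent _, irreducibleComponent_mem_irreducibleComponents _, mem_irreducibleComponent⟩
  obtain ⟨O, hO, ⟨x', hx'⟩, hOZ⟩ := NoetherianSpace.exists_isOpen_nonempty_subset_irreducibleComponent Z hZ
  obtain ⟨q, hqO, hq⟩ := nonempty_inter_closedPoints (X := g.fiber s) (Z := e ⁻¹' O)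
    ⟨e.symm x', by simpa using hx'⟩ (hO.preimage e.continuous).isLocallyClosed
  have hqc : IsClosed ({e q} : Set F) := by
    rw [← Set.image_singleton]; exact e.isClosedMap _ hq
  have hZc : IsClosed Z := isClosed_of_mem_irreducibleComponents _ hZ
  have hZq : IsIrreducible (e ⁻¹' Z) := by
    rw [← e.image_symm]; exact hZ.1.image _ e.symm.continuous.continuousOn
  refine ⟨(e q).1, Z, (e hZq.genericPoint).1, (e q).2, ?_, hZ, ⟨e q, hOZ hqO, rfl⟩, ⟨⟨_, ?_, rfl⟩, ?_⟩, ?_⟩
  · convert hqc using 1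
    ext y
    exact ⟨fun h => Subtype.ext h, fun h => congrArg Subtype.val h⟩
  · have h3 := hZq.closure_genericPoint (hZc.preimage e.continuous)
    exact show hZq.genericPoint ∈ e ⁻¹' Z from Set.ext_iff.1 h3 _ |>.1 (subset_closure (Set.mem_singleton _))
  · rintro _ ⟨y, hy, rfl⟩
    have h1 : e.symm y ∈ closure ({hZq.genericPoint} : Set (g.fiber s)) := by
      rw [hZq.closure_genericPoint (hZc.preimage e.continuous)]
      simpa using hy
    have h2 := image_closure_subset_closure_image (continuous_subtype_val.comp e.continuous) ⟨_, h1, rfl⟩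
    simpa using h2
  · have hx : (e q : F) ∈ O := hqO
    refine le_antisymm ((iInf_le (fun U : {U : Opens F // e q ∈ U} => topologicalKrullDim (U.1 : Set F))
        ⟨⟨O, hO⟩, hx⟩).trans ?_) (le_iInf fun U => ?_)
    · exact (Topology.IsEmbedding.inclusion hOZ).isInducing.topologicalKrullDim_le
    · rw [← GrothLib.QuasiSec.dim_inter_eq g s Z hZc hZ.1 U.1 U.1.2 ⟨e q, hOZ hqO, U.2⟩]
      exact (Topology.IsEmbedding.inclusion Set.inter_subset_right).isInducing.topologicalKrullDim_le


open CategoryTheory.Limits in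
/-- Let Y be locally Noetherian, f : X ⟶ Y locally of finite type, and g : Y' ⟶ Y locally of finite
type, universally open and surjective. If the base change X ×_Y Y' ⟶ Y' is an affine morphism, then
f is affine. -/
theorem result {X Y Y' : Scheme.{u}} [IsLocallyNoetherian Y]
    (f : X ⟶ Y) [LocallyOfFiniteType f] (g : Y' ⟶ Y) [LocallyOfFiniteType g] [UniversallyOpen g] [Surjective g]
    [IsAffineHom (pullback.snd f g)] : IsAffineHom f := by
  suffices h : ∀ s : Y, ∃ U : Y.Opens, s ∈ U ∧ IsAffineHom (f ∣_ U) by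
    choose U hsU hU using h
    exact IsZariskiLocalAtTarget.of_iSup_eq_top (P := @IsAffineHom.{u}) U (eq_top_iff.2 fun s _ => Opens.mem_iSup.2 ⟨s, hsU s⟩) hU
  intro s
  obtain ⟨y', hy'⟩ := g.surjective s
  obtain ⟨_, ⟨(V : Y'.Opens), hV, rfl⟩, hyV, -⟩ :=
    Y'.isBasis_affineOpens.exists_subset_of_mem_open (Set.mem_univ y') isOpen_univ
  haveI : IsAffine (V : Scheme.{u}) := hV
  haveI : IsLocallyNoetherian (V : Scheme.{u}) := LocallyOfFiniteType.isLocallyNoetherian (V.ι ≫ g)
  haveI : IsNoetherian (V : Scheme.{u}) := {}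
  haveI : UniversallyOpen (V.ι ≫ g) := inferInstance
  haveI : LocallyOfFinitePresentation (V.ι ≫ g) :=
    LocallyOfFinitePresentation.iff_locallyOfFiniteType.2 inferInstance
  obtain ⟨x, Z, z, hxs, hx, hZ, hxZ, hz, hdim⟩ := exists_good_point (V.ι ≫ g) s ⟨⟨y', hyV⟩, hy'⟩
  have hopen : EGA43.IsUnivOpenAt (V.ι ≫ g) z := fun T t t' _ U hU =>
    (pullback.snd (V.ι ≫ g) t).isOpenMap.image_mem_nhds hU
  obtain ⟨S', S'', _, w, π, h, hw, hπ, hπs, -, hsq, s'', hs'', -, -⟩ :=
    GrothLib.QuasiSec.exists_finite_quasiSection (V.ι ≫ g) s x hxs hx Z hZ hxZ z hz hopen hdim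
  haveI := hw; haveI := hπ; haveI := hπs
  haveI : IsAffine S'' := isAffine_of_isAffineHom π
  -- the base change to `S''` is affine
  haveI : IsAffineHom (pullback.snd f (π ≫ w)) := by
    have e : π ≫ w = (h ≫ V.ι) ≫ g := by rw [Category.assoc]; exact hsq.symm
    rw [e]
    have q : pullback.snd f ((h ≫ V.ι) ≫ g) =
        (pullbackLeftPullbackSndIso f g (h ≫ V.ι)).inv ≫ pullback.snd (pullback.snd f g) (h ≫ V.ι) := by
      simp
    rw [q]
    infer_instance
  haveI : IsAffine (pullback f (π ≫ w)) := isAffine_of_isAffineHom (pullback.snd f (π ≫ w))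
  -- descend along the finite surjective map
  let c : pullback (pullback.snd f w) π ⟶ pullback f w := pullback.fst _ _
  haveI : IsAffine (pullback (pullback.snd f w) π) := IsAffine.of_isIso (pullbackLeftPullbackSndIso f w π).hom
  haveI : IsFinite c := by dsimp only [c]; infer_instance
  haveI : Surjective c := by dsimp only [c]; infer_instance
  haveI : IsAffine (pullback f w) := Groth.Agent.S0593.result _ _ c
  haveI : IsAffineHom (pullback.snd f w) := inferInstance
  -- descend along the etale map onto its image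
  let U : Y.Opens := ⟨Set.range w.base, w.isOpenMap.isOpen_range⟩
  refine ⟨U, show s ∈ Set.range w.base from ⟨π s'', ?_⟩, ?_⟩
  · have : s'' ∈ (π ≫ w).base ⁻¹' {s} := hs'' ▸ rfl
    exact this
  · let w' : S' ⟶ U := IsOpenImmersion.lift U.ι w (by rw [Scheme.Opens.range_ι]; rfl)
    have hw' : w' ≫ U.ι = w := IsOpenImmersion.lift_fac _ _ _
    haveI : Etale w' := by
      haveI : Etale (w' ≫ U.ι) := by rw [hw']; exact hw
      exact Etale.of_comp w' U.ι
    haveI : Surjective w' := ⟨fun u => by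
      obtain ⟨a, ha⟩ := u.2
      refine ⟨a, Subtype.ext ?_⟩
      rw [← ha, ← hw']; rfl⟩
    have sq : IsPullback (pullback.fst (f ∣_ U) w') (pullback.snd _ _) (f ∣_ U) w' := .of_hasPullback _ _
    refine GrothLib.AlgSp.fppfDescends_isAffineHom _ _ _ _ sq inferInstance inferInstance inferInstance ?_
    have sq' : IsPullback (pullback.fst (f ∣_ U) w' ≫ (f ⁻¹ᵁ U).ι) (pullback.snd (f ∣_ U) w') f w := by
      rw [← hw']
      exact sq.paste_horiz (isPullback_morphismRestrict f U).flip
    rw [← sq'.isoPullback_hom_snd]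
    infer_instance

end Groth.Agent.S2571
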