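import Groth.Statements.S2570
import Groth.Agent.S0410
import Groth.Agent.S1477
import Groth.Agent.S2571

set_option autoImplicit false
set_option backward.isDefEq.respectTransparency false
open CategoryTheory AlgebraicGeometry
universe u
open EGA43

namespace Groth.Agent.S2570

open TopologicalSpace CategoryTheory.Limits

/-- Quasi-section of a universally open morphism through a given point of the target. -/
theorem exists_local_quasiSection {X Y : Scheme.{u}} [IsLocallyNoetherian Y] (f : X ⟶ Y)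
    [UniversallyOpen f] [Surjective f] [LocallyOfFiniteType f] (s : Y) :
    ∃ (S' S'' : Scheme.{u}) (w : S' ⟶ Y) (π : S'' ⟶ S') (h : S'' ⟶ X),
      Etale w ∧ IsFinite π ∧ Surjective π ∧ h ≫ f = π ≫ w ∧ s ∈ Set.range w.base := by
  obtain ⟨x₀, hx₀⟩ := f.surjective s
  obtain ⟨_, ⟨(V : X.Opens), hV, rfl⟩, hyV, -⟩ :=
    X.isBasis_affineOpens.exists_subset_of_mem_open (Set.mem_univ x₀) isOpen_univ
  haveI : IsAffine (V : Scheme.{u}) := hV
  haveI : IsLocallyNoetherian (V : Scheme.{u}) := LocallyOfFiniteType.isLocallyNoetherian (V.ι ≫ f)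
  haveI : IsNoetherian (V : Scheme.{u}) := {}
  haveI : LocallyOfFinitePresentation (V.ι ≫ f) :=
    LocallyOfFinitePresentation.iff_locallyOfFiniteType.2 inferInstance
  obtain ⟨x, Z, z, hxs, hx, hZ, hxZ, hz, hdim⟩ :=
    Groth.Agent.S2571.exists_good_point (V.ι ≫ f) s ⟨⟨x₀, hyV⟩, hx₀⟩
  have hopen : EGA43.IsUnivOpenAt (V.ι ≫ f) z := fun T t t' _ U hU =>
    (pullback.snd (V.ι ≫ f) t).isOpenMap.image_mem_nhds hU
  obtain ⟨S', S'', _, w, π, h, hw, hπ, hπs, -, hsq, s'', hs'', -, -⟩ :=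
    GrothLib.QuasiSec.exists_finite_quasiSection (V.ι ≫ f) s x hxs hx Z hZ hxZ z hz hopen hdim
  refine ⟨S', S'', w, π, h ≫ V.ι, hw, hπ, hπs, by rw [Category.assoc]; exact hsq, π s'', ?_⟩
  have : s'' ∈ (π ≫ w).base ⁻¹' {s} := hs'' ▸ rfl
  exact this

/-- A finite surjective cover of a Noetherian scheme which, over an open, maps to a given finite surjective cover of
that open. -/
theorem exists_extend {T : Scheme.{u}} [IsNoetherian T] (V : T.Opens) {P : Scheme.{u}} (p : P ⟶ V)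
    [IsFinite p] [Surjective p] :
    ∃ (Q : Scheme.{u}) (q : Q ⟶ T) (m : ↑(q ⁻¹ᵁ V) ⟶ P), IsFinite q ∧ Surjective q ∧
      m ≫ p ≫ V.ι = (q ⁻¹ᵁ V).ι ≫ q := by
  haveI : LocallyOfFinitePresentation (p ≫ V.ι) :=
    LocallyOfFinitePresentation.iff_locallyOfFiniteType.2 inferInstance
  obtain ⟨B, j, r, hj, -, hr, -, hjr⟩ := Groth.Agent.S1477.result (p ≫ V.ι)
  let C : Closeds B := ⟨closure (Set.range j.base), isClosed_closure⟩
  let I := Scheme.IdealSheafData.vanishingIdeal C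
  let D : Closeds T := ⟨(V : Set T)ᶜ, V.2.isClosed_compl⟩
  let J := Scheme.IdealSheafData.vanishingIdeal D
  let q₁ : I.subscheme ⟶ T := I.subschemeι ≫ r
  let q : I.subscheme ⨿ J.subscheme ⟶ T := coprod.desc q₁ J.subschemeι
  have hI : Set.range I.subschemeι.base = closure (Set.range j.base) := by
    rw [Scheme.IdealSheafData.range_subschemeι, Scheme.IdealSheafData.coe_support_vanishingIdeal]; rfl
  have hJ : Set.range J.subschemeι.base = (V : Set T)ᶜ := by
    rw [Scheme.IdealSheafData.range_subschemeι, Scheme.IdealSheafData.coe_support_vanishingIdeal]; rfl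
  -- the range of `j` is closed over `V`
  have hclosed : ∀ b ∈ closure (Set.range j.base), r.base b ∈ V → b ∈ Set.range j.base := by
    intro b hb hbV
    let j' : P ⟶ (r ⁻¹ᵁ V).toScheme := IsOpenImmersion.lift (r ⁻¹ᵁ V).ι j (by
      rw [Scheme.Opens.range_ι]
      rintro _ ⟨a, rfl⟩
      show (j ≫ r).base a ∈ V
      rw [hjr]
      exact (p.base a).2)
    have hj' : j' ≫ (r ∣_ V) = p := by
      rw [← cancel_mono V.ι, Category.assoc, morphismRestrict_ι, IsOpenImmersion.lift_fac_assoc, hjr]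
    haveI : IsFinite (j' ≫ (r ∣_ V)) := hj' ▸ inferInstance
    haveI : IsFinite j' := IsFinite.of_comp j' (r ∣_ V)
    have hcl : IsClosed (Set.range j'.base) := j'.isClosedMap.isClosed_range
    have hjj : Set.range j.base = (r ⁻¹ᵁ V).ι.base '' Set.range j'.base := by
      rw [← Set.range_comp]
      conv_lhs => rw [← IsOpenImmersion.lift_fac (r ⁻¹ᵁ V).ι j (by
        rw [Scheme.Opens.range_ι]
        rintro _ ⟨a, rfl⟩
        show (j ≫ r).base a ∈ V
        rw [hjr]
        exact (p.base a).2)]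
      rfl
    have h1 : (⟨b, hbV⟩ : ↥(r ⁻¹ᵁ V)) ∈ closure (Set.range j'.base) := by
      rw [(r ⁻¹ᵁ V).ι.isOpenEmbedding.isInducing.closure_eq_preimage_closure_image, ← hjj]
      exact hb
    rw [hcl.closure_eq] at h1
    rw [hjj]
    exact ⟨_, h1, rfl⟩
  haveI : IsFinite q₁ := inferInstance
  haveI : IsFinite q := by dsimp only [q]; infer_instance
  haveI : Surjective q := ⟨fun t => by
    by_cases ht : t ∈ V
    · obtain ⟨a, ha⟩ := p.surjective ⟨t, ht⟩
      obtain ⟨c, hc⟩ : j.base a ∈ Set.range I.subschemeι.base := hI ▸ subset_closure ⟨a, rfl⟩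
      refine ⟨(coprod.inl : I.subscheme ⟶ I.subscheme ⨿ J.subscheme).base c, ?_⟩
      show (coprod.inl ≫ q).base c = t
      rw [coprod.inl_desc]
      show r.base (I.subschemeι.base c) = t
      rw [hc]
      show (j ≫ r).base a = t
      rw [hjr]
      exact congrArg Subtype.val ha
    · obtain ⟨c, hc⟩ : t ∈ Set.range J.subschemeι.base := hJ ▸ ht
      refine ⟨(coprod.inr : J.subscheme ⟶ I.subscheme ⨿ J.subscheme).base c, ?_⟩
      show (coprod.inr ≫ q).base c = t
      rw [coprod.inr_desc, hc]⟩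
  let W := q ⁻¹ᵁ V
  have hW : Set.range W.ι.base ⊆ Set.range (coprod.inl : I.subscheme ⟶ I.subscheme ⨿ J.subscheme).base := by
    rw [Scheme.Opens.range_ι]
    intro x hx
    obtain ⟨(c | c), rfl⟩ := (coprodMk I.subscheme J.subscheme).surjective x
    · exact ⟨c, by rw [coprodMk_inl]⟩
    · rw [coprodMk_inr] at hx
      refine absurd (show (coprod.inr ≫ q).base c ∈ V from hx) ?_
      rw [coprod.inr_desc]
      exact (hJ ▸ ⟨c, rfl⟩ : J.subschemeι.base c ∈ (V : Set T)ᶜ)
  let m₁ : W.toScheme ⟶ I.subscheme := IsOpenImmersion.lift coprod.inl W.ι hW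
  have hm₁ : m₁ ≫ q₁ = W.ι ≫ q := by
    show m₁ ≫ q₁ = W.ι ≫ q
    conv_rhs => rw [← IsOpenImmersion.lift_fac coprod.inl W.ι hW, Category.assoc]
    rw [coprod.inl_desc]
  have hm₂ : Set.range (m₁ ≫ I.subschemeι).base ⊆ Set.range j.base := by
    rintro _ ⟨x, rfl⟩
    refine hclosed _ (hI ▸ ⟨m₁.base x, rfl⟩) ?_
    show (m₁ ≫ q₁).base x ∈ V
    rw [hm₁]
    exact x.2
  refine ⟨_, q, IsOpenImmersion.lift j (m₁ ≫ I.subschemeι) hm₂, inferInstance, inferInstance, ?_⟩
  rw [← hjr, IsOpenImmersion.lift_fac_assoc, Category.assoc]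
  exact hm₁


open CategoryTheory.Limits in
/-- Let Y be a Noetherian scheme and f : X ⟶ Y a universally open, surjective morphism locally of finite
type. Then there is a finite surjective morphism g : Y' ⟶ Y such that the base change X ×_Y Y' ⟶ Y'
admits a section over some open neighbourhood of every point of Y'. -/
theorem result {X Y : Scheme.{u}} [IsNoetherian Y] (f : X ⟶ Y)
    [UniversallyOpen f] [Surjective f] [LocallyOfFiniteType f] :
    ∃ (Y' : Scheme.{u}) (g : Y' ⟶ Y), IsFinite g ∧ Surjective g ∧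
      ∀ y' : Y', ∃ U : Y'.Opens, y' ∈ U ∧
        ∃ s : (↑U : Scheme.{u}) ⟶ pullback f g, s ≫ pullback.snd f g = U.ι := by
  classical
  choose S' S'' w π h hw hπ hπs hsq hs using exists_local_quasiSection f
  let E := ∐ S'
  let e : E ⟶ Y := Sigma.desc w
  haveI : Etale e := IsZariskiLocalAtSource.sigmaDesc hw
  haveI : Surjective e := ⟨fun y => by
    obtain ⟨a, ha⟩ := hs y
    exact ⟨(Sigma.ι S' y).base a, by
      show (Sigma.ι S' y ≫ e).base a = y
      rw [Sigma.ι_desc]; exact ha⟩⟩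
  obtain ⟨T, g, hgs, hgf, -, hloc⟩ := Groth.Agent.S0410.result e
  haveI := hgs; haveI := hgf
  haveI : IsLocallyNoetherian T := LocallyOfFiniteType.isLocallyNoetherian g
  haveI : CompactSpace T := QuasiCompact.compactSpace_of_compactSpace g
  haveI : IsNoetherian T := {}
  have key : ∀ t : T, ∃ (V : T.Opens) (s : Y) (k : V.toScheme ⟶ S' s), t ∈ V ∧ k ≫ w s = V.ι ≫ g := by
    intro t
    obtain ⟨V, l, htV, hl⟩ := hloc t
    obtain ⟨⟨s, a⟩, ha⟩ := (sigmaMk S').surjective (l.base ⟨t, htV⟩)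
    rw [sigmaMk_mk] at ha
    let V₀ := l ⁻¹ᵁ (Sigma.ι S' s).opensRange
    let V' : T.Opens := V.ι ''ᵁ V₀
    have hV' : V' ≤ V := (V.ι.image_le_opensRange _).trans (by rw [Scheme.Opens.opensRange_ι])
    have hr : Set.range (T.homOfLE hV' ≫ l).base ⊆ Set.range (Sigma.ι S' s).base := by
      rintro _ ⟨⟨x, hx⟩, rfl⟩
      obtain ⟨y, hy, rfl⟩ := hx
      have he : (T.homOfLE hV').base ⟨V.ι.base y, ⟨y, hy, rfl⟩⟩ = y := Subtype.ext (by simp)
      show l ((T.homOfLE hV') ⟨V.ι y, ⟨y, hy, rfl⟩⟩) ∈ _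
      exact Set.mem_of_eq_of_mem (congrArg (fun z => l z) he) hy
    refine ⟨V', s, IsOpenImmersion.lift (Sigma.ι S' s) (T.homOfLE hV' ≫ l) hr,
      ⟨⟨t, htV⟩, ⟨a, ha⟩, rfl⟩, ?_⟩
    have h1 : Sigma.ι S' s ≫ e = w s := Sigma.ι_desc _ _
    rw [← h1, IsOpenImmersion.lift_fac_assoc, Category.assoc, hl, Scheme.homOfLE_ι_assoc]
  choose V s k htV hk using key
  obtain ⟨F, hF⟩ := isCompact_univ.elim_finite_subcover (fun t => (V t : Set T)) (fun t => (V t).2)
    (fun t _ => Set.mem_iUnion.2 ⟨t, htV t⟩)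
  have main : ∀ G : Finset T, ∃ (Q : Scheme.{u}) (q : Q ⟶ T), IsFinite q ∧ Surjective q ∧
      ∀ t ∈ G, ∃ m : (q ⁻¹ᵁ V t).toScheme ⟶ X, m ≫ f = (q ⁻¹ᵁ V t).ι ≫ q ≫ g := by
    intro G
    induction G using Finset.induction with
    | empty => exact ⟨T, 𝟙 T, inferInstance, inferInstance, fun t ht => absurd ht (Finset.notMem_empty t)⟩
    | insert a G ha ih =>
      obtain ⟨Q, q, hq, hqs, hG⟩ := ih
      haveI := hπ (s a); haveI := hπs (s a)
      let p : pullback (π (s a)) (k a) ⟶ (V a).toScheme := pullback.snd _ _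
      obtain ⟨R, r, m, hrf, hrs, hm⟩ := exists_extend (V a) p
      refine ⟨pullback q r, pullback.fst q r ≫ q, inferInstance, inferInstance, fun t ht => ?_⟩
      let O := (pullback.fst q r ≫ q) ⁻¹ᵁ V t
      rcases Finset.mem_insert.1 ht with rfl | ht
      · let l := IsOpenImmersion.lift (r ⁻¹ᵁ V t).ι (O.ι ≫ pullback.snd q r) (by
          rw [Scheme.Opens.range_ι]
          rintro _ ⟨x, rfl⟩
          show (O.ι ≫ pullback.snd q r ≫ r).base x ∈ V t
          rw [← pullback.condition]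
          exact x.2)
        have hl : l ≫ (r ⁻¹ᵁ V t).ι = O.ι ≫ pullback.snd q r := IsOpenImmersion.lift_fac _ _ _
        refine ⟨l ≫ m ≫ pullback.fst (π (s t)) (k t) ≫ h (s t), ?_⟩
        simp only [Category.assoc]
        rw [hsq, pullback.condition_assoc, hk]
        change l ≫ m ≫ p ≫ (V t).ι ≫ g = _
        rw [reassoc_of% hm, reassoc_of% hl, pullback.condition_assoc]
      · obtain ⟨m₀, hm₀⟩ := hG t ht
        let l := IsOpenImmersion.lift (q ⁻¹ᵁ V t).ι (O.ι ≫ pullback.fst q r) (by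
          rw [Scheme.Opens.range_ι]
          rintro _ ⟨x, rfl⟩
          exact x.2)
        have hl : l ≫ (q ⁻¹ᵁ V t).ι = O.ι ≫ pullback.fst q r := IsOpenImmersion.lift_fac _ _ _
        refine ⟨l ≫ m₀, ?_⟩
        rw [Category.assoc, hm₀, reassoc_of% hl, Category.assoc]
  obtain ⟨Q, q, hq, hqs, hall⟩ := main F
  refine ⟨Q, q ≫ g, inferInstance, inferInstance, fun y => ?_⟩
  obtain ⟨t, ht⟩ := Set.mem_iUnion.1 (hF (Set.mem_univ (q.base y)))
  obtain ⟨htF, hyV⟩ := Set.mem_iUnion.1 ht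
  obtain ⟨m, hm⟩ := hall t htF
  exact ⟨q ⁻¹ᵁ V t, hyV, pullback.lift m (q ⁻¹ᵁ V t).ι (by rw [hm]), pullback.lift_snd _ _ _⟩

end Groth.Agent.S2570
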