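import Groth.Statements.S2572
import Groth.Agent.Lib.Chev28.Dedekind

set_option autoImplicit false
open CategoryTheory AlgebraicGeometry
universe u
open EGA43

namespace Groth.Agent.S2572

/-- Let Y be an irreducible locally Noetherian scheme whose local rings are regular of dimension at most
one, f : X ⟶ Y locally of finite type, and y a point of Y. If every irreducible component of X
meeting the fibre over y has dense image in Y, then there is an open subset U of X containing that
fibre such that the restriction of f to U is universally open. -/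
theorem result {X Y : Scheme.{u}} [IsLocallyNoetherian Y]
    [IrreducibleSpace Y]
    (hY : ∀ y : Y, IsRegularLocalRing (Y.presheaf.stalk y) ∧ ringKrullDim (Y.presheaf.stalk y) ≤ 1)
    (f : X ⟶ Y) [LocallyOfFiniteType f] (y : Y)
    (h : ∀ Z ∈ irreducibleComponents (X : Type u), (Z ∩ f.base ⁻¹' {y}).Nonempty → Dense (f.base '' Z)) :
    ∃ U : X.Opens, f.base ⁻¹' {y} ⊆ (U : Set X) ∧ UniversallyOpen (U.ι ≫ f) := by
  haveI := LocallyOfFiniteType.isLocallyNoetherian f
  let U : Set X := {z | ∀ ξ, ξ ⤳ z → (∀ z', z' ⤳ ξ → z' = ξ) → f ξ = genericPoint Y}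
  have hU : IsOpen U := isOpen_iff_forall_mem_open.mpr fun z hz => by
    obtain ⟨O, hzO, hO⟩ := GrothLib.Chev28.exists_open_components_through z
    exact ⟨O, fun z' hz' ξ hξ hmax => hz ξ (hO ξ (hξ.mem_open O.2 hz') hmax) hmax, O.2, hzO⟩
  refine ⟨⟨U, hU⟩, fun z hz ξ hξ hmax => ?_, ?_⟩
  · have hd := h _ (GrothLib.Equidim6.closure_mem_components hmax) ⟨z, hξ.mem_closure, hz⟩
    have hc : closure (f.base '' closure {ξ}) = closure {f ξ} :=
      GrothLib.Chev28.closure_image_closure_singleton f.continuous ξ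
    rw [dense_iff_closure_eq, hc] at hd
    exact (show IsGenericPoint (f ξ) Set.univ from hd).eq (genericPoint_spec Y)
  · refine GrothLib.Chev28.universallyOpen_of_forall_isUnivOpenAt _ fun v => ?_
    obtain ⟨ξ, hξ, hmax⟩ := GrothLib.AffDom.exists_maximal_point v
    let U' : X.Opens := ⟨U, hU⟩
    refine GrothLib.Chev28.isUnivOpenAt_of_dominant_dedekind hY (U'.ι ≫ f) hξ ?_
    refine v.2 (U'.ι ξ) (hξ.map U'.ι.continuous) fun z' hz' => ?_
    obtain ⟨w, rfl⟩ : z' ∈ Set.range U'.ι := U'.range_ι.ge (hz'.mem_open U'.2 ξ.2)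
    exact congrArg U'.ι (hmax w (U'.ι.isEmbedding.isInducing.specializes_iff.mp hz'))

end Groth.Agent.S2572
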