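import Groth.Statements.S2596
import Groth.Agent.Lib.Chev28.PropNhd

set_option autoImplicit false
open CategoryTheory AlgebraicGeometry
universe u
open EGA43

namespace Groth.Agent.S2596

open CategoryTheory.Limits in
/-- Let Y be locally Noetherian, f : X ⟶ Y separated and of finite type, and y a point of Y. Suppose
that for every discrete valuation ring A with fraction field K and every morphism g : Spec A ⟶ Y
sending the closed point to y, every K-point σ of X ×_Y Spec A lying over the generic point Spec K ⟶
Spec A extends to a section of X ×_Y Spec A ⟶ Spec A. Then f is proper over some open neighbourhood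
of y. -/
theorem result {X Y : Scheme.{u}} [IsLocallyNoetherian Y]
    (f : X ⟶ Y) [IsSeparated f] [LocallyOfFiniteType f] [QuasiCompact f] (y : Y)
    (h : ∀ (A : Type u) [CommRing A] [IsDomain A] [IsDiscreteValuationRing A]
      (g : Spec (CommRingCat.of A) ⟶ Y), g.base (IsLocalRing.closedPoint A) = y →
      ∀ σ : Spec (CommRingCat.of (FractionRing A)) ⟶ pullback f g,
        σ ≫ pullback.snd f g = Spec.map (CommRingCat.ofHom (algebraMap A (FractionRing A))) →
        ∃ s : Spec (CommRingCat.of A) ⟶ pullback f g, s ≫ pullback.snd f g = 𝟙 _ ∧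
          Spec.map (CommRingCat.ofHom (algebraMap A (FractionRing A))) ≫ s = σ) :
    ∃ U : Y.Opens, y ∈ U ∧ IsProper (f ∣_ U) := by
  refine GrothLib.Chev28.exists_nhd_isProper_of_lifts_restrict f y fun V _ u _ A hA g hg hcomp => ?_
  let L := (f ⁻¹ᵁ V).toScheme.residueField u
  let q : Spec (CommRingCat.of L) ⟶ X := (f ⁻¹ᵁ V).toScheme.fromSpecResidueField u ≫ (f ⁻¹ᵁ V).ι
  let e := FractionRing.algEquiv A L
  let a : CommRingCat.of L ⟶ CommRingCat.of (FractionRing A) := CommRingCat.ofHom e.symm.toAlgHom.toRingHom
  let b : CommRingCat.of (FractionRing A) ⟶ CommRingCat.of L := CommRingCat.ofHom e.toAlgHom.toRingHom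
  have hb : CommRingCat.ofHom (algebraMap A (FractionRing A)) ≫ b = CommRingCat.ofHom A.subtype := by
    ext z; exact e.commutes z
  have ha : CommRingCat.ofHom A.subtype ≫ a = CommRingCat.ofHom (algebraMap A (FractionRing A)) := by
    ext z; exact e.symm.commutes z
  have hab : a ≫ b = 𝟙 _ := by ext z; exact e.apply_symm_apply z
  haveI := hA
  have w : (Spec.map a ≫ q) ≫ f = Spec.map (CommRingCat.ofHom (algebraMap A (FractionRing A))) ≫ g := by
    rw [← ha, Spec.map_comp, Category.assoc, Category.assoc]
    exact (congrArg (Spec.map a ≫ ·) hcomp).symm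
  obtain ⟨s, hs₁, hs₂⟩ := h A g hg (Limits.pullback.lift (Spec.map a ≫ q) _ w) (Limits.pullback.lift_snd _ _ _)
  refine ⟨s ≫ Limits.pullback.fst f g, ?_, ?_⟩
  · rw [Category.assoc, Limits.pullback.condition, reassoc_of% hs₁]
  · rw [← hb, Spec.map_comp, Category.assoc, reassoc_of% hs₂, Limits.pullback.lift_fst,
      ← Category.assoc, ← Spec.map_comp, hab, Spec.map_id, Category.id_comp]

end Groth.Agent.S2596
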