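import Groth.Statements.S4744
import Groth.Agent.Lib.SnFibres.Basic

set_option autoImplicit false
universe u
open EGA4

namespace Groth.Agent.S4744

/-- Let A → A' be a flat local homomorphism of Noetherian local rings all of whose fibre rings k(p) ⊗_A
A' are Cohen–Macaulay. If the completion map of A' is regular (the formal fibres of A' are
geometrically regular), then the formal fibres of A are Cohen–Macaulay. -/
theorem result (A A' : Type u) [CommRing A] [CommRing A'] [IsNoetherianRing A]
    [IsNoetherianRing A'] [IsLocalRing A] [IsLocalRing A'] [Algebra A A'] [IsLocalHom (algebraMap A A')]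
    [Module.Flat A A'] (hf : ∀ (p : Ideal A) [p.IsPrime], LocCoh.IsCohenMacaulayRing (p.Fiber A'))
    (hA' : CAlg.IsRegularHom A' (EGA4.Cpl A')) : EGA4.HasCMFormalFibres A := by
  intro p _
  obtain ⟨ψ, hψ, hff⟩ := GrothLib.FormalDescent.exists_flat_completion A A'
  letI := ψ.toAlgebra
  have := hff
  have : IsScalarTower A (EGA4.Cpl A) (EGA4.Cpl A') := IsScalarTower.of_algebraMap_eq' hψ.symm
  have : IsNoetherianRing (EGA4.Cpl A') := (GrothLib.Ratliff.isUniversallyCatenary_cpl (A := A')).1
  have : IsNoetherianRing (EGA4.Cpl A) := (GrothLib.Ratliff.isUniversallyCatenary_cpl (A := A)).1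
  have : Module.Flat A' (EGA4.Cpl A') := hA'.1
  have : IsNoetherianRing (p.Fiber (EGA4.Cpl A)) := GrothLib.FormalDescent.isNoetherianRing_fiber A _ p
  refine GrothLib.SnFibres.isCohenMacaulayRing_iff_forall_hasSk.2 fun n =>
    GrothLib.SnFibres.hasSk_fiber_descent (B := EGA4.Cpl A) (C := EGA4.Cpl A') n p
      (GrothLib.SnFibres.hasSk_fiber_comp (B := A') n (fun r _ => ?_)
        (fun q _ => GrothLib.SnFibres.hasSk_fiber_of_isRegularHom hA' n q) p)
  have : IsNoetherianRing (r.Fiber A') := GrothLib.FormalDescent.isNoetherianRing_fiber A A' r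
  exact GrothLib.SnFibres.isCohenMacaulayRing_iff_forall_hasSk.1 (hf r) n

end Groth.Agent.S4744
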