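import Groth.Statements.S4735
import Groth.Agent.S2642
import Groth.Agent.S2634
import Groth.Agent.Lib.FibPd.SerreOne
import Groth.Agent.Lib.ProjStalk27.Pure
import Groth.Agent.Lib.SyntLoc.Sk
-- import your own Groth.Agent.* helpers here

set_option autoImplicit false
universe u
open EGA4

namespace Groth.Agent.S4735


section Aux

open IsLocalRing TensorProduct

/-- The associated primes of a strictly equidimensional local ring are minimal. -/
theorem minimal_of_strictlyEquidim {R : Type u} [CommRing R] [IsNoetherianRing R] [IsLocalRing R]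
    (h : EGA4.IsStrictlyEquidim R) : ∀ Q ∈ associatedPrimes R R, Q ∈ minimalPrimes R := by
  intro Q hQ
  haveI := hQ.isPrime
  obtain ⟨q, hq, hle⟩ := Ideal.exists_minimalPrimes_le (I := (⊥ : Ideal R)) (J := Q) bot_le
  rcases eq_or_lt_of_le hle with rfl | hlt
  · exact hq
  exfalso
  haveI := hq.1.1
  have hq' : q ∈ associatedPrimes R R :=
    Module.associatedPrimes.minimalPrimes_annihilator_subset_associatedPrimes R R
      (by rw [Module.annihilator_eq_bot.mpr inferInstance]; exact hq)
  obtain ⟨x, hx, hxq⟩ := SetLike.exists_of_lt hlt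
  haveI : IsLocalRing (R ⧸ q) := IsLocalRing.of_surjective' (Ideal.Quotient.mk q) Ideal.Quotient.mk_surjective
  have h1 := ringKrullDim_succ_le_of_surjective (Ideal.Quotient.factor hlt.le) (Ideal.Quotient.factor_surjective hlt.le)
    (r := Ideal.Quotient.mk q x) (mem_nonZeroDivisors_of_ne_zero (Ideal.Quotient.eq_zero_iff_mem.not.2 hxq))
    (by simpa [Ideal.Quotient.eq_zero_iff_mem] using hx)
  rw [h Q hQ, h q hq'] at h1
  obtain ⟨n, hn⟩ : ∃ n : ℕ, ringKrullDim R = (n : WithBot ℕ∞) := by
    have hb : ringKrullDim R ≠ ⊥ := ringKrullDim_ne_bot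
    have ht : ringKrullDim R < ⊤ := ringKrullDim_lt_top
    cases hR : ringKrullDim R with
    | bot => exact absurd hR hb
    | coe d =>
      cases d with
      | top => rw [hR] at ht; exact absurd ht (lt_irrefl _)
      | coe m => exact ⟨m, rfl⟩
  rw [hn] at h1
  have h1' : (n + 1 : ℕ) ≤ n := by exact_mod_cast h1
  omega

theorem isEquidim_of_strictlyEquidim {R : Type u} [CommRing R] [IsNoetherianRing R]
    (h : EGA4.IsStrictlyEquidim R) : EGA4.IsEquidim R := fun q hq => by
  refine h q (Module.associatedPrimes.minimalPrimes_annihilator_subset_associatedPrimes R R ?_)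
  rw [Module.annihilator_eq_bot.mpr inferInstance]
  exact hq

theorem hasSk_fiber {R C : Type u} [CommRing R] [CommRing C] [Algebra R C] [IsNoetherianRing C]
    (p : Ideal R) [p.IsPrime]
    (h : ∀ Q ∈ associatedPrimes (C ⧸ p.map (algebraMap R C)) (C ⧸ p.map (algebraMap R C)),
      Q ∈ minimalPrimes (C ⧸ p.map (algebraMap R C))) :
    LocCoh.HasSk 1 (p.Fiber C) (p.Fiber C) := by
  let e : (R ⧸ p) ⊗[R] C ≃+* C ⧸ p.map (algebraMap R C) :=
    ((Algebra.TensorProduct.quotIdealMapEquivTensorQuot C p).toRingEquiv.trans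
      (Algebra.TensorProduct.comm R C (R ⧸ p)).toRingEquiv).symm
  haveI : IsNoetherianRing ((R ⧸ p) ⊗[R] C) := isNoetherianRing_of_ringEquiv _ e.symm
  have h1 := GrothLib.SyntLoc.hasSk_localization
    ((GrothLib.FibPd.hasSk_one_iff _).2 (GrothLib.ProjStalk27.associatedPrimes_minimal_of_ringEquiv e h))
    (Algebra.algebraMapSubmonoid ((R ⧸ p) ⊗[R] C) (nonZeroDivisors (R ⧸ p)))
    (((R ⧸ p) ⊗[R] C) ⊗[R ⧸ p] p.ResidueField)
  let e₂ : ((R ⧸ p) ⊗[R] C) ⊗[R ⧸ p] p.ResidueField ≃+* p.Fiber C :=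
    (Algebra.TensorProduct.comm (R ⧸ p) ((R ⧸ p) ⊗[R] C) p.ResidueField).toRingEquiv.trans
      (Algebra.TensorProduct.cancelBaseChange R (R ⧸ p) (R ⧸ p) p.ResidueField C).toRingEquiv
  haveI : IsNoetherianRing (((R ⧸ p) ⊗[R] C) ⊗[R ⧸ p] p.ResidueField) :=
    IsLocalization.isNoetherianRing (Algebra.algebraMapSubmonoid ((R ⧸ p) ⊗[R] C) (nonZeroDivisors (R ⧸ p))) (((R ⧸ p) ⊗[R] C) ⊗[R ⧸ p] p.ResidueField) inferInstance
  exact GrothLib.SnFibres.hasSk_congr e₂ h1

theorem minimal_of_hasSk_fiber {D T : Type u} [CommRing D] [IsDomain D] [CommRing T] [Algebra D T]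
    [Module.Flat D T] [IsNoetherianRing T]
    (h : LocCoh.HasSk 1 ((⊥ : Ideal D).Fiber T) ((⊥ : Ideal D).Fiber T)) :
    ∀ Q ∈ associatedPrimes T T, Q ∈ minimalPrimes T := by
  let K := FractionRing D
  let eK : (⊥ : Ideal D).ResidueField ≃ₐ[D] K :=
    (FractionRing.algEquiv D _).symm
  let L := T ⊗[D] K
  haveI : IsNoetherianRing L :=
    IsLocalization.isNoetherianRing (Algebra.algebraMapSubmonoid T (nonZeroDivisors D)) L inferInstance
  haveI : IsNoetherianRing ((⊥ : Ideal D).Fiber T) := GrothLib.FormalDescent.isNoetherianRing_fiber D T _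
  have hL : LocCoh.HasSk 1 L L := GrothLib.SnFibres.hasSk_congr
    ((Algebra.TensorProduct.congr eK AlgEquiv.refl).toRingEquiv.trans
      (Algebra.TensorProduct.comm D K T).toRingEquiv) h
  have hmin := (GrothLib.FibPd.hasSk_one_iff _).1 hL
  have hinj : Function.Injective (algebraMap T L) :=
    IsLocalization.injective L (M := Algebra.algebraMapSubmonoid T (nonZeroDivisors D)) (by
      rintro _ ⟨d, hd, rfl⟩
      refine mem_nonZeroDivisors_iff_right.2 fun t ht => ?_
      refine (Module.Flat.isSMulRegular_of_nonZeroDivisors (M := T) hd) ?_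
      simp only [smul_zero, Algebra.smul_def]
      rw [mul_zero, mul_comm]; exact ht)
  intro Q hQ
  haveI := hQ.isPrime
  obtain ⟨Q', hQ', hcomap⟩ := GrothLib.ProjStalk27.exists_associatedPrime_comap (algebraMap T L) hinj hQ
  haveI := hQ'.isPrime
  refine ⟨⟨inferInstance, bot_le⟩, fun q hq hle => ?_⟩
  haveI := hq.1
  have hdisj : Disjoint (Algebra.algebraMapSubmonoid T (nonZeroDivisors D) : Set T) (q : Set T) := by
    have h2 := ((IsLocalization.isPrime_iff_isPrime_disjoint
      (Algebra.algebraMapSubmonoid T (nonZeroDivisors D)) L Q').1 inferInstance).2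
    change Disjoint _ ((Q'.comap (algebraMap T L) : Ideal T) : Set T) at h2
    rw [hcomap] at h2
    exact h2.mono_right hle
  have hp : (q.map (algebraMap T L)).IsPrime :=
    IsLocalization.isPrime_of_isPrime_disjoint (Algebra.algebraMapSubmonoid T (nonZeroDivisors D)) L q inferInstance hdisj
  have hle' : q.map (algebraMap T L) ≤ Q' := Ideal.map_le_iff_le_comap.2 (hle.trans hcomap.ge)
  have h3 := (hmin Q' hQ').2 ⟨hp, bot_le⟩ hle'
  rw [← hcomap, ← IsLocalization.comap_map_of_isPrime_disjoint (Algebra.algebraMapSubmonoid T (nonZeroDivisors D)) L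
    ‹q.IsPrime› hdisj]
  exact Ideal.comap_mono h3

/-- `(S_n)` over a field is stable under extensions of finite type of the field. -/
theorem hasSk_tensor_field {k S : Type u} [Field k] [CommRing S] [IsNoetherianRing S] [Algebra k S] {n : ℕ}
    (h : LocCoh.HasSk n S S) (K : Type u) [Field K] [Algebra k K] [Algebra.EssFiniteType k K] :
    LocCoh.HasSk n (K ⊗[k] S) (K ⊗[k] S) := by
  haveI : IsNoetherianRing (S ⊗[k] K) := Algebra.EssFiniteType.isNoetherianRing S _
  refine GrothLib.SnFibres.hasSk_congr (Algebra.TensorProduct.comm k S K).toRingEquiv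
    (Groth.Agent.S2086.result n h fun Q _ => ?_)
  let e : Q.Fiber (S ⊗[k] K) ≃+* (Q.ResidueField ⊗[k] K) :=
    (Algebra.TensorProduct.cancelBaseChange k S S Q.ResidueField K).toRingEquiv
  haveI : IsNoetherianRing (Q.Fiber (S ⊗[k] K)) := GrothLib.FormalDescent.isNoetherianRing_fiber S (S ⊗[k] K) Q
  haveI : IsNoetherianRing (Q.ResidueField ⊗[k] K) := isNoetherianRing_of_ringEquiv _ e
  exact GrothLib.SnFibres.isCohenMacaulayRing_iff_forall_hasSk.1
    (GrothLib.FibProp5.good_cmProp.congr e.symm (Groth.Agent.S2614.result k Q.ResidueField K (Or.inr inferInstance))) n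

theorem strictlyEquidim_domain (A : Type u) [CommRing A] [IsNoetherianRing A] [IsLocalRing A]
    (hA : EGA4.IsFormallyStrictlyCatenary A) (D : Type u) [CommRing D] [IsDomain D] [IsNoetherianRing D]
    [IsLocalRing D] [Algebra A D] [Algebra.EssFiniteType A D] : EGA4.IsStrictlyEquidim (EGA4.Cpl D) := by
  haveI : IsNoetherianRing (EGA4.Cpl A) := (GrothLib.Ratliff.isUniversallyCatenary_cpl (A := A)).1
  have hp : ∀ (p : Ideal A) [p.IsPrime], LocCoh.HasSk 1 (p.Fiber (EGA4.Cpl A)) (p.Fiber (EGA4.Cpl A)) := by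
    intro p _
    haveI : IsLocalRing (A ⧸ p) := IsLocalRing.of_surjective' (Ideal.Quotient.mk p) Ideal.Quotient.mk_surjective
    haveI : IsNoetherianRing (EGA4.Cpl (A ⧸ p)) := (GrothLib.Ratliff.isUniversallyCatenary_cpl (A := A ⧸ p)).1
    obtain ⟨e⟩ := GrothLib.Ratliff.exists_cpl_quot_equiv (A := A) p
    exact hasSk_fiber p (GrothLib.ProjStalk27.associatedPrimes_minimal_of_ringEquiv e.symm
      (minimal_of_strictlyEquidim (hA p)))
  have hFC : EGA4.IsFormallyCatenary A := fun p _ => by
    haveI : IsLocalRing (A ⧸ p) := IsLocalRing.of_surjective' (Ideal.Quotient.mk p) Ideal.Quotient.mk_surjective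
    haveI : IsNoetherianRing (EGA4.Cpl (A ⧸ p)) := (GrothLib.Ratliff.isUniversallyCatenary_cpl (A := A ⧸ p)).1
    exact isEquidim_of_strictlyEquidim (hA p)
  have heq : EGA4.IsEquidim (EGA4.Cpl D) := GrothLib.Ratliff.isFormallyEquidim_of_essFiniteType A hFC D
  obtain ⟨n, hn⟩ := GrothLib.FibProp5.exists_prime_over A D
  have hG := GrothLib.FibProp5.isGRing_tensor_cpl A D
  haveI := hG.1
  haveI : IsNoetherianRing (Localization.AtPrime n.asIdeal) :=
    IsLocalization.isNoetherianRing n.asIdeal.primeCompl _ inferInstance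
  have h1 : ∀ (P : Ideal D) [P.IsPrime], LocCoh.HasSk 1 (P.Fiber (D ⊗[A] EGA4.Cpl A)) (P.Fiber (D ⊗[A] EGA4.Cpl A)) := by
    intro P _
    let p := P.comap (algebraMap A D)
    let φ : p.ResidueField →ₐ[A] P.ResidueField := Ideal.ResidueField.mapₐ p P (Algebra.ofId A D) rfl
    letI : Algebra p.ResidueField P.ResidueField := φ.toRingHom.toAlgebra
    haveI : IsScalarTower A p.ResidueField P.ResidueField := IsScalarTower.of_algebraMap_eq fun a => (φ.commutes a).symm
    haveI : Algebra.EssFiniteType A P.ResidueField := Algebra.EssFiniteType.comp A D P.ResidueField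
    haveI : Algebra.EssFiniteType p.ResidueField P.ResidueField := Algebra.EssFiniteType.of_comp A p.ResidueField P.ResidueField
    haveI : IsNoetherianRing (p.Fiber (EGA4.Cpl A)) := GrothLib.FormalDescent.isNoetherianRing_fiber A _ p
    haveI : IsNoetherianRing (p.Fiber (EGA4.Cpl A) ⊗[p.ResidueField] P.ResidueField) :=
      Algebra.EssFiniteType.isNoetherianRing (p.Fiber (EGA4.Cpl A)) (p.Fiber (EGA4.Cpl A) ⊗[p.ResidueField] P.ResidueField)
    haveI : IsNoetherianRing (P.ResidueField ⊗[p.ResidueField] p.Fiber (EGA4.Cpl A)) :=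
      isNoetherianRing_of_ringEquiv _ (Algebra.TensorProduct.comm p.ResidueField (p.Fiber (EGA4.Cpl A)) P.ResidueField).toRingEquiv
    refine GrothLib.SnFibres.hasSk_congr ?_ (hasSk_tensor_field (k := p.ResidueField) (S := p.Fiber (EGA4.Cpl A)) (hp p) P.ResidueField)
    exact (Algebra.TensorProduct.cancelBaseChange A p.ResidueField p.ResidueField P.ResidueField (EGA4.Cpl A)).toRingEquiv.trans
      (Algebra.TensorProduct.cancelBaseChange A D D P.ResidueField (EGA4.Cpl A)).symm.toRingEquiv
  haveI : Module.Flat (D ⊗[A] EGA4.Cpl A) (Localization.AtPrime n.asIdeal) :=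
    IsLocalization.flat _ n.asIdeal.primeCompl
  haveI : Module.Flat D (Localization.AtPrime n.asIdeal) := Module.Flat.trans D (D ⊗[A] EGA4.Cpl A) _
  haveI : IsLocalHom (algebraMap D (Localization.AtPrime n.asIdeal)) := by
    refine ((IsLocalRing.local_hom_TFAE (algebraMap D (Localization.AtPrime n.asIdeal))).out 0 4).2 ?_
    rw [IsScalarTower.algebraMap_eq D (D ⊗[A] EGA4.Cpl A) (Localization.AtPrime n.asIdeal),
      ← Ideal.comap_comap]
    rw [show (IsLocalRing.maximalIdeal (Localization.AtPrime n.asIdeal)).comap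
        (algebraMap (D ⊗[A] EGA4.Cpl A) (Localization.AtPrime n.asIdeal)) = n.asIdeal
      from IsLocalization.AtPrime.comap_maximalIdeal _ n.asIdeal]
    exact hn
  let A' := Localization.AtPrime n.asIdeal
  have hA' : CAlg.IsRegularHom A' (EGA4.Cpl A') := hG.2 n.asIdeal
  obtain ⟨ψ, hψ, hff⟩ := GrothLib.FormalDescent.exists_flat_completion D A'
  letI := ψ.toAlgebra
  haveI := hff
  haveI : IsScalarTower D (EGA4.Cpl D) (EGA4.Cpl A') := IsScalarTower.of_algebraMap_eq' hψ.symm
  haveI : IsNoetherianRing (EGA4.Cpl A') := (GrothLib.Ratliff.isUniversallyCatenary_cpl (A := A')).1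
  haveI : IsNoetherianRing (EGA4.Cpl D) := (GrothLib.Ratliff.isUniversallyCatenary_cpl (A := D)).1
  haveI : Module.Flat A' (EGA4.Cpl A') := hA'.1
  haveI : Module.Flat D (EGA4.Cpl D) := AdicCompletion.flat_of_isNoetherian _
  have h2 : ∀ (r : Ideal D) [r.IsPrime], LocCoh.HasSk 1 (r.Fiber A') (r.Fiber A') := fun r _ =>
    GrothLib.SnFibres.hasSk_fiber_comp (B := D ⊗[A] EGA4.Cpl A) (C := A') 1 h1
      (fun q _ => GrothLib.SnFibres.hasSk_fiber_of_isRegularHom
        (GrothLib.FibProp5.isRegularHom_localization_self _ A' n.asIdeal.primeCompl) 1 q) r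
  have hmin := minimal_of_hasSk_fiber (D := D) (T := EGA4.Cpl D)
    (GrothLib.SnFibres.hasSk_fiber_descent (B := EGA4.Cpl D) (C := EGA4.Cpl A') 1 (⊥ : Ideal D)
      (GrothLib.SnFibres.hasSk_fiber_comp (B := A') 1 h2
        (fun q _ => GrothLib.SnFibres.hasSk_fiber_of_isRegularHom hA' 1 q) ⊥))
  exact fun Q hQ => heq Q (hmin Q hQ)

end Aux


/-- Let A be a strictly formally catenary Noetherian local ring. Then every Noetherian local ring B
which is an A-algebra essentially of finite type is strictly formally catenary. -/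
theorem result (A : Type u) [CommRing A] [IsNoetherianRing A] [IsLocalRing A]
    (hA : EGA4.IsFormallyStrictlyCatenary A) (B : Type u) [CommRing B] [IsNoetherianRing B] [IsLocalRing B]
    [Algebra A B] [Algebra.EssFiniteType A B] : EGA4.IsFormallyStrictlyCatenary B := by
  intro p _
  haveI : IsLocalRing (B ⧸ p) := IsLocalRing.of_surjective' (Ideal.Quotient.mk p) Ideal.Quotient.mk_surjective
  haveI : Algebra.EssFiniteType A (B ⧸ p) := Algebra.EssFiniteType.comp A B (B ⧸ p)
  exact strictlyEquidim_domain A hA (B ⧸ p)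

end Groth.Agent.S4735
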