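import Groth.Statements.S4706
import Groth.Agent.Lib.NormalHom.Basic
import Groth.Agent.Lib.FormalDescent.Basic

set_option autoImplicit false
universe u
open EGA4

namespace Groth.Agent.S4706

/-- Let A → A' be a local homomorphism of Noetherian local rings which is normal (flat, with
geometrically normal fibres). If the completion map of A' is regular (the formal fibres of A' are
geometrically regular), then the formal fibres of A are geometrically normal. -/
theorem result (A A' : Type u) [CommRing A] [CommRing A']
    [IsNoetherianRing A] [IsNoetherianRing A'] [IsLocalRing A] [IsLocalRing A'] [Algebra A A']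
    [IsLocalHom (algebraMap A A')] (hf : EGA4.IsNormalHom A A') (hA' : CAlg.IsRegularHom A' (EGA4.Cpl A')) :
    EGA4.HasGeomNormalFormalFibres A := by
  haveI := hf.1
  intro p _
  obtain ⟨ψ, hψ, hff⟩ := GrothLib.FormalDescent.exists_flat_completion A A'
  letI := ψ.toAlgebra
  haveI := hff
  haveI : IsScalarTower A (EGA4.Cpl A) (EGA4.Cpl A') := IsScalarTower.of_algebraMap_eq' hψ.symm
  haveI : IsNoetherianRing (EGA4.Cpl A') := (GrothLib.Ratliff.isUniversallyCatenary_cpl (A := A')).1
  exact (GrothLib.NormalHom.isNormalHom_of_faithfullyFlat (B := EGA4.Cpl A) (C := EGA4.Cpl A')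
    (GrothLib.NormalHom.isNormalHom_comp (B := A') hf (GrothLib.NormalHom.isNormalHom_of_isRegularHom hA'))).2 p

end Groth.Agent.S4706
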