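import Groth.Statements.S5153
import Groth.Agent.Lib.Depth.Hartogs
import Groth.Agent.Lib.LocNoeth.Space

set_option autoImplicit false
universe u
open AlgebraicGeometry
open LocCoh

namespace Groth.Agent.S5153

/-- Let X be a locally Noetherian scheme and Y = X − U a closed subset such that depth O_{X,x} ≥ 2 for
every x ∈ Y. Then the inclusion U → X induces a bijection on sets of connected components. -/
theorem result (X : Scheme.{u}) [IsLocallyNoetherian X] (U : X.Opens) (h : ∀ x : X, x ∉ (U : Set X) → (2 : ℕ∞) ≤ LocCoh.depth (X.presheaf.stalk x) (X.presheaf.stalk x)) : Function.Bijective (Continuous.connectedComponentsMap (continuous_subtype_val : Continuous (fun x : U => (x : X)))) := by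
  classical
  have hN : GrothLib.LocNoeth.IsLocNoeth X := fun x => by
    obtain ⟨W, hW, hxW, -⟩ := TopologicalSpace.Opens.isBasis_iff_nbhd.1 X.isBasis_affineOpens (TopologicalSpace.Opens.mem_top x)
    haveI : IsAffine (W : Scheme.{u}) := hW
    haveI : IsNoetherianRing Γ(X, W) := IsLocallyNoetherian.component_noetherian ⟨W, hW⟩
    exact ⟨W, W.isOpen.mem_nhds hxW, noetherianSpace_of_isAffineOpen W hW⟩
  have hNU : GrothLib.LocNoeth.IsLocNoeth (U : Set X) := hN.subtype _
  have hU : GrothLib.Depth.DepthTwoOutside U := h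
  constructor
  · rintro ⟨x⟩ ⟨y⟩ hxy
    change ConnectedComponents.mk (x : X) = ConnectedComponents.mk (y : X) at hxy
    rw [ConnectedComponents.coe_eq_coe'] at hxy
    refine ConnectedComponents.coe_eq_coe'.2 ?_
    by_contra hD
    let C : X.Opens := ⟨connectedComponent (y : X), hN.isOpen_connectedComponent _⟩
    let D : X.Opens := ⟨Subtype.val '' connectedComponent y,
      U.isOpen.isOpenEmbedding_subtypeVal.isOpenMap _ (hNU.isOpen_connectedComponent _)⟩
    let D' : X.Opens := ⟨Subtype.val '' (connectedComponent y)ᶜ,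
      U.isOpen.isOpenEmbedding_subtypeVal.isOpenMap _ isClosed_connectedComponent.isOpen_compl⟩
    let W : Bool → X.Opens := fun b => C ⊓ (if b then D else D')
    have hle : ∀ b, W b ≤ C ⊓ U := fun b z hz => ⟨hz.1, by
      cases b <;> obtain ⟨w, -, rfl⟩ := hz.2 <;> exact w.2⟩
    have hdis : ∀ z, z ∈ D → z ∈ D' → False := by
      rintro z ⟨a, ha, rfl⟩ ⟨b, hb, hba⟩
      exact hb (Subtype.ext hba ▸ ha)
    have hbot : ∀ (V : X.Opens), (∀ z, z ∈ V → False) → Subsingleton Γ(X, V) := fun V hV => by
      rw [show V = ⊥ from TopologicalSpace.Opens.ext (Set.eq_empty_iff_forall_notMem.2 hV)]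
      infer_instance
    obtain ⟨e, he, -⟩ := X.sheaf.existsUnique_gluing' W (C ⊓ U) (fun b => CategoryTheory.homOfLE (hle b))
      (fun z hz => TopologicalSpace.Opens.mem_iSup.2 (by
        by_cases hzD : (⟨z, hz.2⟩ : U) ∈ connectedComponent y
        · exact ⟨true, hz.1, ⟨_, hzD, rfl⟩⟩
        · exact ⟨false, hz.1, ⟨_, hzD, rfl⟩⟩))
      (fun b => (if b then 1 else 0 : Γ(X, W b))) (fun a b => by
        cases a <;> cases b
        · rfl
        · exact @Subsingleton.elim _ (hbot (W false ⊓ W true) fun z hz => hdis z hz.2.2 hz.1.2) _ _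
        · exact @Subsingleton.elim _ (hbot (W true ⊓ W false) fun z hz => hdis z hz.1.2 hz.2.2) _ _
        · rfl)
    obtain ⟨e', he'⟩ := (GrothLib.Depth.res_bijective hU C).2 e
    have he'W : ∀ b, X.presheaf.map (CategoryTheory.homOfLE ((hle b).trans inf_le_left)).op e' =
        (if b then 1 else 0 : Γ(X, W b)) := fun b =>
      ((GrothLib.Depth.res_res _ (hle b) e').symm.trans (congrArg (GrothLib.Depth.res (hle b)) he')).trans (he b)
    have hidem : e' * (1 - e') = 0 := by
      refine (GrothLib.Depth.res_bijective hU C).1 ?_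
      refine TopCat.Sheaf.eq_of_locally_eq' X.sheaf W (C ⊓ U) (fun b => CategoryTheory.homOfLE (hle b))
        (fun z hz => TopologicalSpace.Opens.mem_iSup.2 (by
          by_cases hzD : (⟨z, hz.2⟩ : U) ∈ connectedComponent y
          · exact ⟨true, hz.1, ⟨_, hzD, rfl⟩⟩
          · exact ⟨false, hz.1, ⟨_, hzD, rfl⟩⟩)) _ _ fun b => ?_
      refine ((GrothLib.Depth.res_res _ (hle b) _).trans ?_).trans (GrothLib.Depth.res_res _ (hle b) _).symm
      show X.presheaf.map _ (e' * (1 - e')) = X.presheaf.map _ 0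
      rw [map_mul, map_sub, map_one, map_zero, he'W b]
      cases b <;> simp
    have hin : ∀ (b : Bool) (z : X), z ∈ W b → (z ∈ X.basicOpen e' ↔ b = true) := fun b z hz => by
      have h1 : z ∈ X.basicOpen (X.presheaf.map (CategoryTheory.homOfLE ((hle b).trans inf_le_left)).op e') ↔
          z ∈ X.basicOpen e' := by
        rw [Scheme.basicOpen_res]
        exact ⟨fun hh => hh.2, fun hh => ⟨hz, hh⟩⟩
      rw [← h1, he'W b]
      cases b
      · simp only [Bool.false_eq_true, if_false, iff_false, Scheme.basicOpen_zero]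
        exact id
      · simp only [if_true, iff_true]
        rw [Scheme.basicOpen_of_isUnit _ isUnit_one]
        exact hz
    have hclosed : ∀ z : X, z ∈ C → z ∈ X.basicOpen e' ∨ z ∈ X.basicOpen (1 - e') := fun z hz => by
      rw [Scheme.mem_basicOpen _ _ z hz, Scheme.mem_basicOpen _ _ z hz]
      refine IsLocalRing.isUnit_or_isUnit_of_isUnit_add ?_
      rw [← map_add, add_sub_cancel, map_one]
      exact isUnit_one
    have hxt : (y : X) ∈ X.basicOpen e' :=
      (hin true y ⟨mem_connectedComponent, ⟨y, mem_connectedComponent, rfl⟩⟩).2 rfl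
    have hxf : (x : X) ∈ W false := ⟨hxy, ⟨x, hD, rfl⟩⟩
    obtain ⟨z, hzC, hz1, hz2⟩ := isPreconnected_connectedComponent (x := (y : X))
      (X.basicOpen e' : Set X) (X.basicOpen (1 - e') : Set X) (X.basicOpen e').isOpen (X.basicOpen (1 - e')).isOpen
      hclosed ⟨y, mem_connectedComponent, hxt⟩
      ⟨x, hxy, (hclosed x hxy).resolve_left fun hh => Bool.false_ne_true ((hin false x hxf).1 hh)⟩
    have hz3 : z ∈ X.basicOpen (e' * (1 - e')) := by
      rw [Scheme.basicOpen_mul]
      exact ⟨hz1, hz2⟩
    rw [hidem, Scheme.basicOpen_zero] at hz3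
    exact hz3
  · rintro ⟨x⟩
    let C : X.Opens := ⟨connectedComponent x, hN.isOpen_connectedComponent x⟩
    suffices hne : ∃ z, z ∈ C ∧ z ∈ U by
      obtain ⟨z, hzC, hzU⟩ := hne
      exact ⟨ConnectedComponents.mk ⟨z, hzU⟩, ConnectedComponents.coe_eq_coe'.2 hzC⟩
    by_contra hne
    push Not at hne
    haveI : Subsingleton Γ(X, C ⊓ U) := by
      rw [show C ⊓ U = ⊥ from TopologicalSpace.Opens.ext (Set.eq_empty_iff_forall_notMem.2 fun z hz => hne z hz.1 hz.2)]
      infer_instance
    haveI : Subsingleton Γ(X, C) := (GrothLib.Depth.res_bijective hU C).1.subsingleton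
    haveI := (X.presheaf.germ C x mem_connectedComponent).hom.codomain_trivial
    exact not_subsingleton (X.presheaf.stalk x) inferInstance

end Groth.Agent.S5153
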