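import Groth.Statements.S4740
import Groth.Agent.Lib.FibProp5.CTensorRing
import Groth.Agent.Lib.AdicExtra.FiniteAlg
-- import your own Groth.Agent.* helpers here

set_option autoImplicit false
universe u
attribute [local instance] Algebra.TensorProduct.rightAlgebra
open EGA4

namespace Groth.Agent.S4740

open TensorProduct in
/-- Let k be a field and A, B complete Noetherian local rings containing k, the residue field of A being
a finite extension of k; let C be the completed tensor product of A and B over k (the completion of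
A ⊗_k B at the ideal m_A ⊗ B + A ⊗ m_B). Then (i) C is Noetherian with finitely many maximal ideals;
(ii) C is flat over A and over B; (iii) m_A C is contained in the Jacobson radical of C and C/m_A C
is isomorphic to (A/m_A) ⊗_k B; (iv) the residue field of C at each of its maximal ideals is a
finite B-module. (Completeness of C, also asserted in the published item, is not restated; the
isomorphism in (iii) is asserted to exist only.) -/
theorem result (k A B : Type u) [Field k] [CommRing A] [CommRing B] [Algebra k A] [Algebra k B]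
    [IsNoetherianRing A] [IsNoetherianRing B] [IsLocalRing A] [IsLocalRing B]
    [IsAdicComplete (IsLocalRing.maximalIdeal A) A] [IsAdicComplete (IsLocalRing.maximalIdeal B) B]
    [Module.Finite k (IsLocalRing.ResidueField A)] :
    (IsNoetherianRing (EGA4.CTensor k A B) ∧ (Set.univ : Set (MaximalSpectrum (EGA4.CTensor k A B))).Finite) ∧
      (Module.Flat A (EGA4.CTensor k A B) ∧ Module.Flat B (EGA4.CTensor k A B)) ∧
      ((IsLocalRing.maximalIdeal A).map (algebraMap A (EGA4.CTensor k A B)) ≤ (⊥ : Ideal (EGA4.CTensor k A B)).jacobson ∧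
        Nonempty ((EGA4.CTensor k A B ⧸ (IsLocalRing.maximalIdeal A).map (algebraMap A (EGA4.CTensor k A B))) ≃+*
          ((A ⧸ IsLocalRing.maximalIdeal A) ⊗[k] B))) ∧
      (∀ (M : Ideal (EGA4.CTensor k A B)) [M.IsMaximal], Module.Finite B (EGA4.CTensor k A B ⧸ M)) := by
  haveI hN := GrothLib.FibProp5.isNoetherianRing_cTensor k A B
  obtain ⟨χ, hχ, hsurj, hker'⟩ := GrothLib.FibProp5.exists_quotient_hom k A B 1
  have hker : RingHom.ker χ = (IsLocalRing.maximalIdeal A).map (algebraMap A (EGA4.CTensor k A B)) :=
    hker'.trans (congrArg (Ideal.map _) (pow_one (IsLocalRing.maximalIdeal A)))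
  haveI := GrothLib.FibProp5.finite_quotient_pow k A 1
  haveI : Module.Finite B ((A ⧸ IsLocalRing.maximalIdeal A ^ 1) ⊗[k] B) :=
    Module.Finite.equiv (Algebra.TensorProduct.commRight k B (A ⧸ IsLocalRing.maximalIdeal A ^ 1)).toLinearEquiv
  let χB : EGA4.CTensor k A B →ₐ[B] (A ⧸ IsLocalRing.maximalIdeal A ^ 1) ⊗[k] B :=
    { χ with
      commutes' := fun b => by
        show χ (algebraMap B _ b) = _
        rw [IsScalarTower.algebraMap_apply B (A ⊗[k] B) (EGA4.CTensor k A B), hχ]
        rfl }
  have hkB : ∀ (M : Ideal (EGA4.CTensor k A B)) [M.IsMaximal], RingHom.ker χB ≤ M := fun M _ => by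
    have h1 := (GrothLib.FibProp5.maximalIdeal_map_le_jacobson k A B).trans (sInf_le ⟨bot_le, ‹M.IsMaximal›⟩)
    intro x hx
    have h2 : x ∈ RingHom.ker χ := hx
    rw [hker] at h2
    exact h1 h2
  refine ⟨⟨hN, ?_⟩, ⟨GrothLib.FibProp5.flat_cTensor_left k A B, GrothLib.FibProp5.flat_cTensor_right k A B⟩,
    ⟨GrothLib.FibProp5.maximalIdeal_map_le_jacobson k A B, ?_⟩, fun M _ => ?_⟩
  · -- finitely many maximal ideals
    haveI : Finite (MaximalSpectrum (EGA4.CTensor k A B)) := by
      let J := EGA4.cTensorIdeal k A B
      haveI : Module.Finite k (IsLocalRing.ResidueField A) := inferInstance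
      let g : B →+* (A ⧸ IsLocalRing.maximalIdeal A ^ 1) ⊗[k] B := algebraMap B _
      obtain ⟨hfin, -, -⟩ := GrothLib.AdicExtra.finite_algebra_pi_localizations B ((A ⧸ IsLocalRing.maximalIdeal A ^ 1) ⊗[k] B)
      refine Finite.of_surjective
        (fun m : MaximalSpectrum ((A ⧸ IsLocalRing.maximalIdeal A ^ 1) ⊗[k] B) =>
          (⟨m.asIdeal.comap χ, Ideal.comap_isMaximal_of_surjective χ hsurj⟩ : MaximalSpectrum (EGA4.CTensor k A B)))
        fun M => ?_
      haveI := M.isMaximal
      have hle : RingHom.ker χ ≤ M.asIdeal := hkB M.asIdeal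
      have hmax : (M.asIdeal.map χ).IsMaximal := by
        rcases Ideal.map_eq_top_or_isMaximal_of_surjective χ hsurj M.isMaximal with h | h
        · exfalso
          refine M.isMaximal.ne_top ?_
          rw [← Ideal.comap_top (f := χ), ← h, Ideal.comap_map_of_surjective χ hsurj]
          exact (sup_eq_left.2 hle).symm
        · exact h
      exact ⟨⟨_, hmax⟩, MaximalSpectrum.ext (by
        show (M.asIdeal.map χ).comap χ = M.asIdeal
        rw [Ideal.comap_map_of_surjective χ hsurj]
        exact sup_eq_left.2 hle)⟩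
    exact Set.finite_univ
  · refine ⟨((Ideal.quotEquivOfEq hker.symm).trans (RingHom.quotientKerEquivOfSurjective hsurj)).trans ?_⟩
    exact (Algebra.TensorProduct.congr (Ideal.quotientEquivAlgOfEq k (pow_one (IsLocalRing.maximalIdeal A)))
      (AlgEquiv.refl (R := k) (A₁ := B))).toRingEquiv
  · haveI : Module.Finite B (EGA4.CTensor k A B ⧸ RingHom.ker χB) :=
      Module.Finite.equiv (Ideal.quotientKerAlgEquivOfSurjective (f := χB) hsurj).symm.toLinearEquiv
    exact Module.Finite.of_surjective (Ideal.Quotient.factorₐ B (hkB M)).toLinearMap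
      (Ideal.Quotient.factor_surjective (hkB M))

end Groth.Agent.S4740
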