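import Groth.Statements.S5033
-- import your own Groth.Agent.* helpers here
import Groth.Agent.Lib.RegularIdeal
import Groth.Agent.Lib.RegLoc.Basic


set_option autoImplicit false
universe u
open CInt

namespace Groth.Agent.S5033

/-- Let A be a Noetherian local ring and J an ideal such that A/J is a regular local ring. Then A is a
regular local ring if and only if J is generated by a regular sequence of A. -/
theorem result (A : Type u) [CommRing A] [IsNoetherianRing A]
    [IsLocalRing A] (J : Ideal A) [IsRegularLocalRing (A ⧸ J)] :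
    IsRegularLocalRing A ↔ CInt.IsRegularIdeal J := by
  constructor
  · intro hA
    obtain ⟨x, c, hc, hx, hJ, -⟩ := GrothLib.RegLoc.exists_generators_quotient _ A rfl J
    have hreg := GrothLib.RegLoc.isWeaklyRegular_ofFn _ A rfl x hx
    obtain ⟨e, he⟩ : ∃ e, (IsLocalRing.maximalIdeal A).spanFinrank = c + e := Nat.exists_eq_add_of_le hc
    rw [List.ofFn_congr he, show (fun i => x (Fin.cast he.symm i)) =
      Fin.append (fun i => x (Fin.castLE hc i)) (fun i => x (Fin.cast he.symm (Fin.natAdd c i))) from
      funext fun i => Fin.addCases (fun i => by rw [Fin.append_left]; rfl) (fun i => by rw [Fin.append_right]) i,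
      List.ofFn_fin_append, RingTheory.Sequence.isWeaklyRegular_append_iff] at hreg
    refine ⟨_, GrothLib.RegularIdeal.isRegular_of_le hreg.1 ?_, by rw [GrothLib.KoszulH1.ofList_ofFn, hJ]⟩
    rw [GrothLib.KoszulH1.ofList_ofFn]
    refine le_trans ?_ hx.le
    rw [Ideal.span_le]
    rintro _ ⟨i, rfl⟩
    exact Ideal.subset_span ⟨_, rfl⟩
  · rintro ⟨rs, hrs, rfl⟩
    suffices h : ∀ (rs : List A), RingTheory.Sequence.IsWeaklyRegular A rs → Ideal.ofList rs ≤ IsLocalRing.maximalIdeal A →
        IsRegularLocalRing (A ⧸ Ideal.ofList rs) → IsRegularLocalRing A from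
      h rs hrs.toIsWeaklyRegular (GrothLib.RegularIdeal.le_maximalIdeal_of_isRegular hrs) inferInstance
    clear hrs
    intro rs
    induction rs using List.reverseRecOn with
    | nil =>
      intro _ _ h
      exact IsRegularLocalRing.of_ringEquiv
        ((Ideal.quotEquivOfEq (Ideal.ofList_nil)).trans (RingEquiv.quotientBot A))
    | append_singleton rs r ih =>
      intro hreg hle h
      obtain ⟨h1, h2⟩ := (GrothLib.RegularIdeal.isWeaklyRegular_append rs [r] rfl).mp hreg
      rw [Ideal.ofList_append] at hle
      have hle1 : Ideal.ofList rs ≤ IsLocalRing.maximalIdeal A := le_sup_left.trans hle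
      refine ih h1 hle1 ?_
      have : IsLocalRing (A ⧸ Ideal.ofList rs) := GrothLib.RegLoc.isLocalRing_quotient hle1
      have hr : Ideal.Quotient.mk (Ideal.ofList rs) r ∈ IsLocalRing.maximalIdeal (A ⧸ Ideal.ofList rs) := by
        rw [← GrothLib.RegLoc.map_maximalIdeal_quotient]
        refine Ideal.mem_map_of_mem _ (hle ?_)
        exact Submodule.mem_sup_right (Ideal.subset_span (List.mem_singleton_self r))
      have e : ((A ⧸ Ideal.ofList rs) ⧸ Ideal.span {Ideal.Quotient.mk (Ideal.ofList rs) r}) ≃+*
          A ⧸ Ideal.ofList (rs ++ [r]) :=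
        ((Ideal.quotEquivOfEq (by rw [Ideal.ofList_singleton, Ideal.map_span, Set.image_singleton])).trans
          (DoubleQuot.quotQuotEquivQuotSup _ (Ideal.ofList [r]))).trans (Ideal.quotEquivOfEq (Ideal.ofList_append _ _).symm)
      have := IsRegularLocalRing.of_ringEquiv e.symm
      refine GrothLib.RegLoc.isRegularLocalRing_of_quotient hr ?_
      rw [List.map_singleton, RingTheory.Sequence.isWeaklyRegular_singleton_iff] at h2
      rw [mem_nonZeroDivisors_iff_right]
      intro z hz
      exact h2.right_eq_zero_of_smul (by rwa [smul_eq_mul, mul_comm])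


end Groth.Agent.S5033
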