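import Groth.Statements.S2903
import Groth.Agent.Lib.EtDescent21.UniversallyClosed

set_option backward.isDefEq.respectTransparency false
set_option backward.isDefEq.respectTransparency.types false
set_option autoImplicit false
open CategoryTheory CategoryTheory.Limits AlgebraicGeometry Opposite
universe u
open SGA1

namespace Groth.Agent.S2903

/-- Let g : S' ⟶ S be proper, surjective and locally of finite presentation. Then every descent datum
relative to g whose underlying scheme is a finite etale cover of S' is isomorphic to the canonical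
descent datum of a finite etale cover of S. (Descent data relative to g are taken in
functor-of-points form.) -/
theorem result {S' S : Scheme.{u}} (g : S' ⟶ S) [IsProper g] [Surjective g]
    [LocallyOfFinitePresentation g] (D : Desc.SchDD g) [IsFinite D.obj.hom] [Etale D.obj.hom] :
    ∃ U : Over S, IsFinite U.hom ∧ Etale U.hom ∧ Nonempty ((Desc.toDD g).obj U ≅ D) := by
  obtain ⟨U, hU, h₁, h₂, ⟨e⟩⟩ : GrothLib.EtDescent21.EffEtS ((Desc.SchDDFam.ofSchDD g).obj D) := by
    haveI : Etale (GrothLib.EtDescent21.obj₀ ((Desc.SchDDFam.ofSchDD g).obj D)).hom := inferInstanceAs (Etale D.obj.hom)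
    haveI : IsFinite (GrothLib.EtDescent21.obj₀ ((Desc.SchDDFam.ofSchDD g).obj D)).hom := inferInstanceAs (IsFinite D.obj.hom)
    exact GrothLib.EtDescent21.effEtS_of_universallyClosed _ fun A _ _ q σ₀ h₀ =>
      GrothLib.EtDescent21.exists_lift_of_finite (pullback.snd g q) _ σ₀ h₀
  let e' := (Desc.SchDDFam.toSchDD g).mapIso e
  refine ⟨U, ?_, hU, ⟨e'⟩⟩
  let i : ((Desc.toDD g).obj U).obj ≅ D.obj :=
    { hom := e'.hom.hom, inv := e'.inv.hom
      hom_inv_id := congrArg Desc.SchDD.Hom.hom e'.hom_inv_id, inv_hom_id := congrArg Desc.SchDD.Hom.hom e'.inv_hom_id }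
  haveI hfin : IsFinite (pullback.fst g U.hom) := by
    have hw : i.hom.left ≫ D.obj.hom = pullback.fst g U.hom := Over.w i.hom
    haveI : IsIso i.hom.left := ((Over.forget S').mapIso i).isIso_hom
    haveI : IsFinite D.obj.hom := inferInstance
    rw [← hw]
    infer_instance
  haveI : UniversallyClosed U.hom := ⟨GrothLib.SGA1Sub21.of_isPullback_universally
    (IsPullback.of_hasPullback g U.hom) (GrothLib.EtDescent21.univSubmersive_of_universallyClosed g)
    (show UniversallyClosed (pullback.fst g U.hom) from inferInstance).out⟩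
  haveI := hU
  haveI := h₁
  haveI : IsProper U.hom := { }
  haveI := GrothLib.EtBasicB.locallyQuasiFinite_of_unramified U.hom
  exact IsFinite.of_isProper_of_locallyQuasiFinite U.hom

end Groth.Agent.S2903
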