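import Groth.Statements.S2905
import Groth.Agent.Lib.EtDescent21.QuasiFinite

set_option autoImplicit false
open CategoryTheory CategoryTheory.Limits AlgebraicGeometry Opposite
universe u
open SGA1

namespace Groth.Agent.S2905

/-- Let S be locally Noetherian and g : S' ⟶ S universally submersive, of finite type and quasi-finite.
Then every descent datum relative to g whose underlying scheme is etale, separated and quasi-compact
over S' is isomorphic to the canonical descent datum of a scheme etale, separated and quasi-compact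
over S. (Descent data relative to g are taken in functor-of-points form.) -/
theorem result {S' S : Scheme.{u}} [IsLocallyNoetherian S] (g : S' ⟶ S)
    (hg : SGA1.UnivSubmersive g) [LocallyOfFiniteType g] [QuasiCompact g] [LocallyQuasiFinite g]
    (D : Desc.SchDD g) [QuasiCompact D.obj.hom] [IsSeparated D.obj.hom] [Etale D.obj.hom] :
    ∃ U : Over S, QuasiCompact U.hom ∧ IsSeparated U.hom ∧ Etale U.hom ∧ Nonempty ((Desc.toDD g).obj U ≅ D) := by
  obtain ⟨U, hU, h₁, h₂, ⟨e⟩⟩ : GrothLib.EtDescent21.EffEtS ((Desc.SchDDFam.ofSchDD g).obj D) := by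
    haveI : Etale (GrothLib.EtDescent21.obj₀ ((Desc.SchDDFam.ofSchDD g).obj D)).hom := inferInstanceAs (Etale D.obj.hom)
    haveI : IsSeparated (GrothLib.EtDescent21.obj₀ ((Desc.SchDDFam.ofSchDD g).obj D)).hom :=
      inferInstanceAs (IsSeparated D.obj.hom)
    haveI : QuasiCompact (GrothLib.EtDescent21.obj₀ ((Desc.SchDDFam.ofSchDD g).obj D)).hom :=
      inferInstanceAs (QuasiCompact D.obj.hom)
    exact GrothLib.EtDescent21.effEtS_of_quasiFinite hg _
  exact ⟨U, h₂, h₁, hU, ⟨(Desc.SchDDFam.toSchDD g).mapIso e⟩⟩

end Groth.Agent.S2905
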