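import Groth.Statements.S2906
import Groth.Prelude.Def_DescFam
import Groth.Agent.Lib.SchEffective.QuasiAffine
import Groth.Agent.Lib.AlgSp.LqfDescent
import Groth.Agent.Lib.EtSite.FpqcDescent
import Mathlib.AlgebraicGeometry.Morphisms.LocalFlatDescent
import Groth.Agent.Lib.EtBasicB.OverField

set_option backward.isDefEq.respectTransparency.types false

set_option autoImplicit false
open CategoryTheory CategoryTheory.Limits AlgebraicGeometry Opposite
universe u
open SGA1

namespace Groth.Agent.S2906

/-- Let g : S' ⟶ S be flat, surjective and quasi-compact. Then every descent datum relative to g whose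
underlying scheme is etale, separated and quasi-compact over S' is isomorphic to the canonical
descent datum of a scheme etale, separated and quasi-compact over S. (Descent data relative to g are
taken in functor-of-points form.) -/
theorem result {S' S : Scheme.{u}} (g : S' ⟶ S) [Flat g] [Surjective g] [QuasiCompact g]
    (D : Desc.SchDD g) [QuasiCompact D.obj.hom] [IsSeparated D.obj.hom] [Etale D.obj.hom] :
    ∃ U : Over S, QuasiCompact U.hom ∧ IsSeparated U.hom ∧ Etale U.hom ∧ Nonempty ((Desc.toDD g).obj U ≅ D) := by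
  have hp : Presieve.ofArrows (fun _ : PUnit.{u + 1} => S') (fun _ => g) ∈ Scheme.fpqcPrecoverage S := by
    rw [Presieve.ofArrows_pUnit]
    exact Scheme.Hom.singleton_mem_fpqcPrecoverage g
  have hqa : GrothLib.SchEffective.qcQA D.obj.hom := by
    refine ⟨inferInstance, (GrothLib.IndQA.indQA_iff _).mpr fun V hV U hle hU => ?_⟩
    haveI : IsAffine (V : Scheme.{u}) := hV
    haveI : CompactSpace (U : Scheme.{u}) := isCompact_iff_compactSpace.mp hU
    haveI : IsSeparated (Scheme.Hom.resLE D.obj.hom V U hle) := by unfold Scheme.Hom.resLE; infer_instance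
    haveI : LocallyOfFiniteType (Scheme.Hom.resLE D.obj.hom V U hle) := by unfold Scheme.Hom.resLE; infer_instance
    haveI : Etale (Scheme.Hom.resLE D.obj.hom V U hle) := by unfold Scheme.Hom.resLE; infer_instance
    haveI : LocallyQuasiFinite (Scheme.Hom.resLE D.obj.hom V U hle) :=
      GrothLib.EtBasicB.locallyQuasiFinite_of_unramified (Scheme.Hom.resLE D.obj.hom V U hle)
    exact GrothLib.AlgSp.isQuasiAffine_of_lqf (Scheme.Hom.resLE D.obj.hom V U hle)
  obtain ⟨U, ⟨e⟩⟩ := GrothLib.SchEffective.isEffective_of_qcQA (fun _ : PUnit.{u + 1} => g) hp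
    ((Desc.SchDDFam.ofSchDD g).obj D) fun _ => hqa
  let e' := (Desc.SchDDFam.toSchDD g).mapIso e
  let i : ((Desc.toDD g).obj U).obj ≅ D.obj :=
    { hom := e'.hom.hom, inv := e'.inv.hom
      hom_inv_id := congrArg Desc.SchDD.Hom.hom e'.hom_inv_id, inv_hom_id := congrArg Desc.SchDD.Hom.hom e'.inv_hom_id }
  have hfst : ∀ (P : MorphismProperty Scheme.{u}) [P.RespectsIso], P D.obj.hom → P (pullback.fst g U.hom) :=
    fun P _ h => (P.arrow_mk_iso_iff (Arrow.isoMk (f := Arrow.mk (pullback.fst g U.hom)) (g := Arrow.mk D.obj.hom)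
      ((Over.forget S').mapIso i) (Iso.refl _) ((Over.w i.hom).trans (Category.comp_id _).symm))).2 h
  refine ⟨U, ?_, ?_, ?_, ⟨e'⟩⟩
  · exact MorphismProperty.of_pullback_fst_of_descendsAlong (P := @QuasiCompact)
      (Q := @Surjective ⊓ @Flat ⊓ @QuasiCompact) ⟨⟨‹_›, ‹_›⟩, ‹_›⟩ (hfst @QuasiCompact inferInstance)
  · exact MorphismProperty.of_pullback_fst_of_descendsAlong (P := @IsSeparated)
      (Q := @Surjective ⊓ @Flat ⊓ @QuasiCompact) ⟨⟨‹_›, ‹_›⟩, ‹_›⟩ (hfst @IsSeparated inferInstance)
  · exact MorphismProperty.of_pullback_fst_of_descendsAlong (P := @Etale)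
      (Q := @Surjective ⊓ @Flat ⊓ @QuasiCompact) ⟨⟨‹_›, ‹_›⟩, ‹_›⟩ (hfst @Etale inferInstance)

end Groth.Agent.S2906
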