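import Groth.Statements.S2910
import Groth.Agent.Lib.SGA1Quot21.Points
import Groth.Agent.Lib.FEt21.Graph

set_option autoImplicit false
open CategoryTheory CategoryTheory.Limits AlgebraicGeometry
universe u
open SGA1

namespace Groth.Agent.S2910

open CategoryTheory AlgebraicGeometry in
theorem aut_ext {X Y : Scheme.{u}} (p : X ⟶ Y) [IsFinite p] [Etale p] [PreconnectedSpace X]
    (u v : X ⟶ X) (hu : u ≫ p = p) (hv : v ≫ p = p) (K : Type u) [Field K]
    (ξ : Spec (CommRingCat.of K) ⟶ X) (h : ξ ≫ u = ξ ≫ v) : u = v := by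
  let A : FEt.Cat Y := MorphismProperty.Over.mk ⊤ p (GrothLib.FEt21.prop_of p)
  let u' : A ⟶ A := MorphismProperty.Over.homMk u hu
  let v' : A ⟶ A := MorphismProperty.Over.homMk v hv
  obtain ⟨D, hD, hiff⟩ := GrothLib.FEt21.exists_eqLocus u' v'
  have h0 : ξ default ∈ D := (hiff K (ξ ≫ p) ⟨ξ, rfl⟩).2 (Subtype.ext h)
  have hD' : D = Set.univ := IsClopen.eq_univ (α := X) hD ⟨_, h0⟩
  exact congrArg (fun t : A ⟶ A => t.left) (GrothLib.FEt21.hom_ext_fibres u' v'
    fun Ω _ _ τ s => (hiff Ω τ s).1 (by rw [hD']; trivial))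

/-- Let a finite group G act faithfully on a connected scheme X, let p : X ⟶ Y be a quotient of X by G
with Y locally Noetherian and p finite, and suppose p is etale. Then G acts freely on the geometric
points of X (all inertia groups are trivial), and every automorphism of X over Y is the action of
exactly one element of G. -/
theorem result {X Y : Scheme.{u}} {G : Type u} [Group G] [Finite G] (ρ : G →* Aut X)
    (p : X ⟶ Y) (hp : SGA1.IsQuot ρ p) [IsLocallyNoetherian Y] [IsFinite p] [ConnectedSpace X]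
    (hfaith : Function.Injective ρ) [Etale p] :
    (∀ (K : Type u) [Field K] [IsAlgClosed K] (ξ : Spec (CommRingCat.of K) ⟶ X) (g : G), ξ ≫ (ρ g).hom = ξ → g = 1) ∧
    ∀ u : Aut X, u.hom ≫ p = p → ∃! g : G, ρ g = u := by
  refine ⟨fun K _ _ ξ g hg => hfaith ?_, fun v hv => ?_⟩
  · rw [map_one]
    exact Iso.ext (aut_ext p _ _ (hp.inv g) (Category.id_comp p) K ξ (hg.trans (Category.comp_id ξ).symm))
  · obtain ⟨x⟩ := ConnectedSpace.toNonempty (α := X)
    obtain ⟨g, hg⟩ := GrothLib.SGA1Quot21.exists_comp_eq hp (X.fromSpecResidueField x)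
      (X.fromSpecResidueField x ≫ v.hom) (by rw [Category.assoc, hv])
    have e : ρ g = v := Iso.ext (aut_ext p _ _ (hp.inv g) hv _ (X.fromSpecResidueField x) hg)
    exact ⟨g, e, fun g' e' => hfaith (e'.trans e.symm)⟩

end Groth.Agent.S2910
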