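import Groth.Statements.S2911
import Groth.Agent.Lib.SGA1Quot21.GaloisEtale
import Groth.Agent.Lib.SGA1Quot21.Descend
import Groth.Agent.Lib.LocProp.Descend
set_option backward.isDefEq.respectTransparency false

set_option autoImplicit false
open CategoryTheory CategoryTheory.Limits AlgebraicGeometry
universe u
open SGA1

namespace Groth.Agent.S2911

open AlgebraicGeometry CategoryTheory CategoryTheory.Limits in
/-- The locus where two sections of an etale separated map agree is open and closed. -/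
theorem exists_clopen_eqLocus {T X Y : Scheme.{u}} (f : X ⟶ Y) [Etale f] [IsSeparated f]
    (a b : T ⟶ X) (h : a ≫ f = b ≫ f) :
    ∃ D : Set T, IsClopen D ∧ ∀ {W : Scheme.{u}} (v : W ⟶ T),
      (Set.range v ⊆ D ↔ v ≫ a = v ≫ b) := by
  haveI : IsOpenImmersion (pullback.diagonal f) := FormallyUnramified.isOpenImmersion_diagonal f
  let L : T ⟶ pullback f f := pullback.lift a b h
  refine ⟨L ⁻¹' Set.range (pullback.diagonal f), ⟨?_, ?_⟩, fun {W} v => ⟨fun hv => ?_, fun hv => ?_⟩⟩
  · exact ((pullback.diagonal f).isClosedEmbedding.isClosed_range).preimage L.continuous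
  · exact ((pullback.diagonal f).isOpenEmbedding.isOpen_range).preimage L.continuous
  · have hr : Set.range (v ≫ L) ⊆ Set.range (pullback.diagonal f) := by
      rintro _ ⟨w, rfl⟩
      exact hv ⟨w, rfl⟩
    have e := IsOpenImmersion.lift_fac (pullback.diagonal f) (v ≫ L) hr
    have e1 := congrArg (· ≫ pullback.fst f f) e
    have e2 := congrArg (· ≫ pullback.snd f f) e
    simp only [Category.assoc, pullback.diagonal_fst, pullback.diagonal_snd, L, pullback.lift_fst,
      pullback.lift_snd, Category.comp_id] at e1 e2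
    exact e1.symm.trans e2
  · have : v ≫ L = (v ≫ a) ≫ pullback.diagonal f := by
      apply pullback.hom_ext <;> simp [L, hv]
    rintro _ ⟨w, rfl⟩
    exact ⟨(v ≫ a) w, (congrArg (fun t : W ⟶ pullback f f => t w) this).symm⟩

open AlgebraicGeometry CategoryTheory CategoryTheory.Limits GrothLib.SGA1Quot21 in
theorem exists_fixIdem {X X' Y : Scheme.{u}} {G : Type u} [Group G] (ρ : G →* Aut X)
    (f : X ⟶ Y) [Etale f] [IsSeparated f] (hρ : ∀ g : G, (ρ g).hom ≫ f = f)
    (p : X ⟶ X') (hinv : ∀ g : G, (ρ g).hom ≫ p = p) (U : X'.Opens)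
    (hU : IsAffineOpen (p ⁻¹ᵁ U)) (g : G) :
    letI := sectionsAction ρ p hinv U
    ∃ e : Γ(X, p ⁻¹ᵁ U), IsFixIdem g e := by
  letI := sectionsAction ρ p hinv U
  obtain ⟨D, hD, hDiff⟩ := exists_clopen_eqLocus f (ρ g⁻¹).hom (𝟙 X) (by rw [hρ, Category.id_comp])
  obtain ⟨e, he, heD⟩ := PrimeSpectrum.exists_idempotent_basicOpen_eq_of_isClopen
    (hD.preimage hU.fromSpec.continuous)
  have key : ∀ {R : CommRingCat.{u}} (ψ : Γ(X, p ⁻¹ᵁ U) ⟶ R),
      Set.range (Spec.map ψ ≫ hU.fromSpec) ⊆ D ↔ act ρ p hinv U g⁻¹ ≫ ψ = ψ := by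
    intro R ψ
    rw [hDiff, Category.comp_id, Category.assoc, ← SpecMap_act_fromSpec hinv hU,
      ← Spec.map_comp_assoc, cancel_mono]
    exact Spec.map_injective.eq_iff
  refine ⟨e, fun a => ?_, ?_⟩
  · let ψ : Γ(X, p ⁻¹ᵁ U) ⟶ CommRingCat.of (Localization.Away e) :=
      CommRingCat.ofHom (algebraMap Γ(X, p ⁻¹ᵁ U) (Localization.Away e))
    have hr : Set.range (Spec.map ψ ≫ hU.fromSpec) ⊆ D := by
      rintro _ ⟨z, rfl⟩
      have hz : Spec.map ψ z ∈ (PrimeSpectrum.basicOpen e : Set (PrimeSpectrum Γ(X, p ⁻¹ᵁ U))) :=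
        fun hm => z.isPrime.ne_top (Ideal.eq_top_of_isUnit_mem _ hm
          (IsLocalization.Away.algebraMap_isUnit (S := Localization.Away e) e))
      rw [← heD] at hz
      exact hz
    have h1 : algebraMap _ (Localization.Away e) (g • a) = algebraMap _ (Localization.Away e) a :=
      congrArg (fun t => (CommRingCat.Hom.hom t) a) ((key ψ).1 hr)
    obtain ⟨⟨c, n, rfl⟩, hc⟩ := (IsLocalization.eq_iff_exists (Submonoid.powers e) (Localization.Away e)).1 h1
    rcases n with _ | n
    · change e ^ 0 * (g • a) = e ^ 0 * a at hc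
      rw [pow_zero, one_mul, one_mul] at hc
      rw [hc]
    · change e ^ (n + 1) * (g • a) = e ^ (n + 1) * a at hc
      rwa [he.pow_succ_eq] at hc
  · set I := Ideal.span (Set.range fun a : Γ(X, p ⁻¹ᵁ U) => g • a - a) with hI
    have hmem : 1 - e ∈ I.radical := by
      rw [Ideal.radical_eq_sInf, Ideal.mem_sInf]
      rintro m ⟨hle, hm⟩
      haveI := hm
      let ψ : Γ(X, p ⁻¹ᵁ U) ⟶ CommRingCat.of (Γ(X, p ⁻¹ᵁ U) ⧸ m) :=
        CommRingCat.ofHom (Ideal.Quotient.mk m)
      have hψ : act ρ p hinv U g⁻¹ ≫ ψ = ψ := by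
        ext a
        exact Ideal.Quotient.eq.2 (hle (Ideal.subset_span ⟨a, rfl⟩))
      have hq := (key ψ).2 hψ ⟨(⟨⊥, Ideal.isPrime_bot⟩ : PrimeSpectrum (Γ(X, p ⁻¹ᵁ U) ⧸ m)), rfl⟩
      have hz : (⟨m, hm⟩ : PrimeSpectrum Γ(X, p ⁻¹ᵁ U)) ∈ hU.fromSpec ⁻¹' D := by
        refine Eq.subst (motive := fun t => hU.fromSpec t ∈ D) ?_ hq
        exact PrimeSpectrum.ext Ideal.mk_ker
      rw [heD] at hz
      refine (hm.mem_or_mem (show e * (1 - e) ∈ m from ?_)).resolve_left hz
      rw [he.mul_one_sub_self]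
      exact zero_mem _
    obtain ⟨n, hn⟩ := hmem
    rcases n with _ | n
    · rw [pow_zero] at hn
      rw [(Ideal.eq_top_iff_one _).2 hn]
      trivial
    · rwa [he.one_sub.pow_succ_eq] at hn

/-- With the existence of the quotient taken as a hypothesis: Let Y be locally Noetherian, f : X ⟶ Y
etale, separated and quasi-compact, G a finite group acting on X by Y-automorphisms, p : X ⟶ X' a
quotient of X by G and q : X' ⟶ Y the induced morphism. Then p and q are etale, and if f is finite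
then q is finite. -/
theorem result {X X' Y : Scheme.{u}} {G : Type u} [Group G] [Finite G] (ρ : G →* Aut X)
    [IsLocallyNoetherian Y] (f : X ⟶ Y) [Etale f] [IsSeparated f] [QuasiCompact f] (hρ : ∀ g : G, (ρ g).hom ≫ f = f)
    (p : X ⟶ X') (hp : SGA1.IsQuot ρ p) (q : X' ⟶ Y) (hq : p ≫ q = f) :
    Etale p ∧ Etale q ∧ (IsFinite f → IsFinite q) := by
  haveI := hp.affine
  haveI : LocallyOfFiniteType (p ≫ q) := by rw [hq]; infer_instance
  haveI : QuasiCompact (p ≫ q) := by rw [hq]; infer_instance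
  haveI : Surjective p := ⟨GrothLib.SGA1Quot21.surjective hp⟩
  haveI hpe : Etale p := by
    rw [HasRingHomProperty.iff_exists_appLE (P := @Etale)
      (RingHom.Etale.stableUnderComposition.stableUnderCompositionWithLocalizationAway
        (fun _ _ _ _ _ r _ => RingHom.etale_algebraMap.2 (Algebra.Etale.of_isLocalizationAway r))).1]
    intro x
    obtain ⟨_, ⟨U, hU, rfl⟩, hyU, -⟩ := X'.isBasis_affineOpens.exists_subset_of_mem_open
      (Set.mem_univ (p x)) isOpen_univ
    refine ⟨⟨U, hU⟩, ⟨p ⁻¹ᵁ U, hU.preimage p⟩, hyU, le_rfl, ?_⟩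
    rw [Scheme.Hom.appLE_eq_app]
    letI := (p.app U).hom.toAlgebra
    letI := GrothLib.SGA1Quot21.sectionsAction ρ p hp.inv U
    haveI := GrothLib.SGA1Quot21.sections_isInvariant hp U
    haveI := GrothLib.SGA1Quot21.sections_smulComm ρ p hp.inv U
    haveI := GrothLib.SGA1Quot21.sections_faithful hp U
    exact GrothLib.SGA1Quot21.etale_of_fixIdem (B := Γ(X', U))
      (exists_fixIdem ρ f hρ p hp.inv U (hU.preimage p))
  haveI : LocallyOfFiniteType q := GrothLib.SGA1Quot21.locallyOfFiniteType_of_comp_quot hp q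
  haveI : LocallyOfFinitePresentation q := inferInstance
  have hqe : Etale q := by
    have hpq : Etale (p ≫ q) := by rw [hq]; infer_instance
    have key : ∀ y : X', ∃ V : X'.Opens, y ∈ V ∧ Etale (V.ι ≫ q) := fun y => by
      obtain ⟨x, rfl⟩ := p.surjective y
      exact (GrothLib.LocProp.etale_nhd_iff q (p x)).mpr
        ⟨GrothLib.LocProp.flat_descends p q x (Flat.stalkMap p x) (Flat.stalkMap (p ≫ q) x),
          GrothLib.LocProp.formallyUnramified_descends p q x (Flat.stalkMap p x)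
            (FormallyUnramified.stalkMap (p ≫ q) x)⟩
    choose V hV hVe using key
    exact (IsZariskiLocalAtSource.iff_of_openCover (P := @Etale) (X'.openCoverOfIsOpenCover V
      (eq_top_iff.2 fun y _ => TopologicalSpace.Opens.mem_iSup.2 ⟨y, hV y⟩))).2 hVe
  refine ⟨hpe, hqe, fun hf => ?_⟩
  haveI : IsFinite (p ≫ q) := by rw [hq]; exact hf
  haveI := GrothLib.SGA1Quot21.isAffineHom_of_comp hp q
  haveI : UniversallyClosed q := UniversallyClosed.of_comp_surjective p q
  haveI : IsSeparated q := GrothLib.SGA1Quot21.isSeparated_of_comp hp q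
  haveI : QuasiCompact q := GrothLib.SGA1Quot21.quasiCompact_of_comp hp q
  haveI : IsProper q := {}
  exact IsFinite.iff_isProper_and_isAffineHom.2 ⟨inferInstance, inferInstance⟩

end Groth.Agent.S2911
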