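import Groth.Statements.S2913
import Groth.Agent.Lib.SGA1Quot21.Points

set_option autoImplicit false
open CategoryTheory CategoryTheory.Limits AlgebraicGeometry Opposite
universe u
open SGA1

namespace Groth.Agent.S2913

/-- Let g : S' ⟶ S be a surjective morphism of schemes such that for every open U of S the map O_S(U) →
O_{S'}(g⁻¹U) is injective. Then g is an epimorphism in the category of schemes. -/
theorem result {S' S : Scheme.{u}} (g : S' ⟶ S) [Surjective g]
    (hinj : ∀ U : S.Opens, Function.Injective (g.app U).hom) : Epi g := by
  exact ⟨fun a b e => GrothLib.SGA1Quot21.eq_of_surjective_of_injective g g.surjective hinj e⟩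

end Groth.Agent.S2913
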