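import Groth.Statements.S2916
import Groth.Agent.Lib.SGA1Sub21.GeomConn

set_option autoImplicit false
open CategoryTheory CategoryTheory.Limits AlgebraicGeometry Opposite
universe u
open SGA1

namespace Groth.Agent.S2916

/-- Let g : S' ⟶ S be universally submersive with geometrically connected fibres (the base change of S'
to any algebraically closed field valued point of S is connected). Then S' is connected whenever S
is, and for schemes X, Y etale over S every S'-morphism between their base changes comes from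
exactly one S-morphism X ⟶ Y. -/
theorem result {S' S : Scheme.{u}} (g : S' ⟶ S)
    (hg : SGA1.UnivSubmersive g)
    (hconn : ∀ (K : Type u) [Field K] [IsAlgClosed K] (ξ : Spec (CommRingCat.of K) ⟶ S), ConnectedSpace ↑(pullback g ξ)) :
    (ConnectedSpace S → ConnectedSpace S') ∧
    ∀ (X Y : Over S) [Etale X.hom] [Etale Y.hom], Function.Bijective ((Over.pullback g).map : (X ⟶ Y) → _) := by
  refine ⟨fun _ => GrothLib.SGA1Sub21.connectedSpace_of_conn_fibres g hg hconn, fun X Y _ _ => ?_⟩
  have key : ∀ (h : Limits.pullback X.hom g ⟶ Y.left), h ≫ Y.hom = Limits.pullback.fst X.hom g ≫ X.hom →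
      ∃! u : X.left ⟶ Y.left, u ≫ Y.hom = X.hom ∧ h = Limits.pullback.fst X.hom g ≫ u := fun h hh =>
    GrothLib.SGA1Sub21.existsUnique_descend_hom g hg X.hom Y.hom h hh
      (GrothLib.SGA1Sub21.cocycle_of_conn_fibres g hconn X.hom Y.hom h hh)
  have hmap : ∀ a : X ⟶ Y, ((Over.pullback g).map a).left ≫ Limits.pullback.fst Y.hom g =
      Limits.pullback.fst X.hom g ≫ a.left := fun a => Limits.pullback.lift_fst _ _ _
  refine ⟨fun a b hab => ?_, fun ψ => ?_⟩
  · obtain ⟨u, -, hu⟩ := key (Limits.pullback.fst X.hom g ≫ a.left) (by rw [Category.assoc, Over.w a])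
    have hb : Limits.pullback.fst X.hom g ≫ a.left = Limits.pullback.fst X.hom g ≫ b.left := by
      rw [← hmap a, ← hmap b, hab]
    exact Over.OverMorphism.ext ((hu a.left ⟨Over.w a, rfl⟩).trans (hu b.left ⟨Over.w b, hb⟩).symm)
  · have hψ : ψ.left ≫ Limits.pullback.snd Y.hom g = Limits.pullback.snd X.hom g := Over.w ψ
    obtain ⟨u, ⟨hu₁, hu₂⟩, -⟩ := key (ψ.left ≫ Limits.pullback.fst Y.hom g) (by
      exact (Category.assoc _ _ _).trans ((congrArg (ψ.left ≫ ·) Limits.pullback.condition).trans
        ((Category.assoc _ _ _).symm.trans ((congrArg (· ≫ g) hψ).trans Limits.pullback.condition.symm))))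
    refine ⟨Over.homMk u hu₁, Over.OverMorphism.ext (Limits.pullback.hom_ext ?_ ?_)⟩
    · exact (hmap _).trans hu₂.symm
    · exact (Limits.pullback.lift_snd _ _ _).trans hψ.symm

end Groth.Agent.S2916
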