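import Groth.Statements.S2917
import Groth.Agent.Lib.SGA1Sub21.Topology

set_option autoImplicit false
open CategoryTheory CategoryTheory.Limits AlgebraicGeometry Opposite
universe u
open SGA1

namespace Groth.Agent.S2917

/-- Let g : S' ⟶ S be universally submersive, f : X ⟶ Y a morphism of S-schemes (Y ⟶ S the structure
map) and f' its base change along S' ⟶ S, realised as X ×_S S' ⟶ Y ×_S S'. If f' is open (resp.
closed) then so is f; if f' is universally open (resp. universally closed, resp. separated) then so
is f; and if moreover g is quasi-compact and f locally of finite type, then f is proper as soon as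
f' is. -/
theorem result {S' S X Y : Scheme.{u}} (g : S' ⟶ S) (hg : SGA1.UnivSubmersive g)
    (f : X ⟶ Y) (q : Y ⟶ S) :
    (IsOpenMap (pullback.map (f ≫ q) g q g f (𝟙 S') (𝟙 S) (Category.comp_id _) ((Category.comp_id _).trans (Category.id_comp _).symm)).base → IsOpenMap f.base) ∧
    (IsClosedMap (pullback.map (f ≫ q) g q g f (𝟙 S') (𝟙 S) (Category.comp_id _) ((Category.comp_id _).trans (Category.id_comp _).symm)).base → IsClosedMap f.base) ∧
    (UniversallyOpen (pullback.map (f ≫ q) g q g f (𝟙 S') (𝟙 S) (Category.comp_id _) ((Category.comp_id _).trans (Category.id_comp _).symm)) → UniversallyOpen f) ∧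
    (UniversallyClosed (pullback.map (f ≫ q) g q g f (𝟙 S') (𝟙 S) (Category.comp_id _) ((Category.comp_id _).trans (Category.id_comp _).symm)) → UniversallyClosed f) ∧
    (IsSeparated (pullback.map (f ≫ q) g q g f (𝟙 S') (𝟙 S) (Category.comp_id _) ((Category.comp_id _).trans (Category.id_comp _).symm)) → IsSeparated f) ∧
    (QuasiCompact g → LocallyOfFiniteType f →
      IsProper (pullback.map (f ≫ q) g q g f (𝟙 S') (𝟙 S) (Category.comp_id _) ((Category.comp_id _).trans (Category.id_comp _).symm)) → IsProper f) := by
  open GrothLib.SGA1Sub21 MorphismProperty in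
  have hπ : SGA1.UnivSubmersive (Limits.pullback.fst q g) := MorphismProperty.pullback_fst q g hg
  have hsq : IsPullback (Limits.pullback.map (f ≫ q) g q g f (𝟙 S') (𝟙 S) (Category.comp_id _)
      ((Category.comp_id _).trans (Category.id_comp _).symm))
      (Limits.pullback.fst (f ≫ q) g) (Limits.pullback.fst q g) f := by
    refine IsPullback.of_right (h₁₂ := Limits.pullback.snd q g) (h₂₂ := q) (v₁₃ := g) ?_ (Limits.pullback.lift_fst _ _ _)
      (IsPullback.of_hasPullback q g).flip
    rw [show Limits.pullback.map (f ≫ q) g q g f (𝟙 S') (𝟙 S) (Category.comp_id _)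
      ((Category.comp_id _).trans (Category.id_comp _).symm) ≫ Limits.pullback.snd q g =
        Limits.pullback.snd (f ≫ q) g from (Limits.pullback.lift_snd _ _ _).trans (Category.comp_id _)]
    exact (IsPullback.of_hasPullback (f ≫ q) g).flip
  refine ⟨fun h => MorphismProperty.of_isPullback_of_descendsAlong (P := topologically @IsOpenMap) hsq hπ h,
    fun h => MorphismProperty.of_isPullback_of_descendsAlong (P := topologically @IsClosedMap) hsq hπ h,
    fun h => ⟨GrothLib.SGA1Sub21.of_isPullback_universally (P := topologically @IsOpenMap) hsq hπ h.1⟩,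
    fun h => ⟨GrothLib.SGA1Sub21.of_isPullback_universally (P := topologically @IsClosedMap) hsq hπ h.1⟩,
    fun h => GrothLib.SGA1Sub21.isSeparated_of_isPullback hsq hπ, fun hqc hlft h => ?_⟩
  haveI := hqc
  haveI := hlft
  haveI := GrothLib.SGA1Sub21.surjective hπ
  haveI : IsSeparated f := GrothLib.SGA1Sub21.isSeparated_of_isPullback hsq hπ
  haveI : UniversallyClosed f :=
    ⟨GrothLib.SGA1Sub21.of_isPullback_universally (P := topologically @IsClosedMap) hsq hπ h.toUniversallyClosed.1⟩
  exact {}

end Groth.Agent.S2917
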