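import Groth.Statements.S2919
import Groth.Agent.Lib.SGA1Quot21.Free

set_option autoImplicit false
open CategoryTheory CategoryTheory.Limits AlgebraicGeometry
universe u
open SGA1

namespace Groth.Agent.S2919

/-- Let a finite group G act on X, p : X ⟶ Y a quotient with Y locally Noetherian and p finite, G acting
freely on geometric points, and suppose p has a section. Then the morphism from the disjoint union
of copies of Y indexed by G to X which is s followed by the action of g on the g-th copy is an
isomorphism. -/
theorem result {X Y : Scheme.{u}} {G : Type u} [Group G] [Finite G] (ρ : G →* Aut X)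
    (p : X ⟶ Y) (hp : SGA1.IsQuot ρ p) [IsLocallyNoetherian Y] [IsFinite p]
    (hfree : (∀ (K : Type u) [Field K] [IsAlgClosed K] (ξ : Spec (CommRingCat.of K) ⟶ X) (g : G), ξ ≫ (ρ g).hom = ξ → g = 1)) (s : Y ⟶ X) (hs : s ≫ p = 𝟙 Y) :
    IsIso (Sigma.desc (fun g : G => s ≫ (ρ g).hom) : (∐ fun _ : G => Y) ⟶ X) := by
  exact GrothLib.SGA1Quot21.isIso_of_section hp hfree s hs

end Groth.Agent.S2919
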