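import Groth.Statements.S2922
import Groth.Agent.Lib.TameAbh21.Absolute
import Groth.Agent.Lib.TameAbh21.Geom

set_option autoImplicit false
universe u
open IsLocalRing
open SGA1

namespace Groth.Agent.S2922

open AlgebraicGeometry CategoryTheory CategoryTheory.Limits in
/-- Absolute Abhyankar lemma, in the form that suitable exponents exist. Let A be a regular local ring,
f_1, …, f_r elements of the maximal ideal that are part of a regular system of parameters (each
generating a prime ideal), X = Spec A, U the open subset where f_1 ⋯ f_r is invertible, and V a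
finite étale cover of U which is tamely ramified along each f_i (at every point of its generic
fibre, with respect to the discrete valuation rings A_{(f_i)}). Then there are exponents n_i ≥ 1,
invertible in the residue field of A, such that the pullback of V to the Kummer covering X' = Spec
A[T_1, …, T_r]/(T_i^{n_i} − f_i) extends to a finite étale cover of X'. The published statement
takes n_i to be the least common multiple of the inertia orders along f_i = 0; here only the
existence of suitable exponents is asserted. -/
theorem result (A : Type u) [CommRing A] [IsRegularLocalRing A] [IsDomain A] (r : ℕ) (f : Fin r → A)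
    (hm : ∀ i, f i ∈ maximalIdeal A)
    (hf : LinearIndependent (ResidueField A) (fun i => (maximalIdeal A).toCotangent ⟨f i, hm i⟩))
    [∀ i, (Ideal.span {f i}).IsPrime]
    (V : FEt.Cat ((SGA1.specBasicOpen A (∏ i, f i)) : Scheme.{u})) (htame : SGA1.IsTameAlong f (((V.hom ≫ ((SGA1.specBasicOpen A (∏ i, f i))).ι).appTop).hom.comp (Scheme.ΓSpecIso (CommRingCat.of A)).inv.hom)) :
    ∃ n : Fin r → ℕ, (∀ i, 1 ≤ n i) ∧ (∀ i, IsUnit ((n i : ℕ) : ResidueField A)) ∧
      ∃ W : FEt.Cat (Spec (CommRingCat.of (SGA1.kummerAlg A f n))),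
        Nonempty ((FEt.restrict ((Spec.map (CommRingCat.ofHom (algebraMap A (SGA1.kummerAlg A f n)))) ⁻¹ᵁ (SGA1.specBasicOpen A (∏ i, f i))).ι).obj W ≅ (FEt.restrict ((Spec.map (CommRingCat.ofHom (algebraMap A (SGA1.kummerAlg A f n)))) ∣_ (SGA1.specBasicOpen A (∏ i, f i)))).obj V) := by
  letI := (GrothLib.TameAbh21.coverMap (∏ i, f i) V).toAlgebra
  haveI : Algebra.Etale A Γ(V.left, ⊤) := GrothLib.TameAbh21.cover_etale (∏ i, f i) V
  obtain ⟨n, hn, hnu, E, _, _, hEf, hEe, hρ⟩ := GrothLib.TameAbh21.absolute hm hf Γ(V.left, ⊤)
    (GrothLib.TameAbh21.isUnit_coverMap _ V) (fun c => by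
      obtain ⟨k, hk⟩ := GrothLib.TameAbh21.cover_integral (∏ i, f i) V c
      refine ⟨k, ?_⟩
      rw [Algebra.smul_def, map_pow]
      exact hk) htame
  haveI := hEf
  haveI := hEe
  exact ⟨n, hn, hnu, GrothLib.TameAbh21.exists_restrict_iso E hρ⟩

end Groth.Agent.S2922
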