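import Groth.Statements.S2923
import Groth.Agent.Lib.TameAbh21.Strict

set_option autoImplicit false
universe u
open IsLocalRing
open SGA1

namespace Groth.Agent.S2923

open AlgebraicGeometry CategoryTheory CategoryTheory.Limits in
/-- The Kummer coverings are cofinal among tame covers: let A be a strictly henselian regular local ring
(henselian with separably closed residue field), f_1, …, f_r part of a regular system of parameters
with each (f_i) a prime ideal, U ⊆ X = Spec A the open where f_1 ⋯ f_r is invertible, and V a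
connected finite etale cover of U tamely ramified along each f_i. Then for some exponents n_i ≥ 1
invertible in the residue field there is a surjective U-morphism from the restriction to U of the
Kummer covering Spec A[T_1, …, T_r]/(T_i^{n_i} − f_i) onto V. -/
theorem result (A : Type u) [CommRing A] [IsRegularLocalRing A] [IsDomain A] (r : ℕ) (f : Fin r → A)
    (hm : ∀ i, f i ∈ maximalIdeal A)
    (hf : LinearIndependent (ResidueField A) (fun i => (maximalIdeal A).toCotangent ⟨f i, hm i⟩))
    [∀ i, (Ideal.span {f i}).IsPrime]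
    [HenselianLocalRing A] [IsSepClosed (ResidueField A)]
    (V : FEt.Cat ((SGA1.specBasicOpen A (∏ i, f i)) : Scheme.{u})) [ConnectedSpace V.left] (htame : SGA1.IsTameAlong f (((V.hom ≫ ((SGA1.specBasicOpen A (∏ i, f i))).ι).appTop).hom.comp (Scheme.ΓSpecIso (CommRingCat.of A)).inv.hom)) :
    ∃ n : Fin r → ℕ, (∀ i, 1 ≤ n i) ∧ (∀ i, IsUnit ((n i : ℕ) : ResidueField A)) ∧
      ∃ φ : (↑((Spec.map (CommRingCat.ofHom (algebraMap A (SGA1.kummerAlg A f n)))) ⁻¹ᵁ (SGA1.specBasicOpen A (∏ i, f i))) : Scheme.{u}) ⟶ V.left, φ ≫ V.hom = (Spec.map (CommRingCat.ofHom (algebraMap A (SGA1.kummerAlg A f n)))) ∣_ (SGA1.specBasicOpen A (∏ i, f i)) ∧ Surjective φ := by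
  letI := (GrothLib.TameAbh21.coverMap (∏ i, f i) V).toAlgebra
  haveI := GrothLib.TameAbh21.isAffine_cover (∏ i, f i) V
  haveI : Algebra.Etale A Γ(V.left, ⊤) := GrothLib.TameAbh21.cover_etale (∏ i, f i) V
  haveI : Nontrivial Γ(V.left, ⊤) := by
    obtain ⟨x⟩ := (inferInstance : Nonempty V.left)
    exact PrimeSpectrum.nonempty_iff_nontrivial.mp ⟨V.left.isoSpec.hom x⟩
  obtain ⟨n, hn, hnu, E, _, _, hEf, hEe, ρ, hρ⟩ := GrothLib.TameAbh21.absolute hm hf Γ(V.left, ⊤)
    (GrothLib.TameAbh21.isUnit_coverMap _ V) (fun c => by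
      obtain ⟨k, hk⟩ := GrothLib.TameAbh21.cover_integral (∏ i, f i) V c
      refine ⟨k, ?_⟩
      rw [Algebra.smul_def, map_pow]
      exact hk) htame
  haveI := hEf
  haveI := hEe
  haveI := GrothLib.Kummer21.isRegularLocalRing_alg hm hf hn
  haveI := GrothLib.CMFree.isDomain_of_isRegularLocalRing (SGA1.kummerAlg A f n)
  haveI := GrothLib.Kummer21.finite_alg (f := f) hn
  have hinj := GrothLib.Kummer21.injective_algebraMap (f := f) hn
  have hnA : ∀ i, IsUnit ((n i : ℕ) : A) := fun i =>
    IsLocalRing.notMem_maximalIdeal.mp fun h => (hnu i).ne_zero (by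
      rw [← map_natCast (IsLocalRing.residue A)]
      exact Ideal.Quotient.eq_zero_iff_mem.mpr h)
  haveI : Nontrivial (Localization.Away (algebraMap A (SGA1.kummerAlg A f n) (∏ i, f i))) :=
    GrothLib.TameAbh21.nontrivial_away (SGA1.kummerAlg A f n) (∏ i, f i) ((map_ne_zero_iff _ hinj).mpr
      (Finset.prod_ne_zero_iff.mpr fun j _ => GrothLib.TameAbh21.f_ne_zero hm hf j))
  exact ⟨n, hn, hnu, GrothLib.TameAbh21.exists_surjective (SGA1.kummerAlg A f n) (∏ i, f i) V
    (GrothLib.Kummer21.etale_away hnA)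
    (GrothLib.TameAbh21.exists_point_strict hinj Γ(V.left, ⊤) E ρ hρ)⟩

end Groth.Agent.S2923
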