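import Groth.Statements.S2924
import Groth.Agent.Lib.TameKum21.Basic
-- import your own Groth.Agent.* helpers here

set_option autoImplicit false
universe u
open IsLocalRing
open SGA1

namespace Groth.Agent.S2924

/-- Let A be a regular local ring, f_1, …, f_r part of a regular system of parameters and n_i ≥ 1
invertible in the residue field. Then the Kummer algebra A[T_1, …, T_r]/(T_i^{n_i} − f_i) is tamely
ramified along each f_i (at every point of its generic fibre, with respect to the discrete valuation
rings A_{(f_i)}). -/
theorem result (A : Type u) [CommRing A] [IsRegularLocalRing A] [IsDomain A] (r : ℕ) (f : Fin r → A)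
    (hm : ∀ i, f i ∈ maximalIdeal A)
    (hf : LinearIndependent (ResidueField A) (fun i => (maximalIdeal A).toCotangent ⟨f i, hm i⟩))
    [∀ i, (Ideal.span {f i}).IsPrime] (n : Fin r → ℕ) (hn : ∀ i, 1 ≤ n i) (hu : ∀ i, IsUnit ((n i : ℕ) : ResidueField A)) :
    SGA1.IsTameAlong f (algebraMap A (SGA1.kummerAlg A f n)) := by
  classical
  intro i q _ hq
  set P : Ideal A := Ideal.span {f i} with hP
  let R := Localization.AtPrime P
  let B := SGA1.kummerAlg A f n
  have hfi : f i ≠ 0 := by
    intro h
    apply hf.ne_zero i
    show (maximalIdeal A).toCotangent ⟨f i, hm i⟩ = 0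
    rw [show (⟨f i, hm i⟩ : maximalIdeal A) = 0 from Subtype.ext h, map_zero]
  have hnot : ∀ j, j ≠ i → f j ∉ P := by
    intro j hj hmem
    obtain ⟨c, hc⟩ := Ideal.mem_span_singleton'.mp hmem
    have e : (maximalIdeal A).toCotangent ⟨f j, hm j⟩ =
        residue A c • (maximalIdeal A).toCotangent ⟨f i, hm i⟩ := by
      rw [show (⟨f j, hm j⟩ : maximalIdeal A) = c • ⟨f i, hm i⟩ from Subtype.ext hc.symm, map_smul]
      rfl
    have h2 := linearIndependent_iff'.mp hf {i, j}
      (fun k => if k = j then (1 : ResidueField A) else -residue A c) ?_ j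
      (Finset.mem_insert_of_mem (Finset.mem_singleton_self j))
    · simp at h2
    · rw [Finset.sum_pair hj.symm]
      simp [Ne.symm hj, e]
  let π : R := algebraMap A R (f i)
  have hπmax : maximalIdeal R = Ideal.span {π} := by
    rw [← IsLocalization.AtPrime.map_eq_maximalIdeal P]
    show Ideal.map (algebraMap A R) (Ideal.span {f i}) = _
    rw [Ideal.map_span, Set.image_singleton]
  haveI : IsNoetherianRing R := IsLocalization.isNoetherianRing P.primeCompl R inferInstance
  haveI : IsDomain R := IsLocalization.isDomain_of_le_nonZeroDivisors _ P.primeCompl_le_nonZeroDivisors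
  have hπ0 : π ≠ 0 := fun h => hfi (IsLocalization.injective R P.primeCompl_le_nonZeroDivisors
    (h.trans (map_zero (algebraMap A R)).symm))
  haveI : IsDiscreteValuationRing R := by
    have hnf : ¬ IsField R := by
      rw [IsLocalRing.isField_iff_maximalIdeal_eq, hπmax, Ideal.span_singleton_eq_bot]
      exact hπ0
    refine ((IsDiscreteValuationRing.TFAE R hnf).out 0 4).mpr ?_
    exact ⟨⟨π, hπmax⟩⟩
  have hπ : Irreducible π := (IsDiscreteValuationRing.irreducible_iff_uniformizer π).mpr hπmax
  let g := SGA1.genericResidueMap (algebraMap A B) P q hq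
  have hgA : ∀ a : A, g (algebraMap A R a) = algebraMap B q.ResidueField (algebraMap A B a) :=
    fun a => IsLocalization.lift_eq _ a
  have hinj : Function.Injective g := by
    rw [injective_iff_map_eq_zero]
    intro z hz
    obtain ⟨a, s, rfl⟩ := IsLocalization.exists_mk'_eq P.primeCompl z
    have h1 : g (algebraMap A R a) = 0 := by
      rw [← IsLocalization.mk'_spec R a s, map_mul, hz, zero_mul]
    rw [hgA, Ideal.algebraMap_residueField_eq_zero, ← Ideal.mem_comap, hq, Ideal.mem_bot] at h1
    rw [h1, IsLocalization.mk'_zero]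
  let t : Fin r → q.ResidueField := fun j => algebraMap B q.ResidueField (GrothLib.Kummer21.root f n j)
  have ht : ∀ j, t j ^ n j = g (algebraMap A R (f j)) := fun j => by
    rw [hgA, ← map_pow, GrothLib.Kummer21.root_pow]
  refine GrothLib.TameKum21.isTamelyRamified g hinj π hπ t n i hn (fun j => ?_) (ht i) (fun j hj => ?_) ?_
  · have : IsUnit ((n j : ℕ) : A) := by
      by_contra h
      refine (hu j).ne_zero ?_
      rw [← map_natCast (residue A)]
      exact (residue_eq_zero_iff _).mpr h
    simpa using this.map (algebraMap A R)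
  · exact ⟨algebraMap A R (f j), IsLocalization.map_units R (⟨f j, hnot j hj⟩ : P.primeCompl), ht j⟩
  · letI := g.toAlgebra
    intro x
    let D := Algebra.adjoin R (Set.range t)
    have hmem : ∀ b : B, algebraMap B q.ResidueField b ∈ D := by
      intro b
      have hb : b ∈ Algebra.adjoin A (Set.range (GrothLib.Kummer21.root f n)) := by
        rw [GrothLib.Kummer21.adjoin_root]; exact Algebra.mem_top
      induction hb using Algebra.adjoin_induction with
      | mem y hy => obtain ⟨j, rfl⟩ := hy; exact Algebra.subset_adjoin ⟨j, rfl⟩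
      | algebraMap a => rw [← hgA]; exact D.algebraMap_mem _
      | add y z _ _ hy hz => rw [map_add]; exact add_mem hy hz
      | mul y z _ _ hy hz => rw [map_mul]; exact mul_mem hy hz
    obtain ⟨a, b, hb, rfl⟩ := IsFractionRing.div_surjective (B ⧸ q) x
    obtain ⟨a, rfl⟩ := Ideal.Quotient.mk_surjective a
    obtain ⟨b, rfl⟩ := Ideal.Quotient.mk_surjective b
    refine ⟨⟨algebraMap B q.ResidueField a, hmem a⟩, ⟨algebraMap B q.ResidueField b, hmem b⟩, ?_, ?_⟩
    · show algebraMap B q.ResidueField b ≠ 0
      rw [IsScalarTower.algebraMap_apply B (B ⧸ q) q.ResidueField, Ideal.Quotient.algebraMap_eq]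
      exact IsFractionRing.to_map_ne_zero_of_mem_nonZeroDivisors hb
    · show _ = algebraMap B q.ResidueField a / algebraMap B q.ResidueField b
      rw [IsScalarTower.algebraMap_apply B (B ⧸ q) q.ResidueField a,
        IsScalarTower.algebraMap_apply B (B ⧸ q) q.ResidueField b, Ideal.Quotient.algebraMap_eq]

end Groth.Agent.S2924
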