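import Groth.Statements.S2927
import Groth.Agent.Lib.SerrePn27.DepthExt
import Groth.Agent.Lib.SGA2Fin.Stalk
-- import your own Groth.Agent.* helpers here

set_option autoImplicit false
universe u
open CategoryTheory AlgebraicGeometry
open ProjDual

namespace Groth.Agent.S2927

/-- (i)⇔(iii): Let k be a field, X = P^r_k, F a coherent O_X-module and i ≥ 0. Then H^i(X, F(−m))
vanishes for all sufficiently large m if and only if for every closed point x of X the local
cohomology H^i of the stalk F_x, with support in the maximal ideal of O_{X,x}, vanishes. -/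
theorem result (k : Type u) [Field k] (r : ℕ) (F : (CohB1.ProjSpace r k).Modules) (hF : Coh.IsCoh F) (i : ℕ) : (∃ m₀ : ℤ, ∀ m : ℤ, m₀ ≤ m → Subsingleton (Coh.HH (CohB1.ProjSpace r k) (Twist.twistBy _ F (-m)) i)) ↔ ∀ x : (CohB1.ProjSpace r k), IsClosed ({x} : Set (CohB1.ProjSpace r k)) → Subsingleton (LocCoh.H (IsLocalRing.maximalIdeal ((CohB1.ProjSpace r k).presheaf.stalk x)) i (F.presheaf.stalk x)) := by
  haveI : HasInjectiveResolutions (ModSite.Mod (CohB1.ProjSpace r k).sheaf) :=
    GrothLib.ExtTilde20.hasInjectiveResolutions_mod _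
  haveI : ModSite.HasSheafHom (O := (CohB1.ProjSpace r k).sheaf) F := GrothLib.SheafCoh.hasSheafHom _ F
  have key : ∀ (x : CohB1.ProjSpace r k), IsClosed ({x} : Set (CohB1.ProjSpace r k)) →
      (Subsingleton (LocCoh.H (IsLocalRing.maximalIdeal ((CohB1.ProjSpace r k).presheaf.stalk x)) i (F.presheaf.stalk x)) ↔
        ∀ s, i + s = r → Subsingleton (CategoryTheory.Abelian.Ext
          (ModuleCat.of ((CohB1.ProjSpace r k).presheaf.stalk x) (F.presheaf.stalk x))
          (ModuleCat.of ((CohB1.ProjSpace r k).presheaf.stalk x) ((CohB1.ProjSpace r k).presheaf.stalk x)) s)) := fun x hx => by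
    haveI := GrothLib.DualTF27.isRegular_projSpace k r x
    haveI := GrothLib.QuasiFlat.finite_stalk F hF x
    haveI : Module.Finite ((CohB1.ProjSpace r k).presheaf.stalk x)
        (ModuleCat.of ((CohB1.ProjSpace r k).presheaf.stalk x) (F.presheaf.stalk x)) :=
      inferInstanceAs (Module.Finite _ (F.presheaf.stalk x))
    exact (GrothLib.SGA2Fin.locDuality _ (GrothLib.SerrePn27.dim_stalk_closedPoint x hx)
      (ModuleCat.of ((CohB1.ProjSpace r k).presheaf.stalk x) (F.presheaf.stalk x))).1 i
  rcases Nat.lt_or_ge r i with hi | hi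
  · refine iff_of_true ⟨0, fun m _ => ?_⟩ fun x hx => (key x hx).2 fun s hs => absurd hs (by omega)
    haveI := (GrothLib.CMReg.isCoh_Ft hF (-m)).1
    exact GrothLib.CMReg.subsingleton_HH_of_lt (GrothLib.CMReg.Ft F (-m)) hi
  · refine ((GrothLib.SerrePn27.vanish_iff_isZero_extSh hF (i := i) (j := r - i) (by omega)).trans
      (GrothLib.SerrePn27.isZero_extSh_omega_iff hF (r - i))).trans ?_
    refine forall₂_congr fun x hx => (Iff.trans ?_ (key x hx).symm)
    exact ⟨fun h s hs => by rwa [show s = r - i by omega], fun h => h _ (by omega)⟩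

end Groth.Agent.S2927
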