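import Groth.Statements.S2929
import Groth.Agent.Lib.SGA2Fin.FiniteH
import Groth.Agent.Lib.LC.BaseChange

set_option autoImplicit false
universe u
open LocCoh

namespace Groth.Agent.S2929

/-- Let A be a Noetherian ring which is a quotient of a regular ring, I an ideal, M a finite A-module
and i ≥ 0. For a prime p write c(p) for the codimension of V(p) ∩ V(I) in V(p). Suppose that for
every prime p not containing I with c(p) finite, the local cohomology H^{i−c(p)} of M_p with support
in the maximal ideal of A_p vanishes (no condition when c(p) > i). Then the local cohomology module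
H^i_I(M) is a finite A-module. -/
theorem result (R : Type u) [CommRing R] [IsRegularRing R] (A : Type u) [CommRing A] [IsNoetherianRing A] (π : R →+* A) (hπ : Function.Surjective π) (I : Ideal A) (M : Type u) [AddCommGroup M] [Module A M] [Module.Finite A M] (i : ℕ) (h : ∀ p : PrimeSpectrum A, ¬ I ≤ p.asIdeal → ∀ (c j : ℕ), SGA2.relCodim I p = c → j + c = i → Subsingleton (LocCoh.H (IsLocalRing.maximalIdeal (Localization.AtPrime p.asIdeal)) j (LocalizedModule p.asIdeal.primeCompl M))) : Module.Finite A (LocCoh.H I i M) := by
    let _ : Algebra R A := π.toAlgebra
    let _ : Module R M := Module.compHom M π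
    have : IsScalarTower R A M := IsScalarTower.of_algebraMap_smul fun _ _ => rfl
    have : Module.Finite R A := Module.Finite.of_surjective (Algebra.linearMap R A) hπ
    have : Module.Finite R M := Module.Finite.trans A M
    have h' := GrothLib.SGA2Fin.codimOneVanish_restrictScalars (R := R) hπ I M i
      (fun p hp hc j hj => h p hp 1 j (by exact_mod_cast hc) hj)
    obtain ⟨t, ht⟩ := GrothLib.SGA2Fin.finite_localCohomology_of_codimOneVanish
      (I.comap (algebraMap R A)) M i h'
    suffices hmain : Module.Finite A (LocCoh.H ((I.comap (algebraMap R A)).map (algebraMap R A)) i M) by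
      have e : (I.comap (algebraMap R A)).map (algebraMap R A) = I := Ideal.map_comap_of_surjective _ hπ I
      rwa [e] at hmain
    obtain ⟨φ, hφ⟩ := GrothLib.LC.exists_H_addEquiv_restrictScalars (R' := A) (I.comap (algebraMap R A)) i M
    classical
    refine ⟨⟨t.image φ.symm, ?_⟩⟩
    rw [eq_top_iff]
    intro x _
    have key : ∀ y ∈ Submodule.span R (t : Set (LocCoh.H (I.comap (algebraMap R A)) i M)),
        φ.symm y ∈ Submodule.span A ((t.image φ.symm : Finset _) : Set _) := by
      intro y hy
      induction hy using Submodule.span_induction with
      | mem z hz => exact Submodule.subset_span (Finset.mem_image_of_mem _ hz)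
      | zero => rw [map_zero]; exact Submodule.zero_mem _
      | add a b _ _ ha hb => rw [map_add]; exact Submodule.add_mem _ ha hb
      | smul r z _ hz =>
        have e : φ.symm (r • z) = algebraMap R A r • φ.symm z := by
          apply φ.injective
          rw [hφ, φ.apply_symm_apply, φ.apply_symm_apply]
        rw [e]
        exact Submodule.smul_mem _ _ hz
    rw [← φ.symm_apply_apply x]
    exact key _ (ht ▸ Submodule.mem_top)

end Groth.Agent.S2929
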