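import Groth.Statements.S2931
import Groth.Agent.Lib.SGA2Fin.DepthCrit
import Groth.Agent.S11650

set_option autoImplicit false
universe u
open LocCoh

namespace Groth.Agent.S2931

/-- Affine form (coherence of R^p i_*(F) for p < n being finiteness of H^i_I for i ≤ n). Let A be a
Noetherian ring which is a quotient of a regular ring, I an ideal and M a finite A-module such that
M_p is zero or Cohen–Macaulay for every prime p not containing I. Then H^i_I(M) is a finite A-module
for every i ≤ n if and only if for every prime p not containing I which is minimal in the support of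
M, the codimension of V(p) ∩ V(I) in V(p) is greater than n. -/
theorem result (R : Type u) [CommRing R] [IsRegularRing R] (A : Type u) [CommRing A] [IsNoetherianRing A] (π : R →+* A) (hπ : Function.Surjective π) (I : Ideal A) (M : Type u) [AddCommGroup M] [Module A M] [Module.Finite A M] (hCM : ∀ p : PrimeSpectrum A, ¬ I ≤ p.asIdeal → Subsingleton (LocalizedModule p.asIdeal.primeCompl M) ∨ LocCoh.IsCohenMacaulayModule (Localization.AtPrime p.asIdeal) (LocalizedModule p.asIdeal.primeCompl M)) (n : ℕ) : (∀ i : ℕ, i ≤ n → Module.Finite A (LocCoh.H I i M)) ↔ ∀ p : PrimeSpectrum A, ¬ I ≤ p.asIdeal → p.asIdeal ∈ (Module.annihilator A M).minimalPrimes → (n : ℕ∞) < SGA2.relCodim I p := by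
    let _ : Algebra R A := π.toAlgebra
    constructor
    · intro h p hp hmin
      by_contra hc
      rw [not_lt] at hc
      obtain ⟨c, hc'⟩ := ENat.ne_top_iff_exists.1 (ne_top_of_le_ne_top (ENat.natCast_ne_top n) hc)
      rcases c with _ | c
      · obtain ⟨q, hpq, hIq, hh⟩ := GrothLib.SGA2Fin.exists_relCodim_eq I p hc'.symm
        refine hp ?_
        rw [GrothLib.Faltings.eq_of_relHeight_eq_zero (p := p.asIdeal) (q := q.asIdeal) hpq (by simpa using hh)]
        exact hIq
      obtain ⟨t, q, hpt, hIt, hIq, htq, hh⟩ := GrothLib.SGA2Fin.exists_covBy_of_relCodim_eq_succ hc'.symm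
      have h1 := GrothLib.SGA2Fin.le_depth_of_finite h hIt hIq htq
      have h2 := Groth.Agent.S11650.result A M p.asIdeal t.asIdeal hpt
      rw [GrothLib.Faltings.depth_eq_zero_of_mem_associatedPrimes
        (Module.associatedPrimes.minimalPrimes_annihilator_subset_associatedPrimes A M hmin), zero_add] at h2
      change _ ≤ GrothLib.Faltings.relHeight p.asIdeal t.asIdeal at h2
      rw [hh] at h2
      rw [← hc'] at hc
      have h3 := h1.trans h2
      rw [Nat.cast_le] at h3 hc
      omega
    · intro h
      refine GrothLib.SGA2Fin.finite_of_le_depth (R := R) hπ fun p q hp hq hpq => ?_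
      rcases hCM p hp with h0 | hcm
      · rw [GrothLib.Depth.depth_eq_top_of_subsingleton]
        exact le_top
      rcases subsingleton_or_nontrivial (LocalizedModule p.asIdeal.primeCompl M) with h0 | h0
      · rw [GrothLib.Depth.depth_eq_top_of_subsingleton]
        exact le_top
      obtain ⟨p₀, hmin, hle⟩ := Ideal.exists_minimalPrimes_le
        (Module.annihilator_le_of_mem_support (p := p) (M := M) (Module.mem_support_iff.2 h0))
      let P₀ : PrimeSpectrum A := ⟨p₀, hmin.1.1⟩
      exact ENat.lt_add_one_iff' (ENat.natCast_ne_top n) |>.1 ((h P₀ (fun hI => hp (hI.trans hle)) hmin).trans_le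
        (GrothLib.SGA2Fin.relCodim_le_depth_add_one (R := R) hπ (p₀ := P₀) hle hq hpq hmin hcm))

end Groth.Agent.S2931
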