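import Groth.Statements.S2932
import Groth.Agent.Lib.SGA2Para.UFD


set_option autoImplicit false
universe u
open ParaF

namespace Groth.Agent.S2932

/-- Let A be a Noetherian local ring which is a complete intersection (a quotient of a regular local
ring by a regular sequence) and which is factorial in codimension ≤ 3: for every prime p with dim
A_p ≤ 3 the local ring A_p is a factorial domain. Then A is a factorial domain. -/
theorem result (A : Type u) [CommRing A] [IsLocalRing A] [IsNoetherianRing A] (hA : SGA2.IsAbsCompleteIntersection A) (h : ∀ p : PrimeSpectrum A, ringKrullDim (Localization.AtPrime p.asIdeal) ≤ 3 → IsDomain (Localization.AtPrime p.asIdeal) ∧ UniqueFactorizationMonoid (Localization.AtPrime p.asIdeal)) : IsDomain A ∧ UniqueFactorizationMonoid A := by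
  obtain ⟨B, _, _, rs, hm, hreg, ⟨e⟩⟩ := hA
  obtain ⟨d, hd⟩ : ∃ d : ℕ, ringKrullDim A ≤ (d : WithBot ℕ∞) := by
    haveI : FiniteRingKrullDim A := inferInstance
    exact ⟨(ringKrullDim A).unbotD 0 |>.toNat, by
      obtain ⟨a, ha⟩ := WithBot.ne_bot_iff_exists.1 (ringKrullDim_ne_bot (R := A))
      have htop : a ≠ ⊤ := fun h => (ringKrullDim_lt_top (R := A)).ne (by rw [← ha, h]; rfl)
      rw [← ha, WithBot.unbotD_coe]
      exact WithBot.coe_le_coe.2 (ENat.natCast_toNat htop).ge⟩
  refine GrothLib.SGA2Para.ufd_of_ci_aux (d + 1) B rs hm hreg.toIsWeaklyRegular A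
    (e.symm.toRingHom.comp (Ideal.Quotient.mk _)) (e.symm.surjective.comp Ideal.Quotient.mk_surjective) ?_
    (lt_of_le_of_lt hd (by exact_mod_cast Nat.lt_succ_self d)) h
  rw [RingHom.ker_comp_of_injective _ e.symm.injective, Ideal.mk_ker]

end Groth.Agent.S2932
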