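import Groth.Statements.S2934
import Groth.Agent.Lib.SGA2Fin.FiniteLength

set_option autoImplicit false
universe u
open LocCoh

namespace Groth.Agent.S2934

/-- Let A be a Noetherian local ring which is a quotient of a regular local ring, m its maximal ideal, M
a finite A-module and i ≥ 0. Then H^i_m(M) is an A-module of finite length if and only if for every
prime p ≠ m, writing e = dim A/p, the local cohomology H^{i−e} of M_p with support in the maximal
ideal of A_p vanishes (no condition when e > i). -/
theorem result (R : Type u) [CommRing R] [IsRegularLocalRing R] (A : Type u) [CommRing A] [IsLocalRing A] [IsNoetherianRing A] (π : R →+* A) (hπ : Function.Surjective π) (M : Type u) [AddCommGroup M] [Module A M] [Module.Finite A M] (i : ℕ) : IsFiniteLength A (LocCoh.H (IsLocalRing.maximalIdeal A) i M) ↔ ∀ p : PrimeSpectrum A, p.asIdeal ≠ IsLocalRing.maximalIdeal A → ∀ (e j : ℕ), ringKrullDim (A ⧸ p.asIdeal) = e → j + e = i → Subsingleton (LocCoh.H (IsLocalRing.maximalIdeal (Localization.AtPrime p.asIdeal)) j (LocalizedModule p.asIdeal.primeCompl M)) := by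
    let _ : Algebra R A := π.toAlgebra
    have := GrothLib.SGA2Fin.isRegularRing_of_isRegularLocalRing R
    let _ : Module R M := Module.compHom M π
    have : IsScalarTower R A M := IsScalarTower.of_algebraMap_smul fun _ _ => rfl
    have : Module.Finite R A := Module.Finite.of_surjective (Algebra.linearMap R A) hπ
    have : Module.Finite R M := Module.Finite.trans A M
    have hmax : (IsLocalRing.maximalIdeal R).map (algebraMap R A) = IsLocalRing.maximalIdeal A :=
      IsLocalRing.map_maximalIdeal_of_surjective _ hπ
    have hcomap : (IsLocalRing.maximalIdeal A).comap (algebraMap R A) = IsLocalRing.maximalIdeal R :=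
      IsLocalRing.eq_maximalIdeal (Ideal.comap_isMaximal_of_surjective _ hπ)
    constructor
    · intro hfl p hp e j he hj
      have hN := (isFiniteLength_iff_isNoetherian_isArtinian.1 hfl).1
      have hfin : Module.Finite A (LocCoh.H (IsLocalRing.maximalIdeal A) i M) := inferInstance
      have hk : ∀ x ∈ IsLocalRing.maximalIdeal R,
          GrothLib.Faltings.Killed (IsLocalRing.maximalIdeal R) x i M := fun x hx => by
        rw [← GrothLib.Faltings.killed_restrictScalars_iff (R' := A), hmax]
        exact GrothLib.Faltings.killed_of_finite (hmax ▸ Ideal.mem_map_of_mem _ hx)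
      refine (GrothLib.SGA2Fin.subsingleton_stalk_iff hπ M p.asIdeal _ rfl j).1
        (GrothLib.SGA2Fin.subsingleton_stalk_of_killed R M hk (PrimeSpectrum.comap (algebraMap R A) p)
          (fun hP => hp ?_) (e := e) ?_ hj)
      · rw [← Ideal.map_comap_of_surjective _ hπ p.asIdeal, ← hmax]
        exact congrArg (Ideal.map (algebraMap R A)) hP
      · have h1 := GrothLib.SGA2Fin.relHeight_comap_eq hπ p.asIdeal (IsLocalRing.maximalIdeal A)
          (IsLocalRing.le_maximalIdeal p.2.ne_top)
        rw [hcomap] at h1
        rw [← GrothLib.SGA2Fin.relHeight_maximalIdeal] at he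
        exact h1.trans (WithBot.coe_injective he)
    · intro h
      have := GrothLib.SGA2Fin.finite_localCohomology_of_surjective (R := R) hπ (IsLocalRing.maximalIdeal A) M i
        fun p hp hc j hj => by
          refine h p (fun e => hp e.ge) 1 j ?_ hj
          rw [← GrothLib.SGA2Fin.relHeight_maximalIdeal, ← GrothLib.SGA2Fin.relCodim_maximalIdeal, hc]
          rfl
      exact GrothLib.SGA2Fin.isFiniteLength_of_finite M i

end Groth.Agent.S2934
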