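import Groth.Statements.S2936
import Groth.Agent.Lib.HLVT.DualTop
import Groth.Agent.Lib.HLVT.Ara
import Groth.Agent.Lib.HLVT.Subring
import Groth.Agent.Lib.SGA2Fin.FiniteLength
import Groth.Agent.Lib.Cohen.Structure
import Groth.Agent.S0317

set_option autoImplicit false
universe u
open LocCoh

namespace Groth.Agent.S2936

/-- (iii), for a complete local ring. Let A be a complete Noetherian local ring with maximal ideal m, κ
→ E an injective hull of the residue field, and M a nonzero finite A-module whose support has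
dimension n. Then for every i the A-module Hom_A(H^i_m(M), E) is finite with support of dimension at
most i; for i = n its support has dimension exactly n and its associated primes are exactly the
associated primes p of M with dim A/p = n. -/
theorem result (A : Type u) [CommRing A] [IsLocalRing A] [IsNoetherianRing A] [IsAdicComplete (IsLocalRing.maximalIdeal A) A] (E : Type u) [AddCommGroup E] [Module A E] (f : IsLocalRing.ResidueField A →ₗ[A] E) (hf : InjHull.IsInjectiveHull f) (M : Type u) [AddCommGroup M] [Module A M] [Module.Finite A M] [Nontrivial M] (n : ℕ) (hn : Module.supportDim A M = n) : (∀ i : ℕ, Module.Finite A (LocCoh.H (IsLocalRing.maximalIdeal A) i M →ₗ[A] E) ∧ Module.supportDim A (LocCoh.H (IsLocalRing.maximalIdeal A) i M →ₗ[A] E) ≤ (i : WithBot ℕ∞)) ∧ Module.supportDim A (LocCoh.H (IsLocalRing.maximalIdeal A) n M →ₗ[A] E) = n ∧ associatedPrimes A (LocCoh.H (IsLocalRing.maximalIdeal A) n M →ₗ[A] E) = {p | p ∈ associatedPrimes A M ∧ ringKrullDim (A ⧸ p) = n} := by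
  have hfinD : ∀ i : ℕ, Module.Finite A (LocCoh.H (IsLocalRing.maximalIdeal A) i M →ₗ[A] E) := fun i => by
    have := GrothLib.LC.isArtinian_H_maximal (R := A) i M
    exact (Groth.Agent.S0317.result A E f hf _).1
  obtain ⟨Λ, _, m, π, hΛ, hπ⟩ := GrothLib.Cohen.exists_surjective_mvPowerSeries A (IsLocalRing.maximalIdeal A).fg_of_isNoetherianRing
  let R := MvPowerSeries (Fin m) Λ
  obtain ⟨hreg, hcomp⟩ : ∃ _ : IsRegularLocalRing R, IsAdicComplete (IsLocalRing.maximalIdeal R) R := by
    rcases hΛ with hF | ⟨hd, hv, hc, q, hq, hm⟩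
    · let _ := hF.toField
      have : IsAdicComplete (IsLocalRing.maximalIdeal Λ) Λ := by
        rw [IsLocalRing.maximalIdeal_eq_bot]; infer_instance
      have := GrothLib.RegLoc.PS.isRegularLocalRing (d := m) Λ
      exact ⟨this, GrothLib.HLVT.isAdicComplete_powerSeries Λ m⟩
    · have := GrothLib.Cohen.charZero_of_maximalIdeal_eq_span Λ q hq hm
      have := GrothLib.J2.isRegularLocalRing_powerSeries (q : Λ) (Nat.cast_ne_zero.2 hq.ne_zero) hm m
      exact ⟨this, GrothLib.HLVT.isAdicComplete_powerSeries Λ m⟩
  let _ : Algebra R A := π.toAlgebra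
  let _ : Module R M := Module.compHom M π
  have : IsScalarTower R A M := IsScalarTower.of_algebraMap_smul fun _ _ => rfl
  have : Module.Finite R A := Module.Finite.of_surjective (Algebra.linearMap R A) hπ
  have : Module.Finite R M := Module.Finite.trans A M
  have hdimle : ∀ i : ℕ, Module.supportDim A (LocCoh.H (IsLocalRing.maximalIdeal A) i M →ₗ[A] E) ≤ (i : WithBot ℕ∞) := by
    intro i
    have := hfinD i
    rw [Module.supportDim_eq_ringKrullDim_quotient_annihilator, ← GrothLib.Matlis.annihilator_dual hf]
    refine GrothLib.HLVT.ringKrullDim_quotient_le_of_forall _ _ fun p hp hle => ?_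
    rw [← GrothLib.HLVT.ringKrullDim_quotient_comap (algebraMap R A) hπ p]
    have := GrothLib.SGA2Fin.isRegularRing_of_isRegularLocalRing R
    have := Groth.Agent.S0342.result R
    have := GrothLib.Gor.isCohenMacaulayLocalRing (A := R)
    let P := p.comap (algebraMap R A)
    have hPann : ∀ r : R, (∀ x : LocCoh.H (IsLocalRing.maximalIdeal R) i M, r • x = 0) → r ∈ P := by
      intro r hr
      refine hle (Module.mem_annihilator.2 ?_)
      rw [← IsLocalRing.map_maximalIdeal_of_surjective (algebraMap R A) hπ]
      intro x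
      obtain ⟨φ, hφ⟩ := GrothLib.LC.exists_H_addEquiv_restrictScalars (R' := A) (IsLocalRing.maximalIdeal R) i M
      exact φ.injective ((hφ r x).trans ((hr _).trans φ.map_zero.symm))
    obtain ⟨a, ha⟩ := ENat.ne_top_iff_exists.1 (Ideal.height_ne_top (I := P) (Ideal.IsPrime.ne_top inferInstance))
    obtain ⟨h, hh⟩ := ENat.ne_top_iff_exists.1
      (Ideal.height_ne_top (I := IsLocalRing.maximalIdeal R) (Ideal.IsPrime.ne_top inferInstance))
    obtain ⟨c, hc⟩ := GrothLib.HLVT.exists_nat_ringKrullDim_quotient (I := P) (Ideal.IsPrime.ne_top inferInstance)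
    have hc' := (GrothLib.SGA2Fin.relHeight_maximalIdeal P).trans hc
    have hsum := GrothLib.SGA2Fin.height_eq_add_relHeight P (IsLocalRing.maximalIdeal R)
      (IsLocalRing.le_maximalIdeal (Ideal.IsPrime.ne_top inferInstance)) ha.symm (WithBot.coe_injective hc') hh.symm
    have hdim : ringKrullDim R = h := by rw [← IsLocalRing.maximalIdeal_height_eq_ringKrullDim, ← hh]; rfl
    rw [show p.comap (algebraMap R A) = P from rfl, hc]
    by_contra hlt
    have hic : i < c := by
      by_contra hci
      exact hlt (by exact_mod_cast not_lt.1 hci)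
    obtain ⟨fR, hfR⟩ := GrothLib.Gor.exists_isInjectiveHull R hdim
    have eK := LinearMap.ringLmapEquivSelf R R (LocCoh.H (IsLocalRing.maximalIdeal R) h R)
    obtain ⟨d⟩ := GrothLib.CanonMod.local_duality hdim hfR (GrothLib.CanonMod.cm_le_idealDepth hdim) eK (h - i)
      (ModuleCat.of R M) (Nat.sub_le h i)
    rw [show h - (h - i) = i by omega] at d
    have := GrothLib.LC.isArtinian_H_maximal (R := R) i M
    have hfinH := (Groth.Agent.S0317.result R _ fR hfR (LocCoh.H (IsLocalRing.maximalIdeal R) i M)).1
    let X := CategoryTheory.Abelian.Ext (ModuleCat.of R M) (ModuleCat.of R R) (h - i)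
    let g : X →ₗ[R] (LocCoh.H (IsLocalRing.maximalIdeal R) i M →ₗ[R] LocCoh.H (IsLocalRing.maximalIdeal R) h R) :=
      (LinearMap.lcomp R _ d.toLinearMap).comp LinearMap.applyₗ
    have hg : Function.Injective g := fun u v huv => GrothLib.Matlis.applyₗ_injective hfR X
      (LinearMap.ext fun ψ => by
        obtain ⟨z, rfl⟩ := d.surjective ψ
        exact LinearMap.congr_fun huv z)
    have : Module.Finite R X := Module.Finite.of_injective g hg
    obtain ⟨t, ht⟩ := (Module.Finite.fg_top : (⊤ : Submodule R X).FG)
    have hkill := ((GrothLib.SGA2Fin.stalk_duality P ha.symm (ModuleCat.of R M)).2 (h - i) (by omega))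
    choose σ hσ using hkill
    classical
    have hprod : ∀ e : X, ((∏ z ∈ t, σ z : P.primeCompl) : R) • e = 0 := fun e => by
      induction (ht ▸ Submodule.mem_top : e ∈ Submodule.span R (t : Set X)) using Submodule.span_induction with
      | mem z hz =>
        rw [← Finset.prod_erase_mul t σ hz, Submonoid.coe_mul, mul_smul, hσ, smul_zero]
      | zero => exact smul_zero _
      | add u v _ _ hu hv => rw [smul_add, hu, hv, add_zero]
      | smul r u _ hu => rw [smul_comm, hu, smul_zero]
    refine (∏ z ∈ t, σ z : P.primeCompl).2 (hPann _ fun x => d.injective ?_)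
    rw [map_smul, map_zero]
    exact LinearMap.ext fun e => ((d x).map_smul _ e).symm.trans ((congrArg (d x) (hprod e)).trans (map_zero _))
  have hass : associatedPrimes A (LocCoh.H (IsLocalRing.maximalIdeal A) n M →ₗ[A] E) =
      {p | p ∈ associatedPrimes A M ∧ ringKrullDim (A ⧸ p) = n} := by
    rw [GrothLib.HLVT.associatedPrimes_dual_top hf _ hn]
    ext p
    constructor
    · rintro ⟨hp, hle, hd, -⟩
      refine ⟨Module.associatedPrimes.minimalPrimes_annihilator_subset_associatedPrimes A M ⟨⟨hp, hle⟩, ?_⟩, hd⟩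
      rintro q ⟨hq, hleq⟩ hqp
      by_contra hne
      have : q.IsPrime := hq
      have h1 := GrothLib.HLVT.ringKrullDim_quotient_add_one_le (P := q) (Q := p) (lt_of_le_not_ge hqp hne)
      have h2 : ringKrullDim (A ⧸ q) ≤ n := hn ▸ (ringKrullDim_le_of_surjective _
        (Ideal.Quotient.factor_surjective hleq)).trans
          (le_of_eq (Module.supportDim_eq_ringKrullDim_quotient_annihilator (R := A) (M := M)).symm)
      rw [hd] at h1
      exact absurd (by exact_mod_cast h1.trans h2 : n + 1 ≤ n) (by omega)
    · rintro ⟨hp, hd⟩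
      have := hp.isPrime
      refine ⟨this, Submodule.annihilator_top.ge.trans (IsAssociatedPrime.annihilator_le hp), hd, ?_⟩
      rw [sup_eq_left.2 (IsLocalRing.le_maximalIdeal this.ne_top), (IsLocalRing.maximalIdeal.isMaximal A).isPrime.radical]
  refine ⟨fun i => ⟨hfinD i, hdimle i⟩, le_antisymm (hdimle n) ?_, hass⟩
  have := hfinD n
  have := (GrothLib.LC.not_finite_and_nontrivial_H_maximal n M hn).1
  have : Nontrivial (LocCoh.H (IsLocalRing.maximalIdeal A) n M →ₗ[A] E) := by
    obtain ⟨x, hx⟩ := exists_ne (0 : LocCoh.H (IsLocalRing.maximalIdeal A) n M)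
    obtain ⟨φ, hφ⟩ := GrothLib.Matlis.exists_apply_ne_zero hf hx
    exact nontrivial_of_ne φ 0 fun h => hφ (by rw [h, LinearMap.zero_apply])
  obtain ⟨p, hp⟩ := associatedPrimes.nonempty A (LocCoh.H (IsLocalRing.maximalIdeal A) n M →ₗ[A] E)
  have hp' := hass.le hp
  have hle : Module.annihilator A (LocCoh.H (IsLocalRing.maximalIdeal A) n M →ₗ[A] E) ≤ p := by
    rw [← Submodule.annihilator_top]
    exact IsAssociatedPrime.annihilator_le hp
  rw [← hp'.2, Module.supportDim_eq_ringKrullDim_quotient_annihilator (R := A)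
    (M := LocCoh.H (IsLocalRing.maximalIdeal A) n M →ₗ[A] E)]
  exact ringKrullDim_le_of_surjective (Ideal.Quotient.factor hle) (Ideal.Quotient.factor_surjective hle)

end Groth.Agent.S2936
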