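import Groth.Statements.S2937
import Groth.Agent.FpqcPure21.Descend
import Groth.Agent.Lib.FEt21.RegularExtend
import Groth.Agent.Lib.FEt21.DepthTwo

set_option autoImplicit false
set_option backward.isDefEq.respectTransparency false
universe u
open CategoryTheory AlgebraicGeometry
open Pi1 Limits

namespace Groth.Agent.S2937

/-- Let X be a locally Noetherian scheme and U an open subscheme such that O_X → i_*O_U is an
isomorphism, equivalently, every local ring of X at a point outside U has depth ≥ 2. Let f : X_1 → X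
be faithfully flat and quasi-compact. If the pair (X_1, X_1 − f⁻¹U) is pure (restriction of finite
étale covers from every open V to V ∩ f⁻¹U is an equivalence), then so is (X, X − U). -/
theorem result (X X₁ : Scheme.{u}) [IsLocallyNoetherian X] (U : X.Opens) (hU : ∀ x : X, x ∉ U → (2 : ℕ∞) ≤ LocCoh.depth (X.presheaf.stalk x) (X.presheaf.stalk x)) (f : X₁ ⟶ X) [Flat f] [Surjective f] [QuasiCompact f] (h : SGA2.IsPurePair X₁ (f ⁻¹ᵁ U)) : SGA2.IsPurePair X U := by
  have hU' : GrothLib.Depth.DepthTwoOutside U := hU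
  intro V
  let j := X.homOfLE (inf_le_left : V ⊓ U ≤ V)
  have hj : ∀ W : (V : Scheme.{u}).Opens, Function.Bijective (j.app W) := by
    intro W
    rw [Scheme.homOfLE_app]
    refine GrothLib.Depth.res_bijective_of_eq hU' _ ?_
    rw [Scheme.ι_image_homOfLE_eq_ι_image_inf]
    have hle : V.ι ''ᵁ W ≤ V := V.ι_image_le W
    exact le_antisymm (fun x hx => ⟨hx.1, hx.2.2⟩) (fun x hx => ⟨hx.1, hle hx.1, hx.2⟩)
  obtain ⟨_, _⟩ := GrothLib.FEt21.fullyFaithful_of_clopen j
    (GrothLib.FEt21.clopenInj_of_denseRange _ (GrothLib.FEt21.denseRange_of_app_bijective _ hj))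
    (GrothLib.FEt21.clopenSurj_of_app_bijective _ hj)
  haveI : QuasiCompact j := inferInstance
  haveI : Flat (f ∣_ V) := IsZariskiLocalAtTarget.restrict ‹Flat f› V
  haveI : Surjective (f ∣_ V) := IsZariskiLocalAtTarget.restrict ‹Surjective f› V
  haveI : QuasiCompact (f ∣_ V) := IsZariskiLocalAtTarget.restrict ‹QuasiCompact f› V
  haveI := h (f ⁻¹ᵁ V)
  let j₁ := X₁.homOfLE (inf_le_left : f ⁻¹ᵁ V ⊓ f ⁻¹ᵁ U ≤ f ⁻¹ᵁ V)
  let g : (((f ⁻¹ᵁ V ⊓ f ⁻¹ᵁ U : X₁.Opens)) : Scheme.{u}) ⟶ (V ⊓ U : X.Opens) := f ∣_ (V ⊓ U)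
  have sq : IsPullback g j₁ j (f ∣_ V) := by
    refine IsPullback.of_bot (v₂₁ := (f ⁻¹ᵁ V).ι) (v₂₂ := V.ι) (h₃₁ := f) ?_ ?_
      (isPullback_morphismRestrict f V)
    · rw [Scheme.homOfLE_ι, Scheme.homOfLE_ι]
      exact isPullback_morphismRestrict f (V ⊓ U)
    · rw [← cancel_mono V.ι, Category.assoc, Category.assoc, morphismRestrict_ι, Scheme.homOfLE_ι,
        Scheme.homOfLE_ι_assoc]
      exact morphismRestrict_ι f (V ⊓ U)
  have hes : (FEt.restrict (pullback.snd j (f ∣_ V))).EssSurj := by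
    refine ⟨fun A => ⟨(FEt.restrict j₁).objPreimage ((FEt.restrict sq.isoPullback.hom).obj A), ⟨?_⟩⟩⟩
    let Z := (FEt.restrict j₁).objPreimage ((FEt.restrict sq.isoPullback.hom).obj A)
    exact GrothLib.FEt21.restrictCompIso sq.isoPullback.inv j₁ _ sq.isoPullback_inv_snd Z ≪≫
      (FEt.restrict sq.isoPullback.inv).mapIso ((FEt.restrict j₁).objObjPreimageIso _) ≪≫
      (GrothLib.FEt21.restrictCompIso sq.isoPullback.inv sq.isoPullback.hom (𝟙 _) (Iso.inv_hom_id _) A).symm ≪≫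
      MorphismProperty.Over.isoMk (A := (FEt.restrict (𝟙 _)).obj A) (B := A) (haveI : IsIso (pullback.fst A.hom (𝟙 (pullback j (f ∣_ V)))) := (IsPullback.of_hasPullback A.hom (𝟙 (pullback j (f ∣_ V)))).isIso_fst_of_isIso; asIso (pullback.fst A.hom (𝟙 (pullback j (f ∣_ V)))))
        (pullback.condition.trans (Category.comp_id _))
  haveI := FpqcPure21.essSurj_restrict_of_flat_descent j (f ∣_ V) hj hes
  exact { }

end Groth.Agent.S2937
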