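import Groth.Statements.S2942
import Groth.Agent.Lib.NegVan7.Main
import Groth.Agent.Lib.LefAmp7.Hom
import Groth.Agent.Lib.Cohom.LinearLES

set_option autoImplicit false
universe u
open CategoryTheory AlgebraicGeometry
open Lef GrothLib

namespace Groth.Agent.S2942

/-- Over a field and for the structure sheaf. Let k be a field and X a proper k-scheme; let 𝓘 be a
quasi-coherent ideal sheaf whose ideal module is invertible with an ample inverse L (so 𝓘 defines an
effective Cartier divisor Y with O_X(Y) = L ample), and suppose that at every closed point x the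
local ring O_{X,x} has depth greater than n. Then there is m₀ such that for all m ≥ m₀ the map
H^i(X, O_X) → H^i(X, O_X/𝓘^{m+1}) induced by the quotient map is bijective for every i < n and
injective for i = n. -/
theorem result (k : Type u) [Field k] (X : Scheme.{u}) [X.Over (Spec (CommRingCat.of k))] [IsProper (X ↘ (Spec (CommRingCat.of k)))] (𝓘 : X.IdealSheafData) (L : X.Modules) (hL : ClSub.IsInverseOf L (ClSub.idealMod 𝓘)) (hamp : CohB1.IsAmple L) (n : ℕ) (hdepth : ∀ x : X, IsClosed ({x} : Set X) → (n : ℕ∞) < LocCoh.depth (X.presheaf.stalk x) (X.presheaf.stalk x)) : ∃ m₀ : ℕ, ∀ m : ℕ, m₀ ≤ m → (∀ i : ℕ, i < n → Function.Bijective (Sheaf.H.map ((SheafOfModules.toSheaf X.ringCatSheaf).map (ClSub.toSubscheme (𝓘 ^ (m + 1)))) i)) ∧ Function.Injective (Sheaf.H.map ((SheafOfModules.toSheaf X.ringCatSheaf).map (ClSub.toSubscheme (𝓘 ^ (m + 1)))) n) := by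
  haveI := Euler.isNoetherian_of_proper (X := X) k
  have hI := LefAmp7.isInvertible_idealMod_of_inverse hamp.1 hL
  have hI' := IdealModSec.isEffCartier_of_isInvertible hI
  have hO := Euler.isInvertible_structure (X := X)
  have hOl : FlatMod.IsFinLocFree (Coh.structureModule X) :=
    FinCov.isFinLocFree_of_rank (Euler.isFinLocFreeOfRank_one' hO)
  obtain ⟨m₀, hm₀⟩ := NegVan7.eventually_vanish k hamp hL (Euler.isCoh_of_isInvertible hO) n
    (fun x hx => lt_of_lt_of_le (hdepth x hx) (LocZ25.depth_ge_of_isFinLocFree hOl x))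
  refine ⟨m₀, fun m hm => ?_⟩
  have hvan : ∀ i : ℕ, i ≤ n → Subsingleton (Coh.HH X (ClSub.idealMod (𝓘 ^ (m + 1))) i) := fun i hi => by
    obtain ⟨h, hcls⟩ := ArSurf29.cls_idealMod_pow hI' (m + 1)
    obtain ⟨p⟩ := (Cube.clsMod_eq_iff h (Ample.isInvertible_tensorMod hO (Ample.isInvertible_tensorPow hI (m + 1)))).1
      (by rw [hcls, Cube.clsMod_tensorMod hO (Ample.isInvertible_tensorPow hI (m + 1)), Cube.clsMod_tensorPow hI, (Cube.clsMod_eq_one_iff hO).2 ⟨Iso.refl _⟩, one_mul])
    haveI := hm₀ (m + 1) (by omega) i hi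
    exact (Euler.hhEquiv (A := k) p i).toEquiv.subsingleton
  have hS := ConnH0.shortExact_ideal (𝓘 ^ (m + 1))
  have inj : ∀ i : ℕ, i ≤ n → Function.Injective
      (Cohom.hhMap k (ClSub.toSubscheme (𝓘 ^ (m + 1))) i) := fun i hi => by
    refine (injective_iff_map_eq_zero _).2 fun x hx => ?_
    obtain ⟨y, rfl⟩ := (Cohom.exact₂ (A := k) hS i x).1 hx
    rw [@Subsingleton.elim _ (hvan i hi) y 0, map_zero]
  refine ⟨fun i hi => ⟨inj i hi.le, fun y => ?_⟩, inj n le_rfl⟩
  obtain ⟨x, hx⟩ := (Cohom.exact₃ (A := k) hS i y).1 (@Subsingleton.elim _ (hvan (i + 1) hi) _ _)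
  exact ⟨x, hx⟩

end Groth.Agent.S2942
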