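import Groth.Statements.S2948
import Groth.Agent.Lib.LefPic7.Triv


set_option autoImplicit false
universe u
open CategoryTheory CategoryTheory.Limits AlgebraicGeometry
open Lef

namespace Groth.Agent.S2948

/-- Let X be a locally Noetherian scheme, 𝓘 a quasi-coherent ideal sheaf with Y = V(𝓘), and p ≥ 0;
suppose Lef(X, Y) holds and H^1(X, 𝓘^{n+1}/𝓘^{n+2}) = 0 for every n ≥ p (these are the groups H^1(Y,
P_n) of the source, P_n being supported on Y). Then for every open U ⊇ Y and every n ≥ p, if two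
invertible O_U-modules have isomorphic pullbacks to the closed subscheme Y_n ∩ U = V(𝓘^{n+1}) ∩ U,
they are isomorphic. -/
theorem result (X : Scheme.{u}) [IsLocallyNoetherian X] (𝓘 : X.IdealSheafData) (h : Lef.LefCond X 𝓘) (p : ℕ) (hH1 : ∀ n : ℕ, p ≤ n → Subsingleton (Coh.HH X (kernel (Lef.quotMap (Lef.pow_succ_le 𝓘 n))) 1)) (U : X.Opens) (hU : (𝓘.support : Set X) ⊆ (U : Set X)) (n : ℕ) (hn : p ≤ n) (L L' : (U : Scheme.{u}).Modules) (hL : PicF.IsInvertible L) (hL' : PicF.IsInvertible L') (e : Nonempty ((Scheme.Modules.pullback (((𝓘.comap U.ι) ^ (n + 1)).subschemeι)).obj L ≅ (Scheme.Modules.pullback (((𝓘.comap U.ι) ^ (n + 1)).subschemeι)).obj L')) : Nonempty (L ≅ L') := by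
  obtain ⟨M, hM, eM⟩ := GrothLib.VA.exists_inverse hL'
  have hLM := GrothLib.Ample.isInvertible_tensorMod hL hM
  have hs : ∀ m, n ≤ m → GrothLib.LefPic7.StepOK (GrothLib.LefPic7.step (𝓘.comap U.ι) m) := fun m hm =>
    GrothLib.LefPic7.stepOK_comap 𝓘 hU m (GrothLib.LefPic7.stepOK_of_H1 𝓘 m (hH1 m (hn.trans hm)))
  have he : GrothLib.Cube.pull ((𝓘.comap U.ι) ^ (n + 1)).subschemeι (GrothLib.Cube.clsMod hLM) = 1 := by
    have e' := (GrothLib.Cube.clsMod_eq_iff (GrothLib.Ample.isInvertible_pullback _ hL)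
      (GrothLib.Ample.isInvertible_pullback _ hL')).2 e
    rw [GrothLib.Cube.clsMod_pullback _ hL, GrothLib.Cube.clsMod_pullback _ hL'] at e'
    rw [GrothLib.Cube.clsMod_tensorMod hL hM, map_mul, eM, map_inv, e', mul_inv_cancel]
  have h1 := GrothLib.LefPic7.iso_unit_of_thickening (𝓘.comap U.ι) n hs (h U hU) hLM he
  rw [← GrothLib.Cube.clsMod_eq_one_iff hLM, GrothLib.Cube.clsMod_tensorMod hL hM, eM, mul_inv_eq_one] at h1
  exact (GrothLib.Cube.clsMod_eq_iff hL hL').1 h1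

end Groth.Agent.S2948
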