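import Groth.Statements.S2949
import Groth.Agent.S2944
import Groth.Agent.Lib.LefPic7.Bij
import Groth.Agent.Lib.LeffAmp7.Kernel
import Groth.Agent.Lib.ParaPair.Local
import Groth.Agent.Lib.FEt21.PunctSections
set_option autoImplicit false
universe u
open CategoryTheory CategoryTheory.Limits AlgebraicGeometry
open Lef

namespace Groth.Agent.S2949

/-- Case 'resp.' with the parafactoriality hypothesis. Let k be a field, X a proper k-scheme, 𝓘 a
quasi-coherent ideal sheaf whose ideal module 𝓘O_X is invertible with ample inverse L (so X₀ = V(𝓘)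
is an effective Cartier divisor with O_X(X₀) = L ample and X is projective), and let ι : X₀ → X be
the closed immersion. Assume: every closed point of X has depth O_{X,x} ≥ 2; H^i(X, (𝓘O_X)^{⊗m} ⊗
O_X/𝓘) = 0 for all m ≥ 1 and i = 1, 2 (these are the groups H^i(X₀, O_{X₀}(−m))); and for every
closed point x ∉ X₀ every invertible module on the punctured spectrum of O_{X,x} is trivial (O_{X,x}
parafactorial). Then pullback along ι induces a bijection on isomorphism classes of invertible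
modules: invertible M, M' on X with ι^*M ≅ ι^*M' are isomorphic, and every invertible O_{X₀}-module
is isomorphic to ι^*M for some invertible M on X. -/
theorem result (k : Type u) [Field k] (X : Scheme.{u}) [X.Over (Spec (CommRingCat.of k))] [IsProper (X ↘ (Spec (CommRingCat.of k)))] (𝓘 : X.IdealSheafData) (L : X.Modules) (hL : ClSub.IsInverseOf L (ClSub.idealMod 𝓘)) (hamp : CohB1.IsAmple L) (hdepth : ∀ x : X, IsClosed ({x} : Set X) → (2 : ℕ∞) ≤ LocCoh.depth (X.presheaf.stalk x) (X.presheaf.stalk x)) (hH : ∀ m : ℕ, 1 ≤ m → ∀ i : ℕ, (i = 1 ∨ i = 2) → Subsingleton (Coh.HH X ((DCoh.tensorBi.obj (CohB1.tensorPow (ClSub.idealMod 𝓘) m)).obj (ClSub.quotMod 𝓘)) i)) (hpf : ∀ x : X, IsClosed ({x} : Set X) → x ∉ (𝓘.support : Set X) → ∀ N : (↑(FEt.puncturedSpec (X.presheaf.stalk x)) : Scheme.{u}).Modules, PicF.IsInvertible N → Nonempty (N ≅ Coh.structureModule _)) : (∀ M M' : X.Modules, PicF.IsInvertible M → PicF.IsInvertible M' → Nonempty ((Scheme.Modules.pullback 𝓘.subschemeι).obj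 M ≅ (Scheme.Modules.pullback 𝓘.subschemeι).obj M') → Nonempty (M ≅ M')) ∧ ∀ N : (𝓘.subscheme).Modules, PicF.IsInvertible N → ∃ M : X.Modules, PicF.IsInvertible M ∧ Nonempty ((Scheme.Modules.pullback 𝓘.subschemeι).obj M ≅ N) := by
  haveI : IsNoetherian X := GrothLib.Euler.isNoetherian_of_proper (X := X) k
  have hI := GrothLib.LefAmp7.isInvertible_idealMod_of_inverse hamp.1 hL
  have hY := GrothLib.LeffAmp7.depth_quot_of_vanish k hamp 𝓘 hI hL hdepth
    ⟨1, fun m hm => hH m hm 1 (Or.inl rfl)⟩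
  have hLeff : LefX.LeffCond X 𝓘 := ⟨Groth.Agent.S2944.result k X 𝓘 L hL hamp hdepth, fun 𝔐 h𝔐 =>
    GrothLib.LeffAmp7.exists_bundle_of_ample k hamp 𝓘 hL hdepth hY 𝔐 h𝔐⟩
  have hpara : ∀ U : X.Opens, (𝓘.support : Set X) ⊆ (U : Set X) → ∀ x : X, x ∉ U →
      ParaF.IsParafactorialLocalRing (X.presheaf.stalk x) := fun U hU x hx => by
    have hcl := GrothLib.LefAmp7.isClosed_of_notMem k 𝓘 hL hI hamp hU hx
    refine (GrothLib.ParaPair.isParafactorialLocalRing_iff _).2 ⟨?_, fun N hN => hpf x hcl (fun h => hx (hU h)) N hN⟩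
    let P := FEt.puncturedSpec (X.presheaf.stalk x)
    let S := Spec (CommRingCat.of (X.presheaf.stalk x))
    have h := GrothLib.FEt21.app_ι_bijective_of_depthTwo
      (GrothLib.FEt21.depthTwoOutside_puncturedSpec (X.presheaf.stalk x) (hdepth x hcl)) ⊤
    rw [Scheme.Opens.ι_app] at h
    have hW : ∀ (W W' : S.Opens) (hW : W ≤ ⊤) (hW' : W' ≤ ⊤), W = W' →
        Function.Bijective (S.presheaf.map (homOfLE hW).op) → Function.Bijective (S.presheaf.map (homOfLE hW').op) := by
      rintro W _ _ _ rfl hb; exact hb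
    exact hW _ P le_top le_top (by simp [P]) h
  have hH' : ∀ m, 0 ≤ m → ∀ i : ℕ, (i = 1 ∨ i = 2) →
      Subsingleton (Coh.HH X (kernel (Lef.quotMap (Lef.pow_succ_le 𝓘 m))) i) := fun m _ i hi => by
    obtain ⟨e⟩ := GrothLib.LeffAmp7.nonempty_kernel_quotMap 𝓘 hI m
    haveI := hH (m + 1) (Nat.succ_pos m) i hi
    exact (GrothLib.Euler.hhEquiv (A := k) e i).toEquiv.subsingleton
  have hb := GrothLib.LefPic7.bijective_pull_thickening 𝓘 hLeff hpara 0 hH'
  have key : ∀ J : X.IdealSheafData, Function.Bijective (GrothLib.Cube.pull J.subschemeι) →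
      (∀ M M' : X.Modules, PicF.IsInvertible M → PicF.IsInvertible M' →
        Nonempty ((Scheme.Modules.pullback J.subschemeι).obj M ≅ (Scheme.Modules.pullback J.subschemeι).obj M') →
          Nonempty (M ≅ M')) ∧
      ∀ N : (J.subscheme).Modules, PicF.IsInvertible N →
        ∃ M : X.Modules, PicF.IsInvertible M ∧ Nonempty ((Scheme.Modules.pullback J.subschemeι).obj M ≅ N) := by
    intro J hJ
    refine ⟨fun M M' hM hM' e => (GrothLib.Cube.clsMod_eq_iff hM hM').1 (hJ.1 ?_),
      fun N hN => GrothLib.LefPic7.picPullbackSurjective_of_surjective _ hJ.2 N hN⟩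
    rw [← GrothLib.Cube.clsMod_pullback _ hM, ← GrothLib.Cube.clsMod_pullback _ hM', GrothLib.Cube.clsMod_eq_iff]
    exact e
  have h1 : (𝓘 ^ (0 + 1)) = 𝓘 := by rw [zero_add, pow_one]
  exact key 𝓘 (h1 ▸ hb)

end Groth.Agent.S2949
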