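import Groth.Statements.S2952
import Groth.Agent.Lib.RootDatum.Weyl

set_option autoImplicit false
open RootPairing
open scoped Pointwise
universe u
open RootD

namespace Groth.Agent.S2952

open GrothLib.RootDatum


/-- For a finite crystallographic reduced root pairing over a characteristic-zero domain with a base b:
(1) the Weyl group is generated by the reflections in the simple roots; (2) every root is the image
of a simple root under an element of the Weyl group (acting on the indexing type). (The published
statement also covers the non-reduced case.) -/
theorem result {ι R M N : Type*} [CommRing R] [CharZero R] [IsDomain R] [AddCommGroup M] [Module R M]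
    [AddCommGroup N] [Module R N] (P : RootPairing ι R M N) [Finite ι] [P.IsCrystallographic] [P.IsReduced]
    (b : P.Base) :
    Subgroup.closure ((fun i : ι => Equiv.reflection P i) '' (b.support : Set ι)) = P.weylGroup ∧
    ∀ i : ι, ∃ g : P.Aut, g ∈ P.weylGroup ∧ ∃ j ∈ b.support, g • j = i := by
  have h := IsSimple.of_base P b
  refine ⟨h.closure_refl_eq, fun k => ?_⟩
  have hind : RootD.IsIndiv P k := by
    rcases indiv_or_eq_two_smul P k with hk | ⟨j, -, hk⟩
    · exact hk
    · exfalso
      have hli : ¬ LinearIndependent R ![P.root k, P.root j] := by
        rw [LinearIndependent.pair_iff]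
        push Not
        exact ⟨-1, 2, by rw [hk, ← two_smul_eq]; simp, fun h0 => absurd h0 (by simp)⟩
      rcases IsReduced.eq_or_eq_neg k j hli with e | e
      · rw [hk, two_zsmul] at e
        exact root_ne_zero P j (by simpa using e)
      · rw [hk] at e
        have e3 : (3 : ℤ) • P.root j = (3 : ℤ) • (0 : M) := by
          rw [smul_zero, show (3 : ℤ) = 2 + 1 from rfl, add_smul, e, one_smul, neg_add_cancel]
        exact root_ne_zero P j (zsmul_inj P (by norm_num) e3)
  obtain ⟨g, hg, i, hi, hgi⟩ := h.exists_smul_eq_of_indiv hind
  exact ⟨g, h.closure_refl_eq ▸ hg, i, hi, hgi⟩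

end Groth.Agent.S2952
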