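import Groth.Statements.S2956
import Groth.Agent.Lib.RootDatum.Tits

set_option autoImplicit false
open RootPairing
open scoped Pointwise
universe u
open RootD

namespace Groth.Agent.S2956

open GrothLib.RootDatum

theorem closure_pair_cases {G : Type*} [Group G] {s t : G} (hs : s * s = 1) (ht : t * t = 1) {g : G}
    (hg : g ∈ Subgroup.closure ({s, t} : Set G)) :
    ∃ k : ℤ, g = (s * t) ^ k ∨ g = (s * t) ^ k * s := by
  have hsinv : s⁻¹ = s := inv_eq_of_mul_eq_one_right hs
  have htinv : t⁻¹ = t := inv_eq_of_mul_eq_one_right ht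
  have hconj : ∀ k : ℤ, s * (s * t) ^ k = (s * t) ^ (-k) * s := by
    intro k
    rw [zpow_neg, ← inv_zpow, show (s * t)⁻¹ = s * (s * t) * s⁻¹ by
      simp only [mul_inv_rev, hsinv, htinv, ← mul_assoc, hs, one_mul], conj_zpow, inv_mul_cancel_right]
  have htr : t = (s * t) ^ (-1 : ℤ) * s := by
    rw [← hconj, zpow_one, ← mul_assoc, hs, one_mul]
  have hmul : ∀ x y : G, (∃ k : ℤ, x = (s * t) ^ k ∨ x = (s * t) ^ k * s) →
      (∃ k : ℤ, y = (s * t) ^ k ∨ y = (s * t) ^ k * s) → ∃ k : ℤ, x * y = (s * t) ^ k ∨ x * y = (s * t) ^ k * s := by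
    rintro x y ⟨k, rfl | rfl⟩ ⟨l, rfl | rfl⟩
    · exact ⟨k + l, Or.inl (zpow_add _ k l).symm⟩
    · exact ⟨k + l, Or.inr (by rw [zpow_add, mul_assoc])⟩
    · exact ⟨k + -l, Or.inr (by rw [mul_assoc, hconj, zpow_add, mul_assoc])⟩
    · exact ⟨k + -l, Or.inl (by
        rw [mul_assoc ((s * t) ^ k), ← mul_assoc s, hconj, mul_assoc, hs, mul_one, zpow_add])⟩
  induction hg using Subgroup.closure_induction'' with
  | one => exact ⟨0, Or.inl (zpow_zero _).symm⟩
  | mem x hx =>
    rcases hx with rfl | rfl
    · exact ⟨0, Or.inr (by simp)⟩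
    · exact ⟨-1, Or.inr htr⟩
  | inv_mem x hx =>
    rcases hx with rfl | rfl
    · exact ⟨0, Or.inr (by simp [hsinv])⟩
    · exact ⟨-1, Or.inr (htinv.trans htr)⟩
  | mul x y _ _ hx hy => exact hmul x y hx hy

theorem refl_ne_one {ι R M N : Type*} [CommRing R] [CharZero R] [IsDomain R] [AddCommGroup M] [Module R M]
    [AddCommGroup N] [Module R N] {P : RootPairing ι R M N} [P.IsCrystallographic] (j : ι) :
    refl P j ≠ 1 := by
  intro h1
  have := congrArg (fun g : P.Aut => g • P.root j) h1
  simp only [one_smul, RootPairing.Equiv.reflection_smul, RootPairing.reflection_apply_self] at this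
  have h2 : pz P j j • P.root j = 0 := by
    rw [pz_same, two_smul]
    nth_rewrite 1 [← this]
    exact neg_add_cancel _
  exact root_ne_zero P j (zsmul_inj P (by rw [pz_same]; decide) (h2.trans (smul_zero _).symm))

section

variable {ι R M N : Type*} [CommRing R] [CharZero R] [IsDomain R] [AddCommGroup M] [Module R M]
  [AddCommGroup N] [Module R N] {P : RootPairing ι R M N} [Finite ι] [P.IsCrystallographic]
  {Δ : Set ι} {G : Type*} [Group G]

/-- A group generated by lifts of the simple reflections satisfying the rank two relations. -/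
structure IsLift (P : RootPairing ι R M N) (Δ : Set ι) (s : Δ → G) (π : G →* P.Aut) : Prop where
  apply : ∀ a : Δ, π (s a) = refl P (a : ι)
  sq : ∀ a : Δ, s a * s a = 1
  rel : ∀ a c : Δ, (s a * s c) ^ orderOf (refl P (a : ι) * refl P (c : ι)) = 1

/-- The product of a word. -/
def gw (s : Δ → G) (l : List Δ) : G := (l.map s).prod

theorem gw_cons (s : Δ → G) (a : Δ) (l : List Δ) : gw s (a :: l) = s a * gw s l := by simp [gw]

theorem gw_concat (s : Δ → G) (a : Δ) (l : List Δ) : gw s (l ++ [a]) = gw s l * s a := by simp [gw]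

variable {s : Δ → G} {π : G →* P.Aut}

theorem IsLift.map_gw (hL : IsLift P Δ s π) (l : List Δ) :
    π (gw s l) = word P (l.map Subtype.val) := by
  induction l with
  | nil => simp [gw, word]
  | cons a t ih => rw [gw_cons, map_mul, hL.apply, ih]; simp [word]

theorem IsLift.dihedral_injective (hL : IsLift P Δ s π) (h : IsSimple P Δ) (a c : Δ) {g : G}
    (hg : g ∈ Subgroup.closure ({s a, s c} : Set G)) (h1 : π g = 1) : g = 1 := by
  obtain ⟨k, rfl | rfl⟩ := closure_pair_cases (hL.sq a) (hL.sq c) hg
  · rw [map_zpow, map_mul, hL.apply, hL.apply, ← orderOf_dvd_iff_zpow_eq_one] at h1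
    obtain ⟨z, rfl⟩ := h1
    rw [zpow_mul, zpow_natCast, hL.rel, one_zpow]
  · exfalso
    rw [map_mul, map_zpow, map_mul, hL.apply, hL.apply] at h1
    set x := refl P (a : ι)
    set y := refl P (c : ι)
    have hx : x * x = 1 := refl_mul_self _
    have hy : y * y = 1 := refl_mul_self _
    have hk : (x * y) ^ k = x := by
      rw [← mul_one ((x * y) ^ k), ← hx, ← mul_assoc, h1, one_mul]
    have hkc : x * (x * y) = x * y * x := by
      have h0 := (Commute.zpow_self (x * y) k).eq
      rwa [hk] at h0
    have hst : x * y = y * x := by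
      rw [← mul_assoc, hx, one_mul] at hkc
      calc x * y = x * (x * y * x) := by rw [← hkc]
        _ = y * x := by rw [← mul_assoc, ← mul_assoc, hx, one_mul]
    have hr2 : (x * y) ^ 2 = 1 := by
      rw [pow_two, mul_assoc, ← mul_assoc y, ← hst, mul_assoc, hy, mul_one, hx]
    rcases Int.even_or_odd k with ⟨l, rfl⟩ | ⟨l, rfl⟩
    · rw [← two_mul, zpow_mul, zpow_two, ← pow_two, hr2, one_zpow] at hk
      exact refl_ne_one _ hk.symm
    · rw [zpow_add, zpow_mul, zpow_two, ← pow_two, hr2, one_zpow, one_mul, zpow_one] at hk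
      exact refl_ne_one _ (mul_eq_left.mp hk)

/-- The commutation rule for words sending a simple root to a simple root. -/
def Commutes (P : RootPairing ι R M N) (s : Δ → G) (n : ℕ) : Prop :=
  ∀ y : List Δ, y.length < n → ∀ a b : Δ, word P (y.map Subtype.val) • (a : ι) = b →
    gw s y * s a = s b * gw s y

theorem IsLift.shorter (hL : IsLift P Δ s π) (h : IsSimple P Δ) (l : List Δ) (hK : Commutes P s l.length)
    (i : Δ) (hneg : word P (l.map Subtype.val) • (i : ι) ∉ RootD.posOf P Δ) :
    ∃ l' : List Δ, l'.length + 1 = l.length ∧ gw s l' = gw s (l ++ [i]) := by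
  induction l with
  | nil => exact absurd (h.subset_posOf i.2) (by simpa [word] using hneg)
  | cons a t ih =>
    have hcons : word P ((a :: t).map Subtype.val) = refl P (a : ι) * word P (t.map Subtype.val) := by
      simp [word]
    by_cases hp : word P (t.map Subtype.val) • (i : ι) ∈ RootD.posOf P Δ
    · have heq : word P (t.map Subtype.val) • (i : ι) = a := by
        by_contra hne
        refine hneg ?_
        rw [hcons, mul_smul, refl_smul]
        exact h.refl_smul_mem_posOf_of_indiv a.2 hp hne (isIndiv_smul P (h.isIndiv i.2))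
      refine ⟨t, rfl, ?_⟩
      rw [List.cons_append, gw_cons, gw_concat, hK t (by simp) i a heq, ← mul_assoc, hL.sq, one_mul]
    · obtain ⟨t', hlen, hw⟩ := ih (fun y hy => hK y (by simp; omega)) hp
      exact ⟨a :: t', by simp [hlen], by rw [List.cons_append, gw_cons, gw_cons, hw]⟩

theorem IsLift.coset (hL : IsLift P Δ s π) (h : IsSimple P Δ) (a c : Δ) (l : List Δ)
    (hK : Commutes P s l.length) :
    ∃ (l' : List Δ) (v : G), v ∈ Subgroup.closure ({s a, s c} : Set G) ∧ gw s l = gw s l' * v ∧
      word P (l'.map Subtype.val) • (a : ι) ∈ RootD.posOf P Δ ∧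
      word P (l'.map Subtype.val) • (c : ι) ∈ RootD.posOf P Δ ∧
      l'.length ≤ l.length ∧ (word P (l.map Subtype.val) • (c : ι) ∉ RootD.posOf P Δ → l'.length < l.length) := by
  induction hn : l.length using Nat.strongRecOn generalizing l with
  | ind n ih =>
    have key : ∀ i : Δ, s i ∈ Subgroup.closure ({s a, s c} : Set G) →
        word P (l.map Subtype.val) • (i : ι) ∉ RootD.posOf P Δ →
        ∃ (l' : List Δ) (v : G), v ∈ Subgroup.closure ({s a, s c} : Set G) ∧ gw s l = gw s l' * v ∧
          word P (l'.map Subtype.val) • (a : ι) ∈ RootD.posOf P Δ ∧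
          word P (l'.map Subtype.val) • (c : ι) ∈ RootD.posOf P Δ ∧ l'.length < n := by
      intro i hi hneg
      obtain ⟨l₁, hlen, hw₁⟩ := hL.shorter h l hK i hneg
      obtain ⟨l', v, hv, hw, hpa, hpc, hle, -⟩ :=
        ih l₁.length (by omega) l₁ (fun y hy => hK y (by omega)) rfl
      refine ⟨l', v * s i, mul_mem hv hi, ?_, hpa, hpc, by omega⟩
      rw [← mul_assoc, ← hw, hw₁, gw_concat, mul_assoc, hL.sq, mul_one]
    by_cases hc : word P (l.map Subtype.val) • (c : ι) ∈ RootD.posOf P Δ
    · by_cases ha : word P (l.map Subtype.val) • (a : ι) ∈ RootD.posOf P Δ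
      · exact ⟨l, 1, one_mem _, (mul_one _).symm, ha, hc, hn.le, fun h' => absurd hc h'⟩
      · obtain ⟨l', v, h1, h2, h3, h4, h5⟩ := key a (Subgroup.subset_closure (by simp)) ha
        exact ⟨l', v, h1, h2, h3, h4, h5.le, fun _ => h5⟩
    · obtain ⟨l', v, h1, h2, h3, h4, h5⟩ := key c (Subgroup.subset_closure (by simp)) hc
      exact ⟨l', v, h1, h2, h3, h4, h5.le, fun _ => h5⟩

theorem IsLift.commutes (hL : IsLift P Δ s π) (h : IsSimple P Δ) (n : ℕ) : Commutes P s n := by
  induction n with
  | zero => exact fun y hy => absurd hy (by omega)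
  | succ n ih =>
    intro y hy a b hab
    rcases Nat.lt_or_eq_of_le (Nat.le_of_lt_succ hy) with hlt | heq
    · exact ih y hlt a b hab
    by_cases hall : ∀ γ ∈ Δ, word P (y.map Subtype.val) • γ ∈ RootD.posOf P Δ
    · -- then the word is trivial in the Weyl group; use a shorter one
      rcases y.eq_nil_or_concat' with rfl | ⟨t, i, rfl⟩
      · obtain rfl : a = b := Subtype.ext (by simpa [word] using hab)
        simp [gw]
      have hneg : word P (t.map Subtype.val) • (i : ι) ∉ RootD.posOf P Δ := by
        intro hp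
        have := hall i i.2
        rw [List.map_append, List.map_singleton, word_concat, mul_smul, refl_smul, smul_nr] at this
        exact h.isPosSys_posOf.disjoint hp this
      obtain ⟨t', hlen, hw⟩ := hL.shorter h t (fun x hx => ih x (by simp at heq; omega)) i hneg
      have hlt : t'.length < n := by simp at heq; omega
      have := ih t' hlt a b (by rwa [← hL.map_gw, hw, hL.map_gw])
      rwa [hw] at this
    push Not at hall
    obtain ⟨γ, hγ, hneg⟩ := hall
    let c : Δ := ⟨γ, hγ⟩
    obtain ⟨y', v, hv, hw, hpa, hpc, -, hlt⟩ := hL.coset h a c y (heq ▸ ih)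
    have hlt' : y'.length < n := heq ▸ hlt hneg
    have hπv : π v ∈ Subgroup.closure (refl P '' {(a : ι), γ}) := by
      rw [Set.image_pair, ← hL.apply a, ← hL.apply c, ← Set.image_pair, ← MonoidHom.map_closure]
      exact Subgroup.mem_map_of_mem π hv
    have hπ : word P (y.map Subtype.val) = word P (y'.map Subtype.val) * π v := by
      rw [← hL.map_gw, hw, map_mul, hL.map_gw]
    have hne : γ ≠ a := fun e => hneg (e ▸ hab.symm ▸ h.subset_posOf b.2)
    obtain ⟨a₁, ha₁, hva, ha₁v⟩ : ∃ a₁ : Δ, s a₁ ∈ Subgroup.closure ({s a, s c} : Set G) ∧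
        π v • (a : ι) = a₁ ∧ word P (y'.map Subtype.val) • (a₁ : ι) = b := by
      have hb : word P (y'.map Subtype.val) • (π v • (a : ι)) = b := by rw [← mul_smul, ← hπ, hab]
      rcases h.smul_mem_pair a.2 hγ b.2 hne hπv hpa hpc hb with e | e
      · exact ⟨a, Subgroup.subset_closure (by simp), e, by rwa [e] at hb⟩
      · exact ⟨c, Subgroup.subset_closure (by simp), e, by rwa [e] at hb⟩
    have hcomm : v * s a = s a₁ * v := by
      refine mul_inv_eq_one.mp (hL.dihedral_injective h a c ?_ ?_)
      · exact mul_mem (mul_mem hv (Subgroup.subset_closure (by simp))) (inv_mem (mul_mem ha₁ hv))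
      · rw [map_mul, map_inv, map_mul, map_mul, hL.apply, hL.apply, mul_inv_eq_one, ← hva, ← conj_refl,
          inv_mul_cancel_right]
    rw [hw, mul_assoc, hcomm, ← mul_assoc, ih y' hlt' a₁ b ha₁v, mul_assoc]

theorem IsLift.eq_one_of_map (hL : IsLift P Δ s π) (h : IsSimple P Δ) (l : List Δ)
    (hl : π (gw s l) = 1) : gw s l = 1 := by
  induction hn : l.length using Nat.strongRecOn generalizing l with
  | ind n ih =>
    rcases l.eq_nil_or_concat' with rfl | ⟨t, i, rfl⟩
    · rfl
    have hneg : word P (t.map Subtype.val) • (i : ι) ∉ RootD.posOf P Δ := by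
      rw [hL.map_gw, List.map_append, List.map_singleton, word_concat] at hl
      intro hp
      rw [eq_inv_of_mul_eq_one_left hl, RootPairing.Equiv.reflection_inv, refl_smul] at hp
      exact h.isPosSys_posOf.disjoint (h.subset_posOf i.2) hp
    obtain ⟨t', hlen, hw⟩ := hL.shorter h t (hL.commutes h _) i hneg
    rw [← hw] at hl ⊢
    exact ih t'.length (by simp at hn; omega) t' hl rfl

end


/-- For a finite crystallographic reduced root pairing with a base b: the Weyl group is presented by the
simple reflections s_i (i in the base) subject to the relations (s_i s_j)^{n_{ij}} = 1, where n_{ij}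
is the order of s_i s_j; i.e. it carries a Coxeter system whose simple reflections are the s_i and
whose Coxeter matrix is (n_{ij}). -/
theorem result {ι R M N : Type*} [CommRing R] [CharZero R] [IsDomain R] [AddCommGroup M] [Module R M]
    [AddCommGroup N] [Module R N] (P : RootPairing ι R M N) [Finite ι] [P.IsCrystallographic] [P.IsReduced]
    (b : P.Base) :
    ∃ (C : CoxeterMatrix ↥b.support) (cs : CoxeterSystem C P.weylGroup),
      (∀ j : ↥b.support, ((cs.simple j : P.weylGroup) : P.Aut) = Equiv.reflection P (j : ι)) ∧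
      ∀ j k : ↥b.support, C.M j k = orderOf (Equiv.reflection P (j : ι) * Equiv.reflection P (k : ι)) := by
  classical
  have h := IsSimple.of_base P b
  let C : CoxeterMatrix b.support :=
    { M := Matrix.of fun j k => orderOf (refl P (j : ι) * refl P (k : ι))
      isSymm := Matrix.IsSymm.ext fun j k => by
        simp only [Matrix.of_apply]
        rw [← orderOf_inv, mul_inv_rev, RootPairing.Equiv.reflection_inv, RootPairing.Equiv.reflection_inv]
      diagonal := fun j => by rw [Matrix.of_apply, refl_mul_self, orderOf_one]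
      off_diagonal := fun j k hne h1 => by
        rw [Matrix.of_apply, orderOf_eq_one_iff] at h1
        have h2 : refl P (j : ι) = refl P (k : ι) := by
          rw [← mul_one (refl P (j : ι)), ← refl_mul_self (P := P) (k : ι), ← mul_assoc, h1, one_mul]
        have h3 := congrArg (fun g : P.Aut => g • P.root (j : ι)) h2
        simp only [RootPairing.Equiv.reflection_smul, RootPairing.reflection_apply_self, reflection_root] at h3
        have h4 := h.eq_of_linearCombination_eq (c := -Finsupp.single (j : ι) 1)
          (d := Finsupp.single (j : ι) 1 - pz P (j : ι) (k : ι) • Finsupp.single (k : ι) 1) ?_ ?_ ?_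
        · have := congrArg (fun f : ι →₀ ℤ => f (j : ι)) h4
          simp [Finsupp.single_eq_of_ne (Subtype.coe_injective.ne hne)] at this
        · intro x hx
          rw [Finsupp.support_neg] at hx
          rw [Finset.mem_singleton.mp (Finsupp.support_single_subset hx)]
          exact j.2
        · intro x hx
          by_contra hn
          refine Finsupp.mem_support_iff.mp hx ?_
          have hj : (j : ι) ≠ x := fun e => hn (e ▸ j.2)
          have hk : (k : ι) ≠ x := fun e => hn (e ▸ k.2)
          rw [Finsupp.sub_apply, Finsupp.smul_apply, Finsupp.single_eq_of_ne hj.symm,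
            Finsupp.single_eq_of_ne hk.symm, smul_zero, sub_zero]
        · simpa using h3 }
  let cs₀ : CoxeterSystem C C.Group := C.toCoxeterSystem
  let f : b.support → P.weylGroup := fun j => RootPairing.weylGroup.ofIdx P (j : ι)
  have hf : C.IsLiftable f := fun j k => Subtype.ext (pow_orderOf_eq_one (refl P (j : ι) * refl P (k : ι)))
  let φ : C.Group →* P.weylGroup := cs₀.lift ⟨f, hf⟩
  have hφ : ∀ j, φ (cs₀.simple j) = f j := fun j => cs₀.lift_apply_simple hf j
  let π : C.Group →* P.Aut := (P.weylGroup.subtype).comp φ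
  have hL : IsLift P (b.support : Set ι) (fun j : (b.support : Set ι) => cs₀.simple j) π :=
    ⟨fun j => by change ((φ (cs₀.simple j) : P.weylGroup) : P.Aut) = _; rw [hφ]; rfl,
      fun j => cs₀.simple_mul_simple_self j, fun j k => cs₀.simple_mul_simple_pow j k⟩
  have hinj : Function.Injective φ := by
    refine (injective_iff_map_eq_one φ).mpr fun g hg => ?_
    obtain ⟨l, rfl⟩ := cs₀.wordProd_surjective g
    exact hL.eq_one_of_map h l (congrArg Subtype.val hg)
  have hsurj : Function.Surjective φ := by
    rintro ⟨g, hg⟩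
    obtain ⟨l, hl, rfl⟩ := h.exists_word hg
    refine ⟨cs₀.wordProd (l.attach.map fun a => ⟨a.1, hl a.1 a.2⟩), Subtype.ext ?_⟩
    refine (hL.map_gw (l.attach.map fun a => (⟨a.1, hl a.1 a.2⟩ : (b.support : Set ι)))).trans ?_
    rw [List.map_map]
    exact congrArg (word P) l.attach_map_subtype_val
  let cs : CoxeterSystem C P.weylGroup := ⟨(MulEquiv.ofBijective φ ⟨hinj, hsurj⟩).symm⟩
  exact ⟨C, cs, fun j => congrArg Subtype.val (hφ j), fun j k => rfl⟩

end Groth.Agent.S2956
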