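import Groth.Statements.S2957
import Groth.Agent.Lib.RootDatum.Weyl

set_option autoImplicit false
open RootPairing
open scoped Pointwise
universe u
open RootD

namespace Groth.Agent.S2957

open GrothLib.RootDatum

variable {ι R M N : Type*} [CommRing R] [CharZero R] [IsDomain R] [AddCommGroup M] [Module R M]
  [AddCommGroup N] [Module R N] {P : RootPairing ι R M N} [Finite ι] [P.IsCrystallographic]

/-- The shortest element of a coset by the reflections in `T`. -/
theorem exists_coset_rep {Δ T : Set ι} (h : IsSimple P Δ) (hT : T ⊆ Δ) (l : List ι)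
    (hl : ∀ a ∈ l, a ∈ Δ) :
    ∃ (l' : List ι) (v : P.Aut), (∀ a ∈ l', a ∈ Δ) ∧ v ∈ Subgroup.closure (refl P '' T) ∧
      word P l = word P l' * v ∧ (∀ t ∈ T, word P l' • t ∈ RootD.posOf P Δ) ∧ l'.length ≤ l.length ∧
      ((∃ t ∈ T, word P l • t ∉ RootD.posOf P Δ) → l'.length < l.length) := by
  induction hn : l.length using Nat.strongRecOn generalizing l with
  | ind n ih =>
    by_cases hpos : ∀ t ∈ T, word P l • t ∈ RootD.posOf P Δ
    · exact ⟨l, 1, hl, one_mem _, (mul_one _).symm, hpos, hn.le, fun ⟨t, ht, hne⟩ => absurd (hpos t ht) hne⟩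
    push Not at hpos
    obtain ⟨t, ht, hneg⟩ := hpos
    obtain ⟨l₁, hl₁, hw₁, hlen⟩ := h.exists_shorter hl (hT ht) hneg
    obtain ⟨l', v, hl', hv, hw, hp, hle, -⟩ := ih l₁.length (by omega) l₁ hl₁ rfl
    refine ⟨l', v * refl P t, hl', mul_mem hv (Subgroup.subset_closure ⟨t, ht, rfl⟩), ?_, hp, by omega,
      fun _ => by omega⟩
    rw [← mul_assoc, ← hw, hw₁, word_concat, mul_assoc, refl_mul_self, mul_one]

theorem smul_sub_mem_span {T : Set ι} {v : P.Aut} (hv : v ∈ Subgroup.closure (refl P '' T)) :
    ∀ x : M, (∀ q, ∃ z : ℤ, P.coroot' q x = z) →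
      v • x - x ∈ Submodule.span ℤ (P.root '' T) ∧ ∀ q, ∃ z : ℤ, P.coroot' q (v • x) = z := by
  obtain ⟨l, hl, rfl⟩ := exists_word_of_mem_closure hv
  clear hv
  induction l with
  | nil => intro x hx; simp [word]; exact hx
  | cons a t ih =>
    intro x hx
    obtain ⟨h1, h2⟩ := ih (fun y hy => hl y (List.mem_cons_of_mem a hy)) x hx
    obtain ⟨z, hz⟩ := h2 a
    have e : word P (a :: t) • x = word P t • x - z • P.root a := by
      rw [show word P (a :: t) = refl P a * word P t by simp [word], mul_smul,
        RootPairing.Equiv.reflection_smul, RootPairing.reflection_apply, hz, Int.cast_smul_eq_zsmul]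
    refine ⟨?_, fun q => ?_⟩
    · rw [e, sub_right_comm]
      exact sub_mem h1 (Submodule.smul_mem _ _ (Submodule.subset_span ⟨a, hl a (by simp), rfl⟩))
    · obtain ⟨y, hy⟩ := h2 q
      exact ⟨y - z * pz P a q, by rw [e, map_sub, map_zsmul, hy]; simp [cast_pz]⟩


/-- For a finite crystallographic reduced root pairing with a base b: let α, β be simple roots and w an
element of the Weyl group with w(α) = β. Then there are simple roots α = α_0, ..., α_m = β and Weyl
group elements w_0, ..., w_{m-1} with w = w_{m-1} ... w_0, w_i(α_i) = α_{i+1}, and each w_i lying in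
the subgroup generated by the reflections in α_i and in a simple root γ_i, where γ_i = α_{i+1}
whenever α_i ≠ α_{i+1}. -/
theorem result {ι R M N : Type*} [CommRing R] [CharZero R] [IsDomain R] [AddCommGroup M] [Module R M]
    [AddCommGroup N] [Module R N] (P : RootPairing ι R M N) [Finite ι] [P.IsCrystallographic] [P.IsReduced]
    (b : P.Base) (α β : ι) (hα : α ∈ b.support) (hβ : β ∈ b.support) (w : P.Aut) (hw : w ∈ P.weylGroup)
    (hwα : w • α = β) :
    ∃ (m : ℕ) (a : Fin (m + 1) → ι) (ws : Fin m → P.Aut),
      (∀ i, a i ∈ b.support) ∧ a 0 = α ∧ a (Fin.last m) = β ∧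
      (∀ i, ws i ∈ P.weylGroup) ∧
      w = (List.ofFn fun i : Fin m => ws (Fin.rev i)).prod ∧
      (∀ i : Fin m, ws i • a (Fin.castSucc i) = a (Fin.succ i)) ∧
      ∀ i : Fin m, ∃ γ ∈ b.support,
        ws i ∈ Subgroup.closure {Equiv.reflection P (a (Fin.castSucc i)), Equiv.reflection P γ} ∧
        (a (Fin.castSucc i) ≠ a (Fin.succ i) → γ = a (Fin.succ i)) := by
  classical
  have h := IsSimple.of_base P b
  obtain ⟨l, hl, rfl⟩ := h.exists_word hw
  clear hw
  induction hn : l.length using Nat.strongRecOn generalizing l α with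
  | ind n ih =>
    by_cases hall : ∀ γ ∈ b.support, word P l • γ ∈ RootD.posOf P (b.support : Set ι)
    · have h1 : word P l = 1 := by
        refine h.eq_one_of_smul_subset (word_mem_weylGroup l) ?_
        intro γ hγ
        exact hall γ hγ
      refine ⟨0, fun _ => α, Fin.elim0, fun _ => hα, rfl, ?_, Fin.rec0, by simp [h1], Fin.rec0, Fin.rec0⟩
      rw [← hwα, h1, one_smul]
    push Not at hall
    obtain ⟨γ, hγ, hneg⟩ := hall
    have hT : ({α, γ} : Set ι) ⊆ (b.support : Set ι) := Set.pair_subset hα hγ
    obtain ⟨l', v, hl', hv, hwv, hp, -, hlt⟩ := exists_coset_rep h hT l hl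
    have hlt' := hlt ⟨γ, by simp, hneg⟩
    -- the image of `α` by `v` is simple
    have hvmem : v • α = α ∨ v • α = γ := by
      have hγα : γ ≠ α := fun e => hneg (e ▸ hwα.symm ▸ h.subset_posOf hβ)
      have hint : ∀ q, ∃ z : ℤ, P.coroot' q (P.root α) = z := fun q => ⟨pz P α q, by simp [cast_pz]⟩
      obtain ⟨hspan, -⟩ := smul_sub_mem_span hv _ hint
      rw [Set.image_pair, smul_root] at hspan
      obtain ⟨a', c, hac⟩ := Submodule.mem_span_pair.mp hspan
      obtain ⟨a, ha⟩ : ∃ a : ℤ, a = a' + 1 := ⟨_, rfl⟩
      have hsum : P.root (v • α) = a • P.root α + c • P.root γ := by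
        rw [ha, add_smul, one_smul, add_right_comm, hac, sub_add_cancel]
      have hβ' : word P l' • (v • α) = β := by rw [← mul_smul, ← hwv, hwα]
      have himg : P.root β = a • P.root (word P l' • α) + c • P.root (word P l' • γ) := by
        rw [← hβ', ← smul_root, hsum, smul_add, smul_comm _ a, smul_comm _ c, smul_root, smul_root]
      have hcoef : h.coeff (v • α) = a • h.coeff α + c • h.coeff γ := by
        refine (h.eq_coeff ?_ ?_).symm
        · intro x hx
          by_contra hn'
          exact Finsupp.mem_support_iff.mp hx (by simp [h.coeff_notMem hn'])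
        · rw [map_add, map_zsmul, map_zsmul, h.linearCombination_coeff, h.linearCombination_coeff, hsum]
      have hht : h.ht β = a * h.ht (word P l' • α) + c * h.ht (word P l' • γ) := by
        have : h.coeff β = a • h.coeff (word P l' • α) + c • h.coeff (word P l' • γ) := by
          refine (h.eq_coeff ?_ ?_).symm
          · intro x hx
            by_contra hn'
            exact Finsupp.mem_support_iff.mp hx (by simp [h.coeff_notMem hn'])
          · rw [map_add, map_zsmul, map_zsmul, h.linearCombination_coeff, h.linearCombination_coeff, himg]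
        simp only [IsSimple.ht, this]
        rw [Finsupp.sum_add_index' (fun _ => rfl) (fun _ _ _ => rfl), Finsupp.sum_smul_index' (fun _ => rfl),
          Finsupp.sum_smul_index' (fun _ => rfl), Finsupp.mul_sum, Finsupp.mul_sum]
        simp
      have hp1 := h.ht_pos (hp α (by simp))
      have hp2 := h.ht_pos (hp γ (by simp))
      rw [h.ht_of_mem hβ] at hht
      -- both coefficients have the same sign
      have hca : (h.coeff (v • α)) α = a := by
        simp [hcoef, h.coeff_self hα, h.coeff_self hγ, Finsupp.single_eq_of_ne hγα.symm]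
      have hcc : (h.coeff (v • α)) γ = c := by
        simp [hcoef, h.coeff_self hα, h.coeff_self hγ, Finsupp.single_eq_of_ne hγα]
      rcases h.coeff_nonneg_or_nonpos (v • α) with hs | hs
      · have h1 := hs α
        have h2 := hs γ
        rw [hca] at h1
        rw [hcc] at h2
        have h3 : a ≤ a * h.ht (word P l' • α) := le_mul_of_one_le_right h1 hp1
        have h4 : c ≤ c * h.ht (word P l' • γ) := le_mul_of_one_le_right h2 hp2
        have h5 : a = 0 ∧ c = 1 ∨ a = 1 ∧ c = 0 := by
          rcases eq_or_ne a 0 with h0 | h0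
          · left
            have hc0 : c ≠ 0 := by rintro rfl; simp [h0] at hht
            rw [h0, zero_mul, zero_add] at hht
            exact ⟨h0, by omega⟩
          · right; omega
        rcases h5 with ⟨rfl, rfl⟩ | ⟨rfl, rfl⟩
        · right; exact P.root.injective (by simpa using hsum)
        · left; exact P.root.injective (by simpa using hsum)
      · have h1 := hs α
        have h2 := hs γ
        rw [hca] at h1
        rw [hcc] at h2
        nlinarith
    have hv1 : v • α ∈ b.support := by rcases hvmem with e | e <;> rw [e] <;> assumption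
    have hwα' : word P l' • (v • α) = β := by rw [← mul_smul, ← hwv, hwα]
    obtain ⟨m, a, ws, ha, ha0, ham, hws, hprod, hstep, hgam⟩ :=
      ih l'.length (by omega) (v • α) hv1 l' hl' hwα' rfl
    have hvW : v ∈ P.weylGroup := (Subgroup.closure_le _).mpr (by
      rintro _ ⟨x, -, rfl⟩; exact P.reflection_mem_weylGroup x) hv
    refine ⟨m + 1, Fin.cons α a, Fin.cons v ws, Fin.cases hα ha, rfl, ?_, Fin.cases hvW hws, ?_, ?_, ?_⟩
    · rw [← Fin.succ_last, Fin.cons_succ, ham]
    · rw [List.ofFn_succ', List.concat_eq_append, List.prod_append, List.prod_singleton, Fin.rev_last,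
        Fin.cons_zero, hwv, hprod]
      congr 3
      funext i
      rw [Fin.rev_castSucc, Fin.cons_succ]
    · refine Fin.cases ?_ fun i => ?_
      · rw [Fin.cons_zero, Fin.castSucc_zero, Fin.cons_zero, Fin.cons_succ, ha0]
      · rw [Fin.cons_succ, ← Fin.succ_castSucc, Fin.cons_succ, Fin.cons_succ]
        exact hstep i
    · refine Fin.cases ⟨γ, hγ, ?_, fun hne => ?_⟩ fun i => ?_
      · rw [Fin.cons_zero, Fin.castSucc_zero, Fin.cons_zero]
        simpa [Set.image_pair] using hv
      · rw [Fin.castSucc_zero, Fin.cons_zero, Fin.cons_succ, ha0] at hne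
        rw [Fin.cons_succ, ha0]
        exact (hvmem.resolve_left (Ne.symm hne)).symm
      · rw [Fin.cons_succ, ← Fin.succ_castSucc, Fin.cons_succ, Fin.cons_succ]
        exact hgam i

end Groth.Agent.S2957
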