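import Groth.Statements.S2964
import Groth.Agent.Lib.CartanRel.Open
import Groth.Agent.Lib.CartanRel.Local
import Mathlib.Algebra.Lie.Engel
import Mathlib.RingTheory.Finiteness.Bilinear
import Mathlib.Order.Zorn

set_option autoImplicit false
universe u
open scoped TensorProduct
open SGA3t2b

namespace Groth.Agent.S2964

/-- (i) ⇒ (iii): let d be a Lie algebra over a commutative ring A which is finitely presented as an
A-module. If for every prime p of A the fibre Lie algebra κ(p) ⊗_A d is nilpotent, then d is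
nilpotent (its lower central series vanishes, i.e. there is N with ad(x_1) ⋯ ad(x_N) = 0 for all
x_i); and the same conclusion holds if ad(x) is nilpotent for every x in d. -/
theorem result {A : Type u} [CommRing A] {L : Type u} [LieRing L] [LieAlgebra A L]
    [Module.FinitePresentation A L] :
    ((∀ p : PrimeSpectrum A, LieRing.IsNilpotent (p.asIdeal.ResidueField ⊗[A] L)) → LieRing.IsNilpotent L) ∧
    ((∀ x : L, IsNilpotent (LieAlgebra.ad A L x)) → LieRing.IsNilpotent L) := by
  classical
  haveI : Module.Finite A L := inferInstance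
  let C : ℕ → Submodule A L := fun k => (LieModule.lowerCentralSeries A L L k).toSubmodule
  let br : L →ₗ[A] L →ₗ[A] L := LinearMap.mk₂ A (fun x y => ⁅x, y⁆) add_lie smul_lie lie_add lie_smul
  have hC : ∀ k, C (k + 1) = Submodule.map₂ br ⊤ (C k) := fun k => by
    simp only [C, LieModule.lowerCentralSeries_succ, LieSubmodule.lieIdeal_oper_eq_linear_span',
      Submodule.map₂_eq_span_image2]
    congr 1
  have hmul : ∀ (I : Ideal A) (a : ℕ), C a ≤ I • ⊤ → ∀ b, C (a + b) ≤ I • C b := fun I a ha b => by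
    induction b with
    | zero => simpa [C] using ha
    | succ b ih =>
      rw [← add_assoc, hC, hC, Submodule.map₂_le]
      intro x _ y hy
      refine Submodule.smul_induction_on (ih hy) (fun r hr z hz => ?_) fun u v hu hv => ?_
      · rw [map_smul]
        exact Submodule.smul_mem_smul hr (Submodule.apply_mem_map₂ br trivial hz)
      · rw [map_add]; exact add_mem hu hv
  have hfg : ∀ k, (C k).FG := fun k => by
    induction k with
    | zero => simpa [C] using (Module.Finite.fg_top (R := A) (M := L))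
    | succ k ih => rw [hC]; exact Submodule.FG.map₂ br Module.Finite.fg_top ih
  have key : (∀ p : PrimeSpectrum A, ∃ n, ∀ z ∈ C n, (1 : p.asIdeal.ResidueField) ⊗ₜ[A] z = 0) →
      LieRing.IsNilpotent L := by
    intro hp
    refine (LieModule.isNilpotent_iff A L L).2 ?_
    by_contra hcon
    let S : Set (Ideal A) := {J | ∀ N, ¬ C N ≤ J • ⊤}
    have hbot : (⊥ : Ideal A) ∈ S := fun N hN => hcon ⟨N, by
      rw [← LieSubmodule.toSubmodule_eq_bot]
      exact eq_bot_iff.2 (hN.trans (by simp))⟩
    obtain ⟨J, -, hJ⟩ := zorn_le_nonempty₀ S (fun c hc hchain y hy => by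
      refine ⟨sSup c, fun N hN => ?_, fun z hz => le_sSup hz⟩
      haveI : Nonempty c := ⟨⟨y, hy⟩⟩
      obtain ⟨s, hs⟩ := hfg N
      have hz : ∀ z ∈ (s : Set L), ∃ J ∈ c, z ∈ J • (⊤ : Submodule A L) := fun z hz => by
        have h1 : z ∈ sSup c • (⊤ : Submodule A L) := hN (hs ▸ Submodule.subset_span hz)
        refine Submodule.smul_induction_on h1 (fun r hr w _ => ?_) fun u v ⟨J₁, h₁, hu⟩ ⟨J₂, h₂, hv⟩ => ?_
        · obtain ⟨J, hJ, hrJ⟩ := (Submodule.mem_sSup_of_directed ⟨y, hy⟩ hchain.directedOn).1 hr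
          exact ⟨J, hJ, Submodule.smul_mem_smul hrJ trivial⟩
        · rcases hchain.total h₁ h₂ with h | h
          · exact ⟨J₂, h₂, add_mem (Submodule.smul_mono h le_rfl hu) hv⟩
          · exact ⟨J₁, h₁, add_mem hu (Submodule.smul_mono h le_rfl hv)⟩
      choose! f hf hf' using hz
      obtain ⟨J₀, hJ₀, hle⟩ : ∃ J₀ ∈ c, ∀ z ∈ s, f z ≤ J₀ := by
        clear hs
        induction s using Finset.induction_on with
        | empty => exact ⟨y, hy, by simp⟩
        | insert z s _ ih =>
          obtain ⟨J₁, h₁, hle⟩ := ih (fun w hw => hf w (by simp [Finset.mem_coe.1 hw]))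
            (fun w hw => hf' w (by simp [Finset.mem_coe.1 hw]))
          rcases hchain.total (hf z (by simp)) h₁ with h | h
          · exact ⟨J₁, h₁, fun w hw => (Finset.mem_insert.1 hw).elim (fun e => e ▸ h) (hle w)⟩
          · exact ⟨f z, hf z (by simp), fun w hw => (Finset.mem_insert.1 hw).elim (fun e => e ▸ le_rfl) fun hw => (hle w hw).trans h⟩
      refine hc hJ₀ N ?_
      rw [← hs, Submodule.span_le]
      exact fun z hz => Submodule.smul_mono (hle z hz) le_rfl (hf' z hz)) ⊥ hbot
    have hmax : ∀ K : Ideal A, J < K → ∃ N, C N ≤ K • ⊤ := fun K hK => by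
      by_contra hK'
      exact hK.not_ge (hJ.2 (fun N hN => hK' ⟨N, hN⟩) hK.le)
    have hprime : J.IsPrime := by
      refine ⟨fun h => hJ.1 0 ?_, fun {a b} hab => ?_⟩
      · rw [h, Submodule.top_smul]; exact le_top
      · by_contra hcon'
        push Not at hcon'
        obtain ⟨N, hN⟩ := hmax (J ⊔ Ideal.span {a}) (left_lt_sup.2 (by simpa using hcon'.1))
        obtain ⟨M, hM⟩ := hmax (J ⊔ Ideal.span {b}) (left_lt_sup.2 (by simpa using hcon'.2))
        refine hJ.1 (N + M) ((hmul _ N hN M).trans ((Submodule.smul_mono le_rfl hM).trans ?_))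
        rw [← Submodule.mul_smul]
        refine Submodule.smul_mono ?_ le_rfl
        rw [Ideal.sup_mul, Ideal.mul_sup (Ideal.span {a}), Ideal.span_singleton_mul_span_singleton]
        refine sup_le Ideal.mul_le_left (sup_le Ideal.mul_le_right ?_)
        rw [Ideal.span_le, Set.singleton_subset_iff]; exact hab
    obtain ⟨n, hn⟩ := hp ⟨J, hprime⟩
    have hloc : ∀ z ∈ C n, ∃ s, s ∉ J ∧ s • z ∈ J • (⊤ : Submodule A L) := fun z hz =>
      GrothLib.CartanRel.exists_smul_mem_of_one_tmul_eq_zero J z (hn z hz)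
    obtain ⟨s, hs⟩ := hfg n
    choose! t ht ht' using hloc
    have hprod : (∏ z ∈ s, t z) ∉ J := by
      rw [hprime.prod_mem_iff]
      rintro ⟨z, hz, hzJ⟩
      exact ht z (hs ▸ Submodule.subset_span hz) hzJ
    obtain ⟨N, hN⟩ := hmax (J ⊔ Ideal.span {∏ z ∈ s, t z}) (left_lt_sup.2 (by simpa using hprod))
    refine hJ.1 (N + n) ((hmul _ N hN n).trans ?_)
    rw [Submodule.sup_smul]
    refine sup_le (Submodule.smul_mono le_rfl le_top) ?_
    rw [← hs, Submodule.span_smul_span, Submodule.span_le]
    simp only [Set.singleton_smul]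
    rintro _ ⟨z, hz, rfl⟩
    change (∏ z ∈ s, t z) • z ∈ J • (⊤ : Submodule A L)
    rw [← Finset.prod_erase_mul s t hz, mul_smul]
    exact Submodule.smul_mem _ _ (ht' z (hs ▸ Submodule.subset_span hz))
  have key2 : ∀ p : PrimeSpectrum A, LieRing.IsNilpotent (p.asIdeal.ResidueField ⊗[A] L) →
      ∃ n, ∀ z ∈ C n, (1 : p.asIdeal.ResidueField) ⊗ₜ[A] z = 0 := fun p hp => by
    obtain ⟨n, hn⟩ := (LieModule.isNilpotent_iff p.asIdeal.ResidueField (p.asIdeal.ResidueField ⊗[A] L) (p.asIdeal.ResidueField ⊗[A] L)).1 hp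
    refine ⟨n, fun z hz => ?_⟩
    have h : ∀ k, ∀ z ∈ C k, (1 : p.asIdeal.ResidueField) ⊗ₜ[A] z ∈
        LieModule.lowerCentralSeries p.asIdeal.ResidueField (p.asIdeal.ResidueField ⊗[A] L) (p.asIdeal.ResidueField ⊗[A] L) k := fun k => by
      induction k with
      | zero => intro z _; simp
      | succ k ih =>
        intro z hz
        rw [hC, Submodule.map₂_eq_span_image2] at hz
        induction hz using Submodule.span_induction with
        | mem z hz =>
          obtain ⟨x, -, y, hy, rfl⟩ := hz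
          have h' := LieSubmodule.lie_mem_lie (LieSubmodule.mem_top ((1 : p.asIdeal.ResidueField) ⊗ₜ[A] x)) (ih y hy)
          rw [LieAlgebra.ExtendScalars.bracket_tmul, one_mul] at h'
          rw [LieModule.lowerCentralSeries_succ]
          change (1 : p.asIdeal.ResidueField) ⊗ₜ[A] ⁅x, y⁆ ∈ _
          exact h'
        | zero => rw [TensorProduct.tmul_zero]; exact zero_mem _
        | add u v _ _ hu hv => rw [TensorProduct.tmul_add]; exact add_mem hu hv
        | smul r u _ hu =>
          rw [TensorProduct.tmul_smul, ← algebraMap_smul p.asIdeal.ResidueField r]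
          exact SMulMemClass.smul_mem _ hu
    have := h n z hz
    rwa [hn, LieSubmodule.mem_bot] at this
  refine ⟨fun h => key fun p => key2 p (h p), fun h => key fun p => key2 p ?_⟩
  rw [LieAlgebra.isNilpotent_iff_forall (R := p.asIdeal.ResidueField)]
  intro y
  obtain ⟨s, hs, m, hm⟩ := GrothLib.CartanRel.exists_lift p y
  have h1 : IsNilpotent (LieAlgebra.ad p.asIdeal.ResidueField (p.asIdeal.ResidueField ⊗[A] L)
      ((1 : p.asIdeal.ResidueField) ⊗ₜ[A] m)) := by
    rw [LieAlgebra.ad, LieModule.toEnd_baseChange]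
    obtain ⟨n, hn⟩ := h m
    exact ⟨n, by rw [← LinearMap.baseChange_pow]; exact (congrArg (LinearMap.baseChange _) hn).trans (LinearMap.baseChange_zero)⟩
  rw [← hm, map_smul] at h1
  obtain ⟨n, hn⟩ := h1
  refine ⟨n, ?_⟩
  rw [smul_pow] at hn
  exact (smul_eq_zero.1 hn).resolve_left (pow_ne_zero _ fun e => hs (Ideal.algebraMap_residueField_eq_zero.1 e))

end Groth.Agent.S2964
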