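import Groth.Statements.S2965
import Mathlib.LinearAlgebra.Charpoly.Basic
import Mathlib.RingTheory.Polynomial.Basic
import Mathlib.Algebra.Polynomial.Inductions

set_option autoImplicit false
universe u
open SGA3t2b

namespace Groth.Agent.S2965

open Polynomial in
/-- Implication (iv) ⇒ (i) (global form, finite free module): let u be an endomorphism of a finite free
module M over a commutative ring A whose characteristic polynomial is X^r · Q with Q(0) invertible.
Then M is the direct sum of two u-stable submodules M', M'' such that u is nilpotent on M' and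
bijective on M''. -/
theorem result {A : Type u} [CommRing A] {M : Type u} [AddCommGroup M] [Module A M]
    [Module.Free A M] [Module.Finite A M] (u : M →ₗ[A] M) (r : ℕ) (Q : A[X]) (hQ : IsUnit (Q.coeff 0))
    (h : u.charpoly = X ^ r * Q) :
    ∃ M' M'' : Submodule A M, IsCompl M' M'' ∧ (∀ x ∈ M', u x ∈ M') ∧ (∀ x ∈ M'', u x ∈ M'') ∧
      (∃ n : ℕ, ∀ x ∈ M', (u ^ n) x = 0) ∧ Set.BijOn u M'' M'' := by
  obtain ⟨q, hq⟩ := hQ
  have hQe : Q = Polynomial.X * Q.divX + Polynomial.C (Q.coeff 0) := (Polynomial.X_mul_divX_add Q).symm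
  have hcop : IsCoprime (Polynomial.X ^ r) Q := by
    refine IsCoprime.pow_left ?_
    rw [hQe, add_comm]
    refine IsCoprime.add_mul_left_right ?_ _
    exact ⟨0, Polynomial.C (↑q⁻¹ : A), by rw [zero_mul, zero_add, ← map_mul, ← hq, Units.inv_mul, map_one]⟩
  let M' := LinearMap.ker (Polynomial.aeval u (Polynomial.X ^ r : A[X]))
  let M'' := LinearMap.ker (Polynomial.aeval u Q)
  have hcomm : ∀ P : A[X], ∀ x, Polynomial.aeval u P (u x) = u (Polynomial.aeval u P x) := fun P x => by
    rw [← Module.End.mul_apply, ← Module.End.mul_apply]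
    congr 1
    conv_lhs => arg 2; rw [← Polynomial.aeval_X (R := A) u]
    conv_rhs => arg 1; rw [← Polynomial.aeval_X (R := A) u]
    rw [← map_mul, ← map_mul, mul_comm]
  have hst : ∀ P : A[X], ∀ x ∈ LinearMap.ker (Polynomial.aeval u P), u x ∈ LinearMap.ker (Polynomial.aeval u P) :=
    fun P x hx => by rw [LinearMap.mem_ker] at hx ⊢; rw [hcomm, hx, map_zero]
  have hpt : ∀ x ∈ M'', u (Polynomial.aeval u (Polynomial.C (-(↑q⁻¹ : A)) * Q.divX) x) = x := by
    intro x hx
    have h2 : u (Polynomial.aeval u Q.divX x) + (q : A) • x = 0 := by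
      rw [LinearMap.mem_ker, hQe, map_add, map_mul, Polynomial.aeval_X, Polynomial.aeval_C, ← hq] at hx
      exact hx
    rw [map_mul, Polynomial.aeval_C, Module.End.mul_apply, Module.algebraMap_end_apply, map_smul,
      eq_neg_of_add_eq_zero_left h2, smul_neg, neg_smul, neg_neg, smul_smul, Units.inv_mul, one_smul]
  refine ⟨M', M'', ⟨Polynomial.disjoint_ker_aeval_of_isCoprime u hcop, ?_⟩, hst _, hst _, ⟨r, fun x hx => ?_⟩,
    fun x hx => hst _ x hx, fun x hx y hy hxy => ?_, fun x hx => ?_⟩
  · rw [codisjoint_iff, Polynomial.sup_ker_aeval_eq_ker_aeval_mul_of_coprime u hcop, ← h,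
      LinearMap.aeval_self_charpoly, LinearMap.ker_zero]
  · simpa [M', LinearMap.mem_ker] using hx
  · rw [← hpt x hx, ← hpt y hy, ← hcomm, ← hcomm, hxy]
  · exact ⟨_, by rw [SetLike.mem_coe, LinearMap.mem_ker, ← Module.End.mul_apply, ← map_mul, mul_comm, map_mul, Module.End.mul_apply, show Polynomial.aeval u Q x = 0 from hx, map_zero], hpt x hx⟩


end Groth.Agent.S2965
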