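import Groth.Statements.S2967
import Mathlib.LinearAlgebra.Dimension.Free
import Mathlib.LinearAlgebra.Basis.VectorSpace
import Mathlib.Algebra.CharP.Frobenius

set_option autoImplicit false
universe u
open SGA3t2b

namespace Groth.Agent.S2967

/-- A commutative p-Lie algebra over a field k of characteristic p is recorded as a k-vector space g
together with its p-th power map φ, which is additive and Frobenius-semilinear. Let g be
finite-dimensional and non-zero, and assume every element of g is killed by some iterate of φ (g is
unipotent). Then the k-subspace of g spanned by the image φ(g) is a proper subspace. -/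
theorem result {k : Type u} [Field k] (p : ℕ) [Fact p.Prime] [CharP k p]
    {V : Type u} [AddCommGroup V] [Module k V] [FiniteDimensional k V] [Nontrivial V]
    (φ : V →ₛₗ[frobenius k p] V) (hφ : ∀ x : V, ∃ n : ℕ, φ^[n] x = 0) :
    Submodule.span k (Set.range φ) ≠ ⊤ := by
  classical
  intro htop
  have hspan : ∀ n : ℕ, Submodule.span k (Set.range (φ^[n])) = ⊤ := by
    intro n
    induction n with
    | zero => simp
    | succ n ih =>
      rw [eq_top_iff, ← htop, Submodule.span_le]
      rintro _ ⟨x, rfl⟩
      have hx : x ∈ Submodule.span k (Set.range (φ^[n])) := ih ▸ Submodule.mem_top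
      induction hx using Submodule.span_induction with
      | mem y hy =>
        obtain ⟨z, rfl⟩ := hy
        exact Submodule.subset_span ⟨z, Function.iterate_succ_apply' φ n z⟩
      | zero => simp
      | add y z _ _ hy hz => rw [map_add]; exact add_mem hy hz
      | smul c y _ hy => rw [map_smulₛₗ]; exact Submodule.smul_mem _ _ hy
  let b := Module.finBasis k V
  choose N hN using fun i => hφ (b i)
  let M := Finset.univ.sup N
  have hit : ∀ x, φ^[M] x = 0 := by
    have hb : ∀ i, φ^[M] (b i) = 0 := fun i => by
      rw [← Nat.sub_add_cancel (show N i ≤ M from Finset.le_sup (Finset.mem_univ i)), Function.iterate_add_apply, hN,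
        iterate_map_zero]
    intro x
    rw [← b.sum_repr x]
    have hadd : ∀ (s : Finset (Fin (Module.finrank k V))), φ^[M] (∑ i ∈ s, b.repr x i • b i) = 0 := by
      intro s
      induction s using Finset.induction with
      | empty => simp [iterate_map_zero]
      | insert i s hi ih =>
        have hsm : ∀ (n : ℕ) (c : k) (v : V), φ^[n] v = 0 → φ^[n] (c • v) = 0 := by
          intro n
          induction n with
          | zero => intro c v hv; simp at hv; simp [hv]
          | succ n ih =>
            intro c v hv
            rw [Function.iterate_succ_apply, map_smulₛₗ]
            exact ih _ _ (by rwa [Function.iterate_succ_apply] at hv)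
        rw [Finset.sum_insert hi, iterate_map_add, ih, hsm M _ _ (hb i), add_zero]
    exact hadd _
  have h := hspan M
  rw [show (φ^[M]) = fun _ => 0 from funext hit, Set.range_const, Submodule.span_zero_singleton] at h
  exact bot_ne_top h


end Groth.Agent.S2967
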