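import Groth.Statements.S2968
import Groth.Agent.Lib.HopfAG.UnipApp

set_option autoImplicit false
universe u
open SGA3t2b

namespace Groth.Agent.S2968

/-- In characteristic p, in Hopf-algebra form (with unipotent in the representation-theoretic sense
`HopfRep.IsUnipotent`): let k be a field of characteristic p > 0 and A a finite-type commutative
Hopf algebra over k (the coordinate Hopf algebra of an affine algebraic k-group) which is unipotent.
Then the Lie algebra of the group is a unipotent p-Lie algebra: for every ε-derivation D : A -> k
there is n > 0 such that the iterated p-operation of D, computed here as the p^n-fold convolution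
power of D (this is how the p-operation is rendered in this statement; its axioms are not proved
here), vanishes. -/
theorem result {k : Type u} [Field k] (p : ℕ) [Fact p.Prime] [CharP k p] {A : Type u} [CommRing A]
    [HopfAlgebra k A] [Algebra.FiniteType k A] (hU : HopfRep.IsUnipotent k A) (D : LieHopf.Lie k A) :
    ∃ n : ℕ, 0 < n ∧ LieHopf.convPow (D.toLinearMap.restrictScalars k ∘ₗ LinearMap.id) (p ^ n) = 0 := by
  refine GrothLib.Unip.exists_convPow_eq_zero p hU fun a b => ?_
  exact D.leibniz a b

end Groth.Agent.S2968
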