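import Groth.Statements.S2970
import Groth.Agent.Lib.MultLocal.NilLift
import Mathlib.RingTheory.Bialgebra.TensorProduct

set_option autoImplicit false
universe u
open TensorProduct SGA3b
open SGA3b

namespace Groth.Agent.S2970

/-- Let R be a ring, I an ideal consisting of nilpotent elements, and H = Spec A an R-group of
multiplicative type. If the base change of H to R/I is diagonalisable, then H is diagonalisable.
(Affine group schemes over an affine base are taken in Hopf-algebra form; base change is the tensor
product.) -/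
theorem result (R : Type u) [CommRing R] (A : Type u) [CommRing A] [HopfAlgebra R A] (I : Ideal R) (hI : ∀ x ∈ I, IsNilpotent x)
    (h : IsMultType R A) (h0 : IsDiag (R ⧸ I) ((R ⧸ I) ⊗[R] A)) : IsDiag R A := by
  obtain ⟨M, _, ⟨e⟩⟩ := h0
  obtain ⟨h₀, hh₀⟩ := GrothLib.MultLocal.exists_frame_of_equiv e
  obtain ⟨g, hg⟩ := GrothLib.MultLocal.exists_frame_of_nil h (Ideal.Quotient.mkₐ R I) (Ideal.Quotient.mkₐ_surjective R I)
    (fun a ha => hI a (Ideal.Quotient.eq_zero_iff_mem.mp (RingHom.mem_ker.mp ha))) hh₀
  exact ⟨M, inferInstance, ⟨(hg.push (Bialgebra.TensorProduct.lid R A)).equiv.symm⟩⟩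

end Groth.Agent.S2970
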