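import Groth.Statements.S2971
import Groth.Agent.Lib.MultLocal.NilLift
import Groth.Agent.Lib.MultLocal.EtaleLift

set_option autoImplicit false
universe u
open TensorProduct SGA3b
open SGA3b

namespace Groth.Agent.S2971

/-- Let R be a ring, I an ideal consisting of nilpotent elements and H = Spec A an R-group of
multiplicative type. If the base change of H to R/I is isotrivial (resp. quasi-isotrivial), so is H.
(Affine group schemes over an affine base are taken in Hopf-algebra form; base change is the tensor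
product.) -/
theorem result (R : Type u) [CommRing R] (A : Type u) [CommRing A] [HopfAlgebra R A] (I : Ideal R) (hI : ∀ x ∈ I, IsNilpotent x) (h : IsMultType R A) :
    (IsIsotrivial (R ⧸ I) ((R ⧸ I) ⊗[R] A) → IsIsotrivial R A) ∧
    (IsQuasiIsotrivial (R ⧸ I) ((R ⧸ I) ⊗[R] A) → IsQuasiIsotrivial R A) := by
  refine ⟨?_, ?_⟩
  · rintro ⟨E₀, _, _, hE, hfin, hff, M, _, ⟨e⟩⟩
    haveI : HenselianRing R I := GrothLib.Hensel.henselianRing_of_isNilpotent I hI
    obtain ⟨B, _, _, hBfin, hBet, ⟨ψ⟩⟩ := GrothLib.Hensel.exists_finite_etale_lift I E₀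
    letI : Algebra R E₀ := Algebra.compHom E₀ (algebraMap R (R ⧸ I))
    haveI : IsScalarTower R (R ⧸ I) E₀ := IsScalarTower.of_algebraMap_eq fun _ => rfl
    let π : B →ₐ[R] E₀ := (ψ.toAlgHom.restrictScalars R).comp Algebra.TensorProduct.includeRight
    have hπ : Function.Surjective π := fun y => by
      obtain ⟨x, rfl⟩ := ψ.surjective y
      induction x using TensorProduct.induction_on with
      | zero => exact ⟨0, by rw [map_zero, map_zero]⟩
      | add u v hu hv =>
        obtain ⟨a, ha⟩ := hu
        obtain ⟨b, hb⟩ := hv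
        exact ⟨a + b, by rw [map_add, map_add, ha, hb]⟩
      | tmul t b =>
        obtain ⟨r, rfl⟩ := Ideal.Quotient.mk_surjective t
        refine ⟨r • b, ?_⟩
        change ψ ((1 : R ⧸ I) ⊗ₜ[R] (r • b)) = _
        rw [tmul_smul, smul_tmul']
        congr 2
        rw [Algebra.smul_def, mul_one, Ideal.Quotient.algebraMap_eq]
    have hnil : ∀ a ∈ RingHom.ker (π : B →+* E₀), IsNilpotent a := fun a ha => by
      have h0 : (1 : R ⧸ I) ⊗ₜ[R] a = 0 := ψ.injective (ha.trans (map_zero ψ).symm)
      have h1 : a ∈ I.map (algebraMap R B) := by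
        have h3 := congrArg (TensorProduct.quotTensorEquivQuotSMul B I) h0
        simp only [map_zero] at h3
        rw [← map_one (Ideal.Quotient.mk I)] at h3
        rw [TensorProduct.quotTensorEquivQuotSMul_mk_tmul, one_smul, Submodule.Quotient.mk_eq_zero,
          Ideal.smul_top_eq_map] at h3
        exact h3
      have h2 : I.map (algebraMap R B) ≤ nilradical B := Ideal.map_le_iff_le_comap.mpr fun x hx =>
        Ideal.mem_comap.mpr (mem_nilradical.mpr ((hI x hx).map _))
      exact mem_nilradical.mp (h2 h1)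
    obtain ⟨h₀, hh₀⟩ := GrothLib.MultLocal.exists_frame_of_equiv (GrothLib.Hopf.trivOfAway (R ⧸ I) E₀ e)
    obtain ⟨g, hg⟩ := GrothLib.MultLocal.exists_frame_of_nil h π hπ hnil hh₀
    haveI : Module.FaithfullyFlat R B :=
      Module.FaithfullyFlat.of_comap_surjective (GrothLib.MultLocal.comap_surjective_of_lift (S₀ := R ⧸ I)
        Ideal.Quotient.mk_surjective (fun a ha => hI a (Ideal.Quotient.eq_zero_iff_mem.mp ha)) π)
    exact ⟨B, inferInstance, inferInstance, hBet, hBfin, inferInstance, M, inferInstance, ⟨hg.equiv.symm⟩⟩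
  · rintro ⟨s₀, hs₀, hloc⟩
    refine ⟨Ideal.Quotient.mk I ⁻¹' s₀, ?_, fun f hf => ?_⟩
    · have hle : ∀ x ∈ (Ideal.span s₀ : Ideal (R ⧸ I)), x ∈ (Ideal.span (Ideal.Quotient.mk I ⁻¹' s₀)).map (Ideal.Quotient.mk I) := by
        intro x hx
        rw [Ideal.map_span, Set.image_preimage_eq _ Ideal.Quotient.mk_surjective]
        exact hx
      obtain ⟨y, hy, hy1⟩ := (Ideal.mem_map_iff_of_surjective _ Ideal.Quotient.mk_surjective).mp
        (hle 1 (hs₀ ▸ Submodule.mem_top))
      refine Ideal.eq_top_of_isUnit_mem _ hy ?_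
      have hy' : 1 - y ∈ I := Ideal.Quotient.eq_zero_iff_mem.mp (by rw [map_sub, map_one, hy1, sub_self])
      have := (hI _ hy').isUnit_one_sub
      rwa [sub_sub_cancel] at this
    · obtain ⟨E₀, _, _, hE, hff, M, _, ⟨e⟩⟩ := hloc _ hf
      let S := Localization.Away f
      let S₀ := Localization.Away (Ideal.Quotient.mk I f)
      let φ : S →+* S₀ := IsLocalization.Away.map S S₀ (Ideal.Quotient.mk I) f
      letI : Algebra S S₀ := φ.toAlgebra
      have hφ : ∀ r, φ (algebraMap R S r) = algebraMap R S₀ r := fun r => by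
        rw [IsScalarTower.algebraMap_apply R (R ⧸ I) S₀]
        exact IsLocalization.map_eq _ r
      haveI : IsScalarTower R S S₀ := IsScalarTower.of_algebraMap_eq fun r => (hφ r).symm
      have hmap : (Submonoid.powers f).map (Ideal.Quotient.mk I) = Submonoid.powers (Ideal.Quotient.mk I f) :=
        Submonoid.map_powers _ _
      haveI : IsLocalization ((Submonoid.powers f).map (Ideal.Quotient.mk I)) S₀ := by rw [hmap]; infer_instance
      have hs : Function.Surjective (algebraMap S S₀) :=
        IsLocalization.map_surjective_of_surjective (Submonoid.powers f) S S₀ Ideal.Quotient.mk_surjective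
      have hnil : ∀ a ∈ RingHom.ker (algebraMap S S₀), IsNilpotent a := fun a ha => by
        rw [RingHom.algebraMap_toAlgebra] at ha
        have hker : RingHom.ker φ = (RingHom.ker (Ideal.Quotient.mk I)).map (algebraMap R S) :=
          IsLocalization.ker_map S₀ (Ideal.Quotient.mk I) hmap
        have hle : (RingHom.ker (Ideal.Quotient.mk I)).map (algebraMap R S) ≤ nilradical S :=
          Ideal.map_le_iff_le_comap.mpr fun x hx => Ideal.mem_comap.mpr
            (mem_nilradical.mpr ((hI x (Ideal.Quotient.eq_zero_iff_mem.mp hx)).map _))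
        exact mem_nilradical.mp (hle (hker ▸ ha))
      letI : Algebra S E₀ := Algebra.compHom E₀ (algebraMap S S₀)
      haveI : IsScalarTower S S₀ E₀ := IsScalarTower.of_algebraMap_eq fun _ => rfl
      obtain ⟨T, _, _, π, hTet, hTff, hπ, hπnil⟩ := GrothLib.MultLocal.exists_etale_ff_lift hs hnil E₀
      letI : Algebra (R ⧸ I) E₀ := Algebra.compHom E₀ (algebraMap (R ⧸ I) S₀)
      haveI : IsScalarTower (R ⧸ I) S₀ E₀ := IsScalarTower.of_algebraMap_eq fun _ => rfl
      letI : Algebra R E₀ := Algebra.compHom E₀ (algebraMap R (R ⧸ I))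
      haveI : IsScalarTower R (R ⧸ I) E₀ := IsScalarTower.of_algebraMap_eq fun _ => rfl
      letI : Algebra R T := Algebra.compHom T (algebraMap R S)
      haveI : IsScalarTower R S T := IsScalarTower.of_algebraMap_eq fun _ => rfl
      obtain ⟨h₀, hh₀⟩ := GrothLib.MultLocal.exists_frame_of_equiv
        (GrothLib.Hopf.trivOfAway (R ⧸ I) E₀ (GrothLib.Hopf.trivOfAway S₀ E₀ e))
      let πR : T →ₐ[R] E₀ :=
        { π.toRingHom with
          commutes' := fun r => (π.commutes (algebraMap R S r)).trans
            ((congrArg (algebraMap S₀ E₀) (hφ r)).trans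
              (congrArg (algebraMap S₀ E₀) (IsScalarTower.algebraMap_apply R (R ⧸ I) S₀ r))) }
      obtain ⟨g, hg⟩ := GrothLib.MultLocal.exists_frame_of_nil h πR hπ hπnil hh₀
      exact ⟨T, inferInstance, inferInstance, hTet, hTff, M, inferInstance,
        ⟨(hg.push (GrothLib.Hopf.cancelBaseChange R S T A).symm).equiv.symm⟩⟩

end Groth.Agent.S2971
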