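import Groth.Statements.S2972
import Groth.Agent.Lib.MultLocal.Complete
import Groth.Agent.Lib.MultLocal.FiniteLift
import Groth.Agent.Lib.Hopf.Descent
import Groth.Agent.S3866

set_option autoImplicit false
universe u
open TensorProduct SGA3b
open SGA3b

namespace Groth.Agent.S2972

/-- Let R be a Noetherian ring, separated and complete for the I-adic topology, and H = Spec A an
R-group of multiplicative type and of finite type. If the base change of H to R/I is isotrivial,
then H is isotrivial. (Affine group schemes over an affine base are taken in Hopf-algebra form; base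
change is the tensor product.) -/
theorem result (R : Type u) [CommRing R] (A : Type u) [CommRing A] [HopfAlgebra R A] [IsNoetherianRing R] (I : Ideal R) [IsAdicComplete I R]
    (hft : Algebra.FiniteType R A) (h : IsMultType R A) (h0 : IsIsotrivial (R ⧸ I) ((R ⧸ I) ⊗[R] A)) :
    IsIsotrivial R A := by
  obtain ⟨E₀, _, _, hE, hfin, hff, M, _, ⟨e⟩⟩ := h0
  haveI : HenselianRing R I := inferInstance
  letI : Algebra R E₀ := Algebra.compHom E₀ (algebraMap R (R ⧸ I))
  haveI : IsScalarTower R (R ⧸ I) E₀ := IsScalarTower.of_algebraMap_eq fun _ => rfl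
  obtain ⟨B, _, _, π, hBfin, hBet, hBff, hπ, hker⟩ := GrothLib.MultLocal.exists_finite_etale_ff_lift I E₀
  haveI := hBfin
  haveI : IsNoetherianRing B := IsNoetherianRing.of_finite R B
  let J := I.map (algebraMap R B)
  haveI : IsAdicComplete J B :=
    (IsAdicComplete.map_algebraMap_iff I B (S := B)).mpr (Groth.Agent.S3866.result R I B)
  obtain ⟨h₀, hh₀⟩ := GrothLib.MultLocal.exists_frame_of_equiv (GrothLib.Hopf.trivOfAway (R ⧸ I) E₀ e)
  let q : E₀ →ₐ[R] B ⧸ J :=
    ((Ideal.quotientKerAlgEquivOfSurjective hπ).symm.trans (Ideal.quotientEquivAlgOfEq R hker)).toAlgHom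
  obtain ⟨g, hg⟩ := GrothLib.MultLocal.exists_frame_of_adic J h (hh₀.map q)
  exact ⟨B, inferInstance, inferInstance, hBet, hBfin, hBff, M, inferInstance, ⟨hg.equiv.symm⟩⟩

end Groth.Agent.S2972
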