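import Groth.Statements.S2975
import Groth.Agent.Lib.MultLocal.AtPrime
import Mathlib.RingTheory.SurjectiveOnStalks

set_option autoImplicit false
universe u
open TensorProduct SGA3b
open SGA3b

namespace Groth.Agent.S2975

/-- Connectedness of the fibres passes to localisations of the base. -/
theorem connected_fibre_of_isLocalization {R : Type u} [CommRing R] (S : Submonoid R) (B : Type u) [CommRing B]
    [Algebra R B] [IsLocalization S B] (A : Type u) [CommRing A] [Algebra R A] (P : Ideal B) [P.IsPrime]
    (P₀ : Ideal R) [P₀.IsPrime] (hP : P₀ = P.comap (algebraMap R B))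
    (h : ConnectedSpace (PrimeSpectrum (P₀.ResidueField ⊗[R] A))) :
    ConnectedSpace (PrimeSpectrum (P.ResidueField ⊗[B] (B ⊗[R] A))) := by
  let χ : P₀.ResidueField →ₐ[R] P.ResidueField := Ideal.ResidueField.mapₐ P₀ P (Algebra.ofId R B) hP
  have hχ : Function.Bijective χ :=
    (RingHom.surjectiveOnStalks_of_isLocalization S B).residueFieldMap_bijective P₀ P hP
  let ρ : P.ResidueField ⊗[B] (B ⊗[R] A) ≃+* P₀.ResidueField ⊗[R] A :=
    (Algebra.TensorProduct.cancelBaseChange R B B P.ResidueField A).toRingEquiv.trans
      (Algebra.TensorProduct.congr (AlgEquiv.ofBijective χ hχ).symm (AlgEquiv.refl : A ≃ₐ[R] A)).toRingEquiv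
  exact (PrimeSpectrum.homeomorphOfRingEquiv ρ).symm.surjective.connectedSpace
    (PrimeSpectrum.homeomorphOfRingEquiv ρ).symm.continuous

/-- Let H = Spec A be an R-group with A flat and of finite presentation over R, such that for every
prime p of R the fibre of H over κ(p) is of multiplicative type and connected. Then H is of
multiplicative type (its type being locally constant on Spec R). (Affine group schemes over an
affine base are taken in Hopf-algebra form; base change is the tensor product.) -/
theorem result (R : Type u) [CommRing R] (A : Type u) [CommRing A] [HopfAlgebra R A] [Module.Flat R A] (hfp : Algebra.FinitePresentation R A)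
    (hfib : ∀ (p : Ideal R) [p.IsPrime], IsMultType p.ResidueField (p.ResidueField ⊗[R] A) ∧
      ConnectedSpace (PrimeSpectrum (p.ResidueField ⊗[R] A))) :
    IsMultType R A := by
  haveI := hfp
  refine GrothLib.MultLocal.isMultType_of_atPrime fun p _ => ?_
  obtain ⟨h1, h2⟩ := GrothLib.MultLocal.fibre_hyps A p (hfib p).1
  exact Groth.Agent.S5298.result (Localization.AtPrime p) (Localization.AtPrime p ⊗[R] A) inferInstance h1 h2
    fun P _ => connected_fibre_of_isLocalization p.primeCompl (Localization.AtPrime p) A P
      (P.comap (algebraMap R (Localization.AtPrime p))) rfl (hfib _).2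

end Groth.Agent.S2975
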