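import Groth.Statements.S5251
import Groth.Agent.Lib.MultLocal.Formal
import Groth.Agent.Lib.MultLocal.ConnFibre
import Groth.Agent.Lib.MultLocal.FiniteLift
import Groth.Agent.Lib.Hopf.Descent
import Groth.Agent.S3866

set_option autoImplicit false
universe u
open TensorProduct SGA3b
open SGA3b

namespace Groth.Agent.S5251

/-- Let A be a Noetherian ring, separated and complete for the I-adic topology, and H = Spec C an affine
A-group with C flat and of finite type over A, such that every fibre Spec (κ(p) ⊗ C) of H is
connected and the reduction H₀ = Spec ((A/I) ⊗ C) is an isotrivial (A/I)-group of multiplicative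
type. Then H is an isotrivial A-group of multiplicative type. (Affine group schemes over an affine
base are taken in Hopf-algebra form; base change is the tensor product; a homomorphism of groups
Spec A ⟶ Spec C is a bialgebra map C → A.) -/
theorem result (A : Type u) [CommRing A] [IsNoetherianRing A] (I : Ideal A) [IsAdicComplete I A]
    (C : Type u) [CommRing C] [HopfAlgebra A C] [Module.Flat A C] (hft : Algebra.FiniteType A C)
    (hconn : ∀ (p : Ideal A) [p.IsPrime], ConnectedSpace (PrimeSpectrum (p.ResidueField ⊗[A] C)))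
    (h0 : IsIsotrivial (A ⧸ I) ((A ⧸ I) ⊗[A] C)) :
    IsIsotrivial A C := by
  obtain ⟨E₀, _, _, hE, hfin, hff, M, _, ⟨e⟩⟩ := h0
  haveI : HenselianRing A I := inferInstance
  letI : Algebra A E₀ := Algebra.compHom E₀ (algebraMap A (A ⧸ I))
  haveI : IsScalarTower A (A ⧸ I) E₀ := IsScalarTower.of_algebraMap_eq fun _ => rfl
  obtain ⟨B, _, _, π, hBfin, hBet, hBff, hπ, hker⟩ := GrothLib.MultLocal.exists_finite_etale_ff_lift I E₀
  haveI := hBfin
  haveI := hft
  haveI : IsNoetherianRing B := IsNoetherianRing.of_finite A B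
  haveI : IsNoetherianRing (B ⊗[A] C) := Algebra.FiniteType.isNoetherianRing B _
  let J := I.map (algebraMap A B)
  haveI : IsAdicComplete J B :=
    (IsAdicComplete.map_algebraMap_iff I B (S := B)).mpr (Groth.Agent.S3866.result A I B)
  obtain ⟨h₀, hh₀⟩ := GrothLib.MultLocal.exists_frame_of_equiv (GrothLib.Hopf.trivOfAway (A ⧸ I) E₀ e)
  let q : E₀ →ₐ[A] B ⧸ J :=
    ((Ideal.quotientKerAlgEquivOfSurjective hπ).symm.trans (Ideal.quotientEquivAlgOfEq A hker)).toAlgHom
  obtain ⟨f, d, hsurj, hd, hfd, hdk, -, -⟩ := GrothLib.MultLocal.exists_formal_subgroup J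
    (fun n => inferInstance) (hh₀.map q)
  have hd0 : d = 0 := by
    refine GrothLib.MultLocal.eq_zero_of_connected_fibres_baseChange B hconn hd ?_
    rw [← CoalgHomClass.counit_comp_apply f d, hfd, map_zero]
  have hinj : Function.Injective f := (injective_iff_map_eq_zero f).mpr fun k hk => by
    rw [← hdk k hk, hd0, zero_mul]
  exact ⟨B, inferInstance, inferInstance, hBet, hBfin, hBff, M, inferInstance,
    ⟨BialgEquiv.ofBijective f ⟨hinj, hsurj⟩⟩⟩

end Groth.Agent.S5251
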