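import Groth.Statements.S5277
import Groth.Agent.S5251
import Groth.Agent.Lib.MultLocal.Frame
import Groth.Agent.Lib.Hopf.Descent
import Mathlib.RingTheory.Bialgebra.MonoidAlgebra
import Mathlib.Algebra.Group.ULift

set_option autoImplicit false
universe u
open TensorProduct SGA3b
open SGA3b

namespace Groth.Agent.S5277

theorem exists_mulEquiv_of_torus {R : Type u} [CommRing R] [Nontrivial R] {A : Type u} [CommRing A] [HopfAlgebra R A]
    (E : Type u) [CommRing E] [Algebra R E] [Module.FaithfullyFlat R E] {M : Type u} [CommGroup M]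
    {g : M →* GroupLike E (E ⊗[R] A)} (hg : GrothLib.MultLocal.IsFrame g) (h : IsTorus R A) :
    ∃ n : ℕ, Nonempty (M ≃* Multiplicative (Fin n → ℤ)) := by
  obtain ⟨s, hs, hloc⟩ := h
  obtain ⟨m, hm⟩ := Ideal.exists_maximal R
  obtain ⟨f, hfs, hf⟩ : ∃ f ∈ s, f ∉ m := by
    by_contra! hc
    exact hm.ne_top (top_le_iff.mp (hs ▸ Ideal.span_le.mpr hc))
  obtain ⟨R', _, _, hff, n, ⟨e⟩⟩ := hloc f hfs
  letI : Algebra R R' := Algebra.compHom R' (algebraMap R (Localization.Away f))
  haveI : IsScalarTower R (Localization.Away f) R' := IsScalarTower.of_algebraMap_eq fun _ => rfl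
  let N := ULift.{u} (Multiplicative (Fin n → ℤ))
  let e' := (GrothLib.Hopf.cancelBaseChange R (Localization.Away f) R' A).symm.trans
    (e.trans (MonoidAlgebra.domCongrBialgEquiv (R := R') (A := R') ((MulEquiv.ulift : N ≃* Multiplicative (Fin n → ℤ)).symm :
      Multiplicative (Fin n → ℤ) ≃* N)))
  obtain ⟨g', hg'⟩ := GrothLib.MultLocal.exists_frame_of_equiv (M := N) e'
  haveI : Nontrivial R' := by
    haveI := hff
    obtain ⟨p, hp⟩ : ∃ p : PrimeSpectrum (Localization.Away f), True := by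
      haveI := hm.isPrime
      exact ⟨⟨m.map (algebraMap R _), IsLocalization.isPrime_of_isPrime_disjoint (Submonoid.powers f) _ m inferInstance
        ((Ideal.disjoint_powers_iff_notMem f hm.isPrime.isRadical).mpr hf)⟩, trivial⟩
    obtain ⟨q, -⟩ := PrimeSpectrum.comap_surjective_of_faithfullyFlat (B := R') p
    exact ⟨0, 1, fun h => q.isPrime.ne_top ((Ideal.eq_top_iff_one _).mpr (h ▸ q.asIdeal.zero_mem))⟩
  let W := R' ⊗[R] E
  haveI : Nontrivial W := by
    obtain ⟨p, hp⟩ := Ideal.exists_maximal R'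
    obtain ⟨q, -⟩ := PrimeSpectrum.comap_surjective_of_faithfullyFlat (B := W) (⟨p, hp.isPrime⟩ : PrimeSpectrum R')
    exact ⟨0, 1, fun h => q.isPrime.ne_top ((Ideal.eq_top_iff_one _).mpr (h ▸ q.asIdeal.zero_mem))⟩
  obtain ⟨P, hP⟩ := Ideal.exists_maximal W
  letI := Ideal.Quotient.field P
  let K := W ⧸ P
  have h1 := hg.map ((Ideal.Quotient.mkₐ R P).comp (Algebra.TensorProduct.includeRight : E →ₐ[R] W))
  have h2 := hg'.map ((Ideal.Quotient.mkₐ R P).comp (Algebra.TensorProduct.includeLeft : R' →ₐ[R] W))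
  exact ⟨n, ⟨((MulEquiv.ofBijective _ ⟨h1.injective, h1.surjective⟩).trans
    (MulEquiv.ofBijective _ ⟨h2.injective, h2.surjective⟩).symm).trans MulEquiv.ulift⟩⟩

/-- Let A be a Noetherian ring, separated and complete for the I-adic topology, and H = Spec C an affine
A-group with C flat and of finite type over A, all of whose fibres Spec (κ(p) ⊗ C) are connected. If
the reduction H₀ = Spec ((A/I) ⊗ C) is an isotrivial torus over A/I, then H is an isotrivial torus
over A. (Affine group schemes over an affine base are taken in Hopf-algebra form; base change is the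
tensor product; a homomorphism of groups Spec A ⟶ Spec C is a bialgebra map C → A.) -/
theorem result (A : Type u) [CommRing A] [IsNoetherianRing A] (I : Ideal A) [IsAdicComplete I A]
    (C : Type u) [CommRing C] [HopfAlgebra A C] [Module.Flat A C] (hft : Algebra.FiniteType A C)
    (hconn : ∀ (p : Ideal A) [p.IsPrime], ConnectedSpace (PrimeSpectrum (p.ResidueField ⊗[A] C)))
    (h0 : IsIsotrivial (A ⧸ I) ((A ⧸ I) ⊗[A] C) ∧ IsTorus (A ⧸ I) ((A ⧸ I) ⊗[A] C)) :
    IsIsotrivial A C ∧ IsTorus A C := by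
  have hiso := Groth.Agent.S5251.result A I C hft hconn h0.1
  refine ⟨hiso, ?_⟩
  obtain ⟨B, _, _, hBet, hBfin, hBff, M, _, ⟨e⟩⟩ := hiso
  haveI := hBff
  obtain ⟨g, hg⟩ := GrothLib.MultLocal.exists_frame_of_equiv e
  refine ⟨{1}, Ideal.span_singleton_one, fun f _ => ?_⟩
  let R₁ := Localization.Away f
  rcases subsingleton_or_nontrivial A with hA | hA
  · haveI : Subsingleton R₁ := Module.subsingleton A R₁
    haveI : Subsingleton (R₁ ⊗[R₁] (R₁ ⊗[A] C)) := Module.subsingleton R₁ _
    haveI : Subsingleton (MonoidAlgebra R₁ (Multiplicative (Fin 0 → ℤ))) := Module.subsingleton R₁ _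
    let ae : (R₁ ⊗[R₁] (R₁ ⊗[A] C)) ≃ₐ[R₁] MonoidAlgebra R₁ (Multiplicative (Fin 0 → ℤ)) :=
      { toFun := fun _ => 0, invFun := fun _ => 0, left_inv := fun _ => Subsingleton.elim _ _,
        right_inv := fun _ => Subsingleton.elim _ _, map_mul' := fun _ _ => Subsingleton.elim _ _,
        map_add' := fun _ _ => Subsingleton.elim _ _, commutes' := fun _ => Subsingleton.elim _ _ }
    exact ⟨R₁, inferInstance, inferInstance, inferInstance, 0,
      ⟨BialgEquiv.ofAlgEquiv ae (AlgHom.ext fun _ => Subsingleton.elim _ _)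
        (AlgHom.ext fun _ => (Module.subsingleton R₁ _).elim _ _)⟩⟩
  · haveI : Nontrivial (A ⧸ I) := Ideal.Quotient.nontrivial_iff.mpr fun htop => by
      have h1 : (1 : A) ∈ (⊥ : Ideal A).jacobson := IsAdicComplete.le_jacobson_bot I (htop ▸ Submodule.mem_top)
      exact one_ne_zero (α := A) (by
        obtain ⟨m, hm⟩ := Ideal.exists_maximal A
        exact absurd ((Ideal.eq_top_iff_one m).mpr ((Ideal.jacobson_bot (R := A) ▸ Ring.jacobson_le_of_isMaximal m) h1))
          hm.ne_top)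
    let E₀ := (A ⧸ I) ⊗[A] B
    have hg₀ := (hg.map (Algebra.TensorProduct.includeRight : B →ₐ[A] E₀)).push
      (GrothLib.Hopf.cancelBaseChange A (A ⧸ I) E₀ C).symm
    obtain ⟨n, ⟨σ⟩⟩ := exists_mulEquiv_of_torus E₀ hg₀ h0.2
    have hgR := (hg.map (Algebra.TensorProduct.includeRight : B →ₐ[A] R₁ ⊗[A] B)).push
      (GrothLib.Hopf.cancelBaseChange A R₁ (R₁ ⊗[A] B) C).symm
    exact ⟨R₁ ⊗[A] B, inferInstance, inferInstance, inferInstance, n,
      ⟨hgR.equiv.symm.trans (MonoidAlgebra.domCongrBialgEquiv (R := R₁ ⊗[A] B) (A := R₁ ⊗[A] B) σ)⟩⟩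

end Groth.Agent.S5277
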