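import Groth.Statements.S2976
import Groth.Agent.S2975
import Groth.Agent.S5277
import Mathlib.Algebra.MonoidAlgebra.NoZeroDivisors

set_option autoImplicit false
universe u
open TensorProduct SGA3b
open SGA3b

namespace Groth.Agent.S2976

theorem isMultType_of_isTorus {R : Type u} [CommRing R] {A : Type u} [CommRing A] [HopfAlgebra R A]
    (h : IsTorus R A) : IsMultType R A := by
  obtain ⟨s, hs, hloc⟩ := h
  refine ⟨s, hs, fun f hf => ?_⟩
  obtain ⟨R', _, _, hff, n, ⟨e⟩⟩ := hloc f hf
  exact ⟨R', inferInstance, inferInstance, hff, ULift.{u} (Multiplicative (Fin n → ℤ)), inferInstance,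
    ⟨e.trans (MonoidAlgebra.domCongrBialgEquiv (R := R') (A := R')
      (MulEquiv.ulift : ULift.{u} (Multiplicative (Fin n → ℤ)) ≃* Multiplicative (Fin n → ℤ)).symm)⟩⟩

theorem connectedSpace_of_torus {k : Type u} [Field k] {A : Type u} [CommRing A] [HopfAlgebra k A]
    (h : IsTorus k A) : ConnectedSpace (PrimeSpectrum A) := by
  obtain ⟨s, hs, hloc⟩ := h
  obtain ⟨f, hfs, hf⟩ : ∃ f ∈ s, f ∉ (⊥ : Ideal k) := by
    by_contra! hc
    exact (bot_ne_top : (⊥ : Ideal k) ≠ ⊤) (top_le_iff.mp (hs ▸ Ideal.span_le.mpr hc))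
  obtain ⟨R', _, _, hff, n, ⟨e⟩⟩ := hloc f hfs
  letI : Algebra k R' := Algebra.compHom R' (algebraMap k (Localization.Away f))
  haveI : IsScalarTower k (Localization.Away f) R' := IsScalarTower.of_algebraMap_eq fun _ => rfl
  have hdis := (Ideal.disjoint_powers_iff_notMem f (Ideal.bot_prime (α := k)).isRadical).mpr hf
  haveI hbot : ((⊥ : Ideal k).map (algebraMap k (Localization.Away f))).IsPrime :=
    IsLocalization.isPrime_of_isPrime_disjoint (Submonoid.powers f) _ ⊥ Ideal.bot_prime hdis
  haveI : Nontrivial R' := by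
    haveI := hff
    obtain ⟨q, -⟩ := PrimeSpectrum.comap_surjective_of_faithfullyFlat (B := R')
      (⟨_, hbot⟩ : PrimeSpectrum (Localization.Away f))
    exact ⟨0, 1, fun h => q.isPrime.ne_top ((Ideal.eq_top_iff_one _).mpr (h ▸ q.asIdeal.zero_mem))⟩
  obtain ⟨m, hm⟩ := Ideal.exists_maximal R'
  letI := Ideal.Quotient.field m
  let K := R' ⧸ m
  let N := ULift.{u} (Multiplicative (Fin n → ℤ))
  let ρ : K ⊗[k] A ≃+* MonoidAlgebra K (Multiplicative (Fin n → ℤ)) :=
    ((GrothLib.Hopf.trivBaseChange (S := R') (M := N) K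
      ((GrothLib.Hopf.cancelBaseChange k (Localization.Away f) R' A).symm.trans
        (e.trans (MonoidAlgebra.domCongrBialgEquiv (R := R') (A := R')
          (MulEquiv.ulift : N ≃* Multiplicative (Fin n → ℤ)).symm)))).trans
      (MonoidAlgebra.domCongrBialgEquiv (R := K) (A := K)
        (MulEquiv.ulift : N ≃* Multiplicative (Fin n → ℤ)))).toAlgEquiv.toRingEquiv
  haveI : IsDomain (MonoidAlgebra K (Multiplicative (Fin n → ℤ))) := NoZeroDivisors.to_isDomain _
  haveI : ConnectedSpace (PrimeSpectrum (K ⊗[k] A)) :=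
    (PrimeSpectrum.homeomorphOfRingEquiv ρ).symm.surjective.connectedSpace
      (PrimeSpectrum.homeomorphOfRingEquiv ρ).symm.continuous
  let τ := PrimeSpectrum.homeomorphOfRingEquiv (Algebra.TensorProduct.comm k K A).toRingEquiv
  haveI : ConnectedSpace (PrimeSpectrum (A ⊗[k] K)) := τ.surjective.connectedSpace τ.continuous
  exact (PrimeSpectrum.comap_surjective_of_faithfullyFlat (A := A) (B := A ⊗[k] K)).connectedSpace
    (PrimeSpectrum.continuous_comap _)

theorem isTorusConst_of_fibre {R : Type u} [CommRing R] {A : Type u} [CommRing A] [HopfAlgebra R A]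
    (p : Ideal R) [p.IsPrime] (f : R) (hf : f ∉ p)
    (h : IsTorus p.ResidueField (p.ResidueField ⊗[R] A))
    (hmt : IsMultTypeConst (Localization.Away f) (Localization.Away f ⊗[R] A)) :
    IsTorusConst (Localization.Away f) (Localization.Away f ⊗[R] A) := by
  obtain ⟨R', _, _, hff, M, _, ⟨d⟩⟩ := hmt
  haveI := hff
  let B := Localization.Away f
  letI : Algebra R R' := Algebra.compHom R' (algebraMap R B)
  haveI : IsScalarTower R B R' := IsScalarTower.of_algebraMap_eq fun _ => rfl
  obtain ⟨g, hg⟩ := GrothLib.MultLocal.exists_frame_of_equiv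
    ((GrothLib.Hopf.cancelBaseChange R B R' A).symm.trans d)
  have hdis := (Ideal.disjoint_powers_iff_notMem f (‹p.IsPrime›).isRadical).mpr hf
  haveI hpB : (p.map (algebraMap R B)).IsPrime :=
    IsLocalization.isPrime_of_isPrime_disjoint (Submonoid.powers f) B p inferInstance hdis
  obtain ⟨P, hP⟩ := PrimeSpectrum.comap_surjective_of_faithfullyFlat (B := R') ⟨p.map (algebraMap R B), hpB⟩
  have hPp : p = P.asIdeal.comap (algebraMap R R') := by
    rw [IsScalarTower.algebraMap_eq R B R', ← Ideal.comap_comap]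
    change p = Ideal.comap _ (PrimeSpectrum.comap (algebraMap B R') P).asIdeal
    rw [hP, ← Ideal.under_def (A := R), IsLocalization.under_map_of_isPrime_disjoint (Submonoid.powers f) B inferInstance hdis]
  let κ := p.ResidueField
  let K := P.asIdeal.ResidueField
  let χ : κ →ₐ[R] K := Ideal.ResidueField.mapₐ p P.asIdeal (Algebra.ofId R R') hPp
  letI : Algebra κ K := χ.toRingHom.toAlgebra
  haveI : IsScalarTower R κ K := IsScalarTower.of_algebraMap_eq fun r => (χ.commutes r).symm
  obtain ⟨n, ⟨σ⟩⟩ := Groth.Agent.S5277.exists_mulEquiv_of_torus K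
    ((hg.map (IsScalarTower.toAlgHom R R' K)).push (GrothLib.Hopf.cancelBaseChange R κ K A).symm) h
  exact ⟨R', inferInstance, inferInstance, hff, n,
    ⟨d.trans (MonoidAlgebra.domCongrBialgEquiv (R := R') (A := R') σ)⟩⟩

/-- Let H = Spec A be an R-group with A flat and of finite presentation over R, such that for every
prime p of R the fibre of H over κ(p) is a torus. Then H is a torus (of locally constant rank).
(Affine group schemes over an affine base are taken in Hopf-algebra form; base change is the tensor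
product.) -/
theorem result (R : Type u) [CommRing R] (A : Type u) [CommRing A] [HopfAlgebra R A] [Module.Flat R A] (hfp : Algebra.FinitePresentation R A)
    (hfib : ∀ (p : Ideal R) [p.IsPrime], IsTorus p.ResidueField (p.ResidueField ⊗[R] A)) : IsTorus R A := by
  haveI := hfp
  obtain ⟨s, hs, hloc⟩ := Groth.Agent.S2975.result R A hfp fun p _ =>
    ⟨isMultType_of_isTorus (hfib p), connectedSpace_of_torus (hfib p)⟩
  refine ⟨{f | IsTorusConst (Localization.Away f) (Localization.Away f ⊗[R] A)}, ?_, fun f hf => hf⟩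
  by_contra hne
  obtain ⟨p, hp, hle⟩ := Ideal.exists_le_maximal _ hne
  haveI := hp.isPrime
  obtain ⟨f, hfs, hf⟩ : ∃ f ∈ s, f ∉ p := by
    by_contra! hc
    exact hp.ne_top (top_le_iff.mp (hs ▸ Ideal.span_le.mpr hc))
  exact hf (hle (Ideal.subset_span (isTorusConst_of_fibre p f hf (hfib p) (hloc f hfs))))

end Groth.Agent.S2976
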