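import Groth.Statements.S2978
import Mathlib.RingTheory.Noetherian.Basic

set_option autoImplicit false
universe u
open SGA3b

namespace Groth.Agent.S2978

/-- Finitely many of the vectors span all of them. -/
theorem exists_finite_generators (A : Type u) [CommRing A] [IsNoetherianRing A] (M : Type u) {ι : Type u} [Fintype ι]
    (b : ι → M → A) :
    ∃ t : Set M, t.Finite ∧ ∀ m, (fun i => b i m) ∈ Submodule.span A ((fun n i => b i n) '' t) := by
  classical
  have hfg : (Submodule.span A (Set.range fun m i => b i m)).FG := IsNoetherian.noetherian _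
  obtain ⟨F, hF⟩ := hfg
  have hsub : ∀ x ∈ F, ∃ T : Set M, T.Finite ∧ x ∈ Submodule.span A ((fun n i => b i n) '' T) := by
    intro x hx
    have hmem : x ∈ Submodule.span A ((fun n i => b i n) '' (Set.univ : Set M)) := by
      rw [Set.image_univ, ← hF]; exact Submodule.subset_span hx
    obtain ⟨T, hT, hxT⟩ := Submodule.mem_span_finite_of_mem_span hmem
    choose g hg using fun y : T => hT y.2
    refine ⟨Set.range g, Set.finite_range g, Submodule.span_mono ?_ hxT⟩
    intro y hy
    exact ⟨g ⟨y, hy⟩, ⟨_, rfl⟩, (hg ⟨y, hy⟩).2⟩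
  choose T hTf hT using hsub
  refine ⟨⋃ x : F, T x x.2, Set.finite_iUnion fun x => hTf x x.2, fun m => ?_⟩
  have : (fun i => b i m) ∈ Submodule.span A (Set.range fun m i => b i m) := Submodule.subset_span ⟨m, rfl⟩
  rw [← hF] at this
  refine Submodule.span_le.mpr (fun x hx => ?_) this
  exact Submodule.span_mono (Set.image_mono (Set.subset_iUnion (fun x : F => T x x.2) ⟨x, hx⟩)) (hT x hx)


/-- Let A be a Noetherian ring, M a set and a : M × M → A a family vanishing off the diagonal which is a
finite sum of decomposable families: a(m, m') = Σ_i b_i(m) c_i(m') for finitely many b_i, c_i : M →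
A. Then a has finite support. -/
theorem result (A : Type u) [CommRing A] [IsNoetherianRing A] (M : Type u)
    (a : M × M → A) (hdiag : ∀ m m', m ≠ m' → a (m, m') = 0)
    (ι : Type u) [Fintype ι] (b c : ι → M → A) (hdec : ∀ m m', a (m, m') = ∑ i, b i m * c i m') :
    Set.Finite {p : M × M | a p ≠ 0} := by
  classical
  obtain ⟨t, ht, hspan⟩ := exists_finite_generators A M b
  refine ((ht.prod ht).subset fun p hp => ?_)
  obtain ⟨m, m'⟩ := p
  obtain rfl : m = m' := by
    by_contra h
    exact hp (hdiag m m' h)
  refine ⟨?_, ?_⟩ <;>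
  · by_contra hm
    refine hp ?_
    have hzero : ∀ n ∈ t, ∑ i, b i n * c i m = 0 := fun n hn => by
      rw [← hdec, hdiag n m]
      rintro rfl
      exact hm hn
    have hmem := hspan m
    have : ∀ v ∈ Submodule.span A ((fun n i => b i n) '' t), ∑ i, v i * c i m = 0 := by
      intro v hv
      induction hv using Submodule.span_induction with
      | mem x hx => obtain ⟨n, hn, rfl⟩ := hx; exact hzero n hn
      | zero => simp
      | add x y _ _ hx hy => simp [add_mul, Finset.sum_add_distrib, hx, hy]
      | smul r x _ hx => simp [mul_assoc, ← Finset.mul_sum, hx]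
    rw [hdec]
    exact this _ hmem

end Groth.Agent.S2978
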