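import Groth.Statements.S2979
import Groth.Agent.Lib.MultLocal.EffectiveNil
import Groth.Agent.Lib.MultLocal.EtaleLift
import Groth.Agent.Lib.Hopf.Descent

set_option autoImplicit false
universe u
open TensorProduct SGA3b
open SGA3b

namespace Groth.Agent.S2979

theorem faithfullyFlat_pi_of_cover {R : Type u} [CommRing R] {ι : Type u} [Fintype ι] (f : ι → R)
    (hf : Ideal.span (Set.range f) = ⊤) (T : ι → Type u) [∀ i, CommRing (T i)] [∀ i, Algebra R (T i)]
    [∀ i, Algebra (Localization.Away (f i)) (T i)] [∀ i, IsScalarTower R (Localization.Away (f i)) (T i)]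
    [∀ i, Module.FaithfullyFlat (Localization.Away (f i)) (T i)] : Module.FaithfullyFlat R (∀ i, T i) := by
  haveI : ∀ i, Module.Flat R (T i) := fun i => Module.Flat.trans R (Localization.Away (f i)) (T i)
  haveI : Module.Flat R (∀ i, T i) :=
    Module.Flat.of_linearEquiv (DFinsupp.linearEquivFunOnFintype (R := R) (M := T)).symm
  refine Module.FaithfullyFlat.of_comap_surjective fun p => ?_
  obtain ⟨i, hi⟩ : ∃ i, f i ∉ p.asIdeal := by
    by_contra h
    simp only [not_exists, not_not] at h
    exact p.isPrime.ne_top (top_le_iff.mp (hf ▸ Ideal.span_le.mpr (Set.range_subset_iff.mpr h)))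
  obtain ⟨p', hp'⟩ : p ∈ Set.range (PrimeSpectrum.comap (algebraMap R (Localization.Away (f i)))) := by
    rw [PrimeSpectrum.localization_away_comap_range (Localization.Away (f i)) (f i)]
    exact hi
  obtain ⟨q, hq⟩ := PrimeSpectrum.comap_surjective_of_faithfullyFlat (B := T i) p'
  refine ⟨PrimeSpectrum.comap (Pi.evalRingHom T i) q, ?_⟩
  rw [← hp', ← hq, ← PrimeSpectrum.comap_comp_apply, ← PrimeSpectrum.comap_comp_apply]
  refine congrArg (fun φ => PrimeSpectrum.comap φ q) (RingHom.ext fun r => ?_)
  exact IsScalarTower.algebraMap_apply R (Localization.Away (f i)) (T i) r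

theorem exists_chart {R : Type u} [CommRing R] (I : Ideal R) (hI : ∀ x ∈ I, IsNilpotent x) (f : R)
    (E : Type u) [CommRing E] [Algebra (Localization.Away (Ideal.Quotient.mk I f)) E]
    [Algebra.Etale (Localization.Away (Ideal.Quotient.mk I f)) E]
    [Module.FaithfullyFlat (Localization.Away (Ideal.Quotient.mk I f)) E]
    [Algebra R E] [Algebra (R ⧸ I) E] [IsScalarTower R (R ⧸ I) E]
    [IsScalarTower (R ⧸ I) (Localization.Away (Ideal.Quotient.mk I f)) E] :
    ∃ (T : Type u) (_ : CommRing T) (_ : Algebra (Localization.Away f) T) (_ : Algebra R T)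
      (_ : IsScalarTower R (Localization.Away f) T) (π : T →ₐ[R] E),
      Algebra.Etale (Localization.Away f) T ∧ Module.FaithfullyFlat (Localization.Away f) T ∧ Function.Surjective π ∧
        ∀ a ∈ RingHom.ker (π : T →+* E), IsNilpotent a := by
  let S := Localization.Away f
  let S₀ := Localization.Away (Ideal.Quotient.mk I f)
  let φ : S →+* S₀ := IsLocalization.Away.map S S₀ (Ideal.Quotient.mk I) f
  letI : Algebra S S₀ := φ.toAlgebra
  have hφ : ∀ r, φ (algebraMap R S r) = algebraMap R S₀ r := fun r => by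
    rw [IsScalarTower.algebraMap_apply R (R ⧸ I) S₀]
    exact IsLocalization.map_eq _ r
  have hmap : (Submonoid.powers f).map (Ideal.Quotient.mk I) = Submonoid.powers (Ideal.Quotient.mk I f) :=
    Submonoid.map_powers _ _
  haveI : IsLocalization ((Submonoid.powers f).map (Ideal.Quotient.mk I)) S₀ := by rw [hmap]; infer_instance
  have hs : Function.Surjective (algebraMap S S₀) :=
    IsLocalization.map_surjective_of_surjective (Submonoid.powers f) S S₀ Ideal.Quotient.mk_surjective
  have hnil : ∀ a ∈ RingHom.ker (algebraMap S S₀), IsNilpotent a := fun a ha => by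
    rw [RingHom.algebraMap_toAlgebra] at ha
    have hker : RingHom.ker φ = (RingHom.ker (Ideal.Quotient.mk I)).map (algebraMap R S) :=
      IsLocalization.ker_map S₀ (Ideal.Quotient.mk I) hmap
    have hle : (RingHom.ker (Ideal.Quotient.mk I)).map (algebraMap R S) ≤ nilradical S :=
      Ideal.map_le_iff_le_comap.mpr fun x hx => Ideal.mem_comap.mpr
        (mem_nilradical.mpr ((hI x (Ideal.Quotient.eq_zero_iff_mem.mp hx)).map _))
    exact mem_nilradical.mp (hle (hker ▸ ha))
  letI : Algebra S E := Algebra.compHom E (algebraMap S S₀)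
  haveI : IsScalarTower S S₀ E := IsScalarTower.of_algebraMap_eq fun _ => rfl
  obtain ⟨T, _, _, π, hTet, hTff, hπ, hπnil⟩ := GrothLib.MultLocal.exists_etale_ff_lift hs hnil E
  letI : Algebra R T := Algebra.compHom T (algebraMap R S)
  haveI : IsScalarTower R S T := IsScalarTower.of_algebraMap_eq fun _ => rfl
  let πR : T →ₐ[R] E :=
    { π.toRingHom with
      commutes' := fun r => (π.commutes (algebraMap R S r)).trans
        ((congrArg (algebraMap S₀ E) ((hφ r).trans (IsScalarTower.algebraMap_apply R (R ⧸ I) S₀ r))).trans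
          ((IsScalarTower.algebraMap_apply (R ⧸ I) S₀ E _).symm.trans
            (IsScalarTower.algebraMap_apply R (R ⧸ I) E r).symm)) }
  exact ⟨T, inferInstance, inferInstance, inferInstance, inferInstance, πR, hTet, hTff, hπ, hπnil⟩

/-- Let R be a ring and I an ideal consisting of nilpotent elements. Every quasi-isotrivial (R/I)-group
of multiplicative type Spec A₀ is the base change of some quasi-isotrivial R-group of multiplicative
type Spec A. (Affine group schemes over an affine base are taken in Hopf-algebra form; base change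
is the tensor product.) -/
theorem result (R : Type u) [CommRing R] (I : Ideal R) (hI : ∀ x ∈ I, IsNilpotent x)
    (A₀ : Type u) [CommRing A₀] [HopfAlgebra (R ⧸ I) A₀] (h0 : IsQuasiIsotrivial (R ⧸ I) A₀) :
    ∃ (A : Type u) (_ : CommRing A) (_ : HopfAlgebra R A), IsQuasiIsotrivial R A ∧ Nonempty (((R ⧸ I) ⊗[R] A) ≃ₐc[R ⧸ I] A₀) := by
  classical
  obtain ⟨s₀, hs₀, hloc⟩ := h0
  obtain ⟨t, hts, ht⟩ := Submodule.mem_span_finite_of_mem_span (hs₀ ▸ Submodule.mem_top : (1 : R ⧸ I) ∈ Ideal.span s₀)
  let ι := {x : R ⧸ I // x ∈ t}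
  choose f hf using fun i : ι => Ideal.Quotient.mk_surjective i.1
  have hspan : Ideal.span (Set.range f) = ⊤ := by
    have hle : (Ideal.span (t : Set (R ⧸ I))) ≤ (Ideal.span (Set.range f)).map (Ideal.Quotient.mk I) := by
      refine Ideal.span_le.mpr fun x hx => ?_
      have h := Ideal.mem_map_of_mem (Ideal.Quotient.mk I) (Ideal.subset_span (α := R) (s := Set.range f) ⟨⟨x, hx⟩, rfl⟩)
      rw [hf] at h
      exact h
    obtain ⟨y, hy, hy1⟩ := (Ideal.mem_map_iff_of_surjective _ Ideal.Quotient.mk_surjective).mp (hle ht)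
    refine Ideal.eq_top_of_isUnit_mem _ hy ?_
    have hy' : 1 - y ∈ I := Ideal.Quotient.eq_zero_iff_mem.mp (by rw [map_sub, map_one, hy1, sub_self])
    have := (hI _ hy').isUnit_one_sub
    rwa [sub_sub_cancel] at this
  have hspan₀ : Ideal.span (Set.range fun i => Ideal.Quotient.mk I (f i)) = ⊤ := by
    rw [Set.range_comp' (Ideal.Quotient.mk I) f, ← Ideal.map_span, hspan, Ideal.map_top]
  have hloc' : ∀ i, IsQuasiIsotrivialConst (Localization.Away (Ideal.Quotient.mk I (f i)))
      (Localization.Away (Ideal.Quotient.mk I (f i)) ⊗[R ⧸ I] A₀) := fun i =>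
    hloc _ ((hf i).symm ▸ hts i.2)
  choose E instE algE hE hffE M instM e using hloc'
  letI : ∀ i, CommRing (E i) := instE
  letI : ∀ i, Algebra (Localization.Away (Ideal.Quotient.mk I (f i))) (E i) := algE
  letI : ∀ i, CommGroup (M i) := instM
  haveI : ∀ i, Module.FaithfullyFlat (Localization.Away (Ideal.Quotient.mk I (f i))) (E i) := hffE
  letI algE₀ : ∀ i, Algebra (R ⧸ I) (E i) := fun i =>
    Algebra.compHom (E i) (algebraMap (R ⧸ I) (Localization.Away (Ideal.Quotient.mk I (f i))))
  haveI : ∀ i, IsScalarTower (R ⧸ I) (Localization.Away (Ideal.Quotient.mk I (f i))) (E i) := fun i =>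
    IsScalarTower.of_algebraMap_eq fun _ => rfl
  letI algER : ∀ i, Algebra R (E i) := fun i => Algebra.compHom (E i) (algebraMap R (R ⧸ I))
  haveI : ∀ i, IsScalarTower R (R ⧸ I) (E i) := fun i => IsScalarTower.of_algebraMap_eq fun _ => rfl
  choose T instT algT algTR towT π hTet hTff hπ hπnil using fun i => exists_chart I hI (f i) (E i)
  letI : ∀ i, CommRing (T i) := instT
  letI : ∀ i, Algebra (Localization.Away (f i)) (T i) := algT
  letI : ∀ i, Algebra R (T i) := algTR
  haveI : ∀ i, IsScalarTower R (Localization.Away (f i)) (T i) := towT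
  haveI : ∀ i, Module.FaithfullyFlat (Localization.Away (f i)) (T i) := hTff
  haveI : Module.FaithfullyFlat R (∀ i, T i) := faithfullyFlat_pi_of_cover f hspan T
  haveI : Module.FaithfullyFlat (R ⧸ I) (∀ i, E i) :=
    faithfullyFlat_pi_of_cover (fun i => Ideal.Quotient.mk I (f i)) hspan₀ E
  choose g hg using fun i => GrothLib.MultLocal.exists_frame_of_equiv
    (GrothLib.Hopf.trivOfAway (Localization.Away (Ideal.Quotient.mk I (f i))) (E i) (e i).some)
  obtain ⟨A, _, _, hA, hiso⟩ := GrothLib.MultLocal.exists_lift_of_frames (R := R) (R₀ := R ⧸ I)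
    (by rw [Ideal.Quotient.algebraMap_eq]; exact Ideal.Quotient.mk_surjective)
    (fun a ha => hI a (Ideal.Quotient.eq_zero_iff_mem.mp (by rwa [RingHom.mem_ker] at ha))) π hπ hπnil hg
  refine ⟨A, inferInstance, inferInstance, ⟨Set.range f, hspan, ?_⟩, hiso⟩
  rintro _ ⟨i, rfl⟩
  obtain ⟨g', hg'⟩ := hA i
  exact ⟨T i, inferInstance, inferInstance, hTet i, inferInstance, M i, inferInstance,
    ⟨(hg'.push (GrothLib.Hopf.cancelBaseChange R (Localization.Away (f i)) (T i) A).symm).equiv.symm⟩⟩

end Groth.Agent.S2979
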