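import Groth.Statements.S2980
import Groth.Agent.Lib.MultLocal.TransBij
import Groth.Agent.Lib.MultLocal.FiniteLift

set_option autoImplicit false
universe u
open TensorProduct SGA3b
open SGA3b

namespace Groth.Agent.S2980

/-- Let R be a Noetherian ring, separated and complete for the I-adic topology. Every isotrivial
(R/I)-group of multiplicative type Spec A₀ is the base change of some isotrivial R-group of
multiplicative type Spec A. (Affine group schemes over an affine base are taken in Hopf-algebra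
form; base change is the tensor product.) -/
theorem result (R : Type u) [CommRing R] [IsNoetherianRing R] (I : Ideal R) [IsAdicComplete I R]
    (A₀ : Type u) [CommRing A₀] [HopfAlgebra (R ⧸ I) A₀] (h0 : IsIsotrivial (R ⧸ I) A₀) :
    ∃ (A : Type u) (_ : CommRing A) (_ : HopfAlgebra R A), IsIsotrivial R A ∧ Nonempty (((R ⧸ I) ⊗[R] A) ≃ₐc[R ⧸ I] A₀) := by
  obtain ⟨E₀, _, _, hE, hfin, hff, M, _, ⟨e⟩⟩ := h0
  haveI : HenselianRing R I := inferInstance
  letI : Algebra R E₀ := Algebra.compHom E₀ (algebraMap R (R ⧸ I))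
  haveI : IsScalarTower R (R ⧸ I) E₀ := IsScalarTower.of_algebraMap_eq fun _ => rfl
  obtain ⟨B, _, _, π, hBfin, hBet, hBff, hπ, hker⟩ := GrothLib.MultLocal.exists_finite_etale_ff_lift I E₀
  obtain ⟨g, hg⟩ := GrothLib.MultLocal.exists_frame_of_equiv e
  haveI : Module.FaithfullyFlat R (PUnit.{u + 1} → B) :=
    Module.FaithfullyFlat.of_linearEquiv R B (LinearEquiv.funUnique PUnit.{u + 1} R B)
  haveI : Module.FaithfullyFlat (R ⧸ I) (PUnit.{u + 1} → E₀) :=
    Module.FaithfullyFlat.of_linearEquiv (R ⧸ I) E₀ (LinearEquiv.funUnique PUnit.{u + 1} (R ⧸ I) E₀)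
  have hs : Function.Surjective (algebraMap R (R ⧸ I)) := Ideal.Quotient.mk_surjective
  have hI : RingHom.ker (algebraMap R (R ⧸ I)) = I := Ideal.mk_ker
  have h2 := GrothLib.MultLocal.red2_surjective (R₀ := R ⧸ I) π π hπ hπ
  have k2 := GrothLib.MultLocal.red2_ker hs hI π π hπ hπ hker hker
  obtain ⟨A, _, _, hA, hiso⟩ := GrothLib.MultLocal.exists_lift_of_frames_bij (ι := PUnit.{u + 1})
    (T := fun _ => B) (E := fun _ => E₀) hs (fun _ => π)
    (fun _ => GrothLib.MultLocal.IdemBij.of_henselian hπ hker)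
    (fun _ _ => GrothLib.MultLocal.IdemBij.of_henselian h2 k2)
    (fun _ _ _ => GrothLib.MultLocal.IdemBij.of_henselian
      (GrothLib.MultLocal.red2_surjective π (GrothLib.MultLocal.red2 (R ⧸ I) π π) hπ h2)
      (GrothLib.MultLocal.red2_ker hs hI π (GrothLib.MultLocal.red2 (R ⧸ I) π π) hπ h2 hker k2))
    (M := fun _ => M) (g := fun _ => g) (fun _ => hg)
  obtain ⟨f, hf⟩ := hA PUnit.unit
  exact ⟨A, inferInstance, inferInstance, ⟨B, inferInstance, inferInstance, hBet, hBfin, hBff, M, inferInstance,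
    ⟨hf.equiv.symm⟩⟩, hiso⟩

end Groth.Agent.S2980
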