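import Groth.Statements.S2981
import Groth.Agent.Lib.MultLift.TorsionOpen

set_option autoImplicit false
universe u
open TensorProduct SGA3b
open SGA3b

namespace Groth.Agent.S2981

/-- Let G = Spec A be an R-group of multiplicative type and of finite type. Then the kernels ₙG of the
n-th power maps, n > 0, form a schematically dense family: over every basic open D(a) of G, the
intersection of the (extended) ideals of the ₙG is zero. (Affine group schemes over an affine base
are taken in Hopf-algebra form; base change is the tensor product.) -/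
theorem result (R : Type u) [CommRing R] (A : Type u) [CommRing A] [HopfAlgebra R A] (hft : Algebra.FiniteType R A) (h : IsMultType R A) :
    ∀ a : A, ⨅ n : {n : ℕ // 0 < n}, Ideal.map (algebraMap A (Localization.Away a)) (torsionIdeal R A n.1) = ⊥ := by
  haveI := hft
  refine fun a => (Submodule.eq_bot_iff _).mpr fun z hz => ?_
  rw [Submodule.mem_iInf] at hz
  obtain ⟨y, s, rfl⟩ := IsLocalization.exists_mk'_eq (Submonoid.powers a) z
  obtain ⟨k, hk⟩ := GrothLib.MultLift.exists_pow_mul_eq_zero_of_isMultType h a y fun n hn => by
    obtain ⟨t, ⟨k, rfl⟩, ht⟩ :=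
      (IsLocalization.mk'_mem_map_algebraMap_iff (Submonoid.powers a) _ _ y s).mp (hz ⟨n, hn⟩)
    exact ⟨k, ht⟩
  exact (IsLocalization.mk'_eq_zero_iff y s).mpr ⟨⟨a ^ k, k, rfl⟩, hk⟩

end Groth.Agent.S2981
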