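import Groth.Statements.S2984
import Groth.Agent.Lib.MultLocal.TrivFibre
import Mathlib.LinearAlgebra.Dimension.StrongRankCondition
import Mathlib.RingTheory.Localization.Finiteness

set_option autoImplicit false
universe u
open TensorProduct SGA3b
open SGA3b

namespace Groth.Agent.S2984

theorem powConv_chart {R : Type u} [CommRing R] {A : Type u} [CommRing A] [HopfAlgebra R A] {d : ℕ}
    (s : Fin d → A) (hs : Submodule.span R (Set.range s) = ⊤) {R' : Type u} [CommRing R'] [Algebra R R']
    {M : Type u} [CommGroup M] (e : R' ⊗[R] A ≃ₐc[R'] MonoidAlgebra R' M) (a : A)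
    (ha : Coalgebra.counit (R := R) a = 0) : (1 : R') ⊗ₜ[R] powConv R A d.factorial a = 0 := by
  classical
  rcases subsingleton_or_nontrivial R' with hR | hR
  · haveI : Subsingleton (R' ⊗[R] A) := Module.subsingleton R' _
    exact Subsingleton.elim _ _
  obtain ⟨g, hg⟩ := GrothLib.MultLocal.exists_frame_of_equiv e
  have hspan : Submodule.span R' (Set.range fun i => (1 : R') ⊗ₜ[R] s i) = ⊤ := by
    rw [show Set.range (fun i => (1 : R') ⊗ₜ[R] s i) = TensorProduct.mk R R' A 1 '' Set.range s from
      Set.range_comp (TensorProduct.mk R R' A 1) s, ← Submodule.baseChange_span, hs, Submodule.baseChange_top]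
  haveI : Module.Finite R' (R' ⊗[R] A) := ⟨⟨(Finset.univ.image fun i => (1 : R') ⊗ₜ[R] s i), by
    rw [Finset.coe_image, Finset.coe_univ, Set.image_univ, hspan]⟩⟩
  let b := (MonoidAlgebra.basis M R').map hg.equiv.toLinearEquiv
  haveI : Finite M := Module.Finite.finite_basis b
  haveI := Fintype.ofFinite M
  have hcard : Fintype.card M ≤ d := by
    have h1 := Module.finrank_eq_card_basis b
    rw [← h1, ← finrank_top, ← hspan]
    exact (finrank_range_le_card _).trans (Fintype.card_fin d).le
  have hpow : ∀ m : M, m ^ d.factorial = 1 := fun m => by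
    obtain ⟨c, hc⟩ := Nat.dvd_factorial Fintype.card_pos hcard
    rw [hc, pow_mul, pow_card_eq_one, one_pow]
  have key : ∀ y, powConv R' (R' ⊗[R] A) d.factorial y = algebraMap R' (R' ⊗[R] A) (Coalgebra.counit y) := by
    intro y
    obtain ⟨z, rfl⟩ := hg.2 y
    induction z using MonoidAlgebra.induction_linear with
    | zero => simp
    | add x y hx hy => simp only [map_add, hx, hy]
    | single m r =>
      rw [GrothLib.MultLocal.glHom_single, map_smul, GrothLib.MultLocal.powConv_groupLike _ (g m).isGroupLikeElem_val,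
        ← GroupLike.val_pow, ← map_pow, hpow, map_one, GroupLike.val_one, map_smul,
        (g m).isGroupLikeElem_val.counit_eq_one, smul_eq_mul, _root_.mul_one, Algebra.algebraMap_eq_smul_one]
  rw [← GrothLib.OT.powConv_baseChange, key, TensorProduct.counit_tmul, ha, zero_smul, map_zero]

theorem finite_away_of_torsion {R : Type u} [CommRing R] {A : Type u} [CommRing A] [HopfAlgebra R A]
    [Algebra.FiniteType R A] {T : Type u} [CommRing T] [Algebra R T] {n : ℕ} (hn : 0 < n)
    (hbot : torsionIdeal R A n = ⊥) (hc : IsMultTypeConst T (T ⊗[R] A)) : Module.Finite T (T ⊗[R] A) := by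
  obtain ⟨R', _, _, hff, M, _, ⟨e⟩⟩ := hc
  haveI := hff
  rcases subsingleton_or_nontrivial T with hT | hT
  · haveI : Subsingleton (T ⊗[R] A) := Module.subsingleton T _
    infer_instance
  haveI : Nontrivial R' := by
    obtain ⟨m, hm⟩ := Ideal.exists_maximal T
    obtain ⟨q, -⟩ := PrimeSpectrum.comap_surjective_of_faithfullyFlat (B := R') (⟨m, hm.isPrime⟩ : PrimeSpectrum T)
    exact ⟨0, 1, fun h => q.isPrime.ne_top ((Ideal.eq_top_iff_one _).mpr (h ▸ q.asIdeal.zero_mem))⟩
  obtain ⟨g, hg⟩ := GrothLib.MultLocal.exists_frame_of_equiv e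
  haveI := GrothLib.MultLocal.fg_of_frame hg
  haveI := GrothLib.MultLocal.finite_torsion_of_frame hg hn
  have hT' : torsionIdeal T (T ⊗[R] A) n = ⊥ := by
    have key : ∀ y, powConv T (T ⊗[R] A) n y = algebraMap T (T ⊗[R] A) (Coalgebra.counit y) := by
      intro y
      induction y using TensorProduct.induction_on with
      | zero => simp
      | add x y hx hy => simp only [map_add, hx, hy]
      | tmul t a =>
        have h1 : powConv R A n (a - algebraMap R A (Coalgebra.counit a)) = 0 := by
          have h2 : powConv R A n (a - algebraMap R A (Coalgebra.counit a)) ∈ torsionIdeal R A n :=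
            Ideal.mem_map_of_mem _ (by simp)
          rwa [hbot, Ideal.mem_bot] at h2
        rw [map_sub, AlgHom.commutes, sub_eq_zero] at h1
        rw [show t ⊗ₜ[R] a = t • ((1 : T) ⊗ₜ[R] a) by rw [TensorProduct.smul_tmul', smul_eq_mul, _root_.mul_one],
          map_smul, GrothLib.OT.powConv_baseChange, h1, map_smul, TensorProduct.counit_tmul,
          ← Algebra.TensorProduct.includeRight_apply (A := T) (algebraMap R A _), AlgHom.commutes,
          IsScalarTower.algebraMap_apply R T (T ⊗[R] A), CommSemiring.counit_apply, Algebra.smul_def (Coalgebra.counit a),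
          _root_.mul_one, Algebra.smul_def, smul_eq_mul, map_mul]
    refine le_bot_iff.mp (Ideal.map_le_iff_le_comap.mpr fun a ha => ?_)
    rw [Ideal.mem_comap, Ideal.mem_bot, key, show Coalgebra.counit (R := T) a = 0 from (RingHom.mem_ker.mp ha :),
      map_zero]
  let q : ((T ⊗[R] A) ⧸ torsionIdeal T (T ⊗[R] A) n) →ₐ[T] T ⊗[R] A :=
    Ideal.Quotient.liftₐ _ (AlgHom.id T _) fun y hy => by rwa [hT', Ideal.mem_bot] at hy
  exact Module.Finite.of_surjective q.toLinearMap fun y => ⟨Ideal.Quotient.mk _ y, rfl⟩

/-- Let R be a ring and G = Spec A an R-group scheme of multiplicative type and of finite type, with A a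
Hopf algebra over R. Then A is finite over R if and only if the n-th power map of G is trivial for
some n > 0 (the kernel ₙG is all of G). (Affine group schemes over an affine base are taken in
Hopf-algebra form; base change is the tensor product.) -/
theorem result (R : Type u) [CommRing R] (A : Type u) [CommRing A] [HopfAlgebra R A] (hft : Algebra.FiniteType R A) (h : IsMultType R A) :
    Module.Finite R A ↔ ∃ n : ℕ, 0 < n ∧ torsionIdeal R A n = ⊥ := by
  haveI := hft
  constructor
  · intro hfin
    obtain ⟨d, s, hs⟩ := Module.Finite.exists_fin (R := R) (M := A)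
    refine ⟨d.factorial, Nat.factorial_pos d, le_bot_iff.mp (Ideal.map_le_iff_le_comap.mpr fun a ha => ?_)⟩
    rw [Ideal.mem_comap, Ideal.mem_bot]
    refine GrothLib.Hopf.eq_of_charts h fun R' _ _ M _ e => ?_
    rw [tmul_zero]
    exact powConv_chart s hs e a (RingHom.mem_ker.mp ha :)
  · rintro ⟨n, hn, hbot⟩
    obtain ⟨s, hs, hloc⟩ := h
    refine Module.Finite.of_localizationSpan' (M := A) s hs (Rₚ := fun g : s => Localization.Away g.1)
      (fun g => TensorProduct.mk R (Localization.Away g.1) A 1) fun g => ?_
    exact finite_away_of_torsion hn hbot (hloc g.1 g.2)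

end Groth.Agent.S2984
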