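import Groth.Statements.S2986
import Groth.Agent.Lib.SecLocus.Nbhd
import Groth.Agent.Lib.SecLocus.Dense

set_option autoImplicit false
universe u
open TensorProduct
open SGA3b

namespace Groth.Agent.S2986

/-- Let R be a ring, B a smooth R-algebra whose geometric fibres are connected (for every algebraically
closed field K under R, Spec (K ⊗_R B) is connected), e : B → R an R-algebra section with kernel 𝔪,
and J a finitely generated ideal of B (a finitely presented closed subscheme Y of X = Spec B). Then
there is n ≥ 0 such that for every R-algebra R': the base change of X to R' lies in Y (every element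
of J becomes zero in R' ⊗_R B) if and only if the base change of the n-th infinitesimal
neighbourhood Spec (B/𝔪^(n+1)) of the section lies in Y. (The published statement is for a general
base and X; this is the affine case.) -/
theorem result (R B : Type u) [CommRing R] [CommRing B] [Algebra R B]
    [Algebra.Smooth R B]
    (hconn : ∀ (K : Type u) [Field K] [IsAlgClosed K] [Algebra R K], ConnectedSpace (PrimeSpectrum (K ⊗[R] B)))
    (e : B →ₐ[R] R) (J : Ideal B) (hJ : J.FG) :
    ∃ n : ℕ, ∀ (R' : Type u) [CommRing R'] [Algebra R R'],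
      (∀ x ∈ J, (1 : R') ⊗ₜ[R] x = (0 : R' ⊗[R] B)) ↔
        (∀ x ∈ J, (1 : R') ⊗ₜ[R] (Ideal.Quotient.mk (RingHom.ker e ^ (n + 1)) x) = (0 : R' ⊗[R] (B ⧸ RingHom.ker e ^ (n + 1)))) := by
  classical
  obtain ⟨s, hs⟩ := hJ
  obtain ⟨n, hn⟩ := GrothLib.SecLocus.exists_stable e s
  refine ⟨n, fun R' _ _ => ⟨fun h x hx => ?_, fun h x hx => ?_⟩⟩
  · have := congrArg (LinearMap.lTensor R' (Ideal.Quotient.mkₐ R (RingHom.ker e ^ (n + 1))).toLinearMap) (h x hx)
    simpa using this
  let e' : R' ⊗[R] B →ₐ[R'] R' := Algebra.TensorProduct.lift (AlgHom.id R' R')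
    ((Algebra.ofId R R').comp e) fun _ _ => Commute.all _ _
  let φ : B →ₐ[R] R' ⊗[R] B := Algebra.TensorProduct.includeRight
  have hφ : IsBaseChange R' φ.toLinearMap := TensorProduct.isBaseChange R B R'
  have he : ∀ b, e' (φ b) = algebraMap R R' (e b) := fun b => by simp [e', φ, Algebra.ofId_apply]
  have hnb : ∀ x ∈ s, (1 : R') ⊗ₜ[R] Ideal.Quotient.mk (RingHom.ker e ^ n) x = 0 := fun y hy => by
    have := congrArg (LinearMap.lTensor R'
      (Ideal.Quotient.factorₐ R (Ideal.pow_le_pow_right (I := RingHom.ker e) n.le_succ)).toLinearMap)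
        (h y (hs ▸ Submodule.subset_span hy))
    simpa using this
  have hirr := GrothLib.SecLocus.isPreirreducible_fibre_of_connected (A := R') (B := R' ⊗[R] B)
    fun K _ _ _ => by
      letI : Algebra R K := ((algebraMap R' K).comp (algebraMap R R')).toAlgebra
      haveI : IsScalarTower R R' K := IsScalarTower.of_algebraMap_eq fun _ => rfl
      have := hconn K
      let d := PrimeSpectrum.homeomorphOfRingEquiv (R := K ⊗[R'] (R' ⊗[R] B)) (S := K ⊗[R] B)
        (Algebra.TensorProduct.cancelBaseChange R R' K K B).toRingEquiv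
      exact d.symm.surjective.connectedSpace d.symm.continuous
  have hgen : ∀ y ∈ s, φ y = 0 := fun y hy => by
    have hpow : ∀ m, φ y ∈ RingHom.ker e' ^ m := fun m => by
      have h1 := congrArg (GrothLib.SecLocus.isBaseChange_nbhdMap hφ he m).equiv (hn R' hnb m y hy)
      rwa [IsBaseChange.equiv_tmul, one_smul, map_zero, GrothLib.SecLocus.nbhdMap_mk,
        Ideal.Quotient.eq_zero_iff_mem] at h1
    obtain ⟨g, hg, hgy⟩ := GrothLib.SecLocus.exists_mul_eq_zero_of_mem_pow e' (φ y) hpow
    exact GrothLib.SecLocus.eq_zero_of_mul_of_section hirr e' g (φ y) hg hgy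
  show φ x = 0
  rw [← hs] at hx
  induction hx using Submodule.span_induction with
  | mem y hy => exact hgen y hy
  | zero => exact map_zero _
  | add a b _ _ ha hb => rw [map_add, ha, hb, add_zero]
  | smul c a _ ha => rw [smul_eq_mul, map_mul, ha, mul_zero]

end Groth.Agent.S2986
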