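import Groth.Statements.S2993
import Groth.Agent.Lib.AffineDimOne14.Basic
import Groth.Agent.Lib.Neutral.ArtinHom
-- import your own Groth.Agent.* helpers here

set_option autoImplicit false
universe u
open Par

namespace Groth.Agent.S2993

open AlgebraicGeometry CategoryTheory in
open MonoidalCategory MonObj in
set_option backward.isDefEq.respectTransparency false in
/-- In the case proved in the text (G smooth over S; the editors note that flatness suffices): let S be
a locally Noetherian scheme of dimension ≤ 1, G and H two S-group schemes of finite type and f : G →
H a homomorphism of S-groups which is quasi-finite and separated. If G is smooth over S then f is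
affine. -/
theorem result {S : Scheme.{u}} [IsLocallyNoetherian S] (hS : topologicalKrullDim S ≤ 1)
    (G H : Over S) [GrpObj G] [GrpObj H] [LocallyOfFiniteType G.hom] [QuasiCompact G.hom] [LocallyOfFiniteType H.hom] [QuasiCompact H.hom]
    [Smooth G.hom] (f : G ⟶ H) [IsMonHom f] [LocallyQuasiFinite f.left] [QuasiCompact f.left] [IsSeparated f.left] :
    IsAffineHom f.left := by
  refine GrothLib.AffineDimOne14.isAffineHom hS f fun s => ?_
  let κ := S.residueField s
  let c := S.fromSpecResidueField s
  let fs := (Over.pullback c).map f
  have sq := GrothLib.FibreLocus.isPullback_map_left f c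
  haveI : LocallyQuasiFinite fs.left := MorphismProperty.of_isPullback (P := @LocallyQuasiFinite) sq.flip inferInstance
  haveI : QuasiCompact fs.left := MorphismProperty.of_isPullback (P := @QuasiCompact) sq.flip inferInstance
  haveI : LocallyOfFiniteType (Red.bc c G).hom := MorphismProperty.pullback_snd _ _ inferInstance
  haveI : LocallyOfFiniteType (Red.bc c H).hom := MorphismProperty.pullback_snd _ _ inferInstance
  refine (GrothLib.Neutral.isFinite_iff_discrete_kernel (A := κ) fs).mpr ?_
  let p := Limits.pullback.snd fs.left η[Red.bc c H].left
  haveI : LocallyQuasiFinite p := MorphismProperty.pullback_snd _ _ inferInstance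
  haveI : Subsingleton ↥(𝟙_ (Over (Spec (CommRingCat.of κ)))).left := inferInstanceAs (Subsingleton (PrimeSpectrum κ))
  refine discreteTopology_iff_isOpen_singleton.mpr fun z => ?_
  have h1 := p.isDiscrete_preimage_singleton (p z)
  rw [show p ⁻¹' {p z} = Set.univ from Set.eq_univ_of_forall fun _ => Subsingleton.elim _ _] at h1
  haveI := isDiscrete_univ_iff.mp h1
  exact isOpen_discrete _

end Groth.Agent.S2993
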