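import Groth.Statements.S3006
import Groth.Agent.Lib.TorusNorm25.Lift
import Groth.Agent.Lib.TorusNorm25.Torus
import Groth.Agent.Lib.TorusNorm25.SmoothLift
import Groth.Agent.Lib.SecLocus.NormCent
import Groth.Agent.Lib.SecLocus.MonoGroup
-- import your own Groth.Agent.* helpers here

set_option autoImplicit false
universe u
open CategoryTheory MonoidalCategory CartesianMonoidalCategory MonObj GrpObj AlgebraicGeometry
open Red

namespace Groth.Agent.S3006

/-- Let S be a scheme, G an S-group scheme smooth and of finite presentation over S, and q : Q → G a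
closed subgroup scheme which is a torus. Then the centralizer and the normalizer of Q in G exist as
closed subgroup schemes of G (characterized on points as in `Red.IsCentralizerOf` /
`Red.IsNormalizerOf`) and are smooth over S. -/
theorem result (S : Scheme.{u}) (G Q : Over S) [GrpObj G] [GrpObj Q] [Smooth G.hom] [LocallyOfFinitePresentation G.hom] [QuasiCompact G.hom] [QuasiSeparated G.hom] (q : Q ⟶ G) [IsMonHom q] (hq : IsClosedImmersion q.left) (hQ : Red.IsTorus Q) : (∃ (Z : Over S) (_ : GrpObj Z) (z : Z ⟶ G), Red.IsCentralizerOf q z ∧ IsClosedImmersion z.left ∧ Smooth Z.hom) ∧ ∃ (N : Over S) (_ : GrpObj N) (n : N ⟶ G), Red.IsNormalizerOf q n ∧ IsClosedImmersion n.left ∧ Smooth N.hom := by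
  haveI := hq
  haveI : Mono q := Over.mono_of_mono_left _
  have hch := GrothLib.DiagGrp.hasChartsFpqc_of_isTorus hQ
  haveI : Smooth Q.hom := GrothLib.TorusNorm25.smooth_of_isTorus hQ
  haveI : GeometricallyIrreducible Q.hom := GrothLib.SecLocus.geometricallyIrreducible_of_connected Q
    (GrothLib.TorusNorm25.isConnected_fibre_of_isTorus hQ)
  have hQa := GrothLib.EssFree.isAffineHom_of_charts hch
  have hG : MoreMor.IsFormallySmoothHom G.hom := ((Groth.Agent.S1488.result G.hom).mp inferInstance).2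
  refine ⟨?_, ?_⟩
  · obtain ⟨Z, inst, z, hz, hzc, hzfp⟩ := GrothLib.SecLocus.exists_centralizer q
    refine ⟨Z, inst, z, hz, hzc, ?_⟩
    haveI := hz.2.1
    haveI := hzfp
    have hfp : LocallyOfFinitePresentation Z.hom := by rw [← Over.w z]; infer_instance
    exact GrothLib.TorusNorm25.smooth_of_lift hfp fun {A} _ I hI b z₀ => by
      obtain ⟨g, hg, hgc⟩ := GrothLib.MultDef14.exists_conjOn_lift hch hQa q q hG b I ⟨2, hI⟩ (z₀ ≫ z)
        fun Y p h => by
          rw [(hz.2.2 _ _).mp ⟨z₀, rfl⟩ Y p h, mul_inv_cancel_right]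
      obtain ⟨w, hw⟩ := (hz.2.2 _ g).mpr fun Y p h => by
        conv_rhs => rw [hgc Y p h]
        group
      exact ⟨w, by rw [← cancel_mono z, Category.assoc, hw, hg]⟩
  · obtain ⟨N, inst, n, hn, hnc, hnfp⟩ := GrothLib.SecLocus.exists_normalizer q
    refine ⟨N, inst, n, hn, hnc, ?_⟩
    haveI := hn.2.1
    haveI := hnfp
    have hfp : LocallyOfFinitePresentation N.hom := by rw [← Over.w n]; infer_instance
    exact GrothLib.TorusNorm25.smooth_of_lift hfp fun {A} _ I hI b z₀ => by
      obtain ⟨g, hg, hgn⟩ := GrothLib.MultDef14.exists_normalizing_lift hch hG q I hI (z₀ ≫ n)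
        ((hn.2.2 _ _).mp ⟨z₀, rfl⟩)
      obtain ⟨w, hw⟩ := (hn.2.2 _ g).mpr hgn
      exact ⟨w, by rw [← cancel_mono n, Category.assoc, hw, hg]⟩

end Groth.Agent.S3006
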