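import Groth.Statements.S3014
import Groth.Agent.Lib.GrpLim14.FieldExt
-- import your own Groth.Agent.* helpers here

set_option autoImplicit false
universe u
open CategoryTheory MonoidalCategory CartesianMonoidalCategory MonObj GrpObj AlgebraicGeometry
open Red

namespace Groth.Agent.S3014

/-- (i)⇒(ii): Let G and G' be reductive S-groups and f : S' → S a surjective morphism such that the base
changes of G and G' to S' are isomorphic as group schemes. Then for every s ∈ S the geometric fibres
G_{s̄} and G'_{s̄} are isomorphic. -/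
theorem result (S : Scheme.{u}) (G G' : Over S) [GrpObj G] [GrpObj G'] (hG : Red.IsReductive G) (hG' : Red.IsReductive G') (S' : Scheme.{u}) (f : S' ⟶ S) [Surjective f] (hiso : Nonempty (Grp.mk (Red.bc f G) ≅ Grp.mk (Red.bc f G'))) (s : S) : Nonempty (Grp.mk (Red.geomFibre s G) ≅ Grp.mk (Red.geomFibre s G')) := by
  obtain ⟨s', rfl⟩ := f.surjective s
  obtain ⟨e⟩ := hiso
  let κ := S.residueField (f s')
  let κ' := S'.residueField s'
  letI : Algebra κ κ' := (f.residueFieldMap s').hom.toAlgebra
  letI : Algebra κ (AlgebraicClosure κ') := ((algebraMap κ' (AlgebraicClosure κ')).comp (algebraMap κ κ')).toAlgebra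
  let σ : AlgebraicClosure κ →ₐ[κ] AlgebraicClosure κ' := IsAlgClosed.lift
  letI : Algebra (AlgebraicClosure κ) (AlgebraicClosure κ') := σ.toRingHom.toAlgebra
  let a := Spec.map (CommRingCat.ofHom (algebraMap (AlgebraicClosure κ) (AlgebraicClosure κ')))
  have hh : a ≫ Red.geomPt (f s') = Red.geomPt s' ≫ f := by
    simp only [a, Red.geomPt, Category.assoc]
    rw [← Category.assoc, ← Spec.map_comp, ← Scheme.Hom.SpecMap_residueFieldMap_fromSpecResidueField,
      ← Category.assoc, ← Spec.map_comp]
    congr 2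
    exact CommRingCat.hom_ext (RingHom.ext fun c => σ.commutes c)
  let e₁ := (Over.pullback (Red.geomPt s')).mapGrp.mapIso e
  let tr : ∀ (H : Over S) [GrpObj H],
      Grp.mk (Red.bc a (Red.geomFibre (f s') H)) ≅ Grp.mk (Red.bc (Red.geomPt s') (Red.bc f H)) := fun H _ =>
    (GrothLib.DiagGrp.bcGrpComp H (Red.geomPt (f s')) a _ hh.symm).symm ≪≫
      GrothLib.DiagGrp.bcGrpComp H f (Red.geomPt s') _ rfl
  haveI := hG.1
  haveI := hG'.1
  haveI := hG.2.1
  haveI := hG'.2.1
  haveI : ∀ (H : Over S) [IsAffineHom H.hom], QuasiCompact (Red.geomFibre (f s') H).hom := fun H _ =>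
    inferInstanceAs (QuasiCompact (Limits.pullback.snd _ _))
  haveI : ∀ (H : Over S) [IsAffineHom H.hom], QuasiSeparated (Red.geomFibre (f s') H).hom := fun H _ =>
    inferInstanceAs (QuasiSeparated (Limits.pullback.snd _ _))
  haveI : ∀ (H : Over S) [Smooth H.hom], LocallyOfFinitePresentation (Red.geomFibre (f s') H).hom := fun H _ =>
    inferInstanceAs (LocallyOfFinitePresentation (Limits.pullback.snd _ _))
  exact GrothLib.GrpLim14.nonempty_grpIso_of_algClosed (AlgebraicClosure κ) (AlgebraicClosure κ') _ _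
    ⟨tr G ≪≫ e₁ ≪≫ (tr G').symm⟩

end Groth.Agent.S3014
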