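import Groth.Statements.S5330
import Groth.Agent.Lib.Neutral.DimClosure

set_option autoImplicit false
universe u
open CategoryTheory CategoryTheory.Limits MonoidalCategory CartesianMonoidalCategory MonObj GrpObj AlgebraicGeometry
open SGA3

namespace Groth.Agent.S5330

/-- Let G be an S-group scheme locally of finite presentation over S, s a point of S and G_s⁰ the
connected component of the unit in the fibre G_s. The following are equivalent: (i) G → S is
universally open at every point of G_s⁰; (i bis) G → S is universally open at every point of W ∩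
G_s⁰ for some open W of G containing the unit point of G_s; (ii) t ↦ dim G_t is constant on some
neighbourhood of s. (The published statement is for an S-scheme locally of finite presentation with
a section, equidimensional fibres and geometrically irreducible neutral components; this row takes
the case of a group scheme, where these hold. The published statement has a fourth equivalent
condition, not stated here.) -/
theorem result (S : Scheme.{u}) (G : Over S) [GrpObj G]
    [LocallyOfFinitePresentation G.hom] (s : S) :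
    ((∀ x ∈ (SGA3x.neutralSet G ∩ G.hom.base ⁻¹' {s}), EGA43.IsUnivOpenAt G.hom x) ↔
      ∃ W : G.left.Opens, (∀ p : ↥(𝟙_ (Over S)).left, (𝟙_ (Over S)).hom.base p = s → η[G].left.base p ∈ W) ∧
        ∀ x ∈ (SGA3x.neutralSet G ∩ G.hom.base ⁻¹' {s}), x ∈ W → EGA43.IsUnivOpenAt G.hom x) ∧
    ((∀ x ∈ (SGA3x.neutralSet G ∩ G.hom.base ⁻¹' {s}), EGA43.IsUnivOpenAt G.hom x) ↔
      ∃ U : Set S, U ∈ nhds s ∧ ∀ t ∈ U, topologicalKrullDim ↥(G.hom.base ⁻¹' {t}) = topologicalKrullDim ↥(G.hom.base ⁻¹' {s})) := by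
  have hbis : (∃ W : G.left.Opens, (∀ p : ↥(𝟙_ (Over S)).left, (𝟙_ (Over S)).hom.base p = s → η[G].left.base p ∈ W) ∧
        ∀ x ∈ (SGA3x.neutralSet G ∩ G.hom.base ⁻¹' {s}), x ∈ W → EGA43.IsUnivOpenAt G.hom x) →
      ∀ t, t ⤳ s → GrothLib.Neutral.fibDim G t = GrothLib.Neutral.fibDim G s := by
    rintro ⟨W, hW, hWo⟩ t ht
    exact GrothLib.Neutral.fibDim_eq_of_univOpen G ht W (hW s rfl) hWo
  have hconst : (∀ t, t ⤳ s → GrothLib.Neutral.fibDim G t = GrothLib.Neutral.fibDim G s) →
      ∀ x ∈ (SGA3x.neutralSet G ∩ G.hom.base ⁻¹' {s}), EGA43.IsUnivOpenAt G.hom x := by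
    rintro hd x ⟨hxN, rfl⟩
    exact GrothLib.Neutral.isUnivOpenAt_of_fibDim G hxN hd
  refine ⟨⟨fun h => ⟨⊤, fun _ _ => trivial, fun x hx _ => h x hx⟩, fun h => hconst (hbis h)⟩,
    ⟨fun h => ?_, fun ⟨U, hU, hUd⟩ => hconst fun t ht => ?_⟩⟩
  · exact GrothLib.Neutral.fibDim_nhds G (hbis ⟨⊤, fun _ _ => trivial, fun x hx _ => h x hx⟩)
  · obtain ⟨O, hOU, hOo, hsO⟩ := mem_nhds_iff.mp hU
    exact hUd t (hOU (ht.mem_open hOo hsO))

end Groth.Agent.S5330
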