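import Groth.Statements.S3027
import Groth.Agent.Lib.Repr.Adjoint
import Groth.Agent.Lib.Repr.Quotient
import Groth.Agent.Lib.AffMono14.Basic
import Groth.Agent.Lib.EssFree.Subgroup
import Groth.Agent.S4094

set_option autoImplicit false
universe u
open CategoryTheory MonoidalCategory CartesianMonoidalCategory MonObj GrpObj AlgebraicGeometry TensorProduct
open SGA3

namespace Groth.Agent.S3027

/-- Let G be a connected group scheme of finite type over a field k. Then the centre of G (the
subfunctor of points g such that g commutes with every point of G after every base change) is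
represented by a closed subgroup scheme Z of G, and the quotient G/Z is an affine k-group: there are
an affine group scheme Q and a faithfully flat homomorphism q : G → Q with kernel Z. -/
theorem result (k : Type u) [Field k] (G : Over (Spec (CommRingCat.of k))) [GrpObj G]
    [LocallyOfFiniteType G.hom] [QuasiCompact G.hom] [ConnectedSpace G.left] :
    ∃ (Z : Over (Spec (CommRingCat.of k))) (_ : GrpObj Z) (i : Z ⟶ G), IsMonHom i ∧ IsClosedImmersion i.left ∧
      (∀ (T : Over (Spec (CommRingCat.of k))) (g : T ⟶ G),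
        (∃ z : T ⟶ Z, z ≫ i = g) ↔ ∀ (T' : Over (Spec (CommRingCat.of k))) (t : T' ⟶ T) (h : T' ⟶ G), (t ≫ g) * h = h * (t ≫ g)) ∧
      ∃ (Q : Over (Spec (CommRingCat.of k))) (_ : GrpObj Q) (q : G ⟶ Q), IsMonHom q ∧ IsAffine Q.left ∧ LocallyOfFiniteType Q.hom ∧
        Flat q.left ∧ Surjective q.left ∧ AlgGrp.IsKernel i q := by
  obtain ⟨Ms, _, _, ms, hms⟩ := GrothLib.Repr.exists_modules_centre G
  obtain ⟨D, ρ, hρm, hρ⟩ := GrothLib.Repr.exists_hom_detect ms
  haveI := hρm
  haveI := GrothLib.Repr.finiteType_GLsch (k := k) D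
  haveI := GrothLib.Repr.isAffine_GLsch (k := k) D
  let L := GrothLib.Repr.GLsch k D
  let Z : Over (Spec (CommRingCat.of k)) := Limits.pullback ρ η[L]
  let i : Z ⟶ G := Limits.pullback.fst ρ η[L]
  have sq : IsPullback i (toUnit Z) ρ η[L] := by
    rw [toUnit_unique (toUnit Z) (Limits.pullback.snd ρ η[L])]
    exact IsPullback.of_hasPullback ρ η[L]
  haveI : Mono i := GrothLib.GrpSchField.mono_of_kernel sq
  have hiρ : i ≫ ρ = 1 := GrothLib.GrpSchField.comp_eq_one sq
  have hfac : ∀ (T : Over (Spec (CommRingCat.of k))) (g : T ⟶ G), g ≫ ρ = 1 → ∃ z : T ⟶ Z, z ≫ i = g :=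
    fun T g hg => GrothLib.GrpSchField.exists_lift_of_comp_eq_one sq g hg
  obtain ⟨gZ, hmi⟩ := GrothLib.EssFree.exists_grpObj_of_mono i
    (fun T => hfac T 1 (by rw [MonObj.one_comp]))
    (fun T a b => hfac T _ (by
      rw [MonObj.mul_comp, Category.assoc, Category.assoc, hiρ, MonObj.comp_one, MonObj.comp_one, _root_.mul_one]))
    (fun T a => hfac T _ (by rw [GrpObj.inv_comp, Category.assoc, hiρ, MonObj.comp_one, inv_one]))
  haveI : IsClosedImmersion i.left :=
    MorphismProperty.of_isPullback (sq.map (Over.forget _)).flip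
      (GrothLib.GrpSchField.unit_isClosedImmersion L)
  have hcen : ∀ (T : Over (Spec (CommRingCat.of k))) (g : T ⟶ G), g ≫ ρ = 1 ↔
      ∀ (T' : Over (Spec (CommRingCat.of k))) (t : T' ⟶ T) (h : T' ⟶ G), (t ≫ g) * h = h * (t ≫ g) := by
    intro T g
    constructor
    · intro hg T' t h
      refine GrothLib.Repr.hom_ext_pts fun R _ _ u => ?_
      have h1 : (u ≫ t ≫ g) ≫ ρ = 1 := by
        rw [Category.assoc, Category.assoc, hg, MonObj.comp_one, MonObj.comp_one]
      have h2 := (hms R (u ≫ t ≫ g)).1 ((hρ R _).1 h1) _ (𝟙 _) (u ≫ h)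
      rw [Category.id_comp] at h2
      rw [MonObj.comp_mul, MonObj.comp_mul, h2]
    · intro hg
      refine GrothLib.Repr.hom_ext_pts fun R _ _ u => ?_
      rw [MonObj.comp_one, ← Category.assoc]
      refine (hρ R _).2 ((hms R _).2 fun T' s y => ?_)
      rw [← Category.assoc]
      exact hg T' (s ≫ u) y
  refine ⟨Z, gZ, i, hmi, inferInstance, fun T g => ⟨fun ⟨z, hz⟩ => (hcen T g).1 (by
      rw [← hz, Category.assoc, hiρ, MonObj.comp_one]), fun h => hfac T g ((hcen T g).2 h)⟩, ?_⟩
  haveI : LocallyOfFinitePresentation G.hom := inferInstance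
  obtain ⟨Q, gQ, p, j, hp, hj, hpj, hps, hpf, -, hjm, hQ, hker⟩ :=
    Groth.Agent.S4094.result _ G L ρ (GrothLib.AlgSp.flat_to_field _)
  haveI := hp
  haveI := hj
  haveI := hps
  haveI := hjm
  haveI : CompactSpace G.left := QuasiCompact.compactSpace_of_compactSpace G.hom
  haveI : CompactSpace Q.left := ⟨by
    rw [← Set.range_eq_univ.2 hps.surj]
    exact isCompact_range p.left.continuous⟩
  haveI : IsAffineHom L.hom := isAffineHom_of_isAffine _
  haveI : QuasiCompact j.left := inferInstance
  haveI := GrothLib.AffMono14.isClosedImmersion_of_mono j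
  haveI : LocallyOfFiniteType Q.hom := inferInstance
  exact ⟨Q, gQ, p, hp, isAffine_of_isAffineHom j.left, inferInstance, hpf, hps, hker⟩

end Groth.Agent.S3027
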