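import Groth.Statements.S3032
import Groth.Agent.Lib.Hopf.Comod

set_option autoImplicit false
universe u
open CategoryTheory MonoidalCategory CartesianMonoidalCategory MonObj GrpObj AlgebraicGeometry TensorProduct
open SGA3

namespace Groth.Agent.S3032

/-- Let R be a Noetherian commutative ring, C an R-coalgebra which is flat as an R-module, V a
C-comodule and M a finitely generated R-submodule of V. Then M is contained in a subcomodule of V
which is finitely generated over R. -/
theorem result (R : Type u) [CommRing R] [IsNoetherianRing R] (C : Type u) [AddCommGroup C]
    [Module R C] [Coalgebra R C] [Module.Flat R C] (V : Type u) [AddCommGroup V] [Module R V] [HopfRep.Comod R C V]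
    (M : Submodule R V) (hM : M.FG) :
    ∃ W : Submodule R V, HopfRep.IsSubcomod (k := R) (A := C) W ∧ M ≤ W ∧ W.FG := by
  exact GrothLib.Hopf.Comod.exists_fg_of_flat (C := C) M hM

end Groth.Agent.S3032
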