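import Groth.Statements.S3033
import Groth.Agent.Lib.Homog14.Dim

set_option autoImplicit false
universe u
open CategoryTheory MonoidalCategory CartesianMonoidalCategory MonObj GrpObj AlgebraicGeometry TensorProduct
open SGA3

namespace Groth.Agent.S3033

/-- Let A be a local artinian ring and G a group scheme locally of finite type over A acting on a
nonempty A-scheme X locally of finite type, such that the morphism G ×_A X → X ×_A X, (g, x) ↦ (g·x,
x), is surjective. Then all connected components of X have the same dimension. The published
statement also asserts that the connected components are irreducible; that is not asserted here (it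
is stated separately). -/
theorem result (A : Type u) [CommRing A] [IsArtinianRing A] [IsLocalRing A]
    (G X : Over (Spec (CommRingCat.of A))) [GrpObj G] [LocallyOfFiniteType G.hom] [LocallyOfFiniteType X.hom] [Nonempty X.left]
    (a : AlgGrp.Action G X) (hΦ : Surjective (lift a.act (snd G X)).left) (x y : X.left) :
    topologicalKrullDim ↥(connectedComponent x) = topologicalKrullDim ↥(connectedComponent y) := by
  let r := IsLocalRing.residue A
  let b : Spec (CommRingCat.of (IsLocalRing.ResidueField A)) ⟶ Spec (CommRingCat.of A) := Spec.map (CommRingCat.ofHom r)
  haveI : IsClosedImmersion b := IsClosedImmersion.spec_of_surjective _ IsLocalRing.residue_surjective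
  haveI : Subsingleton (Spec (CommRingCat.of A)) := inferInstanceAs (Subsingleton (PrimeSpectrum A))
  haveI : Surjective b := ⟨fun s => ⟨IsLocalRing.closedPoint (IsLocalRing.ResidueField A), Subsingleton.elim _ _⟩⟩
  obtain ⟨_, a₀, ha₀⟩ := GrothLib.Homog14.exists_bc b a hΦ
  let π := Limits.pullback.fst X.hom b
  haveI : LocallyOfFiniteType ((Over.pullback b).obj X).hom :=
    MorphismProperty.pullback_snd (P := @LocallyOfFiniteType) X.hom b ‹_›
  haveI : IsClosedImmersion π := MorphismProperty.pullback_fst (P := @IsClosedImmersion) X.hom b ‹_›
  haveI : Surjective π := MorphismProperty.pullback_fst (P := @Surjective) X.hom b ‹_›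
  have hπ : IsHomeomorph π.base :=
    isHomeomorph_iff_isEmbedding_surjective.2 ⟨π.isClosedEmbedding.isEmbedding, π.surjective⟩
  have key : ∀ z, topologicalKrullDim ↥(connectedComponent (π.base z)) =
      topologicalKrullDim ↥(connectedComponent z) := by
    intro z
    have himg : π.base '' connectedComponent z = connectedComponent (π.base z) := by
      have hpre : π.base ⁻¹' connectedComponent (π.base z) = connectedComponent z := by
        refine Set.Subset.antisymm ?_ fun w hw =>
          π.continuous.image_connectedComponent_subset z ⟨w, hw, rfl⟩
        refine IsPreconnected.subset_connectedComponent ?_ mem_connectedComponent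
        exact isPreconnected_connectedComponent.preimage_of_isClosedMap hπ.injective π.isClosedEmbedding.isClosedMap
          (fun w _ => π.surjective w)
      rw [← hpre, Set.image_preimage_eq _ π.surjective]
    refine (GrothLib.Dim.IsEmbedding.topologicalKrullDim_eq (f := fun w : ↥(connectedComponent z) => π.base w.1)
      (π.isClosedEmbedding.isEmbedding.comp Topology.IsEmbedding.subtypeVal) ?_).symm
    rw [Set.range_comp' π.base, Subtype.range_coe, himg]
  obtain ⟨x', rfl⟩ := π.surjective x
  obtain ⟨y', rfl⟩ := π.surjective y
  rw [key, key]
  exact GrothLib.Homog14.dim_connectedComponent_eq (P := (Over.pullback b).obj X) ha₀ x' y'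

end Groth.Agent.S3033
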