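import Groth.Statements.S3038
import Groth.Agent.Lib.Neutral.ArtinFactor

set_option autoImplicit false
universe u
open CategoryTheory MonoidalCategory CartesianMonoidalCategory MonObj GrpObj AlgebraicGeometry TensorProduct
open SGA3

namespace Groth.Agent.S3038

/-- (ii) ⇒ (i): let A be a local artinian ring and u : G → H a homomorphism between group schemes
locally of finite type over A. If the underlying map of u is open, then u is universally open. -/
theorem result (A : Type u) [CommRing A] [IsArtinianRing A] [IsLocalRing A]
    (G H : Over (Spec (CommRingCat.of A))) [GrpObj G] [GrpObj H] [LocallyOfFiniteType G.hom] [LocallyOfFiniteType H.hom]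
    (u : G ⟶ H) [IsMonHom u] (hu : IsOpenMap u.left.base) : UniversallyOpen u.left := by
  exact GrothLib.Neutral.universallyOpen_of_isOpenMap_artin u hu

end Groth.Agent.S3038
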