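import Groth.Statements.S3041
import Groth.Agent.Lib.SecLocus.Locus

set_option autoImplicit false
universe u
open CategoryTheory MonoidalCategory CartesianMonoidalCategory MonObj GrpObj AlgebraicGeometry TensorProduct
open SGA3

namespace Groth.Agent.S3041

/-- Let f : X → S be a smooth morphism whose fibres are geometrically irreducible and j : Y → X a closed
immersion. Then there is a closed immersion t : T → S such that a morphism g : S' → S factors
through T exactly when the closed immersion Y ×_X X_{S'} → X_{S'} obtained by base change is an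
isomorphism; if j is of finite presentation then so is t. -/
theorem result (S X Y : Scheme.{u}) (f : X ⟶ S) [Smooth f]
    [GeometricallyIrreducible f] (j : Y ⟶ X) [IsClosedImmersion j] :
    ∃ (T : Scheme.{u}) (t : T ⟶ S), IsClosedImmersion t ∧
      (∀ (S' : Scheme.{u}) (g : S' ⟶ S),
        (∃ g' : S' ⟶ T, g' ≫ t = g) ↔ IsIso (Limits.pullback.snd j (Limits.pullback.fst f g))) ∧
      (LocallyOfFinitePresentation j → LocallyOfFinitePresentation t) := by
  obtain ⟨T, t, ht, hT, hfp⟩ := GrothLib.SecLocus.exists_closed_locus f j
  refine ⟨T, t, ht, fun S' g => (hT S' g).trans ⟨?_, fun h => ?_⟩, hfp⟩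
  · rintro ⟨l, hl⟩
    have : IsClosedImmersion (Limits.pullback.snd j (Limits.pullback.fst f g)) :=
      MorphismProperty.pullback_snd _ _ inferInstance
    have : IsSplitEpi (Limits.pullback.snd j (Limits.pullback.fst f g)) :=
      IsSplitEpi.mk' ⟨Limits.pullback.lift l (𝟙 _) (by rw [hl, Category.id_comp]),
        Limits.pullback.lift_snd _ _ _⟩
    exact isIso_of_mono_of_isSplitEpi _
  · exact ⟨inv (Limits.pullback.snd j (Limits.pullback.fst f g)) ≫ Limits.pullback.fst _ _,
      by rw [Category.assoc, Limits.pullback.condition, IsIso.inv_hom_id_assoc]⟩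

end Groth.Agent.S3041
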