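import Groth.Statements.S3043
import Mathlib.AlgebraicGeometry.Morphisms.Integral
import Mathlib.AlgebraicGeometry.PullbackCarrier

set_option autoImplicit false
universe u
open CategoryTheory MonoidalCategory CartesianMonoidalCategory MonObj GrpObj AlgebraicGeometry TensorProduct
open SGA3

open CategoryTheory.Limits

namespace Groth.Agent.S3043

/-- Let π : X → S be a morphism of schemes admitting a section ε (ε followed by π is the identity). If π
is injective on underlying points, then π is an integral morphism. -/
theorem result (X S : Scheme.{u}) (π : X ⟶ S) (ε : S ⟶ X) (hε : ε ≫ π = 𝟙 S)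
    (hinj : Function.Injective π.base) : IsIntegralHom π := by
  haveI : Surjective ε := ⟨fun x => ⟨π x, hinj (by rw [← Scheme.Hom.comp_apply, hε]; rfl)⟩⟩
  -- every base change of π is bijective with continuous inverse
  have key : ∀ {T : Scheme.{u}} (g : T ⟶ S), ∃ e : T ⟶ pullback π g, e ≫ pullback.snd π g = 𝟙 T ∧ Surjective e := by
    intro T g
    refine ⟨pullback.lift (g ≫ ε) (𝟙 T) (by rw [Category.assoc, hε]; simp), pullback.lift_snd _ _ _, ⟨fun w => ?_⟩⟩
    obtain ⟨v, hv⟩ := (pullback.snd ε (pullback.fst π g)).surjective w
    refine ⟨(pullback.snd ε (pullback.fst π g) ≫ pullback.snd π g) v, ?_⟩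
    have e : (pullback.snd ε (pullback.fst π g) ≫ pullback.snd π g) ≫ pullback.lift (g ≫ ε) (𝟙 T) (by rw [Category.assoc, hε]; simp) =
        pullback.snd ε (pullback.fst π g) := by
      have h := pullback.condition (f := ε) (g := pullback.fst π g)
      have ha : pullback.fst ε (pullback.fst π g) = pullback.snd ε (pullback.fst π g) ≫ pullback.snd π g ≫ g := by
        rw [← pullback.condition, ← reassoc_of% h, hε, Category.comp_id]
      apply pullback.hom_ext
      · rw [Category.assoc, pullback.lift_fst, ← h, ha]
        simp only [Category.assoc]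
      · rw [Category.assoc, pullback.lift_snd, Category.comp_id]
    rw [← hv]
    exact congrArg (fun k : pullback ε (pullback.fst π g) ⟶ pullback π g => k v) e
  rw [IsIntegralHom.iff_universallyClosed_and_isAffineHom]
  refine ⟨⟨MorphismProperty.universally_mk' (topologically @IsClosedMap) π fun g _ => ?_⟩, ?_⟩
  · obtain ⟨e, he, hs⟩ := key g
    change IsClosedMap (pullback.fst g π)
    have h2 : pullback.fst g π = (pullbackSymmetry g π).hom ≫ pullback.snd π g := by simp
    rw [h2, Scheme.Hom.comp_base]
    have hsnd : IsClosedMap (pullback.snd π g) := by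
      refine IsClosedMap.of_inverse (f' := e) e.continuous (fun x => ?_) (fun w => ?_)
      · rw [← Scheme.Hom.comp_apply, he]; rfl
      · obtain ⟨t, rfl⟩ := hs.surj w
        exact congrArg e (by rw [← Scheme.Hom.comp_apply, he]; rfl)
    exact hsnd.comp (pullbackSymmetry g π).hom.homeomorph.isClosedMap
  · have hl : Function.LeftInverse ε π := fun x => hinj (by rw [← Scheme.Hom.comp_apply, hε]; rfl)
    have hr : Function.RightInverse ε π := fun y => by rw [← Scheme.Hom.comp_apply, hε]; rfl
    exact isAffineHom_of_isInducing π ((hl.isEmbedding ε.continuous π.continuous).isInducing)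
      (by rw [Set.range_eq_univ.mpr hr.surjective]; exact isClosed_univ)

end Groth.Agent.S3043
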