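import Groth.Statements.S3045
import Groth.Agent.Lib.Hopf.Points

set_option autoImplicit false
universe u
open TensorProduct
open SGA3

namespace Groth.Agent.S3045

/-- Let A be a commutative Hopf algebra over a commutative ring k (the coordinate ring of an affine
group G = Spec A) and φ, ψ two k[ε]-valued points of G reducing to the unit point modulo ε (tangent
vectors at the identity). Then for every a ∈ A the ε-component of the product point φ · ψ at a — the
product of points being convolution, formed here as the triple convolution of φ, ψ and the unit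
point — is the sum of the ε-components of φ(a) and ψ(a): on tangent vectors at the identity the
group law of G induces addition. -/
theorem result (k : Type u) [CommRing k] (A : Type u) [CommRing A] [HopfAlgebra k A]
    (φ ψ : LieHopf.LiePts k A) (a : A) :
    TrivSqZeroExt.snd (Dyn.conv3 k A φ.1 ψ.1 ((Algebra.ofId k (DualNumber k)).comp (Bialgebra.counitAlgHom k A)) a) =
      LieHopf.LiePts.tangent k A φ a + LieHopf.LiePts.tangent k A ψ a := by
  obtain ⟨φ, hφ⟩ := φ
  obtain ⟨ψ, hψ⟩ := ψ
  change TrivSqZeroExt.snd (Dyn.conv3 k A φ ψ ((Algebra.ofId k (DualNumber k)).comp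
    (Bialgebra.counitAlgHom k A)) a) = TrivSqZeroExt.snd (φ a) + TrivSqZeroExt.snd (ψ a)
  rw [GrothLib.Hopf.conv3_eq, AlgHom.convMul_apply]
  have h1 : ∀ (g : A →ₐ[k] DualNumber k) (x : A ⊗[k] A),
      Algebra.TensorProduct.lift g ((Algebra.ofId k (DualNumber k)).comp (Bialgebra.counitAlgHom k A))
        (fun _ _ => Commute.all _ _) x =
      g (TensorProduct.rid k A (LinearMap.lTensor A (Coalgebra.counit (R := k)) x)) := by
    intro g x
    induction x using TensorProduct.induction_on with
    | zero => simp
    | tmul p q => simp [Algebra.smul_def, mul_comm]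
    | add p q hp hq => simp only [map_add, hp, hq]
  refine (congrArg TrivSqZeroExt.snd (h1 _ _)).trans ?_
  rw [Coalgebra.lTensor_counit_comul, TensorProduct.rid_tmul, one_smul, AlgHom.convMul_apply]
  have key : ∀ x : A ⊗[k] A,
      TrivSqZeroExt.snd (Algebra.TensorProduct.lift φ ψ (fun _ _ => Commute.all _ _) x) =
      TrivSqZeroExt.snd (φ (TensorProduct.rid k A (LinearMap.lTensor A (Coalgebra.counit (R := k)) x))) +
        TrivSqZeroExt.snd (ψ (TensorProduct.lid k A (LinearMap.rTensor A (Coalgebra.counit (R := k)) x))) := by
    intro x
    induction x using TensorProduct.induction_on with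
    | zero => simp
    | tmul p q =>
      simp only [Algebra.TensorProduct.lift_tmul, LinearMap.lTensor_tmul, LinearMap.rTensor_tmul,
        TensorProduct.rid_tmul, TensorProduct.lid_tmul, TrivSqZeroExt.snd_mul, map_smul,
        TrivSqZeroExt.snd_smul, hφ p, hψ q, Bialgebra.counitAlgHom_apply]
      simp only [smul_eq_mul, MulOpposite.smul_eq_mul_unop, MulOpposite.unop_op]
      ring
    | add p q hp hq => simp only [map_add, TrivSqZeroExt.snd_add, hp, hq]; abel
  refine (key _).trans ?_
  rw [Coalgebra.lTensor_counit_comul, Coalgebra.rTensor_counit_comul, TensorProduct.rid_tmul,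
    TensorProduct.lid_tmul, one_smul]

end Groth.Agent.S3045
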