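import Groth.Statements.S3046
import Groth.Agent.Lib.Hopf.Points
import Mathlib.RingTheory.HopfAlgebra.Convolution
import Mathlib.RingTheory.Coalgebra.Convolution
import Mathlib.Tactic.NoncommRing

set_option autoImplicit false
universe u
open TensorProduct
open SGA3

namespace Groth.Agent.S3046

/-- Let A be a commutative Hopf algebra over a commutative ring k, D and E two ε-derivations A → k
(tangent vectors at the identity of G = Spec A), R a commutative k-algebra and t, t' ∈ R with t² = 0
= t'². Let x = e + tD and y = e + t'E be the corresponding R-points of G. Then the commutator x y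
x⁻¹ y⁻¹ (product of points; the inverse of a point is its composite with the antipode) is the point
a ↦ ε(a) + [D, E](a) · t t', where [D, E] = D ⋆ E − E ⋆ D is the convolution commutator. -/
theorem result (k : Type u) [CommRing k] (A : Type u) [CommRing A] [HopfAlgebra k A]
    (D E : LieHopf.Lie k A) (R : Type u) [CommRing R] [Algebra k R] (t t' : R) (ht : t * t = 0) (ht' : t' * t' = 0)
    (a : A) :
    Dyn.conv3 k A
        (Dyn.conv3 k A (LieHopf.ptOfLie D R t ht) (LieHopf.ptOfLie E R t' ht')
          ((LieHopf.ptOfLie D R t ht).comp (HopfAlgebra.antipodeAlgHom k A)))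
        ((LieHopf.ptOfLie E R t' ht').comp (HopfAlgebra.antipodeAlgHom k A))
        ((Algebra.ofId k R).comp (Bialgebra.counitAlgHom k A)) a =
      algebraMap k R (Bialgebra.counitAlgHom k A a) + algebraMap k R (LieHopf.bracketLin D E a) * (t * t') := by
  let L : (A →ₗ[k] k) → WithConv (A →ₗ[k] R) := fun f => WithConv.toConv (Algebra.linearMap k R ∘ₗ f)
  have hLmul : ∀ f g, L f * L g = L (LieHopf.conv f g) := by
    intro f g
    ext c
    simp only [LieHopf.conv, LinearMap.convMul_apply, L, LinearMap.comp_apply]
    induction CoalgebraStruct.comul (R := k) c using TensorProduct.induction_on with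
    | zero => simp
    | tmul p q => simp
    | add p q hp hq => simp only [map_add, hp, hq]
  set x := LieHopf.ptOfLie D R t ht
  set y := LieHopf.ptOfLie E R t' ht'
  let lin : (A →ₐ[k] R) → WithConv (A →ₗ[k] R) := fun f => WithConv.toConv f.toLinearMap
  have hlmul : ∀ f g : A →ₐ[k] R,
      lin (WithConv.toConv f * WithConv.toConv g).ofConv = lin f * lin g :=
    fun f g => AlgHom.toLinearMap_convMul (WithConv.toConv f) (WithConv.toConv g)
  have hx : lin x = 1 + t • L (LieHopf.dlin D) := by
    ext c
    change algebraMap k R (Bialgebra.counitAlgHom k A c) + algebraMap k R (LieHopf.dlin D c) * t =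
      algebraMap k R (Coalgebra.counit c) + t • algebraMap k R (LieHopf.dlin D c)
    rw [smul_eq_mul, mul_comm t]
    rfl
  have hy : lin y = 1 + t' • L (LieHopf.dlin E) := by
    ext c
    change algebraMap k R (Bialgebra.counitAlgHom k A c) + algebraMap k R (LieHopf.dlin E c) * t' =
      algebraMap k R (Coalgebra.counit c) + t' • algebraMap k R (LieHopf.dlin E c)
    rw [smul_eq_mul, mul_comm t']
    rfl
  set d := L (LieHopf.dlin D)
  set e := L (LieHopf.dlin E)
  have hinv : ∀ (f : A →ₐ[k] R) (v : WithConv (A →ₗ[k] R)), lin f = 1 + v → v * v = 0 →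
      lin (f.comp (HopfAlgebra.antipodeAlgHom k A)) = 1 - v := by
    intro f v hf hv
    have h1 : lin (f.comp (HopfAlgebra.antipodeAlgHom k A)) * lin f = 1 := by
      have h0 := LinearMap.algHom_comp_convMul_distrib f (WithConv.toConv (HopfAlgebraStruct.antipode k (A := A)))
        (WithConv.toConv LinearMap.id)
      rw [LinearMap.antipode_mul_id] at h0
      refine WithConv.ext (h0.symm.trans ?_)
      ext c
      exact f.commutes _
    refine left_inv_eq_right_inv h1 ?_
    rw [hf, add_mul, one_mul, mul_sub, mul_one, hv, sub_zero, sub_add_cancel]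
  have hdd : (t • d) * (t • d) = 0 := by rw [smul_mul_smul_comm, ht, zero_smul]
  have hee : (t' • e) * (t' • e) = 0 := by rw [smul_mul_smul_comm, ht', zero_smul]
  have hprod : lin (Dyn.conv3 k A
        (Dyn.conv3 k A x y (x.comp (HopfAlgebra.antipodeAlgHom k A)))
        (y.comp (HopfAlgebra.antipodeAlgHom k A))
        ((Algebra.ofId k R).comp (Bialgebra.counitAlgHom k A))) =
      (1 + t • d) * (1 + t' • e) * (1 - t • d) * (1 - t' • e) * 1 := by
    simp only [GrothLib.Hopf.conv3_eq]
    rw [hlmul, hlmul, hlmul, hlmul, hx, hy, hinv x _ hx hdd, hinv y _ hy hee]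
    congr 1
  have hexp : (1 + t • d) * (1 + t' • e) * (1 - t • d) * (1 - t' • e) * 1 =
      1 + (t * t') • (d * e - e * d) := by
    have h1 : ∀ u v : WithConv (A →ₗ[k] R), (t • u) * (t • v) = 0 := fun u v => by
      rw [smul_mul_smul_comm, ht, zero_smul]
    have h2 : ∀ u v : WithConv (A →ₗ[k] R), (t' • u) * (t' • v) = 0 := fun u v => by
      rw [smul_mul_smul_comm, ht', zero_smul]
    simp only [mul_add, add_mul, mul_sub, sub_mul, one_mul, mul_one, smul_mul_assoc, mul_smul_comm,
      smul_smul, smul_sub, smul_add]
    simp only [show t' * (t * t') = 0 by linear_combination t * ht',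
      show t * (t * t') = 0 by linear_combination t' * ht, mul_comm t' t, ht, ht', zero_smul,
      add_zero, mul_zero]
    abel
  have hbr : L (LieHopf.bracketLin D E) = d * e - e * d := by
    rw [hLmul, hLmul]
    ext c
    exact map_sub (algebraMap k R) _ _
  have := congrArg (fun f : WithConv (A →ₗ[k] R) => f.ofConv a) (hprod.trans (hexp.trans (by rw [← hbr])))
  refine this.trans ?_
  change algebraMap k R (Coalgebra.counit a) + (t * t') • algebraMap k R (LieHopf.bracketLin D E a) = _
  rw [smul_eq_mul, mul_comm (t * t')]
  rfl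

end Groth.Agent.S3046
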