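import Groth.Statements.S3047
import Groth.Agent.Lib.EtSite.SetPoints

set_option autoImplicit false
open CategoryTheory CategoryTheory.Limits AlgebraicGeometry Opposite
universe u
open EtDesc

namespace Groth.Agent.S3047

/-- For a surjective morphism of schemes f : X' -> X, the inverse image functor f^* on sheaves of sets
for the small etale sites is faithful and reflects isomorphisms. -/
theorem result {X' X : Scheme.{u}} (f : X' ⟶ X) [Surjective f] :
    (EtDesc.pullSh f).Faithful ∧ (EtDesc.pullSh f).ReflectsIsomorphisms := by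
  constructor
  · refine ⟨fun {F G} a b hab => GrothLib.EtSite.hom_ext_of_stalksSh a b fun x => ?_⟩
    obtain ⟨x', rfl⟩ := f.surjective x
    refine ⟨_, _, inferInstance, GrothLib.EtSite.gpt x' ≫ f, ?_, ?_⟩
    · rw [Scheme.Hom.comp_apply, GrothLib.EtSite.gpt_default]
    · have hn := fun c : F ⟶ G => NatIso.naturality_1 (GrothLib.EtSite.pullStalkShIso (GrothLib.EtSite.gpt x') f) c
      rw [← hn a, ← hn b]
      simp [hab]
  · refine ⟨fun {F G} a ha => GrothLib.EtSite.isIso_of_stalksSh a fun x => ?_⟩
    obtain ⟨x', rfl⟩ := f.surjective x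
    refine ⟨_, _, inferInstance, GrothLib.EtSite.gpt x' ≫ f, ?_, ?_⟩
    · rw [Scheme.Hom.comp_apply, GrothLib.EtSite.gpt_default]
    · rw [← isIso_iff_bijective]
      exact (NatIso.isIso_map_iff (GrothLib.EtSite.pullStalkShIso (GrothLib.EtSite.gpt x') f) a).1
        (inferInstanceAs (IsIso ((GrothLib.EtSite.stalkSh (GrothLib.EtSite.gpt x')).map
          ((EtDesc.pullSh f).map a))))

end Groth.Agent.S3047
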