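import Groth.Statements.S3049
import Groth.Agent.Lib.EtDescent.CanIso
-- import your own Groth.Agent.* helpers here

set_option autoImplicit false
open CategoryTheory CategoryTheory.Limits AlgebraicGeometry Opposite
universe u
open EtDesc

namespace Groth.Agent.S3049

/-- Let f : X' -> X be universally submersive and F a sheaf of sets on X_et, with inverse images F' on
X' and F'' on X'' = X' x_X X'. Then Gamma(X, F) -> Gamma(X', F') is injective with image the
sections whose two pullbacks to X'' agree (under the canonical identification pr_1^* F' = pr_2^*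
F'); i.e. the sequence Gamma(X, F) -> Gamma(X', F') => Gamma(X'', F'') is exact. -/
theorem result {X' X : Scheme.{u}} (f : X' ⟶ X)
    (hf : EtDesc.IsUnivSubmersive f) (F : EtDesc.Sh X) :
    Function.Injective (EtDesc.secPull f F) ∧
    Set.range (EtDesc.secPull f F) =
      {s' | (EtDesc.canIso f F).hom.hom.app (op (EtCoh.top (EtDesc.X2 f)))
          (EtDesc.secPull (pullback.fst f f) ((EtDesc.pullSh f).obj F) s') =
        EtDesc.secPull (pullback.snd f f) ((EtDesc.pullSh f).obj F) s'} := by
  open GrothLib.EtSec GrothLib.EtSite GrothLib.EtDescent in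
  haveI : Surjective f := (hasQuotientBC_of_univSubmersive hf).surjective
  have e : f ≫ (EtCoh.top X).hom = (EtCoh.top X').hom ≫ f := (Category.comp_id f).trans (Category.id_comp f).symm
  refine ⟨fun s s' h => secOf_injective F _ (GrothLib.EtSec.res_injective (a := f) e ?_), Set.ext fun s' => ?_⟩
  · exact ((toSecs_secPull f F s e).symm.trans (congrArg (toSecs f F) h)).trans (toSecs_secPull f F s' e)
  have idl : ∀ {Ω : Type u} [Field Ω] (p : Spec (CommRingCat.of Ω) ⟶ X'),
      p ≫ (EtCoh.top X').hom ≫ f = p ≫ f := fun p => congrArg (p ≫ ·) (Category.id_comp f)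
  have key : ∀ (Ω : Type u) [Field Ω] [IsSepClosed Ω] (l : Spec (CommRingCat.of Ω) ⟶ EtDesc.X2 f)
      (p₁ p₂ : Spec (CommRingCat.of Ω) ⟶ X') (η : Spec (CommRingCat.of Ω) ⟶ X)
      (h₁ : l ≫ pullback.fst f f = p₁) (h₂ : l ≫ pullback.snd f f = p₂)
      (e₁ : p₁ ≫ f = η) (e₂ : p₂ ≫ f = η) (hl : l ≫ (EtCoh.top (EtDesc.X2 f)).hom = l),
      pst f F e₂ (pst (pullback.snd f f) _ h₂ (gSh _ l hl ((EtDesc.canIso f F).hom.hom.app (op (EtCoh.top (EtDesc.X2 f)))
          (EtDesc.secPull (pullback.fst f f) ((EtDesc.pullSh f).obj F) s')))) =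
        (toSecs f F s').val Ω p₁ η ((idl p₁).trans e₁) ∧
      pst f F e₂ (pst (pullback.snd f f) _ h₂ (gSh _ l hl
          (EtDesc.secPull (pullback.snd f f) ((EtDesc.pullSh f).obj F) s'))) =
        (toSecs f F s').val Ω p₂ η ((idl p₂).trans e₂) := by
    intro Ω _ _ l p₁ p₂ η h₁ h₂ e₁ e₂ hl
    subst h₁ h₂
    constructor
    · rw [← gSh_stalk_map, pst_canIso f F l rfl rfl e₁ e₂,
        pst_secPull (pullback.fst f f) _ l hl rfl (Category.comp_id _) s']
      exact (toSecs_val f F s' Ω (l ≫ pullback.fst f f) (Category.comp_id _) η ((idl _).trans e₁)).symm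
    · rw [pst_secPull (pullback.snd f f) _ l hl rfl (Category.comp_id _) s']
      exact (toSecs_val f F s' Ω (l ≫ pullback.snd f f) (Category.comp_id _) η ((idl _).trans e₂)).symm
  constructor
  · rintro ⟨s, rfl⟩
    refine sect_ext fun Ω _ _ l η hl => ?_
    obtain rfl : η = l := hl.symm.trans (Category.comp_id l)
    have e₂ : (η ≫ pullback.snd f f) ≫ f = (η ≫ pullback.fst f f) ≫ f := by
      rw [Category.assoc, Category.assoc, pullback.condition]
    obtain ⟨k₁, k₂⟩ := key Ω η _ _ _ rfl rfl rfl e₂ hl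
    refine (pst_bijective (pullback.snd f f) _ rfl).injective ((pst_bijective f F e₂).injective
      (k₁.trans (Eq.trans ?_ k₂.symm)))
    rw [toSecs_secPull f F s e, Secs.res_val, Secs.res_val]
    exact (secOf F s).val_congr e₂.symm _ _
  · intro hs'
    have hc : Compat f (toSecs f F s') := fun Ω _ _ p q η hp hq hpq => by
      obtain ⟨k₁, k₂⟩ := key Ω (pullback.lift p q hpq) p q η (pullback.lift_fst _ _ _) (pullback.lift_snd _ _ _)
        ((idl p).symm.trans hp) ((idl q).symm.trans hq) (Category.comp_id _)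
      rw [← k₁, ← k₂, hs']
    obtain ⟨σ, hσ⟩ := exists_descend (b := (EtCoh.top X).hom) (hasQuotientBC_of_univSubmersive hf) e (toSecs f F s') hc
    obtain ⟨s, rfl⟩ := (secOf_bijective F (EtCoh.top X)).surjective σ
    exact ⟨s, toSecs_injective f F _ ((toSecs_secPull f F s e).trans hσ)⟩

end Groth.Agent.S3049
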