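import Groth.Statements.S3058
import Groth.Agent.Lib.Topos.QC

set_option autoImplicit false
open CategoryTheory CategoryTheory.Limits Opposite
universe u
open ToposFin

namespace Groth.Agent.S3058

/-- For a topos of sheaves of sets on a small site: the coproduct of a small family of objects is
quasi-compact if and only if every member is quasi-compact and all but finitely many members are
initial (empty) objects. -/
theorem result {C : Type u} [SmallCategory C] {J : GrothendieckTopology C} {ι : Type u}
    (F : ι → ToposFin.Sh J) :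
    ToposFin.IsQC (∐ F) ↔ (∀ i, ToposFin.IsQC (F i)) ∧ {i | IsEmpty (F i ≅ ⊥_ (ToposFin.Sh J))}.Finite := by
  classical
  have hc := coproductIsCoproduct F
  constructor
  · intro h
    refine ⟨fun i => GrothLib.Topos.QC.isQC_summand hc h i, ?_⟩
    obtain ⟨s, hs⟩ := GrothLib.Topos.QC.IsQC.exists_finset h (GrothLib.Topos.QC.fam_cofan hc)
    refine s.finite_toSet.subset fun i hi => ?_
    by_contra his
    have hE : GrothLib.Topos.QC.Empty' (F i) := by
      intro Z a b
      refine GrothLib.Topos.QC.fam_pullback hs ((Cofan.mk (∐ F) (Sigma.ι F)).inj i) Z a b fun p => ?_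
      have hne : (p : ι) ≠ i := fun e => his (e ▸ Finset.mem_coe.2 p.2)
      have hd : CoproductDisjoint F := by
        obtain ⟨c', hc', h', -⟩ := GrothLib.Topos.hasDisjointUniversalCoproducts (J := J) ι F
        exact h'
      exact (IsInitial.ofCoproductDisjointOfIsColimitOfIsLimit hne hc
        (pullback.isLimit _ _)).hom_ext _ _
    have : Epi (initial.to (F i)) := ⟨fun a b _ => hE _ a b⟩
    have : IsIso (initial.to (F i)) := isIso_of_mono_of_epi _
    exact (hi : IsEmpty _).false (asIso (initial.to (F i))).symm
  · rintro ⟨hqc, hfin⟩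
    have := hfin.to_subtype
    refine GrothLib.Topos.QC.isQC_of_finite_cover (X := ∐ F)
      (ρ := fun p : {i | IsEmpty (F i ≅ ⊥_ (ToposFin.Sh J))} => Sigma.ι F p.1) ?_ fun p => hqc p.1
    intro Z a b hab
    refine Sigma.hom_ext _ _ fun i => ?_
    by_cases hi : IsEmpty (F i ≅ ⊥_ (ToposFin.Sh J))
    · exact hab ⟨i, hi⟩
    · obtain ⟨e⟩ := not_isEmpty_iff.1 hi
      exact (initialIsInitial.ofIso e.symm).hom_ext _ _

end Groth.Agent.S3058
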