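import Groth.Statements.S3064
import Groth.Agent.Lib.Topos.QC

set_option autoImplicit false
open CategoryTheory CategoryTheory.Limits Opposite
universe u
open ToposFin

namespace Groth.Agent.S3064

/-- For a topos of sheaves of sets on a small site admitting a generating family of quasi-compact
objects: for a jointly epimorphic family (Y_i -> Y), a morphism f : X -> Y is quasi-compact (resp.
quasi-separated) if and only if all its base changes X x_Y Y_i -> Y_i are. -/
theorem result {C : Type u} [SmallCategory C] {J : GrothendieckTopology C} (hE : ToposFin.HasQCGenerators J) {X Y : ToposFin.Sh J}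
    (f : X ⟶ Y) {ι : Type u} (Yi : ι → ToposFin.Sh J) (g : ∀ i, Yi i ⟶ Y) (hg : Epi (Sigma.desc g)) :
    (ToposFin.IsQCHom f ↔ ∀ i, ToposFin.IsQCHom (pullback.snd f (g i))) ∧
    (ToposFin.IsQSHom f ↔ ∀ i, ToposFin.IsQSHom (pullback.snd f (g i))) := by
  have hg' := (GrothLib.Topos.QC.epi_sigmaDesc_iff_fam g).1 hg
  exact ⟨⟨fun h i => GrothLib.Topos.QC.isQCHom_of_isPullback (IsPullback.of_hasPullback f (g i)) h,
      fun h => GrothLib.Topos.QC.isQCHom_local f hE hg' h⟩,
    ⟨fun h i => GrothLib.Topos.QC.isQSHom_of_isPullback (IsPullback.of_hasPullback f (g i)) h,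
      fun h => GrothLib.Topos.QC.isQSHom_local f hE hg' h⟩⟩

end Groth.Agent.S3064
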