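import Groth.Statements.S3074
import Groth.Agent.Lib.Topos.QC

set_option autoImplicit false
open CategoryTheory CategoryTheory.Limits Opposite
universe u
open ToposFin

namespace Groth.Agent.S3074

/-- For a topos of sheaves of sets on a small site: (1) a subobject of a quasi-separated object is
quasi-separated; (2) the coproduct of a small family (X_i) is quasi-separated if and only if every
X_i is. -/
theorem result {C : Type u} [SmallCategory C] {J : GrothendieckTopology C} :
    (∀ {X Y : ToposFin.Sh J} (i : X ⟶ Y) [Mono i], ToposFin.IsQS Y → ToposFin.IsQS X) ∧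
    ∀ {ι : Type u} (F : ι → ToposFin.Sh J), ToposFin.IsQS (∐ F) ↔ ∀ i, ToposFin.IsQS (F i) := by
  refine ⟨fun i _ hY => GrothLib.Topos.QC.isQS_of_mono i hY, fun {ι} F => ⟨fun h i => ?_, fun h => ?_⟩⟩
  · have : CoproductDisjoint F := by
      obtain ⟨c', hc', h', -⟩ := GrothLib.Topos.hasDisjointUniversalCoproducts (J := J) ι F
      exact h'
    exact GrothLib.Topos.QC.isQS_of_mono (Sigma.ι F i) h
  · have hc := coproductIsCoproduct F
    rw [GrothLib.Topos.QC.isQS_iff_isQCHom]
    intro W a hW
    obtain ⟨s, hs⟩ := GrothLib.Topos.QC.IsQC.exists_finset hW (GrothLib.Topos.QC.fam_pullback (GrothLib.Topos.QC.fam_cofan hc) a)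
    obtain ⟨n, e, hn⟩ := GrothLib.Topos.QC.fam_finite hs
    refine GrothLib.Topos.QC.isQCHom_of_finite_cover a hn fun k => ?_
    show ToposFin.IsQCHom (pullback.snd _ a ≫ a)
    rw [← pullback.condition]
    exact GrothLib.Topos.QC.isQCHom_comp
      (GrothLib.Topos.QC.IsQS.isQCHom (h _) (GrothLib.Topos.QC.isQCHom_cofan_inj hc _ _ a hW) _)
      (GrothLib.Topos.QC.isQCHom_cofan_inj hc _)

end Groth.Agent.S3074
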