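import Groth.Statements.S3076
import Groth.Agent.Lib.Topos.QC

set_option autoImplicit false
open CategoryTheory CategoryTheory.Limits Opposite
universe u
open ToposFin

namespace Groth.Agent.S3076

/-- For a topos of sheaves of sets on a small site admitting a generating family of quasi-compact
objects: let g : Y -> Z and let (f_i : X_i -> Y) be a jointly epimorphic family of quasi-compact
morphisms. If every g o f_i is quasi-separated then g is quasi-separated; if moreover the family is
finite and every g o f_i is coherent, then g is coherent. -/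
theorem result {C : Type u} [SmallCategory C] {J : GrothendieckTopology C} (hE : ToposFin.HasQCGenerators J) {Y Z : ToposFin.Sh J}
    (g : Y ⟶ Z) :
    (∀ {ι : Type u} (X : ι → ToposFin.Sh J) (f : ∀ i, X i ⟶ Y), Epi (Sigma.desc f) →
      (∀ i, ToposFin.IsQCHom (f i)) → (∀ i, ToposFin.IsQSHom (f i ≫ g)) → ToposFin.IsQSHom g) ∧
    (∀ {n : ℕ} (X : Fin n → ToposFin.Sh J) (f : ∀ k, X k ⟶ Y), Epi (Sigma.desc f) →
      (∀ k, ToposFin.IsQCHom (f k)) → (∀ k, ToposFin.IsCohHom (f k ≫ g)) → ToposFin.IsCohHom g) := by
  have key : ∀ {ι : Type u} (X : ι → ToposFin.Sh J) (f : ∀ i, X i ⟶ Y), GrothLib.Topos.QC.Fam f →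
      (∀ i, ToposFin.IsQCHom (f i)) → (∀ i, ToposFin.IsQSHom (f i ≫ g)) → ToposFin.IsQSHom g := by
    intro ι X f hf hqc hqs
    rw [GrothLib.Topos.QC.isQSHom_iff]
    intro W a b hW hab
    obtain ⟨κ, _, V, v, hv, hV, hl⟩ := GrothLib.Topos.QC.exists_refinement hE hW (GrothLib.Topos.QC.fam_pullback hf a)
    refine GrothLib.Topos.QC.isQC_of_finite_cover (GrothLib.Topos.QC.fam_pullback hv (equalizer.ι a b)) fun k => ?_
    obtain ⟨i, l, hl⟩ := hl k
    obtain ⟨a', ha'⟩ : ∃ a' : V k ⟶ X i, a' ≫ f i = v k ≫ a :=
      ⟨l ≫ pullback.fst (f i) a, by rw [Category.assoc, pullback.condition, ← Category.assoc, hl]⟩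
    refine GrothLib.Topos.QC.isQC_of_iso (GrothLib.Topos.QC.isPullback_equalizer_comp (v k) a b).flip.isoPullback ?_
    let T := pullback (f i) (v k ≫ b)
    have hT : ToposFin.IsQC T := hqc i _ _ (hV k)
    have h₁ := (GrothLib.Topos.QC.isQSHom_iff _).1 (hqs i) T (pullback.fst _ _) (pullback.snd _ _ ≫ a') hT (by
      rw [← Category.assoc, pullback.condition, Category.assoc, Category.assoc, Category.assoc,
        reassoc_of% ha', hab])
    refine GrothLib.Topos.QC.isQC_of_iso
      { hom := equalizer.lift (equalizer.ι _ _ ≫ pullback.snd (f i) (v k ≫ b)) ?_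
        inv := equalizer.lift (pullback.lift (equalizer.ι _ _ ≫ a') (equalizer.ι _ _) ?_) ?_
        hom_inv_id := ?_
        inv_hom_id := ?_ } h₁
    · have := congrArg (· ≫ f i) (equalizer.condition (pullback.fst (f i) (v k ≫ b))
        (pullback.snd (f i) (v k ≫ b) ≫ a'))
      simp only [Category.assoc, pullback.condition, ha'] at this
      simpa only [Category.assoc] using this.symm
    · simp only [Category.assoc, ha']
      exact equalizer.condition _ _
    · simp [pullback.lift_fst, pullback.lift_snd_assoc]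
    · apply equalizer.hom_ext
      apply pullback.hom_ext
      · simp only [Category.assoc, equalizer.lift_ι, equalizer.lift_ι_assoc, pullback.lift_fst,
          Category.id_comp]
        exact (equalizer.condition _ _).symm
      · simp [pullback.lift_snd]
    · apply equalizer.hom_ext
      simp [pullback.lift_snd]
  refine ⟨fun X f hf h₁ h₂ => key X f ((GrothLib.Topos.QC.epi_sigmaDesc_iff_fam f).1 hf) h₁ h₂,
    fun {n} X f hf h₁ h₂ => ?_⟩
  have hf' := (GrothLib.Topos.QC.epi_sigmaDesc_iff_fam f).1 hf
  exact ⟨GrothLib.Topos.QC.isQCHom_of_finite_cover g hf' fun k => (h₂ k).1,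
    key (fun i : ULift.{u} (Fin n) => X i.down) (fun i => f i.down) (GrothLib.Topos.QC.fam_ulift hf')
      (fun i => h₁ i.down) fun i => (h₂ i.down).2⟩

end Groth.Agent.S3076
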