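import Groth.Statements.S3082
import Groth.Agent.Lib.Topos.Canonical

set_option autoImplicit false
universe u
open CategoryTheory
open SGA4

namespace Groth.Agent.S3082

/-- Let (C, J) be a small site and G a set of objects of C such that each object of C has a covering
family whose members all lie in G. Then the sheafifications of the presheaves represented by the
members of G form a detecting family in the category Sh(C, J) of set-valued sheaves on (C, J): any
morphism of sheaves that is bijective on sections over each member of G is an isomorphism. -/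
theorem result {C : Type u} [SmallCategory C] (J : GrothendieckTopology C) (G : Set C)
    (hG : ∀ X : C, ∃ (ι : Type u) (Y : ι → C) (f : ∀ i, Y i ⟶ X), Sieve.ofArrows Y f ∈ J X ∧ ∀ i, Y i ∈ G) :
    (ObjectProperty.ofObj fun X : G => (presheafToSheaf J (Type u)).obj (yoneda.obj (X : C))).IsDetecting := by
  intro A B f hf
  have hb : ∀ (Y : C), Y ∈ G → Function.Bijective (f.hom.app (Opposite.op Y)) := by
    intro Y hY
    refine (Function.bijective_iff_existsUnique _).2 fun s => ?_
    obtain ⟨g, hg, hu⟩ := hf _ (ObjectProperty.ofObj_apply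
      (fun X : G => (presheafToSheaf J (Type u)).obj (yoneda.obj (X : C))) ⟨Y, hY⟩)
      ((GrothLib.Topos.secEquiv Y B).symm s)
    refine ⟨GrothLib.Topos.secEquiv Y A g, ?_, fun t ht => ?_⟩
    · show f.hom.app (Opposite.op Y) _ = s
      rw [← GrothLib.Topos.secEquiv_comp, hg, Equiv.apply_symm_apply]
    · have := hu ((GrothLib.Topos.secEquiv Y A).symm t)
        (show _ ≫ f = _ by rw [GrothLib.Topos.secEquiv_symm_comp, ht])
      rw [← this, Equiv.apply_symm_apply]
  have : Sheaf.IsLocallySurjective f := ⟨fun {X} s => by
    obtain ⟨ι, Y, g, hg, hY⟩ := hG X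
    refine J.superset_covering ?_ hg
    rintro V k ⟨_, a, _, ⟨i⟩, rfl⟩
    obtain ⟨t, ht⟩ := (hb _ (hY i)).2 (B.obj.map (g i).op s)
    refine ⟨A.obj.map a.op t, ?_⟩
    rw [NatTrans.naturality_apply, ht, op_comp, Functor.map_comp_apply]⟩
  have : Sheaf.IsLocallyInjective f := ⟨fun {X} s t hst => by
    obtain ⟨ι, Y, g, hg, hY⟩ := hG X.unop
    refine J.superset_covering ?_ hg
    rintro V k ⟨_, a, _, ⟨i⟩, rfl⟩
    show A.obj.map (a ≫ g i).op s = A.obj.map (a ≫ g i).op t
    rw [op_comp, Functor.map_comp_apply, Functor.map_comp_apply]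
    congr 1
    apply (hb _ (hY i)).1
    rw [NatTrans.naturality_apply, NatTrans.naturality_apply, hst]⟩
  exact (Sheaf.isLocallyBijective_iff_isIso f).1 ⟨inferInstance, inferInstance⟩

end Groth.Agent.S3082
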