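import Groth.Statements.S3083
import Groth.Agent.Lib.Topos.OpenClosed

set_option autoImplicit false
universe u
open CategoryTheory
open SGA4

namespace Groth.Agent.S3083

open CategoryTheory.Limits in
/-- For the topos of sheaves of sets on a small site: let U be an open (a subterminal sheaf) and F the
strictly full subcategory of sheaves X for which the projection U × X -> U is an isomorphism (the
closed complement of U). Then the inclusion of F admits a left adjoint i^* which preserves finite
limits, and i^* X is (the image in E of) the pushout U ⨿_{U × X} X for every X. -/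
theorem result {C : Type u} [SmallCategory C] (J : GrothendieckTopology C)
    (U : Sheaf J (Type u)) (hU : SGA4.IsOpen U) :
    ∃ (L : Sheaf J (Type u) ⥤ (SGA4.closedCompl U).FullSubcategory) (_ : L ⊣ (SGA4.closedCompl U).ι),
      PreservesFiniteLimits L ∧
      ∀ X : Sheaf J (Type u), Nonempty (((SGA4.closedCompl U).ι).obj (L.obj X) ≅
        pushout (prod.fst : U ⨯ X ⟶ U) (prod.snd : U ⨯ X ⟶ X)) := by
  refine ⟨GrothLib.Topos.OpenClosed.reflect U, GrothLib.Topos.OpenClosed.reflectAdj U hU,
    inferInstance, fun X => ⟨?_⟩⟩
  exact (GrothLib.Topos.OpenClosed.isPushout U hU X).isoPushout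

end Groth.Agent.S3083
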