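import Groth.Statements.S3088
import Groth.Agent.Lib.CechNerveHtpy25.Basic
import Groth.Agent.Lib.HyperHomotopy.Basic

set_option autoImplicit false
set_option linter.all false
set_option backward.isDefEq.respectTransparency false
set_option backward.isDefEq.respectTransparency.types false
universe u
open CategoryTheory
open CohSite

namespace Groth.Agent.S3088

open CategoryTheory.Limits in
/-- With A = Z: let C be a u-small category with fibre products, 𝒰 and 𝒰' two families of objects over U
(formal coproducts in the over category) and f, g : 𝒰 -> 𝒰' two refinement morphisms. Then for every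
presheaf of abelian groups M and every q, the maps induced by f and g on the q-th Cech cohomology
groups (from that of 𝒰' to that of 𝒰) coincide. -/
theorem result {C : Type u} [SmallCategory C] [HasPullbacks C] (M : Cᵒᵖ ⥤ AddCommGrpCat.{u})
    {U : C} {𝒰 𝒰' : FormalCoproduct.{u} (Over U)} (f g : 𝒰 ⟶ 𝒰') (q : ℕ) :
    HomologicalComplex.homologyMap (CohCx.cechRefine M f) q = HomologicalComplex.homologyMap (CohCx.cechRefine M g) q := by
  obtain ⟨H⟩ : Nonempty (SimplicialObject.Homotopy
      (Limits.FormalCoproduct.cechFunctor.map f) (Limits.FormalCoproduct.cechFunctor.map g)) := by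
    refine GrothLib.CechNerveHtpy25.nonempty_homotopy (X := 𝒰.cech) (Y := 𝒰'.cech)
      (fun n k => 𝒰.powerπ k) (fun n k => 𝒰'.powerπ k)
      (fun θ k => 𝒰.mapPower_π _ k) (fun θ k => 𝒰'.mapPower_π _ k)
      (fun n W a b h => Limits.Fan.IsLimit.hom_ext (𝒰'.isLimitPowerFan _) a b h) f g _ _
      (fun n k => ?_) (fun n k => ?_) (fun n c p =>
        ⟨Limits.Fan.IsLimit.lift (𝒰'.isLimitPowerFan _) (fun k => 𝒰.powerπ (p k) ≫ if c k then f else g),
          fun k => Limits.Fan.IsLimit.fac (𝒰'.isLimitPowerFan _) _ k⟩)
    · refine Limits.FormalCoproduct.hom_ext (by funext x; rfl) (fun x => ?_)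
      simp [Limits.FormalCoproduct.cechFunctor]
      exact Limits.Pi.map_π _ _
    · refine Limits.FormalCoproduct.hom_ext (by funext x; rfl) (fun x => ?_)
      simp [Limits.FormalCoproduct.cechFunctor]
      exact Limits.Pi.map_π _ _
  exact (GrothLib.HyperHomotopy.cochainHomotopy ((Limits.FormalCoproduct.evalOp.{u} (Over U) AddCommGrpCat.{u}).obj
    ((Over.forget U).op ⋙ M)) H).homologyMap_eq q

end Groth.Agent.S3088
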