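import Groth.Statements.S3092
import Groth.Agent.Lib.RelFill25.Cosk
import Groth.Agent.Lib.RelFill25.Homology

set_option autoImplicit false
set_option linter.all false
universe u
open CategoryTheory
open Hyper

namespace Groth.Agent.S3092

open Opposite CategoryTheory.Limits in
/-- In the topos of sheaves of sets on a small site; coskeleta assumed to exist: let v : K -> L be a
morphism of simplicial sheaves of sets and n ≥ 0 such that v_p is an isomorphism for p < n, v_n is
an epimorphism, and K, L are n-coskeletal (the units K -> cosk_n K, L -> cosk_n L are isomorphisms).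
Then every v_p is an epimorphism and v induces a quasi-isomorphism between the chain complexes of
free abelian sheaves Z[K] -> Z[L]. -/
theorem result {C : Type u} [SmallCategory C] (J : GrothendieckTopology C)
    [∀ (n : ℕ) (F : (SimplexCategory.Truncated n)ᵒᵖ ⥤ Sheaf J (Type u)),
      (SimplexCategory.Truncated.inclusion n).op.HasRightKanExtension F]
    {K L : SimplicialObject (Sheaf J (Type u))} (v : K ⟶ L) (n : ℕ)
    (h1 : ∀ p : ℕ, p < n → IsIso (v.app (op (SimplexCategory.mk p))))
    (h2 : Epi (v.app (op (SimplexCategory.mk n))))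
    (h3 : IsIso ((SimplicialObject.coskAdj n).unit.app K) ∧ IsIso ((SimplicialObject.coskAdj n).unit.app L)) :
    (∀ p : ℕ, Epi (v.app (op (SimplexCategory.mk p)))) ∧
    QuasiIso ((AlgebraicTopology.alternatingFaceMapComplex _).map
      (Functor.whiskerRight v (Sheaf.composeAndSheafify J AddCommGrpCat.free.{u}))) := by
  let G := sheafToPresheaf J (Type u)
  let f : K ⋙ G ⟶ L ⋙ G := Functor.whiskerRight v G
  have hsurj : ∀ (U : C) (σ : GrothLib.Hyper19.Sx (L ⋙ G) n U), ∃ S ∈ J U, ∀ ⦃V : C⦄ (g : V ⟶ U), S g →
      ∃ x : GrothLib.Hyper19.Sx (K ⋙ G) n V,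
        GrothLib.RelFill25.fapp f x = GrothLib.Hyper19.rst (L ⋙ G) g σ := by
    intro U σ
    haveI : Sheaf.IsLocallySurjective (v.app (op (SimplexCategory.mk n))) :=
      (Sheaf.isLocallySurjective_iff_epi' _ _).2 h2
    exact ⟨Presheaf.imageSieve (v.app (op (SimplexCategory.mk n))).hom σ,
      Presheaf.imageSieve_mem J (U := op U) (v.app (op (SimplexCategory.mk n))).hom σ, fun V g hg => hg⟩
  have hf : GrothLib.RelFill25.RFill J f :=
    GrothLib.RelFill25.rfill_of_isCosk (n := n)
      (fun i hi U =>
        haveI := h1 i hi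
        haveI : IsIso (G.map (v.app (op (SimplexCategory.mk i)))) := inferInstance
        ConcreteCategory.bijective_of_isIso ((G.map (v.app (op (SimplexCategory.mk i)))).app (op U)))
      hsurj
      (GrothLib.RelFill25.isCosk_of_bijective (GrothLib.RelFill25.truncation_bijective_of_adj
        (sheafificationAdjunction J (Type u)) K (GrothLib.RelFill25.truncation_bijective K h3.1)))
      (GrothLib.RelFill25.isCosk_of_bijective (GrothLib.RelFill25.truncation_bijective_of_adj
        (sheafificationAdjunction J (Type u)) L (GrothLib.RelFill25.truncation_bijective L h3.2)))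
  refine ⟨fun p => ?_, ⟨fun i => ?_⟩⟩
  · refine (Sheaf.isLocallySurjective_iff_epi' _ _).1 ⟨fun {U} σ => ?_⟩
    obtain ⟨S, hS, h⟩ := GrothLib.RelFill25.exists_lifted hf p ({σ} : Set (GrothLib.Hyper19.Sx (L ⋙ G) p _))
      (Set.finite_singleton σ)
    refine J.superset_covering (fun V g hg => ?_) hS
    obtain ⟨c, hc⟩ := h g hg
    exact ⟨c σ, hc.image rfl⟩
  · rw [quasiIsoAt_iff_isIso_homologyMap]
    exact GrothLib.RelFill25.isIso_smap_homologyMap hf i

end Groth.Agent.S3092
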