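import Groth.Statements.S3093
-- import your own Groth.Agent.* helpers here

set_option autoImplicit false
universe u
open CohTop

namespace Groth.Agent.S3093

/-- Let X be a topological space and K ⊆ X a compact subset such that any two distinct points of K have
disjoint open neighbourhoods in X. If A and B are subsets of K that are closed in K and W is an open
subset of X containing A ∩ B, then there are open subsets U ⊇ A and V ⊇ B of X with U ∩ V ⊆ W. -/
theorem result {X : Type u} [TopologicalSpace X] {K : Set X} (hK : IsCompact K)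
    (hsep : ∀ x ∈ K, ∀ y ∈ K, x ≠ y → ∃ U V : Set X, IsOpen U ∧ IsOpen V ∧ x ∈ U ∧ y ∈ V ∧ Disjoint U V)
    {A B W : Set X} (hA : A ⊆ K) (hB : B ⊆ K) (hAc : IsClosed (Subtype.val ⁻¹' A : Set K))
    (hBc : IsClosed (Subtype.val ⁻¹' B : Set K)) (hW : IsOpen W) (hABW : A ∩ B ⊆ W) :
    ∃ U V : Set X, IsOpen U ∧ IsOpen V ∧ A ⊆ U ∧ B ⊆ V ∧ U ∩ V ⊆ W := by
  classical
  have hAcl : IsCompact A := by
    have : CompactSpace K := isCompact_iff_compactSpace.1 hK
    have h := (hAc.isCompact).image (continuous_subtype_val : Continuous (Subtype.val : K → X))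
    rwa [Subtype.image_preimage_coe, Set.inter_eq_right.2 hA] at h
  have hBcl : IsCompact B := by
    have : CompactSpace K := isCompact_iff_compactSpace.1 hK
    have h := (hBc.isCompact).image (continuous_subtype_val : Continuous (Subtype.val : K → X))
    rwa [Subtype.image_preimage_coe, Set.inter_eq_right.2 hB] at h
  have hAW : IsCompact (A \ W) := hAcl.diff hW
  have hBW : IsCompact (B \ W) := hBcl.diff hW
  suffices h : SeparatedNhds (A \ W) (B \ W) by
    obtain ⟨U, V, hU, hV, hAU, hBV, hd⟩ := h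
    refine ⟨U ∪ W, V ∪ W, hU.union hW, hV.union hW, fun a ha => ?_, fun b hb => ?_, ?_⟩
    · exact (em (a ∈ W)).elim Or.inr fun h => Or.inl (hAU ⟨ha, h⟩)
    · exact (em (b ∈ W)).elim Or.inr fun h => Or.inl (hBV ⟨hb, h⟩)
    · rintro z ⟨hz₁ | hz₁, hz₂ | hz₂⟩
      · exact absurd hz₂ (Set.disjoint_left.1 hd hz₁)
      all_goals assumption
  have hpt : ∀ a ∈ A \ W, SeparatedNhds {a} (B \ W) := by
    intro a ha
    refine hBW.induction_on (SeparatedNhds.empty_right _) (fun s s' hss h => h.mono le_rfl hss)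
      (fun s s' h h' => h.union_right h') fun b hb => ?_
    have hne : a ≠ b := fun e => ha.2 (hABW ⟨ha.1, e ▸ hb.1⟩)
    obtain ⟨U, V, hU, hV, haU, hbV, hd⟩ := hsep a (hA ha.1) b (hB hb.1) hne
    exact ⟨V, mem_nhdsWithin_of_mem_nhds (hV.mem_nhds hbV), U, V, hU, hV,
      Set.singleton_subset_iff.2 haU, le_rfl, hd⟩
  refine hAW.induction_on (SeparatedNhds.empty_left _) (fun s s' hss h => h.mono hss le_rfl)
    (fun s s' h h' => h.union_left h') fun a ha => ?_
  obtain ⟨U, V, hU, hV, haU, hbV, hd⟩ := hpt a ha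
  exact ⟨U, mem_nhdsWithin_of_mem_nhds (hU.mem_nhds (haU rfl)), U, V, hU, hV, le_rfl, hbV, hd⟩

end Groth.Agent.S3093
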