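import Groth.Statements.S3103
import Groth.Agent.Lib.EtPic2.Pic
import Groth.Agent.Lib.EtBasicB.RootCover
import Groth.Agent.Lib.InvExt.UFD
import Groth.Agent.Lib.RegUFD.Basic
import Groth.Agent.Lib.RegLoc.Basic
import Groth.Agent.Lib.EtTrace21.Killed
import Groth.Agent.Lib.RelProjK.Local
import Groth.Agent.Lib.Ample.CocPullback
import Groth.Agent.Lib.Ample.Product
import Mathlib.RingTheory.Henselian
import Mathlib.Data.ZMod.QuotientGroup

set_option linter.all false
set_option backward.isDefEq.respectTransparency false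

set_option autoImplicit false
universe u
open CategoryTheory CategoryTheory.Limits AlgebraicGeometry Opposite
open EtDual

namespace Groth.Agent.S3103

open AlgebraicGeometry CategoryTheory Limits CategoryTheory.Abelian Opposite

theorem exists_root {A : Type u} [CommRing A] (hA : EtCoh.IsStrictlyHenselianLocalRing A) (n : ℕ)
    (hn : IsUnit (n : A)) (hn0 : n ≠ 0) (a : Aˣ) : ∃ b : Aˣ, b ^ n = a := by
  obtain ⟨hH, hs⟩ := hA
  haveI := hs
  haveI : NeZero ((n : IsLocalRing.ResidueField A)) := ⟨by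
    rw [← map_natCast (IsLocalRing.residue A) n]
    exact (hn.map _).ne_zero⟩
  obtain ⟨z, hz⟩ := IsSepClosed.exists_pow_nat_eq (IsLocalRing.residue A (a : A)) n
  obtain ⟨a₀, rfl⟩ := Ideal.Quotient.mk_surjective z
  change IsLocalRing.residue A a₀ ^ n = IsLocalRing.residue A (a : A) at hz
  have ha₀ : IsUnit a₀ := by
    by_contra h
    have h0 : IsLocalRing.residue A a₀ = 0 :=
      (IsLocalRing.residue_eq_zero_iff _).2 ((IsLocalRing.mem_maximalIdeal _).2 h)
    rw [h0, zero_pow hn0] at hz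
    exact (a.isUnit.map (IsLocalRing.residue A)).ne_zero hz.symm
  obtain ⟨b, hb, -⟩ := HenselianLocalRing.is_henselian (R := A) (Polynomial.X ^ n - Polynomial.C (a : A))
    (Polynomial.monic_X_pow_sub_C _ hn0) a₀ (by
      rw [← IsLocalRing.residue_eq_zero_iff]
      simp [hz]) (by
      simp only [Polynomial.derivative_sub, Polynomial.derivative_X_pow, Polynomial.derivative_C, sub_zero,
        Polynomial.eval_mul, Polynomial.eval_C, Polynomial.eval_pow, Polynomial.eval_X]
      exact hn.mul (ha₀.pow _))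
  have hb' : b ^ n = (a : A) := by simpa [Polynomial.IsRoot, sub_eq_zero] using hb
  have hbu : IsUnit b := (isUnit_pow_iff hn0).1 (hb' ▸ a.isUnit)
  exact ⟨hbu.unit, Units.ext (by simpa using hb')⟩

theorem prime_param {A : Type u} [CommRing A] [IsRegularLocalRing A] {x : A}
    (h1 : x ∈ IsLocalRing.maximalIdeal A) (h2 : x ∉ IsLocalRing.maximalIdeal A ^ 2) : Prime x := by
  obtain ⟨hR, -, -⟩ := GrothLib.RegLoc.quotient_isRegularLocalRing h1 h2
  haveI := hR
  haveI := GrothLib.CMFree.isDomain_of_isRegularLocalRing (A ⧸ Ideal.span {x})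
  exact (Ideal.span_singleton_prime (p := x) fun h0 => h2 (by rw [h0]; exact zero_mem _)).mp
    ((Ideal.Quotient.isDomain_iff_prime _).mp inferInstance)

theorem ufd_localization {A : Type u} [CommRing A] [IsDomain A] [UniqueFactorizationMonoid A]
    (M : Submonoid A) (S : Type u) [CommRing S] [IsDomain S] [Algebra A S] [IsLocalization M S]
    (hM : M ≤ nonZeroDivisors A) : UniqueFactorizationMonoid S := by
  refine UniqueFactorizationMonoid.iff_exists_prime_mem_of_isPrime.2 fun Q hQ hQp => ?_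
  have hd := ((IsLocalization.isPrime_iff_isPrime_disjoint M S Q).1 hQp)
  have hP : Ideal.under A Q ≠ ⊥ := fun h => hQ (by
    rw [← IsLocalization.map_comap M S Q, h, Ideal.map_bot])
  obtain ⟨p, hpQ, hp⟩ := UniqueFactorizationMonoid.iff_exists_prime_mem_of_isPrime.1 ‹UniqueFactorizationMonoid A› _ hP hd.1
  refine ⟨algebraMap A S p, hpQ, ?_⟩
  have hp' : (Ideal.span {p}).IsPrime := (Ideal.span_singleton_prime hp.ne_zero).2 hp
  have h1 := IsLocalization.isPrime_of_isPrime_disjoint M S (Ideal.span {p}) hp'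
    (hd.2.mono_right fun z hz => (Ideal.span_singleton_le_iff_mem _).2 hpQ hz)
  rw [Ideal.map_span, Set.image_singleton] at h1
  exact (Ideal.span_singleton_prime fun h => hp.ne_zero (IsLocalization.injective S hM (by rw [h, map_zero]))).1 h1

theorem invertible_trivial (R : Type u) [CommRing R] [IsDomain R] [UniqueFactorizationMonoid R]
    (L : (Spec (CommRingCat.of R)).Modules) (hL : PicF.IsInvertible L) :
    Nonempty (L ≅ Coh.structureModule (Spec (CommRingCat.of R))) := by
  let X := Spec (CommRingCat.of R)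
  let ι : ((⊤ : X.Opens) : Scheme.{u}) ⟶ X := Scheme.Opens.ι ⊤
  let L' := (Scheme.Modules.pullback ι).obj L
  obtain ⟨φ⟩ := GrothLib.InvExt.nonempty_iso_structureModule (R := CommRingCat.of R) ⊤ L'
    (GrothLib.RelProjK.isInvertible_pullback ι hL)
  have e : X.topIso.inv ≫ ι = 𝟙 X := X.topIso.inv_hom_id
  exact ⟨((Scheme.Modules.pullbackId X).app L).symm ≪≫ (Scheme.Modules.pullbackCongr e.symm).app L ≪≫
    ((Scheme.Modules.pullbackComp _ _).app L).symm ≪≫ (Scheme.Modules.pullback X.topIso.inv).mapIso φ ≪≫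
    (GrothLib.Ample.nonempty_pullback_structureModule _).some⟩

theorem nonempty_sect (R : Type u) [CommRing R] :
    Nonempty (EtCoh.sect (EtCoh.Gm (Spec (CommRingCat.of R))) (EtCoh.top (Spec (CommRingCat.of R))) ≃+ Additive Rˣ) :=
  ⟨(AddEquiv.ulift (α := Additive (Γ(Spec (CommRingCat.of R), ⊤) : Type u)ˣ)).trans
      (MulEquiv.toAdditive (Units.mapEquiv
        (Scheme.ΓSpecIso (CommRingCat.of R)).commRingCatIsoToRingEquiv.toMulEquiv))⟩

theorem nonempty_H_zero_sect (X : Scheme.{u}) (F : EtCoh.Ab X) :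
    Nonempty (EtCoh.H X F 0 ≃+ EtCoh.sect F (EtCoh.top X)) :=
  ⟨(Ext.addEquiv₀).trans (AddEquiv.mk' (Equiv.ofBijective _ (GrothLib.EtColim.bijective_evOne F))
      (fun a b => rfl))⟩

theorem nonempty_H_zero (R : Type u) [CommRing R] :
    Nonempty (EtCoh.H (Spec (CommRingCat.of R)) (EtCoh.Gm (Spec (CommRingCat.of R))) 0 ≃+ Additive Rˣ) := by
  obtain ⟨e⟩ := nonempty_H_zero_sect (Spec (CommRingCat.of R)) (EtCoh.Gm _)
  obtain ⟨e'⟩ := nonempty_sect R
  exact ⟨e.trans e'⟩

theorem exists_delta_abelian {C : Type*} [Category C] [Abelian C] [HasExt C] (Z A B : C) (i : A ⟶ B) (n : ℕ)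
    (g : B ⟶ B) (hid : ∀ v : Ext Z B 0, Ext.comp v (Ext.mk₀ g) (add_zero 0) = n • v)
    (w : i ≫ g = 0) (hK : (ShortComplex.mk i g w).ShortExact)
    (h1 : Subsingleton (Ext Z B 1)) :
    ∃ δ : Ext Z B 0 →+ Ext Z A 1, Function.Surjective δ ∧ ∀ z, δ z = 0 ↔ ∃ v, n • v = z := by
  refine ⟨AddMonoidHom.mk' (fun z => Ext.comp z hK.extClass rfl) fun a b => Ext.add_comp a b _ _,
    fun y => ?_, fun z => ?_⟩
  · obtain ⟨z, hz⟩ := Ext.covariant_sequence_exact₁ _ hK y (Subsingleton.elim (α := Ext Z B 1) _ _) (rfl : 0 + 1 = 1)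
    exact ⟨z, hz⟩
  · constructor
    · intro h
      obtain ⟨v, hv⟩ := Ext.covariant_sequence_exact₃ _ hK z (rfl : 0 + 1 = 1) h
      exact ⟨v, (hid v).symm.trans hv⟩
    · rintro ⟨v, rfl⟩
      change Ext.comp (n • v) hK.extClass rfl = 0
      rw [← hid v, Ext.comp_assoc_of_second_deg_zero, hK.comp_extClass, Ext.comp_zero]

theorem exists_delta_site {D : Type (u+1)} [Category.{u} D] (J : GrothendieckTopology D)
    [HasSheafify J AddCommGrpCat.{u + 1}] [HasExt.{u + 1} (Sheaf J AddCommGrpCat.{u + 1})]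
    (G M : Sheaf J AddCommGrpCat.{u + 1}) (i : M ⟶ G) (g : G ⟶ G) (n : ℕ)
    (hid : ∀ v : Sheaf.H G 0, Ext.comp v (Ext.mk₀ g) (add_zero 0) = n • v) (w : i ≫ g = 0)
    (hK : (ShortComplex.mk i g w).ShortExact) (h1 : Subsingleton (Sheaf.H G 1)) :
    ∃ δ : Sheaf.H G 0 →+ Sheaf.H M 1, Function.Surjective δ ∧ ∀ z, δ z = 0 ↔ ∃ w, n • w = z :=
  exists_delta_abelian _ _ _ i n g hid w hK h1

theorem exists_delta (X : Scheme.{u}) (n : ℕ) [Epi (EtCoh.powMap X n)]
    [h1 : Subsingleton (EtCoh.H X (EtCoh.Gm X) 1)] :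
    ∃ δ : EtCoh.H X (EtCoh.Gm X) 0 →+ EtCoh.H X (EtCoh.mu X n) 1,
      Function.Surjective δ ∧ ∀ z, δ z = 0 ↔ ∃ w, n • w = z := by
  haveI : Mono (EtCoh.muι X n) := inferInstanceAs (Mono (Limits.kernel.ι _))
  exact exists_delta_site X.smallEtaleTopology (EtCoh.Gm X) (EtCoh.mu X n) (EtCoh.muι X n) (EtCoh.powMap X n) n
    (fun v => GrothLib.EtTrace21.comp_nsmul_id v n) (Limits.kernel.condition _)
    { exact := ShortComplex.exact_of_f_is_kernel _ (Limits.kernelIsKernel (EtCoh.powMap X n)) } h1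

open AlgebraicGeometry CategoryTheory CategoryTheory.Abelian GrothLib.EtColim Opposite in

/-- Let A be a regular local ring which is strictly henselian, x an element of the maximal ideal not in
its square, n an integer invertible in A, and U = Spec A[1/x]. Then H^1(U, mu_n) is isomorphic to
Z/n. (The source also computes H^0(U, mu_n) = mu_n(A) and gives a canonical isomorphism; only the
existence of an isomorphism is stated here.) -/
theorem result (A : Type u) [CommRing A] [IsRegularLocalRing A]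
    (hA : EtCoh.IsStrictlyHenselianLocalRing A) (x : A) (hx : x ∈ IsLocalRing.maximalIdeal A)
    (hx2 : x ∉ (IsLocalRing.maximalIdeal A) ^ 2) (n : ℕ) (hn : IsUnit (n : A)) :
    Nonempty (EtCoh.H (Spec (CommRingCat.of (Localization.Away x)))
      (EtCoh.mu (Spec (CommRingCat.of (Localization.Away x))) n) 1 ≃+ ZMod n) := by
  haveI : IsDomain A := GrothLib.CMFree.isDomain_of_isRegularLocalRing A
  haveI := GrothLib.RegUFD.ufd_of_isRegularLocalRing A
  have hpr : Prime x := prime_param hx hx2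
  have hle : Submonoid.powers x ≤ nonZeroDivisors A := powers_le_nonZeroDivisors_of_noZeroDivisors hpr.ne_zero
  let S := Localization.Away x
  haveI : IsDomain S := IsLocalization.isDomain_of_le_nonZeroDivisors S hle
  haveI : UniqueFactorizationMonoid S := ufd_localization (Submonoid.powers x) S hle
  have hn0 : n ≠ 0 := by
    rintro rfl
    exact not_isUnit_zero (M₀ := A) (by simpa using hn)
  haveI : Epi (EtCoh.powMap (Spec (CommRingCat.of S)) n) :=
    GrothLib.EtBasicB.powMap_epi (Spec (CommRingCat.of S)) n (by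
    have h := hn.map (((Scheme.ΓSpecIso (CommRingCat.of S)).inv.hom).comp (algebraMap A S))
    rwa [map_natCast] at h)
  haveI : Subsingleton (EtCoh.H (Spec (CommRingCat.of S)) (EtCoh.Gm (Spec (CommRingCat.of S))) 1) :=
    GrothLib.EtPic2.subsingleton_of_trivial fun L hL => invertible_trivial S L hL
  obtain ⟨δ, hδsurj, hδker⟩ := exists_delta (Spec (CommRingCat.of S)) n
  obtain ⟨e₀⟩ := nonempty_H_zero S
  let X := Spec (CommRingCat.of S)
  have hxu : IsUnit (algebraMap A S x) := IsLocalization.Away.algebraMap_isUnit x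
  let ux : Sˣ := hxu.unit
  let cA : Aˣ →* Sˣ := Units.map (algebraMap A S).toMonoidHom
  have hinj : Function.Injective (algebraMap A S) := IsLocalization.injective S hle
  have hdec : ∀ u : Sˣ, ∃ (j : ℤ) (a : Aˣ), u = ux ^ j * cA a := by
    intro u
    obtain ⟨⟨a, m, i, rfl⟩, hi⟩ := IsLocalization.surj (Submonoid.powers x) (u : S)
    obtain ⟨⟨b, m', l, rfl⟩, hl⟩ := IsLocalization.surj (Submonoid.powers x) ((u⁻¹ : Sˣ) : S)
    simp only [map_pow] at hi hl
    have hab : a * b = x ^ (i + l) := hinj (by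
      rw [map_mul, ← hi, ← hl, map_pow, pow_add, mul_mul_mul_comm, u.mul_inv, one_mul])
    obtain ⟨r, -, hr⟩ := (dvd_prime_pow hpr (i + l)).1 ⟨b, hab.symm⟩
    obtain ⟨c, hc⟩ := hr.symm
    refine ⟨(r : ℤ) - i, c, Units.ext ?_⟩
    have e1 : (u : S) * algebraMap A S x ^ i = algebraMap A S x ^ r * algebraMap A S c := by
      rw [hi, ← hc, map_mul, map_pow]
    have e2 : u * ux ^ i = ux ^ r * cA c := Units.ext (by simpa [ux, cA] using e1)
    have e3 : u = ux ^ ((r : ℤ) - i) * cA c := by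
      rw [zpow_sub, zpow_natCast, zpow_natCast, mul_right_comm, ← e2, mul_inv_cancel_right]
    rw [← e3]
  have hzero : ∀ (k : ℤ) (a : Aˣ), ux ^ k * cA a = 1 → k = 0 := by
    intro k a h
    by_contra hk
    have key : ∀ (i : ℕ) (b : Aˣ), i ≠ 0 → ux ^ i = cA b → False := by
      intro i b hi0 hb
      have hb' : x ^ i = (b : A) := hinj (by simpa [ux, cA] using congrArg Units.val hb)
      exact hpr.not_unit ((isUnit_pow_iff hi0).1 (hb' ▸ b.isUnit))
    rcases Int.natAbs_eq k with hk' | hk'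
    · rw [hk', zpow_natCast] at h
      refine key k.natAbs a⁻¹ (Int.natAbs_ne_zero.2 hk) ?_
      rw [map_inv]
      exact eq_inv_of_mul_eq_one_left h
    · rw [hk', zpow_neg, zpow_natCast] at h
      refine key k.natAbs a (Int.natAbs_ne_zero.2 hk) ?_
      exact (inv_mul_eq_one.1 h)
  let ψ : ℤ →+ EtCoh.H X (EtCoh.mu X n) 1 := δ.comp (e₀.symm.toAddMonoidHom.comp (zmultiplesHom _ (Additive.ofMul ux)))
  have hψ : ∀ k : ℤ, ψ k = δ (e₀.symm (Additive.ofMul (ux ^ k))) := fun k => rfl
  have hψs : Function.Surjective ψ := by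
    intro y
    obtain ⟨z, rfl⟩ := hδsurj y
    obtain ⟨j, a, hja⟩ := hdec (Additive.toMul (e₀ z))
    obtain ⟨b, rfl⟩ := exists_root hA n hn hn0 a
    refine ⟨j, ?_⟩
    have hz : z = e₀.symm (Additive.ofMul (ux ^ j)) + n • e₀.symm (Additive.ofMul (cA b)) := by
      apply e₀.injective
      rw [map_add, map_nsmul, AddEquiv.apply_symm_apply, AddEquiv.apply_symm_apply, ← ofMul_pow, ← ofMul_mul, ← map_pow, ← hja]
      rfl
    rw [hψ, hz, map_add, (hδker _).2 ⟨_, rfl⟩, add_zero]
  have hψk : ψ.ker = AddSubgroup.zmultiples (n : ℤ) := by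
    ext k
    rw [AddMonoidHom.mem_ker, Int.mem_zmultiples_iff, hψ, hδker]
    constructor
    · rintro ⟨w, hw⟩
      have hw' := congrArg (fun v => Additive.toMul (e₀ v)) hw
      simp only [map_nsmul, AddEquiv.apply_symm_apply, toMul_nsmul, toMul_ofMul] at hw'
      obtain ⟨j, a, hja⟩ := hdec (Additive.toMul (e₀ w))
      rw [hja] at hw'
      refine ⟨j, sub_eq_zero.1 (hzero (k - n * j) (a ^ n)⁻¹ ?_)⟩
      rw [map_inv, zpow_sub, ← hw', mul_pow, map_pow, mul_comm (n : ℤ) j, zpow_mul, zpow_natCast,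
        mul_right_comm ((ux ^ j) ^ n) (cA a ^ n), mul_inv_cancel, one_mul, mul_inv_cancel]
    · rintro ⟨j, rfl⟩
      refine ⟨e₀.symm (Additive.ofMul (ux ^ j)), e₀.injective ?_⟩
      rw [map_nsmul, AddEquiv.apply_symm_apply, AddEquiv.apply_symm_apply, ← ofMul_pow, ← zpow_natCast, ← zpow_mul, mul_comm]
  exact ⟨(QuotientAddGroup.quotientKerEquivOfSurjective ψ hψs).symm.trans
    ((QuotientAddGroup.quotientAddEquivOfEq hψk).trans (Int.quotientZMultiplesNatEquivZMod n))⟩

end Groth.Agent.S3103
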