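import Groth.Statements.S3104
import Groth.Agent.Lib.EtDer.NormalConst
-- import your own Groth.Agent.* helpers here

set_option autoImplicit false
universe u
open CategoryTheory CategoryTheory.Limits AlgebraicGeometry Opposite
open EtPBC

namespace Groth.Agent.S3104

/-- Let X be a normal scheme, j : U → X a quasi-compact open immersion with dense image, and M an
abelian group. Then the natural map from the constant sheaf M_X on X_ét to j_* j^* M_X (the unit of
the adjunction) is an isomorphism. The published statement is more general, allowing X geometrically
unibranch and sheaves of sets; stated here for X normal, j an open immersion and constant abelian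
sheaves. -/
theorem result (X U : Scheme.{u}) (hX : Pi1.IsNormalScheme X)
    (j : U ⟶ X) [IsOpenImmersion j] [QuasiCompact j] (hj : Dense (Set.range j)) [EtCoh.BCCont j]
    (M : Type) [AddCommGroup M] :
    IsIso ((EtCoh.pullPushAdj j).unit.app (EtCoh.const X M)) := by
  haveI : QuasiCompact (𝟙 U ≫ j) := by rw [Category.id_comp]; infer_instance
  refine GrothLib.EtDer.isIso_unit_const _ j (𝟙 U) hX fun p hp => ?_
  rw [Category.id_comp]
  obtain ⟨z, -, hz⟩ := GrothLib.GrpdQuot.exists_specializes_of_mem_closure j Set.univ isClosed_univ p
    (by rw [Set.image_univ]; exact hj p)
  exact ⟨z, hp _ hz⟩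

end Groth.Agent.S3104
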