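import Groth.Statements.S3128
-- import your own Groth.Agent.* helpers here

set_option autoImplicit false
open BigOperators
open SGA4h

namespace Groth.Agent.S3128


open Polynomial UniqueFactorizationMonoid Finset

variable {F : Type} [Field F] [Fintype F] {R : Type} [CommRing R]

open Classical in
/-- Monic polynomials of degree `d`. -/
noncomputable def mons (F : Type) [Field F] [Fintype F] (d : ℕ) : Finset F[X] :=
  (univ : Finset (Fin d → F)).image fun c => X ^ d + ∑ i : Fin d, C (c i) * X ^ (i : ℕ)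

omit [Fintype F] in
lemma deg_tail_lt {d : ℕ} (c : Fin d → F) :
    (∑ i : Fin d, C (c i) * X ^ (i : ℕ) : F[X]).degree < (d : WithBot ℕ) := by
  refine (degree_sum_le _ _).trans_lt ?_
  refine (Finset.sup_lt_iff (WithBot.bot_lt_coe d)).2 ?_
  intro i _
  exact (degree_C_mul_X_pow_le _ _).trans_lt (WithBot.coe_lt_coe.2 i.2)

lemma mem_mons {d : ℕ} {f : F[X]} : f ∈ mons F d ↔ f.Monic ∧ f.natDegree = d := by
  classical
  simp only [mons, mem_image, mem_univ, true_and]
  constructor
  · rintro ⟨c, rfl⟩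
    refine ⟨monic_X_pow_add (deg_tail_lt c), natDegree_eq_of_degree_eq_some ?_⟩
    rw [degree_add_eq_left_of_degree_lt ((deg_tail_lt c).trans_eq (degree_X_pow d).symm),
      degree_X_pow]
  · rintro ⟨hf, rfl⟩
    refine ⟨fun i => f.coeff i, ?_⟩
    conv_rhs => rw [hf.as_sum]
    rw [Fin.sum_univ_eq_sum_range (fun i => C (f.coeff i) * X ^ i) f.natDegree]

variable (χ : MulChar F R) (ψ : AddChar F R)

/-- The multiplicative weight of a monic polynomial. -/
noncomputable def lam (f : F[X]) : R := χ ((-1) ^ f.natDegree * f.coeff 0) * ψ (-f.nextCoeff)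

omit [Fintype F] in
lemma lam_one : lam χ ψ (1 : F[X]) = 1 := by
  simp [lam, nextCoeff]

omit [Fintype F] in
lemma lam_mul {f g : F[X]} (hf : f.Monic) (hg : g.Monic) :
    lam χ ψ (f * g) = lam χ ψ f * lam χ ψ g := by
  simp only [lam]
  rw [hf.natDegree_mul hg, hf.nextCoeff_mul hg, mul_coeff_zero, neg_add, ψ.map_add_eq_mul,
    pow_add, mul_mul_mul_comm, map_mul, mul_mul_mul_comm]

omit [Fintype F] in
lemma lam_pow {f : F[X]} (hf : f.Monic) (m : ℕ) : lam χ ψ (f ^ m) = lam χ ψ f ^ m := by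
  induction m with
  | zero => simp [lam_one]
  | succ m ih => rw [pow_succ, pow_succ, lam_mul χ ψ (hf.pow m) hf, ih]

/-- The coefficient of `T ^ d` in the generating function. -/
noncomputable def coefA (d : ℕ) : R := ∑ f ∈ mons F d, lam χ ψ f

lemma coefA_zero : coefA χ ψ 0 = 1 := by
  classical
  have h : mons F 0 = {1} := by
    ext f
    rw [mem_mons, mem_singleton]
    exact ⟨fun ⟨a, b⟩ => (a.natDegree_eq_zero).1 b, fun h => by subst h; simp⟩
  rw [coefA, h, sum_singleton, lam_one]

lemma coefA_one : coefA χ ψ 1 = ∑ x : F, χ x * ψ x := by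
  classical
  rw [coefA]
  refine (Finset.sum_bij (fun a _ => X - C a) ?_ ?_ ?_ ?_).symm
  · intro a _
    exact mem_mons.2 ⟨monic_X_sub_C a, natDegree_X_sub_C a⟩
  · intro a _ b _ h
    exact C_injective (sub_right_injective h)
  · intro f hf
    obtain ⟨h1, h2⟩ := mem_mons.1 hf
    refine ⟨-f.coeff 0, mem_univ _, ?_⟩
    conv_rhs => rw [h1.eq_X_add_C h2]
    simp
  · intro a _
    simp [lam, nextCoeff, natDegree_X_sub_C]

lemma coefA_two [IsDomain R] (hψ : ψ ≠ 1) {d : ℕ} (hd : 2 ≤ d) : coefA χ ψ d = 0 := by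
  classical
  obtain ⟨a, ha⟩ : ∃ a, ψ a ≠ 1 := AddChar.ne_one_iff.1 hψ
  have hlt : (C (-a) * X ^ (d - 1) : F[X]).degree < (d : WithBot ℕ) :=
    (degree_C_mul_X_pow_le _ _).trans_lt (by exact_mod_cast (by omega : d - 1 < d))
  have hkey : coefA χ ψ d = ψ a * coefA χ ψ d := by
    rw [coefA, Finset.mul_sum]
    refine (Finset.sum_bij (fun f _ => f + C (-a) * X ^ (d - 1)) ?_ ?_ ?_ ?_).symm
    · intro f hf
      obtain ⟨h1, h2⟩ := mem_mons.1 hf
      have hlt' : (C (-a) * X ^ (d - 1) : F[X]).degree < f.degree := by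
        rwa [degree_eq_natDegree h1.ne_zero, h2]
      exact mem_mons.2 ⟨h1.add_of_left hlt', by
        rw [natDegree_add_eq_left_of_degree_lt hlt', h2]⟩
    · intro f _ g _ h
      exact add_right_cancel h
    · intro f hf
      obtain ⟨h1, h2⟩ := mem_mons.1 hf
      have hlt' : (C (-a) * X ^ (d - 1) : F[X]).degree < f.degree := by
        rwa [degree_eq_natDegree h1.ne_zero, h2]
      refine ⟨f - C (-a) * X ^ (d - 1), mem_mons.2 ⟨?_, ?_⟩, sub_add_cancel _ _⟩
      · exact h1.sub_of_left hlt'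
      · rw [natDegree_sub_eq_left_of_natDegree_lt, h2]
        exact (natDegree_C_mul_X_pow_le _ _).trans_lt (by omega)
    · intro f hf
      obtain ⟨h1, h2⟩ := mem_mons.1 hf
      have hlt' : (C (-a) * X ^ (d - 1) : F[X]).degree < f.degree := by
        rwa [degree_eq_natDegree h1.ne_zero, h2]
      have hn : (f + C (-a) * X ^ (d - 1)).natDegree = d := by
        rw [natDegree_add_eq_left_of_degree_lt hlt', h2]
      have h0 : (0 : ℕ) ≠ d - 1 := by omega
      simp only [lam, hn, h2, coeff_add, coeff_C_mul_X_pow, if_neg h0, add_zero]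
      rw [nextCoeff_of_natDegree_pos (by omega), nextCoeff_of_natDegree_pos (by omega), hn, h2,
        coeff_add, coeff_C_mul_X_pow, if_pos rfl, neg_add, neg_neg, ψ.map_add_eq_mul]
      ring
  by_contra hne
  exact ha (mul_right_cancel₀ hne (by rw [one_mul]; exact hkey.symm))

open Classical in
/-- Monic irreducible polynomials of degree `d`. -/
noncomputable def irr (F : Type) [Field F] [Fintype F] (d : ℕ) : Finset F[X] :=
  (mons F d).filter Irreducible

lemma mem_irr {d : ℕ} {P : F[X]} : P ∈ irr F d ↔ Irreducible P ∧ P.Monic ∧ P.natDegree = d := by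
  classical
  rw [irr, mem_filter, mem_mons, and_comm]

/-- The `j`-th power sum. -/
noncomputable def powS (j : ℕ) : R :=
  ∑ d ∈ Icc 1 j, ∑ P ∈ irr F d, ∑ m ∈ Icc 1 j,
    if d * m = j then (d : R) * lam χ ψ P ^ m else 0

lemma powS_eq {j N : ℕ} (hj : j ≤ N) :
    (∑ d ∈ Icc 1 N, ∑ P ∈ irr F d, ∑ m ∈ Icc 1 N,
      if d * m = j then (d : R) * lam χ ψ P ^ m else 0) = powS χ ψ j := by
  rw [powS]
  refine (Finset.sum_subset (Icc_subset_Icc_right hj) ?_).symm.trans ?_
  · intro d hd hd'
    refine Finset.sum_eq_zero fun P _ => Finset.sum_eq_zero fun m hm => if_neg fun h => ?_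
    simp only [mem_Icc] at hd hd' hm
    have := Nat.le_mul_of_pos_right d (show 0 < m by omega)
    omega
  refine Finset.sum_congr rfl fun d hd => Finset.sum_congr rfl fun P _ => ?_
  refine (Finset.sum_subset (Icc_subset_Icc_right hj) ?_).symm
  intro m hm hm'
  refine if_neg fun h => ?_
  simp only [mem_Icc] at hd hm hm'
  have := Nat.le_mul_of_pos_left m (show 0 < d by omega)
  omega

open Classical in
lemma deg_eq {n : ℕ} {f : F[X]} (hf : f ∈ mons F n) :
    (n : ℕ) = ∑ d ∈ Icc 1 n, ∑ P ∈ irr F d, ∑ m ∈ Icc 1 n, if P ^ m ∣ f then d else 0 := by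
  obtain ⟨h1, h2⟩ := mem_mons.1 hf
  have h0 : f ≠ 0 := h1.ne_zero
  set s := normalizedFactors f with hs
  have hmem : ∀ P ∈ s, Irreducible P ∧ P.Monic ∧ P ∣ f := fun P hP =>
    (Polynomial.mem_normalizedFactors_iff h0).1 hP
  have hprod : s.prod = f := by
    rw [hs, prod_normalizedFactors_eq h0, h1.normalize_eq_self]
  have hn : n = (s.map natDegree).sum := by
    rw [← natDegree_multiset_prod_of_monic _ (fun P hP => (hmem P hP).2.1), hprod, h2]
  have hpos : ∀ P ∈ s, 1 ≤ P.natDegree := fun P hP => (hmem P hP).1.natDegree_pos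
  have hle : ∀ P ∈ s, P.natDegree ≤ n := fun P hP => by
    rw [hn]
    exact Multiset.le_sum_of_mem (Multiset.mem_map_of_mem _ hP)
  have hcount : ∀ P ∈ s, s.count P ≤ n := fun P hP => by
    calc s.count P ≤ Multiset.card s := Multiset.count_le_card P s
      _ ≤ n := by
        rw [hn]
        have := Multiset.card_nsmul_le_sum (s := s.map natDegree) (a := 1)
          (by intro x hx; obtain ⟨P, hP, rfl⟩ := Multiset.mem_map.1 hx; exact hpos P hP)
        simpa using this
  have hinner : ∀ d, ∀ P ∈ irr F d, (∑ m ∈ Icc 1 n, if P ^ m ∣ f then d else 0) =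
      s.count P * d := by
    intro d P hP
    obtain ⟨hPi, hPm, hPd⟩ := mem_irr.1 hP
    have hiff : ∀ m, P ^ m ∣ f ↔ m ≤ s.count P := fun m => by
      rw [pow_dvd_iff_le_emultiplicity, emultiplicity_eq_count_normalizedFactors hPi h0,
        hPm.normalize_eq_self, ← hs, Nat.cast_le]
    have hc : s.count P ≤ n := by
      by_cases hP' : P ∈ s
      · exact hcount P hP'
      · rw [Multiset.count_eq_zero.2 hP']; exact Nat.zero_le _
    rw [← Finset.sum_filter, Finset.sum_const, smul_eq_mul]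
    congr 1
    rw [show (Icc 1 n).filter (fun m => P ^ m ∣ f) = Icc 1 (s.count P) by
      ext m; simp only [mem_filter, mem_Icc, hiff]; omega]
    simp
  rw [Finset.sum_congr rfl (fun d _ => Finset.sum_congr rfl (hinner d))]
  conv_lhs => rw [hn, Finset.sum_multiset_map_count]
  rw [← Finset.sum_fiberwise_of_maps_to (t := Icc 1 n) (g := natDegree)
    (fun P hP => mem_Icc.2 ⟨hpos P (Multiset.mem_toFinset.1 hP), hle P (Multiset.mem_toFinset.1 hP)⟩)]
  refine Finset.sum_congr rfl fun d _ => ?_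
  rw [Finset.sum_congr rfl (fun P hP => by rw [(Finset.mem_filter.1 hP).2, smul_eq_mul] :
    ∀ P ∈ s.toFinset.filter (fun P => natDegree P = d),
      s.count P • natDegree P = s.count P * d)]
  refine Finset.sum_subset ?_ ?_
  · intro P hP
    obtain ⟨hP1, hP2⟩ := Finset.mem_filter.1 hP
    obtain ⟨a, b, _⟩ := hmem P (Multiset.mem_toFinset.1 hP1)
    exact mem_irr.2 ⟨a, b, hP2⟩
  · intro P hP hP'
    rw [Finset.mem_filter, not_and] at hP'
    have : P ∉ s := fun h => hP' (Multiset.mem_toFinset.2 h) (mem_irr.1 hP).2.2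
    rw [Multiset.count_eq_zero.2 this, zero_mul]

open Classical in
lemma sum_dvd {n d m : ℕ} {P : F[X]} (hP : P ∈ irr F d) :
    (∑ f ∈ mons F n, if P ^ m ∣ f then lam χ ψ f else 0) =
      if d * m ≤ n then lam χ ψ P ^ m * coefA χ ψ (n - d * m) else 0 := by
  obtain ⟨hPi, hPm, hPd⟩ := mem_irr.1 hP
  have hdeg : (P ^ m).natDegree = d * m := by rw [hPm.natDegree_pow, hPd, Nat.mul_comm]
  by_cases h : d * m ≤ n
  · rw [if_pos h, ← Finset.sum_filter, coefA, Finset.mul_sum]
    refine (Finset.sum_bij (fun g _ => P ^ m * g) ?_ ?_ ?_ ?_).symm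
    · intro g hg
      obtain ⟨g1, g2⟩ := mem_mons.1 hg
      refine mem_filter.2 ⟨mem_mons.2 ⟨(hPm.pow m).mul g1, ?_⟩, Dvd.intro _ rfl⟩
      rw [(hPm.pow m).natDegree_mul g1, hdeg, g2]
      omega
    · intro a _ b _ e
      exact mul_left_cancel₀ (hPm.pow m).ne_zero e
    · intro f hf
      obtain ⟨hf1, g, rfl⟩ := mem_filter.1 hf
      obtain ⟨h1, h2⟩ := mem_mons.1 hf1
      have g1 : g.Monic := Monic.of_mul_monic_left (hPm.pow m) h1
      rw [(hPm.pow m).natDegree_mul g1, hdeg] at h2
      exact ⟨g, mem_mons.2 ⟨g1, by omega⟩, rfl⟩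
    · intro g hg
      rw [lam_mul χ ψ (hPm.pow m) (mem_mons.1 hg).1, lam_pow χ ψ hPm]
  · rw [if_neg h]
    refine Finset.sum_eq_zero fun f hf => if_neg fun hdvd => h ?_
    obtain ⟨h1, h2⟩ := mem_mons.1 hf
    rw [← hdeg, ← h2]
    exact natDegree_le_of_dvd hdvd h1.ne_zero

open Classical in
lemma newton [IsDomain R] (hψ : ψ ≠ 1) {n : ℕ} (hn : 1 ≤ n) :
    (n : R) * coefA χ ψ n = powS χ ψ n + coefA χ ψ 1 * powS χ ψ (n - 1) := by
  have step : (n : R) * coefA χ ψ n = ∑ d ∈ Icc 1 n, ∑ P ∈ irr F d, ∑ m ∈ Icc 1 n,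
      (d : R) * ∑ f ∈ mons F n, (if P ^ m ∣ f then lam χ ψ f else 0) := by
    rw [coefA, Finset.mul_sum]
    have : ∀ f ∈ mons F n, (n : R) * lam χ ψ f = ∑ d ∈ Icc 1 n, ∑ P ∈ irr F d, ∑ m ∈ Icc 1 n,
        (d : R) * (if P ^ m ∣ f then lam χ ψ f else 0) := by
      intro f hf
      conv_lhs => rw [deg_eq hf]
      simp only [Nat.cast_sum, Finset.sum_mul, Nat.cast_ite, Nat.cast_zero, ite_mul, zero_mul,
        mul_ite, mul_zero]
    rw [Finset.sum_congr rfl this, Finset.sum_comm]
    refine Finset.sum_congr rfl fun d _ => ?_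
    rw [Finset.sum_comm]
    refine Finset.sum_congr rfl fun P _ => ?_
    rw [Finset.sum_comm]
    exact Finset.sum_congr rfl fun m _ => (Finset.mul_sum _ _ _).symm
  rw [step, ← powS_eq χ ψ (le_refl n), ← powS_eq χ ψ (Nat.sub_le n 1)]
  simp only [Finset.mul_sum (a := coefA χ ψ 1), ← Finset.sum_add_distrib]
  refine Finset.sum_congr rfl fun d hd => Finset.sum_congr rfl fun P hP =>
    Finset.sum_congr rfl fun m hm => ?_
  have hpos : 1 ≤ d * m := Nat.one_le_iff_ne_zero.2 (Nat.mul_ne_zero
    (by simp only [mem_Icc] at hd; omega) (by simp only [mem_Icc] at hm; omega))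
  rw [sum_dvd χ ψ hP]
  rcases lt_trichotomy (d * m) (n - 1) with h | h | h
  · rw [if_pos (by omega), coefA_two χ ψ hψ (by omega : 2 ≤ n - d * m), if_neg (by omega),
      if_neg (by omega)]
    simp
  · rw [if_pos (by omega), (by omega : n - d * m = 1), if_neg (by omega), if_pos h]
    ring
  · by_cases h' : d * m = n
    · rw [if_pos (by omega), if_pos h', if_neg (by omega), h', Nat.sub_self, coefA_zero]
      ring
    · rw [if_neg (by omega), if_neg h', if_neg (by omega)]
      simp

lemma powS_val [IsDomain R] (hψ : ψ ≠ 1) : ∀ k : ℕ,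
    powS χ ψ (k + 1) = (-(∑ x : F, χ x * ψ x)) ^ (k + 1) * (-1) := by
  intro k
  induction k with
  | zero =>
    have h := newton χ ψ hψ (le_refl 1)
    have h0 : powS χ ψ 0 = 0 := by simp [powS]
    rw [Nat.sub_self, h0, Nat.cast_one, one_mul, mul_zero, add_zero, coefA_one] at h
    rw [← h]
    ring
  | succ k ih =>
    have h := newton χ ψ hψ (show 1 ≤ k + 2 by omega)
    rw [coefA_two χ ψ hψ (show 2 ≤ k + 2 by omega), mul_zero,
      show k + 2 - 1 = k + 1 from rfl, coefA_one, ih] at h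
    rw [pow_succ]
    linear_combination -h

variable {F' : Type} [Field F'] [Fintype F'] [Algebra F F']

omit [Fintype F] in
lemma char_eq (x : F') :
    χ (Algebra.norm F x) * ψ (Algebra.trace F F' x) =
      lam χ ψ (minpoly F x) ^ Module.finrank (IntermediateField.adjoin F {x}) F' := by
  have hx : IsIntegral F x := IsIntegral.of_finite F x
  rw [lam, mul_pow, ← map_pow, ← AddChar.map_nsmul_eq_pow]
  congr 1
  · rw [Algebra.norm_eq_norm_adjoin F x, ← IntermediateField.adjoin.powerBasis_gen hx,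
      Algebra.PowerBasis.norm_gen_eq_coeff_zero_minpoly]
    congr 1
    simp [IntermediateField.adjoin.powerBasis_gen, minpoly.algebraMap_eq, 
      IntermediateField.minpoly_gen]
  · rw [trace_eq_finrank_mul_minpoly_nextCoeff, nsmul_eq_mul]

open Classical in
lemma fiber_card {d : ℕ} (hd : d ∣ Module.finrank F F') {P : F[X]} (hP : P ∈ irr F d) :
    ((univ : Finset F').filter (fun x => minpoly F x = P)).card = d := by
  obtain ⟨hPi, hPm, hPd⟩ := mem_irr.1 hP
  haveI : Fact (Irreducible P) := ⟨hPi⟩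
  haveI : Module.Finite F (AdjoinRoot P) := hPm.finite_adjoinRoot
  haveI : Finite (AdjoinRoot P) := Module.finite_of_finite F
  haveI : Finite F' := Finite.of_fintype F'
  haveI : Module.Finite F F' := Module.Finite.of_finite
  have hfr : Module.finrank F (AdjoinRoot P) = d := by
    rw [(AdjoinRoot.powerBasis hPi.ne_zero).finrank, AdjoinRoot.powerBasis_dim, hPd]
  obtain ⟨φ⟩ := (FiniteField.nonempty_algHom_iff_finrank_dvd (F := F) (K := AdjoinRoot P)
    (L := F')).2 (by rw [hfr]; exact hd)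
  have hroot : aeval (φ (AdjoinRoot.root P)) P = 0 := by
    rw [aeval_algHom_apply, AdjoinRoot.aeval_eq, AdjoinRoot.mk_self, map_zero]
  have hmp : P = minpoly F (φ (AdjoinRoot.root P)) := minpoly.eq_of_irreducible_of_monic hPi hroot hPm
  haveI : Normal F F' := inferInstance
  have hsplit : (P.map (algebraMap F F')).Splits := by
    rw [hmp]; exact Normal.splits inferInstance _
  have hsep : P.Separable := PerfectField.separable_of_irreducible hPi
  conv_rhs => rw [← hPd, ← card_rootSet_eq_natDegree hsep hsplit]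
  rw [← Set.toFinset_card]
  congr 1
  ext x
  simp only [mem_filter, mem_univ, true_and, Set.mem_toFinset,
    Polynomial.mem_rootSet_of_ne hPi.ne_zero]
  exact ⟨fun h => h ▸ minpoly.aeval F x, fun h => (minpoly.eq_of_irreducible_of_monic hPi h hPm).symm⟩

open Classical in
lemma sum_eq_powS :
    (∑ x : F', χ (Algebra.norm F x) * ψ (Algebra.trace F F' x)) =
      powS χ ψ (Module.finrank F F') := by
  haveI : Module.Finite F F' := Module.Finite.of_finite
  set n := Module.finrank F F' with hn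
  have hpos : 0 < n := Module.finrank_pos
  have hdim : ∀ x : F', (minpoly F x).natDegree *
      Module.finrank (IntermediateField.adjoin F {x}) F' = n := fun x => by
    rw [← IntermediateField.adjoin.finrank (IsIntegral.of_finite F x), Module.finrank_mul_finrank]
  have hdeg : ∀ x : F', (minpoly F x).natDegree ∈ Icc 1 n := fun x =>
    mem_Icc.2 ⟨minpoly.natDegree_pos (IsIntegral.of_finite F x), minpoly.natDegree_le x⟩
  rw [← Finset.sum_fiberwise_of_maps_to (t := Icc 1 n)
    (g := fun x : F' => (minpoly F x).natDegree) (fun x _ => hdeg x), powS]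
  refine Finset.sum_congr rfl fun d hd => ?_
  rw [← Finset.sum_fiberwise_of_maps_to (t := irr F d) (g := fun x : F' => minpoly F x)
    (fun x hx => mem_irr.2 ⟨minpoly.irreducible (IsIntegral.of_finite F x),
      minpoly.monic (IsIntegral.of_finite F x), (mem_filter.1 hx).2⟩)]
  refine Finset.sum_congr rfl fun P hP => ?_
  have hd0 : 1 ≤ d := (mem_Icc.1 hd).1
  by_cases hdn : d ∣ n
  · obtain ⟨m₀, hm₀⟩ := hdn
    have hm1 : m₀ ∈ Icc 1 n := mem_Icc.2
      ⟨by rcases Nat.eq_zero_or_pos m₀ with h | h <;> [(subst h; omega); exact h],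
        by rw [hm₀]; exact Nat.le_mul_of_pos_left m₀ hd0⟩
    rw [Finset.sum_eq_single_of_mem m₀ hm1 (fun m _ hm => if_neg fun h => hm
      (Nat.eq_of_mul_eq_mul_left hd0 (h.trans hm₀))), if_pos hm₀.symm]
    rw [Finset.filter_filter, Finset.sum_congr rfl (g := fun _ => lam χ ψ P ^ m₀)]
    · have : ((univ : Finset F').filter (fun x => (minpoly F x).natDegree = d ∧ minpoly F x = P))
          = univ.filter (fun x => minpoly F x = P) := by
        ext x; simp only [mem_filter, mem_univ, true_and]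
        exact ⟨fun h => h.2, fun h => ⟨h ▸ (mem_irr.1 hP).2.2, h⟩⟩
      rw [Finset.sum_const, this, fiber_card (Dvd.intro m₀ hm₀.symm) hP, nsmul_eq_mul]
    · intro x hx
      obtain ⟨-, h1, h2⟩ := mem_filter.1 hx
      rw [char_eq, h2]
      congr 1
      refine Nat.eq_of_mul_eq_mul_left hd0 ?_
      rw [← hm₀, ← hdim x, h1]
  · rw [Finset.sum_eq_zero (s := Icc 1 n) (fun m _ => if_neg fun h => hdn (Dvd.intro m h))]
    refine Finset.sum_eq_zero fun x hx => absurd ?_ hdn
    rw [← (mem_filter.1 (mem_filter.1 hx).1).2]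
    exact Dvd.intro _ (hdim x)


/-- Let F ⊂ F' be finite fields with [F' : F] = n, χ a multiplicative character of F and ψ a nontrivial
additive character of F, with values in a domain of characteristic zero. Writing τ(χ, ψ) = -Σ_x χ(x)
ψ(x), one has τ(χ ∘ N_{F'/F}, ψ ∘ Tr_{F'/F}) = τ(χ, ψ)^n. (The source writes χ⁻¹ inside τ; replacing
χ by χ⁻¹ gives the same family of identities.) -/
theorem result (F F' : Type) [Field F] [Fintype F] [Field F'] [Fintype F'] [Algebra F F']
    (R : Type) [CommRing R] [IsDomain R] [CharZero R] (χ : MulChar F R) (ψ : AddChar F R) (hψ : ψ ≠ 1) :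
    -(∑ x : F', χ (Algebra.norm F x) * ψ (Algebra.trace F F' x)) =
      (-(∑ x : F, χ x * ψ x)) ^ Module.finrank F F' := by
  haveI : Module.Finite F F' := Module.Finite.of_finite
  obtain ⟨k, hk⟩ : ∃ k, Module.finrank F F' = k + 1 :=
    ⟨Module.finrank F F' - 1, by have := Module.finrank_pos (R := F) (M := F'); omega⟩
  rw [sum_eq_powS χ ψ, hk, powS_val χ ψ hψ k]
  ring

end Groth.Agent.S3128
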