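import Groth.Statements.S3129
import Mathlib

set_option autoImplicit false
open BigOperators
open SGA4h

namespace Groth.Agent.S3129

variable {F : Type} [Field F] [Fintype F] [DecidableEq F] {R : Type} [CommRing R]

lemma sum_units (f : F → R) (h0 : f 0 = 0) : ∑ y : F, f y = ∑ u : Fˣ, f (u : F) := by
  refine (Finset.sum_of_injOn (fun u : Fˣ => (u : F)) (fun a _ b _ h => Units.ext h)
    (fun a _ => Finset.mem_univ _) (fun y _ hy => ?_) (fun a _ => rfl)).symm
  by_cases h : y = 0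
  · rw [h, h0]
  · exact absurd ⟨Units.mk0 y h, by simp, rfl⟩ hy

variable {N : ℕ}

lemma addChar_sum {ι : Type} (f : AddChar F R) (s : Finset ι) (g : ι → F) :
    f (∑ i ∈ s, g i) = ∏ i ∈ s, f (g i) := by
  classical
  induction s using Finset.induction_on with
  | empty => simp
  | @insert a s ha ih => rw [Finset.sum_insert ha, Finset.prod_insert ha, AddChar.map_add_eq_mul, ih]

lemma mulChar_prod {ι : Type} (s : Finset ι) (φ : ι → MulChar F R) (c : Fˣ) :
    (∏ i ∈ s, φ i) (c : F) = ∏ i ∈ s, φ i (c : F) := by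
  classical
  induction s using Finset.induction_on with
  | empty => simp
  | @insert a s ha ih => rw [Finset.prod_insert ha, Finset.prod_insert ha, MulChar.mul_apply, ih]

def J (φ : Fin N → MulChar F R) (s : F) : R :=
  ∑ x ∈ (Finset.univ : Finset (Fin N → Fˣ)).filter (fun x => ∑ i, ((x i : Fˣ) : F) = s),
    ∏ i : Fin N, φ i ((x i : Fˣ) : F)

lemma prod_sum_eq (φ : Fin N → MulChar F R) (f : AddChar F R) :
    ∏ i : Fin N, (∑ y : F, f y * φ i y) = ∑ s : F, f s * J φ s := by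
  classical
  have h1 : ∀ i : Fin N, (∑ y : F, f y * φ i y) = ∑ u : Fˣ, f (u : F) * φ i (u : F) :=
    fun i => sum_units _ (by rw [MulCharClass.map_nonunit (φ i) not_isUnit_zero, mul_zero])
  simp only [h1]
  rw [Fintype.prod_sum, ← Finset.sum_fiberwise Finset.univ (fun x : Fin N → Fˣ => ∑ i, ((x i : Fˣ) : F))]
  refine Finset.sum_congr rfl fun s _ => ?_
  rw [J, Finset.mul_sum]
  refine Finset.sum_congr rfl fun x hx => ?_
  rw [Finset.prod_mul_distrib, ← (Finset.mem_filter.1 hx).2]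
  congr 1
  exact (addChar_sum f Finset.univ fun i => ((x i : Fˣ) : F)).symm

lemma J_scale (φ : Fin N → MulChar F R) (s : F) (c : Fˣ) :
    J φ ((c : F) * s) = (∏ i, φ i) (c : F) * J φ s := by
  classical
  rw [J, J, Finset.mul_sum]
  refine Finset.sum_nbij' (fun x i => c⁻¹ * x i) (fun x i => c * x i) ?_ ?_ ?_ ?_ ?_
  · intro x hx
    rw [Finset.mem_filter] at hx ⊢
    refine ⟨Finset.mem_univ _, ?_⟩
    simp only [Units.val_mul]
    rw [← Finset.mul_sum, hx.2, ← mul_assoc, Units.inv_mul, one_mul]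
  · intro x hx
    rw [Finset.mem_filter] at hx ⊢
    refine ⟨Finset.mem_univ _, ?_⟩
    simp only [Units.val_mul]
    rw [← Finset.mul_sum, hx.2]
  · intro x _
    simp
  · intro x _
    simp
  · intro x _
    rw [mulChar_prod, ← Finset.prod_mul_distrib]
    refine Finset.prod_congr rfl fun i _ => ?_
    rw [← map_mul, Units.val_mul, ← mul_assoc, Units.mul_inv, one_mul]

lemma J_eq (φ : Fin N → MulChar F R) {s : F} (hs : s ≠ 0) :
    J φ s = (∏ i, φ i) (-s) * J φ (-1) := by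
  have := J_scale φ (-1) (Units.mk0 (-s) (neg_ne_zero.2 hs))
  simpa using this

lemma jacobi_gauss [IsDomain R] (hN : 1 ≤ N) (χ0 : MulChar F R) (φ : Fin N → MulChar F R)
    (hprod : ∏ i, φ i = χ0) (hnt : χ0 = 1 → ∃ i, φ i ≠ 1) (Ψ : AddChar F R) (hΨ : Ψ ≠ 1) :
    (Fintype.card F : R) * ((-1) ^ (N - 1) * J φ (-1)) =
      (-(∑ y : F, Ψ y * χ0⁻¹ y)) * ∏ i : Fin N, (-(∑ y : F, Ψ y * φ i y)) := by
  classical
  have hneg : ∏ i : Fin N, (-(∑ y : F, Ψ y * φ i y)) =
      (-1) ^ N * ∑ s : F, Ψ s * J φ s := by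
    simp only [fun i : Fin N => neg_eq_neg_one_mul (∑ y : F, Ψ y * φ i y)]
    rw [Finset.prod_mul_distrib, Finset.prod_const, Finset.card_univ, Fintype.card_fin, prod_sum_eq]
  have hpow : (-1 : R) ^ N = (-1) ^ (N - 1) * (-1) := by rw [← pow_succ, Nat.sub_add_cancel hN]
  rw [hneg, ← Finset.add_sum_erase Finset.univ (fun s => Ψ s * J φ s) (Finset.mem_univ (0 : F))]
  have hrest : ∑ s ∈ Finset.univ.erase (0 : F), Ψ s * J φ s =
      (∑ s : F, Ψ s * χ0 (-s)) * J φ (-1) := by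
    rw [← Finset.add_sum_erase Finset.univ (fun s => Ψ s * χ0 (-s)) (Finset.mem_univ (0 : F))]
    simp only [neg_zero, MulCharClass.map_nonunit χ0 not_isUnit_zero, mul_zero, zero_add]
    rw [Finset.sum_mul]
    refine Finset.sum_congr rfl fun s hs => ?_
    rw [J_eq φ (Finset.ne_of_mem_erase hs), hprod, mul_assoc]
  rw [hrest]
  by_cases hχ : χ0 = 1
  · obtain ⟨i, hi⟩ := hnt hχ
    subst hχ
    have hG0 : ∑ y : F, Ψ y * (1 : MulChar F R)⁻¹ y = -1 := by
      have e := AddChar.sum_eq_zero_of_ne_one hΨ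
      rw [← Finset.add_sum_erase _ _ (Finset.mem_univ (0 : F)), AddChar.map_zero_eq_one] at e
      rw [← Finset.add_sum_erase _ _ (Finset.mem_univ (0 : F))]
      simp only [inv_one, MulCharClass.map_nonunit (1 : MulChar F R) not_isUnit_zero, mul_zero, zero_add]
      rw [Finset.sum_congr rfl fun y hy => by
        rw [MulChar.one_apply (IsUnit.mk0 _ (Finset.ne_of_mem_erase hy)), mul_one]]
      linear_combination e
    have hS : ∑ s : F, Ψ s * (1 : MulChar F R) (-s) = -1 := by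
      rw [← hG0]
      refine Finset.sum_congr rfl fun s _ => ?_
      by_cases h : s = 0
      · subst h; simp
      · rw [inv_one, MulChar.one_apply (IsUnit.mk0 _ h),
          MulChar.one_apply (IsUnit.mk0 _ (neg_ne_zero.2 h))]
    have htot : J φ 0 + ((Fintype.card F : R) - 1) * J φ (-1) = 0 := by
      have h1 := prod_sum_eq φ (1 : AddChar F R)
      simp only [AddChar.one_apply, one_mul] at h1
      rw [Finset.prod_eq_zero (Finset.mem_univ i) (MulChar.sum_eq_zero_of_ne_one hi),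
        ← Finset.add_sum_erase _ _ (Finset.mem_univ (0 : F))] at h1
      rw [Finset.sum_congr rfl (g := fun _ => J φ (-1)) fun s hs => by
        rw [J_eq φ (Finset.ne_of_mem_erase hs), hprod,
          MulChar.one_apply (IsUnit.mk0 _ (neg_ne_zero.2 (Finset.ne_of_mem_erase hs))), one_mul]] at h1
      rw [Finset.sum_const, Finset.card_erase_of_mem (Finset.mem_univ _), Finset.card_univ,
        nsmul_eq_mul, Nat.cast_sub Fintype.card_pos, Nat.cast_one] at h1
      exact h1.symm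
    rw [hG0, hS, AddChar.map_zero_eq_one, hpow]
    linear_combination ((-1 : R) ^ (N - 1)) * htot
  · have hJ0 : J φ 0 = 0 := by
      obtain ⟨c, hc⟩ := MulChar.ne_one_iff.1 hχ
      have := J_scale φ 0 c
      rw [mul_zero, hprod] at this
      exact eq_zero_of_mul_eq_self_left hc this.symm
    have hg := gaussSum_mul_gaussSum_eq_card (χ := χ0⁻¹)
      (fun h => hχ (inv_eq_one.1 h)) (AddChar.IsPrimitive.of_ne_one hΨ)
    rw [inv_inv] at hg
    have h1 : gaussSum χ0⁻¹ Ψ = ∑ y : F, Ψ y * χ0⁻¹ y :=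
      Finset.sum_congr rfl fun y _ => mul_comm _ _
    have h2 : gaussSum χ0 Ψ⁻¹ = ∑ s : F, Ψ s * χ0 (-s) :=
      Fintype.sum_equiv (Equiv.neg F) _ _ fun y => by simp [mul_comm]
    rw [h1, h2] at hg
    rw [hJ0, mul_zero, zero_add, ← hg, hpow]
    ring


/-- Let F be a finite field with q elements, N ≥ 1, χ₀, …, χ_N multiplicative characters of F with
values in a domain, not all trivial and with product 1, and Ψ a nontrivial additive character of F.
Put τ(χ, Ψ) = −Σ_{x ∈ F} Ψ(x) χ⁻¹(x) and J(χ) = (−1)^{N−1} Σ χ₁⁻¹(x₁) ⋯ χ_N⁻¹(x_N), the sum over x₁,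
…, x_N ∈ F^* with x₁ + ⋯ + x_N = −1. Then q · J(χ) = τ(χ₀, Ψ) ⋯ τ(χ_N, Ψ). -/
theorem result (F : Type) [Field F] [Fintype F] [DecidableEq F] (R : Type) [CommRing R] [IsDomain R]
    (N : ℕ) (hN : 1 ≤ N) (χ : Fin (N + 1) → MulChar F R) (hprod : ∏ i, χ i = 1) (hnt : ∃ i, χ i ≠ 1)
    (Ψ : AddChar F R) (hΨ : Ψ ≠ 1) :
    (Fintype.card F : R) * ((-1) ^ (N - 1) *
        ∑ x ∈ (Finset.univ : Finset (Fin N → Fˣ)).filter (fun x => ∑ i, ((x i : Fˣ) : F) = -1),
          ∏ i : Fin N, (χ i.succ)⁻¹ ((x i : Fˣ) : F)) =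
      ∏ i : Fin (N + 1), (-(∑ y : F, Ψ y * (χ i)⁻¹ y)) := by
  classical
  rw [Fin.prod_univ_succ] at hprod
  have hφ : ∏ i : Fin N, (χ i.succ)⁻¹ = χ 0 := by
    rw [Finset.prod_inv_distrib, inv_eq_of_mul_eq_one_left hprod]
  have hn : χ 0 = 1 → ∃ i : Fin N, (χ i.succ)⁻¹ ≠ 1 := by
    intro h0
    obtain ⟨i, hi⟩ := hnt
    refine Fin.cases (fun h => absurd h0 h) (fun j h => ⟨j, fun e => h (inv_eq_one.1 e)⟩) i hi
  rw [Fin.prod_univ_succ]
  exact jacobi_gauss hN (χ 0) (fun i => (χ i.succ)⁻¹) hφ hn Ψ hΨ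

end Groth.Agent.S3129
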