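import Groth.Statements.S3133
import Mathlib.LinearAlgebra.Matrix.Block
import Mathlib.Algebra.Polynomial.Expand
import Mathlib.Tactic.Ring

set_option autoImplicit false
set_option linter.unusedSimpArgs false
open Polynomial
open SGA4h

namespace Groth.Agent.S3133

variable {R : Type} [CommRing R] {m : Type} [Fintype m] [DecidableEq m]

/-- lower unitriangular factor `1 - X N` -/
noncomputable def Lo (R : Type) [CommRing R] (m : Type) [DecidableEq m] (k : ℕ) : Matrix (Fin (k + 1) × m) (Fin (k + 1) × m) R[X] :=
  Matrix.of fun p q => if p.2 = q.2 then (if p.1 = q.1 then 1 else if q.1.val + 1 = p.1.val then -X else 0) else 0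

/-- upper factor: the identity with the last block column changed -/
noncomputable def Up (A : Matrix m m R) (k : ℕ) : Matrix (Fin (k + 1) × m) (Fin (k + 1) × m) R[X] :=
  Matrix.of fun p q => (if p.1 = q.1 ∧ p.2 = q.2 then 1 else 0)
    - (if q.1 = Fin.last k then X ^ (p.1.val + 1) * C (A p.2 q.2) else 0)

theorem det_Lo (k : ℕ) : (Lo R m k).det = 1 := by
  have h : (Lo R m k).BlockTriangular (fun p => OrderDual.toDual p.1) := by
    intro p q hpq
    have hlt : p.1 < q.1 := hpq
    simp only [Lo, Matrix.of_apply]
    split_ifs with h1 h2 h3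
    · exact absurd h2 hlt.ne
    · exfalso
      rw [Fin.lt_def] at hlt; omega
    · rfl
    · rfl
  rw [h.det_fintype]
  refine Finset.prod_eq_one fun a _ => ?_
  have : (Lo R m k).toSquareBlock (fun p => OrderDual.toDual p.1) a = 1 := by
    ext ⟨p, hp⟩ ⟨q, hq⟩
    have hpq : p.1 = q.1 := OrderDual.toDual.injective (hp.trans hq.symm)
    simp only [Matrix.toSquareBlock_def, Matrix.of_apply, Lo, hpq, if_true, Matrix.one_apply, Subtype.mk.injEq,
      Prod.ext_iff, true_and]
  rw [this, Matrix.det_one]

theorem det_Up (A : Matrix m m R) (k : ℕ) : (Up A k).det = (1 - (X ^ (k + 1) : R[X]) • A.map C).det := by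
  have h : (Up A k).BlockTriangular Prod.fst := by
    intro p q hpq
    have hlt : q.1 < p.1 := hpq
    simp only [Up, Matrix.of_apply]
    rw [if_neg (fun hh => hlt.ne hh.1.symm), if_neg, sub_zero]
    intro hh
    rw [hh] at hlt
    exact absurd hlt (not_lt.mpr (Fin.le_last _))
  rw [h.det_fintype, Finset.prod_eq_single (Fin.last k)]
  · let e : m ≃ {p : Fin (k + 1) × m // p.1 = Fin.last k} :=
      { toFun := fun a => ⟨(Fin.last k, a), rfl⟩
        invFun := fun p => p.1.2
        left_inv := fun a => rfl
        right_inv := fun p => Subtype.ext (Prod.ext p.2.symm rfl) }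
    rw [← Matrix.det_submatrix_equiv_self e]
    congr 1
    ext a b
    simp [e, Up, Matrix.toSquareBlock_def, Matrix.one_apply]
  · intro a _ ha
    have : (Up A k).toSquareBlock Prod.fst a = 1 := by
      ext ⟨p, hp⟩ ⟨q, hq⟩
      simp only [Matrix.toSquareBlock_def, Matrix.of_apply, Up, hp, hq, true_and, if_neg ha, sub_zero,
        Matrix.one_apply, Subtype.mk.injEq, Prod.ext_iff]
    rw [this, Matrix.det_one]
  · simp

/-- Let A be a square matrix over a commutative ring and n ≥ 1, and let B be the matrix on n blocks of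
the endomorphism (x_1, …, x_n) ↦ (A x_n, x_1, …, x_{n-1}). Then det(1 − B·T) = det(1 − A·Tⁿ), i.e.
the reverse characteristic polynomial of B is that of A expanded by n. -/
theorem result (R : Type) [CommRing R] (m : Type) [Fintype m] [DecidableEq m]
    (A : Matrix m m R) (n : ℕ) (hn : 1 ≤ n) :
    (Matrix.of fun (p q : Fin n × m) =>
        if p.1.val = 0 then (if q.1.val = n - 1 then A p.2 q.2 else 0)
        else (if q.1.val + 1 = p.1.val ∧ p.2 = q.2 then 1 else 0)).charpolyRev =
      Polynomial.expand R n A.charpolyRev := by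
  classical
  obtain ⟨k, rfl⟩ : ∃ k, n = k + 1 := ⟨n - 1, by omega⟩
  set B := (Matrix.of fun (p q : Fin (k + 1) × m) =>
        if p.1.val = 0 then (if q.1.val = k + 1 - 1 then A p.2 q.2 else 0)
        else (if q.1.val + 1 = p.1.val ∧ p.2 = q.2 then 1 else 0)) with hB
  have hmul : (1 : Matrix (Fin (k + 1) × m) (Fin (k + 1) × m) R[X]) - (X : R[X]) • B.map C = Lo R m k * Up A k := by
    ext ⟨i, a⟩ ⟨j, b⟩
    rw [Matrix.mul_apply, Fintype.sum_prod_type]
    have hL : ∀ l c, Lo R m k (i, a) (l, c) = if a = c then (if i = l then 1 else if l.val + 1 = i.val then -X else 0) else 0 :=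
      fun l c => rfl
    simp only [hL, ite_mul, zero_mul, Finset.sum_ite_eq, Finset.mem_univ, if_true]
    rcases Nat.eq_zero_or_pos i.val with hi | hi
    · have hi0 : i = 0 := Fin.ext hi
      rw [Finset.sum_eq_single i]
      · simp only [if_true, one_mul, Up, Matrix.of_apply, Matrix.sub_apply, Matrix.smul_apply, Matrix.map_apply,
          Matrix.one_apply, hB, Prod.mk.injEq, hi0, Fin.val_zero, zero_add, pow_one, smul_eq_mul]
        by_cases hj : j = Fin.last k
        · subst hj; simp
        · have : j.val ≠ k := fun h => hj (Fin.ext h)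
          simp [hj, this]
      · intro l _ hl
        rw [if_neg (fun h => hl h.symm), if_neg (by omega)]
      · simp
    · obtain ⟨l, hl⟩ : ∃ l : Fin (k + 1), l.val + 1 = i.val := ⟨⟨i.val - 1, by omega⟩, by simp only; omega⟩
      rw [Finset.sum_eq_add i l (fun h => by subst h; omega)]
      · have hil : ¬ i = l := fun h => by subst h; omega
        simp only [if_true, one_mul, if_neg hil, hl, Up, Matrix.of_apply, Matrix.sub_apply, Matrix.smul_apply,
          Matrix.map_apply, Matrix.one_apply, hB, Prod.mk.injEq, if_neg (show ¬ i.val = 0 by omega), smul_eq_mul]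
        have hiff : (j.val + 1 = i.val) ↔ l = j := by
          constructor
          · intro h; exact Fin.ext (by omega)
          · rintro rfl; exact hl
        simp only [hiff, apply_ite C, map_one, map_zero, mul_ite, mul_one, mul_zero, pow_succ]
        split_ifs <;> ring
      · intro c _ hc
        rw [if_neg (fun h => hc.1 h.symm), if_neg (fun h => hc.2 (Fin.ext (by omega)))]
      · simp
      · simp
  have hd := congrArg Matrix.det hmul
  rw [Matrix.det_mul, det_Lo, one_mul, det_Up] at hd
  refine hd.trans ?_
  rw [Matrix.charpolyRev, AlgHom.map_det]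
  congr 1
  ext i j
  by_cases h : i = j <;> simp [h, Matrix.one_apply, map_sub]

end Groth.Agent.S3133
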