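import Groth.Statements.S3134
import Mathlib.LinearAlgebra.Matrix.Adjugate
import Mathlib.Algebra.Polynomial.Derivation
import Mathlib.Tactic.Ring

set_option autoImplicit false
open Polynomial
open SGA4h

namespace Groth.Agent.S3134

variable {R : Type} [CommRing R] {m : Type} [Fintype m] [DecidableEq m]

theorem jacobi (M : Matrix m m R[X]) : derivative M.det = (M.adjugate * M.map derivative).trace := by
  have h1 : derivative M.det = ∑ c, (M.updateCol c (fun j => derivative (M j c))).det := by
    simp only [Matrix.det_apply', map_sum, derivative_mul, derivative_intCast, zero_mul, zero_add,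
      derivative_prod_finset, Finset.mul_sum]
    rw [Finset.sum_comm]
    refine Finset.sum_congr rfl fun c _ => Finset.sum_congr rfl fun σ _ => ?_
    rw [← Finset.mul_prod_erase Finset.univ _ (Finset.mem_univ c), Matrix.updateCol_self, mul_comm (∏ x ∈ _, _) (derivative _)]
    congr 2
    exact Finset.prod_congr rfl fun x hx => by rw [Matrix.updateCol_ne (Finset.ne_of_mem_erase hx)]
  rw [h1]
  refine Finset.sum_congr rfl fun c _ => ?_
  rw [← Matrix.cramer_apply, Matrix.cramer_eq_adjugate_mulVec]
  rfl

/-- For a square matrix A over a commutative ring, with P(T) = det(1 − A·T), one has −T·P′(T) = P(T) ·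
Σ_{n ≥ 1} Tr(Aⁿ) Tⁿ as formal power series (equivalently T d/dT log P(T)⁻¹ = Σ_{n≥1} Tr(Aⁿ) Tⁿ). -/
theorem result (R : Type) [CommRing R] (m : Type) [Fintype m] [DecidableEq m]
    (A : Matrix m m R) :
    ((-(X * Polynomial.derivative A.charpolyRev) : R[X]) : PowerSeries R) =
      (A.charpolyRev : PowerSeries R) * PowerSeries.mk (fun n => if n = 0 then 0 else (A ^ n).trace) := by
  classical
  set M : Matrix m m R[X] := 1 - (X : R[X]) • A.map C with hM
  have hdet : M.det = A.charpolyRev := rfl
  have hd : M.map derivative = -(A.map C) := by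
    ext i j : 1
    by_cases h : i = j <;> simp [hM, h, Matrix.one_apply]
  have hP : derivative A.charpolyRev = -(M.adjugate * A.map C).trace := by
    rw [← hdet, jacobi, hd, Matrix.mul_neg, Matrix.trace_neg]
  -- over power series
  let φ : R[X] →+* PowerSeries R := Polynomial.coeToPowerSeries.ringHom
  let S : Matrix m m (PowerSeries R) := Matrix.of fun i j => PowerSeries.mk fun n => (A ^ n) i j
  have hinv : M.map φ * S = 1 := by
    have : M.map φ = 1 - (PowerSeries.X : PowerSeries R) • A.map PowerSeries.C := by
      ext i j : 1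
      by_cases h : i = j <;> simp [hM, h, Matrix.one_apply, φ] <;> rw [mul_comm]
    rw [this, Matrix.sub_mul, Matrix.one_mul, Matrix.smul_mul]
    ext i j n
    rw [Matrix.sub_apply, Matrix.smul_apply, smul_eq_mul, map_sub]
    rcases n with _ | n
    · by_cases h : i = j <;> simp [h, S, Matrix.one_apply]
    · rw [PowerSeries.coeff_succ_X_mul, Matrix.mul_apply, map_sum]
      by_cases h : i = j <;> simp [h, S, Matrix.one_apply, pow_succ', Matrix.mul_apply, PowerSeries.coeff_C_mul]
  have hadj : M.adjugate.map φ = φ A.charpolyRev • S := by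
    calc M.adjugate.map φ = M.adjugate.map φ * (M.map φ * S) := by rw [hinv, Matrix.mul_one]
      _ = (M.adjugate * M).map φ * S := by rw [← Matrix.mul_assoc, Matrix.map_mul]
      _ = φ A.charpolyRev • S := by
        rw [Matrix.adjugate_mul, hdet]
        have : ((A.charpolyRev • (1 : Matrix m m R[X])).map φ) = φ A.charpolyRev • (1 : Matrix m m (PowerSeries R)) := by
          ext i j : 1
          by_cases h : i = j <;> simp [h, Matrix.one_apply]
        rw [this, Matrix.smul_mul, Matrix.one_mul]
  show φ (-(X * derivative A.charpolyRev)) = φ A.charpolyRev * _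
  rw [hP, mul_neg, neg_neg, map_mul, show φ (M.adjugate * A.map C).trace = φ.toAddMonoidHom (M.adjugate * A.map C).trace from rfl, AddMonoidHom.map_trace φ.toAddMonoidHom]
  have : (M.adjugate * A.map C).map φ.toAddMonoidHom = φ A.charpolyRev • (S * (A.map C).map φ) := by
    show (M.adjugate * A.map C).map φ = _
    rw [Matrix.map_mul, hadj, Matrix.smul_mul]
  rw [this, Matrix.trace_smul, smul_eq_mul, mul_left_comm]
  congr 1
  show (Polynomial.X : R[X]).toPowerSeries * _ = _
  rw [Polynomial.coe_X]
  ext n
  rcases n with _ | n
  · simp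
  · rw [PowerSeries.coeff_succ_X_mul, PowerSeries.coeff_mk, if_neg (Nat.succ_ne_zero n), pow_succ, Matrix.trace,
      map_sum, Matrix.trace]
    refine Finset.sum_congr rfl fun i _ => ?_
    simp [S, φ, Matrix.diag, Matrix.mul_apply, PowerSeries.coeff_mul_C]

end Groth.Agent.S3134
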