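import Groth.Statements.S3139
import Groth.Agent.Lib.Det19.CharSeries
import Mathlib.Algebra.Homology.DerivedCategory.KProjective
import Mathlib.Algebra.Homology.HomotopyCategory.Pretriangulated
import Mathlib.Algebra.Category.ModuleCat.Projective
import Mathlib.RingTheory.Finiteness.Prod
import Mathlib.LinearAlgebra.FreeModule.Basic
-- import your own Groth.Agent.* helpers here

set_option autoImplicit false
universe u
open CategoryTheory
attribute [local instance] HasDerivedCategory.standard
open SGA4h

namespace Groth.Agent.S3139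

open Limits GrothLib.Det19 Polynomial

/-- Let A be a commutative ring, K and K' bounded cochain complexes of finite free A-modules with
endomorphisms u and u', and suppose (K, u) and (K', u') are isomorphic in the derived category D(A):
there is an isomorphism K ≅ K' in D(A) intertwining the images of u and u'. Then det(1 - u t, K) =
det(1 - u' t, K'), where det(1 - u t, K) = ∏ᵢ det(1 - u t, Kⁱ)^{(-1)^i}; the equality is stated
cross-multiplied, as ∏_{i even} det(1 - u t, Kⁱ) · ∏_{i odd} det(1 - u' t, K'ⁱ) = ∏_{i odd} det(1 -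
u t, Kⁱ) · ∏_{i even} det(1 - u' t, K'ⁱ) in A[t]. (The source works with finite projective modules;
finite free is the special case stated here.) -/
theorem result (A : Type u) [CommRing A]
    (K K' : CochainComplex (ModuleCat.{u} A) ℤ) (a b : ℤ) [K.IsStrictlyGE a] [K.IsStrictlyLE b] [K'.IsStrictlyGE a] [K'.IsStrictlyLE b]
    (hK : ∀ i : ℤ, Module.Finite A (K.X i) ∧ Module.Free A (K.X i)) (hK' : ∀ i : ℤ, Module.Finite A (K'.X i) ∧ Module.Free A (K'.X i))
    (u : K ⟶ K) (u' : K' ⟶ K') (φ : DerivedCategory.Q.obj K ≅ DerivedCategory.Q.obj K')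
    (hφ : DerivedCategory.Q.map u ≫ φ.hom = φ.hom ≫ DerivedCategory.Q.map u') :
    SGA4h.detEven K u * SGA4h.detOdd K' u' = SGA4h.detOdd K u * SGA4h.detEven K' u' := by
  haveI := fun i => (hK i).1
  haveI := fun i => (hK i).2
  haveI := fun i => (hK' i).1
  haveI := fun i => (hK' i).2
  haveI : ∀ i, Projective (K.X i) := fun i =>
    (IsProjective.iff_projective (K.X i)).1 inferInstance
  haveI : ∀ i, Projective (K'.X i) := fun i =>
    (IsProjective.iff_projective (K'.X i)).1 inferInstance
  haveI := CochainComplex.isKProjective_of_projective K b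
  haveI := CochainComplex.isKProjective_of_projective K' b
  obtain ⟨g, hg⟩ := (CochainComplex.IsKProjective.Qh_map_bijective K
    ((HomotopyCategory.quotient _ _).obj K')).surjective
      ((DerivedCategory.quotientCompQhIso _).hom.app K ≫ φ.hom ≫
        (DerivedCategory.quotientCompQhIso _).inv.app K')
  obtain ⟨f, rfl⟩ := (HomotopyCategory.quotient _ _).map_surjective g
  have hf : DerivedCategory.Q.map f = φ.hom := by
    have := (DerivedCategory.quotientCompQhIso (ModuleCat.{u} A)).hom.naturality f
    rw [Functor.comp_map, hg] at this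
    simpa [cancel_epi] using this.symm
  haveI : QuasiIso f := (DerivedCategory.isIso_Q_map_iff_quasiIso _ f).1 (hf ▸ inferInstance)
  haveI hiso : IsIso ((HomotopyCategory.quotient _ _).map f) := by
    have := (CochainComplex.IsKProjective.quasiIso_iff f).1 inferInstance
    rwa [← HomotopyCategory.inverseImage_quotient_isomorphisms,
      MorphismProperty.inverseImage_iff, MorphismProperty.isomorphisms.iff] at this
  let H : Homotopy (f ≫ u') (u ≫ f) := HomotopyCategory.homotopyOfEq _ _ <| by
    refine (CochainComplex.IsKProjective.Qh_map_bijective K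
      ((HomotopyCategory.quotient _ _).obj K')).injective ?_
    have n1 := (DerivedCategory.quotientCompQhIso (ModuleCat.{u} A)).hom.naturality (f ≫ u')
    have n2 := (DerivedCategory.quotientCompQhIso (ModuleCat.{u} A)).hom.naturality (u ≫ f)
    have e : DerivedCategory.Q.map (f ≫ u') = DerivedCategory.Q.map (u ≫ f) := by
      rw [Functor.map_comp, Functor.map_comp, hf, hφ]
    rw [e, ← n2, cancel_mono] at n1
    exact n1
  let C := CochainComplex.mappingCone f
  let w : C ⟶ C := CochainComplex.mappingCone.mapOfHomotopy H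
  have hz : IsZero ((HomotopyCategory.quotient _ _).obj C) :=
    (Pretriangulated.Triangle.isZero₃_iff_isIso₁ _
      (HomotopyCategory.mappingCone_triangleh_distinguished f)).2 hiso
  let S : Homotopy (𝟙 C) 0 := HomotopyCategory.homotopyOfEq _ _ (hz.eq_of_src _ _)
  let inl' := fun i : ℤ => (CochainComplex.mappingCone.inl f).v (i + 1) i (by omega)
  let fst' := fun i : ℤ => (CochainComplex.mappingCone.fst f).1.v i (i + 1) rfl
  let inr' := fun i : ℤ => (CochainComplex.mappingCone.inr f).f i
  let snd' := fun i : ℤ => (CochainComplex.mappingCone.snd f).v i i (add_zero i)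
  have h11 : ∀ i, (fst' i).hom ∘ₗ (inl' i).hom = LinearMap.id := fun i =>
    congrArg ModuleCat.Hom.hom (CochainComplex.mappingCone.inl_v_fst_v f (i + 1) i rfl)
  have h22 : ∀ i, (snd' i).hom ∘ₗ (inr' i).hom = LinearMap.id := fun i =>
    congrArg ModuleCat.Hom.hom (CochainComplex.mappingCone.inr_f_snd_v f i)
  have h12 : ∀ i, (fst' i).hom ∘ₗ (inr' i).hom = 0 := fun i =>
    congrArg ModuleCat.Hom.hom (CochainComplex.mappingCone.inr_f_fst_v f i (i + 1) rfl)
  have h21 : ∀ i, (snd' i).hom ∘ₗ (inl' i).hom = 0 := fun i =>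
    congrArg ModuleCat.Hom.hom (CochainComplex.mappingCone.inl_v_snd_v f (i + 1) i (by omega))
  have hid : ∀ i, (inr' i).hom ∘ₗ (snd' i).hom + (inl' i).hom ∘ₗ (fst' i).hom = LinearMap.id :=
    fun i => by
      rw [add_comm]
      exact congrArg ModuleCat.Hom.hom (CochainComplex.mappingCone.id_X f i (i + 1) rfl)
  let e : ∀ i : ℤ, C.X i ≃ₗ[A] (K.X (i + 1) × K'.X i) := fun i =>
    LinearEquiv.ofLinearMap ((fst' i).hom.prod (snd' i).hom)
      ((inl' i).hom.coprod (inr' i).hom)
      (by
        refine LinearMap.prod_ext ?_ ?_ <;> refine LinearMap.ext fun x => Prod.ext ?_ ?_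
        · simpa using LinearMap.congr_fun (h11 i) x
        · simpa using LinearMap.congr_fun (h21 i) x
        · simpa using LinearMap.congr_fun (h12 i) x
        · simpa using LinearMap.congr_fun (h22 i) x)
      (by
        refine LinearMap.ext fun x => ?_
        simpa [add_comm] using LinearMap.congr_fun (hid i) x)
  haveI : ∀ i, Module.Finite A (C.X i) := fun i => Module.Finite.equiv (e i).symm
  haveI : ∀ i, Module.Free A (C.X i) := fun i => Module.Free.of_equiv (e i).symm
  have hsplit : ∀ i, D (w.f i).hom = D (u.f (i + 1)).hom * D (u'.f i).hom := fun i => by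
    refine D_triangular (inl' i).hom (fst' i).hom (inr' i).hom (snd' i).hom _ _ _ (hid i) (h11 i)
      (h22 i) (h12 i) ?_ ?_ ?_
    · have : inl' i ≫ w.f i ≫ fst' i = u.f (i + 1) := by
        simp [w, C, inl', fst', CochainComplex.mappingCone.mapOfHomotopy]
      exact congrArg ModuleCat.Hom.hom this
    · have : inr' i ≫ w.f i ≫ fst' i = 0 := by
        simp [w, C, inr', fst', CochainComplex.mappingCone.mapOfHomotopy]
      exact congrArg ModuleCat.Hom.hom this
    · have : inr' i ≫ w.f i ≫ snd' i = u'.f i := by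
        simp [w, C, inr', snd', CochainComplex.mappingCone.mapOfHomotopy]
      exact congrArg ModuleCat.Hom.hom this
  let E : ℤ → A[X] := fun i => D ((w.f i).hom ∘ₗ ((C.d (i - 1) i).hom ∘ₗ (S.hom i (i - 1)).hom))
  have hE : ∀ i, D (w.f i).hom = E i * E (i + 1) := fun i => by
    have hs := S.comm i
    rw [dNext_eq _ (show (ComplexShape.up ℤ).Rel i (i + 1) from rfl),
      prevD_eq _ (show (ComplexShape.up ℤ).Rel (i - 1) i by simp), HomologicalComplex.zero_f,
      add_zero, HomologicalComplex.id_f] at hs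
    have hs' := congrArg ModuleCat.Hom.hom hs
    rw [ModuleCat.hom_id, ModuleCat.hom_add, ModuleCat.hom_comp, ModuleCat.hom_comp] at hs'
    rw [D_step (C.d (i - 1) i).hom (C.d i (i + 1)).hom (S.hom i (i - 1)).hom
      (S.hom (i + 1) i).hom (w.f (i - 1)).hom (w.f i).hom (w.f (i + 1)).hom
      (by rw [add_comm]; exact hs'.symm)
      (congrArg ModuleCat.Hom.hom (C.d_comp_d (i - 1) i (i + 1)))
      (congrArg ModuleCat.Hom.hom (w.comm (i - 1) i).symm)
      (congrArg ModuleCat.Hom.hom (w.comm i (i + 1)).symm)]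
    have : ∀ j, j = i → D ((w.f (i + 1)).hom ∘ₗ ((C.d j (i + 1)).hom ∘ₗ (S.hom (i + 1) j).hom))
        = D ((w.f (i + 1)).hom ∘ₗ ((C.d i (i + 1)).hom ∘ₗ (S.hom (i + 1) i).hom)) := by
      rintro j rfl; rfl
    exact congrArg (_ * ·) (this (i + 1 - 1) (by omega)).symm
  have hKo : ∀ i, i < a ∨ b < i → D (u.f i).hom = 1 := fun i hi => by
    haveI := ModuleCat.subsingleton_of_isZero (hi.elim (fun h => K.isZero_of_isStrictlyGE a i h)
      (fun h => K.isZero_of_isStrictlyLE b i h))
    exact D_subsingleton _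
  have hK'o : ∀ i, i < a ∨ b < i → D (u'.f i).hom = 1 := fun i hi => by
    haveI := ModuleCat.subsingleton_of_isZero (hi.elim (fun h => K'.isZero_of_isStrictlyGE a i h)
      (fun h => K'.isZero_of_isStrictlyLE b i h))
    exact D_subsingleton _
  have hEo : ∀ i, i < a - 1 ∨ b < i → E i = 1 := fun i hi => by
    haveI := ModuleCat.subsingleton_of_isZero (hi.elim
      (fun h => K.isZero_of_isStrictlyGE a (i + 1) (by omega))
      (fun h => K.isZero_of_isStrictlyLE b (i + 1) (by omega)))
    haveI := ModuleCat.subsingleton_of_isZero (hi.elim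
      (fun h => K'.isZero_of_isStrictlyGE a i (by omega))
      (fun h => K'.isZero_of_isStrictlyLE b i h))
    haveI : Subsingleton (C.X i) := (e i).toEquiv.subsingleton
    exact D_subsingleton _
  have key : ∀ (pr pr' : ℤ → Prop),
      (∀ F : ℤ → A[X], (∏ᶠ i : {i : ℤ // pr i}, F (i.1 + 1)) = ∏ᶠ i : {i : ℤ // pr' i}, F i.1) →
      (∏ᶠ i : {i : ℤ // pr' i}, D (u.f i.1).hom) * (∏ᶠ i : {i : ℤ // pr i}, D (u'.f i.1).hom) =
        (∏ᶠ i : {i : ℤ // pr i}, E i.1) * ∏ᶠ i : {i : ℤ // pr' i}, E i.1 := by
    intro pr pr' hsh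
    rw [← hsh (fun j => D (u.f j).hom),
      ← finprod_parity_mul pr (fun j => D (u.f (j + 1)).hom) (fun j => D (u'.f j).hom) (a - 1) b
      (fun i hi => hKo (i + 1) (by omega)) (fun i hi => hK'o i (by omega)),
      ← hsh E, ← finprod_parity_mul pr E (fun j => E (j + 1)) (a - 2) b
      (fun i hi => hEo i (by omega)) (fun i hi => hEo (i + 1) (by omega))]
    exact finprod_congr fun i => (hsplit i.1).symm.trans (hE i.1)
  have h1 := key _ _ finprod_even_succ
  have h2 := key _ _ finprod_odd_succ
  change (∏ᶠ i : {i : ℤ // Even i}, D (u.f i.1).hom) * (∏ᶠ i : {i : ℤ // Odd i}, D (u'.f i.1).hom)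
    = (∏ᶠ i : {i : ℤ // Odd i}, D (u.f i.1).hom) * ∏ᶠ i : {i : ℤ // Even i}, D (u'.f i.1).hom
  rw [h1, h2, mul_comm]

end Groth.Agent.S3139
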