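import Groth.Statements.S3140

set_option autoImplicit false
universe u
open RingTheory.Sequence
open SGA4h

namespace Groth.Agent.S3140

open IsLocalRing

variable {A : Type u} [CommRing A] [IsLocalRing A] [IsNoetherianRing A]

omit [IsLocalRing A] [IsNoetherianRing A] in
lemma ofList_perm {w w' : List A} (h : w.Perm w') : Ideal.ofList w = Ideal.ofList w' :=
  congrArg Ideal.span (Set.ext fun _ => h.mem_iff)

omit [IsLocalRing A] [IsNoetherianRing A] in
lemma ofList_ne_top {w : List A} (h : IsRegular A w) : Ideal.ofList w ≠ ⊤ := fun e =>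
  h.top_ne_smul (by rw [e, Submodule.top_smul])

/-- the last member of a regular sequence is not in the span of the others -/
lemma last_not_mem {w : List A} {x : A} (h : IsRegular A (w ++ [x])) : x ∉ Ideal.ofList w := by
  intro hx
  have h2 := ((isWeaklyRegular_append_iff A w [x]).1 h.toIsWeaklyRegular).2
  rw [isWeaklyRegular_singleton_iff] at h2
  have hle : Ideal.ofList w ≤ Ideal.ofList (w ++ [x]) := by
    rw [Ideal.ofList_append]; exact le_sup_left
  have hne : Ideal.ofList w ≠ ⊤ := fun e => ofList_ne_top h (top_le_iff.1 (e ▸ hle))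
  apply hne
  rw [Ideal.eq_top_iff_one]
  let q : A ⧸ (Ideal.ofList w • ⊤ : Submodule A A) := Submodule.Quotient.mk 1
  have h0 : x • q = x • (0 : A ⧸ (Ideal.ofList w • ⊤ : Submodule A A)) := by
    rw [smul_zero, ← Submodule.Quotient.mk_smul, Submodule.Quotient.mk_eq_zero]
    simpa using hx
  have h1 := h2 h0
  rw [Submodule.Quotient.mk_eq_zero] at h1
  simpa using h1

/-- a member of a regular sequence is not in the span of the others plus `m I` -/
lemma not_mem_sup {w : List A} {x : A} (h : IsRegular A (w ++ [x])) :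
    x ∉ Ideal.ofList w ⊔ maximalIdeal A • Ideal.ofList (w ++ [x]) := by
  intro hx
  have hle : Ideal.ofList (w ++ [x]) ≤ Ideal.ofList w ⊔ maximalIdeal A • Ideal.ofList (w ++ [x]) := by
    conv_lhs => rw [Ideal.ofList_append, Ideal.ofList_singleton]
    exact sup_le le_sup_left ((Ideal.span_singleton_le_iff_mem _).2 hx)
  have hN : Ideal.ofList (w ++ [x]) ≤ Ideal.ofList w :=
    Submodule.le_of_le_smul_of_le_jacobson_bot (IsNoetherian.noetherian _)
      (maximalIdeal_le_jacobson _) hle
  refine last_not_mem h (hN ?_)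
  rw [Ideal.ofList_append, Ideal.ofList_singleton]
  exact Ideal.mem_sup_right (Ideal.mem_span_singleton_self x)

/-- replacing the last member -/
lemma replace_last {w : List A} {x y j c : A} (h : IsRegular A (w ++ [x])) (hj : j ∈ Ideal.ofList w)
    (hc : IsUnit c) (hy : y = j + c * x) :
    IsRegular A (w ++ [y]) ∧ Ideal.ofList (w ++ [y]) = Ideal.ofList (w ++ [x]) := by
  have e : Ideal.ofList (w ++ [y]) = Ideal.ofList (w ++ [x]) := by
    simp only [Ideal.ofList_append, Ideal.ofList_singleton]
    refine le_antisymm (sup_le le_sup_left ((Ideal.span_singleton_le_iff_mem _).2 ?_))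
      (sup_le le_sup_left ((Ideal.span_singleton_le_iff_mem _).2 ?_))
    · rw [hy]
      exact add_mem (Ideal.mem_sup_left hj)
        (Ideal.mem_sup_right (Ideal.mul_mem_left _ c (Ideal.mem_span_singleton_self x)))
    · obtain ⟨d, rfl⟩ := hc
      rw [show x = (↑d⁻¹ : A) * y - (↑d⁻¹ : A) * j by
        rw [hy, mul_add, ← mul_assoc]; simp]
      exact sub_mem (Ideal.mem_sup_right (Ideal.mul_mem_left _ _ (Ideal.mem_span_singleton_self y)))
        (Ideal.mem_sup_left (Ideal.mul_mem_left _ _ hj))
  refine ⟨⟨?_, ?_⟩, e⟩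
  · obtain ⟨h1, h2⟩ := (isWeaklyRegular_append_iff A w [x]).1 h.toIsWeaklyRegular
    refine (isWeaklyRegular_append_iff A w [y]).2 ⟨h1, ?_⟩
    rw [isWeaklyRegular_singleton_iff] at h2 ⊢
    intro a b hab
    have key : ∀ a : A ⧸ (Ideal.ofList w • ⊤ : Submodule A A), y • a = c • (x • a) := by
      intro a
      obtain ⟨a, rfl⟩ := Submodule.Quotient.mk_surjective _ a
      rw [← Submodule.Quotient.mk_smul, ← Submodule.Quotient.mk_smul, ← Submodule.Quotient.mk_smul,
        Submodule.Quotient.eq, hy]
      rw [show (j + c * x) • a - c • x • a = a * j by simp only [smul_eq_mul]; ring]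
      simpa using Ideal.mul_mem_left _ a hj
    simp only [key] at hab
    exact h2 ((hc.smul_left_cancel).1 hab)
  · rw [e]; exact h.top_ne_smul

omit [IsNoetherianRing A] in
/-- finding a member with unit coefficient -/
lemma split_of_mem (r : List A) : ∀ (J : Ideal A) (y : A), y ∈ J ⊔ Ideal.ofList r →
    y ∈ J ⊔ maximalIdeal A • Ideal.ofList r ∨
    ∃ r₁ x r₂ j c, r = r₁ ++ x :: r₂ ∧ IsUnit c ∧ j ∈ J ⊔ Ideal.ofList (r₁ ++ r₂) ∧ y = j + c * x := by
  induction r with
  | nil => intro J y hy; left; simpa using hy
  | cons a r ih =>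
    intro J y hy
    rw [Ideal.ofList_cons, sup_left_comm, Submodule.mem_sup] at hy
    obtain ⟨t', ht', s, hs, rfl⟩ := hy
    obtain ⟨t, rfl⟩ := Ideal.mem_span_singleton'.1 ht'
    by_cases ht : IsUnit t
    · exact Or.inr ⟨[], a, r, s, t, rfl, ht, hs, add_comm _ _⟩
    · have htm : t * a ∈ maximalIdeal A • Ideal.ofList (a :: r) :=
        Submodule.smul_mem_smul ((mem_maximalIdeal t).2 ht) (Ideal.subset_span List.mem_cons_self)
      rcases ih J s hs with h | ⟨r₁, x, r₂, j, c, rfl, hc, hj, rfl⟩
      · left
        refine add_mem (Ideal.mem_sup_right htm) ?_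
        have h2 : Ideal.ofList r ≤ Ideal.ofList (a :: r) := by
          rw [Ideal.ofList_cons]; exact le_sup_right
        have h3 : maximalIdeal A • Ideal.ofList r ≤ maximalIdeal A • Ideal.ofList (a :: r) :=
          Submodule.smul_mono le_rfl h2
        exact sup_le_sup_left h3 J h
      · refine Or.inr ⟨a :: r₁, x, r₂, t * a + j, c, rfl, hc, ?_, by rw [add_assoc]⟩
        rw [List.cons_append, Ideal.ofList_cons, sup_left_comm]
        exact add_mem (Ideal.mem_sup_left (Ideal.mul_mem_left _ _ (Ideal.mem_span_singleton_self a)))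
          (Ideal.mem_sup_right hj)

variable (I : Ideal A)

/-- elementary step between regular sequences generating `I` -/
def Step (w w' : List A) : Prop :=
  (w.Perm w' ∨ (w.length = w'.length ∧ w.dropLast = w'.dropLast)) ∧
    (IsRegular A w' ∧ Ideal.ofList w' = I)

lemma exists_prefix (u v : List A) (hu : IsRegular A u) (hv : IsRegular A v)
    (hI : Ideal.ofList u = I) (hI' : Ideal.ofList v = I) : ∀ p q : List A, v = p ++ q →
    ∃ w r, Relation.ReflTransGen (Step I) u w ∧ IsRegular A w ∧ Ideal.ofList w = I ∧
      w.Perm (p ++ r) := by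
  intro p
  induction p using List.reverseRecOn with
  | nil => intro q _; exact ⟨u, u, .refl, hu, hI, List.Perm.refl u⟩
  | append_singleton p y ih =>
    intro q hq
    rw [List.append_assoc] at hq
    obtain ⟨w, r, hs, hw, hwI, hp⟩ := ih ([y] ++ q) hq
    have hy : y ∈ Ideal.ofList p ⊔ Ideal.ofList r := by
      rw [← Ideal.ofList_append, ← ofList_perm hp, hwI, ← hI', hq]
      exact Ideal.subset_span (by simp)
    rcases split_of_mem r _ y hy with h | ⟨r₁, x, r₂, j, c, rfl, hc, hj, hy⟩
    · exfalso
      have hperm : v.Perm ((p ++ q) ++ [y]) := by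
        rw [hq, List.append_assoc]; exact List.perm_append_comm.append_left p
      refine not_mem_sup (IsLocalRing.isRegular_of_perm hv hperm) ?_
      have h1 : Ideal.ofList p ≤ Ideal.ofList (p ++ q) := by
        rw [Ideal.ofList_append]; exact le_sup_left
      have h2 : Ideal.ofList r ≤ Ideal.ofList ((p ++ q) ++ [y]) := by
        rw [← ofList_perm hperm, hI', ← hwI, ofList_perm hp, Ideal.ofList_append]
        exact le_sup_right
      have h3 : maximalIdeal A • Ideal.ofList r ≤
          maximalIdeal A • Ideal.ofList ((p ++ q) ++ [y]) := Submodule.smul_mono le_rfl h2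
      exact sup_le_sup h1 h3 h
    · have h1 : w.Perm ((p ++ (r₁ ++ r₂)) ++ [x]) := by
        refine hp.trans ?_
        rw [List.append_assoc]
        refine List.Perm.append_left p ?_
        exact List.perm_middle.trans (List.perm_append_singleton x (r₁ ++ r₂)).symm
      have hw1 := IsLocalRing.isRegular_of_perm hw h1
      have hj' : j ∈ Ideal.ofList (p ++ (r₁ ++ r₂)) := by
        rwa [Ideal.ofList_append]
      obtain ⟨hw2, e2⟩ := replace_last hw1 hj' hc hy
      rw [← ofList_perm h1, hwI] at e2
      refine ⟨_, r₁ ++ r₂, (hs.tail ⟨Or.inl h1, hw1, (ofList_perm h1).symm.trans hwI⟩).tail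
        ⟨Or.inr ⟨by simp, by simp⟩, hw2, e2⟩, hw2, e2, ?_⟩
      simpa only [List.append_assoc] using
        (List.perm_append_comm (l₁ := r₁ ++ r₂) (l₂ := [y])).append_left p

/-- Let A be a Noetherian local ring and u, v two regular sequences of elements of A generating the same
ideal. Then there is a finite chain of regular sequences generating that same ideal, starting at u
and ending at v, in which each sequence is obtained from the previous one either by a permutation or
by changing only its last element. -/
theorem result (A : Type u) [CommRing A] [IsLocalRing A] [IsNoetherianRing A]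
    (u v : List A) (hu : IsRegular A u) (hv : IsRegular A v) (huv : Ideal.span {x | x ∈ u} = Ideal.span {x | x ∈ v}) :
    ∃ ws : List (List A), ws.head? = some u ∧ ws.getLast? = some v ∧
      (∀ w ∈ ws, IsRegular A w ∧ Ideal.span {x | x ∈ w} = Ideal.span {x | x ∈ u}) ∧
      List.IsChain (fun w w' : List A => w.Perm w' ∨ (w.length = w'.length ∧ w.dropLast = w'.dropLast)) ws := by
  obtain ⟨w, r, hs, hw, hwI, hp⟩ :=
    exists_prefix (Ideal.ofList u) u v hu hv rfl huv.symm v [] (by simp)
  have hr : r = [] := by
    rcases List.eq_nil_or_concat' r with h | ⟨r', x, rfl⟩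
    · exact h
    · exfalso
      rw [← List.append_assoc] at hp
      refine last_not_mem (IsLocalRing.isRegular_of_perm hw hp) ?_
      have hx : x ∈ Ideal.ofList v := by
        rw [show Ideal.ofList v = Ideal.ofList w from huv.symm.trans hwI.symm, ofList_perm hp,
          Ideal.ofList_append, Ideal.ofList_singleton]
        exact Ideal.mem_sup_right (Ideal.mem_span_singleton_self x)
      rw [Ideal.ofList_append]
      exact Ideal.mem_sup_left hx
  subst hr
  rw [List.append_nil] at hp
  have hall : Relation.ReflTransGen (Step (Ideal.ofList u)) u v :=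
    hs.tail ⟨Or.inl hp, hv, huv.symm⟩
  obtain ⟨l, hl, hlast⟩ := List.exists_isChain_cons_of_relationReflTransGen hall
  refine ⟨u :: l, rfl, ?_, ?_, List.IsChain.imp (fun _ _ h => And.left h) hl⟩
  · rw [List.getLast?_eq_some_getLast (List.cons_ne_nil u l), hlast]
  · refine hl.induction (fun w => IsRegular A w ∧ Ideal.ofList w = Ideal.ofList u) _
      (fun _ _ h _ => And.right h) (fun _ => ⟨hu, rfl⟩)

end Groth.Agent.S3140
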