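import Groth.Statements.S3193
-- import your own Groth.Agent.* helpers here
import Groth.Agent.Lib.Torus17.AffSpace

set_option autoImplicit false
universe u
open CategoryTheory CategoryTheory.Limits AlgebraicGeometry
attribute [local instance] HasDerivedCategory.standard
open SGA6

namespace Groth.Agent.S3193

/-- For a trivial vector bundle: let S be a Noetherian scheme, r a natural number and f : 𝔸^r_S ⟶ S the
projection of affine r-space. Pullback of modules along the flat morphism f is exact (carried as
instance hypotheses) and preserves coherence (hypothesis hf); the induced homomorphism f^* : K₀(Coh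
S) ⟶ K₀(Coh 𝔸^r_S) is bijective. (The source treats the vector bundle of any finite locally free E.) -/
theorem result (S : Scheme.{u}) [IsNoetherian S] (r : ℕ)
    [(Scheme.Modules.pullback (𝔸(ULift.{u} (Fin r); S) ↘ S)).Additive] [PreservesFiniteLimits (Scheme.Modules.pullback (𝔸(ULift.{u} (Fin r); S) ↘ S))]
    [PreservesFiniteColimits (Scheme.Modules.pullback (𝔸(ULift.{u} (Fin r); S) ↘ S))]
    (hf : ∀ M : S.Modules, Coh.IsCoh M → Coh.IsCoh ((Scheme.Modules.pullback (𝔸(ULift.{u} (Fin r); S) ↘ S)).obj M)) :
    Function.Bijective (SGA6.mapSub (Scheme.Modules.pullback (𝔸(ULift.{u} (Fin r); S) ↘ S)) (fun M : (S).Modules => Coh.IsCoh M) (fun M : (𝔸(ULift.{u} (Fin r); S)).Modules => Coh.IsCoh M) hf) := by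
  haveI : Flat (𝔸(ULift.{u} (Fin r); S) ↘ S) :=
    GrothLib.PicAff26.flat_affineSpace (n := ULift.{u} (Fin r)) (Y := S)
  exact GrothLib.Torus17.pullH_bijective_affineSpace S r

end Groth.Agent.S3193
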