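import Groth.Statements.S3194
-- import your own Groth.Agent.* helpers here
import Groth.Agent.Lib.K0Sub.Basic
import Mathlib.LinearAlgebra.FreeModule.PID
import Mathlib.LinearAlgebra.Dimension.Finrank
import Mathlib.LinearAlgebra.Dimension.Localization
import Mathlib.Algebra.Homology.ShortComplex.ModuleCat
import Mathlib.Algebra.Category.ModuleCat.Abelian

set_option autoImplicit false
universe u
open CategoryTheory
open SGA6

namespace Groth.Agent.S3194

/-- Let A be a principal ideal domain and K_•(Spec A) = K₀ of the category of finitely generated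
A-modules (free abelian group on finitely generated modules modulo short exact sequences). The
homomorphism ℤ ⟶ K_•(Spec A) sending k to k·[A] is bijective. -/
theorem result (A : Type u) [CommRing A] [IsDomain A] [IsPrincipalIdealRing A] :
    Function.Bijective (fun k : ℤ => k • KZero.clSub (fun M : ModuleCat.{u} A => Module.Finite A M) (ModuleCat.of A A)) := by
  set P : ObjectProperty (ModuleCat.{u} A) := fun M => Module.Finite A M
  haveI : Module.Finite A A := inferInstance
  have se : ∀ (M : ModuleCat.{u} A) (N : Submodule A M),
      (ShortComplex.moduleCatMk N.subtype N.mkQ (LinearMap.ext fun x => by simp)).ShortExact :=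
    fun M N =>
      { exact := by
          rw [ShortComplex.moduleCat_exact_iff_range_eq_ker]
          exact (Submodule.range_subtype N).trans (Submodule.ker_mkQ N).symm
        mono_f := (ModuleCat.mono_iff_injective _).mpr N.injective_subtype
        epi_g := (ModuleCat.epi_iff_surjective _).mpr N.mkQ_surjective }
  have hadd : ∀ S : ShortComplex (ModuleCat.{u} A), S.ShortExact → P S.X₁ → P S.X₂ → P S.X₃ →
      ((Module.finrank A S.X₂ : ℕ) : ℤ) = (Module.finrank A S.X₁ : ℕ) + (Module.finrank A S.X₃ : ℕ) := by
    intro S hS h1 h2 h3
    haveI : Module.Finite A S.X₂ := h2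
    have hinj : Function.Injective S.f.hom := (ModuleCat.mono_iff_injective _).mp hS.mono_f
    have hsurj : Function.Surjective S.g.hom := (ModuleCat.epi_iff_surjective _).mp hS.epi_g
    have hex := (ShortComplex.moduleCat_exact_iff_range_eq_ker S).mp hS.exact
    rw [← Nat.cast_add]
    congr 1
    rw [← Submodule.finrank_quotient_add_finrank (LinearMap.range S.f.hom),
      (Submodule.quotEquivOfEq _ _ hex ≪≫ₗ
        LinearMap.quotKerEquivOfSurjective S.g.hom hsurj).finrank_eq,
      ← (LinearEquiv.ofInjective S.f.hom hinj).finrank_eq, add_comm]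
  obtain ⟨ψ, hψ⟩ := GrothLib.K0Sub.exists_lift (P := P)
    (fun M => ((Module.finrank A M : ℕ) : ℤ)) hadd
  let u := KZero.clSub P (ModuleCat.of A A)
  have hu : ψ u = 1 := by
    rw [hψ _ (inferInstanceAs (Module.Finite A A))]
    simp
  have hiso : ∀ {M N : ModuleCat.{u} A} (_ : M ≅ N), P M → P N → KZero.clSub P M = KZero.clSub P N := by
    intro M N e hM hN
    obtain ⟨Z, hZ⟩ := CategoryTheory.Limits.HasZeroObject.zero (C := ModuleCat.{u} A)
    have hS : (ShortComplex.mk (0 : Z ⟶ M) e.hom CategoryTheory.Limits.zero_comp).ShortExact :=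
      { exact := by
          rw [ShortComplex.exact_iff_mono _ rfl]
          dsimp
          infer_instance
        mono_f := ⟨fun _ _ _ => hZ.eq_of_tgt _ _⟩ }
    have hPZ : P Z := by
      haveI := ModuleCat.subsingleton_of_isZero hZ
      exact inferInstanceAs (Module.Finite A Z)
    have := GrothLib.K0Sub.clSub_add hS hPZ hM hN
    rwa [GrothLib.K0Sub.clSub_isZero hZ, zero_add] at this
  have hfree : ∀ n : ℕ, KZero.clSub P (ModuleCat.of A (Fin n → A)) = (n : ℤ) • u := by
    intro n
    induction n with
    | zero =>
      rw [GrothLib.K0Sub.clSub_isZero (ModuleCat.isZero_of_subsingleton _)]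
      simp
    | succ n ih =>
      let e : (Fin (n + 1) → A) →ₗ[A] (Fin n → A) := LinearMap.funLeft A A Fin.succ
      let f : A →ₗ[A] (Fin (n + 1) → A) := LinearMap.single A (fun _ => A) 0
      have hS : (ShortComplex.moduleCatMk f e (LinearMap.ext fun x => funext fun i => by
          simp [e, f])).ShortExact :=
        { exact := by
            rw [ShortComplex.moduleCat_exact_iff]
            intro x hx
            refine ⟨x 0, funext fun i => ?_⟩
            change (LinearMap.single A (fun _ => A) 0) (x 0) i = x i
            induction i using Fin.cases with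
            | zero => simp
            | succ j =>
              have h1 : x j.succ = 0 := congrFun hx j
              simp [h1]
          mono_f := (ModuleCat.mono_iff_injective _).mpr fun a b hab => by
            have h1 : (LinearMap.single A (fun _ : Fin (n + 1) => A) 0) a 0 =
                (LinearMap.single A (fun _ : Fin (n + 1) => A) 0) b 0 := congrFun hab 0
            simp only [LinearMap.coe_single, Pi.single_eq_same] at h1
            exact h1
          epi_g := (ModuleCat.epi_iff_surjective _).mpr fun x => ⟨Fin.cons 0 x, funext fun i =>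
            show (Fin.cons 0 x : Fin (n + 1) → A) i.succ = x i from Fin.cons_succ ..⟩ }
      have h1 := GrothLib.K0Sub.clSub_add (P := P) hS (inferInstanceAs (Module.Finite A A))
        (inferInstanceAs (Module.Finite A (Fin (n + 1) → A)))
        (inferInstanceAs (Module.Finite A (Fin n → A)))
      refine h1.trans ?_
      change u + KZero.clSub P (ModuleCat.of A (Fin n → A)) = _
      rw [ih, Nat.cast_succ, add_smul, one_smul, add_comm]
  have hgen : ∀ M : ModuleCat.{u} A, P M → KZero.clSub P M = (Module.finrank A M : ℤ) • u := by
    intro M hM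
    haveI : Module.Finite A M := hM
    obtain ⟨n, π, hπ⟩ := Module.Finite.exists_fin' A M
    let N := LinearMap.ker π
    have h1 := GrothLib.K0Sub.clSub_add (P := P) (se (ModuleCat.of A (Fin n → A)) N)
      (inferInstanceAs (Module.Finite A N)) (inferInstanceAs (Module.Finite A (Fin n → A)))
      (inferInstanceAs (Module.Finite A ((Fin n → A) ⧸ N)))
    change KZero.clSub P (ModuleCat.of A (Fin n → A)) =
      KZero.clSub P (ModuleCat.of A N) + KZero.clSub P (ModuleCat.of A ((Fin n → A) ⧸ N)) at h1
    obtain ⟨m, b⟩ := Submodule.basisOfPid (Pi.basisFun A (Fin n)) N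
    rw [hfree n, hiso (b.equivFun.toModuleIso : ModuleCat.of A N ≅ ModuleCat.of A (Fin m → A))
        (inferInstanceAs (Module.Finite A N)) (inferInstanceAs (Module.Finite A (Fin m → A))),
      hfree m, hiso ((LinearMap.quotKerEquivOfSurjective π hπ).toModuleIso :
        ModuleCat.of A ((Fin n → A) ⧸ N) ≅ ModuleCat.of A M)
        (inferInstanceAs (Module.Finite A ((Fin n → A) ⧸ N))) hM] at h1
    have h2 : KZero.clSub P M = ((n : ℤ) - m) • u := by
      rw [sub_smul, h1]; abel
    have h3 := congrArg ψ h2
    rw [map_zsmul, hu, hψ M hM, smul_eq_mul, mul_one] at h3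
    rw [h2, h3]
  refine ⟨fun a b hab => ?_, fun x => ⟨ψ x, ?_⟩⟩
  · have := congrArg ψ hab
    simp only at this
    rwa [map_zsmul, map_zsmul, hu, smul_eq_mul, smul_eq_mul, mul_one, mul_one] at this
  · have h : (zmultiplesHom _ u).comp ψ = AddMonoidHom.id (KZero.K0sub P) :=
      GrothLib.K0Sub.hom_ext fun M hM => by
        rw [AddMonoidHom.comp_apply, hψ M hM]
        exact (hgen M hM).symm
    exact DFunLike.congr_fun h x

end Groth.Agent.S3194
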