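import Groth.Statements.S3196
import Groth.Agent.Lib.KSix19.KoszulRes
import Groth.Agent.Lib.FlatFP.TorShift
import Groth.Agent.Lib.HomDimCrit.Basic
import Groth.Agent.Lib.SeqKinds.Basic
import Mathlib.RingTheory.MvPolynomial.Homogeneous

set_option autoImplicit false
universe u
open CategoryTheory CategoryTheory.Limits
open SGA6

namespace Groth.Agent.S3196


open TensorProduct CategoryTheory CategoryTheory.Limits GrothLib.KoszulColon GrothLib.LCI6

variable {A : Type u} [CommRing A]

/-- Higher `Tor` against `N` vanishes, also after tensoring with any flat module. -/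
def TorFree (N X : Type u) [AddCommGroup N] [Module A N] [AddCommGroup X] [Module A X] : Prop :=
  ∀ (P : Type u) [AddCommGroup P] [Module A P] [Module.Flat A P], ∀ i : ℕ,
    IsZero (((Tor (ModuleCat.{u} A) (i + 1)).obj (ModuleCat.of A (P ⊗[A] X))).obj (ModuleCat.of A N))

variable {N : Type u} [AddCommGroup N] [Module A N]

theorem isZero_tor_congr {X Y : Type u} [AddCommGroup X] [Module A X] [AddCommGroup Y] [Module A Y]
    (e : X ≃ₗ[A] Y) (i : ℕ) :
    IsZero (((Tor (ModuleCat.{u} A) i).obj (ModuleCat.of A X)).obj (ModuleCat.of A N)) ↔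
      IsZero (((Tor (ModuleCat.{u} A) i).obj (ModuleCat.of A Y)).obj (ModuleCat.of A N)) :=
  (((Tor (ModuleCat.{u} A) i).mapIso e.toModuleIso).app (ModuleCat.of A N)).isZero_iff

theorem TorFree.of_equiv {X Y : Type u} [AddCommGroup X] [Module A X] [AddCommGroup Y] [Module A Y]
    (h : TorFree (A := A) N X) (e : X ≃ₗ[A] Y) : TorFree (A := A) N Y :=
  fun P _ _ _ i => (isZero_tor_congr (e.lTensor P) _).1 (h P i)

theorem torFree_of_flat (X : Type u) [AddCommGroup X] [Module A X] [Module.Flat A X] : TorFree (A := A) N X :=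
  fun P _ _ _ i => GrothLib.FlatFP.isZero_tor_succ_of_flat (ModuleCat.of A (P ⊗[A] X)) (ModuleCat.of A N) i

theorem TorFree.isZero {X : Type u} [AddCommGroup X] [Module A X] (h : TorFree (A := A) N X) (i : ℕ) :
    IsZero (((Tor (ModuleCat.{u} A) (i + 1)).obj (ModuleCat.of A X)).obj (ModuleCat.of A N)) :=
  (isZero_tor_congr (TensorProduct.lid A X) _).1 (h A i)

/-- Dimension shifting upwards along a sequence which stays exact after tensoring. -/
theorem TorFree.step {K F X : Type u} [AddCommGroup K] [Module A K] [AddCommGroup F] [Module A F]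
    [AddCommGroup X] [Module A X] [Module.Flat A F] (hK : TorFree (A := A) N K) (ι : K →ₗ[A] F) (g : F →ₗ[A] X)
    (hι : Function.Injective ι) (hg : Function.Surjective g) (hex : Function.Exact ι g)
    (hN : Function.Injective (ι.lTensor N)) : TorFree (A := A) N X := by
  intro P _ _ _ i
  have hι' : Function.Injective (ι.lTensor P) := Module.Flat.lTensor_preserves_injective_linearMap ι hι
  have hg' : Function.Surjective (g.lTensor P) := LinearMap.lTensor_surjective P hg
  have hex' : Function.Exact (ι.lTensor P) (g.lTensor P) := lTensor_exact P hex hg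
  match i with
  | 0 =>
    refine (GrothLib.Flatness.isZero_tor_one_iff_good A (P ⊗[A] X) N).2 ?_
    intro U V _ _ _ _ a b ha hb hab
    refine GrothLib.HomDimCrit.lTensor_injective_swap (A := U) (B := V) (C := N) (U := P ⊗[A] K)
      (V := P ⊗[A] F) (W := P ⊗[A] X) (a := a) (b := b) (c := ι.lTensor P) (d := g.lTensor P)
      ha hab hb hex' hg' ?_
    let e := fun (Y : Type u) [AddCommGroup Y] [Module A Y] => TensorProduct.leftComm A N P Y
    have hc : ∀ z, e F ((ι.lTensor P).lTensor N z) = (ι.lTensor N).lTensor P (e K z) := by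
      intro z
      induction z using TensorProduct.induction_on with
      | zero => simp only [map_zero]
      | add x y hx hy => simp only [map_add, hx, hy]
      | tmul n w =>
        induction w using TensorProduct.induction_on with
        | zero => simp only [tmul_zero, map_zero]
        | add x y hx hy => simp only [tmul_add, map_add, hx, hy]
        | tmul p k => rfl
    intro x y hxy
    have h1 := congrArg (e F) hxy
    rw [hc, hc] at h1
    exact (e K).injective (Module.Flat.lTensor_preserves_injective_linearMap (M := P) _ hN h1)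
  | i + 1 =>
    let S : ShortComplex (ModuleCat.{u} A) :=
      ShortComplex.mk (ModuleCat.ofHom (ι.lTensor P)) (ModuleCat.ofHom (g.lTensor P))
        (ModuleCat.hom_ext (LinearMap.ext fun z => hex'.apply_apply_eq_zero z))
    have hS : S.ShortExact :=
      { exact := (ShortComplex.moduleCat_exact_iff _).2 fun v hv => (hex' v).1 hv
        mono_f := (ModuleCat.mono_iff_injective _).2 hι'
        epi_g := (ModuleCat.epi_iff_surjective _).2 hg' }
    haveI : Module.Flat A S.X₂ := (inferInstance : Module.Flat A (P ⊗[A] F))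
    exact (GrothLib.FlatFP.isZero_tor_succ_iff S hS (ModuleCat.of A N) i).2 (hK P i)

/-- The kernel of a surjection between modules without higher `Tor` has none. -/
theorem isZero_tor_of_ses {K F X : Type u} [AddCommGroup K] [Module A K] [AddCommGroup F] [Module A F]
    [AddCommGroup X] [Module A X] (ι : K →ₗ[A] F) (g : F →ₗ[A] X)
    (hι : Function.Injective ι) (hg : Function.Surjective g) (hex : Function.Exact ι g) (i : ℕ)
    (hF : IsZero (((Tor (ModuleCat.{u} A) (i + 1)).obj (ModuleCat.of A F)).obj (ModuleCat.of A N)))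
    (hX : IsZero (((Tor (ModuleCat.{u} A) (i + 2)).obj (ModuleCat.of A X)).obj (ModuleCat.of A N))) :
    IsZero (((Tor (ModuleCat.{u} A) (i + 1)).obj (ModuleCat.of A K)).obj (ModuleCat.of A N)) := by
  let S : ShortComplex (ModuleCat.{u} A) := ShortComplex.mk (ModuleCat.ofHom ι) (ModuleCat.ofHom g)
    (ModuleCat.hom_ext (LinearMap.ext fun z => hex.apply_apply_eq_zero z))
  have hS : S.ShortExact :=
    { exact := (ShortComplex.moduleCat_exact_iff _).2 fun v hv => (hex v).1 hv
      mono_f := (ModuleCat.mono_iff_injective _).2 hι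
      epi_g := (ModuleCat.epi_iff_surjective _).2 hg }
  rw [GrothLib.FlatFP.isZero_tor_iff] at hF hX ⊢
  exact ((GrothLib.FlatFP.torSeq_shortExact S hS (ModuleCat.of A N)).homology_exact₁ (i + 2) (i + 1)
    (by simp)).isZero_of_both_zeros (hX.eq_zero_of_src _) (hF.eq_zero_of_tgt _)

variable (A' : Type u) [CommRing A'] [Algebra A A']

theorem torFree_quotient (l : List A) (hl : LCI.IsKoszulRegularSeq A l)
    (hl' : LCI.IsKoszulRegularSeq A' (l.map (algebraMap A A'))) :
    TorFree (A := A) A' (A ⧸ Ideal.ofList l) := by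
  let γ : Module.Dual A A := LinearMap.id
  have hmap : l.map γ = l := by simp [γ]
  have hkc : kc γ l = Koszul.koszul A l := congrArg _ hmap
  let E : DRing.Cx A := kc γ l
  have hflat : ∀ i, Module.Flat A (E.X i) := fun i => by haveI := free_kc γ l i; infer_instance
  have hexA : ∀ i : ℤ, i ≠ 0 → Function.Exact (E.d (i - 1) i).hom (E.d i (i + 1)).hom := by
    intro i hi
    have h : E.ExactAt i := by
      show (kc γ l).ExactAt i
      rw [hkc, HomologicalComplex.exactAt_iff_isZero_homology]
      exact hl i hi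
    rw [HomologicalComplex.exactAt_iff' _ (i - 1) i (i + 1) (by simp) (by simp),
      ShortComplex.ShortExact.moduleCat_exact_iff_function_exact] at h
    exact h
  have hexN : ∀ i : ℤ, i ≠ 0 → Function.Exact ((E.d (i - 1) i).hom.lTensor A') ((E.d i (i + 1)).hom.lTensor A') := by
    intro i hi
    show Function.Exact (((kc γ l).d (i - 1) i).hom.lTensor A') (((kc γ l).d i (i + 1)).hom.lTensor A')
    rw [hkc]
    exact exact_lTensor_of_koszul A' (algebraMap A A') (fun _ => rfl) l i
      (((Koszul.koszul A' _).exactAt_iff_isZero_homology i).2 (hl' i hi))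
  let Z : ℤ → Type u := fun i => LinearMap.range (E.d (i - 1) i).hom
  -- the inclusion of the cycles stays injective
  have hinj : ∀ i : ℤ, i ≤ 0 →
      Function.Injective ((LinearMap.range (E.d (i - 1) i).hom).subtype.lTensor A') := by
    intro i hi
    refine (injective_iff_map_eq_zero _).2 fun z hz => ?_
    obtain ⟨w, rfl⟩ := LinearMap.lTensor_surjective A'
      (LinearMap.surjective_rangeRestrict (E.d (i - 1) i).hom) z
    rw [← LinearMap.lTensor_comp_apply, LinearMap.subtype_comp_codRestrict] at hz
    have h1 := hexN (i - 1) (by omega)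
    rw [sub_add_cancel] at h1
    obtain ⟨v, rfl⟩ := (h1 w).1 hz
    rw [← LinearMap.lTensor_comp_apply]
    have h2 : (E.d (i - 1) i).hom.rangeRestrict ∘ₗ (E.d (i - 1 - 1) (i - 1)).hom = 0 :=
      LinearMap.ext fun x => Subtype.ext (congrArg (fun f => f.hom x) (E.d_comp_d (i - 1 - 1) (i - 1) i))
    rw [h2, LinearMap.lTensor_zero, LinearMap.zero_apply]
  have hcyc : ∀ k : ℕ, ∀ i : ℤ, i = -(l.length : ℤ) + k → i ≤ 0 →
      TorFree (A := A) A' (LinearMap.range (E.d (i - 1) i).hom) := by
    intro k
    induction k with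
    | zero =>
      intro i hi _
      haveI : Subsingleton (E.X (i - 1)) :=
        ModuleCat.subsingleton_of_isZero (isZero_out γ l (i - 1) (by omega))
      haveI : Subsingleton (LinearMap.range (E.d (i - 1) i).hom) :=
        ⟨fun a b => by
          obtain ⟨_, x, rfl⟩ := a
          obtain ⟨_, y, rfl⟩ := b
          exact Subtype.ext (congrArg (E.d (i - 1) i).hom (Subsingleton.elim x y))⟩
      exact torFree_of_flat _
    | succ k ih =>
      intro i hi hi0
      obtain ⟨j, rfl⟩ : ∃ j : ℤ, i = j + 1 := ⟨i - 1, by ring⟩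
      rw [add_sub_cancel_right]
      haveI := hflat j
      refine (ih j (by push_cast at hi; omega) (by omega)).step
        (LinearMap.range (E.d (j - 1) j).hom).subtype (E.d j (j + 1)).hom.rangeRestrict
        Subtype.val_injective (LinearMap.surjective_rangeRestrict _) ?_ (hinj j (by omega))
      rw [LinearMap.exact_iff, LinearMap.ker_rangeRestrict, Submodule.range_subtype]
      exact (hexA j (by omega)).linearMap_ker_eq
  -- degree zero
  haveI := hflat 0
  let q : A →ₗ[A] E.X 0 := LinearMap.toSpanSingleton A _ (unit γ l)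
  let g : A →ₗ[A] (E.X 0 ⧸ LinearMap.range (E.d (0 - 1) 0).hom) := Submodule.mkQ _ ∘ₗ q
  have hg : Function.Surjective g := fun y => by
    obtain ⟨x, rfl⟩ := Submodule.mkQ_surjective _ y
    obtain ⟨r, rfl⟩ := exists_smul_unit γ l x
    exact ⟨r, rfl⟩
  obtain ⟨κ, hd, -, hκ, -⟩ := GrothLib.SeqKinds.exists_degree_neg_one γ l
  have hker : LinearMap.ker g = Ideal.ofList l := by
    ext r
    rw [LinearMap.mem_ker, LinearMap.comp_apply, Submodule.mkQ_apply, Submodule.Quotient.mk_eq_zero]
    constructor
    · rintro ⟨y, hy⟩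
      obtain ⟨a, rfl⟩ := hκ y
      have h1 : r = ∑ i, a i * γ (l.get i) :=
        GrothLib.SeqKinds.smul_unit_injective γ l (hy.symm.trans (hd a))
      rw [h1]
      exact sum_mem fun i _ => Ideal.mul_mem_left _ _ (Ideal.subset_span (List.get_mem l i))
    · intro hr
      suffices h : Ideal.ofList l ≤ (LinearMap.range (E.d (0 - 1) 0).hom).comap q from h hr
      refine Ideal.span_le.2 fun f hf => ?_
      obtain ⟨i, rfl⟩ := List.get_of_mem hf
      classical
      refine ⟨κ (Pi.single i 1), ?_⟩
      have h1 := hd (Pi.single i 1)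
      rw [Finset.sum_eq_single i (fun j _ hj => by simp [Pi.single_eq_of_ne hj]) (by simp)] at h1
      simp only [Pi.single_eq_same, one_mul] at h1
      exact h1
  refine (TorFree.step (hcyc l.length 0 (by simp) le_rfl) (LinearMap.range (E.d (0 - 1) 0).hom).subtype
    (Submodule.mkQ _) Subtype.val_injective (Submodule.mkQ_surjective _) ?_ (hinj 0 le_rfl)).of_equiv
    (((Submodule.quotEquivOfEq _ _ hker.symm).trans (g.quotKerEquivOfSurjective hg)).symm)
  exact LinearMap.exact_subtype_mkQ _

/-- The graded pieces of a quasi-regular ideal are free over the quotient. -/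
theorem exists_gr_equiv {c : ℕ} (f : Fin c → A) (hf : CAlgX.IsQuasiRegular f) (n : ℕ) :
    ∃ (P : Type u) (_ : AddCommGroup P) (_ : Module A P) (_ : Module.Flat A P),
      Nonempty ((P ⊗[A] (A ⧸ Ideal.span (Set.range f))) ≃ₗ[A]
        (↥(Ideal.span (Set.range f) ^ n) ⧸
          Submodule.comap (Ideal.span (Set.range f) ^ n).subtype (Ideal.span (Set.range f) ^ (n + 1)))) := by
  classical
  let H := MvPolynomial.homogeneousSubmodule (Fin c) A n
  have hmem : ∀ (Q : MvPolynomial (Fin c) A), Q.IsHomogeneous n → Q ∈ H := fun Q hQ => hQ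
  have hev : ∀ p : H, MvPolynomial.eval f p.1 ∈ Ideal.span (Set.range f) ^ n := by
    intro p
    rw [MvPolynomial.eval_eq']
    refine sum_mem fun d hd => Ideal.mul_mem_left _ _ ?_
    have h1 : (∑ i, d i) = n := by
      rw [← Finsupp.degree_eq_sum, Finsupp.degree_eq_weight_one]
      exact p.2 (MvPolynomial.mem_support_iff.1 hd)
    have h2 := Ideal.prod_mem_prod (s := Finset.univ) (I := fun i => Ideal.span (Set.range f) ^ (d i))
      (x := fun i => f i ^ (d i)) fun i _ => Ideal.pow_mem_pow (Ideal.subset_span (Set.mem_range_self i)) (d i)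
    rwa [Finset.prod_pow_eq_pow_sum, h1] at h2
  let e : H →ₗ[A] ↥(Ideal.span (Set.range f) ^ n) :=
    ((MvPolynomial.aeval f).toLinearMap ∘ₗ H.subtype).codRestrict _ fun p => by
      show MvPolynomial.aeval f p.1 ∈ _
      rw [MvPolynomial.aeval_eq_eval]
      exact hev p
  have he : ∀ p : H, (e p : A) = MvPolynomial.eval f p.1 := fun p =>
    DFunLike.congr_fun (MvPolynomial.coe_aeval_eq_eval f) p.1
  let h := (Submodule.comap (Ideal.span (Set.range f) ^ n).subtype (Ideal.span (Set.range f) ^ (n + 1))).mkQ ∘ₗ e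
  have hsurj : Function.Surjective h := by
    intro y
    obtain ⟨x, rfl⟩ := Submodule.mkQ_surjective _ y
    obtain ⟨Q, hQ, -, hQe⟩ := GrothLib.SeqKinds.exists_homogeneous_eval f ⊤ n
      (x := (x : A)) (by rw [Ideal.top_mul]; exact x.2)
    exact ⟨⟨Q, hmem Q hQ⟩, congrArg _ (Subtype.ext ((he _).trans hQe))⟩
  have hker : LinearMap.ker h = Ideal.span (Set.range f) • (⊤ : Submodule A H) := by
    refine le_antisymm (fun p hp => ?_) (Submodule.smul_le.2 fun r hr p _ => ?_)
    · rw [LinearMap.mem_ker, LinearMap.comp_apply, Submodule.mkQ_apply, Submodule.Quotient.mk_eq_zero,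
        Submodule.mem_comap, Submodule.subtype_apply, he] at hp
      have hco := hf n p.1 p.2 hp
      have hsum : p = ∑ d ∈ p.1.support.attach, p.1.coeff d.1 •
          (⟨MvPolynomial.monomial d.1 1, hmem _ (MvPolynomial.isHomogeneous_monomial _ (by
            rw [Finsupp.degree_eq_weight_one]
            exact p.2 (MvPolynomial.mem_support_iff.1 d.2)))⟩ : H) := by
        apply Subtype.ext
        rw [Submodule.coe_sum]
        conv_lhs => rw [p.1.as_sum, ← Finset.sum_attach]
        exact Finset.sum_congr rfl fun d _ => by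
          rw [Submodule.coe_smul, MvPolynomial.smul_monomial, smul_eq_mul, mul_one]
      rw [hsum]
      exact sum_mem fun d _ => Submodule.smul_mem_smul (hco d.1) trivial
    · rw [LinearMap.mem_ker, LinearMap.comp_apply, Submodule.mkQ_apply, Submodule.Quotient.mk_eq_zero,
        Submodule.mem_comap, Submodule.subtype_apply, map_smul, Submodule.coe_smul, he, pow_succ', smul_eq_mul]
      exact Ideal.mul_mem_mul hr (hev p)
  haveI : Module.Projective A H := Module.Projective.of_split H.subtype
    ((MvPolynomial.homogeneousComponent n).codRestrict H fun Q => MvPolynomial.homogeneousComponent_isHomogeneous n Q)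
    (LinearMap.ext fun p => Subtype.ext (MvPolynomial.homogeneousComponent_eq_self p.2))
  exact ⟨H, inferInstance, inferInstance, inferInstance,
    ⟨((TensorProduct.tensorQuotEquivQuotSMul H (Ideal.span (Set.range f))).trans
      (Submodule.quotEquivOfEq _ _ hker.symm)).trans (h.quotKerEquivOfSurjective hsurj)⟩⟩


/-- Let A be a commutative ring, fs a Koszul-regular sequence in A generating the ideal J, and A' a
commutative A-algebra in which the image of fs is again Koszul-regular. Then for every n ≥ 0 and i ≥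
1, Tor_i^A(Jⁿ, A') = 0 and Tor_i^A(Jⁿ/Jⁿ⁺¹, A') = 0 (Mathlib's Tor on A-modules). (The source also
derives Jⁿ ⊗_A A' ≅ J'ⁿ and Jⁿ/Jⁿ⁺¹ ⊗_A A' ≅ J'ⁿ/J'ⁿ⁺¹ for J' = JA', and works with a regular
homomorphism from any finite projective module.) -/
theorem result (A : Type u) [CommRing A] (A' : Type u) [CommRing A'] [Algebra A A']
    (fs : List A) (hfs : LCI.IsKoszulRegularSeq A fs) (hfs' : LCI.IsKoszulRegularSeq A' (fs.map (algebraMap A A')))
    (n : ℕ) (i : ℕ) (hi : 1 ≤ i) :
    IsZero (((Tor (ModuleCat.{u} A) i).obj (ModuleCat.of A ↥(Ideal.span {x | x ∈ fs} ^ n))).obj (ModuleCat.of A A')) ∧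
    IsZero (((Tor (ModuleCat.{u} A) i).obj (ModuleCat.of A
      (↥(Ideal.span {x | x ∈ fs} ^ n) ⧸ Submodule.comap (Ideal.span {x | x ∈ fs} ^ n).subtype (Ideal.span {x | x ∈ fs} ^ (n + 1))))).obj (ModuleCat.of A A')) := by
  obtain ⟨j, rfl⟩ : ∃ j, i = j + 1 := ⟨i - 1, by omega⟩
  have hJ : Ideal.span {x | x ∈ fs} = Ideal.span (Set.range fs.get) := by
    rw [Set.range_list_get]
  rw [hJ]
  have hT : TorFree (A := A) A' (A ⧸ Ideal.span (Set.range fs.get)) :=
    (torFree_quotient A' fs hfs hfs').of_equiv (Submodule.quotEquivOfEq _ _ hJ)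
  have hq := GrothLib.SeqKinds.isQuasiRegular_of_isH1Regular _ (GrothLib.SeqKinds.isH1Regular_of_isKoszulRegularSeq fs hfs)
  have hgr : ∀ (m k : ℕ), IsZero (((Tor (ModuleCat.{u} A) (k + 1)).obj (ModuleCat.of A
      (↥(Ideal.span (Set.range fs.get) ^ m) ⧸ Submodule.comap (Ideal.span (Set.range fs.get) ^ m).subtype
        (Ideal.span (Set.range fs.get) ^ (m + 1))))).obj (ModuleCat.of A A')) := by
    intro m k
    obtain ⟨P, _, _, _, ⟨e⟩⟩ := exists_gr_equiv fs.get hq m
    exact (isZero_tor_congr e _).1 (hT P k)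
  refine ⟨?_, hgr n j⟩
  clear hi
  induction n generalizing j with
  | zero =>
    refine (isZero_tor_congr (X := A) ((Submodule.topEquiv (R := A) (M := A)).symm.trans
      (LinearEquiv.ofEq _ _ ?_)) _).1 ((torFree_of_flat A).isZero j)
    rw [pow_zero, Ideal.one_eq_top]
  | succ n ih =>
    refine isZero_tor_of_ses (Submodule.inclusion (Ideal.pow_le_pow_right (Nat.le_succ n)))
      (Submodule.mkQ (Submodule.comap (Ideal.span (Set.range fs.get) ^ n).subtype
        (Ideal.span (Set.range fs.get) ^ (n + 1))))
      (Submodule.inclusion_injective _) (Submodule.mkQ_surjective _) ?_ j (ih j) (hgr n (j + 1))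
    rw [LinearMap.exact_iff, Submodule.ker_mkQ, Submodule.range_inclusion]

end Groth.Agent.S3196
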