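import Groth.Statements.S3198
-- import your own Groth.Agent.* helpers here
import Groth.Agent.Lib.Torus17.Gen

set_option autoImplicit false
universe u
open CategoryTheory CategoryTheory.Limits AlgebraicGeometry
attribute [local instance] HasDerivedCategory.standard
open SGA6

namespace Groth.Agent.S3198

/-- Let f : X ⟶ S be a flat morphism of Noetherian schemes such that for every point s of S the map ℤ ⟶
K₀(Coh X_s), k ↦ k·[O_{X_s}], is bijective. Pullback along f is exact (instance hypotheses) and
preserves coherence (hypothesis hf); the induced homomorphism f^* : K₀(Coh S) ⟶ K₀(Coh X) is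
surjective. (The source adds that f^* is bijective when f has a section of finite tor-dimension.) -/
theorem result {X S : Scheme.{u}} [IsNoetherian X] [IsNoetherian S] (f : X ⟶ S) [Flat f]
    [(Scheme.Modules.pullback f).Additive] [PreservesFiniteLimits (Scheme.Modules.pullback f)] [PreservesFiniteColimits (Scheme.Modules.pullback f)]
    (hf : ∀ M : S.Modules, Coh.IsCoh M → Coh.IsCoh ((Scheme.Modules.pullback f).obj M))
    (hfib : ∀ s : S, Function.Bijective (fun k : ℤ => k • KZero.clSub (fun M : (f.fiber s).Modules => Coh.IsCoh M) (Coh.structureModule (f.fiber s)))) :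
    Function.Surjective (SGA6.mapSub (Scheme.Modules.pullback f) (fun M : (S).Modules => Coh.IsCoh M) (fun M : (X).Modules => Coh.IsCoh M) hf) := by
  classical
  let E : Fin 1 → X.Modules := fun _ => Coh.structureModule X
  have hE : ∀ i, FlatMod.IsFinLocFree (E i) := fun _ =>
    GrothLib.Euler.isFinLocFree_of_isInvertible GrothLib.Euler.isInvertible_structure
  have hgen : GrothLib.Torus17.FibGen f E := fun s => by
    haveI : IsLocallyNoetherian (f.fiber s) := GrothLib.AssTensorS10.isLocallyNoetherian_fiber f s
    obtain ⟨e⟩ := GrothLib.Ample.nonempty_pullback_structureModule (X := X) (f.fiberι s)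
    rw [eq_top_iff]
    intro z _
    obtain ⟨k, hk⟩ := (hfib s).2 z
    rw [← hk]
    refine zsmul_mem (AddSubgroup.subset_closure (Set.mem_range.2 ⟨(0 : Fin 1), ?_⟩)) k
    exact GrothLib.K0Sub.clSub_coh_iso e
  have hle : GrothLib.Torus17.genSub f E ≤
      (SGA6.mapSub (Scheme.Modules.pullback f) (fun M : S.Modules => Coh.IsCoh M) (fun M : X.Modules => Coh.IsCoh M) hf).range := by
    rw [GrothLib.Torus17.genSub, AddSubgroup.closure_le]
    rintro _ ⟨i, N, hN, rfl⟩
    refine ⟨KZero.clSub (fun M : S.Modules => Coh.IsCoh M) N, ?_⟩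
    rw [GrothLib.K0Sub.mapSub_clSub _ _ _ hN]
    exact GrothLib.K0Sub.clSub_coh_iso (GrothLib.OX.tensorUnitLeftIso _).symm
  intro y
  have h0 : QuotientAddGroup.mk' (SGA6.mapSub (Scheme.Modules.pullback f) (fun M : S.Modules => Coh.IsCoh M) (fun M : X.Modules => Coh.IsCoh M) hf).range = 0 :=
    GrothLib.K0Sub.hom_ext fun M hM => (QuotientAddGroup.eq_zero_iff _).2
      (hle (GrothLib.Torus17.mem_genSub f E hE hgen ⊤ M hM (by simp)))
  exact (QuotientAddGroup.eq_zero_iff y).1 (DFunLike.congr_fun h0 y)

end Groth.Agent.S3198
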