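import Groth.Statements.S3199
-- import your own Groth.Agent.* helpers here
import Groth.Agent.Lib.BlowK17.Good
import Groth.Agent.Lib.BlowK17.Center
import Groth.Agent.Lib.BlowK17.Perf
import Groth.Agent.Lib.ResProp22.Ample
import Groth.Agent.Lib.ResProp22.Relative
import Groth.Agent.Lib.Nagata6.UnionData
import Groth.Agent.Lib.ProjQ9.Basic
import Groth.Agent.S8910

set_option autoImplicit false
universe u
open CategoryTheory CategoryTheory.Limits AlgebraicGeometry
attribute [local instance] HasDerivedCategory.standard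
open SGA6

namespace Groth.Agent.S3199

/-- Let X be a Noetherian scheme with an ample invertible module, i : Y ⟶ X a regular closed immersion
with Y regular, f : X' ⟶ X the blow-up of X along Y and j : Y' ⟶ X' the closed immersion of Y' = X'
×_X Y. On K^• = K₀ of perfect complexes, let j_* be induced by the exact direct image along j
(exactness as instance hypotheses; it carries perfect complexes to perfect complexes — hypothesis
hj) and f^* by the derived pullback Lf^* (assumed to exist, with its triangulated structure as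
instance hypotheses; it preserves perfect complexes — hypothesis hf). Then the map (y', x) ↦ j_*(y')
+ f^*(x) from K^•(Y') × K^•(X) to K^•(X') is surjective. (The full published statement is an exact
sequence 0 → K^•(Y) → K^•(Y') × K^•(X) → K^•(X') → 0 whose first map involves λ-operations; only
surjectivity of the last map is asserted here.) -/
theorem result {X Y X' Y' : Scheme.{u}} [IsNoetherian X]
    (L : X.Modules) (hL : CohB1.IsAmple L)
    (i : Y ⟶ X) (hi : Mor2.IsRegularClosedImmersion i) (hYreg : ∀ y : Y, IsRegularLocalRing (Y.presheaf.stalk y))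
    (f : X' ⟶ X) (hf₀ : BlowUp.IsBlowUp f i.ker) (j : Y' ⟶ X') (g : Y' ⟶ Y) [IsClosedImmersion j] (hsq : IsPullback j g f i)
    [(Scheme.Modules.pushforward j).Additive] [PreservesFiniteLimits (Scheme.Modules.pushforward j)] [PreservesFiniteColimits (Scheme.Modules.pushforward j)]
    (hj : ∀ K : DCoh.D Y', DCoh.IsPerfect K → DCoh.IsPerfect ((Scheme.Modules.pushforward j).mapDerivedCategory.obj K))
    [DCoh.HasLpull f] [(DCoh.Lpull f).CommShift ℤ] [(DCoh.Lpull f).IsTriangulated]
    (hf : ∀ K : DCoh.D X, DCoh.IsPerfect K → DCoh.IsPerfect ((DCoh.Lpull f).obj K)) :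
    Function.Surjective (fun p : SGA6.Kperf Y' × SGA6.Kperf X =>
      SGA6.mapTr ((Scheme.Modules.pushforward j).mapDerivedCategory) (SGA6.perfP Y') (SGA6.perfP X') hj p.1 +
      SGA6.mapTr (DCoh.Lpull f) (SGA6.perfP X) (SGA6.perfP X') hf p.2) := by
  haveI := hi.1
  haveI : IsProper f := GrothLib.BlowUpProper.isProper_of_isBlowUp hf₀
  haveI : IsNoetherian X' :=
    { toIsLocallyNoetherian := LocallyOfFiniteType.isLocallyNoetherian f
      toCompactSpace := QuasiCompact.compactSpace_of_compactSpace f }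
  haveI : IsNoetherian Y' := GrothLib.PushKR17.isNoetherian_of_closedImmersion j
  haveI : IsNoetherian Y := GrothLib.PushKR17.isNoetherian_of_closedImmersion i
  have hrX := GrothLib.ResProp22.hasResolutionProperty_of_isAmple hL
  obtain ⟨-, -, N, hN⟩ := GrothLib.ProjQ9.isQuasiProjective_of_isProjective
    (Groth.Agent.S8910.result i.ker (GrothLib.Nagata6.isFiniteTypeIdeal_of_noetherian _) f hf₀)
  have hrX' := GrothLib.ResProp22.hasResolutionProperty_of_isRelAmple hrX f hN
  have hEX : KRR.HasEnoughLocFree X := fun F hF => hrX F hF.1 hF.2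
  have hEX' : KRR.HasEnoughLocFree X' := fun F hF => hrX' F hF.1 hF.2
  have hY'reg := GrothLib.BlowK17.isRegular_exceptional hi hf₀ hsq hYreg
  obtain ⟨U, hU⟩ : ∃ U : X.Opens, U = i.ker.support.compl := ⟨_, rfl⟩
  haveI : IsIso (f ∣_ U) := hU ▸ GrothLib.BlowUp.isIso_off_center hf₀
  have hUr : (U : Set X) = (Set.range i)ᶜ := by
    rw [hU, TopologicalSpace.Closeds.coe_compl, Scheme.Hom.support_ker]
    exact congrArg compl i.isClosedEmbedding.isClosed_range.closure_eq
  have hr : Set.range j = f ⁻¹' Set.range i := by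
    rw [← hsq.isoPullback_hom_fst, Scheme.Hom.comp_base, TopCat.coe_comp,
      Set.range_comp, Set.range_eq_univ.2 (hsq.isoPullback.hom.surjective), Set.image_univ, Scheme.Pullback.range_fst]
  haveI : IsOpenImmersion ((f ⁻¹ᵁ U).ι ≫ f) := by rw [← morphismRestrict_ι f U]; infer_instance
  have hr₁ : Set.range (f ⁻¹ᵁ U).ι = (Set.range j)ᶜ := by
    rw [Scheme.Opens.range_ι, hr, ← Set.preimage_compl, ← hUr]; rfl
  have hr₀ : Set.range ((f ⁻¹ᵁ U).ι ≫ f) = (Set.range i)ᶜ := by
    rw [← morphismRestrict_ι f U, Scheme.Hom.comp_base, TopCat.coe_comp, Set.range_comp,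
      Set.range_eq_univ.2 (f ∣_ U).surjective, Set.image_univ, Scheme.Opens.range_ι, hUr]
  have hreg' : GrothLib.BlowK17.RegOff (f ⁻¹ᵁ U).ι := fun x hx => by
    rw [hr₁, Set.mem_compl_iff, not_not] at hx
    obtain ⟨d, rfl⟩ := hx
    exact GrothLib.BlowK17.isRegular_at_exceptional hi hf₀ hsq hYreg d
  have hreg : GrothLib.BlowK17.RegOff ((f ⁻¹ᵁ U).ι ≫ f) := fun x hx => by
    rw [hr₀, Set.mem_compl_iff, not_not] at hx
    obtain ⟨d, rfl⟩ := hx
    exact GrothLib.BlowK17.isRegular_at_center hi hYreg d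
  obtain ⟨θ, hθ⟩ := GrothLib.K0Sub.exists_pull f
  obtain ⟨T, hT, hTs⟩ := GrothLib.BlowK17.exists_pushT (i := j) hEX' hreg' hr₁
  have htop := GrothLib.BlowK17.range_sup_eq_top (i := j) f ((f ⁻¹ᵁ U).ι ≫ f) rfl hEX' hreg' hr₁ hEX hreg hθ hTs
  obtain ⟨Φ, -, hΦ, -⟩ := GrothLib.BlowK17.exists_Phi hrX
  obtain ⟨Φ', hs', hΦ', hR'⟩ := GrothLib.BlowK17.exists_Phi hrX'
  let A := SGA6.mapTr ((Scheme.Modules.pushforward j).mapDerivedCategory) (SGA6.perfP Y') (SGA6.perfP X') hj
  let B := SGA6.mapTr (DCoh.Lpull f) (SGA6.perfP X) (SGA6.perfP X') hf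
  have h1 : ∀ c, Φ' (θ c) = B (Φ c) := fun c => by
    refine DFunLike.congr_fun (GrothLib.K0Sub.hom_ext (P := KRR.vbP X) (f := Φ'.comp θ) (g := B.comp Φ)
      fun E hE => ?_) c
    show Φ' (θ (KRR.cl X E)) = B (Φ (KRR.cl X E))
    rw [hθ E hE, hΦ' _ (GrothLib.OX.isFinLocFree_pullback f hE), hΦ E hE,
      GrothLib.BlowK17.mapTr_clTr (DCoh.Lpull f) hf (GrothLib.BlowK17.isPerfect_inD_vb hE)]
    exact GrothLib.BlowK17.clTr_congr (GrothLib.BlowK17.nonempty_lpull_inD f hE).some.symm
  have h2 : ∀ a, Φ' (T a) ∈ A.range := fun a => by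
    have h0 : (QuotientAddGroup.mk' A.range).comp (Φ'.comp T) = 0 :=
      GrothLib.K0Sub.hom_ext (P := GrothLib.K0Sub.cohP Y') fun N hN => by
        have hP := GrothLib.BlowK17.isPerfect_inD_of_regular hY'reg hN
        refine (QuotientAddGroup.eq_zero_iff _).2 ⟨KZero.clTr (SGA6.perfP Y') (DCoh.inD Y' N), ?_⟩
        show A _ = Φ' (T (KZero.clSub (GrothLib.K0Sub.cohP Y') N))
        obtain ⟨k, hk⟩ := GrothLib.BlowK17.hasR_cls hEX' hreg' (GrothLib.BlowK17.good_of_isZero_res
          (GrothLib.K0Sub.isCoh_push j hN) (GrothLib.K0Sub.isZero_res_push (f ⁻¹ᵁ U).ι j hr₁ N))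
        rw [hT N hN, (hR' k _ _ hk).2]
        refine (GrothLib.BlowK17.mapTr_clTr _ hj hP).trans (GrothLib.BlowK17.clTr_congr ?_)
        exact ((Scheme.Modules.pushforward j).mapDerivedCategorySingleFunctor 0).app N
    exact (QuotientAddGroup.eq_zero_iff _).1 (DFunLike.congr_fun h0 a)
  intro z
  obtain ⟨x, rfl⟩ := hs' z
  obtain ⟨_, ⟨c, rfl⟩, _, ⟨a, rfl⟩, rfl⟩ := AddSubgroup.mem_sup.1 (htop.symm ▸ AddSubgroup.mem_top x : x ∈ θ.range ⊔ T.range)
  obtain ⟨p, hp⟩ := h2 a
  refine ⟨(p, Φ c), ?_⟩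
  show A p + B (Φ c) = Φ' (θ c + T a)
  rw [map_add, h1, hp, add_comm]

end Groth.Agent.S3199
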