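import Groth.Statements.S3202
import Groth.Agent.Lib.PerfHom.Scheme
import Groth.Agent.Lib.LCI6.Perfect
import Groth.Agent.Lib.LCI6.InLocus
import Groth.Agent.Lib.LCI6.Koszul
import Groth.Agent.Lib.BlowUp.Functorial
import Groth.Agent.Lib.Nagata6.Charts
import Groth.Agent.Lib.PerfBlow28.Chart

set_option autoImplicit false
set_option backward.isDefEq.respectTransparency false
universe u
open CategoryTheory CategoryTheory.Limits AlgebraicGeometry
open SGA6

attribute [local instance] HasDerivedCategory.standard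

namespace Groth.Agent.S3202

/-- Let i : Y ⟶ X be a regular closed immersion (locally cut out by a regular sequence) and f : X' ⟶ X
the blow-up of X along Y. Then f is a perfect morphism: affine-locally the ring maps O_X(V) →
O_{X'}(U) are pseudo-coherent and of finite tor-dimension. (The source's regular immersions are the
Koszul-regular ones, a weaker hypothesis in the non-Noetherian case; it also records that i itself
is perfect.) -/
theorem result {Y X X' : Scheme.{u}} (i : Y ⟶ X) (hi : Mor2.IsRegularClosedImmersion i)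
    (f : X' ⟶ X) (hf : BlowUp.IsBlowUp f i.ker) : MoreMor.IsPerfectMor f := by
  haveI := hi.1
  have hloc : ∀ x, GrothLib.LCI6.InLocus f x := by
    intro x
    -- a neighbourhood of the image where the centre is cut out by a Koszul regular sequence
    obtain ⟨U, hU, hyU, l, hl, hI⟩ : ∃ (U : X.Opens) (hU : IsAffineOpen U), f x ∈ U ∧
        ∃ l : List Γ(X, U), LCI.IsKoszulRegularSeq Γ(X, U) l ∧ i.ker.ideal ⟨U, hU⟩ = Ideal.ofList l := by
      by_cases h : f x ∈ Set.range i
      · obtain ⟨z, hz⟩ := h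
        obtain ⟨U, hU, hzU, rs, hrs, hker⟩ := hi.2 z
        refine ⟨U, hU, hz ▸ hzU, rs.reverse, GrothLib.KoszulColon.isKoszulRegularSeq_of_isWeaklyRegular _
          (by rw [List.reverse_reverse]; exact hrs.toIsWeaklyRegular), ?_⟩
        rw [hker]
        simp [Ideal.ofList]
      · let W : X.Opens := ⟨(Set.range i)ᶜ, i.isClosedEmbedding.isClosed_range.isOpen_compl⟩
        obtain ⟨U, hU, hyU, hUW⟩ := exists_isAffineOpen_mem_and_subset (U := W) h
        refine ⟨U, hU, hyU, [1], GrothLib.KoszulColon.isKoszulRegularSeq_of_isWeaklyRegular _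
          ((RingTheory.Sequence.isWeaklyRegular_singleton_iff _ _).2 (IsSMulRegular.one _)), ?_⟩
        rw [Scheme.Hom.ker_apply]
        have he : i ⁻¹ᵁ U = ⊥ := by
          ext z
          exact ⟨fun hz => absurd ⟨z, rfl⟩ (hUW hz), fun hz => hz.elim⟩
        haveI : Subsingleton Γ(Y, i ⁻¹ᵁ U) := by
          rw [he]
          exact CommRingCat.subsingleton_of_isTerminal Y.sheaf.isTerminalOfEmpty
        rw [Ideal.ofList_singleton, Ideal.span_singleton_one, eq_top_iff]
        exact fun t _ => RingHom.mem_ker.2 (Subsingleton.elim _ _)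
    let A : Type u := Γ(X, U)
    let a : Fin l.length → A := l.get
    have hctr : i.ker.ideal ⟨U, hU⟩ = GrothLib.BlowUp17.ctr a := by
      rw [hI, GrothLib.BlowUp17.ctr, Ideal.ofList]
      congr 1
      rw [Set.range_list_get]
    let iX : Spec (CommRingCat.of A) ⟶ X := hU.fromSpec
    have hI' : i.ker.comap iX = GrothLib.BlowUp.idealSheaf (GrothLib.BlowUp17.ctr a) := by
      rw [GrothLib.Nagata6.comap_fromSpec i.ker ⟨U, hU⟩]
      exact congrArg GrothLib.BlowUp.idealSheaf hctr
    have hp := GrothLib.BlowUp.isBlowUp_flat_baseChange iX hf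
    rw [hI'] at hp
    let C := GrothLib.BlowUp.chartsOfIsBlowUp hp
    obtain ⟨q₀, hq₀⟩ : f x ∈ Set.range iX := by
      rw [show Set.range iX = (U : Set X) from IsAffineOpen.range_fromSpec _]
      exact hyU
    obtain ⟨q, -, hq⟩ := Scheme.Pullback.exists_preimage_pullback (f := iX) (g := f) q₀ x hq₀
    obtain ⟨k, q', hq'⟩ : ∃ (k : Fin l.length), q ∈ Set.range (C.j ⟨a k, Ideal.subset_span ⟨k, rfl⟩⟩) := by
      obtain ⟨c, t, rfl⟩ := C.covers q
      obtain ⟨w, hw⟩ := (Ideal.mem_span_range_iff_exists_fun).1 c.2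
      obtain ⟨k, hk⟩ : ∃ k : Fin l.length, GrothLib.BlowUp.frac (c : A)
          (⟨a k, Ideal.subset_span ⟨k, rfl⟩⟩ : GrothLib.BlowUp17.ctr a) ∉ t.asIdeal := by
        by_contra! H
        refine t.isPrime.ne_top ((Ideal.eq_top_iff_one _).2 ?_)
        have h1 : (1 : ↥(_root_.BlowUp.affineAlgebra A (GrothLib.BlowUp17.ctr a) (c : A))) =
            ∑ k, algebraMap A _ (w k) * GrothLib.BlowUp.frac (c : A)
              (⟨a k, Ideal.subset_span ⟨k, rfl⟩⟩ : GrothLib.BlowUp17.ctr a) := by
          refine (mul_cancel_left_mem_nonZeroDivisors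
            (GrothLib.BlowUp.algebraMap_mem_nonZeroDivisors (I := GrothLib.BlowUp17.ctr a) (c : A))).1 ?_
          rw [mul_one, Finset.mul_sum]
          refine (congrArg (algebraMap A
            ↥(_root_.BlowUp.affineAlgebra A (GrothLib.BlowUp17.ctr a) (c : A))) hw.symm).trans ?_
          rw [map_sum]
          refine Finset.sum_congr rfl fun k _ => ?_
          rw [map_mul, mul_left_comm]
          exact congrArg _ (GrothLib.BlowUp.algebraMap_mul_frac (c : A)
            (⟨a k, Ideal.subset_span ⟨k, rfl⟩⟩ : GrothLib.BlowUp17.ctr a)).symm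
        rw [h1]
        exact sum_mem fun k _ => Ideal.mul_mem_left _ _ (H k)
      exact ⟨k, C.overlap _ c t hk⟩
    have key : ∀ (n : ℕ) (a : Fin n → A), LCI.IsKoszulRegularSeq A (List.ofFn a) → ∀ k : Fin n,
        GrothLib.LCI6.LCIHom (algebraMap A (GrothLib.BlowUp17.Chart a k)) := by
      intro n a ha k
      obtain ⟨m, rfl⟩ : ∃ m, n = m + 1 := ⟨n - 1, by have := k.2; omega⟩
      show @LCI.IsLCI A _ _ _ (algebraMap A (GrothLib.BlowUp17.Chart a k)).toAlgebra
      exact (Algebra.algebra_ext (algebraMap A (GrothLib.BlowUp17.Chart a k)).toAlgebra inferInstance fun _ => rfl) ▸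
        GrothLib.PerfBlow28.isLCI_chart a k ha
    let β : A →+* GrothLib.BlowUp17.Chart a k := algebraMap A _
    let j' : Spec (CommRingCat.of (GrothLib.BlowUp17.Chart a k)) ⟶ X' :=
      C.j ⟨a k, Ideal.subset_span ⟨k, rfl⟩⟩ ≫ pullback.snd iX f
    have hj' : j' ≫ f = Spec.map (CommRingCat.ofHom β) ≫ iX := by
      rw [Category.assoc, ← pullback.condition, ← Category.assoc, C.comp]
    have hx : j' q' = x := by
      rw [Scheme.Hom.comp_apply, hq']
      exact hq
    have hβ : GrothLib.LCI6.InLocus (Spec.map (CommRingCat.ofHom β) ≫ iX) q' :=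
      GrothLib.LCI6.inLocus_comp
        (GrothLib.LCI6.inLocus_specMap _ (key _ a (by rw [List.ofFn_get]; exact hl) k) _)
        (GrothLib.LCI6.inLocus_of_smooth iX _)
    rw [← hj'] at hβ
    rw [← hx]
    exact (GrothLib.LCI6.inLocus_openImmersion_comp_iff j' f).1 hβ
  intro U V hU hV e
  letI := (f.appLE V U e).hom.toAlgebra
  exact GrothLib.LCI6.isPerfectHom_of_isLCI (GrothLib.LCI6.isLCI_of_forall_inLocus f hloc U V hU hV e)

end Groth.Agent.S3202
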