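import Groth.Statements.S3205
-- import your own Groth.Agent.* helpers here
import Groth.Agent.Lib.ExtPowX.SesSheaf


set_option autoImplicit false
universe u
open CategoryTheory CategoryTheory.Limits AlgebraicGeometry
attribute [local instance] HasDerivedCategory.standard
open SGA6

namespace Groth.Agent.S3205

/-- Let X be a scheme and 0 → E' → E → E'' → 0 a short exact sequence of finite locally free
O_X-modules. Let L'_i, L_n, L''_j be finite locally free exterior powers of E', E, E'' (in the sense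
of the affine-local predicate ExtPow.IsExtPow). Then in K₀ of finite locally free modules, [L_n] =
Σ_{i=0}^{n} [L'_i ⊗ L''_{n-i}] for every n. (The source constructs a filtration of Λⁿ E with
successive quotients Λ^i E' ⊗ Λ^{n-i} E''; the equality of classes is its consequence in K₀.) -/
theorem result (X : Scheme.{u}) (S : ShortComplex X.Modules) (hS : S.ShortExact)
    (h₁ : FlatMod.IsFinLocFree S.X₁) (h₂ : FlatMod.IsFinLocFree S.X₂) (h₃ : FlatMod.IsFinLocFree S.X₃)
    (L' L L'' : ℕ → X.Modules)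
    (hL' : ∀ i, FlatMod.IsFinLocFree (L' i) ∧ ExtPow.IsExtPow i S.X₁ (L' i))
    (hL : ∀ i, FlatMod.IsFinLocFree (L i) ∧ ExtPow.IsExtPow i S.X₂ (L i))
    (hL'' : ∀ i, FlatMod.IsFinLocFree (L'' i) ∧ ExtPow.IsExtPow i S.X₃ (L'' i)) (n : ℕ) :
    KZero.clSub (fun M : X.Modules => FlatMod.IsFinLocFree M) (L n) =
      ∑ i ∈ Finset.range (n + 1), KZero.clSub (fun M : X.Modules => FlatMod.IsFinLocFree M) (((DCoh.tensorBi (X := X)).obj (L' i)).obj (L'' (n - i))) := by
  have hc : ∀ {A B : X.Modules}, FlatMod.IsFinLocFree A → (A ≅ B) →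
      KZero.clSub (KRR.vbP X) A = KZero.clSub (KRR.vbP X) B := fun hA e =>
    GrothLib.RegSheaf.clSub_iso (fun _ hZ => GrothLib.DCoh.isFinLocFree_of_isZero hZ) e hA
      (GrothLib.DCoh.isFinLocFree_of_iso e hA)
  obtain ⟨e⟩ := GrothLib.ExtPowX.nonempty_iso (hL n).2 (GrothLib.ExtPowX.isExtPow_wedge h₂ n) (Iso.refl _)
  refine (hc (hL n).1 e).trans ((GrothLib.ExtPowX.Ses.cl_wedge S hS h₁ h₂ h₃ n).trans
    (Finset.sum_congr rfl fun i _ => ?_))
  obtain ⟨a⟩ := GrothLib.ExtPowX.nonempty_iso (GrothLib.ExtPowX.isExtPow_wedge h₁ i) (hL' i).2 (Iso.refl _)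
  obtain ⟨b⟩ := GrothLib.ExtPowX.nonempty_iso (GrothLib.ExtPowX.isExtPow_wedge h₃ (n - i)) (hL'' (n - i)).2 (Iso.refl _)
  have hf : FlatMod.IsFinLocFree (((DCoh.tensorBi (X := X)).obj (GrothLib.ExtPowX.wedge S.X₁ i)).obj
      (GrothLib.ExtPowX.wedge S.X₃ (n - i))) :=
    GrothLib.OX.isFinLocFree_tensor (GrothLib.ExtPowX.isFinLocFree_wedge h₁ i)
      (GrothLib.ExtPowX.isFinLocFree_wedge h₃ (n - i))
  exact hc hf ((((DCoh.tensorBi (X := X)).mapIso a).app (GrothLib.ExtPowX.wedge S.X₃ (n - i))) ≪≫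
    ((DCoh.tensorBi (X := X)).obj (L' i)).mapIso b)


end Groth.Agent.S3205
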