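import Groth.Statements.S3206
import Groth.Agent.Lib.Morse.Morse

set_option autoImplicit false
open SGA7
open MvPowerSeries

namespace Groth.Agent.S3206

/-- Let k be a field and f a formal power series in n variables over k without constant term whose
partial derivatives ∂f/∂x_1, …, ∂f/∂x_n generate the maximal ideal of k[[x_1, …, x_n]]. Then there
are power series ε_1, …, ε_n with no terms of degree < 2 and a quadratic form q such that f = q(x_1
+ ε_1, …, x_n + ε_n). -/
theorem result (k : Type) [Field k] (n : ℕ) (f : MvPowerSeries (Fin n) k)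
    (hf0 : MvPowerSeries.constantCoeff f = 0)
    (hJ : Ideal.span (Set.range fun i : Fin n => MvPowerSeries.pderiv k i f) = IsLocalRing.maximalIdeal (MvPowerSeries (Fin n) k)) :
    ∃ (ε : Fin n → MvPowerSeries (Fin n) k) (_ : ∀ i (m : Fin n →₀ ℕ), m.degree < 2 → MvPowerSeries.coeff m (ε i) = 0)
      (q : MvPolynomial (Fin n) k) (_ : q.IsHomogeneous 2)
      (_ : MvPowerSeries.HasSubst (fun i : Fin n => MvPowerSeries.X i + ε i)),
      f = MvPowerSeries.subst (fun i : Fin n => MvPowerSeries.X i + ε i) (q : MvPowerSeries (Fin n) k) := by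
  classical
  have hcc : ∀ x ∈ IsLocalRing.maximalIdeal (MvPowerSeries (Fin n) k), constantCoeff x = 0 := by
    intro x hx
    rw [IsLocalRing.mem_maximalIdeal, mem_nonunits_iff, MvPowerSeries.isUnit_iff_constantCoeff] at hx
    by_contra h
    exact hx (Ne.isUnit h)
  have hd0 : ∀ i, constantCoeff (pderiv k i f) = 0 := fun i =>
    hcc _ (hJ ▸ Ideal.subset_span ⟨i, rfl⟩)
  have hlin : ∀ i, coeff (Finsupp.single i 1) f = 0 := fun i => by
    have := hd0 i
    rwa [← coeff_zero_eq_constantCoeff_apply, coeff_pderiv, zero_add, Finsupp.zero_apply,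
      Nat.cast_zero, zero_add, mul_one] at this
  let q := VanCyc.quadPart f
  have hJac : ∀ i j : Fin n, coeff (Finsupp.single j 1) (pderiv k i f) = VanCyc.polarMatrix q i j := by
    intro i j
    rw [coeff_pderiv]
    rcases lt_trichotomy i j with h | h | h
    · simp [q, VanCyc.polarMatrix, VanCyc.quadPart, h.ne, h, add_comm (Finsupp.single j 1)]
    · subst h
      rw [← Finsupp.single_add]
      simp [q, VanCyc.polarMatrix, VanCyc.quadPart]
      ring
    · simp [q, VanCyc.polarMatrix, VanCyc.quadPart, h.ne', h.ne, h.not_gt, h]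
  have hq : VanCyc.QuadNondeg q := by
    have hX : ∀ j : Fin n, ∃ c : Fin n → MvPowerSeries (Fin n) k, ∑ i, c i * pderiv k i f = X j := by
      intro j
      refine Ideal.mem_span_range_iff_exists_fun.mp ?_
      rw [hJ, IsLocalRing.mem_maximalIdeal, mem_nonunits_iff, MvPowerSeries.isUnit_iff_constantCoeff,
        constantCoeff_X]
      exact not_isUnit_zero
    choose c hc using hX
    refine Matrix.isUnit_det_of_left_inverse (B := Matrix.of fun j i => constantCoeff (c j i)) ?_
    ext j r
    have hj := congrArg (coeff (Finsupp.single r 1)) (hc j)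
    have hsum : ∀ i, coeff (Finsupp.single r 1) (c j i * pderiv k i f) =
        constantCoeff (c j i) * VanCyc.polarMatrix q i r := by
      intro i
      rw [coeff_mul, Finsupp.antidiagonal_single, Finset.sum_map]
      simp [Finset.Nat.antidiagonal_succ, hd0 i, hJac i r]
    rw [map_sum] at hj
    simp only [hsum, coeff_X] at hj
    rw [Matrix.mul_apply]
    simp only [Matrix.of_apply, hj, Matrix.one_apply]
    by_cases hjr : j = r
    · simp [hjr]
    · rw [if_neg hjr, if_neg]
      exact fun h => hjr (Finsupp.single_left_injective one_ne_zero h).symm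
  have hF : ∀ e : Fin n →₀ ℕ, e.degree ≤ 2 →
      coeff e f = coeff e (GrothLib.Morse.normalForm q 0) := by
    intro e he
    rw [GrothLib.Morse.normalForm, map_zero, add_zero]
    rcases Nat.lt_or_ge e.degree 2 with h | h
    · rw [GrothLib.Morse.coeff_coe_quadPoly_of_degree_ne _ h.ne]
      rcases Nat.lt_or_ge e.degree 1 with h0 | h0
      · rw [(Finsupp.degree_eq_zero_iff e).mp (by omega), coeff_zero_eq_constantCoeff_apply, hf0]
      · obtain ⟨i, rfl⟩ := GrothLib.Morse.eq_single_of_degree_eq_one (e := e) (by omega)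
        exact hlin i
    · obtain ⟨i, j, hij, rfl⟩ := GrothLib.Morse.eq_add_of_degree_eq_two (e := e) (by omega)
      rw [GrothLib.Morse.coeff_coe_quadPoly _ hij]
      rcases hij.lt_or_eq with hl | rfl
      · simp [q, VanCyc.quadPart, hl.ne, hl]
      · simp [q, VanCyc.quadPart, ← Finsupp.single_add]
  obtain ⟨g, _, hg, -, hT, -⟩ := GrothLib.Morse.exists_normalise le_rfl q hq 0 f hF
  refine ⟨g, hg, VanCyc.quadPoly q, GrothLib.Morse.quadPoly_isHomogeneous q,
    GrothLib.Morse.hasSubst_shift fun i => (hg i).mono (by omega), ?_⟩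
  rw [GrothLib.Morse.normalForm, map_zero, add_zero] at hT
  exact hT.symm

end Groth.Agent.S3206
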