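import Groth.Statements.S3207
import Groth.Agent.S1449
import Groth.Agent.S2759
import Mathlib.AlgebraicGeometry.Fiber

set_option autoImplicit false
universe u
open CategoryTheory CategoryTheory.Limits AlgebraicGeometry
open SGA7

namespace Groth.Agent.S3207

lemma exists_maximal_generization {S : Scheme.{u}} (x : S) :
    ∃ η : S, η ⤳ x ∧ ∀ t : S, t ⤳ η → t = η := by
  have hη := (isIrreducible_irreducibleComponent (x := x)).isGenericPoint_genericPoint
    isClosed_irreducibleComponent
  refine ⟨_, hη.specializes mem_irreducibleComponent, fun t ht => ?_⟩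
  have hsub : irreducibleComponent x ⊆ closure {t} := by
    rw [← hη.def]
    exact closure_minimal (Set.singleton_subset_iff.2 ht.mem_closure) isClosed_closure
  have heq : closure {t} = irreducibleComponent x :=
    eq_irreducibleComponent (isPreirreducible_singleton.closure) hsub
  exact IsGenericPoint.eq (show IsGenericPoint t (irreducibleComponent x) from heq) hη

section Field

variable {K : Type u} [Field K] {P : Scheme.{u}} (π : P ⟶ Spec (CommRingCat.of K))

lemma rank_le_one_of_isEmpty_or_isIso (h : IsEmpty P ∨ IsIso π) :
    letI := ((Scheme.ΓSpecIso (CommRingCat.of K)).inv ≫ π.appTop).hom.toAlgebra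
    Module.rank K (Γ(P, ⊤) : Type u) ≤ 1 := by
  letI := ((Scheme.ΓSpecIso (CommRingCat.of K)).inv ≫ π.appTop).hom.toAlgebra
  rcases h with h | h
  · rw [rank_subsingleton']
    exact zero_le
  · haveI : IsIso π.appTop := inferInstanceAs (IsIso (π.app ⊤))
    have hb : Function.Bijective (Algebra.linearMap K (Γ(P, ⊤) : Type u)) := ConcreteCategory.bijective_of_isIso
      ((Scheme.ΓSpecIso (CommRingCat.of K)).inv ≫ π.appTop)
    rw [← (LinearEquiv.ofBijective _ hb).rank_eq, Module.rank_self]

lemma isOpenImmersion_of_rank_le_one [IsFinite π]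
    (h : letI := ((Scheme.ΓSpecIso (CommRingCat.of K)).inv ≫ π.appTop).hom.toAlgebra
      Module.rank K (Γ(P, ⊤) : Type u) ≤ 1) : IsOpenImmersion π := by
  letI := ((Scheme.ΓSpecIso (CommRingCat.of K)).inv ≫ π.appTop).hom.toAlgebra
  haveI : IsAffine P := isAffine_of_isAffineHom π
  rcases subsingleton_or_nontrivial (Γ(P, ⊤) : Type u) with hs | hn
  · haveI : IsEmpty P :=
      (P.isoSpec.hom.homeomorph.toEquiv.trans (Equiv.refl _)).isEmpty_congr.2
        (PrimeSpectrum.isEmpty_iff_subsingleton.2 hs)
    exact inferInstance
  · let ℓ : K →ₗ[K] (Γ(P, ⊤) : Type u) := Algebra.linearMap K _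
    have hinj : Function.Injective ℓ := (algebraMap K (Γ(P, ⊤) : Type u)).injective
    haveI : Module.Finite K (Γ(P, ⊤) : Type u) :=
      Module.rank_lt_aleph0_iff.1 (h.trans_lt Cardinal.one_lt_aleph0)
    have hfin : Module.finrank K (Γ(P, ⊤) : Type u) ≤ 1 := by
      rw [← Nat.cast_le (α := Cardinal), Module.finrank_eq_rank]; simpa using h
    have hsurj : Function.Surjective ℓ :=
      (LinearMap.injective_iff_surjective_of_finrank_eq_finrank (by
        rw [Module.finrank_self]
        exact le_antisymm Module.finrank_pos hfin)).1 hinj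
    haveI : IsIso ((Scheme.ΓSpecIso (CommRingCat.of K)).inv ≫ π.appTop) :=
      (ConcreteCategory.isIso_iff_bijective _).2 ⟨hinj, hsurj⟩
    haveI : IsIso π.appTop := IsIso.of_isIso_comp_left (Scheme.ΓSpecIso (CommRingCat.of K)).inv _
    haveI : IsIso (π ≫ (Spec (CommRingCat.of K)).isoSpec.hom) := by
      rw [← Scheme.isoSpec_hom_naturality]
      infer_instance
    haveI : IsIso π := IsIso.of_isIso_comp_right π (Spec (CommRingCat.of K)).isoSpec.hom
    infer_instance

end Field

/-- Let g : T -> S be locally quasi-finite, of finite presentation, separated and flat. If for every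
maximal point s of S (a point with no proper generization) the fibre of g over s is either empty or
mapped isomorphically onto Spec κ(s) (rank at most 1), then g is an open immersion. -/
theorem result {T S : Scheme.{u}} (g : T ⟶ S) [LocallyQuasiFinite g]
    [LocallyOfFinitePresentation g] [QuasiCompact g] [IsSeparated g] [Flat g]
    (h : ∀ s : S, (∀ t : S, t ⤳ s → t = s) →
      IsEmpty ↑(pullback g (S.fromSpecResidueField s)) ∨ IsIso (pullback.snd g (S.fromSpecResidueField s))) :
    IsOpenImmersion g := by
  classical
  obtain ⟨U, -, -, hU⟩ := S1449.result g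
  have hmax : ∀ η : S, (∀ t : S, t ⤳ η → t = η) → η ∉ U 2 := by
    intro η hη hmem
    have h2 := (hU (S.residueField η) (S.fromSpecResidueField η) 2).1 (by
      rw [Scheme.range_fromSpecResidueField]
      simpa using hmem)
    exact absurd (h2.trans (rank_le_one_of_isEmpty_or_isIso _ (h η hη)))
      (by exact_mod_cast (Nat.not_succ_le_self 1))
  have hall : ∀ s : S, s ∉ U 2 := fun s hs => by
    obtain ⟨η, hηs, hη⟩ := exists_maximal_generization s
    exact hmax η hη (hηs.mem_open (U 2).2 hs)
  have hfib : ∀ s : S, IsOpenImmersion (pullback.snd g (S.fromSpecResidueField s)) := by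
    intro s
    haveI : IsFinite (pullback.snd g (S.fromSpecResidueField s)) :=
      inferInstanceAs (IsFinite (g.fiberToSpecResidueField s))
    refine isOpenImmersion_of_rank_le_one (K := S.residueField s) _ ?_
    by_contra hlt
    rw [not_le] at hlt
    refine hall s ?_
    have h1 := (hU (S.residueField s) (S.fromSpecResidueField s) 2).2 (by
      have := Order.succ_le_of_lt hlt
      rw [← Nat.cast_one, Cardinal.succ_natCast] at this
      exact_mod_cast this)
    rw [Scheme.range_fromSpecResidueField] at h1
    simpa using h1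
  refine ((S2759.result (𝟙 S) g g (Category.comp_id g)).1).2 fun s => ?_
  have hw : (𝟙 S : S ⟶ S).fiberι s =
      pullback.snd (𝟙 S) (S.fromSpecResidueField s) ≫ S.fromSpecResidueField s := by
    refine Eq.trans ?_ pullback.condition
    simp [Scheme.Hom.fiberι]
  rw [hw]
  exact MorphismProperty.of_isPullback
    (IsPullback.of_right (h₁₂ := pullback.fst g (S.fromSpecResidueField s))
      (h₁₁ := pullback.lift (pullback.fst _ _)
        (pullback.snd _ _ ≫ pullback.snd (𝟙 S) (S.fromSpecResidueField s))
        (by rw [pullback.condition, Category.assoc]))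
      (by rw [pullback.lift_fst]; exact IsPullback.of_hasPullback g _) (pullback.lift_snd _ _ _)
      (IsPullback.of_hasPullback g (S.fromSpecResidueField s))) (hfib s)

end Groth.Agent.S3207
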