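import Groth.Statements.S3208
import Mathlib.RingTheory.Noetherian.Basic
import Mathlib.RingTheory.Int.Basic
import Mathlib.LinearAlgebra.FreeModule.PID
import Mathlib.Data.Nat.Choose.Sum
import Mathlib.Data.Nat.Choose.Dvd
import Mathlib.GroupTheory.OrderOfElement
import Mathlib.Algebra.Ring.GeomSum
import Mathlib.Tactic.Ring
import Mathlib.Tactic.LinearCombination

set_option autoImplicit false
open SGA7

namespace Groth.Agent.S3208

variable {E : Type} [CommRing E]

theorem eq_zero_of_eq_nat_mul [Module.Free ℤ E] (t : ℕ) (ht : 2 ≤ t) (v r : E)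
    (h : v = (t : E) * v * r) : v = 0 := by
  have hk : ∀ k : ℕ, v = (t : E) ^ k * v * r ^ k := by
    intro k
    induction k with
    | zero => simp
    | succ k ih => rw [pow_succ, pow_succ]; linear_combination ih + (t : E) ^ k * r ^ k * h
  have b := Module.Free.chooseBasis ℤ E
  apply b.repr.injective
  ext i
  rw [map_zero, Finsupp.zero_apply]
  by_contra hne
  have hd : ∀ k : ℕ, ((t : ℤ) ^ k) ∣ b.repr v i := by
    intro k
    refine ⟨b.repr (v * r ^ k) i, ?_⟩
    conv_lhs => rw [hk k]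
    rw [show (t : E) ^ k * v * r ^ k = ((t : ℤ) ^ k) • (v * r ^ k) by
      rw [zsmul_eq_mul]; push_cast; ring]
    rw [map_zsmul, Finsupp.smul_apply, smul_eq_mul]
  have := (Int.natAbs_dvd_natAbs.mpr (hd (b.repr v i).natAbs))
  rw [Int.natAbs_pow, Int.natAbs_natCast] at this
  have h1 := Nat.le_of_dvd (Int.natAbs_pos.mpr hne) this
  exact absurd h1 (not_le.mpr (Nat.lt_pow_self (by omega)))

theorem prime_case [Module.Free ℤ E] (p : ℕ) (hp : p.Prime) (n : ℕ) (hn : 3 ≤ n) (v : E)
    (h : (1 - (n : E) * v) ^ p = 1) (cancel : ∀ (k : ℕ), k ≠ 0 → ∀ x y : E, (k : E) * x = k * y → x = y) :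
    v = 0 := by
  obtain ⟨S, hS⟩ : ∃ S : E, (1 - (n : E) * v) ^ p =
      1 - (p : E) * n * v + (p : E) * n ^ 2 * v ^ 2 * S + (-((n : E) * v)) ^ p := by
    refine ⟨∑ i ∈ Finset.Ico 2 p, ((p.choose i / p : ℕ) : E) * (-((n : E) * v)) ^ (i - 2), ?_⟩
    rw [show (1 : E) - n * v = -((n : E) * v) + 1 by ring, add_pow, Finset.sum_range_succ,
      Finset.range_eq_Ico, ← Finset.sum_Ico_consecutive _ (Nat.zero_le 2) hp.two_le, Finset.mul_sum]
    have : ∀ i ∈ Finset.Ico 2 p, (-((n : E) * v)) ^ i * 1 ^ (p - i) * (p.choose i : E)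
        = (p : E) * n ^ 2 * v ^ 2 * (((p.choose i / p : ℕ) : E) * (-((n : E) * v)) ^ (i - 2)) := by
      intro i hi
      rw [Finset.mem_Ico] at hi
      have hd : p ∣ p.choose i := hp.dvd_choose_self (by omega) hi.2
      conv_lhs => rw [← Nat.mul_div_cancel' hd, Nat.cast_mul, show i = 2 + (i - 2) by omega, pow_add]
      rw [show 2 + (i - 2) = i by omega]
      ring
    rw [Finset.sum_congr rfl this]
    simp [Finset.sum_Ico_eq_sum_range, Finset.sum_range_succ]
    ring
  rw [hS] at h
  rcases Nat.Prime.eq_two_or_odd' hp with rfl | hodd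
  · have h2 : (2 : E) * v = n * (v ^ 2 * (2 * S + 1)) := cancel n (by omega) _ _ (by push_cast at h ⊢; linear_combination -h)
    rcases Nat.even_or_odd n with ⟨t, rfl⟩ | ⟨t, rfl⟩
    · refine eq_zero_of_eq_nat_mul t (by omega) v (v * (2 * S + 1)) (cancel 2 (by omega) _ _ ?_)
      push_cast at h2 ⊢; linear_combination h2
    · refine eq_zero_of_eq_nat_mul (2 * t + 1) (by omega) v (1 - (t : E) * v * (2 * S + 1)) ?_
      push_cast at h2 ⊢; linear_combination -(t : E) * h2
  · rw [hodd.neg_pow] at h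
    by_cases hpn : p ∣ n
    · obtain ⟨c, rfl⟩ := hpn
      have hp3 : 3 ≤ p := by rcases hodd with ⟨k, rfl⟩; have := hp.two_le; omega
      refine eq_zero_of_eq_nat_mul (p * c) (by omega) v
        (v * S - ((p * c : ℕ) : E) ^ (p - 3) * c * v ^ (p - 1)) ?_
      refine cancel (p * (p * c)) (Nat.mul_ne_zero hp.ne_zero (by omega)) _ _ ?_
      obtain ⟨j, rfl⟩ : ∃ j, p = j + 3 := ⟨p - 3, by omega⟩
      simp only [Nat.add_sub_cancel, show j + 3 - 1 = j + 2 by omega]
      push_cast at h ⊢
      rw [show j + 3 = 3 + j by omega, mul_pow _ v] at h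
      linear_combination -h
    · obtain ⟨x, y, hxy⟩ := Nat.Coprime.isCoprime ((hp.coprime_iff_not_dvd).mpr hpn)
      have hpv : (p : E) * v = n * (v * ((p : E) * v * S - (n : E) ^ (p - 2) * v ^ (p - 1))) := by
        refine cancel n (by omega) _ _ ?_
        obtain ⟨j, rfl⟩ : ∃ j, p = j + 2 := ⟨p - 2, by have := hp.two_le; omega⟩
        simp only [Nat.add_sub_cancel, show j + 2 - 1 = j + 1 by omega]
        linear_combination -h
      refine eq_zero_of_eq_nat_mul n (by omega) v
        ((x : E) * ((p : E) * v * S - (n : E) ^ (p - 2) * v ^ (p - 1)) + y) ?_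
      have hxy' : (x : E) * p + (y : E) * n = 1 := by exact_mod_cast congrArg (Int.cast (R := E)) hxy
      linear_combination (x : E) * hpv - v * hxy'

/-- Let E be a commutative ring which is finitely generated and torsion-free as an additive group, u an
element of E of finite multiplicative order (u^m = 1 for some m > 0), and n ≥ 2 an integer with u ≡
1 modulo nE (i.e. 1 - u = n·v for some v ∈ E). Then u² = 1, and if n ≥ 3 then u = 1. -/
theorem result (E : Type) [CommRing E] [NoZeroSMulDivisors ℤ E] [Module.Finite ℤ E] (u : E) (m : ℕ) (hm : 0 < m)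
    (hu : u ^ m = 1) (n : ℕ) (hn : 2 ≤ n) (hcong : ∃ v : E, 1 - u = (n : E) * v) :
    u ^ 2 = 1 ∧ (3 ≤ n → u = 1) := by
  haveI : Module.Free ℤ E := inferInstance
  have cancel : ∀ (k : ℕ), k ≠ 0 → ∀ x y : E, (k : E) * x = k * y → x = y := by
    intro k hk x y h
    refine smul_right_injective E (Int.natCast_ne_zero.mpr hk) ?_
    simpa [zsmul_eq_mul] using h
  have main : ∀ (w : E) (M N : ℕ), 0 < M → w ^ M = 1 → 3 ≤ N → (∃ v, 1 - w = (N : E) * v) → w = 1 := by
    intro w M
    induction M using Nat.strong_induction_on generalizing w with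
    | _ M ih =>
    intro N hM hw hN hv
    rcases Nat.lt_or_ge M 2 with h1 | h2
    · obtain rfl : M = 1 := by omega
      simpa using hw
    obtain ⟨p, hp, hpM⟩ := Nat.exists_prime_and_dvd (show M ≠ 1 by omega)
    obtain ⟨c, rfl⟩ := hpM
    have hc : c < p * c := by
      have := hp.two_le; rcases Nat.eq_zero_or_pos c with rfl | hc
      · simp at hM
      · nlinarith
    have hwc : w ^ c = 1 := by
      obtain ⟨v, hv⟩ := hv
      obtain ⟨v', hv'⟩ : ∃ v', 1 - w ^ c = (N : E) * v' := by
        obtain ⟨d, hd⟩ := sub_dvd_pow_sub_pow (1 : E) w c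
        exact ⟨v * d, by rw [one_pow] at hd; rw [hd, hv, mul_assoc]⟩
      have hw' : w ^ c = 1 - (N : E) * v' := by linear_combination -hv'
      have hpow : (1 - (N : E) * v') ^ p = 1 := by rw [← hw', ← pow_mul, mul_comm]; exact hw
      rw [hw', prime_case p hp N hN v' hpow cancel]; simp
    exact ih c hc w N (Nat.pos_of_ne_zero fun h => by simp [h] at hM) hwc hN hv
  refine ⟨?_, fun h3 => main u m n hm hu h3 hcong⟩
  rcases Nat.lt_or_ge n 3 with h | h
  · obtain rfl : n = 2 := by omega
    obtain ⟨v, hv⟩ := hcong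
    refine main (u ^ 2) m 4 hm (by rw [← pow_mul, mul_comm, pow_mul, hu, one_pow]) (by omega) ⟨v - v ^ 2, ?_⟩
    push_cast at hv ⊢
    linear_combination (1 + u - 2 * v) * hv
  · rw [main u m n hm hu h hcong, one_pow]

end Groth.Agent.S3208
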