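import Groth.Statements.S3209
import Mathlib.LinearAlgebra.TensorProduct.RightExactness

set_option autoImplicit false
universe u
open TensorProduct
open SGA7

namespace Groth.Agent.S3209

/-- Let f : B' → B be a surjective map of R-algebras with kernel J, g : C → B a map of R-algebras, P =
B' ×_B C their fibre product (the equalizer of f ∘ pr₁ and g ∘ pr₂ in B' × C) and S an R-algebra
such that S ⊗_R J → S ⊗_R B' is injective (this holds when Tor_1^R(B, S) = 0, the published
hypothesis, and in particular when S is flat). Then the canonical map S ⊗_R P → (S ⊗_R B') ×_{S ⊗_R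
B} (S ⊗_R C) is bijective: it is injective, and every pair with the same image in S ⊗_R B comes from
S ⊗_R P. -/
theorem result (R B' B C S : Type u) [CommRing R] [CommRing B'] [CommRing B] [CommRing C]
    [CommRing S] [Algebra R B'] [Algebra R B] [Algebra R C] [Algebra R S]
    (f : B' →ₐ[R] B) (hf : Function.Surjective f) (g : C →ₐ[R] B)
    (hJ : Function.Injective (LinearMap.lTensor S (LinearMap.ker f.toLinearMap).subtype)) :
    letI P := AlgHom.equalizer (f.comp (AlgHom.fst R B' C)) (g.comp (AlgHom.snd R B' C))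
    letI φ₁ := Algebra.TensorProduct.map (AlgHom.id R S) ((AlgHom.fst R B' C).comp P.val)
    letI φ₂ := Algebra.TensorProduct.map (AlgHom.id R S) ((AlgHom.snd R B' C).comp P.val)
    Function.Injective (fun z : S ⊗[R] ↥P => (φ₁ z, φ₂ z)) ∧
    ∀ (x : S ⊗[R] B') (y : S ⊗[R] C),
      Algebra.TensorProduct.map (AlgHom.id R S) f x = Algebra.TensorProduct.map (AlgHom.id R S) g y →
        ∃ z : S ⊗[R] ↥P, φ₁ z = x ∧ φ₂ z = y := by
  let P := AlgHom.equalizer (f.comp (AlgHom.fst R B' C)) (g.comp (AlgHom.snd R B' C))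
  let φ₁ := Algebra.TensorProduct.map (AlgHom.id R S) ((AlgHom.fst R B' C).comp P.val)
  let φ₂ := Algebra.TensorProduct.map (AlgHom.id R S) ((AlgHom.snd R B' C).comp P.val)
  show Function.Injective (fun z : S ⊗[R] ↥P => (φ₁ z, φ₂ z)) ∧
    ∀ (x : S ⊗[R] B') (y : S ⊗[R] C),
      Algebra.TensorProduct.map (AlgHom.id R S) f x = Algebra.TensorProduct.map (AlgHom.id R S) g y →
        ∃ z : S ⊗[R] ↥P, φ₁ z = x ∧ φ₂ z = y
  set J := LinearMap.ker f.toLinearMap
  have hmem : ∀ j : J, ((j : B'), (0 : C)) ∈ P := fun j => by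
    have hj : f (j : B') = 0 := j.2
    simp [P, AlgHom.mem_equalizer, hj]
  let ι : J →ₗ[R] ↥P :=
    { toFun := fun j => ⟨((j : B'), 0), hmem j⟩
      map_add' := fun a b => by ext <;> simp
      map_smul' := fun r a => by ext <;> simp }
  let q : ↥P →ₗ[R] C := ((AlgHom.snd R B' C).comp P.val).toLinearMap
  let p : ↥P →ₗ[R] B' := ((AlgHom.fst R B' C).comp P.val).toLinearMap
  have hq : Function.Surjective q := fun c => by
    obtain ⟨b, hb⟩ := hf (g c)
    exact ⟨⟨(b, c), hb⟩, rfl⟩
  have hex : Function.Exact ι q := by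
    intro z
    constructor
    · intro hz
      have h0 : ((z : B' × C)).2 = 0 := hz
      have hf0 : f ((z : B' × C)).1 = g ((z : B' × C)).2 := z.2
      refine ⟨⟨((z : B' × C)).1, ?_⟩, ?_⟩
      · show f ((z : B' × C)).1 = 0
        rw [hf0, h0, map_zero]
      · exact Subtype.ext (Prod.ext rfl h0.symm)
    · rintro ⟨j, rfl⟩; rfl
  have h1 : ∀ z, φ₁ z = LinearMap.lTensor S p z := fun z => by
    induction z using TensorProduct.induction_on <;> simp_all [φ₁, p]
  have h2 : ∀ z, φ₂ z = LinearMap.lTensor S q z := fun z => by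
    induction z using TensorProduct.induction_on <;> simp_all [φ₂, q]
  have hSex := lTensor_exact S hex hq
  have hpι : p ∘ₗ ι = J.subtype := rfl
  have hcomp : ∀ w, LinearMap.lTensor S p (LinearMap.lTensor S ι w) = LinearMap.lTensor S J.subtype w := fun w => by
    rw [← LinearMap.comp_apply, ← LinearMap.lTensor_comp, hpι]
  have hJex : Function.Exact (LinearMap.lTensor S J.subtype) (LinearMap.lTensor S f.toLinearMap) :=
    lTensor_exact S (LinearMap.exact_subtype_ker_map _) hf
  refine ⟨?_, ?_⟩
  · intro z z' hz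
    simp only [Prod.mk.injEq, h1, h2] at hz
    rw [← sub_eq_zero]
    obtain ⟨w, hw⟩ := (hSex (z - z')).mp (by rw [map_sub, hz.2, sub_self])
    have : LinearMap.lTensor S J.subtype w = 0 := by rw [← hcomp, hw, map_sub, hz.1, sub_self]
    rw [← hw, hJ (this.trans (map_zero _).symm), map_zero]
  · intro x y hxy
    obtain ⟨z₀, hz₀⟩ := LinearMap.lTensor_surjective S hq y
    have hfg : f.toLinearMap ∘ₗ p = g.toLinearMap ∘ₗ q := by
      ext z; exact z.2
    have hxy' : LinearMap.lTensor S f.toLinearMap x = LinearMap.lTensor S g.toLinearMap y := by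
      have a1 : ∀ x, Algebra.TensorProduct.map (AlgHom.id R S) f x = LinearMap.lTensor S f.toLinearMap x := fun x => by
        induction x using TensorProduct.induction_on <;> simp_all
      have a2 : ∀ x, Algebra.TensorProduct.map (AlgHom.id R S) g x = LinearMap.lTensor S g.toLinearMap x := fun x => by
        induction x using TensorProduct.induction_on <;> simp_all
      rw [← a1, ← a2]; exact hxy
    obtain ⟨w, hw⟩ := (hJex (x - LinearMap.lTensor S p z₀)).mp (by
      rw [map_sub, hxy', ← LinearMap.comp_apply (f := LinearMap.lTensor S f.toLinearMap), ← LinearMap.lTensor_comp, hfg,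
        LinearMap.lTensor_comp, LinearMap.comp_apply, hz₀, sub_self])
    refine ⟨z₀ + LinearMap.lTensor S ι w, ?_, ?_⟩
    · rw [h1, map_add, hcomp, hw, add_sub_cancel]
    · rw [h2, map_add, hz₀, (hSex _).mpr ⟨w, rfl⟩, add_zero]

end Groth.Agent.S3209
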