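import Groth.Prelude.Def_Neron
import Groth.Prelude.Def_SGA7a
import Groth.Agent.Lib.ProperFib19.DVR
import Groth.Agent.Lib.ProperFib19.GrpTransfer
import Groth.Agent.Lib.RedSmooth.Basic
import Groth.Agent.Lib.Stein.NormalBase
import Groth.Agent.Lib.Cube.Generic
import Groth.Agent.S18483
import Groth.Agent.S11098

set_option autoImplicit false
universe u
open CategoryTheory CategoryTheory.Limits AlgebraicGeometry MonObj
open MonoidalCategory CartesianMonoidalCategory

namespace Groth.Agent.S3211

/-- (i) ⟺ (iv): let R be a discrete valuation ring with fraction field K, A an abelian variety over K (a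
proper, geometrically integral group scheme) and N a Néron model of A over Spec R. Then A extends to
an abelian scheme over R (a proper smooth group scheme with connected geometric fibres and generic
fibre K-isomorphic to A) if and only if N is proper over Spec R. -/
theorem result (R : Type u) [CommRing R] [IsDomain R] [IsDiscreteValuationRing R]
    (A : Over (Spec (CommRingCat.of (FractionRing R)))) [GrpObj A] [IsProper A.hom] [GeometricallyIntegral A.hom]
    (N : Over (Spec (CommRingCat.of R))) (e : (Neron.genericFibre R).obj N ≅ A) (hN : Neron.IsNeronModelOf R N A e) :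
    (∃ (B : Over (Spec (CommRingCat.of R))) (_ : GrpObj B), IsProper B.hom ∧ Smooth B.hom ∧
        (∀ (k' : Type u) [Field k'] (t : Spec (CommRingCat.of k') ⟶ Spec (CommRingCat.of R)), ConnectedSpace ↑(pullback B.hom t)) ∧
        Nonempty ((Over.pullback (Spec.map (CommRingCat.ofHom (algebraMap R (FractionRing R))))).obj B ≅ A)) ↔ IsProper N.hom := by
  let K := FractionRing R
  constructor
  · rintro ⟨B, _, hBp, hBs, -, ⟨φ⟩⟩
    have h1 := Groth.Agent.S18483.result R B
    let φ' : (Neron.genericFibre R).obj B ≅ A := φ
    have h2 : Neron.IsNeronModelOf R B A φ' := by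
      obtain ⟨a, b, c, d, hbij⟩ := h1
      refine ⟨a, b, c, d, fun Y hY => ?_⟩
      have := φ'.homToEquiv.bijective.comp (hbij Y hY)
      convert this using 1
      funext g
      simp
    obtain ⟨⟨ψ, hψ, -⟩, hiso⟩ := Groth.Agent.S11098.result R A B N φ' e h2 hN
    have := hiso ψ hψ
    let e' : B ≅ N := asIso ψ
    have hN' : N.hom = e'.inv.left ≫ B.hom := (Over.w e'.inv).symm
    have : IsIso e'.inv.left := inferInstanceAs (IsIso ((Over.forget _).map e'.inv))
    rw [hN']
    infer_instance
  · intro hp
    obtain ⟨hsm, hsep, hlft, hqc, hbij⟩ := hN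
    obtain ⟨grp⟩ := GrothLib.ProperFib19.nonempty_grpObj (Neron.genericFibre R) e
      (fun Y => Smooth Y.hom) hsm (inferInstanceAs (Smooth (𝟙 _)))
      (fun X Y hX hY => by
        have : Smooth (pullback.fst X.hom Y.hom ≫ X.hom) := inferInstance
        exact this)
      hbij
    refine ⟨N, grp, hp, hsm, ?_, ⟨e⟩⟩
    let f : N.left ⟶ Spec (CommRingCat.of R) := N.hom
    let iK := GrothLib.ProperFib19.genMap R K
    let g : Over (Spec (CommRingCat.of K)) := (Neron.genericFibre R).obj N
    have hge : g.hom = e.hom.left ≫ A.hom := (Over.w e.hom).symm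
    have : IsIso e.hom.left := inferInstanceAs (IsIso ((Over.forget _).map e.hom))
    have hgp : IsProper g.hom := by
      rw [hge]; infer_instance
    have hgi : GeometricallyIntegral g.hom := by
      rw [hge]
      refine ⟨?_⟩
      exact (MorphismProperty.cancel_left_of_respectsIso (geometrically IsIntegral) e.hom.left A.hom).2
        GeometricallyIntegral.geometrically_isIntegral
    have hanti := GrothLib.Cube.isAntiAffine_of_proper (X := g) (η[A] ≫ e.inv)
    have h0 : Function.Bijective (pullback.snd f iK).appTop := by
      have h := hanti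
      have hiso : Function.Bijective ((Scheme.ΓSpecIso (CommRingCat.of K)).inv ≫ g.hom.appTop) := h
      exact (Function.Bijective.of_comp_iff _
        (ConcreteCategory.bijective_of_isIso (Scheme.ΓSpecIso (CommRingCat.of K)).inv)).1 hiso
    have : IsReduced N.left := GrothLib.RedSmooth.isReduced_of_smooth f
    have : IsIntegral g.left := GeometricallyIntegral.isIntegral_of_subsingleton g.hom
    have : IrreducibleSpace ↥(GrothLib.ProperFib19.genFibre R K f) :=
      inferInstanceAs (IrreducibleSpace ↥g.left)
    have : IsIntegral N.left := GrothLib.ProperFib19.isIntegral_of_generic R K f f.isOpenMap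
    have hgen : f.base (genericPoint N.left) = genericPoint (Spec (CommRingCat.of R)) := by
      obtain ⟨x⟩ := (inferInstance : Nonempty ↥g.left)
      have hx : f.base ((pullback.fst f iK).base x) = genericPoint (Spec (CommRingCat.of R)) := by
        rw [← Scheme.Hom.comp_apply, pullback.condition, Scheme.Hom.comp_apply,
          ← GrothLib.ProperFib19.genMap_default R K]
        exact congrArg _ (Subsingleton.elim _ _)
      refine ((genericPoint_specializes _).antisymm ?_).eq.symm
      rw [← hx]
      exact (genericPoint_specializes _).map f.continuous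
    have hY := GrothLib.ProperFib19.isNormalScheme_spec R
    have hcomp : ∀ Z ∈ irreducibleComponents ↥N.left, ∀ x : N.left, IsGenericPoint x Z →
        f x = genericPoint ↥(Spec (CommRingCat.of R)) := by
      intro Z hZ x hx
      rw [irreducibleComponents_eq_singleton, Set.mem_singleton_iff] at hZ
      subst hZ
      rw [hx.eq (genericPoint_spec N.left)]
      exact hgen
    have hb : ∀ U : (Spec (CommRingCat.of R)).Opens, Function.Bijective (f.app U) :=
      GrothLib.Stein.bijective_app_of_basicOpen f fun y => by
        obtain ⟨P, hP, hyP, -⟩ := exists_isAffineOpen_mem_and_subset (U := ⊤) (x := y) trivial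
        exact ⟨P, hP, hyP, GrothLib.Stein.bijective_app_of_normal f hY hcomp
          (GrothLib.ProperFib19.bijective_appTop_generic R K f h0) hP ⟨⟨y, hyP⟩⟩⟩
    have := GrothLib.Stein.geometricallyConnected_of_bijective_app f hb
    intro k' _ t
    exact GeometricallyConnected.geometrically_connectedSpace _ _ _ (IsPullback.of_hasPullback f t)

end Groth.Agent.S3211
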