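import Groth.Statements.S3214
import Mathlib.RingTheory.Polynomial.Vieta
import Mathlib.RingTheory.MvPolynomial.Symmetric.Defs

set_option autoImplicit false
open Polynomial
universe u
open SGA7II

namespace Groth.Agent.S3214

open Polynomial in
theorem prod_expand (a : ℕ) :
    (∏ i : Fin a, (X - C (MvPolynomial.X i)) : (MvPolynomial (Fin a) ℤ)[X]) =
      ∑ i ∈ Finset.range (a + 1), C ((-1) ^ i * MvPolynomial.esymm (Fin a) ℤ i) * X ^ (a - i) := by
  rw [Finset.prod_eq_multiset_prod]
  have h := Multiset.prod_X_sub_X_eq_sum_esymm (Finset.univ.val.map fun i : Fin a => (MvPolynomial.X i : MvPolynomial (Fin a) ℤ))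
  rw [Multiset.map_map, Multiset.card_map, Finset.card_val, Finset.card_univ, Fintype.card_fin] at h
  refine h.trans (Finset.sum_congr rfl fun i _ => ?_)
  rw [MvPolynomial.esymm_eq_multiset_esymm, map_mul, map_pow, map_neg, map_one, mul_assoc]

/-- In the recursive form established in its proof: let A = Z[X_1, ..., X_a] (a >= 1), P = prod_i (T -
X_i) in A[T] and S_i the i-th elementary symmetric function. Writing a_j for the coefficient of
T^{a-1} in the remainder of T^{a-1+j} modulo P, one has a_0 = 1 and sum_{i=0}^{a} (-1)^i S_i a_{j-i}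
= 0 for every j > 0 (with a_m = 0 for m < 0); equivalently sum_j (-1)^j a_j is the inverse of sum_i
S_i. (The source works in formal power series; the identity involves only polynomials.) -/
theorem result (a : ℕ) (ha : 0 < a) :
    let P : (MvPolynomial (Fin a) ℤ)[X] := ∏ i : Fin a, (X - C (MvPolynomial.X i))
    let coef : ℤ → MvPolynomial (Fin a) ℤ := fun j =>
      if j < 0 then 0 else ((X : (MvPolynomial (Fin a) ℤ)[X]) ^ (a - 1 + j.toNat) %ₘ P).coeff (a - 1)
    coef 0 = 1 ∧ ∀ j : ℕ, 0 < j →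
      (∑ i ∈ Finset.range (a + 1), (-1 : MvPolynomial (Fin a) ℤ) ^ i * MvPolynomial.esymm (Fin a) ℤ i *
        coef ((j : ℤ) - i)) = 0 := by
  intro P coef
  have hPm : P.Monic := monic_prod_of_monic _ _ fun i _ => monic_X_sub_C _
  have hPd : P.natDegree = a := by
    show ((∏ i : Fin a, (X - C (MvPolynomial.X i))) : (MvPolynomial (Fin a) ℤ)[X]).natDegree = a
    rw [natDegree_prod_of_monic _ _ fun i _ => monic_X_sub_C _]
    simp
  have hsmall : ∀ m, m < a → (X : (MvPolynomial (Fin a) ℤ)[X]) ^ m %ₘ P = X ^ m := fun m hm =>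
    (modByMonic_eq_self_iff hPm).2 (by
      rw [degree_X_pow, degree_eq_natDegree hPm.ne_zero, hPd]; exact_mod_cast hm)
  refine ⟨?_, fun j hj => ?_⟩
  · show (if (0 : ℤ) < 0 then _ else _) = (1 : MvPolynomial (Fin a) ℤ)
    rw [if_neg (lt_irrefl _), Int.toNat_zero, add_zero, hsmall _ (by omega), coeff_X_pow, if_pos rfl]
  have hcoef : ∀ i ≤ a, coef ((j : ℤ) - i) = ((X : (MvPolynomial (Fin a) ℤ)[X]) ^ (a - 1 + j - i) %ₘ P).coeff (a - 1) := by
    intro i hi
    by_cases h : (j : ℤ) - i < 0
    · show (if _ then _ else _) = _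
      rw [if_pos h, hsmall _ (by omega), coeff_X_pow, if_neg (by omega)]
    · show (if _ then _ else _) = _
      rw [if_neg h, show a - 1 + ((j : ℤ) - i).toNat = a - 1 + j - i by omega]
  have hmult : (∑ i ∈ Finset.range (a + 1), C ((-1) ^ i * MvPolynomial.esymm (Fin a) ℤ i) *
      X ^ (a - 1 + j - i) : (MvPolynomial (Fin a) ℤ)[X]) = P * X ^ (j - 1) := by
    show _ = (∏ i : Fin a, (X - C (MvPolynomial.X i))) * X ^ (j - 1)
    rw [prod_expand, Finset.sum_mul]
    refine Finset.sum_congr rfl fun i hi => ?_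
    rw [mul_assoc, ← pow_add]
    have := Finset.mem_range.1 hi
    congr 2
    omega
  have h0 : (∑ i ∈ Finset.range (a + 1), C ((-1) ^ i * MvPolynomial.esymm (Fin a) ℤ i) *
      X ^ (a - 1 + j - i) : (MvPolynomial (Fin a) ℤ)[X]) %ₘ P = 0 := by
    rw [hmult, (modByMonic_eq_zero_iff_dvd hPm).2 (dvd_mul_right _ _)]
  have h1 := congrArg (fun Q => Polynomial.coeff Q (a - 1))
    ((map_sum (modByMonicHom P) _ _).symm.trans h0)
  simp only [finsetSum_coeff, coeff_zero, modByMonicHom_apply] at h1
  rw [← h1]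
  refine Finset.sum_congr rfl fun i hi => ?_
  rw [hcoef i (by have := Finset.mem_range.1 hi; omega), C_mul', smul_modByMonic, coeff_smul, smul_eq_mul]

end Groth.Agent.S3214
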