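import Groth.Statements.S3215
import Groth.Agent.Lib.QSplit21.Basic
-- import your own Groth.Agent.* helpers here

set_option autoImplicit false
universe u
open SGA7II

namespace Groth.Agent.S3215

/-- Let A be a commutative ring and Q(x) = sum over pairs i <= j of a_{ij} x_i x_j a quadratic form in
2m variables on the free module A^{2m} (the source allows a locally free module, which is free
Zariski-locally; the variables indexed by two copies of Fin m, ordered first copy then second),
whose polar bilinear form (matrix entries 2a_{ii} on the diagonal, a_{ij} for i < j) has invertible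
determinant (Q is ordinary). Then there are finitely many etale A-algebras B_t whose spectra jointly
cover Spec A and, over each B_t, an invertible matrix g with Q(g x) = sum_j x_j x_{m+j}, the split
form. -/
theorem result (A : Type u) [CommRing A] (m : ℕ)
    (a : (Fin m ⊕ Fin m) → (Fin m ⊕ Fin m) → A) :
    let rk : Fin m ⊕ Fin m → ℕ := Sum.elim Fin.val (fun k => m + k.val)
    let QB : ∀ (B : Type u) [CommRing B] [Algebra A B], ((Fin m ⊕ Fin m) → B) → B :=
      fun B _ _ x => ∑ i, ∑ j, if rk i ≤ rk j then algebraMap A B (a i j) * x i * x j else 0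
    IsUnit (Matrix.det (Matrix.of fun i j : Fin m ⊕ Fin m =>
      if i = j then a i i + a i i else if rk i ≤ rk j then a i j else a j i)) →
    ∃ (n : ℕ) (B : Fin n → Type u) (_ : ∀ t, CommRing (B t)) (_ : ∀ t, Algebra A (B t)),
      (∀ t, Algebra.Etale A (B t)) ∧
      (∀ p : PrimeSpectrum A, ∃ (t : Fin n) (q : PrimeSpectrum (B t)),
        q.asIdeal.comap (algebraMap A (B t)) = p.asIdeal) ∧
      ∀ t, ∃ g : Matrix (Fin m ⊕ Fin m) (Fin m ⊕ Fin m) (B t), IsUnit g.det ∧
        ∀ x : Fin m ⊕ Fin m → B t, QB (B t) (g.mulVec x) = ∑ j : Fin m, x (Sum.inl j) * x (Sum.inr j) := by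
  classical
  intro rk QB hM
  have hrk : Function.Injective rk := by
    rintro (i | i) (j | j) h <;> simp only [rk, Sum.elim_inl, Sum.elim_inr] at h
    · exact congrArg _ (Fin.ext h)
    · omega
    · omega
    · exact congrArg _ (Fin.ext (by omega))
  let C : Matrix (Fin m ⊕ Fin m) (Fin m ⊕ Fin m) A :=
    Matrix.of fun i j => if rk i ≤ rk j then a i j else 0
  have hC : C + C.transpose = Matrix.of fun i j : Fin m ⊕ Fin m =>
      if i = j then a i i + a i i else if rk i ≤ rk j then a i j else a j i := by
    ext i j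
    by_cases hij : i = j
    · subst hij; simp [C]
    · have : rk i ≠ rk j := fun e => hij (hrk e)
      rcases lt_or_gt_of_ne this with h | h
      · simp [C, hij, h.le, not_le.mpr h]
      · simp [C, hij, h.le, not_le.mpr h]
  obtain ⟨n, B, iC, iA, hE, hcov, hH⟩ :=
    GrothLib.QSplit21.exists_cover C (hC ▸ hM) m (by simp; omega)
  refine ⟨n, B, iC, iA, hE, hcov, fun t => ?_⟩
  obtain ⟨e, f, h⟩ := hH t
  obtain ⟨g, hg, hQ⟩ := GrothLib.QSplit21.exists_split _ e f h
  refine ⟨g, hg, fun x => ?_⟩
  rw [← hQ x]
  generalize g.mulVec x = y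
  simp only [QB, GrothLib.QSplit21.qf, dotProduct, Matrix.mulVec, Finset.mul_sum]
  refine Finset.sum_congr rfl fun i _ => Finset.sum_congr rfl fun j _ => ?_
  by_cases h : rk i ≤ rk j
  · simp [C, h]; ring
  · simp [C, h]

end Groth.Agent.S3215
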