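import Groth.Statements.S3244
import Groth.Agent.Lib.EtTrace21.Killed
import Groth.Agent.Lib.EtBasicB.RootCover

set_option backward.isDefEq.respectTransparency false
open CategoryTheory CategoryTheory.Limits AlgebraicGeometry

set_option autoImplicit false
universe u
open CategoryTheory AlgebraicGeometry
open Dix

namespace Groth.Agent.S3244

theorem powMap_epi_of_invertible (X : Scheme.{u}) (n : ℕ) (hX : Dix.InvertibleOn X n) : Epi (EtCoh.powMap X n) := by
  refine GrothLib.EtBasicB.powMap_epi X n ?_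
  have h : X.basicOpen (n : Γ(X, ⊤)) = ⊤ := by
    refine top_le_iff.1 fun x _ => ?_
    rw [X.mem_basicOpen (n : Γ(X, ⊤)) x (TopologicalSpace.Opens.mem_top x), map_natCast]
    by_contra hu
    refine hX x ?_
    rw [← map_natCast (X.residue x).hom n]
    exact (IsLocalRing.residue_eq_zero_iff _).2 ((IsLocalRing.mem_maximalIdeal _).2 hu)
  have := X.toRingedSpace.isUnit_of_isUnit_germ ⊤ (n : Γ(X, ⊤)) fun x hx => (X.mem_basicOpen _ x hx).1 (h.ge hx)
  exact this


/-- Kummer theory at finite level: let n > 0 be an integer invertible on the scheme X (nonzero in every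
residue field). Then for every i ≥ 1 the image of H^i(X_ét, μ_n) → H^i(X_ét, G_m), induced by the
inclusion μ_n → G_m, is exactly the subgroup of elements of H^i(X_ét, G_m) killed by n; in
particular H²(X_ét, μ_n) maps onto the n-torsion of the cohomological Brauer group H²(X_ét, G_m).
(The published statement gives exact sequences obtained as the colimit of these over the powers n =
ℓ^m of a prime ℓ.) -/
theorem result (X : Scheme.{u}) (n : ℕ) (hn : 0 < n) (hX : Dix.InvertibleOn X n) (i : ℕ) (hi : 1 ≤ i) : Set.range ⇑((EtCoh.HF X i).map (EtCoh.muι X n)) = {ξ : (EtCoh.HF X i).obj (EtCoh.Gm X) | n • ξ = 0} := by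
  haveI := powMap_epi_of_invertible X n hX
  let S := ShortComplex.mk (EtCoh.muι X n) (EtCoh.powMap X n) (kernel.condition _)
  haveI : Mono S.f := inferInstanceAs (Mono (kernel.ι _))
  have hS : S.ShortExact := { exact := S.exact_of_f_is_kernel (kernelIsKernel _) }
  ext ξ
  have key : Abelian.Ext.comp (ξ : EtCoh.H X (EtCoh.Gm X) i) (Abelian.Ext.mk₀ S.g) (add_zero i) = n • (ξ : EtCoh.H X (EtCoh.Gm X) i) :=
    GrothLib.EtTrace21.comp_nsmul_id _ n
  constructor
  · rintro ⟨w, rfl⟩
    show n • (Abelian.Ext.comp (w : EtCoh.H X (EtCoh.mu X n) i) (Abelian.Ext.mk₀ S.f) (add_zero i) : EtCoh.H X (EtCoh.Gm X) i) = 0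
    rw [← GrothLib.EtTrace21.comp_nsmul_id, Abelian.Ext.comp_assoc_of_third_deg_zero, Abelian.Ext.mk₀_comp_mk₀,
      show S.f ≫ (n • 𝟙 (EtCoh.Gm X)) = 0 from S.zero, Abelian.Ext.mk₀_zero, Abelian.Ext.comp_zero]
  · intro h
    obtain ⟨w, hw⟩ := Abelian.Ext.covariant_sequence_exact₂ _ hS (ξ : EtCoh.H X (EtCoh.Gm X) i) (key.trans h)
    exact ⟨w, hw⟩

end Groth.Agent.S3244
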