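import Groth.Statements.S3256
import Groth.Agent.Lib.ArSurf29.RelMinExists

set_option autoImplicit false
universe u
open AlgebraicGeometry CategoryTheory CategoryTheory.Limits
open ArSurf

namespace Groth.Agent.S3256

/-- Let R be a Dedekind domain and X an arithmetic surface over Spec R. Then there are a relatively
minimal arithmetic surface Y over Spec R and an R-morphism X -> Y inducing an isomorphism on generic
fibres. -/
theorem result {R : Type u} [CommRing R] [IsDedekindDomain R]
    (X : Over (Spec (CommRingCat.of R))) (hX : ArSurf.IsArithSurface R X) :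
    ∃ (Y : Over (Spec (CommRingCat.of R))) (f : X ⟶ Y), ArSurf.IsArithSurface R Y ∧
      Neron.IsRelMinimalRegularModel R Y ∧ IsIso ((Neron.genericFibre R).map f) := by
  haveI := hX.2.1
  haveI := hX.2.2.2.1
  have hp : ∀ Y : Over (Spec (CommRingCat.of R)), Neron.IsProjectiveOver R Y → IsProper Y.hom := by
    rintro Y ⟨n, i, hi, hw⟩
    haveI := hi
    haveI := GrothLib.Chow.isProper_toBase n (Spec (CommRingCat.of R))
    exact hw ▸ inferInstance
  haveI := hp X hX.2.2.2.2
  by_cases hR : IsField R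
  · refine ⟨X, 𝟙 X, hX, ⟨hX.1, hX.2.2.2.2, inferInstance, fun Z _ _ _ g hg => ?_⟩, by rw [CategoryTheory.Functor.map_id]; infer_instance⟩
    letI := hR.toField
    haveI : IsIso (CommRingCat.ofHom (algebraMap R (FractionRing R))) :=
      (ConcreteCategory.isIso_iff_bijective _).2 ⟨IsFractionRing.injective R (FractionRing R), fun z => by
          obtain ⟨a, b, hb, rfl⟩ := IsFractionRing.div_surjective (A := R) z
          exact ⟨a / b, map_div₀ (algebraMap R (FractionRing R)) a b⟩⟩
    haveI : IsIso (Neron.genPt R) := inferInstanceAs (IsIso (Spec.map (CommRingCat.ofHom (algebraMap R (FractionRing R)))))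
    haveI : IsIso ((Neron.genericFibre R).map g).left := (Over.forget _).map_isIso ((Neron.genericFibre R).map g)
    haveI : IsIso (pullback.fst X.hom (Neron.genPt R) ≫ g.left) := by
      rw [← GrothLib.ArSurf29.genericFibre_map_fst g]; infer_instance
    haveI : IsIso g.left := IsIso.of_isIso_comp_left (pullback.fst X.hom (Neron.genPt R)) g.left
    haveI : IsIso ((Over.forget _).map g) := ‹IsIso g.left›
    exact isIso_of_reflects_iso g (Over.forget _)
  have hN : ∀ x, IsIntegrallyClosed (X.left.presheaf.stalk x) := fun x => by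
    haveI := hX.1 x
    exact GrothLib.RegLoc.isIntegrallyClosed_of_isRegularLocalRing _
  obtain ⟨T, hT, hbound⟩ := GrothLib.ArSurf29.exists_bound_contracted hN hX.2.2.1
  let cands : Set (Set X.left) := {S | ∃ (Y : Over (Spec (CommRingCat.of R))) (f : X ⟶ Y),
    ArSurf.IsArithSurface R Y ∧ IsIso ((Neron.genericFibre R).map f) ∧ GrothLib.ArSurf29.contractedPts f = S}
  have hfin : cands.Finite := hT.finite_subsets.subset fun S hS => by
    obtain ⟨Y, f, hY, hf, rfl⟩ := hS
    exact hbound Y f hY.1 (hp Y hY.2.2.2.2) hY.2.2.2.1 hY.2.2.1 hf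
  obtain ⟨S, hSmax⟩ := hfin.exists_maximal ⟨_, X, 𝟙 X, hX, by rw [CategoryTheory.Functor.map_id]; infer_instance, rfl⟩
  obtain ⟨Y, f, hY, hf, rfl⟩ := hSmax.1
  haveI := hf
  haveI := hY.2.1
  haveI := hY.2.2.2.1
  haveI := hp Y hY.2.2.2.2
  refine ⟨Y, f, hY, ⟨hY.1, hY.2.2.2.2, inferInstance, fun Z hZ hZp hZf g hg => ?_⟩, hf⟩
  haveI := hg
  haveI := hZf
  haveI := hp Z hZp
  refine GrothLib.ArSurf29.isIso_of_contractedPts_eq_empty hZ g (Set.eq_empty_of_forall_notMem fun w hw => ?_)
  obtain ⟨hZint, -, -⟩ := GrothLib.ArSurf29.target_integral g hZ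
  have hZarith : ArSurf.IsArithSurface R Z := ⟨hZ, hZint, GrothLib.ArSurf29.target_dim g hZ hY.2.2.1 hR, hZf, hZp⟩
  have hfg : IsIso ((Neron.genericFibre R).map (f ≫ g)) := by rw [Functor.map_comp]; infer_instance
  haveI : IsProper (f.left ≫ Y.hom) := by rw [Over.w f]; infer_instance
  haveI : IsProper f.left := IsProper.of_comp f.left Y.hom
  haveI : IsProper (g.left ≫ Z.hom) := by rw [Over.w g]; infer_instance
  haveI : IsProper g.left := IsProper.of_comp g.left Z.hom
  have hsub : GrothLib.ArSurf29.contractedPts f ⊆ GrothLib.ArSurf29.contractedPts (f ≫ g) := by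
    rintro x ⟨hxc, hxv, hfx⟩
    refine ⟨hxc, hxv, ?_⟩
    show IsClosed ({g.left (f.left x)} : Set Z.left)
    rw [← Set.image_singleton]
    exact g.left.isClosedMap _ hfx
  have heq := hSmax.2 ⟨Z, f ≫ g, hZarith, hfg, rfl⟩ hsub
  obtain ⟨_, -, hsurj⟩ := GrothLib.ArSurf29.target_integral f hY.1
  obtain ⟨hwc, hwv, hgw⟩ := hw
  obtain ⟨x, rfl⟩ := hsurj w
  have hx : x ∈ GrothLib.ArSurf29.contractedPts (f ≫ g) := by
    refine ⟨fun hc => hwc ?_, ?_, hgw⟩
    · rw [← Set.image_singleton]
      exact f.left.isClosedMap _ hc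
    · rw [← GrothLib.ArSurf29.over_apply f]
      exact hwv
  exact hwc (heq hx).2.2

end Groth.Agent.S3256
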