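import Groth.Statements.S3257
import Groth.Agent.Lib.ArSurf29.FactorBlowUpIso

set_option autoImplicit false
universe u
open AlgebraicGeometry CategoryTheory CategoryTheory.Limits
open ArSurf

namespace Groth.Agent.S3257

/-- Let R be a Dedekind domain, X and Y arithmetic surfaces over Spec R, f : X -> Y an R-morphism and y
a closed point of Y such that f restricts to an isomorphism over Y minus y while the fibre of f over
y is irreducible and has more than one point (so the exceptional locus of the birational morphism f
is irreducible). Then f is the blowing-up of Y at y: it has the universal property of the blow-up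
along the ideal of the reduced closed point y (BlowUp.IsBlowUp). (The factorization result of the
source says more generally that every birational morphism of regular fibered surfaces is a finite
sequence of blow-ups of closed points.) -/
theorem result {R : Type u} [CommRing R] [IsDedekindDomain R]
    (X Y : Over (Spec (CommRingCat.of R))) (hX : ArSurf.IsArithSurface R X) (hY : ArSurf.IsArithSurface R Y)
    (f : X ⟶ Y) (y : Y.left) (hy : IsClosed ({y} : Set Y.left))
    (hiso : IsIso (f.left ∣_ (⟨{y}ᶜ, hy.isOpen_compl⟩ : Y.left.Opens)))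
    (hirr : IsPreirreducible (f.left.base ⁻¹' {y}))
    (hbig : ∃ x x' : X.left, x ≠ x' ∧ f.left.base x = y ∧ f.left.base x' = y) :
    BlowUp.IsBlowUp f.left (Scheme.IdealSheafData.vanishingIdeal ⟨{y}, hy⟩) := by
  obtain ⟨hXreg, hXint, hXdim, -, n, i, hi, hw⟩ := hX
  obtain ⟨hYreg, hYint, hYdim, -, m, j, hj, hjw⟩ := hY
  haveI := hi; haveI := hj; haveI := hXint; haveI := hYint
  haveI := GrothLib.Chow.isProper_toBase n (Spec (CommRingCat.of R))
  haveI := GrothLib.Chow.isProper_toBase m (Spec (CommRingCat.of R))
  haveI : IsProper X.hom := hw ▸ inferInstance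
  haveI : IsProper Y.hom := hjw ▸ inferInstance
  haveI : IsLocallyNoetherian X.left := LocallyOfFiniteType.isLocallyNoetherian X.hom
  haveI : IsLocallyNoetherian Y.left := LocallyOfFiniteType.isLocallyNoetherian Y.hom
  haveI : CompactSpace X.left := QuasiCompact.compactSpace_of_compactSpace X.hom
  haveI : IsProper (f.left ≫ Y.hom) := by rw [Over.w f]; infer_instance
  haveI : IsProper f.left := IsProper.of_comp f.left Y.hom
  haveI := hYreg y
  have hy0 : IsLocalRing.maximalIdeal (Y.left.presheaf.stalk y) ≠ ⊥ := by
    intro h0
    have hsub : Subsingleton (Spec (Y.left.presheaf.stalk y)) := ⟨fun p q => PrimeSpectrum.ext (by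
      rw [eq_bot_iff.2 (h0 ▸ IsLocalRing.le_maximalIdeal p.isPrime.ne_top : p.asIdeal ≤ ⊥),
        eq_bot_iff.2 (h0 ▸ IsLocalRing.le_maximalIdeal q.isPrime.ne_top : q.asIdeal ≤ ⊥)])⟩
    have hyη : y = genericPoint Y.left := by
      obtain ⟨p, hp⟩ : genericPoint Y.left ∈ Set.range (Y.left.fromSpecStalk y) := by
        rw [Scheme.range_fromSpecStalk]; exact genericPoint_specializes y
      rw [← hp, Subsingleton.elim p (IsLocalRing.closedPoint _), Scheme.fromSpecStalk_closedPoint]
    have hone : ∀ z : Y.left, z = y := fun z => ((hyη ▸ genericPoint_specializes z : y ⤳ z).mem_closed hy rfl)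
    haveI : Subsingleton (TopologicalSpace.IrreducibleCloseds Y.left) := ⟨fun a b => by
      refine TopologicalSpace.IrreducibleCloseds.ext ?_
      ext z
      obtain ⟨p, hp⟩ := a.isIrreducible.1
      obtain ⟨q, hq⟩ := b.isIrreducible.1
      rw [hone z]
      exact ⟨fun _ => hone q ▸ hq, fun _ => hone p ▸ hp⟩⟩
    have h2 : topologicalKrullDim Y.left ≤ 0 := Order.krullDim_nonpos_of_subsingleton
    rw [hYdim] at h2
    exact absurd h2 (by decide)
  exact GrothLib.ArSurf29.isBlowUp_of_irreducible_fibre f.left hXreg hXdim.le hYreg y hy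
    ((GrothLib.Ref1.ringKrullDim_stalk_le_topologicalKrullDim y).trans hYdim.le) hy0 hiso hirr hbig

end Groth.Agent.S3257
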