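import Groth.Statements.S3258
import Groth.Agent.Lib.ArSurf29.RelMinimal

set_option autoImplicit false
universe u
open AlgebraicGeometry CategoryTheory CategoryTheory.Limits
open ArSurf

namespace Groth.Agent.S3258

/-- Let R be a Dedekind domain and X an arithmetic surface over Spec R (a regular, integral scheme of
dimension 2, flat and projective over Spec R) which is smooth over Spec R. Then X is relatively
minimal: every R-morphism from X to a regular, projective, flat R-scheme that is an isomorphism on
generic fibres is an isomorphism. -/
theorem result {R : Type u} [CommRing R] [IsDedekindDomain R]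
    (X : Over (Spec (CommRingCat.of R))) (hX : ArSurf.IsArithSurface R X) [Smooth X.hom] :
    Neron.IsRelMinimalRegularModel R X := by
  obtain ⟨hreg, hint, hdim, hflat, n, i, hi, hw⟩ := hX
  refine ⟨hreg, ⟨n, i, hi, hw⟩, hflat, fun Y hY hYp hYf g hg => ?_⟩
  haveI := hint
  haveI := hYf
  haveI := hi
  haveI := GrothLib.Chow.isProper_toBase n (Spec (CommRingCat.of R))
  haveI : IsProper X.hom := hw ▸ inferInstance
  obtain ⟨m, j, hj, hjw⟩ := hYp
  haveI := hj
  haveI := GrothLib.Chow.isProper_toBase m (Spec (CommRingCat.of R))
  haveI : IsProper Y.hom := hjw ▸ inferInstance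
  exact GrothLib.ArSurf29.isIso_of_smooth hdim hY g

end Groth.Agent.S3258
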