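import Groth.Statements.S3290
import Groth.Agent.Lib.Lambda.Split

set_option autoImplicit false
universe u
open Finset
open LambdaRing

namespace Groth.Agent.S3290

/-- For a positive element e of augmentation m in a λ-ring with positive structure, the polynomials
Σ_{i=0}^{m} γ^i(e − m) t^(m−i) and Σ_{i=0}^{m} λ^i(e) (t − 1)^(m−i) are equal. -/
theorem result (K : Type u) [CommRing K] [LambdaRing.LambdaOps K] (P : LambdaRing.PosStructure K) (e : K) (he : e ∈ P.pos) :
    (∑ i ∈ range ((P.aug e).toNat + 1),
        Polynomial.C (LambdaRing.gamma i (e - ((P.aug e).toNat : K))) * Polynomial.X ^ ((P.aug e).toNat - i)) =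
      ∑ i ∈ range ((P.aug e).toNat + 1),
        Polynomial.C (LambdaRing.LambdaOps.lam i e) * (Polynomial.X - 1) ^ ((P.aug e).toNat - i) := by
  set m := (P.aug e).toNat with hm
  have h1 := GrothLib.Lambda.lam_one_eq_zero_of_pos P
  have hneg : ∀ c r : ℕ, LambdaRing.LambdaOps.lam r (-((c + 1 : ℕ) : K)) =
      (-1) ^ r * ((c + r).choose r : K) := by
    have step : ∀ (y : K) (r : ℕ), LambdaRing.LambdaOps.lam (r + 1) (y + 1) =
        LambdaRing.LambdaOps.lam (r + 1) y + LambdaRing.LambdaOps.lam r y := by
      intro y r
      rw [LambdaRing.LambdaOps.lam_add, sum_range_succ, sum_range_succ, sum_eq_zero, Nat.sub_self,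
        Nat.add_sub_cancel_left, LambdaRing.LambdaOps.lam_zero, LambdaRing.LambdaOps.lam_one,
        mul_one, mul_one, zero_add, add_comm]
      intro i hi
      rw [Finset.mem_range] at hi
      rw [h1 (r + 1 - i) (by omega), mul_zero]
    intro c
    induction c with
    | zero =>
      intro r
      induction r with
      | zero => simp [LambdaRing.LambdaOps.lam_zero]
      | succ r ih =>
        have h := step (-((0 + 1 : ℕ) : K)) r
        rw [ih, show -((0 + 1 : ℕ) : K) + 1 = 0 by simp, GrothLib.Lambda.lam_succ_zero] at h
        simp only [Nat.zero_add, Nat.choose_self, Nat.cast_one, mul_one] at h ⊢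
        linear_combination -h
    | succ c ihc =>
      intro r
      induction r with
      | zero => simp [LambdaRing.LambdaOps.lam_zero]
      | succ r ih =>
        have h := step (-((c + 1 + 1 : ℕ) : K)) r
        rw [ih, show -((c + 1 + 1 : ℕ) : K) + 1 = -((c + 1 : ℕ) : K) by push_cast; ring, ihc] at h
        rw [show c + 1 + (r + 1) = c + (r + 1) + 1 by omega, Nat.choose_succ_succ']
        rw [show c + (r + 1) = c + 1 + r by omega] at h ⊢
        push_cast at h ⊢
        linear_combination -h
  have hlam : ∀ i, m < i → LambdaRing.LambdaOps.lam i e = 0 := fun i hi =>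
    P.lam_eq_zero e he i (by have := P.aug_pos e he; omega)
  refine Polynomial.ext fun l => ?_
  simp only [Polynomial.finsetSum_coeff, Polynomial.coeff_C_mul, Polynomial.coeff_X_pow]
  simp only [show (Polynomial.X - 1 : Polynomial K) = Polynomial.X + Polynomial.C (-1) by
    rw [map_neg, map_one, sub_eq_add_neg], Polynomial.coeff_X_add_C_pow]
  by_cases hl : l ≤ m
  · rw [Finset.sum_eq_single_of_mem (m - l) (Finset.mem_range.2 (by omega)) fun i hi hne => by
      rw [Finset.mem_range] at hi
      rw [if_neg (by omega), mul_zero], if_pos (by omega), mul_one]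
    rcases Nat.eq_zero_or_pos (m - l) with hk | hk
    · rw [hk, GrothLib.Lambda.gamma_zero_left, Finset.sum_eq_single_of_mem 0 (by simp) fun i hi hne => by
        rw [Finset.mem_range] at hi
        rw [Nat.choose_eq_zero_of_lt (by omega), Nat.cast_zero, mul_zero, mul_zero]]
      rw [show l = m by omega]
      simp [LambdaRing.LambdaOps.lam_zero]
    · rw [GrothLib.Lambda.gamma_eq_lam h1,
        show e - (m : K) + ((m - l : ℕ) : K) - 1 = e + -((l + 1 : ℕ) : K) by
          push_cast [Nat.cast_sub hl]; ring,
        LambdaRing.LambdaOps.lam_add]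
      rw [← Finset.sum_subset (s₁ := Finset.range (m - l + 1)) (s₂ := Finset.range (m + 1)) (Finset.range_mono (by omega))
        (fun i hi hi' => by
          rw [Finset.mem_range] at hi hi'
          rw [Nat.choose_eq_zero_of_lt (by omega), Nat.cast_zero, mul_zero, mul_zero])]
      refine Finset.sum_congr rfl fun i hi => ?_
      rw [Finset.mem_range] at hi
      rw [hneg, show m - i - l = m - l - i by omega, show l + (m - l - i) = m - i by omega,
        ← Nat.choose_symm (show m - l - i ≤ m - i by omega), show m - i - (m - l - i) = l by omega]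
  · rw [Finset.sum_eq_zero fun i _ => ?_, Finset.sum_eq_zero fun i _ => ?_]
    · rw [Nat.choose_eq_zero_of_lt (by omega), Nat.cast_zero, mul_zero, mul_zero]
    · rw [if_neg (by omega), mul_zero]

end Groth.Agent.S3290
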