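import Groth.Statements.S3314
import Groth.Agent.Lib.ArSurf29.Torsion

set_option autoImplicit false
universe u
open CategoryTheory CategoryTheory.Limits AlgebraicGeometry
open Models

namespace Groth.Agent.S3314

/-- Let R be a discrete valuation ring with fraction field K, C a smooth proper curve over K with H⁰(C,
O_C) = K, X a regular proper model of C over R, Γ_1, …, Γ_n the irreducible components of the closed
fibre with multiplicities m_i, and L_i invertible O_X-modules with L_i ⊗ I(Γ_i) ≅ O_X (that is, L_i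
= O_X(Γ_i)). For exponent vectors a, b with natural-number entries, the modules L_1^{a_1} ⊗ ⋯ ⊗
L_n^{a_n} and L_1^{b_1} ⊗ ⋯ ⊗ L_n^{b_n} are isomorphic if and only if a − b is an integer multiple
of (m_1, …, m_n). (Equivalently: the kernel of ℤⁿ → Pic(X), e_i ↦ [O_X(Γ_i)], is generated by (m_1,
…, m_n).) -/
theorem result (R : Type u) [CommRing R] [IsDomain R] [IsDiscreteValuationRing R]
    (C X : Scheme.{u}) (f : C ⟶ Spec (CommRingCat.of (FractionRing R))) (p : X ⟶ Spec (CommRingCat.of R))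
    (hC : Curve.IsSmoothProperCurve (FractionRing R) C f) (hH0 : IsIso f.appTop)
    (hX : Models.IsRegularProperModel R X p C f)
    {n : ℕ} (Γ : Fin n → ArSurf.VertComp R (Over.mk p)) (hΓ : Models.IsComponentList R (Over.mk p) Γ)
    (L : Fin n → X.Modules) (hL : ∀ i, ClSub.IsInverseOf (L i) (ClSub.idealMod (Γ i).ι.ker)) (a b : Fin n → ℕ) :
    Nonempty (FGA.multiTwist L a ≅ FGA.multiTwist L b) ↔
      ∃ c : ℤ, ∀ i, (a i : ℤ) - (b i : ℤ) = c * (Models.mult R (Over.mk p) (Γ i) : ℤ) := by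
  haveI : Flat (Over.mk p).hom := hX.1.1
  haveI : IsProper (Over.mk p).hom := hX.2.1
  haveI : IsLocallyNoetherian (Over.mk p).left :=
    LocallyOfFiniteType.isLocallyNoetherian (Over.mk p).hom
  obtain ⟨g, hg⟩ := hX.1.2.2.2
  obtain ⟨ha, ea⟩ := GrothLib.ArSurf29.cls_multiTwist (GrothLib.ArSurf29.isInvertible_inverse hX.2.2 hΓ hL) a
  obtain ⟨hb, eb⟩ := GrothLib.ArSurf29.cls_multiTwist (GrothLib.ArSurf29.isInvertible_inverse hX.2.2 hΓ hL) b
  rw [← GrothLib.Cube.clsMod_eq_iff ha hb, ea, eb, ← mul_inv_eq_one, ← Finset.prod_inv_distrib, ← Finset.prod_mul_distrib,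
    ← GrothLib.ArSurf29.prod_vcls_zpow_eq_one_iff hX.2.2 hΓ hL hg hH0]
  refine Eq.congr_left (Finset.prod_congr rfl fun j _ => ?_)
  rw [zpow_sub, zpow_natCast, zpow_natCast]
  rfl

end Groth.Agent.S3314
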