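import Groth.Statements.S3322
import Groth.Agent.Lib.ArSurf29.GenusFormula
import Groth.Agent.Lib.ArSurf29.Constants

set_option autoImplicit false
universe u
open CategoryTheory CategoryTheory.Limits AlgebraicGeometry
open Models

namespace Groth.Agent.S3322

/-- In the following situation (R a discrete valuation ring with residue field k, C a smooth proper
curve over its fraction field K with H^0(C, O_C) = K, X a regular proper model, Γ_1, …, Γ_n the
irreducible components of the closed fibre with multiplicities m_i, L_i ⊗ I(Γ_i) ≅ O_X) the data n,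
m_i, a_ij = (Γ_i · Γ_j) = deg_k(L_j|Γ_i), w_i = dim_k H^0(Γ_i, O) and g_i with w_i g_i = dim_k
H^1(Γ_i, O) is a numerical type (n > 0, m_i > 0, (a_ij) symmetric with non-negative off-diagonal
entries, connected, killing m, w_i | a_ij, g_i ≥ 0), and its genus is the genus dim_K H^1(C, O_C) of
C. -/
theorem result (R : Type u) [CommRing R] [IsDomain R] [IsDiscreteValuationRing R]
    (C X : Scheme.{u}) (f : C ⟶ Spec (CommRingCat.of (FractionRing R))) (p : X ⟶ Spec (CommRingCat.of R))
    (hC : Curve.IsSmoothProperCurve (FractionRing R) C f) (hH0 : IsIso f.appTop)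
    (hX : Models.IsRegularProperModel R X p C f)
    {n : ℕ} (Γ : Fin n → ArSurf.VertComp R (Over.mk p)) (hΓ : Models.IsComponentList R (Over.mk p) Γ)
    (L : Fin n → X.Modules) (hL : ∀ i, ClSub.IsInverseOf (L i) (ClSub.idealMod (Γ i).ι.ker)) :
    ∃ T : Models.NumericalType n,
      (∀ i, T.m i = (Models.mult R (Over.mk p) (Γ i) : ℤ)) ∧ (∀ i j, T.a i j = ArSurf.inter R (Over.mk p) (L j) (Γ i)) ∧
      (∀ i, T.w i = (Models.wdeg R (Over.mk p) (Γ i) : ℤ)) ∧
      (∀ i, T.w i * T.g i = (Models.h1 R (Over.mk p) (Γ i) : ℤ)) ∧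
      T.genus = (Models.curveGenus (FractionRing R) C f : ℤ) := by
  haveI : Flat (Over.mk p).hom := hX.1.1
  haveI : IsProper (Over.mk p).hom := hX.2.1
  haveI : IsLocallyNoetherian (Over.mk p).left :=
    LocallyOfFiniteType.isLocallyNoetherian (Over.mk p).hom
  obtain ⟨g, hg⟩ := hX.1.2.2.2
  haveI : IsIntegral C := hC.2.2.1
  haveI : Nonempty (Fin n) := GrothLib.ArSurf29.nonempty_fin (X := Over.mk p) hΓ g inferInstance
  have hn : 0 < n := Fin.pos (Classical.arbitrary (Fin n))
  choose q hq using fun i => GrothLib.ArSurf29.wdeg_dvd_h1 (Γ i)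
  let T : Models.NumericalType n :=
    { m := fun i => (Models.mult R (Over.mk p) (Γ i) : ℤ)
      a := fun i j => ArSurf.inter R (Over.mk p) (L j) (Γ i)
      w := fun i => (Models.wdeg R (Over.mk p) (Γ i) : ℤ)
      g := fun i => (q i : ℤ)
      pos := hn
      m_pos := fun i => by exact_mod_cast GrothLib.ArSurf29.mult_pos (GrothLib.ArSurf29.isMaxComp hΓ i) hX.2.2
      w_pos := fun i => by exact_mod_cast GrothLib.ArSurf29.wdeg_pos (Γ i)
      g_nonneg := fun i => Int.natCast_nonneg _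
      symm := Matrix.IsSymm.ext fun i j => (GrothLib.ArSurf29.inter_symm hX.2.2 hΓ hL i j).symm
      offDiag_nonneg := fun i j h => (GrothLib.ArSurf29.inter_nonneg_of_ne hX.2.2 hΓ hL h).1
      connected := GrothLib.ArSurf29.exists_inter_ne_zero (X := Over.mk p) hX.2.2 hΓ hL (GrothLib.ArSurf29.isPreconnected_fibre hg hH0)
      mulVec_m := funext fun i =>
        (Finset.sum_congr rfl fun j _ => mul_comm _ _).trans (GrothLib.ArSurf29.sum_mult_inter hX.2.2 hΓ hL i)
      w_dvd := fun i j => GrothLib.ArSurf29.wdeg_dvd_inter (Γ i) (GrothLib.ArSurf29.isInvertible_inverse hX.2.2 hΓ hL j) }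
  refine ⟨T, fun i => rfl, fun i j => rfl, fun i => rfl, fun i => ?_, ?_⟩
  · show (Models.wdeg R (Over.mk p) (Γ i) : ℤ) * (q i : ℤ) = _
    rw [hq i]
    push_cast
    rfl
  · have h := GrothLib.ArSurf29.genus_formula (X := Over.mk p) hX.2.2 hΓ hL hg hH0
    show 1 + ∑ i, (Models.mult R (Over.mk p) (Γ i) : ℤ) * (Models.wdeg R (Over.mk p) (Γ i) : ℤ) * ((q i : ℤ) - 1) -
      (∑ i, (Models.mult R (Over.mk p) (Γ i) : ℤ) * ArSurf.inter R (Over.mk p) (L i) (Γ i)) / 2 = _
    have h2 : ∑ i, (Models.mult R (Over.mk p) (Γ i) : ℤ) *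
          (2 * ((Models.h1 R (Over.mk p) (Γ i) : ℤ) - (Models.wdeg R (Over.mk p) (Γ i) : ℤ)) - ArSurf.inter R (Over.mk p) (L i) (Γ i)) =
        2 * ∑ i, (Models.mult R (Over.mk p) (Γ i) : ℤ) * (Models.wdeg R (Over.mk p) (Γ i) : ℤ) * ((q i : ℤ) - 1) -
          ∑ i, (Models.mult R (Over.mk p) (Γ i) : ℤ) * ArSurf.inter R (Over.mk p) (L i) (Γ i) := by
      rw [Finset.mul_sum, ← Finset.sum_sub_distrib]
      exact Finset.sum_congr rfl fun i _ => by rw [hq i]; push_cast; ring
    omega

end Groth.Agent.S3322
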