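import Groth.Statements.S3327
import Groth.Agent.Lib.ArSurf29.ExcMeet

set_option autoImplicit false
universe u
open CategoryTheory CategoryTheory.Limits AlgebraicGeometry
open Models

namespace Groth.Agent.S3327

/-- In the following situation (R a discrete valuation ring with residue field k, C a smooth proper
curve over its fraction field K with H^0(C, O_C) = K, X a regular proper model, Γ_1, …, Γ_n the
irreducible components of the closed fibre with multiplicities m_l), suppose Γ_i and Γ_j (i ≠ j) are
exceptional curves of the first kind which meet. Then n = 2, all multiplicities are 1, every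
component is k-isomorphic to the projective line over k, Γ_i and Γ_j meet in a single point x with
residue field k, scheme-theoretically (I(Γ_i) + I(Γ_j) is the ideal of the reduced point x), and C
has genus zero. -/
theorem result (R : Type u) [CommRing R] [IsDomain R] [IsDiscreteValuationRing R]
    (C X : Scheme.{u}) (f : C ⟶ Spec (CommRingCat.of (FractionRing R))) (p : X ⟶ Spec (CommRingCat.of R))
    (hC : Curve.IsSmoothProperCurve (FractionRing R) C f) (hH0 : IsIso f.appTop)
    (hX : Models.IsRegularProperModel R X p C f)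
    {n : ℕ} (Γ : Fin n → ArSurf.VertComp R (Over.mk p)) (hΓ : Models.IsComponentList R (Over.mk p) Γ)
    (i j : Fin n) (hij : i ≠ j) (hi : Models.IsExcCurve (Γ i).ι) (hj : Models.IsExcCurve (Γ j).ι)
    (hmeet : ¬ Disjoint (Set.range ((Γ i).ι.base : (Γ i).curve.left → X))
      (Set.range ((Γ j).ι.base : (Γ j).curve.left → X))) :
    n = 2 ∧ (∀ l, Models.mult R (Over.mk p) (Γ l) = 1) ∧
      (∀ l, ∃ e : (Γ l).curve.left ≅ CohB1.ProjSpace 1 (IsLocalRing.ResidueField R),
        e.hom ≫ CohB1.ProjSpace.toSpec 1 (IsLocalRing.ResidueField R) = (Γ l).curve.hom) ∧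
      (∃ x : X, Set.range ((Γ i).ι.base : (Γ i).curve.left → X) ∩ Set.range ((Γ j).ι.base : (Γ j).curve.left → X) = {x} ∧
        (Γ i).ι.ker ⊔ (Γ j).ι.ker =
          Scheme.IdealSheafData.vanishingIdeal ⟨closure {x}, isClosed_closure⟩ ∧
        Function.Surjective ((X.residue x).hom.comp (Models.stalkHom R (Over.mk p) x))) ∧
      Models.curveGenus (FractionRing R) C f = 0 := by
  haveI : Flat (Over.mk p).hom := hX.1.1
  haveI : IsProper (Over.mk p).hom := hX.2.1
  haveI : IsLocallyNoetherian (Over.mk p).left :=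
    LocallyOfFiniteType.isLocallyNoetherian (Over.mk p).hom
  obtain ⟨g, hg⟩ := hX.1.2.2.2
  classical
  obtain ⟨L, hL⟩ := GrothLib.ArSurf29.exists_inverses (X := Over.mk p) hX.2.2 hΓ
  obtain ⟨hn, hm, hw, hh, hLij, hg0⟩ := GrothLib.ArSurf29.excCurves_meet (X := Over.mk p) hX.2.2 hΓ hL hg hH0 i j hij hi hj hmeet
  have hmax := fun l => GrothLib.ArSurf29.isMaxComp (X := Over.mk p) hΓ l
  have hE := fun l => GrothLib.ArSurf29.isEffCartier_ker (hmax l) hX.2.2
  refine ⟨hn, hm, fun l => ?_, ?_, hg0⟩
  · obtain ⟨h1, hs⟩ := hh l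
    haveI := (Γ l).isIntegral
    haveI := GrothLib.ArSurf29.isProper_curve (Γ l)
    letI : (Γ l).curve.left.Over (Spec (CommRingCat.of (IsLocalRing.ResidueField R))) := ⟨(Γ l).curve.hom⟩
    haveI : IsProper ((Γ l).curve.left ↘ Spec (CommRingCat.of (IsLocalRing.ResidueField R))) :=
      GrothLib.ArSurf29.isProper_curve (Γ l)
    haveI := GrothLib.Euler.isNoetherian_of_proper (X := (Γ l).curve.left) (IsLocalRing.ResidueField R)
    haveI := GrothLib.Euler.finiteDimensional_HH (k := IsLocalRing.ResidueField R) (X := (Γ l).curve.left) (GrothLib.HomSh.isCoh_structureModule (Γ l).curve.left) 1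
    refine GrothLib.CurveMult.exists_iso_P1 (IsLocalRing.ResidueField R) (Γ l).dim_eq ?_
      (GrothLib.Kleiman.isInv_pullback (Γ l).ι (GrothLib.IdealModSec.isInvertible_of_isEffCartier (hE l))) ?_
    · exact Module.finrank_zero_iff.1 h1
    · rw [GrothLib.ArSurf29.deg_pullback_ideal (Γ l) (hE l) (hL l), hs, neg_neg]
  · have hgen : Models.genPtOf R (Over.mk p) (Γ j) ∉ ((Γ i).ι.ker.support : Set (Over.mk p).left) := by
      rw [GrothLib.ArSurf29.support_ker, GrothLib.ArSurf29.mem_range_iff]
      intro h
      exact hij (GrothLib.ArSurf29.genPt_injective (X := Over.mk p) hΓ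
        (GrothLib.ArSurf29.eq_genPt (hmax j) (GrothLib.ArSurf29.genPt_mem_fibre _) h))
    have hlen : (Models.lengthH R (Over.mk p) (ClSub.quotMod ((Γ i).ι.ker ⊔ (Γ j).ι.ker)) 0 : ℤ) = 1 :=
      (GrothLib.ArSurf29.inter_eq_lengthH (Γ j) (hE i) hgen (hL i)).symm.trans hLij
    have hsupp : (((Γ i).ι.ker ⊔ (Γ j).ι.ker).support : Set (Over.mk p).left) =
        Set.range ((Γ i).ι.base : (Γ i).curve.left → X) ∩ Set.range ((Γ j).ι.base : (Γ j).curve.left → X) := by
      rw [Scheme.IdealSheafData.support_sup, TopologicalSpace.Closeds.coe_inf, GrothLib.ArSurf29.support_ker, GrothLib.ArSurf29.support_ker]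
    have hfin : (((Γ i).ι.ker ⊔ (Γ j).ι.ker).support : Set (Over.mk p).left).Finite := by
      haveI := GrothLib.ArSurf29.isProper_curve (Γ j)
      haveI := (Γ j).isIntegral
      haveI := GrothLib.Euler.isNoetherian_of_proper (X := (Γ j).curve.left) (IsLocalRing.ResidueField R)
      rw [hsupp, Set.inter_comm, ← Set.image_preimage_eq_range_inter]
      refine (GrothLib.CurvePoints.finite_of_isClosed (X := (Γ j).curve.left) (Γ j).dim_eq.le ?_ ?_).image _
      · haveI := (Γ i).isClosedImmersion
        exact (Γ i).ι.isClosedEmbedding.isClosed_range.preimage (Γ j).ι.continuous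
      · intro h
        exact hgen (by rw [GrothLib.ArSurf29.support_ker]; exact h)
    have hle : Models.specialFibreIdeal R (Over.mk p) ≤ (Γ i).ι.ker ⊔ (Γ j).ι.ker := by
      refine le_trans ?_ le_sup_left
      rw [GrothLib.ArSurf29.ker_eq, ← Scheme.IdealSheafData.le_support_iff_le_vanishingIdeal]
      exact closure_minimal (Set.singleton_subset_iff.2
        ((GrothLib.ArSurf29.support_fibre (X := Over.mk p)).ge (GrothLib.ArSurf29.genPt_mem_fibre _)))
        (Models.specialFibreIdeal R (Over.mk p)).support.isClosed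
    obtain ⟨x, hx, hx', hsurj⟩ := GrothLib.ArSurf29.exists_eq_ptIdeal_of_finrank_one (X := Over.mk p) hle hfin (by exact_mod_cast hlen)
    exact ⟨x, hsupp.symm.trans hx, hx', hsurj⟩

end Groth.Agent.S3327
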