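import Groth.Statements.S3331
import Groth.Agent.Lib.ArSurf29.MinimalEngine

set_option autoImplicit false
universe u
open CategoryTheory CategoryTheory.Limits AlgebraicGeometry
open Models

namespace Groth.Agent.S3331

/-- Let R be a discrete valuation ring with fraction field K, C a smooth proper curve over K with H^0(C,
O_C) = K and positive genus, X a minimal model of C and Y a regular proper model of C, with
generic-fibre inclusions g_X, g_Y. Then there is exactly one morphism of models Y → X, and it is a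
finite composite of contractions of exceptional curves of the first kind. -/
theorem result (R : Type u) [CommRing R] [IsDomain R] [IsDiscreteValuationRing R]
    (C X Y : Scheme.{u}) (f : C ⟶ Spec (CommRingCat.of (FractionRing R)))
    (p : X ⟶ Spec (CommRingCat.of R)) (q : Y ⟶ Spec (CommRingCat.of R))
    (hC : Curve.IsSmoothProperCurve (FractionRing R) C f) (hH0 : IsIso f.appTop)
    (hg : 0 < Models.curveGenus (FractionRing R) C f)
    (hX : Models.IsMinimalModel R X p C f) (hY : Models.IsRegularProperModel R Y q C f)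
    (gX : C ⟶ X) (hgX : IsPullback gX f p (Spec.map (CommRingCat.ofHom (algebraMap R (FractionRing R)))))
    (gY : C ⟶ Y) (hgY : IsPullback gY f q (Spec.map (CommRingCat.ofHom (algebraMap R (FractionRing R))))) :
    (∃! b : Y ⟶ X, b ≫ p = q ∧ gY ≫ b = gX) ∧
      ∀ b : Y ⟶ X, b ≫ p = q → gY ≫ b = gX → Models.IsContractionSeq b := by
  obtain ⟨hfp, hfs, hCi, hCd⟩ := hC
  obtain ⟨⟨⟨hXflat, -, -, -⟩, hXp, hXreg⟩, hmin⟩ := hX
  obtain ⟨⟨hYflat, -, -, -⟩, hYp, hYreg⟩ := hY
  haveI := hCi
  have hXD : GrothLib.ArSurf29.IsMData f X p gX := ⟨hXp, hXflat, hXreg, hgX⟩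
  have hYD : GrothLib.ArSurf29.IsMData f Y q gY := ⟨hYp, hYflat, hYreg, hgY⟩
  obtain ⟨b, hb, hb'⟩ := GrothLib.ArSurf29.exists_hom hCd hfp hH0 hg hXD hmin hYD
  exact ⟨⟨b, ⟨hb, hb'⟩, fun b' h => GrothLib.ArSurf29.hom_unique hXD hYD h.1 h.2 hb hb'⟩,
    fun b' h h' => GrothLib.ArSurf29.seq_of_hom hCd hfp hXD hYD b' h h'⟩

end Groth.Agent.S3331
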