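import Groth.Statements.S3332
import Groth.Agent.Lib.Contract29.GenusZeroMin

set_option autoImplicit false
universe u
open CategoryTheory CategoryTheory.Limits AlgebraicGeometry
open Models

namespace Groth.Agent.S3332

/-- Let R be a discrete valuation ring with residue field k and fraction field K, and C a smooth proper
curve over K with H^0(C, O_C) = K and genus zero. Suppose C has two minimal models X₁, X₂ (with
generic-fibre inclusions g₁, g₂) that are not isomorphic as models. Then the closed fibre of every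
minimal model X of C is k-isomorphic to the projective line over k. -/
theorem result (R : Type u) [CommRing R] [IsDomain R] [IsDiscreteValuationRing R]
    (C X₁ X₂ X : Scheme.{u}) (f : C ⟶ Spec (CommRingCat.of (FractionRing R)))
    (p₁ : X₁ ⟶ Spec (CommRingCat.of R)) (p₂ : X₂ ⟶ Spec (CommRingCat.of R)) (p : X ⟶ Spec (CommRingCat.of R))
    (hC : Curve.IsSmoothProperCurve (FractionRing R) C f) (hH0 : IsIso f.appTop)
    (hg : Models.curveGenus (FractionRing R) C f = 0)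
    (h₁ : Models.IsMinimalModel R X₁ p₁ C f) (h₂ : Models.IsMinimalModel R X₂ p₂ C f)
    (hXm : Models.IsMinimalModel R X p C f)
    (g₁ : C ⟶ X₁) (hg₁ : IsPullback g₁ f p₁ (Spec.map (CommRingCat.ofHom (algebraMap R (FractionRing R)))))
    (g₂ : C ⟶ X₂) (hg₂ : IsPullback g₂ f p₂ (Spec.map (CommRingCat.ofHom (algebraMap R (FractionRing R)))))
    (hne : ∀ e : X₁ ≅ X₂, e.hom ≫ p₂ = p₁ → g₁ ≫ e.hom ≠ g₂) :
    ∃ e : Models.specialFibre R X p ≅ CohB1.ProjSpace 1 (IsLocalRing.ResidueField R),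
      e.hom ≫ CohB1.ProjSpace.toSpec 1 (IsLocalRing.ResidueField R) =
        pullback.snd p (Spec.map (CommRingCat.ofHom (algebraMap R (IsLocalRing.ResidueField R)))) := by
  obtain ⟨hfp, hfs, hCi, hCd⟩ := hC
  obtain ⟨⟨⟨h1flat, -, -, -⟩, h1p, h1reg⟩, h1min⟩ := h₁
  obtain ⟨⟨⟨h2flat, -, -, -⟩, h2p, h2reg⟩, h2min⟩ := h₂
  obtain ⟨⟨⟨hflat, -, -, gX, hgX⟩, hp, hreg⟩, hmin⟩ := hXm
  haveI := hCi
  have D₁ : GrothLib.ArSurf29.IsMData f X₁ p₁ g₁ := ⟨h1p, h1flat, h1reg, hg₁⟩
  have D₂ : GrothLib.ArSurf29.IsMData f X₂ p₂ g₂ := ⟨h2p, h2flat, h2reg, hg₂⟩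
  have D : GrothLib.ArSurf29.IsMData f X p gX := ⟨hp, hflat, hreg, hgX⟩
  rcases GrothLib.Contract29.exists_iso_or_line hCd hfp hH0 D hmin D₁ h1min with ⟨a, ha, ha'⟩ | h
  swap
  · exact h
  rcases GrothLib.Contract29.exists_iso_or_line hCd hfp hH0 D hmin D₂ h2min with ⟨c, hc, hc'⟩ | h
  swap
  · exact h
  exfalso
  refine hne (a ≪≫ c.symm) ?_ ?_
  · rw [Iso.trans_hom, Category.assoc, ← hc, Iso.symm_hom, Iso.inv_hom_id_assoc]
    exact ha
  · rw [Iso.trans_hom, ← Category.assoc, ha', ← hc', Category.assoc, Iso.symm_hom, Iso.hom_inv_id, Category.comp_id]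

end Groth.Agent.S3332
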