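import Groth.Statements.S3334
-- import your own Groth.Agent.* helpers here
import Groth.Agent.Lib.GenusZeroSplit28.Main

set_option autoImplicit false
set_option maxHeartbeats 1600000
set_option linter.style.haveILetI false
set_option backward.isDefEq.respectTransparency false
universe u
open CategoryTheory CategoryTheory.Limits AlgebraicGeometry
open Models

namespace Groth.Agent.S3334

/-- Let R be a discrete valuation ring with fraction field K and C a smooth proper curve over K with
H^0(C, O_C) = K and genus dim_K H^1(C, O_C) = 0. Then there is a finite separable field extension K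
→ K' of degree at most 2 such that C_{K'} is K'-isomorphic to the projective line over K' (so that
C_{K'} is the generic fibre of the projective line over the integral closure of R in K'). The
printed statement says degree 2; the argument produces an extension of degree at most 2, which is
what is asserted here. -/
theorem result (R : Type u) [CommRing R] [IsDomain R] [IsDiscreteValuationRing R]
    (C : Scheme.{u}) (f : C ⟶ Spec (CommRingCat.of (FractionRing R)))
    (hC : Curve.IsSmoothProperCurve (FractionRing R) C f) (hH0 : IsIso f.appTop)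
    (hg : Models.curveGenus (FractionRing R) C f = 0) :
    ∃ (K' : Type u) (_ : Field K') (ψ : FractionRing R →+* K'),
      Models.IsFiniteSeparable ψ ∧ Models.homDegree ψ ≤ 2 ∧
      ∃ e : (pullback f (Spec.map (CommRingCat.ofHom ψ))) ≅ CohB1.ProjSpace 1 K',
        e.hom ≫ CohB1.ProjSpace.toSpec 1 K' = (pullback.snd f (Spec.map (CommRingCat.ofHom ψ))) := by
  obtain ⟨hp, hs, hi, hd⟩ := hC
  haveI := hp; haveI := hs; haveI := hi; haveI := hH0
  let K := FractionRing R
  letI : C.Over (Spec (CommRingCat.of K)) := ⟨f⟩
  haveI : IsProper (C ↘ Spec (CommRingCat.of K)) := hp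
  haveI : Smooth (C ↘ Spec (CommRingCat.of K)) := hs
  haveI := GrothLib.Euler.isNoetherian_of_proper (X := C) K
  haveI := GrothLib.CurveRR.regCurve_of_smooth (C ↘ Spec (CommRingCat.of K)) hd
  have h0 : Module.finrank K (Coh.HH C (Coh.structureModule C) 0) = 1 := by
    let ψ : K →+* Γ(C, ⊤) := Coh.toGlobal (C ↘ Spec (CommRingCat.of K))
    letI : Algebra K Γ(C, ⊤) := ψ.toAlgebra
    let e : Coh.HH C (Coh.structureModule C) 0 ≃ₗ[K] Γ(C, ⊤) :=
      { GrothLib.ProjCoh.H0top (Coh.structureModule C) with
        map_smul' := fun a h => (GrothLib.ProjCoh.H0top_smul (Coh.structureModule C) a h).trans (Algebra.smul_def (R := K) (A := Γ(C, ⊤)) a (GrothLib.ProjCoh.H0top (Coh.structureModule C) h)).symm }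
    have hb : Function.Bijective (algebraMap K Γ(C, ⊤)) :=
      (ConcreteCategory.bijective_of_isIso f.appTop).comp
        (ConcreteCategory.bijective_of_isIso (Scheme.ΓSpecIso (CommRingCat.of K)).inv)
    exact e.finrank_eq.trans (((AlgEquiv.ofBijective (Algebra.ofId K Γ(C, ⊤)) hb).toLinearEquiv.finrank_eq).symm.trans
      (Module.finrank_self K))
  have hg' : Curv2.genus K C = 0 := hg
  obtain ⟨x, hxs, hx2, hxf⟩ := GrothLib.GenusZeroSplit28.exists_separable_closedPoint K h0 hg'
  let ψ : K →+* C.residueField x := Curv2.resMap K C x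
  refine ⟨C.residueField x, inferInstance, ψ, ⟨hxf, hxs⟩, hx2, ?_⟩
  have h1 : Module.finrank K (Coh.HH C (Coh.structureModule C) 1) = 0 := hg
  have hcg : ModFun.IsCurveOfGenus 0 f := GrothLib.EssDim.Conic.isCurveOfGenus_zero (F := K) f hd ⟨h0, h1⟩
  let s := pullback.lift (f := f) (g := Spec.map (CommRingCat.ofHom ψ)) (C.fromSpecResidueField x) (𝟙 _)
    ((GrothLib.RamInsep9.fromSpecResidueField_comp (k := K) C x).trans (Category.id_comp _).symm)
  exact GrothLib.EssDim.exists_iso_P1_of_isCurveOfGenus _
    (GrothLib.GenusZeroFam2.isCurveOfGenus_baseChange _ hcg) s (pullback.lift_snd _ _ _)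

end Groth.Agent.S3334
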