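import Groth.Statements.S3337
import Groth.Agent.Lib.Contract29.GenusZeroMin
import Groth.Agent.S3338
import Groth.Agent.Lib.CurveMult.EtaleIso
import Mathlib.AlgebraicGeometry.Morphisms.Smooth

set_option autoImplicit false
universe u
open CategoryTheory CategoryTheory.Limits AlgebraicGeometry
open Models

namespace Groth.Agent.S3337

/-- Let R be a discrete valuation ring with fraction field K and C a smooth proper curve over K with
H^0(C, O_C) = K. If C has a proper smooth model over R (good reduction), then every minimal model of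
C is smooth over R. -/
theorem result (R : Type u) [CommRing R] [IsDomain R] [IsDiscreteValuationRing R]
    (C X : Scheme.{u}) (f : C ⟶ Spec (CommRingCat.of (FractionRing R))) (p : X ⟶ Spec (CommRingCat.of R))
    (hC : Curve.IsSmoothProperCurve (FractionRing R) C f) (hH0 : IsIso f.appTop)
    (hgood : Models.HasGoodReduction R C f) (hX : Models.IsMinimalModel R X p C f) :
    Smooth p := by
  obtain ⟨X', p', hM', hp', hsm'⟩ := hgood
  haveI := hp'; haveI := hsm'
  obtain ⟨⟨⟨h1flat, -, -, g₁, hg₁⟩, h1p, h1reg⟩, h1min⟩ := Groth.Agent.S3338.result R C X' f p' hC hH0 hM'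
  obtain ⟨hfp, hfs, hCi, hCd⟩ := id hC
  obtain ⟨⟨⟨hflat, hlft, -, gX, hgX⟩, hp, hreg⟩, hmin⟩ := hX
  haveI := hCi; haveI := hfs; haveI := hflat; haveI := hp
  have D₁ : GrothLib.ArSurf29.IsMData f X' p' g₁ := ⟨h1p, h1flat, h1reg, hg₁⟩
  have D : GrothLib.ArSurf29.IsMData f X p gX := ⟨hp, hflat, hreg, hgX⟩
  rcases GrothLib.Contract29.exists_iso_or_line hCd hfp hH0 D hmin D₁ h1min with ⟨a, ha, -⟩ | ⟨e, he⟩
  · have : p = a.inv ≫ p' := by rw [← ha, a.inv_hom_id_assoc]
    rw [this]
    infer_instance
  haveI : IsNoetherianRing R := inferInstance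
  haveI : LocallyOfFinitePresentation p := inferInstance
  let sK := Spec.map (CommRingCat.ofHom (algebraMap R (FractionRing R)))
  let sk := Spec.map (CommRingCat.ofHom (algebraMap R (IsLocalRing.ResidueField R)))
  have hK : Smooth (pullback.snd p sK) := by
    have : pullback.snd p sK = hgX.isoPullback.inv ≫ f := (hgX.isoPullback_inv_snd).symm
    rw [this]
    infer_instance
  have hk : Smooth (pullback.snd p sk) := by
    rw [← he]
    exact (MorphismProperty.cancel_left_of_respectsIso @Smooth e.hom _).2 (GrothLib.CurveMult.smooth_toSpec 1 _)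
  have key : ∀ {T : Scheme.{u}} (t : T ⟶ Spec (CommRingCat.of R)) (s : Scheme.{u}) (u' : T ⟶ s)
      (v : s ⟶ Spec (CommRingCat.of R)), u' ≫ v = t → Smooth (pullback.snd p v) → Smooth (pullback.snd p t) :=
    fun {T} t s u' v h hv => by
      subst h
      rw [← pullbackLeftPullbackSndIso_inv_snd_snd (f := p) (g := v) (g' := u')]
      infer_instance
  refine Smooth.of_smooth_fiberToSpecResidueField p fun y => ?_
  show Smooth (pullback.snd p ((Spec (CommRingCat.of R)).fromSpecResidueField y))
  obtain ⟨φ, hφ⟩ : ∃ φ : CommRingCat.of R ⟶ (Spec (CommRingCat.of R)).residueField y, Spec.map φ = (Spec (CommRingCat.of R)).fromSpecResidueField y := ⟨_, Spec.map_preimage _⟩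
  rw [← hφ]
  by_cases hker : RingHom.ker φ.hom = ⊥
  · have hinj : Function.Injective φ.hom := (RingHom.injective_iff_ker_eq_bot _).2 hker
    refine key _ _ (Spec.map (CommRingCat.ofHom (IsFractionRing.lift (K := FractionRing R) hinj))) sK ?_ hK
    rw [← Spec.map_comp]
    congr 1
    ext r
    exact IsFractionRing.lift_algebraMap hinj r
  · haveI : (RingHom.ker φ.hom).IsPrime := RingHom.ker_isPrime _
    let ψ : R →+* (Spec (CommRingCat.of R)).residueField y := φ.hom
    haveI : (RingHom.ker ψ).IsPrime := RingHom.ker_isPrime _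
    have hm : RingHom.ker ψ = IsLocalRing.maximalIdeal R :=
      IsLocalRing.eq_maximalIdeal (Ring.DimensionLEOne.maximalOfPrime hker inferInstance)
    let l : IsLocalRing.ResidueField R →+* (Spec (CommRingCat.of R)).residueField y :=
      Ideal.Quotient.lift (IsLocalRing.maximalIdeal R) ψ fun r hr => RingHom.mem_ker.1 (hm.ge hr)
    refine key _ _ (Spec.map (CommRingCat.ofHom l)) sk ?_ hk
    rw [← Spec.map_comp]
    congr 1

end Groth.Agent.S3337
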