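import Groth.Statements.S3341
import Groth.Agent.Lib.ArSurf29.Torsion

set_option autoImplicit false
universe u
open CategoryTheory CategoryTheory.Limits AlgebraicGeometry
open Models

namespace Groth.Agent.S3341

/-- In the following situation (R a discrete valuation ring, C a smooth proper curve over its fraction
field K with H^0(C, O_C) = K, X a regular proper model with generic-fibre inclusion g, Γ_1, …, Γ_n
the irreducible components of the closed fibre with multiplicities m_i) let d = gcd(m_1, …, m_n) and
let h ≥ 1 be prime to d. If M is an invertible O_X-module with M^{⊗h} ≅ O_X whose pullback to C is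
trivial, then M ≅ O_X: the map Pic(X)[h] → Pic(C)[h] is injective. -/
theorem result (R : Type u) [CommRing R] [IsDomain R] [IsDiscreteValuationRing R]
    (C X : Scheme.{u}) (f : C ⟶ Spec (CommRingCat.of (FractionRing R))) (p : X ⟶ Spec (CommRingCat.of R))
    (hC : Curve.IsSmoothProperCurve (FractionRing R) C f) (hH0 : IsIso f.appTop)
    (hX : Models.IsRegularProperModel R X p C f)
    {n : ℕ} (Γ : Fin n → ArSurf.VertComp R (Over.mk p)) (hΓ : Models.IsComponentList R (Over.mk p) Γ)
    (g : C ⟶ X) (hg : IsPullback g f p (Spec.map (CommRingCat.ofHom (algebraMap R (FractionRing R))))) (h : ℕ) (hh : 0 < h) (hcop : Nat.Coprime h (Models.multGcd R (Over.mk p) Γ))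
    (M : X.Modules) (hM : PicF.IsInvertible M)
    (htors : Nonempty (CohB1.tensorPow M h ≅ Coh.structureModule X))
    (htriv : Nonempty ((Scheme.Modules.pullback g).obj M ≅ Coh.structureModule C)) :
    Nonempty (M ≅ Coh.structureModule X) := by
  haveI : Flat (Over.mk p).hom := hX.1.1
  haveI : IsProper (Over.mk p).hom := hX.2.1
  haveI : IsLocallyNoetherian (Over.mk p).left :=
    LocallyOfFiniteType.isLocallyNoetherian (Over.mk p).hom
  obtain ⟨L, hL⟩ := GrothLib.ArSurf29.exists_inverses (X := Over.mk p) hX.2.2 hΓ
  refine (GrothLib.Cube.clsMod_eq_one_iff hM).1 ?_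
  refine GrothLib.ArSurf29.eq_one_of_torsion_coprime (X := Over.mk p) hX.2.2 hΓ hg hL hH0 ((GrothLib.ArSurf29.pull_cls_eq_one_iff g hM).1 htriv) hh hcop ?_
  rw [← GrothLib.Cube.clsMod_tensorPow hM]
  exact (GrothLib.Cube.clsMod_eq_one_iff _).2 htors

end Groth.Agent.S3341
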