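import Groth.Statements.S3342
import Groth.Agent.Lib.ArSurf29.Torsion

set_option autoImplicit false
universe u
open CategoryTheory CategoryTheory.Limits AlgebraicGeometry
open Models

namespace Groth.Agent.S3342

/-- In the following situation (R a discrete valuation ring with residue field k, C a smooth proper
curve over its fraction field K with H^0(C, O_C) = K, X a regular proper model with generic-fibre
inclusion g, Γ_1, …, Γ_n the irreducible components of the closed fibre with multiplicities m_i, L_j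
⊗ I(Γ_j) ≅ O_X, a_ij = deg_k(L_j|Γ_i), w_i = dim_k H^0(Γ_i, O)) let d = gcd(m_i) and h ≥ 1 prime to
d. Let N be an invertible O_C-module with N^{⊗h} ≅ O_C which is the restriction of an invertible
O_X-module M whose degree vector (deg_k(M|Γ_i) / w_i)_i lies in the image of the matrix (a_ij / w_i)
(that is, the class of N maps to zero in the Picard group of the numerical type). Then N is the
restriction of an invertible O_X-module M' with M'^{⊗h} ≅ O_X. -/
theorem result (R : Type u) [CommRing R] [IsDomain R] [IsDiscreteValuationRing R]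
    (C X : Scheme.{u}) (f : C ⟶ Spec (CommRingCat.of (FractionRing R))) (p : X ⟶ Spec (CommRingCat.of R))
    (hC : Curve.IsSmoothProperCurve (FractionRing R) C f) (hH0 : IsIso f.appTop)
    (hX : Models.IsRegularProperModel R X p C f)
    {n : ℕ} (Γ : Fin n → ArSurf.VertComp R (Over.mk p)) (hΓ : Models.IsComponentList R (Over.mk p) Γ)
    (g : C ⟶ X) (hg : IsPullback g f p (Spec.map (CommRingCat.ofHom (algebraMap R (FractionRing R))))) (L : Fin n → X.Modules) (hL : ∀ i, ClSub.IsInverseOf (L i) (ClSub.idealMod (Γ i).ι.ker))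
    (h : ℕ) (hh : 0 < h) (hcop : Nat.Coprime h (Models.multGcd R (Over.mk p) Γ))
    (N : C.Modules) (hN : PicF.IsInvertible N) (hNt : Nonempty (CohB1.tensorPow N h ≅ Coh.structureModule C))
    (M : X.Modules) (hM : PicF.IsInvertible M) (hMN : Nonempty ((Scheme.Modules.pullback g).obj M ≅ N))
    (v : Fin n → ℤ)
    (hv : ∀ i, ArSurf.inter R (Over.mk p) M (Γ i) = ∑ j, ArSurf.inter R (Over.mk p) (L j) (Γ i) * v j) :
    ∃ M' : X.Modules, PicF.IsInvertible M' ∧ Nonempty (CohB1.tensorPow M' h ≅ Coh.structureModule X) ∧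
      Nonempty ((Scheme.Modules.pullback g).obj M' ≅ N) := by
  haveI : Flat (Over.mk p).hom := hX.1.1
  haveI : IsProper (Over.mk p).hom := hX.2.1
  haveI : IsLocallyNoetherian (Over.mk p).left :=
    LocallyOfFiniteType.isLocallyNoetherian (Over.mk p).hom
  let x : GrothLib.Cube.Pic (Over.mk p).left := (show GrothLib.Cube.Pic (Over.mk p).left from GrothLib.Cube.clsMod hM) * (∏ j, GrothLib.ArSurf29.vcls hX.2.2 hΓ hL j ^ v j)⁻¹
  have hpull : GrothLib.Cube.pull g x = GrothLib.Cube.clsMod hN := by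
    rw [map_mul, map_inv, map_prod, (GrothLib.ArSurf29.pull_cls_eq_iff g hM hN).1 hMN]
    simp only [map_zpow, GrothLib.ArSurf29.pull_vcls hX.2.2 hΓ hL hg, one_zpow, Finset.prod_const_one, inv_one, mul_one]
  have hdeg : ∀ i, GrothLib.ArSurf29.icl (Γ i) x = 0 := fun i => by
    rw [GrothLib.ArSurf29.icl_mul, GrothLib.ArSurf29.icl_inv, GrothLib.ArSurf29.icl_prod_vcls, ← GrothLib.ArSurf29.inter_eq_icl (Γ i) hM, add_neg_eq_zero, hv i]
    exact Finset.sum_congr rfl fun j _ => mul_comm _ _
  obtain ⟨y, hy, hyp⟩ := GrothLib.ArSurf29.exists_torsion_lift (X := Over.mk p) hX.2.2 hΓ hg hL hH0 (x := x) hcop (by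
    rw [hpull, ← GrothLib.Cube.clsMod_tensorPow hN]
    exact (GrothLib.Cube.clsMod_eq_one_iff _).2 hNt) hdeg
  have hy' := GrothLib.HodgeIndex.isInv_rep y
  refine ⟨GrothLib.HodgeIndex.rep y, hy', (GrothLib.Cube.clsMod_eq_one_iff (GrothLib.Ample.isInvertible_tensorPow hy' h)).1 ?_,
    (GrothLib.ArSurf29.pull_cls_eq_iff g hy' hN).2 ?_⟩
  · rw [GrothLib.Cube.clsMod_tensorPow hy', GrothLib.HodgeIndex.cls_rep, hy]
  · rw [GrothLib.HodgeIndex.cls_rep, hyp, hpull]

end Groth.Agent.S3342
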