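import Groth.Statements.S3344
import Groth.Agent.Lib.ArSurf29.Section
import Groth.Agent.Lib.ArSurf29.FibreH0
import Groth.Agent.Lib.ArSurf29.Torsion
import Groth.Agent.Lib.ArSurf29.Genus

set_option autoImplicit false
universe u
open CategoryTheory CategoryTheory.Limits AlgebraicGeometry
open Models

namespace Groth.Agent.S3344

/-- In the following situation (R a discrete valuation ring with residue field k, C a smooth proper
curve over its fraction field K with H^0(C, O_C) = K, X a regular proper model, Γ_1, …, Γ_n the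
irreducible components of the closed fibre X_k with multiplicities m_i) assume C has a K-rational
point. Then (1) some closed point x of X on the closed fibre has residue field k (R → κ(x)
surjective) and the local ring of X_k at x, namely O_{X,x}/𝔪_R O_{X,x}, is regular (x is a smooth
point of X_k over k); (2) the component Γ_i through x has H^0(Γ_i, O) = k and m_i = 1; (3) H^0(X_k,
O_{X_k}) = k and dim_k H^1(X_k, O_{X_k}) = dim_K H^1(C, O_C) (k-dimensions as R-lengths of the
cohomology of O_{X_k} on X). -/
theorem result (R : Type u) [CommRing R] [IsDomain R] [IsDiscreteValuationRing R]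
    (C X : Scheme.{u}) (f : C ⟶ Spec (CommRingCat.of (FractionRing R))) (p : X ⟶ Spec (CommRingCat.of R))
    (hC : Curve.IsSmoothProperCurve (FractionRing R) C f) (hH0 : IsIso f.appTop)
    (hX : Models.IsRegularProperModel R X p C f)
    {n : ℕ} (Γ : Fin n → ArSurf.VertComp R (Over.mk p)) (hΓ : Models.IsComponentList R (Over.mk p) Γ)
    (s : Spec (CommRingCat.of (FractionRing R)) ⟶ C) (hs : s ≫ f = 𝟙 _) :
    (∃ (i : Fin n) (x : X), x ∈ Set.range ((Γ i).ι.base : (Γ i).curve.left → X) ∧ IsClosed ({x} : Set X) ∧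
        Function.Surjective ((X.residue x).hom.comp (Models.stalkHom R (Over.mk p) x)) ∧
        IsRegularLocalRing (X.presheaf.stalk x ⧸
          Ideal.map (Models.stalkHom R (Over.mk p) x) (IsLocalRing.maximalIdeal R)) ∧
        Models.wdeg R (Over.mk p) (Γ i) = 1 ∧ Models.mult R (Over.mk p) (Γ i) = 1) ∧
      Models.lengthH R (Over.mk p) (ClSub.quotMod (Models.specialFibreIdeal R (Over.mk p))) 0 = 1 ∧
      Models.lengthH R (Over.mk p) (ClSub.quotMod (Models.specialFibreIdeal R (Over.mk p))) 1 =
        Models.curveGenus (FractionRing R) C f := by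
  haveI : Flat (Over.mk p).hom := hX.1.1
  haveI : IsProper (Over.mk p).hom := hX.2.1
  haveI : IsLocallyNoetherian (Over.mk p).left :=
    LocallyOfFiniteType.isLocallyNoetherian (Over.mk p).hom
  obtain ⟨g, hg⟩ := hX.1.2.2.2
  obtain ⟨L, hL⟩ := GrothLib.ArSurf29.exists_inverses (X := Over.mk p) hX.2.2 hΓ
  obtain ⟨σ, hσ⟩ := GrothLib.ArSurf29.exists_section_of_point (X := Over.mk p) (s ≫ g) (by
    show (s ≫ g) ≫ p = _
    rw [Category.assoc, hg.w, reassoc_of% hs])
  let x : X := σ (IsLocalRing.closedPoint R)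
  have hreg := GrothLib.ArSurf29.isRegularLocalRing_quotient_section (X := Over.mk p) hX.2.2 σ hσ
  haveI := hreg
  haveI := GrothLib.CMFree.isDomain_of_isRegularLocalRing ((Over.mk p).left.presheaf.stalk (σ (IsLocalRing.closedPoint R)) ⧸
    Ideal.map (Models.stalkHom R (Over.mk p) (σ (IsLocalRing.closedPoint R))) (IsLocalRing.maximalIdeal R))
  have hP : (GrothLib.CartierDescent.stalkIdeal (Models.specialFibreIdeal R (Over.mk p)) (σ (IsLocalRing.closedPoint R))).IsPrime := by
    rw [GrothLib.ArSurf29.st_fibre]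
    exact (Ideal.Quotient.isDomain_iff_prime _).1 inferInstance
  have hsur := GrothLib.ArSurf29.residue_stalkHom_surjective (X := Over.mk p) σ hσ
  obtain ⟨⟨i, hi, -⟩, hmult⟩ := GrothLib.ArSurf29.existsUnique_component_of_isPrime (X := Over.mk p) hΓ hX.2.2
    (GrothLib.ArSurf29.apply_closedPoint_mem_fibre (X := Over.mk p) σ hσ) hP
  have hw := GrothLib.ArSurf29.wdeg_eq_one_of_rational (X := Over.mk p) hΓ hi hsur
  have hcl : IsClosed ({x} : Set X) := by
    haveI : IsClosedImmersion (σ ≫ (Over.mk p).hom) := by rw [hσ]; infer_instance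
    haveI : IsClosedImmersion σ := IsClosedImmersion.of_comp σ (Over.mk p).hom
    have h := σ.isClosedEmbedding.isClosedMap _ (IsLocalRing.isClosed_singleton_closedPoint R)
    have e : (fun a => σ a) '' {IsLocalRing.closedPoint R} = {σ (IsLocalRing.closedPoint R)} := Set.image_singleton
    exact (congrArg IsClosed e).mp h
  have hgcd : Models.multGcd R (Over.mk p) Γ = 1 := by
    have h : Models.multGcd R (Over.mk p) Γ ∣ Models.mult R (Over.mk p) (Γ i) := Finset.gcd_dvd (Finset.mem_univ i)
    rw [hmult i hi] at h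
    exact Nat.dvd_one.1 h
  have h0 := GrothLib.ArSurf29.lengthH_fibre_zero_eq_one (X := Over.mk p) hX.2.2 hΓ hL (GrothLib.ArSurf29.isPreconnected_fibre (X := Over.mk p) hg hH0) hgcd i hw
  refine ⟨⟨i, x, hi, hcl, hsur, hreg, hw, hmult i hi⟩, h0, ?_⟩
  have hχ := GrothLib.ArSurf29.chiD_fibre (X := Over.mk p) hΓ hg hH0
  simp only [GrothLib.ArSurf29.chiD, h0] at hχ
  omega

end Groth.Agent.S3344
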