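import Groth.Statements.S3345
import Groth.Agent.Lib.ArSurf29.RedFibre
import Groth.Agent.Lib.ArSurf29.Torsion
import Groth.Agent.Lib.ArSurf29.Genus

set_option autoImplicit false
universe u
open CategoryTheory CategoryTheory.Limits AlgebraicGeometry
open Models

namespace Groth.Agent.S3345

/-- In the following situation (R a discrete valuation ring with residue field k, C a smooth proper
curve over its fraction field K with H^0(C, O_C) = K, X a regular proper model, Γ_1, …, Γ_n the
irreducible components of the closed fibre with multiplicities m_i) assume X is a minimal model,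
gcd(m_1, …, m_n) = 1 and H^0((X_k)_red, O) = k. Then dim_k H^1((X_k)_red, O) ≤ dim_k H^1(X_k, O),
and the inequality is strict when X_k is not reduced (k-dimensions computed as R-lengths of the
cohomology on X of the structure sheaves of the two closed subschemes). The published statement is
the stronger one that H^1(X_k, O_{X_k}) → H^1((X_k)_red, O) is surjective, with non-zero kernel when
X_k is not reduced; this is its form in terms of dimensions. -/
theorem result (R : Type u) [CommRing R] [IsDomain R] [IsDiscreteValuationRing R]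
    (C X : Scheme.{u}) (f : C ⟶ Spec (CommRingCat.of (FractionRing R))) (p : X ⟶ Spec (CommRingCat.of R))
    (hC : Curve.IsSmoothProperCurve (FractionRing R) C f) (hH0 : IsIso f.appTop)
    (hX : Models.IsRegularProperModel R X p C f)
    {n : ℕ} (Γ : Fin n → ArSurf.VertComp R (Over.mk p)) (hΓ : Models.IsComponentList R (Over.mk p) Γ)
    (hmin : Models.IsMinimalModel R X p C f) (hgcd : Models.multGcd R (Over.mk p) Γ = 1)
    (hH0k : Models.lengthH R (Over.mk p) (ClSub.quotMod (Models.redFibreIdeal R (Over.mk p))) 0 = 1) :
    Models.lengthH R (Over.mk p) (ClSub.quotMod (Models.redFibreIdeal R (Over.mk p))) 1 ≤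
        Models.lengthH R (Over.mk p) (ClSub.quotMod (Models.specialFibreIdeal R (Over.mk p))) 1 ∧
      (Models.specialFibreIdeal R (Over.mk p) ≠ Models.redFibreIdeal R (Over.mk p) →
        Models.lengthH R (Over.mk p) (ClSub.quotMod (Models.redFibreIdeal R (Over.mk p))) 1 <
          Models.lengthH R (Over.mk p) (ClSub.quotMod (Models.specialFibreIdeal R (Over.mk p))) 1) := by
  haveI : Flat (Over.mk p).hom := hX.1.1
  haveI : IsProper (Over.mk p).hom := hX.2.1
  haveI : IsLocallyNoetherian (Over.mk p).left :=
    LocallyOfFiniteType.isLocallyNoetherian (Over.mk p).hom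
  obtain ⟨g, hg⟩ := hX.1.2.2.2
  obtain ⟨L, hL⟩ := GrothLib.ArSurf29.exists_inverses (X := Over.mk p) hX.2.2 hΓ
  have hconn := GrothLib.ArSurf29.isPreconnected_fibre (X := Over.mk p) hg hH0
  haveI := hC.2.2.1
  haveI : Nonempty (Fin n) := GrothLib.ArSurf29.nonempty_fin (X := Over.mk p) hΓ g ⟨genericPoint C⟩
  have hF := GrothLib.ArSurf29.fibre_eq_prod (X := Over.mk p) hΓ hX.2.2
  have hE := GrothLib.ArSurf29.redFibre_eq_prod (X := Over.mk p) hX.2.2 hΓ
  have hall : (∀ i, Models.mult R (Over.mk p) (Γ i) = 1) →
      Models.specialFibreIdeal R (Over.mk p) = Models.redFibreIdeal R (Over.mk p) := fun h => by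
    rw [hF, hE]
    simp [h]
  rcases subsingleton_or_nontrivial (Fin n) with hs | hs
  · have h1 : ∀ i, Models.mult R (Over.mk p) (Γ i) = 1 := fun i => by
      refine Nat.dvd_one.1 ?_
      rw [← hgcd]
      exact Finset.dvd_gcd fun j _ => by rw [Subsingleton.elim j i]
    refine ⟨by rw [hall h1], fun h => absurd (hall h1) h⟩
  have h := GrothLib.ArSurf29.chiD_redFibre_ge (X := Over.mk p) hX.2.2 hΓ hL hconn hmin.2
  have h0 := GrothLib.ArSurf29.one_le_lengthH_fibre_zero (X := Over.mk p) hX.2.2 hΓ
  refine ⟨?_, fun hne => ?_⟩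
  · have h2 := h.1
    simp only [GrothLib.ArSurf29.chiD, hH0k] at h2
    omega
  · have hex : ∃ i j, Models.mult R (Over.mk p) (Γ i) ≠ Models.mult R (Over.mk p) (Γ j) := by
      by_contra hc
      push Not at hc
      refine hne (hall fun i => ?_)
      refine Nat.dvd_one.1 ?_
      rw [← hgcd]
      exact Finset.dvd_gcd fun j _ => by rw [hc j i]
    have h2 := h.2 hex
    simp only [GrothLib.ArSurf29.chiD, hH0k] at h2
    omega

end Groth.Agent.S3345
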