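import Groth.Statements.S7308
import Groth.Agent.S7307

set_option autoImplicit false
universe u
open CategoryTheory CategoryTheory.Limits AlgebraicGeometry
open Resolve

namespace Groth.Agent.S7308

/-- Let X be a Noetherian scheme and ι : E → X a closed immersion which is an exceptional curve of the
first kind. A contraction of E, if it exists, is unique up to unique isomorphism: for contractions
b₁ : X → X₁ and b₂ : X → X₂ of E there is a unique isomorphism e : X₁ ≅ X₂ with b₁ ≫ e = b₂. -/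
theorem result {E X X₁ X₂ : Scheme.{u}} [IsNoetherian X] (ι : E ⟶ X) [IsClosedImmersion ι]
    (hE : Models.IsExcCurve ι) (b₁ : X ⟶ X₁) (hb₁ : Models.IsContractionOf ι b₁) (b₂ : X ⟶ X₂) (hb₂ : Models.IsContractionOf ι b₂) :
    ∃! e : X₁ ≅ X₂, b₁ ≫ e.hom = b₂ := by
  obtain ⟨hN₁, -, y₁, hy₁, hr₁, hreg₁, hd₁, hbl₁⟩ := id hb₁
  obtain ⟨hN₂, -, y₂, hy₂, hr₂, hreg₂, hd₂, hbl₂⟩ := id hb₂
  obtain ⟨f, hf, hfu⟩ := Groth.Agent.S7307.result ι hE b₁ hb₁ b₂ y₂ hr₂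
  obtain ⟨g, hg, -⟩ := Groth.Agent.S7307.result ι hE b₂ hb₂ b₁ y₁ hr₁
  obtain ⟨w₁, -, hu₁⟩ := Groth.Agent.S7307.result ι hE b₁ hb₁ b₁ y₁ hr₁
  obtain ⟨w₂, -, hu₂⟩ := Groth.Agent.S7307.result ι hE b₂ hb₂ b₂ y₂ hr₂
  refine ⟨⟨f, g, ?_, ?_⟩, hf, fun e he => Iso.ext (hfu _ he)⟩
  · exact (hu₁ _ (by dsimp only; rw [← Category.assoc, hf, hg])).trans (hu₁ _ (Category.comp_id _)).symm
  · exact (hu₂ _ (by dsimp only; rw [← Category.assoc, hg, hf])).trans (hu₂ _ (Category.comp_id _)).symm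

end Groth.Agent.S7308
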