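import Groth.Statements.S3346
import Groth.Agent.Lib.Contract29.ContractInter
import Groth.Agent.Lib.Contract29.ToMinimal
import Groth.Agent.S7308

set_option autoImplicit false
universe u
open CategoryTheory CategoryTheory.Limits AlgebraicGeometry
open Models

namespace Groth.Agent.S3346

/-- In the following situation (R a discrete valuation ring with residue field k, C a smooth proper
curve over its fraction field K with H^0(C, O_C) = K, X a regular proper model with generic-fibre
inclusion g, Γ_0, …, Γ_n the irreducible components of the closed fibre with multiplicities m_i, L_j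
⊗ I(Γ_j) ≅ O_X, a_ij = deg_k(L_j|Γ_i)) assume the last component Γ_n is an exceptional curve of the
first kind and let b : X → X' be a contraction of Γ_n over R (X' Noetherian, p = b ≫ p'). Then X'
(with g ≫ b) is a regular proper model of C, the irreducible components of its closed fibre are
exactly the images Γ'_i = b(Γ_i), i < n, and for any enumeration Γ' of them with these images and
any L'_j ⊗ I(Γ'_j) ≅ O_{X'} one has m'_i = m_i and a'_ij · a_nn = a_ij · a_nn - a_in · a_jn (that
is, a'_ij = a_ij - a_in a_jn / a_nn, cleared of the denominator a_nn ≠ 0). -/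
theorem result (R : Type u) [CommRing R] [IsDomain R] [IsDiscreteValuationRing R]
    (C X X' : Scheme.{u}) (f : C ⟶ Spec (CommRingCat.of (FractionRing R))) (p : X ⟶ Spec (CommRingCat.of R))
    (p' : X' ⟶ Spec (CommRingCat.of R))
    (hC : Curve.IsSmoothProperCurve (FractionRing R) C f) (hH0 : IsIso f.appTop)
    (hX : Models.IsRegularProperModel R X p C f) (g : C ⟶ X) (hg : IsPullback g f p (Spec.map (CommRingCat.ofHom (algebraMap R (FractionRing R)))))
    {n : ℕ} (Γ : Fin (n + 1) → ArSurf.VertComp R (Over.mk p)) (hΓ : Models.IsComponentList R (Over.mk p) Γ)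
    (L : Fin (n + 1) → X.Modules) (hL : ∀ i, ClSub.IsInverseOf (L i) (ClSub.idealMod (Γ i).ι.ker))
    (hexc : Models.IsExcCurve (Γ (Fin.last n)).ι)
    (b : X ⟶ X') (hb : Models.IsContractionOf (Γ (Fin.last n)).ι b) (hcomm : b ≫ p' = p) :
    Models.IsRegularProperModel R X' p' C f ∧
      Models.fibreComponents R (Over.mk p') =
        Set.range (fun i : Fin n => b.base '' Set.range ((Γ i.castSucc).ι.base : (Γ i.castSucc).curve.left → X)) ∧
      ∀ (Γ' : Fin n → ArSurf.VertComp R (Over.mk p')),
        (∀ i, Set.range ((Γ' i).ι.base : (Γ' i).curve.left → X') =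
          b.base '' Set.range ((Γ i.castSucc).ι.base : (Γ i.castSucc).curve.left → X)) →
        (∀ i, Models.mult R (Over.mk p') (Γ' i) = Models.mult R (Over.mk p) (Γ i.castSucc)) ∧
        ∀ (L' : Fin n → X'.Modules), (∀ j, ClSub.IsInverseOf (L' j) (ClSub.idealMod (Γ' j).ι.ker)) →
          ∀ i j : Fin n,
            ArSurf.inter R (Over.mk p') (L' j) (Γ' i) * ArSurf.inter R (Over.mk p) (L (Fin.last n)) (Γ (Fin.last n)) =
              ArSurf.inter R (Over.mk p) (L j.castSucc) (Γ i.castSucc) * ArSurf.inter R (Over.mk p) (L (Fin.last n)) (Γ (Fin.last n)) -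
                ArSurf.inter R (Over.mk p) (L (Fin.last n)) (Γ i.castSucc) * ArSurf.inter R (Over.mk p) (L (Fin.last n)) (Γ j.castSucc) := by
  obtain ⟨hfp, hfs, hCi, hCd⟩ := id hC
  haveI := hCi
  obtain ⟨⟨hflat, -, -, -⟩, hp, hreg⟩ := hX
  have D : GrothLib.ArSurf29.IsMData f X p g := ⟨hp, hflat, hreg, hg⟩
  let XX : Over (Spec (CommRingCat.of R)) := Over.mk p
  haveI := D.isNoetherian
  haveI := D.isIntegral
  haveI : IsIntegral XX.left := D.isIntegral
  haveI : IsNoetherian XX.left := D.isNoetherian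
  haveI : IsProper XX.hom := hp
  haveI : Flat XX.hom := hflat
  have hAr := GrothLib.Contract29.arith_of_mdata D (D.dim_eq hCd hfp)
  let E := Γ (Fin.last n)
  haveI : IsClosedImmersion (Y := X) E.ι := E.isClosedImmersion
  haveI := E.isClosedImmersion
  haveI := E.isIntegral
  obtain ⟨Y, fY, yY, hyY, hY, hcY, hgen, -, -, -⟩ := GrothLib.Contract29.exists_arith_contraction hAr E hexc
  haveI := hgen
  have hY' := GrothLib.Contract29.mdata_of_genericFibre_iso (Y := XX) D hY fY
  obtain ⟨e, he, -⟩ := Groth.Agent.S7308.result (X := X) E.ι hexc b hb fY.left hcY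
  obtain ⟨g', hX', -⟩ := GrothLib.ArSurf29.mdata_seq (Models.IsContractionSeq.iso e) hY'
  obtain ⟨-, hbp, y, hy, hrange, hyreg, hd, hblow⟩ := id hb
  haveI := hbp
  haveI := hyreg
  haveI : IsNoetherian X' := hX'.isNoetherian
  obtain ⟨-, k, _, e1, -⟩ := id hexc
  have hfib : b ⁻¹' {y} = Set.range E.ι := (GrothLib.ExcP1.range_eq_fibre hy hd hblow E.ι k e1 hrange).symm
  have huniq := GrothLib.ExcP1.existsUnique_factor hy hd hblow p (IsLocalRing.closedPoint R)
    ⟨E.ι (genericPoint E.curve.left), hfib.ge ⟨_, rfl⟩⟩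
    (fun a ha => GrothLib.ArSurf29.range_subset_fibre E (hfib.le ha))
  obtain rfl : p' = e.hom ≫ Y.hom := huniq.unique hcomm (by
    rw [← Category.assoc, he]
    exact Over.w fY)
  let XX' : Over (Spec (CommRingCat.of R)) := Over.mk (e.hom ≫ Y.hom)
  haveI : IsProper XX'.hom := hX'.proper
  haveI : Flat XX'.hom := hX'.flat
  haveI : IsNoetherian XX'.left := hX'.isNoetherian
  haveI : IsIntegral XX'.left := hX'.isIntegral
  haveI : IsProper (Y := XX'.left) (X := XX.left) b := hbp
  let V : X'.Opens := ⟨{y}ᶜ, hy.isOpen_compl⟩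
  haveI hpunct : IsIso (b ∣_ V) := by
    have h := GrothLib.BlowUp.isIso_off_center hblow
    rwa [show (Scheme.IdealSheafData.vanishingIdeal (⟨{y}, hy⟩ : TopologicalSpace.Closeds X')).support.compl = V from
      TopologicalSpace.Opens.ext (by
        show ((Scheme.IdealSheafData.vanishingIdeal (⟨{y}, hy⟩ : TopologicalSpace.Closeds X')).support : Set X')ᶜ = {y}ᶜ
        rw [Scheme.IdealSheafData.coe_support_vanishingIdeal]
        rfl)] at h
  haveI : IsIso ((show XX.left ⟶ XX'.left from b) ∣_ (⟨{y}ᶜ, hy.isOpen_compl⟩ : XX'.left.Opens)) := hpunct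
  obtain ⟨m, Γ'', hΓ''⟩ := GrothLib.ArSurf29.exists_componentList (X := XX') (hX'.dim_eq hCd hfp)
  have hcs := GrothLib.Contract29.fibreComponents_eq (X := XX) (X' := XX') b hcomm hΓ hy hfib hΓ''
  refine ⟨⟨⟨hX'.flat, inferInstanceAs (LocallyOfFiniteType XX'.hom), inferInstanceAs (QuasiCompact XX'.hom), g', hX'.pb⟩,
    hX'.proper, hX'.reg⟩, hcs, fun Γ' hΓ'r => ?_⟩
  have hΓ' := GrothLib.Contract29.isComponentList_image (X := XX) (X' := XX') b hΓ hy hfib hΓ'r hcs
  have hgp := fun l => GrothLib.Contract29.genPt_image (X := XX) (X' := XX') b (hΓ'r l)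
  exact ⟨fun i => GrothLib.Contract29.mult_image (X := XX) (X' := XX') hreg hX'.reg b hcomm hΓ hy hfib hΓ' hgp i,
    fun L' hL' i j => GrothLib.Contract29.inter_image (X := XX) (X' := XX') hreg hX'.reg b hcomm hΓ hy hfib hΓ' hgp hL hL' i j⟩

end Groth.Agent.S3346
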