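import Groth.Statements.S3348
import Groth.Agent.Lib.ArSurf29.Torsion

set_option autoImplicit false
universe u
open CategoryTheory CategoryTheory.Limits AlgebraicGeometry
open Models

namespace Groth.Agent.S3348

/-- In the following situation (R a discrete valuation ring with residue field k, C a smooth proper
curve over its fraction field K with H^0(C, O_C) = K, X a regular proper model with generic-fibre
inclusion g, Γ_1, …, Γ_n the irreducible components of the closed fibre, L_j ⊗ I(Γ_j) ≅ O_X, a_ij =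
deg_k(L_j|Γ_i), w_i = dim_k H^0(Γ_i, O)) let N be an invertible O_C-module and M an invertible
O_X-module restricting to N. Then the degree vector (deg_k(M|Γ_i))_i is of the form (Σ_j a_ij v_j)_i
for an integer vector v (the class (deg_k(M|Γ_i)/w_i)_i vanishes in the Picard group of the
numerical type, which does not depend on the choice of M) if and only if N is the restriction of an
invertible O_X-module M' with deg_k(M'|Γ_i) = 0 for all i. -/
theorem result (R : Type u) [CommRing R] [IsDomain R] [IsDiscreteValuationRing R]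
    (C X : Scheme.{u}) (f : C ⟶ Spec (CommRingCat.of (FractionRing R))) (p : X ⟶ Spec (CommRingCat.of R))
    (hC : Curve.IsSmoothProperCurve (FractionRing R) C f) (hH0 : IsIso f.appTop)
    (hX : Models.IsRegularProperModel R X p C f)
    {n : ℕ} (Γ : Fin n → ArSurf.VertComp R (Over.mk p)) (hΓ : Models.IsComponentList R (Over.mk p) Γ)
    (g : C ⟶ X) (hg : IsPullback g f p (Spec.map (CommRingCat.ofHom (algebraMap R (FractionRing R))))) (L : Fin n → X.Modules) (hL : ∀ i, ClSub.IsInverseOf (L i) (ClSub.idealMod (Γ i).ι.ker))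
    (N : C.Modules) (hN : PicF.IsInvertible N)
    (M : X.Modules) (hM : PicF.IsInvertible M) (hMN : Nonempty ((Scheme.Modules.pullback g).obj M ≅ N)) :
    (∃ v : Fin n → ℤ, ∀ i, ArSurf.inter R (Over.mk p) M (Γ i) = ∑ j, ArSurf.inter R (Over.mk p) (L j) (Γ i) * v j) ↔
      ∃ M' : X.Modules, PicF.IsInvertible M' ∧ Nonempty ((Scheme.Modules.pullback g).obj M' ≅ N) ∧
        ∀ i, ArSurf.inter R (Over.mk p) M' (Γ i) = 0 := by
  haveI : Flat (Over.mk p).hom := hX.1.1
  haveI : IsProper (Over.mk p).hom := hX.2.1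
  haveI : IsLocallyNoetherian (Over.mk p).left :=
    LocallyOfFiniteType.isLocallyNoetherian (Over.mk p).hom
  constructor
  · rintro ⟨v, hv⟩
    let x : GrothLib.Cube.Pic (Over.mk p).left := (show GrothLib.Cube.Pic (Over.mk p).left from GrothLib.Cube.clsMod hM) * (∏ j, GrothLib.ArSurf29.vcls hX.2.2 hΓ hL j ^ v j)⁻¹
    have hpull : GrothLib.Cube.pull g x = GrothLib.Cube.clsMod hN := by
      rw [map_mul, map_inv, map_prod, (GrothLib.ArSurf29.pull_cls_eq_iff g hM hN).1 hMN]
      simp only [map_zpow, GrothLib.ArSurf29.pull_vcls hX.2.2 hΓ hL hg, one_zpow, Finset.prod_const_one, inv_one, mul_one]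
    have hdeg : ∀ i, GrothLib.ArSurf29.icl (Γ i) x = 0 := fun i => by
      rw [GrothLib.ArSurf29.icl_mul, GrothLib.ArSurf29.icl_inv, GrothLib.ArSurf29.icl_prod_vcls, ← GrothLib.ArSurf29.inter_eq_icl (Γ i) hM, add_neg_eq_zero, hv i]
      exact Finset.sum_congr rfl fun j _ => mul_comm _ _
    exact ⟨GrothLib.HodgeIndex.rep x, GrothLib.HodgeIndex.isInv_rep x,
      (GrothLib.ArSurf29.pull_cls_eq_iff g (GrothLib.HodgeIndex.isInv_rep x) hN).2 (by rw [GrothLib.HodgeIndex.cls_rep]; exact hpull), hdeg⟩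
  · rintro ⟨M', hM', hMN', hdeg'⟩
    obtain ⟨a, ha⟩ := GrothLib.ArSurf29.exists_eq_prod_vcls' hX.2.2 hΓ hL hg (x := GrothLib.Cube.clsMod hM * (GrothLib.Cube.clsMod hM')⁻¹) (by
      rw [map_mul, map_inv, (GrothLib.ArSurf29.pull_cls_eq_iff g hM hN).1 hMN, (GrothLib.ArSurf29.pull_cls_eq_iff g hM' hN).1 hMN', mul_inv_cancel])
    refine ⟨fun j => (a j : ℤ), fun i => ?_⟩
    have h1 := congrArg (GrothLib.ArSurf29.icl (Γ i)) ha
    rw [GrothLib.ArSurf29.icl_mul, GrothLib.ArSurf29.icl_inv, ← GrothLib.ArSurf29.inter_eq_icl (Γ i) hM, ← GrothLib.ArSurf29.inter_eq_icl (Γ i) hM', GrothLib.ArSurf29.icl_prod] at h1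
    simp only [GrothLib.ArSurf29.icl_pow, GrothLib.ArSurf29.icl_vcls] at h1
    rw [hdeg' i, neg_zero, add_zero] at h1
    exact h1.trans (Finset.sum_congr rfl fun j _ => mul_comm _ _)

end Groth.Agent.S3348
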