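import Groth.Statements.S3350
import Groth.Agent.Lib.NumType.Basic

set_option autoImplicit false
open Finset
open Models Models.NumericalType

namespace Groth.Agent.S3350

/-- Classification of proper subgraphs with two vertices: Let T be a numerical type on n > 2 indices and
i ≠ j two (-2)-indices (g = 0 and a_ii = -2 w_i, a_jj = -2 w_j) with a_ij > 0. Then, after possibly
exchanging i and j, one of the following holds with w = w_i: (A2) w_j = w, a_ij = w, 2 m_i ≥ m_j and
2 m_j ≥ m_i; (B2) w_j = 2w, a_ij = 2w, m_i ≥ m_j and 2 m_j ≥ m_i; (G2) w_j = 3w, a_ij = 3w, 2 m_i ≥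
3 m_j and 2 m_j ≥ m_i. -/
theorem result {n : ℕ} (T : Models.NumericalType n) (hn : 2 < n) (i j : Fin n)
    (hij : i ≠ j) (hi : T.IsMinusTwo i) (hj : T.IsMinusTwo j) (hpos : 0 < T.a i j) :
    ∃ i' j' : Fin n, ((i' = i ∧ j' = j) ∨ (i' = j ∧ j' = i)) ∧
      ((T.w j' = T.w i' ∧ T.a i' j' = T.w i' ∧ T.m j' ≤ 2 * T.m i' ∧ T.m i' ≤ 2 * T.m j') ∨
        (T.w j' = 2 * T.w i' ∧ T.a i' j' = 2 * T.w i' ∧ T.m j' ≤ T.m i' ∧ T.m i' ≤ 2 * T.m j') ∨
        (T.w j' = 3 * T.w i' ∧ T.a i' j' = 3 * T.w i' ∧ 3 * T.m j' ≤ 2 * T.m i' ∧ T.m i' ≤ 2 * T.m j')) := by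
  open GrothLib.NumType Finset in
  classical
  have hA : Adj T i j := adj_of_pos hij hpos
  obtain ⟨p, hp1, hp⟩ := hA.exists_mult
  obtain ⟨q, hq1, hq⟩ := hA.symm.exists_mult
  rw [← a_comm T i j] at hq
  have hwi := T.w_pos i
  have hwj := T.w_pos j
  have hmi := T.m_pos i
  have hmj := T.m_pos j
  have ri := row_le (T := T) (i := i) {j} (by simp [hij])
  have rj := row_le (T := T) (i := j) {i} (by simp [hij.symm])
  simp only [Finset.sum_singleton] at ri rj
  rw [hi.2] at ri; rw [hj.2, ← a_comm T i j] at rj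
  have hlt : T.a i j * T.a i j < 4 * (T.w i * T.w j) := by
    have hst : T.a i j * T.m j < 2 * (T.w i * T.m i) ∨ T.a i j * T.m i < 2 * (T.w j * T.m j) := by
      obtain ⟨u, hu, v, hv, huv⟩ := exists_adj_out (T := T) {i, j} (by simp)
        (by rw [Finset.card_pair hij]; exact hn)
      simp only [Finset.mem_insert, Finset.mem_singleton, not_or] at hu hv
      have hpv := mul_pos huv.pos (T.m_pos v)
      rcases hu with rfl | rfl
      · left
        have := row_le (T := T) (i := u) {j, v} (by simp [hij, huv.ne])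
        rw [Finset.sum_pair (Ne.symm hv.2), hi.2] at this
        linarith
      · right
        have := row_le (T := T) (i := u) {i, v} (by simp [hij.symm, huv.ne])
        rw [Finset.sum_pair (Ne.symm hv.1), hj.2, ← a_comm T i u] at this
        linarith
    by_contra hc
    push_neg at hc
    have e1 := mul_pos hA.pos hmj
    have e2 := mul_pos hA.pos hmi
    rcases hst with h | h
    · nlinarith [mul_lt_mul_of_pos_right h e2, mul_le_mul_of_nonneg_left (show T.a i j * T.m i ≤ 2 * (T.w j * T.m j) by linarith) (show 0 ≤ 2 * (T.w i * T.m i) by positivity), mul_le_mul_of_nonneg_right hc (mul_pos hmi hmj).le]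
    · nlinarith [mul_lt_mul_of_pos_right h e1, mul_le_mul_of_nonneg_left (show T.a i j * T.m j ≤ 2 * (T.w i * T.m i) by linarith) (show 0 ≤ 2 * (T.w j * T.m j) by positivity), mul_le_mul_of_nonneg_right hc (mul_pos hmi hmj).le]
  have hpq : p * q < 4 := by
    have : p * q * (T.w i * T.w j) < 4 * (T.w i * T.w j) := by
      calc p * q * (T.w i * T.w j) = (T.w i * p) * (T.w j * q) := by ring
        _ = T.a i j * T.a i j := by rw [← hp, ← hq]
        _ < _ := hlt
    exact lt_of_mul_lt_mul_right this (by positivity)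
  have hp4 : p < 4 := lt_of_le_of_lt (le_mul_of_one_le_right (by omega) hq1) hpq
  have hq4 : q < 4 := lt_of_le_of_lt (le_mul_of_one_le_left (by omega) hp1) hpq
  have cancel : ∀ {w x y : ℤ}, 0 < w → w * x ≤ w * y → x ≤ y :=
    fun hw h => le_of_mul_le_mul_left h hw
  interval_cases p <;> interval_cases q <;> norm_num at hpq
  · have e : T.w j = T.w i := by linarith
    refine ⟨i, j, Or.inl ⟨rfl, rfl⟩, Or.inl ⟨e, by linarith, cancel hwi ?_, cancel hwi ?_⟩⟩
    · rw [hp] at ri; linarith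
    · rw [hp, e] at rj; linarith
  · have e : T.w i = 2 * T.w j := by linarith
    refine ⟨j, i, Or.inr ⟨rfl, rfl⟩, Or.inr (Or.inl ⟨e, by rw [← a_comm T i j]; linarith, cancel hwj ?_, cancel hwj ?_⟩)⟩
    · rw [hp, e] at rj; linarith
    · rw [hp, e] at ri; linarith
  · have e : T.w i = 3 * T.w j := by linarith
    refine ⟨j, i, Or.inr ⟨rfl, rfl⟩, Or.inr (Or.inr ⟨e, by rw [← a_comm T i j]; linarith, cancel hwj ?_, cancel hwj ?_⟩)⟩
    · rw [hp, e] at rj; linarith
    · rw [hp, e] at ri; linarith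
  · have e : T.w j = 2 * T.w i := by linarith
    refine ⟨i, j, Or.inl ⟨rfl, rfl⟩, Or.inr (Or.inl ⟨e, by linarith, cancel hwi ?_, cancel hwi ?_⟩)⟩
    · rw [hp] at ri; linarith
    · rw [hp, e] at rj; linarith
  · have e : T.w j = 3 * T.w i := by linarith
    refine ⟨i, j, Or.inl ⟨rfl, rfl⟩, Or.inr (Or.inr ⟨e, by linarith, cancel hwi ?_, cancel hwi ?_⟩)⟩
    · rw [hp] at ri; linarith
    · rw [hp, e] at rj; linarith
end Groth.Agent.S3350
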