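import Groth.Statements.S3352
import Groth.Agent.Lib.LatDual.Basic

set_option autoImplicit false
open Models

namespace Groth.Agent.S3352

/-- Let L₀, L₁ be finite free ℤ-modules with positive definite symmetric integral bilinear forms, the
form on L₀ unimodular (x ↦ ⟨x, −⟩ is a bijection L₀ → Hom(L₀, ℤ)), and let d : L₀ → L₁ and d* : L₁ →
L₀ be adjoint. Identify Im(d)^# (the dual lattice of Im(d)) with Hom(Im(d), ℤ) through the form on
L₁. Then there is an isomorphism Φ from the torsion subgroup of Coker(d* d) onto Im(d)^#/Im(d),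
determined by: for x ∈ L₀ whose class is torsion, Φ[x] is the class of the functional d(y') ↦ ⟨x,
y'⟩ (equivalently the class of (1/a)·d(y) when a·x = d* d(y)). -/
theorem result {L₀ L₁ : Type} [AddCommGroup L₀] [AddCommGroup L₁]
    [Module.Finite ℤ L₀] [Module.Free ℤ L₀] [Module.Finite ℤ L₁] [Module.Free ℤ L₁]
    (B₀ : LinearMap.BilinForm ℤ L₀) (B₁ : LinearMap.BilinForm ℤ L₁) (h₀s : B₀.IsSymm) (h₁s : B₁.IsSymm)
    (h₀p : ∀ x, x ≠ 0 → 0 < B₀ x x) (h₁p : ∀ x, x ≠ 0 → 0 < B₁ x x) (huni : Function.Bijective B₀)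
    (d : L₀ →ₗ[ℤ] L₁) (ds : L₁ →ₗ[ℤ] L₀) (hadj : ∀ x y, B₁ (d x) y = B₀ x (ds y)) :
    ∃ Φ : ↥(Submodule.torsion ℤ (L₀ ⧸ LinearMap.range (ds ∘ₗ d))) ≃ₗ[ℤ]
        (Module.Dual ℤ ↥(LinearMap.range d) ⧸
          LinearMap.range ((B₁.compl₂ (LinearMap.range d).subtype) ∘ₗ (LinearMap.range d).subtype)),
      ∀ (x : L₀) (hx : Submodule.Quotient.mk x ∈ Submodule.torsion ℤ (L₀ ⧸ LinearMap.range (ds ∘ₗ d)))
        (ψ : Module.Dual ℤ ↥(LinearMap.range d)),
        (∀ y' : L₀, ψ ⟨d y', LinearMap.mem_range_self d y'⟩ = B₀ x y') →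
          Φ ⟨Submodule.Quotient.mk x, hx⟩ = Submodule.Quotient.mk ψ := by
  let e : L₀ ≃ₗ[ℤ] Module.Dual ℤ L₀ := LinearEquiv.ofBijective B₀ huni
  set Q := LinearMap.range (ds ∘ₗ d)
  let N : Submodule ℤ (Module.Dual ℤ ↥(LinearMap.range d)) :=
    LinearMap.range ((B₁.compl₂ (LinearMap.range d).subtype) ∘ₗ (LinearMap.range d).subtype)
  let g : Module.Dual ℤ ↥(LinearMap.range d) →ₗ[ℤ] L₀ :=
    e.symm.toLinearMap ∘ₗ (LinearMap.lcomp ℤ ℤ d.rangeRestrict)
  have hg : ∀ ψ y, B₀ (g ψ) y = ψ ⟨d y, LinearMap.mem_range_self d y⟩ := fun ψ y => by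
    have : B₀ (g ψ) = ψ ∘ₗ d.rangeRestrict := e.apply_symm_apply _
    rw [this]; rfl
  have hgN : ∀ (ψ : Module.Dual ℤ ↥(LinearMap.range d)) (n : ℤ) (z : L₀),
      n • ψ = (B₁ (d z)) ∘ₗ (LinearMap.range d).subtype → n • g ψ = ds (d z) := by
    intro ψ n z h
    refine huni.1 (LinearMap.ext fun y => ?_)
    have := LinearMap.congr_fun h ⟨d y, LinearMap.mem_range_self d y⟩
    simp only [LinearMap.smul_apply, LinearMap.comp_apply, Submodule.coe_subtype] at this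
    rw [map_smul, LinearMap.smul_apply, hg, this, h₁s.eq, hadj, h₀s.eq]
  let Ψ : Module.Dual ℤ ↥(LinearMap.range d) →ₗ[ℤ] ↥(Submodule.torsion ℤ (L₀ ⧸ Q)) :=
    LinearMap.codRestrict _ (Q.mkQ ∘ₗ g) fun ψ => by
      obtain ⟨n, ⟨v, z, rfl⟩, hn, h⟩ := GrothLib.LatDual.exists_smul_eq B₁ h₁p (LinearMap.range d) ψ
      refine ⟨⟨n, mem_nonZeroDivisors_of_ne_zero hn⟩, ?_⟩
      change n • Q.mkQ (g ψ) = 0
      rw [← map_smul, hgN ψ n z h, Submodule.mkQ_apply, Submodule.Quotient.mk_eq_zero]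
      exact ⟨z, rfl⟩
  have hker : ∀ ψ, Ψ ψ = 0 ↔ ψ ∈ N := by
    intro ψ
    rw [← Subtype.coe_inj]
    change Q.mkQ (g ψ) = 0 ↔ _
    rw [Submodule.mkQ_apply, Submodule.Quotient.mk_eq_zero]
    constructor
    · rintro ⟨z, hz⟩
      refine ⟨⟨d z, LinearMap.mem_range_self d z⟩, LinearMap.ext ?_⟩
      rintro ⟨_, y, rfl⟩
      change B₁ (d z) (d y) = _
      rw [← hg, ← hz]
      change B₁ (d z) (d y) = B₀ (ds (d z)) y
      rw [h₁s.eq, hadj, h₀s.eq]
    · rintro ⟨⟨_, z, rfl⟩, rfl⟩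
      exact ⟨z, ((hgN _ 1 z (one_smul _ _)).symm.trans (one_smul _ _))⟩
  have hsurj : Function.Surjective Ψ := by
    rintro ⟨q, hq⟩
    obtain ⟨x, rfl⟩ := Q.mkQ_surjective q
    obtain ⟨⟨n, hn⟩, hnx⟩ := hq
    change n • Q.mkQ x = 0 at hnx
    rw [← map_smul, Submodule.mkQ_apply, Submodule.Quotient.mk_eq_zero] at hnx
    obtain ⟨z, hz⟩ := hnx
    have hk : LinearMap.ker d.rangeRestrict ≤ LinearMap.ker (B₀ x) := by
      intro y hy
      have hy' : d y = 0 := congrArg Subtype.val hy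
      have h1 : n * B₀ x y = 0 := by
        rw [← smul_eq_mul, ← LinearMap.smul_apply, ← map_smul, ← hz]
        change B₀ (ds (d z)) y = 0
        rw [h₀s.eq, ← hadj, hy', map_zero, LinearMap.zero_apply]
      exact (mul_eq_zero.1 h1).resolve_left (nonZeroDivisors.ne_zero hn)
    let ψ := ((LinearMap.ker d.rangeRestrict).liftQ (B₀ x) hk) ∘ₗ
      (LinearMap.quotKerEquivOfSurjective d.rangeRestrict d.surjective_rangeRestrict).symm.toLinearMap
    refine ⟨ψ, Subtype.ext (congrArg Q.mkQ (huni.1 (LinearMap.ext fun y => ?_)))⟩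
    rw [hg]
    change (LinearMap.ker d.rangeRestrict).liftQ (B₀ x) hk
      ((LinearMap.quotKerEquivOfSurjective d.rangeRestrict d.surjective_rangeRestrict).symm (d.rangeRestrict y)) = _
    rw [show (LinearMap.quotKerEquivOfSurjective d.rangeRestrict d.surjective_rangeRestrict).symm (d.rangeRestrict y) =
      Submodule.Quotient.mk y from (LinearEquiv.symm_apply_eq _).2 rfl, Submodule.liftQ_apply]
  let Θ := N.liftQ Ψ fun ψ hψ => (hker ψ).2 hψ
  have hΘ : Function.Bijective Θ := by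
    refine ⟨?_, fun q => ?_⟩
    · rw [injective_iff_map_eq_zero]
      intro q hq
      obtain ⟨ψ, rfl⟩ := N.mkQ_surjective q
      exact (Submodule.Quotient.mk_eq_zero N).2 ((hker ψ).1 hq)
    · obtain ⟨ψ, rfl⟩ := hsurj q
      exact ⟨Submodule.Quotient.mk ψ, rfl⟩
  refine ⟨(LinearEquiv.ofBijective Θ hΘ).symm, fun x hx ψ hψ => (LinearEquiv.symm_apply_eq _).2 ?_⟩
  apply Subtype.ext
  change Q.mkQ x = Q.mkQ (g ψ)
  exact congrArg Q.mkQ (huni.1 (LinearMap.ext fun y => (hψ y).symm.trans (hg ψ y).symm))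

end Groth.Agent.S3352
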