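import Groth.Statements.S3354
import Groth.Agent.Lib.RamSam.PullPunct


set_option autoImplicit false
universe u
open CategoryTheory CategoryTheory.Limits AlgebraicGeometry
open ParaF

namespace Groth.Agent.S3354

/-- Let A be a Noetherian local ring which is a quotient of a regular local ring, t an A-regular element
of the maximal ideal such that A is complete for the t-adic topology, X the punctured spectrum of A
and Y = V(t) ∩ X (the punctured spectrum of B = A/tA, as the closed subscheme of X cut out by t).
Assume (a) A_p has depth ≥ 2 for every prime p with dim A/p = 1 (the closed points of X) and (b) B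
has depth ≥ 3. Then the map Pic(X) → Pic(Y) has trivial kernel: an invertible O_X-module whose
pull-back to Y is trivial is trivial. In particular, if B is parafactorial then A is parafactorial. -/
theorem result (R : Type u) [CommRing R] [IsRegularLocalRing R] (A : Type u) [CommRing A] [IsLocalRing A] [IsNoetherianRing A] (π : R →+* A) (hπ : Function.Surjective π) (t : A) (ht : t ∈ IsLocalRing.maximalIdeal A) (hreg : IsSMulRegular A t) [IsAdicComplete (Ideal.span {t}) A] (ha : ∀ p : PrimeSpectrum A, ringKrullDim (A ⧸ p.asIdeal) = 1 → (2 : ℕ∞) ≤ LocCoh.depth (Localization.AtPrime p.asIdeal) (Localization.AtPrime p.asIdeal)) [IsLocalRing (A ⧸ Ideal.span {t})] (hb : (3 : ℕ∞) ≤ LocCoh.depth (A ⧸ Ideal.span {t}) (A ⧸ Ideal.span {t})) : Formal2.PicPullbackInjective (((Spec.map (CommRingCat.ofHom (Ideal.Quotient.mk (Ideal.span {t})))).ker.comap (FEt.puncturedSpec A).ι)).subschemeι ∧ (ParaF.IsParafactorialLocalRing (A ⧸ Ideal.span {t}) → ParaF.IsParafactorialLocalRing A) := by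
  have hne : (Ideal.span {t} : Ideal A) ≠ ⊤ := fun h =>
    (IsLocalRing.maximalIdeal.isMaximal A).ne_top (top_le_iff.1 (h ▸ (Ideal.span_singleton_le_iff_mem _).2 ht))
  have hgr := GrothLib.RamSam.free_gr_span_singleton t hreg
  refine ⟨GrothLib.RamSam.exists_iso_of_grFree _ hb hgr, fun hB => ?_⟩
  refine (GrothLib.ParaPair.isParafactorialLocalRing_iff A).2 ⟨GrothLib.RamSam.bijective_res_of_depth_two A
    (le_trans (by norm_num) (GrothLib.RamSam.le_depth_of_grFree _ hne hgr (n := 3) hb)), ?_⟩
  exact GrothLib.RamSam.picTrivial_of_grFree _ hb hgr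
    ((GrothLib.ParaPair.isParafactorialLocalRing_iff (A ⧸ Ideal.span {t})).1 hB).2

end Groth.Agent.S3354
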