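import Groth.Statements.S3355
import Groth.Agent.Lib.SGA2Para.Bijective
import Groth.Agent.Lib.SGA2Para.CI


set_option autoImplicit false
universe u
open CategoryTheory CategoryTheory.Limits AlgebraicGeometry
open ParaF

namespace Groth.Agent.S3355

/-- Let A be a Noetherian local ring which is a quotient of a regular local ring, t an A-regular element
of the maximal ideal with A complete for the t-adic topology, X the punctured spectrum of A and Y =
V(t) ∩ X, and assume (a) depth A_p ≥ 2 for every prime p with dim A/p = 1. Assume moreover (c) depth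
A_p ≥ 3 for every prime p containing t with dim A/p = 1 (the closed points of Y), (d) depth A/tA ≥
4, and (e) A_p is parafactorial for every prime p not containing t with dim A/p = 1, i.e. at the
closed points of X outside Y (the published statement places this hypothesis at the points of Y;
here it is taken at the closed points of X outside Y; the letters (a), (c), (d), (e) match the names
of the hypotheses in the Lean statement). Then pull-back along Y → X induces a bijection Pic(X) →
Pic(Y) (trivial kernel and every invertible O_Y-module comes from an invertible O_X-module); in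
particular A is parafactorial if and only if A/tA is. -/
theorem result (R : Type u) [CommRing R] [IsRegularLocalRing R] (A : Type u) [CommRing A] [IsLocalRing A] [IsNoetherianRing A] (π : R →+* A) (hπ : Function.Surjective π) (t : A) (ht : t ∈ IsLocalRing.maximalIdeal A) (hreg : IsSMulRegular A t) [IsAdicComplete (Ideal.span {t}) A] (ha : ∀ p : PrimeSpectrum A, ringKrullDim (A ⧸ p.asIdeal) = 1 → (2 : ℕ∞) ≤ LocCoh.depth (Localization.AtPrime p.asIdeal) (Localization.AtPrime p.asIdeal)) (hc : ∀ p : PrimeSpectrum A, t ∈ p.asIdeal → ringKrullDim (A ⧸ p.asIdeal) = 1 → (3 : ℕ∞) ≤ LocCoh.depth (Localization.AtPrime p.asIdeal) (Localization.AtPrime p.asIdeal)) [IsLocalRing (A ⧸ Ideal.span {t})] (hd : (4 : ℕ∞) ≤ LocCoh.depth (A ⧸ Ideal.span {t}) (A ⧸ Ideal.span {t})) (he : ∀ p : PrimeSpectrum A, t ∉ p.asIdeal → ringKrullDim (A ⧸ p.asIdeal) = 1 → ParaF.IsParafactorialLocalRing (Localization.AtPrime p.asIdeal)) : (Formal2.PicPullbackInjective (((Spec.map (CommRingCat.ofHom (Ideal.Quotient.mk (Ideal.span {t})))).ker.comap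 (FEt.puncturedSpec A).ι)).subschemeι ∧ Formal2.PicPullbackSurjective (((Spec.map (CommRingCat.ofHom (Ideal.Quotient.mk (Ideal.span {t})))).ker.comap (FEt.puncturedSpec A).ι)).subschemeι) ∧ (ParaF.IsParafactorialLocalRing A ↔ ParaF.IsParafactorialLocalRing (A ⧸ Ideal.span {t})) := by
  have hJne : Ideal.span {t} ≠ (⊤ : Ideal A) := fun h =>
    (IsLocalRing.maximalIdeal.isMaximal A).ne_top (top_le_iff.1 (h ▸ (Ideal.span_singleton_le_iff_mem _).2 ht))
  have hone : ∀ (P : Ideal A) [P.IsPrime], GrothLib.SGA2Para.IsCurvePrime t P → ringKrullDim (A ⧸ P) = 1 := by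
    intro P _ hP
    haveI := GrothLib.SGA2Para.ringKrullDim_quotient_le_one ht hP
    haveI : IsDomain (A ⧸ P) := (Ideal.Quotient.isDomain_iff_prime P).2 inferInstance
    have hle : ringKrullDim (A ⧸ P) ≤ 1 := Ring.krullDimLE_iff.1 inferInstance
    refine le_antisymm hle ?_
    by_contra hlt
    have h0 : ringKrullDim (A ⧸ P) = 0 := by
      obtain ⟨d, hd'⟩ := WithBot.ne_bot_iff_exists.1 (ringKrullDim_ne_bot (R := A ⧸ P))
      rw [← hd'] at hlt ⊢
      have hlt' : ¬ (1 : ℕ∞) ≤ d := fun h => hlt (WithBot.coe_le_coe.2 h)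
      exact congrArg WithBot.some (ENat.lt_one_iff_eq_zero.1 (not_le.1 hlt'))
    haveI : Ring.KrullDimLE 0 (A ⧸ P) := Ring.krullDimLE_iff.2 h0.le
    have hF : IsField (A ⧸ P) := Ring.KrullDimLE.isField_of_isDomain
    exact hP.1 (IsLocalRing.eq_maximalIdeal ((Ideal.Quotient.maximal_ideal_iff_isField_quotient P).2 hF))
  have hloc : ∀ (P : Ideal A) [P.IsPrime], GrothLib.SGA2Para.IsCurvePrime t P →
      (2 : ℕ∞) ≤ LocCoh.depth (Localization.AtPrime P) (Localization.AtPrime P) ∧
        ParaF.IsParafactorialLocalRing (Localization.AtPrime P) := fun P _ hP =>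
    ⟨ha ⟨P, inferInstance⟩ (hone P hP), he ⟨P, inferInstance⟩ hP.2.1 (hone P hP)⟩
  have hgr := GrothLib.RamSam.free_gr_span_singleton t hreg
  have hd3 : (3 : ℕ∞) ≤ LocCoh.depth (A ⧸ Ideal.span {t}) (A ⧸ Ideal.span {t}) := le_trans (by norm_num) hd
  refine ⟨⟨GrothLib.RamSam.exists_iso_of_grFree _ hd3 hgr,
    GrothLib.SGA2Para.picPullbackSurjective hreg ht hd fun P _ hP =>
      ⟨(hloc P hP).1, GrothLib.SGA2Para.moduleTriv_of_parafactorial (hloc P hP).1 (hloc P hP).2⟩⟩,
    fun h => GrothLib.SGA2Para.isParafactorial_quotient hreg ht hd hloc h, fun h => ?_⟩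
  have hdA : (2 : ℕ∞) ≤ LocCoh.depth A A :=
    le_trans (by norm_num) (GrothLib.RamSam.le_depth_of_grFree _ hJne hgr (n := 4) hd)
  exact (GrothLib.ParaPair.isParafactorialLocalRing_iff A).2 ⟨GrothLib.RamSam.bijective_res_of_depth_two A hdA,
    GrothLib.RamSam.picTrivial_of_grFree _ hd3 hgr ((GrothLib.ParaPair.isParafactorialLocalRing_iff _).1 h).2⟩

end Groth.Agent.S3355
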