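import Groth.Statements.S3360
import Groth.Agent.Lib.RelVan7.Lef
-- import your own Groth.Agent.* helpers here

set_option autoImplicit false
universe u
open CategoryTheory CategoryTheory.Limits AlgebraicGeometry
open Lef

namespace Groth.Agent.S3360

/-- Case 'resp.', over an affine base. Let A be a Noetherian ring, X a proper flat A-scheme, 𝓘 a
quasi-coherent ideal whose ideal module is invertible with ample inverse L (𝓘 is cut out by a
regular section of L; X is projective over A), Y = V(𝓘). If every fibre X_s has depth ≥ 2 at each of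
its closed points, then Lef(X, Y) holds: for every open U ⊇ Y and every finite locally free
O_U-module D, Hom(D, O_U) → lim_n Hom(D, O_U/𝓘^(n+1)) is bijective. -/
theorem result (A : Type u) [CommRing A] [IsNoetherianRing A] (X : Scheme.{u}) [X.Over (Spec (CommRingCat.of A))] [IsProper (X ↘ Spec (CommRingCat.of A))] [Flat (X ↘ Spec (CommRingCat.of A))] (𝓘 : X.IdealSheafData) (L : X.Modules) (hL : ClSub.IsInverseOf L (ClSub.idealMod 𝓘)) (hamp : CohB1.IsAmple L) (hdepth : ∀ x : X, IsClosed ({((X ↘ Spec (CommRingCat.of A))).asFiber x} : Set ↥(((X ↘ Spec (CommRingCat.of A))).fiber (((X ↘ Spec (CommRingCat.of A))).base x))) → (2 : ℕ∞) ≤ LocCoh.depth ↑(CInt.fiberStalk (X ↘ Spec (CommRingCat.of A)) x) ↑(CInt.fiberStalk (X ↘ Spec (CommRingCat.of A)) x)) : Lef.LefCond X 𝓘 := by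
  exact GrothLib.RelVan7.lefCond_of_fibre_depth A 𝓘 hL hamp hdepth

end Groth.Agent.S3360
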