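import Groth.Statements.S3362
import Groth.Agent.Lib.Conn1.Punctured
-- import your own Groth.Agent.* helpers here

set_option autoImplicit false
universe u
open CategoryTheory CategoryTheory.Limits AlgebraicGeometry TopologicalSpace
open LefX

namespace Groth.Agent.S3362

/-- Let A be a complete Noetherian local ring, X' the punctured spectrum of A and k ≥ 1. Assume (a_k)
every irreducible component of X' has dimension ≥ k + 1, and (b_k) X' is connected in dimension ≥ k,
i.e. X' minus any closed subset of dimension < k is connected. Let 0 ≤ m ≤ k and let f_1, …, f_m be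
elements of the maximal ideal, B = A/(f_1, …, f_m), Y' the punctured spectrum of B. Then Y'
satisfies (a_{k−m}) and (b_{k−m}); in particular Y' is connected. -/
theorem result (A : Type u) [CommRing A] [IsNoetherianRing A] [IsLocalRing A] [IsAdicComplete (IsLocalRing.maximalIdeal A) A] (k : ℕ) (hk : 1 ≤ k) (ha : ∀ Z ∈ irreducibleComponents ↥(FEt.puncturedSpec A), ((k + 1 : ℕ) : WithBot ℕ∞) ≤ topologicalKrullDim ↥Z) (hb : LefX.ConnectedInDim ↥(FEt.puncturedSpec A) k) (m : ℕ) (hm : m ≤ k) (f : Fin m → A) (hf : ∀ i, f i ∈ IsLocalRing.maximalIdeal A) [IsLocalRing (A ⧸ Ideal.span (Set.range f))] : (∀ Z ∈ irreducibleComponents ↥(FEt.puncturedSpec (A ⧸ Ideal.span (Set.range f))), ((k - m + 1 : ℕ) : WithBot ℕ∞) ≤ topologicalKrullDim ↥Z) ∧ LefX.ConnectedInDim ↥(FEt.puncturedSpec (A ⧸ Ideal.span (Set.range f))) (k - m) := by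
  classical
  set I : Ideal A := Ideal.span (Set.range f) with hIdef
  have hI : I ≠ ⊤ := ne_top_of_le_ne_top (IsLocalRing.maximalIdeal.isMaximal A).ne_top
    (Ideal.span_le.2 (by rintro _ ⟨i, rfl⟩; exact hf i))
  have hb' : LefX.ConnectedInDim (GrothLib.Conn1.punct A) k := hb
  have ha' : ∀ Z ∈ irreducibleComponents (GrothLib.Conn1.punct A),
      ((k + 1 : ℕ) : WithBot ℕ∞) ≤ topologicalKrullDim Z := ha
  have hbig : ∀ p ∈ minimalPrimes A, ((k + 2 : ℕ) : WithBot ℕ∞) ≤ ringKrullDim (A ⧸ p) := by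
    intro p hp
    refine GrothLib.Conn1.succ_le_dim_quotient_of_components ha' hp ?_
    intro hpm
    obtain ⟨x, -⟩ := (hb' ∅ isClosed_empty (by
      rw [GrothLib.Conn1.dim_sub isClosed_empty, Order.krullDim_eq_bot]
      exact WithBot.bot_lt_coe _)).nonempty
    exact x.2 (PrimeSpectrum.ext (le_antisymm (IsLocalRing.le_maximalIdeal x.1.isPrime.ne_top)
      (hpm.ge.trans (hp.2 ⟨x.1.isPrime, bot_le⟩
        ((IsLocalRing.le_maximalIdeal x.1.isPrime.ne_top).trans hpm.ge)))))
  refine ⟨fun Z hZ => GrothLib.Conn1.components_of_succ_le_dim_quotient ?_ hZ,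
    GrothLib.Conn1.connectedInDim_of_le_connDim ?_⟩
  · intro p hp
    haveI := hp.1.1
    have hq : p.comap (Ideal.Quotient.mk I) ∈ I.minimalPrimes :=
      GrothLib.ConeConn3.comap_mem_minimalPrimes I hp
    haveI := hq.1.1
    obtain ⟨p₀, hp₀, hle⟩ := Ideal.exists_minimalPrimes_le (I := (⊥ : Ideal A))
      (J := p.comap (Ideal.Quotient.mk I)) bot_le
    haveI := hp₀.1.1
    have h1 := (hbig p₀ hp₀).trans (GrothLib.Conn1.le_dim_quotient_add f hle hq)
    rw [GrothLib.ConeConn3.dim_comap_mk] at h1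
    exact GrothLib.Conn1.le_of_le_add (b := m) (by
      rw [show k - m + 2 + m = k + 2 by omega]; exact h1)
  · have h1 := GrothLib.HLVT.min_connDim_subdim_le_ara I hI (Finset.univ.image f) (by simp [hIdef])
    have h2 : ((k + 2 : ℕ) : WithBot ℕ∞) ≤ min (LocCoh.connDim (PrimeSpectrum A) + 1)
        (LocCoh.subdim (PrimeSpectrum A)) :=
      le_min (by
        refine le_trans (le_of_eq ?_) (add_le_add (GrothLib.Conn1.le_connDim_of_connectedInDim hb') le_rfl)
        push_cast; ring)
        (GrothLib.Conn1.le_subdim hbig)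
    have h3 : ((Finset.univ.image f).card : WithBot ℕ∞) ≤ (m : WithBot ℕ∞) := by
      exact_mod_cast Finset.card_image_le.trans (by simp)
    refine GrothLib.Conn1.le_of_le_add (b := m + 1) ?_
    rw [show k - m + 1 + (m + 1) = k + 2 by omega]
    exact h2.trans (h1.trans ((add_le_add (add_le_add le_rfl h3) le_rfl).trans
      (le_of_eq (by rw [Nat.cast_add, Nat.cast_one, add_assoc]))))

end Groth.Agent.S3362
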