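import Groth.Statements.S3363
import Groth.Agent.Lib.Conn1.LinearSection
-- import your own Groth.Agent.* helpers here

set_option autoImplicit false
universe u
open CategoryTheory CategoryTheory.Limits AlgebraicGeometry TopologicalSpace
open LefX

namespace Groth.Agent.S3363

/-- Let A be a normal complete Noetherian local domain of dimension ≥ k + 2, X' its punctured spectrum,
f_1, …, f_k elements of the maximal ideal and Y' = X' ∩ V(f_1, …, f_k), the closed subscheme of X'
cut out by the f_i. Then Y' is connected and restriction of finite étale covers from X' to Y' is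
fully faithful (for the fundamental groups: π₁(Y') → π₁(X') is surjective). -/
theorem result (A : Type u) [CommRing A] [IsDomain A] [IsNoetherianRing A] [IsLocalRing A] [IsIntegrallyClosed A] [IsAdicComplete (IsLocalRing.maximalIdeal A) A] (k : ℕ) (hdim : ((k + 2 : ℕ) : WithBot ℕ∞) ≤ ringKrullDim A) (f : Fin k → A) (hf : ∀ i, f i ∈ IsLocalRing.maximalIdeal A) : ConnectedSpace ↥(((Spec.map (CommRingCat.ofHom (Ideal.Quotient.mk (Ideal.span (Set.range f))))).ker.comap (FEt.puncturedSpec A).ι).subscheme) ∧ (FEt.restrict ((Spec.map (CommRingCat.ofHom (Ideal.Quotient.mk (Ideal.span (Set.range f))))).ker.comap (FEt.puncturedSpec A).ι).subschemeι).Full ∧ (FEt.restrict ((Spec.map (CommRingCat.ofHom (Ideal.Quotient.mk (Ideal.span (Set.range f))))).ker.comap (FEt.puncturedSpec A).ι).subschemeι).Faithful := by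
  refine GrothLib.Conn1.fullyFaithful_section hdim f hf _ ?_
  rw [Scheme.IdealSheafData.range_subschemeι, Scheme.IdealSheafData.support_comap]
  ext x
  change (x.1 : Spec (CommRingCat.of A)) ∈
    ((Spec.map (CommRingCat.ofHom (Ideal.Quotient.mk (Ideal.span (Set.range f))))).ker.support :
      Set (Spec (CommRingCat.of A))) ↔ _
  haveI : IsClosedImmersion (Spec.map (CommRingCat.ofHom (Ideal.Quotient.mk (Ideal.span (Set.range f))))) :=
    IsClosedImmersion.spec_of_surjective _ Ideal.Quotient.mk_surjective
  rw [Scheme.Hom.support_ker, IsClosed.closure_eq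
    (Spec.map (CommRingCat.ofHom (Ideal.Quotient.mk (Ideal.span (Set.range f))))).isClosedEmbedding.isClosed_range]
  change (x.1 : PrimeSpectrum A) ∈ Set.range (PrimeSpectrum.comap (Ideal.Quotient.mk (Ideal.span (Set.range f)))) ↔ _
  rw [range_comap_of_surjective _ _ Ideal.Quotient.mk_surjective, Ideal.mk_ker]
  exact ⟨fun h j => h (Ideal.subset_span (Set.mem_range_self j)),
    fun h => Ideal.span_le.2 (by rintro _ ⟨j, rfl⟩; exact h j)⟩

end Groth.Agent.S3363
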