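import Groth.Statements.S3367
import Groth.Agent.Lib.HtpDepth13.Main

set_option autoImplicit false
universe u
open CategoryTheory CategoryTheory.Limits AlgebraicGeometry Opposite
open EtDepth

namespace Groth.Agent.S3367

/-- Let X be a locally Noetherian scheme and j : U → X an open immersion with closed complement Y.
Assume either that every local ring of X is regular and dim O_{X,y} ≥ 2 for all y ∈ Y, or that every
local ring of X is a complete intersection (quotient of a regular local ring by a regular sequence)
and dim O_{X,y} ≥ 3 for all y ∈ Y. Then the Y-homotopic depth of X is ≥ 3: for every scheme X' étale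
over X, base change of finite étale covers from X' to X' ×_X U is an equivalence of categories. -/
theorem result {X U : Scheme.{u}} [IsLocallyNoetherian X] (j : U ⟶ X) [IsOpenImmersion j] (h : (∀ x : X, IsRegularLocalRing (X.presheaf.stalk x)) ∧ (∀ y : X, y ∉ Set.range j.base → (2 : WithBot ℕ∞) ≤ ringKrullDim (X.presheaf.stalk y)) ∨ (∀ x : X, SGA2.IsAbsCompleteIntersection (X.presheaf.stalk x)) ∧ (∀ y : X, y ∉ Set.range j.base → (3 : WithBot ℕ∞) ≤ ringKrullDim (X.presheaf.stalk y))) : EtDepth.HtpDepthGE3 j := by
  exact GrothLib.HtpDepth13.htpDepthGE3 j h

end Groth.Agent.S3367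

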