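import Groth.Statements.S3373
import Groth.Agent.Lib.GenT7.Algz
import Groth.Agent.Lib.SGA2Para.Sheaf

set_option autoImplicit false
universe u
open CategoryTheory CategoryTheory.Limits AlgebraicGeometry
open FSch

namespace GrothLib.GenT7

/-- A point of relative codimension one for the maximal ideal is closed in the punctured spectrum. -/
theorem isClosed_of_relCodim_one {A : Type u} [CommRing A] [IsLocalRing A] {Z : Scheme.{u}}
    (U : (Spec (CommRingCat.of A)).Opens) (hU : U = FEt.puncturedSpec A) (e : Z ⟶ (U : Scheme.{u}))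
    [IsClosedImmersion e] (y : Z)
    (hy : SGA2.relCodim (IsLocalRing.maximalIdeal A) ((e ≫ U.ι).base y) = 1) : IsClosed ({y} : Set Z) := by
  subst hU
  rw [← closure_subset_iff_isClosed]
  intro z hz
  have hsp : y ⤳ z := specializes_iff_mem_closure.2 hz
  let q : PrimeSpectrum A := (e ≫ (FEt.puncturedSpec A).ι).base y
  let q' : PrimeSpectrum A := (e ≫ (FEt.puncturedSpec A).ι).base z
  have hqq' : q ≤ q' := (PrimeSpectrum.le_iff_specializes _ _).2 (hsp.map (Scheme.Hom.continuous _))
  have hne : q' ≠ IsLocalRing.closedPoint A := (e z).2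
  have hlt : q' < IsLocalRing.closedPoint A :=
    lt_of_le_of_ne (IsLocalRing.le_maximalIdeal q'.isPrime.ne_top) hne
  by_contra hzy
  have hlt1 : q < q' := lt_of_le_of_ne hqq' fun h => hzy (by
    apply e.isClosedEmbedding.injective
    exact (Subtype.ext h).symm)
  let m : {x : PrimeSpectrum A // q ≤ x ∧ IsLocalRing.maximalIdeal A ≤ x.asIdeal} :=
    ⟨IsLocalRing.closedPoint A, hqq'.trans hlt.le, le_rfl⟩
  have h2 : ∀ x : {x : PrimeSpectrum A // q ≤ x ∧ IsLocalRing.maximalIdeal A ≤ x.asIdeal},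
      (2 : ℕ∞) ≤ Order.height (⟨x.1, x.2.1⟩ : Set.Ici q) := by
    intro x
    have hx : x.1 = IsLocalRing.closedPoint A := PrimeSpectrum.ext
      (((IsLocalRing.maximalIdeal.isMaximal A).eq_of_le x.1.isPrime.ne_top x.2.2).symm)
    have h1 : (⟨q, Set.self_mem_Ici⟩ : Set.Ici q) < ⟨q', hqq'⟩ := hlt1
    have h3 : (⟨q', hqq'⟩ : Set.Ici q) < ⟨x.1, x.2.1⟩ := show q' < x.1 from hx.symm ▸ hlt
    have e1 : Order.height (⟨q, Set.self_mem_Ici⟩ : Set.Ici q) + 1 ≤ Order.height (⟨q', hqq'⟩ : Set.Ici q) :=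
      Order.height_add_one_le h1
    have e2 : Order.height (⟨q', hqq'⟩ : Set.Ici q) + 1 ≤ Order.height (⟨x.1, x.2.1⟩ : Set.Ici q) :=
      Order.height_add_one_le h3
    calc (2 : ℕ∞) = (0 + 1) + 1 := by norm_num
      _ ≤ (Order.height (⟨q, Set.self_mem_Ici⟩ : Set.Ici q) + 1) + 1 := by gcongr; exact zero_le
      _ ≤ _ := le_trans (by gcongr) e2
  have h21 : (2 : ℕ∞) ≤ SGA2.relCodim (IsLocalRing.maximalIdeal A) q := le_iInf h2
  have : (2 : ℕ∞) ≤ 1 := h21.trans_eq hy
  norm_num at this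

end GrothLib.GenT7

namespace Groth.Agent.S3373

/-- Let A be a Noetherian local ring which is a quotient of a regular ring, t a member of the maximal
ideal for which A is separated and complete in the t-adic topology, X the punctured spectrum of A,
and 𝔉 a coherent module on the formal completion of X along V(t) ∩ X, given as a system (F_N) of
coherent modules on the closed subschemes X_N = V(t^(N+1)) ∩ X with F_{N+1}|_{X_N} ≅ F_N. Assume (1)
t is 𝔉-regular, expressed on the system by: for every N ≥ 1 the kernel of multiplication by t^N on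
F_N equals the image of multiplication by t; and (2) for every closed point y of X_0 the stalk of
F_0 at y has depth ≥ 2 over O_{X_0,y}. Then there is a coherent O_X-module F whose completion along
V(t) ∩ X is isomorphic to 𝔉. -/
theorem result (R : Type u) [CommRing R] [IsRegularRing R] (A : Type u) [CommRing A] [IsLocalRing A] [IsNoetherianRing A] (π : R →+* A) (hπ : Function.Surjective π) (t : A) (ht : t ∈ IsLocalRing.maximalIdeal A) [IsAdicComplete (Ideal.span {t}) A] (𝔐 : FSch.ModSys (FSch.completionAlong (↑(FEt.puncturedSpec A) : Scheme.{u}) ((Spec.map (CommRingCat.ofHom (Ideal.Quotient.mk (Ideal.span {t})))).ker.comap (FEt.puncturedSpec A).ι))) (hcoh : 𝔐.IsCoh) (hreg : ∀ N : ℕ, 1 ≤ N → kernelSubobject (Formal.smulModΓ (𝔐.F N) ((((FSch.completionToX (↑(FEt.puncturedSpec A) : Scheme.{u}) ((Spec.map (CommRingCat.ofHom (Ideal.Quotient.mk (Ideal.span {t})))).ker.comap (FEt.puncturedSpec A).ι) N) ≫ (FEt.puncturedSpec A).ι).appTop.hom ((Scheme.ΓSpecIso (CommRingCat.of A)).inv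 t)) ^ N)) = imageSubobject (Formal.smulModΓ (𝔐.F N) (((FSch.completionToX (↑(FEt.puncturedSpec A) : Scheme.{u}) ((Spec.map (CommRingCat.ofHom (Ideal.Quotient.mk (Ideal.span {t})))).ker.comap (FEt.puncturedSpec A).ι) N) ≫ (FEt.puncturedSpec A).ι).appTop.hom ((Scheme.ΓSpecIso (CommRingCat.of A)).inv t)))) (hdepth : ∀ y : ↥((FSch.completionAlong (↑(FEt.puncturedSpec A) : Scheme.{u}) ((Spec.map (CommRingCat.ofHom (Ideal.Quotient.mk (Ideal.span {t})))).ker.comap (FEt.puncturedSpec A).ι)).X 0), IsClosed ({y} : Set ↥((FSch.completionAlong (↑(FEt.puncturedSpec A) : Scheme.{u}) ((Spec.map (CommRingCat.ofHom (Ideal.Quotient.mk (Ideal.span {t})))).ker.comap (FEt.puncturedSpec A).ι)).X 0)) → (2 : ℕ∞) ≤ LocCoh.depth (((FSch.completionAlong (↑(FEt.puncturedSpec A) : Scheme.{u}) ((Spec.map (CommRingCat.ofHom (Ideal.Quotient.mk (Ideal.span {t})))).ker.comap (FEt.puncturedSpec A).ι)).X 0).presheaf.stalk y) ((𝔐.F 0).presheaf.stalk y)) : ∃ F : (↑(FEt.puncturedSpec A) : Scheme.{u}).Modules,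 Coh.IsCoh F ∧ Nonempty (FSch.completionMod ((Spec.map (CommRingCat.ofHom (Ideal.Quotient.mk (Ideal.span {t})))).ker.comap (FEt.puncturedSpec A).ι) F ≅ 𝔐) := by
  exact GrothLib.GenT7.exists_algebraization_open (IsLocalRing.maximalIdeal A) t π hπ _
    (GrothLib.SGA2Para.puncturedOpen_eq (S := A)).symm 𝔐 hcoh hreg fun y hy =>
      hdepth y (GrothLib.GenT7.isClosed_of_relCodim_one _ rfl
        (FSch.completionToX (↑(FEt.puncturedSpec A) : Scheme.{u})
          ((Spec.map (CommRingCat.ofHom (Ideal.Quotient.mk (Ideal.span {t})))).ker.comap (FEt.puncturedSpec A).ι) 0) y hy)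

end Groth.Agent.S3373
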