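import Groth.Statements.S3375
import Groth.Agent.Lib.FieldExtCd18.TopDeg
import Groth.Agent.Lib.LocConst.ConstGerm
-- import your own Groth.Agent.* helpers here

set_option autoImplicit false
universe u
open CategoryTheory CategoryTheory.Limits AlgebraicGeometry Opposite
open EtDepth

namespace Groth.Agent.S3375

/-- Let K be a field, ℓ a prime number invertible in K, and F a nonzero constructible ℓ-torsion abelian
sheaf on the small étale site of Spec K. Suppose the ℓ-cohomological dimension of K is exactly n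
(cohomology of ℓ-torsion sheaves vanishes above degree n, and not above any smaller degree). Then
there is a finite separable extension L of K such that H^n(Spec L, F|_L) is nonzero. -/
theorem result (K : Type u) [Field K] (ℓ : ℕ) (hℓ : ℓ.Prime) (hℓK : (ℓ : K) ≠ 0) (F : EtCoh.Ab (Spec (CommRingCat.of K))) (hF : EtDepth.IsLTorsion ℓ F) (hFc : EtPBC.IsConstructible F) (hF0 : ¬ IsZero F) (n : ℕ) (hcd : EtDepth.CohDimLLE (Spec (CommRingCat.of K)) ℓ n) (hcd' : ∀ d : ℕ, d < n → ¬ EtDepth.CohDimLLE (Spec (CommRingCat.of K)) ℓ d) : ∃ (L : Type u) (_ : Field L) (_ : Algebra K L) (_ : Module.Finite K L) (_ : Algebra.IsSeparable K L), Nontrivial (EtCoh.H (Spec (CommRingCat.of L)) ((EtCoh.pull (Spec.map (CommRingCat.ofHom (algebraMap K L)))).obj F) n) := by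
  haveI : Fact ℓ.Prime := ⟨hℓ⟩
  by_contra hcon
  have hvan : ∀ (L : Type u) [Field L] [Algebra K L] [FiniteDimensional K L] [Algebra.IsSeparable K L],
      Subsingleton (EtCoh.H (Spec (CommRingCat.of L)) ((EtCoh.pull (GrothLib.EtTrace21.specMap K L)).obj F) n) := by
    intro L _ _ _ _
    rw [← not_nontrivial_iff_subsingleton]
    exact fun hne => hcon ⟨L, inferInstance, inferInstance, inferInstance, inferInstance, hne⟩
  have hfin : ∀ (Ω : Type u) [Field Ω] [IsAlgClosed Ω] (ξ : Spec (CommRingCat.of Ω) ⟶ Spec (CommRingCat.of K)),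
      Finite ((EtCoh.stalk ξ).obj F) := fun Ω _ _ ξ => GrothLib.Constructible.finite_stalk F hFc ξ
  have hzero := GrothLib.FieldExtCd18.exists_top_nonzero ℓ K F hfin hF hF0 n hcd hvan
  cases n with
  | zero =>
    let X := Spec (CommRingCat.of K)
    let c : AddCommGrpCat.of (ULift.{u + 1} ℤ) ⟶ AddCommGrpCat.of (ULift.{u + 1} (ZMod ℓ)) :=
      AddCommGrpCat.ofHom (AddEquiv.ulift.symm.toAddMonoidHom.comp
        ((Int.castAddHom (ZMod ℓ)).comp AddEquiv.ulift.toAddMonoidHom))
    let φ := (constantSheaf X.smallEtaleTopology AddCommGrpCat.{u + 1}).map c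
    have hφ : φ = 0 := by
      apply (CategoryTheory.Abelian.Ext.mk₀_bijective _ _).1
      rw [hzero _ (GrothLib.GalCd.killed_const ℓ) (CategoryTheory.Abelian.Ext.mk₀ φ), CategoryTheory.Abelian.Ext.mk₀_zero]
    let ξ := GrothLib.GalCd.algPt K
    haveI := GrothLib.EtSite.additive_stalk ξ
    have h1 := GrothLib.LocConst.germ_transpose ξ φ
    rw [hφ, Functor.map_zero, comp_zero, ← hφ] at h1
    have h2 : (EtCore.constAdj X).homEquiv _ _ φ = c ≫ (EtCore.constAdj X).unit.app _ := by
      rw [← (EtCore.constAdj X).homEquiv_id, ← Adjunction.homEquiv_naturality_left, Category.comp_id]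
    rw [h2, Category.assoc] at h1
    have h3 : c (ULift.up 1) = 0 := (GrothLib.LocConst.bijective_germ_const ξ _).1
      ((congrArg (fun g => g (ULift.up 1)) h1).trans (map_zero _).symm)
    exact one_ne_zero (α := ZMod ℓ) ((Int.cast_one).symm.trans (congrArg ULift.down h3))
  | succ m =>
    refine hcd' m (Nat.lt_succ_self m) fun H hH q hq => ?_
    rcases Nat.lt_or_eq_of_le (Nat.succ_le_of_lt hq) with hlt | heq
    · exact hcd H hH q hlt
    · subst heq
      refine ⟨fun a b => ?_⟩
      have h : ∀ z : EtCoh.H (Spec (CommRingCat.of K)) H (m + 1), z = 0 := fun z =>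
        GrothLib.DimFun18.H_eq_zero_of_primary ℓ (E := Set.univ) (fun G hG _ y => hzero G hG y) H hH
          (fun Ω _ _ ξ hξ => absurd (Set.mem_univ _) hξ) z
      exact (h a).trans (h b).symm

end Groth.Agent.S3375
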