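import Groth.Statements.S3378
import Groth.Agent.Lib.NFlat7.PicStep
import Groth.Agent.Lib.PunctSec7.Lef
import Groth.Agent.Lib.LefEt7.FullFaith
import Groth.Agent.Lib.LefEt7.QuasiAffine
import Groth.Agent.Lib.LefPic7.Triv
import Groth.Agent.Lib.RootCover26.Main
import Groth.Agent.Lib.Faltings.Transfer
import Groth.Agent.Lib.SGA2Para.Sheaf
-- import your own Groth.Agent.* helpers here

set_option autoImplicit false
universe u
open CategoryTheory CategoryTheory.Limits AlgebraicGeometry
open LefX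

set_option linter.style.haveILetI false

namespace Groth.Agent.S3378

theorem aux (A : Type u) [CommRing A] [IsLocalRing A] [IsNoetherianRing A] (J : Ideal A)
    (hg : GrothLib.NFlat7.GrFlat J) [IsAdicComplete J A]
    (hv : GrothLib.NFlat7.HVan (IsLocalRing.maximalIdeal A) 3 (A ⧸ J)) :
    (ConnectedSpace ↥(LocCoh.puncturedOpen A (IsLocalRing.maximalIdeal A)) ∧ ConnectedSpace ↥(((Spec.map (CommRingCat.ofHom (Ideal.Quotient.mk J))).ker.comap (LocCoh.puncturedOpen A (IsLocalRing.maximalIdeal A)).ι).subscheme) ∧ (FEt.restrict ((Spec.map (CommRingCat.ofHom (Ideal.Quotient.mk J))).ker.comap (LocCoh.puncturedOpen A (IsLocalRing.maximalIdeal A)).ι).subschemeι).Full ∧ (FEt.restrict ((Spec.map (CommRingCat.ofHom (Ideal.Quotient.mk J))).ker.comap (LocCoh.puncturedOpen A (IsLocalRing.maximalIdeal A)).ι).subschemeι).Faithful) ∧ Formal2.PicPullbackInjective ((Spec.map (CommRingCat.ofHom (Ideal.Quotient.mk J))).ker.comap (LocCoh.puncturedOpen A (IsLocalRing.maximalIdeal A)).ι).subschemeι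 := by
  let 𝔪 := IsLocalRing.maximalIdeal A
  let W := LocCoh.puncturedOpen A 𝔪
  let KU := (GrothLib.NFlat7.KI J).comap W.ι
  haveI : IsLocallyNoetherian (W : Scheme.{u}) := isLocallyNoetherian_of_isOpenImmersion W.ι
  haveI : CompactSpace (W : Scheme.{u}) :=
    isCompact_iff_compactSpace.1 (TopologicalSpace.NoetherianSpace.isCompact _)
  haveI : IsNoetherian (W : Scheme.{u}) := {}
  haveI : (W : Scheme.{u}).IsQuasiAffine := Scheme.IsQuasiAffine.of_isImmersion W.ι
  have hv2 : GrothLib.NFlat7.HVan 𝔪 2 (A ⧸ J) := fun i hi => hv i (hi.trans (by norm_num))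
  have hsec := GrothLib.NFlat7.secBij 𝔪 hg hv2
  have hO := GrothLib.PunctSec7.homBij_of_secBij _ hsec
  have hb : ∀ D : (W : Scheme.{u}).Modules, FlatMod.IsFinLocFree D → Lef.HomToFormalBijective KU D := fun D hD => by
    haveI := GrothLib.Euler.isQuasicoherent_of_isFinLocFree hD
    exact GrothLib.LefEt7.homToFormalBijective_of_unit_of_quasiAffine _ hO D
  have hA := GrothLib.NFlat7.HVan.of_complete hg hv2
  -- functions on `W` come from `A`
  have hsurj : Function.Surjective W.ι.appTop := fun y => by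
    have hιe : (⊤ : (W : Scheme.{u}).Opens) ≤ W.ι ⁻¹ᵁ W := fun z _ => z.2
    obtain ⟨s, hs⟩ := (GrothLib.PunctSec7.appLE_bijective W.ι _ (Scheme.Opens.opensRange_ι _).ge hιe).2 y
    obtain ⟨w, hw⟩ := (GrothLib.PunctSec7.θ₀_bijective W).2 s
    obtain ⟨a, ha⟩ := (GrothLib.NFlat7.j_bijective 𝔪 hA).2 w
    refine ⟨GrothLib.PunctSec7.θ₀.app ⊤ (tilde.toOpen (ModuleCat.of (CommRingCat.of A) A) ⊤ a), ?_⟩
    rw [← hs, ← hw, ← ha]
    have h1 := ConcreteCategory.congr_hom (GrothLib.PunctSec7.θ₀.mapPresheaf.naturality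
      (homOfLE (le_top : W ≤ (⊤ : (Spec (CommRingCat.of A)).Opens))).op)
      (tilde.toOpen (ModuleCat.of (CommRingCat.of A) A) ⊤ a)
    have h2 := ConcreteCategory.congr_hom (tilde.toOpen_res (ModuleCat.of (CommRingCat.of A) A) ⊤ W (homOfLE le_top)) a
    refine Eq.trans ?_ (congrArg (W.ι.appLE W ⊤ hιe) (h1.symm.trans (congrArg (GrothLib.PunctSec7.θ₀.app W) h2)))
    rw [Scheme.Hom.appTop, Scheme.Hom.app_eq_appLE]
    exact (ConcreteCategory.congr_hom (Scheme.Hom.map_appLE W.ι hιe (homOfLE le_top).op) _).symm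
  have hid : ∀ e : Γ((W : Scheme.{u}), ⊤), e * e = e → e = 0 ∨ e = 1 := fun e he => by
    obtain ⟨b, rfl⟩ := hsurj e
    obtain ⟨a, rfl⟩ := (ConcreteCategory.bijective_of_isIso (Scheme.ΓSpecIso (CommRingCat.of A)).inv).2 b
    rcases IsLocalRing.isUnit_or_isUnit_one_sub_self a with h | h
    · refine Or.inr ?_
      have hu := (h.map (Scheme.ΓSpecIso (CommRingCat.of A)).inv.hom).map W.ι.appTop.hom
      exact hu.mul_left_cancel (he.trans (mul_one _).symm)
    · refine Or.inl ?_
      have hu := (h.map (Scheme.ΓSpecIso (CommRingCat.of A)).inv.hom).map W.ι.appTop.hom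
      rw [map_sub, map_sub, map_one, map_one] at hu
      refine hu.mul_left_cancel ?_
      rw [sub_mul, one_mul, mul_zero]
      exact sub_eq_zero.2 he.symm
  have hne : Nonempty (W : Scheme.{u}) := by
    by_contra hne
    have hall : ∀ p : PrimeSpectrum A, 𝔪 ≤ p.asIdeal := fun p => by
      by_contra hp
      exact hne ⟨⟨p, fun h => hp h⟩⟩
    have hnil : 𝔪 ≤ nilradical A := by
      rw [nilradical_eq_sInf]
      exact le_sInf fun q hq => hall ⟨q, hq⟩
    obtain ⟨N, hN⟩ := Ideal.exists_pow_le_of_le_radical_of_fg hnil (IsNoetherian.noetherian 𝔪)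
    have h1 : (1 : A) = 0 := hA.eq_zero two_pos (N := N) fun a ha => by
      rw [smul_eq_mul, mul_one]
      exact hN ha
    exact one_ne_zero h1
  haveI := GrothLib.RootCover26.preconnectedSpace_of_idempotent hid
  have hconn : ConnectedSpace (W : Scheme.{u}) := { toNonempty := hne }
  have hs : ∀ n, (KU ^ (n + 1)).support = (KU ^ (0 + 1)).support := fun n => by
    rw [Scheme.IdealSheafData.support_pow_succ, Scheme.IdealSheafData.support_pow_succ]
  refine ⟨⟨hconn, ?_, GrothLib.LefEt7.fullyFaithful_restrict KU hb⟩, fun L hL hi => ?_⟩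
  · have h0 := (GrothLib.LefEt7.connectedSpace_iff hsec hs).2 hconn
    have hr : Set.range KU.subschemeι = ((KU ^ (0 + 1)).support : Set (W : Scheme.{u})) := by
      rw [Scheme.IdealSheafData.support_pow_succ]
      exact KU.range_subschemeι
    exact (KU.subschemeι.isClosedEmbedding.isEmbedding.toHomeomorph.trans
      (Homeomorph.setCongr hr)).symm.surjective.connectedSpace
      (KU.subschemeι.isClosedEmbedding.isEmbedding.toHomeomorph.trans (Homeomorph.setCongr hr)).symm.continuous
  · refine GrothLib.LefPic7.iso_unit_of_thickening KU 0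
      (fun m _ => GrothLib.LefPic7.stepOK_of_H1 KU m (GrothLib.NFlat7.subsingleton_step 𝔪 hg hv m)) hb hL ?_
    rw [zero_add, pow_one, ← GrothLib.Cube.clsMod_pullback _ hL]
    exact (GrothLib.Cube.clsMod_eq_one_iff (GrothLib.Ample.isInvertible_pullback _ hL)).2 hi

/-- Let A be a Noetherian local ring, J a proper ideal with (i) depth A/J ≥ 3, (ii) every J^n/J^(n+1)
free over A/J, (iii) A separated and complete for the J-adic topology. Let U be the punctured
spectrum of A and U_0 = U ∩ V(J), the closed subscheme of U defined by J. Then (a) U and U_0 are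
connected and restriction of finite étale covers from U to U_0 is fully faithful (π₁(U_0) → π₁(U) is
surjective), and (b) the pull-back map Pic(U) → Pic(U_0) has trivial kernel. -/
theorem result (A : Type u) [CommRing A] [IsLocalRing A] [IsNoetherianRing A] (J : Ideal A) (hJ : J ≠ ⊤) [IsLocalRing (A ⧸ J)] (hd : (3 : ℕ∞) ≤ LocCoh.depth (A ⧸ J) (A ⧸ J)) (hgr : ∀ n : ℕ, Module.Free (A ⧸ J) (↥(J ^ n) ⧸ (J • (⊤ : Submodule A ↥(J ^ n))))) [IsAdicComplete J A] : (ConnectedSpace ↥(FEt.puncturedSpec A) ∧ ConnectedSpace ↥(((Spec.map (CommRingCat.ofHom (Ideal.Quotient.mk J))).ker.comap (FEt.puncturedSpec A).ι).subscheme) ∧ (FEt.restrict ((Spec.map (CommRingCat.ofHom (Ideal.Quotient.mk J))).ker.comap (FEt.puncturedSpec A).ι).subschemeι).Full ∧ (FEt.restrict ((Spec.map (CommRingCat.ofHom (Ideal.Quotient.mk J))).ker.comap (FEt.puncturedSpec A).ι).subschemeι).Faithful) ∧ Formal2.PicPullbackInjective ((Spec.map (CommRingCat.ofHom (Ideal.Quotient.mk J))).ker.comap (FEt.puncturedSpec A).ι).subschemeι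 := by
  rw [← GrothLib.SGA2Para.puncturedOpen_eq]
  refine aux A J (fun n => by haveI := hgr n; infer_instance) ?_
  refine (GrothLib.Depth.le_idealDepth_iff_H (IsLocalRing.maximalIdeal A) 3).1 ?_
  refine hd.trans_eq ?_
  exact (GrothLib.Faltings.depth_eq_of_surjective (A := A) (A' := A ⧸ J) Ideal.Quotient.mk_surjective (A ⧸ J)).symm

end Groth.Agent.S3378
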