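import Groth.Statements.S3386
import Groth.Agent.Lib.Chev28.AffineCut

set_option autoImplicit false
open CategoryTheory AlgebraicGeometry
universe u
open EGA43

namespace Groth.Agent.S3386

open CategoryTheory.Limits in
/-- Conditions a) and b): let f : X ⟶ Y be locally of finite type and fix a point x of X. Condition a)
is equidimensionality of f at x (the definition used here); condition b): there are a natural number
e, an open neighbourhood U of x and a Y-morphism g from U to the affine space of dimension e over Y
which is locally quasi-finite and sends the generic point of every irreducible component of U to the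
generic point of an irreducible component of the affine space. Then a) implies b); and b) implies a)
when Y is locally Noetherian. (The source states the equivalence over an arbitrary base; the
implication b) ⟹ a) uses that irreducible components are locally finite and fails without some such
hypothesis.) -/
theorem result {X Y : Scheme.{u}}
    (f : X ⟶ Y) [LocallyOfFiniteType f] (x : X) :
    (EGA43.IsEquidimAt f x → (∃ (e : ℕ) (U : X.Opens) (g : (U : Scheme.{u}) ⟶ 𝔸(ULift.{u} (Fin e); Y)),
        x ∈ U ∧ g ≫ (𝔸(ULift.{u} (Fin e); Y) ↘ Y) = U.ι ≫ f ∧ LocallyQuasiFinite g ∧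
        ∀ Z ∈ irreducibleComponents (↥U : Type u),
          closure (g.base '' Z) ∈ irreducibleComponents (↥𝔸(ULift.{u} (Fin e); Y) : Type u))) ∧
    (IsLocallyNoetherian Y → (∃ (e : ℕ) (U : X.Opens) (g : (U : Scheme.{u}) ⟶ 𝔸(ULift.{u} (Fin e); Y)),
        x ∈ U ∧ g ≫ (𝔸(ULift.{u} (Fin e); Y) ↘ Y) = U.ι ≫ f ∧ LocallyQuasiFinite g ∧
        ∀ Z ∈ irreducibleComponents (↥U : Type u),
          closure (g.base '' Z) ∈ irreducibleComponents (↥𝔸(ULift.{u} (Fin e); Y) : Type u)) → EGA43.IsEquidimAt f x) := by
  refine ⟨fun hf => GrothLib.Chev28.exists_toAffineSpace f x hf, fun hY => ?_⟩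
  haveI := hY
  rintro ⟨e, U, g, hx, hg, hlqf, hdom⟩
  haveI := hlqf
  exact GrothLib.Chev28.isEquidimAt_of_toAffineSpace f x e U g hx hg hdom

end Groth.Agent.S3386
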