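import Groth.Statements.S3387
import Groth.Agent.Lib.FibreDim5.Basic
-- import your own Groth.Agent.* helpers here

set_option autoImplicit false
open CategoryTheory AlgebraicGeometry
universe u
open EGA43

namespace Groth.Agent.S3387

/-- Let f : X ⟶ Y be locally of finite type and closed (as a map of underlying spaces). Then for every
natural number n the set of points y of Y whose fibre has dimension at least n is closed; that is,
the dimension of the fibre is upper semicontinuous on Y. -/
theorem result {X Y : Scheme.{u}} (f : X ⟶ Y) [LocallyOfFiniteType f]
    (hf : IsClosedMap f.base) (n : ℕ) :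
    IsClosed {y : Y | (n : WithBot ℕ∞) ≤ topologicalKrullDim ↥(f.fiber y)} := by
  exact GrothLib.FibreDim5.isClosed_le_dim_fiber f hf n

end Groth.Agent.S3387
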