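import Groth.Statements.S3393
import Groth.Agent.Lib.Chev28.DimIrred

set_option autoImplicit false
open CategoryTheory AlgebraicGeometry
universe u
open EGA43

namespace Groth.Agent.S3393

/-- Let Y be an irreducible locally Noetherian scheme with generic point η, f : X ⟶ Y a morphism of
finite type and y a point of Y. Condition (b): for every point z of the fibre over y at which the
local ring of the fibre has dimension 0, dim O_{X,z} = dim O_{Y,y}. Condition (c): for every such z
there is an irreducible component X' of X containing z such that the dimension of X' ∩ f⁻¹(η)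
(topology induced from X) equals the local dimension at z of the fibre over y (the dimension of the
irreducible component of the fibre with generic point z). Then (b) implies (c), and (c) implies (b)
if O_{Y,y} is universally catenary. -/
theorem result {X Y : Scheme.{u}} [IrreducibleSpace Y] [IsLocallyNoetherian Y]
    (f : X ⟶ Y) [LocallyOfFiniteType f] [QuasiCompact f] (y : Y) :
    ((∀ z : X, f.base z = y → ringKrullDim ((f.fiber (f.base z)).presheaf.stalk (f.asFiber z)) = 0 →
        ringKrullDim (X.presheaf.stalk z) = ringKrullDim (Y.presheaf.stalk (f.base z))) →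
      (∀ z : X, f.base z = y → ringKrullDim ((f.fiber (f.base z)).presheaf.stalk (f.asFiber z)) = 0 →
        ∃ X' ∈ irreducibleComponents (X : Type u), z ∈ X' ∧
          topologicalKrullDim ↥(X' ∩ f.base ⁻¹' {genericPoint Y}) = FlatMor.fibreDimAt f z)) ∧
    (CAlg.IsUniversallyCatenary (Y.presheaf.stalk y) →
      (∀ z : X, f.base z = y → ringKrullDim ((f.fiber (f.base z)).presheaf.stalk (f.asFiber z)) = 0 →
        ∃ X' ∈ irreducibleComponents (X : Type u), z ∈ X' ∧
          topologicalKrullDim ↥(X' ∩ f.base ⁻¹' {genericPoint Y}) = FlatMor.fibreDimAt f z) →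
      (∀ z : X, f.base z = y → ringKrullDim ((f.fiber (f.base z)).presheaf.stalk (f.asFiber z)) = 0 →
        ringKrullDim (X.presheaf.stalk z) = ringKrullDim (Y.presheaf.stalk (f.base z)))) := by
  refine ⟨fun h z hz h0 => GrothLib.Chev28.exists_component_of_dim_eq f z h0 (h z hz h0), fun hcat h z hz h0 => ?_⟩
  subst hz
  exact GrothLib.Chev28.dim_eq_of_exists_component f z hcat h0 (h z rfl h0)

end Groth.Agent.S3393
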