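import Groth.Statements.S3399
import Groth.Agent.Lib.Constr.Topology

set_option autoImplicit false
open CategoryTheory AlgebraicGeometry
universe u
open EGA41

namespace Groth.Agent.S3399

/-- Let f : X' ⟶ X be a morphism locally of finite presentation and E' an ind-constructible subset of
X'. Then f(E') is ind-constructible in X; in particular f(X') is ind-constructible. -/
theorem result {X' X : Scheme.{u}} (f : X' ⟶ X)
    [LocallyOfFinitePresentation f] (E' : Set X') (hE' : ProCons.IsIndConstructible E') :
    ProCons.IsIndConstructible (f.base '' E') := by
  exact GrothLib.Constr.isIndConstructible_image f hE' 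

end Groth.Agent.S3399
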