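import Groth.Statements.S3401
import Groth.Agent.Lib.Constr.Topology

set_option autoImplicit false
open CategoryTheory AlgebraicGeometry
universe u
open EGA41

open Topology

namespace Groth.Agent.S3401

/-- Let X be a scheme and E a subset of X. If E is ind-constructible then for every point x of E the set
E ∩ cl{x} is a neighbourhood of x in cl{x}; when X is locally Noetherian the converse holds. (As
published, the necessity clause quantifies over all points x of X; for x outside E the condition
cannot hold, and the argument uses x ∈ E, so it is stated here for x ∈ E.) Stated as an equivalence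
for X locally Noetherian. -/
theorem result (X : Scheme.{u}) [IsLocallyNoetherian X]
    (E : Set X) :
    ProCons.IsIndConstructible E ↔
      ∀ x ∈ E, (Subtype.val ⁻¹' E : Set ↥(closure ({x} : Set X))) ∈ nhds (⟨x, subset_closure rfl⟩ : ↥(closure ({x} : Set X))) := by
  constructor
  · intro hE x hx
    obtain ⟨V, hV, hxV, -⟩ := GrothLib.Constr.exists_affine_nhd x isOpen_univ (Set.mem_univ x)
    haveI := GrothLib.Constr.compactSpace_of_isAffineOpen hV
    haveI := GrothLib.Constr.quasiSeparatedSpace_of_isAffineOpen hV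
    obtain ⟨T, hT, hxT, hTE⟩ := GrothLib.Constr.exists_isConstructible_of_mem V hE hxV hx
    haveI : Nonempty {W : Set (V : Set X) // IsOpen W ∧ IsCompact W} :=
      ⟨⟨∅, isOpen_empty, isCompact_empty⟩⟩
    have key : ∀ S : Set (V : Set X), IsConstructible S → ∀ z ∈ S, ∃ (U : Set (V : Set X)) (C : Set (V : Set X)),
        IsOpen U ∧ IsClosed C ∧ z ∈ U ∩ C ∧ U ∩ C ⊆ S := by
      intro S hS
      induction S, hS using IsConstructible.induction_of_isTopologicalBasis
        (b := fun W : {W : Set (V : Set X) // IsOpen W ∧ IsCompact W} => W.1)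
        (basis := by
          convert PrespectralSpace.isTopologicalBasis (X := (V : Set X)) using 1
          ext W; simp)
        (isCompact_basis := fun W => W.2.2) with
      | sdiff i s hs =>
          rintro z ⟨hzi, hzs⟩
          exact ⟨i.1, (⋃ j ∈ s, j.1)ᶜ, i.2.1, (isOpen_biUnion fun j _ => j.2.1).isClosed_compl,
            ⟨hzi, hzs⟩, fun w hw => hw⟩
      | union s hs t ht ihs iht =>
          rintro z (hz | hz)
          · obtain ⟨U, C, h1, h2, h3, h4⟩ := ihs z hz
            exact ⟨U, C, h1, h2, h3, h4.trans Set.subset_union_left⟩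
          · obtain ⟨U, C, h1, h2, h3, h4⟩ := iht z hz
            exact ⟨U, C, h1, h2, h3, h4.trans Set.subset_union_right⟩
    obtain ⟨U, C, hU, hC, hxUC, hUC⟩ := key T hT _ hxT
    refine Filter.mem_of_superset
      (((V.2.isOpenMap_subtype_val _ hU).preimage continuous_subtype_val).mem_nhds
        ⟨⟨x, hxV⟩, hxUC.1, rfl⟩) ?_
    rintro z ⟨w, hw, hwz⟩
    refine (show z.1 ∈ E from hwz ▸ hTE (hUC ⟨hw, ?_⟩))
    have hsp : (⟨x, hxV⟩ : (V : Set X)) ⤳ w := by
      rw [subtype_specializes_iff, hwz]
      exact specializes_iff_mem_closure.2 z.2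
    exact hsp.mem_closed hC hxUC.2
  · intro h
    refine GrothLib.Constr.isIndConstructible_of_forall_mem fun x₀ hx₀ => ?_
    obtain ⟨V, hV, hxV, -⟩ := GrothLib.Constr.exists_affine_nhd x₀ isOpen_univ (Set.mem_univ x₀)
    haveI := GrothLib.Constr.compactSpace_of_isAffineOpen hV
    haveI := GrothLib.Constr.quasiSeparatedSpace_of_isAffineOpen hV
    refine ⟨V, hxV, inferInstance, inferInstance, GrothLib.Constr.isOpen_constructibleTopology_iff.2 fun z hz => ?_⟩
    obtain ⟨N, hN, hNE⟩ := (mem_nhds_subtype _ _ _).1 (h z.1 hz)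
    obtain ⟨O, hON, hO, hzO⟩ := mem_nhds_iff.1 hN
    have hOE : (Subtype.val ⁻¹' O : Set ↥(closure ({z.1} : Set X))) ⊆ Subtype.val ⁻¹' E :=
      (Set.preimage_mono hON).trans hNE
    haveI : TopologicalSpace.NoetherianSpace (V : Set X) := by
      haveI := IsLocallyNoetherian.component_noetherian (⟨V, hV⟩ : X.affineOpens)
      exact noetherianSpace_of_isAffineOpen _ hV
    have hc : ∀ W : Set (V : Set X), IsOpen W → IsConstructible W := fun W hW =>
      (TopologicalSpace.NoetherianSpace.isCompact W).isConstructible hW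
    refine ⟨(Subtype.val ⁻¹' O) ∩ (Subtype.val ⁻¹' closure {z.1}),
      (hc _ (hO.preimage continuous_subtype_val)).inter
        (isConstructible_compl.1 (hc _ (isClosed_closure.preimage continuous_subtype_val).isOpen_compl)),
      ⟨hzO, subset_closure rfl⟩, fun w hw => ?_⟩
    exact hOE (show (⟨w.1, hw.2⟩ : ↥(closure ({z.1} : Set X))) ∈ Subtype.val ⁻¹' O from hw.1)

end Groth.Agent.S3401
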