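import Groth.Statements.S3404
import Groth.Agent.Lib.Constr.Topology

set_option autoImplicit false
open CategoryTheory AlgebraicGeometry
universe u
open EGA41

namespace Groth.Agent.S3404

/-- Let f : X ⟶ Y be a morphism of schemes, x a point of X and y = f x. If f is open at x then every
generization of y is the image of a generization of x; when f is locally of finite presentation the
converse holds. -/
theorem result {X Y : Scheme.{u}} (f : X ⟶ Y) (x : X) :
    (EGA43.IsOpenAt f.base x → ∀ y' : Y, y' ⤳ f.base x → ∃ x' : X, x' ⤳ x ∧ f.base x' = y') ∧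
    (LocallyOfFinitePresentation f →
      ((EGA43.IsOpenAt f.base x) ↔ ∀ y' : Y, y' ⤳ f.base x → ∃ x' : X, x' ⤳ x ∧ f.base x' = y')) := by
  classical
  have hsing : ∀ y' : Y, ProCons.IsProConstructible ({y'} : Set Y) := fun y' => by
    refine GrothLib.Constr.isProConstructible_of_forall fun z => ?_
    obtain ⟨V, hV, hzV, -⟩ := GrothLib.Constr.exists_affine_nhd z isOpen_univ (Set.mem_univ z)
    haveI := GrothLib.Constr.compactSpace_of_isAffineOpen hV
    haveI : T0Space (V : Set Y) := inferInstanceAs (T0Space V.toScheme)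
    exact ⟨V, hzV, inferInstance, GrothLib.Constr.quasiSeparatedSpace_of_isAffineOpen hV,
      @Set.Subsingleton.isClosed _ (constructibleTopology (V : Set Y))
        (@T2Space.t1Space _ (constructibleTopology (V : Set Y))
          GrothLib.Constr.t2Space_constructibleTopology) _
        (Set.subsingleton_singleton.preimage Subtype.val_injective)⟩
  have fwd : EGA43.IsOpenAt f.base x → ∀ y' : Y, y' ⤳ f.base x → ∃ x' : X, x' ⤳ x ∧ f.base x' = y' := by
    intro hf y' hy'
    obtain ⟨W, hW, hxW, -⟩ := GrothLib.Constr.exists_affine_nhd x isOpen_univ (Set.mem_univ x)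
    haveI : CompactSpace W.toScheme := GrothLib.Constr.compactSpace_of_isAffineOpen hW
    haveI : QuasiSeparatedSpace W.toScheme := GrothLib.Constr.quasiSeparatedSpace_of_isAffineOpen hW
    let x₀ : W.toScheme := ⟨x, hxW⟩
    let ι := {U : Set W.toScheme // IsOpen U ∧ IsCompact U ∧ x₀ ∈ U}
    let F : Option ι → Set W.toScheme := fun o => o.elim ((W.ι ≫ f) ⁻¹' {y'}) (fun U => U.1)
    have hF : ∀ o, ProCons.IsProConstructible (F o) := by
      rintro (_ | ⟨U, hUo, hUc, hxU⟩)
      · exact GrothLib.Constr.isProConstructible_preimage _ (hsing y')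
      · exact GrothLib.Constr.isProConstructible_of_isLocallyConstructible
          (hUc.isConstructible hUo).isLocallyConstructible
    have hne : (⋂ o, F o).Nonempty := by
      rw [Set.nonempty_iff_ne_empty]
      intro hemp
      obtain ⟨J, hJ⟩ := GrothLib.Constr.exists_finite_subfamily
        (GrothLib.Constr.isIndConstructible_of_isOpen (isOpen_empty (X := W.toScheme))) hF hemp.le
      let O : Set W.toScheme := ⋂ o ∈ J.eraseNone, (o : ι).1
      have hO : IsOpen O := isOpen_biInter_finset fun o _ => o.2.1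
      have hxO : x₀ ∈ O := Set.mem_iInter₂.2 fun o _ => o.2.2.2
      have hnhd := hf _ ((W.ι.isOpenEmbedding.isOpenMap _ hO).mem_nhds ⟨x₀, hxO, rfl⟩)
      have hy : y' ∈ f.base '' (W.ι '' O) :=
        interior_subset (hy'.mem_open isOpen_interior (mem_interior_iff_mem_nhds.2 hnhd))
      obtain ⟨_, ⟨w, hw, rfl⟩, hwy⟩ := hy
      refine hJ (Set.mem_iInter₂.2 fun o ho => ?_ : w ∈ ⋂ i ∈ J, F i)
      rcases o with _ | o
      · exact hwy
      · exact Set.mem_iInter₂.1 hw o (Finset.mem_eraseNone.2 ho)
    obtain ⟨w, hw⟩ := hne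
    refine ⟨W.ι w, ?_, Set.mem_iInter.1 hw none⟩
    have hsp : w ⤳ x₀ := by
      rw [specializes_iff_forall_open]
      intro U hU hxU
      obtain ⟨U', ⟨hUo, hUc⟩, hxU', hU'U⟩ :=
        PrespectralSpace.isTopologicalBasis.exists_subset_of_mem_open hxU hU
      exact hU'U (Set.mem_iInter.1 hw (some ⟨U', hUo, hUc, hxU'⟩))
    exact hsp.map W.ι.continuous
  refine ⟨fwd, fun hlfp => ⟨fwd, fun h U hU => ?_⟩⟩
  obtain ⟨U', hU'U, hU'o, hxU'⟩ := mem_nhds_iff.1 hU
  refine mem_interior_iff_mem_nhds.1 ((GrothLib.Constr.mem_interior_iff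
    (GrothLib.Constr.isIndConstructible_image f (GrothLib.Constr.isIndConstructible_of_isOpen hU'o))).2
      fun y' hy' => ?_) |> Filter.mem_of_superset <| Set.image_mono hU'U
  obtain ⟨x', hx', rfl⟩ := h y' hy'
  exact ⟨x', hx'.mem_open hU'o hxU', rfl⟩

end Groth.Agent.S3404
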