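import Groth.Statements.S3405
import Groth.Agent.Lib.HilbSam.Asymp

set_option autoImplicit false
universe u
open EGA41

namespace Groth.Agent.S3405

/-- The degree of the Hilbert–Samuel polynomial equals the dimension: let A be a Noetherian ring with
finitely many maximal ideals, r its Jacobson radical and M a nonzero finitely generated A-module.
Then there is a polynomial P with rational coefficients such that the length of M/rⁿM is finite and
equals P(n) for all large n, and the degree of P is the dimension of M (the Krull dimension of its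
support). -/
theorem result (A : Type u) [CommRing A] [IsNoetherianRing A]
    [Finite (MaximalSpectrum A)] (M : Type u) [AddCommGroup M] [Module A M] [Module.Finite A M] [Nontrivial M] :
    ∃ P : Polynomial ℚ,
      (∃ N : ℕ, ∀ n : ℕ, N ≤ n →
        ∃ ℓ : ℕ, Module.length A (M ⧸ (Ring.jacobson A ^ n • (⊤ : Submodule A M))) = ℓ ∧ (ℓ : ℚ) = P.eval (n : ℚ)) ∧
      (P.natDegree : WithBot ℕ∞) = Module.supportDim A M := by
  open GrothLib.HilbSam Filter in
  have hdef : GrothLib.HilbSam.IsDefining (Ring.jacobson A) M := by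
    refine GrothLib.HilbSam.IsDefining.of_forall (fun p hp => ?_) M
    have hfin : {I : Ideal A | I.IsMaximal}.Finite :=
      (Set.finite_range fun m : MaximalSpectrum A => m.asIdeal).subset fun I hI => ⟨⟨I, hI⟩, rfl⟩
    rw [Ring.jacobson_eq_sInf_isMaximal, sInf_eq_iInf, ← hfin.coe_toFinset] at hp
    have h : hfin.toFinset.inf id ≤ p.asIdeal := by
      refine le_trans ?_ hp
      exact le_iInf₂ fun I hI => Finset.inf_le (f := id) (Finset.mem_coe.mp hI)
    obtain ⟨m, hm, hle⟩ := (Ideal.IsPrime.inf_le' p.2).mp h
    have hmax : m.IsMaximal := hfin.mem_toFinset.mp hm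
    exact (hmax.eq_of_le p.2.ne_top hle) ▸ hmax
  obtain ⟨P, hP⟩ := GrothLib.HilbSam.exists_polynomial (Ring.jacobson A) M hdef.isFiniteLength
  refine ⟨P, ?_, GrothLib.HilbSam.natDegree_eq_supportDim le_rfl hdef hP⟩
  obtain ⟨N, hN⟩ := Filter.eventually_atTop.mp hP
  refine ⟨N, fun n hn => ⟨_, (ENat.coe_toNat
    (GrothLib.HilbSam.isFiniteLength_quotient hdef.isFiniteLength n)).symm, ?_⟩⟩
  rw [← hN n hn]
  simp [GrothLib.HilbSam.samuel, GrothLib.HilbSam.len]

end Groth.Agent.S3405
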