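import Groth.Statements.S3406
import Groth.Agent.Lib.FiniteLengthSupp
import Groth.Agent.Lib.LenIneq
import Mathlib.RingTheory.Ideal.KrullsHeightTheorem

set_option autoImplicit false
universe u
open EGA41

namespace Groth.Agent.S3406

theorem aux_sum {ι : Type u} [Fintype ι] (g : ι → ℕ) (i : ι) : g i ≤ ∑ j, g j :=
  Finset.single_le_sum (fun _ _ => Nat.zero_le _) (Finset.mem_univ i)

theorem bounded (A : Type u) [CommRing A] [IsNoetherianRing A] [Finite (MaximalSpectrum A)] :
    ∃ N : ℕ, ringKrullDim A ≤ N := by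
  haveI : Fintype (MaximalSpectrum A) := Fintype.ofFinite _
  refine ⟨∑ m : MaximalSpectrum A, m.asIdeal.height.toNat, ?_⟩
  refine iSup_le fun l => ?_
  obtain ⟨m, hm, hle⟩ := Ideal.exists_le_maximal l.last.asIdeal l.last.2.ne_top
  have h1 : (l.length : ℕ∞) ≤ m.height := by
    refine le_trans ?_ (Ideal.height_mono hle)
    rw [PrimeSpectrum.height_eq_orderHeight]
    exact Order.length_le_height le_rfl
  have h2 : l.length ≤ m.height.toNat := by
    rw [← ENat.natCast_toNat (Ideal.height_ne_top hm.ne_top), Nat.cast_le] at h1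
    exact h1
  have h3 : l.length ≤ ∑ m : MaximalSpectrum A, m.asIdeal.height.toNat :=
    h2.trans (aux_sum (fun m : MaximalSpectrum A => m.asIdeal.height.toNat) ⟨m, hm⟩)
  exact_mod_cast h3

theorem support_maximal (A : Type u) [CommRing A] [IsNoetherianRing A] (N : Type u) [AddCommGroup N] [Module A N]
    [Module.Finite A N] :
    IsFiniteLength A N ↔ ∀ q ∈ Module.support A N, q.asIdeal.IsMaximal := by
  rw [← Module.length_ne_top_iff]
  constructor
  · intro h q hq
    have hd := GrothLib.LenIneq.supportDim_le_zero (R := A) (M := N) h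
    obtain ⟨m, hm, hle⟩ := Ideal.exists_le_maximal q.asIdeal q.2.ne_top
    by_contra hqm
    have hlt : (⟨q, hq⟩ : Module.support A N) < ⟨⟨m, hm.isPrime⟩, Module.mem_support_mono hle hq⟩ :=
      lt_of_le_of_ne hle fun e => hqm ((show q.asIdeal = m from congrArg (fun z : Module.support A N => z.1.asIdeal) e) ▸ hm)
    have h1 := (WithBot.coe_le_coe.2 (Order.height_add_one_le hlt)).trans ((Order.height_le_krullDim _).trans hd)
    rw [← WithBot.coe_zero, WithBot.coe_le_coe] at h1
    simp at h1
  · intro h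
    refine (GrothLib.FiniteLengthSupp.length_lt_top ?_).ne
    refine iSup_le fun l => ?_
    by_contra hl
    have hl0 : l.length ≠ 0 := fun e => hl (by simp [e])
    exact (l.step ⟨0, Nat.pos_of_ne_zero hl0⟩).ne (Subtype.ext (PrimeSpectrum.ext
      ((h _ (l.toFun _).2).eq_of_le (l.toFun _).1.2.ne_top (l.step ⟨0, Nat.pos_of_ne_zero hl0⟩).le)))

theorem aux_le (A : Type u) [CommRing A] [IsNoetherianRing A] [Finite (MaximalSpectrum A)] (M : Type u)
    [AddCommGroup M] [Module A M] [Module.Finite A M] (n : ℕ) (x : Fin n → A) (hx : ∀ i, x i ∈ Ring.jacobson A)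
    (hfl : IsFiniteLength A (M ⧸ (Ideal.span (Set.range x) • (⊤ : Submodule A M)))) :
    Module.supportDim A M ≤ (n : WithBot ℕ∞) := by
  rw [Module.supportDim_eq_ringKrullDim_quotient_annihilator]
  set J := Module.annihilator A M
  let B := A ⧸ J
  refine iSup_le fun l => ?_
  obtain ⟨m, hm, hle⟩ := Ideal.exists_le_maximal l.last.asIdeal l.last.2.ne_top
  have hxm : Ideal.span (Set.range fun i => Ideal.Quotient.mk J (x i)) ≤ m := Ideal.span_le.2 (by
    rintro _ ⟨i, rfl⟩
    haveI : (m.comap (Ideal.Quotient.mk J)).IsMaximal := Ideal.comap_isMaximal_of_surjective _ Ideal.Quotient.mk_surjective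
    have h0 : Ring.jacobson A ≤ m.comap (Ideal.Quotient.mk J) := by
      rw [Ring.jacobson_eq_sInf_isMaximal]; exact sInf_le (show (m.comap (Ideal.Quotient.mk J)).IsMaximal from inferInstance)
    exact h0 (hx i))
  have hmin : m ∈ (Ideal.span (Set.range fun i => Ideal.Quotient.mk J (x i))).minimalPrimes := by
    refine ⟨⟨hm.isPrime, hxm⟩, fun q hq hqm => ?_⟩
    haveI := hq.1
    have hsupp : (⟨q.comap (Ideal.Quotient.mk J), inferInstance⟩ : PrimeSpectrum A) ∈
        Module.support A (M ⧸ (Ideal.span (Set.range x) • (⊤ : Submodule A M))) := by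
      rw [Module.support_quotient]
      refine ⟨Module.mem_support_iff_of_finite.2 fun a ha => ?_, Ideal.span_le.2 ?_⟩
      · show Ideal.Quotient.mk J a ∈ q
        rw [Ideal.Quotient.eq_zero_iff_mem.2 ha]; exact q.zero_mem
      · rintro _ ⟨i, rfl⟩
        exact hq.2 (Ideal.subset_span ⟨i, rfl⟩)
    haveI := (support_maximal A _).1 hfl _ hsupp
    haveI : q.IsMaximal := by
      have e : q = (q.comap (Ideal.Quotient.mk J)).map (Ideal.Quotient.mk J) :=
        (Ideal.map_comap_of_surjective _ Ideal.Quotient.mk_surjective q).symm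
      rw [e]
      exact (Ideal.map_eq_top_or_isMaximal_of_surjective _ Ideal.Quotient.mk_surjective
        (show (q.comap (Ideal.Quotient.mk J)).IsMaximal from inferInstance)).resolve_left (e ▸ hq.1.ne_top)
    exact (Ideal.IsMaximal.eq_of_le ‹_› hm.ne_top hqm).ge
  haveI := hm.isPrime
  have h1 : (l.length : ℕ∞) ≤ m.height := by
    refine le_trans ?_ (Ideal.height_mono hle)
    rw [PrimeSpectrum.height_eq_orderHeight]
    exact Order.length_le_height le_rfl
  have h3 : m.height ≤ (n : ℕ∞) := by
    classical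
    refine (Ideal.height_le_card_of_mem_minimalPrimes_span_finset
      (s := Finset.univ.image fun i => Ideal.Quotient.mk J (x i)) (by rwa [Finset.coe_image, Finset.coe_univ, Set.image_univ])).trans ?_
    exact Nat.cast_le.2 (Finset.card_image_le.trans (by simp))
  exact_mod_cast h1.trans h3

theorem aux_exists (A : Type u) [CommRing A] [IsNoetherianRing A] [Finite (MaximalSpectrum A)] (M : Type u)
    [AddCommGroup M] [Module A M] [Module.Finite A M] (d : ℕ) (hd : Module.supportDim A M ≤ ((d : ℕ∞) : WithBot ℕ∞)) :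
    ∃ x : Fin d → A, (∀ i, x i ∈ Ring.jacobson A) ∧
      IsFiniteLength A (M ⧸ (Ideal.span (Set.range x) • (⊤ : Submodule A M))) := by
  classical
  suffices key : ∀ i : ℕ, ∃ x : Fin i → A, (∀ j, x j ∈ Ring.jacobson A) ∧
      ∀ q : Module.support A M, (∀ j, x j ∈ q.1.asIdeal) → q.1.asIdeal.IsMaximal ∨ (i : ℕ∞) ≤ Order.height q by
    obtain ⟨x, hx, hq⟩ := key d
    refine ⟨x, hx, (support_maximal A _).2 fun q hqs => ?_⟩
    rw [Module.support_quotient] at hqs
    rcases hq ⟨q, hqs.1⟩ (fun j => hqs.2 (Ideal.subset_span ⟨j, rfl⟩)) with h | h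
    · exact h
    by_contra hqm
    obtain ⟨m, hm, hle⟩ := Ideal.exists_le_maximal q.asIdeal q.2.ne_top
    let m' : Module.support A M := ⟨⟨m, hm.isPrime⟩, Module.mem_support_mono hle hqs.1⟩
    have hlt : (⟨q, hqs.1⟩ : Module.support A M) < m' :=
      lt_of_le_of_ne hle fun e => hqm ((show q.asIdeal = m from congrArg (fun z : Module.support A M => z.1.asIdeal) e) ▸ hm)
    have h1 : Order.height m' ≤ (d : ℕ∞) := WithBot.coe_le_coe.1 ((Order.height_le_krullDim m').trans hd)
    have h2 := ((add_le_add h (le_refl (1 : ℕ∞))).trans (Order.height_add_one_le hlt)).trans h1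
    have : d + 1 ≤ d := by exact_mod_cast h2
    omega
  intro i
  induction i with
  | zero => exact ⟨Fin.elim0, fun j => j.elim0, fun q _ => Or.inr (by simp)⟩
  | succ i ih =>
    obtain ⟨x, hx, hq⟩ := ih
    let K := Module.annihilator A M ⊔ Ideal.span (Set.range x)
    let S := {q : Ideal A | q ∈ K.minimalPrimes ∧ ¬ q.IsMaximal}
    have hS : S.Finite := (Ideal.finite_minimalPrimes_of_isNoetherianRing A K).subset fun q h => h.1
    obtain ⟨y, hy, hyS⟩ : ∃ y ∈ Ring.jacobson A, ∀ q ∈ S, y ∉ q := by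
      by_contra hc
      push Not at hc
      have hsub : (Ring.jacobson A : Set A) ⊆ ⋃ q ∈ hS.toFinset, (q : Set A) := fun y hy => by
        obtain ⟨q, hq, hyq⟩ := hc y hy
        exact Set.mem_biUnion (hS.mem_toFinset.2 hq) hyq
      obtain ⟨q, hqS, hle⟩ := (Ideal.subset_union_prime (f := id) ⊥ ⊥ fun q hq _ _ =>
        (hS.mem_toFinset.1 hq).1.1.1).1 hsub
      rw [Set.Finite.mem_toFinset] at hqS
      haveI := hqS.1.1.1
      haveI : Fintype (MaximalSpectrum A) := Fintype.ofFinite _
      have hinf : (Finset.univ.inf fun m : MaximalSpectrum A => m.asIdeal) ≤ q := by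
        refine le_trans ?_ hle
        rw [Ring.jacobson_eq_sInf_isMaximal]
        exact le_sInf fun J hJ => Finset.inf_le (f := fun m : MaximalSpectrum A => m.asIdeal) (Finset.mem_univ ⟨J, hJ⟩)
      obtain ⟨m, -, hmq⟩ := (Ideal.IsPrime.inf_le' inferInstance).1 hinf
      exact hqS.2 (m.isMaximal.eq_of_le hqS.1.1.1.ne_top hmq ▸ m.isMaximal)
    refine ⟨Fin.snoc x y, fun j => ?_, fun q hqx => ?_⟩
    · induction j using Fin.lastCases with
      | last => rw [Fin.snoc_last]; exact hy
      | cast j => rw [Fin.snoc_castSucc]; exact hx j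
    have hqx' : ∀ j, x j ∈ q.1.asIdeal := fun j => by
      have := hqx j.castSucc
      rwa [Fin.snoc_castSucc] at this
    have hK : K ≤ q.1.asIdeal := sup_le (Module.annihilator_le_of_mem_support q.2)
      (Ideal.span_le.2 (by rintro _ ⟨j, rfl⟩; exact hqx' j))
    obtain ⟨q0, hq0, hle⟩ := Ideal.exists_minimalPrimes_le hK
    have hq0s : (⟨q0, hq0.1.1⟩ : PrimeSpectrum A) ∈ Module.support A M :=
      Module.mem_support_iff_of_finite.2 (le_sup_left.trans hq0.1.2)
    by_cases hmax : q0.IsMaximal
    · exact Or.inl (hmax.eq_of_le q.1.2.ne_top hle ▸ hmax)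
    rcases hq ⟨_, hq0s⟩ (fun j => (le_sup_right.trans hq0.1.2 : _ ≤ q0) (Ideal.subset_span ⟨j, rfl⟩)) with h | h
    · exact absurd h hmax
    right
    have hyq : y ∈ q.1.asIdeal := by
      have := hqx (Fin.last i)
      rwa [Fin.snoc_last] at this
    have hlt : (⟨_, hq0s⟩ : Module.support A M) < q :=
      lt_of_le_of_ne hle fun e => hyS q0 ⟨hq0, hmax⟩ ((show q0 = q.1.asIdeal from congrArg (fun z : Module.support A M => z.1.asIdeal) e) ▸ hyq)
    push_cast
    exact (add_le_add h (le_refl (1 : ℕ∞))).trans (Order.height_add_one_le hlt)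

/-- The equality s(M) = dim(M): let A be a Noetherian ring with finitely many maximal ideals, r its
Jacobson radical and M a nonzero finitely generated A-module. Then the dimension of M (the Krull
dimension of its support) is the least n for which there are elements x_1, …, x_n of r such that
M/(x_1 M + ⋯ + x_n M) has finite length. -/
theorem result (A : Type u) [CommRing A] [IsNoetherianRing A]
    [Finite (MaximalSpectrum A)] (M : Type u) [AddCommGroup M] [Module A M] [Module.Finite A M] [Nontrivial M] :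
    Module.supportDim A M =
      sInf {k : WithBot ℕ∞ | ∃ (n : ℕ) (x : Fin n → A), k = n ∧ (∀ i, x i ∈ Ring.jacobson A) ∧
        IsFiniteLength A (M ⧸ (Ideal.span (Set.range x) • (⊤ : Submodule A M)))} := by
  classical
  refine le_antisymm (le_sInf ?_) (sInf_le ?_)
  · rintro k ⟨n, x, rfl, hx, hfl⟩
    exact aux_le A M n x hx hfl
  · obtain ⟨k, hk⟩ := WithBot.ne_bot_iff_exists.1
      ((Module.supportDim_ne_bot_iff_nontrivial A M).2 inferInstance)
    obtain ⟨d, rfl⟩ : ∃ d : ℕ, (d : ℕ∞) = k := by
      refine ⟨k.toNat, ENat.natCast_toNat fun h => ?_⟩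
      obtain ⟨N, hN⟩ := bounded A
      have := (Module.supportDim_le_ringKrullDim A M).trans hN
      rw [← hk, h] at this
      exact ENat.natCast_ne_top N (top_le_iff.1 (WithBot.coe_le_coe.1 this))
    obtain ⟨x, hx, hfl⟩ := aux_exists A M d hk.symm.le
    exact ⟨d, x, hk.symm, hx, hfl⟩

end Groth.Agent.S3406
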