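import Groth.Statements.S3419
import Groth.Agent.Lib.Chev28.SectComp

set_option autoImplicit false
open CategoryTheory AlgebraicGeometry
universe u
open EGA43

namespace Groth.Agent.S3419

/-- Let Y be locally Noetherian, f : X ⟶ Y locally of finite type and g a section of f; for y in Y let
X⁰_y be the connected component of the fibre f⁻¹(y) containing g(y). Suppose every X⁰_y is
irreducible. Then y ↦ dim X⁰_y is upper semicontinuous on Y; and if this function is constant on a
neighbourhood of a point y, then X⁰_y is contained in the closure of X⁰_{y'} for every generization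
y' of y. -/
theorem result {X Y : Scheme.{u}} [IsLocallyNoetherian Y] (f : X ⟶ Y)
    [LocallyOfFiniteType f] (g : Y ⟶ X) (hg : g ≫ f = 𝟙 Y)
    (hirr : ∀ y : Y, IsIrreducible (connectedComponentIn (f.base ⁻¹' {y}) (g.base y))) :
    UpperSemicontinuous (fun y : Y => topologicalKrullDim ↥(connectedComponentIn (f.base ⁻¹' {y}) (g.base y))) ∧
      ∀ y : Y, (∃ V ∈ nhds y, ∀ z ∈ V, topologicalKrullDim ↥(connectedComponentIn (f.base ⁻¹' {z}) (g.base z)) = topologicalKrullDim ↥(connectedComponentIn (f.base ⁻¹' {y}) (g.base y))) →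
        ∀ y' : Y, y' ⤳ y → connectedComponentIn (f.base ⁻¹' {y}) (g.base y) ⊆ closure (connectedComponentIn (f.base ⁻¹' {y'}) (g.base y')) := by
  have hfg : ∀ t, f.base (g.base t) = t := fun t => congrArg (fun m : Y ⟶ Y => m.base t) hg
  have hF := fun t => GrothLib.Chev28.fibreDimAt_eq_dim_sectComp f (hfg t) (hirr t)
  refine ⟨fun y c hc => ?_, fun y ⟨V, hV, hconst⟩ y' hy' => ?_⟩
  · obtain ⟨ξ, hξ, hC⟩ := GrothLib.Chev28.sectComp_eq_fibClosure f (hirr y)
    obtain ⟨n, -, hn⟩ := GrothLib.Chev28.exists_dim_fibClosure f ξ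
    rw [hξ, ← hC] at hn
    have hy : y ∈ g.base ⁻¹' {x | FlatMor.fibreDimAt f x ≤ (n : WithBot ℕ∞)} := ((hF y).trans hn).le
    refine Filter.mem_of_superset ((GrothLib.FibreDimAt6.isOpen_fibreDimAt_le f n).preimage g.continuous |>.mem_nhds hy)
      fun t ht => ?_
    have ht' : topologicalKrullDim ↥(connectedComponentIn (f.base ⁻¹' {t}) (g.base t)) ≤ (n : WithBot ℕ∞) :=
      (hF t).symm.trans_le ht
    exact lt_of_le_of_lt ht' (hn ▸ hc)
  · obtain ⟨ξ, hξ, hC⟩ := GrothLib.Chev28.sectComp_eq_fibClosure f (hirr y')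
    obtain ⟨O, hOV, hO, hyO⟩ := mem_nhds_iff.1 hV
    have hgy : g.base y' ∈ closure {ξ} :=
      ((Set.ext_iff.1 hC _).1 (mem_connectedComponentIn (hfg y'))).1
    exact (GrothLib.Chev28.dim_sectComp_ge f g hg hy' hξ (specializes_iff_mem_closure.2 hgy) (by rw [← hC])).2
      (hirr y) (hconst y' (hOV (hy'.mem_open hO hyO))).symm

end Groth.Agent.S3419
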