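import Groth.Statements.S3420
import Groth.Agent.Lib.SecComp6.Univ.Basic
-- import your own Groth.Agent.* helpers here

set_option autoImplicit false
open CategoryTheory AlgebraicGeometry
universe u
open EGA43

namespace Groth.Agent.S3420

/-- Let Y be locally Noetherian, f : X ⟶ Y locally of finite type, g a section of f, X⁰_y the connected
component of f⁻¹(y) containing g(y) and X⁰ the union of the X⁰_y. If y is a point such that the
fibre over y is geometrically reduced at every point of X⁰_y and f is universally open at every
point of X⁰_y, then X⁰ is a neighbourhood of X⁰_y in X. In particular, if f is universally open and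
every fibre is geometrically reduced at the points of X⁰, then X⁰ is open in X. -/
theorem result {X Y : Scheme.{u}} [IsLocallyNoetherian Y] (f : X ⟶ Y)
    [LocallyOfFiniteType f] (g : Y ⟶ X) (hg : g ≫ f = 𝟙 Y) :
    (∀ y : Y, (∀ x ∈ connectedComponentIn (f.base ⁻¹' {y}) (g.base y), EGA43.IsUnivOpenAt f x ∧
        FBase.IsGeomReducedAt (f.fiberToSpecResidueField (f.base x)) (f.asFiber x)) →
      connectedComponentIn (f.base ⁻¹' {y}) (g.base y) ⊆ interior (MoreMor.sectionComponents f g)) ∧
    (UniversallyOpen f → (∀ x ∈ MoreMor.sectionComponents f g,
        FBase.IsGeomReducedAt (f.fiberToSpecResidueField (f.base x)) (f.asFiber x)) →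
      IsOpen (MoreMor.sectionComponents f g)) := by
    exact ⟨fun y h => GrothLib.SecComp6.sectionComponents_nhd_univ f g hg y h,
      fun hU h => haveI := hU; GrothLib.SecComp6.isOpen_sectionComponents_univ f g hg h⟩

end Groth.Agent.S3420
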