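import Groth.Statements.S3430
import Groth.Agent.Lib.DimFin29.Basic


set_option autoImplicit false
open CategoryTheory AlgebraicGeometry
universe u
open EGA42

namespace Groth.Agent.S3430

/-- Let X be a scheme of finite type over a field k and n a natural number. Then: dim X ≥ n if and only
if there are a dense open subscheme U of X and a surjective k-morphism from U to affine n-space over
k; dim X ≤ n if and only if there are such U and g with g finite; dim X = n if and only if there are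
such U and g with g finite and surjective. -/
theorem result (k : Type u) [Field k] {X : Scheme.{u}}
    (f : X ⟶ Spec (CommRingCat.of k)) [LocallyOfFiniteType f] [QuasiCompact f] (n : ℕ) :
    ((n : WithBot ℕ∞) ≤ topologicalKrullDim (X : Type u) ↔
      ∃ (U : X.Opens) (g : (U : Scheme.{u}) ⟶ 𝔸(ULift.{u} (Fin n); Spec (CommRingCat.of k))),
        Dense (U : Set X) ∧ g ≫ (𝔸(ULift.{u} (Fin n); Spec (CommRingCat.of k)) ↘ Spec (CommRingCat.of k)) = U.ι ≫ f ∧ Function.Surjective g.base) ∧
    (topologicalKrullDim (X : Type u) ≤ n ↔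
      ∃ (U : X.Opens) (g : (U : Scheme.{u}) ⟶ 𝔸(ULift.{u} (Fin n); Spec (CommRingCat.of k))),
        Dense (U : Set X) ∧ g ≫ (𝔸(ULift.{u} (Fin n); Spec (CommRingCat.of k)) ↘ Spec (CommRingCat.of k)) = U.ι ≫ f ∧ IsFinite g) ∧
    (topologicalKrullDim (X : Type u) = n ↔
      ∃ (U : X.Opens) (g : (U : Scheme.{u}) ⟶ 𝔸(ULift.{u} (Fin n); Spec (CommRingCat.of k))),
        Dense (U : Set X) ∧ g ≫ (𝔸(ULift.{u} (Fin n); Spec (CommRingCat.of k)) ↘ Spec (CommRingCat.of k)) = U.ι ≫ f ∧ IsFinite g ∧ Function.Surjective g.base) := by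
  open GrothLib.DimFin29 in
  have key : (Nonempty X → ∃ (U : X.Opens) (d : ℕ) (g : (U : Scheme.{u}) ⟶ Spec (CommRingCat.of (PR k d))),
      Dense (U : Set X) ∧ topologicalKrullDim X = d ∧ IsFinite g ∧ Function.Surjective g.base ∧
      g ≫ Spec.map (CommRingCat.ofHom MvPolynomial.C) = U.ι ≫ f) := fun h => exists_dense_noether f
  let e := AffineSpace.SpecIso (ULift.{u} (Fin n)) (CommRingCat.of k)
  have he : e.inv ≫ (𝔸(ULift.{u} (Fin n); Spec (CommRingCat.of k)) ↘ Spec (CommRingCat.of k)) =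
      Spec.map (CommRingCat.ofHom MvPolynomial.C) := AffineSpace.SpecIso_inv_over _
  have he' : e.hom ≫ Spec.map (CommRingCat.ofHom MvPolynomial.C) =
      (𝔸(ULift.{u} (Fin n); Spec (CommRingCat.of k)) ↘ Spec (CommRingCat.of k)) := by
    rw [← he, Iso.hom_inv_id_assoc]
  have hsurj : ∀ (U : X.Opens) (g : (U : Scheme.{u}) ⟶ 𝔸(ULift.{u} (Fin n); Spec (CommRingCat.of k))),
      Dense (U : Set X) → g ≫ (𝔸(ULift.{u} (Fin n); Spec (CommRingCat.of k)) ↘ Spec (CommRingCat.of k)) = U.ι ≫ f →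
      Function.Surjective g.base → (n : WithBot ℕ∞) ≤ topologicalKrullDim (X : Type u) := by
    intro U g hU hg hs
    haveI : LocallyOfFiniteType ((g ≫ e.hom) ≫ Spec.map (CommRingCat.ofHom (MvPolynomial.C (R := k)))) := by
      rw [Category.assoc, he', hg]; infer_instance
    rw [← GrothLib.DimFin29.topologicalKrullDim_dense f hU]
    exact GrothLib.DimFin29.le_dim_of_surjective (g ≫ e.hom) (e.hom.homeomorph.surjective.comp hs)
  have hfin : ∀ (U : X.Opens) (g : (U : Scheme.{u}) ⟶ 𝔸(ULift.{u} (Fin n); Spec (CommRingCat.of k))),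
      Dense (U : Set X) → IsFinite g → topologicalKrullDim (X : Type u) ≤ n := by
    intro U g hU hg
    rw [← GrothLib.DimFin29.topologicalKrullDim_dense f hU]
    exact GrothLib.DimFin29.dim_le_of_finite (g ≫ e.hom)
  have hemp : ¬ Nonempty X → topologicalKrullDim (X : Type u) = ⊥ := fun h => by
    haveI : IsEmpty (TopologicalSpace.IrreducibleCloseds X) :=
      ⟨fun Z => h ⟨Z.isIrreducible.1.some⟩⟩
    exact Order.krullDim_eq_bot
  refine ⟨⟨fun h => ?_, fun ⟨U, g, hU, hg, hs⟩ => hsurj U g hU hg hs⟩,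
    ⟨fun h => ?_, fun ⟨U, g, hU, hg, hf'⟩ => hfin U g hU hf'⟩,
    ⟨fun h => ?_, fun ⟨U, g, hU, hg, hf', hs⟩ => le_antisymm (hfin U g hU hf') (hsurj U g hU hg hs)⟩⟩
  · by_cases hne : Nonempty X
    · obtain ⟨U, d, g, hU, hd, -, hgs, hge⟩ := key hne
      rw [hd] at h
      obtain ⟨c, hc, hce⟩ := GrothLib.DimFin29.exists_surjective_to_affine (k := k) (show n ≤ d by exact_mod_cast h)
      refine ⟨U, g ≫ c ≫ e.inv, hU, ?_, e.inv.homeomorph.surjective.comp (hc.comp hgs)⟩
      rw [Category.assoc, Category.assoc, he, hce, hge]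
    · rw [hemp hne] at h
      exact absurd h (by simp)
  · by_cases hne : Nonempty X
    · obtain ⟨U, d, g, hU, hd, hgf, -, hge⟩ := key hne
      rw [hd] at h
      obtain ⟨c, hc, hce⟩ := GrothLib.DimFin29.exists_finite_to_affine (k := k) (show d ≤ n by exact_mod_cast h)
      refine ⟨U, g ≫ c ≫ e.inv, hU, ?_, inferInstance⟩
      rw [Category.assoc, Category.assoc, he, hce, hge]
    · haveI : IsEmpty X := not_nonempty_iff.1 hne
      let c : Spec (CommRingCat.of k) ⟶ 𝔸(ULift.{u} (Fin n); Spec (CommRingCat.of k)) :=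
        AffineSpace.homOfVector (𝟙 _) (fun _ => 0)
      refine ⟨⊥, (⊥ : X.Opens).ι ≫ f ≫ c, by
        rw [dense_iff_inter_open]; exact fun _ _ ⟨x, _⟩ => isEmptyElim x, ?_, inferInstance⟩
      rw [Category.assoc, Category.assoc, AffineSpace.homOfVector_over, Category.comp_id]
  · have hne : Nonempty X := by
      by_contra hne
      rw [hemp hne] at h
      exact absurd h (by simp)
    obtain ⟨U, d, g, hU, hd, hgf, hgs, hge⟩ := key hne
    rw [hd] at h
    obtain rfl : d = n := by exact_mod_cast h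
    refine ⟨U, g ≫ e.inv, hU, ?_, inferInstance, e.inv.homeomorph.surjective.comp hgs⟩
    rw [Category.assoc, he, hge]

end Groth.Agent.S3430
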