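import Groth.Statements.S3431
import Groth.Agent.Lib.ArtinTate.Jacobson
import Mathlib.RingTheory.KrullDimension.Field

set_option autoImplicit false
universe u
open EGA43

namespace Groth.Agent.S3431

/-- Let A be a Noetherian ring. Then A is a Jacobson ring if and only if there is no prime ideal p of A
such that A/p is semi-local (finitely many maximal ideals) of Krull dimension 1. -/
theorem result (A : Type u) [CommRing A] [IsNoetherianRing A] :
    IsJacobsonRing A ↔
      ∀ (p : Ideal A) [p.IsPrime], ¬ (Finite (MaximalSpectrum (A ⧸ p)) ∧ ringKrullDim (A ⧸ p) = 1) := by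
  constructor
  · intro hA p _ ⟨hfin, hdim⟩
    haveI := GrothLib.ArtinTate.finite_primeSpectrum_of_dim_le_one (B := A ⧸ p) hdim.le
    obtain ⟨f, hf, hF⟩ := GrothLib.ArtinTate.exists_isField_away_of_finite (B := A ⧸ p)
    refine GrothLib.ArtinTate.not_isField_away_of_finite_of_finiteType
      (fun K _ _ hK => finite_of_finite_type_of_isJacobsonRing A K) p (fun hp => ?_) f hf hF
    letI := Ideal.Quotient.field p
    rw [ringKrullDim_eq_zero_of_field] at hdim
    exact zero_ne_one hdim
  · intro h
    refine GrothLib.ArtinTate.isJacobsonRing_of_no_isField_away fun p _ hp f hf hF => h p ⟨?_, ?_⟩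
    · haveI := GrothLib.ArtinTate.finite_primeSpectrum_of_isField_away hf hF
      exact Finite.of_injective MaximalSpectrum.toPrimeSpectrum MaximalSpectrum.toPrimeSpectrum_injective
    · refine le_antisymm (GrothLib.ArtinTate.ringKrullDim_le_one_of_isField_away hf hF) ?_
      by_contra hlt
      haveI : Ring.KrullDimLE 0 (A ⧸ p) := Ring.krullDimLE_iff.2 (by
        have := not_le.1 hlt
        rw [← zero_add (1 : WithBot ℕ∞)] at this
        simpa using ENat.WithBot.lt_add_one_iff.1 this)
      have hb : (⊥ : Ideal (A ⧸ p)).IsMaximal := Ideal.IsPrime.isMaximal' Ideal.bot_prime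
      exact hp (Ideal.Quotient.maximal_of_isField p (Ring.isField_iff_maximal_bot.2 hb))

end Groth.Agent.S3431
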