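import Groth.Statements.S3432
import Groth.Agent.Lib.ArtinTate.Space

set_option autoImplicit false
open CategoryTheory AlgebraicGeometry
universe u
open EGA43

namespace Groth.Agent.S3432

/-- Let X be a locally Noetherian scheme and Y a closed subset of X such that every nonempty closed
subset of X meets Y. Then the open subscheme X ∖ Y (equivalently, the subspace X ∖ Y) is a Jacobson
space. -/
theorem result (X : Scheme.{u}) [IsLocallyNoetherian X] (Y : Set X)
    (hY : IsClosed Y) (hmeet : ∀ Z : Set X, IsClosed Z → Z.Nonempty → (Z ∩ Y).Nonempty) :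
    JacobsonSpace ↥(Yᶜ) := by
  haveI : IsLocallyNoetherian X := inferInstance
  rw [jacobsonSpace_iff_locallyClosed]
  intro Z hne hZ
  have hr : IsLocallyClosed (Set.range ((↑) : ↥(Yᶜ) → X)) := by
    rw [Subtype.range_coe]; exact hY.isOpen_compl.isLocallyClosed
  obtain ⟨_, ⟨y, hy, rfl⟩, hyl⟩ := GrothLib.ArtinTate.exists_isLocallyClosed_mem X
    (hZ.image Topology.IsInducing.subtypeVal hr) (hne.image _)
  refine ⟨y, hy, isClosed_of_closure_subset fun z hz => ?_⟩
  rw [closure_subtype, Set.image_singleton] at hz
  by_contra hzy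
  have hzc : IsClosed ({z.1} : Set X) := GrothLib.ArtinTate.isClosed_of_specializes_of_isLocallyClosed hyl
    (specializes_iff_mem_closure.2 hz) fun e => hzy (Subtype.ext e)
  obtain ⟨w, hw, hwY⟩ := hmeet _ hzc (Set.singleton_nonempty _)
  exact z.2 (Set.mem_singleton_iff.1 hw ▸ hwY)

end Groth.Agent.S3432
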