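import Groth.Statements.S3434
import Groth.Agent.Lib.Chev28.PropNhd

set_option autoImplicit false
open CategoryTheory AlgebraicGeometry
universe u
open EGA43

namespace Groth.Agent.S3434

/-- Let Y be an integral locally Noetherian scheme, X an integral scheme, f : X ⟶ Y separated, dominant
and of finite type, and y a point of Y; write K for the function field of X (the local ring at its
generic point ξ), into which O_{Y,y} maps through O_{Y,f ξ}. Then f is proper over some open
neighbourhood of y if and only if every discrete valuation ring of K which dominates (the image of)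
O_{Y,y} dominates (the image of) O_{X,x} for some point x of X; such an x lies over y. -/
theorem result {X Y : Scheme.{u}} [IsIntegral X] [IsIntegral Y] [IsLocallyNoetherian Y]
    (f : X ⟶ Y) [IsSeparated f] [IsDominant f] [LocallyOfFiniteType f] [QuasiCompact f] (y : Y)
    (hξ : f.base (genericPoint X) ⤳ y) :
    (∃ U : Y.Opens, y ∈ U ∧ IsProper (f ∣_ U)) ↔
      ∀ A : ValuationSubring X.functionField, IsDiscreteValuationRing A →
        (∀ r : Y.presheaf.stalk y, A.valuation ((Y.presheaf.stalkSpecializes hξ ≫ f.stalkMap (genericPoint X)) r) ≤ 1) →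
        (∀ r ∈ IsLocalRing.maximalIdeal (Y.presheaf.stalk y),
            A.valuation ((Y.presheaf.stalkSpecializes hξ ≫ f.stalkMap (genericPoint X)) r) < 1) →
        ∃ x : X, f.base x = y ∧
          (∀ r : X.presheaf.stalk x, A.valuation (X.presheaf.stalkSpecializes (genericPoint_specializes x) r) ≤ 1) ∧
          (∀ r ∈ IsLocalRing.maximalIdeal (X.presheaf.stalk x),
            A.valuation (X.presheaf.stalkSpecializes (genericPoint_specializes x) r) < 1) := by
  let ξ := genericPoint X
  let φ : Y.presheaf.stalk y ⟶ X.functionField := Y.presheaf.stalkSpecializes hξ ≫ f.stalkMap (genericPoint X)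
  have hφ : Spec.map φ ≫ Y.fromSpecStalk y = X.fromSpecStalk (genericPoint X) ≫ f := by
    rw [Spec.map_comp, Category.assoc, Scheme.SpecMap_stalkSpecializes_fromSpecStalk,
      Scheme.SpecMap_stalkMap_fromSpecStalk]
  constructor
  · rintro ⟨U, hyU, hU⟩ A hA h1 h2
    let φA : Y.presheaf.stalk y →+* A :=
      φ.hom.codRestrict A.toSubring fun r => (A.valuation_le_one_iff _).1 (h1 r)
    haveI : IsLocalHom φA := ⟨fun r hr => by
      by_contra hn
      have h := h2 r ((IsLocalRing.mem_maximalIdeal r).2 hn)
      exact absurd ((A.valuation_lt_one_iff (φA r)).2 h) fun hm => (IsLocalRing.mem_maximalIdeal _).1 hm hr⟩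
    let g : Spec (CommRingCat.of A) ⟶ Y := Spec.map (CommRingCat.ofHom φA) ≫ Y.fromSpecStalk y
    have hg : g.base (IsLocalRing.closedPoint A) = y := by
      show (Y.fromSpecStalk y).base ((Spec.map (CommRingCat.ofHom φA)).base (IsLocalRing.closedPoint A)) = y
      rw [show (Spec.map (CommRingCat.ofHom φA)).base (IsLocalRing.closedPoint A) =
        IsLocalRing.closedPoint _ from IsLocalRing.comap_closedPoint φA, Scheme.fromSpecStalk_closedPoint]
    haveI := hA
    have hgen : Spec.map (CommRingCat.ofHom (algebraMap A X.functionField)) ≫ g =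
        X.fromSpecStalk (genericPoint X) ≫ f := by
      show Spec.map (CommRingCat.ofHom (algebraMap A X.functionField)) ≫
        Spec.map (CommRingCat.ofHom φA) ≫ Y.fromSpecStalk y = _
      rw [← Spec.map_comp_assoc, ← hφ]
      rfl
    obtain ⟨l, hl₁, hl₂⟩ := GrothLib.Chev28.exists_lift_of_proper_nhd (A := A) (K := X.functionField) f U
      (𝟙 _) (by rwa [Category.id_comp]) g (hg ▸ hyU) (X.fromSpecStalk (genericPoint X)) hgen.symm
      (by
        have hc : (X.fromSpecStalk (genericPoint X)).base (IsLocalRing.closedPoint X.functionField) =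
            genericPoint X := Scheme.fromSpecStalk_closedPoint
        rw [hc]
        exact ⟨⟨_, hξ.mem_open U.2 hyU⟩, ⟨_, rfl⟩, rfl⟩)
    let x := l.base (IsLocalRing.closedPoint A)
    refine ⟨x, (congrArg (fun m => m.base (IsLocalRing.closedPoint A)) hl₁).trans hg, ?_⟩
    have key : Scheme.stalkClosedPointTo l ≫ CommRingCat.ofHom (algebraMap A X.functionField) =
        X.presheaf.stalkSpecializes (genericPoint_specializes x) := by
      refine Spec.map_injective ?_
      rw [← cancel_mono (X.fromSpecStalk x), Spec.map_comp, Category.assoc,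
        Scheme.Spec_stalkClosedPointTo_fromSpecStalk, Scheme.SpecMap_stalkSpecializes_fromSpecStalk, hl₂]
    refine ⟨fun r => ?_, fun r hr => ?_⟩
    · rw [← key]
      exact A.valuation_le_one _
    · rw [← key]
      refine (A.valuation_lt_one_iff _).1 ((IsLocalRing.mem_maximalIdeal _).2 fun hu => ?_)
      exact (IsLocalRing.mem_maximalIdeal r).1 hr (isUnit_of_map_unit (Scheme.stalkClosedPointTo l).hom r hu)
  · intro H
    -- lifts of the valuation rings of the function field
    have lift : ∀ A : ValuationSubring X.functionField, IsDiscreteValuationRing A →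
        ∀ g : Spec (CommRingCat.of A) ⟶ Y, g.base (IsLocalRing.closedPoint A) = y →
        Spec.map (CommRingCat.ofHom A.subtype) ≫ g = X.fromSpecStalk (genericPoint X) ≫ f →
        ∃ l : Spec (CommRingCat.of A) ⟶ X, l ≫ f = g ∧
          Spec.map (CommRingCat.ofHom A.subtype) ≫ l = X.fromSpecStalk (genericPoint X) := by
      intro A hA g hg hcomp
      have hψ : ∃ ψ : Y.presheaf.stalk y ⟶ CommRingCat.of A, IsLocalHom ψ.hom ∧
          Spec.map ψ ≫ Y.fromSpecStalk y = g := by
        rw [← hg]
        exact ⟨Scheme.stalkClosedPointTo g, inferInstance, Scheme.Spec_stalkClosedPointTo_fromSpecStalk g⟩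
      obtain ⟨ψ, hψl, hψ⟩ := hψ
      have hψφ : ψ ≫ CommRingCat.ofHom A.subtype = φ := by
        refine Spec.map_injective ?_
        rw [← cancel_mono (Y.fromSpecStalk y), Spec.map_comp, Category.assoc, hψ, hcomp, hφ]
      obtain ⟨x, hxy, hx1, hx2⟩ := H A hA
        (fun r => by
          show A.valuation (φ r) ≤ 1
          rw [← hψφ]
          exact A.valuation_le_one _)
        (fun r hr => by
          show A.valuation (φ r) < 1
          rw [← hψφ]
          refine (A.valuation_lt_one_iff _).1 ((IsLocalRing.mem_maximalIdeal _).2 fun hu => ?_)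
          exact (IsLocalRing.mem_maximalIdeal r).1 hr (isUnit_of_map_unit ψ.hom r hu))
      let χ := X.presheaf.stalkSpecializes (genericPoint_specializes x)
      let χA : X.presheaf.stalk x →+* A :=
        χ.hom.codRestrict A.toSubring fun r => (A.valuation_le_one_iff _).1 (hx1 r)
      haveI : IsLocalHom χA := ⟨fun r hr => by
        by_contra hn
        have h := hx2 r ((IsLocalRing.mem_maximalIdeal r).2 hn)
        exact absurd ((A.valuation_lt_one_iff (χA r)).2 h) fun hm => (IsLocalRing.mem_maximalIdeal _).1 hm hr⟩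
      let l : Spec (CommRingCat.of A) ⟶ X := Spec.map (CommRingCat.ofHom χA) ≫ X.fromSpecStalk x
      have hl : l.base (IsLocalRing.closedPoint A) = x :=
        (GrothLib.DVRDom.closedPoint_comp χA (X.fromSpecStalk x)).trans Scheme.fromSpecStalk_closedPoint
      have hl₂ : Spec.map (CommRingCat.ofHom A.subtype) ≫ l = X.fromSpecStalk (genericPoint X) := by
        show Spec.map (CommRingCat.ofHom A.subtype) ≫ Spec.map (CommRingCat.ofHom χA) ≫ X.fromSpecStalk x = _
        rw [← Spec.map_comp_assoc]
        exact X.SpecMap_stalkSpecializes_fromSpecStalk (genericPoint_specializes x)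
      refine ⟨l, GrothLib.DVRDom.eq_of_closedPoint A.subtype A.subtype_injective _ _ ?_ ?_, hl₂⟩
      · exact (congrArg f.base hl).trans (hxy.trans hg.symm)
      · rw [reassoc_of% hl₂, hcomp]
    refine GrothLib.Chev28.exists_nhd_isProper_of_lifts_restrict f y fun V hyV u hu A hA g hg hcomp => ?_
    have hξV : genericPoint X ∈ f ⁻¹ᵁ V := hξ.mem_open V.2 hyV
    have hu' : u = ⟨genericPoint X, hξV⟩ := by
      refine (hu _ ?_).symm
      rw [← (f ⁻¹ᵁ V).ι.isOpenEmbedding.isInducing.specializes_iff]
      exact genericPoint_specializes _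
    subst hu'
    let θ : X.functionField ⟶ (f ⁻¹ᵁ V).toScheme.residueField ⟨genericPoint X, hξV⟩ :=
      (f ⁻¹ᵁ V).ι.stalkMap ⟨genericPoint X, hξV⟩ ≫ (f ⁻¹ᵁ V).toScheme.residue _
    have hθ : Spec.map θ ≫ X.fromSpecStalk (genericPoint X) =
        (f ⁻¹ᵁ V).toScheme.fromSpecResidueField ⟨genericPoint X, hξV⟩ ≫ (f ⁻¹ᵁ V).ι := by
      rw [Scheme.fromSpecResidueField, Category.assoc, ← Scheme.SpecMap_stalkMap_fromSpecStalk,
        ← Spec.map_comp_assoc]
      rfl
    have hθb : Function.Bijective θ.hom := by
      refine ⟨RingHom.injective _, fun z => ?_⟩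
      obtain ⟨s, rfl⟩ := (f ⁻¹ᵁ V).toScheme.residue_surjective _ z
      obtain ⟨t, rfl⟩ := (f ⁻¹ᵁ V).ι.stalkMap_surjective ⟨genericPoint X, hξV⟩ s
      exact ⟨t, rfl⟩
    let e : X.functionField ≃+* (f ⁻¹ᵁ V).toScheme.residueField ⟨genericPoint X, hξV⟩ :=
      RingEquiv.ofBijective θ.hom hθb
    let B : ValuationSubring X.functionField := A.comap θ.hom
    let η : B ≃+* A :=
      { toFun := fun b => ⟨θ.hom b.1, b.2⟩
        invFun := fun a => ⟨e.symm a.1, by
          show θ.hom (e.symm a.1) ∈ A
          rw [show θ.hom (e.symm a.1) = a.1 from e.apply_symm_apply a.1]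
          exact a.2⟩
        left_inv := fun b => Subtype.ext (e.symm_apply_apply b.1)
        right_inv := fun a => Subtype.ext (e.apply_symm_apply a.1)
        map_mul' := fun _ _ => Subtype.ext (map_mul θ.hom _ _)
        map_add' := fun _ _ => Subtype.ext (map_add θ.hom _ _) }
    haveI := hA
    haveI : IsLocalHom η.toRingHom := ⟨fun b hb => (MulEquiv.isUnit_map η.toMulEquiv).1 hb⟩
    haveI : IsLocalHom η.symm.toRingHom := ⟨fun a ha => (MulEquiv.isUnit_map η.symm.toMulEquiv).1 ha⟩
    have hsub : CommRingCat.ofHom η.toRingHom ≫ CommRingCat.ofHom A.subtype =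
        CommRingCat.ofHom B.subtype ≫ θ := by ext b; rfl
    have hηη : CommRingCat.ofHom η.toRingHom ≫ CommRingCat.ofHom η.symm.toRingHom = 𝟙 _ := by
      ext b; exact congrArg Subtype.val (η.symm_apply_apply b)
    have hηη' : CommRingCat.ofHom η.symm.toRingHom ≫ CommRingCat.ofHom η.toRingHom = 𝟙 _ := by
      ext a; exact congrArg Subtype.val (η.apply_symm_apply a)
    haveI : IsIso θ := (ConcreteCategory.isIso_iff_bijective _).2 hθb
    let g' : Spec (CommRingCat.of B) ⟶ Y := Spec.map (CommRingCat.ofHom η.symm.toRingHom) ≫ g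
    obtain ⟨l, hl₁, hl₂⟩ := lift B (IsDiscreteValuationRing.RingEquivClass.isDiscreteValuationRing η.symm) g'
      ((GrothLib.DVRDom.closedPoint_comp η.symm.toRingHom g).trans hg)
      (by
        rw [← cancel_epi (Spec.map θ), reassoc_of% hθ, ← Category.assoc, ← Spec.map_comp, ← hsub,
          ← Spec.map_comp_assoc, ← Category.assoc, hηη', Category.id_comp, hcomp, Category.assoc])
    refine ⟨Spec.map (CommRingCat.ofHom η.toRingHom) ≫ l, ?_, ?_⟩
    · rw [Category.assoc, hl₁, ← Spec.map_comp_assoc, hηη', Spec.map_id, Category.id_comp]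
    · rw [← Spec.map_comp_assoc, hsub, Spec.map_comp, Category.assoc, hl₂, hθ]

end Groth.Agent.S3434
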