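import Groth.Statements.S3435

set_option autoImplicit false
universe u
open EGA41

namespace Groth.Agent.S3435

open TensorProduct in
/-- Let Λ → A → B → C be ring homomorphisms. The homomorphism Ω_{B/Λ} ⊗_B C → Ω_{B/A} ⊗_B C maps the
imperfection module Υ_{C/B/Λ} (the kernel of Ω_{B/Λ} ⊗_B C → Ω_{C/Λ}) onto the imperfection module
Υ_{C/B/A} (the kernel of Ω_{B/A} ⊗_B C → Ω_{C/A}): every element of Υ_{C/B/A} is the image of some
element of Υ_{C/B/Λ}. -/
theorem result (Λ A B C : Type u) [CommRing Λ] [CommRing A] [CommRing B] [CommRing C]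
    [Algebra Λ A] [Algebra Λ B] [Algebra Λ C] [Algebra A B] [Algebra A C] [Algebra B C]
    [IsScalarTower Λ A B] [IsScalarTower Λ A C] [IsScalarTower Λ B C] [IsScalarTower A B C] :
    ∀ ω ∈ EGA41.imperfection A B C, ∃ η ∈ EGA41.imperfection Λ B C,
      (KaehlerDifferential.map Λ A B B).baseChange C η = ω := by
  intro ω hω
  have hω' : KaehlerDifferential.mapBaseChange A B C ω = 0 := hω
  have hsurj : Function.Surjective ((KaehlerDifferential.map Λ A B B).baseChange C) :=
    LinearMap.lTensor_surjective C (KaehlerDifferential.map_surjective Λ A B)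
  obtain ⟨η₀, hη₀⟩ := hsurj ω
  have m1 : ((KaehlerDifferential.map Λ A C C).restrictScalars B) ∘ₗ KaehlerDifferential.map Λ Λ B C =
      KaehlerDifferential.map A A B C ∘ₗ KaehlerDifferential.map Λ A B B :=
    Derivation.liftKaehlerDifferential_unique _ _ (Derivation.ext fun b => by simp)
  have m2 : ((KaehlerDifferential.map Λ Λ B C).restrictScalars A) ∘ₗ KaehlerDifferential.map Λ Λ A B =
      KaehlerDifferential.map Λ Λ A C :=
    Derivation.liftKaehlerDifferential_unique _ _ (Derivation.ext fun a => by
      simp [← IsScalarTower.algebraMap_apply A B C])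
  have m3 : ((KaehlerDifferential.map Λ A B B).restrictScalars A) ∘ₗ KaehlerDifferential.map Λ Λ A B = 0 :=
    Derivation.liftKaehlerDifferential_unique _ _ (Derivation.ext fun a => by
      simp [Derivation.map_algebraMap])
  have key : ∀ z, KaehlerDifferential.mapBaseChange A B C ((KaehlerDifferential.map Λ A B B).baseChange C z) =
      KaehlerDifferential.map Λ A C C (KaehlerDifferential.mapBaseChange Λ B C z) := by
    intro z
    induction z using TensorProduct.induction_on with
    | zero => simp only [map_zero]
    | add a b ha hb => simp only [map_add, ha, hb]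
    | tmul c w =>
      have h := LinearMap.congr_fun m1 w
      simp only [LinearMap.comp_apply, LinearMap.coe_restrictScalars] at h
      rw [LinearMap.baseChange_tmul, KaehlerDifferential.mapBaseChange_tmul,
        KaehlerDifferential.mapBaseChange_tmul, LinearMap.map_smul, h]
  obtain ⟨θ, hθ⟩ := (KaehlerDifferential.exact_mapBaseChange_map Λ A C
    (KaehlerDifferential.mapBaseChange Λ B C η₀)).1 (by rw [← key, hη₀, hω'])
  -- move `θ` to `C ⊗ Ω[B⁄Λ]`
  obtain ⟨j, hj⟩ : ∃ j : C ⊗[A] Ω[A⁄Λ] →ₗ[C] C ⊗[B] Ω[B⁄Λ],
      ∀ c w, j (c ⊗ₜ w) = c ⊗ₜ KaehlerDifferential.map Λ Λ A B w :=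
    ⟨LinearMap.liftBaseChange C
      (((TensorProduct.mk B C Ω[B⁄Λ] 1).restrictScalars A) ∘ₗ KaehlerDifferential.map Λ Λ A B),
     fun c w => by simp [TensorProduct.smul_tmul']⟩
  have hj1 : ∀ z, KaehlerDifferential.mapBaseChange Λ B C (j z) = KaehlerDifferential.mapBaseChange Λ A C z := by
    intro z
    induction z using TensorProduct.induction_on with
    | zero => simp only [map_zero]
    | add a b ha hb => simp only [map_add, ha, hb]
    | tmul c w =>
      have h := LinearMap.congr_fun m2 w
      simp only [LinearMap.comp_apply, LinearMap.coe_restrictScalars] at h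
      rw [hj, KaehlerDifferential.mapBaseChange_tmul, KaehlerDifferential.mapBaseChange_tmul, h]
  have hj2 : ∀ z, (KaehlerDifferential.map Λ A B B).baseChange C (j z) = 0 := by
    intro z
    induction z using TensorProduct.induction_on with
    | zero => simp only [map_zero]
    | add a b ha hb => simp only [map_add, ha, hb, add_zero]
    | tmul c w =>
      have h := LinearMap.congr_fun m3 w
      simp only [LinearMap.comp_apply, LinearMap.coe_restrictScalars, LinearMap.zero_apply] at h
      rw [hj, LinearMap.baseChange_tmul, h, TensorProduct.tmul_zero]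
  refine ⟨η₀ - j θ, ?_, by rw [map_sub, hη₀, hj2, sub_zero]⟩
  change KaehlerDifferential.mapBaseChange Λ B C (η₀ - j θ) = 0
  rw [map_sub, hj1, hθ, sub_self]

end Groth.Agent.S3435
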