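import Groth.Statements.S3440
import Groth.Agent.Lib.Chev28.OpenDim
import Groth.Agent.Lib.CMMor6.Chart
import Groth.Agent.S2082

set_option autoImplicit false
open CategoryTheory AlgebraicGeometry
universe u
open EGA43

namespace Groth.Agent.S3440

/-- Let Y be locally Noetherian, f : X ⟶ Y locally of finite type, x a point of X and y = f x; suppose
O_{Y,y} is regular and O_{X,x} is Cohen–Macaulay. The following are equivalent: a) O_{Y,y} ⟶ O_{X,x}
is flat and the local ring of X_y at x is Cohen–Macaulay; b) O_{Y,y} ⟶ O_{X,x} is flat; c) the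
restriction of f to some open neighbourhood of x is universally open; d) f is open at the generic
point of every irreducible component of X_y through x; e') dim O_{X,x} = dim O_{Y,y} + dim
O_{X_y,x}. -/
theorem result {X Y : Scheme.{u}} [IsLocallyNoetherian Y] (f : X ⟶ Y)
    [LocallyOfFiniteType f] (x : X) (hreg : IsRegularLocalRing (Y.presheaf.stalk (f.base x)))
    (hCM : LocCoh.IsCohenMacaulayLocalRing (X.presheaf.stalk x)) :
    List.TFAE [
      (f.stalkMap x).hom.Flat ∧ LocCoh.IsCohenMacaulayLocalRing ((f.fiber (f.base x)).presheaf.stalk (f.asFiber x)),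
      (f.stalkMap x).hom.Flat,
      ∃ U : X.Opens, x ∈ U ∧ UniversallyOpen (U.ι ≫ f),
      (∀ z : ↥(f.fiber (f.base x)), f.asFiber x ∈ closure {z} →
          (∀ z' : ↥(f.fiber (f.base x)), z ∈ closure {z'} → z' = z) →
          EGA43.IsOpenAt f.base ((f.fiberι (f.base x)).base z)),
      ringKrullDim (X.presheaf.stalk x) =
        ringKrullDim (Y.presheaf.stalk (f.base x)) + ringKrullDim ((f.fiber (f.base x)).presheaf.stalk (f.asFiber x)) ] := by
  haveI := LocallyOfFiniteType.isLocallyNoetherian f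
  haveI : LocallyOfFinitePresentation f := inferInstance
  haveI := hreg
  haveI := hCM
  letI : Algebra (Y.presheaf.stalk (f.base x)) (X.presheaf.stalk x) := (f.stalkMap x).hom.toAlgebra
  haveI : IsLocalHom (algebraMap (Y.presheaf.stalk (f.base x)) (X.presheaf.stalk x)) :=
    inferInstanceAs (IsLocalHom (f.stalkMap x).hom)
  obtain ⟨e⟩ := GrothLib.CMMor6.nonempty_fibQuot_equiv f x
  tfae_have 1 → 2 := fun h => h.1
  tfae_have 2 → 1 := fun h => ⟨h, by
    haveI : Module.Flat (Y.presheaf.stalk (f.base x)) (X.presheaf.stalk x) := h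
    haveI : LocCoh.IsCohenMacaulayLocalRing (GrothLib.CMMor6.FibQuot f x) :=
      ((GrothLib.CMMor6.cm_iff_of_flat_local (A := Y.presheaf.stalk (f.base x))).mp hCM).2
    exact GrothLib.HB26.isCohenMacaulayLocalRing_of_ringEquiv e⟩
  tfae_have 1 → 3 := fun h => by
    obtain ⟨r, U, g, hxU, hg, _, _, -⟩ := GrothLib.CMMor6.exists_chart f x h
    haveI : Flat (𝔸(ULift.{u} (Fin r); Y) ↘ Y) :=
      Flat.of_stalkMap _ fun p => (GrothLib.CMMor6.isCMAt_affineSpace r p).1
    haveI : Flat (U.ι ≫ f) := by rw [← hg]; infer_instance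
    exact ⟨U, hxU, inferInstance⟩
  tfae_have 3 → 4 := fun ⟨U, hxU, hU⟩ z hz _ W hW => by
    haveI := hU
    have hs : (f.fiberι (f.base x)).base z ⤳ x :=
      ((specializes_iff_mem_closure.mpr hz).map (f.fiberι (f.base x)).continuous).trans
        (specializes_of_eq (f.fiberι_asFiber x))
    have hzU := hs.mem_open U.2 hxU
    have h1 := (U.ι ≫ f).isOpenMap.image_mem_nhds
      (U.ι.continuous.continuousAt.preimage_mem_nhds (x := ⟨_, hzU⟩) hW)
    refine Filter.mem_of_superset h1 ?_
    rintro _ ⟨a, ha, rfl⟩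
    exact ⟨U.ι a, ha, rfl⟩
  tfae_have 4 → 5 := fun h => GrothLib.Chev28.dim_stalk_eq_of_isOpenAt f x h
  tfae_have 5 → 2 := fun h => by
    refine Groth.Agent.S2082.result (R := Y.presheaf.stalk (f.base x)) (S := X.presheaf.stalk x) ?_
    rw [h]
    exact congrArg _ (ringKrullDim_eq_of_ringEquiv e).symm
  tfae_finish

end Groth.Agent.S3440
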