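import Groth.Statements.S3449
import Groth.Agent.Lib.Chev28.Jacobson

set_option autoImplicit false
open CategoryTheory AlgebraicGeometry
universe u
open EGA43

namespace Groth.Agent.S3449

/-- Let S be a locally Noetherian scheme which is Jacobson, whose local rings are universally catenary,
and whose irreducible components S' are equidimensional in the sense that for every closed point s
of S' the dimension of S' equals the dimension of S' at s (the Krull dimension of the set of
generizations of s inside S'). Let X and Y be S-schemes, each locally of finite type over the base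
S, and let f : X ⟶ Y be a morphism over S, with X irreducible and f dominant; let η be the generic
point of Y and e the dimension of the fibre over η. Then dim X = dim Y + e. -/
theorem result {X Y S : Scheme.{u}} [IsLocallyNoetherian S]
    [JacobsonSpace S] (h2 : ∀ s : S, CAlg.IsUniversallyCatenary (S.presheaf.stalk s))
    (h3 : ∀ S' ∈ irreducibleComponents (S : Type u), ∀ s ∈ S', IsClosed ({s} : Set S) →
      topologicalKrullDim (↥S' : Type u) = topologicalKrullDim ↥{t : S | t ∈ S' ∧ t ⤳ s})
    (p : X ⟶ S) (q : Y ⟶ S) [LocallyOfFiniteType p] [LocallyOfFiniteType q] (f : X ⟶ Y) (hf : f ≫ q = p)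
    [IrreducibleSpace X] [IrreducibleSpace Y] [IsDominant f] :
    topologicalKrullDim (X : Type u) =
      topologicalKrullDim (Y : Type u) + topologicalKrullDim ↥(f.fiber (genericPoint Y)) := by
  subst hf
  have hfgen : f (genericPoint X) = genericPoint Y := by
    have hd : closure ({f (genericPoint X)} : Set Y) = Set.univ := by
      rw [← GrothLib.Chev28.closure_image_closure_singleton f.continuous (genericPoint X),
        show closure ({genericPoint X} : Set X) = Set.univ from genericPoint_spec X, Set.image_univ]
      exact f.denseRange.closure_range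
    exact (show IsGenericPoint (f (genericPoint X)) Set.univ from hd).eq (genericPoint_spec Y)
  haveI : LocallyOfFiniteType f := locallyOfFiniteType_of_comp f q
  obtain ⟨s₀, hs₀, hs₀c⟩ := GrothLib.Chev28.exists_closed_specialization (q (genericPoint Y))
  obtain ⟨t₀, s₁, a, b, -, -, -, hb, -, -⟩ := GrothLib.Altitude.dim_locQuot_add_trdeg (𝟙 S) hs₀
  have hb' : ∀ (σ : S), σ = q (genericPoint Y) → ∀ (s : S) (h : σ ⤳ s), IsClosed ({s} : Set S) →
      ringKrullDim (Cyc.LocQuot s σ h) = b := by
    rintro σ rfl s h hs
    exact (GrothLib.Chev28.dim_locQuot_const h2 h3 h hs₀ hs hs₀c).trans hb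
  obtain ⟨t, ht, hX⟩ := GrothLib.Chev28.dim_eq_of_irreducible h2 (f ≫ q) b
    (hb' _ (congrArg q hfgen))
  obtain ⟨u', hu, hY⟩ := GrothLib.Chev28.dim_eq_of_irreducible h2 q b (hb' _ rfl)
  obtain ⟨m, hm, hd⟩ := GrothLib.Chev28.exists_dim_closure_inter_fibre f (genericPoint X)
  rw [show closure ({genericPoint X} : Set X) = Set.univ from genericPoint_spec X, Set.univ_inter, hfgen] at hd
  have hfib : topologicalKrullDim ↥(f.fiber (genericPoint Y)) = topologicalKrullDim ↥(f ⁻¹' {genericPoint Y}) :=
    GrothLib.Dim.IsEmbedding.topologicalKrullDim_eq (f := f.fiberι (genericPoint Y))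
      (f.fiberι (genericPoint Y)).isEmbedding (f.range_fiberι _)
  rw [GrothLib.AlgSp.resTrdeg_comp, hfgen, hu, hm] at ht
  rw [hX, hY, hfib, hd]
  norm_cast at ht ⊢
  omega

end Groth.Agent.S3449
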