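import Groth.Statements.S3450
import Groth.Agent.Lib.AdicExtra.Local
import Groth.Agent.Lib.FibProp5.DvrMaps
-- import your own Groth.Agent.* helpers here

set_option autoImplicit false
universe u
open EGA43

namespace Groth.Agent.S3450

/-- Let A be a Noetherian local ring which is reduced, complete (for the topology defined by its maximal
ideal m) and not a field. Then for every n there are finitely many local homomorphisms φ_i : A → V_i
into discrete valuation rings, each making V_i a finite A-algebra, such that the intersection of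
their kernels is contained in mⁿ. (Equivalently: such finite intersections form a base of
neighbourhoods of 0 for the m-adic topology.) -/
theorem result (A : Type u) [CommRing A] [IsNoetherianRing A]
    [IsLocalRing A] [IsReduced A] [IsAdicComplete (IsLocalRing.maximalIdeal A) A] (hA : ¬ IsField A) (n : ℕ) :
    ∃ (k : ℕ) (V : Fin k → Type u) (_ : ∀ i, CommRing (V i)) (_ : ∀ i, IsDomain (V i))
      (_ : ∀ i, IsDiscreteValuationRing (V i)) (φ : ∀ i, A →+* V i),
      (∀ i, IsLocalHom (φ i) ∧ (φ i).Finite) ∧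
        ⨅ i, RingHom.ker (φ i) ≤ IsLocalRing.maximalIdeal A ^ n := by
  classical
  set m := IsLocalRing.maximalIdeal A
  let 𝓟 : Set (Ideal A) := {P | ∃ (V : Type u) (_ : CommRing V) (_ : IsDomain V) (_ : IsDiscreteValuationRing V)
    (φ : A →+* V), IsLocalHom φ ∧ φ.Finite ∧ RingHom.ker φ = P}
  have hsep : ∀ a : A, a ≠ 0 → ∃ P ∈ 𝓟, a ∉ P := by
    obtain ⟨c, hc, hc0⟩ : ∃ c ∈ m, c ≠ 0 := by
      by_contra! h
      exact hA (IsLocalRing.isField_iff_maximalIdeal_eq.2 (eq_bot_iff.2 fun c hc => by simpa using h c hc))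
    intro a ha
    by_cases ham : a ∈ m
    · obtain ⟨V, _, _, _, _, φ, h1, h2, h3⟩ := GrothLib.FibProp5.exists_dvr_map ham (fun h => ha h.eq_zero)
      exact ⟨RingHom.ker φ, ⟨V, inferInstance, inferInstance, inferInstance, φ, h1, h2, rfl⟩, h3⟩
    · obtain ⟨V, _, _, _, _, φ, h1, h2, -⟩ := GrothLib.FibProp5.exists_dvr_map hc (fun h => hc0 h.eq_zero)
      refine ⟨RingHom.ker φ, ⟨V, inferInstance, inferInstance, inferInstance, φ, h1, h2, rfl⟩, fun h => ?_⟩
      exact ((IsLocalRing.notMem_maximalIdeal.1 ham).map φ).ne_zero h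
  -- a sequence of finite intersections with smallest images modulo the powers of the maximal ideal
  have hmin : ∀ j : ℕ, ∃ S : Finset (Ideal A), ↑S ⊆ 𝓟 ∧ ∀ P ∈ 𝓟, S.inf id ≤ P ⊔ m ^ j := by
    intro j
    haveI : IsArtinianRing (A ⧸ m ^ j) := by
      rcases j with _ | j
      · haveI : Subsingleton (A ⧸ m ^ 0) := Ideal.Quotient.subsingleton_iff.2 (by simp)
        infer_instance
      · haveI : Nontrivial (A ⧸ m ^ (j + 1)) := Ideal.Quotient.nontrivial_iff.2
          (ne_top_of_le_ne_top (IsLocalRing.maximalIdeal.isMaximal A).ne_top (Ideal.pow_le_self j.succ_ne_zero))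
        haveI := IsLocalRing.of_surjective' (Ideal.Quotient.mk (m ^ (j + 1))) Ideal.Quotient.mk_surjective
        rw [isArtinianRing_iff_isNilpotent_maximalIdeal]
        refine ⟨j + 1, ?_⟩
        rw [← IsLocalRing.eq_maximalIdeal (Ideal.IsMaximal.map_of_surjective_of_ker_le
          (f := Ideal.Quotient.mk (m ^ (j + 1))) (m := m) Ideal.Quotient.mk_surjective
          (by rw [Ideal.mk_ker]; exact Ideal.pow_le_self j.succ_ne_zero)), ← Ideal.map_pow]
        exact Ideal.map_quotient_self _
    obtain ⟨J, ⟨S, hS, rfl⟩, hJ⟩ := IsArtinian.set_has_minimal (R := A ⧸ m ^ j) (M := A ⧸ m ^ j)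
      {J : Ideal (A ⧸ m ^ j) | ∃ S : Finset (Ideal A), ↑S ⊆ 𝓟 ∧ (S.inf id).map (Ideal.Quotient.mk (m ^ j)) = J}
      ⟨_, ∅, by simp, rfl⟩
    refine ⟨S, hS, fun P hP => ?_⟩
    have h1 : ((insert P S).inf id).map (Ideal.Quotient.mk (m ^ j)) = (S.inf id).map (Ideal.Quotient.mk (m ^ j)) := by
      refine ((Ideal.map_mono ?_).lt_or_eq).resolve_left fun h => hJ _ ⟨_, ?_, rfl⟩ h
      · rw [Finset.inf_insert]; exact inf_le_right
      · rw [Finset.coe_insert]; exact Set.insert_subset hP hS
    refine le_trans Ideal.le_comap_map (b := ((S.inf id).map (Ideal.Quotient.mk (m ^ j))).comap _) ?_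
    rw [← h1, Ideal.comap_map_of_surjective' _ Ideal.Quotient.mk_surjective, Ideal.mk_ker, Finset.inf_insert]
    exact sup_le_sup_right inf_le_left _
  choose S hS hSP using hmin
  let U : ℕ → Finset (Ideal A) := fun s => (Finset.range (s + 1)).biUnion S
  have hinf : ⨅ s, (U s).inf id = ⊥ := by
    refine eq_bot_iff.2 fun x hx => ?_
    rw [Submodule.mem_iInf] at hx
    by_contra hx0
    obtain ⟨P, hP, hxP⟩ := hsep x hx0
    refine hxP (Ideal.Quotient.eq_zero_iff_mem.1 ?_)
    refine IsHausdorff.haus (inferInstance : IsHausdorff m (A ⧸ P)) _ fun j => ?_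
    rw [SModEq.zero]
    have h1 : x ∈ P ⊔ m ^ j := hSP j P hP (SetLike.le_def.1 (Finset.inf_mono (f := id) (Finset.subset_biUnion_of_mem S
      (Finset.self_mem_range_succ j))) (hx j))
    obtain ⟨p, hp, z, hz, rfl⟩ := Submodule.mem_sup.1 h1
    rw [map_add, Ideal.Quotient.eq_zero_iff_mem.2 hp, zero_add,
      show Ideal.Quotient.mk P z = z • (1 : A ⧸ P) by rw [Algebra.smul_def, mul_one]; rfl]
    exact Submodule.smul_mem_smul hz Submodule.mem_top
  obtain ⟨s, hs⟩ := GrothLib.AdicExtra.exists_le_maximalIdeal_pow (fun s => (U s).inf id)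
    (fun a b h => Finset.inf_mono (Finset.biUnion_subset_biUnion_of_subset_left S (Finset.range_mono (by omega))))
    hinf n
  have hU : ∀ P ∈ U s, P ∈ 𝓟 := fun P hP => by
    obtain ⟨j, -, hj⟩ := Finset.mem_biUnion.1 hP
    exact hS j hj
  choose V i1 i2 i3 φ hloc hfin hker using fun i : Fin (U s).card => hU _ ((U s).equivFin.symm i).2
  refine ⟨(U s).card, V, i1, i2, i3, φ, fun i => ⟨hloc i, hfin i⟩, le_trans ?_ hs⟩
  refine Finset.le_inf fun P hP => ?_
  refine (iInf_le _ ((U s).equivFin ⟨P, hP⟩)).trans ?_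
  rw [hker, Equiv.symm_apply_apply]
  exact le_rfl

end Groth.Agent.S3450
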