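import Groth.Statements.S3456
import Groth.Agent.Lib.Chev28.DimFormula

set_option autoImplicit false
open CategoryTheory AlgebraicGeometry
universe u
open EGA43

namespace Groth.Agent.S3456

/-- Let Y be locally Noetherian, f : X ⟶ Y locally of finite type and x a point of X; let X_j run over
the (finitely many) irreducible components of X containing x. Then f is equidimensional at x if and
only if there is a natural number e such that for every X_j: the closure Y_j of f(X_j) is an
irreducible component of Y; for every point η of Y whose closure equals Y_j (i.e. the generic point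
of Y_j), the fibre X_j ∩ f⁻¹(η) has topological Krull dimension e; and the local dimension at x of
X_j ∩ f⁻¹(f x) is e. All subsets of X carry the induced topology. -/
theorem result {X Y : Scheme.{u}} [IsLocallyNoetherian Y] (f : X ⟶ Y)
    [LocallyOfFiniteType f] (x : X) :
    EGA43.IsEquidimAt f x ↔
      ∃ e : ℕ, ∀ Xj ∈ irreducibleComponents (X : Type u), ∀ hx : x ∈ Xj,
        closure (f.base '' Xj) ∈ irreducibleComponents (Y : Type u) ∧
        (∀ η : Y, closure ({η} : Set Y) = closure (f.base '' Xj) →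
          topologicalKrullDim ↥(Xj ∩ f.base ⁻¹' {η}) = e) ∧
        FlatMor.localDim ↥(Xj ∩ f.base ⁻¹' {f.base x}) ⟨x, ⟨hx, Set.mem_singleton (f.base x)⟩⟩ = e := by
  haveI := LocallyOfFiniteType.isLocallyNoetherian f
  constructor
  · intro h
    obtain ⟨n, hn, hcomp⟩ := GrothLib.Chev28.components_of_isEquidimAt f x h
    refine ⟨n, fun Xj hXj hx => ?_⟩
    obtain ⟨ξ, rfl⟩ : ∃ ξ : X, closure {ξ} = Xj :=
      ⟨_, (hXj.1.isGenericPoint_genericPoint (isClosed_of_mem_irreducibleComponents _ hXj)).def⟩
    have hξ : ξ ⤳ x := specializes_iff_mem_closure.mpr hx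
    obtain ⟨hη, hm⟩ := hcomp ξ hξ (GrothLib.Chev28.maximal_of_closure_mem hXj)
    have hc : closure (f.base '' closure {ξ}) = closure {f ξ} :=
      GrothLib.Chev28.closure_image_closure_singleton f.continuous ξ
    obtain ⟨m, hm', hd⟩ := GrothLib.Chev28.exists_dim_closure_inter_fibre f ξ
    refine ⟨hc.symm ▸ GrothLib.Equidim6.closure_mem_components hη, fun η hη' => ?_, ?_⟩
    · rw [hc] at hη'
      obtain rfl : η = f ξ := (show IsGenericPoint η (closure {f ξ}) from hη').eq isGenericPoint_closure
      exact hd.trans (by rw [show m = n by exact_mod_cast (hm'.symm.trans hm :)])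
    · obtain ⟨h1, h2, -⟩ := GrothLib.Chev28.component_dims f hξ hm ⟨hx, rfl⟩
      exact le_antisymm (h2.trans hn.le) h1
  · rintro ⟨e, he⟩
    have hcomp : ∀ ξ, ξ ⤳ x → (∀ z, z ⤳ ξ → z = ξ) →
        (∀ y', y' ⤳ f ξ → y' = f ξ) ∧ Dual3.resTrdeg f ξ = e := by
      intro ξ hξ hmax
      obtain ⟨hW, hdim, -⟩ := he _ (GrothLib.Equidim6.closure_mem_components hmax) hξ.mem_closure
      have hc : closure (f.base '' closure {ξ}) = closure {f ξ} :=
        GrothLib.Chev28.closure_image_closure_singleton f.continuous ξ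
      rw [hc] at hW hdim
      obtain ⟨m, hm', hd⟩ := GrothLib.Chev28.exists_dim_closure_inter_fibre f ξ
      refine ⟨GrothLib.Chev28.maximal_of_closure_mem hW, ?_⟩
      rw [hm', show m = e by exact_mod_cast hd.symm.trans (hdim (f ξ) rfl)]
    refine GrothLib.Chev28.isEquidimAt_of_components f x e ?_ hcomp
    obtain ⟨x₀, hx₀, hsp, hmax₀, hd₀⟩ := GrothLib.Equidim6.exists_fibre_maximal f x
    obtain ⟨ξ, hξ, hξmax⟩ := GrothLib.AffDom.exists_maximal_point x₀
    obtain ⟨Zs, ι, _, _, hrange, hgen⟩ := GrothLib.Chev28.exists_integral_closure ξ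
    obtain ⟨w, hw⟩ := hrange.ge (hξ.trans hsp).mem_closure
    obtain ⟨w₀, hw₀⟩ := hrange.ge hξ.mem_closure
    have hloc := (he _ (GrothLib.Equidim6.closure_mem_components hξmax) (hξ.trans hsp).mem_closure).2.2
    rw [GrothLib.Chev28.localDim_inter_fibre ι f hrange w x hw] at hloc
    rw [hd₀, ← hw₀, ← GrothLib.Equidim6.fibreDimAt_closedImmersion_eq ι f w₀
      (fun z hz hs => (hmax₀ z (by rw [hz, hw₀, hx₀]) (hw₀ ▸ hs)).trans hw₀.symm)]
    exact (ι.isEmbedding.isInducing.specializes_iff.mp (by rw [hw, hw₀]; exact hsp)).mem_open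
      (GrothLib.FibreDimAt6.isOpen_fibreDimAt_le (ι ≫ f) e) hloc.le

end Groth.Agent.S3456
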