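import Groth.Statements.S3459
import Groth.Agent.Lib.AdmComp5.Main
-- import your own Groth.Agent.* helpers here

set_option autoImplicit false
open CategoryTheory AlgebraicGeometry
universe u
open EGA43

namespace Groth.Agent.S3459

/-- Let Y be an irreducible locally Noetherian scheme with generic point η, f : X ⟶ Y locally of finite
type, x a point of X and y = f x. Suppose (1) x lies on exactly one irreducible component Z of the
fibre X_y, and (2) X_y is geometrically reduced at the generic point of Z. Call an irreducible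
component X' of X containing x admissible when the local dimension at x of X' ∩ f⁻¹(y) equals that
of f⁻¹(y) and the restriction of f to X' (with its reduced structure) is universally open at the
generic points of the irreducible components of X' ∩ f⁻¹(y) containing x. Then there is at most one
admissible X'; and if X' is admissible, the fibre X_η is geometrically reduced at the generic point
of X'. -/
theorem result {X Y : Scheme.{u}} [IrreducibleSpace Y]
    [IsLocallyNoetherian Y] (f : X ⟶ Y) [LocallyOfFiniteType f] (x : X)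
    (h1 : ∃! Zc : Set ↥(f.fiber (f.base x)), Zc ∈ irreducibleComponents (↥(f.fiber (f.base x)) : Type u) ∧ f.asFiber x ∈ Zc)
    (h2 : ∀ z : ↥(f.fiber (f.base x)), f.asFiber x ∈ closure {z} →
      (∀ z' : ↥(f.fiber (f.base x)), z ∈ closure {z'} → z' = z) →
      FBase.IsGeomReducedAt (f.fiberToSpecResidueField (f.base x)) z) :
    letI adm : TopologicalSpace.Closeds X → Prop := fun X' =>
      (X' : Set X) ∈ irreducibleComponents (X : Type u) ∧ ∃ hx : x ∈ X',
        FlatMor.localDim ↥((X' : Set X) ∩ f.base ⁻¹' {f.base x}) ⟨x, ⟨hx, Set.mem_singleton (f.base x)⟩⟩ =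
          FlatMor.fibreDimAt f x ∧
        ∀ w : ↥(Scheme.IdealSheafData.vanishingIdeal X').subscheme,
          f.base ((Scheme.IdealSheafData.vanishingIdeal X').subschemeι.base w) = f.base x →
          x ∈ closure {(Scheme.IdealSheafData.vanishingIdeal X').subschemeι.base w} →
          (∀ t : X, t ∈ (X' : Set X) → f.base t = f.base x →
              (Scheme.IdealSheafData.vanishingIdeal X').subschemeι.base w ∈ closure {t} →
              t = (Scheme.IdealSheafData.vanishingIdeal X').subschemeι.base w) →
          EGA43.IsUnivOpenAt ((Scheme.IdealSheafData.vanishingIdeal X').subschemeι ≫ f) w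
    {X' : TopologicalSpace.Closeds X | adm X'}.Subsingleton ∧
      ∀ X' : TopologicalSpace.Closeds X, adm X' →
        ∀ ζ : ↥(f.fiber (genericPoint Y)), closure {(f.fiberι (genericPoint Y)).base ζ} = (X' : Set X) →
          FBase.IsGeomReducedAt (f.fiberToSpecResidueField (genericPoint Y)) ζ := by
  have key : ∀ X' : TopologicalSpace.Closeds X, (X' : Set X) ∈ irreducibleComponents (X : Type u) →
      ∀ hx : x ∈ X',
        FlatMor.localDim ↥((X' : Set X) ∩ f.base ⁻¹' {f.base x}) ⟨x, ⟨hx, Set.mem_singleton (f.base x)⟩⟩ =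
          FlatMor.fibreDimAt f x →
        (∀ w : ↥(Scheme.IdealSheafData.vanishingIdeal X').subscheme,
          f.base ((Scheme.IdealSheafData.vanishingIdeal X').subschemeι.base w) = f.base x →
          x ∈ closure {(Scheme.IdealSheafData.vanishingIdeal X').subschemeι.base w} →
          (∀ t : X, t ∈ (X' : Set X) → f.base t = f.base x →
              (Scheme.IdealSheafData.vanishingIdeal X').subschemeι.base w ∈ closure {t} →
              t = (Scheme.IdealSheafData.vanishingIdeal X').subschemeι.base w) →
          EGA43.IsUnivOpenAt ((Scheme.IdealSheafData.vanishingIdeal X').subschemeι ≫ f) w) →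
        ∃ (η : f.fiber (f.base x)) (W : X.Opens), (f.asFiber x ∈ closure {η} ∧ ∀ t, t ⤳ η → t = η) ∧
          f.fiberι (f.base x) η ∈ W ∧ (W : Set X) ⊆ X' ∧ f.fiberι (f.base x) η ∈ (X' : Set X) ∧
          ∀ ξ : X, IsGenericPoint ξ (X' : Set X) → GrothLib.AdmComp5.GR f ξ := by
    intro X' hcomp hx hdim hopen
    obtain ⟨η, hη, hηmax, hηX⟩ := GrothLib.AdmComp5.exists_mem_maximal f X' x hx h1 hdim
    have hfz : f (f.fiberι (f.base x) η) = f.base x := (f.range_fiberι (f.base x)).le ⟨η, rfl⟩
    have hzx : f.fiberι (f.base x) η ⤳ x :=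
      (hη.map (f.fiberι _).continuous).trans (specializes_of_eq (f.fiberι_asFiber x))
    have hmax : ∀ t, t ⤳ f.fiberι (f.base x) η → f t = f (f.fiberι (f.base x) η) →
        t = f.fiberι (f.base x) η := fun t ht hft => by
      obtain ⟨s, rfl⟩ := (f.range_fiberι (f.base x)).ge (show t ∈ f ⁻¹' {f.base x} from hft.trans hfz)
      rw [hηmax s ((f.fiberι _).isEmbedding.isInducing.specializes_iff.mp ht)]
    have hred : GrothLib.AdmComp5.GR f (f.fiberι (f.base x) η) :=
      (GrothLib.AdmComp5.GR_iff f (f.base x) η _ rfl).1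
        (h2 η hη.mem_closure fun z' hz' => hηmax z' (specializes_iff_mem_closure.2 hz'))
    obtain ⟨W, hW, hWX, hgen⟩ := GrothLib.AdmComp5.exists_nhd_subset_and_GR f X' hcomp.1 _ hηX hmax hred
      fun w hw => hopen w (by rw [hw]; exact hfz) (by rw [hw]; exact hzx.mem_closure)
        fun t _ hft ht => by
          rw [hw] at ht ⊢
          exact hmax t (specializes_iff_mem_closure.2 ht) (hft.trans hfz.symm)
    refine ⟨η, W, ⟨hη.mem_closure, hηmax⟩, hW, hWX, hηX, fun ξ hξ => ?_⟩
    rwa [hξ.eq (hcomp.1.isGenericPoint_genericPoint X'.isClosed)]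
  constructor
  · rintro A ⟨hA, hxA, hdA, hoA⟩ B ⟨hB, hxB, hdB, hoB⟩
    obtain ⟨η₁, W, hη₁, hW, hWA, -, -⟩ := key A hA hxA hdA hoA
    obtain ⟨η₂, -, hη₂, -, -, hB₂, -⟩ := key B hB hxB hdB hoB
    have e := h1.unique
      ⟨GrothLib.Equidim6.closure_mem_components hη₁.2, hη₁.1⟩
      ⟨GrothLib.Equidim6.closure_mem_components hη₂.2, hη₂.1⟩
    have hη : η₁ = η₂ := (show IsGenericPoint η₁ (closure {η₁}) from rfl).eq
      (show IsGenericPoint η₂ (closure {η₁}) from e.symm)
    have hBA : (B : Set X) ⊆ A :=
      (subset_closure_inter_of_isPreirreducible_of_isOpen hB.1.2 W.2 ⟨_, hB₂, hη ▸ hW⟩).trans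
        (closure_minimal (Set.inter_subset_right.trans hWA) A.isClosed)
    exact TopologicalSpace.Closeds.ext (Set.Subset.antisymm (hB.2 hA.1 hBA) hBA)
  · rintro A ⟨hA, hxA, hdA, hoA⟩ ζ hζ
    obtain ⟨η, W, -, -, -, -, hgen⟩ := key A hA hxA hdA hoA
    exact (GrothLib.AdmComp5.GR_iff f (genericPoint Y) ζ _ rfl).2 (hgen _ hζ)

end Groth.Agent.S3459
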