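import Groth.Statements.S3460
import Groth.Agent.Lib.FibreDim5.ProperImm
-- import your own Groth.Agent.* helpers here

set_option autoImplicit false
open CategoryTheory AlgebraicGeometry
universe u
open EGA43

namespace Groth.Agent.S3460

/-- Let Y be locally Noetherian and f : X ⟶ Y of finite type. Then there exist a scheme Z, a proper
morphism g : X ⟶ Z and an immersion h : Z ⟶ Y with f = g ≫ h if and only if f is proper at every
point of f(X), i.e. every point of f(X) has an open neighbourhood U in Y over which the restriction
of f is proper. -/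
theorem result {X Y : Scheme.{u}} [IsLocallyNoetherian Y]
    (f : X ⟶ Y) [LocallyOfFiniteType f] [QuasiCompact f] :
    (∃ (Z : Scheme.{u}) (g : X ⟶ Z) (h : Z ⟶ Y), IsProper g ∧ IsImmersion h ∧ g ≫ h = f) ↔
      ∀ x : X, ∃ U : Y.Opens, f.base x ∈ U ∧ IsProper (f ∣_ U) := by
  exact GrothLib.ProperImm.exists_proper_immersion_iff f

end Groth.Agent.S3460
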