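import Groth.Statements.S3468
import Groth.Agent.Lib.SmoothConn.Smooth
-- import your own Groth.Agent.* helpers here

set_option autoImplicit false
universe u
open CategoryTheory CategoryTheory.Limits AlgebraicGeometry Opposite
open EtBC

namespace Groth.Agent.S3468

/-- Let X' = X ×_Y Y' be a cartesian square of schemes with f : X → Y quasi-compact and quasi-separated
and g : Y' → Y smooth, projections f' : X' → Y' and g' : X' → X. Then for every sheaf of sets F on
the small etale site of X the base change morphism g^* f_* F → f'_* g'^* F is an isomorphism. -/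
theorem result {X Y X' Y' : Scheme.{u}} (f : X ⟶ Y) (g : Y' ⟶ Y)
    (f' : X' ⟶ Y') (g' : X' ⟶ X) (h : IsPullback g' f' f g) [QuasiCompact f] [QuasiSeparated f] [Smooth g]
    (F : EtDesc.Sh X) : IsIso (EtBC.baseChange0Sh f g f' g' h.w F) := GrothLib.EtSec.isIso_baseChange0Sh_of_locConnected f g (GrothLib.SmoothConn.locConnected_of_smooth g) f' g' h F

end Groth.Agent.S3468
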