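import Groth.Statements.S3482
import Groth.Agent.Lib.FieldExtCd18.Step
-- import your own Groth.Agent.* helpers here

set_option autoImplicit false
universe u
open CategoryTheory CategoryTheory.Limits AlgebraicGeometry Opposite
open EtCd

namespace Groth.Agent.S3482

/-- Let k'/k be a finitely generated field extension of transcendence degree t and ℓ a prime. Then
cd_ℓ(k') ≤ cd_ℓ(k) + t: if the etale cohomology of every ℓ-primary torsion sheaf on Spec k vanishes
above degree d, the same holds on Spec k' above degree d + t. -/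
theorem result (k k' : Type u) [Field k] [Field k'] [Algebra k k']
    (hfg : ∃ s : Finset k', IntermediateField.adjoin k (s : Set k') = ⊤) (ℓ : ℕ) (hℓ : ℓ.Prime)
    (t : ℕ) (ht : Algebra.trdeg k k' = t) (d : ℕ) (hd : Dix.CohDimLEAt (Spec (CommRingCat.of k)) ℓ d) :
    Dix.CohDimLEAt (Spec (CommRingCat.of k')) ℓ (d + t) := by
  haveI : Fact ℓ.Prime := ⟨hℓ⟩
  intro F hF q hq
  have h := GrothLib.FieldExtCd18.killVan_trdeg ℓ t k k' ht.le d (GrothLib.DimFun18.killVan_of_cohDimLEAt hd)
  refine ⟨fun a b => ?_⟩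
  suffices hz : ∀ x : EtCoh.H _ F q, x = 0 from (hz a).trans (hz b).symm
  exact GrothLib.DimFun18.H_eq_zero_of_primary ℓ (E := Set.univ)
    (fun G hG _ y => @Subsingleton.elim _ (h G hG q hq) y 0) F hF
    (fun Ω _ _ ξ hξ => absurd (Set.mem_univ _) hξ)

end Groth.Agent.S3482
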