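import Groth.Statements.S3485
import Groth.Agent.Lib.DvrComplFEtlead.Field
import Groth.Agent.Lib.DvrComplFEtlead.Fet
import Groth.Agent.Lib.AdicExtra.Completion
-- import your own Groth.Agent.* helpers here

set_option autoImplicit false
universe u
open CategoryTheory CategoryTheory.Limits AlgebraicGeometry Opposite
open EtCd

namespace Groth.Agent.S3485

/-- Let R be a henselian discrete valuation ring with fraction field K, let R^ be its completion (adic
completion at the maximal ideal) and K^ the fraction field of R^. Then base change along Spec K^ →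
Spec K is an equivalence from the category of finite etale schemes over Spec K to that over Spec K^
(equivalently the absolute Galois groups agree). -/
theorem result (R K Khat : Type u) [CommRing R] [IsDomain R]
    [IsDiscreteValuationRing R] [HenselianLocalRing R] [Field K] [Algebra R K] [IsFractionRing R K]
    [Field Khat] [Algebra (AdicCompletion (IsLocalRing.maximalIdeal R) R) Khat]
    [IsFractionRing (AdicCompletion (IsLocalRing.maximalIdeal R) R) Khat]
    [Algebra R Khat] [IsScalarTower R (AdicCompletion (IsLocalRing.maximalIdeal R) R) Khat]
    [Algebra K Khat] [IsScalarTower R K Khat] :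
    (FEt.restrict (Spec.map (CommRingCat.ofHom (algebraMap K Khat)))).IsEquivalence := by
  obtain ⟨_, _⟩ := GrothLib.AdicExtra.exists_dvr_adicCompletion_iff.1
    (⟨inferInstance, inferInstance⟩ : ∃ _ : IsDomain R, IsDiscreteValuationRing R)
  have hmap := AdicCompletion.maximalIdeal_eq_map (R := R)
  have hres : ∀ r : AdicCompletion (IsLocalRing.maximalIdeal R) R, ∃ a : R,
      r - algebraMap R (AdicCompletion (IsLocalRing.maximalIdeal R) R) a ∈
        IsLocalRing.maximalIdeal (AdicCompletion (IsLocalRing.maximalIdeal R) R) := by
    intro r
    obtain ⟨y, hy⟩ := (AdicCompletion.residueField_map_bijective (R := R)).2 (IsLocalRing.residue _ r)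
    obtain ⟨a, rfl⟩ := IsLocalRing.residue_surjective y
    refine ⟨a, (IsLocalRing.residue_eq_zero_iff _).1 ?_⟩
    rw [map_sub, sub_eq_zero, ← hy]
    rfl
  exact GrothLib.DvrComplFEtlead.isEquivalence_of_isField K Khat
    (fun L _ _ _ _ => GrothLib.DvrComplFEtlead.isField_tensor R (AdicCompletion (IsLocalRing.maximalIdeal R) R) K Khat hmap hres L)
    (fun L' _ _ _ _ => GrothLib.DvrComplFEtlead.exists_descent R (AdicCompletion (IsLocalRing.maximalIdeal R) R) K Khat hmap hres L')

end Groth.Agent.S3485
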