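import Groth.Statements.S3494
import Groth.Agent.Lib.CdP18.Qc
-- import your own Groth.Agent.* helpers here

set_option autoImplicit false
universe u
open CategoryTheory CategoryTheory.Limits AlgebraicGeometry Opposite
open EtCd

namespace Groth.Agent.S3494

/-- Let p be a prime and X a Noetherian scheme of characteristic p (a scheme over Spec(Z/p)). Then
cd_p(X) ≤ cd_qc(X) + 1: if the Zariski cohomology of every quasi-coherent O_X-module vanishes above
degree d, then the etale cohomology of every p-primary torsion abelian sheaf on X vanishes above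
degree d + 1. -/
theorem result (p : ℕ) [Fact p.Prime] (X : Scheme.{u}) [IsNoetherian X]
    (a : X ⟶ Spec (CommRingCat.of (ULift.{u} (ZMod p)))) (d : ℕ)
    (hqc : ∀ M : X.Modules, Coh.IsQCoh M → ∀ q : ℕ, d < q → Subsingleton (Coh.HH X M q)) :
    Dix.CohDimLEAt X p (d + 1) := by
  have h0 : (p : Γ(X, ⊤)) = 0 := GrothLib.CdP18.natCast_eq_zero_of_hom a (by
    rw [← map_natCast (Scheme.ΓSpecIso (CommRingCat.of (ULift.{u} (ZMod p)))).inv.hom]
    rw [show ((p : ℕ) : CommRingCat.of (ULift.{u} (ZMod p))) = (0 : ULift.{u} (ZMod p)) from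
      ULift.ext _ _ (ZMod.natCast_self p)]
    exact map_zero _)
  exact GrothLib.CdP18.cohDimLEAt_of_key p (d + 1) fun q hq =>
    GrothLib.CdP18.key_qc p h0 d hqc q (by omega)

end Groth.Agent.S3494
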