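import Groth.Statements.S3501
-- import your own Groth.Agent.* helpers here
import Groth.Agent.Lib.PicLift26.Henselian

set_option autoImplicit false
universe u
open CategoryTheory CategoryTheory.Limits AlgebraicGeometry Opposite
open EtCd

set_option backward.isDefEq.respectTransparency false
set_option linter.style.haveILetI false

noncomputable section

open GrothLib

open CategoryTheory CategoryTheory.Limits AlgebraicGeometry

namespace Groth.Agent.S3501

/-- Let A be a Noetherian henselian local ring, f : X → Spec A a proper morphism all of whose fibres
have dimension at most 1, and i : X₀' → X a closed immersion whose image is exactly the closed fibre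
of f. Then Pic(X) → Pic(X₀') is surjective: every invertible module on X₀' is isomorphic to the
pullback of an invertible module on X. -/
theorem result (A : Type u) [CommRing A] [IsNoetherianRing A]
    [HenselianLocalRing A] (X : Scheme.{u}) (f : X ⟶ Spec (CommRingCat.of A)) [IsProper f]
    (hrel : ∀ s : Spec (CommRingCat.of A),
      topologicalKrullDim ↥(pullback f ((Spec (CommRingCat.of A)).fromSpecResidueField s)) ≤ 1)
    (X₀' : Scheme.{u}) (i : X₀' ⟶ X) [IsClosedImmersion i]
    (hi : Set.range i.base = f.base ⁻¹' {IsLocalRing.closedPoint A})
    (c : PicF.Cl X₀') (hc : PicF.IsInvertibleCl c) :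
    ∃ d : PicF.Cl X, PicF.IsInvertibleCl d ∧ PicF.pullCl i d = c := by
  haveI : IsLocallyNoetherian X := LocallyOfFiniteType.isLocallyNoetherian f
  haveI : CompactSpace ↥X := QuasiCompact.compactSpace_of_compactSpace f
  haveI : AlgebraicGeometry.IsNoetherian X := ⟨⟩
  have hr : Set.range i.base = Set.range (f.fiberι (IsLocalRing.closedPoint A)).base := by
    rw [Scheme.Hom.range_fiberι]; exact hi
  have ha : topologicalKrullDim ↥X₀' ≤ 1 := by
    let e := i.isEmbedding.toHomeomorph.trans ((Homeomorph.setCongr hr).trans
      (f.fiberι (IsLocalRing.closedPoint A)).isEmbedding.toHomeomorph.symm)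
    exact (e.isInducing.topologicalKrullDim_le).trans (hrel _)
  refine GrothLib.PicLift26.exists_pullCl_eq i ha (fun Y hY _ hYc => ?_) c hc
  rw [hi]
  exact GrothLib.PicLift26.isConnected_inter_fibre f Y hY hYc

end Groth.Agent.S3501
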