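import Groth.Statements.S3503
import Groth.Agent.Lib.CompPull13.Detect
import Groth.Agent.Lib.BCDHom13.Et

set_option autoImplicit false
universe u
open CategoryTheory CategoryTheory.Limits AlgebraicGeometry Opposite
attribute [local instance] HasDerivedCategory.standard
open EtBC

namespace Groth.Agent.S3503

open CategoryTheory.Abelian

theorem step {A B : Scheme.{u}} (h : B ⟶ A) [PreservesFiniteLimits (EtCoh.pull h)]
    {S : ShortComplex (EtCoh.Ab A)} (hS : S.ShortExact) (i : ℕ)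
    (hG : Subsingleton (EtCoh.H A S.X₂ (i + 1)))
    (hG' : Function.Surjective (EtCore.Hpull h S.X₂ i))
    (hQ : Function.Bijective (EtCore.Hpull h S.X₃ i)) :
    Function.Injective (EtCore.Hpull h S.X₁ (i + 1)) ∧
      (Subsingleton (EtCoh.H B ((EtCoh.pull h).obj S.X₂) (i + 1)) →
        Function.Surjective (EtCore.Hpull h S.X₁ (i + 1))) := by
  have hS' := hS.map_of_exact (EtCoh.pull h)
  refine ⟨(injective_iff_map_eq_zero _).2 fun x hx => ?_, fun hB ξ => ?_⟩
  · obtain ⟨y, rfl⟩ := Ext.covariant_sequence_exact₁ _ hS x (@Subsingleton.elim _ hG _ _) rfl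
    rw [GrothLib.EtDer.Hpull_extClass] at hx
    obtain ⟨z, hz⟩ := Ext.covariant_sequence_exact₃ _ hS' (EtCore.Hpull h S.X₃ i y) rfl hx
    obtain ⟨z', rfl⟩ := hG' z
    have : y = Ext.comp z' (Ext.mk₀ S.g) (add_zero i) :=
      hQ.1 (hz.symm.trans (GrothLib.EtDer.Hpull_mk₀ h S.g i z').symm)
    rw [this, Ext.comp_assoc_of_second_deg_zero, hS.comp_extClass, Ext.comp_zero]
  · obtain ⟨w, rfl⟩ := Ext.covariant_sequence_exact₁ _ hS' ξ (@Subsingleton.elim _ hB _ _) rfl
    obtain ⟨y, rfl⟩ := hQ.2 w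
    exact ⟨Ext.comp y hS.extClass rfl, GrothLib.EtDer.Hpull_extClass h hS i y⟩

theorem bijective_zero {X Y Xb Yb : Scheme.{u}} (h : Y ⟶ X) (p : Xb ⟶ X) (hb : Yb ⟶ Xb) (pY : Yb ⟶ Y)
    (w : hb ≫ p = pY ≫ h) [PreservesFiniteLimits (EtCoh.pull h)] [PreservesFiniteLimits (EtCoh.pull hb)]
    (F : EtCoh.Ab Xb) (hbc : IsIso (EtCoh.baseChange0 p h pY hb w F))
    (hH : Function.Bijective (EtCore.Hpull hb F 0)) :
    Function.Bijective (EtCore.Hpull h ((EtCoh.push p).obj F) 0) := by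
  haveI := GrothLib.AcyN18.pushAdd h
  haveI := GrothLib.AcyN18.pushAdd hb
  haveI := hbc
  let u := (EtCoh.pullPushAdj hb).unit.app F
  let θ := EtCoh.baseChange0 p h pY hb w F
  let σ := (EtCoh.pushComp p hb).hom.app ((EtCoh.pull hb).obj F) ≫ (EtCoh.pushCongr w).hom.app _ ≫
    (EtCoh.pushComp h pY).inv.app _
  have e : (EtCoh.push p).map u ≫ σ = (EtCoh.pullPushAdj h).unit.app _ ≫ (EtCoh.push h).map θ :=
    (((EtCoh.pullPushAdj h).homEquiv _ _).apply_symm_apply _).symm.trans (Adjunction.homEquiv_unit _ _ _ _)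
  apply GrothLib.EtDer.Hpull_zero_bijective
  rw [← ConcreteCategory.isIso_iff_bijective]
  haveI : IsIso ((EtCore.gsec Xb).map u) :=
    (ConcreteCategory.isIso_iff_bijective _).2 (GrothLib.AcyN18.bijective_unit_top hb _ hH)
  haveI : IsIso ((EtCore.gsec X).map ((EtCoh.push p).map u)) :=
    (NatIso.isIso_map_iff (EtCore.pushGsecIso p) u).2 ‹_›
  haveI : IsIso σ := inferInstance
  haveI hu : IsIso ((EtCore.gsec X).map ((EtCoh.pullPushAdj h).unit.app ((EtCoh.push p).obj F)) ≫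
      (EtCore.gsec X).map ((EtCoh.push h).map θ)) := by
    rw [← Functor.map_comp, ← e, Functor.map_comp]; infer_instance
  exact (isIso_comp_right_iff _ ((EtCore.gsec X).map ((EtCoh.push h).map θ))).1 hu

theorem eq_of_comp_mono {A : Scheme.{u}} {F G : EtCoh.Ab A} (u : F ⟶ G) [Mono u] (x y : EtCoh.H A F 0)
    (e : Ext.comp x (Ext.mk₀ u) (add_zero 0) = Ext.comp y (Ext.mk₀ u) (add_zero 0)) : x = y := by
  obtain ⟨a, rfl⟩ := (Ext.mk₀_bijective _ _).2 x
  obtain ⟨b, rfl⟩ := (Ext.mk₀_bijective _ _).2 y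
  rw [Ext.mk₀_comp_mk₀, Ext.mk₀_comp_mk₀] at e
  rw [(cancel_mono u).1 ((Ext.mk₀_bijective _ _).1 e)]

/-- Let h : Y → X be a morphism of quasi-compact quasi-separated schemes, p : X̄ → X a surjective
morphism, Ȳ = Y ×_X X̄ with projections h̄ : Ȳ → X̄ and p_Y : Ȳ → Y, L a set of primes and n ≥ 1.
Consider, for a morphism u, the comparison condition: for every abelian L-torsion sheaf on the
target of u, pullback along u is bijective on cohomology in degrees ≤ n and injective in degree n +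
1. Suppose that h̄ satisfies this condition, and that for every abelian L-torsion sheaf F̄ on X̄ the
base change maps h⁻¹ R^i p_* F̄ → R^i p_{Y*} h̄⁻¹ F̄ are isomorphisms for i ≤ n - 1 and a
monomorphism for i = n (stated on the cohomology sheaves of the derived base change morphism). Then
h satisfies the comparison condition as well. -/
theorem result {X Y Xb Yb : Scheme.{u}}
    [CompactSpace X] [QuasiSeparatedSpace X] [CompactSpace Y] [QuasiSeparatedSpace Y]
    (h : Y ⟶ X) (p : Xb ⟶ X) (hb : Yb ⟶ Xb) (pY : Yb ⟶ Y)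
    (sq : IsPullback hb pY p h) (hp : Function.Surjective p.base) (L : Set ℕ) (n : ℕ) (hn : 1 ≤ n)
    (hhb : EtAcyc.CompN hb L n)
    [PreservesFiniteLimits (EtCoh.pull h)] [PreservesFiniteLimits (EtCoh.pull hb)]
    [DCoh.HasRpushEt Xb p] [DCoh.HasRpushEt Yb pY] [DCoh.HasRpushEt Y h]
    (adj : EtBC.pullD h ⊣ DCoh.RpushEt Y h)
    (hbc : ∀ Fb : EtCoh.Ab Xb, EtAcyc.IsLTorsion L Fb →
      (∀ i : ℤ, i ≤ (n : ℤ) - 1 → IsIso ((DerivedCategory.homologyFunctor (EtCoh.Ab Y) i).map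
        (EtBC.bcMap p h pY hb sq.w adj (EtBC.single Xb Fb)))) ∧
      Mono ((DerivedCategory.homologyFunctor (EtCoh.Ab Y) (n : ℤ)).map
        (EtBC.bcMap p h pY hb sq.w adj (EtBC.single Xb Fb)))) :
    EtAcyc.CompN h L n := by
  haveI := fun {A B : Scheme.{u}} (f : A ⟶ B) => GrothLib.EtSite.pull_preservesFiniteLimits f
  haveI : Surjective p := ⟨hp⟩
  haveI := GrothLib.AcyN18.pushAdd pY
  haveI : (EtCoh.push p).PreservesMonomorphisms :=
    haveI := (EtCoh.pullPushAdj p).isRightAdjoint; inferInstance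
  haveI : (EtCoh.pull h).PreservesMonomorphisms := preservesMonomorphisms_of_preservesLimitsOfShape _
  refine GrothLib.CompPull13.compN_of_killed h L n fun m hm => ?_
  have hT : ∀ {Z : Scheme.{u}} (G : EtCoh.Ab Z), EtCoh.KilledBy m G → EtAcyc.IsLTorsion L G :=
    fun {Z} G hG U s x => ⟨U, 𝟙 U, m, ⟨x, rfl⟩, hm, (congrArg (m • ·) (by simp)).trans (hG U s)⟩
  have hθ : ∀ G : EtCoh.Ab Xb, EtCoh.KilledBy m G → IsIso (EtCoh.baseChange0 p h pY hb sq.w G) :=
    fun G hG => GrothLib.BCDHom13.isIso_baseChange0 p h pY hb sq.w adj G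
      ((hbc G (hT G hG)).1 0 (by omega))
  -- every killed sheaf embeds into a good one
  have hemb : ∀ F : EtCoh.Ab X, EtCoh.KilledBy m F → ∃ (G : EtCoh.Ab Xb) (v : F ⟶ (EtCoh.push p).obj G),
      Mono v ∧ EtCoh.KilledBy m G ∧ (∀ k : ℕ, 1 ≤ k → Subsingleton (EtCoh.H X ((EtCoh.push p).obj G) k)) ∧
      Function.Bijective (EtCore.Hpull h ((EtCoh.push p).obj G) 0) ∧
      (∀ k : ℕ, 1 ≤ k → k ≤ n → Subsingleton (EtCoh.H Y ((EtCoh.pull h).obj ((EtCoh.push p).obj G)) k)) := by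
    intro F hF
    obtain ⟨G, ι, _, hG, hXb, hpush⟩ :=
      GrothLib.CompPull13.exists_efface_H ((EtCoh.pull p).obj F) (GrothLib.KPi18.killedBy_pull p hF)
    haveI := GrothLib.EtDer.mono_unit_of_surjective p F
    haveI := hθ G hG
    refine ⟨G, (EtCoh.pullPushAdj p).unit.app F ≫ (EtCoh.push p).map ι, mono_comp _ _, hG, (hpush p).2,
      bijective_zero h p hb pY sq.w G inferInstance ((hhb G (hT G hG)).1 0 n.zero_le), fun k hk hkn => ?_⟩
    obtain ⟨j, rfl⟩ : ∃ j, k = j + 1 := ⟨k - 1, by omega⟩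
    have hR : ∀ r : ℕ, r < j → IsZero (((EtCoh.push pY).rightDerived (r + 1)).obj ((EtCoh.pull hb).obj G)) :=
      fun r hr => GrothLib.BCDHom13.isZero_Rpush p h pY hb sq.w adj G (r + 1)
        ((hbc G (hT G hG)).1 ((r + 1 : ℕ) : ℤ) (by omega)) ((hpush p).1 (r + 1) r.succ_pos)
    haveI := hXb (j + 1) j.succ_pos
    haveI : Subsingleton (EtCoh.H Yb ((EtCoh.pull hb).obj G) (j + 1)) :=
      ((hhb G (hT G hG)).1 _ hkn).2.subsingleton
    haveI : Subsingleton (Ext.{u + 1} ((EtCoh.pull pY).obj (EtCoh.const Y ℤ)) ((EtCoh.pull hb).obj G) (j + 1)) :=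
      (GrothLib.AcyN18.bijective_preMk₀ (EtCore.pullConst pY ℤ) (j + 1)).2.subsingleton
    haveI : Subsingleton (Ext.{u + 1} (EtCoh.const Y ℤ) ((EtCoh.push pY).obj ((EtCoh.pull hb).obj G)) (j + 1)) :=
      (GrothLib.AcyN18.adjMap_range (EtCoh.pullPushAdj pY) _ j _ hR).2.subsingleton
    exact (GrothLib.EtDer.bijective_comp_mk₀ (asIso (EtCoh.baseChange0 p h pY hb sq.w G)) (j + 1)).1.subsingleton
  have inj0 : ∀ F : EtCoh.Ab X, EtCoh.KilledBy m F → Function.Injective (EtCore.Hpull h F 0) := by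
    intro F hF
    obtain ⟨G, v, _, -, -, h0, -⟩ := hemb F hF
    intro x y e
    refine eq_of_comp_mono v x y (h0.1 ?_)
    rw [GrothLib.EtDer.Hpull_mk₀, GrothLib.EtDer.Hpull_mk₀, e]
  have surj0 : ∀ F : EtCoh.Ab X, EtCoh.KilledBy m F → Function.Surjective (EtCore.Hpull h F 0) := by
    intro F hF ξ
    obtain ⟨G, v, _, hG, -, h0, -⟩ := hemb F hF
    have hS : (ShortComplex.mk v (cokernel.π v) (cokernel.condition _)).ShortExact :=
      { exact := ShortComplex.exact_of_g_is_cokernel _ (cokernelIsCokernel _) }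
    obtain ⟨x, hx⟩ := h0.2 (Ext.comp ξ (Ext.mk₀ ((EtCoh.pull h).map v)) (add_zero 0))
    have hg : Ext.comp x (Ext.mk₀ (cokernel.π v)) (add_zero 0) = 0 := by
      apply inj0 _ (GrothLib.BCQLES.killedBy_of_epi (cokernel.π v) (GrothLib.KPi18.killedBy_push p hG))
      rw [GrothLib.EtDer.Hpull_mk₀, hx, Ext.comp_assoc_of_second_deg_zero, Ext.mk₀_comp_mk₀,
        ← Functor.map_comp, cokernel.condition, Functor.map_zero, Ext.mk₀_zero, Ext.comp_zero, map_zero]
    obtain ⟨x', rfl⟩ := Ext.covariant_sequence_exact₂ _ hS x hg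
    exact ⟨x', eq_of_comp_mono ((EtCoh.pull h).map v) _ _ ((GrothLib.EtDer.Hpull_mk₀ h v 0 x').symm.trans hx)⟩
  have main : ∀ i : ℕ, i ≤ n → ∀ F : EtCoh.Ab X, EtCoh.KilledBy m F → Function.Bijective (EtCore.Hpull h F i) := by
    intro i
    induction i with
    | zero => exact fun _ F hF => ⟨inj0 F hF, surj0 F hF⟩
    | succ i ih =>
      intro hi F hF
      obtain ⟨G, v, _, hG, hX, -, hY⟩ := hemb F hF
      have hP := GrothLib.KPi18.killedBy_push p hG
      have hS : (ShortComplex.mk v (cokernel.π v) (cokernel.condition _)).ShortExact :=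
        { exact := ShortComplex.exact_of_g_is_cokernel _ (cokernelIsCokernel _) }
      have hst := step h hS i (hX _ i.succ_pos) (ih (by omega) _ hP).2
        (ih (by omega) _ (GrothLib.BCQLES.killedBy_of_epi (cokernel.π v) hP))
      exact ⟨hst.1, hst.2 (hY _ i.succ_pos hi)⟩
  intro F hF
  refine ⟨fun i hi => main i hi F hF, ?_⟩
  obtain ⟨G, v, _, hG, hX, -, -⟩ := hemb F hF
  have hP := GrothLib.KPi18.killedBy_push p hG
  have hS : (ShortComplex.mk v (cokernel.π v) (cokernel.condition _)).ShortExact :=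
    { exact := ShortComplex.exact_of_g_is_cokernel _ (cokernelIsCokernel _) }
  exact (step h hS n (hX _ n.succ_pos) (main n le_rfl _ hP).2
    (main n le_rfl _ (GrothLib.BCQLES.killedBy_of_epi (cokernel.π v) hP))).1

end Groth.Agent.S3503
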