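import Groth.Statements.S3508
import Groth.Agent.Lib.ConstrCpt.Killed
-- import your own Groth.Agent.* helpers here

set_option autoImplicit false
universe u
open CategoryTheory CategoryTheory.Limits AlgebraicGeometry Opposite
open EtCd

namespace Groth.Agent.S3508

/-- Let X be a quasi-compact and quasi-separated scheme. An abelian sheaf F on the small etale site of X
is constructible if and only if it is isomorphic to the cokernel of a morphism ⨁_j j_{V_j !} Z/m_j →
⨁_i j_{U_i !} Z/n_i for finite families of affine etale X-schemes U_i, V_j (the source first states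
it with quasi-compact quasi-separated objects and then notes that U_i, V_j may even be taken affine)
and positive integers n_i, m_j (j_! the extension by zero of the constant sheaf). -/
theorem result (X : Scheme.{u}) [CompactSpace X] [QuasiSeparatedSpace X]
    (F : EtCoh.Ab X) :
    EtPBC.IsConstructible F ↔
      ∃ (a b : ℕ) (U : Fin a → X.Etale) (V : Fin b → X.Etale) (n : Fin a → ℕ) (m : Fin b → ℕ),
        (∀ i, 0 < n i ∧ IsAffine (U i).left) ∧ (∀ j, 0 < m j ∧ IsAffine (V j).left) ∧
        ∃ φ : (⨁ fun j => EtPBC.extZeroConst (V j) (ZMod (m j))) ⟶ (⨁ fun i => EtPBC.extZeroConst (U i) (ZMod (n i))),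
          Nonempty (F ≅ cokernel φ) := GrothLib.ConstrCpt.constructible_iff_cokernel F

end Groth.Agent.S3508
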