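import Groth.Statements.S3517
import Groth.Agent.Lib.EtSite.SetPoints
import Groth.Agent.Lib.EtSec.Basic
import Mathlib.CategoryTheory.Sites.LeftExact
-- import your own Groth.Agent.* helpers here

set_option autoImplicit false
universe u
open CategoryTheory CategoryTheory.Limits AlgebraicGeometry Opposite
open EtBC

namespace Groth.Agent.S3517

/-- morphisms into the terminal object are unique -/
lemma hom_bcTop_ext {X Y : Scheme.{u}} (f : X ⟶ Y) {U : X.Etale} (a b : U ⟶ (EtCoh.bc f).obj (EtCoh.top Y)) :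
    a = b :=
  (EtCore.bcTopIsTerminal f).hom_ext a b

set_option backward.isDefEq.respectTransparency.types false in
theorem sq_eq {X Y Xb Yb : Scheme.{u}} (h : Y ⟶ X) (p : Xb ⟶ X) (hb : Yb ⟶ Xb) (pY : Yb ⟶ Y)
    (w : hb ≫ p = pY ≫ h) (Fb : EtDesc.Sh Xb) (s : EtDesc.sect ((EtDesc.pushSh p).obj Fb) (EtCoh.top X)) :
    (EtBC.baseChange0Sh p h pY hb w Fb).hom.app (op (EtCoh.top Y))
        (EtDesc.secPull h ((EtDesc.pushSh p).obj Fb) s) =
      ((EtDesc.pullSh hb).obj Fb).obj.map (EtCore.bcTopIso pY).hom.op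
        (EtDesc.secPull hb Fb (Fb.obj.map (EtCore.bcTopIso p).inv.op s)) := by
  set φ := EtBC.baseChange0Sh p h pY hb w Fb with hφ
  have hu : (EtDesc.adjSh h).unit.app ((EtDesc.pushSh p).obj Fb) ≫ (EtDesc.pushSh h).map φ =
      (EtDesc.pushSh p).map ((EtDesc.adjSh hb).unit.app Fb) ≫ (EtDesc.pushCompSh p hb).hom.app _ ≫
        (EtBC.pushCongrSh w).hom.app _ ≫ (EtDesc.pushCompSh h pY).inv.app _ := by
    exact ((EtDesc.adjSh h).homEquiv_unit _ _ φ).symm.trans (Equiv.apply_symm_apply _ _)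
  have hs := congrArg (fun t => t.hom.app (op (EtCoh.top X)) s) hu
  dsimp only [EtDesc.secPull]
  simp only [EtDesc.pushCompSh, EtBC.pushCongrSh] at hs
  erw [NatTrans.naturality_apply φ.hom]
  erw [hs]
  erw [NatTrans.naturality_apply ((EtDesc.adjSh hb).unit.app Fb).hom]
  show ((EtDesc.pullSh hb).obj Fb).obj.map _ (((EtDesc.pullSh hb).obj Fb).obj.map _
      (((EtDesc.pullSh hb).obj Fb).obj.map _ (((EtDesc.pullSh hb).obj Fb).obj.map _ _))) =
    ((EtDesc.pullSh hb).obj Fb).obj.map _ (((EtDesc.pullSh hb).obj Fb).obj.map _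
      (((EtDesc.pullSh hb).obj Fb).obj.map _ _))
  simp only [← CategoryTheory.Functor.map_comp_apply]
  refine congrFun (congrArg DFunLike.coe (congrArg ConcreteCategory.hom (congrArg _ ?_))) _
  apply Quiver.Hom.unop_inj
  exact (IsTerminal.isTerminalObj (EtCoh.bc hb) _ (EtCore.bcTopIsTerminal p)).hom_ext _ _

set_option backward.isDefEq.respectTransparency.types false in
theorem sq_key {X Y Xb Yb : Scheme.{u}} (h : Y ⟶ X) (p : Xb ⟶ X) (hb : Yb ⟶ Xb) (pY : Yb ⟶ Y)
    (w : hb ≫ p = pY ≫ h) (Fb : EtDesc.Sh Xb) :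
    (Function.Injective (EtDesc.secPull h ((EtDesc.pushSh p).obj Fb)) →
      Function.Injective ((EtBC.baseChange0Sh p h pY hb w Fb).hom.app (op (EtCoh.top Y))) →
        Function.Injective (EtDesc.secPull hb Fb)) ∧
    (Function.Bijective (EtDesc.secPull h ((EtDesc.pushSh p).obj Fb)) →
      Function.Bijective ((EtBC.baseChange0Sh p h pY hb w Fb).hom.app (op (EtCoh.top Y))) →
        Function.Bijective (EtDesc.secPull hb Fb)) := by
  let e₁ := (Fb.obj.mapIso (EtCore.bcTopIso p).op).toEquiv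
  let e₂ := (((EtDesc.pullSh hb).obj Fb).obj.mapIso (EtCore.bcTopIso pY).op).toEquiv
  have key : ∀ t, (EtBC.baseChange0Sh p h pY hb w Fb).hom.app (op (EtCoh.top Y))
      (EtDesc.secPull h ((EtDesc.pushSh p).obj Fb) (e₁ t)) = e₂ (EtDesc.secPull hb Fb t) := by
    intro t
    refine (sq_eq h p hb pY w Fb _).trans ?_
    have := e₁.symm_apply_apply t
    exact congrArg (fun z => e₂ (EtDesc.secPull hb Fb z)) this
  refine ⟨fun i1 i2 a b hab => e₁.injective (i1 (i2 ?_)), fun b1 b2 => ?_⟩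
  · exact (key a).trans ((congrArg e₂ hab).trans (key b).symm)
  · have hc : EtDesc.secPull hb Fb = e₂.symm ∘ (EtBC.baseChange0Sh p h pY hb w Fb).hom.app (op (EtCoh.top Y)) ∘
        EtDesc.secPull h ((EtDesc.pushSh p).obj Fb) ∘ e₁ := by
      funext t
      simp only [Function.comp_apply, key, Equiv.symm_apply_apply]
    rw [hc]
    exact e₂.symm.bijective.comp (b2.comp (b1.comp e₁.bijective))

/-- The adjunction unit along a surjective morphism is a monomorphism. -/
theorem mono_unit_of_surjective {X Xb : Scheme.{u}} (p : Xb ⟶ X) (hp : Function.Surjective p.base)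
    (F : EtDesc.Sh X) : Mono ((EtDesc.adjSh p).unit.app F) := by
  refine GrothLib.EtSite.mono_of_stalksSh _ fun x => ?_
  obtain ⟨xb, rfl⟩ := hp x
  obtain ⟨Ω, _, _, ξ, hξ⟩ := GrothLib.EtSec.Secs.exists_point xb
  refine ⟨Ω, inferInstance, inferInstance, ξ ≫ p, by rw [← hξ]; rfl, ?_⟩
  haveI : IsSplitMono ((EtDesc.pullSh p).map ((EtDesc.adjSh p).unit.app F)) :=
    IsSplitMono.mk' ⟨(EtDesc.adjSh p).counit.app _, (EtDesc.adjSh p).left_triangle_components F⟩
  haveI : Mono ((EtDesc.pullSh p ⋙ GrothLib.EtSite.stalkSh ξ).map ((EtDesc.adjSh p).unit.app F)) := by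
    rw [Functor.comp_map]; infer_instance
  haveI : Mono ((GrothLib.EtSite.stalkSh (ξ ≫ p)).map ((EtDesc.adjSh p).unit.app F)) := by
    have := (GrothLib.EtSite.pullStalkShIso ξ p).hom.naturality ((EtDesc.adjSh p).unit.app F)
    rw [← IsIso.inv_comp_eq] at this
    rw [← this]
    infer_instance
  exact (mono_iff_injective _).1 inferInstance

/-- Components of monomorphisms of sheaves are injective. -/
theorem app_injective {Z : Scheme.{u}} {A B : EtDesc.Sh Z} (m : A ⟶ B) [Mono m] (W : (Z.Etale)ᵒᵖ) :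
    Function.Injective (m.hom.app W) := by
  have h1 : Mono ((sheafToPresheaf _ _).map m) := inferInstance
  exact (mono_iff_injective _).mp ((NatTrans.mono_iff_mono_app _).mp h1 W)

/-- Pullback of sections is natural in the sheaf. -/
theorem secPull_map {X Y : Scheme.{u}} (f : Y ⟶ X) {F G : EtDesc.Sh X} (a : F ⟶ G)
    (s : EtDesc.sect F (EtCoh.top X)) :
    EtDesc.secPull f G (a.hom.app (op (EtCoh.top X)) s) =
      ((EtDesc.pullSh f).map a).hom.app (op (EtCoh.top Y)) (EtDesc.secPull f F s) := by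
  have e := congrArg (fun m => m.hom.app (op (EtCoh.top X)) s) ((EtDesc.adjSh f).unit.naturality a)
  dsimp only [EtDesc.secPull]
  rw [NatTrans.naturality_apply ((EtDesc.pullSh f).map a).hom]
  exact congrArg (((EtDesc.pullSh f).obj G).obj.map _) e




/-- Let h : Y → X and p : X̄ → X be morphisms of schemes with p surjective, Ȳ = Y ×_X X̄ with
projections h̄ : Ȳ → X̄ and p_Y : Ȳ → Y. If for every sheaf of sets F̄ on X̄ the pullback map on
global sections Γ(X̄, F̄) → Γ(Ȳ, h̄^* F̄) is injective, then for every sheaf of sets F on X the map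
Γ(X, F) → Γ(Y, h^* F) is injective. If those maps for h̄ are bijective and moreover the base change
morphism h^* p_* F̄ → p_{Y*} h̄^* F̄ is a monomorphism for every sheaf of sets F̄ on X̄, then the
maps Γ(X, F) → Γ(Y, h^* F) are bijective. -/
theorem result {X Y Xb Yb : Scheme.{u}} (h : Y ⟶ X) (p : Xb ⟶ X)
    (hb : Yb ⟶ Xb) (pY : Yb ⟶ Y) (sq : IsPullback hb pY p h) (hp : Function.Surjective p.base) :
    ((∀ Fb : EtDesc.Sh Xb, Function.Injective (EtDesc.secPull hb Fb)) →
      ∀ F : EtDesc.Sh X, Function.Injective (EtDesc.secPull h F)) ∧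
    ((∀ Fb : EtDesc.Sh Xb, Function.Bijective (EtDesc.secPull hb Fb)) →
      (∀ Fb : EtDesc.Sh Xb, Mono (EtBC.baseChange0Sh p h pY hb sq.w Fb)) →
      ∀ F : EtDesc.Sh X, Function.Bijective (EtDesc.secPull h F)) := by
  have key := fun Fb => sq_eq h p hb pY sq.w Fb
  have e : ∀ (Fb : EtDesc.Sh Xb), (∀ t, (EtBC.baseChange0Sh p h pY hb sq.w Fb).hom.app (op (EtCoh.top Y))
      (EtDesc.secPull h ((EtDesc.pushSh p).obj Fb) ((Fb.obj.mapIso (EtCore.bcTopIso p).op).toEquiv t)) =
      (((EtDesc.pullSh hb).obj Fb).obj.mapIso (EtCore.bcTopIso pY).op).toEquiv (EtDesc.secPull hb Fb t)) := by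
    intro Fb t
    refine (key Fb _).trans ?_
    have := (Fb.obj.mapIso (EtCore.bcTopIso p).op).toEquiv.symm_apply_apply t
    exact congrArg (fun z => (((EtDesc.pullSh hb).obj Fb).obj.mapIso (EtCore.bcTopIso pY).op).toEquiv
      (EtDesc.secPull hb Fb z)) this
  have inj : (∀ Fb : EtDesc.Sh Xb, Function.Injective (EtDesc.secPull hb Fb)) →
      ∀ F : EtDesc.Sh X, Function.Injective (EtDesc.secPull h F) := by
    intro hI F s t hst
    haveI := mono_unit_of_surjective p hp F
    apply app_injective ((EtDesc.adjSh p).unit.app F) (op (EtCoh.top X))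
    let Fb := (EtDesc.pullSh p).obj F
    let e₁ := (Fb.obj.mapIso (EtCore.bcTopIso p).op).toEquiv
    obtain ⟨a, ha⟩ := e₁.surjective (((EtDesc.adjSh p).unit.app F).hom.app (op (EtCoh.top X)) s)
    obtain ⟨b, hb'⟩ := e₁.surjective (((EtDesc.adjSh p).unit.app F).hom.app (op (EtCoh.top X)) t)
    have hh : EtDesc.secPull h ((EtDesc.pushSh p).obj Fb) (e₁ a) =
        EtDesc.secPull h ((EtDesc.pushSh p).obj Fb) (e₁ b) := by
      refine (congrArg (EtDesc.secPull h ((EtDesc.pushSh p).obj Fb)) ha).trans ?_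
      refine Eq.trans ?_ (congrArg (EtDesc.secPull h ((EtDesc.pushSh p).obj Fb)) hb').symm
      exact (secPull_map h _ s).trans ((congrArg _ hst).trans (secPull_map h _ t).symm)
    have := congrArg (fun z => (EtBC.baseChange0Sh p h pY hb sq.w Fb).hom.app (op (EtCoh.top Y)) z) hh
    rw [e Fb, e Fb] at this
    rw [← ha, ← hb', hI Fb (Equiv.injective _ this)]
  refine ⟨inj, fun hB hM F => ⟨inj (fun Fb => (hB Fb).1) F, fun σ => ?_⟩⟩
  haveI := mono_unit_of_surjective p hp F
  let η := (EtDesc.adjSh p).unit.app F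
  let Fb := (EtDesc.pullSh p).obj F
  let G := (EtDesc.pushSh p).obj Fb
  let φ := EtBC.baseChange0Sh p h pY hb sq.w Fb
  haveI : Mono φ := hM Fb
  obtain ⟨τb, hτb⟩ := (hB Fb).2 ((((EtDesc.pullSh hb).obj Fb).obj.mapIso (EtCore.bcTopIso pY).op).toEquiv.symm
    (φ.hom.app (op (EtCoh.top Y)) (((EtDesc.pullSh h).map η).hom.app (op (EtCoh.top Y)) σ)))
  let τ : EtDesc.sect G (EtCoh.top X) := (Fb.obj.mapIso (EtCore.bcTopIso p).op).toEquiv τb
  have hτ : EtDesc.secPull h G τ = ((EtDesc.pullSh h).map η).hom.app (op (EtCoh.top Y)) σ := by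
    apply app_injective φ (op (EtCoh.top Y))
    refine (e Fb τb).trans ?_
    rw [hτb, Equiv.apply_symm_apply]
  haveI : HasPushout η η := Adhesive.hasPushout_of_mono_left η η
  have hpo := IsPushout.of_hasPushout η η
  have hi : (pushout.inl η η).hom.app (op (EtCoh.top X)) τ = (pushout.inr η η).hom.app (op (EtCoh.top X)) τ := by
    apply inj (fun Fb => (hB Fb).1) (pushout η η)
    refine (secPull_map h (pushout.inl η η) τ).trans (Eq.trans ?_ (secPull_map h (pushout.inr η η) τ).symm)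
    refine (congrArg _ hτ).trans (Eq.trans ?_ (congrArg _ hτ).symm)
    exact congrArg (fun m => m.hom.app (op (EtCoh.top Y)) σ)
      (((EtDesc.pullSh h).map_comp η (pushout.inl η η)).symm.trans
        ((congrArg (EtDesc.pullSh h).map pushout.condition).trans ((EtDesc.pullSh h).map_comp η (pushout.inr η η))))
  have hpb := (Adhesive.isPullback_of_isPushout_of_mono_left hpo).map
    (sheafToPresheaf _ _ ⋙ (evaluation _ _).obj (op (EtCoh.top X)))
  obtain ⟨t, ht, -⟩ := Types.exists_of_isPullback hpb τ τ hi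
  refine ⟨t, ?_⟩
  haveI : Mono ((EtDesc.pullSh h).map η) := GrothLib.EtSite.mono_of_stalksSh _ fun y => by
    obtain ⟨Ω, _, _, ξ, hξ⟩ := GrothLib.EtSec.Secs.exists_point y
    refine ⟨Ω, inferInstance, inferInstance, ξ, hξ, ?_⟩
    haveI : Mono ((EtDesc.pullSh h ⋙ GrothLib.EtSite.stalkSh ξ).map η) := by
      have := (GrothLib.EtSite.pullStalkShIso ξ h).hom.naturality η
      rw [← IsIso.eq_comp_inv] at this
      rw [this]
      infer_instance
    exact (mono_iff_injective _).1 ‹_›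
  apply app_injective ((EtDesc.pullSh h).map η) (op (EtCoh.top Y))
  exact (secPull_map h η t).symm.trans ((congrArg (EtDesc.secPull h G) ht).trans hτ)

end Groth.Agent.S3517
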