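import Groth.Statements.S3520
import Groth.Agent.Lib.CdOne18.Br
-- import your own Groth.Agent.* helpers here

set_option autoImplicit false
universe u
open CategoryTheory CategoryTheory.Limits AlgebraicGeometry Opposite
open EtCd

namespace Groth.Agent.S3520

/-- Let X be a Noetherian scheme of dimension at most 1 and ℓ a prime invertible on X such that
cd_ℓ(κ(x)) ≤ 1 for every maximal point x of X (so the ring of rational functions has ℓ-cohomological
dimension ≤ 1), and assume the residue field of every closed point is separably closed. Then H^i(X,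
G_m) has no ℓ-primary torsion for i ≥ 2. (In the published statement the subscript ℓ on these groups
means 'no ℓ-torsion', and the result is stated in that sense: every element of H^i(X, G_m), i ≥ 2,
killed by a power of ℓ is zero.) -/
theorem result (X : Scheme.{u}) [IsNoetherian X] (hdim : topologicalKrullDim X ≤ 1)
    (ℓ : ℕ) (hℓ : ℓ.Prime) (hinv : Dix.InvertibleOn X ℓ)
    (hcd : ∀ x : X, closure {x} ∈ irreducibleComponents (X : Type u) → Dix.CohDimLEAt (Spec (X.residueField x)) ℓ 1)
    (hcl : ∀ x : X, IsClosed ({x} : Set X) → IsSepClosed (X.residueField x))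
    (i : ℕ) (hi : 2 ≤ i) (ξ : EtCoh.H X (EtCoh.Gm X) i) (hξ : ∃ k : ℕ, ℓ ^ k • ξ = 0) : ξ = 0 := by
  obtain ⟨v, hv⟩ := hξ
  refine GrothLib.CdOne18.primary_H_Gm_eq_zero hdim hcl (ℓ ^ v) (fun x => ?_) (fun x => ?_) i hi ξ hv
  · rw [Nat.cast_pow]
    exact pow_ne_zero _ (hinv x)
  · exact GrothLib.CdOne18.killZero_of_cohDimLEAt
      (hcd x.1 (GrothLib.CdOne18.mem_components_of_max x.2)) v

end Groth.Agent.S3520
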