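import Groth.Statements.S3532
import Mathlib.CategoryTheory.CofilteredSystem
-- import your own Groth.Agent.* helpers here

set_option autoImplicit false
universe u
open HomAlg3

namespace Groth.Agent.S3532
open CategoryTheory Opposite


open CategoryTheory in
/-- Category of abelian groups, system indexed by the natural numbers: Let (A_k)_{k ≥ 0} be an inverse
system of abelian groups. For p ≤ k write Im_k(A_p) for the image of A_k → A_p, and K_p for the
kernel of A_p → A_{p-1} (K_0 = A_0). Then (A_k) satisfies the Mittag-Leffler condition (for each p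
the subgroups Im_k(A_p) are eventually constant in k) if and only if for each p the subgroups
Im_k(A_p) ∩ K_p are eventually constant in k. -/
theorem result (F : ℕᵒᵖ ⥤ AddCommGrpCat.{u}) :
    (F ⋙ forget AddCommGrpCat).IsMittagLeffler ↔
      ((∃ k₀ : ℕ, ∀ (k : ℕ) (hk : k₀ ≤ k),
          (F.map (homOfLE (Nat.zero_le k)).op).hom.range = (F.map (homOfLE (Nat.zero_le k₀)).op).hom.range) ∧
        ∀ p : ℕ, ∃ k₀ : ℕ, ∃ h₀ : p + 1 ≤ k₀, ∀ (k : ℕ) (hk : k₀ ≤ k),
          (F.map (homOfLE (h₀.trans hk)).op).hom.range ⊓ (F.map (homOfLE (Nat.le_succ p)).op).hom.ker =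
            (F.map (homOfLE h₀).op).hom.range ⊓ (F.map (homOfLE (Nat.le_succ p)).op).hom.ker) := by
  let r : ∀ {a b : ℕ}, a ≤ b → (F.obj (op b) →+ F.obj (op a)) := fun h => (F.map (homOfLE h).op).hom
  have hr : ∀ {a b c : ℕ} (h : a ≤ b) (h' : b ≤ c) (x), r h (r h' x) = r (h.trans h') x := fun h h' x => by
    change F.map _ (F.map _ x) = F.map _ x
    rw [← ConcreteCategory.comp_apply, ← F.map_comp]
    rfl
  have anti : ∀ {a b c : ℕ} (h : a ≤ b) (h' : b ≤ c), (r (h.trans h')).range ≤ (r h).range := by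
    rintro a b c h h' _ ⟨y, rfl⟩
    exact ⟨r h' y, hr h h' y⟩
  have hML : (F ⋙ forget AddCommGrpCat).IsMittagLeffler ↔ ∀ p : ℕ, ∃ (k₀ : ℕ) (h₀ : p ≤ k₀),
      ∀ (k : ℕ) (hk : k₀ ≤ k), (r (h₀.trans hk)).range = (r h₀).range := by
    refine ⟨fun h p => ?_, fun h j => ?_⟩
    · obtain ⟨i, f, hf⟩ := h (op p)
      refine ⟨i.unop, f.unop.le, fun k hk => le_antisymm (anti _ hk) ?_⟩
      rintro _ ⟨y, rfl⟩
      obtain ⟨z, hz⟩ := hf (homOfLE (f.unop.le.trans hk)).op ⟨y, rfl⟩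
      exact ⟨z, hz⟩
    · obtain ⟨k₀, h₀, hk₀⟩ := h j.unop
      refine ⟨op k₀, (homOfLE h₀).op, fun l g => ?_⟩
      rintro _ ⟨y, rfl⟩
      have h1 : r h₀ y ∈ (r (h₀.trans (le_max_left k₀ l.unop))).range := by
        rw [hk₀ _ (le_max_left _ _)]; exact ⟨y, rfl⟩
      obtain ⟨z, hz⟩ := anti g.unop.le (le_max_right k₀ l.unop) h1
      exact ⟨z, hz⟩
  rw [hML]
  refine ⟨fun h => ⟨?_, fun p => ?_⟩, fun ⟨h0, hp⟩ p => ?_⟩
  · obtain ⟨k₀, _, hk⟩ := h 0
    exact ⟨k₀, hk⟩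
  · obtain ⟨k₀, h₀, hk⟩ := h (p + 1)
    exact ⟨k₀, h₀, fun k hk' => congrArg (· ⊓ _) (hk k hk')⟩
  · induction p with
    | zero =>
      obtain ⟨k₀, hk⟩ := h0
      exact ⟨k₀, Nat.zero_le _, hk⟩
    | succ p ih =>
      obtain ⟨k₁, h₁, hk₁⟩ := ih
      obtain ⟨k₀, h₀, hk₀⟩ := hp p
      refine ⟨max k₀ k₁, h₀.trans (le_max_left _ _), fun k hk => le_antisymm (anti _ hk) ?_⟩
      rintro _ ⟨a, rfl⟩
      set x := r (h₀.trans (le_max_left k₀ k₁)) a with hx
      have h2 : r (Nat.le_succ p) x ∈ (r (h₁.trans ((le_max_right k₀ k₁).trans hk))).range := by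
        rw [hk₁ k ((le_max_right k₀ k₁).trans hk)]
        exact anti h₁ (le_max_right k₀ k₁) ⟨a, (hr _ _ a).symm⟩
      obtain ⟨y, hy⟩ := h2
      have h3 : x - r (h₀.trans ((le_max_left k₀ k₁).trans hk)) y ∈
          (r h₀).range ⊓ (r (Nat.le_succ p)).ker := by
        refine ⟨(r h₀).range.sub_mem (anti h₀ (le_max_left k₀ k₁) ⟨a, rfl⟩)
          (anti h₀ ((le_max_left k₀ k₁).trans hk) ⟨y, rfl⟩), ?_⟩
        change r (Nat.le_succ p) (x - _) = 0
        rw [map_sub, ← hy, hr, sub_self]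
      rw [← hk₀ k ((le_max_left k₀ k₁).trans hk)] at h3
      obtain ⟨z, hz⟩ := h3.1
      exact ⟨z + y, by rw [map_add]; exact (congrArg (· + _) hz).trans (sub_add_cancel _ _)⟩

end Groth.Agent.S3532
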