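import Groth.Statements.S3533
import Groth.Agent.Lib.TorCoh22.Main

set_option autoImplicit false
universe u
attribute [local instance] HasDerivedCategory.standard
open HTor

namespace Groth.Agent.S3533

open CategoryTheory CategoryTheory.Limits AlgebraicGeometry in
/-- Let f : X ⟶ S be a flat morphism with X locally Noetherian, g : Y ⟶ S a morphism, and suppose Z = X
×_S Y is locally Noetherian. As X is flat over S, the local hypertor sheaves Tor_n^S(F, G) on Z are
taken to be the cohomology sheaves in degree −n of L pr₁^* F ⊗^L pr₂^* G, where pr₂^* G is the plain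
pullback of G viewed as a complex in degree 0 and the derived pullback L pr₁^* and the derived
tensor product are taken under their existence binders; the statement is made in that form. Then for
F a coherent O_X-module and G a coherent O_Y-module, every cohomology sheaf of L pr₁^* F ⊗^L pr₂^* G
is a coherent O_Z-module. -/
theorem result (X Y S : Scheme.{u}) (f : X ⟶ S) (g : Y ⟶ S) [Flat f]
    [IsLocallyNoetherian X] [IsLocallyNoetherian (pullback f g)] (F : X.Modules) (G : Y.Modules)
    (hF : Coh.IsCoh F) (hG : Coh.IsCoh G) [DCoh.HasLpull (pullback.fst f g)]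
    [DCoh.HasLTensorCx ((HTor.pullCx (pullback.snd f g)).obj
      ((HomologicalComplex.single Y.Modules (ComplexShape.up ℤ) 0).obj G))] (n : ℤ) :
    Coh.IsCoh (DCoh.HD ((DCoh.LTensorCx ((HTor.pullCx (pullback.snd f g)).obj
      ((HomologicalComplex.single Y.Modules (ComplexShape.up ℤ) 0).obj G))).obj
        ((DCoh.Lpull (pullback.fst f g)).obj (DCoh.inD X F))) n) := by
  let P := (HomologicalComplex.single X.Modules (ComplexShape.up ℤ) 0).obj F
  let Q := (HomologicalComplex.single Y.Modules (ComplexShape.up ℤ) 0).obj G
  haveI := GrothLib.TorCoh22.isLE_toD P (b := 0)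
    (fun i hi => HomologicalComplex.isZero_single_obj_X _ _ _ _ (by omega))
  have hs : ∀ {Z : Scheme.{u}} (M : Z.Modules), Coh.IsCoh M →
      DCoh.IsCohD (DCoh.toD Z ((HomologicalComplex.single Z.Modules (ComplexShape.up ℤ) 0).obj M)) := by
    intro Z M hM i
    by_cases hi : i = 0
    · subst hi
      exact GrothLib.QCoh.isCoh_of_iso (((DerivedCategory.homologyFunctorFactors _ 0).app _) ≪≫
        HomologicalComplex.singleObjHomologySelfIso _ 0 M).symm hM
    · exact GrothLib.OX.isCoh_of_isZero (IsZero.of_iso (HomologicalComplex.isZero_single_obj_homology _ 0 M i hi)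
        ((DerivedCategory.homologyFunctorFactors _ i).app _))
  exact GrothLib.QCoh.isCoh_of_iso ((DerivedCategory.homologyFunctor _ n).mapIso
      ((DCoh.LTensorCx _).mapIso ((DCoh.Lpull (pullback.fst f g)).mapIso
        ((DerivedCategory.singleFunctorIsoCompQ X.Modules 0).symm.app F))))
    (GrothLib.TorCoh22.isCohD_localTor f g P Q 0 0
      (fun i hi => HomologicalComplex.isZero_single_obj_X _ _ _ _ (by omega)) (hs F hF) (hs G hG) n)

end Groth.Agent.S3533
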