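import Groth.Statements.S3539
import Groth.Agent.Lib.HTor22.Sequence

set_option autoImplicit false
universe u
attribute [local instance] HasDerivedCategory.standard
open HTor

namespace Groth.Agent.S3539

open CategoryTheory CategoryTheory.Limits in
/-- Convergence of the Künneth spectral sequence, stated through the finite filtration it induces and
its bottom edge, in cochain indexing. Let L and M be complexes of A-modules vanishing in large
degrees, every term of L flat. Then for every n the module H^n(L ⊗ M) carries an increasing sequence
of submodules F_0 ≤ F_1 ≤ … with F_N everything for some N, such that F_0 is the image of the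
Künneth map ⊕_{i+j=n} H^i(L) ⊗ H^j(M) → H^n(L ⊗ M) and every quotient F_{p+1}/F_p is isomorphic to a
subquotient of T_{p+1} = ⊕_{i+j−p−1=n} Tor_{p+1}^A(H^i(L), H^j(M)). (The spectral sequence itself is
not expressed. The published statement is stronger: its graded pieces are the E_∞ terms, whereas
here they are only subquotients of the Tor sums.) -/
theorem result (A : Type u) [CommRing A] (L M : DRing.Cx A)
    (hL : DRing.TermwiseFlat L) (bL : ∃ b : ℤ, DRing.VanishesAbove L b)
    (bM : ∃ b : ℤ, DRing.VanishesAbove M b) (n : ℤ) :
    ∃ (N : ℕ) (F : ℕ → Submodule A ((HTor.tensorCx L M).homology n))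
      (Φ : HTor.KunnethSum L M n →ₗ[A] (HTor.tensorCx L M).homology n),
      HTor.IsKunnethMap L M n Φ ∧ F 0 = LinearMap.range Φ ∧ Monotone F ∧ F N = ⊤ ∧
        ∀ p : ℕ, HTor.IsSubquotient A (HTor.grSucc F p) (HTor.TorSum L M n (p + 1)) := by
  obtain ⟨N, F, h0, hmono, hN, hgr⟩ := GrothLib.HTor22.exists_filtration M hL bL bM n
  exact ⟨N, F, GrothLib.HTor22.kunneth L M n, GrothLib.HTor22.isKunnethMap_kunneth L M n, h0, hmono, hN, hgr⟩

end Groth.Agent.S3539
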