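import Groth.Statements.S3540
import Groth.Agent.Lib.CechTot19.Cech
import Mathlib.Algebra.Homology.DerivedCategory.DerivabilityStructureInjectives

set_option autoImplicit false
set_option backward.isDefEq.respectTransparency false
set_option backward.isDefEq.respectTransparency.types false
universe u
open CechTot

namespace Groth.Agent.S3540

open CategoryTheory CategoryTheory.Limits TopologicalSpace in
/-- For abelian sheaves and a complex bounded below (the biregular case), stated through the finite
filtration the spectral sequence induces on its abutment and its edge (the source's graded pieces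
are the E∞ terms, which is stronger). Let U = (U_i) be an open cover of X and K a complex of abelian
sheaves with K^i = 0 for i < a. For q ∈ ℤ let h^q(K) be the presheaf V ↦ H^q(V, K) of
hypercohomology groups and Ȟ^p(U, h^q(K)) its Čech cohomology for the cover. Then for every n the
group H^n(X, K) carries a decreasing sequence of subgroups G_0 ≥ G_1 ≥ … with G_0 everything, G_1
the kernel of the restriction map H^n(X, K) → ∏_i H^n(U_i, K), and G_N = 0 for some N, such that
every quotient G_p/G_{p+1} is isomorphic to a subquotient of Ȟ^p(U, h^{n-p}(K)). -/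
theorem result {X : TopCat.{u}}
    [HasDerivedCategory.{u} (CohTop.Ab X)] {ι : Type u} (U : ι → Opens X) (hcov : iSup U = ⊤)
    (K : CochainComplex (CohTop.Ab X) ℤ) (a : ℤ) (ha : ∀ i : ℤ, i < a → IsZero (K.X i)) (n : ℤ) :
    ∃ (N : ℕ) (G : ℕ → Submodule ℤ (CohCx.HDU (DerivedCategory.Q.obj K) n (⊤ : Opens X))),
      Antitone G ∧ G 0 = ⊤ ∧ G N = ⊥ ∧
      G 1 = ⨅ i, AddSubgroup.toIntSubmodule
        (CohCx.HDUres (DerivedCategory.Q.obj K) n (homOfLE le_top : U i ⟶ (⊤ : Opens X))).ker ∧
      ∀ p : ℕ, HTor.IsSubquotient ℤ (HTor.grDesc G p)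
        (CohB1.cechHTop U (CohCx.HDUPresheaf (DerivedCategory.Q.obj K) (n - p)) p) := by
  open GrothLib.CechTot19 in
  have : K.IsStrictlyGE a := (CochainComplex.isStrictlyGE_iff K a).2 ha
  obtain ⟨I, i, hi, hI, hIge⟩ :=
    CochainComplex.Plus.modelCategoryQuillen.exists_quasiIso_injective K a
  have : I.IsKInjective := CochainComplex.isKInjective_of_injective I a
  have : IsIso (DerivedCategory.Q.map i) :=
    (DerivedCategory.isIso_Q_map_iff_quasiIso _ i).2 inferInstance
  let e : DerivedCategory.Q.obj I ≅ DerivedCategory.Q.obj K := (asIso (DerivedCategory.Q.map i)).symm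
  have hz : ∀ (p : ℕ) (q : ℤ), q < a → ∀ x : (col U I p).X q, x = 0 := by
    intro p q hq x
    refine GrothLib.Cech.extS (𝟭 (Opens X)) U fun b => ?_
    have h0 : 𝟙 (I.X q) = 0 := (CochainComplex.isZero_of_isStrictlyGE I a q hq).eq_of_src _ _
    refine (ConcreteCategory.congr_hom
      (congrArg (fun φ : I.X q ⟶ I.X q => φ.hom.app (Opposite.op (GrothLib.Cech.obj U b))) h0)
      (GrothLib.Cech.evS (𝟭 (Opens X)) U (I.X q) b x)).trans ?_
    exact (map_zero _).symm
  obtain ⟨N, G, hanti, h0, hN, h1, hgr⟩ := exists_filtration (f := hor U I) (ε := eps U I) hz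
    (hor_hor U I) (eps_hor U I) (hor_exact U I) (eps_exact U I hcov) (eps_injective U I hcov)
    (toHDU e n (⊤ : Opens X)) (toHDU_surjective e n _) (toHDU_eq_zero_iff e n _)
    (fun p q => ↑(CohB1.cechHTop U (CohCx.HDUPresheaf (DerivedCategory.Q.obj K) q) p))
    (toE U I e) (toE_zero U I e) (toE_succ U I e)
  refine ⟨N, G, hanti, h0, hN, ?_, hgr⟩
  ext h
  obtain ⟨s, rfl⟩ := toHDU_surjective e n (⊤ : Opens X) h
  rw [Submodule.mem_iInf]
  exact (h1 s).trans (res_iff U I e n s)

end Groth.Agent.S3540
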