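import Groth.Statements.S3541
import Groth.Agent.Lib.BCAcyc22.Main
import Groth.Agent.Lib.BCAcyc22.ProjTrunc

set_option autoImplicit false
universe u
attribute [local instance] HasDerivedCategory.standard
open HTor

namespace Groth.Agent.S3541

open CategoryTheory CategoryTheory.Limits AlgebraicGeometry in
/-- Let A be a ring all of whose modules have projective dimension ≤ d, X a scheme with a quasi-compact
separated morphism f : X → Spec A, covered by N + 1 affine opens, and P a complex of quasi-coherent
O_X-modules with P^k = 0 unless a ≤ k ≤ b. Then RΓ(X, P) ∈ D(A) is represented by a complex L of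
projective A-modules with L^k = 0 unless a - d ≤ k ≤ b + N. (The published statement gives a
canonical isomorphism, in a more general relative setting with several factors; here only one factor
over the base Spec A is treated and only the existence of an isomorphism in D(A) is asserted.) -/
theorem result (A : Type u) [CommRing A] (d : ℕ)
    (hA : ∀ M : ModuleCat.{u} A, HasProjectiveDimensionLT M (d + 1)) (X : Scheme.{u})
    (f : X ⟶ Spec (CommRingCat.of A)) [QuasiCompact f] [IsSeparated f] [HTor.HasRΓA f]
    (N : ℕ) (U : Fin (N + 1) → X.Opens) (hU : ∀ i, IsAffineOpen (U i)) (hcov : ⨆ i, U i = ⊤)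
    (P : CochainComplex X.Modules ℤ) (hq : ∀ i : ℤ, Coh.IsQCoh (P.X i)) (a b : ℤ)
    (hab : ∀ i : ℤ, i < a ∨ b < i → IsZero (P.X i)) :
    ∃ L : DRing.Cx A, (∀ i : ℤ, Module.Projective A (L.X i)) ∧ DRing.VanishesOutside L (a - d) (b + N) ∧
      HTor.Computes f L (DCoh.toD X P) := by
  obtain ⟨L', ⟨e⟩, hlo, hhi⟩ := GrothLib.BCAcyc22.exists_computes f N U hU hcov P hq
  have hb' := hhi b fun i hi => hab i (Or.inr hi)
  obtain ⟨L, u, hL, hz, hu⟩ := GrothLib.BCAcyc22.exists_free_resolution L' (b + N + 1) (fun i hi => hb' i (by omega))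
  haveI := hu
  have hproj : ∀ i, Projective (L.X i) := fun i => by
    haveI := hL i
    haveI : Module.Projective A (L.X i) := Module.Projective.of_free
    exact (IsProjective.iff_projective (R := A) (L.X i)).1 inferInstance
  have ha : ∀ i, i < a → L.ExactAt i := fun i hi => by
    rw [HomologicalComplex.exactAt_iff_isZero_homology]
    exact IsZero.of_iso ((HomologicalComplex.exactAt_iff_isZero_homology _ _).1
      (HomologicalComplex.ExactAt.of_isZero (hlo a (fun j hj => hab j (Or.inl hj)) i hi)))
      (asIso (HomologicalComplex.homologyMap u i))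
  obtain ⟨M, hM, hMz, ⟨eM⟩⟩ := GrothLib.BCAcyc22.exists_projective_truncation L hproj d hA a (b + N) ha
    (fun i hi => hz i (by omega))
  refine ⟨M, fun i => ?_, hMz, ⟨eM ≪≫ asIso (DerivedCategory.Q.map u) ≪≫ e⟩⟩
  haveI := hM i
  exact (IsProjective.iff_projective (R := A) (M.X i)).2 (hM i)

end Groth.Agent.S3541
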