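import Groth.Statements.S3544
import Mathlib.Algebra.Homology.ShortComplex.ModuleCat
import Mathlib.RingTheory.Length

set_option autoImplicit false
universe u
open HomAlg3

namespace GrothLib.SSEuler

open CategoryTheory CategoryTheory.Limits

variable {A : Type u} [Ring A]

lemma length_homology (S : ShortComplex (ModuleCat.{u} A)) :
    Module.length A S.X₂ = Module.length A (LinearMap.range S.f.hom) + Module.length A S.homology +
      Module.length A (LinearMap.range S.g.hom) := by
  have h1 : Module.length A S.X₂ = Module.length A (LinearMap.ker S.g.hom) +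
      Module.length A (LinearMap.range S.g.hom) :=
    Module.length_eq_add_of_exact (LinearMap.ker S.g.hom).subtype S.g.hom.rangeRestrict
      Subtype.val_injective S.g.hom.surjective_rangeRestrict
      (LinearMap.exact_iff.2 (by rw [LinearMap.ker_rangeRestrict, Submodule.range_subtype]))
  have h2 : Module.length A (LinearMap.ker S.g.hom) =
      Module.length A (LinearMap.range S.moduleCatToCycles) + Module.length A S.homology := by
    have e : Module.length A S.homology =
        Module.length A ((LinearMap.ker S.g.hom) ⧸ LinearMap.range S.moduleCatToCycles) :=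
      (S.moduleCatHomologyIso.toLinearEquiv :
        S.homology ≃ₗ[A] ((LinearMap.ker S.g.hom) ⧸ LinearMap.range S.moduleCatToCycles)).length_eq
    rw [e]
    exact Module.length_eq_add_of_exact (LinearMap.range S.moduleCatToCycles).subtype
      (LinearMap.range S.moduleCatToCycles).mkQ Subtype.val_injective (Submodule.mkQ_surjective _)
      (LinearMap.exact_iff.2 (by rw [Submodule.ker_mkQ, Submodule.range_subtype]))
  have h3 : (LinearMap.range S.moduleCatToCycles).map (LinearMap.ker S.g.hom).subtype =
      LinearMap.range S.f.hom := by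
    rw [← LinearMap.range_comp]
    rfl
  rw [h1, h2, ((LinearMap.range S.moduleCatToCycles).equivMapOfInjective _
    (Submodule.subtype_injective _)).length_eq, h3]

lemma length_zero_of_isZero {M : ModuleCat.{u} A} (h : IsZero M) : Module.length A M = 0 :=
  haveI := ModuleCat.subsingleton_of_isZero h
  Module.length_eq_zero

end GrothLib.SSEuler

namespace Groth.Agent.S3544

open CategoryTheory CategoryTheory.Limits in
/-- Let E be a cohomological spectral sequence of modules over a ring A, starting at page 2, such that
the E₂ terms have finite length and only finitely many of them (all inside the finite set s of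
bidegrees) are nonzero. Then for every r ≥ 2 the Euler–Poincaré characteristic of page r, the
alternating sum over s of (-1)^{p+q} times the length of E_r^{pq}, equals that of page 2. -/
theorem result {A : Type u} [Ring A]
    (E : E₂CohomologicalSpectralSequence (ModuleCat.{u} A)) (s : Finset (ℤ × ℤ))
    (hs : ∀ pq : ℤ × ℤ, pq ∉ s → IsZero ((E.page 2).X pq))
    (hfl : ∀ pq : ℤ × ℤ, IsFiniteLength A ((E.page 2).X pq)) (r : ℤ) (hr : 2 ≤ r) :
    (s.sum fun pq => (((pq.1 + pq.2).negOnePow : ℤˣ) : ℤ) * ((Module.length A ((E.page r hr).X pq)).toNat : ℤ)) =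
      s.sum fun pq => (((pq.1 + pq.2).negOnePow : ℤˣ) : ℤ) * ((Module.length A ((E.page 2).X pq)).toNat : ℤ) := by
  suffices key : ∀ (k : ℕ) (r : ℤ) (hk : r = 2 + k) (hr : 2 ≤ r),
      (∀ pq, pq ∉ s → IsZero ((E.page r hr).X pq)) ∧
      (∀ pq, Module.length A ((E.page r hr).X pq) ≠ ⊤) ∧
      (s.sum fun pq => (((pq.1 + pq.2).negOnePow : ℤˣ) : ℤ) * ((Module.length A ((E.page r hr).X pq)).toNat : ℤ)) =
        s.sum fun pq => (((pq.1 + pq.2).negOnePow : ℤˣ) : ℤ) * ((Module.length A ((E.page 2).X pq)).toNat : ℤ) from
    (key (r - 2).toNat r (by omega) hr).2.2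
  intro k
  induction k with
  | zero =>
    intro r hk hr
    obtain rfl : r = 2 := by simpa using hk
    exact ⟨hs, fun pq => Module.length_ne_top_iff.2 (hfl pq), rfl⟩
  | succ k ih =>
    intro r' hk hr'
    obtain ⟨r, rfl⟩ : ∃ r, r' = r + 1 := ⟨r' - 1, by omega⟩
    have hr : 2 ≤ r := by omega
    obtain ⟨hz, hfin, hsum⟩ := ih r (by omega) hr
    let L := E.page r hr
    let δ : ℤ × ℤ := (r, 1 - r)
    let a : ℤ × ℤ → ℕ := fun pq => (Module.length A (LinearMap.range (L.d pq (pq + δ)).hom)).toNat
    have hd : ∀ pq, Module.length A (L.X pq) =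
        Module.length A (LinearMap.range (L.d (pq - δ) pq).hom) +
          Module.length A ((E.page (r + 1) hr').X pq) +
          Module.length A (LinearMap.range (L.d pq (pq + δ)).hom) := fun pq => by
      have hp : (ComplexShape.up' δ).prev pq = pq - δ :=
        (ComplexShape.up' δ).prev_eq' (show pq - δ + δ = pq from sub_add_cancel pq δ)
      have hn : (ComplexShape.up' δ).next pq = pq + δ :=
        (ComplexShape.up' δ).next_eq' (show pq + δ = pq + δ from rfl)
      rw [← ((L.homologyIsoSc' (pq - δ) pq (pq + δ) hp hn).symm ≪≫ E.iso r (r + 1) pq rfl hr).toLinearEquiv.length_eq]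
      exact GrothLib.SSEuler.length_homology (L.sc' (pq - δ) pq (pq + δ))
    have hne : ∀ pq, Module.length A ((E.page (r + 1) hr').X pq) ≠ ⊤ := fun pq h => hfin pq (by
      rw [hd pq, h]; simp)
    refine ⟨fun pq hpq => ?_, hne, ?_⟩
    · have h0 := GrothLib.SSEuler.length_zero_of_isZero (hz pq hpq)
      rw [hd pq, add_eq_zero, add_eq_zero] at h0
      have := Module.length_eq_zero_iff.1 h0.1.2
      exact ModuleCat.isZero_of_subsingleton _
    · have ha : ∀ pq, a pq ≠ 0 → pq ∈ s ∧ pq + δ ∈ s := fun pq h => by
        constructor <;> by_contra hm <;> apply h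
        · have h0 := GrothLib.SSEuler.length_zero_of_isZero (hz pq hm)
          rw [hd pq, add_eq_zero] at h0
          simp [a, L, h0.2]
        · have h0 := GrothLib.SSEuler.length_zero_of_isZero (hz (pq + δ) hm)
          rw [hd (pq + δ), add_eq_zero, add_eq_zero, add_sub_cancel_right] at h0
          simp [a, L, h0.1.1]
      have hnat : ∀ pq, ((Module.length A (L.X pq)).toNat : ℤ) =
          (a (pq - δ) : ℤ) + ((Module.length A ((E.page (r + 1) hr').X pq)).toNat : ℤ) + a pq := fun pq => by
        have h := hfin pq
        rw [hd pq] at h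
        rw [hd pq, ENat.toNat_add (fun e => h (by rw [e, top_add])) (fun e => h (by rw [e, add_top])),
          ENat.toNat_add (fun e => h (by rw [e, top_add, top_add])) (fun e => h (by rw [e, add_top, top_add]))]
        rw [show a (pq - δ) = (Module.length A (LinearMap.range (L.d (pq - δ) pq).hom)).toNat from
          congrArg (fun t => (Module.length A (LinearMap.range (L.d (pq - δ) t).hom)).toNat) (sub_add_cancel pq δ)]
        simp only [a, Nat.cast_add]
      rw [← hsum]
      rw [Finset.sum_congr rfl fun pq _ => congrArg ((((pq.1 + pq.2).negOnePow : ℤˣ) : ℤ) * ·) (hnat pq)]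
      simp only [mul_add, Finset.sum_add_distrib]
      have hcancel : (s.sum fun pq => (((pq.1 + pq.2).negOnePow : ℤˣ) : ℤ) * (a (pq - δ) : ℤ)) =
          - s.sum fun pq => (((pq.1 + pq.2).negOnePow : ℤˣ) : ℤ) * (a pq : ℤ) := by
        rw [← Finset.sum_neg_distrib]
        have hsign : ∀ pq : ℤ × ℤ, (((pq.1 + pq.2).negOnePow : ℤˣ) : ℤ) =
            - ((((pq - δ).1 + (pq - δ).2).negOnePow : ℤˣ) : ℤ) := fun pq => by
          rw [show pq.1 + pq.2 = ((pq - δ).1 + (pq - δ).2) + 1 by simp [δ]; ring, Int.negOnePow_succ]
          simp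
        refine Finset.sum_bij_ne_zero (fun pq _ _ => pq - δ) (fun pq _ h => ?_)
          (fun _ _ _ _ _ _ h => sub_left_injective h) (fun pq _ h => ?_) (fun pq _ _ => ?_)
        · exact (ha _ (fun e => h (by simp [e]))).1
        · refine ⟨pq + δ, (ha pq (fun e => h (by simp [e]))).2, ?_, add_sub_cancel_right _ _⟩
          rw [hsign, add_sub_cancel_right]
          simpa [mul_comm] using h
        · rw [hsign pq]; ring
      rw [hcancel]
      ring

end Groth.Agent.S3544
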