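import Groth.Statements.S3557
import Groth.Agent.Lib.GradedAlg.Spectrum

set_option autoImplicit false
universe u
open CategoryTheory CategoryTheory.Limits AlgebraicGeometry
open EGA2

namespace Groth.Agent.S3557

/-- Let S be a graded ring which is essentially reduced (S_+ contains no nonzero nilpotent). Then Proj S
is an integral scheme if and only if S is essentially integral, i.e. S_+ is nonzero and the product
of two nonzero elements of S_+ is nonzero. -/
theorem result {R A : Type u} [CommRing R] [CommRing A] [Algebra R A] (𝒜 : ℕ → Submodule R A) [GradedAlgebra 𝒜]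
    (hred : ∀ f ∈ (HomogeneousIdeal.irrelevant 𝒜).toIdeal, IsNilpotent f → f = 0) :
    AlgebraicGeometry.IsIntegral (Proj 𝒜) ↔
      ((∃ f ∈ (HomogeneousIdeal.irrelevant 𝒜).toIdeal, f ≠ 0) ∧
        ∀ f ∈ (HomogeneousIdeal.irrelevant 𝒜).toIdeal, ∀ g ∈ (HomogeneousIdeal.irrelevant 𝒜).toIdeal,
          f * g = 0 → f = 0 ∨ g = 0) := by
  haveI := GrothLib.GradedAlg.isReduced_proj 𝒜 hred
  rw [isIntegral_iff_irreducibleSpace_and_isReduced, and_iff_left ‹_›]
  have hv : ∀ f ∈ (HomogeneousIdeal.irrelevant 𝒜).toIdeal,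
      f ∈ (ProjectiveSpectrum.vanishingIdeal (Set.univ : Set (ProjectiveSpectrum 𝒜))).toIdeal → f = 0 := by
    intro f hf hv
    refine hred f hf ?_
    have := GrothLib.GradedAlg.mem_radical_of_forall_mem 𝒜 (Ideal.IsHomogeneous.bot 𝒜) hf
      (fun x _ => (ProjectiveSpectrum.mem_vanishingIdeal _ f).mp hv x (Set.mem_univ x))
    exact mem_nilradical.mp this
  have key := GrothLib.GradedAlg.isIrreducible_iff_relevant_prime 𝒜 Set.univ isClosed_univ
  have hirr : IrreducibleSpace (Proj 𝒜) ↔ IsIrreducible (Set.univ : Set (ProjectiveSpectrum 𝒜)) :=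
    irreducibleSpace_def _
  rw [hirr, key]
  constructor
  · rintro ⟨hne, hp⟩
    obtain ⟨f, hf, hfv⟩ := Set.not_subset.mp hne
    refine ⟨⟨f, hf, fun h => hfv (h ▸ zero_mem _)⟩, fun a ha b hb hab => ?_⟩
    exact (hp a ha b hb (hab ▸ zero_mem _)).imp (hv a ha) (hv b hb)
  · rintro ⟨⟨f, hf, hf0⟩, hdom⟩
    refine ⟨fun hle => hf0 (hv f hf (hle hf)), fun a ha b hb hab => ?_⟩
    rcases hdom a ha b hb (hv _ (Ideal.mul_mem_right _ _ ha) hab) with h | h
    · exact Or.inl (h ▸ zero_mem _)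
    · exact Or.inr (h ▸ zero_mem _)

end Groth.Agent.S3557
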