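import Groth.Statements.S3559
import Mathlib.RingTheory.GradedAlgebra.Radical

set_option autoImplicit false
universe u
open CategoryTheory CategoryTheory.Limits AlgebraicGeometry
open EGA2

namespace Groth.Agent.S3559

/-- Let S be a graded ring and (f_i) a family of homogeneous elements of positive degree. The opens
D_+(f_i) cover Proj S if and only if every element of S_+ has a power in the ideal generated by the
f_i. -/
theorem result {R A : Type u} [CommRing R] [CommRing A] [Algebra R A] (𝒜 : ℕ → Submodule R A) [GradedAlgebra 𝒜]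
    {ι : Type u} (f : ι → A) (hf : ∀ i, ∃ d : ℕ, 0 < d ∧ f i ∈ 𝒜 d) :
    (⨆ i, Proj.basicOpen 𝒜 (f i)) = ⊤ ↔
      (HomogeneousIdeal.irrelevant 𝒜).toIdeal ≤ (Ideal.span (Set.range f)).radical := by
  constructor
  · intro h a ha
    rw [Ideal.radical_eq_sInf, Submodule.mem_sInf]
    rintro p ⟨hle, hp⟩
    by_contra hap
    let x : ProjectiveSpectrum 𝒜 := ⟨Ideal.homogeneousCore 𝒜 p, hp.homogeneousCore,
      fun hirr => hap (Ideal.toIdeal_homogeneousCore_le 𝒜 p (hirr ha))⟩
    obtain ⟨i, hi⟩ := TopologicalSpace.Opens.mem_iSup.mp (h.ge (Set.mem_univ (x : Proj 𝒜)))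
    obtain ⟨d, -, hfd⟩ := hf i
    exact hi (Ideal.mem_homogeneousCore_of_homogeneous_of_mem ⟨d, hfd⟩
      (hle (Ideal.subset_span ⟨i, rfl⟩)))
  · intro h
    refine top_le_iff.mp fun x _ => TopologicalSpace.Opens.mem_iSup.mpr ?_
    by_contra! H
    refine x.not_irrelevant_le (h.trans ((x.isPrime.radical_le_iff).mpr ?_))
    rw [Ideal.span_le, Set.range_subset_iff]
    intro i
    simpa [Proj.mem_basicOpen] using H i

end Groth.Agent.S3559
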