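import Groth.Statements.S3562
import Groth.Agent.Lib.GrTilde.Stalk
import Groth.Agent.Lib.GrTilde.Graded
-- import your own Groth.Agent.* helpers here

set_option autoImplicit false
universe u
open CategoryTheory CategoryTheory.Limits AlgebraicGeometry
open EGA2

namespace Groth.Agent.S3562

open DirectSum in
private theorem mem_irrelevant_pow_of_le {R A : Type u} [CommRing R] [CommRing A] [Algebra R A] {𝒜 : ℕ → Submodule R A}
    [GradedAlgebra 𝒜] (hgen : (HomogeneousIdeal.irrelevant 𝒜).toIdeal = Ideal.span (𝒜 1 : Set A)) :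
    ∀ (N j : ℕ), N ≤ j → ∀ a ∈ 𝒜 j, a ∈ (HomogeneousIdeal.irrelevant 𝒜).toIdeal ^ N := by
  classical
  intro N
  induction N with
  | zero => intro j _ a _; simp
  | succ N ih =>
    intro j hj a ha
    have hmem : a ∈ Ideal.span (𝒜 1 : Set A) := by
      rw [← hgen]
      exact HomogeneousIdeal.mem_irrelevant_of_mem 𝒜 (by omega) ha
    suffices H : ∀ x ∈ Ideal.span (𝒜 1 : Set A), ∀ c : A,
        ((decompose 𝒜 (c * x) j : 𝒜 j) : A) ∈ (HomogeneousIdeal.irrelevant 𝒜).toIdeal ^ (N + 1) by
      simpa [decompose_of_mem_same 𝒜 ha] using H a hmem 1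
    intro x hx
    induction hx using Submodule.span_induction with
    | mem g hg =>
      intro c
      rw [coe_decompose_mul_of_right_mem_of_le 𝒜 hg (by omega), pow_succ]
      exact Ideal.mul_mem_mul (ih (j - 1) (by omega) _ (SetLike.coe_mem _))
        (HomogeneousIdeal.mem_irrelevant_of_mem 𝒜 Nat.one_pos hg)
    | zero => intro c; simp
    | add x y _ _ hx hy =>
      intro c
      rw [mul_add, decompose_add, DirectSum.add_apply, Submodule.coe_add]
      exact add_mem (hx c) (hy c)
    | smul d x _ hx =>
      intro c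
      rw [smul_eq_mul, ← mul_assoc]
      exact hx _



/-- Let S be a graded ring whose irrelevant ideal S_+ is finitely generated and generated by the
degree-one elements, and M a graded S-module satisfying (TF) (some tail of M generates a finitely
generated submodule). Then M~ = 0 on Proj S if and only if M satisfies (TN): M_k = 0 for all
sufficiently large k. (The published statement assumes only that S_+ is finitely generated; the
statement then fails when S_+ has no system of degree-one generators, e.g. S = k[t] with t of degree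
2 and M = S shifted into odd degrees, whose M~ vanishes although no M_k does. Stated here with S_+
generated by degree-one elements, where the published proof applies.) -/
theorem result {R A : Type u} [CommRing R] [CommRing A] [Algebra R A] (𝒜 : ℕ → Submodule R A) [GradedAlgebra 𝒜]
    (hfg : (HomogeneousIdeal.irrelevant 𝒜).toIdeal.FG)
    (hgen : (HomogeneousIdeal.irrelevant 𝒜).toIdeal = Ideal.span (𝒜 1 : Set A))
    {M : Type u} [AddCommGroup M] [Module R M] [Module A M] [IsScalarTower R A M] (ℳ : ℕ → Submodule R M) [DirectSum.Decomposition ℳ] [SetLike.GradedSMul 𝒜 ℳ]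
    (hTF : ∃ n : ℕ, (Submodule.span A (⋃ k ∈ Set.Ici n, (ℳ k : Set M))).FG) :
    IsZero (GrTilde.tilde 𝒜 ℳ 0) ↔ ∃ n : ℕ, ∀ k : ℕ, n ≤ k → ℳ k = ⊥ := by
    classical
  constructor
  · intro h0
    obtain ⟨n, hn⟩ := hTF
    obtain ⟨s, hs, hspan⟩ := (Submodule.fg_span_iff_fg_span_finset_subset _).1 hn
    let J : Ideal A := (Submodule.span A (↑s : Set M)).annihilator
    have hrad : (HomogeneousIdeal.irrelevant 𝒜).toIdeal ≤ J.radical := by
      rw [hgen, Ideal.span_le]
      intro g hg
      choose K hK using fun z : M => GrothLib.GrTilde.pow_smul_eq_zero_of_isZero hgen h0 z 1 g Nat.one_pos hg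
      refine ⟨s.sup K, ?_⟩
      rw [Submodule.mem_annihilator_span]
      rintro ⟨z, hz⟩
      show g ^ s.sup K • z = 0
      rw [← Nat.sub_add_cancel (Finset.le_sup (f := K) hz), pow_add, mul_smul, hK, smul_zero]
    obtain ⟨N, hN⟩ := Ideal.exists_pow_le_of_le_radical_of_fg hrad hfg
    have hdeg : ∀ z ∈ s, ∃ e, z ∈ ℳ e := fun z hz => by
      obtain ⟨k, -, hk⟩ := Set.mem_iUnion₂.1 (hs hz)
      exact ⟨k, hk⟩
    choose e he using hdeg
    let E := s.attach.sup fun z => e z.1 z.2
    refine ⟨n + E + N, fun k hk => (Submodule.eq_bot_iff _).2 fun m hm => ?_⟩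
    have hmT : m ∈ Submodule.span A (↑s : Set M) := by
      rw [← hspan]
      exact Submodule.subset_span (Set.mem_iUnion₂.2 ⟨k, Set.mem_Ici.2 (by omega), hm⟩)
    suffices H : ∀ x ∈ Submodule.span A (↑s : Set M), ∀ a : A,
        ((DirectSum.decompose ℳ (a • x) k : ℳ k) : M) = 0 by
      have := H m hmT 1
      rwa [one_smul, DirectSum.decompose_of_mem_same ℳ hm] at this
    intro x hx
    induction hx using Submodule.span_induction with
    | mem z hz =>
      intro a
      have hzE : e z hz ≤ E := Finset.le_sup (f := fun z => e z.1 z.2) (Finset.mem_attach s ⟨z, hz⟩)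
      obtain ⟨j, hj⟩ := Nat.exists_eq_add_of_le' (le_trans hzE (by omega : E ≤ k))
      rw [hj, GrothLib.GrTilde.decompose_smul_of_mem (𝒜 := 𝒜) (he z hz) a j]
      exact Submodule.mem_annihilator.1 (hN (mem_irrelevant_pow_of_le hgen N j (by omega) _ (SetLike.coe_mem _)))
        z (Submodule.subset_span hz)
    | zero => intro a; simp
    | add x y _ _ hx hy =>
      intro a
      rw [smul_add, DirectSum.decompose_add, DirectSum.add_apply, Submodule.coe_add, hx a, hy a, add_zero]
    | smul c x _ hx =>
      intro a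
      rw [smul_smul]
      exact hx _
  · rintro ⟨n, hn⟩
    refine GrothLib.GrTilde.isZero_tilde 0 fun z d f hd hf => ⟨n, ?_⟩
    refine DirectSum.Decomposition.inductionOn ℳ (motive := fun z : M => f ^ n • z = 0) ?_ ?_ ?_ z
    · exact smul_zero _
    · intro i m
      have h1 : f ^ n • (m : M) ∈ ℳ (n * d + i) :=
        SetLike.GradedSMul.smul_mem (A := 𝒜) (B := ℳ) (SetLike.pow_mem_graded n hf) m.2
      rw [hn _ (by nlinarith)] at h1
      exact (Submodule.mem_bot R).1 h1
    · intro x y hx hy
      rw [smul_add, hx, hy, add_zero]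

end Groth.Agent.S3562
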