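import Groth.Statements.S3566
import Groth.Agent.Lib.Ample.Criterion
import Mathlib.AlgebraicGeometry.QuasiAffine

set_option autoImplicit false
universe u
open CategoryTheory CategoryTheory.Limits AlgebraicGeometry
open EGA2

namespace Groth.Agent.S3566

/-- Let X be a quasi-compact separated scheme (the published statement also allows a prescheme with
Noetherian underlying space) and L an invertible O_X-module. Then L is ample, i.e. the affine ones
among the opens X_s (s a global section of a positive tensor power of L, X_s the locus where s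
generates) cover X, if and only if all the opens X_s form a base of the topology of X. -/
theorem result (X : Scheme.{u}) [CompactSpace X] [X.IsSeparated]
    (L : X.Modules) (hL : PicF.IsInvertible L) :
    CohB1.IsAmple L ↔
      TopologicalSpace.IsTopologicalBasis
        {U : Set X | ∃ (n : ℕ) (s : Coh.structureModule X ⟶ CohB1.tensorPow L (n + 1)),
          U = (CohB1.genLocus (CohB1.tensorPow L (n + 1)) s : Set X)} := by
  constructor
  · intro h
    refine TopologicalSpace.isTopologicalBasis_of_isOpen_of_nhds ?_ ?_
    · rintro U ⟨n, s, rfl⟩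
      exact (CohB1.genLocus _ s).2
    · intro p U hp hU
      obtain ⟨n, s, h1, h2, -⟩ := GrothLib.Ample.exists_affine_genLocus_le h (O := ⟨U, hU⟩) hp
      exact ⟨_, ⟨n, s, rfl⟩, h1, h2⟩
  · intro h
    obtain ⟨c, ⟨e⟩⟩ := GrothLib.Ample.exists_cocycle hL
    refine (c.isAmple_iff e).mpr ⟨inferInstance, fun p => ?_⟩
    obtain ⟨i, W, hpW, hWD, hW⟩ := c.exists_affine_le_D p
    obtain ⟨_, ⟨n, s, rfl⟩, hp, hsW⟩ := h.exists_subset_of_mem_open hpW W.2
    obtain ⟨d⟩ := c.nonempty_tensorPow_iso e (n + 1)
    obtain ⟨a, ha⟩ := c.exists_sect_of_section d s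
    exact ⟨n, a, by rw [ha]; exact hp, c.isAffineOpen_locus_of_le a hW (by rw [ha]; exact hsW)⟩

end Groth.Agent.S3566
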