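import Groth.Statements.S3567

set_option autoImplicit false
set_option backward.isDefEq.respectTransparency false
universe u
open CategoryTheory CategoryTheory.Limits AlgebraicGeometry
open EGA2

namespace Groth.Agent.S3567

/-- Let h : U → V be a surjective morphism of schemes such that the map of sheaves of rings O_V → h_*O_U
is an isomorphism and the underlying space of V carries the quotient topology of that of U. Then for
every scheme W, composition with h is a bijection from the morphisms V → W onto the morphisms U → W
whose underlying map is constant on each fibre of h. -/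
theorem result {U V : Scheme.{u}} (h : U ⟶ V) [Surjective h]
    [IsIso h.c] (hq : Topology.IsQuotientMap h.base) (W : Scheme.{u}) :
    (∀ v₁ v₂ : V ⟶ W, h ≫ v₁ = h ≫ v₂ → v₁ = v₂) ∧
      ∀ u : U ⟶ W, (∀ x y : U, h.base x = h.base y → u.base x = u.base y) → ∃ v : V ⟶ W, h ≫ v = u := by
  refine ⟨fun v₁ v₂ e => ?_, fun u hu => ?_⟩
  · apply Scheme.Hom.ext'
    apply LocallyRingedSpace.Hom.ext'
    have key : ∀ a b : V.toPresheafedSpace ⟶ W.toPresheafedSpace,
        h.toPshHom ≫ a = h.toPshHom ≫ b → a = b := by
      intro a b eab
      obtain ⟨ab, ac⟩ := a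
      obtain ⟨bb, bc⟩ := b
      have hb : ab = bb := by
        ext y
        obtain ⟨x, rfl⟩ := h.surjective y
        exact congrArg (fun p : U.toPresheafedSpace ⟶ W.toPresheafedSpace => p.base x) eab
      subst hb
      have hc : ac ≫ (TopCat.Presheaf.pushforward CommRingCat ab).map h.c =
          bc ≫ (TopCat.Presheaf.pushforward CommRingCat ab).map h.c := by
        injection eab
      rw [cancel_mono] at hc
      subst hc
      rfl
    exact key _ _ (congrArg (fun p : U ⟶ W => p.toPshHom) e)
  · classical
    let gfun : V → W := fun y => u.base (h.surjective y).choose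
    have hg : ∀ x, gfun (h.base x) = u.base x := fun x =>
      hu _ _ (h.surjective (h.base x)).choose_spec
    have hgc : Continuous gfun := by
      rw [hq.continuous_iff]
      exact u.continuous.congr fun x => (hg x).symm
    let g : V.toTopCat ⟶ W.toTopCat := TopCat.ofHom ⟨gfun, hgc⟩
    have key : ∀ (q : U.toPresheafedSpace ⟶ W.toPresheafedSpace), q.base = h.base ≫ g →
        ∃ p : V.toPresheafedSpace ⟶ W.toPresheafedSpace, h.toPshHom ≫ p = q := by
      intro q hqb
      obtain ⟨qb, qc⟩ := q
      subst hqb
      refine ⟨⟨g, qc ≫ (TopCat.Presheaf.pushforward CommRingCat g).map (inv h.c)⟩, ?_⟩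
      change (PresheafedSpace.comp _ _) = _
      simp only [PresheafedSpace.comp]
      congr 1
      rw [Category.assoc, ← Functor.map_comp, IsIso.inv_hom_id, CategoryTheory.Functor.map_id]
      exact Category.comp_id _
    obtain ⟨p, hp⟩ := key u.toPshHom (by ext x; exact (hg x).symm)
    refine ⟨⟨⟨p, fun y => ?_⟩⟩, ?_⟩
    · obtain ⟨x, rfl⟩ := h.surjective y
      have e1 : IsLocalHom ((h.toPshHom ≫ p).stalkMap x).hom := by
        rw [hp]; exact u.prop x
      rw [PresheafedSpace.stalkMap.comp] at e1
      change IsLocalHom ((RingHom.comp _ _)) at e1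
      exact @isLocalHom_of_comp _ _ _ _ _ _ _ _ e1
    · apply Scheme.Hom.ext'
      apply LocallyRingedSpace.Hom.ext'
      exact hp

end Groth.Agent.S3567
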