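import Groth.Statements.S3568
import Groth.Agent.Lib.Birat.Basic
import Groth.Agent.Lib.NormalExt.Basic

set_option autoImplicit false
set_option backward.isDefEq.respectTransparency false
universe u
open CategoryTheory CategoryTheory.Limits AlgebraicGeometry
open EGA2

namespace Groth.Agent.S3568

/-- Let U be an integral scheme, V a normal integral scheme (all local rings integrally closed domains)
and h : U → V a morphism which is universally closed, radicial (universally injective) and
birational (it sends the generic point of U to that of V and induces an isomorphism of the residue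
fields there). Then h is an isomorphism. (The source assumes only V normal; integrality of V, needed
here to speak of its generic point, follows from the other hypotheses.) -/
theorem result {U V : Scheme.{u}} [AlgebraicGeometry.IsIntegral U] [AlgebraicGeometry.IsIntegral V]
    (hN : Pi1.IsNormalScheme V) (h : U ⟶ V) [UniversallyClosed h]
    [UniversallyInjective h] (hgen : h.base (genericPoint U) = genericPoint V)
    (hbir : Function.Bijective (h.residueFieldMap (genericPoint U)).hom) :
    IsIso h := by
  have hb : Function.Bijective (h.stalkMap (genericPoint U)).hom := by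
    have hres := Scheme.residue_residueFieldMap h (genericPoint U)
    have hF : IsField (U.presheaf.stalk (genericPoint U)) := Field.toIsField U.functionField
    have hinjU : Function.Injective (U.residue (genericPoint U)).hom := by
      let _ := hF.toField
      exact (U.residue (genericPoint U)).hom.injective
    have hF' : IsField (V.presheaf.stalk (h.base (genericPoint U))) := by
      rw [hgen]; exact Field.toIsField V.functionField
    have hinjV : Function.Injective (V.residue (h.base (genericPoint U))).hom := by
      let _ := hF'.toField
      exact (V.residue (h.base (genericPoint U))).hom.injective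
    have he : (U.residue (genericPoint U)).hom ∘ (h.stalkMap (genericPoint U)).hom =
        (h.residueFieldMap (genericPoint U)).hom ∘ (V.residue (h.base (genericPoint U))).hom :=
      funext fun z => (congr($hres z)).symm
    have hc : Function.Bijective ((U.residue (genericPoint U)).hom ∘ (h.stalkMap (genericPoint U)).hom) := by
      rw [he]; exact hbir.comp ⟨hinjV, V.residue_surjective _⟩
    exact ⟨hc.1.of_comp, fun z => by
      obtain ⟨w, hw⟩ := hc.2 ((U.residue (genericPoint U)).hom z)
      exact ⟨w, hinjU hw⟩⟩
  have hemb : Topology.IsClosedEmbedding h.base :=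
    .of_continuous_injective_isClosedMap h.continuous h.injective h.isClosedMap
  have : IsAffineHom h := isAffineHom_of_isInducing h hemb.isInducing hemb.isClosed_range
  have : IsIntegralHom h := IsIntegralHom.iff_universallyClosed_and_isAffineHom.mpr ⟨inferInstance, inferInstance⟩
  have : Surjective h := ⟨fun y => by
    have h1 : closure ({genericPoint V} : Set V) ⊆ Set.range h.base :=
      hemb.isClosed_range.closure_subset_iff.mpr (Set.singleton_subset_iff.mpr ⟨_, hgen⟩)
    exact h1 ((genericPoint_spec V).symm ▸ Set.mem_univ y)⟩
  have : IsClosedImmersion h := by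
    refine isClosedImmersion_iff_isAffineHom.mpr ⟨inferInstance, fun W hW b => ?_⟩
    rcases isEmpty_or_nonempty (h ⁻¹ᵁ W) with hE | hE
    · have hbot : h ⁻¹ᵁ W = ⊥ := TopologicalSpace.Opens.ext
        (Set.eq_empty_of_forall_notMem fun x hx => hE.elim ⟨x, hx⟩)
      have : Subsingleton Γ(U, h ⁻¹ᵁ W) := by rw [hbot]; infer_instance
      exact ⟨0, Subsingleton.elim _ _⟩
    · have : Nonempty W := ⟨⟨h.base (Classical.arbitrary (h ⁻¹ᵁ W : U.Opens)).1,
        (Classical.arbitrary (h ⁻¹ᵁ W : U.Opens)).2⟩⟩
      have : IsIntegrallyClosed Γ(V, W) :=
        GrothLib.NormalExt.isIntegrallyClosed_Γ (fun y => (hN y).2) W hW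
      obtain ⟨a, s, hs, hbs⟩ := GrothLib.Birat.exists_mul_eq_of_birational h hgen hb hW le_rfl b
      simp only [Scheme.Hom.appLE, homOfLE_refl, op_id, CategoryTheory.Functor.map_id, Category.comp_id] at hbs
      let A := Γ(V, W)
      let φ : A →+* Γ(U, h ⁻¹ᵁ W) := (h.app W).hom
      have hinj : Function.Injective φ := by
        refine (injective_iff_map_eq_zero φ).2 fun x hx => ?_
        refine (injective_iff_map_eq_zero (V.presheaf.germ W (h.base (genericPoint U)) ?_).hom).1 ?_ x ?_
        · exact GrothLib.Birat.genericPoint_mem (W := h ⁻¹ᵁ W) ⟨_, (Classical.arbitrary (h ⁻¹ᵁ W : U.Opens)).2⟩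
        · exact germ_injective_of_isIntegral V _ _
        · refine hb.1 ?_
          rw [map_zero, Scheme.Hom.germ_stalkMap_apply]
          exact (congrArg _ hx).trans (map_zero _)
      let K := FractionRing A
      obtain ⟨p, hp, hp0⟩ := h.isIntegral_app W hW b
      have hs' : algebraMap A K s ≠ 0 := by rwa [Ne, IsFractionRing.to_map_eq_zero_iff]
      let k : K := algebraMap A K a / algebraMap A K s
      have hsk : algebraMap A K s * k = algebraMap A K a := mul_div_cancel₀ _ hs'
      have hint : IsIntegral A k := by
        refine ⟨p, hp, ?_⟩
        have h1 : (Polynomial.scaleRoots p s).eval a = 0 := by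
          refine hinj ?_
          rw [map_zero, ← Polynomial.eval₂_at_apply, show φ a = φ s * b from (hbs.symm).trans (mul_comm _ _)]
          exact Polynomial.scaleRoots_eval₂_eq_zero φ hp0
        have h2 : Polynomial.eval₂ (algebraMap A K) (algebraMap A K s * k) (Polynomial.scaleRoots p s) = 0 := by
          rw [hsk, Polynomial.eval₂_at_apply, h1, map_zero]
        rw [Polynomial.scaleRoots_eval₂_mul, mul_eq_zero] at h2
        exact h2.resolve_left (pow_ne_zero _ hs')
      obtain ⟨c, hc⟩ := IsIntegrallyClosed.isIntegral_iff.mp hint
      refine ⟨c, ?_⟩
      have hca : c * s = a := IsFractionRing.injective A K (by rw [map_mul, hc, mul_comm, hsk])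
      have h3 : φ c * φ s = b * φ s := by rw [← map_mul, hca]; exact hbs.symm
      have : IsDomain Γ(U, h ⁻¹ᵁ W) := inferInstance
      exact mul_right_cancel₀ ((map_ne_zero_iff φ hinj).mpr hs) h3
  exact isIso_of_isClosedImmersion_of_surjective h

end Groth.Agent.S3568
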