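import Groth.Statements.S3570
import Mathlib.AlgebraicGeometry.Morphisms.ClosedImmersion

set_option autoImplicit false
set_option backward.isDefEq.respectTransparency false
universe u
open CategoryTheory CategoryTheory.Limits AlgebraicGeometry
open EGA2

namespace Groth.Agent.S3570

/-- Let f : X → S and g : Y → S be affine morphisms and h : Y → X an S-morphism. Then h is an
isomorphism if and only if A(h) : f_*O_X → g_*O_Y is an isomorphism (of presheaves of rings on S). -/
theorem result {X Y S : Scheme.{u}} (f : X ⟶ S) [IsAffineHom f] (g : Y ⟶ S)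
    [IsAffineHom g] (h : Y ⟶ X) (w : h ≫ f = g) :
    IsIso h ↔ IsIso (AffAlg.algHom f g h w) := by
  subst w
  constructor
  · intro hi
    rw [NatTrans.isIso_iff_isIso_app]
    intro U
    have : (AffAlg.algHom f (h ≫ f) h rfl).app U = h.app (f ⁻¹ᵁ U.unop) := by
      simp [AffAlg.algHom]
    rw [this]
    exact (inferInstance : IsIso (h.app (f ⁻¹ᵁ U.unop)))
  · intro hi
    refine (IsZariskiLocalAtTarget.iff_of_iSup_eq_top (P := MorphismProperty.isomorphisms Scheme.{u})
      (fun U : S.affineOpens => f ⁻¹ᵁ U.1) ?_).2 fun U => ?_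
    · rw [← Scheme.Hom.preimage_iSup, iSup_affineOpens_eq_top, Scheme.Hom.preimage_top]
    · haveI : IsAffine (f ⁻¹ᵁ U.1).toScheme := U.2.preimage f
      haveI : IsAffine (h ⁻¹ᵁ (f ⁻¹ᵁ U.1)).toScheme := U.2.preimage (h ≫ f)
      show IsIso (h ∣_ (f ⁻¹ᵁ U.1))
      have e : (h ∣_ (f ⁻¹ᵁ U.1)).appTop = (f ⁻¹ᵁ U.1).topIso.hom ≫
          (AffAlg.algHom f (h ≫ f) h rfl).app (Opposite.op U.1) ≫ (h ⁻¹ᵁ (f ⁻¹ᵁ U.1)).topIso.inv := by
        simp [AffAlg.algHom, morphismRestrict_appLE, Scheme.Hom.app_eq_appLE, Scheme.Hom.appLE_map, Scheme.Hom.map_appLE]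
      haveI : IsIso (h ∣_ (f ⁻¹ᵁ U.1)).appTop := by
        rw [e]
        exact IsIso.comp_isIso' inferInstance (IsIso.comp_isIso' inferInstance inferInstance)
      exact (HasAffineProperty.iff_of_isAffine (P := MorphismProperty.isomorphisms Scheme.{u})).2 ⟨inferInstance, inferInstance⟩

end Groth.Agent.S3570
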