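import Groth.Statements.S3577
import Groth.Agent.Lib.NormAmple.Normal
import Groth.Agent.Lib.Ample.Functorial

set_option autoImplicit false
universe u
open CategoryTheory CategoryTheory.Limits AlgebraicGeometry
open EGA2

namespace Groth.Agent.S3577

/-- Let Y be an affine scheme, X a Noetherian reduced scheme, f : X → Y a quasi-compact morphism and g :
X' → X a finite surjective morphism. Assume that at every point x of X either the local ring of X at
x is an integrally closed domain, or the direct image of the structure sheaf of X' is locally free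
on some open neighbourhood of x. Then an invertible O_X-module L is ample relative to f if and only
if its inverse image on X' is ample relative to f ∘ g. -/
theorem result {X X' Y : Scheme.{u}} [IsAffine Y]
    [IsNoetherian X] [IsReduced X] (f : X ⟶ Y) [QuasiCompact f] (g : X' ⟶ X) [IsFinite g] [Surjective g]
    (hW : ∀ x : X, (IsDomain (X.presheaf.stalk x) ∧ IsIntegrallyClosed (X.presheaf.stalk x)) ∨
      ∃ T : X.Opens, x ∈ T ∧ FlatMod.IsFinLocFree (((Coh.push g).obj (Coh.structureModule X')).restrict T.ι))
    (L : X.Modules) (hL : PicF.IsInvertible L) :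
    RelAmple.IsRelAmple f L ↔ RelAmple.IsRelAmple (g ≫ f) ((Scheme.Modules.pullback g).obj L) := by
  refine ⟨fun h => GrothLib.NormAmple.isRelAmple_pullback f h, fun h => ?_⟩
  have h1 := h.2 ⟨⊤, isAffineOpen_top Y⟩
  rw [GrothLib.Ample.isAmple_restrict_top_iff _ ((g ≫ f).preimage_top)] at h1
  have hA := GrothLib.NormAmple.isAmple_of_pullback_normal hW hL h1
  refine GrothLib.Ample.isRelAmple_of_cover fun y => ⟨⊤, trivial, isAffineOpen_top Y, ?_⟩
  rw [GrothLib.Ample.isAmple_restrict_top_iff _ f.preimage_top]
  exact hA

end Groth.Agent.S3577
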