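import Groth.Statements.S3583
import Mathlib.AlgebraicGeometry.Morphisms.ClosedImmersion

set_option autoImplicit false
set_option backward.isDefEq.respectTransparency false
universe u
open CategoryTheory AlgebraicGeometry Opposite
open EGA2

namespace Groth.Agent.S3583

/-- In the form stated after its proof: let f : X → S and f' : X' → S be affine morphisms and h : X' → X
an S-morphism such that the O_S-algebra homomorphism A(h) : f_*O_X → f'_*O_{X'} is surjective (as a
map of quasi-coherent O_S-modules, i.e. on sections over every affine open of S). Then h is a closed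
immersion. -/
theorem result {X X' S : Scheme.{u}} (f : X ⟶ S) [IsAffineHom f]
    (f' : X' ⟶ S) [IsAffineHom f'] (h : X' ⟶ X) (w : h ≫ f = f')
    (hsurj : ∀ U : S.affineOpens, Function.Surjective ((AffAlg.algHom f f' h w).app (op U.1)).hom) :
    IsClosedImmersion h := by
  refine (IsZariskiLocalAtTarget.iff_of_iSup_eq_top (P := @IsClosedImmersion)
    (fun U : S.affineOpens => f ⁻¹ᵁ U.1) ?_).2 fun U => ?_
  · rw [← Scheme.Hom.preimage_iSup, iSup_affineOpens_eq_top, Scheme.Hom.preimage_top]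
  · subst w
    haveI : IsAffine (f ⁻¹ᵁ U.1).toScheme := U.2.preimage f
    haveI : IsAffine (h ⁻¹ᵁ (f ⁻¹ᵁ U.1)).toScheme := U.2.preimage (h ≫ f)
    refine IsClosedImmersion.of_surjective_of_isAffine _ fun a => ?_
    obtain ⟨b, hb⟩ := hsurj U ((h ⁻¹ᵁ (f ⁻¹ᵁ U.1)).topIso.hom a)
    refine ⟨(f ⁻¹ᵁ U.1).topIso.inv b, ?_⟩
    apply (ConcreteCategory.bijective_of_isIso (h ⁻¹ᵁ (f ⁻¹ᵁ U.1)).topIso.hom).1
    rw [← hb]
    have e : (f ⁻¹ᵁ U.1).topIso.inv ≫ (h ∣_ (f ⁻¹ᵁ U.1)).appTop ≫ (h ⁻¹ᵁ (f ⁻¹ᵁ U.1)).topIso.hom =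
        (AffAlg.algHom f (h ≫ f) h rfl).app (op U.1) := by
      simp [AffAlg.algHom, morphismRestrict_appLE, Scheme.Hom.app_eq_appLE, Scheme.Hom.appLE_map, Scheme.Hom.map_appLE]
    exact congr($e b)

end Groth.Agent.S3583
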