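import Groth.Statements.S3584
import Groth.Agent.Lib.GrTilde.Amp

set_option autoImplicit false
universe u
open CategoryTheory CategoryTheory.Limits AlgebraicGeometry
open EGA2

namespace Groth.Agent.S3584

/-- Let S be a graded ring whose irrelevant ideal S_+ is generated by finitely many elements of degree
one. Then the twisting sheaf O_X(1) on X = Proj S is ample (X is quasi-compact and covered by the
affine non-vanishing loci of sections of the positive powers of O_X(1)). -/
theorem result {R A : Type u} [CommRing R] [CommRing A] [Algebra R A] (𝒜 : ℕ → Submodule R A) [GradedAlgebra 𝒜]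
    (s : Finset A) (hs1 : ∀ f ∈ s, f ∈ 𝒜 1)
    (hs : (HomogeneousIdeal.irrelevant 𝒜).toIdeal = Ideal.span (s : Set A)) :
    CohB1.IsAmple (Twist.twist 𝒜 1) := by
  haveI : CompactSpace (Proj 𝒜) := GrothLib.GrTilde.compactSpace_of_finite (fun i : s => (i : A)) (fun _ => 1)
    (fun _ => one_pos) (fun i => hs1 _ i.2) fun x => by
      obtain ⟨f, hf, hfx⟩ := GrothLib.GrTilde.exists_notMem_of_span hs.le x
      exact ⟨⟨f, hf⟩, hfx⟩
  have h := GrothLib.GrTilde.isAmple_twist_of_cover (𝒜 := 𝒜) one_pos fun x => by
    obtain ⟨f, hf, hfx⟩ := GrothLib.GrTilde.exists_notMem_of_span hs.le x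
    exact ⟨f, hs1 f hf, hfx⟩
  simpa using h

end Groth.Agent.S3584
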