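import Groth.Statements.S3585
import Groth.Agent.Lib.Ample.QuasiProj
import Groth.Agent.Lib.Chow.Projective
import Groth.Agent.Lib.Chow.Prod
import Groth.Agent.Lib.AmpleDesc.Rel
import Groth.Agent.Lib.ProjPic26.Over
import Groth.Agent.Lib.GradedAlg.ProjClosed
import Groth.Agent.Lib.RelProjK.OpenMap
import Mathlib.RingTheory.MvPolynomial.Ideal

set_option autoImplicit false
universe u
open CategoryTheory CategoryTheory.Limits AlgebraicGeometry
open EGA2

namespace Groth.Agent.S3585

/-- Let A be a ring and f : X → Spec A a proper morphism, and suppose X carries an invertible O_X-module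
which is ample relative to f (so f is quasi-projective). Then f is projective: X is isomorphic over
Spec A to Proj S for some graded A-algebra S whose degree-zero part is the image of A and whose
irrelevant ideal is generated by finitely many elements of degree one. -/
theorem result {A : Type u} [CommRing A] {X : Scheme.{u}}
    (f : X ⟶ Spec (CommRingCat.of A)) [IsProper f]
    (L : X.Modules) (hL : PicF.IsInvertible L) (hamp : RelAmple.IsRelAmple f L) :
    ∃ (S : Type u) (_ : CommRing S) (_ : Algebra A S) (𝒮 : ℕ → Submodule A S) (_ : GradedAlgebra 𝒮) (s : Finset S),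
      Function.Surjective (algebraMap A (𝒮 0)) ∧ (∀ g ∈ s, g ∈ 𝒮 1) ∧
      (HomogeneousIdeal.irrelevant 𝒮).toIdeal = Ideal.span (s : Set S) ∧
      ∃ e : X ≅ Proj 𝒮, e.hom ≫ Proj.toSpecZero 𝒮 ≫ Spec.map (CommRingCat.ofHom (algebraMap A (𝒮 0))) = f := by
  classical
  haveI := (GrothLib.Ample.isAmple_of_isRelAmple_top (f := f) hamp)
  obtain ⟨n, i₀, hi₀', hif⟩ := GrothLib.Ample.exists_immersion_of_isAmple f this
  haveI : IsProper (CohB1.ProjSpaceOver.toBase n (Spec (CommRingCat.of A))) := GrothLib.Chow.isProper_toBase n _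
  haveI : IsProper (i₀ ≫ CohB1.ProjSpaceOver.toBase n (Spec (CommRingCat.of A))) := hif ▸ inferInstance
  haveI : IsProper i₀ := IsProper.of_comp i₀ (CohB1.ProjSpaceOver.toBase n _)
  haveI := hi₀'
  haveI hi₀ := GrothLib.Chow.isClosedImmersion_of_isImmersion_of_isProper i₀
  obtain ⟨ω, -, hω⟩ := GrothLib.ProjPic26.exists_isPullback_point (n := n) (Spec (CommRingCat.of A))
    (𝟙 (Spec (CommRingCat.of A)))
  haveI : IsIso ω := hω.isIso_fst_of_isIso
  let i : X ⟶ CohB1.ProjSpace n A := i₀ ≫ inv ω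
  have hib : i ≫ CohB1.ProjSpace.toSpec n A = f := by
    have h2 : CohB1.ProjSpace.toSpec n A = ω ≫ CohB1.ProjSpaceOver.toBase n (Spec (CommRingCat.of A)) := by
      rw [hω.w, Category.comp_id]
    rw [h2]
    simp only [i, Category.assoc, IsIso.inv_hom_id_assoc]
    exact hif
  let 𝒜 := CohB1.polyGrading n A
  let s : Finset (MvPolynomial (Fin (n + 1)) A) := Finset.univ.image MvPolynomial.X
  have hs1 : ∀ g ∈ s, g ∈ 𝒜 1 := fun g hg => by
    obtain ⟨k, -, rfl⟩ := Finset.mem_image.1 hg
    exact MvPolynomial.isHomogeneous_X A k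
  have hs : (HomogeneousIdeal.irrelevant 𝒜).toIdeal = Ideal.span (s : Set (MvPolynomial (Fin (n + 1)) A)) := by
    refine le_antisymm ((HomogeneousIdeal.toIdeal_irrelevant_le 𝒜).mpr fun j hj a ha => ?_)
      (Ideal.span_le.2 fun g hg => HomogeneousIdeal.mem_irrelevant_of_mem 𝒜 one_pos (hs1 g hg))
    rw [Finset.coe_image, Finset.coe_univ]
    refine MvPolynomial.mem_ideal_span_X_image.2 fun m hm => ?_
    by_contra hc
    push Not at hc
    have hm0 : m = 0 := Finsupp.ext fun k => hc k (Set.mem_univ k)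
    have := (MvPolynomial.mem_homogeneousSubmodule j a).1 ha (MvPolynomial.mem_support_iff.1 hm)
    rw [hm0, map_zero] at this
    omega
  let i' : X ⟶ Proj 𝒜 := i
  haveI : IsClosedImmersion i' := inferInstanceAs (IsClosedImmersion (i₀ ≫ inv ω))
  have hker := GrothLib.GradedAlg.ker_map_qhom_eq i'.ker s hs1 hs
  set J := GrothLib.GradedAlg.subschemeIdeal i'.ker s hs1
  haveI := GrothLib.GradedAlg.isClosedImmersion_map (GrothLib.GradedAlg.qhom J)
    (GrothLib.GradedAlg.irrelevant_le_map_qhom J) (GrothLib.GradedAlg.qhom_surjective J)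
  let φ := GrothLib.GradedAlg.qhom J
  let hφ := GrothLib.GradedAlg.irrelevant_le_map_qhom J
  haveI := IsClosedImmersion.isIso_lift (Proj.map φ hφ) i' hker
  let q := IsClosedImmersion.lift (Proj.map φ hφ) i' hker.le
  refine ⟨_, inferInstance, inferInstance, GrothLib.GradedAlg.qgr J, inferInstance, s.image φ, ?_, ?_, ?_,
    asIso q, ?_⟩
  · rintro ⟨y, hy⟩
    obtain ⟨a, ha, rfl⟩ := (GrothLib.GradedAlg.mem_qgr_iff J 0 y).1 hy
    obtain ⟨r, rfl⟩ : ∃ r, MvPolynomial.C r = a :=
      ⟨a.coeff 0, ((MvPolynomial.totalDegree_eq_zero_iff_eq_C).1 (by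
        rcases eq_or_ne a 0 with rfl | hne
        · simp
        · exact ((MvPolynomial.mem_homogeneousSubmodule 0 a).1 ha).totalDegree hne)).symm⟩
    exact ⟨r, Subtype.ext rfl⟩
  · intro g hg
    obtain ⟨g', hg', rfl⟩ := Finset.mem_image.1 hg
    exact Submodule.mem_map_of_mem (hs1 g' hg')
  · refine le_antisymm ?_ (Ideal.span_le.2 fun g hg => ?_)
    · refine (show (HomogeneousIdeal.irrelevant (GrothLib.GradedAlg.qgr J)).toIdeal ≤ _ from hφ).trans ?_
      show Ideal.map φ (HomogeneousIdeal.irrelevant 𝒜).toIdeal ≤ _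
      rw [hs, Ideal.map_span, Finset.coe_image (f := φ)]

    · obtain ⟨g', hg', rfl⟩ := Finset.mem_image.1 hg
      exact HomogeneousIdeal.mem_irrelevant_of_mem _ one_pos (Submodule.mem_map_of_mem (hs1 g' hg'))
  · have hfac : q ≫ Proj.map φ hφ = i' := IsClosedImmersion.lift_fac _ _ _
    rw [← hib]
    show q ≫ _ = i' ≫ Proj.toSpecZero 𝒜 ≫ Spec.map (CommRingCat.ofHom (algebraMap A (𝒜 0)))
    rw [← hfac, Category.assoc, ← Category.assoc (Proj.map φ hφ), GrothLib.RelProjK.map_toSpecZero, Category.assoc,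
      ← Spec.map_comp]
    rfl

end Groth.Agent.S3585
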