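import Groth.Statements.S3588
import Groth.Agent.Lib.GradedAlg.ProjMapEventually

set_option autoImplicit false
universe u
open CategoryTheory CategoryTheory.Limits AlgebraicGeometry
open EGA2

namespace Groth.Agent.S3588

/-- Let S be a graded ring, N_+ the set of nilpotent elements of S_+ (an ideal of S), and S → S/N_+ the
quotient (here: any surjective homomorphism of graded rings φ : S → S' whose kernel is N_+). Then
the induced morphism Proj S' → Proj S is a closed immersion which is a homeomorphism of the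
underlying spaces, and Proj S' is reduced; thus Proj S' is the reduced closed subscheme (Proj
S)_red. -/
theorem result {R A : Type u} [CommRing R] [CommRing A] [Algebra R A] (𝒜 : ℕ → Submodule R A) [GradedAlgebra 𝒜]
    {B : Type u} [CommRing B] [Algebra R B] (ℬ : ℕ → Submodule R B) [GradedAlgebra ℬ]
    (φ : 𝒜 →+*ᵍ ℬ) (hsurj : Function.Surjective φ)
    (hker : ∀ a : A, φ a = 0 ↔ a ∈ (HomogeneousIdeal.irrelevant 𝒜).toIdeal ∧ IsNilpotent a)
    (hφ : HomogeneousIdeal.irrelevant ℬ ≤ (HomogeneousIdeal.irrelevant 𝒜).map φ) :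
    IsClosedImmersion (Proj.map φ hφ) ∧ IsHomeomorph (Proj.map φ hφ).base ∧
      AlgebraicGeometry.IsReduced (Proj ℬ) := by
  have hc := GrothLib.GradedAlg.isClosedImmersion_map φ hφ hsurj
  refine ⟨hc, ?_, GrothLib.GradedAlg.isReduced_proj ℬ fun b hb hnil => ?_⟩
  · have hbij := GrothLib.GradedAlg.bijective_map_of_surjective_of_isNilpotent φ hφ hsurj
      fun a ha => ((hker a).1 ha).2
    rw [isHomeomorph_iff_isEmbedding_surjective]
    exact ⟨(Proj.map φ hφ).isClosedEmbedding.isEmbedding, hbij.2⟩
  · obtain ⟨a, rfl⟩ := hsurj b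
    classical
    obtain ⟨N, hN⟩ := hnil
    let a' := a - GradedRing.proj 𝒜 0 a
    have ha' : a' ∈ (HomogeneousIdeal.irrelevant 𝒜).toIdeal := by
      rw [HomogeneousIdeal.mem_iff, HomogeneousIdeal.mem_irrelevant_iff]
      simp only [a', map_sub, GradedRing.proj_apply]
      rw [DirectSum.decompose_of_mem_same 𝒜 (Subtype.coe_prop _), sub_self]
    have hφa : φ a' = φ a := by
      have h0 : φ (GradedRing.proj 𝒜 0 a) = 0 := by
        rw [GradedRing.proj_apply, GradedRingHom.map_directSumDecompose]
        exact (HomogeneousIdeal.mem_irrelevant_iff _ _).1 hb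
      rw [map_sub, h0, sub_zero]
    rw [← hφa]
    refine (hker a').2 ⟨ha', ?_⟩
    obtain ⟨M, hM⟩ := ((hker (a' ^ N)).1 (by rw [map_pow, hφa, hN])).2
    exact ⟨N * M, by rw [pow_mul, hM]⟩

end Groth.Agent.S3588
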