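import Groth.Statements.S3607
import Groth.Agent.Lib.ShriekLine22.Main
-- import your own Groth.Agent.* helpers here

set_option autoImplicit false
set_option maxHeartbeats 1000000
set_option backward.isDefEq.respectTransparency false
set_option linter.style.haveILetI false
universe u
open CategoryTheory CategoryTheory.Limits AlgebraicGeometry
attribute [local instance] HasDerivedCategory.standard
open Dual3

namespace Groth.Agent.S3607

/-- Let S be a Noetherian scheme, Y separated and of finite type over S, and f : A^1_Y → Y the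
projection from the affine line. Compute f^! through any compactification f = j ∘ p (j an open
immersion, p proper, Rp_* on D_QCoh assumed to exist and to preserve quasi-coherence, a a right
adjoint of it, restriction to the open assumed exact) and let Lf^* be the derived pullback (assumed
to exist). Then there is an isomorphism of functors f^! ≅ Lf^*(-)[1] on D^+_QCoh(O_Y) (not asserted
to be canonical). -/
theorem result (S Y : Scheme.{u}) [IsNoetherian S] (q : Y ⟶ S) [Dual3.IsSepFT q] (c : DEt.Compactification (AffineSpace (ULift.{u} (Fin 1)) Y ↘ Y)) [DCoh.HasRpush c.fbar] (hc : DCoh.RpushPreservesQCoh c.fbar) (a : DCoh.DQCoh Y ⥤ DCoh.DQCoh c.Xbar) (adj : DCoh.RpushQ c.fbar hc ⊣ a) [PreservesFiniteLimits (Scheme.Modules.restrictFunctor c.j)] [DCoh.HasLpull (AffineSpace (ULift.{u} (Fin 1)) Y ↘ Y)] : Nonempty (Dual3.bddι Y ⋙ Dual3.shriekC c a ≅ Dual3.bddι Y ⋙ ObjectProperty.ι _ ⋙ DCoh.Lpull (AffineSpace (ULift.{u} (Fin 1)) Y ↘ Y) ⋙ shiftFunctor (DCoh.D (AffineSpace (ULift.{u}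 (Fin 1)) Y)) (1 : ℤ)) := by
  haveI : IsNoetherian Y := GrothLib.ShriekBridge22.isNoetherian_of_sepFT q
  let X := AffineSpace (ULift.{u} (Fin 1)) Y
  let f : X ⟶ Y := AffineSpace (ULift.{u} (Fin 1)) Y ↘ Y
  haveI : LocallyOfFiniteType f := inferInstance
  haveI : IsLocallyNoetherian X := LocallyOfFiniteType.isLocallyNoetherian f
  haveI : CompactSpace X := QuasiCompact.compactSpace_of_compactSpace f
  haveI : IsNoetherian X := {}
  let O : DCoh.DQCoh Y := ⟨DCoh.inD Y (Coh.structureModule Y),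
    GrothLib.OX.isQCohD_of_isPerfect (GrothLib.OX.isPerfect_unit Y)⟩
  obtain ⟨e⟩ := GrothLib.ShriekLine22.nonempty_shriekC_line_O (ULift.{u} (Fin 1)) c hc adj O ⟨Iso.refl _⟩
  let E := (GrothLib.OX.unitCx X)⟦(1 : ℤ)⟧
  haveI := GrothLib.OX.hasLTensorCx E
  obtain ⟨i⟩ := GrothLib.ShriekPerf22.nonempty_shriekC_iso f (GrothLib.ShriekPerf22.isPerfectMor_of_flat f) c hc adj O
    ⟨Iso.refl _⟩ E ⟨((DerivedCategory.Q (C := X.Modules)).commShiftIso (1 : ℤ)).app _ ≪≫ e.symm⟩
  obtain ⟨t⟩ := GrothLib.ShriekLine22.nonempty_ltensor_unit_shift X 1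
  exact ⟨i ≪≫ Functor.isoWhiskerLeft (Dual3.bddι Y ⋙ ObjectProperty.ι _ ⋙ DCoh.Lpull f) t⟩

end Groth.Agent.S3607
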