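import Groth.Statements.S3610
import Groth.Agent.Lib.ShriekBridge22.Perfect
import Groth.Agent.S3609
-- import your own Groth.Agent.* helpers here

set_option autoImplicit false
universe u
open CategoryTheory CategoryTheory.Limits AlgebraicGeometry
attribute [local instance] HasDerivedCategory.standard
open Dual3

namespace Groth.Agent.S3610

/-- Let S be a Noetherian scheme, X and Y schemes separated and of finite type over S and f : X → Y a
morphism over S; compute f^! through a compactification f = j ∘ p (j : X → X' an open immersion, p :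
X' → Y proper, Rp_* on D_QCoh assumed to exist and to preserve quasi-coherence of cohomology, a a
right adjoint of Rp_*, restriction of modules to opens assumed exact), so that f^!K = a(K)|_X. If f
is a local complete intersection morphism then for every bounded below K in D_QCoh(O_Y) which is
perfect, f^!K is a perfect object of D(O_X). -/
theorem result (S X Y : Scheme.{u}) [IsNoetherian S] (p : X ⟶ S) (q : Y ⟶ S) [Dual3.IsSepFT p] [Dual3.IsSepFT q] (f : X ⟶ Y) (w : f ≫ q = p) (hf : Dual3.IsLCIMor f) (c : DEt.Compactification f) [DCoh.HasRpush c.fbar] (hc : DCoh.RpushPreservesQCoh c.fbar) (a : DCoh.DQCoh Y ⥤ DCoh.DQCoh c.Xbar) (adj : DCoh.RpushQ c.fbar hc ⊣ a) [∀ (U V : Scheme.{u}) (j : U ⟶ V) [IsOpenImmersion j], PreservesFiniteLimits (Scheme.Modules.restrictFunctor j)] (K : DCoh.DQCoh Y) (c₀ : ℤ) (hK : ∀ i : ℤ, i < c₀ → IsZero (DCoh.HD K.obj i)) (hP : DCoh.IsPerfect K.obj) : DCoh.IsPerfect ((Dual3.shriekC c a).obj K) := by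
  haveI : LocallyOfFiniteType f := by
    haveI : LocallyOfFiniteType (f ≫ q) := by rw [w]; infer_instance
    exact locallyOfFiniteType_of_comp f q
  haveI : IsNoetherian Y := GrothLib.ShriekBridge22.isNoetherian_of_sepFT q
  let O : DCoh.DQCoh Y := ⟨DCoh.inD Y (Coh.structureModule Y),
    GrothLib.OX.isQCohD_of_isPerfect (GrothLib.TorBC25.isPerfect_inD_structure _)⟩
  have hI := Groth.Agent.S3609.result S X Y p q f w hf c hc a adj O ⟨Iso.refl _⟩
  have hOp : DCoh.IsPerfect ((Dual3.shriekC c a).obj O) := GrothLib.OX.isPerfect_of_local fun x => by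
    obtain ⟨U, m, hx, ⟨e⟩⟩ := hI x
    exact ⟨U, U.ι, inferInstance, ⟨⟨x, hx⟩, rfl⟩, GrothLib.OX.isPerfect_of_iso
      (GrothLib.OX.isPerfect_shift (GrothLib.TorBC25.isPerfect_inD_structure _) m) e.symm⟩
  refine GrothLib.OX.isPerfect_of_local fun x => ?_
  obtain ⟨⟨U, hU⟩, ⟨V, hV⟩, e, hx, -⟩ := hf x
  letI := (f.appLE V U e).hom.toAlgebra
  obtain ⟨_, _, _, n, ψ, hψ⟩ := GrothLib.ShriekBridge22.exists_chart_pres f U hU V hV e
  refine ⟨_, hU.fromSpec, inferInstance, GrothLib.OX.mem_range_fromSpec hU hx, ?_⟩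
  obtain ⟨ec⟩ := GrothLib.ShriekBridge22.nonempty_shriekC_O c hc adj O ⟨Iso.refl _⟩ U hU V hV e ψ hψ
  have hGO := (GrothLib.OX.isPerfect_tildeD_iff (A := Γ(X, U)) _).1
    (GrothLib.OX.isPerfect_of_iso (GrothLib.OX.isPerfect_resD hOp hU.fromSpec) ec)
  obtain ⟨L, ⟨eL⟩⟩ := GrothLib.OX.exists_tildeD_rep K.property hV.fromSpec
  have hL := (GrothLib.OX.isPerfect_tildeD_iff (A := Γ(Y, V)) _).1
    (GrothLib.OX.isPerfect_of_iso (GrothLib.OX.isPerfect_resD hP hV.fromSpec) eL.symm)
  have hKge : K.obj.IsGE c₀ := (DerivedCategory.isGE_iff _ _).2 hK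
  obtain ⟨ek⟩ := GrothLib.ShriekBridge22.nonempty_shriekC_chart c hc adj hV.fromSpec hU.fromSpec
    (IsAffineOpen.SpecMap_appLE_fromSpec f hV hU e).symm ψ hψ K c₀ hKge L eL.symm
  exact GrothLib.OX.isPerfect_of_iso
    ((GrothLib.OX.isPerfect_tildeD_iff (A := Γ(X, U)) _).2 (GrothLib.ShriekBridge22.isPerfect_GP ψ hGO hL)) ek.symm

end Groth.Agent.S3610
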