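import Groth.Statements.S3612
import Groth.Agent.Lib.ShriekBridge22.Amp
-- import your own Groth.Agent.* helpers here

set_option autoImplicit false
universe u
open CategoryTheory CategoryTheory.Limits AlgebraicGeometry
attribute [local instance] HasDerivedCategory.standard
open Dual3

namespace Groth.Agent.S3612

/-- Let S be a Noetherian scheme, X and Y schemes separated and of finite type over S and f : X → Y a
morphism over S; compute f^! through a compactification f = j ∘ p (j : X → X' an open immersion, p :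
X' → Y proper, Rp_* on D_QCoh assumed to exist and to preserve quasi-coherence of cohomology, a a
right adjoint of Rp_*, restriction of modules to opens assumed exact), so that f^!K = a(K)|_X.
Assume f is flat and let O be the structure sheaf of Y in degree 0. (i) For a point x and n ≥
dim_x(X_{f(x)}): if the stalk of H^i(f^!O) at x is nonzero then -n ≤ i ≤ 0. (ii) If every fibre of f
has dimension at most d, then f^!O has tor amplitude in [-d, 0] relative to Y: it is represented by
a complex of O_X-modules flat over Y placed in degrees [-d, 0]. -/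
theorem result (S X Y : Scheme.{u}) [IsNoetherian S] (p : X ⟶ S) (q : Y ⟶ S) [Dual3.IsSepFT p] [Dual3.IsSepFT q] (f : X ⟶ Y) (w : f ≫ q = p) [Flat f] (c : DEt.Compactification f) [DCoh.HasRpush c.fbar] (hc : DCoh.RpushPreservesQCoh c.fbar) (a : DCoh.DQCoh Y ⥤ DCoh.DQCoh c.Xbar) (adj : DCoh.RpushQ c.fbar hc ⊣ a) [∀ (U V : Scheme.{u}) (j : U ⟶ V) [IsOpenImmersion j], PreservesFiniteLimits (Scheme.Modules.restrictFunctor j)] (O : DCoh.DQCoh Y) (hO : Nonempty (O.obj ≅ DCoh.inD Y (Coh.structureModule Y))) : (∀ (x : X) (n : ℕ), Dual3.localFibreDim f x ≤ (n : WithBot ℕ∞) → ∀ i : ℤ, Nontrivial ((DCoh.HD ((Dual3.shriekC c a).obj O) i).presheaf.stalk x) → -(n : ℤ) ≤ i ∧ i ≤ 0) ∧ ∀ d : ℕ, Dual3.FibreDimLE f d → DCoh.HasRelFlatAmplitudeIn f (-(d : ℤ)) 0 ((Dual3.shriekC c a).obj O) := by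
  haveI : LocallyOfFiniteType f := by
    haveI : LocallyOfFiniteType (f ≫ q) := by rw [w]; infer_instance
    exact locallyOfFiniteType_of_comp f q
  haveI : IsNoetherian Y := GrothLib.ShriekBridge22.isNoetherian_of_sepFT q
  refine ⟨fun x n hn i hi => ⟨GrothLib.ShriekBridge22.le_of_nontrivial_stalk f c hc adj O hO x
    ((GrothLib.ShriekBridge22.localFibreDim_eq f x).symm.le.trans hn) i hi, ?_⟩,
    fun d hd => GrothLib.ShriekBridge22.hasRelFlatAmplitudeIn_shriekC f c hc adj O hO d
      (GrothLib.ShriekBridge22.fibreDimAt_le_of_fibreDimLE f hd)⟩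
  by_contra hpos
  have hz := GrothLib.ShriekBridge22.isZero_HD_pos f c hc adj O hO i (by omega)
  haveI : Subsingleton ((DCoh.HD ((Dual3.shriekC c a).obj O) i).presheaf.stalk x) :=
    ModuleCat.subsingleton_of_isZero ((GrothLib.OX.stalk x).map_isZero hz)
  exact not_nontrivial _ hi

end Groth.Agent.S3612
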