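import Groth.Statements.S3614
import Groth.Agent.Lib.ShriekBridge22.CMFibre
import Groth.Agent.Lib.QCoh.Abelian
import Groth.Agent.Lib.CodimExt27.Basic
-- import your own Groth.Agent.* helpers here

set_option autoImplicit false
universe u
open CategoryTheory CategoryTheory.Limits AlgebraicGeometry
attribute [local instance] HasDerivedCategory.standard
open Dual3

namespace Groth.Agent.S3614

/-- Let S be a Noetherian scheme, X and Y schemes separated and of finite type over S and f : X → Y a
morphism over S; compute f^! through a compactification f = j ∘ p (j : X → X' an open immersion, p :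
X' → Y proper, Rp_* on D_QCoh assumed to exist and to preserve quasi-coherence of cohomology, a a
right adjoint of Rp_*, restriction of modules to opens assumed exact), so that f^!K = a(K)|_X.
Assume f is Cohen–Macaulay at every point and every irreducible component of every fibre of f has
dimension d, and let O be the structure sheaf of Y in degree 0. Then H^i(f^!O) = 0 for i ≠ -d and
H^{-d}(f^!O) is a coherent O_X-module flat over Y; that is, f^!O = ω[d] for a coherent Y-flat module
ω. -/
theorem result (S X Y : Scheme.{u}) [IsNoetherian S] (p : X ⟶ S) (q : Y ⟶ S) [Dual3.IsSepFT p] [Dual3.IsSepFT q] (f : X ⟶ Y) (w : f ≫ q = p) (hCM : ∀ x : X, MoreMor.IsCMAt f x) (d : ℕ) (hd : ∀ (y : Y) (Z : Set ↥(f.fiber y)), Z ∈ irreducibleComponents ↥(f.fiber y) → topologicalKrullDim ↥Z = (d : WithBot ℕ∞)) (c : DEt.Compactification f) [DCoh.HasRpush c.fbar] (hc : DCoh.RpushPreservesQCoh c.fbar) (a : DCoh.DQCoh Y ⥤ DCoh.DQCoh c.Xbar) (adj : DCoh.RpushQ c.fbar hc ⊣ a) [∀ (U V : Scheme.{u}) (j : U ⟶ V) [IsOpenImmersion j],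 PreservesFiniteLimits (Scheme.Modules.restrictFunctor j)] (O : DCoh.DQCoh Y) (hO : Nonempty (O.obj ≅ DCoh.inD Y (Coh.structureModule Y))) : (∀ i : ℤ, i ≠ -(d : ℤ) → IsZero (DCoh.HD ((Dual3.shriekC c a).obj O) i)) ∧ Coh.IsCoh (DCoh.HD ((Dual3.shriekC c a).obj O) (-(d : ℤ))) ∧ FlatMod.IsFlatOver f (DCoh.HD ((Dual3.shriekC c a).obj O) (-(d : ℤ))) := by
  haveI : LocallyOfFiniteType f := by
    haveI : LocallyOfFiniteType (f ≫ q) := by rw [w]; infer_instance
    exact locallyOfFiniteType_of_comp f q
  haveI : IsNoetherian Y := GrothLib.ShriekBridge22.isNoetherian_of_sepFT q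
  haveI : Flat f := (Flat.iff_flat_stalkMap f).2 fun x => (hCM x).1
  have hdim : ∀ x : X, FlatMor.fibreDimAt f x = (d : WithBot ℕ∞) := fun x => by
    haveI : LocallyOfFiniteType (f.fiberToSpecResidueField (f x)) := MorphismProperty.pullback_snd _ _ ‹_›
    exact GrothLib.CodimExt27.localDim_eq_of_pure (k := Y.residueField (f x)) (f.fiberToSpecResidueField (f x))
      (hd (f x)) (f.asFiber x)
  obtain ⟨hz, hflat⟩ := GrothLib.ShriekBridge22.oneDeg_flat_of_cm f c hc adj O hO hCM d hdim
  exact ⟨hz, GrothLib.ShriekBridge22.isCoh_HD_shriekC_O f c hc adj O hO _, hflat⟩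

end Groth.Agent.S3614
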