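import Groth.Statements.S3623
import Groth.Agent.Lib.GorFlat.Affine
-- import your own Groth.Agent.* helpers here

set_option autoImplicit false
universe u
open CategoryTheory CategoryTheory.Limits AlgebraicGeometry
attribute [local instance] HasDerivedCategory.standard
open Dual3

namespace Groth.Agent.S3623

/-- Let f : Y → X be a local complete intersection morphism (affine-locally given by local complete
intersection ring maps) with X a Gorenstein scheme. Then Y is a Gorenstein scheme. -/
theorem result (Y X : Scheme.{u}) (f : Y ⟶ X) (hf : Dual3.IsLCIMor f) (hX : Dual3.IsGorenstein X) : Dual3.IsGorenstein Y := by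
  haveI := hX.1
  have chart : ∀ y : Y, ∃ U : Y.affineOpens, y ∈ U.1 ∧ LocCoh.IsGorensteinRing Γ(Y, U.1) := fun y => by
    obtain ⟨U, V, e, hy, h⟩ := hf y
    letI := (f.appLE V.1 U.1 e).hom.toAlgebra
    exact ⟨U, hy, GrothLib.GorFlat.isGorensteinRing_of_isLCI
      (GrothLib.GorFlat.isGorensteinRing_of_stalks V.2 fun x _ => hX.2 x) h⟩
  choose U hU hG using chart
  refine ⟨isLocallyNoetherian_of_affine_cover (S := U) ?_ fun y => (hG y).toIsNoetherian,
    fun y => GrothLib.GorFlat.stalk_of_isGorensteinRing (U y).2 (hG y) (hU y)⟩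
  exact TopologicalSpace.Opens.ext (Set.eq_univ_of_forall fun y =>
    TopologicalSpace.Opens.mem_iSup.2 ⟨y, hU y⟩)

end Groth.Agent.S3623
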