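import Groth.Statements.S3628
import Groth.Agent.Lib.DualRing.SchemePull

set_option autoImplicit false
universe u
open CategoryTheory CategoryTheory.Limits AlgebraicGeometry
attribute [local instance] HasDerivedCategory.standard
open Dual3

namespace Groth.Agent.S3628

/-- Let f : X → Y be a surjective Gorenstein morphism of finite type between locally Noetherian schemes,
with derived pullback Lf^* (assumed to exist; exactness instances as in the definition of dualizing
complexes). Then, for K in D_QCoh(O_Y), K is dualizing on Y precisely when the pulled-back complex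
Lf^*K is dualizing on X. -/
theorem result (X Y : Scheme.{u}) [IsLocallyNoetherian X] [IsLocallyNoetherian Y] [∀ (U V : Scheme.{u}) (j : U ⟶ V) [IsOpenImmersion j], PreservesFiniteLimits (Scheme.Modules.restrictFunctor j)] [∀ (R : CommRingCat.{u}), PreservesFiniteLimits (tilde.functor R)] (f : X ⟶ Y) [Surjective f] [LocallyOfFiniteType f] [QuasiCompact f] (hf : Dual3.IsGorensteinMor f) [DCoh.HasLpull f] (K : DCoh.DQCoh Y) : Dual2.IsDualizingSch Y K.obj ↔ Dual2.IsDualizingSch X ((DCoh.Lpull f).obj K.obj) := by
  haveI : Flat f := (Flat.iff_flat_stalkMap f).2 fun x => (hf x).1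
  exact ⟨GrothLib.DualRing.isDualizingSch_lpull f fun x => ((GrothLib.GorMor23.isGorensteinAt_iff f x).1 (hf x)).2,
    GrothLib.DualRing.isDualizingSch_of_lpull f K.property⟩

end Groth.Agent.S3628
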