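import Groth.Statements.S3629
import Groth.Agent.Lib.DualRing.SchemePull
import Groth.Agent.Lib.GorFlat.Rings

set_option autoImplicit false
universe u
open CategoryTheory CategoryTheory.Limits AlgebraicGeometry
attribute [local instance] HasDerivedCategory.standard
open Dual3

namespace Groth.Agent.S3629

/-- Let f : X → Y be a surjective flat local complete intersection morphism between locally Noetherian
schemes, with derived pullback Lf^* (assumed to exist; exactness instances as in the definition of
dualizing complexes). Then, for K in D_QCoh(O_Y), K is dualizing on Y precisely when the pulled-back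
complex Lf^*K is dualizing on X. -/
theorem result (X Y : Scheme.{u}) [IsLocallyNoetherian X] [IsLocallyNoetherian Y] [∀ (U V : Scheme.{u}) (j : U ⟶ V) [IsOpenImmersion j], PreservesFiniteLimits (Scheme.Modules.restrictFunctor j)] [∀ (R : CommRingCat.{u}), PreservesFiniteLimits (tilde.functor R)] (f : X ⟶ Y) [Surjective f] [Flat f] (hf : Dual3.IsLCIMor f) [DCoh.HasLpull f] (K : DCoh.DQCoh Y) : Dual2.IsDualizingSch Y K.obj ↔ Dual2.IsDualizingSch X ((DCoh.Lpull f).obj K.obj) := by
  haveI hft : LocallyOfFiniteType f :=
    (HasRingHomProperty.iff_exists_appLE (P := @LocallyOfFiniteType)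
      (RingHom.finiteType_stableUnderComposition.stableUnderCompositionWithLocalizationAway RingHom.finiteType_holdsForLocalizationAway).1).2 fun x => by
      obtain ⟨U, V, e, hx, h⟩ := hf x
      letI := (f.appLE V.1 U.1 e).hom.toAlgebra
      exact ⟨V, U, hx, e, RingHom.finiteType_algebraMap.2 h.1⟩
  have hG : ∀ x : X, LocCoh.IsGorensteinLocalRing (GrothLib.CMMor6.FibQuot f x) := fun x => by
    obtain ⟨U, V, e, hx, h⟩ := hf x
    haveI := IsLocallyNoetherian.component_noetherian V
    haveI := IsLocallyNoetherian.component_noetherian U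
    letI := (f.appLE V.1 U.1 e).hom.toAlgebra
    haveI : Module.Flat Γ(Y, V.1) Γ(X, U.1) := HasRingHomProperty.appLE @Flat f inferInstance V U e
    let j := U.2.fromSpec
    haveI : IsOpenImmersion j := inferInstance
    obtain ⟨q, hq⟩ : x ∈ Set.range j := GrothLib.OX.mem_range_fromSpec U.2 hx
    subst hq
    let s := GrothLib.OX.specHom (algebraMap Γ(Y, V.1) Γ(X, U.1))
    have w : s ≫ V.2.fromSpec = j ≫ f := IsAffineOpen.SpecMap_appLE_fromSpec f V.2 U.2 e
    haveI : LocallyOfFiniteType (f.fiberToSpecResidueField (f (j q))) :=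
      inferInstanceAs (LocallyOfFiniteType (pullback.snd _ _))
    haveI : IsLocallyNoetherian (f.fiber (f (j q))) :=
      LocallyOfFiniteType.isLocallyNoetherian (f.fiberToSpecResidueField (f (j q)))
    refine (GrothLib.AlgSp.gor_fibQuot_etale_left f j q).1
      ((GrothLib.AlgSp.gor_fibQuot_etale_right (j ≫ f) s V.2.fromSpec w q).2 ?_)
    obtain ⟨em⟩ := GrothLib.DualRing.nonempty_fibQuot_spec (A := Γ(Y, V.1)) (B := Γ(X, U.1)) q
    refine (GrothLib.GorFlat.gorenstein_congr em).2
      (GrothLib.DualRing.gorenstein_fibLocRing_of_fiber _ (fun p => GrothLib.GorFlat.isGorensteinRing_of_ringEquiv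
        (Algebra.TensorProduct.comm Γ(Y, V.1) p.asIdeal.ResidueField Γ(X, U.1)).toRingEquiv
        (GrothLib.GorFlat.isGorensteinRing_fiber_of_flat_isLCI h p)) _)
  exact ⟨GrothLib.DualRing.isDualizingSch_lpull f hG, GrothLib.DualRing.isDualizingSch_of_lpull f K.property⟩

end Groth.Agent.S3629
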