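import Groth.Statements.S3643
import Groth.Agent.Lib.ShriekBridge22.CMFibre
import Groth.Agent.Lib.ShriekBridge22.Dualizing
import Groth.Agent.Lib.DualRing.ShriekRelProps
import Groth.Agent.Lib.DualRing.SchemeCover
import Groth.Agent.Lib.KSix19.AffineModel
-- import your own Groth.Agent.* helpers here

set_option autoImplicit false
universe u
open CategoryTheory CategoryTheory.Limits AlgebraicGeometry
attribute [local instance] HasDerivedCategory.standard
open Dual3
open scoped TensorProduct

namespace Groth.Agent.S3643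

/-- Let S be a Noetherian scheme, X and Y schemes separated and of finite type over S and f : X → Y a
morphism over S; compute f^! through a compactification f = j ∘ p (j : X → X' an open immersion, p :
X' → Y proper, Rp_* on D_QCoh assumed to exist and to preserve quasi-coherence of cohomology, a a
right adjoint of Rp_*, restriction of modules to opens assumed exact), so that f^!K = a(K)|_X.
Assume f is flat, let O be the structure sheaf of Y in degree 0 and ω = f^!O. For a point y of Y let
h : X_y → X be the inclusion of the fibre and Lh^* its derived pullback (assumed to exist; exactness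
instances as in the definition of dualizing complexes). Then Lh^*ω is a dualizing complex on the
fibre X_y. -/
theorem result (S X Y : Scheme.{u}) [IsNoetherian S] (p : X ⟶ S) (q : Y ⟶ S) [Dual3.IsSepFT p] [Dual3.IsSepFT q] (f : X ⟶ Y) (w : f ≫ q = p) [Flat f] (c : DEt.Compactification f) [DCoh.HasRpush c.fbar] (hc : DCoh.RpushPreservesQCoh c.fbar) (a : DCoh.DQCoh Y ⥤ DCoh.DQCoh c.Xbar) (adj : DCoh.RpushQ c.fbar hc ⊣ a) [∀ (U V : Scheme.{u}) (j : U ⟶ V) [IsOpenImmersion j], PreservesFiniteLimits (Scheme.Modules.restrictFunctor j)] [∀ (R : CommRingCat.{u}), PreservesFiniteLimits (tilde.functor R)] (O : DCoh.DQCoh Y) (hO : Nonempty (O.obj ≅ DCoh.inD Y (Coh.structureModule Y))) (y : Y) [DCoh.HasLpull (f.fiberι y)] : Dual2.IsDualizingSch (f.fiber y) ((DCoh.Lpull (f.fiberι y)).obj ((Dual3.shriekC c a).obj O)) := by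
  haveI : LocallyOfFiniteType f := by
    haveI : LocallyOfFiniteType (f ≫ q) := by rw [w]; infer_instance
    exact locallyOfFiniteType_of_comp f q
  haveI : IsNoetherian Y := GrothLib.ShriekBridge22.isNoetherian_of_sepFT q
  let K := (Dual3.shriekC c a).obj O
  haveI hKle : K.IsLE 0 := (DerivedCategory.isLE_iff _ _).2 fun i hi =>
    GrothLib.ShriekBridge22.isZero_HD_pos f c hc adj O hO i hi
  haveI : LocallyOfFiniteType (f.fiberToSpecResidueField y) := MorphismProperty.pullback_snd _ _ inferInstance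
  haveI : IsLocallyNoetherian (f.fiber y) := LocallyOfFiniteType.isLocallyNoetherian (f.fiberToSpecResidueField y)
  refine GrothLib.DualRing.isDualizingSch_of_dualCharts fun z => ?_
  let x := f.fiberι y z
  obtain ⟨U, hU, V, hV, hUV, hx⟩ := GrothLib.ShriekBridge22.exists_affine_nhds f x
  letI := (f.appLE V U hUV).hom.toAlgebra
  obtain ⟨_, hft, _, n, ψ, hψ⟩ := GrothLib.ShriekBridge22.exists_chart_pres f U hU V hV hUV
  haveI : Module.Flat Γ(Y, V) Γ(X, U) := f.flat_appLE hV hU hUV
  haveI : Algebra.FinitePresentation Γ(Y, V) Γ(X, U) := Algebra.FinitePresentation.of_finiteType.1 hft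
  obtain ⟨ec⟩ := GrothLib.ShriekBridge22.nonempty_shriekC_O c hc adj O hO U hU V hV hUV ψ hψ
  have hy : y ∈ V := by
    have h : f x ∈ V := hUV hx
    have hc' : (f.fiberι y ≫ f) z = (f.fiberToSpecResidueField y ≫ Y.fromSpecResidueField y) z := by
      rw [show f.fiberι y ≫ f = f.fiberToSpecResidueField y ≫ Y.fromSpecResidueField y from pullback.condition]
    have h2 : f x ∈ Set.range (Y.fromSpecResidueField y) := ⟨_, hc'.symm⟩
    rw [Y.range_fromSpecResidueField] at h2
    rwa [Set.mem_singleton_iff.1 h2] at h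
  have hr : Set.range (Y.fromSpecResidueField y) ⊆ Set.range hV.fromSpec := by
    rw [Y.range_fromSpecResidueField, hV.range_fromSpec]; exact Set.singleton_subset_iff.2 hy
  let g : Spec (Y.residueField y) ⟶ Spec Γ(Y, V) := IsOpenImmersion.lift hV.fromSpec (Y.fromSpecResidueField y) hr
  letI : Algebra Γ(Y, V) (Y.residueField y) := (Spec.preimage g).hom.toAlgebra
  have hg : Spec.map (CommRingCat.ofHom (algebraMap Γ(Y, V) (Y.residueField y))) ≫ hV.fromSpec =
      Y.fromSpecResidueField y := by
    rw [show Spec.map (CommRingCat.ofHom (algebraMap Γ(Y, V) (Y.residueField y))) = g from Spec.map_preimage g]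
    exact IsOpenImmersion.lift_fac _ _ _
  let T := ↑(Y.residueField y) ⊗[Γ(Y, V)] Γ(X, U)
  let α := (Algebra.TensorProduct.includeRight : Γ(X, U) →ₐ[Γ(Y, V)] T).toRingHom
  have sq : IsPullback (Spec.map (CommRingCat.ofHom α))
      (Spec.map (CommRingCat.ofHom (Algebra.TensorProduct.includeLeftRingHom : ↑(Y.residueField y) →+* T)))
      (Spec.map (f.appLE V U hUV)) (Spec.map (CommRingCat.ofHom (algebraMap Γ(Y, V) (Y.residueField y)))) :=
    (isPullback_SpecMap_of_isPushout _ _ _ _
      (CommRingCat.isPushout_tensorProduct Γ(Y, V) (Y.residueField y) Γ(X, U))).flip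
  let m : pullback (Spec.map (f.appLE V U hUV))
      (Spec.map (CommRingCat.ofHom (algebraMap Γ(Y, V) (Y.residueField y)))) ⟶ pullback f (Y.fromSpecResidueField y) :=
    pullback.map _ _ f (Y.fromSpecResidueField y) hU.fromSpec (𝟙 _) hV.fromSpec
      (IsAffineOpen.SpecMap_appLE_fromSpec f hV hU hUV) (by rw [hg, Category.id_comp])
  haveI hm' : IsOpenImmersion m := inferInstance
  let j0 : Spec (CommRingCat.of T) ⟶ pullback f (Y.fromSpecResidueField y) := sq.isoPullback.hom ≫ m
  haveI hj0 : IsOpenImmersion j0 := inferInstance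
  let j : Spec (CommRingCat.of T) ⟶ f.fiber y := j0
  haveI hj : IsOpenImmersion j := hj0
  have hw : j ≫ f.fiberι y = GrothLib.OX.specHom α ≫ hU.fromSpec := by
    show (sq.isoPullback.hom ≫ m) ≫ pullback.fst f (Y.fromSpecResidueField y) = _
    rw [Category.assoc, show m ≫ pullback.fst f (Y.fromSpecResidueField y) =
      pullback.fst _ _ ≫ hU.fromSpec from pullback.lift_fst _ _ _, ← Category.assoc, sq.isoPullback_hom_fst]
  have hz : z ∈ Set.range j := by
    obtain ⟨t, ht⟩ : z ∈ Set.range m := by
      show z ∈ Set.range (pullback.map _ _ f (Y.fromSpecResidueField y) hU.fromSpec (𝟙 _) hV.fromSpec _ _)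
      rw [Scheme.Pullback.range_map]
      refine ⟨?_, _, rfl⟩
      rw [Set.mem_preimage, hU.range_fromSpec]
      exact hx
    refine ⟨sq.isoPullback.inv t, ?_⟩
    rw [← ht]
    show (sq.isoPullback.inv ≫ (sq.isoPullback.hom ≫ m)) t = m t
    rw [Iso.inv_hom_id_assoc]
  obtain ⟨C, hkC, -, ⟨eC⟩⟩ := GrothLib.KF.exists_kflat_rep (GrothLib.DualRing.Shriek.GP ψ (Dual.inD Γ(Y, V) Γ(Y, V)))
  have hm := GrothLib.KSix19.isModel_lpull (f.fiberι y) hU.fromSpec j α hw (b := 0) (K := K) hkC
    ⟨ec ≪≫ (DCoh.tildeD Γ(X, U)).mapIso eC.symm ≪≫ (tilde.functor Γ(X, U)).mapDerivedCategoryFactors.app C⟩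
  obtain ⟨em⟩ := hm
  haveI := GrothLib.KF.hasLBaseChange α
  obtain ⟨eL⟩ := GrothLib.KF.lBase_value α hkC
  exact ⟨T, inferInstance, j, hj, hz, _, GrothLib.DualRing.Shriek.isDualizing_lBase_GP ψ hψ (Y.residueField y),
    ⟨em ≪≫ ((tilde.functor (CommRingCat.of T)).mapDerivedCategoryFactors.app _).symm ≪≫
      (DCoh.tildeD (CommRingCat.of T)).mapIso (eL.symm ≪≫ (DRing.LBaseChange α).mapIso eC)⟩⟩

end Groth.Agent.S3643
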