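import Groth.Statements.S3644
import Groth.Agent.Lib.ShriekBridge22.PerfShriek
-- import your own Groth.Agent.* helpers here

set_option autoImplicit false
universe u
open CategoryTheory CategoryTheory.Limits AlgebraicGeometry
attribute [local instance] HasDerivedCategory.standard
open Dual3

namespace Groth.Agent.S3644

/-- Let S be a Noetherian scheme, X and Y schemes separated and of finite type over S and f : X → Y a
morphism over S; compute f^! through a compactification f = f̄ ∘ j (j : X → X̄ an open immersion, f̄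
: X̄ → Y proper, Rf̄_* on D_QCoh assumed to exist and to preserve quasi-coherence of cohomology, a a
right adjoint of Rf̄_*, and restriction of modules to opens assumed exact), so that f^!K = a(K)|_X.
Assume f is perfect (affine-locally given by perfect ring maps) and let O be the structure sheaf of
Y placed in degree 0. Then: for every K in D_QCoh(O_Y) with bounded and coherent cohomology, f^!K
has bounded and coherent cohomology; and for any complex E representing f^!O, with − ⊗^L E ⊣ RHom(E,
−) assumed, and any identification υ : O_X ⊗^L E ≅ E, the map O_X → RHom(E, E) adjoint to υ is an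
isomorphism. -/
theorem result (S X Y : Scheme.{u}) [IsNoetherian S] (p : X ⟶ S) (q : Y ⟶ S) [Dual3.IsSepFT p] [Dual3.IsSepFT q] (f : X ⟶ Y) (w : f ≫ q = p) (hf : MoreMor.IsPerfectMor f) (c : DEt.Compactification f) [DCoh.HasRpush c.fbar] (hc : DCoh.RpushPreservesQCoh c.fbar) (a : DCoh.DQCoh Y ⥤ DCoh.DQCoh c.Xbar) (adj : DCoh.RpushQ c.fbar hc ⊣ a) [∀ (U V : Scheme.{u}) (j : U ⟶ V) [IsOpenImmersion j], PreservesFiniteLimits (Scheme.Modules.restrictFunctor j)] (O : DCoh.DQCoh Y) (hO : Nonempty (O.obj ≅ DCoh.inD Y (Coh.structureModule Y))) : (∀ (K : DCoh.DQCoh Y) (lo hi : ℤ), (∀ i : ℤ, (i < lo ∨ hi < i) → IsZero (DCoh.HD K.obj i)) → (∀ i : ℤ, Coh.IsCoh (DCoh.HD K.obj i)) → (∃ lo' hi' : ℤ, ∀ i : ℤ, (i < lo' ∨ hi' < i) → IsZero (DCoh.HD ((Dual3.shriekC c a).obj K) i)) ∧ ∀ i : ℤ, Coh.IsCoh (DCoh.HD ((Dual3.shriekC c a).obj K) i)) ∧ ∀ (E : CochainComplex X.Modules ℤ) (hE : Nonempty (DCoh.toD X E ≅ (Dual3.shriekC c a).obj O)) [DCoh.HasLTensorCx E] [DCoh.HasRSheafHom E] (υ : (DCoh.LTensorCx E).obj (DCoh.inD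 X (Coh.structureModule X)) ≅ DCoh.toD X E), IsIso (((DCoh.RSheafHomAdj E).homEquiv (DCoh.inD X (Coh.structureModule X)) (DCoh.toD X E)) υ.hom) := by
  haveI : LocallyOfFiniteType f := by
    haveI : LocallyOfFiniteType (f ≫ q) := by rw [w]; infer_instance
    exact locallyOfFiniteType_of_comp f q
  haveI : IsNoetherian Y := GrothLib.ShriekBridge22.isNoetherian_of_sepFT q
  haveI : IsNoetherian X := GrothLib.ShriekBridge22.isNoetherian_of_sepFT p
  exact ⟨fun K lo hi hb hcoh => GrothLib.ShriekBridge22.bounded_coh_shriekC f hf c hc adj hb hcoh,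
    fun E hE _ _ υ => GrothLib.ShriekBridge22.isIso_transpose_shriekC_perfect f hf c hc adj O hO E hE υ⟩

end Groth.Agent.S3644
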