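import Groth.Statements.S3648
import Groth.Agent.Lib.ShriekBridge22.PairChart
import Groth.Agent.Lib.RelDual22.Diag
-- import your own Groth.Agent.* helpers here

set_option autoImplicit false
universe u
open CategoryTheory CategoryTheory.Limits AlgebraicGeometry
attribute [local instance] HasDerivedCategory.standard
open Dual3

namespace Groth.Agent.S3648

/-- Let f : X → S be a morphism which is flat, locally of finite presentation and separated, assume the
binders of the definition of relative dualizing complexes: the derived pullback along pr_1 : X ×_S X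
→ X exists and the direct image along the diagonal Δ : X → X ×_S X, a closed immersion since f is
separated, is exact on modules, and let K in D(O_X) underlie a relative dualizing complex for f.
Then for any complex E of O_X-modules representing K, with the derived functors − ⊗^L E ⊣ RHom(E, −)
assumed to exist, and any identification υ : O_X ⊗^L E ≅ E, the map O_X → RHom(E, E) adjoint to υ is
an isomorphism in D(O_X). (Stated for separated f; the published statement is more general.) -/
theorem result (X S : Scheme.{u}) (f : X ⟶ S) [Flat f] [LocallyOfFinitePresentation f] [IsSeparated f] [DCoh.HasLpull (pullback.fst f f)] [PreservesFiniteLimits (Scheme.Modules.pushforward (pullback.diagonal f))] [PreservesFiniteColimits (Scheme.Modules.pushforward (pullback.diagonal f))] (K : DCoh.D X) (hK : Dual3.IsRelDualizing f K) (E : CochainComplex X.Modules ℤ) (hE : Nonempty (DCoh.toD X E ≅ K)) [DCoh.HasLTensorCx E] [DCoh.HasRSheafHom E] (υ : (DCoh.LTensorCx E).obj (DCoh.inD X (Coh.structureModule X)) ≅ DCoh.toD X E) : IsIso (((DCoh.RSheafHomAdj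 E).homEquiv (DCoh.inD X (Coh.structureModule X)) (DCoh.toD X E)) υ.hom) := by
  haveI : ∀ R : CommRingCat.{u}, PreservesFiniteLimits (tilde.functor R) := GrothLib.OX.preservesFiniteLimits_tildeGen
  obtain ⟨eE⟩ := hE
  refine GrothLib.ShriekBridge22.isIso_transpose E υ (fun W => IsAffineOpen W ∧ ∃ V : S.Opens, IsAffineOpen V ∧ W ≤ f ⁻¹ᵁ V)
    (fun T x hx => ?_) fun W hW => ?_
  · obtain ⟨V, hV, hxV, -⟩ := exists_isAffineOpen_mem_and_subset (x := f x) (U := ⊤) trivial
    obtain ⟨W, hW, hxW, hWT⟩ := exists_isAffineOpen_mem_and_subset (x := x) (U := T ⊓ f ⁻¹ᵁ V) ⟨hx, hxV⟩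
    exact ⟨W, ⟨hW, V, hV, hWT.trans Set.inter_subset_right⟩, hxW, hWT.trans Set.inter_subset_left⟩
  · obtain ⟨hWa, V, hV, hWV⟩ := hW
    letI := (f.appLE V W hWV).hom.toAlgebra
    haveI : Module.Flat Γ(S, V) Γ(X, W) := f.flat_appLE hV hWa hWV
    haveI : Algebra.FinitePresentation Γ(S, V) Γ(X, W) := f.finitePresentation_appLE hV hWa hWV
    obtain ⟨n, ψ, hψ⟩ := GrothLib.RelDual22.exists_presentation Γ(S, V) Γ(X, W)
    obtain ⟨ec⟩ := GrothLib.ShriekBridge22.nonempty_chart_iso_GP f hK hWa hV hWV ψ hψ
    obtain ⟨h1, h2⟩ := GrothLib.RelDual22.simple_GP (S := Γ(S, V)) ψ hψ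
    exact ⟨hWa, _, h1, h2, ⟨(GrothLib.OX.resD hWa.fromSpec).mapIso eE ≪≫ ec⟩⟩

end Groth.Agent.S3648
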