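import Groth.Statements.S3651
import Groth.Agent.Lib.ShriekRigid22.Main
-- import your own Groth.Agent.* helpers here

set_option autoImplicit false
set_option backward.isDefEq.respectTransparency false
set_option linter.style.haveILetI false
universe u
open CategoryTheory CategoryTheory.Limits AlgebraicGeometry
attribute [local instance] HasDerivedCategory.standard
open Dual3

namespace Groth.Agent.S3651

/-- Let S be a Noetherian scheme, X and Y schemes separated and of finite type over S and f : X → Y a
morphism over S; compute f^! through a compactification of f (an open immersion j : X → X' followed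
by a proper p : X' → Y, with Rp_* on D_QCoh assumed to exist and to preserve quasi-coherence of
cohomology, a a right adjoint of Rp_*, and restriction of modules to opens assumed exact), so that
f^!K = a(K)|_X. If f is flat and O is the structure sheaf of Y placed in degree 0, then f^!O
underlies a relative dualizing complex for f in the rigid sense. (f is separated, being a morphism
between separated S-schemes; its separatedness is carried as an instance hypothesis.) -/
theorem result (S X Y : Scheme.{u}) [IsNoetherian S] (p : X ⟶ S) (q : Y ⟶ S) [Dual3.IsSepFT p] [Dual3.IsSepFT q] (f : X ⟶ Y) (w : f ≫ q = p) [Flat f] [IsSeparated f] [DCoh.HasLpull (pullback.fst f f)] [PreservesFiniteLimits (Scheme.Modules.pushforward (pullback.diagonal f))] [PreservesFiniteColimits (Scheme.Modules.pushforward (pullback.diagonal f))] (c : DEt.Compactification f) [DCoh.HasRpush c.fbar] (hc : DCoh.RpushPreservesQCoh c.fbar) (a : DCoh.DQCoh Y ⥤ DCoh.DQCoh c.Xbar) (adj : DCoh.RpushQ c.fbar hc ⊣ a) [∀ (U V : Scheme.{u}) (j : U ⟶ V) [IsOpenImmersion j], PreservesFiniteLimits (Scheme.Modules.restrictFunctor j)] (O : DCoh.DQCoh Y) (hO : Nonempty (O.obj ≅ DCoh.inD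 Y (Coh.structureModule Y))) : Dual3.IsRelDualizing f ((Dual3.shriekC c a).obj O) := by
  haveI : LocallyOfFiniteType f := by
    haveI : LocallyOfFiniteType (f ≫ q) := by rw [w]; infer_instance
    exact locallyOfFiniteType_of_comp f q
  haveI : IsNoetherian Y := GrothLib.ShriekBridge22.isNoetherian_of_sepFT q
  haveI : IsNoetherian X := GrothLib.ShriekBridge22.isNoetherian_of_sepFT p
  exact GrothLib.ShriekRigid22.isRelDualizing_shriekC f c hc adj O hO

end Groth.Agent.S3651
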