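import Groth.Statements.S3654
import Groth.Agent.Lib.HomBC22.BCMapMate

set_option autoImplicit false
universe u
open CategoryTheory CategoryTheory.Limits AlgebraicGeometry
attribute [local instance] HasDerivedCategory.standard
open Dual3

namespace Groth.Agent.S3654

/-- Let X, Y, X', Y' be quasi-compact quasi-separated schemes and f : X → Y, g : Y' → Y, f' : X' → Y',
g' : X' → X morphisms forming a cartesian square (X' = Y' ×_Y X), with f flat or g flat. Assume the
derived pushforwards Rf_*, Rf'_*, Rg_*, Rg'_* exist and preserve D_QCoh, that Lg^* and Lg'^*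
preserve D_QCoh and are left adjoint to Rg_* and Rg'_* on D_QCoh, let a : D_QCoh(O_Y) → D_QCoh(O_X)
and a' : D_QCoh(O_{Y'}) → D_QCoh(O_{X'}) be right adjoints of Rf_* and Rf'_*, fix an isomorphism
Rf_* ∘ Rg'_* ≅ Rg_* ∘ Rf'_*, and assume the comparison maps ξ_N built from these data are
isomorphisms for all N in D_QCoh(O_{Y'}), so that the base change map α : Lg'^* ∘ a → a' ∘ Lg^* is
defined; let β_M : Lg^* Rf_* M → Rf'_* Lg'^* M denote the base change map for pushforward. Let η_f :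
id → a Rf_* and η_{f'} : id → a' Rf'_* be the units. Then for every M in D_QCoh(O_X): η_{f'} at
Lg'^*M equals Lg'^*(η_{f,M}) followed by the base change map α at Rf_*M followed by a'(β_M). -/
theorem result (X Y X' Y' : Scheme.{u}) [CompactSpace X] [QuasiSeparatedSpace X] [CompactSpace Y] [QuasiSeparatedSpace Y] [CompactSpace X'] [QuasiSeparatedSpace X'] [CompactSpace Y'] [QuasiSeparatedSpace Y'] (f : X ⟶ Y) (g : Y' ⟶ Y) (f' : X' ⟶ Y') (g' : X' ⟶ X) (hsq : IsPullback g' f' f g) (hflat : Flat f ∨ Flat g) [DCoh.HasRpush f] [DCoh.HasRpush f'] [DCoh.HasRpush g] [DCoh.HasRpush g'] (hf : DCoh.RpushPreservesQCoh f) (hf' : DCoh.RpushPreservesQCoh f') (hg : DCoh.RpushPreservesQCoh g) (hg' : DCoh.RpushPreservesQCoh g') (a : DCoh.DQCoh Y ⥤ DCoh.DQCoh X) (a' : DCoh.DQCoh Y' ⥤ DCoh.DQCoh X') (adj : DCoh.RpushQ f hf ⊣ a) (adj' : DCoh.RpushQ f' hf' ⊣ a') [DCoh.HasLpull g] [DCoh.HasLpull g'] (hLg : Dual3.LpullPreservesQCoh g) (hLg' : Dual3.LpullPreservesQCoh g') (adjg :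 Dual3.LpullQ g hLg ⊣ DCoh.RpushQ g hg) (adjg' : Dual3.LpullQ g' hLg' ⊣ DCoh.RpushQ g' hg') (e : (DCoh.RpushQ g' hg' ⋙ DCoh.RpushQ f hf ≅ DCoh.RpushQ f' hf' ⋙ DCoh.RpushQ g hg)) (hξ : ∀ M : DCoh.DQCoh Y', IsIso (Dual3.xi adj adj' e M)) (M : DCoh.DQCoh X) : adj'.unit.app ((Dual3.LpullQ g' hLg').obj M) = (Dual3.LpullQ g' hLg').map (adj.unit.app M) ≫ Dual3.bcMap adj adj' e adjg adjg' ((DCoh.RpushQ f hf).obj M) (hξ _) ≫ a'.map (Dual3.bcPush e adjg adjg' M) := by
  have hβ : ∀ E : DCoh.DQCoh X, IsIso (Dual3.bcPush e adjg adjg' E) := fun E => by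
    refine isIso_of_coyoneda_map_bijective _ fun N => ?_
    haveI := hξ N
    let Φ : ((DCoh.RpushQ f' hf').obj ((Dual3.LpullQ g' hLg').obj E) ⟶ N) ≃
        ((Dual3.LpullQ g hLg).obj ((DCoh.RpushQ f hf).obj E) ⟶ N) :=
      (adj'.homEquiv _ _).trans ((adjg'.homEquiv _ _).trans ((asIso (Dual3.xi adj adj' e N)).homToEquiv.trans
        ((adj.homEquiv _ _).symm.trans (adjg.homEquiv _ _).symm)))
    have hΦ : (fun x : (DCoh.RpushQ f' hf').obj ((Dual3.LpullQ g' hLg').obj E) ⟶ N =>
        Dual3.bcPush e adjg adjg' E ≫ x) = Φ := by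
      funext x
      show _ = (adjg.homEquiv _ _).symm ((adj.homEquiv _ _).symm
        (adjg'.homEquiv _ _ (adj'.homEquiv _ _ x) ≫ Dual3.xi adj adj' e N))
      apply (adjg.homEquiv _ _).injective
      rw [Equiv.apply_symm_apply]
      apply (adj.homEquiv _ _).injective
      rw [Equiv.apply_symm_apply]
      have h := GrothLib.BaseChange22.homEquiv_symm_comp_xi adj adj' e adjg adjg' (adj'.homEquiv _ _ x)
      rw [Equiv.symm_apply_apply] at h
      exact h.symm
    show Function.Bijective fun x : (DCoh.RpushQ f' hf').obj ((Dual3.LpullQ g' hLg').obj E) ⟶ N =>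
      Dual3.bcPush e adjg adjg' E ≫ x
    rw [hΦ]
    exact Φ.bijective
  haveI := hβ M
  haveI := hξ ((Dual3.LpullQ g hLg).obj ((DCoh.RpushQ f hf).obj M))
  let K := (DCoh.RpushQ f hf).obj M
  let bc := Dual3.bcMap adj adj' e adjg adjg' K (hξ _)
  have hbc : adjg'.homEquiv _ _ bc ≫
      adj.homEquiv _ _ (e.hom.app (a'.obj ((Dual3.LpullQ g hLg).obj K)) ≫
        (DCoh.RpushQ g hg).map (adj'.counit.app _)) = a.map (adjg.unit.app K) := by
    have h1 : bc = (adjg'.homEquiv _ _).symm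
        (a.map (adjg.unit.app K) ≫ inv (Dual3.xi adj adj' e ((Dual3.LpullQ g hLg).obj K))) := by
      rw [Adjunction.homEquiv_counit, Functor.map_comp, Category.assoc]
      rfl
    refine (congrArg (· ≫ _) ((congrArg _ h1).trans (Equiv.apply_symm_apply (adjg'.homEquiv _ _) _))).trans ?_
    refine (Category.assoc _ _ _).trans ?_
    exact (congrArg (a.map (adjg.unit.app K) ≫ ·)
      (IsIso.inv_hom_id (Dual3.xi adj adj' e ((Dual3.LpullQ g hLg).obj K)))).trans (Category.comp_id _)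
  have h2 := GrothLib.HomBC22.thMate_comp_transpose adj adj' e adjg adjg' K _ hbc
  have h3 := GrothLib.HomBC22.thMate_naturality e adjg adjg' (adj.unit.app M)
  let t := (adj'.homEquiv _ _).symm bc
  have h4 : (DCoh.RpushQ f' hf').map ((Dual3.LpullQ g' hLg').map (adj.unit.app M)) ≫ t =
      inv (Dual3.bcPush e adjg adjg' M) := by
    apply IsIso.eq_inv_of_hom_inv_id
    refine (Category.assoc _ _ _).symm.trans ?_
    refine (congrArg (· ≫ t) h3.symm).trans ?_
    refine (Category.assoc _ _ _).trans ?_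
    refine (congrArg (_ ≫ ·) h2).trans ?_
    refine ((Dual3.LpullQ g hLg).map_comp _ _).symm.trans ?_
    exact (congrArg _ (adj.left_triangle_components M)).trans (CategoryTheory.Functor.map_id _ _)
  apply (adj'.homEquiv _ _).symm.injective
  rw [Adjunction.homEquiv_naturality_left_symm, Adjunction.homEquiv_naturality_right_symm,
    show (adj'.homEquiv _ _).symm (adj'.unit.app ((Dual3.LpullQ g' hLg').obj M)) = 𝟙 _ from by
      rw [Adjunction.homEquiv_counit]; exact adj'.left_triangle_components _]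
  refine Eq.trans ?_ (Category.assoc _ _ _)
  rw [show (DCoh.RpushQ f' hf').map ((Dual3.LpullQ g' hLg').map (adj.unit.app M)) ≫
      (adj'.homEquiv _ _).symm bc = inv (Dual3.bcPush e adjg adjg' M) from h4]
  exact (IsIso.inv_hom_id _).symm

end Groth.Agent.S3654
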