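import Groth.Statements.S3657
import Groth.Agent.Lib.RightAdj22.Finite
import Groth.Agent.Lib.HomSh.Coherent

set_option autoImplicit false
universe u
open CategoryTheory CategoryTheory.Limits AlgebraicGeometry
attribute [local instance] HasDerivedCategory.standard
open Dual3

namespace Groth.Agent.S3657

/-- Let f : Y → X be a finite morphism of Noetherian schemes, with derived direct image Rf_* on D_QCoh
(assumed to exist and to preserve quasi-coherence) and a right adjoint a of Rf_* : D_QCoh(O_Y) →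
D_QCoh(O_X). Let E be a complex of O_X-modules representing f_*O_Y placed in degree 0, with − ⊗^L E
and RHom(E, −) assumed to exist. Then Rf_* ∘ a ≅ RHom(E, −) = RHom_{O_X}(f_*O_Y, −) as functors on
D^+_QCoh(O_X) (the form f_* f^! = RHom(f_*O_Y, −) of duality for a finite morphism). -/
theorem result (Y X : Scheme.{u}) [IsNoetherian X] [IsNoetherian Y] (f : Y ⟶ X) [IsFinite f] [DCoh.HasRpush f] (hf : DCoh.RpushPreservesQCoh f) (a : DCoh.DQCoh X ⥤ DCoh.DQCoh Y) (adj : DCoh.RpushQ f hf ⊣ a) (E : CochainComplex X.Modules ℤ) (hE : Nonempty (DCoh.toD X E ≅ DCoh.inD X ((Scheme.Modules.pushforward f).obj (Coh.structureModule Y)))) [DCoh.HasLTensorCx E] [DCoh.HasRSheafHom E] : Nonempty (Dual3.bddι X ⋙ a ⋙ DCoh.RpushQ f hf ⋙ ObjectProperty.ι _ ≅ Dual3.bddι X ⋙ ObjectProperty.ι _ ⋙ DCoh.RSheafHom E) := by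
  obtain ⟨eE⟩ := hE
  obtain ⟨u⟩ := GrothLib.RightAdj22.nonempty_RR_affine_unit f
  have hc : Coh.IsCoh ((Scheme.Modules.pushforward f).obj (Coh.structureModule Y)) :=
    haveI := (GrothLib.HomSh.isCoh_structureModule Y).1
    ⟨GrothLib.QCoh.isQuasicoherent_pushforward f _,
      GrothLib.QCoh.isFiniteType_pushforward f _ (GrothLib.HomSh.isCoh_structureModule Y).2⟩
  have hpc : ∀ n : ℤ, DCoh.IsPseudoCoherentD n (DerivedCategory.Q.obj E) := fun n =>
    GrothLib.OX.isPseudoCoherentD_of_iso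
      (GrothLib.OX.isPseudoCoherentD_of_isCohD (GrothLib.RightAdj22.isCohD_inD hc) 0 n) eE.symm
  obtain ⟨e⟩ := GrothLib.RightAdj22.nonempty_finite f E ⟨eE ≪≫ u.symm⟩ hpc
  exact ⟨Functor.isoWhiskerLeft (Dual3.bddι X)
      (Functor.isoWhiskerRight (GrothLib.RightAdj22.aQUniq f hf adj) (DCoh.RpushQ f hf ⋙ ObjectProperty.ι _) ≪≫
        Functor.isoWhiskerLeft _ (Functor.isoWhiskerLeft (ObjectProperty.ι _) (GrothLib.OX.rpushIsoRres f))) ≪≫ e⟩

end Groth.Agent.S3657
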