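import Groth.Statements.S3664
import Groth.Agent.Lib.DeligneLift22.Main

set_option autoImplicit false
universe u
open CategoryTheory CategoryTheory.Limits AlgebraicGeometry
attribute [local instance] HasDerivedCategory.standard
open Dual3

namespace Groth.Agent.S3664

/-- Let j : U → X be an open immersion of Noetherian schemes (restriction to U assumed exact), I a
quasi-coherent ideal whose vanishing locus is X ∖ U, F a bounded complex of coherent O_X-modules
with Deligne system K_n = I^n F (inclusions ι_n : K_n → F), and L an object of D(O_X) with coherent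
cohomology sheaves vanishing below some degree (L is allowed to be bounded below rather than
bounded). Then colim_n Hom_X(K_n, L) = Hom_U(F|_U, L|_U): (surjectivity) every map α : F|_U → L|_U
satisfies ι_n|_U ≫ α = φ|_U for some n and some φ : K_n → L; (injectivity) if φ, ψ : K_n → L agree
after restriction to U then for some m ≥ n they agree after composition with any map K_m → K_n
compatible with the inclusions into F. -/
theorem result (U X : Scheme.{u}) [IsNoetherian U] [IsNoetherian X] (j : U ⟶ X) [IsOpenImmersion j] [∀ (U V : Scheme.{u}) (j : U ⟶ V) [IsOpenImmersion j], PreservesFiniteLimits (Scheme.Modules.restrictFunctor j)] (I : X.IdealSheafData) (hI : I.supportSetᶜ = Set.range j) (F : CochainComplex X.Modules ℤ) (lo hi : ℤ) (hF : DCoh.VanishesOutside F lo hi) (hFc : ∀ q : ℤ, Coh.IsCoh (F.X q)) (L : DCoh.D X) (hLc : DCoh.IsCohD L) (c₀ : ℤ) (hK : ∀ i : ℤ, i < c₀ → IsZero (DCoh.HD L i)) : (∀ α : (DCoh.restrictD j).obj (DCoh.toD X F) ⟶ (DCoh.restrictD j).obj L, ∃ (n : ℕ) (φ : DCoh.toD X ((Dual3.deligne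 I n).obj F) ⟶ L), (DCoh.restrictD j).map (DerivedCategory.Q.map (Dual3.deligneι I n F)) ≫ α = (DCoh.restrictD j).map φ) ∧ ∀ (n : ℕ) (φ ψ : DCoh.toD X ((Dual3.deligne I n).obj F) ⟶ L), (DCoh.restrictD j).map φ = (DCoh.restrictD j).map ψ → ∃ m : ℕ, n ≤ m ∧ ∀ t : (Dual3.deligne I m).obj F ⟶ (Dual3.deligne I n).obj F, t ≫ Dual3.deligneι I n F = Dual3.deligneι I m F → DerivedCategory.Q.map t ≫ φ = DerivedCategory.Q.map t ≫ ψ := by
  haveI : L.IsGE c₀ := (DerivedCategory.isGE_iff _ _).2 hK
  obtain ⟨K, hKge, hKq, hKi, ⟨eK⟩⟩ := GrothLib.DeligneLift22.exists_qcoh_injective_rep L c₀ (fun i => (hLc i).1)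
  haveI := hKge
  exact GrothLib.DeligneLift22.result j I F hFc hF hI K hKq (c₀ := c₀) hKi L eK

end Groth.Agent.S3664
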