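import Groth.Statements.S3670
import Groth.Agent.Lib.GorAffine22.Main
import Groth.Agent.Lib.GorAffine22.Exists
-- import your own Groth.Agent.* helpers here

set_option autoImplicit false
universe u
open CategoryTheory CategoryTheory.Limits AlgebraicGeometry
attribute [local instance] HasDerivedCategory.standard
open Dual3

namespace Groth.Agent.S3670

/-- (1) ⇔ (2) ⇔ (3) ⇔ (4): Let f : X → S be flat and locally of finite presentation, x a point of X and
d = dim_x(X_{f(x)}) the local dimension of its fibre. Then the following are equivalent: (1) f is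
Gorenstein at x; (2) there are an open neighbourhood U of x and a locally quasi-finite morphism g :
U → A^d_S over S which is Gorenstein at x; (3) there are an open neighbourhood U of x and a locally
quasi-finite Gorenstein morphism g : U → A^d_S over S; (4) for every open neighbourhood U of x and
every morphism g : U → A^d_S over S, if x is isolated in its fibre under g (g is quasi-finite at x)
then g is Gorenstein at x. -/
theorem result (X S : Scheme.{u}) (f : X ⟶ S) [Flat f] [LocallyOfFinitePresentation f] (x : X) (d : ℕ) (hd : Dual3.localFibreDim f x = (d : WithBot ℕ∞)) : (Dual3.IsGorensteinAt f x ↔ ∃ (U : X.Opens) (hx : x ∈ U) (g : (U : Scheme.{u}) ⟶ AffineSpace (ULift.{u} (Fin d)) S), g ≫ (AffineSpace (ULift.{u} (Fin d)) S ↘ S) = U.ι ≫ f ∧ LocallyQuasiFinite g ∧ Dual3.IsGorensteinAt g ⟨x, hx⟩) ∧ (Dual3.IsGorensteinAt f x ↔ ∃ (U : X.Opens) (_ : x ∈ U) (g : (U : Scheme.{u}) ⟶ AffineSpace (ULift.{u} (Fin d)) S), g ≫ (AffineSpace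 (ULift.{u} (Fin d)) S ↘ S) = U.ι ≫ f ∧ LocallyQuasiFinite g ∧ Dual3.IsGorensteinMor g) ∧ (Dual3.IsGorensteinAt f x ↔ ∀ (U : X.Opens) (hx : x ∈ U) (g : (U : Scheme.{u}) ⟶ AffineSpace (ULift.{u} (Fin d)) S), g ≫ (AffineSpace (ULift.{u} (Fin d)) S ↘ S) = U.ι ≫ f → Dual3.QuasiFiniteAt g ⟨x, hx⟩ → Dual3.IsGorensteinAt g ⟨x, hx⟩) := by
  have hd' : FlatMor.fibreDimAt f x = (d : WithBot ℕ∞) := by
    rw [← hd, Dual3.localFibreDim, FlatMor.fibreDimAt, FlatMor.localDim, iInf_subtype']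
    rfl
  obtain ⟨U₀, g₀, hx₀, hg₀, hlqf₀⟩ := GrothLib.GorAffine22.exists_lqf_toAffineSpace f x d hd'
  haveI := hlqf₀
  refine ⟨⟨fun h => ⟨U₀, hx₀, g₀, hg₀, hlqf₀,
      GrothLib.GorAffine22.isGorensteinAt_toAffineSpace f g₀ hg₀ hx₀ hd' h⟩,
    fun ⟨U, hx, g, hg, _, hG⟩ => GrothLib.GorAffine22.isGorensteinAt_of_toAffineSpace f g hg hx hG⟩, ⟨fun h => ?_,
    fun ⟨U, hx, g, hg, _, hG⟩ => GrothLib.GorAffine22.isGorensteinAt_of_toAffineSpace f g hg hx (hG _)⟩,
    ⟨fun h U hx g hg hqf => ?_, fun h => ?_⟩⟩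
  · obtain ⟨r, U₁, g₁, hx₁, hg₁, -, hlqf₁, hr⟩ := GrothLib.CMMor6.exists_chart f x (GrothLib.CurveStk.isCMAt_of_gorAt h)
    obtain rfl : r = d := by exact_mod_cast (hr x hx₁).symm.trans hd'
    let O : X.Opens := ⟨{z | Dual3.IsGorensteinAt f z}, GrothLib.CurveStk.isOpen_gorAt f⟩
    haveI := hlqf₁
    let U : X.Opens := U₁ ⊓ O
    let g := X.homOfLE (inf_le_left : U ≤ U₁) ≫ g₁
    have hg : g ≫ (AffineSpace (ULift.{u} (Fin r)) S ↘ S) = U.ι ≫ f := by
      rw [Category.assoc, hg₁, ← Category.assoc, Scheme.homOfLE_ι]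
    haveI : LocallyQuasiFinite g := inferInstanceAs (LocallyQuasiFinite (_ ≫ _))
    refine ⟨U, ⟨hx₁, h⟩, g, hg, inferInstance, fun y => ?_⟩
    exact GrothLib.GorAffine22.isGorensteinAt_toAffineSpace f g hg y.2 (hr _ y.2.1) y.2.2
  · haveI := GrothLib.GorAffine22.locallyOfFiniteType_of_over f g hg
    obtain ⟨U', hle, hx', hlqf⟩ := GrothLib.GorAffine22.exists_lqf_nhd g hx hqf
    haveI := hlqf
    have hg' : (X.homOfLE hle ≫ g) ≫ (AffineSpace (ULift.{u} (Fin d)) S ↘ S) = U'.ι ≫ f := by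
      rw [Category.assoc, hg, ← Category.assoc, Scheme.homOfLE_ι]
    have h1 := (GrothLib.GorAffine22.isGorensteinAt_openImmersion_comp_iff (X.homOfLE hle) g ⟨x, hx'⟩).1
      (GrothLib.GorAffine22.isGorensteinAt_toAffineSpace f (X.homOfLE hle ≫ g) hg' hx' hd' h)
    rwa [show X.homOfLE hle ⟨x, hx'⟩ = ⟨x, hx⟩ from U.ι.isEmbedding.injective (by
      rw [← Scheme.Hom.comp_apply, Scheme.homOfLE_ι]; rfl)] at h1
  · haveI := GrothLib.GorAffine22.locallyOfFiniteType_of_over f g₀ hg₀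
    exact GrothLib.GorAffine22.isGorensteinAt_of_toAffineSpace f g₀ hg₀ hx₀
      (h U₀ hx₀ g₀ hg₀ (g₀.quasiFiniteAt_iff_isOpen_singleton_asFiber.1 (g₀.quasiFiniteAt _)))

end Groth.Agent.S3670
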