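import Groth.Statements.S3675
import Groth.Agent.Lib.DualRing.SchemeLocus
-- import your own Groth.Agent.* helpers here

set_option autoImplicit false
universe u
open CategoryTheory CategoryTheory.Limits AlgebraicGeometry
attribute [local instance] HasDerivedCategory.standard
open Dual3

namespace Groth.Agent.S3675

/-- Let X be a locally Noetherian scheme (exactness instances as in the definition of dualizing
complexes) and ω a coherent O_X-module such that ω[0] is a dualizing complex on X. Then X is
Cohen–Macaulay: every local ring O_{X,x} is a Cohen–Macaulay local ring. -/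
theorem result (X : Scheme.{u}) [IsLocallyNoetherian X] [∀ (U V : Scheme.{u}) (j : U ⟶ V) [IsOpenImmersion j], PreservesFiniteLimits (Scheme.Modules.restrictFunctor j)] [∀ (R : CommRingCat.{u}), PreservesFiniteLimits (tilde.functor R)] (ω : X.Modules) (hω : Coh.IsCoh ω) (hD : Dual2.IsDualizingSch X (DCoh.inD X ω)) (x : X) : LocCoh.IsCohenMacaulayLocalRing (X.presheaf.stalk x) := by
  obtain ⟨V, hV, hxV, -⟩ := exists_isAffineOpen_mem_and_subset (x := x) (U := ⊤) trivial
  obtain ⟨p, hp⟩ := GrothLib.OX.mem_range_fromSpec hV hxV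
  haveI : IsLocallyNoetherian (Spec Γ(X, V)) := LocallyOfFiniteType.isLocallyNoetherian hV.fromSpec
  haveI : IsNoetherianRing Γ(X, V) := isLocallyNoetherian_Spec.1 inferInstance
  obtain ⟨ωA, hωA, h1, h2⟩ := GrothLib.DualRing.exists_chart hD hV.fromSpec
  refine hp ▸ (h2 p).2 ((GrothLib.DualRing.isCM_iff_support hωA p).2 fun i k hi hk => ?_)
  have key : ∀ l, p ∈ Module.support Γ(X, V) (Dual.HD Γ(X, V) ωA l) → l = 0 := fun l hl => by
    by_contra hne
    have hn := (h1 l p).2 hl
    have hz : IsZero (DCoh.HD (DCoh.inD X ω) l) := by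
      rcases lt_or_gt_of_ne hne with h | h
      · exact DerivedCategory.isZero_of_isGE _ 0 l h
      · exact DerivedCategory.isZero_of_isLE _ 0 l h
    have h3 : IsZero ((Scheme.Modules.toPresheaf X ⋙ TopCat.Presheaf.stalkFunctor Ab.{u} (hV.fromSpec p)).obj
        (DCoh.HD (DCoh.inD X ω) l)) := Functor.map_isZero _ hz
    exact (@not_subsingleton _ hn) (AddCommGrpCat.subsingleton_of_isZero h3)
  exact (key i hi).trans (key k hk).symm

end Groth.Agent.S3675
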