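import Groth.Statements.S3682
import Groth.Agent.Lib.Torsor21.Infinitesimal
import Groth.Agent.Lib.Neutral.Connected

set_option autoImplicit false
universe u
open Pi1

namespace Groth.Agent.S3682

open AlgebraicGeometry CategoryTheory CategoryTheory.Limits in
/-- The part saying that the homomorphism from the fundamental group of X x_k Y to the product of the
fundamental groups is surjective, in terms of covers. Let k be algebraically closed, X proper and
connected over k, Y locally Noetherian and connected over k. If X' is a connected finite etale cover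
of X and Y' a connected finite etale cover of Y, then the product of X' and Y' over k is connected. -/
theorem result (k : Type u) [Field k] [IsAlgClosed k] {X Y : Scheme.{u}}
    (pX : X ⟶ Spec (CommRingCat.of k)) (pY : Y ⟶ Spec (CommRingCat.of k)) [IsProper pX] [ConnectedSpace X]
    [IsLocallyNoetherian Y] [ConnectedSpace Y]
    (X' : FEt.Cat X) [ConnectedSpace X'.left] (Y' : FEt.Cat Y) [ConnectedSpace Y'.left] :
    ConnectedSpace ↥(pullback (X'.hom ≫ pX) (Y'.hom ≫ pY)) := by
  haveI : IsFinite X'.hom := X'.prop.1
  haveI : Nonempty ↥((𝟭 Scheme).obj X'.left) := inferInstanceAs (Nonempty ↥X'.left)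
  haveI : ConnectedSpace ↥((𝟭 Scheme).obj X'.left) := ‹ConnectedSpace ↥X'.left›
  haveI : ConnectedSpace ↥((𝟭 Scheme).obj Y'.left) := ‹ConnectedSpace ↥Y'.left›
  obtain ⟨L, _, _, _, t, ht, -⟩ := GrothLib.Torsor21.exists_finite_point (X'.hom ≫ pX)
  let e : k ≃+* L := RingEquiv.ofBijective (algebraMap k L) IsAlgClosed.algebraMap_bijective_of_isIntegral
  refine GrothLib.Neutral.connectedSpace_pullback _ _
    (Spec.map (CommRingCat.ofHom e.symm.toRingHom) ≫ t) ?_
  rw [Category.assoc, ht, ← Spec.map_comp, ← Spec.map_id]
  congr 1
  ext a
  exact e.symm_apply_apply a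

end Groth.Agent.S3682
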