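import Groth.Statements.S3683
import Groth.Agent.ConstFam21.Kunneth

set_option autoImplicit false
universe u
open Pi1

namespace Groth.Agent.S3683

open AlgebraicGeometry CategoryTheory CategoryTheory.Limits in
/-- The part saying that the homomorphism from the fundamental group of X x_k Y to the product of the
fundamental groups is injective, in terms of covers (so that, with the surjectivity part, it is an
isomorphism). Let k be algebraically closed, X proper and connected over k, Y locally Noetherian and
connected over k. Then every connected finite etale cover W of the product of X and Y admits, for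
some finite etale cover X' of X and some finite etale cover Y' of Y, a surjective morphism over the
product from the product of X' and Y'. -/
theorem result (k : Type u) [Field k] [IsAlgClosed k] {X Y : Scheme.{u}}
    (pX : X ⟶ Spec (CommRingCat.of k)) (pY : Y ⟶ Spec (CommRingCat.of k)) [IsProper pX] [ConnectedSpace X]
    [IsLocallyNoetherian Y] [ConnectedSpace Y]
    (W : FEt.Cat (pullback pX pY)) [ConnectedSpace W.left] :
    ∃ (X' : FEt.Cat X) (Y' : FEt.Cat Y) (φ : pullback (X'.hom ≫ pX) (Y'.hom ≫ pY) ⟶ W.left),
      φ ≫ W.hom = pullback.map (X'.hom ≫ pX) (Y'.hom ≫ pY) pX pY X'.hom Y'.hom (𝟙 _)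
        (Category.comp_id _) (Category.comp_id _) ∧ Surjective φ := by
  obtain ⟨X', T, hX', ⟨e⟩⟩ :=
    ConstFam21.exists_split_cover pY pX ((FEt.restrict (pullbackSymmetry pY pX).hom).obj W)
  let xh : X'.left ⟶ X := X'.hom
  let th : T.left ⟶ Y := T.hom
  let wh : W.left ⟶ pullback pX pY := W.hom
  haveI : Surjective xh := hX'
  let el : pullback th (pullback.fst pY (xh ≫ pX)) ⟶ pullback (pullback.snd wh (pullbackSymmetry pY pX).hom)
      (pullback.map pY (xh ≫ pX) pY pX (𝟙 _) xh (𝟙 _) (by simp) (by simp)) := e.hom.left
  haveI : IsIso el := ⟨e.inv.left, congr(($(e.hom_inv_id)).left), congr(($(e.inv_hom_id)).left)⟩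
  obtain ⟨φ, hφ, hs⟩ := ConstFam21.exists_surjective pX pY xh th wh el (Over.w e.hom.hom)
  exact ⟨X', T, φ, hφ, hs⟩

end Groth.Agent.S3683
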