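import Groth.Statements.S3687
import Groth.Agent.Lib.EtDescent21.UniversallyClosed

set_option autoImplicit false
open CategoryTheory CategoryTheory.Limits AlgebraicGeometry Opposite
universe u
open SGA1

namespace Groth.Agent.S3687

/-- Let g : S' ⟶ S be finite, surjective and locally of finite presentation (S arbitrary). Then every
descent datum relative to g whose underlying scheme is etale, separated and quasi-compact over S' is
isomorphic to the canonical descent datum of a scheme etale, separated and quasi-compact over S.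
(Descent data relative to g are taken in functor-of-points form.) -/
theorem result {S' S : Scheme.{u}} (g : S' ⟶ S) [IsFinite g] [Surjective g]
    [LocallyOfFinitePresentation g]
    (D : Desc.SchDD g) [QuasiCompact D.obj.hom] [IsSeparated D.obj.hom] [Etale D.obj.hom] :
    ∃ U : Over S, QuasiCompact U.hom ∧ IsSeparated U.hom ∧ Etale U.hom ∧ Nonempty ((Desc.toDD g).obj U ≅ D) := by
  obtain ⟨U, hU, h₁, h₂, ⟨e⟩⟩ : GrothLib.EtDescent21.EffEtS ((Desc.SchDDFam.ofSchDD g).obj D) := by
    haveI : Etale (GrothLib.EtDescent21.obj₀ ((Desc.SchDDFam.ofSchDD g).obj D)).hom := inferInstanceAs (Etale D.obj.hom)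
    haveI : IsSeparated (GrothLib.EtDescent21.obj₀ ((Desc.SchDDFam.ofSchDD g).obj D)).hom :=
      inferInstanceAs (IsSeparated D.obj.hom)
    haveI : QuasiCompact (GrothLib.EtDescent21.obj₀ ((Desc.SchDDFam.ofSchDD g).obj D)).hom :=
      inferInstanceAs (QuasiCompact D.obj.hom)
    exact GrothLib.EtDescent21.effEtS_of_universallyClosed _ fun A _ _ q σ₀ h₀ =>
      GrothLib.EtDescent21.exists_lift_of_etale (pullback.snd g q) _ σ₀ h₀
  exact ⟨U, h₂, h₁, hU, ⟨(Desc.SchDDFam.toSchDD g).mapIso e⟩⟩

end Groth.Agent.S3687
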