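import Groth.Statements.S3695
import Groth.Agent.SimpConn21.Main

set_option autoImplicit false
universe u
open Pi1

namespace Groth.Agent.S3695

open AlgebraicGeometry CategoryTheory CategoryTheory.Limits in
/-- Let k be an algebraically closed field and X a proper, normal, integral k-scheme which is rational:
its function field (the local ring at the generic point) is k-isomorphic to a field of rational
functions k(t_1, ..., t_r). Then X is simply connected: every finite etale cover of X is a finite
disjoint union of copies of X. (This contains the case of projective space.) -/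
theorem result (k : Type u) [Field k] [IsAlgClosed k] (X : Scheme.{u})
    [X.Over (Spec (CommRingCat.of k))] [IsProper (X ↘ Spec (CommRingCat.of k))] [IsIntegral X] (hN : Pi1.IsNormalScheme X)
    (r : ℕ)
    (e : letI := Curv2.stalkAlgebra k X (genericPoint X)
      X.presheaf.stalk (genericPoint X) ≃ₐ[k] FractionRing (MvPolynomial (Fin r) k))
    (Y : FEt.Cat X) : Pi1.IsSplit Y := by
  letI := Curv2.stalkAlgebra k X (genericPoint X)
  obtain ⟨Ω, _, _, ξ, N, h1, hN'⟩ := GrothLib.SimpConn21.exists_bound k hN
    (GrothLib.SimpConn21.fg_top_fractionRing k r)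
    (fun a0 ha0 Ω _ π Z z hz => GrothLib.SimpConn21.exists_rational_lift k _ r a0 ha0 π Z z hz)
    e.toAlgHom.toRingHom e.toAlgHom.comp_algebraMap
  haveI : IsLocallyNoetherian X := LocallyOfFiniteType.isLocallyNoetherian (X ↘ Spec (CommRingCat.of k))
  refine GrothLib.SimpConn21.isSplit_of_sect (GrothLib.SimpConn21.sect_of_connected fun W hW => ?_) ξ Y
  exact GrothLib.SimpConn21.isIso_of_card_le_one W ξ ((hN' W hW).trans (h1 e.surjective).le)

end Groth.Agent.S3695
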