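import Groth.Statements.S3698
import Groth.Agent.AbCover21.Field
import Mathlib.AlgebraicGeometry.EffectiveEpi

set_option autoImplicit false
universe u
open CategoryTheory MonoidalCategory CartesianMonoidalCategory MonObj GrpObj AlgebraicGeometry
open Pi1

namespace Groth.Agent.S3698

set_option backward.isDefEq.respectTransparency false
open CategoryTheory.Limits

/-- The fundamental group of an abelian variety, in the form underlying its computation: let k be an
algebraically closed field and A an abelian variety over k (a proper, geometrically integral group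
scheme over k). Then every connected finite étale cover Z → A is dominated by a multiplication map:
for some integer d ≥ 1 there is a morphism A → Z over A, where A is viewed as a scheme over A
through multiplication by d. (Multiplication by d is the d-th power of the identity in the group
Hom(A, A); consequently the fundamental group of A is the inverse limit of the groups of k-points of
the kernels of these multiplications.) -/
theorem result (k : Type u) [Field k] [IsAlgClosed k]
    (A : Over (Spec (CommRingCat.of k))) [GrpObj A] [IsProper A.hom] [GeometricallyIntegral A.hom]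
    (Z : FEt.Cat A.left) [ConnectedSpace Z.left] :
    ∃ d : ℕ, 1 ≤ d ∧ ∃ ψ : A.left ⟶ Z.left, ψ ≫ Z.hom = ((𝟙 A) ^ (d : ℤ)).left := by
  classical
  haveI : IsIntegral A.left := GeometricallyIntegral.isIntegral_of_subsingleton A.hom
  let φl : Z.left ⟶ A.left := Z.hom
  haveI : IsFinite φl := Z.prop.1
  haveI : Etale φl := Z.prop.2
  let Y : Over (Spec (CommRingCat.of k)) := Over.mk (φl ≫ A.hom)
  let φ : Y ⟶ A := Over.homMk φl rfl
  haveI : IsFinite φ.left := ‹IsFinite φl›
  haveI : Etale φ.left := ‹Etale φl›
  haveI : ConnectedSpace Y.left := ‹ConnectedSpace Z.left›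
  obtain ⟨inst, hφ⟩ := AbCover21.exists_grpObj_field A Y φ
  letI := inst
  haveI := hφ
  haveI : GeometricallyReduced A.hom := inferInstance
  haveI : Flat A.hom := GrothLib.DiagGrp.flat_of_field _
  haveI : IsProper Y.hom := inferInstanceAs (IsProper (φl ≫ A.hom))
  haveI : Flat Y.hom := GrothLib.DiagGrp.flat_of_field _
  haveI : GeometricallyReduced Y.hom := SectDescent21.geometricallyReduced_comp_etale A.hom φl
  haveI : GeometricallyConnected Y.hom := Groth.Agent.S2501.result Y.hom
  let F := IsMonHom.monoidHom φ (𝟙_ (Over (Spec (CommRingCat.of k))))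
  haveI : Finite F.ker := by
    refine Finite.of_injective (β := FEt.fiberObj η[A].left Z) (fun n => ⟨n.1.left, ?_⟩) fun a b e => ?_
    · have : n.1 ≫ φ = η[A] := by
        have := (MonoidHom.mem_ker).1 n.2
        simpa [F, Hom.one_def, toUnit_unique (toUnit (𝟙_ (Over (Spec (CommRingCat.of k))))) (𝟙 _)] using this
      exact congrArg CommaMorphism.left this
    · exact Subtype.ext (Over.OverMorphism.ext (congrArg Subtype.val e))
  let d := Nat.card F.ker
  have hd : 1 ≤ d := Nat.card_pos
  have hker : ∀ n : 𝟙_ (Over (Spec (CommRingCat.of k))) ⟶ Y, n ≫ φ = 1 → n ^ d = 1 := fun n hn =>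
    congrArg Subtype.val (pow_card_eq_one' (x := (⟨n, (MonoidHom.mem_ker).2 hn⟩ : F.ker)))
  -- translating by a point of the kernel does not change the power
  have htr : ∀ n : 𝟙_ (Over (Spec (CommRingCat.of k))) ⟶ Y, n ≫ φ = 1 →
      ((𝟙 Y) * (toUnit Y ≫ n)) ^ d = (𝟙 Y) ^ d := by
    intro n hn
    refine AbCover21.eq_of_agree_over φ (toUnit Y) (show GeometricallyConnected Y.hom from inferInstance) η[Y]
      (toUnit_unique _ _) _ _ ?_ ?_
    · rw [MonObj.pow_comp, MonObj.pow_comp, MonObj.mul_comp, Category.assoc, hn, MonObj.comp_one,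
        _root_.mul_one]
    · have e1 : η[Y] ≫ toUnit Y = 𝟙 _ := toUnit_unique _ _
      have e2 : η[Y] = (1 : 𝟙_ (Over (Spec (CommRingCat.of k))) ⟶ Y) := by
        rw [Hom.one_def, toUnit_unique (toUnit (𝟙_ (Over (Spec (CommRingCat.of k))))) (𝟙 _), Category.id_comp]
      rw [MonObj.comp_pow, MonObj.comp_pow, MonObj.comp_mul, Category.comp_id, ← Category.assoc, e1,
        Category.id_comp, e2, _root_.one_mul, hker n hn, _root_.one_pow]
  let P := pullback φl φl
  let pw : Y ⟶ Y := (𝟙 Y) ^ d
  let a : P ⟶ Y.left := pullback.fst φl φl ≫ pw.left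
  let b : P ⟶ Y.left := pullback.snd φl φl ≫ pw.left
  have hpw : pw.left ≫ φl = φl ≫ ((𝟙 A) ^ (d : ℤ)).left := by
    have : pw ≫ φ = φ ≫ ((𝟙 A) ^ (d : ℤ)) := by
      rw [zpow_natCast, MonObj.pow_comp, MonObj.comp_pow, Category.id_comp, Category.comp_id]
    exact congrArg CommaMorphism.left this
  have hab : a = b := by
    let l : P ⟶ Limits.pullback φl φl := pullback.lift a b (by
      simp only [a, b, Category.assoc, hpw]; rw [pullback.condition_assoc])
    let Δ : Z.left ⟶ Limits.pullback φl φl := pullback.lift (𝟙 _) (𝟙 _) rfl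
    have hΔ : Δ ≫ pullback.snd φl φl = 𝟙 _ := pullback.lift_snd _ _ _
    haveI := GrothLib.EtBasicB.isOpenImmersion_section (pullback.snd φl φl) Δ hΔ
    have hc := (GrothLib.EtBasicB.isClopen_range_section (pullback.snd φl φl) Δ hΔ).preimage l.continuous
    let pP : P ⟶ Spec (CommRingCat.of k) := pullback.fst φl φl ≫ φl ≫ A.hom
    haveI : JacobsonSpace ↥(Spec (CommRingCat.of k)) := inferInstanceAs (JacobsonSpace (PrimeSpectrum k))
    haveI : JacobsonSpace ↥P := LocallyOfFiniteType.jacobsonSpace pP
    have hr : Set.range l ⊆ Set.range Δ := by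
      rintro _ ⟨x, rfl⟩
      by_contra hx
      obtain ⟨c, hcU, hcc⟩ := nonempty_inter_closedPoints (Z := (l ⁻¹' Set.range Δ)ᶜ) ⟨x, hx⟩
        hc.compl.2.isLocallyClosed
      apply hcU
      let t := pointOfClosedPoint pP c hcc
      have ht : t ≫ pP = 𝟙 _ := pointOfClosedPoint_comp _ c hcc
      let y₁ : 𝟙_ (Over (Spec (CommRingCat.of k))) ⟶ Y := Over.homMk (t ≫ pullback.fst φl φl) (by
        exact (Category.assoc _ _ _).trans ht)
      let y₂ : 𝟙_ (Over (Spec (CommRingCat.of k))) ⟶ Y := Over.homMk (t ≫ pullback.snd φl φl) (by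
        show (t ≫ pullback.snd φl φl) ≫ φl ≫ A.hom = _
        rw [Category.assoc, ← pullback.condition_assoc]; exact ht)
      have h12 : y₁ ≫ φ = y₂ ≫ φ := Over.OverMorphism.ext (by
        show (t ≫ pullback.fst φl φl) ≫ φl = (t ≫ pullback.snd φl φl) ≫ φl
        rw [Category.assoc, Category.assoc, pullback.condition])
      let n := y₁⁻¹ * y₂
      have hn : n ≫ φ = 1 := by
        show F (y₁⁻¹ * y₂) = 1
        have : F y₁ = F y₂ := h12
        rw [map_mul, map_inv, this, inv_mul_cancel]
      have := congrArg (y₁ ≫ ·) (htr n hn)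
      simp only [MonObj.comp_pow, MonObj.comp_mul, Category.comp_id] at this
      rw [← Category.assoc, toUnit_unique (y₁ ≫ toUnit Y) (𝟙 _), Category.id_comp] at this
      simp only [n, mul_inv_cancel_left] at this
      have h3 : y₂ ≫ pw = y₁ ≫ pw := by
        rw [MonObj.comp_pow, MonObj.comp_pow, Category.comp_id, Category.comp_id]; exact this
      have h4 : t ≫ a = t ≫ b := by
        have := congrArg CommaMorphism.left h3.symm
        exact ((Category.assoc _ _ _).symm.trans this).trans (Category.assoc _ _ _)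
      let pt : ↥(Spec (CommRingCat.of k)) := IsLocalRing.closedPoint k
      refine ⟨(t ≫ a) pt, ?_⟩
      have h5 : t ≫ l = (t ≫ a) ≫ Δ := by
        apply pullback.hom_ext <;> simp [l, Δ, h4]
        all_goals exact congrArg (t ≫ ·) (Category.comp_id b).symm
      exact (Scheme.Hom.comp_apply _ _ pt).symm.trans ((congrArg (fun g : Spec (CommRingCat.of k) ⟶ _ => g pt) h5.symm).trans
        ((Scheme.Hom.comp_apply _ _ pt).trans (congrArg l (pointOfClosedPoint_apply _ c hcc pt))))
    have hl := IsOpenImmersion.lift_fac Δ l hr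
    have h1 := congrArg (· ≫ pullback.fst φl φl) hl
    have h2 := congrArg (· ≫ pullback.snd φl φl) hl
    simp only [Δ, l, Category.assoc, pullback.lift_fst, pullback.lift_snd, Category.comp_id] at h1 h2
    exact h1.symm.trans h2
  haveI : Surjective φl := ⟨fun x => by
    obtain ⟨z⟩ := GrothLib.FEt21.nonempty_fiber (GrothLib.FEt21.geomPt A.left x) Z
      (inferInstance : ConnectedSpace Z.left).toNonempty.some
    obtain ⟨z', hz'⟩ : ∃ z' : Spec _ ⟶ Z.left, z' ≫ φl = GrothLib.FEt21.geomPt A.left x := ⟨z.1, z.2⟩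
    exact ⟨z' default, by rw [← Scheme.Hom.comp_apply, hz', GrothLib.FEt21.geomPt_default]⟩⟩
  haveI : Limits.HasPullback φl φl := inferInstance
  have key : ∀ {W : Scheme.{u}} (g₁ g₂ : W ⟶ Z.left), g₁ ≫ φl = g₂ ≫ φl → g₁ ≫ pw.left = g₂ ≫ pw.left :=
    fun g₁ g₂ e => by simpa [a, b] using congrArg (pullback.lift g₁ g₂ e ≫ ·) hab
  refine ⟨d, hd, EffectiveEpi.desc φl pw.left key, ?_⟩
  haveI : Epi φl := inferInstance
  rw [← cancel_epi φl, ← Category.assoc, EffectiveEpi.fac]
  exact hpw

end Groth.Agent.S3698
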