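import Groth.Statements.S3829
import Groth.Agent.Lib.SmoothRegLift4.Alg
import Groth.Agent.Lib.UnramLoc9.Charts

set_option autoImplicit false
universe u
open CategoryTheory CategoryTheory.Limits AlgebraicGeometry TopologicalSpace
open Unram17

namespace Groth.Agent.S3829

/-- c) implies a) (case of a closed immersion): let f : X → S and h : Y → S be locally of finite
presentation, j : Y → X a closed immersion over S and y a point of Y. If h is smooth on a
neighbourhood of y and, on some affine open neighbourhood of j(y) in X, the ideal of j is generated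
by a regular sequence (j is a regular immersion near y), then f is smooth on an open neighbourhood
of j(y). -/
theorem result {X Y S : Scheme.{u}} (f : X ⟶ S) (h : Y ⟶ S)
    [LocallyOfFinitePresentation f] [LocallyOfFinitePresentation h] (j : Y ⟶ X) [IsClosedImmersion j]
    (hj : j ≫ f = h) (y : ↥Y) (hy : ∃ V : Y.Opens, y ∈ V ∧ Smooth (V.ι ≫ h))
    (hreg : ∃ (U : X.Opens) (hU : IsAffineOpen U), j y ∈ U ∧
      ∃ rs : List Γ(X, U), RingTheory.Sequence.IsRegular Γ(X, U) rs ∧ j.ker.ideal ⟨U, hU⟩ = Ideal.ofList rs) :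
    ∃ U : X.Opens, j y ∈ U ∧ Smooth (U.ι ≫ f) := by
  obtain ⟨U, hU, hjU, rs, hrs, hker⟩ := hreg
  obtain ⟨V₀, hyV₀, hV₀⟩ := hy
  obtain ⟨V, hV, hfV, -⟩ := exists_isAffineOpen_mem_and_subset
    (show f (j y) ∈ (⊤ : S.Opens) from trivial)
  obtain ⟨r, hrle, hrmem⟩ := hU.exists_basicOpen_le (V := U ⊓ f ⁻¹ᵁ V) ⟨j y, ⟨hjU, hfV⟩⟩ hjU
  set D := X.basicOpen r with hD
  have hDaff : IsAffineOpen D := hU.basicOpen r
  have e : D ≤ f ⁻¹ᵁ V := hrle.trans inf_le_right
  have hW : IsAffineOpen (j ⁻¹ᵁ D) := hDaff.preimage j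
  have e' : j ⁻¹ᵁ D ≤ h ⁻¹ᵁ V := by
    intro z hz
    show h z ∈ V
    rw [← hj, Scheme.Hom.comp_apply]
    exact e hz
  letI : Algebra Γ(S, V) Γ(X, D) := (f.appLE V D e).hom.toAlgebra
  letI : Algebra Γ(S, V) Γ(Y, j ⁻¹ᵁ D) := (h.appLE V (j ⁻¹ᵁ D) e').hom.toAlgebra
  haveI : Algebra.FinitePresentation Γ(S, V) Γ(X, D) := f.finitePresentation_appLE hV hDaff e
  haveI : Algebra.FinitePresentation Γ(S, V) Γ(Y, j ⁻¹ᵁ D) := h.finitePresentation_appLE hV hW e'
  have hcomm : f.appLE V D e ≫ j.app D = h.appLE V (j ⁻¹ᵁ D) e' := by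
    subst hj
    rw [j.app_eq_appLE, Scheme.Hom.appLE_comp_appLE]
  let π : Γ(X, D) →ₐ[Γ(S, V)] Γ(Y, j ⁻¹ᵁ D) :=
    { (j.app D).hom with commutes' := fun a => ConcreteCategory.congr_hom hcomm a }
  have hπ : Function.Surjective π := Scheme.Hom.app_surjective j D hDaff
  haveI := hU.isLocalization_basicOpen r
  let g : Fin rs.length → Γ(X, D) := fun i => algebraMap Γ(X, U) Γ(X, D) rs[i]
  have hreg' : Groth.Agent.Lib.SmoothRegLift4.IsRegMod (⊥ : Ideal Γ(X, D)) g := by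
    have := (Groth.Agent.Lib.SmoothRegLift4.isRegMod_bot_of_isWeaklyRegular
      hrs.toIsWeaklyRegular).map (P' := Γ(X, D)) (Submonoid.powers r)
    rwa [Ideal.map_bot] at this
  have hkerπ : RingHom.ker π = Ideal.span (Set.range g) := by
    have h1 := j.ker.map_ideal_basicOpen ⟨U, hU⟩ r
    rw [hker, Ideal.ofList, Ideal.map_span] at h1
    have h2 : j.ker.ideal (X.affineBasicOpen (U := ⟨U, hU⟩) r) = RingHom.ker (j.app D).hom :=
      j.ker_apply _
    rw [h2] at h1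
    refine h1.symm.trans (congrArg Ideal.span ?_)
    ext x
    simp only [Set.mem_image, Set.mem_setOf_eq, Set.mem_range, g, List.mem_iff_getElem]
    constructor
    · rintro ⟨a, ⟨i, hi, rfl⟩, rfl⟩; exact ⟨⟨i, hi⟩, rfl⟩
    · rintro ⟨i, rfl⟩; exact ⟨_, ⟨i.1, i.2, rfl⟩, rfl⟩
  let q : Ideal Γ(X, D) := RingHom.ker (X.evaluation D (j y) hrmem).hom
  haveI : q.IsPrime := RingHom.ker_isPrime _
  let Q : Ideal Γ(Y, j ⁻¹ᵁ D) := RingHom.ker (Y.evaluation (j ⁻¹ᵁ D) y hrmem).hom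
  haveI : Q.IsPrime := RingHom.ker_isPrime _
  have hq : q = Q.comap π.toRingHom := by
    ext a
    rw [Ideal.mem_comap]
    refine (X.evaluation_eq_zero_iff_notMem_basicOpen (j y) hrmem a).trans
      (Iff.trans ?_ (Y.evaluation_eq_zero_iff_notMem_basicOpen (U := j ⁻¹ᵁ D) y hrmem (π a)).symm)
    refine not_congr (Iff.trans ?_ (SetLike.ext_iff.mp (Scheme.preimage_basicOpen j a) y))
    rfl
  obtain ⟨s, hsle, hsmem⟩ := hW.exists_basicOpen_le (V := j ⁻¹ᵁ D ⊓ V₀) ⟨y, ⟨hrmem, hyV₀⟩⟩ hrmem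
  haveI : Algebra.IsSmoothAt Γ(S, V) Q := by
    have e'' : Y.basicOpen s ≤ h ⁻¹ᵁ V := (Y.basicOpen_le s).trans e'
    have hs' : Smooth ((Y.basicOpen s).ι ≫ h) := by
      rw [show (Y.basicOpen s).ι ≫ h = Y.homOfLE (hsle.trans inf_le_right) ≫ V₀.ι ≫ h by simp]
      infer_instance
    have h1 : (h.appLE V (Y.basicOpen s) e'').hom.Smooth :=
      GrothLib.UnramLoc9.appLE_prop_of_restrict (P := @Smooth) h (hW.basicOpen s) hV e'' hs'
    letI : Algebra Γ(S, V) Γ(Y, Y.basicOpen s) := (h.appLE V (Y.basicOpen s) e'').hom.toAlgebra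
    haveI : Algebra.Smooth Γ(S, V) Γ(Y, Y.basicOpen s) := h1
    haveI := hW.isLocalization_basicOpen s
    haveI : IsScalarTower Γ(S, V) Γ(Y, j ⁻¹ᵁ D) Γ(Y, Y.basicOpen s) := by
      refine IsScalarTower.of_algebraMap_eq fun a => ?_
      change h.appLE V (Y.basicOpen s) e'' a =
        Y.presheaf.map (homOfLE (Y.basicOpen_le s)).op (h.appLE V (j ⁻¹ᵁ D) e' a)
      rw [← CommRingCat.comp_apply, Scheme.Hom.appLE_map]
    haveI : Algebra.Smooth Γ(S, V) (Localization.Away s) :=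
      Algebra.Smooth.of_equiv ((IsLocalization.algEquiv (Submonoid.powers s)
        Γ(Y, Y.basicOpen s) (Localization.Away s)).restrictScalars Γ(S, V))
    have hsQ : s ∉ Q := fun hs =>
      (Y.evaluation_eq_zero_iff_notMem_basicOpen y hrmem s).mp hs hsmem
    exact (Algebra.basicOpen_subset_smoothLocus_iff.mpr inferInstance :
      ↑(PrimeSpectrum.basicOpen s) ⊆ Algebra.smoothLocus Γ(S, V) Γ(Y, j ⁻¹ᵁ D))
        (a := ⟨Q, inferInstance⟩) hsQ
  haveI : Algebra.IsSmoothAt Γ(S, V) q :=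
    Groth.Agent.Lib.SmoothRegLift4.isSmoothAt_of_isRegMod π hπ g hreg' hkerπ Q q hq
  obtain ⟨t, htq, ht⟩ := Algebra.IsSmoothAt.exists_notMem_smooth Γ(S, V) q
  have htmem : j y ∈ X.basicOpen t := by
    by_contra hn
    exact htq ((X.evaluation_eq_zero_iff_notMem_basicOpen (j y) hrmem t).mpr hn)
  have et : X.basicOpen t ≤ f ⁻¹ᵁ V := (X.basicOpen_le t).trans e
  refine ⟨X.basicOpen t, htmem, GrothLib.LocProp.exists_nhd_of_appLE (P := @Smooth)
    (fun _ => inferInstance) f V hV (X.basicOpen t) (hDaff.basicOpen t) et ?_⟩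
  letI : Algebra Γ(S, V) Γ(X, X.basicOpen t) := (f.appLE V (X.basicOpen t) et).hom.toAlgebra
  haveI := hDaff.isLocalization_basicOpen t
  haveI : IsScalarTower Γ(S, V) Γ(X, D) Γ(X, X.basicOpen t) := by
    refine IsScalarTower.of_algebraMap_eq fun a => ?_
    change f.appLE V (X.basicOpen t) et a =
      X.presheaf.map (homOfLE (X.basicOpen_le t)).op (f.appLE V D e a)
    rw [← CommRingCat.comp_apply, Scheme.Hom.appLE_map]
  exact (Algebra.Smooth.of_equiv ((IsLocalization.algEquiv (Submonoid.powers t)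
    (Localization.Away t) Γ(X, X.basicOpen t)).restrictScalars Γ(S, V)) :
      Algebra.Smooth Γ(S, V) Γ(X, X.basicOpen t))

end Groth.Agent.S3829
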