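import Groth.Statements.S3700
import Groth.Agent.Lib.CIMor.Immersion
import Groth.Agent.Lib.CIPres.Relative
import Groth.Agent.Lib.CotTangent.Scheme
import Groth.Agent.Lib.CInt17.Near
import Groth.Agent.S3829
-- import your own Groth.Agent.* helpers here

set_option autoImplicit false
set_option linter.all false
set_option backward.isDefEq.respectTransparency false
universe u
open SGA1

namespace Groth.Agent.S3700

open AlgebraicGeometry CategoryTheory CategoryTheory.Limits in
/-- Let S be locally Noetherian, f : X -> S locally of finite type, Y the closed subscheme of X defined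
by a quasi-coherent ideal, and x a point of Y at which Y is smooth over S. Then X is smooth over S
at x if and only if the closed immersion of Y in X is regular at x, that is, the kernel of O_{X,x}
-> O_{Y,x} is generated by a regular sequence. (Smoothness at a point is membership in Mathlib's
smooth locus, the set of points where the map of local rings is formally smooth.) -/
theorem result {X S : Scheme.{u}} [IsLocallyNoetherian S] (f : X ⟶ S)
    [LocallyOfFiniteType f] [LocallyOfFinitePresentation f] (I : X.IdealSheafData)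
    [LocallyOfFinitePresentation (I.subschemeι ≫ f)] (x : ↥I.subscheme) (hY : x ∈ (I.subschemeι ≫ f).smoothLocus) :
    I.subschemeι.base x ∈ f.smoothLocus ↔ CInt.IsRegularIdeal (RingHom.ker (I.subschemeι.stalkMap x).hom) := by
  haveI : IsLocallyNoetherian X := LocallyOfFiniteType.isLocallyNoetherian f
  set h := I.subschemeι ≫ f with hh
  have sm : ∀ {Z : Scheme.{u}} (g : Z ⟶ S) [LocallyOfFinitePresentation g] (V : Z.Opens),
      V ≤ g.smoothLocus → Smooth (V.ι ≫ g) := fun g _ V hV => by
    rw [← Scheme.Hom.smoothLocus_eq_top_iff, ← Scheme.Hom.preimage_smoothLocus_eq]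
    exact top_le_iff.1 fun y _ => hV y.2
  constructor
  · intro hX
    obtain ⟨O, hO, hOeq⟩ := I.subschemeι.isClosedEmbedding.isInducing.isOpen_iff.1 h.smoothLocus.2
    let W : X.Opens := f.smoothLocus ⊓ ⟨O, hO⟩
    have hxW : I.subschemeι x ∈ W := ⟨hX, (Set.ext_iff.1 hOeq x).2 hY⟩
    let j := I.subschemeι ∣_ W
    haveI : IsClosedImmersion j := IsZariskiLocalAtTarget.restrict (inferInstanceAs (IsClosedImmersion I.subschemeι)) W
    haveI : Smooth (W.ι ≫ f) := sm f W inf_le_left
    have hjf : j ≫ W.ι ≫ f = (I.subschemeι ⁻¹ᵁ W).ι ≫ h := by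
      rw [← Category.assoc, morphismRestrict_ι, Category.assoc]
    haveI : Smooth (j ≫ W.ι ≫ f) := by
      rw [hjf]
      exact sm h _ fun y hy => (Set.ext_iff.1 hOeq y).1 hy.2
    let z : ↑(I.subschemeι ⁻¹ᵁ W) := ⟨x, hxW⟩
    have hreg : ∀ {Z : Scheme.{u}} (g : Z ⟶ S) [Smooth g] (w : Z), IsRegularLocalRing (CInt.fiberStalk g w) := by
      intro Z g _ w
      haveI : Smooth (g.fiberToSpecResidueField (g w)) := MorphismProperty.pullback_snd _ _ ‹_›
      exact GrothLib.CotTangent.isRegularLocalRing_stalk (k := S.residueField (g w))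
        (g.fiberToSpecResidueField (g w)) _
    haveI := hreg (W.ι ≫ f) (j z)
    haveI := hreg (j ≫ W.ι ≫ f) z
    obtain ⟨U, hzU, rs, hrs, hI⟩ := (GrothLib.RegSeqLoc.exists_open_iff j z).1
      (GrothLib.CIMor.regular_of_ci_fiberStalk (W.ι ≫ f) j z (GrothLib.CIPres.isCI_of_regular _))
    refine (GrothLib.CInt17.near_iff I.subschemeι x).1 ((GrothLib.RegSeqLoc.exists_open_iff I.subschemeι x).2
      ⟨⟨W.ι ''ᵁ U.1, U.2.image_of_isOpenImmersion W.ι⟩, ⟨_, hzU, ?_⟩, rs, hrs, ?_⟩)
    · exact congrArg (fun g : (I.subschemeι ⁻¹ᵁ W).toScheme ⟶ X => g z) (morphismRestrict_ι I.subschemeι W)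
    · rw [Scheme.Hom.ker_apply] at hI
      rw [Scheme.Hom.ker_apply, ← GrothLib.RegSeqLoc.ker_app_morphismRestrict]
      exact hI
  · intro hR
    obtain ⟨U, hzU, rs, hrs, hI⟩ := (GrothLib.RegSeqLoc.exists_open_iff I.subschemeι x).1
      ((GrothLib.CInt17.near_iff I.subschemeι x).2 hR)
    obtain ⟨U', hxU', hU'⟩ := Groth.Agent.S3829.result f h I.subschemeι rfl x
      ⟨h.smoothLocus, hY, sm h _ le_rfl⟩ ⟨U.1, U.2, hzU, rs, hrs, hI⟩
    haveI := hU'
    have := (Scheme.Hom.preimage_smoothLocus_eq U'.ι f).trans (U'.ι ≫ f).smoothLocus_eq_top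
    exact (SetLike.ext_iff.1 this ⟨_, hxU'⟩).2 trivial

end Groth.Agent.S3700
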