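import Groth.Statements.S3707
import Mathlib.AlgebraicGeometry.Morphisms.FormallyUnramified
import Mathlib.AlgebraicGeometry.Morphisms.UnderlyingMap
import Mathlib.AlgebraicGeometry.PullbackCarrier

set_option autoImplicit false
universe u
open SGA1

namespace Groth.Agent.S3707

open AlgebraicGeometry CategoryTheory CategoryTheory.Limits in
/-- Let g : S' -> S be a surjective morphism of schemes, X and Y schemes over S with Y unramified over S
(formally unramified and locally of finite type), and X', Y' their base changes to S'. Then the map
sending an S-morphism X -> Y to the induced S'-morphism X' -> Y' is injective. -/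
theorem result {S S' X Y : Scheme.{u}} (g : S' ⟶ S) [Surjective g]
    (p : X ⟶ S) (q : Y ⟶ S) [FormallyUnramified q] [LocallyOfFiniteType q]
    (u v : X ⟶ Y) (hu : p ≫ 𝟙 S = u ≫ q) (hv : p ≫ 𝟙 S = v ≫ q)
    (h : pullback.map p g q g u (𝟙 S') (𝟙 S) hu ((Category.comp_id _).trans (Category.id_comp _).symm) =
      pullback.map p g q g v (𝟙 S') (𝟙 S) hv ((Category.comp_id _).trans (Category.id_comp _).symm)) :
    u = v := by
  have hu' : u ≫ q = p := hu.symm.trans (Category.comp_id p)
  have hv' : v ≫ q = p := hv.symm.trans (Category.comp_id p)
  let j := pullback.fst (pullback.lift u v (hu'.trans hv'.symm)) (pullback.diagonal q)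
  haveI : IsOpenImmersion j := MorphismProperty.pullback_fst _ _ inferInstance
  haveI : Surjective (pullback.fst p g) := MorphismProperty.pullback_fst _ _ inferInstance
  have hfac : pullback.fst p g ≫ u = pullback.fst p g ≫ v := by
    have := congrArg (· ≫ pullback.fst q g) h
    simpa only [pullback.map, pullback.lift_fst] using this
  haveI : Surjective j := ⟨fun x => by
    obtain ⟨x', rfl⟩ := (pullback.fst p g).surjective x
    refine ⟨pullback.lift (pullback.fst p g) (pullback.fst p g ≫ u) ?_ x', ?_⟩
    · refine pullback.hom_ext ?_ ?_
      · simp only [Category.assoc, pullback.diagonal_fst, Category.comp_id]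
        exact congrArg (pullback.fst p g ≫ ·) (pullback.lift_fst _ _ _)
      · simp only [Category.assoc, pullback.diagonal_snd, Category.comp_id]
        exact (congrArg (pullback.fst p g ≫ ·) (pullback.lift_snd _ _ _)).trans hfac.symm
    · rw [← Scheme.Hom.comp_apply, pullback.lift_fst]⟩
  haveI : IsIso j := (isIso_iff_isOpenImmersion_and_epi_base _).2 ⟨inferInstance,
      (TopCat.epi_iff_surjective _).2 j.surjective⟩
  refine (cancel_epi j).1 ?_
  have h1 := congrArg (· ≫ pullback.fst q q) (pullback.condition (f := pullback.lift u v (hu'.trans hv'.symm)) (g := pullback.diagonal q))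
  have h2 := congrArg (· ≫ pullback.snd q q) (pullback.condition (f := pullback.lift u v (hu'.trans hv'.symm)) (g := pullback.diagonal q))
  simp only [Category.assoc, pullback.lift_fst, pullback.lift_snd, pullback.diagonal_fst,
    pullback.diagonal_snd, Category.comp_id] at h1 h2
  exact h1.trans h2.symm

end Groth.Agent.S3707
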