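import Groth.Statements.S3710
import Groth.Agent.Lib.KumSmooth21.Basic
-- import your own Groth.Agent.* helpers here

set_option autoImplicit false
open CategoryTheory CategoryTheory.Limits AlgebraicGeometry
universe u
open SGA1t

namespace Groth.Agent.S3710

/-- Let f : X -> S and φ_1, ..., φ_r cut out a strict normal crossings divisor relative to S, x a point
where some φ_i vanishes, A = O_{X,x}, and n_i ≥ 1 integers for the indices i with φ_i(x) = 0 (no
condition on the residue characteristic). Then the Kummer scheme X' = Spec A[T_i]/(T_i^{n_i} - φ_i)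
is smooth over S at its point x' over x: the homomorphism from the local ring of S at the image
point to the local ring of X' at x' is formally smooth. -/
theorem result {X S : Scheme.{u}} (f : X ⟶ S) {r : ℕ} (φ : Fin r → Γ(X, ⊤))
    (hD : SGA1t.IsRelSNC f φ) (x : X) (hx : Nonempty (SGA1t.vanishingAt φ x))
    (n : SGA1t.vanishingAt φ x → ℕ) (hn1 : ∀ i, 1 ≤ n i) :
    letI A := X.presheaf.stalk x
    letI a : SGA1t.vanishingAt φ x → A := fun i => (X.presheaf.germ ⊤ x trivial).hom (φ i.1)
    letI π : Spec (CommRingCat.of (SGA1t.kummer A a n)) ⟶ Spec (CommRingCat.of A) :=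
      Spec.map (CommRingCat.ofHom (algebraMap A (SGA1t.kummer A a n)))
    ∀ x' : Spec (CommRingCat.of (SGA1t.kummer A a n)), π.base x' = IsLocalRing.closedPoint A →
      ((π ≫ X.fromSpecStalk x ≫ f).stalkMap x').hom.FormallySmooth := by
  intro x' hx'
  obtain ⟨W, hxW, d, v, e, he, het, hv⟩ := hD x hx
  exact GrothLib.KumSmooth21.formallySmooth f φ x W hxW d v e he het hv n x' hx'

end Groth.Agent.S3710
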