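import Groth.Statements.S3711
import Groth.Agent.Lib.TameGalois21.Basic
import Groth.Agent.Lib.TameGalois21.Scheme
import Groth.Agent.Lib.CycDiv.Stalk

set_option autoImplicit false
open CategoryTheory CategoryTheory.Limits AlgebraicGeometry
universe u
open SGA1t

namespace Groth.Agent.S3711

open AlgebraicGeometry CategoryTheory CategoryTheory.Limits

/-- The residue field of a proper generization in a DVR local ring is its fraction field. -/
theorem isFractionRing_residue {Y : Scheme.{u}} {y v : Y} (h : v ⤳ y) (hne : v ≠ y) [IsDomain (Y.presheaf.stalk y)]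
    [IsDiscreteValuationRing (Y.presheaf.stalk y)] :
    letI := ((Y.residue v).hom.comp (Y.presheaf.stalkSpecializes h).hom).toAlgebra
    IsFractionRing (Y.presheaf.stalk y) (Y.residueField v) := by
  let g := (Y.residue v).hom.comp (Y.presheaf.stalkSpecializes h).hom
  letI := g.toAlgebra
  have hbot : GrothLib.CycDiv.primeOf h = ⊥ := by
    by_contra hb
    have hmax : GrothLib.CycDiv.primeOf h = IsLocalRing.maximalIdeal (Y.presheaf.stalk y) :=
      IsLocalRing.eq_maximalIdeal (Ideal.IsPrime.isMaximal inferInstance hb)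
    refine hne (Specializes.antisymm h ?_).eq
    rw [specializes_iff_forall_open]
    intro V hV hvV
    obtain ⟨U, hU, hyU, -⟩ := exists_isAffineOpen_mem_and_subset (x := y) (U := ⊤) trivial
    have hvU : v ∈ U := h.mem_open U.2 hyU
    obtain ⟨a, haV, hva⟩ := hU.exists_basicOpen_le (V := ⟨V, hV⟩) ⟨v, hvV⟩ hvU
    refine haV ?_
    rw [Scheme.mem_basicOpen _ _ _ hyU]
    rw [Scheme.mem_basicOpen _ _ _ hvU, ← TopCat.Presheaf.germ_stalkSpecializes Y.presheaf hyU h] at hva
    by_contra hna
    have h1 : (Y.presheaf.germ U y hyU).hom a ∈ GrothLib.CycDiv.primeOf h := by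
      rw [hmax]; exact hna
    exact (GrothLib.CycDiv.mem_primeOf_iff h _).mp h1 hva
  have hinj : Function.Injective (algebraMap (Y.presheaf.stalk y) (Y.residueField v)) :=
    (RingHom.injective_iff_ker_eq_bot _).mpr hbot
  haveI : FaithfulSMul (Y.presheaf.stalk y) (Y.residueField v) :=
    (faithfulSMul_iff_algebraMap_injective _ _).2 hinj
  refine IsFractionRing.of_field _ _ fun c => ?_
  obtain ⟨a, b, hb, hab⟩ := GrothLib.CycDiv.exists_frac h c
  refine ⟨a, b, ?_⟩
  rw [eq_div_iff (show algebraMap (Y.presheaf.stalk y) (Y.residueField v) b ≠ 0 from hb)]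
  exact hab

/-- Case of a constant group: let f : X -> S and φ_1, ..., φ_r cut out a strict normal crossings divisor
relative to S with complement U, and let P be a principal C-cover of U for a finite group C whose
order is invertible in every residue field of S. Then P is tamely ramified on X relatively to S. -/
theorem result {X S : Scheme.{u}} (f : X ⟶ S) {r : ℕ} (φ : Fin r → Γ(X, ⊤))
    (hD : SGA1t.IsRelSNC f φ) (C : Type) [Group C] [Finite C] (hC : ∀ s : S, IsUnit ((Nat.card C : ℕ) : S.residueField s))
    (P : FEt.Cat (SGA1t.compl φ : Scheme.{u})) (ρ : C →* Aut P) (hP : SGA1t.IsPrincipal C P ρ) :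
    SGA1t.IsRelTame f φ P := by
  intro Ω _ _ σ _ y _ hdvr w h hne
  haveI := hdvr
  let Z := pullback (P.hom ≫ (SGA1t.compl φ).ι) (pullback.fst f σ)
  let g : Z ⟶ pullback f σ := pullback.snd (P.hom ≫ (SGA1t.compl φ).ι) (pullback.fst f σ)
  let pf : P.left ⟶ (SGA1t.compl φ : Scheme.{u}) := P.hom
  haveI : Etale pf := P.prop.2
  haveI : Etale (pf ≫ (SGA1t.compl φ).ι) := inferInstance
  haveI : Etale g := inferInstanceAs (Etale (pullback.snd (pf ≫ (SGA1t.compl φ).ι) (pullback.fst f σ)))
  have hw : ∀ c : C, (ρ c).hom.left ≫ P.hom = P.hom := fun c => MorphismProperty.Over.w (ρ c).hom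
  let act : C → (Z ⟶ Z) := fun c => pullback.map _ _ _ _ (ρ c).hom.left (𝟙 _) (𝟙 _)
    (by rw [Category.comp_id, ← Category.assoc, hw]) (by simp)
  letI : Algebra ((pullback f σ).residueField (g w)) (Z.residueField w) := (g.residueFieldMap w).hom.toAlgebra
  obtain ⟨hfd, hgal, hdvd⟩ := GrothLib.TameGalois21.exists_galois_of_action w g act
    (by
      apply pullback.hom_ext
      · rw [pullback.lift_fst, map_one, Category.id_comp]; exact Category.comp_id _
      · rw [pullback.lift_snd, Category.id_comp, Category.comp_id])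
    (fun a b => by
      apply pullback.hom_ext
      · rw [Category.assoc, pullback.lift_fst, pullback.lift_fst, pullback.lift_fst_assoc, map_mul]
        rfl
      · rw [Category.assoc, pullback.lift_snd, pullback.lift_snd, Category.comp_id, pullback.lift_snd,
          Category.comp_id])
    (fun a => by rw [pullback.lift_snd, Category.comp_id])
    (fun Ω' _ _ s t hst => by
      have hP' : (s ≫ pullback.fst _ _) ≫ P.hom = (t ≫ pullback.fst _ _) ≫ P.hom := by
        rw [← cancel_mono (SGA1t.compl φ).ι, Category.assoc, Category.assoc, Category.assoc, Category.assoc,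
          pullback.condition]
        exact congrArg (· ≫ pullback.fst f σ) hst |>.trans (by rfl) |> fun h => by simpa using h
      obtain ⟨c, hc, -⟩ := hP.2 Ω' ((s ≫ pullback.fst _ _) ≫ P.hom) ⟨_, rfl⟩ ⟨_, hP'.symm⟩
      refine ⟨c, pullback.hom_ext ?_ ?_⟩
      · rw [Category.assoc, pullback.lift_fst, ← Category.assoc]
        exact congrArg Subtype.val hc
      · rw [Category.assoc, pullback.lift_snd, Category.comp_id]
        exact hst)
  haveI : FiniteDimensional ((pullback f σ).residueField (g w)) (Z.residueField w) := hfd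
  haveI : IsGalois ((pullback f σ).residueField (g w)) (Z.residueField w) := hgal
  letI : Algebra ((pullback f σ).presheaf.stalk y) ((pullback f σ).residueField (g w)) :=
    (((pullback f σ).residue (g w)).hom.comp ((pullback f σ).presheaf.stalkSpecializes h).hom).toAlgebra
  haveI : IsFractionRing ((pullback f σ).presheaf.stalk y) ((pullback f σ).residueField (g w)) :=
    isFractionRing_residue h hne
  have hu : IsUnit ((Nat.card C : ℕ) : (pullback f σ).presheaf.stalk y) := by
    have h1 : IsUnit ((Nat.card C : ℕ) : Ω) := by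
      have h2 := (hC (σ (IsLocalRing.closedPoint Ω))).map
        ((Scheme.descResidueField (Scheme.stalkClosedPointTo σ)).hom)
      rwa [map_natCast] at h2
    have h3 := h1.map (((pullback f σ).presheaf.germ ⊤ y trivial).hom.comp
      ((pullback.snd f σ).appTop.hom.comp (Scheme.ΓSpecIso (CommRingCat.of Ω)).inv.hom))
    rwa [map_natCast] at h3
  refine GrothLib.TameGalois21.isTamelyRamified_of_galois (A := (pullback f σ).presheaf.stalk y)
    (K := (pullback f σ).residueField (g w)) (L := Z.residueField w) ?_
  obtain ⟨c, hc⟩ := hdvd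
  have h2 := hu.map (IsLocalRing.residue ((pullback f σ).presheaf.stalk y))
  rw [map_natCast, hc, Nat.cast_mul] at h2
  exact (IsUnit.mul_iff.mp h2).1.ne_zero

end Groth.Agent.S3711
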