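import Groth.Statements.S3713
import Groth.Agent.Lib.EtCoord10.Chart

set_option autoImplicit false
universe u
open SGA1

namespace Groth.Agent.S3713

open AlgebraicGeometry CategoryTheory CategoryTheory.Limits in
/-- Let Y be locally Noetherian, f : X -> Y locally of finite type, i a section of f and y a point of Y.
Then X is smooth over Y at i(y) (i(y) lies in the smooth locus of f) if and only if there are an
open neighbourhood U of y, an open V of X with i(U) ⊆ V ⊆ f^{-1}(U), and finitely many sections of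
O_X over V, all vanishing along i(U), which define an etale U-morphism from V to an affine space
over U (so that this etale chart carries the section to the zero section). -/
theorem result {X Y : Scheme.{u}} [IsLocallyNoetherian Y] (f : X ⟶ Y)
    [LocallyOfFiniteType f] [LocallyOfFinitePresentation f] (i : Y ⟶ X) (hi : i ≫ f = 𝟙 Y) (y : Y) :
    i.base y ∈ f.smoothLocus ↔
      ∃ (U : Y.Opens) (V : X.Opens) (_ : y ∈ U) (hUV : U ≤ i ⁻¹ᵁ V) (hVU : V ≤ f ⁻¹ᵁ U) (m : ℕ)
        (v : ULift.{u} (Fin m) → Γ(V, ⊤)),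
        Etale (AffineSpace.homOfVector (f.resLE U V hVU) v) ∧ ∀ j, (i.resLE V U hUV).appTop (v j) = 0 := by
  constructor
  · intro hsm
    obtain ⟨U0, hU0, hyU0, -⟩ := exists_isAffineOpen_mem_and_subset (X := Y) (x := y) (U := ⊤) trivial
    have hfi : f (i y) = y := by rw [← Scheme.Hom.comp_apply, hi]; rfl
    obtain ⟨W, hW, hyW, hWU⟩ := exists_isAffineOpen_mem_and_subset (X := X) (x := i y) (U := f ⁻¹ᵁ U0)
      (show f (i y) ∈ U0 from hfi.symm ▸ hyU0)
    have hWU' : W ≤ f ⁻¹ᵁ U0 := hWU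
    obtain ⟨r, hrW, hry⟩ := hU0.exists_basicOpen_le (V := i ⁻¹ᵁ W) ⟨y, hyW⟩ hyU0
    let U1 := Y.basicOpen r
    let V1 := X.basicOpen (f.appLE U0 W hWU' r)
    have hV1eq : V1 = W ⊓ f ⁻¹ᵁ U1 := Scheme.basicOpen_appLE f W U0 hWU' r
    have e1 : V1 ≤ f ⁻¹ᵁ U1 := hV1eq.le.trans inf_le_right
    have hpre : ∀ U : Y.Opens, i ⁻¹ᵁ (f ⁻¹ᵁ U) = U := fun U => by
      rw [← Scheme.Hom.comp_preimage, hi]; rfl
    have e1' : U1 ≤ i ⁻¹ᵁ V1 := by
      rw [hV1eq]
      exact le_inf hrW (hpre U1).ge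
    let φ := f.appLE U1 V1 e1
    let σ := i.appLE V1 U1 e1'
    have hσ : ∀ a, σ (φ a) = a := fun a => by
      rw [← CommRingCat.comp_apply, Scheme.Hom.appLE_comp_appLE]
      simp only [hi]
      simp [Scheme.Hom.appLE]
      have hid : ∀ h : U1 ≤ U1, Y.presheaf.map (homOfLE h).op = 𝟙 Γ(Y, U1) := fun h => Y.presheaf.map_id _
      exact (congrArg (fun χ : Γ(Y, U1) ⟶ Γ(Y, U1) => χ a) (hid le_rfl)).trans rfl
    obtain ⟨t, hxt, m, g, hg, het⟩ := GrothLib.EtCoord10.exists_chart f (hU0.basicOpen r) (hW.basicOpen _) e1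
      (x := i y) (e1' hry) hsm {b | σ b = 0} (by
        letI := φ.hom.toAlgebra
        intro b
        refine ⟨1, b - φ (σ b), ?_, ?_, ?_⟩
        · show σ (b - φ (σ b)) = 0
          rw [map_sub, hσ, sub_self]
        · exact fun h => (Ideal.IsPrime.ne_top inferInstance) ((Ideal.eq_top_iff_one _).mpr h)
        · rw [map_sub, one_smul, show φ (σ b) = algebraMap Γ(Y, U1) Γ(X, V1) (σ b) from rfl,
            Derivation.map_algebraMap, sub_zero])
    let U := U1 ⊓ i ⁻¹ᵁ X.basicOpen t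
    let V := X.basicOpen t ⊓ f ⁻¹ᵁ U
    have hUV : U ≤ i ⁻¹ᵁ V := le_inf inf_le_right (hpre U).ge
    have hVU : V ≤ f ⁻¹ᵁ U := inf_le_right
    refine ⟨U, V, ⟨hry, hxt⟩, hUV, hVU, m, _, het U V hVU inf_le_left inf_le_left, fun j => ?_⟩
    have key : i.appLE V1 U ((hUV.trans (i.preimage_mono (inf_le_left.trans (X.basicOpen_le t))))) (g j.down) = 0 := by
      rw [← Scheme.Hom.appLE_map i e1' (homOfLE (inf_le_left : U ≤ U1)).op, CommRingCat.comp_apply]
      exact (congrArg _ (hg j.down)).trans (map_zero _)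
    show (i.resLE V U hUV).app ⊤ _ = 0
    rw [Scheme.Hom.resLE_app_top]
    show U.topIso.inv (i.appLE V U hUV (V.topIso.hom (V.topIso.inv _))) = 0
    rw [V.topIso.inv_hom_id_apply, ← CommRingCat.comp_apply (X.presheaf.map _), Scheme.Hom.map_appLE, key, map_zero]
  · rintro ⟨U, V, hyU, hUV, hVU, m, v, het, -⟩
    have hov := GrothLib.EtCoord10.smooth_over (ULift.{u} (Fin m)) (U : Scheme.{u})
    haveI : Smooth (f.resLE U V hVU) := by
      rw [← AffineSpace.homOfVector_over (f.resLE U V hVU) v]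
      infer_instance
    have hmem : (⟨i.base y, hUV hyU⟩ : V) ∈ (f.resLE U V hVU).smoothLocus := by
      rw [Scheme.Hom.smoothLocus_eq_top]
      trivial
    exact (RingHom.FormallySmooth.respectsIso.arrow_mk_iso_iff
      (Scheme.Hom.resLEStalkMap f hVU ⟨i.base y, hUV hyU⟩)).mp hmem

end Groth.Agent.S3713
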