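import Groth.Statements.S3718
-- import your own Groth.Agent.* helpers here
import Groth.Agent.Lib.AbMul.Torsion
import Groth.Agent.S7785
import Groth.Agent.S7795
import Mathlib

set_option autoImplicit false
universe u
open CategoryTheory MonoidalCategory CartesianMonoidalCategory MonObj GrpObj AlgebraicGeometry
open Pi1

namespace Groth.Agent.S3718

/-- The covers that compute the prime-to-p part of the fundamental group of an abelian variety: let k be
algebraically closed, A an abelian variety over k (a proper, geometrically integral group scheme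
over k) and n ≥ 1 an integer invertible in k. Granted that multiplication by n (the n-th power of
the identity in the group Hom(A, A)) is a finite etale cover of A, it is a Galois cover, and its
automorphisms over A are exactly the translations x -> x + a by the k-points a of A with n a = 0,
each such a giving exactly one automorphism. (With the domination row this identifies the maximal
prime-to-p quotient of the fundamental group with the inverse limit of the prime-to-p torsion
points.) -/
theorem result (k : Type u) [Field k] [IsAlgClosed k]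
    (A : Over (Spec (CommRingCat.of k))) [GrpObj A] [IsProper A.hom] [GeometricallyIntegral A.hom]
    (n : ℕ) (hn1 : 1 ≤ n) (hn : IsUnit ((n : ℕ) : k)) :
    ∀ [hF : IsFinite ((𝟙 A) ^ (n : ℤ)).left] [hE : Etale ((𝟙 A) ^ (n : ℤ)).left],
      PiSp.IsGaloisCover (MorphismProperty.Over.mk ⊤ ((𝟙 A) ^ (n : ℤ)).left ⟨hF, hE⟩ : FEt.Cat A.left) ∧
      (∀ θ : Aut (MorphismProperty.Over.mk ⊤ ((𝟙 A) ^ (n : ℤ)).left ⟨hF, hE⟩ : FEt.Cat A.left),
        ∃! a : 𝟙_ (Over (Spec (CommRingCat.of k))) ⟶ A, a ^ (n : ℤ) = 1 ∧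
          θ.hom.left = ((𝟙 A) * (toUnit A ≫ a)).left) ∧
      (∀ a : 𝟙_ (Over (Spec (CommRingCat.of k))) ⟶ A, a ^ (n : ℤ) = 1 →
        ∃ θ : Aut (MorphismProperty.Over.mk ⊤ ((𝟙 A) ^ (n : ℤ)).left ⟨hF, hE⟩ : FEt.Cat A.left),
          θ.hom.left = ((𝟙 A) * (toUnit A ≫ a)).left) := by
  intro hF hE
  have : Smooth A.hom := Groth.Agent.S7795.result A
  have : GeometricallyReduced A.hom := inferInstance
  have : GeometricallyConnected A.hom := GrothLib.Rigidity.geometricallyConnected_of_geometricallyIrreducible A.hom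
  have : IsCommMonObj A := Groth.Agent.S7785.result A
  have : IsIntegral A.left := GeometricallyIntegral.isIntegral_of_subsingleton A.hom
  set f := 𝟙 A ^ (n : ℤ) with hf
  let Z : FEt.Cat A.left := MorphismProperty.Over.mk ⊤ f.left ⟨hF, hE⟩
  have hex : ∀ a : 𝟙_ (Over (Spec (CommRingCat.of k))) ⟶ A, a ^ (n : ℤ) = 1 →
      ∃ θ : Aut Z, θ.hom.left = ((𝟙 A) * (toUnit A ≫ a)).left := by
    intro a ha
    have hai : a⁻¹ ^ (n : ℤ) = 1 := by rw [inv_zpow, ha, inv_one]
    have h1 : ∀ a : 𝟙_ (Over (Spec (CommRingCat.of k))) ⟶ A, (𝟙 A * (toUnit A ≫ (1 : 𝟙_ (Over (Spec (CommRingCat.of k))) ⟶ A))) = 𝟙 A := fun _ => by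
      rw [MonObj.comp_one, _root_.mul_one]
    let e : A.left ≅ A.left :=
      { hom := ((𝟙 A) * (toUnit A ≫ a)).left
        inv := ((𝟙 A) * (toUnit A ≫ a⁻¹)).left
        hom_inv_id := by
          rw [← Over.comp_left, GrothLib.AbMul.translate_comp_translate, _root_.mul_inv_cancel, h1 a]
          rfl
        inv_hom_id := by
          rw [← Over.comp_left, GrothLib.AbMul.translate_comp_translate, _root_.inv_mul_cancel, h1 a]
          rfl }
    exact ⟨MorphismProperty.Over.isoMk (show Z.left ≅ Z.left from e)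
      (congrArg Over.Hom.left (GrothLib.AbMul.translate_comp_zpow (n : ℤ) a ha)), rfl⟩
  refine ⟨⟨inferInstanceAs (ConnectedSpace A.left), fun Ω _ _ ξ s t => ?_⟩, fun θ => ?_, hex⟩
  · have hw : ∀ v : FEt.fiberObj ξ Z, v.1 ≫ A.hom = ξ ≫ A.hom := fun v => by
      have h := congrArg (fun q => q ≫ A.hom) v.2
      have h2 : (v.1 ≫ f.left) ≫ A.hom = v.1 ≫ A.hom := (Category.assoc _ _ _).trans (congrArg (v.1 ≫ ·) (Over.w f))
      exact h2.symm.trans h
    let s' : Over.mk (ξ ≫ A.hom) ⟶ A := Over.homMk s.1 (hw s)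
    let t' : Over.mk (ξ ≫ A.hom) ⟶ A := Over.homMk t.1 (hw t)
    have hst : t' ^ (n : ℤ) = s' ^ (n : ℤ) := by
      have h : t' ≫ f = s' ≫ f := Over.OverMorphism.ext (t.2.trans s.2.symm)
      rwa [hf, GrpObj.comp_zpow, GrpObj.comp_zpow, Category.comp_id, Category.comp_id] at h
    obtain ⟨a, ha, hc⟩ := GrothLib.AbMul.exists_torsion_point (n : ℤ) (t' * s'⁻¹) (by
      rw [mul_zpow, inv_zpow, hst, _root_.mul_inv_cancel])
    obtain ⟨θ, hθ⟩ := hex a ha
    refine ⟨θ, Subtype.ext ?_⟩
    show s.1 ≫ θ.hom.left = t.1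
    rw [hθ]
    have h : s' ≫ (𝟙 A * (toUnit A ≫ a)) = t' := by
      rw [MonObj.comp_mul, Category.comp_id, ← Category.assoc, toUnit_unique (s' ≫ toUnit A) (toUnit _), ← hc,
        _root_.mul_comm, inv_mul_cancel_right]
    exact congrArg Over.Hom.left h
  · have hθf : θ.hom.left ≫ f.left = f.left := MorphismProperty.Over.w θ.hom
    let T : A ⟶ A := Over.homMk θ.hom.left (by
      have h := congrArg (· ≫ A.hom) hθf
      exact ((congrArg (θ.hom.left ≫ ·) (Over.w f)).symm.trans (Category.assoc _ _ _).symm).trans (h.trans (Over.w f)))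
    have hT : T ≫ f = f := Over.OverMorphism.ext hθf
    refine ⟨η[A] ≫ T, ⟨?_, ?_⟩, fun a' ha' => ?_⟩
    · have h : (η[A] ≫ T) ≫ f = η[A] ≫ f := by rw [Category.assoc, hT]
      rw [hf, GrpObj.comp_zpow, GrpObj.comp_zpow, Category.comp_id, Category.comp_id] at h
      rw [h, GrothLib.AbMul.one_def', one_zpow]
    · haveI : IsSeparated f.left := inferInstance
      haveI : PreconnectedSpace Z.left := inferInstanceAs (PreconnectedSpace A.left)
      haveI : Nonempty ↥(𝟙_ (Over (Spec (CommRingCat.of k)))).left := inferInstanceAs (Nonempty (PrimeSpectrum k))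
      refine GrothLib.AbMul.eq_of_agree_at_point f.left _ _ ?_ η[A].left ?_
      · refine hθf.trans ?_
        have h : (𝟙 A * (toUnit A ≫ (η[A] ≫ T))) ≫ f = f := by
          have h' : (η[A] ≫ T) ≫ f = η[A] ≫ f := by rw [Category.assoc, hT]
          rw [hf, GrpObj.comp_zpow, GrpObj.comp_zpow, Category.comp_id, Category.comp_id] at h'
          refine GrothLib.AbMul.translate_comp_zpow (n : ℤ) _ ?_
          rw [h', GrothLib.AbMul.one_def', one_zpow]
        exact (congrArg Over.Hom.left h).symm
      · have h : η[A] ≫ (𝟙 A * (toUnit A ≫ (η[A] ≫ T))) = η[A] ≫ T := by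
          rw [MonObj.comp_mul, Category.comp_id, ← Category.assoc η[A] (toUnit A),
            toUnit_unique (η[A] ≫ toUnit A) (𝟙 _), Category.id_comp]
          conv_lhs => arg 1; rw [GrothLib.AbMul.one_def']
          rw [_root_.one_mul]
        exact (congrArg Over.Hom.left h).symm
    · have hTa : T = 𝟙 A * (toUnit A ≫ a') := Over.OverMorphism.ext ha'.2
      rw [hTa, MonObj.comp_mul, Category.comp_id, ← Category.assoc η[A] (toUnit A),
        toUnit_unique (η[A] ≫ toUnit A) (𝟙 _), Category.id_comp]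
      conv_rhs => arg 1; rw [GrothLib.AbMul.one_def']
      rw [_root_.one_mul]

end Groth.Agent.S3718
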