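import Groth.Statements.S3719
import Groth.Agent.Lib.NegTwist.ConnectedFinite
import Groth.Agent.Lib.Stein.General
import Groth.Agent.Lib.Stein.Finite
import Groth.Agent.Lib.NeronModel13.Comp
import Groth.Agent.Lib.RelVan7.Proj
import Groth.Agent.Lib.GrTilde.Amp
import Groth.Agent.Lib.FEt21.Normal
import Groth.Agent.Lib.Ref1.Connected
import Groth.Agent.Lib.CodimExt27.Twist

set_option autoImplicit false
universe u
open Pi1

namespace Groth.Agent.S3719

open AlgebraicGeometry in
/-- Preimages of connected sets under closed maps with connected fibres. -/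
theorem isConnected_preimage {T S : Scheme.{u}} (π : T ⟶ S) [UniversallyClosed π] [GeometricallyConnected π]
    {C : Set S} (hC : _root_.IsConnected C) : _root_.IsConnected (π ⁻¹' C) := by
  refine ⟨?_, isPreconnected_closed_iff.2 ?_⟩
  · obtain ⟨t, ht⟩ := hC.1
    obtain ⟨z, rfl⟩ := π.surjective t
    exact ⟨z, ht⟩
  rintro E F hE hF hEF ⟨z₁, hz₁, hz₁'⟩ ⟨z₂, hz₂, hz₂'⟩
  obtain ⟨t, htC, ⟨e, heE, rfl⟩, ⟨f, hfF, hft⟩⟩ := isPreconnected_closed_iff.1 hC.2 (π '' E) (π '' F)
    (π.isClosedMap _ hE) (π.isClosedMap _ hF)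
    (fun t ht => by
      obtain ⟨z, rfl⟩ := π.surjective t
      exact (hEF ht).imp (fun h => ⟨z, h, rfl⟩) (fun h => ⟨z, h, rfl⟩))
    ⟨π z₁, hz₁, z₁, hz₁', rfl⟩ ⟨π z₂, hz₂, z₂, hz₂', rfl⟩
  obtain ⟨w, hw, hwE, hwF⟩ := isPreconnected_closed_iff.1 (π.isConnected_preimage_singleton (π e)).2 E F hE hF
    (fun w hw => hEF (show π w ∈ C from (Set.mem_singleton_iff.1 hw).symm ▸ htC))
    ⟨e, rfl, heE⟩ ⟨f, hft, hfF⟩
  exact ⟨w, show π w ∈ C from (Set.mem_singleton_iff.1 hw).symm ▸ htC, hwE, hwF⟩

open AlgebraicGeometry CategoryTheory CategoryTheory.Limits in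
/-- Let k be algebraically closed, X a proper, irreducible, normal k-scheme, g : X -> P^r_k a k-morphism
whose image has closure of dimension at least 2, H the hyperplane where a nonzero linear form ℓ
vanishes, and X' a connected finite etale cover of X. Then the inverse image of H in X' is
connected. (For X' = X this is the connectedness of the hyperplane section Y = g⁻¹(H), and the
general case is the surjectivity of the fundamental group of Y onto that of X.) -/
theorem result (k : Type u) [Field k] [IsAlgClosed k] (X : Scheme.{u})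
    [X.Over (Spec (CommRingCat.of k))] [IsProper (X ↘ Spec (CommRingCat.of k))] [IrreducibleSpace X]
    (hN : Pi1.IsNormalScheme X) (r : ℕ) (g : X ⟶ CohB1.ProjSpace r k)
    (hg : g ≫ CohB1.ProjSpace.toSpec r k = X ↘ Spec (CommRingCat.of k))
    (hdim : 2 ≤ topologicalKrullDim ↥(closure (Set.range g.base)))
    (ℓ : MvPolynomial (Fin (r + 1)) k) (hℓ : ℓ ∈ CohB1.polyGrading r k 1) (hℓ0 : ℓ ≠ 0)
    (X' : FEt.Cat X) [ConnectedSpace X'.left] :
    IsConnected (((X'.hom ≫ g).base ⁻¹' (Proj.basicOpen (CohB1.polyGrading r k) ℓ).carrier)ᶜ) := by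
  let 𝒜 := CohB1.polyGrading r k
  let P := CohB1.ProjSpace r k
  letI : P.Over (Spec (CommRingCat.of k)) := ⟨CohB1.ProjSpace.toSpec r k⟩
  haveI : IsLocallyNoetherian X := LocallyOfFiniteType.isLocallyNoetherian (X ↘ Spec (CommRingCat.of k))
  haveI : ∀ x : X, _root_.IsReduced (X.presheaf.stalk x) := fun x => by
    haveI := (hN x).1; infer_instance
  haveI : IsReduced X := isReduced_of_isReduced_stalk X
  haveI : IsIntegral X := isIntegral_of_irreducibleSpace_of_isReduced X
  let q : X'.left ⟶ X := X'.hom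
  haveI : IsFinite q := X'.prop.1
  haveI : Etale q := X'.prop.2
  haveI : IsProper (CohB1.ProjSpace.toSpec r k) := GrothLib.Chow.isProper_toSpec r k
  haveI : IsLocallyNoetherian P := LocallyOfFiniteType.isLocallyNoetherian (CohB1.ProjSpace.toSpec r k)
  haveI : IsProper (g ≫ CohB1.ProjSpace.toSpec r k) := hg ▸ inferInstance
  haveI : IsProper g := IsProper.of_comp g (CohB1.ProjSpace.toSpec r k)
  haveI : IsLocallyNoetherian X'.left := LocallyOfFiniteType.isLocallyNoetherian q
  have hZ : Pi1.IsNormalScheme X'.left := GrothLib.FEt21.isNormalScheme_of_etale hN q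
  haveI : CompactSpace X'.left := QuasiCompact.compactSpace_of_compactSpace (q ≫ X ↘ Spec (CommRingCat.of k))
  haveI : IsNoetherian X'.left := {}
  haveI : IsIntegral X'.left := GrothLib.Ref1.isIntegral_of_connected fun y => (hZ y).1
  have hsurj : Function.Surjective q := by
    obtain ⟨z⟩ : Nonempty X'.left := inferInstance
    obtain ⟨z', -, hz'⟩ := Flat.generalizingMap q
      (show genericPoint X ⤳ q z from genericPoint_specializes _)
    exact fun x => (genericPoint_specializes x).mem_closed q.isClosedMap.isClosed_range ⟨z', hz'⟩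
  let h : X'.left ⟶ P := q ≫ g
  haveI : IsProper h := inferInstanceAs (IsProper (q ≫ g))
  let T := h.normalization
  let ν := h.fromNormalization
  let π := h.toNormalization
  haveI : IsFinite ν := GrothLib.Stein.isFinite_fromNormalization h
  haveI : GeometricallyConnected π := GrothLib.Stein.geometricallyConnected_toNormalization h
  haveI : IsProper (π ≫ ν) := by
    show IsProper (h.toNormalization ≫ h.fromNormalization)
    rw [h.toNormalization_fromNormalization]; infer_instance
  haveI : IsProper π := IsProper.of_comp π ν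
  have hT : Pi1.IsNormalScheme T := GrothLib.NeronModel13.isNormalScheme_normalization h fun z => (hZ z).2
  letI : T.Over (Spec (CommRingCat.of k)) := ⟨ν ≫ CohB1.ProjSpace.toSpec r k⟩
  haveI : IsProper (T ↘ Spec (CommRingCat.of k)) := inferInstanceAs (IsProper (ν ≫ CohB1.ProjSpace.toSpec r k))
  have hrange : Set.range ν = closure (Set.range g) := by
    rw [g.isClosedMap.isClosed_range.closure_eq]
    refine Set.Subset.antisymm ?_ ?_
    · rintro _ ⟨t, rfl⟩
      obtain ⟨z, rfl⟩ := π.surjective t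
      exact ⟨q z, by rw [← Scheme.Hom.comp_apply, ← Scheme.Hom.comp_apply, h.toNormalization_fromNormalization]⟩
    · rintro _ ⟨x, rfl⟩
      obtain ⟨z, rfl⟩ := hsurj x
      exact ⟨π z, by rw [← Scheme.Hom.comp_apply, h.toNormalization_fromNormalization]; rfl⟩
  have hdimT : (2 : WithBot ℕ∞) ≤ topologicalKrullDim T := by
    refine hdim.trans ?_
    let ν' : T → closure (Set.range g) := fun n => ⟨ν n, hrange ▸ ⟨n, rfl⟩⟩
    haveI : QuasiSober ↥(closure (Set.range g)) :=
      isClosed_closure.isClosedEmbedding_subtypeVal.quasiSober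
    refine GrothLib.NegTwist.topologicalKrullDim_le_of_specializingMap (f := ν') ?_ fun z => ?_
    · exact (ν.isClosedMap.codRestrict _).specializingMap
    · obtain ⟨n, hn⟩ := hrange.symm.subset z.2
      exact ⟨n, Subtype.ext hn⟩
  have hcov : ∀ x : Proj 𝒜, ∃ b ∈ 𝒜 1, b ∉ x.asHomogeneousIdeal := fun p => by
    have hp : p ∈ ⨆ i : Fin (r + 1), Proj.basicOpen (CohB1.polyGrading r k) (MvPolynomial.X i) := by
      rw [GrothLib.Ample.ProjMap.iSup_basicOpen_X]; trivial
    obtain ⟨i, hi⟩ := TopologicalSpace.Opens.mem_iSup.1 hp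
    exact ⟨MvPolynomial.X i, MvPolynomial.isHomogeneous_X k i, hi⟩
  obtain ⟨c, ⟨e⟩⟩ := GrothLib.Ample.exists_cocycle (GrothLib.GrTilde.isInvertible_twist_of_cover (N := 1) hcov)
  let a : c.sect 1 ⊤ := e.hom.app ⊤ (GrothLib.Ample.ProjTwist.gsec 𝒜 ℓ hℓ)
  have hloc : c.locus a = Proj.basicOpen 𝒜 ℓ := GrothLib.GrTilde.locus_eq_basicOpen hcov c e hℓ
  have hamp : CohB1.IsAmple (c.twist 1) :=
    (c.isAmple_iff (CategoryTheory.Iso.refl _)).2 ((c.isAmple_iff e).1 (GrothLib.RelVan7.isAmple_twist r k))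
  have hgl : CohB1.genLocus (c.twist 1) (c.hom a) = Proj.basicOpen 𝒜 ℓ := (c.genLocus_hom a).trans hloc
  have hpre : ∀ (S : Set P), (X'.hom ≫ g).base ⁻¹' S = π ⁻¹' (ν ⁻¹' S) := fun S => by
    rw [← Set.preimage_comp]
    congr 1
    show ⇑h = _
    conv_lhs => rw [← h.toNormalization_fromNormalization]
    rfl
  by_cases hgen : ν (genericPoint T) ∈ Proj.basicOpen 𝒜 ℓ
  · have hcon := GrothLib.NegTwist.isConnected_preimage_compl k hT hdimT ν hamp (c.hom a) (hgl.symm ▸ hgen)
    change _root_.IsConnected (ν ⁻¹' ((CohB1.genLocus (c.twist 1) (c.hom a) : (Proj 𝒜).Opens) : Set (Proj 𝒜))ᶜ) at hcon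
    erw [hgl] at hcon
    rw [← Set.preimage_compl, hpre]
    obtain ⟨hne, hpc⟩ := hcon
    exact isConnected_preimage π ⟨hne, hpc⟩
  · rw [← Set.preimage_compl, hpre]
    have : ν ⁻¹' (Proj.basicOpen 𝒜 ℓ).carrierᶜ = Set.univ := Set.eq_univ_of_forall fun t ht =>
      hgen (((genericPoint_specializes t).map ν.continuous).mem_open (Proj.basicOpen 𝒜 ℓ).2 ht)
    rw [this, Set.preimage_univ]
    exact (connectedSpace_iff_univ.1 (inferInstanceAs (ConnectedSpace X'.left)))

end Groth.Agent.S3719
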