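import Groth.Statements.S3720
import Groth.Agent.Lib.Principal21.Basic
import Groth.Agent.Lib.KummerReg.Regular
import Mathlib.RingTheory.AdjoinRoot
import Mathlib.RingTheory.RootsOfUnity.PrimitiveRoots

set_option autoImplicit false
set_option backward.isDefEq.respectTransparency false
set_option backward.isDefEq.respectTransparency.types false
set_option linter.style.haveILetI false
open CategoryTheory CategoryTheory.Limits AlgebraicGeometry
universe u
open SGA1t

namespace Groth.Agent.S3720

theorem etale_finite_kummer (A : Type u) [CommRing A] (n : ℕ) (hn1 : 1 ≤ n) (hn : IsUnit (n : A)) (a : Aˣ) :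
    Algebra.Etale A (SGA1t.kummer A (fun _ : Unit => (a : A)) (fun _ => n)) ∧
      Module.Finite A (SGA1t.kummer A (fun _ : Unit => (a : A)) (fun _ => n)) := by
  let f : Polynomial A := Polynomial.X ^ n - Polynomial.C (a : A)
  let g : MvPolynomial Unit A := MvPolynomial.X () ^ n - MvPolynomial.C (a : A)
  let e : MvPolynomial Unit A ≃ₐ[A] Polynomial A := MvPolynomial.uniqueAlgEquiv A Unit
  have hI : Ideal.span {f} = (Ideal.span (Set.range fun _ : Unit => g)).map (e : MvPolynomial Unit A →+* Polynomial A) := by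
    rw [Ideal.map_span]
    congr 1
    have : e g = f := by simp [g, f, e]
    rw [Set.range_const, Set.image_singleton]
    exact congrArg (fun x => ({x} : Set (Polynomial A))) this.symm
  let E : SGA1t.kummer A (fun _ : Unit => (a : A)) (fun _ => n) ≃ₐ[A] AdjoinRoot f :=
    Ideal.quotientEquivAlg _ _ e hI
  haveI := GrothLib.KummerReg.etale_kummer_unit (R := A) (show 0 < n from hn1) hn a
  haveI : Module.Finite A (AdjoinRoot f) := (Polynomial.monic_X_pow_sub_C (a : A) (by omega)).finite_adjoinRoot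
  exact ⟨Algebra.Etale.of_equiv E.symm, Module.Finite.equiv E.symm.toLinearEquiv⟩

/-- A root of unity of order invertible in a local ring which is one at some point is one. -/
theorem eq_one_of_map {A Ω : Type u} [CommRing A] [IsLocalRing A] [Field Ω] (φ : A →+* Ω) {n : ℕ}
    (hn : IsUnit (n : A)) {z : A} (hz : z ^ n = 1) (h : φ z = 1) : z = 1 := by
  have hm : z - 1 ∈ IsLocalRing.maximalIdeal A :=
    IsLocalRing.le_maximalIdeal (RingHom.ker_ne_top φ) (by rw [RingHom.mem_ker, map_sub, h, map_one, sub_self])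
  have hs : IsUnit (∑ i ∈ Finset.range n, z ^ i) := by
    refine IsLocalRing.notMem_maximalIdeal.1 fun hc => (IsLocalRing.notMem_maximalIdeal.2 hn) ?_
    rw [← Ideal.Quotient.eq_zero_iff_mem] at hm hc ⊢
    rw [map_sub, map_one, sub_eq_zero] at hm
    simpa [map_sum, map_pow, hm] using hc
  have h1 : (z - 1) * ∑ i ∈ Finset.range n, z ^ i = 0 := by rw [mul_geom_sum, hz, sub_self]
  exact sub_eq_zero.1 ((hs.mul_left_eq_zero).1 h1)

/-- Kummer theory over a local ring: let A be a local ring, n ≥ 1 an integer invertible in A, and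
suppose A contains a primitive n-th root of unity (so that the group μ_n(A) of n-th roots of unity
in A is cyclic of order n). Then every principal μ_n(A)-cover P of Spec A is isomorphic over Spec A
to a Kummer cover Spec A[T]/(Tⁿ − a) for some unit a of A, compatibly with the actions: the given
action of a root of unity ζ on P corresponds to the automorphism of A[T]/(Tⁿ − a) induced by T ↦ ζT. -/
theorem result (A : Type u) [CommRing A] [IsLocalRing A] (n : ℕ) (hn1 : 1 ≤ n)
    (hn : IsUnit ((n : ℕ) : A)) (ζ₀ : A) (hζ₀ : IsPrimitiveRoot ζ₀ n)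
    (P : FEt.Cat (Spec (CommRingCat.of A))) (ρ : ↥(rootsOfUnity n A) →* Aut P)
    (hP : SGA1t.IsPrincipal ↥(rootsOfUnity n A) P ρ) :
    ∃ (a : Aˣ) (e : P.left ≅ Spec (CommRingCat.of (SGA1t.kummer A (fun _ : Unit => (a : A)) (fun _ => n)))),
      e.hom ≫ Spec.map (CommRingCat.ofHom (algebraMap A (SGA1t.kummer A (fun _ : Unit => (a : A)) (fun _ => n)))) = P.hom ∧
      ∀ ζ : ↥(rootsOfUnity n A), (ρ ζ).hom.left ≫ e.hom =
        e.hom ≫ Spec.map (CommRingCat.ofHom (SGA1t.kummerTwist A (fun _ : Unit => (a : A)) (fun _ => n) (fun _ => ζ))) := by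
  classical
  haveI : NeZero n := ⟨by omega⟩
  let G := ↥(rootsOfUnity n A)
  have hpow : ∀ g : G, (((g : Aˣ) : A)) ^ n = 1 := fun g => by
    simpa using congrArg Units.val ((mem_rootsOfUnity n (g : Aˣ)).1 g.2)
  have hprim : ∀ {Ω : Type u} [Field Ω] (φ : A →+* Ω), IsPrimitiveRoot (φ ζ₀) n := fun φ => by
    refine ⟨by rw [← map_pow, hζ₀.pow_eq_one, map_one], fun l hl => ?_⟩
    refine (hζ₀.pow_eq_one_iff_dvd l).1 (eq_one_of_map φ hn ?_ (by rw [map_pow, hl]))
    rw [← pow_mul, mul_comm, pow_mul, hζ₀.pow_eq_one, one_pow]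
  haveI : Finite G := by
    let φ := IsLocalRing.residue A
    refine Finite.of_injective (fun g : G => (⟨Units.map φ.toMonoidHom (g : Aˣ), by
      rw [mem_rootsOfUnity, ← map_pow, (mem_rootsOfUnity n (g : Aˣ)).1 g.2, map_one]⟩ :
        rootsOfUnity n (IsLocalRing.ResidueField A))) fun g g' h => ?_
    have h' : φ ((g : Aˣ) : A) = φ ((g' : Aˣ) : A) :=
      congrArg (fun x : rootsOfUnity n (IsLocalRing.ResidueField A) => ((x : (IsLocalRing.ResidueField A)ˣ) : IsLocalRing.ResidueField A)) h
    have e := eq_one_of_map φ hn (z := (((g * g'⁻¹ : G) : Aˣ) : A)) (hpow _) (by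
      rw [Subgroup.coe_mul, Units.val_mul, map_mul, h', ← map_mul, Subgroup.coe_inv, Units.mul_inv, map_one])
    exact mul_inv_eq_one.1 (Subtype.ext (Units.ext e))
  haveI := Fintype.ofFinite G
  let B := Γ(P.left, ⊤)
  let ψ : A →+* B := (GrothLib.Principal21.str P).hom
  let σ : G → (B →+* B) := fun g => (GrothLib.Principal21.act P ρ g).hom
  let Ω := AlgebraicClosure (IsLocalRing.ResidueField A)
  let π : A →+* Ω := (algebraMap _ Ω).comp (IsLocalRing.residue A)
  obtain ⟨s⟩ := GrothLib.Principal21.nonempty_fiberObj hP (Spec.map (CommRingCat.ofHom π))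
  let ev : B →+* Ω := (GrothLib.Principal21.ev s).hom
  have hev : ∀ r, ev (ψ r) = π r := fun r => by
    have e := GrothLib.Principal21.ev_str s
    rw [Spec.preimage_map] at e
    exact congr($e r)
  obtain ⟨θ, hθ⟩ := GrothLib.Principal21.exists_sum_ev_ne_zero hP s (fun g : G => π ((g⁻¹ : G) : Aˣ))
    (fun h => by
      have := congrFun h 1
      rw [Pi.zero_apply, inv_one, OneMemClass.coe_one, Units.val_one, map_one] at this
      exact one_ne_zero this)
  let y : B := ∑ g : G, ψ ((g⁻¹ : G) : Aˣ) * σ g θ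
  have hstr : ∀ i r, σ i (ψ r) = ψ r := fun i r => GrothLib.Principal21.act_str_apply P ρ _ r
  have hy : ∀ h : G, σ h y = ψ ((h : Aˣ) : A) * y := fun h => by
    rw [map_sum, Finset.mul_sum]
    refine Fintype.sum_equiv (Equiv.mulRight h) _ _ fun g => ?_
    rw [Equiv.coe_mulRight, map_mul, hstr, ← mul_assoc, ← map_mul ψ, ← Units.val_mul, ← Subgroup.coe_mul,
      mul_inv_rev, mul_inv_cancel_left]
    exact congrArg (_ * ·) (GrothLib.Principal21.act_mul_apply P ρ g h θ).symm
  obtain ⟨a₀, ha₀⟩ := GrothLib.Principal21.exists_str_eq hP (y ^ n) fun g => by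
    change σ g (y ^ n) = _
    rw [map_pow, hy, mul_pow, ← map_pow ψ, hpow, map_one, one_mul]
  have hy0 : ev y ≠ 0 := by
    convert hθ using 1
    simp only [y, map_sum, map_mul, hev]
    rfl
  have ha : IsUnit a₀ := IsLocalRing.notMem_maximalIdeal.1 fun hc => hy0 (by
    have e : ev y ^ n = 0 := by
      rw [← map_pow, ← ha₀]
      refine (hev a₀).trans ?_
      change algebraMap _ Ω (IsLocalRing.residue A a₀) = 0
      rw [(IsLocalRing.residue_eq_zero_iff a₀).2 hc, map_zero]
    exact pow_eq_zero_iff (NeZero.ne n) |>.1 e)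
  let a : Aˣ := ha.unit
  let K := SGA1t.kummer A (fun _ : Unit => (a : A)) (fun _ => n)
  obtain ⟨het, hfin⟩ := etale_finite_kummer A n hn1 hn a
  let χ : K →+* B := Ideal.Quotient.lift _ (MvPolynomial.eval₂Hom ψ fun _ => y) fun q hq => by
    refine (show Ideal.span (Set.range fun _ : Unit => (MvPolynomial.X () : MvPolynomial Unit A) ^ n -
      MvPolynomial.C (a : A)) ≤ RingHom.ker (MvPolynomial.eval₂Hom ψ fun _ => y) from ?_) hq
    rw [Ideal.span_le]
    rintro _ ⟨i, rfl⟩
    rw [SetLike.mem_coe, RingHom.mem_ker]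
    simp only [map_sub, map_pow, MvPolynomial.eval₂Hom_X', MvPolynomial.eval₂Hom_C]
    exact sub_eq_zero.2 ha₀.symm
  let T : K := Ideal.Quotient.mk _ (MvPolynomial.X ())
  have hext : ∀ {D : Type u} [CommRing D] (u v : K →+* D),
      u.comp (algebraMap A K) = v.comp (algebraMap A K) → u T = v T → u = v := fun u v h1 h2 =>
    Ideal.Quotient.ringHom_ext (MvPolynomial.ringHom_ext (fun r => DFunLike.congr_fun h1 r) (fun _ => h2))
  let τ : G → (K →+* K) := fun g => SGA1t.kummerTwist A (fun _ : Unit => (a : A)) (fun _ => n) (fun _ => g)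
  have htwT : ∀ g : G, τ g T = algebraMap A K ((g : Aˣ) : A) * T := fun g => by
    change Ideal.Quotient.mk _ (MvPolynomial.aeval _ (MvPolynomial.X ())) = _
    rw [MvPolynomial.aeval_X, map_mul]
    rfl
  have htwC : ∀ g : G, (τ g).comp (algebraMap A K) = algebraMap A K := fun g =>
    RingHom.ext fun r => by
      change Ideal.Quotient.mk _ (MvPolynomial.aeval _ (MvPolynomial.C r)) = _
      rw [MvPolynomial.aeval_C]
      rfl
  have hroot : T ^ n = algebraMap A K (a : A) := by
    refine sub_eq_zero.1 (Eq.trans ?_ (Ideal.Quotient.eq_zero_iff_mem.2 (Ideal.subset_span ⟨(), rfl⟩)))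
    simp only [map_sub, map_pow]
    rfl
  have hT0 : ∀ {Ω' : Type u} [Field Ω'] (v : K →+* Ω'), v T ≠ 0 := fun v h => by
    have h1 := congrArg v hroot
    rw [map_pow, h, zero_pow (NeZero.ne n)] at h1
    exact ((a.isUnit.map (algebraMap A K)).map v).ne_zero h1.symm
  obtain ⟨e, he1, he2⟩ := GrothLib.Principal21.exists_iso hP K χ (fun r => MvPolynomial.eval₂Hom_C ψ _ r) τ
    (fun g x => by
      refine congr($(hext (χ.comp (τ g)) ((σ g).comp χ) ?_ ?_) x)
      · rw [RingHom.comp_assoc, htwC]
        exact RingHom.ext fun r => ((congrArg _ (MvPolynomial.eval₂Hom_C ψ _ r)).trans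
          ((hstr _ r).trans (MvPolynomial.eval₂Hom_C ψ _ r).symm)).symm
      · change χ (τ g T) = σ g (χ T)
        rw [htwT, map_mul]
        change MvPolynomial.eval₂Hom ψ (fun _ => y) (MvPolynomial.C _) * MvPolynomial.eval₂Hom ψ (fun _ => y) (MvPolynomial.X ()) =
          σ g (MvPolynomial.eval₂Hom ψ (fun _ => y) (MvPolynomial.X ()))
        rw [MvPolynomial.eval₂Hom_C, MvPolynomial.eval₂Hom_X', hy])
    (fun Ω' _ _ v v' hvv => by
      have hr : (v' T / v T) ^ n = 1 := by
        rw [div_pow, ← map_pow v', ← map_pow v, hroot, ← RingHom.comp_apply v, ← RingHom.comp_apply v' (algebraMap A K), hvv]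
        refine div_self ?_
        rw [← hvv]
        exact ((a.isUnit.map (algebraMap A K)).map v).ne_zero
      obtain ⟨i, -, hi⟩ := (hprim (v.comp (algebraMap A K))).eq_pow_of_pow_eq_one hr
      refine ⟨⟨(hζ₀.isUnit (NeZero.ne n)).unit ^ i, ?_⟩, hext _ _ ?_ ?_⟩
      · rw [mem_rootsOfUnity]
        refine Units.ext ?_
        rw [Units.val_pow_eq_pow_val, Units.val_pow_eq_pow_val, IsUnit.unit_spec, ← pow_mul, mul_comm, pow_mul,
          hζ₀.pow_eq_one, one_pow, Units.val_one]
      · rw [RingHom.comp_assoc, htwC, hvv]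
      · rw [RingHom.comp_apply, htwT, map_mul]
        rw [show (((hζ₀.isUnit (NeZero.ne n)).unit ^ i : Aˣ) : A) = ζ₀ ^ i by
          rw [Units.val_pow_eq_pow_val, IsUnit.unit_spec]]
        rw [map_pow, map_pow, ← RingHom.comp_apply v, hi, div_mul_cancel₀ _ (hT0 v)])
    (fun Ω' _ _ v g g' h => by
      have h1 := DFunLike.congr_fun h T
      rw [RingHom.comp_apply, RingHom.comp_apply, htwT, htwT, map_mul, map_mul] at h1
      have h2 := mul_right_cancel₀ (hT0 v) h1
      have e := eq_one_of_map (v.comp (algebraMap A K)) hn (z := (((g * g'⁻¹ : G) : Aˣ) : A)) (hpow _) (by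
        rw [Subgroup.coe_mul, Units.val_mul, map_mul, RingHom.comp_apply, h2, ← RingHom.comp_apply v, ← map_mul,
          Subgroup.coe_inv, Units.mul_inv, map_one])
      exact mul_inv_eq_one.1 (Subtype.ext (Units.ext e)))
  exact ⟨a, e, he1, he2⟩

end Groth.Agent.S3720
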