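import Groth.Statements.S3721
import Groth.Agent.Lib.Principal21.Basic
import Mathlib.RingTheory.Etale.StandardEtale
import Mathlib.RingTheory.AdjoinRoot
import Mathlib.FieldTheory.Finite.Basic

set_option autoImplicit false
set_option backward.isDefEq.respectTransparency false
set_option backward.isDefEq.respectTransparency.types false
set_option linter.style.haveILetI false
open CategoryTheory CategoryTheory.Limits AlgebraicGeometry
universe u
open SGA1t

namespace Groth.Agent.S3721

open Polynomial in
theorem etale_artinSchreier (A : Type u) [CommRing A] (p : ℕ) [Fact p.Prime] [CharP A p] (a : A) :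
    Algebra.Etale A (SGA1t.artinSchreier A p a) ∧ Module.Finite A (SGA1t.artinSchreier A p a) := by
  cases subsingleton_or_nontrivial A with
  | inl h => exact absurd (Subsingleton.elim (1 : A) 0) (by
      haveI := CharP.nontrivial_of_char_ne_one (R := A) (Fact.out : p.Prime).ne_one
      exact one_ne_zero)
  | inr h =>
  have hm : (X ^ p - X - C a : A[X]).Monic := by
    rw [sub_sub]
    refine monic_X_pow_sub ?_
    rw [degree_X_add_C]
    exact_mod_cast (Fact.out : p.Prime).one_lt
  let Q : StandardEtalePair A :=
    { f := X ^ p - X - C a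
      monic_f := hm
      g := 1
      cond := ⟨-1, 0, 0, by
        simp [derivative_X_pow, CharP.cast_eq_zero A p]⟩ }
  haveI : Algebra.Etale A (Localization.Away (AdjoinRoot.mk Q.f Q.g)) := Algebra.Etale.of_equiv Q.equivAwayAdjoinRoot
  have h1 : IsUnit (AdjoinRoot.mk Q.f Q.g) := isUnit_one.map _
  exact ⟨Algebra.Etale.of_equiv ((IsLocalization.atUnit (AdjoinRoot Q.f) (Localization.Away (AdjoinRoot.mk Q.f Q.g))
    (AdjoinRoot.mk Q.f Q.g) h1).restrictScalars A).symm, Monic.finite_adjoinRoot hm⟩

/-- Let p be a prime and A a commutative ring of characteristic p. Then every principal ℤ/p-cover P of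
Spec A (a finite étale cover with an action of ℤ/p making it a torsor) is isomorphic over Spec A to
an Artin–Schreier cover Spec A[T]/(T^p − T − a) for some a ∈ A, compatibly with the actions: under
the isomorphism the given action of j ∈ ℤ/p on P corresponds to the automorphism of the
Artin–Schreier cover induced by T ↦ T + j. The published statement is for any base S of
characteristic p on which Frobenius fixes no nonzero element of H¹(S, O_S); it is stated here for S
= Spec A affine. -/
theorem result (A : Type u) [CommRing A] (p : ℕ) [Fact p.Prime] [CharP A p]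
    (P : FEt.Cat (Spec (CommRingCat.of A))) (ρ : Multiplicative (ZMod p) →* Aut P)
    (hP : SGA1t.IsPrincipal (Multiplicative (ZMod p)) P ρ) :
    ∃ (a : A) (e : P.left ≅ Spec (CommRingCat.of (SGA1t.artinSchreier A p a))),
      e.hom ≫ Spec.map (CommRingCat.ofHom (algebraMap A (SGA1t.artinSchreier A p a))) = P.hom ∧
      ∀ j : ZMod p, (ρ (Multiplicative.ofAdd j)).hom.left ≫ e.hom =
        e.hom ≫ Spec.map (CommRingCat.ofHom (SGA1t.artinSchreierShift A p a j)) := by
  classical
  obtain ⟨θ, hθ⟩ := GrothLib.Principal21.exists_sum_act_eq_one hP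
  let B := Γ(P.left, ⊤)
  let ψ : A →+* B := (GrothLib.Principal21.str P).hom
  let σ : ZMod p → (B →+* B) := fun j => (GrothLib.Principal21.act P ρ (Multiplicative.ofAdd j)).hom
  let c : ZMod p →+* A := ZMod.castHom (dvd_refl p) A
  haveI : CharP B p := by
    haveI : Nontrivial A := CharP.nontrivial_of_char_ne_one (R := A) (Fact.out : p.Prime).ne_one
    haveI : Nontrivial B := by
      obtain ⟨𝔪, h𝔪⟩ := Ideal.exists_maximal A
      letI : Field (A ⧸ 𝔪) := Ideal.Quotient.field 𝔪
      let Ω := AlgebraicClosure (A ⧸ 𝔪)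
      let χ : CommRingCat.of A ⟶ CommRingCat.of Ω :=
        CommRingCat.ofHom ((algebraMap (A ⧸ 𝔪) Ω).comp (Ideal.Quotient.mk 𝔪))
      obtain ⟨s⟩ := GrothLib.Principal21.nonempty_fiberObj hP (Spec.map χ)
      exact (GrothLib.Principal21.ev s).hom.domain_nontrivial
    have hchar : (p : B) = 0 := by rw [← map_natCast ψ, CharP.cast_eq_zero, map_zero]
    exact (CharP.charP_iff_prime_eq_zero (Fact.out : p.Prime)).2 hchar
  let y : B := -∑ j : ZMod p, ψ (c j) * σ j θ
  have hmul : ∀ i j b, σ i (σ j b) = σ (j + i) b := fun i j b =>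
    (GrothLib.Principal21.act_mul_apply P ρ (Multiplicative.ofAdd j) (Multiplicative.ofAdd i) b).symm
  have hstr : ∀ i a, σ i (ψ a) = ψ a := fun i a => GrothLib.Principal21.act_str_apply P ρ _ a
  have hsum : ∑ j : ZMod p, σ j θ = 1 :=
    (Fintype.sum_equiv Multiplicative.ofAdd _ _ fun _ => rfl).trans hθ
  have hy : ∀ i, σ i y = y + ψ (c i) := fun i => by
    have e : σ i (∑ j : ZMod p, ψ (c j) * σ j θ) = ∑ k : ZMod p, (ψ (c k) * σ k θ - ψ (c i) * σ k θ) := by
      rw [map_sum]
      refine Fintype.sum_equiv (Equiv.addRight i) _ _ fun j => ?_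
      rw [Equiv.coe_addRight, map_mul, hstr, hmul, ← sub_mul, ← map_sub ψ, ← map_sub c, add_sub_cancel_right]
    change σ i (-_) = -_ + _
    rw [map_neg, e, Finset.sum_sub_distrib, ← Finset.mul_sum, hsum, mul_one, neg_sub]
    abel
  have hcp : ∀ i : ZMod p, c i ^ p = c i := fun i => by rw [← map_pow, ZMod.pow_card]
  obtain ⟨a, ha⟩ := GrothLib.Principal21.exists_str_eq hP (y ^ p - y) fun g => by
    change σ g.toAdd (y ^ p - y) = _
    rw [map_sub, map_pow, hy, add_pow_char, ← map_pow, hcp]
    abel
  obtain ⟨het, hfin⟩ := etale_artinSchreier A p a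
  let χ : SGA1t.artinSchreier A p a →+* B := Ideal.Quotient.lift _ (Polynomial.eval₂RingHom ψ y) fun q hq => by
    obtain ⟨r, rfl⟩ := Ideal.mem_span_singleton'.1 hq
    have : Polynomial.eval₂RingHom ψ y ((Polynomial.X : Polynomial A) ^ p - Polynomial.X - Polynomial.C a) = 0 := by
      simp only [map_sub, map_pow, Polynomial.coe_eval₂RingHom, Polynomial.eval₂_X, Polynomial.eval₂_C,
        Polynomial.eval₂_sub, Polynomial.eval₂_pow]
      exact sub_eq_zero.2 ha.symm
    rw [map_mul, this, mul_zero]
  let T : SGA1t.artinSchreier A p a := Ideal.Quotient.mk _ Polynomial.X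
  have hext : ∀ {D : Type u} [CommRing D] (u v : SGA1t.artinSchreier A p a →+* D),
      u.comp (algebraMap A _) = v.comp (algebraMap A _) → u T = v T → u = v := fun u v h1 h2 =>
    Ideal.Quotient.ringHom_ext (Polynomial.ringHom_ext (fun r => DFunLike.congr_fun h1 r) h2)
  have hshift : ∀ j, SGA1t.artinSchreierShift A p a j T = T + algebraMap A _ (c j) := fun j => by
    change Ideal.Quotient.mk _ (Polynomial.aeval _ Polynomial.X) = _
    rw [Polynomial.aeval_X, map_add]
    rfl
  have hshiftC : ∀ j, (SGA1t.artinSchreierShift A p a j).comp (algebraMap A _) = algebraMap A _ := fun j =>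
    RingHom.ext fun r => by
      change Ideal.Quotient.mk _ (Polynomial.aeval _ (Polynomial.C r)) = _
      rw [Polynomial.aeval_C]
      rfl
  have hroot : T ^ p - T = algebraMap A (SGA1t.artinSchreier A p a) a := by
    refine sub_eq_zero.1 (Eq.trans ?_ (Ideal.Quotient.eq_zero_iff_mem.2 (Ideal.subset_span rfl)))
    simp only [map_sub, map_pow]
    rfl
  obtain ⟨e, he1, he2⟩ := GrothLib.Principal21.exists_iso hP (SGA1t.artinSchreier A p a) χ
    (fun r => Polynomial.eval₂_C ψ y) (fun g => SGA1t.artinSchreierShift A p a g.toAdd)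
    (fun g x => by
      refine congr($(hext (χ.comp (SGA1t.artinSchreierShift A p a g.toAdd)) ((σ g.toAdd).comp χ) ?_ ?_) x)
      · rw [RingHom.comp_assoc, hshiftC]
        exact RingHom.ext fun r => ((congrArg _ (Polynomial.eval₂_C ψ y)).trans
          ((hstr _ r).trans (Polynomial.eval₂_C ψ y).symm)).symm
      · change χ (SGA1t.artinSchreierShift A p a g.toAdd T) = σ g.toAdd (χ T)
        rw [hshift, map_add]
        change Polynomial.eval₂ ψ y Polynomial.X + Polynomial.eval₂ ψ y (Polynomial.C _) = σ _ (Polynomial.eval₂ ψ y Polynomial.X)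
        rw [Polynomial.eval₂_X, Polynomial.eval₂_C, hy])
    (fun Ω _ _ v v' hvv => by
      let r := v' T - v T
      haveI : CharP Ω p := (CharP.charP_iff_prime_eq_zero (Fact.out : p.Prime)).2 (by
        rw [← map_natCast (v.comp (algebraMap A (SGA1t.artinSchreier A p a))), CharP.cast_eq_zero, map_zero])
      have hr : r ^ p = r := by
        have h1 := congrArg v hroot
        have h2 := congrArg v' hroot
        rw [map_sub, map_pow, ← RingHom.comp_apply v (algebraMap A _)] at h1
        rw [map_sub, map_pow, ← RingHom.comp_apply v' (algebraMap A _), ← hvv] at h2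
        rw [sub_pow_char, sub_eq_sub_iff_sub_eq_sub, h1, h2]
      obtain ⟨j, hj⟩ : ∃ j : ZMod p, ZMod.castHom (dvd_refl p) Ω j = r := by
        let f : Polynomial Ω := Polynomial.X ^ p - Polynomial.X
        have hf : f ≠ 0 := FiniteField.X_pow_card_sub_X_ne_zero Ω (Fact.out : p.Prime).one_lt
        have hsub : Finset.univ.image (ZMod.castHom (dvd_refl p) Ω) ⊆ f.roots.toFinset := by
          intro x hx
          obtain ⟨i, -, rfl⟩ := Finset.mem_image.1 hx
          rw [Multiset.mem_toFinset, Polynomial.mem_roots hf]
          simp only [f, Polynomial.IsRoot, Polynomial.eval_sub, Polynomial.eval_pow, Polynomial.eval_X,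
            ← map_pow, ZMod.pow_card, sub_self]
        have heq := Finset.eq_of_subset_of_card_le hsub (by
          rw [Finset.card_image_of_injective _ (ZMod.castHom (dvd_refl p) Ω).injective, Finset.card_univ, ZMod.card]
          refine (Multiset.toFinset_card_le _).trans ((Polynomial.card_roots' f).trans ?_)
          rw [FiniteField.X_pow_card_sub_X_natDegree_eq Ω (Fact.out : p.Prime).one_lt])
        have hmem : r ∈ f.roots.toFinset := by
          rw [Multiset.mem_toFinset, Polynomial.mem_roots hf]
          simp [f, hr]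
        rw [← heq] at hmem
        obtain ⟨i, -, hi⟩ := Finset.mem_image.1 hmem
        exact ⟨i, hi⟩
      refine ⟨Multiplicative.ofAdd j, hext _ _ ?_ ?_⟩
      · rw [RingHom.comp_assoc, hshiftC, hvv]
      · change v (SGA1t.artinSchreierShift A p a j T) = v' T
        rw [hshift, map_add]
        have e : v (algebraMap A _ (c j)) = ZMod.castHom (dvd_refl p) Ω j :=
          congr($(Subsingleton.elim ((v.comp (algebraMap A _)).comp c) (ZMod.castHom (dvd_refl p) Ω)) j)
        rw [e, hj]
        exact add_sub_cancel _ _)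
    (fun Ω _ _ v g g' h => by
      haveI : CharP Ω p := (CharP.charP_iff_prime_eq_zero (Fact.out : p.Prime)).2 (by
        rw [← map_natCast (v.comp (algebraMap A (SGA1t.artinSchreier A p a))), CharP.cast_eq_zero, map_zero])
      have h1 := DFunLike.congr_fun h T
      simp only [RingHom.comp_apply, hshift, map_add, add_right_inj] at h1
      have e : ∀ j, v (algebraMap A _ (c j)) = ZMod.castHom (dvd_refl p) Ω j := fun j =>
        congr($(Subsingleton.elim ((v.comp (algebraMap A _)).comp c) (ZMod.castHom (dvd_refl p) Ω)) j)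
      rw [e, e] at h1
      exact Multiplicative.toAdd.injective ((ZMod.castHom (dvd_refl p) Ω).injective h1))
  exact ⟨a, e, he1, fun j => he2 (Multiplicative.ofAdd j)⟩

end Groth.Agent.S3721
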