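import Groth.Statements.S3724
import Groth.Agent.S6620
import Groth.Agent.Lib.CohDer19.InjAmp


set_option autoImplicit false
set_option linter.all false
set_option backward.isDefEq.respectTransparency false
set_option maxHeartbeats 1000000
universe u
open CategoryTheory CategoryTheory.Limits AlgebraicGeometry Opposite
attribute [local instance] HasDerivedCategory.standard
open EtDl

namespace Groth.Agent.S3724


open DerivedCategory in
/-- No morphisms from a complex `≥ p` to a bounded below complex of injective amplitude `< p`. -/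
theorem hom_eq_zero_of_injAmp {C : Type*} [Category C] [Abelian C] [HasDerivedCategory C] [EnoughInjectives C]
    (X K : DerivedCategory C) (a : ℤ) [X.IsGE a] (m p : ℤ) (hp : m < p) [K.IsGE p]
    (h : ∀ (Y : C) (i : ℤ), m < i → ∀ φ : (singleFunctor C 0).obj Y ⟶ X⟦i⟧, φ = 0) (ψ : K ⟶ X) : ψ = 0 := by
  obtain ⟨M, hM, hinj, ⟨e⟩⟩ := GrothLib.CohDer19.InjAmp.exists_injective_rep X a
  haveI := hM
  have h' : ∀ (Y : C) (i : ℤ), m < i →
      ∀ χ : Q.obj ((CochainComplex.singleFunctor C i).obj Y) ⟶ Q.obj M, χ = 0 := by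
    intro Y i hi χ
    have := (GrothLib.CohDer19.InjAmp.hom_shift_eq_zero_iff X Y i).1 (h Y i hi) (χ ≫ e.hom)
    rw [← cancel_mono e.hom, this, zero_comp]
  obtain ⟨hge, hinj', hq⟩ := GrothLib.CohDer19.InjAmp.truncation M a m hinj h'
  haveI := hge
  haveI := hq
  haveI : (M.truncLE m).IsKInjective := CochainComplex.isKInjective_of_injective _ a
  let e' : Q.obj (M.truncLE m) ≅ X := asIso (Q.map (M.ιTruncLE m)) ≪≫ e
  obtain ⟨K', hK', ⟨eK⟩⟩ := DerivedCategory.exists_iso_Q_obj_of_isGE K p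
  haveI := hK'
  obtain ⟨f, hf⟩ := GrothLib.CohDer19.InjAmp.exists_lift (eK.inv ≫ ψ ≫ e'.inv)
  have hf0 : f = 0 := by
    ext n
    rcases lt_or_ge n p with hn | hn
    · exact (K'.isZero_of_isStrictlyGE p n hn).eq_of_src _ _
    · exact ((M.truncLE m).isZero_of_isStrictlyLE m n (by omega)).eq_of_tgt _ _
  rw [hf0, Q.map_zero] at hf
  rw [← cancel_epi eK.inv, ← cancel_mono e'.inv, comp_zero, zero_comp, Category.assoc, ← hf]


/-- Let f : X -> S be a morphism of quasi-compact quasi-separated schemes with a compactification c, Λ a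
commutative ring with n·1 = 0 for some n ≥ 1, and Rf^! any right adjoint of Rf_! : D^+(X_et, Λ) ->
D^+(S_et, Λ). Let L in D^b(S_et, Λ) have injective dimension at most m, in the sense that Hom(F,
L[i]) = 0 for every sheaf of Λ-modules F on S_et and every i > m. Then Rf^! L has injective
dimension at most m in the same sense on X_et. -/
theorem result {X S : Scheme.{u}} [CompactSpace ↥X] [QuasiSeparatedSpace ↥X] [CompactSpace ↥S] [QuasiSeparatedSpace ↥S]
    {f : X ⟶ S} (c : DEt.Compactification f)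
    (Λ : Type (u + 1)) [CommRing Λ] (n : ℕ) (hn : 0 < n) (hΛ : (n : Λ) = 0)
    (G : DerivedCategory.Plus (EtModW.Mod Λ S) ⥤ DerivedCategory.Plus (EtModW.Mod Λ X))
    (adj : EtDl.RshriekPlus Λ c ⊣ G) (L : DerivedCategory.Plus (EtModW.Mod Λ S)) (a b : ℤ)
    (ha : L.IsGE a) (hb : L.IsLE b) (m : ℤ)
    (hL : ∀ (F : EtModW.Mod Λ S) (i : ℤ), m < i →
      Subsingleton ((DerivedCategory.Plus.singleFunctor (EtModW.Mod Λ S) 0).obj F ⟶ L⟦i⟧))
    (F : EtModW.Mod Λ X) (i : ℤ) (hi : m < i) :
    Subsingleton ((DerivedCategory.Plus.singleFunctor (EtModW.Mod Λ X) 0).obj F ⟶ (G.obj L)⟦i⟧) := by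
  let T := EtDl.RshriekPlus Λ c
  let P := ((DerivedCategory.Plus.singleFunctor (EtModW.Mod Λ X) 0).obj F)⟦-i⟧
  have hP : P.IsGE i := DerivedCategory.Plus.TStructure.t.isGE_shift _ 0 (-i) i (by omega)
  have h1 : ((EtDl.extZeroPlus Λ c.j).obj P).IsGE i := Groth.Agent.S6620.result _ P i
  have h2 : (T.obj P).IsGE i := Groth.Agent.S6620.result _ _ i
  have hzero : Subsingleton (T.obj P ⟶ L) := by
    refine ⟨fun x y => DerivedCategory.Plus.ι.map_injective ?_⟩
    have key : ∀ ψ : DerivedCategory.Plus.ι.obj (T.obj P) ⟶ DerivedCategory.Plus.ι.obj L, ψ = 0 := by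
      intro ψ
      refine hom_eq_zero_of_injAmp _ _ a m i hi (fun Y j hj φ => ?_) ψ
      haveI := hL Y j hj
      let ec := (DerivedCategory.Plus.ι.commShiftIso j).app L
      obtain ⟨φ', hφ'⟩ := DerivedCategory.Plus.ι.map_surjective
        ((DerivedCategory.Plus.singleFunctorιIso (EtModW.Mod Λ S) 0).hom.app Y ≫ φ ≫ ec.inv)
      rw [Subsingleton.elim φ' 0, Functor.map_zero] at hφ'
      rw [← cancel_epi ((DerivedCategory.Plus.singleFunctorιIso (EtModW.Mod Λ S) 0).hom.app Y),
        ← cancel_mono ec.inv, comp_zero, zero_comp, Category.assoc, ← hφ']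
    exact (key _).trans (key _).symm
  exact ((((shiftEquiv' (DerivedCategory.Plus (EtModW.Mod Λ X)) (-i) i (neg_add_cancel i)).toAdjunction.homEquiv
    ((DerivedCategory.Plus.singleFunctor (EtModW.Mod Λ X) 0).obj F) (G.obj L)).symm.trans
      (adj.homEquiv P L).symm)).subsingleton


end Groth.Agent.S3724
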