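import Groth.Statements.S3731
import Mathlib.Algebra.Homology.DerivedCategory.TStructure
import Mathlib.CategoryTheory.Triangulated.TStructure.TruncLTGE

set_option autoImplicit false
universe u v
open CategoryTheory CategoryTheory.Limits
attribute [local instance] HasDerivedCategory.standard
open EtDl

namespace Groth.Agent.S3731

open DerivedCategory Pretriangulated

variable {A : Type u} [Category.{v} A] [Abelian A]

local notation "H" => DerivedCategory.homologyFunctor A
local notation "τ" =>
  (DerivedCategory.TStructure.t : CategoryTheory.Triangulated.TStructure (DerivedCategory A))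

/-- `X` is at most `b` after truncation `≥ a` -/
lemma isLE_truncGE (X : DerivedCategory A) (a b : ℤ) [TStructure.t.IsLE X b] :
    TStructure.t.IsLE ((TStructure.t.truncGE a).obj X) b := by
  infer_instance

lemma mono_ι (X : DerivedCategory A) (b p : ℤ) (hp : p ≤ b) :
    Mono ((H p).map ((TStructure.t.truncLTι b).app X)) := by
  refine (HomologySequence.mono_homologyMap_mor₁_iff _ (TStructure.t.triangleLTGE_distinguished b X)
    (p - 1) p (by omega)).2 ?_
  refine IsZero.eq_of_src ?_ _ _
  exact ((isGE_iff _ b).1 (inferInstanceAs (TStructure.t.IsGE ((TStructure.t.truncGE b).obj X) b))) _ (by omega)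

lemma isIso_π (X : DerivedCategory A) (b : ℤ) : IsIso ((H b).map ((TStructure.t.truncGEπ b).app X)) := by
  have h0 : ∀ i, b ≤ i → IsZero ((H i).obj ((TStructure.t.truncLT b).obj X)) := fun i hi =>
    ((isLE_iff _ (b - 1)).1 (inferInstanceAs (TStructure.t.IsLE ((TStructure.t.truncLT b).obj X) (b - 1)))) i (by omega)
  have : Mono ((H b).map ((TStructure.t.truncGEπ b).app X)) :=
    (HomologySequence.mono_homologyMap_mor₂_iff _ (TStructure.t.triangleLTGE_distinguished b X) b).2
      ((h0 b le_rfl).eq_of_src _ _)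
  have : Epi ((H b).map ((TStructure.t.truncGEπ b).app X)) :=
    (HomologySequence.epi_homologyMap_mor₂_iff _ (TStructure.t.triangleLTGE_distinguished b X) b (b + 1)
      rfl).2 ((h0 (b + 1) (by omega)).eq_of_tgt _ _)
  exact isIso_of_mono_of_epi _

lemma single_hom_eq_zero {U V : DerivedCategory A} (b : ℤ) [U.IsGE b] [U.IsLE b] [V.IsGE b]
    [V.IsLE b] (g : U ⟶ V) (hg : (H b).map g = 0) : g = 0 := by
  obtain ⟨Y, ⟨e⟩⟩ := exists_iso_singleFunctor_obj_of_isGE_of_isLE U b
  obtain ⟨Y', ⟨e'⟩⟩ := exists_iso_singleFunctor_obj_of_isGE_of_isLE V b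
  let φ := (singleFunctor A b).preimage (e.inv ≫ g ≫ e'.hom)
  have hφ : φ = 0 := by
    have eq := NatIso.naturality_1 (singleFunctorCompHomologyFunctorIso A b) φ
    dsimp at eq
    rw [← eq, Functor.map_preimage]
    simp [hg]
  have h2 : e.inv ≫ g ≫ e'.hom = 0 := by
    rw [← (singleFunctor A b).map_preimage (e.inv ≫ g ≫ e'.hom)]
    change (singleFunctor A b).map φ = 0
    rw [hφ, Functor.map_zero]
  rw [← cancel_epi e.inv, ← cancel_mono e'.hom]
  simpa using h2

lemma exists_factor_truncLT {X Y : DerivedCategory A} (b : ℤ) [X.IsLE b] [Y.IsLE b] (f : X ⟶ Y)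
    (hf : (H b).map f = 0) : ∃ l : X ⟶ (TStructure.t.truncLT b).obj Y, f = l ≫ (TStructure.t.truncLTι b).app Y := by
  refine Triangle.coyoneda_exact₂ _ (TStructure.t.triangleLTGE_distinguished b Y) f ?_
  change f ≫ (TStructure.t.truncGEπ b).app Y = 0
  have := isLE_truncGE X b b
  have := isLE_truncGE Y b b
  let g := TStructure.t.descTruncGE (f ≫ (TStructure.t.truncGEπ b).app Y) b
  have hg : (TStructure.t.truncGEπ b).app X ≫ g = f ≫ (TStructure.t.truncGEπ b).app Y := TStructure.t.π_descTruncGE _ _
  have hg0 : g = 0 := by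
    refine single_hom_eq_zero b g ?_
    have := isIso_π X b
    rw [← cancel_epi ((H b).map ((TStructure.t.truncGEπ b).app X)), ← Functor.map_comp, hg, Functor.map_comp,
      hf, zero_comp, comp_zero]
  rw [← hg, hg0, comp_zero]

/-- the composite of the first `n` maps of a chain -/
noncomputable def comp (X : ℕ → DerivedCategory A) (f : ∀ i, X i ⟶ X (i + 1)) : ∀ n, X 0 ⟶ X n
  | 0 => 𝟙 _
  | n + 1 => comp X f n ≫ f n

lemma comp_succ' (X : ℕ → DerivedCategory A) (f : ∀ i, X i ⟶ X (i + 1)) (n : ℕ) :
    comp X f (n + 1) = f 0 ≫ comp (fun i => X (i + 1)) (fun i => f (i + 1)) n := by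
  induction n with
  | zero => exact (Category.id_comp _).trans (Category.comp_id _).symm
  | succ n ih =>
    change comp X f (n + 1) ≫ f (n + 1) = _
    rw [ih, Category.assoc]
    rfl

lemma comp_nat (F : DerivedCategory A ⥤ DerivedCategory A) (η : F ⟶ 𝟭 _)
    (X : ℕ → DerivedCategory A) (f : ∀ i, X i ⟶ X (i + 1)) (n : ℕ) :
    η.app (X 0) ≫ comp X f n =
      comp (fun i => F.obj (X i)) (fun i => F.map (f i)) n ≫ η.app (X n) := by
  induction n with
  | zero => exact (Category.comp_id _).trans (Category.id_comp _).symm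
  | succ n ih =>
    change η.app (X 0) ≫ comp X f n ≫ f n =
      (comp (fun i => F.obj (X i)) (fun i => F.map (f i)) n ≫ F.map (f n)) ≫ η.app (X (n + 1))
    rw [← Category.assoc, ih, Category.assoc, Category.assoc, η.naturality]
    rfl

/-- a chain of `n` maps zero on cohomology between objects with amplitude `[a, a+n)` composes
to zero -/
theorem ghost (n : ℕ) : ∀ (a : ℤ) (X : ℕ → DerivedCategory A) (f : ∀ i, X i ⟶ X (i + 1)),
    (∀ i, i ≤ n → TStructure.t.IsGE (X i) a) → (∀ i, i ≤ n → TStructure.t.IsLE (X i) (a + n - 1)) →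
    (∀ i, i < n → ∀ p, p < a + n → (H p).map (f i) = 0) → comp X f n = 0 := by
  induction n with
  | zero =>
    intro a X f h1 h2 _
    have h := h1 0 le_rfl
    have h' := h2 0 le_rfl
    exact TStructure.t.zero_of_isLE_of_isGE _ (a - 1) a (by omega)
      (TStructure.t.isLE_of_le (X 0) (a + (0 : ℕ) - 1) (a - 1) (by simp)) h
  | succ n ih =>
    intro a X f h1 h2 h3
    obtain ⟨b, hb⟩ : ∃ b, b = a + (n : ℤ) := ⟨_, rfl⟩
    have hle : ∀ i, i ≤ n + 1 → TStructure.t.IsLE (X i) b := fun i hi => by
      have := h2 i hi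
      exact TStructure.t.isLE_of_le _ (a + (n + 1 : ℕ) - 1) b (by push_cast; omega)
    have := hle 0 (by omega)
    have := hle 1 (by omega)
    obtain ⟨l, hl⟩ := exists_factor_truncLT b (f 0) (h3 0 (by omega) b (by push_cast; omega))
    have hz : comp (fun i => (TStructure.t.truncLT b).obj (X (i + 1)))
        (fun i => (TStructure.t.truncLT b).map (f (i + 1))) n = 0 := by
      refine ih a _ _ (fun i hi => ?_) (fun i hi => ?_) fun i hi p hp => ?_
      · have := h1 (i + 1) (by omega)
        infer_instance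
      · rw [← hb]
        infer_instance
      · have := mono_ι (X (i + 1 + 1)) b p (by omega)
        rw [← cancel_mono ((H p).map ((TStructure.t.truncLTι b).app (X (i + 1 + 1)))), ← Functor.map_comp,
          zero_comp]
        erw [(TStructure.t.truncLTι b).naturality]
        rw [Functor.map_comp]
        erw [h3 (i + 1) (by omega) p (by push_cast; omega), comp_zero]
    rw [comp_succ', hl, Category.assoc,
      comp_nat (TStructure.t.truncLT b) (TStructure.t.truncLTι b) (fun i => X (i + 1)) (fun i => f (i + 1)) n, hz,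
      zero_comp, comp_zero]

/-- Let A be an abelian category, k ≥ 0, and K_0 -> K_1 -> ... -> K_{2k} a chain of 2k morphisms in the
derived category of A such that every K_i has H^p(K_i) = 0 for p outside [0, k] and every morphism
K_i -> K_{i+1} induces the zero map on H^p for all p < k. Let π : K_0 -> H^k(K_0)[-k] be the
morphism to the top cohomology object placed in degree k that induces the identity on H^k. Then the
composite K_0 -> K_{2k} factors through π. -/
theorem result {A : Type u} [Category.{v} A] [Abelian A] (k : ℕ)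
    (K : ComposableArrows (DerivedCategory A) (2 * k))
    (hK : ∀ (i : ℕ) (hi : i ≤ 2 * k) (p : ℤ), p < 0 ∨ (k : ℤ) < p →
      IsZero ((DerivedCategory.homologyFunctor A p).obj (K.obj' i)))
    (hf : ∀ (i : ℕ) (hi : i < 2 * k) (p : ℤ), p < (k : ℤ) →
      (DerivedCategory.homologyFunctor A p).map (K.map' i (i + 1)) = 0)
    (π : K.obj' 0 ⟶ (DerivedCategory.singleFunctor A (k : ℤ)).obj
      ((DerivedCategory.homologyFunctor A (k : ℤ)).obj (K.obj' 0)))
    (hπ : (DerivedCategory.homologyFunctor A (k : ℤ)).map π ≫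
      (DerivedCategory.singleFunctorCompHomologyFunctorIso A (k : ℤ)).hom.app
        ((DerivedCategory.homologyFunctor A (k : ℤ)).obj (K.obj' 0)) = 𝟙 _) :
    ∃ φ : (DerivedCategory.singleFunctor A (k : ℤ)).obj
        ((DerivedCategory.homologyFunctor A (k : ℤ)).obj (K.obj' 0)) ⟶ K.obj' (2 * k),
      K.map' 0 (2 * k) = π ≫ φ := by
  let X : ℕ → DerivedCategory A := fun i => K.obj ⟨min i (2 * k), by omega⟩
  let f : ∀ i, X i ⟶ X (i + 1) := fun i => K.map (homOfLE (Fin.mk_le_mk.2 (by omega)))
  have hX : ∀ i (p : ℤ), p < 0 ∨ (k : ℤ) < p → IsZero ((DerivedCategory.homologyFunctor A p).obj (X i)) := fun i p hp =>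
    hK (min i (2 * k)) (min_le_right _ _) p hp
  have hf' : ∀ i, i < k → ∀ p : ℤ, p < (k : ℤ) → (DerivedCategory.homologyFunctor A p).map (f i) = 0 := by
    intro i hi p hp
    have h := hf i (by omega) p hp
    have aux : ∀ (m m' : ℕ) (hm : m ≤ 2 * k) (hm' : m' ≤ 2 * k), m = i → m' = i + 1 →
        ∀ g : (⟨m, by omega⟩ : Fin (2 * k + 1)) ⟶ ⟨m', by omega⟩, (DerivedCategory.homologyFunctor A p).map (K.map g) = 0 := by
      intro m m' hm hm' e e' g
      subst e e'
      exact h
    exact aux _ _ (by omega) (by omega) (by omega) (by omega) _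
  have hc : ∀ n (h : (⟨min 0 (2 * k), by omega⟩ : Fin (2 * k + 1)) ≤ ⟨min n (2 * k), by omega⟩),
      comp X f n = K.map (homOfLE h) := by
    intro n
    induction n with
    | zero => intro h; exact ((congrArg K.map (Subsingleton.elim _ (𝟙 _))).trans (K.map_id _)).symm
    | succ n ih =>
      intro h
      change comp X f n ≫ f n = _
      rw [ih (Fin.mk_le_mk.2 (by omega))]
      exact (K.map_comp _ _).symm.trans (congrArg K.map (Subsingleton.elim _ _))
  have hge : ∀ i, TStructure.t.IsGE (X i) 0 := fun i => (isGE_iff _ _).2 fun p hp => hX i p (Or.inl hp)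
  have hle : ∀ i, TStructure.t.IsLE (X i) (k : ℤ) := fun i => (isLE_iff _ _).2 fun p hp => hX i p (Or.inr hp)
  have hz : comp (fun i => (TStructure.t.truncLT (k : ℤ)).obj (X i))
      (fun i => (TStructure.t.truncLT (k : ℤ)).map (f i)) k = 0 := by
    refine ghost k 0 _ _ (fun i _ => ?_) (fun i _ => ?_) fun i hi p hp => ?_
    · have := hge i
      infer_instance
    · rw [zero_add]
      infer_instance
    · have := mono_ι (X (i + 1)) (k : ℤ) p (by omega)
      rw [← cancel_mono ((DerivedCategory.homologyFunctor A p).map ((TStructure.t.truncLTι (k : ℤ)).app (X (i + 1)))), ← Functor.map_comp,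
        zero_comp]
      erw [(TStructure.t.truncLTι (k : ℤ)).naturality]
      rw [Functor.map_comp]
      erw [hf' i hi p (by omega), comp_zero]
  obtain ⟨ψ, hψ⟩ := Triangle.yoneda_exact₂ _ (TStructure.t.triangleLTGE_distinguished (k : ℤ) (X 0))
    (comp X f k) (by
      change (TStructure.t.truncLTι (k : ℤ)).app (X 0) ≫ comp X f k = 0
      rw [comp_nat (TStructure.t.truncLT (k : ℤ)) (TStructure.t.truncLTι (k : ℤ)) X f k, hz, zero_comp])
  have e0 : (0 : ℕ) = min 0 (2 * k) := by omega
  change ∃ φ, K.map _ = π ≫ φ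
  have hK0 : X 0 = K.obj' 0 := by
    congr 1
  let π' : X 0 ⟶ (singleFunctor A (k : ℤ)).obj ((DerivedCategory.homologyFunctor A (k : ℤ)).obj (K.obj' 0)) := eqToHom hK0 ≫ π
  let g := TStructure.t.descTruncGE π' (k : ℤ)
  have hg : (TStructure.t.truncGEπ (k : ℤ)).app (X 0) ≫ g = π' := TStructure.t.π_descTruncGE _ _
  have hiso : IsIso ((DerivedCategory.homologyFunctor A (k : ℤ)).map g) := by
    have hπi : IsIso ((DerivedCategory.homologyFunctor A (k : ℤ)).map π) := by
      rw [← Iso.app_hom, ← Iso.eq_comp_inv, Category.id_comp] at hπ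
      rw [hπ]
      infer_instance
    have : IsIso ((DerivedCategory.homologyFunctor A (k : ℤ)).map π') := by
      dsimp only [π']
      rw [Functor.map_comp]
      infer_instance
    have := isIso_π (X 0) (k : ℤ)
    have h2 : IsIso ((DerivedCategory.homologyFunctor A (k : ℤ)).map ((TStructure.t.truncGEπ (k : ℤ)).app (X 0)) ≫ (DerivedCategory.homologyFunctor A (k : ℤ)).map g) := by
      rw [← Functor.map_comp, hg]
      infer_instance
    exact IsIso.of_isIso_comp_left ((DerivedCategory.homologyFunctor A (k : ℤ)).map ((TStructure.t.truncGEπ (k : ℤ)).app (X 0))) _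
  have hgi : IsIso g := by
    refine (DerivedCategory.isIso_iff A g).2 fun p => ?_
    by_cases hp : p = (k : ℤ)
    · subst hp; exact hiso
    · have := hle 0
      have := isLE_truncGE (X 0) (k : ℤ) (k : ℤ)
      rcases lt_or_gt_of_ne hp with hp | hp
      · exact ⟨0, (isZero_of_isGE _ (k : ℤ) p hp).eq_of_src _ _, (isZero_of_isGE _ (k : ℤ) p hp).eq_of_src _ _⟩
      · exact ⟨0, (isZero_of_isLE _ (k : ℤ) p hp).eq_of_src _ _, (isZero_of_isLE _ (k : ℤ) p hp).eq_of_src _ _⟩
  refine ⟨inv g ≫ ψ ≫ K.map (homOfLE (Fin.mk_le_mk.2 (by omega))), ?_⟩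
  have hψ' : eqToHom hK0.symm ≫ comp X f k = π ≫ inv g ≫ ψ := by
    have : π = eqToHom hK0.symm ≫ (TStructure.t.truncGEπ (k : ℤ)).app (X 0) ≫ g := by
      rw [hg]; simp [π']
    rw [this]
    simp only [Category.assoc, IsIso.hom_inv_id_assoc]
    rw [hψ]
    rfl
  rw [← reassoc_of% hψ', hc k (Fin.mk_le_mk.2 (by omega))]
  rw [← eqToHom_map K (by simp : (⟨0, by omega⟩ : Fin (2 * k + 1)) = ⟨min 0 (2 * k), by omega⟩),
    ← Functor.map_comp, ← Functor.map_comp]
  congr 1

end Groth.Agent.S3731
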