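import Groth.Statements.S3747
-- import your own Groth.Agent.* helpers here
import Groth.Agent.Lib.K0Sub.ProjPush
import Groth.Agent.Lib.K0Sub.Pullback


set_option autoImplicit false
universe v u
open CategoryTheory CategoryTheory.Limits AlgebraicGeometry
attribute [local instance] HasDerivedCategory.standard
open KRR

namespace Groth.Agent.S3747

/-- Let f : X ⟶ Y be a regular closed imbedding of connected Noetherian schemes, where on Y every
coherent module is a quotient of a finite locally free one. Let (KX, PX, φX), (KY, PY, φY) be models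
of the λ-rings K(X), K(Y); let g : K(Y) ⟶ K(X) be the pull-back f^K ([E] ↦ [f^*E]) and h : K(X) ⟶
K(Y) the push-forward f_K ([F] ↦ alternating sum of the terms of a finite locally free resolution of
f_*F). Then h (x · g y) = h x · y for all x, y. -/
theorem result {X Y : Scheme.{u}} (f : X ⟶ Y) (hf : Mor2.IsRegularClosedImmersion f)
    [IsNoetherian X] [ConnectedSpace ↥X] [IsNoetherian Y] [ConnectedSpace ↥Y] (hYe : KRR.HasEnoughLocFree Y)
    (KX : Type v) [CommRing KX] [LambdaRing.LambdaOps KX] (PX : LambdaRing.PosStructure KX) (φX : SGA6.Kvb X →+ KX) (hKX : KRR.IsModel X KX PX φX)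
    (KY : Type v) [CommRing KY] [LambdaRing.LambdaOps KY] (PY : LambdaRing.PosStructure KY) (φY : SGA6.Kvb Y →+ KY) (hKY : KRR.IsModel Y KY PY φY)
    (g : KY →+ KX) (hg : KRR.IsPull f φY φX g) (h : KX →+ KY) (hh : KRR.IsPushCl f φX φY h)
    (x : KX) (y : KY) : h (x * g y) = h x * y := by
  haveI := hf.1
  have hcl : ∀ (F : X.Modules), FlatMod.IsFinLocFree F → ∀ (n : ℕ) (c : SGA6.Kvb Y),
      GrothLib.K0Sub.R (KRR.vbP Y) (GrothLib.K0Sub.cohP Y) n ((Scheme.Modules.pushforward f).obj F) c →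
      h (φX (KRR.cl X F)) = φY c := fun F hF n c hR => by
    obtain ⟨L, π, hL⟩ := GrothLib.K0Sub.exists_isLFRes_of_R hYe n _ c hR
    rw [hh F hF n L π hL, GrothLib.K0Sub.R.unique (GrothLib.K0Sub.resHyp_vb hYe) hR
      (GrothLib.K0Sub.R_of_isLFRes n _ L π (GrothLib.K0Sub.isCoh_push f (GrothLib.Euler.isCoh_of_isFinLocFree hF)) hL),
      map_sum]
    exact Finset.sum_congr rfl fun k _ => (map_zsmul φY _ _).symm
  obtain ⟨x', rfl⟩ := hKX.bijective.2 x
  obtain ⟨y', rfl⟩ := hKY.bijective.2 y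
  have key : ∀ (F : X.Modules), FlatMod.IsFinLocFree F → ∀ (E : Y.Modules), FlatMod.IsFinLocFree E →
      h (φX (KRR.cl X F) * g (φY (KRR.cl Y E))) = h (φX (KRR.cl X F)) * φY (KRR.cl Y E) := by
    intro F hF E hE
    have hE' := GrothLib.OX.isFinLocFree_pullback f hE
    obtain ⟨n, hn⟩ := GrothLib.K0Sub.exists_pd_push hf hF
    obtain ⟨c, hR⟩ := GrothLib.K0Sub.exists_R_of_pd hYe n _
      (GrothLib.K0Sub.isCoh_push f (GrothLib.Euler.isCoh_of_isFinLocFree hF)) hn
    obtain ⟨θ, hθ⟩ := GrothLib.K0Sub.exists_tensor E hE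
    have e : CohB1.tensorMod ((Scheme.Modules.pushforward f).obj F) E ≅
        (Scheme.Modules.pushforward f).obj (CohB1.tensorMod F ((Scheme.Modules.pullback f).obj E)) :=
      GrothLib.GrTilde.tensorModComm _ _ ≪≫ @asIso _ _ _ _ (GrothLib.ProjFormula.projHom f E F) (GrothLib.ProjFormula.isIso_projHom f hE F) ≪≫
        (Scheme.Modules.pushforward f).mapIso (GrothLib.GrTilde.tensorModComm _ _)
    have hR' := GrothLib.K0Sub.R.of_iso (GrothLib.K0Sub.resHyp_vb hYe) e
      (GrothLib.K0Sub.R_tensor hE hθ n _ c hR)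
    have hm : φY.comp θ = (AddMonoidHom.mulRight (φY (KRR.cl Y E))).comp φY :=
      GrothLib.K0Sub.hom_ext (P := KRR.vbP Y) fun L hL => by
        show φY (θ (KRR.cl Y L)) = φY (KRR.cl Y L) * φY (KRR.cl Y E)
        rw [hθ L hL, hKY.map_mul L E hL hE]
        rfl
    rw [hg E hE, hKX.map_mul F _ hF hE', hcl F hF n c hR]
    exact (hcl _ (GrothLib.OX.isFinLocFree_tensor hF hE') n _ hR').trans (DFunLike.congr_fun hm c)
  have k1 : ∀ (F : X.Modules), FlatMod.IsFinLocFree F →
      (h.comp ((AddMonoidHom.mulLeft (φX (KRR.cl X F))).comp g)).comp φY =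
        (AddMonoidHom.mulLeft (h (φX (KRR.cl X F)))).comp φY := fun F hF =>
    GrothLib.K0Sub.hom_ext (P := KRR.vbP Y) fun E hE => key F hF E hE
  have k2 : (h.comp (AddMonoidHom.mulRight (g (φY y')))).comp φX =
      ((AddMonoidHom.mulRight (φY y')).comp h).comp φX :=
    GrothLib.K0Sub.hom_ext (P := KRR.vbP X) fun F hF => DFunLike.congr_fun (k1 F hF) y'
  exact DFunLike.congr_fun k2 x'

end Groth.Agent.S3747
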