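import Groth.Statements.S3748
-- import your own Groth.Agent.* helpers here
import Groth.Agent.Lib.K0Sub.PushComp


set_option autoImplicit false
universe v u
open CategoryTheory CategoryTheory.Limits AlgebraicGeometry
attribute [local instance] HasDerivedCategory.standard
open KRR

namespace Groth.Agent.S3748

/-- Let f : X ⟶ Y and g : Y ⟶ Z be regular closed imbeddings of connected Noetherian schemes, where on Y
and on Z every coherent module is a quotient of a finite locally free one. With models of K(X),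
K(Y), K(Z) and push-forwards a = f_K, b = g_K, c = (f ≫ g)_K (each defined through finite locally
free resolutions of direct images of bundles), one has c = b ∘ a. -/
theorem result {X Y Z : Scheme.{u}} (f : X ⟶ Y) (g : Y ⟶ Z)
    (hf : Mor2.IsRegularClosedImmersion f) (hg : Mor2.IsRegularClosedImmersion g)
    [IsNoetherian X] [ConnectedSpace ↥X] [IsNoetherian Y] [ConnectedSpace ↥Y] (hYe : KRR.HasEnoughLocFree Y) [IsNoetherian Z] [ConnectedSpace ↥Z] (hZe : KRR.HasEnoughLocFree Z)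
    (KX : Type v) [CommRing KX] [LambdaRing.LambdaOps KX] (PX : LambdaRing.PosStructure KX) (φX : SGA6.Kvb X →+ KX) (hKX : KRR.IsModel X KX PX φX)
    (KY : Type v) [CommRing KY] [LambdaRing.LambdaOps KY] (PY : LambdaRing.PosStructure KY) (φY : SGA6.Kvb Y →+ KY) (hKY : KRR.IsModel Y KY PY φY)
    (KZ : Type v) [CommRing KZ] [LambdaRing.LambdaOps KZ] (PZ : LambdaRing.PosStructure KZ) (φZ : SGA6.Kvb Z →+ KZ) (hKZ : KRR.IsModel Z KZ PZ φZ)
    (a : KX →+ KY) (ha : KRR.IsPushCl f φX φY a) (b : KY →+ KZ) (hb : KRR.IsPushCl g φY φZ b)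
    (c : KX →+ KZ) (hc : KRR.IsPushCl (f ≫ g) φX φZ c) : c = b.comp a := by
  haveI := hf.1
  haveI := hg.1
  obtain ⟨ψf, hψf⟩ := GrothLib.K0Sub.exists_pushClass hYe hf
  obtain ⟨ψg, hψg⟩ := GrothLib.K0Sub.exists_pushClass hZe hg
  have hcl : ∀ {A B : Scheme.{u}} (i : A ⟶ B) [IsClosedImmersion i] [IsNoetherian A] [IsNoetherian B]
      (hB : KRR.HasEnoughLocFree B) {K₁ K₂ : Type v} [CommRing K₁] [CommRing K₂]
      (φA : SGA6.Kvb A →+ K₁) (φB : SGA6.Kvb B →+ K₂) (t : K₁ →+ K₂), KRR.IsPushCl i φA φB t →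
      ∀ (F : A.Modules), FlatMod.IsFinLocFree F → ∀ (n : ℕ) (a : SGA6.Kvb B),
        GrothLib.K0Sub.R (KRR.vbP B) (GrothLib.K0Sub.cohP B) n ((Scheme.Modules.pushforward i).obj F) a →
        t (φA (KRR.cl A F)) = φB a := by
    intro A B i _ _ _ hB K₁ K₂ _ _ φA φB t ht F hF n a hR
    obtain ⟨L, π, hL⟩ := GrothLib.K0Sub.exists_isLFRes_of_R hB n _ a hR
    rw [ht F hF n L π hL, GrothLib.K0Sub.R.unique (GrothLib.K0Sub.resHyp_vb hB) hR
      (GrothLib.K0Sub.R_of_isLFRes n _ L π (GrothLib.K0Sub.isCoh_push i (GrothLib.Euler.isCoh_of_isFinLocFree hF)) hL),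
      map_sum]
    exact Finset.sum_congr rfl fun k _ => (map_zsmul φB _ _).symm
  have hb' : b.comp φY = φZ.comp ψg := GrothLib.K0Sub.hom_ext (P := KRR.vbP Y) fun E hE => by
    obtain ⟨n, hn⟩ := GrothLib.K0Sub.exists_pd_push hg hE
    obtain ⟨a₂, hR⟩ := GrothLib.K0Sub.exists_R_of_pd hZe n _
      (GrothLib.K0Sub.isCoh_push g (GrothLib.Euler.isCoh_of_isFinLocFree hE)) hn
    show b (φY (KRR.cl Y E)) = φZ (ψg (KRR.cl Y E))
    rw [hcl g hZe φY φZ b hb E hE n a₂ hR, hψg E hE n a₂ hR]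
  have h : c.comp φX = (b.comp a).comp φX := GrothLib.K0Sub.hom_ext (P := KRR.vbP X) fun F hF => by
    obtain ⟨n, hn⟩ := GrothLib.K0Sub.exists_pd_push hf hF
    obtain ⟨a₁, hR⟩ := GrothLib.K0Sub.exists_R_of_pd hYe n _
      (GrothLib.K0Sub.isCoh_push f (GrothLib.Euler.isCoh_of_isFinLocFree hF)) hn
    obtain ⟨k, hk⟩ := GrothLib.K0Sub.exists_R_push hZe hg hψg n _ a₁ hR
    have hk' := GrothLib.K0Sub.R.of_iso (GrothLib.K0Sub.resHyp_vb hZe)
      ((Scheme.Modules.pushforwardComp f g).app F) hk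
    show c (φX (KRR.cl X F)) = b (a (φX (KRR.cl X F)))
    rw [hcl (f ≫ g) hZe φX φZ c hc F hF k _ hk', hcl f hYe φX φY a ha F hF n a₁ hR]
    exact (DFunLike.congr_fun hb' a₁).symm
  ext y
  obtain ⟨x, rfl⟩ := hKX.bijective.2 y
  exact DFunLike.congr_fun h x

end Groth.Agent.S3748
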