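import Groth.Statements.S3750
-- import your own Groth.Agent.* helpers here
import Groth.Agent.Lib.K0Sub.PullZero


set_option autoImplicit false
universe v u
open CategoryTheory CategoryTheory.Limits AlgebraicGeometry
attribute [local instance] HasDerivedCategory.standard
open KRR

namespace Groth.Agent.S3750

/-- Let F : P ⟶ M and f : X ⟶ Y be regular closed imbeddings whose conormal sheaves are locally free of
the same rank d, fitting in a cartesian square with φ : Y ⟶ M and ψ : X ⟶ P (so X = Y ×_M P), all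
these schemes Noetherian and connected and Y, M having enough locally free sheaves. Let k : Z ⟶ Y be
a morphism from a connected Noetherian scheme whose image is disjoint from f(X), and h = k ≫ φ : Z ⟶
M. Then, on models of the λ-rings K(P), K(M) and K(Z), the pull-back h^K : K(M) → K(Z) kills the
image of the push-forward F_K : K(P) → K(M): h^K(F_K(p)) = 0 for every p ∈ K(P). -/
theorem result {X Y P M Z : Scheme.{u}} (F : P ⟶ M) (φ : Y ⟶ M) (f : X ⟶ Y) (ψ : X ⟶ P)
    (hsq : IsPullback f ψ φ F) (hF : Mor2.IsRegularClosedImmersion F) (hf : Mor2.IsRegularClosedImmersion f) (d : ℕ)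
    (hcF : FlatMod.IsFinLocFreeOfRank d (Omega.conormal F)) (hcf : FlatMod.IsFinLocFreeOfRank d (Omega.conormal f))
    (k : Z ⟶ Y) (hk : Disjoint (Set.range k.base) (Set.range f.base))
    [IsNoetherian X] [ConnectedSpace ↥X] [IsNoetherian P] [ConnectedSpace ↥P] [IsNoetherian Z] [ConnectedSpace ↥Z] [IsNoetherian Y] [ConnectedSpace ↥Y] (hYe : KRR.HasEnoughLocFree Y) [IsNoetherian M] [ConnectedSpace ↥M] (hMe : KRR.HasEnoughLocFree M)
    (KP : Type v) [CommRing KP] [LambdaRing.LambdaOps KP] (PP : LambdaRing.PosStructure KP) (φP : SGA6.Kvb P →+ KP) (hKP : KRR.IsModel P KP PP φP)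
    (KM : Type v) [CommRing KM] [LambdaRing.LambdaOps KM] (PM : LambdaRing.PosStructure KM) (φM : SGA6.Kvb M →+ KM) (hKM : KRR.IsModel M KM PM φM)
    (KZ : Type v) [CommRing KZ] [LambdaRing.LambdaOps KZ] (PZ : LambdaRing.PosStructure KZ) (φZ : SGA6.Kvb Z →+ KZ) (hKZ : KRR.IsModel Z KZ PZ φZ)
    (gh : KM →+ KZ) (hgh : KRR.IsPull (k ≫ φ) φM φZ gh)
    (gF : KP →+ KM) (hgF : KRR.IsPushCl F φP φM gF) (p : KP) : gh (gF p) = 0 := by
  haveI := hF.1
  obtain ⟨ψ, hψ⟩ := GrothLib.K0Sub.exists_pull (k ≫ φ)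
  let U : M.Opens := ⟨(Set.range F)ᶜ, F.isClosedEmbedding.isClosed_range.isOpen_compl⟩
  have hU : Set.range (k ≫ φ) ⊆ Set.range U.ι := by
    rintro _ ⟨z, rfl⟩
    rw [Scheme.Opens.range_ι]
    rintro ⟨w, hw⟩
    obtain ⟨x, hx, -⟩ := Scheme.Pullback.exists_preimage_pullback (f := φ) (g := F) (k z) w
      ((Scheme.Hom.comp_apply k φ z).symm.trans hw.symm)
    exact Set.disjoint_left.1 hk ⟨z, rfl⟩ ⟨hsq.isoPullback.inv x, by
      rw [← hx, ← hsq.isoPullback_inv_fst]; rfl⟩
  let h' : Z ⟶ (U : Scheme.{u}) := IsOpenImmersion.lift U.ι (k ≫ φ) hU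
  have hh' : h' ≫ U.ι = k ≫ φ := IsOpenImmersion.lift_fac _ _ hU
  have key : (gh.comp gF).comp φP = 0 := GrothLib.K0Sub.hom_ext (P := KRR.vbP P) fun E hE => by
    have hco := GrothLib.K0Sub.isCoh_push F (GrothLib.Euler.isCoh_of_isFinLocFree hE)
    obtain ⟨n, hn⟩ := GrothLib.K0Sub.exists_pd_push hF hE
    obtain ⟨c, hR⟩ := GrothLib.K0Sub.exists_R_of_pd hMe n _ hco hn
    obtain ⟨L, π, hL⟩ := GrothLib.K0Sub.exists_isLFRes_of_R hMe n _ c hR
    have hc := GrothLib.K0Sub.R.unique (GrothLib.K0Sub.resHyp_vb hMe) hR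
      (GrothLib.K0Sub.R_of_isLFRes n _ L π hco hL)
    have hgF' : gF (φP (KRR.cl P E)) = φM c := by
      rw [hgF E hE n L π hL, hc, map_sum]
      exact Finset.sum_congr rfl fun j _ => (map_zsmul φM _ _).symm
    have hz : IsZero ((Scheme.Modules.restrictFunctor U.ι).obj ((Scheme.Modules.pushforward F).obj E)) :=
      GrothLib.OX.isZero_restrict_of_support U.ι fun y hy =>
        y.2 (GrothLib.QCoh.support_pushforward_subset_range F E hy)
    have h0 : ψ c = 0 := by
      rw [GrothLib.K0Sub.pull_R_eq U.ι h' (fun E' hE' => by rw [hh']; exact hψ E' hE') n _ c hR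
        (GrothLib.DCoh.isFinLocFree_of_isZero hz)]
      exact GrothLib.K0Sub.clSub_isZero ((Scheme.Modules.pullback h').map_isZero hz)
    have hpull : gh.comp φM = φZ.comp ψ := GrothLib.K0Sub.hom_ext (P := KRR.vbP M) fun E' hE' => by
      show gh (φM (KRR.cl M E')) = φZ (ψ (KRR.cl M E'))
      rw [hψ E' hE']
      exact hgh E' hE'
    show gh (gF (φP (KRR.cl P E))) = 0
    rw [hgF']
    exact (DFunLike.congr_fun hpull c).trans (by show φZ (ψ c) = 0; rw [h0, map_zero])
  obtain ⟨x, rfl⟩ := hKP.bijective.2 p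
  exact DFunLike.congr_fun key x

end Groth.Agent.S3750
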