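import Groth.Statements.S3755
-- import your own Groth.Agent.* helpers here
import Groth.Agent.Lib.RegSheaf.PullTwist
import Groth.Agent.Lib.FormalExist7.PushTwist

set_option autoImplicit false
universe v u
open CategoryTheory CategoryTheory.Limits AlgebraicGeometry
attribute [local instance] HasDerivedCategory.standard
open KRR

namespace Groth.Agent.S3755

/-- Let Y be a Noetherian scheme, p : P = P^n_Y ⟶ Y, and F a coherent O_P-module regular relative to p.
Then the canonical homomorphism p^* p_* F ⟶ F (counit of the adjunction between pullback and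
pushforward of modules) is an epimorphism, and if Z denotes its kernel then Z(1) is regular. -/
theorem result (n : ℕ) (Y : Scheme.{u}) [IsNoetherian Y]
    (F : (KRR.PY n Y).Modules) (hF : Coh.IsCoh F) (hreg : KRR.IsRegSheaf n Y F) :
    Epi ((Scheme.Modules.pullbackPushforwardAdjunction (KRR.pr n Y)).counit.app F) ∧
    KRR.IsRegSheaf n Y (KRR.twF n Y 1 (kernel ((Scheme.Modules.pullbackPushforwardAdjunction (KRR.pr n Y)).counit.app F))) := by
  haveI := hF.1
  haveI he := GrothLib.RegSheaf.epi_counit hreg
  refine ⟨he, ?_⟩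
  haveI : IsProper (KRR.pr n Y) := GrothLib.Chow.isProper_toBase n Y
  haveI : PreservesFiniteLimits (Scheme.Modules.pushforward (KRR.pr n Y)) := by
    haveI : PreservesLimitsOfSize.{0, 0} (Scheme.Modules.pushforward (KRR.pr n Y)) :=
      (Scheme.Modules.pullbackPushforwardAdjunction (KRR.pr n Y)).rightAdjoint_preservesLimits
    exact PreservesLimitsOfSize.preservesFiniteLimits.{0, 0} _
  have hG : Coh.IsCoh ((Scheme.Modules.pushforward (KRR.pr n Y)).obj F) :=
    GrothLib.QCoh.isCoh_of_iso ((Scheme.Modules.pushforward (KRR.pr n Y)).rightDerivedZeroIsoSelf.app F)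
      (GrothLib.Cohom.isCoh_Rpush (KRR.pr n Y) F hF 0)
  let adj := Scheme.Modules.pullbackPushforwardAdjunction (KRR.pr n Y)
  haveI : IsProper (KRR.pr n Y) := GrothLib.Chow.isProper_toBase n Y
  haveI : Epi ((Scheme.Modules.pushforward (KRR.pr n Y)).map (adj.counit.app F)) :=
    (⟨adj.unit.app ((Scheme.Modules.pushforward (KRR.pr n Y)).obj F), adj.right_triangle_components F⟩ :
      SplitEpi _).epi
  exact @GrothLib.RegSheaf.isRegSheaf_twF_one_X₁ n Y
    (ShortComplex.mk (kernel.ι (adj.counit.app F)) (adj.counit.app F) (kernel.condition _))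
    (GrothLib.K0Sub.shortExact_kernel (adj.counit.app F))
    (GrothLib.RegSheaf.isRegSheaf_twF_one_pullback
      hG) hreg inferInstance


end Groth.Agent.S3755
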