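import Groth.Statements.S3765
-- import your own Groth.Agent.* helpers here
import Groth.Agent.Lib.PushKR17.Push
import Groth.Agent.Lib.PushKR17.Regular
import Groth.Agent.Lib.LeffAmp7.Stalks

set_option autoImplicit false
universe v u
open CategoryTheory CategoryTheory.Limits AlgebraicGeometry
attribute [local instance] HasDerivedCategory.standard
open KRR

namespace Groth.Agent.S3765

/-- For the trivial bundle P = P^n_Y: let Y be a connected Noetherian scheme, p : P ⟶ Y the projection
and s : Y ⟶ P a section of p (s ≫ p = 𝟙); assume every coherent module on P is a quotient of a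
finite locally free one. Then s is a regular closed imbedding (of codimension n), and with models of
K(Y), K(P), the push-forward s_K (via finite locally free resolutions of s_*F) and p_K (via regular
sheaves) satisfy p_K ∘ s_K = id. -/
theorem result (n : ℕ) (Y : Scheme.{u}) [IsNoetherian Y] [ConnectedSpace ↥Y]
    (hPe : KRR.HasEnoughLocFree (KRR.PY n Y)) (s : Y ⟶ KRR.PY n Y) (hs : s ≫ KRR.pr n Y = 𝟙 Y)
    (KP : Type v) [CommRing KP] [LambdaRing.LambdaOps KP] (PP : LambdaRing.PosStructure KP) (φP : SGA6.Kvb (KRR.PY n Y) →+ KP) (hKP : KRR.IsModel (KRR.PY n Y) KP PP φP)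
    (KY : Type v) [CommRing KY] [LambdaRing.LambdaOps KY] (PY : LambdaRing.PosStructure KY) (φY : SGA6.Kvb Y →+ KY) (hKY : KRR.IsModel Y KY PY φY)
    (gs : KY →+ KP) (hgs : KRR.IsPushCl s φY φP gs) (gp : KP →+ KY) (hgp : KRR.IsPushPr n Y φP φY gp) :
    Mor2.IsRegularClosedImmersion s ∧ gp.comp gs = AddMonoidHom.id KY := by
  have hreg := GrothLib.PushKR17.isRegular_section s hs
  refine ⟨hreg, ?_⟩
  haveI := hreg.1
  haveI := GrothLib.PushKR17.isNoetherian_PY n Y
  have hYe : KRR.HasEnoughLocFree Y := fun M hM => by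
    obtain ⟨F, p, hF, hp⟩ := hPe _ (GrothLib.K0Sub.isCoh_push s hM)
    haveI := hp
    exact ⟨(Scheme.Modules.pullback s).obj F,
      (Scheme.Modules.pullback s).map p ≫ (Scheme.Modules.pullbackPushforwardAdjunction s).counit.app M,
      GrothLib.OX.isFinLocFree_pullback s hF, by
        haveI := (GrothLib.K0Sub.isCoh_push s hM).1
        haveI := GrothLib.LeffAmp7.isIso_counit_closed s M
        haveI := (Scheme.Modules.pullbackPushforwardAdjunction s).leftAdjoint_preservesColimits.{0, 0}
        infer_instance⟩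
  have key : (gp.comp gs).comp φY = φY := GrothLib.K0Sub.hom_ext (P := KRR.vbP Y) fun E hE => by
    have hacy : ∀ t : ℕ, GrothLib.PushKR17.Acy (s ≫ KRR.pr n Y) (GrothLib.PushKR17.twu s (t : ℤ) E) := fun t => by
      haveI := (GrothLib.PushKR17.isCoh_twu s (t : ℤ) (GrothLib.Euler.isCoh_of_isFinLocFree hE)).1
      rw [hs]
      exact GrothLib.PushKR17.acy_affine _ _
    obtain ⟨d, hd, hd'⟩ := GrothLib.PushKR17.exists_hasR_comp hYe hPe s hreg hgs hgp
      (GrothLib.PushKR17.HasR.of_vb hE) hacy
    have h1 : GrothLib.PushKR17.HasR E d := hd.of_iso hYe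
      ((Scheme.Modules.pushforwardCongr hs).app E ≪≫ (Scheme.Modules.pushforwardId Y).app E)
    show gp (gs (φY (KRR.cl Y E))) = φY (KRR.cl Y E)
    rw [hd', GrothLib.PushKR17.HasR.unique hYe h1 (GrothLib.PushKR17.HasR.of_vb hE)]
  ext y
  obtain ⟨x, rfl⟩ := hKY.bijective.2 y
  exact DFunLike.congr_fun key x

end Groth.Agent.S3765
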