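import Groth.Statements.S3766
-- import your own Groth.Agent.* helpers here
import Groth.Agent.Lib.PushKR17.Push
import Groth.Agent.Lib.PushKR17.Regular

set_option autoImplicit false
universe v u
open CategoryTheory CategoryTheory.Limits AlgebraicGeometry
attribute [local instance] HasDerivedCategory.standard
open KRR

namespace Groth.Agent.S3766

/-- Let i : X ⟶ Y be a regular closed imbedding of connected Noetherian schemes, j : P^n_X ⟶ P^n_Y the
induced morphism, g : P^n_X ⟶ X and f : P^n_Y ⟶ Y the projections; assume every coherent module on Y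
and on P^n_Y is a quotient of a finite locally free one. Then j is a regular closed imbedding and,
with models of the four K-rings and push-forwards i_K, j_K (via resolutions), g_K, f_K (via regular
sheaves): i_K ∘ g_K = f_K ∘ j_K. -/
theorem result (n : ℕ) {X Y : Scheme.{u}} (i : X ⟶ Y) (hi : Mor2.IsRegularClosedImmersion i)
    [IsNoetherian X] [ConnectedSpace ↥X] [IsNoetherian Y] [ConnectedSpace ↥Y] (hYe : KRR.HasEnoughLocFree Y) (hPe : KRR.HasEnoughLocFree (KRR.PY n Y))
    (KX : Type v) [CommRing KX] [LambdaRing.LambdaOps KX] (PX : LambdaRing.PosStructure KX) (φX : SGA6.Kvb X →+ KX) (hKX : KRR.IsModel X KX PX φX)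
    (KY : Type v) [CommRing KY] [LambdaRing.LambdaOps KY] (PY : LambdaRing.PosStructure KY) (φY : SGA6.Kvb Y →+ KY) (hKY : KRR.IsModel Y KY PY φY)
    (KPX : Type v) [CommRing KPX] [LambdaRing.LambdaOps KPX] (PPX : LambdaRing.PosStructure KPX) (φPX : SGA6.Kvb (KRR.PY n X) →+ KPX) (hKPX : KRR.IsModel (KRR.PY n X) KPX PPX φPX)
    (KPY : Type v) [CommRing KPY] [LambdaRing.LambdaOps KPY] (PPY : LambdaRing.PosStructure KPY) (φPY : SGA6.Kvb (KRR.PY n Y) →+ KPY) (hKPY : KRR.IsModel (KRR.PY n Y) KPY PPY φPY)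
    (gi : KX →+ KY) (hgi : KRR.IsPushCl i φX φY gi)
    (gj : KPX →+ KPY) (hgj : KRR.IsPushCl (KRR.projSpaceMap n i) φPX φPY gj)
    (gX : KPX →+ KX) (hgX : KRR.IsPushPr n X φPX φX gX) (gY : KPY →+ KY) (hgY : KRR.IsPushPr n Y φPY φY gY) :
    Mor2.IsRegularClosedImmersion (KRR.projSpaceMap n i) ∧ gi.comp gX = gY.comp gj := by
  have hj := GrothLib.PushKR17.isRegular_projSpaceMap n hi
  refine ⟨hj, ?_⟩
  haveI := hi.1
  haveI := hj.1
  haveI := GrothLib.PushKR17.isNoetherian_PY n X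
  haveI := GrothLib.PushKR17.isNoetherian_PY n Y
  obtain ⟨ψi, hψi⟩ := GrothLib.K0Sub.exists_pushClass hYe hi
  have key : (gi.comp gX).comp φPX = (gY.comp gj).comp φPX := GrothLib.RegSheaf.hom_ext_reg fun E hE => by
    have hp := GrothLib.RegSheaf.isFinLocFree_push_reg hE
    obtain ⟨k, hk⟩ := GrothLib.K0Sub.exists_R_push hYe hi hψi 0 _ _ ⟨hp, rfl⟩
    have hcomm := GrothLib.RegSheaf.projSpaceMap_snd (n := n) i
    have hacy : ∀ t : ℕ, GrothLib.PushKR17.Acy (KRR.projSpaceMap n i ≫ KRR.pr n Y)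
        (GrothLib.PushKR17.twu (KRR.projSpaceMap n i) (t : ℤ) E) := fun t => by
      have hc := GrothLib.RegSheaf.isCoh_twF (GrothLib.Euler.isCoh_of_isFinLocFree hE.1) (t : ℤ)
      have h1 := GrothLib.PushKR17.acy_twF_of_reg (GrothLib.Euler.isCoh_of_isFinLocFree hE.1) hE.2 t
      rw [hcomm]
      have e : KRR.twF n X (t : ℤ) E ≅ GrothLib.PushKR17.twu (KRR.projSpaceMap n i) (t : ℤ) E :=
        GrothLib.PushKR17.tnIso (((Scheme.Modules.pullbackComp (KRR.projSpaceMap n i) (GrothLib.RegSheaf.toZ n Y)).app _ ≪≫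
          (Scheme.Modules.pullbackCongr (GrothLib.RegSheaf.projSpaceMap_fst i)).app _).symm) (Iso.refl E)
      haveI := (GrothLib.PushKR17.isCoh_push (KRR.pr n X) hc).1
      exact GrothLib.PushKR17.acy_of_iso e ((GrothLib.PushKR17.acy_comp_iff _ _ h1).2 (GrothLib.PushKR17.acy_affine i _))
    obtain ⟨d, hd, hd'⟩ := GrothLib.PushKR17.exists_hasR_comp hYe hPe (KRR.projSpaceMap n i) hj hgj hgY
      (GrothLib.PushKR17.HasR.of_vb hE.1) hacy
    have h1 : GrothLib.PushKR17.HasR ((Scheme.Modules.pushforward (KRR.projSpaceMap n i ≫ KRR.pr n Y)).obj E)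
        (ψi (KRR.cl X ((Scheme.Modules.pushforward (KRR.pr n X)).obj E))) :=
      GrothLib.PushKR17.HasR.of_iso hYe ((Scheme.Modules.pushforwardComp (KRR.pr n X) i).app E ≪≫
        (Scheme.Modules.pushforwardCongr hcomm.symm).app E) ⟨k, hk⟩
    show gi (gX (φPX (KRR.cl _ E))) = gY (gj (φPX (KRR.cl _ E)))
    rw [hgX E hE.1 hE.2, hd', GrothLib.PushKR17.HasR.unique hYe hd h1]
    exact GrothLib.PushKR17.pushCl_cl hYe i hgi hp ⟨k, hk⟩
  ext y
  obtain ⟨x, rfl⟩ := hKPX.bijective.2 y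
  exact DFunLike.congr_fun key x

end Groth.Agent.S3766
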