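import Groth.Statements.S3767
-- import your own Groth.Agent.* helpers here
import Groth.Agent.Lib.PushKR17.Push

set_option autoImplicit false
universe v u
open CategoryTheory CategoryTheory.Limits AlgebraicGeometry
attribute [local instance] HasDerivedCategory.standard
open KRR

namespace Groth.Agent.S3767

/-- Let Y be a connected Noetherian scheme such that every coherent module on Y, on each P^a_Y and on
each P^a over P^b_Y is a quotient of a finite locally free one, and let f : X ⟶ Y (X connected)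
admit two factorizations f = i₁ ≫ p and f = i₂ ≫ p' with i₁ : X ⟶ P^n_Y, i₂ : X ⟶ P^m_Y regular
closed imbeddings and p, p' the projections. With models of the K-rings, push-forwards (i₁)_K,
(i₂)_K via resolutions and p_K, p'_K via regular sheaves: p_K ∘ (i₁)_K = p'_K ∘ (i₂)_K. So f_K is
well defined. -/
theorem result (n m : ℕ) {X Y : Scheme.{u}} [IsNoetherian Y] [ConnectedSpace ↥Y] (hYe : KRR.HasEnoughLocFree Y) (hstar : ∀ a : ℕ, KRR.HasEnoughLocFree (KRR.PY a Y) ∧ ∀ b : ℕ, KRR.HasEnoughLocFree (KRR.PY a (KRR.PY b Y)))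
    [ConnectedSpace ↥X] (f : X ⟶ Y) (i₁ : X ⟶ KRR.PY n Y) (i₂ : X ⟶ KRR.PY m Y)
    (h₁ : Mor2.IsRegularClosedImmersion i₁) (h₂ : Mor2.IsRegularClosedImmersion i₂)
    (hf₁ : i₁ ≫ KRR.pr n Y = f) (hf₂ : i₂ ≫ KRR.pr m Y = f)
    (KX : Type v) [CommRing KX] [LambdaRing.LambdaOps KX] (PX : LambdaRing.PosStructure KX) (φX : SGA6.Kvb X →+ KX) (hKX : KRR.IsModel X KX PX φX)
    (KY : Type v) [CommRing KY] [LambdaRing.LambdaOps KY] (PY : LambdaRing.PosStructure KY) (φY : SGA6.Kvb Y →+ KY) (hKY : KRR.IsModel Y KY PY φY)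
    (K₁ : Type v) [CommRing K₁] [LambdaRing.LambdaOps K₁] (P₁ : LambdaRing.PosStructure K₁) (φ₁ : SGA6.Kvb (KRR.PY n Y) →+ K₁) (hK₁ : KRR.IsModel (KRR.PY n Y) K₁ P₁ φ₁)
    (K₂ : Type v) [CommRing K₂] [LambdaRing.LambdaOps K₂] (P₂ : LambdaRing.PosStructure K₂) (φ₂ : SGA6.Kvb (KRR.PY m Y) →+ K₂) (hK₂ : KRR.IsModel (KRR.PY m Y) K₂ P₂ φ₂)
    (a₁ : KX →+ K₁) (ha₁ : KRR.IsPushCl i₁ φX φ₁ a₁) (b₁ : K₁ →+ KY) (hb₁ : KRR.IsPushPr n Y φ₁ φY b₁)
    (a₂ : KX →+ K₂) (ha₂ : KRR.IsPushCl i₂ φX φ₂ a₂) (b₂ : K₂ →+ KY) (hb₂ : KRR.IsPushPr m Y φ₂ φY b₂) :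
    b₁.comp a₁ = b₂.comp a₂ := by
  haveI := h₁.1
  haveI := h₂.1
  haveI := GrothLib.PushKR17.isNoetherian_PY n Y
  haveI := GrothLib.PushKR17.isNoetherian_of_closedImmersion i₁
  subst hf₁
  let D : SGA6.Kvb X →+ KY := (b₁.comp a₁).comp φX - (b₂.comp a₂).comp φX
  have hD : D = 0 := GrothLib.PushKR17.add_eq_zero i₁ D fun E hE => by
    have hEc := GrothLib.Euler.isCoh_of_isFinLocFree hE
    choose A hA using fun q : ℕ => GrothLib.PushKR17.exists_acy_twu i₁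
      (GrothLib.PushKR17.isCoh_twu i₂ (-(q : ℤ)) hEc)
    obtain ⟨a₀, ha₀⟩ := GrothLib.PushKR17.exists_acy_twu i₁ hEc
    refine ⟨max a₀ ((Finset.range (m + 1)).sup A), fun a ha => ?_⟩
    have hG := GrothLib.PushKR17.isFinLocFree_twu i₁ (a : ℤ) hE
    have h1 : ∀ t : ℕ, GrothLib.PushKR17.Acy (i₁ ≫ KRR.pr n Y)
        (GrothLib.PushKR17.twu i₁ (t : ℤ) (GrothLib.PushKR17.twu i₁ (a : ℤ) E)) := fun t => by
      obtain ⟨e⟩ := GrothLib.PushKR17.nonempty_twu_twu i₁ (a := (t : ℤ)) (b := (a : ℤ)) (c := ((t + a : ℕ) : ℤ))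
        (by push_cast; ring) E
      exact GrothLib.PushKR17.acy_of_iso e.symm (ha₀ _ (by omega))
    have h2 : ∀ t : ℕ, GrothLib.PushKR17.Acy (i₂ ≫ KRR.pr m Y)
        (GrothLib.PushKR17.twu i₂ (t : ℤ) (GrothLib.PushKR17.twu i₁ (a : ℤ) E)) := fun t => by
      refine GrothLib.PushKR17.acy_twu_of_neg i₂ (GrothLib.Euler.isCoh_of_isFinLocFree hG) (fun q hq hqm => ?_) t
      obtain ⟨e⟩ := GrothLib.PushKR17.nonempty_twu_comm i₂ i₁ (-(q : ℤ)) (a : ℤ) E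
      rw [hf₂]
      exact GrothLib.PushKR17.acy_of_iso e.symm (hA q a (le_trans (Finset.le_sup (f := A)
        (Finset.mem_range.2 (by omega))) (le_trans (le_max_right _ _) ha)))
    obtain ⟨d₁, hd₁, e₁⟩ := GrothLib.PushKR17.exists_hasR_comp hYe (hstar n).1 i₁ h₁ ha₁ hb₁
      (GrothLib.PushKR17.HasR.of_vb hG) h1
    obtain ⟨d₂, hd₂, e₂⟩ := GrothLib.PushKR17.exists_hasR_comp hYe (hstar m).1 i₂ h₂ ha₂ hb₂
      (GrothLib.PushKR17.HasR.of_vb hG) h2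
    show b₁ (a₁ (φX (KRR.cl X _))) - b₂ (a₂ (φX (KRR.cl X _))) = 0
    rw [e₁, e₂, GrothLib.PushKR17.HasR.unique hYe hd₁
      (hd₂.of_iso hYe ((Scheme.Modules.pushforwardCongr hf₂).app _)), sub_self]
  ext y
  obtain ⟨x, rfl⟩ := hKX.bijective.2 y
  exact sub_eq_zero.1 (DFunLike.congr_fun hD x)

end Groth.Agent.S3767
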