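import Groth.Statements.S3768
-- import your own Groth.Agent.* helpers here
import Groth.Agent.Lib.PushKR17.Push

set_option autoImplicit false
universe v u
open CategoryTheory CategoryTheory.Limits AlgebraicGeometry
attribute [local instance] HasDerivedCategory.standard
open KRR

namespace Groth.Agent.S3768

/-- Let Y, Z be connected Noetherian schemes such that every coherent module on Y, Z, on each P^a over
them and on each P^a over P^b over them is a quotient of a finite locally free one. Let f = i ≫ p :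
X ⟶ Y and g = j ≫ q : Y ⟶ Z be regular morphisms factored through P^n_Y and P^m_Z (i, j regular
closed imbeddings; X connected), and let f ≫ g = k ≫ r be a factorization through P^l_Z with k a
regular closed imbedding. With models and push-forwards as before: (r_K ∘ k_K) = (q_K ∘ j_K) ∘ (p_K
∘ i_K). -/
theorem result (n m l : ℕ) {X Y Z : Scheme.{u}} [IsNoetherian Y] [ConnectedSpace ↥Y] (hYe : KRR.HasEnoughLocFree Y) [IsNoetherian Z] [ConnectedSpace ↥Z] (hZe : KRR.HasEnoughLocFree Z)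
    (hstarY : ∀ a : ℕ, KRR.HasEnoughLocFree (KRR.PY a Y) ∧ ∀ b : ℕ, KRR.HasEnoughLocFree (KRR.PY a (KRR.PY b Y)))
    (hstarZ : ∀ a : ℕ, KRR.HasEnoughLocFree (KRR.PY a Z) ∧ ∀ b : ℕ, KRR.HasEnoughLocFree (KRR.PY a (KRR.PY b Z)))
    [ConnectedSpace ↥X] (f : X ⟶ Y) (g : Y ⟶ Z)
    (i : X ⟶ KRR.PY n Y) (hi : Mor2.IsRegularClosedImmersion i) (hf : i ≫ KRR.pr n Y = f)
    (j : Y ⟶ KRR.PY m Z) (hj : Mor2.IsRegularClosedImmersion j) (hg : j ≫ KRR.pr m Z = g)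
    (k : X ⟶ KRR.PY l Z) (hk : Mor2.IsRegularClosedImmersion k) (hfg : k ≫ KRR.pr l Z = f ≫ g)
    (KX : Type v) [CommRing KX] [LambdaRing.LambdaOps KX] (PX : LambdaRing.PosStructure KX) (φX : SGA6.Kvb X →+ KX) (hKX : KRR.IsModel X KX PX φX)
    (KY : Type v) [CommRing KY] [LambdaRing.LambdaOps KY] (PY : LambdaRing.PosStructure KY) (φY : SGA6.Kvb Y →+ KY) (hKY : KRR.IsModel Y KY PY φY)
    (KZ : Type v) [CommRing KZ] [LambdaRing.LambdaOps KZ] (PZ : LambdaRing.PosStructure KZ) (φZ : SGA6.Kvb Z →+ KZ) (hKZ : KRR.IsModel Z KZ PZ φZ)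
    (K₁ : Type v) [CommRing K₁] [LambdaRing.LambdaOps K₁] (P₁ : LambdaRing.PosStructure K₁) (φ₁ : SGA6.Kvb (KRR.PY n Y) →+ K₁) (hK₁ : KRR.IsModel (KRR.PY n Y) K₁ P₁ φ₁)
    (K₂ : Type v) [CommRing K₂] [LambdaRing.LambdaOps K₂] (P₂ : LambdaRing.PosStructure K₂) (φ₂ : SGA6.Kvb (KRR.PY m Z) →+ K₂) (hK₂ : KRR.IsModel (KRR.PY m Z) K₂ P₂ φ₂)
    (K₃ : Type v) [CommRing K₃] [LambdaRing.LambdaOps K₃] (P₃ : LambdaRing.PosStructure K₃) (φ₃ : SGA6.Kvb (KRR.PY l Z) →+ K₃) (hK₃ : KRR.IsModel (KRR.PY l Z) K₃ P₃ φ₃)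
    (a₁ : KX →+ K₁) (ha₁ : KRR.IsPushCl i φX φ₁ a₁) (b₁ : K₁ →+ KY) (hb₁ : KRR.IsPushPr n Y φ₁ φY b₁)
    (a₂ : KY →+ K₂) (ha₂ : KRR.IsPushCl j φY φ₂ a₂) (b₂ : K₂ →+ KZ) (hb₂ : KRR.IsPushPr m Z φ₂ φZ b₂)
    (a₃ : KX →+ K₃) (ha₃ : KRR.IsPushCl k φX φ₃ a₃) (b₃ : K₃ →+ KZ) (hb₃ : KRR.IsPushPr l Z φ₃ φZ b₃) :
    b₃.comp a₃ = (b₂.comp a₂).comp (b₁.comp a₁) := by
  haveI := hi.1
  haveI := hj.1
  haveI := hk.1
  haveI := GrothLib.PushKR17.isNoetherian_PY n Y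
  haveI := GrothLib.PushKR17.isNoetherian_of_closedImmersion i
  subst hf hg
  haveI : IsProper (i ≫ KRR.pr n Y) := inferInstance
  let D : SGA6.Kvb X →+ KZ := (b₃.comp a₃).comp φX - ((b₂.comp a₂).comp (b₁.comp a₁)).comp φX
  have hD : D = 0 := GrothLib.PushKR17.add_eq_zero i D fun E hE => by
    have hEc := GrothLib.Euler.isCoh_of_isFinLocFree hE
    choose A hA using fun q : ℕ => GrothLib.PushKR17.exists_acy_twu i
      (GrothLib.PushKR17.isCoh_twu k (-(q : ℤ)) hEc)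
    obtain ⟨a₀, ha₀⟩ := GrothLib.PushKR17.exists_acy_twu i hEc
    refine ⟨max a₀ ((Finset.range (l + 1)).sup A), fun a ha => ?_⟩
    have hG := GrothLib.PushKR17.isFinLocFree_twu i (a : ℤ) hE
    have hGc := GrothLib.Euler.isCoh_of_isFinLocFree hG
    have hq : ∀ q : ℕ, q ≤ l → GrothLib.PushKR17.Acy (i ≫ KRR.pr n Y)
        (GrothLib.PushKR17.twu k (-(q : ℤ)) (GrothLib.PushKR17.twu i (a : ℤ) E)) := fun q hql => by
      obtain ⟨e⟩ := GrothLib.PushKR17.nonempty_twu_comm k i (-(q : ℤ)) (a : ℤ) E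
      exact GrothLib.PushKR17.acy_of_iso e.symm (hA q a (le_trans (Finset.le_sup (f := A)
        (Finset.mem_range.2 (by omega))) (le_trans (le_max_right _ _) ha)))
    choose B hB using fun q : ℕ => GrothLib.PushKR17.exists_acy_twu j
      (GrothLib.PushKR17.isCoh_push (i ≫ KRR.pr n Y) (GrothLib.PushKR17.isCoh_twu k (-(q : ℤ)) hGc))
    obtain ⟨b₀, hb₀⟩ := GrothLib.PushKR17.exists_acy_twu j (GrothLib.PushKR17.isCoh_push (i ≫ KRR.pr n Y) hGc)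
    refine GrothLib.PushKR17.add_eq_zero_at ((i ≫ KRR.pr n Y) ≫ j) D hG
      ⟨max b₀ ((Finset.range (l + 1)).sup B), fun b hb => ?_⟩
    have hH := GrothLib.PushKR17.isFinLocFree_twu ((i ≫ KRR.pr n Y) ≫ j) (b : ℤ) hG
    have h1 : ∀ t : ℕ, GrothLib.PushKR17.Acy (i ≫ KRR.pr n Y) (GrothLib.PushKR17.twu i (t : ℤ)
        (GrothLib.PushKR17.twu ((i ≫ KRR.pr n Y) ≫ j) (b : ℤ) (GrothLib.PushKR17.twu i (a : ℤ) E))) := fun t => by
      obtain ⟨e⟩ := GrothLib.PushKR17.nonempty_twu_twu i (a := (t : ℤ)) (b := (a : ℤ)) (c := ((t + a : ℕ) : ℤ))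
        (by push_cast; ring) E
      obtain ⟨e'⟩ := GrothLib.PushKR17.nonempty_twu_comm i ((i ≫ KRR.pr n Y) ≫ j) (t : ℤ) (b : ℤ)
        (GrothLib.PushKR17.twu i (a : ℤ) E)
      exact GrothLib.PushKR17.acy_of_iso e'.symm (GrothLib.PushKR17.acy_twu_pull j (b : ℤ)
        (GrothLib.PushKR17.isCoh_twu i _ hGc) (GrothLib.PushKR17.acy_of_iso e.symm (ha₀ _ (by omega))))
    obtain ⟨d, hd, e₁⟩ := GrothLib.PushKR17.exists_hasR_comp hYe (hstarY n).1 i hi ha₁ hb₁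
      (GrothLib.PushKR17.HasR.of_vb hH) h1
    have h2 : ∀ t : ℕ, GrothLib.PushKR17.Acy (j ≫ KRR.pr m Z) (GrothLib.PushKR17.twu j (t : ℤ)
        ((Scheme.Modules.pushforward (i ≫ KRR.pr n Y)).obj
          (GrothLib.PushKR17.twu ((i ≫ KRR.pr n Y) ≫ j) (b : ℤ) (GrothLib.PushKR17.twu i (a : ℤ) E)))) := fun t => by
      obtain ⟨e⟩ := GrothLib.PushKR17.nonempty_push_twu (i ≫ KRR.pr n Y) j (b : ℤ) (GrothLib.PushKR17.twu i (a : ℤ) E)
      obtain ⟨e'⟩ := GrothLib.PushKR17.nonempty_twu_twu j (a := (t : ℤ)) (b := (b : ℤ)) (c := ((t + b : ℕ) : ℤ))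
        (by push_cast; ring) ((Scheme.Modules.pushforward (i ≫ KRR.pr n Y)).obj (GrothLib.PushKR17.twu i (a : ℤ) E))
      exact GrothLib.PushKR17.acy_of_iso (GrothLib.PushKR17.tnIso (Iso.refl _) e)
        (GrothLib.PushKR17.acy_of_iso e'.symm (hb₀ _ (by omega)))
    obtain ⟨d₂, hd₂, e₂⟩ := GrothLib.PushKR17.exists_hasR_comp hZe (hstarZ m).1 j hj ha₂ hb₂ hd h2
    have h3 : ∀ t : ℕ, GrothLib.PushKR17.Acy (k ≫ KRR.pr l Z) (GrothLib.PushKR17.twu k (t : ℤ)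
        (GrothLib.PushKR17.twu ((i ≫ KRR.pr n Y) ≫ j) (b : ℤ) (GrothLib.PushKR17.twu i (a : ℤ) E))) := fun t => by
      refine GrothLib.PushKR17.acy_twu_of_neg k (GrothLib.Euler.isCoh_of_isFinLocFree hH) (fun q _ hql => ?_) t
      obtain ⟨e⟩ := GrothLib.PushKR17.nonempty_twu_comm k ((i ≫ KRR.pr n Y) ≫ j) (-(q : ℤ)) (b : ℤ)
        (GrothLib.PushKR17.twu i (a : ℤ) E)
      rw [hfg]
      refine GrothLib.PushKR17.acy_of_iso e.symm ((GrothLib.PushKR17.acy_comp_iff _ _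
        (GrothLib.PushKR17.acy_twu_pull j (b : ℤ) (GrothLib.PushKR17.isCoh_twu k _ hGc) (hq q hql))).2 ?_)
      obtain ⟨e'⟩ := GrothLib.PushKR17.nonempty_push_twu (i ≫ KRR.pr n Y) j (b : ℤ)
        (GrothLib.PushKR17.twu k (-(q : ℤ)) (GrothLib.PushKR17.twu i (a : ℤ) E))
      exact GrothLib.PushKR17.acy_of_iso e' (hB q b (le_trans (Finset.le_sup (f := B)
        (Finset.mem_range.2 (by omega))) (le_trans (le_max_right _ _) hb)))
    obtain ⟨d₃, hd₃, e₃⟩ := GrothLib.PushKR17.exists_hasR_comp hZe (hstarZ l).1 k hk ha₃ hb₃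
      (GrothLib.PushKR17.HasR.of_vb hH) h3
    show b₃ (a₃ (φX (KRR.cl X _))) - b₂ (a₂ (b₁ (a₁ (φX (KRR.cl X _))))) = 0
    rw [e₁, e₂, e₃, GrothLib.PushKR17.HasR.unique hZe hd₂ (hd₃.of_iso hZe
      ((Scheme.Modules.pushforwardCongr hfg).app _ ≪≫
        ((Scheme.Modules.pushforwardComp (i ≫ KRR.pr n Y) (j ≫ KRR.pr m Z)).app _).symm)), sub_self]
  ext y
  obtain ⟨x, rfl⟩ := hKX.bijective.2 y
  exact sub_eq_zero.1 (DFunLike.congr_fun hD x)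

end Groth.Agent.S3768
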