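import Groth.Statements.S3770
-- import your own Groth.Agent.* helpers here
import Groth.Agent.Lib.RegSheaf.BaseChange

set_option autoImplicit false
universe v u
open CategoryTheory CategoryTheory.Limits AlgebraicGeometry
attribute [local instance] HasDerivedCategory.standard
open KRR

namespace Groth.Agent.S3770

/-- For P = P^n_Y: let Y, Y₁ be Noetherian schemes, φ : Y₁ ⟶ Y, p : P^n_Y ⟶ Y and p₁ : P^n_{Y₁} ⟶ Y₁ the
projections and ψ : P^n_{Y₁} ⟶ P^n_Y the induced morphism (so ψ ≫ p = p₁ ≫ φ, recorded as hsq). If F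
is a finite locally free O-module on P^n_Y which is regular relative to p, then ψ^* F is regular
relative to p₁ and the base-change morphism φ^* p_* F ⟶ (p₁)_* ψ^* F (adjoint to p₁^* φ^* p_* F ≅
ψ^* p^* p_* F ⟶ ψ^* F) is an isomorphism. (The source's standing hypotheses place all schemes in its
quasi-projective category; the proof is local on Y and Y₁.) -/
theorem result (n : ℕ) {Y Y₁ : Scheme.{u}} [IsNoetherian Y] [IsNoetherian Y₁] (φ : Y₁ ⟶ Y)
    (hsq : KRR.projSpaceMap n φ ≫ KRR.pr n Y = KRR.pr n Y₁ ≫ φ)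
    (F : (KRR.PY n Y).Modules) (hF : FlatMod.IsFinLocFree F) (hreg : KRR.IsRegSheaf n Y F) :
    KRR.IsRegSheaf n Y₁ ((Scheme.Modules.pullback (KRR.projSpaceMap n φ)).obj F) ∧ IsIso (KRR.bcMap n φ hsq F) := by
  exact ⟨(GrothLib.RegSheaf.regP_pullback φ ⟨hF, hreg⟩).2, GrothLib.RegSheaf.isIso_bcMap φ ⟨hF, hreg⟩ hsq⟩


end Groth.Agent.S3770
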