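import Groth.Statements.S3771
import Groth.Agent.Lib.BlowCoh8.Main
import Groth.Agent.Lib.PushKR17.Local

set_option autoImplicit false
universe v u
open CategoryTheory CategoryTheory.Limits AlgebraicGeometry
attribute [local instance] HasDerivedCategory.standard
open KRR

namespace Groth.Agent.S3771

/-- Let S be an affine Noetherian scheme, Y a connected Noetherian scheme quasi-projective over S all of
whose local rings are regular, f : X ⟶ Y a regular closed immersion of codimension d ≥ 1 (conormal
module finite locally free of rank d) with X connected and all local rings of X regular, and φ : Y₁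
⟶ Y a blowing up of Y along X (universal property with respect to the kernel ideal sheaf of f). Then
the canonical map O_Y ⟶ φ_* φ^* O_Y = φ_* O_{Y₁} is an isomorphism and R^i φ_* O_{Y₁} = 0 for every
i ≥ 1 (higher direct images of the underlying abelian sheaf). (The published statement is more
general; this is the case where X and Y are regular.) -/
theorem result (S : Scheme.{u}) [IsAffine S] [IsNoetherian S] {X Y Y₁ : Scheme.{u}} [IsNoetherian Y] [ConnectedSpace ↥Y] (qY : Y ⟶ S) (hqY : KRR.IsQProjOver qY)
    (hYreg : ∀ y : Y, IsRegularLocalRing (Y.presheaf.stalk y))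
    (f : X ⟶ Y) (hf : Mor2.IsRegularClosedImmersion f) [ConnectedSpace ↥X] (d : ℕ) (hd : 1 ≤ d)
    (hC : FlatMod.IsFinLocFreeOfRank d (Omega.conormal f)) (hXreg : ∀ x : X, IsRegularLocalRing (X.presheaf.stalk x))
    (φ : Y₁ ⟶ Y) (hφ : BlowUp.IsBlowUp φ f.ker) :
    IsIso ((Scheme.Modules.pullbackPushforwardAdjunction φ).unit.app (Coh.structureModule Y)) ∧
    ∀ i : ℕ, 1 ≤ i → IsZero ((Coh.RpushAb φ i).obj (Coh.toAb (Coh.structureModule Y₁))) := by
  haveI := hf.1
  haveI : IsLocallyNoetherian Y := inferInstance
  have hJ : GrothLib.BlowCoh8.IsLocSeq f.ker := by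
    refine GrothLib.BlowCoh8.isLocSeq_of_regularImmersion f fun z => ?_
    obtain ⟨U, hU, hz, rs, hrs, hker⟩ := hf.2 z
    refine ⟨⟨U, hU⟩, hz, rs, ?_, GrothLib.KoszulFwd.isKoszulRegularSeq_of_isWeaklyRegular rs hrs.toIsWeaklyRegular, ?_⟩
    · rintro rfl
      obtain ⟨ss, hlen, hreg, hk⟩ := GrothLib.PushKR17.exists_seq_stalk hf hC z
      rw [GrothLib.RelReg.ker_stalkMap_eq_map f hU inferInstance z hz, ← Scheme.Hom.ker_apply f ⟨U, hU⟩, hker,
        Ideal.ofList_nil, Ideal.map_bot] at hk
      match ss, hlen, hreg, hk with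
      | [], hlen, _, _ => simp at hlen; omega
      | s :: ss, _, hreg, hk =>
        have hs : s = 0 := by
          have : s ∈ Ideal.ofList (s :: ss) := Ideal.subset_span (List.mem_cons_self ..)
          rw [← hk] at this
          exact this
        have h2 := (RingTheory.Sequence.isWeaklyRegular_cons_iff _ _ _).1 hreg
        have h3 : (1 : Y.presheaf.stalk (f z)) = 0 := h2.1 (show s • (1 : Y.presheaf.stalk (f z)) = s • 0 by rw [hs, zero_smul, zero_smul])
        exact one_ne_zero h3
    · rw [← Scheme.Hom.ker_apply f ⟨U, hU⟩, hker]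
  exact ⟨GrothLib.BlowCoh8.isIso_unit hJ hφ, fun i hi => GrothLib.BlowCoh8.isZero_RpushAb_structure hJ hφ i hi⟩

end Groth.Agent.S3771
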