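import Groth.Statements.S3774
-- import your own Groth.Agent.* helpers here
import Groth.Agent.Lib.BlowK17.Regular
import Groth.Agent.Lib.BlowK17.Main

set_option autoImplicit false
universe v u
open CategoryTheory CategoryTheory.Limits AlgebraicGeometry
attribute [local instance] HasDerivedCategory.standard
open KRR

namespace Groth.Agent.S3774

/-- Let S be affine Noetherian, Y connected and quasi-projective over S, f : X ⟶ Y a regular closed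
imbedding of codimension d ≥ 1 (conormal module C finite locally free of rank d) with X connected, X
and Y regular (all local rings regular), φ : Y₁ ⟶ Y the blowing up of Y along X and X₁ = Y₁ ×_Y X
the exceptional divisor with f₁ : X₁ ⟶ Y₁, ψ : X₁ ⟶ X (X₁, Y₁ connected). Put c = [C] ∈ K(X), ℓ =
[C₁] ∈ K(X₁) the class of the conormal (invertible) module of f₁, e = ψ^K c - ℓ (the class of the
universal sub-bundle, rank d - 1) and λ_{-1}(e) = Σ_{i ≤ ε(e)} (-1)^i λ^i(e). With models and the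
maps φ^K, ψ^K, f_K, (f₁)_K, define u : K(X) ⟶ K(X₁) ⊕ K(Y), u(x) = (-λ_{-1}(e) ψ^K x, f_K x) and v :
K(X₁) ⊕ K(Y) ⟶ K(Y₁), v(x₁, y) = (f₁)_K x₁ + φ^K y. Then v is surjective, so 0 ⟶ K(X) ⟶ K(X₁) ⊕ K(Y)
⟶ K(Y₁) ⟶ 0 is exact. -/
theorem result (S : Scheme.{u}) [IsAffine S] [IsNoetherian S] {X Y X₁ Y₁ : Scheme.{u}} [IsNoetherian Y] [ConnectedSpace ↥Y] (qY : Y ⟶ S) (hqY : KRR.IsQProjOver qY)
    (hYreg : ∀ y : Y, IsRegularLocalRing (Y.presheaf.stalk y))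
    (f : X ⟶ Y) (hf : Mor2.IsRegularClosedImmersion f) [ConnectedSpace ↥X] (d : ℕ) (hd : 1 ≤ d)
    (hC : FlatMod.IsFinLocFreeOfRank d (Omega.conormal f)) (hXreg : ∀ x : X, IsRegularLocalRing (X.presheaf.stalk x))
    (φ : Y₁ ⟶ Y) (hφ : BlowUp.IsBlowUp φ f.ker) (f₁ : X₁ ⟶ Y₁) (ψ : X₁ ⟶ X) (hsq : IsPullback f₁ ψ φ f)
    [IsClosedImmersion f₁] (hC₁ : FlatMod.IsFinLocFreeOfRank 1 (Omega.conormal f₁)) [ConnectedSpace ↥X₁] [ConnectedSpace ↥Y₁]
    (KX : Type v) [CommRing KX] [LambdaRing.LambdaOps KX] (PX : LambdaRing.PosStructure KX) (φX : SGA6.Kvb X →+ KX) (hKX : KRR.IsModel X KX PX φX)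
    (KY : Type v) [CommRing KY] [LambdaRing.LambdaOps KY] (PY : LambdaRing.PosStructure KY) (φY : SGA6.Kvb Y →+ KY) (hKY : KRR.IsModel Y KY PY φY)
    (KX₁ : Type v) [CommRing KX₁] [LambdaRing.LambdaOps KX₁] (PX₁ : LambdaRing.PosStructure KX₁) (φX₁ : SGA6.Kvb X₁ →+ KX₁) (hKX₁ : KRR.IsModel X₁ KX₁ PX₁ φX₁)
    (KY₁ : Type v) [CommRing KY₁] [LambdaRing.LambdaOps KY₁] (PY₁ : LambdaRing.PosStructure KY₁) (φY₁ : SGA6.Kvb Y₁ →+ KY₁) (hKY₁ : KRR.IsModel Y₁ KY₁ PY₁ φY₁)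
    (gφ : KY →+ KY₁) (hgφ : KRR.IsPull φ φY φY₁ gφ) (gψ : KX →+ KX₁) (hgψ : KRR.IsPull ψ φX φX₁ gψ)
    (gf : KX →+ KY) (hgf : KRR.IsPushCl f φX φY gf) (gf₁ : KX₁ →+ KY₁) (hgf₁ : KRR.IsPushCl f₁ φX₁ φY₁ gf₁) :
    ∀ y₁ : KY₁, ∃ (x₁ : KX₁) (y : KY), gf₁ x₁ + gφ y = y₁ := by
  haveI := hf.1
  haveI : IsProper φ := GrothLib.BlowUpProper.isProper_of_isBlowUp hφ
  haveI : IsNoetherian Y₁ :=
    { toIsLocallyNoetherian := LocallyOfFiniteType.isLocallyNoetherian φ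
      toCompactSpace := QuasiCompact.compactSpace_of_compactSpace φ }
  haveI : IsNoetherian X := GrothLib.PushKR17.isNoetherian_of_closedImmersion f
  haveI : IsNoetherian X₁ := GrothLib.PushKR17.isNoetherian_of_closedImmersion f₁
  haveI := GrothLib.BlowK17.isSeparated_of_isQProjOver hqY
  haveI : Y.IsSeparated := GrothLib.BlowK17.isSeparated_of_hom qY
  haveI : Y₁.IsSeparated := GrothLib.BlowK17.isSeparated_of_hom φ
  haveI : X₁.IsSeparated := GrothLib.BlowK17.isSeparated_of_hom f₁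
  have hY₁reg := GrothLib.BlowK17.isRegular_blowUp hf hφ hsq hYreg hXreg
  have hX₁reg := GrothLib.BlowK17.isRegular_exceptional hf hφ hsq hXreg
  obtain ⟨U, hU⟩ : ∃ U : Y.Opens, U = f.ker.support.compl := ⟨_, rfl⟩
  haveI : IsIso (φ ∣_ U) := hU ▸ GrothLib.BlowUp.isIso_off_center hφ
  have hUr : (U : Set Y) = (Set.range f)ᶜ := by
    rw [hU, TopologicalSpace.Closeds.coe_compl, Scheme.Hom.support_ker]
    exact congrArg compl f.isClosedEmbedding.isClosed_range.closure_eq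
  have hr : Set.range f₁ = φ ⁻¹' Set.range f := by
    rw [← hsq.isoPullback_hom_fst, Scheme.Hom.comp_base, TopCat.coe_comp,
      Set.range_comp, Set.range_eq_univ.2 (hsq.isoPullback.hom.surjective), Set.image_univ, Scheme.Pullback.range_fst]
  haveI : IsOpenImmersion ((φ ⁻¹ᵁ U).ι ≫ φ) := by rw [← morphismRestrict_ι φ U]; infer_instance
  haveI : IsLocallyNoetherian ↑(φ ⁻¹ᵁ U) := isLocallyNoetherian_of_isOpenImmersion (φ ⁻¹ᵁ U).ι
  intro y₁
  exact GrothLib.BlowK17.surjective φ f₁ (φ ⁻¹ᵁ U).ι ((φ ⁻¹ᵁ U).ι ≫ φ) rfl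
    (by rw [Scheme.Opens.range_ι, hr, ← Set.preimage_compl, ← hUr]; rfl)
    (GrothLib.BlowK17.hasEnoughLocFree_of_regular Y hYreg) hYreg
    (GrothLib.BlowK17.hasEnoughLocFree_of_regular Y₁ hY₁reg) hY₁reg
    (GrothLib.BlowK17.hasEnoughLocFree_of_regular X₁ hX₁reg) hX₁reg
    φY φX₁ φY₁ hKY₁.bijective gφ hgφ gf₁ hgf₁ y₁

end Groth.Agent.S3774
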