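import Groth.Statements.S3781
-- import your own Groth.Agent.* helpers here
import Groth.Agent.Lib.Lambda.Det

set_option autoImplicit false
universe v u
open CategoryTheory CategoryTheory.Limits AlgebraicGeometry
attribute [local instance] HasDerivedCategory.standard
open KRR

namespace Groth.Agent.S3781

/-- Let K be a λ-ring with positive structure having the splitting property, L its group of line
elements and F^n the γ-filtration. Assume moreover that the inverse of a line element is a line
element and that for a positive e with ε(e) = r the element det e = λ^r(e) is positive (hence a line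
element); these are part of the published setting but are not implied by the axioms used here, so
they are hypotheses. Then u ↦ u − 1 induces an isomorphism L ≅ Gr^1 K = F^1/F^2: every x ∈ F^1 is
congruent modulo F^2 to u − 1 for some line element u, and line elements u, v with u − v ∈ F^2 are
equal. -/
theorem result (K : Type v) [CommRing K] [LambdaRing.LambdaOps K] (P : LambdaRing.PosStructure K) (hK : LambdaRing.HasSplitting K P)
    (hLinv : ∀ w : K, P.IsLine w → ∃ w' : K, P.IsLine w' ∧ w * w' = 1)
    (hdet : ∀ e : K, e ∈ P.pos → LambdaRing.LambdaOps.lam (P.aug e).toNat e ∈ P.pos) :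
    (∀ x : K, x ∈ LambdaRing.gammaFiltration P 1 → ∃ u : K, P.IsLine u ∧ x - (u - 1) ∈ LambdaRing.gammaFiltration P 2) ∧
    ∀ u v : K, P.IsLine u → P.IsLine v → u - v ∈ LambdaRing.gammaFiltration P 2 → u = v := by
  have hF : ∀ (m : ℕ) (z : K),
      z ∈ LambdaRing.gammaFiltration P m ↔ z ∈ LambdaRing.gammaFil P.aug m :=
    GrothLib.Lambda.mem_gammaFiltration_iff P
  refine ⟨fun x hx => ?_, fun u v hu hv huv => ?_⟩
  · obtain ⟨e₁, e₂, he₁, he₂, rfl⟩ := P.exists_sub x
    have haug : P.aug e₁ = P.aug e₂ := by
      have key : ∀ z ∈ LambdaRing.gammaFiltration P 1, P.aug z = 0 := by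
        intro z hz
        rw [LambdaRing.gammaFiltration, if_neg one_ne_zero] at hz
        induction hz using AddSubgroup.closure_induction with
        | mem y hy =>
          obtain ⟨l, hl, hle, rfl⟩ := hy
          rw [map_list_prod, List.prod_eq_zero]
          obtain ⟨p, hp, hp1⟩ : ∃ p ∈ l, p.1 ≠ 0 := by
            by_contra hc
            push Not at hc
            have : (l.map Prod.fst).sum = 0 := List.sum_eq_zero (by simpa using fun a b h => hc (a, b) h)
            omega
          refine List.mem_map.2 ⟨_, List.mem_map.2 ⟨p, hp, rfl⟩, ?_⟩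
          simp only [LambdaRing.gamma, if_neg hp1, map_sum, map_mul]
          refine Finset.sum_eq_zero fun j _ => ?_
          split
          · simp
          · rename_i hj
            rw [GrothLib.Lambda.commutes_aug hK j, hl p hp]
            obtain ⟨c, rfl⟩ := Nat.exists_eq_succ_of_ne_zero hj
            letI := GrothLib.Lambda.intBinomialOps
            rw [GrothLib.Lambda.lam_succ_zero, mul_zero]
        | zero => exact map_zero _
        | add _ _ _ _ h1 h2 => rw [map_add, h1, h2, add_zero]
        | neg _ _ h1 => rw [map_neg, h1, neg_zero]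
      have := key _ hx
      rw [map_sub] at this
      linarith
    have hy : ∀ e ∈ P.pos, P.IsLine (LambdaRing.LambdaOps.lam (P.aug e).toNat e) ∧
        (e - ((P.aug e).toNat : K)) - (LambdaRing.LambdaOps.lam (P.aug e).toNat e - 1) ∈
          LambdaRing.gammaFiltration P 2 := by
      intro e he
      refine ⟨⟨hdet e he, by rw [GrothLib.Lambda.aug_lam hK he]; simp⟩, ?_⟩
      have hn : 0 < (P.aug e).toNat := by have := P.aug_pos e he; omega
      generalize hm : (P.aug e).toNat = m at hn ⊢
      obtain ⟨m, rfl⟩ := Nat.exists_eq_add_of_le' (show 1 ≤ m by omega)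
      have h := GrothLib.Lambda.lam_add_self (GrothLib.Lambda.lam_one_eq_zero_of_pos P)
        (e - ((m + 1 : ℕ) : K)) (m + 1)
      rw [sub_add_cancel, Finset.sum_range_succ', Finset.sum_range_succ',
        GrothLib.Lambda.gamma_zero_left, zero_add, GrothLib.Lambda.gamma_one'] at h
      rw [h]
      ring_nf
      rw [show ∀ z : K, -z = -1 * z from fun z => by ring]
      rw [hF]
      refine Ideal.mul_mem_left _ _ (sum_mem fun k _ => ?_)
      refine GrothLib.Lambda.gammaFil_antitone (show 2 ≤ 2 + k by omega) ?_
      refine GrothLib.Lambda.gamma_mem_gammaFil ?_ _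
      have h0 := P.aug_pos e he
      simp only [map_sub, map_add, map_one, map_natCast]
      omega
    obtain ⟨hd₁, h₁⟩ := hy e₁ he₁
    obtain ⟨hd₂, h₂⟩ := hy e₂ he₂
    obtain ⟨d', hd', hdd⟩ := hLinv _ hd₂
    refine ⟨_, GrothLib.Lambda.IsLine.mul hd₁ hd', ?_⟩
    set d₁ := LambdaRing.LambdaOps.lam (P.aug e₁).toNat e₁
    set d₂ := LambdaRing.LambdaOps.lam (P.aug e₂).toNat e₂
    have h3 : (d₁ * d' - 1) * (d₂ - 1) ∈ LambdaRing.gammaFiltration P 2 := by
      have hz : ∀ w : K, P.IsLine w → w - 1 ∈ LambdaRing.gammaFil P.aug 1 := fun w hw => by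
        rw [← GrothLib.Lambda.gamma_one' (w - 1)]
        exact GrothLib.Lambda.gamma_mem_gammaFil (by rw [map_sub, hw.2, map_one, sub_self]) 1
      refine (hF (1 + 1) _).2 ?_
      exact GrothLib.Lambda.mul_mem_gammaFil (ε := P.aug) (a := 1) (b := 1) (hz _ (GrothLib.Lambda.IsLine.mul hd₁ hd')) (hz _ hd₂)
    rw [haug] at h₁
    convert add_mem (sub_mem h₁ h₂) h3 using 1
    linear_combination -d₁ * hdd
  · have h := congr_arg Additive.toMul (GrothLib.Lambda.detHom_eq_zero P hK huv)
    rw [map_sub] at h
    have h2 : GrothLib.Lambda.detU P u / GrothLib.Lambda.detU P v = 1 := h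
    rw [← GrothLib.Lambda.coe_detU_line P hu, ← GrothLib.Lambda.coe_detU_line P hv,
      div_eq_one.1 h2]

end Groth.Agent.S3781
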