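import Groth.Statements.S3784
-- import your own Groth.Agent.* helpers here
import Groth.Agent.Lib.SplitK17.Split


set_option autoImplicit false
universe v u
open CategoryTheory CategoryTheory.Limits AlgebraicGeometry
attribute [local instance] HasDerivedCategory.standard
open KRR

namespace Groth.Agent.S3784

/-- Let X be a connected Noetherian scheme, (K, P, φ) a model of the λ-ring K(X), and E a finite locally
free O_X-module of rank m. Then there are a connected Noetherian scheme X', a morphism f : X' ⟶ X, a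
model (K', P', φ') of K(X') and the pull-back g = f^K : K ⟶ K' such that g is injective, g⁻¹(F^k K')
= F^k K for all k (γ-filtrations), and g[E] = [L₁] + ⋯ + [L_m] for invertible O_{X'}-modules L_i. -/
theorem result (X : Scheme.{u}) [IsNoetherian X] [ConnectedSpace ↥X]
    (K : Type v) [CommRing K] [LambdaRing.LambdaOps K] (P : LambdaRing.PosStructure K) (φ : SGA6.Kvb X →+ K) (hK : KRR.IsModel X K P φ) (m : ℕ) (E : X.Modules) (hE : FlatMod.IsFinLocFreeOfRank m E) :
    ∃ (X' : Scheme.{u}) (_ : IsNoetherian X') (_ : ConnectedSpace ↥X') (f : X' ⟶ X)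
      (K' : Type (u + 1)) (_ : CommRing K') (_ : LambdaRing.LambdaOps K') (P' : LambdaRing.PosStructure K')
      (φ' : SGA6.Kvb X' →+ K') (_ : KRR.IsModel X' K' P' φ') (g : K →+ K') (_ : KRR.IsPull f φ φ' g),
      Function.Injective g ∧ (∀ k : ℕ, (LambdaRing.gammaFiltration P' k).comap g = LambdaRing.gammaFiltration P k) ∧
      ∃ L : Fin m → X'.Modules, (∀ j, FlatMod.IsFinLocFreeOfRank 1 (L j)) ∧ g (φ (KRR.cl X E)) = ∑ j, φ' (KRR.cl X' (L j)) := by
  obtain ⟨K₀, iR, iL, P₀, φ₀, h₀⟩ := Groth.Agent.S3796.result X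
  obtain ⟨h, hφ, hc, hc', ha⟩ := GrothLib.SplitK17.exists_modelEquiv hK h₀
  obtain ⟨T⟩ := GrothLib.SplitK17.nonempty_spl m X K₀ P₀ φ₀ h₀ E hE
  letI := T.ring
  letI := T.lam
  have hsp : ∀ (Y : Scheme.{u}) (_ : IsNoetherian Y) (_ : ConnectedSpace Y) (M : Type (u + 1)) (_ : CommRing M)
      (_ : LambdaRing.LambdaOps M) (Q : LambdaRing.PosStructure M) (ψ : SGA6.Kvb Y →+ M),
      KRR.IsModel Y M Q ψ → LambdaRing.HasSplitting M Q := fun Y _ _ M _ _ Q ψ hψ =>
    GrothLib.SplitK17.hasSplitting Y M Q ψ hψ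
  refine ⟨T.X', T.noeth, T.conn, T.f, T.K', T.ring, T.lam, T.P', T.φ', T.model,
    T.g.toAddMonoidHom.comp h.toAddMonoidHom, fun A hA => ?_, ?_, fun k => ?_, T.L, T.rkL, ?_⟩
  · show T.g.toAddMonoidHom (h (φ (KRR.cl X A))) = _
    rw [hφ]
    exact T.pull A hA
  · exact T.ext.injective.comp h.injective
  · refine le_antisymm (fun x hx => ?_) fun x hx => ?_
    · have h1 := GrothLib.SplitK17.map_mem_gammaFiltration (PA := P₀) (PB := P) hc'
        (fun y => by
          show P.aug (h.symm y) = _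
          rw [← ha (h.symm y)]; exact congrArg P₀.aug (h.apply_symm_apply y)) (T.comap hsp k (h x) hx)
      simpa using h1
    · show T.g (h x) ∈ LambdaRing.gammaFiltration T.P' k
      exact GrothLib.SplitK17.map_mem_gammaFiltration (PA := P₀) (fun i y => T.ext.isLambdaHom i y)
        T.ext.aug_comp (GrothLib.SplitK17.map_mem_gammaFiltration hc ha hx)
  · show T.g (h (φ (KRR.cl X E))) = _
    rw [hφ]
    exact T.sum

end Groth.Agent.S3784
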