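import Groth.Statements.S3786
-- import your own Groth.Agent.* helpers here
import Groth.Agent.Lib.PushKR17.Push

set_option autoImplicit false
universe v u
open CategoryTheory CategoryTheory.Limits AlgebraicGeometry
attribute [local instance] HasDerivedCategory.standard
open KRR

namespace Groth.Agent.S3786

/-- Let Y be a connected Noetherian scheme in which every coherent module on Y and on P^n_Y is a
quotient of a finite locally free one, and f = i ≫ p : X ⟶ Y with i : X ⟶ P^n_Y a regular closed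
imbedding (X connected) and p the projection. Let δ_X : K₀(bundles on X) ⟶ K₀(Coh X) and δ_Y be the
maps induced by the inclusions (arguments hX, hY), f_K = p_K ∘ i_K the push-forward on K of bundles
(through models (KX, PX, φX), (KP, PP, φP), (KY, PY, φY)), and g the push-forward on K₀ of coherent
modules, g[F] = Σ_{i ≤ N} (-1)^i [R^i f_* F]. Then δ_Y ∘ f_K = g ∘ δ_X: for x ∈ K₀(bundles on X) and
y ∈ K₀(bundles on Y) with φY y = f_K (φX x), δ_Y y = g (δ_X x). -/
theorem result (n : ℕ) {X Y : Scheme.{u}} [IsNoetherian X] [ConnectedSpace ↥X] [IsNoetherian Y] [ConnectedSpace ↥Y] (hYe : KRR.HasEnoughLocFree Y)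
    (hPe : KRR.HasEnoughLocFree (KRR.PY n Y)) [HasInjectiveResolutions X.Modules]
    (i : X ⟶ KRR.PY n Y) (hi : Mor2.IsRegularClosedImmersion i)
    (hX : ∀ M : X.Modules, FlatMod.IsFinLocFree M → Coh.IsCoh M) (hY : ∀ M : Y.Modules, FlatMod.IsFinLocFree M → Coh.IsCoh M)
    (KX : Type v) [CommRing KX] [LambdaRing.LambdaOps KX] (PX : LambdaRing.PosStructure KX) (φX : SGA6.Kvb X →+ KX) (hKX : KRR.IsModel X KX PX φX)
    (KP : Type v) [CommRing KP] [LambdaRing.LambdaOps KP] (PP : LambdaRing.PosStructure KP) (φP : SGA6.Kvb (KRR.PY n Y) →+ KP) (hKP : KRR.IsModel (KRR.PY n Y) KP PP φP)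
    (KY : Type v) [CommRing KY] [LambdaRing.LambdaOps KY] (PY : LambdaRing.PosStructure KY) (φY : SGA6.Kvb Y →+ KY) (hKY : KRR.IsModel Y KY PY φY)
    (a : KX →+ KP) (ha : KRR.IsPushCl i φX φP a) (b : KP →+ KY) (hb : KRR.IsPushPr n Y φP φY b)
    (N : ℕ) (g : SGA6.Kcoh X →+ SGA6.Kcoh Y) (hg : KRR.IsPushCoh (i ≫ KRR.pr n Y) N g)
    (x : SGA6.Kvb X) (y : SGA6.Kvb Y) (hxy : φY y = b (a (φX x))) :
    SGA6.mapSub (𝟭 Y.Modules) (KRR.vbP Y) (fun M : Y.Modules => Coh.IsCoh M) hY y =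
      g (SGA6.mapSub (𝟭 X.Modules) (KRR.vbP X) (fun M : X.Modules => Coh.IsCoh M) hX x) := by
  haveI := hi.1
  haveI := GrothLib.PushKR17.isNoetherian_PY n Y
  have hz : ∀ Z : Y.Modules, IsZero Z → Coh.IsCoh Z := fun Z hZ =>
    hY Z (GrothLib.DCoh.isFinLocFree_of_isZero hZ)
  have hδ : ∀ (k : ℕ) (M : Y.Modules) (c : SGA6.Kvb Y),
      GrothLib.K0Sub.R (KRR.vbP Y) (GrothLib.K0Sub.cohP Y) k M c →
      SGA6.mapSub (𝟭 Y.Modules) (KRR.vbP Y) (fun M : Y.Modules => Coh.IsCoh M) hY c =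
        KZero.clSub (fun M : Y.Modules => Coh.IsCoh M) M := by
    intro k
    induction k with
    | zero =>
      intro M c hR
      rw [hR.2]
      exact GrothLib.K0Sub.mapSub_clSub _ _ _ hR.1
    | succ k ih =>
      intro M c hR
      obtain ⟨hM, S, c', hS, rfl, hL, hK, rfl⟩ := hR
      have h1 : Coh.IsCoh S.X₁ := GrothLib.K0Sub.isCoh_ker S hS (hY _ hL) hM
      rw [map_sub, ih _ _ hK, show SGA6.mapSub (𝟭 Y.Modules) (KRR.vbP Y) (fun M : Y.Modules => Coh.IsCoh M) hY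
          (KZero.clSub (KRR.vbP Y) S.X₂) = KZero.clSub (fun M : Y.Modules => Coh.IsCoh M) S.X₂ from
        GrothLib.K0Sub.mapSub_clSub _ _ _ hL, GrothLib.K0Sub.clSub_add (P := fun M : Y.Modules => Coh.IsCoh M) hS h1 (hY _ hL) hM,
        add_sub_cancel_left]
  let eY := AddEquiv.ofBijective φY hKY.bijective
  let D : SGA6.Kvb X →+ SGA6.Kcoh Y :=
    (SGA6.mapSub (𝟭 Y.Modules) (KRR.vbP Y) (fun M : Y.Modules => Coh.IsCoh M) hY).comp
        (eY.symm.toAddMonoidHom.comp ((b.comp a).comp φX)) -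
      g.comp (SGA6.mapSub (𝟭 X.Modules) (KRR.vbP X) (fun M : X.Modules => Coh.IsCoh M) hX)
  have hD : D = 0 := GrothLib.PushKR17.add_eq_zero i D fun E hE => by
    obtain ⟨a₀, ha₀⟩ := GrothLib.PushKR17.exists_acy_twu i (GrothLib.Euler.isCoh_of_isFinLocFree hE)
    refine ⟨a₀, fun t ht => ?_⟩
    have hG := GrothLib.PushKR17.isFinLocFree_twu i (t : ℤ) hE
    have hacy : ∀ s : ℕ, GrothLib.PushKR17.Acy (i ≫ KRR.pr n Y)
        (GrothLib.PushKR17.twu i (s : ℤ) (GrothLib.PushKR17.twu i (t : ℤ) E)) := fun s => by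
      obtain ⟨e⟩ := GrothLib.PushKR17.nonempty_twu_twu i (a := (s : ℤ)) (b := (t : ℤ)) (c := ((s + t : ℕ) : ℤ))
        (by push_cast; ring) E
      exact GrothLib.PushKR17.acy_of_iso e.symm (ha₀ _ (by omega))
    obtain ⟨d, ⟨k, hd⟩, e₁⟩ := GrothLib.PushKR17.exists_hasR_comp hYe hPe i hi ha hb
      (GrothLib.PushKR17.HasR.of_vb hG) hacy
    show SGA6.mapSub (𝟭 Y.Modules) (KRR.vbP Y) (fun M : Y.Modules => Coh.IsCoh M) hY
        (eY.symm (b (a (φX (KRR.cl X _))))) - g (SGA6.mapSub _ _ _ hX (KRR.cl X _)) = 0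
    rw [e₁, show eY.symm (φY d) = d from eY.symm_apply_apply d, hδ k _ _ hd,
      show SGA6.mapSub (𝟭 X.Modules) (KRR.vbP X) (fun M : X.Modules => Coh.IsCoh M) hX
          (KRR.cl X (GrothLib.PushKR17.twu i (t : ℤ) E)) =
          KZero.clSub (fun M : X.Modules => Coh.IsCoh M) (GrothLib.PushKR17.twu i (t : ℤ) E) from
        GrothLib.K0Sub.mapSub_clSub _ _ _ hG, hg.2 _ (hX _ hG), Finset.sum_range_succ', Finset.sum_eq_zero, zero_add,
      pow_zero, one_smul, sub_eq_zero]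
    · haveI : PreservesFiniteLimits (Scheme.Modules.pushforward (i ≫ KRR.pr n Y)) := by
        haveI : PreservesLimitsOfSize.{0, 0} (Scheme.Modules.pushforward (i ≫ KRR.pr n Y)) :=
          (Scheme.Modules.pullbackPushforwardAdjunction (i ≫ KRR.pr n Y)).rightAdjoint_preservesLimits
        exact PreservesLimitsOfSize.preservesFiniteLimits.{0, 0} _
      have hc := GrothLib.PushKR17.isCoh_push (i ≫ KRR.pr n Y) (hX _ hG)
      have e := ((Scheme.Modules.pushforward (i ≫ KRR.pr n Y)).rightDerivedZeroIsoSelf.app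
        (GrothLib.PushKR17.twu i (t : ℤ) E))
      exact GrothLib.K0Sub.clSub_eq_of_iso (P := fun M : Y.Modules => Coh.IsCoh M) e.symm hc
        (GrothLib.QCoh.isCoh_of_iso e.symm hc) hz
    · intro q _
      have hz' := GrothLib.RegSheaf.isZero_Rpush_of_Van (i ≫ KRR.pr n Y) _ (q + 1)
        (GrothLib.PushKR17.van_of_acy (GrothLib.PushKR17.acy_of_iso
          (GrothLib.PushKR17.nonempty_twu_zero i _).some (hacy 0)) q.succ_pos)
      rw [GrothLib.K0Sub.clSub_isZero hz', smul_zero]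
  have h := sub_eq_zero.1 (DFunLike.congr_fun hD x)
  have hy : eY.symm (b (a (φX x))) = y := by rw [← hxy]; exact eY.symm_apply_apply y
  rw [← hy]
  exact h

end Groth.Agent.S3786
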