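import Groth.Statements.S3789
-- import your own Groth.Agent.* helpers here
import Groth.Agent.Lib.PBFree17.FromPB


set_option autoImplicit false
universe v u
open CategoryTheory CategoryTheory.Limits AlgebraicGeometry
attribute [local instance] HasDerivedCategory.standard
open KRR

namespace Groth.Agent.S3789

/-- Let X be a connected Noetherian scheme, E finite locally free of rank r + 1, and (π : P ⟶ X, O(1),
q) its projective bundle P(E), P connected Noetherian. With models of K(X), K(P), g = π^K and ℓ =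
[O(1)]: the map (a_0, …, a_r) ↦ Σ_i π^K(a_i) ℓ^i from K(X)^{r+1} to K(P) is bijective, so that K(P)
= K(X)_e = K(X)[ℓ] with the relation of projectiveBundle_tautological_relation. -/
theorem result (X P : Scheme.{u}) [IsNoetherian X] [ConnectedSpace ↥X] [IsNoetherian P] [ConnectedSpace ↥P]
    (r : ℕ) (E : X.Modules) (hE : FlatMod.IsFinLocFreeOfRank (r + 1) E)
    (π : P ⟶ X) (O1 : P.Modules) (q : (Scheme.Modules.pullback π).obj E ⟶ O1) (hPB : KRR.IsProjBundle π E O1 q)
    (KX : Type v) [CommRing KX] [LambdaRing.LambdaOps KX] (PX : LambdaRing.PosStructure KX) (φX : SGA6.Kvb X →+ KX) (hKX : KRR.IsModel X KX PX φX)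
    (KP : Type v) [CommRing KP] [LambdaRing.LambdaOps KP] (PP : LambdaRing.PosStructure KP) (φP : SGA6.Kvb P →+ KP) (hKP : KRR.IsModel P KP PP φP)
    (g : KX →+ KP) (hg : KRR.IsPull π φX φP g) :
    Function.Bijective (fun a : Fin (r + 1) → KX => ∑ i : Fin (r + 1), g (a i) * φP (KRR.cl P O1) ^ (i : ℕ)) := by
  obtain ⟨Oinv, hI, hmul⟩ := GrothLib.VA.exists_inverse (GrothLib.PBDeg.rankOne_iff.1 hPB.invertible)
  have hO := GrothLib.PBDeg.rankOne_iff.1 hPB.invertible
  have hinv : ClSub.IsInverseOf Oinv O1 :=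
    (GrothLib.Cube.clsMod_eq_one_iff (GrothLib.Ample.isInvertible_tensorMod hI hO)).1 (by
      rw [GrothLib.Cube.clsMod_tensorMod hI hO, hmul, inv_mul_cancel])
  obtain ⟨S, hpos, -⟩ := GrothLib.PBFree17.exists_setup hE hPB hinv
  obtain ⟨o⟩ := S.nonempty_ops
  have hO' := GrothLib.Euler.isFinLocFree_of_isInvertible hO
  have hpow : ∀ i : ℕ, φP (KRR.cl P (CohB1.tensorPow O1 i)) = φP (KRR.cl P O1) ^ i := fun i => by
    induction i with
    | zero => rw [pow_zero]; exact hKP.map_one
    | succ i ih =>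
      rw [pow_succ, ← ih, hKP.map_mul _ _
        (GrothLib.Euler.isFinLocFree_of_isInvertible (GrothLib.Ample.isInvertible_tensorPow hO i)) hO']
      rfl
  have key : ∀ (i : ℕ) (x : SGA6.Kvb X), φP (o.τ (i : ℤ) (o.q x)) = g (φX x) * φP (KRR.cl P O1) ^ i := fun i x => by
    refine DFunLike.congr_fun (GrothLib.K0Sub.hom_ext (P := KRR.vbP X) (f := φP.comp ((o.τ (i : ℤ)).comp o.q))
      (g := (AddMonoidHom.mulRight (φP (KRR.cl P O1) ^ i)).comp (g.comp φX)) fun N hN => ?_) x
    show φP (o.τ (i : ℤ) (o.q (KRR.cl X N))) = g (φX (KRR.cl X N)) * φP (KRR.cl P O1) ^ i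
    have hN' := GrothLib.OX.isFinLocFree_pullback π hN
    rw [o.hq N hN, o.hτ _ _ hN', hg N hN, ← hpow i, mul_comm, hKP.map_mul _ _
      (GrothLib.Euler.isFinLocFree_of_isInvertible (GrothLib.Ample.isInvertible_tensorPow hO i)) hN']
    exact congrArg φP (GrothLib.PBFree17.cl_iso (((DCoh.tensorBi (X := P)).mapIso (hpos i).some).app _)
      (S.isFinLocFree_tF hN' _))
  let e := Equiv.ofBijective φX hKX.bijective
  have hτ : Function.Bijective (o.τ (r : ℤ)) := by
    refine Function.bijective_iff_has_inverse.2 ⟨o.τ (-(r : ℤ)), fun x => ?_, fun x => ?_⟩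
    · rw [o.τ_τ, neg_add_cancel, o.τ_zero]
    · rw [o.τ_τ, add_neg_cancel, o.τ_zero]
  have hall := hKP.bijective.comp (hτ.comp (o.bijective.comp
    ((Equiv.piCongrLeft' (fun _ : Fin (r + 1) => SGA6.Kvb X) Fin.revPerm).bijective.comp
      (Equiv.piCongrRight (fun _ : Fin (r + 1) => e.symm)).bijective)))
  refine (congrArg Function.Bijective (funext fun a => ?_)).mp hall
  show φP (o.τ (r : ℤ) (∑ i : Fin (r + 1), o.τ (-((i : ℕ) : ℤ)) (o.q (e.symm (a (Fin.rev i)))))) = _
  rw [map_sum, map_sum, ← Equiv.sum_comp Fin.revPerm]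
  refine Finset.sum_congr rfl fun i _ => ?_
  rw [o.τ_τ, show (r : ℤ) + -((Fin.revPerm i : Fin (r + 1)) : ℕ) = ((i : ℕ) : ℤ) by
    rw [Fin.revPerm_apply, Fin.val_rev]; have := i.is_lt; omega, key, Fin.revPerm_apply, Fin.rev_rev]
  exact congrArg (fun y => g y * _) (e.apply_symm_apply (a i))

end Groth.Agent.S3789
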