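import Groth.Statements.S3790
-- import your own Groth.Agent.* helpers here
import Groth.Agent.S3747
import Groth.Agent.S3748
import Groth.Agent.S3749
import Groth.Agent.Lib.LeffAmp7.Stalks
import Groth.Agent.Lib.OX.LocFreeTensor
import Groth.Agent.Lib.OX.RHomDual


set_option autoImplicit false
universe v u
open CategoryTheory CategoryTheory.Limits AlgebraicGeometry
attribute [local instance] HasDerivedCategory.standard
open KRR

namespace Groth.Agent.S3790

/-- Let X be a connected Noetherian scheme on which every coherent module is a quotient of a finite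
locally free one, and i : Y ⟶ X, j : Z ⟶ X regular closed imbeddings (Y, Z connected) meeting
regularly: with W = Y ×_X Z and projections h : W ⟶ Y, g : W ⟶ Z, the base change g is a regular
closed imbedding of the same codimension as i (conormal modules of i and g finite locally free of
the same rank), W connected. With models and push-forwards i_K, j_K, (g ≫ j)_K: [O_Y] · [O_Z] =
[O_{Y ∩ Z}] in K(X), i.e. i_K(1) · j_K(1) = (g ≫ j)_K(1). -/
theorem result {X Y Z W : Scheme.{u}} [IsNoetherian X] [ConnectedSpace ↥X] (hXe : KRR.HasEnoughLocFree X)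
    (i : Y ⟶ X) (hi : Mor2.IsRegularClosedImmersion i) [ConnectedSpace ↥Y]
    (j : Z ⟶ X) (hj : Mor2.IsRegularClosedImmersion j) [ConnectedSpace ↥Z]
    (h : W ⟶ Y) (g : W ⟶ Z) (hsq : IsPullback g h j i) (hg : Mor2.IsRegularClosedImmersion g) [ConnectedSpace ↥W]
    (d : ℕ) (hci : FlatMod.IsFinLocFreeOfRank d (Omega.conormal i)) (hcg : FlatMod.IsFinLocFreeOfRank d (Omega.conormal g))
    (KX : Type v) [CommRing KX] [LambdaRing.LambdaOps KX] (PX : LambdaRing.PosStructure KX) (φX : SGA6.Kvb X →+ KX) (hKX : KRR.IsModel X KX PX φX)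
    (KY : Type v) [CommRing KY] [LambdaRing.LambdaOps KY] (PY : LambdaRing.PosStructure KY) (φY : SGA6.Kvb Y →+ KY) (hKY : KRR.IsModel Y KY PY φY)
    (KZ : Type v) [CommRing KZ] [LambdaRing.LambdaOps KZ] (PZ : LambdaRing.PosStructure KZ) (φZ : SGA6.Kvb Z →+ KZ) (hKZ : KRR.IsModel Z KZ PZ φZ)
    (KW : Type v) [CommRing KW] [LambdaRing.LambdaOps KW] (PW : LambdaRing.PosStructure KW) (φW : SGA6.Kvb W →+ KW) (hKW : KRR.IsModel W KW PW φW)
    (a : KY →+ KX) (ha : KRR.IsPushCl i φY φX a) (b : KZ →+ KX) (hb : KRR.IsPushCl j φZ φX b)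
    (c : KW →+ KX) (hc : KRR.IsPushCl (g ≫ j) φW φX c) :
    a 1 * b 1 = c 1 := by
  haveI := hi.1
  haveI := hj.1
  haveI := hg.1
  haveI : IsNoetherian Y := GrothLib.PushKR17.isNoetherian_of_closedImmersion i
  haveI : IsNoetherian Z := GrothLib.PushKR17.isNoetherian_of_closedImmersion j
  haveI : IsNoetherian W := GrothLib.PushKR17.isNoetherian_of_closedImmersion g
  have hZe : KRR.HasEnoughLocFree Z := fun M hM => by
    obtain ⟨F, p, hF, hp⟩ := hXe _ (GrothLib.K0Sub.isCoh_push j hM)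
    haveI := hp
    exact ⟨(Scheme.Modules.pullback j).obj F,
      (Scheme.Modules.pullback j).map p ≫ (Scheme.Modules.pullbackPushforwardAdjunction j).counit.app M,
      GrothLib.OX.isFinLocFree_pullback j hF, by
        haveI := (GrothLib.K0Sub.isCoh_push j hM).1
        haveI := GrothLib.LeffAmp7.isIso_counit_closed j M
        haveI := (Scheme.Modules.pullbackPushforwardAdjunction j).leftAdjoint_preservesColimits.{0, 0}
        infer_instance⟩
  let eX : SGA6.Kvb X ≃+ KX := AddEquiv.ofBijective φX hKX.bijective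
  let eY : SGA6.Kvb Y ≃+ KY := AddEquiv.ofBijective φY hKY.bijective
  let eW : SGA6.Kvb W ≃+ KW := AddEquiv.ofBijective φW hKW.bijective
  obtain ⟨θj, hθj⟩ := GrothLib.K0Sub.exists_pull j
  obtain ⟨θh, hθh⟩ := GrothLib.K0Sub.exists_pull h
  obtain ⟨ψg, hψg⟩ := GrothLib.K0Sub.exists_pushClass hZe hg
  let gj : KX →+ KZ := (φZ.comp θj).comp eX.symm.toAddMonoidHom
  let gh : KY →+ KW := (φW.comp θh).comp eY.symm.toAddMonoidHom
  let gg : KW →+ KZ := (φZ.comp ψg).comp eW.symm.toAddMonoidHom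
  have hgj : KRR.IsPull j φX φZ gj := fun E hE => by
    show φZ (θj (eX.symm (eX (KRR.cl X E)))) = _
    rw [eX.symm_apply_apply, hθj E hE]
  have hgh : KRR.IsPull h φY φW gh := fun E hE => by
    show φW (θh (eY.symm (eY (KRR.cl Y E)))) = _
    rw [eY.symm_apply_apply, hθh E hE]
  have hgg : KRR.IsPushCl g φW φZ gg := fun F hF n L π hL => by
    show φZ (ψg (eW.symm (eW (KRR.cl W F)))) = _
    rw [eW.symm_apply_apply, hψg F hF n _ (GrothLib.K0Sub.R_of_isLFRes n _ L π
      (GrothLib.K0Sub.isCoh_push g (GrothLib.Euler.isCoh_of_isFinLocFree hF)) hL), map_sum]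
    exact Finset.sum_congr rfl fun k _ => map_zsmul φZ _ _
  have h1 : gh 1 = 1 := by
    rw [← hKY.map_one, hgh _ (GrothLib.OX.isFinLocFree_structureModule Y), ← hKW.map_one]
    exact congrArg φW (GrothLib.K0Sub.clSub_eq_of_iso (GrothLib.OX.pullUnitIso h)
      (GrothLib.OX.isFinLocFree_pullback h (GrothLib.OX.isFinLocFree_structureModule Y))
      (GrothLib.OX.isFinLocFree_structureModule W) fun _ hZ => GrothLib.DCoh.isFinLocFree_of_isZero hZ)
  rw [Groth.Agent.S3748.result g j hg hj hZe hXe KW PW φW hKW KZ PZ φZ hKZ KX PX φX hKX gg hgg b hb c hc,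
    AddMonoidHom.comp_apply]
  conv_rhs => rw [← h1, ← Groth.Agent.S3749.result i j g h hsq hi hg d hci hcg hZe hXe KW PW φW hKW KZ PZ φZ hKZ
    KY PY φY hKY KX PX φX hKX gj hgj gh hgh a ha gg hgg 1]
  rw [mul_comm, ← Groth.Agent.S3747.result j hj hXe KZ PZ φZ hKZ KX PX φX hKX gj hgj b hb, one_mul]


end Groth.Agent.S3790
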