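import Groth.Statements.S3792
-- import your own Groth.Agent.* helpers here
import Groth.Agent.Lib.Lambda.Det

set_option autoImplicit false
universe v u
open CategoryTheory CategoryTheory.Limits AlgebraicGeometry
attribute [local instance] HasDerivedCategory.standard
open KRR

namespace Groth.Agent.S3792

/-- Let K be a λ-ring with positive structure having the splitting property, e a positive element and j
≥ 1. Then ψ^j(λ_{-1}(e)) = λ_{-1}(e) · θ^j(e), where λ_{-1}(e) = Σ_{i ≤ ε(e)} (-1)^i λ^i(e), ψ^j is
the Adams operation and θ^j(e) is Bott's cannibalistic class (the universal polynomial in the λ^i(e)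
which is Π (1 + u_i + ⋯ + u_i^{j-1}) on a splitting e = Σ u_i). -/
theorem result (K : Type v) [CommRing K] [LambdaRing.LambdaOps K] (P : LambdaRing.PosStructure K) (hK : LambdaRing.HasSplitting K P) (e : K) (he : e ∈ P.pos) (j : ℕ) (hj : 1 ≤ j) :
    LambdaRing.adams P j (KRR.lamAlt P e) = KRR.lamAlt P e * KRR.bott P j e := by
  obtain ⟨C, hC, hsp⟩ := hK
  obtain ⟨L, hL, f, hf, t, ht, hsum⟩ := hsp _ hC e he
  have hKL : LambdaRing.HasSplitting L.carrier L.posStr := ⟨C, hL, hsp⟩
  refine hf.injective ?_
  have hm : (P.aug e).toNat = t.toList.length := by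
    rw [Multiset.length_toList, ← GrothLib.Lambda.card_of_split ht, hsum, hf.aug_comp]
  let v : Fin (P.aug e).toNat → L.carrier := fun i => t.toList[i.1]'(by rw [← hm]; exact i.2)
  have hv : (Finset.univ.val.map v) = t := by
    have h' : List.ofFn v = t.toList := List.ext_getElem (by simp [hm]) (fun i h₁ h₂ => by simp [v])
    rw [Fin.univ_val_map, h', Multiset.coe_toList]
  have hvl : ∀ i, L.posStr.IsLine (v i) := fun i =>
    ht _ (Multiset.mem_toList.1 (List.getElem_mem _))
  have hlam : ∀ k, f (LambdaRing.LambdaOps.lam k e) = t.esymm k := fun k => by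
    rw [hf.isLambdaHom, ← hsum]
    exact GrothLib.Lambda.lam_multiset_sum t
      (fun u hu j hj => GrothLib.Lambda.lam_line_eq_zero (ht u hu) hj) k
  have hlamAlt : f (KRR.lamAlt P e) = ∏ i, (1 - v i) := by
    have h1 : ∀ k, f (LambdaRing.LambdaOps.lam k e) =
        ∑ s ∈ Finset.univ.powersetCard k, ∏ i ∈ s, v i := fun k => by
      rw [hlam, ← hv, Finset.esymm_map_val]
    simp_rw [sub_eq_add_neg, Finset.prod_one_add, Finset.prod_neg]
    rw [KRR.lamAlt, map_sum, Finset.sum_powerset, Finset.card_univ, Fintype.card_fin]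
    refine Finset.sum_congr rfl fun k _ => ?_
    rw [map_mul, map_pow, map_neg, map_one, h1, Finset.mul_sum]
    exact Finset.sum_congr rfl fun s hs => by rw [(Finset.mem_powersetCard.1 hs).2]
  have hbott : f (KRR.bott P j e) = ∏ i, ∑ k ∈ Finset.range j, v i ^ k := by
    rw [KRR.bott, show f (MvPolynomial.aeval (fun i : Fin (P.aug e).toNat =>
        LambdaRing.LambdaOps.lam (i.1 + 1) e) (KRR.bottPoly j (P.aug e).toNat)) =
        MvPolynomial.aeval (fun i : Fin (P.aug e).toNat =>
          MvPolynomial.aeval v (MvPolynomial.esymm (Fin (P.aug e).toNat) ℤ (i.1 + 1)))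
          (KRR.bottPoly j (P.aug e).toNat) from ?_]
    · rw [← MvPolynomial.comp_aeval_apply]
      have h2 := (MvPolynomial.esymmAlgEquiv (Fin (P.aug e).toNat) ℤ (Fintype.card_fin _)).apply_symm_apply
        ⟨KRR.bottSym j (P.aug e).toNat, KRR.bottSym_isSymmetric j (P.aug e).toNat⟩
      have h3 := congr_arg Subtype.val h2
      rw [MvPolynomial.esymmAlgEquiv_apply, MvPolynomial.esymmAlgHom_apply] at h3
      rw [show MvPolynomial.aeval (fun i : Fin (P.aug e).toNat =>
          MvPolynomial.esymm (Fin (P.aug e).toNat) ℤ (i.1 + 1)) (KRR.bottPoly j (P.aug e).toNat) =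
          KRR.bottSym j (P.aug e).toNat from h3, KRR.bottSym]
      simp
    · rw [GrothLib.Lambda.ringHom_aeval]
      congr 2
      funext i
      rw [hlam, MvPolynomial.aeval_esymm_eq_multiset_esymm, hv]
  rw [GrothLib.Lambda.IsExtension.map_adams hf, map_mul, hlamAlt, hbott]
  have h1 : LambdaRing.adams L.posStr j 1 = 1 := by
    rw [GrothLib.Lambda.adams_line (GrothLib.Lambda.isLine_one L.posStr), one_pow]
  have hmulprod : ∀ (s : Finset (Fin (P.aug e).toNat)) (g : Fin (P.aug e).toNat → L.carrier),
      LambdaRing.adams L.posStr j (∏ i ∈ s, g i) = ∏ i ∈ s, LambdaRing.adams L.posStr j (g i) := by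
    intro s g
    classical
    induction s using Finset.induction with
    | empty => simpa using h1
    | insert a s ha ih =>
      rw [Finset.prod_insert ha, Finset.prod_insert ha, GrothLib.Lambda.adams_mul hKL, ih]
  rw [hmulprod, ← Finset.prod_mul_distrib]
  refine Finset.prod_congr rfl fun i _ => ?_
  have h4 : LambdaRing.adams L.posStr j (1 - v i) =
      LambdaRing.adams L.posStr j 1 - LambdaRing.adams L.posStr j (v i) :=
    map_sub (GrothLib.Lambda.adamsAddHom L.posStr j) 1 (v i)
  rw [h4, h1, GrothLib.Lambda.adams_line (hvl i), mul_neg_geom_sum]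

end Groth.Agent.S3792
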