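import Groth.Statements.S3795
-- import your own Groth.Agent.* helpers here
import Groth.Agent.Lib.Lambda.Elementary

set_option autoImplicit false
universe v u
open CategoryTheory CategoryTheory.Limits AlgebraicGeometry
attribute [local instance] HasDerivedCategory.standard
open KRR

namespace Groth.Agent.S3795

/-- Let K be a λ-ring with positive structure having the splitting property, j ≥ 2, n ≥ 0 and x ∈ K. If
ψ^j(x) - j^n x lies in ℚF^{n+1} (some positive multiple lies in F^{n+1}, γ-filtration), then x lies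
in ℚF^n (some positive multiple of x lies in F^n). -/
theorem result (K : Type v) [CommRing K] [LambdaRing.LambdaOps K] (P : LambdaRing.PosStructure K) (hK : LambdaRing.HasSplitting K P) (j : ℕ) (hj : 2 ≤ j) (n : ℕ) (x : K)
    (hx : ∃ N : ℕ, 1 ≤ N ∧ (N : K) * (LambdaRing.adams P j x - (j : K) ^ n * x) ∈ LambdaRing.gammaFiltration P (n + 1)) :
    ∃ N : ℕ, 1 ≤ N ∧ (N : K) * x ∈ LambdaRing.gammaFiltration P n := by
  have hmul : ∀ (m : ℕ) (a z : K), z ∈ LambdaRing.gammaFiltration P m →
      a * z ∈ LambdaRing.gammaFiltration P m := fun m a z hz => by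
    rw [GrothLib.Lambda.mem_gammaFiltration_iff] at hz ⊢
    exact Ideal.mul_mem_left _ a hz
  have hanti : ∀ {a b : ℕ}, a ≤ b → ∀ z : K, z ∈ LambdaRing.gammaFiltration P b →
      z ∈ LambdaRing.gammaFiltration P a := fun h z hz => by
    rw [GrothLib.Lambda.mem_gammaFiltration_iff] at hz ⊢
    exact GrothLib.Lambda.gammaFil_antitone h hz
  obtain ⟨N', hN', hx⟩ := hx
  suffices ∀ m ≤ n, ∃ N : ℕ, 1 ≤ N ∧ (N : K) * x ∈ LambdaRing.gammaFiltration P m from this n le_rfl
  intro m
  induction m with
  | zero => exact fun _ => ⟨1, le_rfl, by simp [LambdaRing.gammaFiltration]⟩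
  | succ m ih =>
    intro hm
    obtain ⟨N, hN, hNx⟩ := ih (by omega)
    have h1 := GrothLib.Lambda.adams_congr hK (show 1 ≤ j by omega) hNx
    have hps : LambdaRing.adams P j ((N : K) * x) = (N : K) * LambdaRing.adams P j x := by
      have := map_nsmul (GrothLib.Lambda.adamsAddHom P j) N x
      rw [nsmul_eq_mul, nsmul_eq_mul] at this
      exact this
    rw [hps] at h1
    have h2 := hanti (show m + 1 ≤ n + 1 by omega) _ hx
    have h3 := sub_mem (hmul _ (N' : K) _ h1) (hmul _ (N : K) _ h2)
    have hlt : j ^ m < j ^ n := Nat.pow_lt_pow_right (by omega) (by omega)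
    refine ⟨N * N' * (j ^ n - j ^ m), ?_, ?_⟩
    · have : 0 < j ^ n - j ^ m := by omega
      exact Nat.mul_pos (Nat.mul_pos hN hN') this
    · convert h3 using 1
      push_cast [Nat.cast_sub hlt.le]
      ring

end Groth.Agent.S3795
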