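import Groth.Statements.S3798
-- import your own Groth.Agent.* helpers here
import Groth.Agent.Lib.RegSheaf.PushK

set_option autoImplicit false
universe v u
open CategoryTheory CategoryTheory.Limits AlgebraicGeometry
attribute [local instance] HasDerivedCategory.standard
open KRR

namespace Groth.Agent.S3798

/-- Let Y be a connected Noetherian scheme, p : P^n_Y ⟶ Y, and (KP, PP, φP), (KY, PY, φY) models of
K(P^n_Y), K(Y). Then there is a unique additive map g : K(P^n_Y) ⟶ K(Y) with g[F] = [p_* F] for
every finite locally free F which is regular relative to p (the push-forward p_K). -/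
theorem result (n : ℕ) (Y : Scheme.{u}) [IsNoetherian Y] [ConnectedSpace ↥Y]
    (KP : Type v) [CommRing KP] [LambdaRing.LambdaOps KP] (PP : LambdaRing.PosStructure KP) (φP : SGA6.Kvb (KRR.PY n Y) →+ KP) (hKP : KRR.IsModel (KRR.PY n Y) KP PP φP)
    (KY : Type v) [CommRing KY] [LambdaRing.LambdaOps KY] (PY : LambdaRing.PosStructure KY) (φY : SGA6.Kvb Y →+ KY) (hKY : KRR.IsModel Y KY PY φY) :
    ∃! g : KP →+ KY, KRR.IsPushPr n Y φP φY g := by
  obtain ⟨P, hP⟩ := GrothLib.RegSheaf.exists_pushK (n := n) (Y := Y)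
  let e := AddEquiv.ofBijective φP hKP.bijective
  refine ⟨φY.comp (P.comp e.symm.toAddMonoidHom), fun F hF hreg => ?_, fun g hg => ?_⟩
  · show φY (P (e.symm (e _))) = _
    rw [AddEquiv.symm_apply_apply, hP F ⟨hF, hreg⟩]
  · have h := GrothLib.RegSheaf.hom_ext_reg (f := g.comp φP) (g := φY.comp P) fun F hF => by
      rw [AddMonoidHom.comp_apply, AddMonoidHom.comp_apply, hg F hF.1 hF.2, hP F hF]
    ext x
    obtain ⟨y, rfl⟩ := hKP.bijective.2 x
    show g (φP y) = φY (P (e.symm (e y)))
    rw [AddEquiv.symm_apply_apply]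
    exact DFunLike.congr_fun h y


end Groth.Agent.S3798
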