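import Groth.Statements.S3799
-- import your own Groth.Agent.* helpers here
import Groth.Agent.Lib.K0Sub.PushClass


set_option autoImplicit false
universe v u
open CategoryTheory CategoryTheory.Limits AlgebraicGeometry
attribute [local instance] HasDerivedCategory.standard
open KRR

namespace Groth.Agent.S3799

/-- Let f : X ⟶ Y be a regular closed imbedding of connected Noetherian schemes, where every coherent
module on Y is a quotient of a finite locally free one, and (KX, PX, φX), (KY, PY, φY) models of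
K(X), K(Y). Then there is a unique additive map h : K(X) ⟶ K(Y) such that h[F] = Σ_k (-1)^k [L_k]
for every finite locally free F on X and every finite resolution L of f_* F by finite locally free
modules (the push-forward f_K). -/
theorem result {X Y : Scheme.{u}} (f : X ⟶ Y) (hf : Mor2.IsRegularClosedImmersion f)
    [IsNoetherian X] [ConnectedSpace ↥X] [IsNoetherian Y] [ConnectedSpace ↥Y] (hYe : KRR.HasEnoughLocFree Y)
    (KX : Type v) [CommRing KX] [LambdaRing.LambdaOps KX] (PX : LambdaRing.PosStructure KX) (φX : SGA6.Kvb X →+ KX) (hKX : KRR.IsModel X KX PX φX)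
    (KY : Type v) [CommRing KY] [LambdaRing.LambdaOps KY] (PY : LambdaRing.PosStructure KY) (φY : SGA6.Kvb Y →+ KY) (hKY : KRR.IsModel Y KY PY φY) :
    ∃! h : KX →+ KY, KRR.IsPushCl f φX φY h := by
  haveI := hf.1
  obtain ⟨ψ, hψ⟩ := GrothLib.K0Sub.exists_pushClass hYe hf
  let e : SGA6.Kvb X ≃+ KX := AddEquiv.ofBijective φX hKX.bijective
  have hcoh : ∀ F : X.Modules, FlatMod.IsFinLocFree F → Coh.IsCoh ((Scheme.Modules.pushforward f).obj F) :=
    fun F hF => GrothLib.K0Sub.isCoh_push f (GrothLib.Euler.isCoh_of_isFinLocFree hF)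
  refine ⟨(φY.comp ψ).comp e.symm.toAddMonoidHom, fun F hF n L π hL => ?_, fun g hg => ?_⟩
  · show φY (ψ (e.symm (e (KRR.cl X F)))) = _
    rw [e.symm_apply_apply, hψ F hF n _ (GrothLib.K0Sub.R_of_isLFRes n _ L π (hcoh F hF) hL), map_sum]
    exact Finset.sum_congr rfl fun k _ => map_zsmul φY _ _
  · have h : g.comp φX = φY.comp ψ := GrothLib.K0Sub.hom_ext (P := KRR.vbP X) fun F hF => by
      show g (φX (KRR.cl X F)) = φY (ψ (KRR.cl X F))
      obtain ⟨n, hn⟩ := GrothLib.K0Sub.exists_pd_push hf hF
      obtain ⟨c, hc⟩ := GrothLib.K0Sub.exists_R_of_pd hYe n _ (hcoh F hF) hn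
      obtain ⟨L, π, hL⟩ := GrothLib.K0Sub.exists_isLFRes_of_R hYe n _ c hc
      rw [hg F hF n L π hL, hψ F hF n _ (GrothLib.K0Sub.R_of_isLFRes n _ L π (hcoh F hF) hL), map_sum]
      exact Finset.sum_congr rfl fun k _ => (map_zsmul φY _ _).symm
    ext y
    obtain ⟨x, rfl⟩ := hKX.bijective.2 y
    show g (φX x) = φY (ψ (e.symm (e x)))
    rw [e.symm_apply_apply]
    exact DFunLike.congr_fun h x

end Groth.Agent.S3799
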