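import Groth.Statements.S3802
-- import your own Groth.Agent.* helpers here
import Groth.Agent.Lib.Lambda.Elementary

set_option autoImplicit false
universe v u
open CategoryTheory CategoryTheory.Limits AlgebraicGeometry
attribute [local instance] HasDerivedCategory.standard
open KRR

namespace Groth.Agent.S3802

/-- Let K be a λ-ring with positive structure having the splitting property, c positive with ε(c) = r +
1, and K_c = K[T]/(p_c) with generator ℓ, equipped with a λ-structure extending that of K with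
λ^i(ℓ) = 0 for i ≥ 2 and a positive structure making K ⟶ K_c an extension with ℓ a line element and
c - ℓ positive (when r ≥ 1), having the splitting property; let f : K_c ⟶ K be the associated
K-linear functional (f(ℓ^i) = σ^i(c) for i ≤ r). If z ∈ K_c satisfies z (1 - ℓ) = 0, then z = f(z) ·
λ_{-1}(c - ℓ), where λ_{-1}(c - ℓ) = Σ_{i ≤ r} (-1)^i λ^i(c - ℓ). -/
theorem result (K : Type v) [CommRing K] [LambdaRing.LambdaOps K] (P : LambdaRing.PosStructure K) (hK : LambdaRing.HasSplitting K P) (c : K) (hc : c ∈ P.pos) (r : ℕ) (hr : P.aug c = r + 1)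
    (inst : LambdaRing.LambdaOps (AdjoinRoot (KRR.extPoly P c))) (Pc : @LambdaRing.PosStructure _ _ inst)
    (hext : @LambdaRing.IsExtension K _ _ _ _ inst P Pc (AdjoinRoot.of (KRR.extPoly P c)))
    (hroot : ∀ i : ℕ, 2 ≤ i → @LambdaRing.LambdaOps.lam _ _ inst i (AdjoinRoot.root (KRR.extPoly P c)) = 0)
    (hline : @LambdaRing.PosStructure.IsLine _ _ inst Pc (AdjoinRoot.root (KRR.extPoly P c)))
    (hpos : 1 ≤ r → AdjoinRoot.of (KRR.extPoly P c) c - AdjoinRoot.root (KRR.extPoly P c) ∈ (@LambdaRing.PosStructure.pos _ _ inst Pc))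
    (hsplit : @LambdaRing.HasSplitting _ _ inst Pc)
    (f : AdjoinRoot (KRR.extPoly P c) →ₗ[K] K)
    (hf : ∀ i : ℕ, i ≤ r → f (AdjoinRoot.root (KRR.extPoly P c) ^ i) = KRR.sigma i c)
    (z : AdjoinRoot (KRR.extPoly P c)) (hz : z * (1 - AdjoinRoot.root (KRR.extPoly P c)) = 0) :
    z = AdjoinRoot.of (KRR.extPoly P c) (f z) *
      @KRR.lamAlt _ _ inst Pc (AdjoinRoot.of (KRR.extPoly P c) c - AdjoinRoot.root (KRR.extPoly P c)) := by
  let a : ℕ → K := fun k => (-1 : K) ^ k * LambdaRing.LambdaOps.lam k c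
  let Qs : ℕ → Polynomial K := fun i =>
    ∑ k ∈ Finset.range (i + 1), Polynomial.C (a k) * Polynomial.X ^ (i - k)
  have hn : (P.aug c).toNat = r + 1 := by omega
  have hpQ : (KRR.extPoly P c) = Qs (r + 1) := by
    rw [KRR.extPoly, hn]
  have hQsucc : ∀ i, Qs (i + 1) = Polynomial.X * Qs i + Polynomial.C (a (i + 1)) := fun i => by
    simp only [Qs]
    rw [Finset.sum_range_succ, Nat.sub_self, pow_zero, mul_one, Finset.mul_sum]
    congr 1
    refine Finset.sum_congr rfl fun k hk => ?_
    rw [Finset.mem_range] at hk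
    rw [show i + 1 - k = (i - k) + 1 from by omega, pow_succ]
    ring
  have hQsum : ∀ m, (Polynomial.X - 1) * ∑ i ∈ Finset.range m, Qs i =
      Qs m - Polynomial.C (∑ k ∈ Finset.range (m + 1), a k) := by
    intro m
    induction m with
    | zero => simp [Qs]
    | succ m ih =>
      rw [Finset.sum_range_succ, mul_add, ih, Finset.sum_range_succ a (m + 1), map_add, hQsucc]
      ring
  set s := ∑ k ∈ Finset.range (r + 1 + 1), a k
  set Q := ∑ i ∈ Finset.range (r + 1), Qs i
  set y := AdjoinRoot.of (KRR.extPoly P c) c - AdjoinRoot.root (KRR.extPoly P c) with hy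
  have hmk : ∀ i, AdjoinRoot.mk (KRR.extPoly P c) (Qs i) = (-1) ^ i * LambdaRing.LambdaOps.lam i y := fun i => by
    rw [GrothLib.Lambda.lam_eq_sum_neg_pow hroot, hy, sub_add_cancel, Finset.mul_sum, map_sum]
    refine Finset.sum_congr rfl fun k hk => ?_
    rw [Finset.mem_range] at hk
    rw [← hext.isLambdaHom, map_mul, map_pow, AdjoinRoot.mk_C, AdjoinRoot.mk_X, neg_pow, map_mul,
      map_pow, map_neg, map_one]
    have h4 : ((-1 : AdjoinRoot (KRR.extPoly P c)) ^ (i - k)) * (-1) ^ (i - k) = 1 := by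
      rw [← mul_pow]; simp
    have h5 : (-1 : AdjoinRoot (KRR.extPoly P c)) ^ i = (-1) ^ (i - k) * (-1) ^ k := by
      rw [← pow_add]; congr 1; omega
    rw [h5]
    linear_combination (-((-1 : AdjoinRoot (KRR.extPoly P c)) ^ k * AdjoinRoot.of (KRR.extPoly P c) (LambdaRing.LambdaOps.lam k c) *
      AdjoinRoot.root (KRR.extPoly P c) ^ (i - k))) * h4
  have hL : AdjoinRoot.mk (KRR.extPoly P c) Q = KRR.lamAlt Pc y := by
    rw [map_sum, KRR.lamAlt, hy, map_sub, hext.aug_comp, hline.2, hr,
      show ((r : ℤ) + 1 - 1).toNat = r from by omega]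
    exact Finset.sum_congr rfl fun i _ => hmk i
  have hfL : f (KRR.lamAlt Pc y) = 1 := by
    rw [← hL, map_sum, map_sum, Finset.sum_eq_single 0]
    · rw [hmk, pow_zero, one_mul, hy, GrothLib.Lambda.functional_lam_sub_root hc hr f hf inst
        (fun i x => (hext.isLambdaHom i x).symm) hroot, if_pos rfl]
    · intro i _ hi
      rw [hmk, show ((-1 : AdjoinRoot (KRR.extPoly P c)) ^ i) = AdjoinRoot.of (KRR.extPoly P c) ((-1) ^ i) from by simp,
        GrothLib.Lambda.functional_of_mul, hy, GrothLib.Lambda.functional_lam_sub_root hc hr f hf inst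
        (fun i x => (hext.isLambdaHom i x).symm) hroot, if_neg hi, mul_zero]
    · simp
  suffices ∃ b : K, z = AdjoinRoot.of (KRR.extPoly P c) b * AdjoinRoot.mk (KRR.extPoly P c) Q by
    obtain ⟨b, hb⟩ := this
    rw [hb, GrothLib.Lambda.functional_of_mul, hL, hfL, mul_one]
  haveI : Nontrivial K := P.aug.domain_nontrivial
  have hmonic : (KRR.extPoly P c).Monic := by
    rw [hpQ]
    simp only [Qs]
    rw [Finset.sum_range_succ', Nat.sub_zero]
    rw [show a 0 = 1 from by simp [a, LambdaRing.LambdaOps.lam_zero], map_one, one_mul, add_comm]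
    refine Polynomial.monic_X_pow_add (lt_of_le_of_lt (Polynomial.degree_sum_le _ _) ?_)
    rw [Finset.sup_lt_iff (by exact_mod_cast WithBot.bot_lt_coe _)]
    intro k hk
    refine lt_of_le_of_lt (Polynomial.degree_C_mul_X_pow_le _ _) ?_
    exact_mod_cast (show r + 1 - (k + 1) < r + 1 by omega)
  have hdeg : (KRR.extPoly P c).natDegree = r + 1 := by
    refine le_antisymm ?_ (Polynomial.le_natDegree_of_ne_zero ?_)
    · rw [hpQ]
      refine Polynomial.natDegree_sum_le_of_forall_le _ _ fun k _ => ?_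
      exact (Polynomial.natDegree_C_mul_X_pow_le _ _).trans (by omega)
    · rw [hpQ]
      simp only [Qs, Polynomial.finsetSum_coeff, Polynomial.coeff_C_mul_X_pow]
      rw [Finset.sum_eq_single 0]
      · simp [a, LambdaRing.LambdaOps.lam_zero]
      · intro k hk hk0
        rw [Finset.mem_range] at hk
        rw [if_neg]
        omega
      · simp
  obtain ⟨Z₀, hZ₀⟩ := AdjoinRoot.mk_surjective (g := (KRR.extPoly P c)) z
  set Z := Z₀ %ₘ (KRR.extPoly P c) with hZdef
  have hZ : AdjoinRoot.mk (KRR.extPoly P c) Z = z := by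
    rw [← hZ₀, hZdef, AdjoinRoot.mk_eq_mk]
    refine ⟨-(Z₀ /ₘ (KRR.extPoly P c)), ?_⟩
    have := Polynomial.modByMonic_add_div Z₀ (KRR.extPoly P c)
    linear_combination this
  have hZdeg : Z.natDegree < r + 1 := by
    rw [← hdeg]
    refine Polynomial.natDegree_modByMonic_lt Z₀ hmonic fun h => ?_
    rw [h, Polynomial.natDegree_one] at hdeg
    omega
  have hdvd : (KRR.extPoly P c) ∣ (Polynomial.X - 1) * Z := by
    rw [← AdjoinRoot.mk_eq_zero, map_mul, map_sub, map_one, AdjoinRoot.mk_X, hZ]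
    linear_combination -hz
  obtain ⟨b, hb⟩ := hdvd
  have hb0 : b.natDegree = 0 := by
    by_contra hb0
    have h1 : ((Polynomial.X - 1 : Polynomial K) * Z).natDegree ≤ r + 1 := by
      refine Polynomial.natDegree_mul_le.trans ?_
      have : (Polynomial.X - 1 : Polynomial K).natDegree ≤ 1 := by
        rw [← Polynomial.C_1, Polynomial.natDegree_X_sub_C]
      omega
    rw [hb, hmonic.natDegree_mul' (fun h => hb0 (by rw [h, Polynomial.natDegree_zero]))] at h1
    omega
  obtain ⟨b₀, rfl⟩ := Polynomial.natDegree_eq_zero.1 hb0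
  have hbs : b₀ * s = 0 := by
    have h := congr_arg (Polynomial.eval 1) hb
    rw [hpQ, show Qs (r + 1) = (Polynomial.X - 1) * Q + Polynomial.C s from by rw [hQsum]; ring] at h
    simp only [Polynomial.eval_mul, Polynomial.eval_add, Polynomial.eval_sub, Polynomial.eval_X,
      Polynomial.eval_one, Polynomial.eval_C, sub_self, zero_mul, zero_add] at h
    rw [mul_comm, ← h]
  refine ⟨b₀, ?_⟩
  rw [← hZ, ← AdjoinRoot.mk_C, ← map_mul]
  congr 1
  have hm1 : (Polynomial.X - 1 : Polynomial K).Monic := by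
    rw [← Polynomial.C_1]; exact Polynomial.monic_X_sub_C 1
  refine hm1.isRegular.left ?_
  have hC : Polynomial.C b₀ * Polynomial.C s = (0 : Polynomial K) := by
    rw [← map_mul, hbs, map_zero]
  change (Polynomial.X - 1) * Z = (Polynomial.X - 1) * (Polynomial.C b₀ * Q)
  rw [hb, mul_left_comm, hQsum, ← hpQ, mul_sub, hC, sub_zero, mul_comm]

end Groth.Agent.S3802
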