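import Groth.Statements.S3806
import Mathlib
import Groth.Agent.Lib.PrincipalParts.Basic

set_option autoImplicit false
universe u
open scoped TensorProduct
attribute [local instance] PP16.mapAlgebra PP16.isScalarTower_mapAlgebra
open PP16

namespace Groth.Agent.S3806

open GrothLib.PrincipalParts in
theorem aux_inv (n : ℕ) (A B A' B' C : Type u) [CommRing A] [CommRing B] [Algebra A B]
    [CommRing A'] [CommRing B'] [Algebra A' B'] [Algebra A A'] [Algebra B B'] [Algebra A B']
    [IsScalarTower A A' B'] [IsScalarTower A B B'] [Algebra.IsPushout A B A' B']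
    [CommRing C] [Algebra A C] [Algebra A' C] [Algebra B' C] [IsScalarTower A A' C]
    [IsScalarTower A' B' C] [IsScalarTower A B' C]
    (q : PP16.P n A B →ₐ[A] C)
    (hq : ∀ b, q (algebraMap B (PP16.P n A B) b) = algebraMap B' C (algebraMap B B' b)) :
    ∃ Ψ : PP16.P n A' B' →ₐ[B'] C, ∀ x, Ψ (PP16.map n A B A' B' x) = q x := by
  let g0 : B' →ₐ[A] C := Algebra.pushoutDesc B' (q.comp (PP16.dn n A B))
    (IsScalarTower.toAlgHom A A' C) (fun _ _ => Commute.all _ _)
  have hg0r : ∀ a, g0 (algebraMap A' B' a) = algebraMap A' C a := fun a =>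
    Algebra.pushoutDesc_right B' _ (IsScalarTower.toAlgHom A A' C) _ a
  have hg0l : ∀ b, g0 (algebraMap B B' b) = q (PP16.dn n A B b) := fun b =>
    Algebra.pushoutDesc_left B' (q.comp (PP16.dn n A B)) _ _ b
  let g : B' →ₐ[A'] C := AlgHom.mk g0.toRingHom hg0r
  let f : B' →ₐ[A'] C := IsScalarTower.toAlgHom A' B' C
  let J : Ideal C := (PP16.augIdeal n A B).map q.toRingHom
  have hJ : J ^ (n + 1) = ⊥ := map_augIdeal_pow_eq_bot q.toRingHom
  have hfg : (Ideal.Quotient.mkₐ A J).comp g0 =
      (Ideal.Quotient.mkₐ A J).comp (IsScalarTower.toAlgHom A B' C) := by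
    refine Algebra.IsPushout.algHom_ext (R := A) (S := B) (R' := A') (S' := B') (AlgHom.ext fun a => ?_) (AlgHom.ext fun b => ?_)
    · show Ideal.Quotient.mk J (g0 (algebraMap A' B' a)) =
        Ideal.Quotient.mk J (algebraMap B' C (algebraMap A' B' a))
      rw [hg0r, ← IsScalarTower.algebraMap_apply]
    · show Ideal.Quotient.mk J (g0 (algebraMap B B' b)) =
        Ideal.Quotient.mk J (algebraMap B' C (algebraMap B B' b))
      rw [hg0l, Ideal.Quotient.eq, ← hq, ← map_sub]
      exact Ideal.mem_map_of_mem q.toRingHom (delta_mem b)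
  have hcong : ∀ b, g b - f b ∈ J := fun b => Ideal.Quotient.eq.1 (AlgHom.congr_fun hfg b)
  let inv := GrothLib.PrincipalParts.lift (n := n) f g J hcong hJ
  refine ⟨AlgHom.mk inv.toRingHom (lift_algebraMap hcong hJ), fun x => ?_⟩
  refine comp_apply_eq (PP16.map n A B A' B').toRingHom inv.toRingHom q.toRingHom
    (fun b => ?_) (fun b => ?_) x
  · show inv (PP16.map n A B A' B' _) = _
    rw [PP16.map_algebraMap, lift_algebraMap]
    exact (hq b).symm
  · show inv (PP16.map n A B A' B' _) = _
    rw [PP16.map_dn, lift_dn]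
    exact hg0l b

open GrothLib.PrincipalParts in
theorem aux (n : ℕ) (A B A' B' : Type u) [CommRing A] [CommRing B] [Algebra A B]
    [CommRing A'] [CommRing B'] [Algebra A' B'] [Algebra A A'] [Algebra B B'] [Algebra A B']
    [IsScalarTower A A' B'] [IsScalarTower A B B'] [Algebra.IsPushout A B A' B'] :
    ∃ e : B' ⊗[B] PP16.P n A B ≃ₐ[B'] PP16.P n A' B',
      ∀ x, e (1 ⊗ₜ x) = PP16.map n A B A' B' x := by
  have : IsScalarTower B B' (PP16.P n A' B') := IsScalarTower.of_algebraMap_eq fun _ => rfl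
  let inr : PP16.P n A B →ₐ[B] B' ⊗[B] PP16.P n A B := Algebra.TensorProduct.includeRight
  obtain ⟨Ψ, hΨ⟩ := aux_inv n A B A' B' (B' ⊗[B] PP16.P n A B) (inr.restrictScalars A)
    (fun b => inr.commutes b)
  let mB : PP16.P n A B →ₐ[B] PP16.P n A' B' :=
    AlgHom.mk (PP16.map n A B A' B').toRingHom (PP16.map_algebraMap n A B A' B')
  let Φ : B' ⊗[B] PP16.P n A B →ₐ[B'] PP16.P n A' B' :=
    Algebra.TensorProduct.lift (Algebra.ofId B' _) mB (fun _ _ => Commute.all _ _)
  have hΦ : ∀ (b' : B') (x : PP16.P n A B),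
      Φ (b' ⊗ₜ x) = algebraMap B' _ b' * PP16.map n A B A' B' x := fun b' x => rfl
  refine ⟨AlgEquiv.ofAlgHom Φ Ψ ?_ ?_, fun x => ?_⟩
  · refine AlgHom.coe_ringHom_injective (ringHom_ext (fun b => ?_) (fun b => ?_))
    · show Φ (Ψ (algebraMap _ _ b)) = algebraMap _ _ b
      rw [AlgHom.commutes, AlgHom.commutes]
    · have h : ((Φ.comp Ψ).restrictScalars A).comp ((PP16.dn n A' B').restrictScalars A) =
          (PP16.dn n A' B').restrictScalars A := by
        refine Algebra.IsPushout.algHom_ext (R := A) (S := B) (R' := A') (S' := B') (AlgHom.ext fun a => ?_)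
          (AlgHom.ext fun c => ?_)
        · show Φ (Ψ (PP16.dn n A' B' (algebraMap A' B' a))) = PP16.dn n A' B' (algebraMap A' B' a)
          rw [algebraMap_dn_comm, AlgHom.commutes, AlgHom.commutes]
        · show Φ (Ψ (PP16.dn n A' B' (algebraMap B B' c))) = PP16.dn n A' B' (algebraMap B B' c)
          rw [← PP16.map_dn n A B A' B', hΨ]
          show Φ (1 ⊗ₜ _) = _
          rw [hΦ, map_one, one_mul]
      exact AlgHom.congr_fun h b
  · refine AlgHom.coe_ringHom_injective (RingHom.ext fun t => ?_)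
    show Ψ (Φ t) = t
    induction t using TensorProduct.induction_on with
    | zero => rw [map_zero, map_zero]
    | add a b ha hb => rw [map_add, map_add, ha, hb]
    | tmul b' x =>
      rw [hΦ, map_mul, AlgHom.commutes, hΨ]
      show (b' ⊗ₜ (1 : PP16.P n A B)) * ((1 : B') ⊗ₜ x) = _
      rw [Algebra.TensorProduct.tmul_mul_tmul, mul_one, one_mul]
  · show Φ (1 ⊗ₜ x) = _
    rw [hΦ, map_one, one_mul]


/-- Let A → A' be a ring map, B an A-algebra and B' = B ⊗_A A'. Then the canonical map P^n_{B/A} ⊗_B B'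
→ P^n_{B'/A'} induced by functoriality of principal parts is an isomorphism; that is, the square B →
P^n_{B/A}, B → B', with P^n_{B'/A'} in the corner, is a pushout of rings. -/
theorem result (n : ℕ) (A B A' B' : Type u) [CommRing A] [CommRing B] [Algebra A B]
    [CommRing A'] [CommRing B'] [Algebra A' B'] [Algebra A A'] [Algebra B B'] [Algebra A B']
    [IsScalarTower A A' B'] [IsScalarTower A B B'] [Algebra.IsPushout A B A' B'] :
    Algebra.IsPushout B (PP16.P n A B) B' (PP16.P n A' B') := by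
  have : IsScalarTower B B' (PP16.P n A' B') := IsScalarTower.of_algebraMap_eq fun _ => rfl
  obtain ⟨e, he⟩ := aux n A B A' B'
  exact Algebra.IsPushout.symm (R := B) (S := B') (R' := PP16.P n A B) (S' := PP16.P n A' B')
    ⟨IsBaseChange.of_equiv e.toLinearEquiv he⟩

end Groth.Agent.S3806
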