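import Groth.Statements.S3807
import Mathlib
import Groth.Agent.Lib.PrincipalParts.Basic

set_option autoImplicit false
universe u
open scoped TensorProduct
attribute [local instance] PP16.mapAlgebra PP16.isScalarTower_mapAlgebra
open PP16

namespace Groth.Agent.S3807

open GrothLib.PrincipalParts in
theorem aux (n : ℕ) (A B B' R : Type u) [CommRing A] [CommRing B] [Algebra A B]
    [CommRing B'] [Algebra B B'] [Algebra A B'] [IsScalarTower A B B'] (S : Submonoid B) [IsLocalization S B']
    [CommRing R] [Algebra A R] [Algebra (PP16.P n A B) R] [IsScalarTower A (PP16.P n A B) R]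
    [IsLocalization (S.map (algebraMap B (PP16.P n A B))) R] :
    IsLocalization (S.map (algebraMap B (PP16.P n A B))) (PP16.P n A B') := by
  have hunit : ∀ y : (S.map (algebraMap B (PP16.P n A B))),
      IsUnit ((PP16.map n A B A B').toRingHom y) := by
    rintro ⟨_, s, hs, rfl⟩
    show IsUnit (PP16.map n A B A B' _)
    rw [PP16.map_algebraMap]
    exact (IsLocalization.map_units B' (⟨s, hs⟩ : S)).map _
  let fwd : R →+* PP16.P n A B' := IsLocalization.lift hunit
  have hfwd : ∀ x, fwd (algebraMap _ R x) = PP16.map n A B A B' x := fun x => IsLocalization.lift_eq _ x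
  let loc : PP16.P n A B →ₐ[A] R := IsScalarTower.toAlgHom A _ R
  have hu : ∀ s : S, IsUnit (loc.comp (IsScalarTower.toAlgHom A B (PP16.P n A B)) (s : B)) := fun s =>
    IsLocalization.map_units R (⟨_, s, s.2, rfl⟩ : S.map (algebraMap B (PP16.P n A B)))
  have hu' : ∀ s : S, IsUnit (loc.comp (PP16.dn n A B) (s : B)) := fun s => by
    have h2 : IsNilpotent (loc (delta n A (s : B))) := (isNilpotent_delta _).map loc
    have h3 := h2.isUnit_add_left_of_commute (hu s) (Commute.all _ _)
    have e : loc.comp (IsScalarTower.toAlgHom A B (PP16.P n A B)) (s : B) + loc (delta n A (s : B)) =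
        loc.comp (PP16.dn n A B) (s : B) := by
      show loc (algebraMap B (PP16.P n A B) (s : B)) + _ = loc (PP16.dn n A B (s : B))
      rw [delta, map_sub, add_sub_cancel]
    rwa [e] at h3
  let f : B' →ₐ[A] R := IsLocalization.liftAlgHom (M := S) hu
  let g : B' →ₐ[A] R := IsLocalization.liftAlgHom (M := S) hu'
  have hf : ∀ b, f (algebraMap B B' b) = loc (algebraMap B _ b) := fun b => IsLocalization.lift_eq hu b
  have hg : ∀ b, g (algebraMap B B' b) = loc (PP16.dn n A B b) := fun b => IsLocalization.lift_eq hu' b
  let J : Ideal R := (PP16.augIdeal n A B).map loc.toRingHom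
  have hfg : (Ideal.Quotient.mk J).comp g.toRingHom = (Ideal.Quotient.mk J).comp f.toRingHom := by
    refine IsLocalization.ringHom_ext S (RingHom.ext fun b => ?_)
    show Ideal.Quotient.mk J (g _) = Ideal.Quotient.mk J (f _)
    rw [hf, hg, Ideal.Quotient.eq, ← map_sub]
    exact Ideal.mem_map_of_mem loc.toRingHom (delta_mem b)
  have hJ := map_augIdeal_pow_eq_bot loc.toRingHom
  have hcong : ∀ b, g b - f b ∈ J := fun b => Ideal.Quotient.eq.1 (RingHom.congr_fun hfg b)
  let inv := GrothLib.PrincipalParts.lift (n := n) f g J hcong hJ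
  have h1 : ∀ x, inv (PP16.map n A B A B' x) = loc x := fun x => by
    refine comp_apply_eq (PP16.map n A B A B').toRingHom inv.toRingHom loc.toRingHom
      (fun b => ?_) (fun b => ?_) x
    · show inv (PP16.map n A B A B' _) = _
      rw [PP16.map_algebraMap, lift_algebraMap, hf]
      rfl
    · show inv (PP16.map n A B A B' _) = _
      rw [PP16.map_dn, lift_dn, hg]
      rfl
  have hL : inv.toRingHom.comp fwd = RingHom.id R :=
    IsLocalization.ringHom_ext (S.map (algebraMap B (PP16.P n A B))) (RingHom.ext fun y => by
      show inv (fwd (algebraMap _ R y)) = loc y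
      rw [hfwd, h1])
  have hRf : fwd.comp f.toRingHom = algebraMap B' (PP16.P n A B') := IsLocalization.ringHom_ext S
    (RingHom.ext fun c => by
      show fwd (f _) = algebraMap B' (PP16.P n A B') (algebraMap B B' c)
      rw [hf, show fwd (loc (algebraMap B _ c)) = _ from hfwd _, PP16.map_algebraMap])
  have hRg : fwd.comp g.toRingHom = (PP16.dn n A B').toRingHom := IsLocalization.ringHom_ext S
    (RingHom.ext fun c => by
      show fwd (g _) = PP16.dn n A B' (algebraMap B B' c)
      rw [hg, show fwd (loc (PP16.dn n A B c)) = _ from hfwd _, PP16.map_dn])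
  have hbij : Function.Bijective fwd := Function.bijective_iff_has_inverse.2 ⟨inv,
    fun x => RingHom.congr_fun hL x, fun x => by
    refine comp_apply_eq inv.toRingHom fwd (RingHom.id _) (fun b => ?_) (fun b => ?_) x
    · show fwd (inv _) = _
      rw [lift_algebraMap]
      exact RingHom.congr_fun hRf b
    · show fwd (inv _) = _
      rw [lift_dn]
      exact RingHom.congr_fun hRg b⟩
  exact IsLocalization.isLocalization_of_algEquiv _
    (AlgEquiv.ofBijective (AlgHom.mk fwd hfwd : R →ₐ[PP16.P n A B] PP16.P n A B') hbij)


/-- Let B be an A-algebra, S a multiplicative subset of B and B' = S⁻¹B. Then the canonical map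
S⁻¹P^n_{B/A} → P^n_{B'/A} induced by functoriality is an isomorphism: P^n_{B'/A} is the localization
of P^n_{B/A} at the image of S. -/
theorem result (n : ℕ) (A B B' : Type u) [CommRing A] [CommRing B] [Algebra A B]
    [CommRing B'] [Algebra B B'] [Algebra A B'] [IsScalarTower A B B'] (S : Submonoid B) [IsLocalization S B'] :
    IsLocalization (S.map (algebraMap B (PP16.P n A B))) (PP16.P n A B') := by
  exact aux n A B B' (Localization (S.map (algebraMap B (PP16.P n A B)))) S

end Groth.Agent.S3807
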