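import Groth.Statements.S3808
import Mathlib
import Groth.Agent.Lib.PrincipalParts.Basic

set_option autoImplicit false
universe u
open scoped TensorProduct
open PP16

namespace Groth.Agent.S3808

/-- Let A → B be a ring map, R a multiplicative subset of A, S one of B containing the image of R, and
A' = R⁻¹A, B' = S⁻¹B with the induced map A' → B'. Then the canonical map P^n_{B'/A} → P^n_{B'/A'}
is bijective. -/
theorem result (n : ℕ) (A B A' B' : Type u) [CommRing A] [CommRing B] [Algebra A B]
    [CommRing A'] [CommRing B'] [Algebra A A'] [Algebra B B'] [Algebra A' B'] [Algebra A B']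
    [IsScalarTower A A' B'] [IsScalarTower A B B'] (R : Submonoid A) (S : Submonoid B) [IsLocalization R A']
    [IsLocalization S B'] (hRS : ∀ r ∈ R, algebraMap A B r ∈ S) :
    Function.Bijective (PP16.map n A B' A' B') := by
  letI : Algebra A' (PP16.P n A B') :=
    ((algebraMap B' (PP16.P n A B')).comp (algebraMap A' B')).toAlgebra
  have hA : (PP16.dn n A B').toRingHom.comp (algebraMap A' B') = algebraMap A' (PP16.P n A B') := by
    refine IsLocalization.ringHom_ext R (RingHom.ext fun a => ?_)
    show PP16.dn n A B' (algebraMap A' B' (algebraMap A A' a)) =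
      algebraMap B' (PP16.P n A B') (algebraMap A' B' (algebraMap A A' a))
    rw [← IsScalarTower.algebraMap_apply]
    exact GrothLib.PrincipalParts.algebraMap_dn_comm a
  let f : B' →ₐ[A'] PP16.P n A B' :=
    { toRingHom := algebraMap B' (PP16.P n A B'), commutes' := fun _ => rfl }
  let g : B' →ₐ[A'] PP16.P n A B' :=
    { toRingHom := (PP16.dn n A B').toRingHom, commutes' := fun a => RingHom.congr_fun hA a }
  let inv := GrothLib.PrincipalParts.lift (A := A') (n := n) f g (PP16.augIdeal n A B')
    (fun b => GrothLib.PrincipalParts.delta_mem b) GrothLib.PrincipalParts.augIdeal_pow_eq_bot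
  refine Function.bijective_iff_has_inverse.2 ⟨inv, fun x => ?_, fun x => ?_⟩
  · refine GrothLib.PrincipalParts.comp_apply_eq (PP16.map n A B' A' B').toRingHom inv.toRingHom
      (RingHom.id _) (fun b => ?_) (fun b => ?_) x
    · show inv (PP16.map n A B' A' B' _) = _
      rw [PP16.map_algebraMap, GrothLib.PrincipalParts.lift_algebraMap]
      rfl
    · show inv (PP16.map n A B' A' B' _) = _
      rw [PP16.map_dn, GrothLib.PrincipalParts.lift_dn]
      rfl
  · refine GrothLib.PrincipalParts.comp_apply_eq inv.toRingHom (PP16.map n A B' A' B').toRingHom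
      (RingHom.id _) (fun b => ?_) (fun b => ?_) x
    · show PP16.map n A B' A' B' (inv _) = _
      rw [GrothLib.PrincipalParts.lift_algebraMap]
      exact PP16.map_algebraMap n A B' A' B' b
    · show PP16.map n A B' A' B' (inv _) = _
      rw [GrothLib.PrincipalParts.lift_dn]
      exact PP16.map_dn n A B' A' B' b

end Groth.Agent.S3808
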