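import Groth.Statements.S3809
import Groth.Agent.Lib.PrincipalParts.Kernel

set_option autoImplicit false
universe u
open scoped TensorProduct
open PP16

namespace Groth.Agent.S3809

/-- Let A → B → C be ring maps. Then the canonical map P^n_{C/A} → P^n_{C/B} is surjective, and its
kernel is the ideal generated by the image, under the canonical map P^n_{B/A} → P^n_{C/A}, of the
augmentation ideal of P^n_{B/A}. -/
theorem result (n : ℕ) (A B C : Type u) [CommRing A] [CommRing B] [CommRing C]
    [Algebra A B] [Algebra B C] [Algebra A C] [IsScalarTower A B C] :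
    Function.Surjective (PP16.map n A C B C) ∧
      RingHom.ker (PP16.map n A C B C) = (PP16.augIdeal n A B).map (PP16.map n A B A C) := by
  have hs : Function.Surjective (algebraMap C C) := fun c => ⟨c, rfl⟩
  obtain ⟨h1, h2⟩ := GrothLib.PrincipalParts.surjective_and_ker_of_quot_pow
    (PP16.tensorMap A C B C).toRingHom (GrothLib.PrincipalParts.tensorMap_surjective hs)
    (KaehlerDifferential.ideal A C) (KaehlerDifferential.ideal B C)
    (GrothLib.PrincipalParts.map_ideal_tensorMap hs) (n + 1) (PP16.map n A C B C).toRingHom
    (fun x => GrothLib.PrincipalParts.map_mk_eq x)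
  refine ⟨h1, h2.trans ?_⟩
  rw [GrothLib.PrincipalParts.ker_tensorMap_tower, Ideal.map_map]
  exact (Ideal.map_map (Ideal.Quotient.mk (KaehlerDifferential.ideal A B ^ (n + 1)))
    (PP16.map n A B A C).toRingHom).symm

end Groth.Agent.S3809
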