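import Groth.Statements.S3810
import Groth.Agent.Lib.PrincipalParts.Kernel

set_option autoImplicit false
universe u
open scoped TensorProduct
open PP16

namespace Groth.Agent.S3810

/-- Let B be an A-algebra, K an ideal of B and C = B/K. Then the canonical map P^n_{B/A} → P^n_{C/A} is
surjective and its kernel is the ideal generated by the image of K under the structure map B →
P^n_{B/A} together with the image of K under the principal-part map d^n (the latter is an additive
subgroup, not a B-submodule, in general). -/
theorem result (n : ℕ) (A B : Type u) [CommRing A] [CommRing B] [Algebra A B]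
    (K : Ideal B) :
    Function.Surjective (PP16.map n A B A (B ⧸ K)) ∧
      RingHom.ker (PP16.map n A B A (B ⧸ K)) =
        K.map (algebraMap B (PP16.P n A B)) ⊔ K.map (PP16.dn n A B) := by
  have hs : Function.Surjective (algebraMap B (B ⧸ K)) := Ideal.Quotient.mk_surjective
  obtain ⟨h1, h2⟩ := GrothLib.PrincipalParts.surjective_and_ker_of_quot_pow
    (PP16.tensorMap A B A (B ⧸ K)).toRingHom (GrothLib.PrincipalParts.tensorMap_surjective hs)
    (KaehlerDifferential.ideal A B) (KaehlerDifferential.ideal A (B ⧸ K))
    (GrothLib.PrincipalParts.map_ideal_tensorMap hs) (n + 1) (PP16.map n A B A (B ⧸ K)).toRingHom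
    (fun x => GrothLib.PrincipalParts.map_mk_eq x)
  refine ⟨h1, h2.trans ?_⟩
  have hmap : PP16.tensorMap A B A (B ⧸ K) = Algebra.TensorProduct.map
      (Ideal.Quotient.mkₐ A K) (Ideal.Quotient.mkₐ A K) :=
    Algebra.TensorProduct.ext' fun a b => PP16.tensorMap_tmul A B A (B ⧸ K) a b
  have hker := Algebra.TensorProduct.map_ker (Ideal.Quotient.mkₐ A K) (Ideal.Quotient.mkₐ A K)
    (Ideal.Quotient.mkₐ_surjective A K) (Ideal.Quotient.mkₐ_surjective A K)
  rw [show RingHom.ker (Ideal.Quotient.mkₐ A K) = K from Ideal.mk_ker] at hker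
  rw [hmap]
  refine (congrArg (Ideal.map (Ideal.Quotient.mk (KaehlerDifferential.ideal A B ^ (n + 1))))
    hker).trans ?_
  rw [Ideal.map_sup]
  exact congrArg₂ (fun a b => a ⊔ b)
    (Ideal.map_map (Algebra.TensorProduct.includeLeft (R := A) (S := A) (A := B) (B := B)).toRingHom
      (Ideal.Quotient.mk (KaehlerDifferential.ideal A B ^ (n + 1))))
    (Ideal.map_map (Algebra.TensorProduct.includeRight (R := A) (A := B) (B := B)).toRingHom
      (Ideal.Quotient.mk (KaehlerDifferential.ideal A B ^ (n + 1))))

end Groth.Agent.S3810
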