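import Groth.Statements.S3811
import Groth.Agent.Lib.PrincipalParts.Basic

set_option autoImplicit false
universe u
open scoped TensorProduct
open PP16

namespace Groth.Agent.S3811

theorem sup_pow_le {R : Type u} [CommRing R] {I J : Ideal R} {m : ℕ} (h : J ^ m = ⊥) :
    (I ⊔ J) ^ m ≤ I := by
  have key : ∀ k, (I ⊔ J) ^ k ≤ I ⊔ J ^ k := by
    intro k
    induction k with
    | zero => simp
    | succ k ih =>
      rw [pow_succ, pow_succ]
      refine (Ideal.mul_mono ih le_rfl).trans ?_
      rw [Ideal.sup_mul, Ideal.mul_sup (J ^ k)]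
      exact sup_le (Ideal.mul_le_left.trans le_sup_left)
        (sup_le (Ideal.mul_le_right.trans le_sup_left) le_sup_right)
  simpa [h] using key m

/-- Let B be an A-algebra with an A-algebra retraction g : B → A, and K the kernel of g. The composite
of d^n : B → P^n_{B/A} with the projection P^n_{B/A} → P^n_{B/A} / K P^n_{B/A} (base change of
P^n_{B/A} along g) is surjective with kernel K^(n+1); thus P^n_{B/A} ⊗_B A is identified with
B/K^(n+1), the class of d^n t corresponding to the class of t. -/
theorem result (n : ℕ) (A B : Type u) [CommRing A] [CommRing B] [Algebra A B]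
    (g : B →ₐ[A] A) :
    Function.Surjective ((Ideal.Quotient.mk ((RingHom.ker g).map (algebraMap B (PP16.P n A B)))).comp
        (PP16.dn n A B).toRingHom) ∧
      RingHom.ker ((Ideal.Quotient.mk ((RingHom.ker g).map (algebraMap B (PP16.P n A B)))).comp
        (PP16.dn n A B).toRingHom) = RingHom.ker g ^ (n + 1) := by
  classical
  let K := RingHom.ker g
  let KP := K.map (algebraMap B (PP16.P n A B))
  let q := Ideal.Quotient.mk KP
  constructor
  · intro y
    obtain ⟨x, rfl⟩ := Ideal.Quotient.mk_surjective y
    have hx : x ∈ Submodule.span B (Set.range (PP16.dn n A B)) :=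
      (GrothLib.PrincipalParts.span_range_dn (n := n) (A := A) (B := B)) ▸ Submodule.mem_top
    induction hx using Submodule.span_induction with
    | mem z hz =>
      obtain ⟨b, rfl⟩ := hz
      exact ⟨b, rfl⟩
    | zero => exact ⟨0, by simp⟩
    | add z w _ _ hz hw =>
      obtain ⟨z', hz'⟩ := hz; obtain ⟨w', hw'⟩ := hw
      exact ⟨z' + w', by rw [map_add, hz', hw', map_add]⟩
    | smul b z _ hz =>
      obtain ⟨z', hz'⟩ := hz
      refine ⟨algebraMap A B (g b) * z', ?_⟩
      have hb : b - algebraMap A B (g b) ∈ RingHom.ker g := by simp [RingHom.mem_ker]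
      rw [map_mul, hz', Algebra.smul_def, map_mul]
      congr 1
      show q (PP16.dn n A B (algebraMap A B (g b))) = q (algebraMap B (PP16.P n A B) b)
      rw [GrothLib.PrincipalParts.algebraMap_dn_comm]
      refine (Ideal.Quotient.eq.2 ?_).symm
      rw [← map_sub]
      exact Ideal.mem_map_of_mem _ hb
  · refine le_antisymm ?_ ?_
    · let qB := Ideal.Quotient.mkₐ A (K ^ (n + 1))
      let f : B →ₐ[A] B ⧸ K ^ (n + 1) := (qB.comp (Algebra.ofId A B)).comp g
      let J := K.map (Ideal.Quotient.mk (K ^ (n + 1)))
      have h : ∀ b, qB b - f b ∈ J := fun b => by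
        show qB b - qB (algebraMap A B (g b)) ∈ J
        rw [← map_sub]
        exact Ideal.mem_map_of_mem _ (by simp [K, RingHom.mem_ker])
      have hJ : J ^ (n + 1) = ⊥ := by rw [← Ideal.map_pow, Ideal.map_quotient_self]
      let ψ := GrothLib.PrincipalParts.lift f qB J h hJ
      have hψ : KP ≤ RingHom.ker ψ := by
        rw [Ideal.map_le_iff_le_comap]
        intro b hb
        rw [Ideal.mem_comap, RingHom.mem_ker, GrothLib.PrincipalParts.lift_algebraMap]
        show qB (algebraMap A B (g b)) = 0
        rw [show g b = 0 from hb, map_zero, map_zero]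
      intro b hb
      have := hψ (Ideal.Quotient.eq_zero_iff_mem.1 (show q (PP16.dn n A B b) = 0 from hb))
      rw [RingHom.mem_ker, GrothLib.PrincipalParts.lift_dn] at this
      exact Ideal.Quotient.eq_zero_iff_mem.1 this
    · intro b hb
      have hle : K.map (PP16.dn n A B).toRingHom ≤ KP ⊔ PP16.augIdeal n A B := by
        rw [Ideal.map_le_iff_le_comap]
        intro x hx
        show PP16.dn n A B x ∈ KP ⊔ PP16.augIdeal n A B
        rw [show PP16.dn n A B x = algebraMap B (PP16.P n A B) x +
          GrothLib.PrincipalParts.delta n A x by simp [GrothLib.PrincipalParts.delta]]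
        exact Submodule.add_mem_sup (Ideal.mem_map_of_mem _ hx)
          (GrothLib.PrincipalParts.delta_mem x)
      have h1 : PP16.dn n A B b ∈ KP :=
        sup_pow_le (I := KP) GrothLib.PrincipalParts.augIdeal_pow_eq_bot
          (Ideal.pow_right_mono hle (n + 1)
            ((Ideal.map_pow _ K (n + 1)).le (Ideal.mem_map_of_mem (PP16.dn n A B).toRingHom hb)))
      exact Ideal.Quotient.eq_zero_iff_mem.2 h1

end Groth.Agent.S3811
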