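import Groth.Statements.S3812
import Mathlib
import Groth.Agent.Lib.PrincipalParts.Basic

set_option autoImplicit false
universe u
open scoped TensorProduct
open PP16

namespace Groth.Agent.S3812

open GrothLib.PrincipalParts in
theorem aux (n : ℕ) (A B : Type u) [CommRing A] [CommRing B] [Algebra A B] (σ : Type u) (x : σ → B)
    (hx : ∀ (C : Type u) [CommRing C] [Algebra A C] (u v : B →ₐ[A] C), (∀ i, u (x i) = v (x i)) → u = v)
    (hev : ∀ (C : Type u) [CommRing C] [Algebra A C] (c : σ → C), ∃ u : B →ₐ[A] C, ∀ i, u (x i) = c i)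
    (I : Ideal (MvPolynomial σ B))
    (hI : I = Ideal.span (Set.range (MvPolynomial.X : σ → MvPolynomial σ B)) ^ (n + 1)) :
    ∃ e : PP16.P n A B ≃ₐ[B] (MvPolynomial σ B ⧸ I),
      ∀ i : σ, e (PP16.dn n A B (x i)) =
        Ideal.Quotient.mk I (MvPolynomial.C (x i) + MvPolynomial.X i) := by
  obtain ⟨g, hg⟩ := hev (MvPolynomial σ B ⧸ I) (fun i =>
    Ideal.Quotient.mk I (MvPolynomial.C (x i) + MvPolynomial.X i))
  let f : B →ₐ[A] (MvPolynomial σ B ⧸ I) := IsScalarTower.toAlgHom A B (MvPolynomial σ B ⧸ I)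
  let J : Ideal (MvPolynomial σ B ⧸ I) :=
    (Ideal.span (Set.range (MvPolynomial.X : σ → MvPolynomial σ B))).map (Ideal.Quotient.mk I)
  have hJ : J ^ (n + 1) = ⊥ := by
    refine (Ideal.map_pow (Ideal.Quotient.mk I) _ _).symm.trans ?_
    rw [← hI]
    exact Ideal.map_quotient_self I
  have hf : ∀ b, f b = Ideal.Quotient.mk I (MvPolynomial.C b) := fun b => rfl
  have hfg : (Ideal.Quotient.mkₐ A J).comp g = (Ideal.Quotient.mkₐ A J).comp f := by
    refine hx ((MvPolynomial σ B ⧸ I) ⧸ J) ((Ideal.Quotient.mkₐ A J).comp g) _ fun i => ?_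
    show Ideal.Quotient.mk J (g (x i)) = Ideal.Quotient.mk J (f (x i))
    rw [Ideal.Quotient.eq, hf, hg, map_add, add_sub_cancel_left]
    exact Ideal.mem_map_of_mem _ (Ideal.subset_span ⟨i, rfl⟩)
  have h : ∀ b, g b - f b ∈ J := fun b => Ideal.Quotient.eq.1 (AlgHom.congr_fun hfg b)
  let φ : PP16.P n A B →ₐ[B] (MvPolynomial σ B ⧸ I) :=
    AlgHom.mk (GrothLib.PrincipalParts.lift f g J h hJ).toRingHom (lift_algebraMap h hJ)
  let ψ₀ : MvPolynomial σ B →ₐ[B] PP16.P n A B := MvPolynomial.aeval (fun i => delta n A (x i))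
  have hle : I.map ψ₀ ≤ ⊥ := by
    refine le_trans ?_ (augIdeal_pow_eq_bot (n := n) (A := A) (B := B)).le
    rw [hI, Ideal.map_pow]
    refine Ideal.pow_right_mono ?_ _
    rw [Ideal.map_span, Ideal.span_le]
    rintro _ ⟨_, ⟨i, rfl⟩, rfl⟩
    rw [MvPolynomial.aeval_X]
    exact delta_mem _
  let ψ : (MvPolynomial σ B ⧸ I) →ₐ[B] PP16.P n A B :=
    Ideal.Quotient.liftₐ I ψ₀ fun y hy => (Submodule.mem_bot _).1 (hle (Ideal.mem_map_of_mem _ hy))
  have hψ : ∀ y, ψ (Ideal.Quotient.mk I y) = ψ₀ y := fun y => rfl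
  have hφg : ∀ b, φ (PP16.dn n A B b) = g b := lift_dn h hJ
  have hψg : (ψ.restrictScalars A).comp g = PP16.dn n A B := by
    refine hx (PP16.P n A B) ((ψ.restrictScalars A).comp g) _ fun i => ?_
    show ψ (g (x i)) = _
    rw [hg, hψ, map_add, MvPolynomial.aeval_C, MvPolynomial.aeval_X]
    simp [delta]
  refine ⟨AlgEquiv.ofAlgHom φ ψ ?_ ?_, fun i => ?_⟩
  · refine Ideal.Quotient.algHom_ext _ (MvPolynomial.algHom_ext fun i => ?_)
    show φ (ψ (Ideal.Quotient.mk I (MvPolynomial.X i))) = Ideal.Quotient.mk I (MvPolynomial.X i)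
    rw [hψ, MvPolynomial.aeval_X, delta, map_sub, hφg, AlgHom.commutes, hg]
    show _ - f _ = _
    rw [hf, map_add, add_sub_cancel_left]
  · refine AlgHom.coe_ringHom_injective (ringHom_ext (fun b => ?_) (fun b => ?_))
    · show ψ (φ (algebraMap _ _ b)) = algebraMap _ _ b
      rw [AlgHom.commutes, AlgHom.commutes]
    · show ψ (φ (PP16.dn n A B b)) = PP16.dn n A B b
      rw [hφg]
      exact AlgHom.congr_fun hψg b
  · show φ (PP16.dn n A B _) = _
    rw [hφg, hg]


/-- Let B = A[T_i] be a polynomial algebra. There is an isomorphism of B-algebras from P^n_{B/A} onto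
B[U_i]/(U)^(n+1), where (U) is the ideal generated by the new indeterminates, sending the principal
part d^n T_i to the class of T_i + U_i for every i (so d^n F(T) goes to the class of F(T + U)). -/
theorem result (n : ℕ) (A : Type u) [CommRing A] (σ : Type u) :
    ∃ e : PP16.P n A (MvPolynomial σ A) ≃ₐ[MvPolynomial σ A]
        (MvPolynomial σ (MvPolynomial σ A) ⧸
          Ideal.span (Set.range (MvPolynomial.X : σ → MvPolynomial σ (MvPolynomial σ A))) ^ (n + 1)),
      ∀ i : σ, e (PP16.dn n A (MvPolynomial σ A) (MvPolynomial.X i)) =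
        Ideal.Quotient.mk _ (MvPolynomial.C (MvPolynomial.X i : MvPolynomial σ A) +
          (MvPolynomial.X i : MvPolynomial σ (MvPolynomial σ A))) := by
  exact aux n A (MvPolynomial σ A) σ MvPolynomial.X (fun C _ _ u v h => MvPolynomial.algHom_ext h)
    (fun C _ _ c => ⟨MvPolynomial.aeval c, fun i => MvPolynomial.aeval_X c i⟩) _ rfl

end Groth.Agent.S3812
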