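import Groth.Statements.S3813
import Mathlib
import Groth.Agent.Lib.PrincipalParts.Basic
import Groth.Agent.Lib.DiffOp.Basic

set_option autoImplicit false
universe u
open scoped TensorProduct
open PP16

namespace Groth.Agent.S3813

open GrothLib.PrincipalParts in
open scoped TensorProduct in
theorem aux (n : ℕ) (A : Type u) [CommRing A] (E : Type u) [AddCommGroup E] [Module A E] (B : Type u)
    [CommRing B] [Algebra A B] (ι : E →ₗ[A] B)
    (hlift : ∀ (C : Type u) [CommRing C] [Algebra A C] (l : E →ₗ[A] C),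
      ∃ u : B →ₐ[A] C, ∀ t, u (ι t) = l t)
    (hext : ∀ (C : Type u) [CommRing C] [Algebra A C] (u v : B →ₐ[A] C),
      (∀ t, u (ι t) = v (ι t)) → u = v)
    (ε : B →ₐ[A] A) (hε : ∀ t, ε (ι t) = 0) (I : Ideal B) (hI : I = RingHom.ker ε ^ (n + 1)) :
    ∃ e : PP16.P n A B ≃ₐ[B] (B ⊗[A] (B ⧸ I)),
      ∀ t : E, e (PP16.dn n A B (ι t)) = ι t ⊗ₜ 1 + 1 ⊗ₜ Ideal.Quotient.mk I (ι t) := by
  let q : B →ₐ[A] B ⧸ I := Ideal.Quotient.mkₐ A I
  let inr : (B ⧸ I) →ₐ[A] B ⊗[A] (B ⧸ I) := Algebra.TensorProduct.includeRight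
  let f : B →ₐ[A] B ⊗[A] (B ⧸ I) := Algebra.TensorProduct.includeLeft
  obtain ⟨g, hg⟩ := hlift (B ⊗[A] (B ⧸ I)) (f.toLinearMap ∘ₗ ι + (inr.comp q).toLinearMap ∘ₗ ι)
  have hg' : ∀ t, g (ι t) = f (ι t) + inr (q (ι t)) := hg
  let J : Ideal (B ⊗[A] (B ⧸ I)) :=
    ((RingHom.ker ε).map (Ideal.Quotient.mk I)).map (inr : B ⧸ I →+* B ⊗[A] (B ⧸ I))
  have hJ : J ^ (n + 1) = ⊥ := by
    refine (Ideal.map_pow (inr : B ⧸ I →+* B ⊗[A] (B ⧸ I)) _ _).symm.trans ?_
    have h0 : (RingHom.ker ε).map (Ideal.Quotient.mk I) ^ (n + 1) = ⊥ := by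
      refine (Ideal.map_pow (Ideal.Quotient.mk I) _ _).symm.trans ?_
      rw [← hI]
      exact Ideal.map_quotient_self I
    rw [h0, Ideal.map_bot]
  have hfg : (Ideal.Quotient.mkₐ A J).comp g = (Ideal.Quotient.mkₐ A J).comp f := by
    refine hext ((B ⊗[A] (B ⧸ I)) ⧸ J) ((Ideal.Quotient.mkₐ A J).comp g) _ fun t => ?_
    show Ideal.Quotient.mk J (g (ι t)) = Ideal.Quotient.mk J (f (ι t))
    rw [Ideal.Quotient.eq, hg', add_sub_cancel_left]
    exact Ideal.mem_map_of_mem (inr : B ⧸ I →+* B ⊗[A] (B ⧸ I))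
      (Ideal.mem_map_of_mem (Ideal.Quotient.mk I) (RingHom.mem_ker.2 (hε t)))
  have hcong : ∀ b, g b - f b ∈ J := fun b => Ideal.Quotient.eq.1 (AlgHom.congr_fun hfg b)
  let φ : PP16.P n A B →ₐ[B] B ⊗[A] (B ⧸ I) :=
    AlgHom.mk (GrothLib.PrincipalParts.lift f g J hcong hJ).toRingHom (lift_algebraMap hcong hJ)
  have hφg : ∀ b, φ (PP16.dn n A B b) = g b := lift_dn hcong hJ
  obtain ⟨h₀, hh₀⟩ := hlift (PP16.P n A B)
    ((PP16.dn n A B).toLinearMap ∘ₗ ι - (IsScalarTower.toAlgHom A B (PP16.P n A B)).toLinearMap ∘ₗ ι)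
  have hh₀' : ∀ t, h₀ (ι t) = delta n A (ι t) := hh₀
  have haug : (Ideal.Quotient.mkₐ A (PP16.augIdeal n A B)).comp h₀ =
      ((Ideal.Quotient.mkₐ A (PP16.augIdeal n A B)).comp (Algebra.ofId A (PP16.P n A B))).comp ε := by
    refine hext (PP16.P n A B ⧸ PP16.augIdeal n A B)
      ((Ideal.Quotient.mkₐ A (PP16.augIdeal n A B)).comp h₀) _ fun t => ?_
    show Ideal.Quotient.mk _ (h₀ (ι t)) = Ideal.Quotient.mk _ (algebraMap A _ (ε (ι t)))
    rw [hh₀', hε, map_zero, map_zero, Ideal.Quotient.eq_zero_iff_mem]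
    exact delta_mem _
  have hle : I.map h₀ ≤ ⊥ := by
    refine le_trans ?_ (augIdeal_pow_eq_bot (n := n) (A := A) (B := B)).le
    rw [hI, Ideal.map_pow]
    refine Ideal.pow_right_mono (Ideal.map_le_iff_le_comap.2 fun b hb => ?_) _
    rw [Ideal.mem_comap, ← Ideal.Quotient.eq_zero_iff_mem]
    refine (AlgHom.congr_fun haug b).trans ?_
    show Ideal.Quotient.mk _ (algebraMap A _ (ε b)) = 0
    rw [RingHom.mem_ker.1 hb, map_zero, map_zero]
  let h₁ : (B ⧸ I) →ₐ[A] PP16.P n A B :=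
    Ideal.Quotient.liftₐ I h₀ fun y hy => (Submodule.mem_bot _).1 (hle (Ideal.mem_map_of_mem _ hy))
  let ψ : B ⊗[A] (B ⧸ I) →ₐ[B] PP16.P n A B :=
    Algebra.TensorProduct.lift (Algebra.ofId B _) h₁ (fun _ _ => Commute.all _ _)
  have hψl : ∀ b, ψ (f b) = algebraMap B _ b := fun b => ψ.commutes b
  have hψr : ∀ b, ψ (inr (q b)) = h₀ b := fun b => by
    show algebraMap B (PP16.P n A B) 1 * h₀ b = _
    rw [map_one, one_mul]
  have hψg : (ψ.restrictScalars A).comp g = PP16.dn n A B := by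
    refine hext (PP16.P n A B) ((ψ.restrictScalars A).comp g) _ fun t => ?_
    show ψ (g (ι t)) = _
    rw [hg', map_add, hψl, hψr, hh₀', delta, add_sub_cancel]
  refine ⟨AlgEquiv.ofAlgHom φ ψ ?_ ?_, fun t => ?_⟩
  · refine AlgHom.ext fun z => ?_
    show φ (ψ z) = z
    have h2 : ∀ x, φ (h₁ x) = inr x := fun x => by
      obtain ⟨b, rfl⟩ := Ideal.Quotient.mk_surjective x
      show φ (h₀ b) = inr (q b)
      have : ((φ.restrictScalars A).comp h₀) = inr.comp q := by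
        refine hext (B ⊗[A] (B ⧸ I)) ((φ.restrictScalars A).comp h₀) _ fun s => ?_
        show φ (h₀ (ι s)) = inr (q (ι s))
        rw [hh₀', delta, map_sub, hφg, AlgHom.commutes, hg']
        exact add_sub_cancel_left _ _
      exact AlgHom.congr_fun this b
    induction z using TensorProduct.induction_on with
    | zero => rw [map_zero, map_zero]
    | add a c ha hc => rw [map_add, map_add, ha, hc]
    | tmul b x =>
      show φ (algebraMap B _ b * h₁ x) = _
      rw [map_mul, AlgHom.commutes, h2]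
      show (b ⊗ₜ[A] (1 : B ⧸ I)) * ((1 : B) ⊗ₜ[A] x) = _
      rw [Algebra.TensorProduct.tmul_mul_tmul, mul_one, one_mul]
  · refine AlgHom.coe_ringHom_injective (ringHom_ext (fun b => ?_) (fun b => ?_))
    · show ψ (φ (algebraMap _ _ b)) = algebraMap _ _ b
      rw [AlgHom.commutes, AlgHom.commutes]
    · show ψ (φ (PP16.dn n A B b)) = PP16.dn n A B b
      rw [hφg]
      exact AlgHom.congr_fun hψg b
  · show φ (PP16.dn n A B _) = _
    rw [hφg, hg']
    rfl


/-- Let E be an A-module, B = Sym_A(E) its symmetric algebra and K the augmentation ideal of B (the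
kernel of the A-algebra map B → A killing E). For every n there is an isomorphism of B-algebras from
P^n_{B/A} onto B ⊗_A (B/K^(n+1)) sending the principal part d^n t of an element t of E to t ⊗ 1 + 1
⊗ (class of t). -/
theorem result (n : ℕ) (A : Type u) [CommRing A] (E : Type u) [AddCommGroup E]
    [Module A E] :
    ∃ e : PP16.P n A (SymmetricAlgebra A E) ≃ₐ[SymmetricAlgebra A E]
        (SymmetricAlgebra A E ⊗[A] (SymmetricAlgebra A E ⧸
          RingHom.ker (SymmetricAlgebra.lift (0 : E →ₗ[A] A)) ^ (n + 1))),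
      ∀ t : E, e (PP16.dn n A (SymmetricAlgebra A E) (SymmetricAlgebra.ι A E t)) =
        SymmetricAlgebra.ι A E t ⊗ₜ 1 + 1 ⊗ₜ Ideal.Quotient.mk _ (SymmetricAlgebra.ι A E t) := by
  exact aux n A E (SymmetricAlgebra A E) (SymmetricAlgebra.ι A E)
    (fun C _ _ l => ⟨SymmetricAlgebra.lift l, fun t => SymmetricAlgebra.lift_ι_apply l t⟩)
    (fun C _ _ u v h => SymmetricAlgebra.algHom_ext (LinearMap.ext h))
    _ (fun t => by simp) _ rfl

end Groth.Agent.S3813
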