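import Groth.Statements.S3815
import Mathlib
import Groth.Agent.Lib.PrincipalParts.Basic
import Groth.Agent.Lib.DiffOp.Basic

set_option autoImplicit false
universe u
open scoped TensorProduct
open scoped BigOperators
open PP16

namespace Groth.Agent.S3815

open GrothLib.PrincipalParts in
open scoped TensorProduct in
theorem aux (n : ℕ) (A B : Type u) [CommRing A] [CommRing B] [Algebra A B]
    (M N : Type u) [AddCommGroup M] [Module A M] [Module B M] [IsScalarTower A B M]
    [AddCommGroup N] [Module A N] [Module B N] [IsScalarTower A B N] (D : M →ₗ[A] N) :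
    Diff16.IsDiffOpLE A B M N n D ↔
      ∀ m : M, ∀ x ∈ KaehlerDifferential.ideal A B ^ (n + 1),
        Diff16.linearize A B B N (D ∘ₗ (LinearMap.toSpanSingleton B M m).restrictScalars A) x = 0 := by
  simp only [← GrothLib.DiffOp.isDiffOpLE_iff_linearize]
  induction n generalizing D with
  | zero =>
    refine ⟨fun h m b c => ?_, fun h b m => ?_⟩
    · show D ((b • c) • m) = b • D (c • m)
      rw [smul_eq_mul, mul_smul]
      exact h b _
    · have := h m b 1
      simpa using this
  | succ n ih =>
    have key : ∀ m b, Diff16.commutator A B B N (D ∘ₗ (LinearMap.toSpanSingleton B M m).restrictScalars A) b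
        = (Diff16.commutator A B M N D b) ∘ₗ (LinearMap.toSpanSingleton B M m).restrictScalars A := by
      intro m b
      refine LinearMap.ext fun c => ?_
      show D ((b • c) • m) - b • D (c • m) = D (b • c • m) - b • D (c • m)
      rw [smul_eq_mul, mul_smul]
    refine ⟨fun h m b => ?_, fun h b => ?_⟩
    · rw [key]; exact (ih _).1 (h b) m
    · exact (ih _).2 fun m => key m b ▸ h m b


/-- Let B be an A-algebra, M and N two B-modules and D : M → N an A-linear map. Let P^n(M) = P^n_{B/A}
⊗_B M, the tensor product formed with the B-module structure of P^n_{B/A} through d^n, regarded as a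
B-module through the first factor of P^n_{B/A}, with d^n_M : M → P^n(M), m ↦ 1 ⊗ m. Then D is a
differential operator of order at most n relative to A (order defined through iterated commutators
with multiplication by elements of B) if and only if there is exactly one additive map u : P^n(M) →
N which is B-linear for the first-factor structure and satisfies u(1 ⊗ m) = D(m) for all m ∈ M. -/
theorem result (n : ℕ) (A B : Type u) [CommRing A] [CommRing B] [Algebra A B]
    (M N : Type u) [AddCommGroup M] [Module A M] [Module B M] [IsScalarTower A B M]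
    [AddCommGroup N] [Module A N] [Module B N] [IsScalarTower A B N] (D : M →ₗ[A] N) :
    Diff16.IsDiffOpLE A B M N n D ↔
      ∃! u : PP16.PM n A B M →+ N,
        (∀ (b : B) (t : PP16.PM n A B M), u (algebraMap B (PP16.P n A B) b • t) = b • u t) ∧
          ∀ m : M, u (PP16.dM n A B M m) = D m := by
  rw [aux n A B M N D]
  let Dm : M → B →ₗ[A] N := fun m => D ∘ₗ (LinearMap.toSpanSingleton B M m).restrictScalars A
  let L : M → B ⊗[A] B →ₗ[A] N := fun m => Diff16.linearize A B B N (Dm m)
  have hLt : ∀ m b c, L m (b ⊗ₜ[A] c) = b • D (c • m) := fun m b c => rfl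
  let mk : B ⊗[A] B → PP16.Pr n A B := fun t => Ideal.Quotient.mk _ t
  have hsurj : Function.Surjective mk := Ideal.Quotient.mk_surjective
  have hsmul : ∀ (b : B) (t : B ⊗[A] B) (m : M),
      (algebraMap B (PP16.P n A B) b • (mk t ⊗ₜ[B] m) : PP16.PM n A B M) =
        mk ((b ⊗ₜ[A] (1 : B)) * t) ⊗ₜ[B] m := by
    intro b t m
    rw [TensorProduct.smul_tmul']
    rfl
  have hbal : ∀ (b : B) (t : B ⊗[A] B) (m : M),
      (mk t ⊗ₜ[B] (b • m) : PP16.PM n A B M) = mk (t * ((1 : B) ⊗ₜ[A] b)) ⊗ₜ[B] m := by
    intro b t m
    rw [← TensorProduct.smul_tmul]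
    refine congrArg (· ⊗ₜ[B] m) ?_
    exact mul_comm (mk ((1 : B) ⊗ₜ[A] b)) (mk t)
  have hone : ∀ m : M, PP16.dM n A B M m = mk (1 : B ⊗[A] B) ⊗ₜ[B] m := fun m => rfl
  have hval : ∀ u : PP16.PM n A B M →+ N,
      (∀ (b : B) (t : PP16.PM n A B M), u (algebraMap B (PP16.P n A B) b • t) = b • u t) →
      (∀ m : M, u (PP16.dM n A B M m) = D m) → ∀ m t, u (mk t ⊗ₜ[B] m) = L m t := by
    intro u h1 h2 m t
    induction t using TensorProduct.induction_on with
    | zero =>
      rw [map_zero, show mk 0 = (0 : PP16.Pr n A B) from map_zero (Ideal.Quotient.mk _),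
        TensorProduct.zero_tmul, map_zero]
    | add a c ha hc =>
      rw [map_add, show mk (a + c) = (mk a + mk c : PP16.Pr n A B) from map_add (Ideal.Quotient.mk _) a c,
        TensorProduct.add_tmul, map_add, ha, hc]
    | tmul b c =>
      rw [hLt, ← h2, ← h1, hone, hbal, hsmul, one_mul, Algebra.TensorProduct.tmul_mul_tmul, mul_one,
        one_mul]
  constructor
  · intro hD
    let e := Submodule.Quotient.restrictScalarsEquiv A (KaehlerDifferential.ideal A B ^ (n + 1))
    let L' : M → PP16.Pr n A B → N := fun m x =>
      ((KaehlerDifferential.ideal A B ^ (n + 1)).restrictScalars A).liftQ (L m)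
        (fun z hz => hD m z hz) (e.symm x)
    have hL' : ∀ m t, L' m (mk t) = L m t := fun m t => rfl
    let u : PP16.PM n A B M →+ N := TensorProduct.liftAddHom
      (AddMonoidHom.mk' (fun x => AddMonoidHom.mk' (fun m => L' m x) (fun m m' => by
          obtain ⟨t, rfl⟩ := hsurj x
          rw [hL', hL', hL']
          induction t using TensorProduct.induction_on with
          | zero => simp
          | add a c ha hc => rw [map_add, map_add, map_add, ha, hc]; abel
          | tmul b c => simp [hLt, smul_add]))
        (fun x y => AddMonoidHom.ext fun m => by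
          obtain ⟨a, rfl⟩ := hsurj x
          obtain ⟨c, rfl⟩ := hsurj y
          show L' m (mk a + mk c) = L' m (mk a) + L' m (mk c)
          rw [show (mk a + mk c : PP16.Pr n A B) = mk (a + c) from (map_add (Ideal.Quotient.mk _) a c).symm,
            hL', hL', hL', map_add]))
      (fun b x m => by
        obtain ⟨t, rfl⟩ := hsurj x
        show L' m (b • mk t) = L' (b • m) (mk t)
        rw [show (b • mk t : PP16.Pr n A B) = mk (((1 : B) ⊗ₜ[A] b) * t) from rfl, hL', hL']
        induction t using TensorProduct.induction_on with
        | zero => simp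
        | add a c ha hc => rw [mul_add, map_add, map_add, ha, hc]
        | tmul c c' =>
          rw [Algebra.TensorProduct.tmul_mul_tmul, one_mul, hLt, hLt, smul_smul c' b, mul_comm b c'])
    have hu : ∀ m t, u (mk t ⊗ₜ[B] m) = L m t := fun m t => rfl
    refine ⟨u, ⟨fun b t => ?_, fun m => ?_⟩, fun v hv => ?_⟩
    · induction t using TensorProduct.induction_on with
      | zero => simp
      | add a c ha hc => simp only [smul_add, map_add, ha, hc]
      | tmul x m =>
        obtain ⟨t, rfl⟩ := hsurj x
        rw [hsmul, hu, hu]
        induction t using TensorProduct.induction_on with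
        | zero => simp
        | add a c ha hc => rw [mul_add, map_add, map_add, ha, hc, smul_add]
        | tmul c c' => rw [Algebra.TensorProduct.tmul_mul_tmul, one_mul, hLt, hLt, mul_smul]
    · rw [hone, hu, Algebra.TensorProduct.one_def, hLt, one_smul, one_smul]
    · refine AddMonoidHom.ext fun t => ?_
      induction t using TensorProduct.induction_on with
      | zero => simp
      | add a c ha hc => simp only [map_add, ha, hc]
      | tmul x m =>
        obtain ⟨t, rfl⟩ := hsurj x
        rw [hval v hv.1 hv.2, hu]
  · rintro ⟨u, ⟨h1, h2⟩, -⟩ m x hx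
    show L m x = 0
    rw [← hval u h1 h2, show mk x = (0 : PP16.Pr n A B) from Ideal.Quotient.eq_zero_iff_mem.2 hx,
      TensorProduct.zero_tmul, map_zero]

end Groth.Agent.S3815
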