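import Groth.Statements.S3816
import Groth.Agent.Lib.PrincipalParts.Monomials

set_option autoImplicit false
universe u
open scoped TensorProduct
open scoped BigOperators
open PP16

namespace Groth.Agent.S3816

open GrothLib.PrincipalParts MvPolynomial in
theorem smooth_of_detects (A B : Type u) [CommRing A] [CommRing B] [Algebra A B] {ι : Type}
    [Fintype ι] (z : ι → B)
    (hz : Submodule.span B (Set.range fun i => KaehlerDifferential.D A B (z i)) = ⊤)
    (hdet : Detects A z) :
    PP16.IsDiffSmooth A B ∧
      ∃ b : Module.Basis ι B (KaehlerDifferential A B),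
        ∀ i, b i = KaehlerDifferential.D A B (z i) := by
  classical
  let r : (ι →₀ B) →ₗ[B] KaehlerDifferential A B :=
    Finsupp.linearCombination B fun i => KaehlerDifferential.D A B (z i)
  have hr : ∀ j, (KaehlerDifferential.ideal A B).toCotangent ⟨del A (z j), del_mem _⟩ =
      r (Finsupp.single j 1) := fun j => by
    simp only [r, Finsupp.linearCombination_single, one_smul]
    rfl
  have hli : LinearIndependent B fun i => KaehlerDifferential.D A B (z i) := by
    rw [linearIndependent_iff]
    intro v hv
    have hv0 : r v = KaehlerDifferential.D A B 0 := by rw [map_zero]; exact hv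
    have h1 := toDiag_linForm_sub_del_mem _ (fun j => del_mem (A := A) (z j)) r hr hv0
    simp only [del, TensorProduct.tmul_zero, TensorProduct.zero_tmul, sub_self, sub_zero] at h1
    ext i
    have h2 := hdet 2 (linForm v) h1 (Finsupp.single i 1) (by simp [Finsupp.degree_single])
    rw [linForm, Finsupp.linearCombination_apply, Finsupp.sum, coeff_sum] at h2
    simpa [coeff_X', Finsupp.single_left_inj, Finset.sum_ite_eq'] using h2
  let b : Module.Basis ι B (KaehlerDifferential A B) := Module.Basis.mk hli hz.ge
  have hb : ∀ i, b i = KaehlerDifferential.D A B (z i) := fun i => Module.Basis.mk_apply _ _ _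
  refine ⟨⟨Module.Projective.of_basis b, fun ι' _ => ?_⟩, b, hb⟩
  refine exists_graded_bijective _ (fun j => del_mem (A := A) (z j)) r hr b.repr.toLinearMap
    (fun x => ?_) (fun k h hh _ hmem => ?_) ι'
  · have : r = b.repr.symm.toLinearMap := by
      refine Finsupp.lhom_ext fun j c => ?_
      simp [r, hb]
    rw [this]
    exact b.repr.symm_apply_apply x
  · ext d
    rw [coeff_zero]
    by_contra hne
    have hdeg : d.degree = k := by rw [Finsupp.degree_eq_weight_one]; exact hh hne
    exact hne (hdet (k + 1) h hmem d (by omega))


/-- a) iff b) (affine form, finite family): let B be an A-algebra and z_1, …, z_r elements of B whose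
differentials generate the module of differentials of B over A. The following are equivalent: (a) B
is differentially smooth over A and (dz_i) is a basis of the module of differentials; (b) there is a
family (D_p), indexed by multi-indices p, of differential operators B → B (each of some finite
order) with D_p(z^q) = (∏ binom(q_i, p_i)) z^(q-p) for all p, q. -/
theorem result (A B : Type u) [CommRing A] [CommRing B]
    [Algebra A B] (ι : Type) [Fintype ι] [DecidableEq ι] (z : ι → B)
    (hz : Submodule.span B (Set.range fun i => KaehlerDifferential.D A B (z i)) = ⊤) :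
    (PP16.IsDiffSmooth A B ∧
        ∃ b : Module.Basis ι B (KaehlerDifferential A B), ∀ i, b i = KaehlerDifferential.D A B (z i)) ↔
      ∃ Dp : (ι → ℕ) → (B →ₗ[A] B),
        (∀ p, ∃ k : ℕ, Diff16.IsDiffOpLE A B B B k (Dp p)) ∧
        ∀ p q : ι → ℕ, Dp p (∏ i, z i ^ q i) =
          ((∏ i, Nat.choose (q i) (p i) : ℕ) : B) * ∏ i, z i ^ (q i - p i) := by
  constructor
  · rintro ⟨hB, b, hb⟩
    obtain ⟨Dp, h1, h2⟩ := GrothLib.PrincipalParts.dividedPower_of_detects z hz
      (GrothLib.PrincipalParts.detects_of_isDiffSmooth z hB b hb)
    exact ⟨Dp, fun p => ⟨_, h1 p⟩, h2⟩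
  · rintro ⟨Dp, h1, h2⟩
    exact smooth_of_detects A B z hz
      (GrothLib.PrincipalParts.detects_of_dividedPower z hz Dp h1 h2)

end Groth.Agent.S3816
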