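import Groth.Statements.S3817
import Groth.Agent.Lib.PrincipalParts.Monomials

set_option autoImplicit false
universe u
open scoped TensorProduct
open scoped BigOperators
open PP16

namespace Groth.Agent.S3817

open GrothLib.PrincipalParts in
theorem evP_monomial (A B : Type u) [CommRing A] [CommRing B] [Algebra A B] {ι : Type} [Fintype ι]
    (z : ι → B) (m : ℕ) (p : {p : ι → ℕ // ∑ i, p i ≤ m}) :
    evP (A := A) z m (MvPolynomial.monomial (expOf p) 1) =
      ∏ i, (PP16.dn m A B (z i) - algebraMap B (PP16.P m A B) (z i)) ^ (p.1 i) := by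
  have hR : ∀ i, PP16.dn m A B (z i) - algebraMap B (PP16.P m A B) (z i) =
      Ideal.Quotient.mk _ (del A (z i)) := fun i => delta_eq_mk (n := m) (A := A) (z i)
  simp only [hR, ← map_pow, ← map_prod]
  show Ideal.Quotient.mk _ (zdiag (A := A) z _) = _
  congr 1
  rw [MvPolynomial.monomial_eq]
  simp [zdiag, toDiag, Finsupp.prod_fintype, del]


/-- (Affine form, finite family.) Let B be an A-algebra which is differentially smooth over A and (z_i)
a finite family of elements of B whose differentials form a basis of the module of differentials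
Ω_{B/A}. Then for every m the monomials ζ^p with |p| ≤ m in the elements ζ_i = d^m z_i - z_i form a
basis of the B-module P^m_{B/A} (first-factor structure); in particular the P^m are free of finite
rank. -/
theorem result (A B : Type u) [CommRing A] [CommRing B] [Algebra A B]
    (hB : PP16.IsDiffSmooth A B) (ι : Type) [Fintype ι] [DecidableEq ι] (z : ι → B)
    (hz : ∃ b : Module.Basis ι B (KaehlerDifferential A B), ∀ i, b i = KaehlerDifferential.D A B (z i)) (m : ℕ) :
    ∃ b : Module.Basis {p : ι → ℕ // ∑ i, p i ≤ m} B (PP16.P m A B),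
      ∀ p, b p = ∏ i, (PP16.dn m A B (z i) - algebraMap B (PP16.P m A B) (z i)) ^ (p.1 i) := by
  obtain ⟨b0, hb0⟩ := hz
  have hspan : Submodule.span B (Set.range fun i => KaehlerDifferential.D A B (z i)) = ⊤ := by
    rw [← b0.span_eq, funext hb0]
  obtain ⟨b, hb, _⟩ := GrothLib.PrincipalParts.exists_monomial_basis z hspan
    (GrothLib.PrincipalParts.detects_of_isDiffSmooth z hB b0 hb0) m
  refine ⟨b, fun p => ?_⟩
  rw [hb]
  exact evP_monomial A B z m p

end Groth.Agent.S3817
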