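import Groth.Statements.S3818
import Groth.Agent.Lib.PrincipalParts.Monomials

set_option autoImplicit false
universe u
open scoped TensorProduct
open scoped BigOperators
open PP16

namespace Groth.Agent.S3818

open GrothLib.PrincipalParts MvPolynomial in
theorem expansion (A B : Type u) [CommRing A] [CommRing B] [Algebra A B] {ι : Type} [Fintype ι]
    [DecidableEq ι] (z : ι → B)
    (hz : Submodule.span B (Set.range fun i => KaehlerDifferential.D A B (z i)) = ⊤)
    (Dp : (ι → ℕ) → (B →ₗ[A] B)) (hD : ∀ p, ∃ k : ℕ, Diff16.IsDiffOpLE A B B B k (Dp p))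
    (hDz : ∀ p q : ι → ℕ, Dp p (∏ i, z i ^ q i) =
        ((∏ i, Nat.choose (q i) (p i) : ℕ) : B) * ∏ i, z i ^ (q i - p i))
    (m : ℕ) (D : B →ₗ[A] B) (hDm : Diff16.IsDiffOpLE A B B B m D) :
    ∃! a : {p : ι → ℕ // ∑ i, p i ≤ m} →₀ B, D = a.sum fun p c => c • Dp p.1 := by
  classical
  have hfin : Finite {p : ι → ℕ // ∑ i, p i ≤ m} := by
    refine Finite.of_injective (fun p (i : ι) => (⟨p.1 i, Nat.lt_succ_of_le
      ((Finset.single_le_sum (fun j _ => Nat.zero_le (p.1 j)) (Finset.mem_univ i)).trans p.2)⟩ :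
        Fin (m + 1))) fun p q h => Subtype.ext (funext fun i => ?_)
    exact congrArg Fin.val (congrFun h i)
  cases nonempty_fintype {p : ι → ℕ // ∑ i, p i ≤ m}
  have hlinB : ∀ (E : B →ₗ[A] B) (c : B) (x : B ⊗[A] B),
      Diff16.linearize A B B B E (c • x) = c * Diff16.linearize A B B B E x := by
    intro E c x
    induction x using TensorProduct.induction_on with
    | zero => simp
    | tmul a b =>
      rw [TensorProduct.smul_tmul', GrothLib.DiffOp.linearize_tmul, GrothLib.DiffOp.linearize_tmul,
        smul_eq_mul, smul_eq_mul, smul_eq_mul, mul_assoc]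
    | add x y hx hy => simp only [smul_add, map_add, hx, hy, mul_add]
  have hsum : ∀ (a : {p : ι → ℕ // ∑ i, p i ≤ m} →₀ B) (x : B ⊗[A] B),
      Diff16.linearize A B B B (a.sum fun p c => c • Dp p.1) x =
        a.sum fun p c => c * Diff16.linearize A B B B (Dp p.1) x := by
    intro a x
    induction x using TensorProduct.induction_on with
    | zero => simp
    | tmul b b' =>
      simp only [GrothLib.DiffOp.linearize_tmul, Finsupp.sum, LinearMap.sum_apply,
        LinearMap.smul_apply, smul_eq_mul, Finset.mul_sum]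
      exact Finset.sum_congr rfl fun p _ => mul_left_comm _ _ _
    | add x y hx hy => simp only [map_add, hx, hy, mul_add, Finsupp.sum_add]
  have horth : ∀ (a : {p : ι → ℕ // ∑ i, p i ≤ m} →₀ B) (q : {p : ι → ℕ // ∑ i, p i ≤ m}),
      Diff16.linearize A B B B (a.sum fun p c => c • Dp p.1)
        (zdiag (A := A) z (monomial (expOf q) 1)) = a q := by
    intro a q
    rw [hsum, Finsupp.sum_fintype _ _ (fun p => zero_mul _)]
    simp only [linearize_monomial z hz Dp hD hDz, expOf, Finsupp.coe_equivFunOnFinite_symm,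
      mul_ite, mul_one, mul_zero]
    rw [Finset.sum_eq_single q]
    · simp
    · intro p _ hp
      rw [if_neg fun e => hp (Subtype.ext e.symm)]
    · simp
  let a : {p : ι → ℕ // ∑ i, p i ≤ m} →₀ B := Finsupp.equivFunOnFinite.symm fun q =>
    Diff16.linearize A B B B D (zdiag (A := A) z (monomial (expOf q) 1))
  have ha : D = a.sum fun p c => c • Dp p.1 := by
    set S := a.sum fun p c => c • Dp p.1 with hS
    have hSm : Diff16.IsDiffOpLE A B B B m S := GrothLib.DiffOp.isDiffOpLE_sum _ fun p _ =>
      GrothLib.DiffOp.isDiffOpLE_smul _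
        (GrothLib.DiffOp.isDiffOpLE_mono p.2 (isDiffOpLE_degree z hz Dp hD hDz p.1))
    have key : ∀ x : B ⊗[A] B,
        Diff16.linearize A B B B D x = Diff16.linearize A B B B S x := by
      intro x
      obtain ⟨h, h1, h2⟩ := exists_approx (A := A) z hz m x
      have hk : ∀ E : B →ₗ[A] B, Diff16.IsDiffOpLE A B B B m E →
          Diff16.linearize A B B B E x = Diff16.linearize A B B B E (zdiag (A := A) z h) := by
        intro E hE
        rw [← sub_eq_zero, ← map_sub]
        exact (GrothLib.DiffOp.isDiffOpLE_iff_linearize _ E).1 hE _ h2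
      rw [hk D hDm, hk S hSm, h.as_sum, map_sum, map_sum, map_sum]
      refine Finset.sum_congr rfl fun d hd => ?_
      have hd' : ∑ i, d i ≤ m := by
        have := h1 d hd
        rwa [← Finsupp.equivFunOnFinite.symm_apply_apply d, degree_symm] at this
      have hde : expOf (⟨d, hd'⟩ : {p : ι → ℕ // ∑ i, p i ≤ m}) = d :=
        Finsupp.equivFunOnFinite.symm_apply_apply d
      rw [← mul_one (coeff d h), ← smul_eq_mul, ← smul_monomial, map_smul, hlinB, hlinB,
        ← hde, horth a ⟨d, hd'⟩]
      simp [a]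
    ext b
    simpa [GrothLib.DiffOp.linearize_tmul] using key ((1 : B) ⊗ₜ[A] b)
  refine ⟨a, ha, fun a' ha' => Finsupp.ext fun q => ?_⟩
  rw [← horth a' q, ← horth a q, ← ha', ← ha]


/-- Last assertion (affine form, finite family): let B be an A-algebra, z_1, …, z_r elements of B whose
differentials generate the module of differentials, and (D_p) a family of differential operators B →
B (each of some finite order) with D_p(z^q) = (∏ binom(q_i, p_i)) z^(q-p). Then D_p has order at
most |p|, and every differential operator B → B of order at most m relative to A can be written in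
exactly one way as a B-linear combination ∑_{|p| ≤ m} a_p D_p. -/
theorem result (A B : Type u) [CommRing A] [CommRing B] [Algebra A B]
    (ι : Type) [Fintype ι] [DecidableEq ι] (z : ι → B)
    (hz : Submodule.span B (Set.range fun i => KaehlerDifferential.D A B (z i)) = ⊤)
    (Dp : (ι → ℕ) → (B →ₗ[A] B)) (hD : ∀ p, ∃ k : ℕ, Diff16.IsDiffOpLE A B B B k (Dp p))
    (hDz : ∀ p q : ι → ℕ, Dp p (∏ i, z i ^ q i) =
        ((∏ i, Nat.choose (q i) (p i) : ℕ) : B) * ∏ i, z i ^ (q i - p i)) :
    (∀ p, Diff16.IsDiffOpLE A B B B (∑ i, p i) (Dp p)) ∧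
      ∀ (m : ℕ) (D : B →ₗ[A] B), Diff16.IsDiffOpLE A B B B m D →
        ∃! a : {p : ι → ℕ // ∑ i, p i ≤ m} →₀ B, D = a.sum fun p c => c • Dp p.1 := by
  exact ⟨fun p => GrothLib.PrincipalParts.isDiffOpLE_degree z hz Dp hD hDz p,
    fun m D hDm => expansion A B z hz Dp hD hDz m D hDm⟩

end Groth.Agent.S3818
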