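import Groth.Statements.S3821
import Mathlib
import Groth.Agent.Lib.PrincipalParts.DiffSmoothAdic

set_option autoImplicit false
universe u
open scoped TensorProduct
open PP16

namespace Groth.Agent.S3821

open scoped TensorProduct in
theorem map_ideal (A B A' B' : Type u) [CommRing A] [CommRing B] [Algebra A B]
    [CommRing A'] [CommRing B'] [Algebra A' B'] [Algebra A A'] [Algebra B B'] [Algebra A B']
    [IsScalarTower A A' B'] [IsScalarTower A B B'] (x : B ⊗[A] B)
    (hx : x ∈ KaehlerDifferential.ideal A B) :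
    PP16.tensorMap A B A' B' x ∈ KaehlerDifferential.ideal A' B' :=
  PP16.ideal_map_tensorMap_le A B A' B' (Ideal.mem_map_of_mem _ hx)

open scoped TensorProduct in
theorem aux (A B A' B' : Type u) [CommRing A] [CommRing B] [Algebra A B]
    [CommRing A'] [CommRing B'] [Algebra A' B'] [Algebra A A'] [Algebra B B'] [Algebra A B']
    [IsScalarTower A A' B'] [IsScalarTower A B B'] [Algebra.IsPushout A B A' B']
    (h : PP16.IsDiffSmooth A B) : PP16.IsDiffSmooth A' B' := by
  rw [GrothLib.DiffSmoothAdic.isDiffSmooth_iff] at h ⊢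
  intro T _ _ N hN ψ ⟨k, hk⟩
  letI : Algebra B T := ((algebraMap B' T).comp (algebraMap B B')).toAlgebra
  haveI : IsScalarTower B B' T := IsScalarTower.of_algebraMap_eq fun _ => rfl
  letI : Algebra A T := ((algebraMap B' T).comp (algebraMap A B')).toAlgebra
  letI : Algebra A' T := ((algebraMap B' T).comp (algebraMap A' B')).toAlgebra
  haveI : IsScalarTower A' B' T := IsScalarTower.of_algebraMap_eq fun _ => rfl
  haveI : IsScalarTower A A' T := IsScalarTower.of_algebraMap_eq fun a =>
    congrArg (algebraMap B' T) (IsScalarTower.algebraMap_apply A A' B' a)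
  haveI : IsScalarTower A B T := IsScalarTower.of_algebraMap_eq fun a =>
    congrArg (algebraMap B' T) (IsScalarTower.algebraMap_apply A B B' a)
  let ψ₀ : B ⊗[A] B →ₐ[B] T ⧸ N := AlgHom.mk (ψ.toRingHom.comp (PP16.tensorMap A B A' B').toRingHom)
    (fun b => by
      show ψ (PP16.tensorMap A B A' B' (b ⊗ₜ[A] (1 : B))) = Ideal.Quotient.mk N (algebraMap B T b)
      rw [PP16.tensorMap_tmul, map_one]
      exact ψ.commutes (algebraMap B B' b))
  obtain ⟨χ₀, hχ₀⟩ := h T N hN ψ₀ ⟨k, fun x hx => hk _ (by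
    have h1 := Ideal.mem_map_of_mem (PP16.tensorMap A B A' B').toRingHom hx
    rw [Ideal.map_pow] at h1
    exact Ideal.pow_right_mono (PP16.ideal_map_tensorMap_le A B A' B') k h1)⟩
  let χl : B →ₐ[A] T := AlgHom.mk (χ₀.toRingHom.comp Algebra.TensorProduct.includeRight.toRingHom)
    (fun a => by
      show χ₀ ((1 : B) ⊗ₜ[A] algebraMap A B a) = algebraMap A T a
      rw [show ((1 : B) ⊗ₜ[A] algebraMap A B a) = algebraMap B (B ⊗[A] B) (algebraMap A B a) by
        rw [← Algebra.TensorProduct.includeRight_apply, AlgHom.commutes, ← IsScalarTower.algebraMap_apply],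
        AlgHom.commutes, ← IsScalarTower.algebraMap_apply])
  let r₀ : B' →ₐ[A] T := Algebra.pushoutDesc B' χl (IsScalarTower.toAlgHom A A' T)
    (fun _ _ => Commute.all _ _)
  have hr₀l : ∀ b, r₀ (algebraMap B B' b) = χ₀ ((1 : B) ⊗ₜ[A] b) := fun b =>
    Algebra.pushoutDesc_left B' χl _ _ b
  have hr₀r : ∀ a, r₀ (algebraMap A' B' a) = algebraMap A' T a := fun a =>
    Algebra.pushoutDesc_right B' χl (IsScalarTower.toAlgHom A A' T) _ a
  let r : B' →ₐ[A'] T := AlgHom.mk r₀.toRingHom hr₀r
  let χ : B' ⊗[A'] B' →ₐ[B'] T :=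
    Algebra.TensorProduct.lift (Algebra.ofId B' T) r (fun _ _ => Commute.all _ _)
  refine ⟨χ, ?_⟩
  have key : ∀ c : B', Ideal.Quotient.mk N (r₀ c) = ψ ((1 : B') ⊗ₜ[A'] c) := by
    have hA : ∀ a : A', ψ ((1 : B') ⊗ₜ[A'] algebraMap A' B' a) =
        Ideal.Quotient.mk N (algebraMap A' T a) := fun a => by
      rw [show ((1 : B') ⊗ₜ[A'] algebraMap A' B' a) = algebraMap B' (B' ⊗[A'] B') (algebraMap A' B' a) by
        rw [← Algebra.TensorProduct.includeRight_apply, AlgHom.commutes, ← IsScalarTower.algebraMap_apply],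
        AlgHom.commutes]
      rfl
    let g₂ : B' →ₐ[A] T ⧸ N :=
      AlgHom.mk (ψ.toRingHom.comp Algebra.TensorProduct.includeRight.toRingHom) (fun a => by
        show ψ ((1 : B') ⊗ₜ[A'] algebraMap A B' a) = Ideal.Quotient.mk N (algebraMap A T a)
        rw [IsScalarTower.algebraMap_apply A A' B', hA, ← IsScalarTower.algebraMap_apply])
    have h2 : (Ideal.Quotient.mkₐ A N).comp r₀ = g₂ := by
      refine Algebra.IsPushout.algHom_ext (R := A) (S := B) (R' := A') (S' := B') (AlgHom.ext fun a => ?_)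
        (AlgHom.ext fun b => ?_)
      · show Ideal.Quotient.mk N (r₀ (algebraMap A' B' a)) = ψ ((1 : B') ⊗ₜ[A'] algebraMap A' B' a)
        rw [hr₀r, hA]
      · show Ideal.Quotient.mk N (r₀ (algebraMap B B' b)) = ψ ((1 : B') ⊗ₜ[A'] algebraMap B B' b)
        rw [hr₀l, ← map_one (algebraMap B B'), ← PP16.tensorMap_tmul A B A' B']
        exact AlgHom.congr_fun hχ₀ _
    exact fun c => AlgHom.congr_fun h2 c
  refine Algebra.TensorProduct.ext (AlgHom.ext fun b => ?_) (AlgHom.ext fun c => ?_)
  · show Ideal.Quotient.mk N (χ (algebraMap B' _ b)) = ψ (algebraMap B' _ b)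
    rw [AlgHom.commutes, AlgHom.commutes]
    rfl
  · show Ideal.Quotient.mk N (χ ((1 : B') ⊗ₜ[A'] c)) = ψ ((1 : B') ⊗ₜ[A'] c)
    rw [← key]
    congr 1
    show algebraMap B' T 1 * r₀ c = r₀ c
    rw [map_one, one_mul]


/-- Let B be an A-algebra, A → A' a ring map and B' = B ⊗_A A'. If B is differentially smooth over A,
then B' is differentially smooth over A'. -/
theorem result (A B A' B' : Type u) [CommRing A] [CommRing B] [Algebra A B]
    [CommRing A'] [CommRing B'] [Algebra A' B'] [Algebra A A'] [Algebra B B'] [Algebra A B']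
    [IsScalarTower A A' B'] [IsScalarTower A B B'] [Algebra.IsPushout A B A' B']
    (h : PP16.IsDiffSmooth A B) : PP16.IsDiffSmooth A' B' := by
  exact aux A B A' B' h

end Groth.Agent.S3821
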