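import Groth.Statements.S3822
import Mathlib
import Groth.Agent.Lib.PrincipalParts.DiffSmoothAdic
import Groth.Agent.Lib.ProjDescent.Main

set_option autoImplicit false
universe u
open scoped TensorProduct
open PP16

namespace Groth.Agent.S3822

open scoped TensorProduct in
open GrothLib.PrincipalParts GrothLib.DiffSmoothAdic in
theorem aux (A B A' B' : Type u) [CommRing A] [CommRing B] [Algebra A B]
    [CommRing A'] [CommRing B'] [Algebra A' B'] [Algebra A A'] [Algebra B B'] [Algebra A B']
    [IsScalarTower A A' B'] [IsScalarTower A B B'] [Algebra.IsPushout A B A' B'] [Module.FaithfullyFlat A A']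
    (h : PP16.IsDiffSmooth A' B') (hfin : Module.Finite B' (KaehlerDifferential A' B')) :
    PP16.IsDiffSmooth A B ∧ Module.Finite B (KaehlerDifferential A B) := by
  classical
  haveI hpo : Algebra.IsPushout A A' B B' := Algebra.IsPushout.symm inferInstance
  haveI : Module.FaithfullyFlat B B' := by
    let e : B ⊗[A] A' ≃ₐ[B] B' := Algebra.IsPushout.equiv A B A' B'
    exact Module.FaithfullyFlat.of_linearEquiv _ _ e.symm.toLinearEquiv
  let E := KaehlerDifferential.tensorKaehlerEquiv A A' B B'
  haveI : Module.Finite B' (B' ⊗[B] KaehlerDifferential A B) := Module.Finite.equiv E.symm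
  haveI : Module.Projective B' (B' ⊗[B] KaehlerDifferential A B) := by
    haveI := h.1
    exact Module.Projective.of_equiv E.symm
  have hfin' : Module.Finite B (KaehlerDifferential A B) :=
    Module.Finite.of_finite_tensorProduct_of_faithfullyFlat B'
  have hproj : Module.Projective B (KaehlerDifferential A B) :=
    GrothLib.ProjDescent.projective_of_faithfullyFlat B' _
  refine ⟨?_, hfin'⟩
  refine isDiffSmooth_of_symGr A B hproj ?_
  intro ι _ _
  obtain ⟨φ, ψ, hφ, hψ, hφs, hiff⟩ := exists_phi_comparison A B ι
  refine ⟨ψ, hψ, hiff.1 ⟨?_, hφs⟩⟩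
  -- injectivity
  obtain ⟨s, hs⟩ := Module.projective_def'.1 hproj
  let Om := KaehlerDifferential A B
  let r : (Om →₀ B) →ₗ[B] Om := Finsupp.linearCombination B id
  have hrs : ∀ x, r (s x) = x := fun x => LinearMap.congr_fun hs x
  let g := algebraMap B B'
  -- base change of the section
  haveI : IsScalarTower B B' (KaehlerDifferential A' B') := inferInstance
  let mr : (Om →₀ B) →ₗ[B] (Om →₀ B') := Finsupp.mapRange.linearMap (Algebra.linearMap B B')
  let s' : KaehlerDifferential A' B' →ₗ[B'] (Om →₀ B') :=
    ((mr ∘ₗ s).liftBaseChange B') ∘ₗ E.symm.toLinearMap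
  have hs' : ∀ b, s' (KaehlerDifferential.D A' B' (algebraMap B B' b)) = mr (s (KaehlerDifferential.D A B b)) := by
    intro b
    show (mr ∘ₗ s).liftBaseChange B' (E.symm _) = _
    rw [show E.symm (KaehlerDifferential.D A' B' (algebraMap B B' b)) =
        (1 : B') ⊗ₜ[B] KaehlerDifferential.D A B b by
      rw [LinearEquiv.symm_apply_eq, KaehlerDifferential.tensorKaehlerEquiv_tmul_D, one_smul]]
    simp
  have hlin : ∀ v, MvPolynomial.map g (linForm v) = linForm (mr v) := fun v => by
    induction v using Finsupp.induction_linear with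
    | zero => simp
    | add f f' hf hf' => rw [map_add, map_add, hf, hf', map_add, map_add]
    | single j c =>
      simp only [linForm, mr, g, Finsupp.mapRange.linearMap_apply, Finsupp.mapRange_single,
        Finsupp.linearCombination_single, Algebra.linearMap_apply, MvPolynomial.smul_eq_C_mul, map_mul,
        MvPolynomial.map_C, MvPolynomial.map_X]
  let Θ : SymmetricPower B ι Om →ₗ[B] MvPolynomial Om B :=
    symLift ((prodForm ι).compLinearMap fun _ => s) fun e x => by
      simp only [MultilinearMap.compLinearMap_apply, prodForm_apply]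
      exact Equiv.prod_comp e fun i => linForm (s (x i))
  let Θ' : SymmetricPower B' ι (KaehlerDifferential A' B') →ₗ[B'] MvPolynomial Om B' :=
    symLift ((prodForm ι).compLinearMap fun _ => s') fun e x => by
      simp only [MultilinearMap.compLinearMap_apply, prodForm_apply]
      exact Equiv.prod_comp e fun i => linForm (s' (x i))
  have hΘ : ∀ x, Θ (SymmetricPower.tprod B x) = prodForm ι fun i => s (x i) := fun x => symLift_tprod _ _ x
  have hΘ' : ∀ x, Θ' (SymmetricPower.tprod B' x) = prodForm ι fun i => s' (x i) := fun x =>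
    symLift_tprod _ _ x
  have hleft : Function.Injective Θ := by
    refine Function.LeftInverse.injective (g := ofPoly r ι) fun z => ?_
    have : (ofPoly r ι).comp Θ = LinearMap.id := sym_ext fun x => by
      rw [LinearMap.comp_apply, hΘ, ofPoly_prodForm]
      simp [hrs]
    exact LinearMap.congr_fun this z
  obtain ⟨φ', hφ', hb'⟩ := h.2 ι
  -- every symmetric tensor has a companion over `B'`
  have key : ∀ z : SymmetricPower B ι Om, ∃ (z' : SymmetricPower B' ι (KaehlerDifferential A' B'))
      (y : B ⊗[A] B) (hy : y ∈ KaehlerDifferential.ideal A B ^ Fintype.card ι)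
      (hy' : PP16.tensorMap A B A' B' y ∈ KaehlerDifferential.ideal A' B' ^ Fintype.card ι),
      Θ' z' = MvPolynomial.map g (Θ z) ∧ φ z = Submodule.Quotient.mk ⟨y, hy⟩ ∧
        φ' z' = Submodule.Quotient.mk ⟨PP16.tensorMap A B A' B' y, hy'⟩ := by
    intro z
    have hz : z ∈ Submodule.span B (Set.range fun b : ι → B =>
        SymmetricPower.tprod B (fun i => KaehlerDifferential.D A B (b i))) :=
      (span_tprod_D A B ι) ▸ Submodule.mem_top
    have hT : ∀ y : B ⊗[A] B, y ∈ KaehlerDifferential.ideal A B ^ Fintype.card ι →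
        PP16.tensorMap A B A' B' y ∈ KaehlerDifferential.ideal A' B' ^ Fintype.card ι := fun y hy => by
      have h1 := Ideal.mem_map_of_mem (PP16.tensorMap A B A' B').toRingHom hy
      rw [Ideal.map_pow] at h1
      exact Ideal.pow_right_mono (PP16.ideal_map_tensorMap_le A B A' B') _ h1
    induction hz using Submodule.span_induction with
    | mem w hw =>
      obtain ⟨b, rfl⟩ := hw
      refine ⟨SymmetricPower.tprod B' fun i => KaehlerDifferential.D A' B' (algebraMap B B' (b i)),
        ∏ i, ((1 : B) ⊗ₜ[A] b i - b i ⊗ₜ[A] (1 : B)), ?_, hT _ ?_, ?_, hφ b, ?_⟩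
      · simpa using PP16.prod_mem_pow _ Finset.univ (fun i => del A (b i)) fun i _ => del_mem _
      · simpa using PP16.prod_mem_pow _ Finset.univ (fun i => del A (b i)) fun i _ => del_mem _
      · rw [hΘ', hΘ, prodForm_apply, prodForm_apply, map_prod]
        exact Finset.prod_congr rfl fun i _ => by rw [hlin, hs']
      · refine (hφ' _).trans ((Submodule.Quotient.eq _).2 ?_)
        simp [map_prod, PP16.tensorMap_tmul]
    | zero => exact ⟨0, 0, zero_mem _, hT 0 (zero_mem _), by simp, by rw [map_zero]; rfl,
        by rw [map_zero]; exact ((Submodule.Quotient.mk_eq_zero _).2 (by simp)).symm⟩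
    | add w v _ _ hw hv =>
      obtain ⟨w', y, hy, hy', h1, h2, h3⟩ := hw
      obtain ⟨v', u, hu, hu', h1', h2', h3'⟩ := hv
      refine ⟨w' + v', y + u, add_mem hy hu, hT _ (add_mem hy hu), by simp [h1, h1'],
        by rw [map_add, h2, h2']; rfl, ?_⟩
      rw [map_add, h3, h3', ← Submodule.Quotient.mk_add]
      exact congrArg _ (Subtype.ext (map_add _ _ _).symm)
    | smul c w _ hw =>
      obtain ⟨w', y, hy, hy', h1, h2, h3⟩ := hw
      refine ⟨algebraMap B B' c • w', c • y, Submodule.smul_of_tower_mem _ c hy,
        hT _ (Submodule.smul_of_tower_mem _ c hy), ?_, by rw [map_smul, h2]; rfl, ?_⟩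
      · rw [map_smul, map_smul, h1, MvPolynomial.smul_eq_C_mul, MvPolynomial.smul_eq_C_mul, map_mul,
          MvPolynomial.map_C]
      · rw [map_smul, h3, ← Submodule.Quotient.mk_smul]
        refine congrArg _ (Subtype.ext ?_)
        show algebraMap B B' c • PP16.tensorMap A B A' B' y = PP16.tensorMap A B A' B' (c • y)
        rw [Algebra.smul_def, Algebra.smul_def, map_mul]
        congr 1
        show algebraMap B' _ (algebraMap B B' c) = PP16.tensorMap A B A' B' (c ⊗ₜ[A] (1 : B))
        rw [PP16.tensorMap_tmul, map_one]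
        rfl
  refine (injective_iff_map_eq_zero φ).2 fun z hz => hleft ?_
  obtain ⟨z', y, hy, hy', h1, h2, h3⟩ := key z
  rw [hz, eq_comm, Submodule.Quotient.mk_eq_zero] at h2
  have h4 : φ' z' = 0 := by
    rw [h3, Submodule.Quotient.mk_eq_zero]
    have h5 := Ideal.mem_map_of_mem (PP16.tensorMap A B A' B').toRingHom
      (show y ∈ KaehlerDifferential.ideal A B ^ (Fintype.card ι + 1) from h2)
    rw [Ideal.map_pow] at h5
    exact Ideal.pow_right_mono (PP16.ideal_map_tensorMap_le A B A' B') _ h5
  rw [hb'.1 (h4.trans (map_zero φ').symm), map_zero] at h1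
  rw [map_zero]
  exact MvPolynomial.map_injective g (FaithfulSMul.algebraMap_injective B B') (h1.symm.trans (map_zero _).symm)


/-- Let B be an A-algebra, A → A' a faithfully flat ring map and B' = B ⊗_A A'. If B' is differentially
smooth over A' and its module of differentials is finitely generated, then B is differentially
smooth over A and its module of differentials is finitely generated. -/
theorem result (A B A' B' : Type u) [CommRing A] [CommRing B] [Algebra A B]
    [CommRing A'] [CommRing B'] [Algebra A' B'] [Algebra A A'] [Algebra B B'] [Algebra A B']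
    [IsScalarTower A A' B'] [IsScalarTower A B B'] [Algebra.IsPushout A B A' B'] [Module.FaithfullyFlat A A']
    (h : PP16.IsDiffSmooth A' B') (hfin : Module.Finite B' (KaehlerDifferential A' B')) :
    PP16.IsDiffSmooth A B ∧ Module.Finite B (KaehlerDifferential A B) := by
  exact aux A B A' B' h hfin

end Groth.Agent.S3822
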