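import Groth.Statements.S3828
import Groth.Agent.Lib.QReg26.Inf

set_option autoImplicit false
universe u
open QReg16

namespace Groth.Agent.S3828

/-- Let A be a Noetherian ring, J an ideal of A, and f_1, …, f_r elements of A forming a weakly regular
sequence on A/J (each f_i a nonzerodivisor on A/(J + (f_1, …, f_{i−1}))) and generating an ideal R
contained in the Jacobson radical of A; put Q = J + R. Then J ∩ Rⁿ = J·Rⁿ for every n > 0, and J ∩
Q² = J·Q (equivalently, the canonical map J/JQ → Q/Q² is injective). -/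
theorem result {A : Type u} [CommRing A] [IsNoetherianRing A] (J : Ideal A)
    {r : ℕ} (f : Fin r → A) (hf : RingTheory.Sequence.IsWeaklyRegular (A ⧸ J) (List.ofFn f))
    (hrad : Ideal.span (Set.range f) ≤ (⊥ : Ideal A).jacobson) :
    (∀ n : ℕ, 0 < n → J ⊓ Ideal.span (Set.range f) ^ n = J * Ideal.span (Set.range f) ^ n) ∧
      J ⊓ (J ⊔ Ideal.span (Set.range f)) ^ 2 = J * (J ⊔ Ideal.span (Set.range f)) := by
  set R := Ideal.span (Set.range f) with hR
  have h1 : ∀ n : ℕ, 0 < n → J ⊓ R ^ n = J * R ^ n := fun n _ => by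
    obtain ⟨N, hN, hle⟩ := GrothLib.QReg26.exists_inf_pow_le J f n
    rw [GrothLib.QReg26.inf_pow_eq J f hf n N hN]
    exact sup_eq_left.2 hle
  refine ⟨h1, le_antisymm ?_ ?_⟩
  · have hsq : (J ⊔ R) ^ 2 ≤ J * (J ⊔ R) ⊔ R ^ 2 := by
      rw [sq, sq, Ideal.sup_mul]
      refine sup_le le_sup_left ?_
      rw [Ideal.mul_sup]
      refine sup_le (le_sup_of_le_left ?_) le_sup_right
      rw [mul_comm]
      exact Ideal.mul_mono_right le_sup_right
    rintro x ⟨hxJ, hx⟩
    obtain ⟨a, ha, b, hb, rfl⟩ := Submodule.mem_sup.1 (hsq hx)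
    have haJ : a ∈ J := Ideal.mul_le_left ha
    have hb' : b ∈ J ⊓ R ^ 2 := ⟨by simpa using sub_mem hxJ haJ, hb⟩
    rw [h1 2 two_pos] at hb'
    exact add_mem ha (Ideal.mul_mono_right ((Ideal.pow_le_self two_ne_zero).trans le_sup_right) hb')
  · refine le_inf Ideal.mul_le_left ?_
    rw [sq]
    exact Ideal.mul_mono_left le_sup_left

end Groth.Agent.S3828
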