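import Groth.Statements.S3831
import Groth.Agent.Lib.FormalUnibranch.Basic
import Groth.Agent.Lib.GrpSchField.TensorDomain
import Groth.Agent.Lib.Olivier.Main
import Mathlib.RingTheory.Localization.Integral
import Mathlib.FieldTheory.IsAlgClosed.AlgebraicClosure

set_option autoImplicit false
universe u
open Hensel18
open scoped TensorProduct

set_option backward.isDefEq.respectTransparency false
set_option synthInstance.maxHeartbeats 200000
set_option maxHeartbeats 1600000

namespace Groth.Agent.S3831

/-- A tensor product with a field is a domain if that with an algebraic closure of the base is. -/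
theorem isDomain_tensor_of_isDomain_algebraicClosure {κ F : Type u} [Field κ] [CommRing F] [Algebra κ F]
    (K : Type u) [Field K] [Algebra κ K] (h : IsDomain (AlgebraicClosure κ ⊗[κ] F)) : IsDomain (K ⊗[κ] F) := by
  let j : AlgebraicClosure κ →ₐ[κ] AlgebraicClosure K := IsAlgClosed.lift
  letI : Algebra (AlgebraicClosure κ) (AlgebraicClosure K) := j.toRingHom.toAlgebra
  haveI : IsScalarTower κ (AlgebraicClosure κ) (AlgebraicClosure K) :=
    IsScalarTower.of_algebraMap_eq fun x => (j.commutes x).symm
  haveI := h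
  haveI : IsDomain (AlgebraicClosure K ⊗[AlgebraicClosure κ] (AlgebraicClosure κ ⊗[κ] F)) :=
    GrothLib.GrpSchField.isDomain_tensorProduct
  haveI : IsDomain (AlgebraicClosure K ⊗[κ] F) :=
    (Algebra.TensorProduct.cancelBaseChange κ (AlgebraicClosure κ) (AlgebraicClosure κ) (AlgebraicClosure K) F).symm.toMulEquiv.isDomain
      (B := AlgebraicClosure K ⊗[AlgebraicClosure κ] (AlgebraicClosure κ ⊗[κ] F))
  exact Function.Injective.isDomain
    (Algebra.TensorProduct.map (IsScalarTower.toAlgHom κ K (AlgebraicClosure K)) (AlgHom.id κ F))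
    (Module.Flat.rTensor_preserves_injective_linearMap (M := F)
      (IsScalarTower.toAlgHom κ K (AlgebraicClosure K)).toLinearMap (algebraMap K (AlgebraicClosure K)).injective)

/-- Let A be a henselian Noetherian local ring whose formal fibres are geometrically normal. Then the
formal fibres of A are geometrically integral: for every prime p of A and every field extension K of
the residue field k(p), the ring K ⊗_{k(p)} (k(p) ⊗_A Â) is an integral domain. -/
theorem result (A : Type u) [CommRing A] [HenselianLocalRing A]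
    [IsNoetherianRing A] (hA : EGA4.HasGeomNormalFormalFibres A) (p : Ideal A) [p.IsPrime]
    (K : Type u) [Field K] [Algebra p.ResidueField K] :
    IsDomain (TensorProduct p.ResidueField K (EGA4.formalFibre A p)) := by
  let κ := p.ResidueField
  let L := AlgebraicClosure κ
  let B := integralClosure A L
  haveI : IsLocalRing B := GrothLib.Olivier.isLocalRing_integralClosure A
  haveI : IsIntegrallyClosedIn B L := IsIntegrallyClosedIn.of_isIntegralClosure A
  haveI : IsIntegrallyClosed B := IsIntegrallyClosed.of_isIntegrallyClosedIn B L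
  haveI : Algebra.IsIntegral A B := IsIntegralClosure.isIntegral_algebra A L
  obtain ⟨-, hX, -⟩ := GrothLib.FormalUnibranch.tensor_normal_domain A hA B
  haveI := hX
  -- every element of the algebraic closure has a multiple integral over `A`
  have hmul : ∀ l : L, ∃ b : B, b ≠ 0 ∧ ∃ b' : B, (b : L) * l = b' := by
    intro l
    haveI : Algebra.IsAlgebraic (A ⧸ p) L :=
      (IsFractionRing.comap_isAlgebraic_iff (A := A ⧸ p) (K := κ) (C := L)).mpr inferInstance
    obtain ⟨y, hy, hint⟩ := (Algebra.IsAlgebraic.isAlgebraic (R := A ⧸ p) l).exists_integral_multiple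
    obtain ⟨a, rfl⟩ := Ideal.Quotient.mk_surjective y
    have hint' : IsIntegral A ((Ideal.Quotient.mk p a) • l) := isIntegral_trans (R := A) (A := A ⧸ p) _ hint
    have ha : algebraMap A L a ≠ 0 := by
      rw [IsScalarTower.algebraMap_apply A (A ⧸ p) L]
      intro h
      rw [IsScalarTower.algebraMap_apply (A ⧸ p) κ L, map_eq_zero,
        map_eq_zero_iff _ (IsFractionRing.injective (A ⧸ p) κ)] at h
      exact hy h
    refine ⟨⟨algebraMap A L a, isIntegral_algebraMap⟩, fun h => ha (congrArg Subtype.val h), ⟨_, hint'⟩, ?_⟩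
    show algebraMap A L a * l = Ideal.Quotient.mk p a • l
    rw [Algebra.smul_def, IsScalarTower.algebraMap_apply A (A ⧸ p) L]
    rfl
  haveI : Module.FaithfullyFlat A (EGA4.Cpl A) := GrothLib.Excellent.faithfullyFlat_cpl A
  -- the algebraic closure of the residue field
  have hY : IsDomain (L ⊗[A] EGA4.Cpl A) := by
    suffices h : IsDomain (EGA4.Cpl A ⊗[A] L) from
      (Algebra.TensorProduct.comm A L (EGA4.Cpl A)).toMulEquiv.isDomain _
    let φ : EGA4.Cpl A ⊗[A] B →ₐ[A] EGA4.Cpl A ⊗[A] L :=
      Algebra.TensorProduct.map (AlgHom.id A _) B.val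
    have hφ : Function.Injective φ :=
      Module.Flat.lTensor_preserves_injective_linearMap (M := EGA4.Cpl A) B.val.toLinearMap Subtype.val_injective
    have hsurj : ∀ y : EGA4.Cpl A ⊗[A] L, ∃ b : B, b ≠ 0 ∧ ∃ x, φ x = (1 ⊗ₜ[A] (b : L)) * y := by
      intro y
      induction y using TensorProduct.induction_on with
      | zero => exact ⟨1, one_ne_zero, 0, by simp⟩
      | tmul c l =>
        obtain ⟨b, hb, b', hb'⟩ := hmul l
        exact ⟨b, hb, c ⊗ₜ b', by simp [φ, hb']⟩
      | add y₁ y₂ h₁ h₂ =>
        obtain ⟨b₁, hb₁, x₁, hx₁⟩ := h₁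
        obtain ⟨b₂, hb₂, x₂, hx₂⟩ := h₂
        refine ⟨b₁ * b₂, mul_ne_zero hb₁ hb₂, (1 ⊗ₜ[A] b₂) * x₁ + (1 ⊗ₜ[A] b₁) * x₂, ?_⟩
        rw [map_add, map_mul, map_mul, hx₁, hx₂]
        simp only [φ, Algebra.TensorProduct.map_tmul, AlgHom.id_apply, Subalgebra.coe_val, ← mul_assoc,
          Algebra.TensorProduct.tmul_mul_tmul, one_mul, mul_add]
        rw [mul_comm (b₂ : L) (b₁ : L)]
        rfl
    have hunit : ∀ b : B, b ≠ 0 → IsUnit ((1 : EGA4.Cpl A) ⊗ₜ[A] (b : L)) := fun b hb =>
      (IsUnit.mk0 (b : L) fun h => hb (Subtype.ext h)).map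
        (Algebra.TensorProduct.includeRight (R := A) (A := EGA4.Cpl A) (B := L))
    haveI : Nontrivial (EGA4.Cpl A ⊗[A] L) := hφ.nontrivial
    haveI : NoZeroDivisors (EGA4.Cpl A ⊗[A] L) := ⟨fun {y z} hyz => by
      obtain ⟨b, hb, x, hx⟩ := hsurj y
      obtain ⟨b', hb', x', hx'⟩ := hsurj z
      have h : φ (x * x') = 0 := by
        rw [map_mul, hx, hx', mul_mul_mul_comm, hyz, mul_zero]
      rcases mul_eq_zero.mp (hφ (h.trans (map_zero φ).symm)) with h0 | h0
      · exact Or.inl ((hunit b hb).mul_right_eq_zero.mp (by rw [← hx, h0, map_zero]))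
      · exact Or.inr ((hunit b' hb').mul_right_eq_zero.mp (by rw [← hx', h0, map_zero]))⟩
    exact NoZeroDivisors.to_isDomain _
  haveI : IsDomain (L ⊗[κ] (p.Fiber (EGA4.Cpl A))) :=
    (Algebra.TensorProduct.cancelBaseChange A κ κ L (EGA4.Cpl A)).toMulEquiv.isDomain (B := L ⊗[A] EGA4.Cpl A)
  exact isDomain_tensor_of_isDomain_algebraicClosure K inferInstance

end Groth.Agent.S3831
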