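import Groth.Statements.S3842
import Groth.Agent.Lib.SchDense.CIntDense
import Mathlib.AlgebraicGeometry.Properties
-- import your own Groth.Agent.* helpers here

set_option autoImplicit false
universe u
open CategoryTheory CategoryTheory.Limits AlgebraicGeometry TopologicalSpace
open Rat20

namespace Groth.Agent.S3842

namespace Aux

variable {X : Scheme.{u}}

theorem isSchematicallyDense_of_dense [IsReduced X] {V : X.Opens} (hV : Dense (V : Set ↥X)) :
    CInt.IsSchematicallyDense V := by
  intro W
  rw [injective_iff_map_eq_zero]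
  intro s hs
  refine (AlgebraicGeometry.basicOpen_eq_bot_iff s).mp ?_
  ext y
  refine ⟨fun hy => ?_, fun h => h.elim⟩
  obtain ⟨z, hz, hzV⟩ := hV.inter_open_nonempty _ (X.basicOpen s).2 ⟨y, hy⟩
  have hz' : z ∈ X.basicOpen (X.presheaf.map (homOfLE (inf_le_left : W ⊓ V ≤ W)).op s) := by
    rw [Scheme.basicOpen_res]; exact ⟨⟨X.basicOpen_le s hz, hzV⟩, hz⟩
  rw [hs, Scheme.basicOpen_zero] at hz'
  exact hz'.elim

theorem dense_of_isSchematicallyDense {V : X.Opens} (hV : CInt.IsSchematicallyDense V) :
    Dense (V : Set ↥X) := by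
  rw [dense_iff_inter_open]
  rintro O hO ⟨y, hy⟩
  by_contra hne
  let O' : X.Opens := ⟨O, hO⟩
  have h : (1 : Γ(X, O')) = 0 := by
    refine hV O' (TopCat.Presheaf.section_ext X.sheaf (O' ⊓ V) _ _ fun z hz => ?_)
    exact absurd ⟨z, hz.1, hz.2⟩ hne
  have := congrArg (X.presheaf.germ O' y hy) h
  rw [map_one, map_zero] at this
  exact one_ne_zero this

theorem mem_of_dense
    (hfin : ∀ x : ↥X, ∃ W : X.Opens, x ∈ W ∧ {Z ∈ irreducibleComponents ↥X | (Z ∩ (W : Set ↥X)).Nonempty}.Finite)
    {η : ↥X} (hη : closure {η} ∈ irreducibleComponents ↥X) {V : X.Opens} (hV : Dense (V : Set ↥X)) : η ∈ V := by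
  obtain ⟨W, hηW, hWf⟩ := hfin η
  let T := {Z ∈ irreducibleComponents ↥X | (Z ∩ (W : Set ↥X)).Nonempty ∧ Z ≠ closure {η}}
  have hT : T.Finite := hWf.subset fun Z hZ => ⟨hZ.1, hZ.2.1⟩
  have hcl : IsClosed (⋃ Z ∈ T, Z) :=
    hT.isClosed_biUnion fun Z hZ => isClosed_of_mem_irreducibleComponents _ hZ.1
  have hηT : η ∉ ⋃ Z ∈ T, Z := fun h => by
    obtain ⟨Z, ⟨hZ, -, hne⟩, hηZ⟩ := Set.mem_iUnion₂.mp h
    have hle : closure {η} ≤ Z :=
      (isClosed_of_mem_irreducibleComponents _ hZ).closure_subset_iff.mpr (Set.singleton_subset_iff.mpr hηZ)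
    exact hne (le_antisymm (hη.2 hZ.1 hle) hle)
  obtain ⟨z, ⟨hzW, hzT⟩, hzV⟩ := hV.inter_open_nonempty _ (W.2.inter hcl.isOpen_compl) ⟨η, hηW, hηT⟩
  have hz : z ∈ closure ({η} : Set ↥X) := by
    by_contra hz
    exact hzT (Set.mem_iUnion₂.mpr ⟨irreducibleComponent z, ⟨irreducibleComponent_mem_irreducibleComponents z,
      ⟨z, mem_irreducibleComponent, hzW⟩, fun e => hz (e ▸ mem_irreducibleComponent)⟩, mem_irreducibleComponent⟩)
  exact (specializes_iff_mem_closure.mpr hz).mem_open V.2 hzV

end Aux

/-- For the open subset U = X; the general case is the same statement over the open subscheme U: let f :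
X' → X be a morphism of schemes with X' reduced, suppose the irreducible components of X form a
locally finite family and that every irreducible component of X' dominates an irreducible component
of X (the closure of its image is an irreducible component of X). Then for every schematically dense
open subset V of X, the preimage f⁻¹(V) is schematically dense in X'. -/
theorem result {X X' : Scheme.{u}} (f : X' ⟶ X) [IsReduced X']
    (hfin : ∀ x : ↥X, ∃ W : X.Opens, x ∈ W ∧ {Z ∈ irreducibleComponents ↥X | (Z ∩ (W : Set ↥X)).Nonempty}.Finite)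
    (hdom : ∀ Z' ∈ irreducibleComponents ↥X', closure (f '' Z') ∈ irreducibleComponents ↥X)
    (V : X.Opens) (hV : CInt.IsSchematicallyDense V) : CInt.IsSchematicallyDense (f ⁻¹ᵁ V) := by
  have hVd : Dense (V : Set ↥X) := Aux.dense_of_isSchematicallyDense hV
  refine Aux.isSchematicallyDense_of_dense ?_
  rw [dense_iff_inter_open]
  rintro O hO ⟨y, hy⟩
  let Z' := irreducibleComponent y
  obtain ⟨η', hη'⟩ := QuasiSober.sober (isIrreducible_irreducibleComponent (x := y))
    (isClosed_irreducibleComponent)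
  have hη'O : η' ∈ O := (hη'.specializes mem_irreducibleComponent).mem_open hO hy
  refine ⟨η', hη'O, show f η' ∈ V from Aux.mem_of_dense hfin ?_ hVd⟩
  have hc : closure (f '' Z') = closure {f η'} := by
    rw [show Z' = closure {η'} from hη'.def.symm, closure_image_closure f.continuous, Set.image_singleton]
  rw [← hc]
  exact hdom _ (irreducibleComponent_mem_irreducibleComponents y)


end Groth.Agent.S3842
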