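import Groth.Statements.S3834
import Groth.Agent.S3842
import Groth.Agent.Lib.AssPts.Points
import Mathlib.RingTheory.Ideal.AssociatedPrime.Finiteness
import Mathlib.RingTheory.Localization.AtPrime.Basic
-- import your own Groth.Agent.* helpers here

set_option autoImplicit false
universe u
open CategoryTheory CategoryTheory.Limits AlgebraicGeometry TopologicalSpace
open Rat20

namespace Groth.Agent.S3834

namespace Aux

open GrothLib.WeakAss (primeAt notMem_primeAt_iff)

/-- The prime of global sections of a point. -/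
noncomputable abbrev pT {X : Scheme.{u}} (x : X) : Ideal Γ(X, ⊤) := primeAt (V := ⊤) x trivial

theorem mono {X : Scheme.{u}} {V U : X.Opens} (h : V ≤ U) (hV : CInt.IsSchematicallyDense V) :
    CInt.IsSchematicallyDense U := by
  intro W
  rw [injective_iff_map_eq_zero]
  intro s hs
  refine hV W ?_
  rw [map_zero, ← homOfLE_comp (inf_le_inf_left W h) inf_le_left, op_comp, Functor.map_comp,
    CommRingCat.comp_apply, hs, map_zero]

theorem germ_mem_nonZeroDivisors (X : Scheme.{u}) [IsAffine X] {t : Γ(X, ⊤)}
    (ht : t ∈ nonZeroDivisors Γ(X, ⊤)) (x : X) :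
    X.presheaf.germ ⊤ x trivial t ∈ nonZeroDivisors (X.presheaf.stalk x) := by
  let _ := TopCat.Presheaf.algebra_section_stalk X.presheaf (⟨x, trivial⟩ : (⊤ : X.Opens))
  have := (isAffineOpen_top X).isLocalization_stalk ⟨x, trivial⟩
  rw [mem_nonZeroDivisors_iff_right]
  intro c hc
  obtain ⟨a, s, rfl⟩ := IsLocalization.exists_mk'_eq ((isAffineOpen_top X).primeIdealOf ⟨x, trivial⟩).asIdeal.primeCompl c
  have h : algebraMap Γ(X, ⊤) (X.presheaf.stalk x) (a * t) = 0 := by
    rw [map_mul, ← IsLocalization.mk'_spec (X.presheaf.stalk x) a s, mul_right_comm]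
    exact mul_eq_zero_of_left hc _
  obtain ⟨m, hm⟩ := (IsLocalization.map_eq_zero_iff
    ((isAffineOpen_top X).primeIdealOf ⟨x, trivial⟩).asIdeal.primeCompl _ _).mp h
  have : (m : Γ(X, ⊤)) * a = 0 := ht.2 _ (by rw [mul_assoc]; exact hm)
  exact (IsLocalization.mk'_eq_zero_iff a s).mpr ⟨m, this⟩

theorem exists_of_dense (X : Scheme.{u}) [IsAffine X]
    (hX : IsNoetherian X ∨ (IsReduced X ∧ (irreducibleComponents ↥X).Finite)) (U : X.Opens)
    (hU : CInt.IsSchematicallyDense U) :
    ∃ t : Γ(X, ⊤), t ∈ nonZeroDivisors Γ(X, ⊤) ∧ X.basicOpen t ≤ U := by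
  classical
  have hA := isAffineOpen_top X
  let A := Γ(X, ⊤)
  let I : Ideal A := Ideal.span {t | X.basicOpen t ≤ U}
  have hI : ∀ t ∈ I, X.basicOpen t ≤ U := by
    intro t ht y hy
    by_contra hyU
    refine (notMem_primeAt_iff (X := X) (V := ⊤) (x := y) (hx := trivial)).mpr hy ?_
    refine (Ideal.span_le.mpr (fun a ha => ?_) : I ≤ pT y) ht
    by_contra hay
    exact hyU (ha (notMem_primeAt_iff.mp hay))
  have hIP : ∀ (x : X), x ∈ U → ¬ I ≤ pT x := fun x hx h => by
    obtain ⟨t, htU, hxt⟩ := hA.exists_basicOpen_le ⟨x, hx⟩ (trivial : x ∈ (⊤ : X.Opens))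
    exact (notMem_primeAt_iff (X := X) (V := ⊤) (x := x) (hx := trivial)).mpr hxt (h (Ideal.subset_span htU))
  obtain ⟨S, hS, hSP, havoid⟩ : ∃ S : Set (Ideal A), S.Finite ∧ (∀ P ∈ S, P.IsPrime ∧ ¬ I ≤ P) ∧
      ∀ t : A, (∀ P ∈ S, t ∉ P) → t ∈ nonZeroDivisors A := by
    rcases hX with hN | ⟨hR, hfin⟩
    · have : IsNoetherianRing A := IsLocallyNoetherian.component_noetherian ⟨⊤, hA⟩
      refine ⟨associatedPrimes A A, associatedPrimes.finite A A, fun P hP => ⟨hP.isPrime, ?_⟩, fun t ht => ?_⟩
      · obtain ⟨x, hx₀, hxP⟩ := GrothLib.AssPts.exists_point hA P hP.isPrime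
        rw [← hxP]
        refine hIP x ?_
        by_contra hxU
        obtain ⟨m, hm⟩ := (isAssociatedPrime_iff.mp hP).2
        refine hP.isPrime.ne_top ?_
        have : m = 0 := hU ⊤ (TopCat.Presheaf.section_ext X.sheaf _ _ _ fun y hy => by
          show X.presheaf.germ _ y hy _ = X.presheaf.germ _ y hy _
          rw [TopCat.Presheaf.germ_res_apply, map_zero, map_zero]
          obtain ⟨a, ha, hay⟩ : ∃ a ∈ pT x, a ∉ primeAt y hy.1 := by
            by_contra hne
            push Not at hne
            exact hxU (((GrothLib.AssPts.specializes_iff hA trivial hy.1).mpr hne).mem_open U.2 hy.2)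
          have hu : IsUnit (X.presheaf.germ ⊤ y hy.1 a) :=
            (Scheme.mem_basicOpen _ a y hy.1).mp (notMem_primeAt_iff.mp hay)
          refine hu.mul_right_eq_zero.mp ?_
          rw [← map_mul]
          have h0 : a • m = 0 := by
            rw [show pT x = P from hxP, hm] at ha
            simpa [Submodule.mem_colon_singleton] using ha
          rw [← smul_eq_mul, h0, map_zero])
        rw [hm, eq_top_iff]
        intro r _
        simp [this, Submodule.mem_colon_singleton]
      · rw [mem_nonZeroDivisors_iff_right]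
        intro c hc
        by_contra hc0
        have : t ∈ ⋃ P ∈ associatedPrimes A A, (P : Set A) := by
          rw [biUnion_associatedPrimes_eq_zero_divisors]
          exact ⟨c, hc0, by rw [smul_eq_mul, mul_comm]; exact hc⟩
        obtain ⟨P, hP, htP⟩ := Set.mem_iUnion₂.mp this
        exact ht P hP htP
    · have hmax : ∀ P ∈ minimalPrimes A, ∃ x : X, pT x = P ∧ closure {x} ∈ irreducibleComponents ↥X := by
        intro P hP
        obtain ⟨x, hx₀, hxP⟩ := GrothLib.AssPts.exists_point hA P hP.1.1
        refine ⟨x, hxP, isIrreducible_singleton.closure, fun T hT hle => ?_⟩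
        obtain ⟨η, hη⟩ := QuasiSober.sober hT.closure isClosed_closure
        have hηx : η ⤳ x := hη.specializes (subset_closure (hle (subset_closure rfl)))
        have h1 : pT η ≤ pT x := (GrothLib.AssPts.specializes_iff hA trivial trivial).mp hηx
        have h2 : pT x ≤ pT η := by
          have h1' : pT η ≤ P := hxP ▸ h1
          rw [show pT x = P from hxP]
          exact hP.2 ⟨inferInstance, bot_le⟩ h1'
        have : η = x := GrothLib.AssPts.primeAt_injective hA trivial trivial (le_antisymm h1 h2)
        calc T ⊆ closure T := subset_closure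
          _ = closure {η} := hη.def.symm
          _ = closure {x} := by rw [this]
      refine ⟨minimalPrimes A, ?_, fun P hP => ⟨hP.1.1, ?_⟩, fun t ht => ?_⟩
      · have hpre : ((fun x : X => closure ({x} : Set X)) ⁻¹' irreducibleComponents ↥X).Finite :=
          hfin.preimage fun x _ y _ h => (Inseparable.eq (inseparable_iff_closure_eq.mpr h))
        exact (hpre.image pT).subset fun P hP => by
          obtain ⟨x, hx, hxc⟩ := hmax P hP
          exact ⟨x, hxc, hx⟩
      · obtain ⟨x, hxP, hx⟩ := hmax P hP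
        rw [← hxP]
        exact hIP x (S3842.Aux.mem_of_dense (fun y => ⟨⊤, trivial, hfin.subset fun Z hZ => hZ.1⟩) hx
          (S3842.Aux.dense_of_isSchematicallyDense hU))
      · rw [mem_nonZeroDivisors_iff_right]
        intro c hc
        have : c ∈ sInf (minimalPrimes A) := Submodule.mem_sInf.mpr fun P hP =>
          (hP.1.1.mem_or_mem (show c * t ∈ P by rw [hc]; exact P.zero_mem)).resolve_right (ht P hP)
        have hb : sInf (minimalPrimes A) = (⊥ : Ideal A).radical := Ideal.sInf_minimalPrimes
        rw [hb] at this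
        obtain ⟨n, hn⟩ := this
        exact IsReduced.eq_zero c ⟨n, hn⟩
  by_contra hno
  push Not at hno
  have hsub : (I : Set A) ⊆ ⋃ P ∈ S, (P : Set A) := fun t ht => by
    by_contra hne
    exact hno t (havoid t fun P hP htP => hne (Set.mem_iUnion₂.mpr ⟨P, hP, htP⟩)) (hI t ht)
  obtain ⟨P, hP, hle⟩ := (Ideal.subset_union_prime_finite hS ⊤ ⊤ (fun P hP _ _ => (hSP P hP).1)).mp hsub
  exact (hSP P hP).2 hle

end Aux

/-- Let X = Spec A be an affine scheme, with A Noetherian, or A reduced with finitely many minimal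
primes. Then an open subset U of X is schematically dense if and only if it contains an open subset
of the form X_t with t a regular element of A = Γ(X, O_X). -/
theorem result (X : Scheme.{u}) [IsAffine X]
    (hX : IsNoetherian X ∨ (IsReduced X ∧ (irreducibleComponents ↥X).Finite)) (U : X.Opens) :
    CInt.IsSchematicallyDense U ↔ ∃ t : Γ(X, ⊤), t ∈ nonZeroDivisors Γ(X, ⊤) ∧ X.basicOpen t ≤ U := by
  refine ⟨fun hU => ?_, fun ⟨t, ht, hle⟩ => ?_⟩
  · exact Aux.exists_of_dense X hX U hU
  · exact Aux.mono hle (GrothLib.SchDense.isSchematicallyDense_basicOpen t fun x =>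
      Aux.germ_mem_nonZeroDivisors X ht x)


end Groth.Agent.S3834
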