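import Groth.Statements.S3835
import Groth.Agent.S2879
import Groth.Agent.Lib.SchDensePull.Basic
import Mathlib.AlgebraicGeometry.Morphisms.UniversallyOpen
import Mathlib.AlgebraicGeometry.Morphisms.Affine
-- import your own Groth.Agent.* helpers here

set_option autoImplicit false
universe u
open CategoryTheory CategoryTheory.Limits AlgebraicGeometry TopologicalSpace
open Rat20

namespace Groth.Agent.S3835

/-- Let Y be separated over S, X an S-scheme with a schematically dense open subscheme U, h : U → Y an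
S-morphism (a representative of a pseudo-morphism from X to Y over S), and f : X' → X a flat
morphism locally of finite presentation, X' being regarded as an S-scheme through f. Let x' be a
point of X' with image x = f(x'). If there is an S-morphism from an open neighbourhood V' of x' to Y
agreeing with h ∘ f on f⁻¹(U) ∩ V' (the pulled-back pseudo-morphism is defined at x'), then there is
an S-morphism from an open neighbourhood V of x to Y agreeing with h on U ∩ V (the pseudo-morphism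
is defined at x). -/
theorem result {X X' Y S : Scheme.{u}} (pX : X ⟶ S) (pY : Y ⟶ S)
    [IsSeparated pY] (U : X.Opens) (hU : CInt.IsSchematicallyDense U) (h : (U : Scheme.{u}) ⟶ Y)
    (hh : h ≫ pY = U.ι ≫ pX) (f : X' ⟶ X) [Flat f] [LocallyOfFinitePresentation f] (x' : ↥X')
    (V' : X'.Opens) (hx' : x' ∈ V') (v' : (V' : Scheme.{u}) ⟶ Y) (hv'S : v' ≫ pY = V'.ι ≫ f ≫ pX)
    (hv' : X'.homOfLE (inf_le_right : f ⁻¹ᵁ U ⊓ V' ≤ V') ≫ v' =
      X'.homOfLE (inf_le_left : f ⁻¹ᵁ U ⊓ V' ≤ f ⁻¹ᵁ U) ≫ (f ∣_ U) ≫ h) :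
    ∃ (V : X.Opens) (v : (V : Scheme.{u}) ⟶ Y), f x' ∈ V ∧ v ≫ pY = V.ι ≫ pX ∧
      X.homOfLE (inf_le_right : U ⊓ V ≤ V) ≫ v = X.homOfLE (inf_le_left : U ⊓ V ≤ U) ≫ h := by
  obtain ⟨A, hA, hxA⟩ : ∃ A : X.Opens, IsAffineOpen A ∧ f x' ∈ A := by
    obtain ⟨_, ⟨A, hA, rfl⟩, h1, -⟩ :=
      X.isBasis_affineOpens.exists_subset_of_mem_open (Set.mem_univ (f x')) isOpen_univ
    exact ⟨A, hA, h1⟩
  obtain ⟨B, hB, hxB, hBle⟩ : ∃ B : X'.Opens, IsAffineOpen B ∧ x' ∈ B ∧ B ≤ V' ⊓ f ⁻¹ᵁ A := by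
    obtain ⟨_, ⟨B, hB, rfl⟩, h1, h2⟩ := X'.isBasis_affineOpens.exists_subset_of_mem_open
      (show x' ∈ (V' ⊓ f ⁻¹ᵁ A : X'.Opens) from ⟨hx', hxA⟩) (V' ⊓ f ⁻¹ᵁ A).2
    exact ⟨B, hB, h1, h2⟩
  haveI : IsAffine (A : Scheme.{u}) := hA
  haveI : IsAffine (B : Scheme.{u}) := hB
  let g : (B : Scheme.{u}) ⟶ (A : Scheme.{u}) := f.resLE A B (hBle.trans inf_le_right)
  have hgA : g ≫ A.ι = B.ι ≫ f := Scheme.Hom.resLE_comp_ι _ _
  haveI : Flat g := inferInstance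
  haveI : LocallyOfFinitePresentation g := inferInstance
  let W : (A : Scheme.{u}).Opens := ⟨Set.range g, by rw [← Set.image_univ]; exact g.isOpenMap _ isOpen_univ⟩
  have hxW : (⟨f x', hxA⟩ : ↥(A : Scheme.{u})) ∈ W := ⟨⟨x', hxB⟩, A.ι.isOpenEmbedding.injective (by
    rw [← Scheme.Hom.comp_apply, hgA]; rfl)⟩
  obtain ⟨A', hA', hxA', hA'W⟩ : ∃ A' : (A : Scheme.{u}).Opens,
      IsAffineOpen A' ∧ ⟨f x', hxA⟩ ∈ A' ∧ A' ≤ W := by
    obtain ⟨_, ⟨A', hA', rfl⟩, h1, h2⟩ :=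
      (A : Scheme.{u}).isBasis_affineOpens.exists_subset_of_mem_open hxW W.2
    exact ⟨A', hA', h1, h2⟩
  haveI : IsAffine (A' : Scheme.{u}) := hA'
  haveI : IsAffineHom g := inferInstance
  let g' := g ∣_ A'
  haveI : IsAffineHom g' := IsZariskiLocalAtTarget.restrict ‹IsAffineHom g› A'
  haveI : Flat g' := IsZariskiLocalAtTarget.restrict ‹Flat g› A'
  haveI : LocallyOfFinitePresentation g' :=
    IsZariskiLocalAtTarget.restrict ‹LocallyOfFinitePresentation g› A'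
  haveI : Surjective g' := ⟨fun a => by
    obtain ⟨b, hb⟩ := hA'W a.2
    refine ⟨⟨b, show g b ∈ A' by rw [hb]; exact a.2⟩, A'.ι.isOpenEmbedding.injective ?_⟩
    rw [← Scheme.Hom.comp_apply, morphismRestrict_ι]
    exact hb⟩
  let j := A'.ι ≫ A.ι
  let U₀ : (A' : Scheme.{u}).Opens := j ⁻¹ᵁ U
  have hdense : CInt.IsSchematicallyDense ((pullback.fst g' g') ⁻¹ᵁ (g' ⁻¹ᵁ U₀)) :=
    GrothLib.SchDensePull.isSchematicallyDense_preimage (pullback.fst g' g' ≫ g' ≫ j) U hU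
  let i : (g ⁻¹ᵁ A' : Scheme.{u}) ⟶ (V' : Scheme.{u}) :=
    (g ⁻¹ᵁ A').ι ≫ X'.homOfLE (hBle.trans inf_le_left)
  have hi : i ≫ V'.ι ≫ f = g' ≫ j := by
    simp only [i, j, g', Category.assoc, Scheme.homOfLE_ι_assoc, morphismRestrict_ι_assoc, hgA]
  obtain ⟨v₀, hv₀U, hv₀S⟩ := Groth.Agent.S2879.result (j ≫ pX) pY g' U₀ hdense ((j ∣_ U) ≫ h)
    (by rw [Category.assoc, hh, morphismRestrict_ι_assoc]) (i ≫ v')
    (by rw [Category.assoc, hv'S, reassoc_of% hi]) (by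
      let T := g' ⁻¹ᵁ U₀
      let l := IsOpenImmersion.lift (f ⁻¹ᵁ U ⊓ V').ι (T.ι ≫ i ≫ V'.ι) (by
        rw [Scheme.Opens.range_ι]
        rintro _ ⟨t, rfl⟩
        refine ⟨?_, ?_⟩
        · show f ((T.ι ≫ i ≫ V'.ι) t) ∈ U
          rw [← Scheme.Hom.comp_apply, Category.assoc, Category.assoc, hi, Scheme.Hom.comp_apply]
          exact t.2
        · rw [Scheme.Hom.comp_apply, Scheme.Hom.comp_apply]
          exact Subtype.prop _)
      have hl : l ≫ (f ⁻¹ᵁ U ⊓ V').ι = T.ι ≫ i ≫ V'.ι := IsOpenImmersion.lift_fac _ _ _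
      have hl1 : l ≫ X'.homOfLE (inf_le_right : f ⁻¹ᵁ U ⊓ V' ≤ V') = T.ι ≫ i := by
        rw [← cancel_mono V'.ι, Category.assoc, Scheme.homOfLE_ι, hl]
        exact (Category.assoc _ _ _).symm
      have hl2 : l ≫ X'.homOfLE (inf_le_left : f ⁻¹ᵁ U ⊓ V' ≤ f ⁻¹ᵁ U) ≫ (f ∣_ U) =
          (g' ∣_ U₀) ≫ (j ∣_ U) := by
        rw [← cancel_mono U.ι, Category.assoc, Category.assoc, Category.assoc, morphismRestrict_ι,
          morphismRestrict_ι, Scheme.homOfLE_ι_assoc, reassoc_of% hl, morphismRestrict_ι_assoc, hi]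
      have h2 := congrArg (l ≫ ·) hv'
      simp only [reassoc_of% hl1, reassoc_of% hl2] at h2
      exact h2)
  refine ⟨j.opensRange, j.isoOpensRange.inv ≫ v₀, ⟨⟨_, hxA'⟩, rfl⟩, ?_, ?_⟩
  · rw [Category.assoc, hv₀S, Scheme.Hom.isoOpensRange_inv_comp_assoc]
  · let k := X.homOfLE (inf_le_right : U ⊓ j.opensRange ≤ j.opensRange) ≫ j.isoOpensRange.inv
    have hk : k ≫ j = (U ⊓ j.opensRange).ι := by
      simp only [k, Category.assoc, Scheme.Hom.isoOpensRange_inv_comp, Scheme.homOfLE_ι]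
    let l := IsOpenImmersion.lift U₀.ι k (by
      rw [Scheme.Opens.range_ι]
      rintro _ ⟨a, rfl⟩
      show j (k a) ∈ U
      rw [← Scheme.Hom.comp_apply, hk]
      exact a.2.1)
    have hl : l ≫ U₀.ι = k := IsOpenImmersion.lift_fac _ _ _
    have hl2 : l ≫ (j ∣_ U) = X.homOfLE (inf_le_left : U ⊓ j.opensRange ≤ U) := by
      rw [← cancel_mono U.ι, Category.assoc, morphismRestrict_ι, reassoc_of% hl, hk, Scheme.homOfLE_ι]
    have h2 := congrArg (l ≫ ·) hv₀U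
    simp only [reassoc_of% hl, reassoc_of% hl2] at h2
    rw [← h2]
    simp [k]


end Groth.Agent.S3835
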