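import Groth.Statements.S3836
import Groth.Agent.Lib.Birat.NormalPoint
import Groth.Agent.Lib.RedSub.Basic
import Mathlib.AlgebraicGeometry.Morphisms.QuasiFinite
import Mathlib.AlgebraicGeometry.PullbackCarrier
-- import your own Groth.Agent.* helpers here

set_option autoImplicit false
universe u
open CategoryTheory CategoryTheory.Limits AlgebraicGeometry TopologicalSpace
open Rat20

namespace Groth.Agent.S3836

/-- The case of an integral source. -/
theorem aux {X Y S : Scheme.{u}} (pX : X ⟶ S) (pY : Y ⟶ S)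
    [LocallyOfFiniteType pY] [IsSeparated pY] [IsIntegral X]
    (U : X.Opens) (hU : (U : Set ↥X).Nonempty) (h : (U : Scheme.{u}) ⟶ Y) (hh : U.ι ≫ pX = h ≫ pY)
    (x : ↥X) [IsIntegrallyClosed (X.presheaf.stalk x)]
    (z : ↥(pullback pX pY)) (hz : pullback.fst pX pY z = x)
    (hzΓ : z ∈ closure (Set.range (pullback.lift U.ι h hh)))
    (W : (pullback pX pY).Opens) (hW : (W : Set ↥(pullback pX pY)) ∩
      closure (Set.range (pullback.lift U.ι h hh)) ∩ (pullback.fst pX pY) ⁻¹' {x} = {z}) :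
    ∃ (V : X.Opens) (v : (V : Scheme.{u}) ⟶ Y), x ∈ V ∧ v ≫ pY = V.ι ≫ pX ∧
      X.homOfLE (inf_le_right : U ⊓ V ≤ V) ≫ v = X.homOfLE (inf_le_left : U ⊓ V ≤ U) ≫ h := by
  let γ := pullback.lift U.ι h hh
  let C : TopologicalSpace.Closeds ↥(pullback pX pY) := ⟨closure (Set.range γ), isClosed_closure⟩
  let I := Scheme.IdealSheafData.vanishingIdeal C
  let i := I.subschemeι
  let g : I.subscheme ⟶ X := i ≫ pullback.fst pX pY
  haveI : IsReduced I.subscheme := GrothLib.RedSub.isReduced_subscheme_vanishingIdeal C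
  have hri : Set.range i = closure (Set.range γ) :=
    GrothLib.RedSub.range_subschemeι_vanishingIdeal C
  haveI : Nonempty ↥(U : Scheme.{u}) := ⟨⟨_, hU.some_mem⟩⟩
  haveI : IsIntegral (U : Scheme.{u}) := isIntegral_of_isOpenImmersion U.ι
  obtain ⟨j, hj⟩ : ∃ j : (U : Scheme.{u}) ⟶ I.subscheme, j ≫ i = γ :=
    GrothLib.RedSub.exists_lift γ i (by rw [hri]; exact subset_closure)
  haveI : IrreducibleSpace ↥I.subscheme := by
    have hC : IsIrreducible (closure (Set.range γ)) := by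
      refine IsIrreducible.closure ?_
      rw [← Set.image_univ]
      exact (IrreducibleSpace.isIrreducible_univ ↥(U : Scheme.{u})).image γ γ.continuous.continuousOn
    haveI : IrreducibleSpace ↥(closure (Set.range γ)) := Subtype.irreducibleSpace hC
    have e : ↥I.subscheme ≃ₜ ↥(closure (Set.range γ)) :=
      i.isEmbedding.toHomeomorph.trans (Homeomorph.setCongr hri)
    exact { toPreirreducibleSpace := e.symm.surjective.preirreducibleSpace e.symm.continuous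
            toNonempty := ⟨j (Classical.arbitrary _)⟩ }
  haveI : IsIntegral I.subscheme := isIntegral_of_irreducibleSpace_of_isReduced _
  have hjg : j ≫ g = U.ι := by
    rw [show g = i ≫ pullback.fst pX pY from rfl, reassoc_of% hj]; exact pullback.lift_fst _ _ _
  have hjV : Set.range j ⊆ Set.range (g ⁻¹ᵁ U).ι := by
    rw [Scheme.Opens.range_ι]
    rintro _ ⟨a, rfl⟩
    show g (j a) ∈ U
    rw [← Scheme.Hom.comp_apply, hjg]
    exact a.2
  let j' := IsOpenImmersion.lift (g ⁻¹ᵁ U).ι j hjV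
  have hj'ι : j' ≫ (g ⁻¹ᵁ U).ι = j := IsOpenImmersion.lift_fac _ _ _
  have hj'g : j' ≫ (g ∣_ U) = 𝟙 _ := by
    rw [← cancel_mono U.ι, Category.assoc, morphismRestrict_ι, reassoc_of% hj'ι, hjg, Category.id_comp]
  haveI : IsSeparated g := inferInstanceAs (IsSeparated (i ≫ pullback.fst pX pY))
  haveI : LocallyOfFiniteType g := inferInstanceAs (LocallyOfFiniteType (i ≫ pullback.fst pX pY))
  haveI : IsSeparated (g ∣_ U) := inferInstance
  haveI : IsClosedImmersion (j' ≫ (g ∣_ U)) := by rw [hj'g]; infer_instance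
  haveI : IsClosedImmersion j' := IsClosedImmersion.of_comp j' (g ∣_ U)
  have hdense : closure (Set.range j) = Set.univ := by
    rw [i.isEmbedding.isInducing.closure_eq_preimage_closure_image, ← Set.range_comp,
      show ⇑i ∘ ⇑j = ⇑(j ≫ i) from funext fun _ => (Scheme.Hom.comp_apply j i _).symm, hj, ← hri,
      Set.preimage_range]
  haveI : AlgebraicGeometry.Surjective j' := ⟨fun p => by
    obtain ⟨C', hC', hC'e⟩ := isClosed_induced_iff.mp j'.isClosedEmbedding.isClosed_range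
    have hjC : Set.range j ⊆ C' := by
      rintro _ ⟨a, rfl⟩
      have : j' a ∈ Subtype.val ⁻¹' C' := hC'e.ge ⟨a, rfl⟩
      rw [← hj'ι, Scheme.Hom.comp_apply]
      exact this
    have : p.1 ∈ C' := by
      have h1 := hC'.closure_subset_iff.mpr hjC
      rw [hdense] at h1
      exact h1 (Set.mem_univ _)
    exact (hC'e.le this)⟩
  haveI : IsIso j' := isIso_of_isClosedImmersion_of_surjective j'
  haveI : IsIso (g ∣_ U) := by
    haveI : IsIso (j' ≫ (g ∣_ U)) := by rw [hj'g]; infer_instance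
    exact IsIso.of_isIso_comp_left j' _
  haveI hVne : Nonempty ↥(g ⁻¹ᵁ U : Scheme.{u}) := ⟨j' (Classical.arbitrary _)⟩
  obtain ⟨e, hb⟩ := GrothLib.Birat.birational_of_openImmersion g ⟨g ⁻¹ᵁ U,
    ⟨_, (Classical.arbitrary ↥(g ⁻¹ᵁ U : Scheme.{u})).2⟩, by rw [← morphismRestrict_ι]; infer_instance⟩
  obtain ⟨z', hz'⟩ : z ∈ Set.range i := by rw [hri]; exact hzΓ
  have hgz : g z' = x := by
    rw [show g = i ≫ pullback.fst pX pY from rfl, Scheme.Hom.comp_apply, hz', hz]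
  have hq : g.QuasiFiniteAt z' := by
    rw [Scheme.Hom.quasiFiniteAt_iff_isOpen_singleton_asFiber,
      ← (g.fiberHomeo (g z')).isOpen_image, Set.image_singleton, Scheme.Hom.asFiber,
      Homeomorph.apply_symm_apply]
    refine ⟨i ⁻¹' W, W.2.preimage i.continuous, ?_⟩
    ext ⟨q, hq⟩
    constructor
    · intro hqW
      have hq' : g q = x := (show g q = g z' from hq).trans hgz
      have h4 : i q ∈ (W : Set ↥(pullback pX pY)) ∩ closure (Set.range γ) ∩
          (pullback.fst pX pY) ⁻¹' {x} :=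
        ⟨⟨hqW, hri.le ⟨q, rfl⟩⟩, by
          show pullback.fst pX pY (i q) = x
          rw [← Scheme.Hom.comp_apply]; exact hq'⟩
      rw [hW] at h4
      exact Subtype.ext (i.isEmbedding.injective (h4.trans hz'.symm))
    · intro hqz
      obtain rfl : q = z' := congrArg Subtype.val hqz
      show i q ∈ W
      rw [hz']
      exact (hW.ge rfl).1.1
  haveI : IsIntegrallyClosed (X.presheaf.stalk (g z')) := by rw [hgz]; infer_instance
  obtain ⟨D, hD, hDiso⟩ := GrothLib.Birat.exists_isIso_morphismRestrict g e hb z' hq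
  rw [hgz] at hD
  refine ⟨D, inv (g ∣_ D) ≫ (g ⁻¹ᵁ D).ι ≫ i ≫ pullback.snd pX pY, hD, ?_, ?_⟩
  · rw [Category.assoc, Category.assoc, Category.assoc, ← pullback.condition]
    rw [IsIso.inv_comp_eq, morphismRestrict_ι_assoc]
    simp [g]
  · let b : (↑(U ⊓ D) : Scheme.{u}) ⟶ I.subscheme :=
      X.homOfLE (inf_le_left : U ⊓ D ≤ U) ≫ j
    have hbg : b ≫ g = (U ⊓ D).ι := by simp [b, hjg]
    have hbr : Set.range b ⊆ Set.range (g ⁻¹ᵁ D).ι := by
      rw [Scheme.Opens.range_ι]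
      rintro _ ⟨a, rfl⟩
      show g (b a) ∈ D
      rw [← Scheme.Hom.comp_apply, hbg]
      exact a.2.2
    let b' := IsOpenImmersion.lift (g ⁻¹ᵁ D).ι b hbr
    have hb'ι : b' ≫ (g ⁻¹ᵁ D).ι = b := IsOpenImmersion.lift_fac _ _ _
    have hb'g : b' ≫ (g ∣_ D) = X.homOfLE (inf_le_right : U ⊓ D ≤ D) := by
      rw [← cancel_mono D.ι, Category.assoc, morphismRestrict_ι, reassoc_of% hb'ι, hbg,
        Scheme.homOfLE_ι]
    rw [← hb'g, Category.assoc, IsIso.hom_inv_id_assoc, reassoc_of% hb'ι]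
    simp only [b, Category.assoc]
    rw [reassoc_of% hj]
    congr 1
    exact pullback.lift_snd _ _ _

/-- Let X be a locally integral S-scheme, Y an S-scheme locally of finite type and separated over S, and
h : U → Y an S-morphism on a dense open subset (a rational S-map ω). Let Γ be the closure in X ×_S Y
of the graph of h and p : Γ → X the projection. If x is a point of X whose local ring is integrally
closed and the fibre p⁻¹(x) contains an isolated point, then ω is defined at x: some S-morphism from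
an open neighbourhood of x to Y agrees with h on U. -/
theorem result {X Y S : Scheme.{u}} (pX : X ⟶ S) (pY : Y ⟶ S)
    [LocallyOfFiniteType pY] [IsSeparated pY] (hX : ∀ y : ↥X, ∃ W : X.Opens, y ∈ W ∧ IsIntegral (W : Scheme.{u}))
    (U : X.Opens) (hU : Dense (U : Set ↥X)) (h : (U : Scheme.{u}) ⟶ Y) (hh : U.ι ≫ pX = h ≫ pY)
    (x : ↥X) (hx : IsIntegrallyClosed (X.presheaf.stalk x))
    (z : ↥(pullback pX pY)) (hz : pullback.fst pX pY z = x)
    (hzΓ : z ∈ closure (Set.range (pullback.lift U.ι h hh)))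
    (hiso : ∃ W : (pullback pX pY).Opens, (W : Set ↥(pullback pX pY)) ∩ closure (Set.range (pullback.lift U.ι h hh)) ∩
      (pullback.fst pX pY) ⁻¹' {x} = {z}) :
    ∃ (V : X.Opens) (v : (V : Scheme.{u}) ⟶ Y), x ∈ V ∧ v ≫ pY = V.ι ≫ pX ∧
      X.homOfLE (inf_le_right : U ⊓ V ≤ V) ≫ v = X.homOfLE (inf_le_left : U ⊓ V ≤ U) ≫ h := by
  obtain ⟨W0, hxW, hW0⟩ : ∃ W : X.Opens, x ∈ W ∧ IsIntegral (W : Scheme.{u}) := hX x
  haveI := hW0
  obtain ⟨Wz, hWz⟩ := hiso
  let m : pullback (W0.ι ≫ pX) pY ⟶ pullback pX pY :=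
    pullback.map _ _ _ _ W0.ι (𝟙 Y) (𝟙 S) (by simp) (by simp)
  have hm1 : m ≫ pullback.fst pX pY = pullback.fst (W0.ι ≫ pX) pY ≫ W0.ι := pullback.lift_fst _ _ _
  have hm2 : m ≫ pullback.snd pX pY = pullback.snd (W0.ι ≫ pX) pY :=
    (pullback.lift_snd _ _ _).trans (Category.comp_id _)
  haveI : IsOpenImmersion m := inferInstanceAs (IsOpenImmersion (pullback.map _ _ _ _ _ _ _ _ _))
  let h' : (↑(W0.ι ⁻¹ᵁ U) : Scheme.{u}) ⟶ Y := (W0.ι ∣_ U) ≫ h
  have hh' : (W0.ι ⁻¹ᵁ U).ι ≫ W0.ι ≫ pX = h' ≫ pY := by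
    simp only [h', Category.assoc, ← hh, morphismRestrict_ι_assoc]
  let γ := pullback.lift U.ι h hh
  let γ' := pullback.lift (W0.ι ⁻¹ᵁ U).ι h' hh'
  have hγ : γ' ≫ m = (W0.ι ∣_ U) ≫ γ := by
    apply pullback.hom_ext
    · rw [Category.assoc, hm1, pullback.lift_fst_assoc, Category.assoc, pullback.lift_fst,
        morphismRestrict_ι]
    · rw [Category.assoc, hm2, pullback.lift_snd, Category.assoc, pullback.lift_snd]
  have hrange : Set.range γ' = ⇑m ⁻¹' Set.range γ := by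
    apply Set.Subset.antisymm
    · rintro _ ⟨q, rfl⟩
      exact ⟨(W0.ι ∣_ U) q, by rw [← Scheme.Hom.comp_apply, ← hγ, Scheme.Hom.comp_apply]⟩
    · rintro p ⟨u₀, hu₀⟩
      have hu : (U.ι u₀) ∈ W0 := by
        have h1 : pullback.fst pX pY (γ u₀) = U.ι u₀ := by
          rw [← Scheme.Hom.comp_apply, pullback.lift_fst]
        rw [hu₀, ← Scheme.Hom.comp_apply, hm1, Scheme.Hom.comp_apply] at h1
        rw [← h1]
        exact (pullback.fst (W0.ι ≫ pX) pY p).2
      let q : ↥(↑(W0.ι ⁻¹ᵁ U) : Scheme.{u}) := ⟨⟨U.ι u₀, hu⟩, u₀.2⟩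
      have hq : (W0.ι ∣_ U) q = u₀ := U.ι.isOpenEmbedding.injective (by
        rw [← Scheme.Hom.comp_apply, morphismRestrict_ι, Scheme.Hom.comp_apply]; rfl)
      refine ⟨q, m.isOpenEmbedding.injective ?_⟩
      rw [← Scheme.Hom.comp_apply, hγ, Scheme.Hom.comp_apply, hq, hu₀]
  have hclos : closure (Set.range γ') = ⇑m ⁻¹' closure (Set.range γ) := by
    rw [m.isOpenEmbedding.isOpenMap.preimage_closure_eq_closure_preimage m.continuous, hrange]
  obtain ⟨z', hz'⟩ : z ∈ Set.range m := by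
    have : z ∈ Set.range (pullback.map (W0.ι ≫ pX) pY pX pY W0.ι (𝟙 Y) (𝟙 S) (by simp) (by simp)) := by
      rw [Scheme.Pullback.range_map]
      refine ⟨?_, ⟨pullback.snd pX pY z, by simp⟩⟩
      show pullback.fst pX pY z ∈ Set.range W0.ι
      rw [Scheme.Opens.range_ι, hz]
      exact hxW
    exact this
  have hfz : ∀ q, pullback.fst pX pY (m q) = W0.ι (pullback.fst (W0.ι ≫ pX) pY q) := fun q => by
    rw [← Scheme.Hom.comp_apply, hm1, Scheme.Hom.comp_apply]
  have hne : ((W0.ι ⁻¹ᵁ U : (W0 : Scheme.{u}).Opens) : Set W0).Nonempty := by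
    obtain ⟨y, hy1, hy2⟩ := hU.inter_open_nonempty W0 W0.2 ⟨x, hxW⟩
    exact ⟨⟨y, hy1⟩, hy2⟩
  haveI : IsIntegrallyClosed ((W0 : Scheme.{u}).presheaf.stalk ⟨x, hxW⟩) :=
    haveI := hx
    IsIntegrallyClosed.of_equiv (W0.stalkIso ⟨x, hxW⟩).commRingCatIsoToRingEquiv.symm
  have hz'x : pullback.fst (W0.ι ≫ pX) pY z' = ⟨x, hxW⟩ := W0.ι.isOpenEmbedding.injective (by
    rw [← hfz, hz', hz]; rfl)
  obtain ⟨D, v, hxD, hv, hvh⟩ := aux (W0.ι ≫ pX) pY (W0.ι ⁻¹ᵁ U) hne h' hh' ⟨x, hxW⟩ z' hz'x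
    (by rw [hclos, Set.mem_preimage, hz']; exact hzΓ) (m ⁻¹ᵁ Wz) (by
      ext q
      constructor
      · rintro ⟨⟨h1, h2⟩, h3⟩
        rw [hclos] at h2
        have h4 : m q ∈ (Wz : Set ↥(pullback pX pY)) ∩ closure (Set.range γ) ∩
            (pullback.fst pX pY) ⁻¹' {x} :=
          ⟨⟨h1, h2⟩, by
            show pullback.fst pX pY (m q) = x
            rw [hfz, show pullback.fst (W0.ι ≫ pX) pY q = ⟨x, hxW⟩ from h3]; rfl⟩
        rw [hWz] at h4
        exact m.isOpenEmbedding.injective (h4.trans hz'.symm)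
      · rintro rfl
        have h4 : m q ∈ (Wz : Set ↥(pullback pX pY)) ∩ closure (Set.range γ) ∩
            (pullback.fst pX pY) ⁻¹' {x} := by rw [hWz]; exact hz'
        exact ⟨⟨h4.1.1, by rw [hclos]; exact h4.1.2⟩, hz'x⟩)
  refine ⟨W0.ι ''ᵁ D, (W0.ι.isoImage D).inv ≫ v, ⟨⟨x, hxW⟩, hxD, rfl⟩, ?_, ?_⟩
  · rw [Category.assoc, hv, Scheme.Hom.isoImage_inv_ι_assoc]
  · let k := X.homOfLE (inf_le_right : U ⊓ W0.ι ''ᵁ D ≤ W0.ι ''ᵁ D) ≫ (W0.ι.isoImage D).inv
    have hk : k ≫ D.ι ≫ W0.ι = (U ⊓ W0.ι ''ᵁ D).ι := by simp [k]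
    have hkU : Set.range (k ≫ D.ι) ⊆ (↑(W0.ι ⁻¹ᵁ U ⊓ D) : Set W0) := by
      rintro _ ⟨a, rfl⟩
      refine ⟨?_, ?_⟩
      · show W0.ι ((k ≫ D.ι) a) ∈ U
        rw [← Scheme.Hom.comp_apply, Category.assoc, hk]
        exact a.2.1
      · rw [Scheme.Hom.comp_apply]
        exact (k a).2
    let l := IsOpenImmersion.lift (W0.ι ⁻¹ᵁ U ⊓ D).ι (k ≫ D.ι) (by rwa [Scheme.Opens.range_ι])
    have hl : l ≫ (W0.ι ⁻¹ᵁ U ⊓ D).ι = k ≫ D.ι := IsOpenImmersion.lift_fac _ _ _
    have hl1 : l ≫ Scheme.homOfLE _ (inf_le_right : W0.ι ⁻¹ᵁ U ⊓ D ≤ D) = k := by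
      rw [← cancel_mono D.ι, Category.assoc, Scheme.homOfLE_ι, hl]
    have hl2 : l ≫ Scheme.homOfLE _ (inf_le_left : W0.ι ⁻¹ᵁ U ⊓ D ≤ W0.ι ⁻¹ᵁ U) ≫ (W0.ι ∣_ U) =
        X.homOfLE (inf_le_left : U ⊓ W0.ι ''ᵁ D ≤ U) := by
      rw [← cancel_mono U.ι, Category.assoc, Category.assoc, morphismRestrict_ι,
        Scheme.homOfLE_ι_assoc, reassoc_of% hl, hk, Scheme.homOfLE_ι]
    have h2 := congrArg (l ≫ ·) hvh
    simp only [h', reassoc_of% hl1] at h2
    rw [reassoc_of% hl2] at h2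
    rw [← h2]
    simp [k]


end Groth.Agent.S3836
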