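import Groth.Statements.S3837
import Groth.Agent.S3836
import Mathlib.AlgebraicGeometry.Morphisms.UniversallyOpen
import Mathlib.AlgebraicGeometry.PullbackCarrier
-- import your own Groth.Agent.* helpers here

set_option autoImplicit false
universe u
open CategoryTheory CategoryTheory.Limits AlgebraicGeometry TopologicalSpace
open Rat20

namespace Groth.Agent.S3837

/-- Let X be a normal S-scheme (locally integral with integrally closed local rings), Y an S-scheme
locally of finite type and separated over S, h : U → Y an S-morphism on a dense open subset (a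
rational S-map ω), and f : X' → X a morphism locally of finite type and universally open with X'
reduced, so that f⁻¹(U) is dense and ω ∘ f is defined. Then for x' in X' with image x, ω is defined
at x if and only if ω ∘ f is defined at x': some S-morphism on an open neighbourhood of x agrees
with h on U if and only if some S-morphism on an open neighbourhood of x' agrees with h ∘ f on the
preimage of U. -/
theorem result {X X' Y S : Scheme.{u}} (pX : X ⟶ S) (pY : Y ⟶ S)
    [LocallyOfFiniteType pY] [IsSeparated pY] (hX : ∀ y : ↥X, ∃ W : X.Opens, y ∈ W ∧ IsIntegral (W : Scheme.{u}))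
    (hXn : ∀ y : ↥X, IsIntegrallyClosed (X.presheaf.stalk y))
    (U : X.Opens) (hU : Dense (U : Set ↥X)) (h : (U : Scheme.{u}) ⟶ Y) (hh : h ≫ pY = U.ι ≫ pX)
    (f : X' ⟶ X) [LocallyOfFiniteType f] [UniversallyOpen f] [IsReduced X'] (x' : ↥X') :
    (∃ (V : X.Opens) (v : (V : Scheme.{u}) ⟶ Y), f x' ∈ V ∧ v ≫ pY = V.ι ≫ pX ∧
        X.homOfLE (inf_le_right : U ⊓ V ≤ V) ≫ v = X.homOfLE (inf_le_left : U ⊓ V ≤ U) ≫ h) ↔
      ∃ (V' : X'.Opens) (v' : (V' : Scheme.{u}) ⟶ Y), x' ∈ V' ∧ v' ≫ pY = V'.ι ≫ f ≫ pX ∧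
        X'.homOfLE (inf_le_right : f ⁻¹ᵁ U ⊓ V' ≤ V') ≫ v' =
          X'.homOfLE (inf_le_left : f ⁻¹ᵁ U ⊓ V' ≤ f ⁻¹ᵁ U) ≫ (f ∣_ U) ≫ h := by
  constructor
  · rintro ⟨V, v, hxV, hvS, hvh⟩
    refine ⟨f ⁻¹ᵁ V, (f ∣_ V) ≫ v, hxV, by rw [Category.assoc, hvS, morphismRestrict_ι_assoc], ?_⟩
    let d : (↑(f ⁻¹ᵁ U ⊓ f ⁻¹ᵁ V) : Scheme.{u}) ⟶ ↑(U ⊓ V) := f ∣_ (U ⊓ V)
    have h1 : X'.homOfLE (inf_le_right : f ⁻¹ᵁ U ⊓ f ⁻¹ᵁ V ≤ f ⁻¹ᵁ V) ≫ (f ∣_ V) =
        d ≫ X.homOfLE (inf_le_right : U ⊓ V ≤ V) := by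
      rw [← cancel_mono V.ι, Category.assoc, Category.assoc, morphismRestrict_ι,
        Scheme.homOfLE_ι_assoc, Scheme.homOfLE_ι]
      exact (morphismRestrict_ι f (U ⊓ V)).symm
    have h2 : X'.homOfLE (inf_le_left : f ⁻¹ᵁ U ⊓ f ⁻¹ᵁ V ≤ f ⁻¹ᵁ U) ≫ (f ∣_ U) =
        d ≫ X.homOfLE (inf_le_left : U ⊓ V ≤ U) := by
      rw [← cancel_mono U.ι, Category.assoc, Category.assoc, morphismRestrict_ι,
        Scheme.homOfLE_ι_assoc, Scheme.homOfLE_ι]
      exact (morphismRestrict_ι f (U ⊓ V)).symm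
    rw [reassoc_of% h1, hvh, reassoc_of% h2]
  · rintro ⟨V', v', hx', hv'S, hv'⟩
    let γ := pullback.lift U.ι h hh.symm
    have hγ : γ ≫ pullback.fst pX pY = U.ι := pullback.lift_fst _ _ _
    let π := pullback.snd f (pullback.fst pX pY)
    let ρ := pullback.fst f (pullback.fst pX pY)
    let p : (V' : Scheme.{u}) ⟶ pullback pX pY :=
      pullback.lift (V'.ι ≫ f) v' (by rw [Category.assoc, hv'S])
    let σ : (V' : Scheme.{u}) ⟶ pullback f (pullback.fst pX pY) :=
      pullback.lift V'.ι p (pullback.lift_fst _ _ _).symm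
    have hσρ : σ ≫ ρ = V'.ι := pullback.lift_fst _ _ _
    have hσπ : σ ≫ π = p := pullback.lift_snd _ _ _
    -- the preimage of the graph over `V'` lies in the graph of `v'`
    have hsub : ⇑π ⁻¹' Set.range γ ∩ ⇑ρ ⁻¹' (V' : Set ↥X') ⊆ Set.range σ := by
      rintro q ⟨hq, hqV⟩
      rw [← Scheme.Pullback.range_fst] at hq
      obtain ⟨r, rfl⟩ := hq
      let c := pullback.fst π γ ≫ ρ
      let R := c ⁻¹ᵁ V'
      have hrR : r ∈ R := by
        show c r ∈ V'
        rw [Scheme.Hom.comp_apply]; exact hqV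
      have hc : c ≫ f = pullback.snd π γ ≫ U.ι := by
        simp only [c, Category.assoc]
        rw [show ρ ≫ f = π ≫ pullback.fst pX pY from pullback.condition,
          pullback.condition_assoc, hγ]
      have hdr : Set.range (R.ι ≫ c) ⊆ Set.range (f ⁻¹ᵁ U ⊓ V').ι := by
        rw [Scheme.Opens.range_ι]
        rintro _ ⟨a, rfl⟩
        refine ⟨?_, ?_⟩
        · show f ((R.ι ≫ c) a) ∈ U
          rw [← Scheme.Hom.comp_apply, Category.assoc, hc, ← Category.assoc, Scheme.Hom.comp_apply]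
          exact ((R.ι ≫ pullback.snd π γ) a).2
        · rw [Scheme.Hom.comp_apply]; exact a.2
      let d := IsOpenImmersion.lift (f ⁻¹ᵁ U ⊓ V').ι (R.ι ≫ c) hdr
      have hd : d ≫ (f ⁻¹ᵁ U ⊓ V').ι = R.ι ≫ c := IsOpenImmersion.lift_fac _ _ _
      have hd1 : d ≫ X'.homOfLE (inf_le_right : f ⁻¹ᵁ U ⊓ V' ≤ V') = c ∣_ V' := by
        rw [← cancel_mono V'.ι, Category.assoc, Scheme.homOfLE_ι, hd, morphismRestrict_ι]
      have hd2 : d ≫ X'.homOfLE (inf_le_left : f ⁻¹ᵁ U ⊓ V' ≤ f ⁻¹ᵁ U) ≫ (f ∣_ U) =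
          R.ι ≫ pullback.snd π γ := by
        rw [← cancel_mono U.ι, Category.assoc, Category.assoc, morphismRestrict_ι,
          Scheme.homOfLE_ι_assoc, reassoc_of% hd, hc, Category.assoc]
      have heq : R.ι ≫ pullback.fst π γ = (c ∣_ V') ≫ σ := by
        apply pullback.hom_ext
        · rw [Category.assoc, Category.assoc, show σ ≫ pullback.fst f (pullback.fst pX pY) = V'.ι from hσρ,
            morphismRestrict_ι]
        · rw [Category.assoc, Category.assoc, show σ ≫ pullback.snd f (pullback.fst pX pY) = p from hσπ,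
            show pullback.fst π γ ≫ pullback.snd f (pullback.fst pX pY) = pullback.snd π γ ≫ γ from
              pullback.condition]
          apply pullback.hom_ext
          · simp only [Category.assoc, hγ, p, pullback.lift_fst, morphismRestrict_ι_assoc]
            rw [hc]
          · simp only [Category.assoc, γ, p, pullback.lift_snd]
            have h3 := congrArg (d ≫ ·) hv'
            simp only [reassoc_of% hd1, reassoc_of% hd2] at h3
            exact h3.symm
      refine ⟨(c ∣_ V') ⟨r, hrR⟩, ?_⟩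
      rw [← Scheme.Hom.comp_apply, ← heq, Scheme.Hom.comp_apply]
      rfl
    haveI : IsSeparated ρ := inferInstanceAs (IsSeparated (pullback.fst f (pullback.fst pX pY)))
    haveI : IsSeparated (ρ ∣_ V') := inferInstance
    have hσr : Set.range σ ⊆ Set.range (ρ ⁻¹ᵁ V').ι := by
      rw [Scheme.Opens.range_ι]
      rintro _ ⟨a, rfl⟩
      show ρ (σ a) ∈ V'
      rw [← Scheme.Hom.comp_apply, hσρ]
      exact a.2
    let σ' := IsOpenImmersion.lift (ρ ⁻¹ᵁ V').ι σ hσr
    have hσ'ι : σ' ≫ (ρ ⁻¹ᵁ V').ι = σ := IsOpenImmersion.lift_fac _ _ _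
    haveI : IsClosedImmersion σ' := by
      haveI : IsClosedImmersion (σ' ≫ (ρ ∣_ V')) := by
        have : σ' ≫ (ρ ∣_ V') = 𝟙 _ := by
          rw [← cancel_mono V'.ι, Category.assoc, morphismRestrict_ι, reassoc_of% hσ'ι, hσρ,
            Category.id_comp]
        rw [this]; infer_instance
      exact IsClosedImmersion.of_comp σ' (ρ ∣_ V')
    obtain ⟨C', hC', hC'e⟩ := isClosed_induced_iff.mp σ'.isClosedEmbedding.isClosed_range
    have hclC : closure (Set.range σ) ⊆ C' := by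
      refine hC'.closure_subset_iff.mpr ?_
      rintro _ ⟨a, rfl⟩
      rw [← hσ'ι, Scheme.Hom.comp_apply]
      exact (hC'e.ge ⟨a, rfl⟩ : σ' a ∈ Subtype.val ⁻¹' C')
    -- the whole fibre of the closure of the graph over `x` is one point
    let z' := σ ⟨x', hx'⟩
    have huniq : ∀ q, ρ q = x' → π q ∈ closure (Set.range γ) → q = z' := by
      intro q hqx hqc
      have hq1 : q ∈ closure (⇑π ⁻¹' Set.range γ) := by
        rw [← π.isOpenMap.preimage_closure_eq_closure_preimage π.continuous]; exact hqc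
      have hqV : q ∈ (ρ ⁻¹ᵁ V' : (pullback f (pullback.fst pX pY)).Opens) := by
        show ρ q ∈ V'
        rw [hqx]; exact hx'
      have hq2 : q ∈ closure (Set.range σ) := by
        refine closure_mono hsub ?_
        rw [Set.inter_comm]
        exact (ρ ⁻¹ᵁ V').2.inter_closure ⟨hqV, hq1⟩
      obtain ⟨a, ha⟩ := hC'e.le (show (⟨q, hqV⟩ : ↥(ρ ⁻¹ᵁ V')) ∈ Subtype.val ⁻¹' C' from hclC hq2)
      have hσa : σ a = q := by
        rw [← hσ'ι, Scheme.Hom.comp_apply, ha]; rfl
      have : a = ⟨x', hx'⟩ := by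
        refine V'.ι.isOpenEmbedding.injective ?_
        rw [← hσρ, Scheme.Hom.comp_apply, hσa, hqx]
        exact hσρ ▸ rfl
      rw [← hσa, this]
    have hρz : ρ z' = x' := by
      show ρ (σ _) = x'
      rw [← Scheme.Hom.comp_apply, hσρ]; rfl
    have hfz : pullback.fst pX pY (π z') = f x' := by
      rw [← Scheme.Hom.comp_apply, show π ≫ pullback.fst pX pY = ρ ≫ f from pullback.condition.symm,
        Scheme.Hom.comp_apply, hρz]
    have hzΓ : π z' ∈ closure (Set.range γ) := by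
      have hd : Dense ((f ⁻¹ᵁ U : X'.Opens) : Set ↥X') := hU.preimage f.isOpenMap
      have h1 : x' ∈ closure ((V' : Set ↥X') ∩ (f ⁻¹ᵁ U : X'.Opens)) :=
        V'.2.inter_closure ⟨hx', hd x'⟩
      have h2 : (⟨x', hx'⟩ : ↥(V' : Scheme.{u})) ∈ closure (⇑V'.ι ⁻¹' (f ⁻¹ᵁ U : X'.Opens)) := by
        rw [← V'.ι.isOpenEmbedding.isOpenMap.preimage_closure_eq_closure_preimage V'.ι.continuous]
        exact hd x'
      have hcont : Continuous ⇑(σ ≫ π) := (σ ≫ π).continuous
      have h3 := map_mem_closure (t := Set.range γ) hcont h2 (fun a ha => by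
        let b : ↥(↑(f ⁻¹ᵁ U ⊓ V') : Scheme.{u}) := ⟨a.1, ha, a.2⟩
        have e : X'.homOfLE (inf_le_right : f ⁻¹ᵁ U ⊓ V' ≤ V') ≫ p =
            X'.homOfLE (inf_le_left : f ⁻¹ᵁ U ⊓ V' ≤ f ⁻¹ᵁ U) ≫ (f ∣_ U) ≫ γ := by
          apply pullback.hom_ext
          · simp only [Category.assoc, p, pullback.lift_fst, hγ, morphismRestrict_ι,
              Scheme.homOfLE_ι_assoc]
          · simp only [Category.assoc, p, γ, pullback.lift_snd]
            exact hv'
        have ea : a = X'.homOfLE (inf_le_right : f ⁻¹ᵁ U ⊓ V' ≤ V') b :=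
          V'.ι.isOpenEmbedding.injective (by
            rw [← Scheme.Hom.comp_apply, Scheme.homOfLE_ι]; rfl)
        refine ⟨(f ∣_ U) (X'.homOfLE (inf_le_left : f ⁻¹ᵁ U ⊓ V' ≤ f ⁻¹ᵁ U) b), ?_⟩
        rw [hσπ, ea, ← Scheme.Hom.comp_apply, ← Scheme.Hom.comp_apply, ← Scheme.Hom.comp_apply, e])
      rw [Scheme.Hom.comp_apply] at h3
      exact h3
    refine Groth.Agent.S3836.result pX pY hX U hU h hh.symm (f x') (hXn _) (π z') hfz hzΓ ⟨⊤, ?_⟩
    ext q
    constructor
    · rintro ⟨⟨-, hqc⟩, hqx⟩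
      obtain ⟨q', hq'1, hq'2⟩ := Scheme.Pullback.exists_preimage_pullback
        (f := f) (g := pullback.fst pX pY) x' q (show f x' = pullback.fst pX pY q from hqx.symm)
      have hq' : π q' = q := hq'2
      rw [← hq', huniq q' hq'1 (by rw [hq']; exact hqc)]
      rfl
    · rintro rfl
      exact ⟨⟨trivial, hzΓ⟩, hfz⟩


end Groth.Agent.S3837
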