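import Groth.Statements.S3840
-- import your own Groth.Agent.* helpers here
import Groth.Agent.Lib.LBDesc26.Main

set_option autoImplicit false
universe u
open CategoryTheory CategoryTheory.Limits AlgebraicGeometry TopologicalSpace
open Div21

set_option backward.isDefEq.respectTransparency false
set_option linter.style.haveILetI false

noncomputable section

open GrothLib

namespace Groth.Agent.S3840

/-- Let f : X → Y be a faithfully flat morphism between locally Noetherian schemes, with f quasi-compact
or open; assume Y is normal and that the fibre X_y is integral whenever y is a point of Y whose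
local ring has dimension 1. If L is an invertible O_X-module whose restriction to X_η is isomorphic
to O_{X_η} for each maximal point η of Y, then L ≅ f^*(M) for some invertible O_Y-module M. -/
theorem result {X Y : Scheme.{u}} [IsLocallyNoetherian X]
    [IsLocallyNoetherian Y] (f : X ⟶ Y) [Flat f] [Surjective f] (hf : QuasiCompact f ∨ IsOpenMap f)
    (hY : Pi1.IsNormalScheme Y)
    (hfib : ∀ y : ↥Y, ringKrullDim ↑(Y.presheaf.stalk y) = 1 → IsIntegral (f.fiber y))
    (L : X.Modules) (hL : PicF.IsInvertible L)
    (htriv : ∀ η : ↥Y, (∀ z : ↥Y, z ⤳ η → z = η) →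
      Nonempty ((Scheme.Modules.pullback (f.fiberι η)).obj L ≅ Coh.structureModule (f.fiber η))) :
    ∃ M : Y.Modules, PicF.IsInvertible M ∧ Nonempty ((Scheme.Modules.pullback f).obj M ≅ L) := by
  obtain ⟨c, ⟨e⟩⟩ := GrothLib.Ample.exists_cocycle hL
  obtain ⟨d, hd⟩ := GrothLib.LBDesc26.exists_pull_eq hY hfib hf c fun η hη => by
    obtain ⟨i⟩ := htriv η hη
    have h1 := (GrothLib.Cube.clsMod_eq_one_iff (GrothLib.Ample.isInvertible_pullback (f.fiberι η) hL)).2 ⟨i⟩
    rw [GrothLib.Cube.clsMod_pullback (f.fiberι η) hL, GrothLib.Cube.clsMod_eq hL e, GrothLib.Cube.pull_cls,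
      GrothLib.Cube.cls_eq_one_iff] at h1
    exact h1
  have hM := d.isInvertible_twist 1
  refine ⟨d.twist 1, hM, (GrothLib.Cube.clsMod_eq_iff (GrothLib.Ample.isInvertible_pullback f hM) hL).1 ?_⟩
  rw [GrothLib.Cube.clsMod_pullback f hM, GrothLib.Cube.clsMod_eq hM (Iso.refl _), GrothLib.Cube.clsMod_eq hL e,
    GrothLib.Cube.pull_cls]
  exact Quotient.sound hd

end Groth.Agent.S3840
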