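import Groth.Statements.S3841
import Groth.Agent.Lib.FacDiv.Principal
import Groth.Agent.Lib.InvExt.ExtendMain
import Groth.Agent.S16087
set_option backward.isDefEq.respectTransparency false
set_option backward.isDefEq.respectTransparency.types false


set_option autoImplicit false
universe u
open CategoryTheory CategoryTheory.Limits AlgebraicGeometry TopologicalSpace
open Div21

namespace Groth.Agent.S3841

/-- Let X be a Noetherian (locally Noetherian and quasi-compact) integral scheme; points of codimension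
1 are the points of coheight 1 in the specialization order. The following are equivalent. (1) For
every point ζ of codimension 1 there is a global section g of O_X cutting out the closure of ζ with
its reduced structure: at each specialization x of ζ the ideal of that closure in O_{X,x} (the prime
ideal of O_{X,x} corresponding to ζ, the preimage of the maximal ideal of O_{X,ζ}) is generated by
the germ of g, and g is invertible at the points outside the closure. (2) X is normal and every
prime cycle of codimension 1 is principal: for every point x₀ of codimension 1 there is a nonzero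
rational function with order of vanishing 1 at x₀ and 0 at every other point of codimension 1. (3)
Every local ring of X is a unique factorisation domain and every invertible O_X-module is trivial.
(4) X is normal and for every open subset U of X every invertible O_U-module is trivial. (The
published statement assumes X only locally Noetherian; quasi-compactness, which its published proof
uses, is added here.) -/
theorem result (X : Scheme.{u}) [IsIntegral X]
    [IsLocallyNoetherian X] [CompactSpace X] :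
    List.TFAE [
      ∀ ζ : ↥X, Order.coheight ζ = 1 → ∃ g : Γ(X, ⊤),
        (∀ (x : ↥X) (h : ζ ⤳ x),
          (IsLocalRing.maximalIdeal ↑(X.presheaf.stalk ζ)).comap (X.presheaf.stalkSpecializes h).hom =
            Ideal.span {X.presheaf.germ ⊤ x trivial g}) ∧
        ∀ x : ↥X, ¬ ζ ⤳ x → IsUnit (X.presheaf.germ ⊤ x trivial g),
      Pi1.IsNormalScheme X ∧ ∀ x₀ : ↥X, Order.coheight x₀ = 1 → ∃ f : ↑X.functionField, f ≠ 0 ∧
        Scheme.ord f x₀ = 1 ∧ ∀ x : ↥X, x ≠ x₀ → Order.coheight x = 1 → Scheme.ord f x = 0,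
      (∀ x : ↥X, UniqueFactorizationMonoid ↑(X.presheaf.stalk x)) ∧
        ∀ L : X.Modules, PicF.IsInvertible L → Nonempty (L ≅ Coh.structureModule X),
      Pi1.IsNormalScheme X ∧ ∀ (U : X.Opens) (L : (U : Scheme.{u}).Modules),
        PicF.IsInvertible L → Nonempty (L ≅ Coh.structureModule (U : Scheme.{u}))] := by
  classical
  tfae_have 1 → 2 := by
    intro h
    have hufd : ∀ x : X, UniqueFactorizationMonoid (X.presheaf.stalk x) := fun x =>
      GrothLib.FacDiv.ufd_of_principal fun y hyx hy => by
        obtain ⟨g, hg, -⟩ := h y hy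
        exact ⟨_, hg x hyx⟩
    have hX := GrothLib.FacDiv.isNormalScheme_of_ufd hufd
    refine ⟨hX, fun x₀ hx₀ => ?_⟩
    obtain ⟨g, hg, hgu⟩ := h x₀ hx₀
    have hspan : IsLocalRing.maximalIdeal (X.presheaf.stalk x₀) = Ideal.span {X.presheaf.germ ⊤ x₀ trivial g} := by
      have := hg x₀ (specializes_refl x₀)
      rw [TopCat.Presheaf.stalkSpecializes_refl] at this
      rw [← this]
      exact (Ideal.comap_id _).symm
    obtain ⟨h0, h1⟩ := GrothLib.FacDiv.ordg_eq_one_of_span hX hx₀ hspan
    rw [GrothLib.Ref1.spR_germ] at h1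
    refine ⟨X.presheaf.germ ⊤ (genericPoint X) trivial g, ?_, h1, fun x hne hx => ?_⟩
    · have := (GrothLib.Ref1.isUnit_spR h0).ne_zero
      rwa [GrothLib.Ref1.spR_germ] at this
    · have hn : ¬ x₀ ⤳ x := fun hs => hne (GrothLib.Ref1.eq_of_specializes_coheight_one hx hs
        (GrothLib.Ref1.ne_genericPoint_of_coheight_one hx₀)).symm
      have hz := GrothLib.Ref1.ord_spR_of_isUnit (hgu x hn)
      rwa [GrothLib.Ref1.spR_germ] at hz
  tfae_have 2 → 1 := by
    rintro ⟨hX, h⟩ ζ hζ
    obtain ⟨f, hf0, hf1, hf⟩ := h ζ hζ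
    have hnn : ∀ y : X, Order.coheight y = 1 → 0 ≤ Scheme.ord f y := fun y hy => by
      by_cases hyζ : y = ζ
      · rw [hyζ, hf1]; omega
      · rw [hf y hyζ hy]
    obtain ⟨g, hg⟩ := GrothLib.FacDiv.exists_global_section (f : X.presheaf.stalk (genericPoint X)) fun y =>
      GrothLib.FacDiv.exists_spR_eq_of_forall_ord_nonneg hX y hf0 fun z _ hz => hnn z hz
    refine ⟨g, fun x hx => le_antisymm (fun b hb => ?_) ((Ideal.span_singleton_le_iff_mem _).2 ?_), fun x hx => ?_⟩
    · rw [Ideal.mem_span_singleton]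
      by_cases hb0 : b = 0
      · rw [hb0]; exact dvd_zero _
      obtain ⟨q, hq⟩ := (GrothLib.Ref1.isUnit_of_ne_zero hf0).exists_left_inv
      have hq0 : q ≠ 0 := left_ne_zero_of_mul_eq_one hq
      obtain ⟨r, hr⟩ := GrothLib.FacDiv.exists_spR_eq_of_forall_ord_nonneg hX x
        (mul_ne_zero hq0 (GrothLib.Ref1.isUnit_spR hb0).ne_zero) fun z hzx hz => by
        have hqz := congrArg (fun t => GrothLib.FacDiv.ordg t z) hq
        rw [GrothLib.FacDiv.ordg_mul hq0 hf0, GrothLib.FacDiv.ordg_one] at hqz
        rw [GrothLib.FacDiv.ordg_mul hq0 (GrothLib.Ref1.isUnit_spR hb0).ne_zero,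
          ← GrothLib.Ref1.spR_spR (GrothLib.Ref1.hη z) hzx b]
        by_cases hzζ : z = ζ
        · subst hzζ
          have hf1' : GrothLib.FacDiv.ordg f z = 1 := hf1
          have hb1 : 1 ≤ GrothLib.FacDiv.ordg (GrothLib.Ref1.spR (GrothLib.Ref1.hη z) (GrothLib.Ref1.spR hzx b)) z := by
            refine GrothLib.FacDiv.one_le_ordg hX hz (fun e => (GrothLib.Ref1.isUnit_spR hb0).ne_zero ?_) hb
            rw [← GrothLib.Ref1.spR_spR (GrothLib.Ref1.hη z) hzx b, e, map_zero]
          omega
        · have hfz : GrothLib.FacDiv.ordg f z = 0 := hf z hzζ hz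
          have := GrothLib.FacDiv.ordg_spR_nonneg hz (GrothLib.Ref1.spR hzx b)
          omega
      refine ⟨r, GrothLib.Ref1.spR_injective x ?_⟩
      rw [map_mul, hg, hr, ← mul_assoc, mul_comm _ q, hq, one_mul]
    · intro hu
      have e : GrothLib.Ref1.spR (GrothLib.Ref1.hη ζ) ((X.presheaf.stalkSpecializes hx).hom (X.presheaf.germ ⊤ x trivial g)) = f :=
        (GrothLib.Ref1.spR_spR (GrothLib.Ref1.hη ζ) hx _).trans (hg x)
      have hz := GrothLib.Ref1.ord_spR_of_isUnit hu
      rw [e, hf1] at hz
      exact one_ne_zero hz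
    · obtain ⟨a, ha, hae⟩ := GrothLib.FacDiv.exists_isUnit_of_forall_ord_zero hX x hf0
        fun z hzx hz => hf z (fun e => hx (e ▸ hzx)) hz
      rwa [← GrothLib.Ref1.spR_injective x (hae.trans (hg x).symm)]
  tfae_have 2 → 3 := by
    rintro ⟨hX, h⟩
    refine ⟨fun x => GrothLib.FacDiv.uniqueFactorizationMonoid_of_ord hX fun y _ hy => ?_,
      fun L hL => GrothLib.FacDiv.nonempty_iso_of_principal hX (fun y hy => ?_) hL⟩
    · obtain ⟨f, hf0, hf1, hf⟩ := h y hy
      exact ⟨f, hf0, hf1, fun z _ hz hne => hf z hne hz⟩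
    · obtain ⟨f, hf0, hf1, hf⟩ := h y hy
      exact ⟨f, hf0, hf1, hf⟩
  tfae_have 3 → 4 := by
    rintro ⟨hufd, hpic⟩
    refine ⟨GrothLib.FacDiv.isNormalScheme_of_ufd hufd, fun U L hL => ?_⟩
    obtain ⟨L', hL', ⟨e⟩⟩ := GrothLib.InvExt.exists_extension X U L hL fun x _ => hufd x
    obtain ⟨φ⟩ := hpic L' hL'
    exact ⟨e.symm ≪≫ (Scheme.Modules.restrictFunctor U.ι).mapIso φ ≪≫ Scheme.Modules.restrictUnitIso U.ι⟩
  tfae_have 4 → 2 := by
    rintro ⟨hX, h⟩
    refine ⟨hX, fun x₀ hx₀ => ?_⟩
    let D : AlgebraicCycle X ℤ := ⟨fun z => if z = x₀ then 1 else 0, by simp, fun z _ =>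
      ⟨Set.univ, Filter.univ_mem, (Set.finite_singleton x₀).subset fun w hw => by
        by_contra hne
        exact hw.2 (if_neg hne)⟩⟩
    obtain ⟨F, hF, s, hs, hsD⟩ := (Groth.Agent.S16087.result X hX).2 D
      fun z hz => if_neg fun e => hz (by rw [e]; exact hx₀)
    obtain ⟨v, rfl⟩ := GrothLib.Ref1.exists_eq_mk s
    have hv : v ≠ 0 := fun e => hs (by rw [e]; exact Submodule.Quotient.mk_zero _)
    obtain ⟨c, hc0, hc⟩ := GrothLib.FacDiv.exists_ord_of_forall_trivial hX h hF hv
    exact ⟨c, hc0, (hc x₀ hx₀).trans ((hsD x₀ hx₀).symm.trans (if_pos rfl)),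
      fun x hne hx => (hc x hx).trans ((hsD x hx).symm.trans (if_neg hne))⟩
  tfae_finish

end Groth.Agent.S3841
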