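import Groth.Statements.S3844
import Mathlib.AlgebraicGeometry.Morphisms.SchemeTheoreticallyDominant
import Mathlib.AlgebraicGeometry.Noetherian
-- import your own Groth.Agent.* helpers here

set_option autoImplicit false
universe u
open CategoryTheory CategoryTheory.Limits AlgebraicGeometry TopologicalSpace
open Rat20

namespace Groth.Agent.S3844

theorem map_injective_iff {X : Scheme.{u}} {A B U : X.Opens} (hA : A ≤ U) (hB : B ≤ U) (h : A = B) :
    Function.Injective (X.presheaf.map (homOfLE hA).op) ↔
      Function.Injective (X.presheaf.map (homOfLE hB).op) := by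
  subst h; rfl

theorem app_injective_iff {X : Scheme.{u}} (V U : X.Opens) :
    Function.Injective (V.ι.app U) ↔
      Function.Injective (X.presheaf.map (homOfLE (inf_le_left : U ⊓ V ≤ U)).op) := by
  rw [Scheme.Opens.ι_app]
  exact map_injective_iff (V.ι.image_preimage_le U) inf_le_left (by
    rw [Scheme.Hom.image_preimage_eq_opensRange_inf, Scheme.Opens.opensRange_ι, inf_comm])

/-- For the open subset U = X: let f : X' → X be flat with X locally Noetherian. Then for every
schematically dense open subset V of X, the preimage f⁻¹(V) is schematically dense in X'. -/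
theorem result {X X' : Scheme.{u}} (f : X' ⟶ X) [Flat f]
    [IsLocallyNoetherian X] (V : X.Opens) (hV : CInt.IsSchematicallyDense V) :
    CInt.IsSchematicallyDense (f ⁻¹ᵁ V) := by
  have : IsSchemeTheoreticallyDominant V.ι := by
    rw [isSchemeTheoreticallyDominant_iff, ← le_bot_iff]
    intro U
    have h := (app_injective_iff V U.1).mpr (hV U.1)
    rw [Scheme.Hom.ker_apply, RingHom.injective_iff_ker_eq_bot _ |>.mp h]
    simp
  have hsd : IsSchemeTheoreticallyDominant (f ⁻¹ᵁ V).ι :=
    IsSchemeTheoreticallyDominant.of_isPullback (isPullback_morphismRestrict f V)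
  have : QuasiCompact (f ⁻¹ᵁ V).ι :=
    MorphismProperty.of_isPullback (isPullback_morphismRestrict f V) (inferInstanceAs (QuasiCompact V.ι))
  intro W
  exact (app_injective_iff (f ⁻¹ᵁ V) W).mp (Scheme.Hom.app_injective _ W)

end Groth.Agent.S3844
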