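import Groth.Statements.S3846
import Groth.Agent.Lib.EtLocal.LocalIso
-- import your own Groth.Agent.* helpers here

set_option autoImplicit false
set_option backward.isDefEq.respectTransparency false
universe u
open CategoryTheory CategoryTheory.Limits AlgebraicGeometry TopologicalSpace
open Unram17

namespace Groth.Agent.S3846

/-- a) iff b''): let f : X → Y be locally of finite presentation and x a point of X. Then f is
unramified on some open neighbourhood of x if and only if, for every base change g : Y' → Y and
every section s' of X ×_Y Y' → Y', s' is a local isomorphism at every point y' of Y' such that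
s'(y') lies over x. -/
theorem result {X Y : Scheme.{u}} (f : X ⟶ Y) [LocallyOfFinitePresentation f]
    (x : ↥X) :
    (∃ U : X.Opens, x ∈ U ∧ FormallyUnramified (U.ι ≫ f)) ↔
      ∀ (Y' : Scheme.{u}) (g : Y' ⟶ Y) (s' : Y' ⟶ pullback f g), s' ≫ pullback.snd f g = 𝟙 Y' →
        ∀ y' : ↥Y', pullback.fst f g (s' y') = x → SchLoc.IsLocalIsoAt s' y' := by
  refine ⟨fun ⟨U, hx, hU⟩ Y' g s' hs' y' hy' => ?_, fun h => ?_⟩
  · haveI := hU
    let W : (pullback f g).Opens := pullback.fst f g ⁻¹ᵁ U
    let h' : W.toScheme ⟶ Y' := W.ι ≫ pullback.snd f g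
    haveI : FormallyUnramified h' := by
      have h1 := (isPullback_morphismRestrict (pullback.fst f g) U).paste_vert
        (IsPullback.of_hasPullback f g).flip.flip
      exact MorphismProperty.of_isPullback (P := @FormallyUnramified) h1 hU
    let V : Y'.Opens := s' ⁻¹ᵁ W
    refine ⟨V, by show pullback.fst f g (s' y') ∈ U; rw [hy']; exact hx, ?_⟩
    haveI : IsOpenImmersion ((s' ∣_ W) ≫ h') := by
      rw [show (s' ∣_ W) ≫ h' = V.ι by
        simp only [h', morphismRestrict_ι_assoc, hs', Category.comp_id]; rfl]
      infer_instance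
    haveI := GrothLib.EtLocal.isOpenImmersion_of_comp_unramified (s' ∣_ W) h'
    rw [show V.ι ≫ s' = (s' ∣_ W) ≫ W.ι from (morphismRestrict_ι s' W).symm]
    infer_instance
  · exact GrothLib.EtLocal.exists_unramified_of_isLocalIsoAt_diagonal f
      (h X f (pullback.diagonal f) (pullback.diagonal_snd f) x
        (by rw [← Scheme.Hom.comp_apply, pullback.diagonal_fst]; rfl))

end Groth.Agent.S3846
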