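import Groth.Statements.S3848
import Groth.Agent.S3836
import Groth.Agent.Lib.Rat20Ext.Basic
import Groth.Agent.Lib.RedSub.Basic
-- import your own Groth.Agent.* helpers here

set_option autoImplicit false
universe u
open CategoryTheory CategoryTheory.Limits AlgebraicGeometry TopologicalSpace
open Rat20

namespace Groth.Agent.S3848

/-- In the case S = X (valuative criterion for a rational map to be defined at a point): let X be a
locally Noetherian scheme, q : Y → X a morphism locally of finite type, U a dense open subset of X,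
h : U → Y a section of q over U, x a point of X outside U whose local ring is an integrally closed
domain, and y₀ a point of Y over x with trivial residue field extension (an X-morphism Spec k(x) →
Y). Then h extends to a section h' of q over an open subset U' containing U and x with h'(x) = y₀ if
and only if: for every discrete valuation ring R and every morphism u : Spec R → X sending the
closed point to x and the generic point into U, there is a morphism h₁ : Spec R → Y over X sending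
the closed point to y₀ and agreeing with h at the generic point. -/
theorem result {X Y : Scheme.{u}} [IsLocallyNoetherian X] (q : Y ⟶ X)
    [LocallyOfFiniteType q] (U : X.Opens) (hU : Dense (U : Set ↥X)) (h : (U : Scheme.{u}) ⟶ Y)
    (hh : h ≫ q = U.ι) (x : ↥X) (hxU : x ∉ U) [IsDomain ↑(X.presheaf.stalk x)]
    (hx : IsIntegrallyClosed ↑(X.presheaf.stalk x)) (y₀ : ↥Y) (hy₀ : q y₀ = x)
    (hk : Function.Bijective (q.residueFieldMap y₀)) :
    (∃ (U' : X.Opens) (hUU' : U ≤ U') (hxU' : x ∈ U') (h' : (U' : Scheme.{u}) ⟶ Y),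
        h' ≫ q = U'.ι ∧ X.homOfLE hUU' ≫ h' = h ∧ h' ⟨x, hxU'⟩ = y₀) ↔
      ∀ (R : Type u) [CommRing R] [IsDomain R] [IsDiscreteValuationRing R]
        (u : Spec (CommRingCat.of R) ⟶ X), u (IsLocalRing.closedPoint R) = x →
        ∀ ub : Spec (CommRingCat.of (FractionRing R)) ⟶ (U : Scheme.{u}),
          ub ≫ U.ι = Spec.map (CommRingCat.ofHom (algebraMap R (FractionRing R))) ≫ u →
          ∃ h₁ : Spec (CommRingCat.of R) ⟶ Y, h₁ ≫ q = u ∧ h₁ (IsLocalRing.closedPoint R) = y₀ ∧
            Spec.map (CommRingCat.ofHom (algebraMap R (FractionRing R))) ≫ h₁ = ub ≫ h := by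
  constructor
  · rintro ⟨U', hUU', hxU', h', hh', hh'U, hy⟩ R _ _ _ u huc ub hub
    let u' := IsOpenImmersion.lift U'.ι u (by
      rw [Scheme.Opens.range_ι]
      rintro _ ⟨t, rfl⟩
      exact GrothLib.DVRDom.mem_of_closedPoint_mem (W := U') u (by
        show u (IsLocalRing.closedPoint R) ∈ U'
        rw [huc]; exact hxU') t)
    have hu' : u' ≫ U'.ι = u := IsOpenImmersion.lift_fac _ _ _
    refine ⟨u' ≫ h', by rw [Category.assoc, hh', hu'], ?_, ?_⟩
    · rw [Scheme.Hom.comp_apply, ← hy]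
      congr 1
      exact U'.ι.isOpenEmbedding.injective (by rw [← Scheme.Hom.comp_apply, hu', huc]; rfl)
    · rw [← hh'U, ← Category.assoc, ← Category.assoc]
      congr 1
      rw [← cancel_mono U'.ι, Category.assoc, Category.assoc, hu', Scheme.homOfLE_ι, hub]
  · intro H
    haveI := hx
    obtain ⟨W0, hxW0, hW0⟩ := GrothLib.Rat20Ext.exists_integral_nhd x
    haveI := hW0
    obtain ⟨A, hA, hxA, hAW0⟩ : ∃ A : X.Opens, IsAffineOpen A ∧ x ∈ A ∧ A ≤ W0 := by
      obtain ⟨_, ⟨A, hA, rfl⟩, h1, h2⟩ :=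
        X.isBasis_affineOpens.exists_subset_of_mem_open (show x ∈ (W0 : Set X) from hxW0) W0.2
      exact ⟨A, hA, h1, h2⟩
    obtain ⟨W, hW, hyW, hWA⟩ : ∃ W : Y.Opens, IsAffineOpen W ∧ y₀ ∈ W ∧ W ≤ q ⁻¹ᵁ A := by
      obtain ⟨_, ⟨W, hW, rfl⟩, h1, h2⟩ := Y.isBasis_affineOpens.exists_subset_of_mem_open
        (show y₀ ∈ (q ⁻¹ᵁ A : Y.Opens) by show q y₀ ∈ A; rw [hy₀]; exact hxA) (q ⁻¹ᵁ A).2
      exact ⟨W, hW, h1, h2⟩
    haveI : IsAffine (A : Scheme.{u}) := hA
    haveI : IsAffine (W : Scheme.{u}) := hW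
    haveI : Nonempty ↥(A : Scheme.{u}) := ⟨⟨x, hxA⟩⟩
    haveI : IsIntegral (A : Scheme.{u}) := isIntegral_of_isOpenImmersion (X.homOfLE hAW0)
    haveI : IsLocallyNoetherian (A : Scheme.{u}) := isLocallyNoetherian_of_isOpenImmersion A.ι
    let qW : (W : Scheme.{u}) ⟶ (A : Scheme.{u}) := q.resLE A W hWA
    have hqW : qW ≫ A.ι = W.ι ≫ q := Scheme.Hom.resLE_comp_ι _ _
    haveI : IsSeparated qW := inferInstance
    haveI : LocallyOfFiniteType qW := inferInstance
    -- every generization of `x` in `U` is mapped into `W`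
    have claim : ∀ t : ↥(U : Scheme.{u}), U.ι t ⤳ x → h t ∈ W := by
      intro t htx
      obtain ⟨R, _, _, hR, u, z, huc, huK⟩ := GrothLib.Rat20Ext.exists_dvr_map' U.ι t x htx
        (fun e => hxU (e.symm ▸ t.2))
      obtain ⟨h₁, hh₁, hh₁c, hh₁K⟩ := H R u huc (z ≫ (U : Scheme.{u}).fromSpecResidueField t)
        (by rw [Category.assoc, huK])
      let o := IsLocalRing.closedPoint (FractionRing R)
      let e := Spec.map (CommRingCat.ofHom (algebraMap R (FractionRing R)))
      have h2 : h₁ (e o) ∈ W := GrothLib.DVRDom.mem_of_closedPoint_mem (W := W) h₁ (by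
        show h₁ (IsLocalRing.closedPoint R) ∈ W
        rw [hh₁c]; exact hyW) (e o)
      rwa [← Scheme.Hom.comp_apply, hh₁K, Category.assoc, Scheme.Hom.comp_apply, Scheme.Hom.comp_apply,
        Scheme.fromSpecResidueField_apply] at h2
    -- the open subscheme where `h` lands in `W`
    let E : (A : Scheme.{u}).Opens := A.ι ⁻¹ᵁ (U.ι ''ᵁ (h ⁻¹ᵁ W))
    let iE : (E : Scheme.{u}) ⟶ (U : Scheme.{u}) := IsOpenImmersion.lift U.ι (E.ι ≫ A.ι) (by
      rw [Scheme.Opens.range_ι]
      rintro _ ⟨a, rfl⟩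
      obtain ⟨b, -, hb⟩ := a.2
      rw [Scheme.Hom.comp_apply]
      exact (show A.ι (E.ι a) = U.ι b from hb.symm) ▸ b.2)
    have hiE : iE ≫ U.ι = E.ι ≫ A.ι := IsOpenImmersion.lift_fac _ _ _
    let hE : (E : Scheme.{u}) ⟶ (W : Scheme.{u}) := IsOpenImmersion.lift W.ι (iE ≫ h) (by
      rw [Scheme.Opens.range_ι]
      rintro _ ⟨a, rfl⟩
      obtain ⟨b, hb1, hb⟩ := a.2
      have : iE a = b := U.ι.isOpenEmbedding.injective (by
        rw [← Scheme.Hom.comp_apply, hiE, Scheme.Hom.comp_apply]; exact hb.symm)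
      rw [Scheme.Hom.comp_apply, this]
      exact hb1)
    have hhE : hE ≫ W.ι = iE ≫ h := IsOpenImmersion.lift_fac _ _ _
    have hhE' : E.ι ≫ 𝟙 (A : Scheme.{u}) = hE ≫ qW := by
      rw [Category.comp_id, ← cancel_mono A.ι, Category.assoc, hqW, reassoc_of% hhE, hh, hiE]
    obtain ⟨hξU, hξx⟩ := GrothLib.Rat20Ext.exists_generic (W := W0) hxW0 U hU
    have hEne : (E : Set ↥(A : Scheme.{u})).Nonempty := by
      have hξA : W0.ι (genericPoint (W0 : Scheme.{u})) ∈ A := hξx.mem_open A.2 hxA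
      exact ⟨⟨_, hξA⟩, ⟨_, hξU⟩, claim _ hξx, rfl⟩
    haveI : Nonempty ↥(E : Scheme.{u}) := ⟨⟨_, hEne.some_mem⟩⟩
    haveI : IsIntegral (E : Scheme.{u}) := isIntegral_of_isOpenImmersion E.ι
    have hEd : Dense (E : Set ↥(A : Scheme.{u})) := by
      intro a
      exact ((genericPoint_spec (A : Scheme.{u})).specializes (Set.mem_univ a)).mem_closed isClosed_closure
        (subset_closure (by
          obtain ⟨b, hb⟩ := hEne
          exact ((genericPoint_spec (A : Scheme.{u})).specializes (Set.mem_univ b)).mem_open E.2 hb))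
    let P := pullback (𝟙 (A : Scheme.{u})) qW
    haveI : IsLocallyNoetherian P :=
      LocallyOfFiniteType.isLocallyNoetherian (pullback.fst (𝟙 (A : Scheme.{u})) qW)
    let γ : (E : Scheme.{u}) ⟶ P := pullback.lift E.ι hE hhE'
    haveI : LocallyOfFiniteType γ := by
      have : LocallyOfFiniteType (γ ≫ pullback.fst (𝟙 (A : Scheme.{u})) qW) := by
        rw [pullback.lift_fst]; infer_instance
      exact locallyOfFiniteType_of_comp γ (pullback.fst (𝟙 (A : Scheme.{u})) qW)
    let ηE := genericPoint (E : Scheme.{u})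
    let xA : ↥(A : Scheme.{u}) := ⟨x, hxA⟩
    have hγf : ∀ a, pullback.fst (𝟙 (A : Scheme.{u})) qW (γ a) = E.ι a := fun a => by
      rw [← Scheme.Hom.comp_apply, pullback.lift_fst]
    have hxE : ∀ a : ↥(E : Scheme.{u}), E.ι a ≠ xA := by
      intro a ha
      have h1 : U.ι (iE a) = x := by
        rw [← Scheme.Hom.comp_apply, hiE, Scheme.Hom.comp_apply, ha]; rfl
      exact hxU (h1 ▸ (iE a).2)
    have hclos : closure (Set.range γ) ⊆ closure {γ ηE} := by
      refine closure_minimal ?_ isClosed_closure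
      rintro _ ⟨a, rfl⟩
      exact specializes_iff_mem_closure.mp
        (((genericPoint_spec (E : Scheme.{u})).specializes (Set.mem_univ a)).map γ.continuous)
    have huniq : ∀ w ∈ closure (Set.range γ), pullback.fst (𝟙 (A : Scheme.{u})) qW w = xA →
        pullback.snd (𝟙 (A : Scheme.{u})) qW w = ⟨y₀, hyW⟩ := by
      intro w hw hwx
      have hsp : γ ηE ⤳ w := specializes_iff_mem_closure.mpr (hclos hw)
      have hne : w ≠ γ ηE := fun e => hxE ηE (by rw [← hγf, ← e, hwx])
      obtain ⟨R, _, _, hR, uP, z, huPc, huPK⟩ := GrothLib.Rat20Ext.exists_dvr_map' γ ηE w hsp hne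
      let e := Spec.map (CommRingCat.ofHom (algebraMap R (FractionRing R)))
      let ub := z ≫ (E : Scheme.{u}).fromSpecResidueField ηE ≫ iE
      let uA := uP ≫ pullback.fst (𝟙 (A : Scheme.{u})) qW
      obtain ⟨h₁, hh₁, hh₁c, hh₁K⟩ := H R (uA ≫ A.ι) (by
          rw [Scheme.Hom.comp_apply, Scheme.Hom.comp_apply, huPc, hwx]; rfl) ub (by
          simp only [ub, uA, Category.assoc, hiE, reassoc_of% huPK]
          simp only [γ, pullback.lift_fst_assoc])
      let h₁' := IsOpenImmersion.lift W.ι h₁ (by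
        rw [Scheme.Opens.range_ι]
        rintro _ ⟨t, rfl⟩
        exact GrothLib.DVRDom.mem_of_closedPoint_mem (W := W) h₁ (by
          show h₁ (IsLocalRing.closedPoint R) ∈ W
          rw [hh₁c]; exact hyW) t)
      have hh₁' : h₁' ≫ W.ι = h₁ := IsOpenImmersion.lift_fac _ _ _
      have h3 : h₁' = uP ≫ pullback.snd (𝟙 (A : Scheme.{u})) qW := by
        refine GrothLib.DVRDom.eq_of_isSeparated (K := FractionRing R) qW _ _ ?_ ?_
        · refine Eq.trans (b := uA) ?_ ?_
          · rw [← cancel_mono A.ι, Category.assoc, hqW, reassoc_of% hh₁', hh₁]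
          · rw [Category.assoc, ← pullback.condition, Category.comp_id]
        · rw [← cancel_mono W.ι, Category.assoc, hh₁', hh₁K, Category.assoc, reassoc_of% huPK]
          simp only [ub, γ, Category.assoc, pullback.lift_snd_assoc, hhE]
      rw [← huPc, ← Scheme.Hom.comp_apply, ← h3]
      exact W.ι.isOpenEmbedding.injective (by rw [← Scheme.Hom.comp_apply, hh₁', hh₁c]; rfl)
    have hinj : Function.Injective (pullback.snd (𝟙 (A : Scheme.{u})) qW) :=
      (pullback.snd (𝟙 (A : Scheme.{u})) qW).homeomorph.injective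
    -- a point of the closure of the graph over `x`
    obtain ⟨z₀, hz₀Γ, hz₀x⟩ : ∃ z₀ ∈ closure (Set.range γ),
        pullback.fst (𝟙 (A : Scheme.{u})) qW z₀ = xA := by
      obtain ⟨R, _, _, hR, u, z, huc, huK⟩ := GrothLib.Rat20Ext.exists_dvr_map' (E.ι ≫ A.ι) ηE x
        (by
          rw [Scheme.Hom.comp_apply]
          exact (((genericPoint_spec (A : Scheme.{u})).specializes (Set.mem_univ xA)).map
            A.ι.continuous).trans' (by rw [genericPoint_eq_of_isOpenImmersion E.ι]))
        (by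
          rw [Scheme.Hom.comp_apply]
          exact fun e => hxE ηE (A.ι.isOpenEmbedding.injective e.symm))
      obtain ⟨h₁, hh₁, hh₁c, hh₁K⟩ := H R u huc (z ≫ (E : Scheme.{u}).fromSpecResidueField ηE ≫ iE)
        (by rw [Category.assoc, Category.assoc, hiE, huK])
      let uA := IsOpenImmersion.lift A.ι u (by
        rw [Scheme.Opens.range_ι]
        rintro _ ⟨t, rfl⟩
        exact GrothLib.DVRDom.mem_of_closedPoint_mem (W := A) u (by
          show u (IsLocalRing.closedPoint R) ∈ A
          rw [huc]; exact hxA) t)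
      have huA : uA ≫ A.ι = u := IsOpenImmersion.lift_fac _ _ _
      let h₁' := IsOpenImmersion.lift W.ι h₁ (by
        rw [Scheme.Opens.range_ι]
        rintro _ ⟨t, rfl⟩
        exact GrothLib.DVRDom.mem_of_closedPoint_mem (W := W) h₁ (by
          show h₁ (IsLocalRing.closedPoint R) ∈ W
          rw [hh₁c]; exact hyW) t)
      have hh₁' : h₁' ≫ W.ι = h₁ := IsOpenImmersion.lift_fac _ _ _
      let g : Spec (CommRingCat.of R) ⟶ P := pullback.lift uA h₁' (by
        rw [Category.comp_id, ← cancel_mono A.ι, Category.assoc, hqW, reassoc_of% hh₁', hh₁, huA])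
      let e := Spec.map (CommRingCat.ofHom (algebraMap R (FractionRing R)))
      have heg : e ≫ g = z ≫ (E : Scheme.{u}).fromSpecResidueField ηE ≫ γ := by
        apply pullback.hom_ext
        · simp only [g, γ, Category.assoc, pullback.lift_fst]
          rw [← cancel_mono A.ι, Category.assoc, huA]
          simpa only [Category.assoc] using huK
        · simp only [g, γ, Category.assoc, pullback.lift_snd]
          rw [← cancel_mono W.ι, Category.assoc, hh₁', hh₁K]
          simp only [Category.assoc, hhE]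
      refine ⟨g (IsLocalRing.closedPoint R), ?_, ?_⟩
      · let o := e (IsLocalRing.closedPoint (FractionRing R))
        have h1 : g o ∈ Set.range γ := ⟨ηE, by
          rw [← Scheme.Hom.comp_apply, heg, Scheme.Hom.comp_apply, Scheme.Hom.comp_apply,
            Scheme.fromSpecResidueField_apply]⟩
        exact ((IsLocalRing.specializes_closedPoint o).map g.continuous).mem_closed isClosed_closure
          (subset_closure h1)
      · rw [← Scheme.Hom.comp_apply, pullback.lift_fst]
        exact A.ι.isOpenEmbedding.injective (by rw [← Scheme.Hom.comp_apply, huA, huc]; rfl)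
    have hfib : (⊤ : P.Opens).1 ∩ closure (Set.range γ) ∩ (pullback.fst (𝟙 (A : Scheme.{u})) qW) ⁻¹' {xA} = {z₀} := by
      ext w
      constructor
      · rintro ⟨⟨-, hw⟩, hwx⟩
        exact hinj ((huniq w hw hwx).trans (huniq z₀ hz₀Γ hz₀x).symm)
      · rintro rfl
        exact ⟨⟨trivial, hz₀Γ⟩, hz₀x⟩
    obtain ⟨V, v, hxV, hv, hvh⟩ := Groth.Agent.S3836.result (𝟙 (A : Scheme.{u})) qW
      (fun y => ⟨⊤, trivial, by
        haveI : Nonempty ↥((⊤ : (A : Scheme.{u}).Opens) : Scheme.{u}) := ⟨⟨y, trivial⟩⟩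
        exact isIntegral_of_isOpenImmersion (⊤ : (A : Scheme.{u}).Opens).ι⟩) E hEd hE hhE' xA
      (IsIntegrallyClosed.of_equiv (A.stalkIso xA).commRingCatIsoToRingEquiv.symm)
      z₀ hz₀x hz₀Γ ⟨⊤, hfib⟩
    rw [Category.comp_id] at hv
    have hvx : v ⟨xA, hxV⟩ = ⟨y₀, hyW⟩ := by
      let p : (V : Scheme.{u}) ⟶ P := pullback.lift V.ι v (by rw [Category.comp_id, hv])
      have h2 : (⟨xA, hxV⟩ : ↥(V : Scheme.{u})) ∈ closure (⇑V.ι ⁻¹' (E : Set ↥(A : Scheme.{u}))) := by
        rw [← V.ι.isOpenEmbedding.isOpenMap.preimage_closure_eq_closure_preimage V.ι.continuous]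
        exact hEd xA
      have h3 := map_mem_closure (t := Set.range γ) p.continuous h2 (fun a ha => by
        let b : ↥(↑(E ⊓ V) : Scheme.{u}) := ⟨a.1, ha, a.2⟩
        have e : Scheme.homOfLE _ (inf_le_right : E ⊓ V ≤ V) ≫ p =
            Scheme.homOfLE _ (inf_le_left : E ⊓ V ≤ E) ≫ γ := by
          apply pullback.hom_ext
          · simp only [Category.assoc, p, γ, pullback.lift_fst, Scheme.homOfLE_ι]
          · simp only [Category.assoc, p, γ, pullback.lift_snd]
            exact hvh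
        have ea : a = Scheme.homOfLE _ (inf_le_right : E ⊓ V ≤ V) b :=
          V.ι.isOpenEmbedding.injective (by rw [← Scheme.Hom.comp_apply, Scheme.homOfLE_ι]; rfl)
        refine ⟨Scheme.homOfLE _ (inf_le_left : E ⊓ V ≤ E) b, ?_⟩
        rw [ea, ← Scheme.Hom.comp_apply, ← Scheme.Hom.comp_apply, e])
      have h4 := huniq _ h3 (by rw [← Scheme.Hom.comp_apply, pullback.lift_fst]; rfl)
      rwa [← Scheme.Hom.comp_apply, pullback.lift_snd] at h4
    -- shrink so that `h` lands in `W` on the overlap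
    let C : TopologicalSpace.Closeds ↥(U : Scheme.{u}) :=
      ⟨((h ⁻¹ᵁ W : (U : Scheme.{u}).Opens) : Set ↥(U : Scheme.{u}))ᶜ, (h ⁻¹ᵁ W).2.isClosed_compl⟩
    let I := Scheme.IdealSheafData.vanishingIdeal C
    let jC := I.subschemeι ≫ U.ι
    have hxC : x ∉ closure (Set.range jC) := by
      intro hc
      obtain ⟨c, hc⟩ := GrothLib.DVRDom.exists_specializes_of_mem_closure jC x hc
      have h5 : I.subschemeι c ∈ (C : Set ↥(U : Scheme.{u})) :=
        (GrothLib.RedSub.range_subschemeι_vanishingIdeal C).le ⟨c, rfl⟩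
      exact h5 (claim _ (by rw [← Scheme.Hom.comp_apply]; exact hc))
    let V' : X.Opens := A.ι ''ᵁ V ⊓ ⟨(closure (Set.range jC))ᶜ, isClosed_closure.isOpen_compl⟩
    let iV : (V' : Scheme.{u}) ⟶ (V : Scheme.{u}) :=
      X.homOfLE (inf_le_left : V' ≤ A.ι ''ᵁ V) ≫ (A.ι.isoImage V).inv
    have hiV : iV ≫ V.ι ≫ A.ι = V'.ι := by simp [iV]
    let b : (V' : Scheme.{u}) ⟶ Y := iV ≫ v ≫ W.ι
    have hb : b ≫ q = V'.ι := by
      simp only [b, Category.assoc]
      rw [← hqW, ← Category.assoc v, hv, hiV]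
    have hab : X.homOfLE (inf_le_left : U ⊓ V' ≤ U) ≫ h =
        X.homOfLE (inf_le_right : U ⊓ V' ≤ V') ≫ b := by
      let k := X.homOfLE (inf_le_right : U ⊓ V' ≤ V') ≫ iV ≫ V.ι
      have hk : k ≫ A.ι = (U ⊓ V').ι := by
        simp only [k, Category.assoc, hiV, Scheme.homOfLE_ι]
      let l := IsOpenImmersion.lift (E ⊓ V).ι k (by
        rw [Scheme.Opens.range_ι]
        rintro _ ⟨a, rfl⟩
        refine ⟨?_, ?_⟩
        · refine ⟨X.homOfLE (inf_le_left : U ⊓ V' ≤ U) a, ?_, ?_⟩
          · by_contra hn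
            obtain ⟨c, hc⟩ := (GrothLib.RedSub.range_subschemeι_vanishingIdeal C).ge
              (show X.homOfLE (inf_le_left : U ⊓ V' ≤ U) a ∈ (C : Set ↥(U : Scheme.{u})) from hn)
            refine a.2.2.2 (subset_closure ⟨c, ?_⟩)
            rw [Scheme.Hom.comp_apply, hc, ← Scheme.Hom.comp_apply, Scheme.homOfLE_ι]
            rfl
          · rw [← Scheme.Hom.comp_apply k A.ι, hk]
            show (X.homOfLE (inf_le_left : U ⊓ V' ≤ U) ≫ U.ι) a = _
            rw [Scheme.homOfLE_ι]
        · simp only [k, Scheme.Hom.comp_apply]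
          exact Subtype.prop _)
      have hl : l ≫ (E ⊓ V).ι = k := IsOpenImmersion.lift_fac _ _ _
      have hl1 : l ≫ Scheme.homOfLE _ (inf_le_right : E ⊓ V ≤ V) =
          X.homOfLE (inf_le_right : U ⊓ V' ≤ V') ≫ iV := by
        rw [← cancel_mono V.ι, Category.assoc, Scheme.homOfLE_ι, hl, Category.assoc]
      have hl2 : l ≫ Scheme.homOfLE _ (inf_le_left : E ⊓ V ≤ E) ≫ iE =
          X.homOfLE (inf_le_left : U ⊓ V' ≤ U) := by
        rw [← cancel_mono U.ι, Category.assoc, Category.assoc, hiE, Scheme.homOfLE_ι_assoc,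
          reassoc_of% hl, hk, Scheme.homOfLE_ι]
      have h2 := congrArg (fun m => l ≫ m ≫ W.ι) hvh
      simp only [Category.assoc, hhE, reassoc_of% hl1, reassoc_of% hl2] at h2
      exact h2.symm
    obtain ⟨c, hc1, hc2⟩ := GrothLib.Rat20Ext.exists_glue_sup U V' h b hab
    have hxV' : x ∈ V' := ⟨⟨xA, hxV, rfl⟩, hxC⟩
    refine ⟨U ⊔ V', le_sup_left, Or.inr hxV', c, ?_, hc1, ?_⟩
    · refine GrothLib.Rat20Ext.hom_ext_sup U V' ?_ ?_
      · rw [reassoc_of% hc1, hh, Scheme.homOfLE_ι]
      · rw [reassoc_of% hc2, hb, Scheme.homOfLE_ι]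
    · have e1 : (⟨x, Or.inr hxV'⟩ : ↥((U ⊔ V' : X.Opens) : Scheme.{u})) =
          X.homOfLE (le_sup_right : V' ≤ U ⊔ V') ⟨x, hxV'⟩ :=
        (U ⊔ V').ι.isOpenEmbedding.injective (by rw [← Scheme.Hom.comp_apply, Scheme.homOfLE_ι]; rfl)
      have e2 : iV ⟨x, hxV'⟩ = ⟨xA, hxV⟩ := by
        refine V.ι.isOpenEmbedding.injective (A.ι.isOpenEmbedding.injective ?_)
        rw [← Scheme.Hom.comp_apply, ← Scheme.Hom.comp_apply, hiV]
        rfl
      rw [e1, ← Scheme.Hom.comp_apply, hc2]
      simp only [b, Scheme.Hom.comp_apply]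
      rw [e2, hvx]
      rfl


end Groth.Agent.S3848
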