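import Groth.Statements.S3849
import Groth.Agent.S3836
import Groth.Agent.Lib.Rat20Ext.Basic
-- import your own Groth.Agent.* helpers here

set_option autoImplicit false
universe u
open CategoryTheory CategoryTheory.Limits AlgebraicGeometry TopologicalSpace
open Rat20

namespace Groth.Agent.S3849

/-- In the case S = X (sections of q : Y → X): let X be a locally Noetherian scheme, q : Y → X
separated, locally of finite type and locally quasi-finite, U a dense open subset of X, h : U → Y a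
section of q over U, and x a point of X outside U whose local ring is an integrally closed domain.
Then h extends to a section of q over an open subset containing U and x if and only if there exist a
discrete valuation ring R, a morphism u : Spec R → X sending the closed point to x and the generic
point into U, and a morphism Spec R → Y over X agreeing with h at the generic point. -/
theorem result {X Y : Scheme.{u}} [IsLocallyNoetherian X] (q : Y ⟶ X)
    [LocallyOfFiniteType q] [IsSeparated q] [LocallyQuasiFinite q] (U : X.Opens) (hU : Dense (U : Set ↥X))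
    (h : (U : Scheme.{u}) ⟶ Y) (hh : h ≫ q = U.ι) (x : ↥X) (hxU : x ∉ U) [IsDomain ↑(X.presheaf.stalk x)]
    (hx : IsIntegrallyClosed ↑(X.presheaf.stalk x)) :
    (∃ (U' : X.Opens) (hUU' : U ≤ U') (h' : (U' : Scheme.{u}) ⟶ Y),
        x ∈ U' ∧ h' ≫ q = U'.ι ∧ X.homOfLE hUU' ≫ h' = h) ↔
      ∃ (R : Type u) (_ : CommRing R) (_ : IsDomain R) (_ : IsDiscreteValuationRing R)
        (u : Spec (CommRingCat.of R) ⟶ X) (ub : Spec (CommRingCat.of (FractionRing R)) ⟶ (U : Scheme.{u}))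
        (h₁ : Spec (CommRingCat.of R) ⟶ Y),
        u (IsLocalRing.closedPoint R) = x ∧
          ub ≫ U.ι = Spec.map (CommRingCat.ofHom (algebraMap R (FractionRing R))) ≫ u ∧
          h₁ ≫ q = u ∧ Spec.map (CommRingCat.ofHom (algebraMap R (FractionRing R))) ≫ h₁ = ub ≫ h := by
  obtain ⟨W0, hxW, hW0⟩ := GrothLib.Rat20Ext.exists_integral_nhd x
  haveI := hW0
  constructor
  · rintro ⟨U', hUU', h', hxU', hh', hh'U⟩
    obtain ⟨hξU, hξx⟩ := GrothLib.Rat20Ext.exists_generic hxW U hU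
    obtain ⟨R, _, _, hR, u, z, huc, huK⟩ := GrothLib.Rat20Ext.exists_dvr_map _ x hξx
      (fun e => hxU (e ▸ hξU))
    refine ⟨R, inferInstance, inferInstance, hR, u, ?_⟩
    let ub := IsOpenImmersion.lift U.ι (Spec.map (CommRingCat.ofHom (algebraMap R (FractionRing R))) ≫ u) (by
      rw [Scheme.Opens.range_ι]
      rintro _ ⟨t, rfl⟩
      rw [huK, Scheme.Hom.comp_apply, Scheme.fromSpecResidueField_apply]
      exact hξU)
    have hub : ub ≫ U.ι = Spec.map (CommRingCat.ofHom (algebraMap R (FractionRing R))) ≫ u :=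
      IsOpenImmersion.lift_fac _ _ _
    let u' := IsOpenImmersion.lift U'.ι u (by
      rw [Scheme.Opens.range_ι]
      rintro _ ⟨t, rfl⟩
      exact GrothLib.DVRDom.mem_of_closedPoint_mem (W := U') u (by
        show u (IsLocalRing.closedPoint R) ∈ U'
        rw [huc]; exact hxU') t)
    have hu' : u' ≫ U'.ι = u := IsOpenImmersion.lift_fac _ _ _
    refine ⟨ub, u' ≫ h', huc, hub, by rw [Category.assoc, hh', hu'], ?_⟩
    rw [← hh'U, ← Category.assoc, ← Category.assoc]
    congr 1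
    rw [← cancel_mono U'.ι, Category.assoc, Category.assoc, hu', Scheme.homOfLE_ι, hub]
  · rintro ⟨R, _, _, hR, u, ub, h₁, huc, hub, hh₁, hh₁K⟩
    let U0 : (W0 : Scheme.{u}).Opens := W0.ι ⁻¹ᵁ U
    let h0 : (U0 : Scheme.{u}) ⟶ Y := (W0.ι ∣_ U) ≫ h
    have hh0 : U0.ι ≫ W0.ι = h0 ≫ q := by
      rw [Category.assoc, hh, morphismRestrict_ι]
    have hU0 : Dense ((U0 : (W0 : Scheme.{u}).Opens) : Set W0) :=
      hU.preimage W0.ι.isOpenEmbedding.isOpenMap
    let u0 := IsOpenImmersion.lift W0.ι u (by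
      rw [Scheme.Opens.range_ι]
      rintro _ ⟨t, rfl⟩
      exact GrothLib.DVRDom.mem_of_closedPoint_mem (W := W0) u (by
        show u (IsLocalRing.closedPoint R) ∈ W0
        rw [huc]; exact hxW) t)
    have hu0 : u0 ≫ W0.ι = u := IsOpenImmersion.lift_fac _ _ _
    let g := pullback.lift (f := W0.ι) (g := q) u0 h₁ (by rw [hu0, hh₁])
    have hg1 : g ≫ pullback.fst W0.ι q = u0 := pullback.lift_fst _ _ _
    let γ := pullback.lift U0.ι h0 hh0
    have hx0 : u0 (IsLocalRing.closedPoint R) = ⟨x, hxW⟩ := W0.ι.isOpenEmbedding.injective (by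
      rw [← Scheme.Hom.comp_apply, hu0, huc]; rfl)
    have hgfst : pullback.fst W0.ι q (g (IsLocalRing.closedPoint R)) = ⟨x, hxW⟩ := by
      rw [← Scheme.Hom.comp_apply, hg1, hx0]
    let e := Spec.map (CommRingCat.ofHom (algebraMap R (FractionRing R)))
    let ub0 := IsOpenImmersion.lift U0.ι (e ≫ u0) (by
      rw [Scheme.Opens.range_ι]
      rintro _ ⟨t, rfl⟩
      show W0.ι ((e ≫ u0) t) ∈ U
      rw [← Scheme.Hom.comp_apply, Category.assoc, hu0, ← hub, Scheme.Hom.comp_apply]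
      exact (ub t).2)
    have hub0 : ub0 ≫ U0.ι = e ≫ u0 := IsOpenImmersion.lift_fac _ _ _
    have hub1 : ub0 ≫ (W0.ι ∣_ U) = ub := by
      rw [← cancel_mono U.ι, Category.assoc, morphismRestrict_ι, reassoc_of% hub0, hu0, hub]
    have heg : e ≫ g = ub0 ≫ γ := by
      apply pullback.hom_ext
      · simp only [Category.assoc, hg1, γ, pullback.lift_fst, hub0]
      · simp only [Category.assoc, g, γ, pullback.lift_snd, h0]
        rw [reassoc_of% hub1]
        exact hh₁K
    have hzΓ : g (IsLocalRing.closedPoint R) ∈ closure (Set.range γ) := by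
      let η := e (IsLocalRing.closedPoint (FractionRing R))
      have h1 : g η ∈ Set.range γ := ⟨ub0 (IsLocalRing.closedPoint (FractionRing R)), by
        rw [← Scheme.Hom.comp_apply, ← heg, Scheme.Hom.comp_apply]⟩
      have h2 : g η ⤳ g (IsLocalRing.closedPoint R) :=
        (IsLocalRing.specializes_closedPoint η).map g.continuous
      exact h2.mem_closed isClosed_closure (subset_closure h1)
    have hdisc := (pullback.fst W0.ι q).isDiscrete_preimage_singleton (⟨x, hxW⟩ : W0.toScheme)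
    obtain ⟨O, hO, hOz⟩ := (isDiscrete_iff_forall_mem_exists_isOpen.mp hdisc) _ hgfst
    obtain ⟨V, v, hxV, hv, hvh⟩ := Groth.Agent.S3836.result W0.ι q
      (fun y => ⟨⊤, trivial, by
        haveI : Nonempty ↥((⊤ : (W0 : Scheme.{u}).Opens) : Scheme.{u}) := ⟨⟨y, trivial⟩⟩
        exact isIntegral_of_isOpenImmersion (⊤ : (W0 : Scheme.{u}).Opens).ι⟩) U0 hU0 h0 hh0 ⟨x, hxW⟩
      (IsIntegrallyClosed.of_equiv (W0.stalkIso ⟨x, hxW⟩).commRingCatIsoToRingEquiv.symm)
      (g (IsLocalRing.closedPoint R)) hgfst hzΓ ⟨⟨O, hO⟩, by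
        apply Set.Subset.antisymm
        · rw [← hOz]
          exact fun p hp => ⟨hp.1.1, hp.2⟩
        · rintro p rfl
          exact ⟨⟨(hOz.ge rfl).1, hzΓ⟩, hgfst⟩⟩
    let V' : X.Opens := W0.ι ''ᵁ V
    let b : (V' : Scheme.{u}) ⟶ Y := (W0.ι.isoImage V).inv ≫ v
    have hb : b ≫ q = V'.ι := by
      rw [Category.assoc, hv, Scheme.Hom.isoImage_inv_ι]
    have hab : X.homOfLE (inf_le_left : U ⊓ V' ≤ U) ≫ h = X.homOfLE (inf_le_right : U ⊓ V' ≤ V') ≫ b := by
      let k := X.homOfLE (inf_le_right : U ⊓ V' ≤ V') ≫ (W0.ι.isoImage V).inv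
      have hk : k ≫ V.ι ≫ W0.ι = (U ⊓ V').ι := by simp [k, V']
      let l := IsOpenImmersion.lift (U0 ⊓ V).ι (k ≫ V.ι) (by
        rw [Scheme.Opens.range_ι]
        rintro _ ⟨a, rfl⟩
        refine ⟨?_, ?_⟩
        · show W0.ι ((k ≫ V.ι) a) ∈ U
          rw [← Scheme.Hom.comp_apply, Category.assoc, hk]
          exact a.2.1
        · rw [Scheme.Hom.comp_apply]
          exact (k a).2)
      have hl : l ≫ (U0 ⊓ V).ι = k ≫ V.ι := IsOpenImmersion.lift_fac _ _ _
      have hl1 : l ≫ Scheme.homOfLE _ (inf_le_right : U0 ⊓ V ≤ V) = k := by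
        rw [← cancel_mono V.ι, Category.assoc, Scheme.homOfLE_ι, hl]
      have hl2 : l ≫ Scheme.homOfLE _ (inf_le_left : U0 ⊓ V ≤ U0) ≫ (W0.ι ∣_ U) =
          X.homOfLE (inf_le_left : U ⊓ V' ≤ U) := by
        rw [← cancel_mono U.ι, Category.assoc, Category.assoc, morphismRestrict_ι,
          Scheme.homOfLE_ι_assoc, reassoc_of% hl, hk, Scheme.homOfLE_ι]
      have h2 := congrArg (l ≫ ·) hvh
      simp only [h0, reassoc_of% hl1] at h2
      rw [reassoc_of% hl2] at h2
      rw [← h2]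
      simp [k, b]
    obtain ⟨c, hc1, hc2⟩ := GrothLib.Rat20Ext.exists_glue_sup U V' h b hab
    refine ⟨U ⊔ V', le_sup_left, c, Or.inr ⟨⟨x, hxW⟩, hxV, rfl⟩, ?_, hc1⟩
    let 𝒰 : ULift.{u} Bool → (↑(U ⊔ V') : Scheme.{u}).Opens :=
      fun i => (U ⊔ V').ι ⁻¹ᵁ (bif i.down then U else V')
    refine Scheme.Cover.hom_ext ((↑(U ⊔ V') : Scheme.{u}).openCoverOfIsOpenCover 𝒰
      (TopologicalSpace.IsOpenCover.mk (eq_top_iff.2 fun t _ => TopologicalSpace.Opens.mem_iSup.2
        (t.2.elim (fun ht => ⟨⟨true⟩, ht⟩) (fun ht => ⟨⟨false⟩, ht⟩))))) _ _ ?_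
    rintro ⟨i⟩
    show (𝒰 ⟨i⟩).ι ≫ c ≫ q = (𝒰 ⟨i⟩).ι ≫ (U ⊔ V').ι
    cases i
    · have e1 : (𝒰 ⟨false⟩).ι = ((U ⊔ V').ι ∣_ V') ≫ X.homOfLE le_sup_right := by
        rw [← cancel_mono (U ⊔ V').ι, Category.assoc, Scheme.homOfLE_ι, morphismRestrict_ι]
        rfl
      rw [e1, Category.assoc, Category.assoc, reassoc_of% hc2, hb, Scheme.homOfLE_ι]
    · have e1 : (𝒰 ⟨true⟩).ι = ((U ⊔ V').ι ∣_ U) ≫ X.homOfLE le_sup_left := by
        rw [← cancel_mono (U ⊔ V').ι, Category.assoc, Scheme.homOfLE_ι, morphismRestrict_ι]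
        rfl
      rw [e1, Category.assoc, Category.assoc, reassoc_of% hc1, hh, Scheme.homOfLE_ι]


end Groth.Agent.S3849
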