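import Groth.Statements.S3852
import Groth.Agent.Lib.FSchSys.PowLE

set_option autoImplicit false
universe u
open FCompl

namespace Groth.Agent.S3852
open AlgebraicGeometry

open AlgebraicGeometry in
/-- Second assertion; stated for quasi-coherent ideal sheaves, with the condition on supports as an
inclusion, which is what the proof uses: Let X be a Noetherian scheme and I, J ideal sheaves such
that the zero locus of J is contained in the zero locus of I. Then I^n ≤ J for some n ≥ 1. -/
theorem result
    (X : Scheme.{u}) [IsNoetherian X] (I J : X.IdealSheafData)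
    (h : (J.support : Set X) ⊆ I.support) :
    ∃ n : ℕ, I ^ (n + 1) ≤ J := by
  refine GrothLib.FSchSys.exists_pow_le_of_support_subset I J (fun y => ?_) h
  obtain ⟨_, ⟨U, hU, rfl⟩, hxU, -⟩ := X.isBasis_affineOpens.exists_subset_of_mem_open
    (Set.mem_univ y) isOpen_univ
  have : IsNoetherianRing Γ(X, U) := IsLocallyNoetherian.component_noetherian ⟨U, hU⟩
  exact ⟨⟨U, hU⟩, hxU, IsNoetherian.noetherian _⟩

end Groth.Agent.S3852
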