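import Groth.Statements.S3856
import Groth.Agent.Lib.AdicLim.Noeth

set_option autoImplicit false
universe u
open AdicRing

namespace Groth.Agent.S3856

/-- Let A be a ring that is complete and separated for the J-adic topology of an ideal J. If A/J² is
Noetherian (equivalently, A/J is Noetherian and J/J² is a finitely generated A/J-module), then A is
Noetherian. The published statement is phrased for a formal spectrum Spf(A) all of whose levels
Spec(A/J^(n+1)) are Noetherian; it is stated here with the weaker hypothesis that A/J² is
Noetherian. -/
theorem result (A : Type u) [CommRing A]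
    (J : Ideal A) [IsAdicComplete J A] [IsNoetherianRing (A ⧸ J ^ 2)] : IsNoetherianRing A := by
  have hfg : J.FG := GrothLib.AdicLim.fg_of_sq
  have : IsNoetherianRing (A ⧸ J) :=
    isNoetherianRing_of_surjective (A ⧸ J ^ 2) (A ⧸ J) (Ideal.Quotient.factor (Ideal.pow_le_self (two_ne_zero)))
      (Ideal.Quotient.factor_surjective _)
  exact GrothLib.AdicLim.isNoetherianRing_of_complete hfg

end Groth.Agent.S3856
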