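import Groth.Statements.S3859
import Groth.Prelude.Def_FSch3

set_option autoImplicit false
universe u
open FCompl

namespace Groth.Agent.S3859
open CategoryTheory CategoryTheory.Limits

open AlgebraicGeometry in
open CategoryTheory in
/-- In the presentation by systems of thickenings: For morphisms of systems X -> S and Y -> S, the
levelwise fibre product with its two projections is a fibre product in the category of systems; it
presents the fibre product of formal schemes when one factor is adic over the base, and otherwise
only up to cofinality of the levels. -/
theorem result {𝔛 𝔜 𝔖 : FSch.Sys.{u}} (f : 𝔛 ⟶ 𝔖) (g : 𝔜 ⟶ 𝔖) :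
    IsPullback (FSch.pullbackFst f g) (FSch.pullbackSnd f g) f g := by
  refine ⟨⟨?_⟩, ⟨CategoryTheory.Limits.PullbackCone.IsLimit.mk _ ?_ ?_ ?_ ?_⟩⟩
  · apply FSch.Hom.ext
    funext n
    exact pullback.condition
  · exact fun s => ⟨fun n => pullback.lift ((s.fst : FSch.Hom _ _).app n) ((s.snd : FSch.Hom _ _).app n)
      (congrFun (congrArg FSch.Hom.app s.condition) n), fun n => by
        apply pullback.hom_ext
        · simp only [FSch.pullbackSys, Category.assoc, pullback.lift_fst]
          rw [pullback.lift_fst_assoc]
          exact (s.fst : FSch.Hom _ _).comm n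
        · simp only [FSch.pullbackSys, Category.assoc, pullback.lift_snd]
          rw [pullback.lift_snd_assoc]
          exact (s.snd : FSch.Hom _ _).comm n⟩
  · intro s; apply FSch.Hom.ext; funext n; exact pullback.lift_fst _ _ _
  · intro s; apply FSch.Hom.ext; funext n; exact pullback.lift_snd _ _ _
  · intro s m h1 h2; apply FSch.Hom.ext; funext n
    apply pullback.hom_ext
    · rw [pullback.lift_fst]; exact congrFun (congrArg FSch.Hom.app h1) n
    · rw [pullback.lift_snd]; exact congrFun (congrArg FSch.Hom.app h2) n

end Groth.Agent.S3859
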