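import Groth.Statements.S3860
import Groth.Agent.Lib.FSchSys.SpecKer
import Mathlib.RingTheory.AdicCompletion.RingHom
-- import your own Groth.Agent.* helpers here

set_option autoImplicit false
universe u
open FCompl

namespace Groth.Agent.S3860

open CategoryTheory AlgebraicGeometry

open AlgebraicGeometry in
/-- (Affine adic case; the formal spectra presented as the systems Spec(A/I^(n+1)) and Spec(B/K^(n+1)).)
Let I be an ideal of a ring A which is complete and separated for the I-adic topology, and K an
ideal of a ring B. Then φ ↦ (Spec of the induced maps B/K^(n+1) -> A/I^(n+1)) is a bijection from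
the ring homomorphisms φ : B -> A with φ(K) ⊆ I onto the morphisms of systems from Spf(A) to Spf(B),
i.e. the compatible families of morphisms Spec(A/I^(n+1)) -> Spec(B/K^(n+1)). -/
theorem result (A B : Type u) [CommRing A] [CommRing B] (I : Ideal A) (K : Ideal B)
    [IsAdicComplete I A] :
    Function.Bijective (fun φ : {φ : B →+* A // K ≤ I.comap φ} ↦ FSch.spfMap I K φ.1 φ.2) := by
  refine ⟨fun φ φ' hφ => ?_, fun f => ?_⟩
  · refine Subtype.ext (RingHom.ext fun b => ?_)
    refine IsHausdorff.eq_iff_smodEq (I := I).mpr fun n => ?_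
    have hn := Spec.map_injective (congr($(congrArg FSch.Hom.app hφ) n))
    have := congr(($hn).hom (Ideal.Quotient.mk _ b))
    rw [SModEq.sub_mem, Ideal.smul_eq_mul, Ideal.mul_top]
    refine Ideal.pow_le_pow_right (Nat.le_succ n) ?_
    exact Ideal.Quotient.eq.mp this
  · let a : ℕ → ℕ := fun n => n + 1
    have ha : StrictMono a := fun m n hmn => Nat.add_lt_add_right hmn 1
    let ψ : ∀ n, B →+* A ⧸ I ^ (a n) := fun n =>
      ((Spec.preimage ((f : FSch.Hom _ _).app n)).hom).comp (Ideal.Quotient.mk (K ^ (n + 1)))
    have hψ : ∀ {m}, (Ideal.Quotient.factorPow I (ha.monotone m.le_succ)).comp (ψ (m + 1)) = ψ m := by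
      intro m
      have := congrArg Spec.preimage ((f : FSch.Hom _ _).comm m)
      simp only [FSch.spf, CohB1.specQuotTrans, Spec.preimage_comp, Spec.preimage_map] at this
      refine RingHom.ext fun b => ?_
      exact (congr(($this).hom (Ideal.Quotient.mk _ b))).symm
    let φ : B →+* A := IsAdicComplete.StrictMono.liftRingHom I ha ψ hψ
    have hmk : ∀ n b, Ideal.Quotient.mk (I ^ (n + 1)) (φ b) = ψ n b := fun n b =>
      IsAdicComplete.StrictMono.mk_liftRingHom I ha ψ hψ b
    have hK : K ≤ I.comap φ := fun b hb => by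
      have h0 : ψ 0 b = 0 := by
        change (Spec.preimage ((f : FSch.Hom _ _).app 0)).hom (Ideal.Quotient.mk (K ^ (0 + 1)) b) = 0
        rw [Ideal.Quotient.eq_zero_iff_mem.mpr (by simpa using hb), map_zero]
      simpa [Ideal.Quotient.eq_zero_iff_mem] using (hmk 0 b).trans h0
    refine ⟨⟨φ, hK⟩, FSch.Hom.ext (funext fun n => ?_)⟩
    refine (congrArg Spec.map (CommRingCat.hom_ext (Ideal.Quotient.ringHom_ext ?_))).trans
      (Spec.map_preimage ((f : FSch.Hom _ _).app n))
    exact RingHom.ext fun b => hmk n b

end Groth.Agent.S3860
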