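import Groth.Statements.S3867
import Groth.Agent.Lib.FSchSys.SpecKer
import Mathlib.RingTheory.Nakayama
import Mathlib.RingTheory.AdicCompletion.Basic
-- import your own Groth.Agent.* helpers here

set_option autoImplicit false
universe u
open FCompl

namespace Groth.Agent.S3867

open CategoryTheory AlgebraicGeometry

open AlgebraicGeometry in
/-- Formal spectra are presented as the systems Spec(A/I^(n+1)) and Spec(B/K^(n+1)), a morphism of
systems being adic when all its squares are cartesian. Let A be a Noetherian ring, complete and
separated for the I-adic topology of an ideal I, K an ideal of a ring B and φ : B → A a ring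
homomorphism with φ(K) ⊆ I. Then the induced morphism Spf(A) → Spf(B) is adic if and only if the
ideal of A generated by φ(K) is I. -/
theorem result (A B : Type u) [CommRing A] [CommRing B] [IsNoetherianRing A]
    (I : Ideal A) (K : Ideal B) [IsAdicComplete I A] (φ : B →+* A) (h : K ≤ I.comap φ) :
    FSch.IsAdicHom (FSch.spfMap I K φ h) ↔ K.map φ = I := by
  have key : FSch.IsAdicHom (FSch.spfMap I K φ h) ↔
      ∀ n : ℕ, I ^ (n + 1) ≤ (K ^ (n + 1)).map φ ⊔ I ^ (n + 2) := by
    refine forall_congr' fun n => ?_
    refine (GrothLib.FSchSys.isPullback_spec_iff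
      (CommRingCat.ofHom (FSch.quotPowMap I K φ h (n + 1)))
      (CommRingCat.ofHom (FSch.quotPowMap I K φ h n)) (CommRingCat.ofHom (Ideal.Quotient.factor _))
      (CommRingCat.ofHom (Ideal.Quotient.factor _))
      (Ideal.Quotient.factor_surjective (Ideal.pow_le_pow_right (Nat.le_succ (n + 1))))
      (Ideal.Quotient.factor_surjective (Ideal.pow_le_pow_right (Nat.le_succ (n + 1))))
      (CommRingCat.hom_ext (Ideal.Quotient.ringHom_ext (RingHom.ext fun b => rfl)))).trans ?_
    simp only [CommRingCat.hom_ofHom, Ideal.Quotient.factor_ker]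
    rw [Ideal.map_map, show (FSch.quotPowMap I K φ h (n + 1)).comp (Ideal.Quotient.mk (K ^ (n + 1 + 1)))
        = (Ideal.Quotient.mk (I ^ (n + 1 + 1))).comp φ from RingHom.ext fun b => rfl, ← Ideal.map_map]
    constructor
    · intro e
      have := Ideal.le_comap_map.trans (Ideal.comap_mono e.ge)
      rw [Ideal.comap_map_of_surjective _ Ideal.Quotient.mk_surjective, ← RingHom.ker_eq_comap_bot,
        Ideal.mk_ker] at this
      exact this
    · intro e
      refine le_antisymm (Ideal.map_mono (Ideal.map_le_iff_le_comap.mpr
        (FSch.pow_le_comap_pow I K φ h (n + 1)))) ?_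
      refine (Ideal.map_mono e).trans ?_
      rw [Ideal.map_sup, Ideal.map_quotient_self, sup_bot_eq]
  have hle : K.map φ ≤ I := Ideal.map_le_iff_le_comap.mpr h
  rw [key]
  constructor
  · intro h0
    refine le_antisymm hle ?_
    refine Submodule.le_of_le_smul_of_le_jacobson_bot (IsNoetherian.noetherian I)
      (IsAdicComplete.le_jacobson_bot I) ?_
    simpa [sq, smul_eq_mul] using h0 0
  · intro e n
    rw [Ideal.map_pow, e]
    first | done | exact le_sup_left

end Groth.Agent.S3867
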