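import Groth.Statements.S3868
import Groth.Agent.Lib.FSchSys.Levels
import Groth.Agent.Lib.Thickening.Affine
import Groth.Agent.Lib.AdicLim.RingSystem
import Groth.Agent.Lib.AdicLim.Noeth
import Groth.Prelude.Def_FSch4
-- import your own Groth.Agent.* helpers here

set_option autoImplicit false
universe u
open FCompl

namespace Groth.Agent.S3868

open CategoryTheory AlgebraicGeometry

open AlgebraicGeometry in
open CategoryTheory in
/-- (Systems of thickenings.) Let (X_n) be a system of schemes whose transition maps are surjective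
closed immersions, with the kernel ideal of X_n -> X_(n+1) the (n+1)-st power of that of X_0 ->
X_(n+1), X_0 affine and locally Noetherian, and the kernel ideal of X_0 -> X_1 of finite type. Then
the system is isomorphic to the formal spectrum Spec(A/J) -> Spec(A/J^2) -> ... of some Noetherian
ring A complete and separated for the J-adic topology, J an ideal of A. -/
theorem result (𝔛 : FSch.Sys.{u}) (hF : 𝔛.IsFormal) (hA : 𝔛.IsAdic)
    [IsAffine (𝔛.X 0)] [IsLocallyNoetherian (𝔛.X 0)] (hft : FSch.IdealFT (𝔛.ι 0).ker) :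
    ∃ (A : Type u) (_ : CommRing A) (J : Ideal A),
      IsNoetherianRing A ∧ IsAdicComplete J A ∧ Nonempty (𝔛 ≅ FSch.spf A J) := by
  have hAff : ∀ n, IsAffine (𝔛.X n) := fun n => by
    have := GrothLib.FSchSys.isClosedImmersion_toX hF n
    have := GrothLib.FSchSys.surjective_toX hF n
    exact GrothLib.Thickening.isAffine_of_thickening (𝔛.toX n)
  have hci : ∀ n, IsClosedImmersion (𝔛.ι n) := fun n => (hF n).1
  have hcX := GrothLib.FSchSys.isClosedImmersion_toX hF
  let B : ℕ → Type u := fun n => Γ(𝔛.X n, ⊤)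
  let u' : ∀ n, B (n + 1) →+* B n := fun n => (𝔛.ι n).appTop.hom
  let v : ∀ n, B n →+* B 0 := fun n => (𝔛.toX n).appTop.hom
  have hsurj : ∀ {X Y : Scheme.{u}} [IsAffine Y] (f : X ⟶ Y) [IsClosedImmersion f],
      Function.Surjective f.appTop := fun f _ => f.app_surjective ⊤ (isAffineOpen_top _)
  have hkerTop : ∀ {X Y : Scheme.{u}} [IsAffine Y] (f : X ⟶ Y) [IsClosedImmersion f],
      RingHom.ker f.appTop.hom = f.ker.ideal ⟨⊤, isAffineOpen_top _⟩ := fun f _ =>
    (f.ker_apply ⟨⊤, isAffineOpen_top _⟩).symm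
  have hker : ∀ n, RingHom.ker (u' n) = RingHom.ker (v (n + 1)) ^ (n + 1) := fun n => by
    simp only [u', v, hkerTop]
    rw [hA n]
    rfl
  have hv : ∀ n, (v n).comp (u' n) = v (n + 1) := fun n => by
    simp only [u', v, FSch.Sys.toX, Scheme.Hom.comp_appTop]
    rfl
  have hfg : (RingHom.ker (v 1)).FG := by
    have e : v 1 = u' 0 := by
      simp only [v, u', GrothLib.FSchSys.toX_one]
    rw [e, show RingHom.ker (u' 0) = _ from hkerTop (𝔛.ι 0)]
    exact hft ⟨⊤, isAffineOpen_top _⟩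
  let A : Type u := FSch.Γsys 𝔛
  let p : ∀ n, A →+* B n := fun n => FSch.ΓsysProj 𝔛 n
  obtain ⟨hc, hp, hI⟩ := GrothLib.AdicLim.ring_system B u' (fun n => hsurj (𝔛.ι n)) v
    (by ext x; rfl) hv hker hfg A p (fun n => RingHom.ext fun s => s.2 n)
    (fun x hx => Subtype.ext (funext hx)) (fun y hy => ⟨⟨y, hy⟩, fun n => rfl⟩)
  set I := RingHom.ker (p 0)
  have hN0 : IsNoetherianRing (B 0) :=
    IsLocallyNoetherian.component_noetherian (X := 𝔛.X 0) ⟨⊤, isAffineOpen_top _⟩
  have : IsNoetherianRing (A ⧸ I) :=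
    isNoetherianRing_of_ringEquiv (B 0) (RingHom.quotientKerEquivOfSurjective (hp 0).1).symm
  refine ⟨A, inferInstance, I, GrothLib.AdicLim.isNoetherianRing_of_complete hI, hc, ?_⟩
  let e : ∀ n, (A ⧸ I ^ (n + 1)) ≃+* B n := fun n =>
    (Ideal.quotEquivOfEq (hp n).2.symm).trans (RingHom.quotientKerEquivOfSurjective (hp n).1)
  let φ : ∀ n, 𝔛.X n ≅ (FSch.spf A I).X n := fun n =>
    (𝔛.X n).isoSpec ≪≫ Scheme.Spec.mapIso ((e n).toCommRingCatIso).op
  have hφ : ∀ n, (φ n).hom ≫ (FSch.spf A I).ι n = 𝔛.ι n ≫ (φ (n + 1)).hom := fun n => by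
    change ((𝔛.X n).isoSpec.hom ≫ Spec.map (e n).toCommRingCatIso.hom) ≫
        Spec.map (CommRingCat.ofHom (Ideal.Quotient.factor _)) =
      𝔛.ι n ≫ (𝔛.X (n + 1)).isoSpec.hom ≫ Spec.map (e (n + 1)).toCommRingCatIso.hom
    rw [← Scheme.isoSpec_hom_naturality_assoc, Category.assoc, ← Spec.map_comp, ← Spec.map_comp]
    congr 2
    refine CommRingCat.hom_ext (Ideal.Quotient.ringHom_ext (RingHom.ext fun a => ?_))
    exact (a.2 n).symm
  exact ⟨{ hom := ⟨fun n => (φ n).hom, hφ⟩
           inv := ⟨fun n => (φ n).inv, fun n => by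
             rw [Iso.inv_comp_eq, ← Category.assoc, hφ, Category.assoc, Iso.hom_inv_id,
               Category.comp_id]⟩
           hom_inv_id := FSch.Hom.ext (funext fun n => (φ n).hom_inv_id)
           inv_hom_id := FSch.Hom.ext (funext fun n => (φ n).inv_hom_id) }⟩

end Groth.Agent.S3868
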