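import Groth.Statements.S3872
import Groth.Agent.Lib.AdicExtra.Units
import Groth.Agent.Lib.FSchSys.ComplMap
-- import your own Groth.Agent.* helpers here

set_option autoImplicit false
universe u
open FCompl

namespace Groth.Agent.S3872

/-- For a ring A, an ideal J and a prime ideal 𝔭 with J ⊆ 𝔭, let A{S⁻¹}, S = A ∖ 𝔭, be the completion of
A_𝔭 for the topology defined by the extension of J, and A_{S} the subring of A{S⁻¹} generated by the
images of the completed localizations A_{f}, f ∉ 𝔭 (the stalk ring of Spf(A) at 𝔭). Given that A_{S}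
and A{S⁻¹} are local rings and that the inclusion A_{S} → A{S⁻¹} and the canonical map A_𝔭 → A{S⁻¹}
are local homomorphisms (all four are carried here as instance hypotheses; the two about A_{S} are
stated separately), both maps induce bijections on residue fields; so the residue field of A_{S} is
the residue field κ(𝔭) of A_𝔭. -/
theorem result (A : Type u) [CommRing A] (J : Ideal A) (𝔭 : Ideal A)
    [𝔭.IsPrime] (hJ : J ≤ 𝔭) [IsLocalRing (FSch.stalkSubring A J 𝔭)] [IsLocalRing (FSch.cAtPrime A J 𝔭)]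
    [IsLocalHom (FSch.stalkSubring A J 𝔭).subtype]
    [IsLocalHom (algebraMap (Localization.AtPrime 𝔭) (FSch.cAtPrime A J 𝔭))] :
    Function.Bijective (IsLocalRing.ResidueField.map (FSch.stalkSubring A J 𝔭).subtype) ∧
      Function.Bijective
        (IsLocalRing.ResidueField.map (algebraMap (Localization.AtPrime 𝔭) (FSch.cAtPrime A J 𝔭))) := by
  let R := Localization.AtPrime 𝔭
  let K : Ideal R := J.map (algebraMap A R)
  let C := FSch.cAtPrime A J 𝔭
  have hsurj : ∀ x : C, ∃ r : R, x - algebraMap R C r ∈ IsLocalRing.maximalIdeal C := fun x => by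
    obtain ⟨r, hr⟩ := Ideal.Quotient.mk_surjective (AdicCompletion.evalOneₐ K x)
    refine ⟨r, ?_⟩
    rw [← IsLocalRing.jacobson_eq_maximalIdeal (⊥ : Ideal C) bot_ne_top]
    refine GrothLib.AdicExtra.ker_evalOne_le_jacobson ?_
    rw [RingHom.mem_ker, map_sub]
    refine sub_eq_zero.mpr ?_
    exact hr.symm.trans (congr($(AdicCompletion.evalOneₐ_comp_algebraMap_eq_mk (I := K)) r)).symm
  have hmem : ∀ r : R, algebraMap R C r ∈ FSch.stalkSubring A J 𝔭 := fun r => by
    obtain ⟨a, s, rfl⟩ := IsLocalization.exists_mk'_eq 𝔭.primeCompl r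
    refine (le_iSup (fun f : {f : A // f ∉ 𝔭} => (FSch.cAwayToAtPrime A J 𝔭 f.1 f.2).range) ⟨s.1, s.2⟩ :) ?_
    let z : Localization.Away s.1 := IsLocalization.mk' _ a ⟨s.1, Submonoid.mem_powers s.1⟩
    refine ⟨algebraMap _ (FSch.cAway A J s.1) z, ?_⟩
    have hz : FSch.awayToAtPrime A 𝔭 s.1 s.2 z = IsLocalization.mk' R a s := by
      rw [eq_comm, IsLocalization.mk'_eq_iff_eq_mul]
      have h1 : ∀ b, FSch.awayToAtPrime A 𝔭 s.1 s.2 (algebraMap A _ b) = algebraMap A R b :=
        fun b => IsLocalization.Away.lift_eq s.1 _ b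
      rw [← h1 s.1, ← h1 a, ← map_mul]
      exact congrArg _ (IsLocalization.mk'_spec _ a (⟨s.1, Submonoid.mem_powers s.1⟩ :
        Submonoid.powers s.1)).symm
    rw [FSch.cAwayToAtPrime]
    erw [GrothLib.FSchSys.complMap_algebraMap]
    exact congrArg (algebraMap R C) hz
  constructor
  · refine ⟨RingHom.injective _, fun y => ?_⟩
    obtain ⟨x, rfl⟩ := IsLocalRing.residue_surjective y
    obtain ⟨r, hr⟩ := hsurj x
    refine ⟨IsLocalRing.residue _ ⟨algebraMap R C r, hmem r⟩, ?_⟩
    rw [IsLocalRing.ResidueField.map_residue, eq_comm]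
    exact (Ideal.Quotient.eq (I := IsLocalRing.maximalIdeal C)).mpr hr
  · refine ⟨RingHom.injective _, fun y => ?_⟩
    obtain ⟨x, rfl⟩ := IsLocalRing.residue_surjective y
    obtain ⟨r, hr⟩ := hsurj x
    refine ⟨IsLocalRing.residue _ r, ?_⟩
    rw [IsLocalRing.ResidueField.map_residue, eq_comm]
    exact (Ideal.Quotient.eq (I := IsLocalRing.maximalIdeal C)).mpr hr

end Groth.Agent.S3872
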