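import Groth.Statements.S3873
import Groth.Agent.Lib.FSchSys.SpecKer

set_option autoImplicit false
universe u
open FCompl

namespace Groth.Agent.S3873
open CategoryTheory AlgebraicGeometry

open AlgebraicGeometry in
/-- Its content on the affine schemes underlying the formal spectra: the inverse image ideal of b^Δ is
(bA)^Δ, read on Spec: For a ring homomorphism φ : B -> A and an ideal b of B, the inverse image
along Spec(φ) of the ideal sheaf of b on Spec B is the ideal sheaf on Spec A of the ideal generated
by φ(b). -/
theorem result (A B : Type u) [CommRing A] [CommRing B] (φ : B →+* A) (𝔟 : Ideal B) :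
    (FSch.idealSpec B 𝔟).comap (Spec.map (CommRingCat.ofHom φ)) = FSch.idealSpec A (𝔟.map φ) := by
  refine Scheme.IdealSheafData.ext_of_isAffine ?_
  rw [FSch.idealSpec, FSch.idealSpec,
    GrothLib.FSchSys.ideal_comap_SpecMap _ _ _ (GrothLib.FSchSys.ideal_ker_SpecMap _),
    GrothLib.FSchSys.ideal_ker_SpecMap]
  simp only [CommRingCat.hom_ofHom, Ideal.mk_ker]

end Groth.Agent.S3873
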