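import Groth.Statements.S3874
import Mathlib.RingTheory.AdicCompletion.Completeness
import Mathlib.RingTheory.AdicCompletion.Algebra
-- import your own Groth.Agent.* helpers here

set_option autoImplicit false
universe u
open FCompl

namespace Groth.Agent.S3874

/-- Let A be a Noetherian ring, J an ideal, f ∈ A and n ≥ 0, and let A_{f} be the completion of the
localization A_f for the topology defined by the extension of J. There is a ring isomorphism from
the localization of A/J^(n+1) away from the class of f onto A_{f} modulo the (n+1)-st power of the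
extension of J to A_{f}, compatible with the canonical maps from A (and hence unique). In terms of
formal spectra: the open D(f) of Spf(A) is Spf(A_{f}), and at level n its ring is the ring
(A/J^(n+1))_f of the open D(f) of Spec(A/J^(n+1)). -/
theorem result (A : Type u) [CommRing A] [IsNoetherianRing A] (J : Ideal A)
    (f : A) (n : ℕ) :
    ∃ e : Localization.Away (Ideal.Quotient.mk (J ^ (n + 1)) f) ≃+*
        FSch.cAway A J f ⧸ (J.map (algebraMap A (FSch.cAway A J f))) ^ (n + 1),
      ∀ a : A, e (algebraMap (A ⧸ J ^ (n + 1)) _ (Ideal.Quotient.mk (J ^ (n + 1)) a)) =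
        Ideal.Quotient.mk _ (algebraMap A (FSch.cAway A J f) a) := by
  let R := Localization.Away f
  let K : Ideal R := J.map (algebraMap A R)
  let C := FSch.cAway A J f
  let I : Ideal A := J ^ (n + 1)
  have hKI : I.map (algebraMap A R) = K ^ (n + 1) := Ideal.map_pow _ _ _
  -- the kernel of the evaluation on the completion
  have hker : RingHom.ker (AdicCompletion.evalₐ K (n + 1)).toRingHom =
      (J.map (algebraMap A C)) ^ (n + 1) := by
    rw [IsScalarTower.algebraMap_eq A R C, ← Ideal.map_map]
    conv_rhs => rw [← Ideal.map_pow]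
    ext x
    have h1 : x ∈ ((K ^ (n + 1)).map (algebraMap R C)) ↔
        x ∈ LinearMap.ker (AdicCompletion.eval K R (n + 1)) := by
      rw [← AdicCompletion.pow_smul_top_eq_ker_eval (IsNoetherian.noetherian K),
        Ideal.smul_top_eq_map]
      rfl
    rw [h1, LinearMap.mem_ker, RingHom.mem_ker]
    change AdicCompletion.evalₐ K (n + 1) x = 0 ↔ _
    rw [← AdicCompletion.factor_eval_eq_evalₐ (I := K) x (Ideal.mul_top _).le]
    refine (map_eq_zero_iff _ fun p q hpq => ?_)
    obtain ⟨p, rfl⟩ := Submodule.Quotient.mk_surjective _ p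
    obtain ⟨q, rfl⟩ := Submodule.Quotient.mk_surjective _ q
    refine (Submodule.Quotient.eq _).mpr ?_
    rw [Ideal.smul_eq_mul, Ideal.mul_top]
    exact (Submodule.Quotient.eq _).mp hpq
  let e₂ : R ⧸ K ^ (n + 1) ≃+* C ⧸ (J.map (algebraMap A C)) ^ (n + 1) :=
    (RingHom.quotientKerEquivOfSurjective (f := (AdicCompletion.evalₐ K (n + 1)).toRingHom)
      (AdicCompletion.surjective_evalₐ K (n + 1))).symm.trans (Ideal.quotEquivOfEq hker)
  -- the localization of the quotient
  let L := Localization.Away (Ideal.Quotient.mk I f)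
  have hu : IsUnit (Ideal.Quotient.mk (K ^ (n + 1)) (algebraMap A R f)) :=
    (IsLocalization.Away.algebraMap_isUnit f).map _
  let g : L →+* R ⧸ K ^ (n + 1) := IsLocalization.Away.lift (Ideal.Quotient.mk I f)
    (g := Ideal.quotientMap (K ^ (n + 1)) (algebraMap A R)
      (Ideal.map_le_iff_le_comap.mp hKI.le)) hu
  let h₀ : R →+* L := IsLocalization.Away.lift f
    (g := (algebraMap (A ⧸ I) L).comp (Ideal.Quotient.mk I))
    (IsLocalization.Away.algebraMap_isUnit (Ideal.Quotient.mk I f))
  have h₀a : ∀ a, h₀ (algebraMap A R a) = algebraMap (A ⧸ I) L (Ideal.Quotient.mk I a) :=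
    IsLocalization.Away.lift_eq f _
  have hga : ∀ a, g (algebraMap (A ⧸ I) L (Ideal.Quotient.mk I a)) =
      Ideal.Quotient.mk (K ^ (n + 1)) (algebraMap A R a) := fun a =>
    (IsLocalization.Away.lift_eq (Ideal.Quotient.mk I f) _ _).trans rfl
  let h : R ⧸ K ^ (n + 1) →+* L := Ideal.Quotient.lift _ h₀ fun x hx => by
    have : K ^ (n + 1) ≤ RingHom.ker h₀ := by
      rw [← hKI, Ideal.map_le_iff_le_comap]
      intro a ha
      rw [Ideal.mem_comap, RingHom.mem_ker, h₀a, Ideal.Quotient.eq_zero_iff_mem.mpr ha, map_zero]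
    exact this hx
  have h1 : h.comp g = RingHom.id _ := by
    refine IsLocalization.ringHom_ext (Submonoid.powers (Ideal.Quotient.mk I f))
      (Ideal.Quotient.ringHom_ext (RingHom.ext fun a => ?_))
    simp only [RingHom.comp_apply, hga, RingHom.id_apply]
    exact h₀a a
  have h2 : g.comp h = RingHom.id _ := by
    refine Ideal.Quotient.ringHom_ext (IsLocalization.ringHom_ext (Submonoid.powers f)
      (RingHom.ext fun a => ?_))
    change g (h₀ (algebraMap A R a)) = Ideal.Quotient.mk _ (algebraMap A R a)
    rw [h₀a, hga]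
  refine ⟨(RingEquiv.ofRingHom g h h2 h1).trans e₂, fun a => ?_⟩
  rw [RingEquiv.trans_apply]
  erw [RingEquiv.ofRingHom_apply, hga]
  simp only [e₂, RingEquiv.trans_apply]
  have : (RingHom.quotientKerEquivOfSurjective (f := (AdicCompletion.evalₐ K (n + 1)).toRingHom)
      (AdicCompletion.surjective_evalₐ K (n + 1))).symm
      (Ideal.Quotient.mk (K ^ (n + 1)) (algebraMap A R a)) =
      Ideal.Quotient.mk _ (algebraMap R C (algebraMap A R a)) := by
    rw [RingEquiv.symm_apply_eq]
    exact (AdicCompletion.evalₐ_of K (n + 1) (algebraMap A R a)).symm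
  rw [this, Ideal.quotEquivOfEq_mk]
  rfl

end Groth.Agent.S3874
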