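import Groth.Statements.S3878
import Groth.Agent.Lib.CohTopos20.Site

set_option autoImplicit false
set_option linter.style.haveILetI false
open CategoryTheory CategoryTheory.Limits Opposite
universe u
open ToposFin

namespace Groth.Agent.S3878

/-- Let (C, J) and (D, K) be small sites and u : D ⥤ C a continuous functor, giving a morphism of topoi
whose direct image on sheaves is F ↦ F ∘ u, with right derived functors R^q on abelian sheaves.
Assume that the topos of sheaves on (C, J) is algebraic and that for every object V of D the sheaf
on C attached to u(V), which is the inverse image of the sheaf attached to V, is coherent. Then for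
every q the higher direct image functor R^q on abelian sheaves preserves colimits indexed by any
small filtered category. The published hypotheses (a coherent morphism from an algebraic topos to a
locally coherent topos) give this situation with D the site of coherent algebraic objects of the
target. -/
theorem result {C D : Type u} [SmallCategory C]
    [SmallCategory D] (J : GrothendieckTopology C) (K : GrothendieckTopology D) (hE : ToposFin.IsAlgebraic J)
    (u : D ⥤ C) [u.IsContinuous K J] (hu : ∀ V : D, ToposFin.IsCoherent (ToposFin.eps J (u.obj V)))
    (Λ : Type u) [SmallCategory Λ] [IsFiltered Λ] (q : ℕ) :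
    PreservesColimitsOfShape Λ (CohSite.Rpush J K u q) := by
  refine ⟨fun {F} => GrothLib.ColimCoh.preservesColimit_Rpush K u q F fun V =>
    ⟨PUnit, fun _ => V, fun _ => 𝟙 V, ?_, fun _ =>
      (GrothLib.CohTopos20.preservesColimit_cohomology_eps hE (u.obj V) (hu V) q).preservesColimit⟩⟩
  exact K.superset_covering (fun W g _ =>
    (Sieve.mem_ofArrows_iff _ _ g).2 ⟨PUnit.unit, g, (Category.comp_id g).symm⟩) (K.top_mem V)

end Groth.Agent.S3878
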