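import Groth.Statements.S3879
import Groth.Agent.Lib.CohTopos20.Site

set_option autoImplicit false
set_option linter.style.haveILetI false
open CategoryTheory CategoryTheory.Limits Opposite
universe u
open ToposFin

namespace Groth.Agent.S3879

/-- In the topos of sheaves on a small site, let S be a generating set of quasi-compact objects, stable
under fibre products (so the topos is locally coherent). Let (F_i) be a diagram of abelian sheaves
indexed by a small filtered category such that H^q(K, F_i) = 0 for every K in S, every i and every q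
> 0 (the F_i are S-acyclic). Then H^q(K, colim F_i) = 0 for every K in S and every q > 0. -/
theorem result {C : Type u} [SmallCategory C]
    {J : GrothendieckTopology C} (S : Set (ToposFin.Sh J)) (hqc : ∀ K ∈ S, ToposFin.IsQC K)
    (hgen : ToposFin.IsGenerating S) (hpb : ToposFin.ClosedUnderPullbacks S)
    {Λ : Type u} [SmallCategory Λ] [IsFiltered Λ] (D : Λ ⥤ Sheaf J AddCommGrpCat.{u})
    (hD : ∀ (i : Λ) (K : ToposFin.Sh J), K ∈ S → ∀ q : ℕ, Subsingleton (CohCx.HK K (D.obj i) (q + 1)))
    (K : ToposFin.Sh J) (hK : K ∈ S) (q : ℕ) :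
    Subsingleton (CohCx.HK K (colimit D) (q + 1)) := by
  have hS : ∀ A ∈ S, ToposFin.IsCoherent A := fun A hA =>
    GrothLib.Topos.QC.isCoherent_of_mem hqc hgen hpb hA
  change Subsingleton (Abelian.Ext ((ToposFin.freeAb J).obj K) (colimit D) (q + 1))
  refine subsingleton_of_forall_eq 0 fun x => ?_
  obtain ⟨i, y, hy⟩ := (GrothLib.CohTopos20.gen_and_kill hgen hS
    (GrothLib.CohTopos20.nice_free (GrothLib.CohTopos20.base_of_mem S hqc hgen hpb hK)) (q + 1) D).1 x
  have hs : Subsingleton (Abelian.Ext ((ToposFin.freeAb J).obj K) (D.obj i) (q + 1)) := hD i K hK q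
  have hy0 : y = 0 := @Subsingleton.elim _ hs y 0
  rw [← hy, hy0]
  simp

end Groth.Agent.S3879
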