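import Groth.Statements.S3894
import Mathlib.CategoryTheory.Sites.Limits

set_option autoImplicit false
universe u
open CategoryTheory CategoryTheory.Limits Opposite
open Tors

namespace Groth.Agent.S3894

/-- A torsor P under an abelian sheaf G is trivial, i.e. equivariantly isomorphic to G acting on itself
by translations, if and only if P has a global section (a morphism from the final sheaf of sets). -/
theorem result {C : Type u} [SmallCategory C] {J : GrothendieckTopology C}
    {G : Sheaf J AddCommGrpCat.{u}} (T : Tors.Torsor G) : T.IsTrivial ↔ T.HasSection := by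
  constructor
  · rintro ⟨e, he⟩
    let z : (Functor.const Cᵒᵖ).obj PUnit.{u+1} ⟶ ((sheafCompose J (forget AddCommGrpCat.{u})).obj G).obj :=
      { app := fun U => ↾fun _ => (0 : G.obj.obj U)
        naturality := fun U V f => by ext; exact (map_zero (G.obj.map f).hom).symm }
    let t : (⊤_ (Sheaf J (Type u))).obj ⟶ (Functor.const Cᵒᵖ).obj PUnit.{u+1} :=
      { app := fun U => ↾fun _ => PUnit.unit }
    exact ⟨⟨t ≫ z⟩ ≫ e.hom⟩
  · rintro ⟨s⟩
    let p : ∀ U : Cᵒᵖ, T.P.obj.obj U := fun U =>
      s.hom.app U ((terminal.from ((sheafCompose J (forget AddCommGrpCat.{u})).obj G)).hom.app U (0 : G.obj.obj U))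
    have hp : ∀ (U V : Cᵒᵖ) (f : U ⟶ V), T.P.obj.map f (p U) = p V := fun U V f => by
      have h := (NatTrans.naturality_apply (terminal.from ((sheafCompose J (forget AddCommGrpCat.{u})).obj G) ≫ s).hom f
        (0 : G.obj.obj U)).symm
      refine h.trans ?_
      exact congrArg (fun g => s.hom.app V ((terminal.from ((sheafCompose J (forget AddCommGrpCat.{u})).obj G)).hom.app V g))
        (map_zero (G.obj.map f).hom)
    let η : ((sheafCompose J (forget AddCommGrpCat.{u})).obj G).obj ≅ T.P.obj :=
      NatIso.ofComponents (fun U => (Equiv.ofBijective (fun g : G.obj.obj U => T.vadd g (p U))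
        (Function.bijective_iff_existsUnique _ |>.2 fun q => T.free_transitive (p U) q)).toIso)
        (fun {U V} f => by
          ext g
          change T.vadd (G.obj.map f g) (p V) = T.P.obj.map f (T.vadd g (p U))
          rw [T.map_vadd, hp])
    refine ⟨(fullyFaithfulSheafToPresheaf J (Type u)).preimageIso η, fun U g h => ?_⟩
    exact T.add_vadd g h (p U)

end Groth.Agent.S3894
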