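import Groth.Statements.S3897
import Groth.Agent.Lib.OpenTopos18.Basic
-- import your own Groth.Agent.* helpers here

set_option autoImplicit false
open CategoryTheory CategoryTheory.Limits AlgebraicGeometry Opposite
universe u
open EtDesc

namespace Groth.Agent.S3897

/-- Let U be a Zariski open of the scheme X, with open immersion j : U -> X and attached subterminal
etale sheaf of sets U~ on X. Then the functor from sheaves of sets on X over U~ to sheaves of sets
on U, (F -> U~) ↦ j^* F, is an equivalence of categories. -/
theorem result (X : Scheme.{u}) (U : X.Opens) :
    (Over.forget (EtDesc.repSh (EtDesc.ofOpen U)) ⋙ EtDesc.pullSh U.ι).IsEquivalence := GrothLib.OpenTopos18.isEquivalence U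

end Groth.Agent.S3897
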