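import Groth.Statements.S8401
import Groth.Agent.Lib.MaxTorBC14.Inter
-- import your own Groth.Agent.* helpers here

set_option autoImplicit false
universe u
open CategoryTheory MonoidalCategory CartesianMonoidalCategory MonObj GrpObj AlgebraicGeometry
open SGA3x

namespace Groth.Agent.S8401

/-- Let G be an affine, smooth, connected algebraic group over an algebraically closed field k, and Z
its reductive centre. Then Z is the scheme-theoretic intersection of the maximal tori of G: a point
of G with values in a k-scheme X factors through Z if and only if it factors through every maximal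
torus of G. -/
theorem result (k : Type u) [Field k] [IsAlgClosed k]
    (G : Over (Spec (CommRingCat.of k))) [GrpObj G] [Smooth G.hom] [QuasiCompact G.hom] [IsAffine G.left] [ConnectedSpace ↥G.left]
    (Z : Over (Spec (CommRingCat.of k))) [GrpObj Z] (z : Z ⟶ G)
    (hZ : (IsMonHom z ∧ Mono z ∧ SGA3x.IsMultTypeFT Z ∧
      (∀ (X : Over (Spec (CommRingCat.of k))) (x : X ⟶ Z) (g : X ⟶ G), (x ≫ z) * g = g * (x ≫ z)) ∧
      ∀ (S' : Scheme.{u}) (f : S' ⟶ (Spec (CommRingCat.of k))) (H : Over S') [GrpObj H] (v : H ⟶ Red.bc f G) [IsMonHom v],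
        SGA3x.IsMultTypeFT H →
        (∀ (X : Over S') (x : X ⟶ H) (g : X ⟶ Red.bc f G), (x ≫ v) * g = g * (x ≫ v)) →
        ∃ w : H ⟶ Red.bc f Z, w ≫ (Over.pullback f).map z = v)) (X : Over (Spec (CommRingCat.of k))) (g : X ⟶ G) :
    (∃ x : X ⟶ Z, x ≫ z = g) ↔
      ∀ (T : Over (Spec (CommRingCat.of k))) [GrpObj T] (i : T ⟶ G), Red.IsMaximalTorus i → ∃ t : X ⟶ T, t ≫ i = g := by
  obtain ⟨hzm, hzmono, hZmt, hzc, hzuniv⟩ := hZ
  haveI := hzm; haveI := hzmono
  constructor
  · rintro ⟨x, rfl⟩ T _ i hi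
    haveI : IsAffineHom G.hom := isAffineHom_of_isAffine _
    obtain ⟨w, hw⟩ := GrothLib.MaxTorBC14.exists_factor_of_central
      (fun s => GrothLib.Flag27.connectedSpace_bc (Red.geomPt s) G) i hi hZmt z hzc
    exact ⟨x ≫ w, by rw [Category.assoc, hw]⟩
  · intro h
    obtain ⟨I, _, c, hcm, hcmono, hImt, hIc, hI⟩ := GrothLib.MaxTorBC14.exists_inter_maxTori (G := G)
    haveI := hcm
    obtain ⟨x, hx⟩ := hI X g h
    let one : Spec (CommRingCat.of k) ⟶ Spec (CommRingCat.of k) := 𝟙 _
    obtain ⟨w, hw⟩ := hzuniv _ one (Red.bc one I) ((Over.pullback one).map c)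
      (GrothLib.QuotTorus14.isMultTypeFT_of_charts
        ((GrothLib.DiagGrp.hasChartsFpqc_of_isMultTypeFT hImt).baseChange one)) (fun Y a b => by
        have e := (GrothLib.MaxTorBC14.commute_map one c (𝟙 G)
          (fun Y' a' b' => by rw [Category.comp_id]; exact (hIc Y' b' a').symm) Y a b).eq
        rw [(Over.pullback one).map_id] at e
        simpa only [Category.comp_id] using e)
    have hF : GrothLib.DiagGrp.Factor c z one := (GrothLib.DiagGrp.factor_iff_exists c z one).2 ⟨w, hw⟩
    obtain ⟨y, hy⟩ := hF I I.hom (Category.comp_id _) (𝟙 I)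
    exact ⟨x ≫ y, by rw [Category.assoc, hy, Category.id_comp, hx]⟩

end Groth.Agent.S8401
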