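import Groth.Statements.S5512
-- import your own Groth.Agent.* helpers here
import Groth.Agent.Lib.Chev24.Tori
import Groth.Agent.Lib.CentMT14.Quotient
import Groth.Agent.Lib.Flag27.Conj

set_option autoImplicit false
set_option maxHeartbeats 2000000
open CategoryTheory MonoidalCategory CartesianMonoidalCategory MonObj GrpObj AlgebraicGeometry
universe u
open RedSub

namespace Groth.Agent.S5512

set_option backward.isDefEq.respectTransparency false

variable {S : Scheme.{u}} {T T₁ T₂ H G : Over S} [GrpObj T] [GrpObj T₁] [GrpObj T₂] [GrpObj H] [GrpObj G]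

theorem mono_map_pullback {S' : Scheme.{u}} (q : S' ⟶ S) {X Y : Over S} (f : X ⟶ Y) [Mono f] :
    Mono ((Over.pullback q).map f) := by
  haveI : (Over.pullback q).IsRightAdjoint := (Over.mapPullbackAdj _).isRightAdjoint
  infer_instance

/-- A maximal torus of G contained in a subgroup H is a maximal torus of H. -/
theorem isMaximalTorus_of_comp (i : H ⟶ G) [IsMonHom i] [Mono i] (t : T ⟶ H) [IsMonHom t]
    (h : Red.IsMaximalTorus (t ≫ i)) : Red.IsMaximalTorus t := by
  obtain ⟨-, hmo, hT, hmax⟩ := h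
  haveI := hmo
  refine ⟨inferInstance, mono_of_mono t i, hT, fun s T' _ j _ _ f hT' hf => ?_⟩
  haveI : Mono ((Over.pullback (Red.geomPt s)).map i) := mono_map_pullback (Red.geomPt s) i
  exact hmax s T' (j ≫ (Over.pullback (Red.geomPt s)).map i) f hT'
    (by rw [reassoc_of% hf, ← Functor.map_comp])

/-- A conjugate of a maximal torus is a maximal torus. -/
theorem isMaximalTorus_of_conjBy (i₁ : T₁ ⟶ G) (i₂ : T₂ ⟶ G) [IsMonHom i₂] [Mono i₂] (hT₂ : Red.IsTorus T₂)
    (h : Red.IsMaximalTorus i₁) (g : 𝟙_ (Over S) ⟶ G) (φ : T₁ ≅ T₂) (e : AGF.conjBy g i₁ = φ.hom ≫ i₂) :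
    Red.IsMaximalTorus i₂ := by
  refine ⟨inferInstance, inferInstance, hT₂, fun s T' _ j _ _ f hT' hf => ?_⟩
  haveI : IsMonHom (AGF.conjBy g⁻¹ (𝟙 G)) := GrothLib.Flag27.isMonHom_conjBy g⁻¹ (𝟙 G)
  haveI : Mono ((Over.pullback (Red.geomPt s)).map (AGF.conjBy g⁻¹ (𝟙 G))) := inferInstance
  have e' : φ.hom ≫ i₂ ≫ AGF.conjBy g⁻¹ (𝟙 G) = i₁ := by
    rw [← Category.assoc, ← e, ← GrothLib.Flag27.conjBy_eq_comp g⁻¹ (AGF.conjBy g i₁),
      GrothLib.Flag27.conjBy_conjBy g⁻¹ g i₁, inv_mul_cancel, GrothLib.Flag27.conjBy_one i₁]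
  have hi : IsIso ((Over.pullback (Red.geomPt s)).map φ.hom ≫ f) :=
    h.2.2.2 s T' (j ≫ (Over.pullback (Red.geomPt s)).map (AGF.conjBy g⁻¹ (𝟙 G)))
      ((Over.pullback (Red.geomPt s)).map φ.hom ≫ f) hT'
      (by rw [Category.assoc, reassoc_of% hf, ← Functor.map_comp, ← Functor.map_comp, e'])
  exact IsIso.of_isIso_comp_left ((Over.pullback (Red.geomPt s)).map φ.hom) f

/-- If some maximal torus of G lies in the connected group H, then all maximal tori of H are maximal tori of G. -/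
theorem isMaximalTorus_comp {K : Type u} [Field K] [IsAlgClosed K]
    {T₁ T₂ H G : Over (Spec (CommRingCat.of K))} [GrpObj T₁] [GrpObj T₂] [GrpObj H] [GrpObj G]
    [Smooth H.hom] [QuasiCompact H.hom] [ConnectedSpace H.left]
    (i : H ⟶ G) [IsMonHom i] [Mono i] (t₁ : T₁ ⟶ H) [IsMonHom t₁] (h₁ : Red.IsMaximalTorus (t₁ ≫ i))
    (t₂ : T₂ ⟶ H) (h₂ : Red.IsMaximalTorus t₂) : Red.IsMaximalTorus (t₂ ≫ i) := by
  obtain ⟨g, φ, hφ⟩ := GrothLib.Chev24.exists_conj_maxTori' t₁ t₂ (isMaximalTorus_of_comp i t₁ h₁) h₂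
  haveI := h₂.1
  haveI := h₂.2.1
  refine isMaximalTorus_of_conjBy (t₁ ≫ i) (t₂ ≫ i) h₂.2.2.1 h₁ (g ≫ i) φ ?_
  rw [← Category.assoc, ← hφ]
  simp only [AGF.conjBy, MonObj.mul_comp, GrpObj.inv_comp, Category.assoc]


/-- For a reductive S-group G. Let i : H ⟶ G be a subgroup of type (R) and k : K ⟶ H a homomorphism.
Then k is a subgroup of type (R) of H if and only if k ≫ i is a subgroup of type (R) of G. (For H of
type (R) in a reductive G, the Cartan subgroups of the geometric fibres of H are their maximal tori,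
which are maximal tori of the geometric fibres of G, so the prelude's notion of type (R) relative to
H is the source's.) -/
theorem result {S : Scheme.{u}} {G H K : Over S} [GrpObj G] [GrpObj H] [GrpObj K]
    (hG : Red.IsReductive G) (i : H ⟶ G) (hH : RedSub.IsTypeR i) (k : K ⟶ H) [IsMonHom k] :
    RedSub.IsTypeR k ↔ RedSub.IsTypeR (k ≫ i) := by
  obtain ⟨⟨hi, hiI⟩, hsm, hqc, hconn, hfib⟩ := id hH
  haveI := hi; haveI := hiI; haveI := hsm; haveI := hqc
  haveI : Mono i := Over.mono_of_mono_left i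
  constructor
  · rintro ⟨⟨hk, hkI⟩, hKs, hKq, hKc, hKf⟩
    haveI := hkI
    refine ⟨⟨inferInstance, by rw [Over.comp_left]; infer_instance⟩, hKs, hKq, hKc, fun s => ?_⟩
    obtain ⟨T, iT, t, ht, hmax⟩ := hKf s
    obtain ⟨T', iT', t', ht', hmax'⟩ := hfib s
    letI := iT; letI := iT'; haveI := ht; haveI := ht'
    haveI : Mono ((Over.pullback (Red.geomPt s)).map i) := mono_map_pullback (Red.geomPt s) i
    haveI : Smooth (Red.geomFibre s H).hom := inferInstanceAs (Smooth (Limits.pullback.snd H.hom (Red.geomPt s)))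
    haveI : QuasiCompact (Red.geomFibre s H).hom :=
      inferInstanceAs (QuasiCompact (Limits.pullback.snd H.hom (Red.geomPt s)))
    haveI : ConnectedSpace (Red.geomFibre s H).left :=
      GrothLib.CentMT14.connectedSpace_bc hconn (Red.geomPt s)
    refine ⟨T, iT, t, ht, ?_⟩
    rw [Functor.map_comp, ← Category.assoc]
    exact isMaximalTorus_comp ((Over.pullback (Red.geomPt s)).map i) t' hmax'
      (t ≫ (Over.pullback (Red.geomPt s)).map k) hmax
  · rintro ⟨⟨-, hkiI⟩, hKs, hKq, hKc, hKf⟩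
    haveI : IsImmersion (k.left ≫ i.left) := hkiI
    refine ⟨⟨inferInstance, IsImmersion.of_comp k.left i.left⟩, hKs, hKq, hKc, fun s => ?_⟩
    obtain ⟨T, iT, t, ht, hmax⟩ := hKf s
    letI := iT; haveI := ht
    haveI : Mono ((Over.pullback (Red.geomPt s)).map i) := mono_map_pullback (Red.geomPt s) i
    rw [Functor.map_comp, ← Category.assoc] at hmax
    exact ⟨T, iT, t, ht, isMaximalTorus_of_comp ((Over.pullback (Red.geomPt s)).map i)
      (t ≫ (Over.pullback (Red.geomPt s)).map k) hmax⟩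

end Groth.Agent.S5512
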