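import Groth.Statements.S5554
import Groth.Agent.Lib.MaxTorBC14.Geom
import Groth.Agent.Lib.MultDef14.SubTransporter
import Groth.Agent.Lib.MultDef14.EtaleLocal
import Groth.Agent.Lib.Flag27.NormalizerBC
import Groth.Agent.Lib.CentMT14.Quotient
import Groth.Agent.Lib.Chev24.Tori
import Groth.Agent.S5512
-- import your own Groth.Agent.* helpers here

set_option autoImplicit false
open CategoryTheory MonoidalCategory CartesianMonoidalCategory MonObj GrpObj AlgebraicGeometry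
universe u
open RedSub

namespace Groth.Agent.S5554

set_option backward.isDefEq.respectTransparency false
set_option maxHeartbeats 3200000
set_option synthInstance.maxHeartbeats 400000

open GrothLib GrothLib.DiagGrp in
/-- A point of a geometric fibre conjugating two subgroups gives such a point over the base. -/
theorem exists_conjSub_point {S W : Scheme.{u}} (p : W ⟶ S) {T₁ T₂ H : Over S} [GrpObj H]
    (i₁ : T₁ ⟶ H) (i₂ : T₂ ⟶ H) (g : 𝟙_ (Over W) ⟶ Red.bc p H)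
    (hg : SGA3x.ConjBy ((Over.pullback p).map i₁) ((Over.pullback p).map i₂) g) :
    ∃ g' : Over.mk p ⟶ H, MultDef14.ConjSub i₁ i₂ g' := by
  obtain ⟨φ, hφ⟩ := hg
  let w : Over.mk p ⟶ (Over.map p).obj (𝟙_ (Over W)) := Over.homMk (𝟙 W) (Category.id_comp _)
  refine ⟨w ≫ (bcPoint p H (𝟙_ (Over W))).symm g, fun Y q => ?_⟩
  let Y' : Over W := Over.mk q.left
  let e : Y ≅ (Over.map p).obj Y' := Over.isoMk (Iso.refl _) ((Category.id_comp _).trans (Over.w q))
  have he : ∀ x : Y ⟶ H, e.hom ≫ e.inv ≫ x = x := fun x => e.hom_inv_id_assoc x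
  have hq : q ≫ w = e.hom ≫ (Over.map p).map (toUnit Y') :=
    Over.OverMorphism.ext ((Category.comp_id _).trans (Category.id_comp _).symm)
  let E := bcPointMulEquiv p H Y'
  have hQ : E ((Over.map p).map (toUnit Y') ≫ (bcPoint p H (𝟙_ (Over W))).symm g) = toUnit Y' ≫ g :=
    (bcPoint_comp p (toUnit Y') _).trans (congrArg (toUnit Y' ≫ ·) (Equiv.apply_symm_apply _ _))
  rw [reassoc_of% hq]
  constructor
  · intro a
    let a' := bcPoint p T₁ Y' (e.inv ≫ a)
    refine ⟨e.hom ≫ (bcPoint p T₂ Y').symm (a' ≫ φ.hom), ?_⟩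
    have key : ((Over.map p).map (toUnit Y') ≫ (bcPoint p H (𝟙_ (Over W))).symm g) * ((e.inv ≫ a) ≫ i₁) *
        ((Over.map p).map (toUnit Y') ≫ (bcPoint p H (𝟙_ (Over W))).symm g)⁻¹ =
        (bcPoint p T₂ Y').symm (a' ≫ φ.hom) ≫ i₂ := by
      apply E.injective
      rw [map_mul, map_mul, map_inv, hQ]
      show _ * bcPoint p H Y' ((e.inv ≫ a) ≫ i₁) * _ = bcPoint p H Y' ((bcPoint p T₂ Y').symm (a' ≫ φ.hom) ≫ i₂)
      rw [bcPoint_comp_right p (e.inv ≫ a) i₁, bcPoint_comp_right p _ i₂, Equiv.apply_symm_apply]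
      have h := congrArg (a' ≫ ·) hφ
      simp only [MonObj.comp_mul, GrpObj.comp_inv, ← Category.assoc, toUnit_unique (a' ≫ toUnit _) (toUnit Y')] at h
      exact h
    have h := congrArg (e.hom ≫ ·) key
    simp only [MonObj.comp_mul, GrpObj.comp_inv, Category.assoc, he] at h
    simpa only [Category.assoc] using h
  · intro b
    let b' := bcPoint p T₂ Y' (e.inv ≫ b)
    refine ⟨e.hom ≫ (bcPoint p T₁ Y').symm (b' ≫ φ.inv), ?_⟩
    have key : ((Over.map p).map (toUnit Y') ≫ (bcPoint p H (𝟙_ (Over W))).symm g)⁻¹ * ((e.inv ≫ b) ≫ i₂) *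
        ((Over.map p).map (toUnit Y') ≫ (bcPoint p H (𝟙_ (Over W))).symm g) =
        (bcPoint p T₁ Y').symm (b' ≫ φ.inv) ≫ i₁ := by
      apply E.injective
      rw [map_mul, map_mul, map_inv, hQ]
      show _ * bcPoint p H Y' ((e.inv ≫ b) ≫ i₂) * _ = bcPoint p H Y' ((bcPoint p T₁ Y').symm (b' ≫ φ.inv) ≫ i₁)
      rw [bcPoint_comp_right p (e.inv ≫ b) i₂, bcPoint_comp_right p _ i₁, Equiv.apply_symm_apply]
      have h := congrArg ((b' ≫ φ.inv) ≫ ·) hφ
      simp only [MonObj.comp_mul, GrpObj.comp_inv, ← Category.assoc,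
        toUnit_unique (((b' ≫ φ.inv)) ≫ toUnit _) (toUnit Y')] at h
      have h' : (b' ≫ φ.inv) ≫ φ.hom = b' := by rw [Category.assoc, Iso.inv_hom_id, Category.comp_id]
      rw [h'] at h
      rw [← h]
      group
    have h := congrArg (e.hom ≫ ·) key
    simp only [MonObj.comp_mul, GrpObj.comp_inv, Category.assoc, he] at h
    simpa only [Category.assoc] using h

open GrothLib in
/-- Two maximal tori of an ambient group lying in a smooth connected subgroup are conjugate in it, etale locally. -/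
theorem exists_etale_conj {S : Scheme.{u}} {G H T₁ T₂ : Over S} [GrpObj G] [GrpObj H] [GrpObj T₁] [GrpObj T₂]
    (hG : Smooth G.hom) (hGa : IsAffineHom G.hom) (h : H ⟶ G) [IsMonHom h] [Mono h] [Smooth H.hom] [QuasiCompact H.hom]
    (hconn : ∀ (s : S), ConnectedSpace (Red.geomFibre s H).left)
    (i₁ : T₁ ⟶ H) [IsMonHom i₁] (i₂ : T₂ ⟶ H) [IsMonHom i₂] (h₁ : Red.IsMaximalTorus (i₁ ≫ h))
    (h₂ : Red.IsMaximalTorus (i₂ ≫ h)) (s : S) :
    ∃ (S' : Scheme.{u}) (f : S' ⟶ S), Etale f ∧ s ∈ Set.range f.base ∧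
      ∃ g : Over.mk f ⟶ H, MultDef14.ConjSub i₁ i₂ g := by
  haveI := hG; haveI := hGa
  obtain ⟨_, hm₁, hT₁, -⟩ := id h₁
  obtain ⟨_, hm₂, hT₂, -⟩ := id h₂
  haveI := hm₁; haveI := hm₂
  haveI : Mono i₁ := mono_of_mono i₁ h
  haveI : Mono i₂ := mono_of_mono i₂ h
  have hM₁ := QuotTorus14.isMultTypeFT_of_charts (DiagGrp.hasChartsFpqc_of_isTorus hT₁)
  have hM₂ := QuotTorus14.isMultTypeFT_of_charts (DiagGrp.hasChartsFpqc_of_isTorus hT₂)
  obtain ⟨T₀, j, hjc, hT₀s, hspec₀⟩ := MultDef14.exists_transporterSub hM₁ hM₂ hG hGa (i₁ ≫ h) (i₂ ≫ h)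
  haveI := hjc; haveI := hT₀s
  haveI : Mono j := Over.mono_of_mono_left j
  let P := Limits.pullback h j
  let a : P ⟶ H := Limits.pullback.fst h j
  have hP : IsPullback a (Limits.pullback.snd h j) h j := IsPullback.of_hasPullback h j
  haveI : Mono a := hP.mono_fst_of_mono
  have sq := hP.map (Over.forget S)
  haveI : LocallyOfFinitePresentation j.left := by
    haveI : LocallyOfFinitePresentation (j.left ≫ G.hom) := by rw [Over.w j]; infer_instance
    exact DiagGrp.lfp_of_comp_of_lft j.left G.hom inferInstance inferInstance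
  haveI : LocallyOfFinitePresentation a.left :=
    MorphismProperty.of_isPullback sq.flip ‹LocallyOfFinitePresentation j.left›
  haveI : LocallyOfFinitePresentation P.hom := by rw [← Over.w a]; infer_instance
  have hmem : ∀ (X : Over S) (g : X ⟶ H), (∃ t : X ⟶ P, t ≫ a = g) ↔
      MultDef14.ConjSub (i₁ ≫ h) (i₂ ≫ h) (g ≫ h) := fun X g => by
    constructor
    · rintro ⟨t, rfl⟩
      exact (hspec₀ _ _).mp ⟨t ≫ Limits.pullback.snd h j, by rw [Category.assoc, ← hP.w, Category.assoc]⟩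
    · intro hg
      obtain ⟨t, ht⟩ := (hspec₀ _ _).mpr hg
      exact ⟨hP.lift g t ht.symm, hP.lift_fst _ _ _⟩
  have hsub : ∀ (X : Over S) (g : X ⟶ H),
      MultDef14.ConjSub (i₁ ≫ h) (i₂ ≫ h) (g ≫ h) ↔ MultDef14.ConjSub i₁ i₂ g := fun X g => by
    refine forall₂_congr fun Y q => and_congr (forall_congr' fun x => exists_congr fun y => ?_)
      (forall_congr' fun x => exists_congr fun y => ?_)
    all_goals rw [← cancel_mono h]; simp only [MonObj.mul_comp, GrpObj.inv_comp, Category.assoc]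
  have hPs : Smooth P.hom := MultDef14.smooth_of_lift P ‹_› fun {R} _ q J hJ t₀ => by
    obtain ⟨g₁, hg₁⟩ := MultDef14.exists_lift_point ((Groth.Agent.S1488.result H.hom).mp ‹Smooth H.hom›).2 q J hJ
      (t₀ ≫ a)
    obtain ⟨g, hg, hgc⟩ := MultDef14.exists_conjSub_step (DiagGrp.hasChartsFpqc_of_isMultTypeFT hM₁)
      (DiagGrp.hasChartsFpqc_of_isMultTypeFT hM₂) i₁ i₂ q J hJ g₁
      ((hsub _ _).1 (by rw [hg₁]; exact (hmem _ _).mp ⟨t₀, rfl⟩))
    obtain ⟨t, ht⟩ := (hmem _ g).mpr ((hsub _ g).2 hgc)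
    exact ⟨t, by rw [← cancel_mono a, Category.assoc, ht, hg, hg₁]⟩
  haveI := hPs
  have hpt : ∀ x : S, Nonempty (Over.mk (Red.geomPt x) ⟶ P) := fun x => by
    let p := Red.geomPt x
    haveI : Mono ((Over.pullback p).map h) := MaxTorBC14.mono_map p h
    haveI : Smooth (Red.bc p H).hom := GrothLib.Flag27.smooth_bc _ H
    haveI : QuasiCompact (Red.bc p H).hom :=
      MorphismProperty.pullback_snd (P := @QuasiCompact) H.hom p inferInstance
    haveI : ConnectedSpace (Red.bc p H).left := hconn x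
    haveI := h₁.1; haveI := h₂.1
    have m₁ := (MaxTorBC14.isMaximalTorus_iff p (i₁ ≫ h) hT₁).1 h₁
    have m₂ := (MaxTorBC14.isMaximalTorus_iff p (i₂ ≫ h) hT₂).1 h₂
    rw [Functor.map_comp] at m₁ m₂
    obtain ⟨g, hg⟩ := GrothLib.Chev24.exists_conj_maxTori' _ _
      (Groth.Agent.S5512.isMaximalTorus_of_comp ((Over.pullback p).map h) ((Over.pullback p).map i₁) m₁)
      (Groth.Agent.S5512.isMaximalTorus_of_comp ((Over.pullback p).map h) ((Over.pullback p).map i₂) m₂)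
    obtain ⟨g', hg'⟩ := exists_conjSub_point p i₁ i₂ g hg
    obtain ⟨t, -⟩ := (hmem _ g').2 ((hsub _ g').2 hg')
    exact ⟨t⟩
  obtain ⟨S', f, hf, hs, ⟨t⟩⟩ := MultDef14.exists_etale_point P hpt s
  exact ⟨S', f, hf, hs, t ≫ a, (hsub _ _).1 ((hmem _ _).1 ⟨t, rfl⟩)⟩

/-- The non-trivial point (the last arrow of 1 → W_H(T) → W_N(T) → N/H → 1 is an epimorphism of etale
sheaves), for a reductive S-group G. Let H ⟶ G be a subgroup of type (R), N ⟶ G its normaliser with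
H ⟶ N, and T a maximal torus of G contained in H. Then for every X over S and every X-point n of N,
every point of X has an etale neighbourhood f : Y ⟶ X and a Y-point y of H such that (n ∘ f) · y⁻¹
normalises T. -/
theorem result {S : Scheme.{u}} {G H N T : Over S} [GrpObj G] [GrpObj H] [GrpObj N]
    [GrpObj T] (hG : Red.IsReductive G) (h : H ⟶ G) (hH : RedSub.IsTypeR h) (nG : N ⟶ G) (hN : Red.IsNormalizerOf h nG)
    (k : H ⟶ N) (hk : k ≫ nG = h) [IsMonHom k] (t : T ⟶ H) [IsMonHom t] (hT : Red.IsMaximalTorus (t ≫ h))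
    (X : Over S) (n : X ⟶ N) (p : ↥X.left) :
    ∃ (Y : Scheme.{u}) (f : Y ⟶ X.left) (_ : Etale f), p ∈ Set.range f.base ∧
      ∃ y : Over.mk (f ≫ X.hom) ⟶ H,
        ∀ (X' : Over S) (z : X' ⟶ Over.mk (f ≫ X.hom)) (s : X' ⟶ T),
          (∃ s' : X' ⟶ T, (z ≫ ((Over.homMk f ≫ n) * (y ≫ k)⁻¹) ≫ nG) * (s ≫ t ≫ h) *
              (z ≫ ((Over.homMk f ≫ n) * (y ≫ k)⁻¹) ≫ nG)⁻¹ = s' ≫ t ≫ h) ∧
          (∃ s' : X' ⟶ T, (z ≫ ((Over.homMk f ≫ n) * (y ≫ k)⁻¹) ≫ nG)⁻¹ * (s ≫ t ≫ h) *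
              (z ≫ ((Over.homMk f ≫ n) * (y ≫ k)⁻¹) ≫ nG) = s' ≫ t ≫ h) := by
  obtain ⟨hGa, hGs, -⟩ := hG
  haveI := hGa; haveI := hGs
  obtain ⟨⟨hhm, hhI⟩, hHs, hHq, hHc, -⟩ := id hH
  haveI := hhm; haveI := hhI; haveI := hHs; haveI := hHq
  haveI : Mono h := Over.mono_of_mono_left h
  obtain ⟨hnm, hnmono, -⟩ := id hN
  haveI := hnm; haveI := hnmono
  let f := X.hom
  let F := Over.pullback f
  haveI : IsAffineHom (Red.bc f G).hom := MorphismProperty.pullback_snd (P := @IsAffineHom) G.hom f ‹_›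
  haveI : Smooth (Red.bc f G).hom := GrothLib.Flag27.smooth_bc _ G
  haveI : Smooth (Red.bc f H).hom := GrothLib.Flag27.smooth_bc _ H
  haveI : QuasiCompact (Red.bc f H).hom :=
    MorphismProperty.pullback_snd (P := @QuasiCompact) H.hom f inferInstance
  haveI : Mono (F.map h) := GrothLib.MaxTorBC14.mono_map f h
  obtain ⟨hTm, hTmono, hTt, -⟩ := id hT
  haveI := hTm; haveI := hTmono
  let nn : (Over.map f).obj (𝟙_ (Over X.left)) ⟶ N := Over.homMk (𝟙 X.left) rfl ≫ n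
  let n' : 𝟙_ (Over X.left) ⟶ Red.bc f N := GrothLib.DiagGrp.bcPoint f N _ nn
  let g : 𝟙_ (Over X.left) ⟶ Red.bc f G := n' ≫ F.map nG
  obtain ⟨-, c, hc⟩ := ((GrothLib.Flag27.isNormalizerOf_bc f hN).2.2 _ g).1 ⟨n', rfl⟩ (Red.bc f T)
    (toUnit _) (F.map t)
  have hcm : c ≫ F.map h = AGF.conjBy g⁻¹ (F.map (t ≫ h)) := by
    rw [← hc, Functor.map_comp]
    simp only [AGF.conjBy, GrpObj.comp_inv, _root_.inv_inv]
    rfl
  haveI : IsMonHom (c ≫ F.map h) := by rw [hcm]; exact GrothLib.Flag27.isMonHom_conjBy _ _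
  haveI : IsMonHom c := GrothLib.CentMT14.isMonHom_of_comp c (F.map h)
  have h₂ := (GrothLib.MaxTorBC14.isMaximalTorus_iff f (t ≫ h) hTt).1 hT
  haveI : Mono (F.map (t ≫ h)) := h₂.2.1
  haveI : Mono (c ≫ F.map h) := by rw [hcm, GrothLib.Flag27.conjBy_eq_comp]; infer_instance
  have h₁ : Red.IsMaximalTorus (c ≫ F.map h) :=
    Groth.Agent.S5512.isMaximalTorus_of_conjBy (F.map (t ≫ h)) (c ≫ F.map h) h₂.2.2.1 h₂ g⁻¹ (Iso.refl _)
      (by rw [hcm]; exact (Category.id_comp _).symm)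
  have hconn : ∀ x : X.left, ConnectedSpace (Red.geomFibre x (Red.bc f H)).left := fun x => by
    haveI : ConnectedSpace ↥(Limits.pullback H.hom (Red.geomPt x ≫ f)) :=
      GrothLib.CentMT14.connectedSpace_bc hHc (Red.geomPt x ≫ f)
    let e := Limits.pullbackLeftPullbackSndIso H.hom f (Red.geomPt x)
    exact e.inv.homeomorph.surjective.connectedSpace e.inv.continuous
  rw [Functor.map_comp] at h₂
  obtain ⟨Y, q, hq, hp, u, hu⟩ := exists_etale_conj (G := Red.bc f G) inferInstance inferInstance (F.map h) hconn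
    c (F.map t) h₁ h₂ p
  let y : Over.mk (q ≫ X.hom) ⟶ H := (GrothLib.DiagGrp.bcPoint f H (Over.mk q)).symm u
  refine ⟨Y, q, hq, hp, y, fun X' z s => ?_⟩
  let Y' : Over X.left := Over.mk (z.left ≫ q)
  let e : X' ≅ (Over.map f).obj Y' := Over.isoMk (Iso.refl _)
    ((Category.id_comp _).trans ((Category.assoc _ _ _).trans (Over.w z)))
  let z' : Y' ⟶ Over.mk q := Over.homMk z.left rfl
  have hz : z = e.hom ≫ (Over.map f).map z' := Over.OverMorphism.ext (Category.id_comp _).symm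
  let E := GrothLib.DiagGrp.bcPointMulEquiv f G Y'
  let s' := GrothLib.DiagGrp.bcPoint f T Y' (e.inv ≫ s)
  let m := (Over.homMk q : Over.mk (q ≫ X.hom) ⟶ X) ≫ n
  have hm : GrothLib.DiagGrp.bcPoint f G Y' ((Over.map f).map z' ≫ m ≫ nG) = toUnit Y' ≫ g := by
    have e1 : (Over.map f).map z' ≫ m ≫ nG = (Over.map f).map (toUnit Y') ≫ nn ≫ nG := by
      simp only [m, nn, ← Category.assoc]
      refine congrArg (fun w => (w ≫ n) ≫ nG) (Over.OverMorphism.ext ?_)
      exact (Category.comp_id _).symm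
    rw [e1]
    exact (GrothLib.DiagGrp.bcPoint_comp f _ _).trans (congrArg (toUnit Y' ≫ ·)
      (GrothLib.DiagGrp.bcPoint_comp_right f nn nG))
  have hy : GrothLib.DiagGrp.bcPoint f G Y' ((Over.map f).map z' ≫ y ≫ h) = (z' ≫ u) ≫ F.map h := by
    rw [← Category.assoc]
    refine (GrothLib.DiagGrp.bcPoint_comp_right f _ h).trans (congrArg (· ≫ F.map h) ?_)
    exact (GrothLib.DiagGrp.bcPoint_comp f z' _).trans (congrArg (z' ≫ ·) (Equiv.apply_symm_apply _ _))
  have hstep : ∀ w : Y' ⟶ Red.bc f T, (w ≫ c) ≫ F.map h = (toUnit Y' ≫ g)⁻¹ * (w ≫ F.map t ≫ F.map h) *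
      (toUnit Y' ≫ g) := fun w => by
    rw [Category.assoc, ← hc]
    simp only [MonObj.comp_mul, GrpObj.comp_inv, ← Category.assoc, toUnit_unique (w ≫ toUnit _) (toUnit Y')]
    rfl
  have back : ∀ w : Y' ⟶ Red.bc f T,
      (e.hom ≫ (GrothLib.DiagGrp.bcPoint f T Y').symm w) ≫ t ≫ h =
        e.hom ≫ E.symm (w ≫ F.map t ≫ F.map h) := fun w => by
    rw [Category.assoc]
    refine congrArg (e.hom ≫ ·) (E.injective ?_)
    rw [MulEquiv.apply_symm_apply]
    exact ((GrothLib.DiagGrp.bcPoint_comp_right f _ (t ≫ h)).trans (congrArg (· ≫ F.map (t ≫ h))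
      (Equiv.apply_symm_apply _ _))).trans (by rw [Functor.map_comp])
  have hs : s ≫ t ≫ h = e.hom ≫ E.symm (s' ≫ F.map t ≫ F.map h) := by
    rw [← back, Equiv.symm_apply_apply, Iso.hom_inv_id_assoc]
  have hM : z ≫ (m * (y ≫ k)⁻¹) ≫ nG =
      e.hom ≫ E.symm ((toUnit Y' ≫ g) * ((z' ≫ u) ≫ F.map h)⁻¹) := by
    rw [hz, Category.assoc]
    refine congrArg (e.hom ≫ ·) (E.injective ?_)
    rw [MulEquiv.apply_symm_apply, MonObj.mul_comp, GrpObj.inv_comp, Category.assoc _ k nG, hk, MonObj.comp_mul,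
      GrpObj.comp_inv, map_mul, map_inv]
    exact congrArg₂ (fun a b => a * b⁻¹) hm hy
  rw [hM, hs]
  have hconj : ∀ a b, (e.hom ≫ E.symm a) * (e.hom ≫ E.symm b) * (e.hom ≫ E.symm a)⁻¹ =
      e.hom ≫ E.symm (a * b * a⁻¹) ∧ (e.hom ≫ E.symm a)⁻¹ * (e.hom ≫ E.symm b) * (e.hom ≫ E.symm a) =
      e.hom ≫ E.symm (a⁻¹ * b * a) := fun a b =>
    ⟨by simp only [map_mul, map_inv, MonObj.comp_mul, GrpObj.comp_inv],
     by simp only [map_mul, map_inv, MonObj.comp_mul, GrpObj.comp_inv]⟩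
  constructor
  · obtain ⟨w, hw⟩ := (hu Y' z').2 s'
    refine ⟨e.hom ≫ (GrothLib.DiagGrp.bcPoint f T Y').symm w, ?_⟩
    rw [back, (hconj _ _).1]
    refine congrArg (fun a => e.hom ≫ E.symm a) ?_
    have hw' := congrArg (· ≫ F.map h) hw
    simp only [MonObj.mul_comp, GrpObj.inv_comp] at hw'
    rw [hstep] at hw'
    simp only [Category.assoc] at hw' ⊢
    calc _ = (toUnit Y' ≫ g) * ((z' ≫ u ≫ F.map h)⁻¹ * (s' ≫ F.map t ≫ F.map h) * (z' ≫ u ≫ F.map h)) *
          (toUnit Y' ≫ g)⁻¹ := by group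
      _ = _ := by rw [hw']; group
  · obtain ⟨w, hw⟩ := (hu Y' z').1 s'
    refine ⟨e.hom ≫ (GrothLib.DiagGrp.bcPoint f T Y').symm w, ?_⟩
    rw [back, (hconj _ _).2]
    refine congrArg (fun a => e.hom ≫ E.symm a) ?_
    have hw' := congrArg (· ≫ F.map h) hw
    simp only [MonObj.mul_comp, GrpObj.inv_comp] at hw'
    rw [hstep] at hw'
    simp only [Category.assoc] at hw' ⊢
    rw [← hw']
    group

end Groth.Agent.S5554
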