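import Groth.Statements.S3967
import Groth.Agent.S5554
import Mathlib.AlgebraicGeometry.Morphisms.LocalFlatDescent
import Groth.Agent.Lib.Rigid27.Basic
-- import your own Groth.Agent.* helpers here

set_option autoImplicit false
open CategoryTheory MonoidalCategory CartesianMonoidalCategory MonObj GrpObj AlgebraicGeometry
universe u
open RedSub

namespace Groth.Agent.S3967

set_option backward.isDefEq.respectTransparency false
set_option maxHeartbeats 3200000
set_option synthInstance.maxHeartbeats 400000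

section helpers

open GrothLib GrothLib.DiagGrp

variable {S : Scheme.{u}} {G T : Over S} [GrpObj G]

/-- A point of `X` as a point of `G` over `X`. -/
noncomputable def selfPt {X : Over S} (a : X ⟶ G) : 𝟙_ (Over X.left) ⟶ Red.bc X.hom G :=
  bcPoint X.hom G (𝟙_ (Over X.left)) ((Over.homMk (𝟙 X.left) rfl : (Over.map X.hom).obj (𝟙_ (Over X.left)) ⟶ X) ≫ a)

/-- The conjugate of a subgroup by a point, as a subgroup over the source of the point. -/
noncomputable def conjTo (i : T ⟶ G) {X : Over S} (a : X ⟶ G) : Red.bc X.hom T ⟶ Red.bc X.hom G :=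
  AGF.conjBy (selfPt a) ((Over.pullback X.hom).map i)

/-- The conjugate of a point. -/
noncomputable def cPt (i : T ⟶ G) {X : Over S} (a : X ⟶ G) {W : Scheme.{u}} (z : W ⟶ X.left)
    (t : Over.mk (z ≫ X.hom) ⟶ T) : Over.mk (z ≫ X.hom) ⟶ G :=
  ((Over.homMk z : Over.mk (z ≫ X.hom) ⟶ X) ≫ a) * (t ≫ i) * ((Over.homMk z : Over.mk (z ≫ X.hom) ⟶ X) ≫ a)⁻¹

theorem bcPoint_left {S' : Scheme.{u}} (f : S' ⟶ S) {Y : Over S'} {H : Over S} (v : Y ⟶ Red.bc f H) :
    ((bcPoint f H Y).symm v).left = v.left ≫ Limits.pullback.fst H.hom f := by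
  simp [bcPoint, Adjunction.homEquiv_counit]

theorem bcPoint_cPt (i : T ⟶ G) {X : Over S} (a : X ⟶ G) {W : Scheme.{u}} (z : W ⟶ X.left)
    (t : Over.mk (z ≫ X.hom) ⟶ T) :
    bcPoint X.hom G (Over.mk z) (cPt i a z t) = bcPoint X.hom T (Over.mk z) t ≫ conjTo i a := by
  have ha : bcPoint X.hom G (Over.mk z) ((Over.homMk z : Over.mk (z ≫ X.hom) ⟶ X) ≫ a) =
      toUnit (Over.mk z) ≫ selfPt a := by
    refine Eq.trans ?_ (bcPoint_comp X.hom (toUnit (Over.mk z)) _)
    refine congrArg (bcPoint X.hom G (Over.mk z)) ?_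
    rw [← Category.assoc]
    refine congrArg (· ≫ a) (Over.OverMorphism.ext ?_)
    exact (Category.comp_id _).symm
  rw [conjTo, GrothLib.Flag27.comp_conjBy, ← ha, ← bcPoint_comp_right]
  exact (map_mul (bcPointMulEquiv X.hom G (Over.mk z)) _ _).trans
    (congrArg₂ (· * ·) (map_mul _ _ _) (map_inv _ _))

theorem points_conjTo (i : T ⟶ G) {X : Over S} (a : X ⟶ G) {W : Scheme.{u}} (z : W ⟶ X.left) (gm : W ⟶ G.left) :
    (∃ p : W ⟶ (Red.bc X.hom T).left, p ≫ (Red.bc X.hom T).hom = z ∧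
      p ≫ (conjTo i a).left ≫ Limits.pullback.fst G.hom X.hom = gm) ↔
    ∃ t : Over.mk (z ≫ X.hom) ⟶ T, (cPt i a z t).left = gm := by
  constructor
  · rintro ⟨p, hp, hgm⟩
    let p' : Over.mk z ⟶ Red.bc X.hom T := Over.homMk p hp
    refine ⟨(bcPoint X.hom T (Over.mk z)).symm p', ?_⟩
    have h1 : cPt i a z ((bcPoint X.hom T (Over.mk z)).symm p') = (bcPoint X.hom G (Over.mk z)).symm (p' ≫ conjTo i a) := by
      apply (bcPoint X.hom G (Over.mk z)).injective
      rw [bcPoint_cPt, Equiv.apply_symm_apply, Equiv.apply_symm_apply]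
    rw [h1]
    refine (bcPoint_left X.hom _).trans ?_
    rw [Over.comp_left, Category.assoc]
    exact hgm
  · rintro ⟨t, rfl⟩
    refine ⟨(bcPoint X.hom T (Over.mk z) t).left, Over.w (bcPoint X.hom T (Over.mk z) t), ?_⟩
    rw [← Category.assoc, ← Over.comp_left, ← bcPoint_cPt]
    exact ((congrArg CommaMorphism.left ((bcPoint X.hom G (Over.mk z)).symm_apply_apply (cPt i a z t))).symm.trans
      (bcPoint_left X.hom _)).symm

theorem cPt_comp (i : T ⟶ G) {X Y : Over S} (a : X ⟶ G) (x : Y ⟶ X) {W : Scheme.{u}} (z : W ⟶ Y.left) (gm : W ⟶ G.left) :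
    (∃ t, (cPt i (x ≫ a) z t).left = gm) ↔ ∃ t, (cPt i a (z ≫ x.left) t).left = gm := by
  let e : Over.mk (z ≫ Y.hom) ≅ Over.mk ((z ≫ x.left) ≫ X.hom) :=
    Over.isoMk (Iso.refl _) ((Category.id_comp _).trans (by simp))
  have h : ∀ t, cPt i (x ≫ a) z (e.hom ≫ t) = e.hom ≫ cPt i a (z ≫ x.left) t := fun t => by
    have h1 : (Over.homMk z : Over.mk (z ≫ Y.hom) ⟶ Y) ≫ x ≫ a =
        e.hom ≫ (Over.homMk (z ≫ x.left) : Over.mk ((z ≫ x.left) ≫ X.hom) ⟶ X) ≫ a := by
      rw [← Category.assoc, ← Category.assoc]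
      exact congrArg (· ≫ a) (Over.OverMorphism.ext (Category.id_comp _).symm)
    simp only [cPt, MonObj.comp_mul, GrpObj.comp_inv, ← h1, Category.assoc]
  constructor
  · rintro ⟨t, rfl⟩
    exact ⟨e.inv ≫ t, by rw [show t = e.hom ≫ e.inv ≫ t from (e.hom_inv_id_assoc t).symm, h]; simp [e]⟩
  · rintro ⟨t, rfl⟩
    exact ⟨e.hom ≫ t, by rw [h]; exact Category.id_comp _⟩

end helpers


/-- Let G be a reductive S-group, (M, h) the scheme of maximal tori of G with its universal maximal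
torus, T a maximal torus of G and N ⟶ G its normaliser. Then the S-morphism q : G ⟶ M classifying
the family of conjugates int(g)T presents M as the fppf quotient G/N. -/
theorem result {S : Scheme.{u}} {G T N : Over S} [GrpObj G] [GrpObj T] [GrpObj N]
    (hG : Red.IsReductive G) (M : Over S) (H : Over M.left) [GrpObj H] (h : H ⟶ Red.bc M.hom G)
    (hM : RedSub.RepresentsTor G M H h) (i : T ⟶ G) (hT : Red.IsMaximalTorus i) (n : N ⟶ G)
    (hN : Red.IsNormalizerOf i n) :
    ∃ q : G ⟶ M, RedSub.SamePoints G G.hom (RedSub.conjFamily i) M h q.left ∧ RedSub.IsQuotient n q := by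
  obtain ⟨hGa, hGs, hGr⟩ := hG
  haveI := hGa; haveI := hGs
  obtain ⟨him, himono, hTt, -⟩ := id hT
  haveI := him; haveI := himono
  obtain ⟨hnm, hnmono, hniff⟩ := id hN
  haveI := hnm; haveI := hnmono
  have hmax : ∀ {X : Over S} (a : X ⟶ G), Red.IsMaximalTorus (conjTo i a) := fun {X} a => by
    have h₂ := (GrothLib.MaxTorBC14.isMaximalTorus_iff X.hom i hTt).1 hT
    haveI := h₂.1; haveI := h₂.2.1
    haveI : IsMonHom (conjTo i a) := GrothLib.Flag27.isMonHom_conjBy _ _
    haveI : Mono (conjTo i a) := by rw [conjTo, GrothLib.Flag27.conjBy_eq_comp]; infer_instance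
    exact Groth.Agent.S5512.isMaximalTorus_of_conjBy ((Over.pullback X.hom).map i) (conjTo i a) h₂.2.2.1 h₂
      (selfPt a) (Iso.refl _) (Category.id_comp _).symm
  obtain ⟨q, ⟨hq, hqS⟩, -⟩ := hM.2 G.left G.hom _ (conjTo i (𝟙 G)) (hmax (𝟙 G))
  have hgen : ∀ {X : Over S} (a : X ⟶ G), RedSub.SamePoints G X.hom (conjTo i a) M h (a.left ≫ q) := fun {X} a W z gm => by
    rw [points_conjTo, ← Category.assoc z a.left q, ← hqS, points_conjTo]
    have := cPt_comp i (𝟙 G) a z gm
    rwa [Category.comp_id] at this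
  have huniq : ∀ {X : Over S} (a : X ⟶ G) (g : X.left ⟶ M.left), g ≫ M.hom = X.hom →
      RedSub.SamePoints G X.hom (conjTo i a) M h g → g = a.left ≫ q := fun {X} a g hg hS =>
    (hM.2 X.left X.hom _ _ (hmax a)).unique ⟨hg, hS⟩ ⟨by rw [Category.assoc, hq, Over.w a], hgen a⟩
  let Q : G ⟶ M := Over.homMk q hq
  refine ⟨Q, fun W y gm => ?_, ?_⟩
  · refine Iff.trans ?_ (hqS W y gm)
    rw [points_conjTo]
    have hpt : ∀ (p : Over.mk (y ≫ G.hom) ⟶ T),
        lift (Over.homMk y : Over.mk (y ≫ G.hom) ⟶ G) p ≫ RedSub.conjMap i = cPt i (𝟙 G) y p := fun p => by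
      simp only [RedSub.conjMap, cPt, MonObj.comp_mul, GrpObj.comp_inv, lift_fst, lift_snd_assoc, Category.comp_id,
        _root_.mul_assoc]
    constructor
    · rintro ⟨p, hp, hgm⟩
      have hp' : p ≫ (fst G T).left = y := hp
      let p' : Over.mk (y ≫ G.hom) ⟶ G ⊗ T := Over.homMk p (by rw [← Over.w (fst G T), reassoc_of% hp']; rfl)
      refine ⟨p' ≫ snd G T, ?_⟩
      rw [← hpt, show (Over.homMk y : Over.mk (y ≫ G.hom) ⟶ G) = p' ≫ fst G T from
        Over.OverMorphism.ext hp'.symm, lift_comp_fst_snd, ← hgm]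
      simp [p', RedSub.conjFamily]
    · rintro ⟨t, rfl⟩
      let p' := lift (Over.homMk y : Over.mk (y ≫ G.hom) ⟶ G) t
      refine ⟨p'.left, congrArg CommaMorphism.left (lift_fst (Over.homMk y : Over.mk (y ≫ G.hom) ⟶ G) t), ?_⟩
      rw [← hpt]
      simp [p', RedSub.conjFamily]
  have hclass : ∀ (X : Over S) (a b : X ⟶ G), a ≫ Q = b ≫ Q ↔ ∃ z : X ⟶ N, z ≫ n = a⁻¹ * b := fun X a b => by
    have hsets : a ≫ Q = b ≫ Q ↔ ∀ (W : Scheme.{u}) (z : W ⟶ X.left) (gm : W ⟶ G.left),
        (∃ t, (cPt i a z t).left = gm) ↔ ∃ t, (cPt i b z t).left = gm := by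
      constructor
      · intro e W z gm
        have e' : a.left ≫ q = b.left ≫ q := congrArg CommaMorphism.left e
        rw [← points_conjTo, ← points_conjTo, hgen a W z gm, hgen b W z gm, e']
      · intro hs
        refine Over.OverMorphism.ext (show a.left ≫ q = b.left ≫ q from ?_)
        refine huniq b _ (by rw [Category.assoc, hq, Over.w a]) fun W z gm => ?_
        rw [points_conjTo, ← hs, ← points_conjTo]
        exact hgen a W z gm
    rw [hsets, hniff]
    constructor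
    · intro hs X' x t
      let e : X' ≅ Over.mk (x.left ≫ X.hom) := Over.isoMk (Iso.refl _) ((Category.id_comp _).trans (Over.w x))
      have hx : e.hom ≫ (Over.homMk x.left : Over.mk (x.left ≫ X.hom) ⟶ X) = x :=
        Over.OverMorphism.ext (Category.id_comp _)
      constructor
      · obtain ⟨t', ht'⟩ := (hs _ x.left _).2 ⟨e.inv ≫ t, rfl⟩
        refine ⟨e.hom ≫ t', ?_⟩
        have E := congrArg (e.hom ≫ ·) (Over.OverMorphism.ext ht' : cPt i a x.left t' = cPt i b x.left (e.inv ≫ t))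
        simp only [cPt, MonObj.comp_mul, GrpObj.comp_inv, reassoc_of% hx, Category.assoc, Iso.hom_inv_id_assoc] at E
        rw [MonObj.comp_mul, GrpObj.comp_inv, Category.assoc]
        calc _ = (x ≫ a)⁻¹ * ((x ≫ b) * (t ≫ i) * (x ≫ b)⁻¹) * (x ≫ a) := by group
          _ = _ := by rw [← E]; group
      · obtain ⟨t', ht'⟩ := (hs _ x.left _).1 ⟨e.inv ≫ t, rfl⟩
        refine ⟨e.hom ≫ t', ?_⟩
        have E := congrArg (e.hom ≫ ·) (Over.OverMorphism.ext ht' : cPt i b x.left t' = cPt i a x.left (e.inv ≫ t))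
        simp only [cPt, MonObj.comp_mul, GrpObj.comp_inv, reassoc_of% hx, Category.assoc, Iso.hom_inv_id_assoc] at E
        rw [MonObj.comp_mul, GrpObj.comp_inv, Category.assoc]
        calc _ = (x ≫ b)⁻¹ * ((x ≫ a) * (t ≫ i) * (x ≫ a)⁻¹) * (x ≫ b) := by group
          _ = _ := by rw [← E]; group
    · intro hn W z gm
      let w : Over.mk (z ≫ X.hom) ⟶ X := Over.homMk z
      constructor
      · rintro ⟨t, rfl⟩
        obtain ⟨t', ht'⟩ := (hn _ w t).2
        refine ⟨t', congrArg CommaMorphism.left ?_⟩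
        simp only [cPt]
        rw [← ht', MonObj.comp_mul, GrpObj.comp_inv, show (Over.homMk z : Over.mk (z ≫ X.hom) ⟶ X) = w from rfl]
        group
      · rintro ⟨t, rfl⟩
        obtain ⟨t', ht'⟩ := (hn _ w t).1
        refine ⟨t', congrArg CommaMorphism.left ?_⟩
        simp only [cPt]
        rw [← ht', MonObj.comp_mul, GrpObj.comp_inv, show (Over.homMk z : Over.mk (z ≫ X.hom) ⟶ X) = w from rfl]
        group
  have hμ : (G ◁ n) ≫ μ[G] = fst G N * (snd G N ≫ n) := by
    rw [Hom.mul_def]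
    congr 1
  have hlift : ∀ (X : Over S) (a : X ⟶ G) (z : X ⟶ N), lift a z ≫ (fst G N * (snd G N ≫ n)) = a * (z ≫ n) :=
    fun X a z => by rw [MonObj.comp_mul, lift_fst, lift_snd_assoc]
  have hpb : IsPullback (fst G N) ((G ◁ n) ≫ μ[G]) Q Q := by
    have hw : fst G N ≫ Q = ((G ◁ n) ≫ μ[G]) ≫ Q := by
      rw [hμ, hclass]
      exact ⟨snd G N, (inv_mul_cancel_left _ _).symm⟩
    refine ⟨⟨hw⟩, ⟨Limits.PullbackCone.IsLimit.mk hw
      (fun c => lift c.fst ((hclass c.pt c.fst c.snd).1 c.condition).choose) (fun c => lift_fst _ _) (fun c => ?_) ?_⟩⟩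
    · rw [hμ, hlift, ((hclass c.pt c.fst c.snd).1 c.condition).choose_spec, mul_inv_cancel_left]
    · intro c m h₁ h₂
      apply CartesianMonoidalCategory.hom_ext
      · rw [lift_fst, h₁]
      · rw [lift_snd, ← cancel_mono n, ((hclass c.pt c.fst c.snd).1 c.condition).choose_spec, ← h₁, ← h₂, hμ,
          MonObj.comp_mul, inv_mul_cancel_left, Category.assoc]
  let F := Over.pullback M.hom
  haveI : IsAffineHom (Red.bc M.hom G).hom := MorphismProperty.pullback_snd (P := @IsAffineHom) G.hom M.hom ‹_›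
  haveI : Smooth (Red.bc M.hom G).hom := GrothLib.Flag27.smooth_bc _ G
  haveI : QuasiCompact (Red.bc M.hom G).hom := inferInstance
  obtain ⟨hhm, hhmono, hHt, -⟩ := id hM.1
  haveI := hhm; haveI := hhmono
  have hsec : ∀ p : M.left, ∃ (U : Scheme.{u}) (f : U ⟶ M.left) (s : U ⟶ G.left),
      Etale f ∧ p ∈ Set.range f.base ∧ s ≫ q = f := fun p => by
    have hTM := (GrothLib.MaxTorBC14.isMaximalTorus_iff M.hom i hTt).1 hT
    obtain ⟨U, f, hf, hp, u, hu⟩ := Groth.Agent.S5554.exists_etale_conj (G := Red.bc M.hom G) inferInstance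
      inferInstance (𝟙 _) (fun x => by
        haveI : ConnectedSpace ↥(Limits.pullback G.hom (Red.geomPt x ≫ M.hom)) := by
          haveI hcG : ∀ s : S, _root_.IsConnected (G.hom.base ⁻¹' {s}) := fun s => by
            haveI : ConnectedSpace ↥(G.hom.fiber s) :=
              GrothLib.Rigid27.connectedSpace_fiber_of_geomFibre G s (hGr s).2.2.1
            exact isConnected_iff_connectedSpace.mpr
              ((G.hom.fiberHomeo s).surjective.connectedSpace (G.hom.fiberHomeo s).continuous)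
          exact GrothLib.CentMT14.connectedSpace_bc hcG (Red.geomPt x ≫ M.hom)
        let e := Limits.pullbackLeftPullbackSndIso G.hom M.hom (Red.geomPt x)
        exact e.inv.homeomorph.surjective.connectedSpace e.inv.continuous)
      (F.map i) h (by rwa [Category.comp_id]) (by rw [Category.comp_id]; exact hM.1) p
    let a : Over.mk (f ≫ M.hom) ⟶ G := (GrothLib.DiagGrp.bcPoint M.hom G (Over.mk f)).symm u
    refine ⟨U, f, a.left, hf, hp, (huniq a f rfl fun W z gm => ?_).symm⟩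
    rw [points_conjTo]
    let Y : Over M.left := Over.mk (z ≫ f)
    let z' : Y ⟶ Over.mk f := Over.homMk z
    let E := GrothLib.DiagGrp.bcPointMulEquiv M.hom G Y
    let e : (Over.map M.hom).obj Y ≅ Over.mk (z ≫ (Over.mk (f ≫ M.hom)).hom) :=
      Over.isoMk (Iso.refl _) ((Category.id_comp _).trans (Category.assoc _ _ _).symm)
    have hza : E (e.hom ≫ (Over.homMk z : Over.mk (z ≫ (Over.mk (f ≫ M.hom)).hom) ⟶ _) ≫ a) = z' ≫ u := by
      rw [← Category.assoc, show e.hom ≫ (Over.homMk z : Over.mk (z ≫ (Over.mk (f ≫ M.hom)).hom) ⟶ _) =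
        (Over.map M.hom).map z' from Over.OverMorphism.ext (Category.id_comp _)]
      exact (GrothLib.DiagGrp.bcPoint_comp M.hom z' _).trans (congrArg (z' ≫ ·) (Equiv.apply_symm_apply _ _))
    have hc : ∀ t, E (e.hom ≫ cPt i a z t) = (z' ≫ u) *
        (GrothLib.DiagGrp.bcPoint M.hom T Y (e.hom ≫ t) ≫ F.map i) * (z' ≫ u)⁻¹ := fun t => by
      simp only [cPt, MonObj.comp_mul, GrpObj.comp_inv, map_mul, map_inv, hza]
      rw [← Category.assoc e.hom t i]
      exact congrArg (fun v => (z' ≫ u) * v * (z' ≫ u)⁻¹) (GrothLib.DiagGrp.bcPoint_comp_right M.hom _ i)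
    constructor
    · rintro ⟨t, rfl⟩
      obtain ⟨t', ht'⟩ := (hu Y z').1 (GrothLib.DiagGrp.bcPoint M.hom T Y (e.hom ≫ t))
      refine ⟨t'.left, Over.w t', ?_⟩
      rw [← Category.assoc, ← Over.comp_left, ← ht', ← hc, ← bcPoint_left M.hom]
      refine (congrArg CommaMorphism.left (E.symm_apply_apply _)).trans ?_
      exact Category.id_comp _
    · rintro ⟨p₀, hp₀, rfl⟩
      let p' : Y ⟶ H := Over.homMk p₀ hp₀
      obtain ⟨t', ht'⟩ := (hu Y z').2 p'
      refine ⟨e.inv ≫ (GrothLib.DiagGrp.bcPoint M.hom T Y).symm t', ?_⟩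
      have h1 : E (e.hom ≫ cPt i a z (e.inv ≫ (GrothLib.DiagGrp.bcPoint M.hom T Y).symm t')) = p' ≫ h := by
        rw [hc, Iso.hom_inv_id_assoc, Equiv.apply_symm_apply, ← ht']
        group
      have h2 := congrArg CommaMorphism.left (E.symm_apply_apply (e.hom ≫ cPt i a z (e.inv ≫ (GrothLib.DiagGrp.bcPoint M.hom T Y).symm t')))
      rw [h1] at h2
      refine ((Category.id_comp _).symm.trans (h2.symm.trans (bcPoint_left M.hom _))).trans ?_
      rw [Over.comp_left, Category.assoc]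
      rfl
  choose U f s hfe hfp hfs using hsec
  let fT := Limits.Sigma.desc f
  let sT := Limits.Sigma.desc s
  have hsT : sT ≫ q = fT := Limits.Sigma.hom_ext _ _ fun j => by simp [sT, fT, hfs]
  haveI : Etale fT := IsZariskiLocalAtSource.sigmaDesc hfe
  haveI : Surjective fT := ⟨fun p => by
    obtain ⟨x, hx⟩ := hfp p
    refine ⟨(Limits.Sigma.ι U p).base x, ?_⟩
    show fT.base ((Limits.Sigma.ι U p).base x) = p
    rw [← Scheme.Hom.comp_apply, Limits.Sigma.ι_desc]
    exact hx⟩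
  obtain ⟨N₀, _, n₀, hn₀, hn₀c, hn₀s⟩ := GrothLib.MultDef14.exists_normalizer
    (GrothLib.QuotTorus14.isMultTypeFT_of_charts (GrothLib.DiagGrp.hasChartsFpqc_of_isTorus hTt)) hGs hGa i
  obtain ⟨hn₀m, hn₀mono, hn₀iff⟩ := id hn₀
  haveI := hn₀m; haveI := hn₀mono; haveI := hn₀s
  obtain ⟨φ, hφ⟩ := (hn₀iff _ n).2 ((hniff _ n).1 ⟨𝟙 N, Category.id_comp _⟩)
  obtain ⟨φ', hφ'⟩ := (hniff _ n₀).2 ((hn₀iff _ n₀).1 ⟨𝟙 N₀, Category.id_comp _⟩)
  haveI : IsIso φ := ⟨φ', by rw [← cancel_mono n, Category.assoc, hφ', hφ, Category.id_comp],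
    by rw [← cancel_mono n₀, Category.assoc, hφ, hφ', Category.id_comp]⟩
  haveI : IsIso φ.left := inferInstanceAs (IsIso ((Over.forget _).map φ))
  haveI : Smooth N.hom := by rw [← Over.w φ]; infer_instance
  have hfst : Smooth (fst G N).left := MorphismProperty.pullback_fst (P := @Smooth) G.hom N.hom ‹_›
  have hsmq : Smooth q := by
    have sq : IsPullback (fst G N).left ((G ◁ n) ≫ μ[G]).left q q := hpb.map (Over.forget S)
    have key := (IsPullback.of_hasPullback sT (fst G N).left).paste_vert sq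
    have h1 : Smooth (Limits.pullback.fst sT (fst G N).left) := MorphismProperty.pullback_fst _ _ hfst
    rw [hsT] at key
    exact MorphismProperty.of_isPullback_of_descendsAlong (P := @Smooth)
      (Q := (@Surjective ⊓ @Flat ⊓ @LocallyOfFinitePresentation : MorphismProperty Scheme.{u}))
      key ⟨⟨inferInstance, inferInstance⟩, inferInstance⟩ h1
  haveI : Surjective (sT ≫ q) := by rw [hsT]; infer_instance
  haveI : Surjective q := Surjective.of_comp sT q
  exact ⟨‹Surjective q›, inferInstanceAs (Flat q), inferInstanceAs (LocallyOfFinitePresentation q), hpb⟩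

end Groth.Agent.S3967
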