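import Groth.Statements.S3992
-- import your own Groth.Agent.* helpers here
import Groth.Agent.S19598
import Groth.Agent.Lib.Flag27.UnipBasic
import Groth.Agent.Lib.Flag27.NoSubtorus
import Groth.Agent.Lib.Flag27.CentBC
import Groth.Agent.Lib.SubPre14.Basic
import Groth.Agent.Lib.GrpdQuot.FiberMono
import Groth.Agent.Lib.DiagGrp.BaseChange

set_option autoImplicit false
open CategoryTheory MonoidalCategory CartesianMonoidalCategory MonObj GrpObj AlgebraicGeometry
universe u
open RedSub

open CategoryTheory CategoryTheory.Limits MonoidalCategory CartesianMonoidalCategory MonObj GrpObj AlgebraicGeometry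
open GrothLib.MultHopf14 GrothLib.MultDef14 GrothLib.CentMT14 GrothLib
open scoped TensorProduct
set_option backward.isDefEq.respectTransparency false

namespace Groth.Agent.S3992

/-- A homomorphism from a group of multiplicative type to a unipotent group is trivial. -/
theorem multType_hom_eq_one {k : Type u} [Field k] {U : Over (Spec (CommRingCat.of k))} [GrpObj U]
    (h : GrothLib.Flag27.IsUnip k U) {T : Over (Spec (CommRingCat.of k))} [GrpObj T] (hT : SGA3x.IsMultTypeFT T)
    (j : T ⟶ U) [IsMonHom j] : j = 1 := by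
  obtain ⟨A, _, _, -, hu, ⟨e⟩⟩ := h
  let i : specGrp (R := k) A ≅ U := (Grp.forget _).mapIso e
  haveI : IsMonHom i.inv := e.inv.hom.isMonHom_hom
  haveI : IsMonHom i.hom := e.hom.hom.isMonHom_hom
  suffices hj : j ≫ i.inv = 1 by
    rw [← Category.comp_id j, ← i.inv_hom_id, ← Category.assoc, hj, MonObj.one_comp]
  let f : (Spec (CommRingCat.of k)) ⟶ (Spec (CommRingCat.of k)) := 𝟙 (Spec (CommRingCat.of k))
  haveI : (Over.pullback f).Faithful := Functor.Faithful.of_iso (Over.pullbackId (X := (Spec (CommRingCat.of k)))).symm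
  obtain ⟨S'', π, hflat, hsurj, hcov, hloc⟩ := DiagGrp.hasChartsFpqc_of_isMultTypeFT hT
  have hH : DiagGrp.HasChartsFpqc DiagGrp.fgM (Red.bc f T) := by
    refine ⟨S'', π, hflat, hsurj, hcov, fun P => ?_⟩
    obtain ⟨V, hV, M, inst, hM, ⟨eM⟩⟩ := hloc P
    exact ⟨V, hV, M, inst, hM, ⟨(DiagGrp.bcGrpComp T f (V.ι ≫ π) (V.ι ≫ π) (Category.comp_id _).symm).symm ≪≫ eM⟩⟩
  have h1 := hom_eq_one A f hH hu ((Over.pullback f).map (j ≫ i.inv))
  refine (Over.pullback f).map_injective (h1.trans ?_)
  exact (Functor.map_one (Over.pullback f)).symm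

/-- Base change of groups of multiplicative type. -/
theorem isMultTypeFT_bc {S S₁ : Scheme.{u}} {T : Over S} [GrpObj T] (hT : SGA3x.IsMultTypeFT T) (g : S₁ ⟶ S) :
    SGA3x.IsMultTypeFT (Red.bc g T) := by
  obtain ⟨S', π, h1, h2, h3, h4⟩ := (DiagGrp.hasChartsFpqc_of_isMultTypeFT hT).baseChange g
  exact ⟨S', π, h1, h2, h3, fun s' => by
    obtain ⟨U, hU, M, inst, hM, e⟩ := h4 s'
    exact ⟨U, hU, M, inst, hM, e⟩⟩

/-- A unipotent connected subgroup meets a torus trivially. -/
theorem isTrivialGrp_inter {K : Type u} [Field K] [IsAlgClosed K]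
    {G U T P : Over (Spec (CommRingCat.of K))} [GrpObj G] [GrpObj U] [GrpObj T] [GrpObj P]
    [IsAffine G.left] [LocallyOfFiniteType G.hom] [Smooth U.hom] [ConnectedSpace U.left]
    (hn : Red.HasNoSubtorus K U) (hTm : SGA3x.IsMultTypeFT T) (j : U ⟶ G) [IsMonHom j] [IsImmersion j.left]
    (i : T ⟶ G) [IsMonHom i] [Mono i] (a : P ⟶ U) (b : P ⟶ T) [IsMonHom a] [IsMonHom b]
    (hsq : IsPullback a b j i) : Red.IsTrivialGrp P := by
  haveI : IsClosedImmersion j.left :=
    IsClosedImmersion.of_isPreimmersion j.left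
      (GrothLib.GrpSchField.isClosed_range_of_isLocallyClosed j j.left.isLocallyClosed_range)
  haveI : IsAffine U.left := isAffine_of_isAffineHom j.left
  have hsqL : IsPullback a.left b.left j.left i.left := hsq.map (Over.forget _)
  haveI : IsClosedImmersion b.left :=
    MorphismProperty.of_isPullback (P := @IsClosedImmersion) hsqL ‹IsClosedImmersion j.left›
  haveI : LocallyOfFinitePresentation T.hom := GrothLib.DiagGrp.lfp_of_isMultTypeFT hTm
  haveI : LocallyOfFiniteType P.hom := by rw [← Over.w b]; infer_instance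
  have hP : SGA3x.IsMultTypeFT P :=
    Groth.Agent.S19598.result P T hTm b inferInstance (GrothLib.Flag27.flat_to_field P.hom) inferInstance
  have ha : a = 1 := multType_hom_eq_one (GrothLib.Flag27.isUnip_of_noSubtorus hn).1 hP a
  have hb : b = 1 := by
    rw [← cancel_mono i, ← hsq.w, ha, MonObj.one_comp, MonObj.one_comp]
  have hid : 𝟙 P = 1 := hsq.hom_ext (by rw [Category.id_comp, MonObj.one_comp, ha])
    (by rw [Category.id_comp, MonObj.one_comp, hb])
  show IsIso P.hom
  refine ⟨η[P].left, ?_, Over.w η[P]⟩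
  have h2 : toUnit P ≫ η[P] = 𝟙 P := by rw [hid, Hom.one_def]
  exact congrArg Over.Hom.left h2

/-- Let G be a reductive S-group, T a maximal torus of G and U a sub-group-scheme of G, smooth over S,
whose geometric fibres are connected and unipotent (contain no non-trivial subtorus), and which is
normalised by T. Then U x_G T is trivial: a point of U whose image in G lies in T is the unit. (The
source does not require connected fibres; with the prelude's surrogate for unipotency, connectedness
is needed for the hypothesis to mean unipotent.) -/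
theorem result {S : Scheme.{u}} {G T U : Over S} [GrpObj G]
    [GrpObj T] [GrpObj U] (hG : Red.IsReductive G) (i : T ⟶ G) (hT : Red.IsMaximalTorus i) (j : U ⟶ G)
    (hU : RedSub.IsSubgrp j) [Smooth U.hom]
    (hfib : ∀ s : S, ConnectedSpace ↥(Red.geomFibre s U).left ∧
      Red.HasNoSubtorus (AlgebraicClosure (S.residueField s)) (Red.geomFibre s U))
    (hnorm : ∀ (X : Over S) (x : X ⟶ T) (y : X ⟶ U), ∃ y' : X ⟶ U, (x ≫ i) * (y ≫ j) * (x ≫ i)⁻¹ = y' ≫ j)
    (X : Over S) (y : X ⟶ U) (x : X ⟶ T) (h : y ≫ j = x ≫ i) : y = 1 := by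
  obtain ⟨hj, hjI⟩ := hU
  obtain ⟨hi, hiM, hTt, -⟩ := hT
  haveI := hj; haveI := hjI; haveI := hi; haveI := hiM
  haveI : Mono j := Over.mono_of_mono_left j
  let P : Over S := Over.mk (pullback.snd j.left i.left ≫ T.hom)
  let b : P ⟶ T := Over.homMk (pullback.snd j.left i.left) rfl
  let a : P ⟶ U := Over.homMk (pullback.fst j.left i.left) (by
    show pullback.fst j.left i.left ≫ U.hom = pullback.snd j.left i.left ≫ T.hom
    rw [← Over.w j, pullback.condition_assoc, Over.w i])
  have hsqL : IsPullback a.left b.left j.left i.left := IsPullback.of_hasPullback j.left i.left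
  have hsq : IsPullback a b j i := IsPullback.of_map (Over.forget _) (Over.OverMorphism.ext hsqL.w) hsqL
  obtain ⟨hP, ha, hb⟩ := GrothLib.SubPre14.exists_grpObj_pullback i j a b hsq
  haveI := ha; haveI := hb
  have hTm : SGA3x.IsMultTypeFT T := by
    obtain ⟨S', f, hfl, hfs, hcov, hloc⟩ := hTt
    refine ⟨S', f, hfl, hfs, hcov, fun s => ?_⟩
    obtain ⟨V, hV, r, hr⟩ := hloc s
    exact ⟨V, hV, Fin r → ℤ, inferInstance, Module.Finite.iff_addGroup_fg.1 inferInstance, hr⟩
  haveI : LocallyOfFinitePresentation T.hom := GrothLib.DiagGrp.lfp_of_isMultTypeFT hTm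
  haveI : LocallyOfFiniteType b.left := inferInstanceAs (LocallyOfFiniteType (pullback.snd j.left i.left))
  haveI : LocallyOfFiniteType P.hom := by rw [← Over.w b]; infer_instance
  haveI : IsIso P.hom := by
    refine GrothLib.GrpdQuot.isIso_of_fiber_isIso_of_section P.hom (fun s => ?_) η[P].left (Over.w η[P])
    obtain ⟨hGa, hGs, -⟩ := hG.2.2 s
    haveI := hGa; haveI := hGs
    haveI : IsAffine (Red.bc (Red.geomPt s) G).left := hGa
    haveI := (hfib s).1
    haveI : Smooth (Red.geomFibre s U).hom := GrothLib.Flag27.smooth_bc (Red.geomPt s) U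
    haveI : (Over.pullback (Red.geomPt s)).IsRightAdjoint := (Over.mapPullbackAdj _).isRightAdjoint
    haveI : IsImmersion ((Over.pullback (Red.geomPt s)).map j).left :=
      GrothLib.Flag27.property_map (P := @IsImmersion) (Red.geomPt s) j hjI
    have hgeo : Red.IsTrivialGrp (Red.geomFibre s P) :=
      isTrivialGrp_inter (hfib s).2 (isMultTypeFT_bc hTm (Red.geomPt s))
        ((Over.pullback (Red.geomPt s)).map j) ((Over.pullback (Red.geomPt s)).map i)
        ((Over.pullback (Red.geomPt s)).map a) ((Over.pullback (Red.geomPt s)).map b) (hsq.map _)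
    let g : Spec (CommRingCat.of (AlgebraicClosure (S.residueField s))) ⟶ Spec (S.residueField s) :=
      Spec.map (CommRingCat.ofHom (algebraMap (S.residueField s) (AlgebraicClosure (S.residueField s))))
    haveI : IsIso (pullback.snd P.hom (g ≫ S.fromSpecResidueField s)) := hgeo
    have hpb : IsPullback (pullback.lift (pullback.fst P.hom (g ≫ S.fromSpecResidueField s))
        (pullback.snd P.hom (g ≫ S.fromSpecResidueField s) ≫ g) (by rw [pullback.condition, Category.assoc]))
        (pullback.snd P.hom (g ≫ S.fromSpecResidueField s))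
        (pullback.snd P.hom (S.fromSpecResidueField s)) g :=
      IsPullback.of_right (by
        rw [pullback.lift_fst]
        exact IsPullback.of_hasPullback P.hom (g ≫ S.fromSpecResidueField s)) (pullback.lift_snd _ _ _)
        (IsPullback.of_hasPullback P.hom (S.fromSpecResidueField s))
    show MorphismProperty.isomorphisms Scheme (pullback.snd P.hom (S.fromSpecResidueField s))
    exact MorphismProperty.of_isPullback_of_descendsAlong (P := MorphismProperty.isomorphisms Scheme)
      (Q := @Surjective ⊓ @Flat ⊓ @QuasiCompact) hpb.flip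
      ⟨⟨GrothLib.Flag27.surjective_to_field g, GrothLib.Flag27.flat_to_field g⟩, inferInstance⟩
      (inferInstanceAs (IsIso _))
  have hz := hsq.lift_fst y x h
  have hz1 : hsq.lift y x h = 1 := Over.OverMorphism.ext (by
    rw [← cancel_mono P.hom, Over.w, Over.w])
  rw [← hz, hz1, MonObj.one_comp]

end Groth.Agent.S3992
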