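import Groth.Statements.S4019
import Groth.Agent.Lib.OrdQuad12.ExistOne
import Groth.Agent.Lib.Chow.Prod

set_option autoImplicit false
set_option linter.all false
set_option maxHeartbeats 1000000
set_option backward.isDefEq.respectTransparency false
set_option backward.isDefEq.respectTransparency.types false
universe u
open CategoryTheory CategoryTheory.Limits AlgebraicGeometry
open LefPen

namespace Groth.Agent.S4019

/-- Let k be an algebraically closed field and X an irreducible smooth proper k-scheme of dimension n ≥
1 embedded in projective r-space by a closed immersion i. For every d ≥ 2 the composite of i with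
the d-uple embedding is a Lefschetz embedding: the pairs (F, G) of degree-d forms spanning a
Lefschetz pencil for X (independent forms; base locus X ∩ V(F, G) a transversal section; all but
finitely many members transversal to X; each other member cutting X in a scheme smooth except at one
ordinary quadratic singularity) contain the non-vanishing locus of a polynomial function of the
coefficients that is not identically zero, i.e. a dense open set of the space of pencils. -/
theorem result (k : Type u) [Field k] [IsAlgClosed k] (r n : ℕ) (hn : 1 ≤ n)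
    {X : Scheme.{u}} (i : X ⟶ CohB1.ProjSpace r k) [IsClosedImmersion i] [IrreducibleSpace X]
    [SmoothOfRelativeDimension n (i ≫ CohB1.ProjSpace.toSpec r k)]
    (d : ℕ) (hd : 2 ≤ d) : LefPen.IsLefschetzEmb k n i d := by
  classical
  obtain ⟨m, rfl⟩ : ∃ m, n = m + 1 := ⟨n - 1, by omega⟩
  letI : X.Over (Spec (CommRingCat.of k)) := ⟨i ≫ CohB1.ProjSpace.toSpec r k⟩
  haveI hs : SmoothOfRelativeDimension (m + 1) (X ↘ Spec (CommRingCat.of k)) :=
    inferInstanceAs (SmoothOfRelativeDimension (m + 1) (i ≫ CohB1.ProjSpace.toSpec r k))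
  haveI : Smooth (X ↘ Spec (CommRingCat.of k)) := SmoothOfRelativeDimension.smooth (m + 1) _
  haveI := GrothLib.Chow.isProper_toSpec r k
  haveI : IsProper (X ↘ Spec (CommRingCat.of k)) :=
    inferInstanceAs (IsProper (i ≫ CohB1.ProjSpace.toSpec r k))
  haveI : IsIntegral X := GrothLib.Euler.isIntegral_of_smooth_connected k (X ↘ Spec (CommRingCat.of k))
  haveI : Infinite k := IsAlgClosed.instInfinite
  haveI := GrothLib.FormBertini12.finite_form (k := k) (r := r) d
  let b := Module.finBasis k (LefPen.Form r k d)
  have hg := GrothLib.FormBertini12.isGeneric i rfl (n := m + 1) hn d (by omega)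
  unfold LefPen.IsGeneric at hg
  obtain ⟨f, hfp, ⟨H₀, hH₀⟩, hf⟩ := hg
  have hT : ¬ GrothLib.DualVar12.Bad i H₀ := by
    intro hb
    have h1 := hf H₀ hH₀
    exact GrothLib.DualVar12.not_transversal_of_bad i rfl hn H₀ hb h1
  obtain ⟨P, hP0, hP⟩ := GrothLib.OrdQuad12.isGeneric_through i rfl (m := m) b (by omega)
    (Or.inl (GrothLib.OrdQuad12.exists_one i rfl (m := m) hd)) H₀ hT
  obtain ⟨c, hc⟩ : ∃ c, MvPolynomial.eval c P ≠ 0 := by
    by_contra h
    push Not at h
    exact hP0 (MvPolynomial.funext fun c => by rw [h c, map_zero])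
  have hpen : LefPen.IsLefschetzPencil k (m + 1) i d H₀ (b.equivFun.symm c) :=
    hP _ (by rwa [LinearEquiv.apply_symm_apply])
  obtain ⟨Q, hQ0, hQ⟩ := GrothLib.OrdQuad12.exists_open_lefschetz b i rfl (m := m) (by omega) H₀
    (b.equivFun.symm c) hpen
  unfold LefPen.IsLefschetzEmb LefPen.IsGeneric
  exact ⟨_, GrothLib.OrdQuad12.isPolyFun_eval_basis (GrothLib.OrdQuad12.pairBasis b) Q,
    ⟨(H₀, b.equivFun.symm c), hQ0⟩, fun v hv => hQ v.1 v.2 hv⟩

end Groth.Agent.S4019
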