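import Groth.Statements.S4021
import Groth.Agent.Lib.OrdQuad12.Open
import Groth.Agent.Lib.Chow.Prod

set_option autoImplicit false
set_option linter.all false
set_option backward.isDefEq.respectTransparency false
universe u
open CategoryTheory CategoryTheory.Limits AlgebraicGeometry
open LefPen

namespace Groth.Agent.S4021

/-- Let k be an algebraically closed field and X an irreducible smooth proper k-scheme of dimension n ≥
1 embedded in projective r-space by a closed immersion i, and let d ≥ 1. The set of pairs (F, G) of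
degree-d forms spanning a Lefschetz pencil for X is Zariski open in the space of pairs of forms. -/
theorem result (k : Type u) [Field k] [IsAlgClosed k] (r n : ℕ) (hn : 1 ≤ n)
    {X : Scheme.{u}} (i : X ⟶ CohB1.ProjSpace r k) [IsClosedImmersion i] [IrreducibleSpace X]
    [SmoothOfRelativeDimension n (i ≫ CohB1.ProjSpace.toSpec r k)]
    (d : ℕ) (hd : 1 ≤ d) :
    LefPen.IsZOpen k {FG : LefPen.Form r k d × LefPen.Form r k d | LefPen.IsLefschetzPencil k n i d FG.1 FG.2} := by
  obtain ⟨m, rfl⟩ : ∃ m, n = m + 1 := ⟨n - 1, by omega⟩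
  letI : X.Over (Spec (CommRingCat.of k)) := ⟨i ≫ CohB1.ProjSpace.toSpec r k⟩
  haveI hs : SmoothOfRelativeDimension (m + 1) (X ↘ Spec (CommRingCat.of k)) :=
    inferInstanceAs (SmoothOfRelativeDimension (m + 1) (i ≫ CohB1.ProjSpace.toSpec r k))
  haveI : Smooth (X ↘ Spec (CommRingCat.of k)) := SmoothOfRelativeDimension.smooth (m + 1) _
  haveI := GrothLib.Chow.isProper_toSpec r k
  haveI : IsProper (X ↘ Spec (CommRingCat.of k)) :=
    inferInstanceAs (IsProper (i ≫ CohB1.ProjSpace.toSpec r k))
  haveI : IsIntegral X := GrothLib.Euler.isIntegral_of_smooth_connected k (X ↘ Spec (CommRingCat.of k))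
  haveI := GrothLib.FormBertini12.finite_form (k := k) (r := r) d
  let b := Module.finBasis k (LefPen.Form r k d)
  rintro ⟨F₀, G₀⟩ h₀
  obtain ⟨P, hP0, hP⟩ := GrothLib.OrdQuad12.exists_open_lefschetz b i rfl (m := m) hd F₀ G₀ h₀
  exact ⟨_, GrothLib.OrdQuad12.isPolyFun_eval_basis (GrothLib.OrdQuad12.pairBasis b) P, hP0, fun ⟨F, G⟩ h => hP F G h⟩

end Groth.Agent.S4021
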