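import Groth.Statements.S4022
import Groth.Agent.Lib.OrdQuad12.GenPencil
import Groth.Agent.Lib.Chow.Prod

set_option autoImplicit false
set_option maxHeartbeats 1000000
set_option backward.isDefEq.respectTransparency.types false
set_option linter.all false
set_option backward.isDefEq.respectTransparency false
universe u
open CategoryTheory CategoryTheory.Limits AlgebraicGeometry
open LefPen

namespace Groth.Agent.S4022

/-- Let k be an algebraically closed field and X an irreducible smooth proper k-scheme of dimension n ≥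
1 embedded in projective r-space by a closed immersion i; let d ≥ 1 be such that the degree-d
embedding is a Lefschetz embedding, and let H₀ be a degree-d form whose hypersurface cuts X
transversally. Then the forms G such that (H₀, G) spans a Lefschetz pencil contain the non-vanishing
locus of a not identically zero polynomial function: the Lefschetz pencils through H₀ are dense open
among pencils through H₀. -/
theorem result (k : Type u) [Field k] [IsAlgClosed k] (r n : ℕ) (hn : 1 ≤ n)
    {X : Scheme.{u}} (i : X ⟶ CohB1.ProjSpace r k) [IsClosedImmersion i] [IrreducibleSpace X]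
    [SmoothOfRelativeDimension n (i ≫ CohB1.ProjSpace.toSpec r k)]
    (d : ℕ) (hd : 1 ≤ d) (hL : LefPen.IsLefschetzEmb k n i d) (H₀ : LefPen.Form r k d)
    (hH₀ : LefPen.Transversal k n 1 (LefPen.secToSpec i ({H₀} : Set (LefPen.Form r k d)))) :
    LefPen.IsGeneric k {G : LefPen.Form r k d | LefPen.IsLefschetzPencil k n i d H₀ G} := by
  classical
  obtain ⟨m, rfl⟩ : ∃ m, n = m + 1 := ⟨n - 1, by omega⟩
  letI : X.Over (Spec (CommRingCat.of k)) := ⟨i ≫ CohB1.ProjSpace.toSpec r k⟩
  haveI hs : SmoothOfRelativeDimension (m + 1) (X ↘ Spec (CommRingCat.of k)) :=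
    inferInstanceAs (SmoothOfRelativeDimension (m + 1) (i ≫ CohB1.ProjSpace.toSpec r k))
  haveI : Smooth (X ↘ Spec (CommRingCat.of k)) := SmoothOfRelativeDimension.smooth (m + 1) _
  haveI := GrothLib.Chow.isProper_toSpec r k
  haveI : IsProper (X ↘ Spec (CommRingCat.of k)) :=
    inferInstanceAs (IsProper (i ≫ CohB1.ProjSpace.toSpec r k))
  haveI : IsIntegral X := GrothLib.Euler.isIntegral_of_smooth_connected k (X ↘ Spec (CommRingCat.of k))
  haveI : Infinite k := IsAlgClosed.instInfinite
  haveI := GrothLib.FormBertini12.finite_form (k := k) (r := r) d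
  let b := Module.finBasis k (LefPen.Form r k d)
  unfold LefPen.IsLefschetzEmb LefPen.IsGeneric at hL
  obtain ⟨f, hfp, ⟨v, hv⟩, hf⟩ := hL
  obtain ⟨F, G, hFG⟩ : ∃ F G : LefPen.Form r k d, LefPen.IsLefschetzPencil k (m + 1) i d F G :=
    ⟨v.1, v.2, hf v hv⟩
  have h : (∃ H : LefPen.Form r k d, GrothLib.DualVar12.Bad i H ∧ LefPen.OneOrdQuad k (m + 1) i H) ∨
      ∃ F G : LefPen.Form r k d, ∀ s t : k, (s ≠ 0 ∨ t ≠ 0) → ¬ GrothLib.DualVar12.Bad i (s • F + t • G) := by
    by_cases hex : ∃ H ∈ LefPen.members k F G, GrothLib.DualVar12.Bad i H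
    · obtain ⟨H, hH, hb⟩ := hex
      exact Or.inl ⟨H, hb, hFG.2.2.2 H hH (GrothLib.DualVar12.not_transversal_of_bad i rfl hn H hb)⟩
    · push Not at hex
      refine Or.inr ⟨F, G, fun s t hst hb => ?_⟩
      obtain ⟨u, hu, H, hH, he⟩ : ∃ u : k, u ≠ 0 ∧ ∃ H ∈ LefPen.members k F G, s • F + t • G = u • H := by
        by_cases hs : s = 0
        · refine ⟨t, hst.resolve_left (by simpa using hs), G, Or.inl rfl, ?_⟩
          rw [hs, zero_smul, zero_add]
        · refine ⟨s, hs, F + (t / s) • G, Or.inr ⟨t / s, rfl⟩, ?_⟩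
          rw [smul_add, smul_smul, mul_div_cancel₀ t hs]
      refine hex H hH ((GrothLib.OrdQuad12.bad_iff_closed i rfl (m := m) H).mpr ?_)
      obtain ⟨x, hx, hbx⟩ := (GrothLib.OrdQuad12.bad_iff_closed i rfl (m := m) _).mp hb
      rw [he, GrothLib.OrdQuad12.badX_smul i rfl hu] at hbx
      exact ⟨x, hx, hbx⟩
  obtain ⟨P, hP0, hP⟩ := GrothLib.OrdQuad12.isGeneric_through i rfl (m := m) b hd h H₀
    fun hb => GrothLib.DualVar12.not_transversal_of_bad i rfl hn H₀ hb hH₀
  refine ⟨_, GrothLib.DualVar12.isPolyFun_eval b P, ?_, fun G' hG => hP G' hG⟩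
  by_contra hall
  push Not at hall
  refine hP0 (MvPolynomial.funext fun c => ?_)
  have := hall (b.equivFun.symm c)
  rw [LinearEquiv.apply_symm_apply] at this
  rw [this, map_zero]

end Groth.Agent.S4022
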