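import Groth.Statements.S4023
import Groth.Agent.Lib.OrdQuad12.Exists
import Groth.Agent.Lib.Chow.Prod

set_option autoImplicit false
set_option linter.all false
set_option backward.isDefEq.respectTransparency false
universe u
open CategoryTheory CategoryTheory.Limits AlgebraicGeometry
open LefPen

namespace Groth.Agent.S4023

/-- Let k be an algebraically closed field and X an irreducible smooth proper k-scheme of dimension n ≥
1 embedded in projective r-space by a closed immersion i. For every closed point x₀ of X and every d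
≥ 2 there is a degree-d form H such that x₀ lies on X ∩ V(H) and is an ordinary quadratic
singularity of it. -/
theorem result (k : Type u) [Field k] [IsAlgClosed k] (r n : ℕ) (hn : 1 ≤ n)
    {X : Scheme.{u}} (i : X ⟶ CohB1.ProjSpace r k) [IsClosedImmersion i] [IrreducibleSpace X]
    [SmoothOfRelativeDimension n (i ≫ CohB1.ProjSpace.toSpec r k)]
    (x₀ : X) (hx₀ : IsClosed ({x₀} : Set X)) (d : ℕ) (hd : 2 ≤ d) :
    ∃ (H : LefPen.Form r k d) (y : LefPen.Sec i ({H} : Set (LefPen.Form r k d))),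
      LefPen.secι i ({H} : Set (LefPen.Form r k d)) y = x₀ ∧
      LefPen.IsOrdQuadSing k (n - 1) (LefPen.secToSpec i ({H} : Set (LefPen.Form r k d))) y := by
  obtain ⟨m, rfl⟩ : ∃ m, n = m + 1 := ⟨n - 1, by omega⟩
  letI : X.Over (Spec (CommRingCat.of k)) := ⟨i ≫ CohB1.ProjSpace.toSpec r k⟩
  haveI hs : SmoothOfRelativeDimension (m + 1) (X ↘ Spec (CommRingCat.of k)) :=
    inferInstanceAs (SmoothOfRelativeDimension (m + 1) (i ≫ CohB1.ProjSpace.toSpec r k))
  haveI : Smooth (X ↘ Spec (CommRingCat.of k)) := SmoothOfRelativeDimension.smooth (m + 1) _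
  haveI := GrothLib.Chow.isProper_toSpec r k
  haveI : IsProper (X ↘ Spec (CommRingCat.of k)) :=
    inferInstanceAs (IsProper (i ≫ CohB1.ProjSpace.toSpec r k))
  haveI : IsIntegral X := GrothLib.Euler.isIntegral_of_smooth_connected k (X ↘ Spec (CommRingCat.of k))
  obtain ⟨H, hH⟩ := GrothLib.OrdQuad12.exists_nondegX i rfl (m := m) hd x₀ hx₀
  obtain ⟨j, hx, hb⟩ := hH.badX
  have hsupp : x₀ ∈ (LefPen.secIdeal i ({H} : Set (LefPen.Form r k d))).support := by
    rw [Scheme.IdealSheafData.mem_support_iff_of_mem hx, Scheme.mem_zeroLocus_iff]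
    intro f hf hxf
    rw [Scheme.mem_basicOpen _ _ _ hx] at hxf
    rw [SetLike.mem_coe, GrothLib.FormBertini12.secIdeal_chart i rfl H] at hf
    obtain ⟨c, rfl⟩ := Ideal.mem_span_singleton'.mp hf
    rw [map_mul] at hxf
    exact (IsLocalRing.notMem_maximalIdeal.mpr (isUnit_of_mul_isUnit_right hxf)) (Ideal.pow_le_self two_ne_zero hb)
  obtain ⟨y, hy⟩ : x₀ ∈ Set.range (LefPen.secIdeal i ({H} : Set (LefPen.Form r k d))).subschemeι := by
    rw [Scheme.IdealSheafData.range_subschemeι]; exact hsupp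
  refine ⟨H, y, hy, ?_⟩
  obtain ⟨-, -, ho⟩ := GrothLib.OrdQuad12.sec_point i rfl (m := m) H y x₀ hy hx₀ j hx
  exact ho.mpr hH

end Groth.Agent.S4023
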