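import Groth.Statements.S4024
import Mathlib

set_option autoImplicit false
set_option linter.all false
universe u
open CategoryTheory CategoryTheory.Limits AlgebraicGeometry
open LefPen

namespace Groth.Agent.S4024

/-- Let k be a field (the source works over an algebraically closed field; the count is the same over
any field), d ≥ 2, x₁ = [v₁] and x₂ = [v₂] two distinct points of projective r-space and P(W₁) ∋ x₁,
P(W₂) ∋ x₂ linear subspaces. In the space of degree-d forms, those whose hypersurface passes through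
x₁ tangentially to P(W₁) and through x₂ tangentially to P(W₂) form a linear subspace of codimension
dim P(W₁) + dim P(W₂) + 2 = dim W₁ + dim W₂ when d ≥ 3 or when the line x₁x₂ is not contained in
both P(W₁) and P(W₂), and of codimension dim W₁ + dim W₂ - 1 when d = 2 and the line x₁x₂ lies in
P(W₁) ∩ P(W₂). -/
theorem result (k : Type u) [Field k] (r d : ℕ) (hd : 2 ≤ d)
    (W₁ W₂ : Submodule k (Fin (r + 1) → k)) (v₁ v₂ : Fin (r + 1) → k) (h₁ : v₁ ∈ W₁) (h₂ : v₂ ∈ W₂)
    (hv : LinearIndependent k ![v₁, v₂]) :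
    ((3 ≤ d ∨ ¬ (v₂ ∈ W₁ ∧ v₁ ∈ W₂)) →
      Module.finrank k (LefPen.Form r k d) =
        Module.finrank k ↥(LefPen.tangentForms k d W₁ v₁ W₂ v₂) + (Module.finrank k ↥W₁ + Module.finrank k ↥W₂)) ∧
    ((d = 2 ∧ v₂ ∈ W₁ ∧ v₁ ∈ W₂) →
      Module.finrank k (LefPen.Form r k d) + 1 =
        Module.finrank k ↥(LefPen.tangentForms k d W₁ v₁ W₂ v₂) + (Module.finrank k ↥W₁ + Module.finrank k ↥W₂)) := by
  classical
  haveI : Module.Finite k (LefPen.Form r k d) := by
    have hle : CohB1.polyGrading r k d ≤ MvPolynomial.restrictTotalDegree (Fin (r + 1)) k d := by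
      intro p hp
      rw [MvPolynomial.mem_restrictTotalDegree]
      exact ((MvPolynomial.mem_homogeneousSubmodule d p).mp hp).totalDegree_le
    exact Submodule.finiteDimensional_of_le hle
  obtain ⟨ℓ₁, hℓ₁, hℓ₁'⟩ : ∃ ℓ : Module.Dual k (Fin (r + 1) → k), ℓ v₁ = 1 ∧ ℓ v₂ = 0 := by
    let b := Module.Basis.span hv
    obtain ⟨g, hg⟩ := LinearMap.exists_extend (b.coord 0)
    refine ⟨g, ?_, ?_⟩
    · have := LinearMap.congr_fun hg (b 0)
      rw [LinearMap.comp_apply, b.coord_apply, b.repr_self] at this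
      simpa [b, Module.Basis.span_apply] using this
    · have := LinearMap.congr_fun hg (b 1)
      rw [LinearMap.comp_apply, b.coord_apply, b.repr_self] at this
      simpa [b, Module.Basis.span_apply] using this
  obtain ⟨ℓ₂, hℓ₂', hℓ₂⟩ : ∃ ℓ : Module.Dual k (Fin (r + 1) → k), ℓ v₁ = 0 ∧ ℓ v₂ = 1 := by
    let b := Module.Basis.span hv
    obtain ⟨g, hg⟩ := LinearMap.exists_extend (b.coord 1)
    refine ⟨g, ?_, ?_⟩
    · have := LinearMap.congr_fun hg (b 0)
      rw [LinearMap.comp_apply, b.coord_apply, b.repr_self] at this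
      simpa [b, Module.Basis.span_apply] using this
    · have := LinearMap.congr_fun hg (b 1)
      rw [LinearMap.comp_apply, b.coord_apply, b.repr_self] at this
      simpa [b, Module.Basis.span_apply] using this
  -- linear forms
  let lin : Module.Dual k (Fin (r + 1) → k) → MvPolynomial (Fin (r + 1)) k := fun l =>
    ∑ i, MvPolynomial.C (l (Pi.single i 1)) * MvPolynomial.X i
  have hpi : ∀ (l : Module.Dual k (Fin (r + 1) → k)) w, ∑ i, w i * l (Pi.single i 1) = l w := by
    intro l w
    conv_rhs => rw [pi_eq_sum_univ' w, map_sum]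
    simp
  have hlin : ∀ l v, MvPolynomial.aeval v (lin l) = l v := by
    intro l v
    rw [← hpi l v]
    simp [lin, mul_comm]
  have hlin' : ∀ l v, MvPolynomial.eval v (lin l) = l v := fun l v => by
    rw [← MvPolynomial.aeval_eq_eval]; exact hlin l v
  have hhom : ∀ l, (lin l).IsHomogeneous 1 := fun l =>
    MvPolynomial.IsHomogeneous.sum _ _ _ fun i _ => MvPolynomial.isHomogeneous_C_mul_X _ _
  have hder : ∀ l w, ∑ i, w i • MvPolynomial.pderiv i (lin l) = MvPolynomial.C (l w) := by
    intro l w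
    rw [← hpi l w]
    simp [lin, MvPolynomial.pderiv_X, Pi.single_apply, MvPolynomial.smul_eq_C_mul, Finset.sum_ite_eq, Finset.sum_ite_eq']
  let D : (Fin (r + 1) → k) → Derivation k (MvPolynomial (Fin (r + 1)) k) (MvPolynomial (Fin (r + 1)) k) :=
    fun w => ∑ i, w i • MvPolynomial.pderiv i
  have hDsum : ∀ (w) (G : MvPolynomial (Fin (r + 1)) k), D w G = ∑ i, w i • MvPolynomial.pderiv i G := by
    intro w G
    simp only [D]
    rw [← Derivation.coeFnAddMonoidHom_apply, map_sum, Finset.sum_apply]
    simp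
  have hDlin : ∀ l w, D w (lin l) = MvPolynomial.C (l w) := fun l w => by rw [hDsum, hder]
  -- the combined condition map
  let Φ' : ∀ (W : Submodule k (Fin (r + 1) → k)), (Fin (r + 1) → k) → Module.Dual k (Fin (r + 1) → k) →
      (LefPen.Form r k d →ₗ[k] Module.Dual k W) := fun W v ℓ =>
    W.subtype.dualMap ∘ₗ
      ((∑ i, ((MvPolynomial.aeval v).toLinearMap ∘ₗ (MvPolynomial.pderiv i).toLinearMap ∘ₗ
          (CohB1.polyGrading r k d).subtype).smulRight (LinearMap.proj i : Module.Dual k (Fin (r + 1) → k))) +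
        (1 - (d : k)) • ((MvPolynomial.aeval v).toLinearMap ∘ₗ (CohB1.polyGrading r k d).subtype).smulRight ℓ)
  have hΦ' : ∀ (W : Submodule k (Fin (r + 1) → k)) v ℓ (G : LefPen.Form r k d) (w : W), Φ' W v ℓ G w =
      MvPolynomial.aeval v (D w.1 G.1) + (1 - (d : k)) * MvPolynomial.aeval v G.1 * ℓ w.1 := by
    intro W v ℓ G w
    simp [Φ', hDsum, LinearMap.sum_apply, map_sum, mul_comm, mul_assoc, mul_left_comm]
  have heuler : ∀ (v : Fin (r + 1) → k) (G : LefPen.Form r k d),
      MvPolynomial.aeval v (D v G.1) = (d : k) * MvPolynomial.aeval v G.1 := by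
    intro v G
    have := congrArg (MvPolynomial.aeval v)
      ((MvPolynomial.mem_homogeneousSubmodule d G.1).mp G.2).sum_X_mul_pderiv
    rw [hDsum]
    simpa [map_sum] using this
  have hker : ∀ (W : Submodule k (Fin (r + 1) → k)) v ℓ, v ∈ W → ℓ v = 1 →
      LinearMap.ker (Φ' W v ℓ) = LinearMap.ker (LefPen.tangLin k (d := d) W v) := by
    intro W v ℓ hvW hℓv
    ext G
    simp only [LinearMap.mem_ker]
    have hev : ∀ w : W, (LefPen.tangLin k (d := d) W v G).2 w = MvPolynomial.aeval v (D w.1 G.1) := by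
      intro w
      simp [LefPen.tangLin, hDsum]
    constructor
    · intro h
      have hz : MvPolynomial.aeval v G.1 = 0 := by
        have := LinearMap.congr_fun h ⟨v, hvW⟩
        rw [hΦ', heuler] at this
        simp only [hℓv, LinearMap.zero_apply] at this
        linear_combination this
      refine Prod.ext hz (funext fun w => ?_)
      have := LinearMap.congr_fun h w
      rw [hΦ', hz, mul_zero, zero_mul, add_zero, LinearMap.zero_apply] at this
      rw [hev, this]; rfl
    · intro h
      have hz : MvPolynomial.aeval v G.1 = 0 := congrArg Prod.fst h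
      refine LinearMap.ext fun w => ?_
      have := congrFun (congrArg Prod.snd h) w
      rw [hev] at this
      rw [hΦ', hz, this]; simp
  let Φ := (Φ' W₁ v₁ ℓ₁).prod (Φ' W₂ v₂ ℓ₂)
  have hkerΦ : LinearMap.ker Φ = LefPen.tangentForms k d W₁ v₁ W₂ v₂ := by
    rw [LinearMap.ker_prod, hker _ _ _ h₁ hℓ₁, hker _ _ _ h₂ hℓ₂]
    rfl
  have hfst : ∀ G, (Φ G).1 = Φ' W₁ v₁ ℓ₁ G := fun _ => rfl
  have hsnd : ∀ G, (Φ G).2 = Φ' W₂ v₂ ℓ₂ G := fun _ => rfl
  -- products of linear forms
  obtain ⟨e, rfl⟩ : ∃ e, d = e + 2 := ⟨d - 2, by omega⟩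
  let F : Module.Dual k (Fin (r + 1) → k) → Module.Dual k (Fin (r + 1) → k) → LefPen.Form r k (e + 2) :=
    fun l m => ⟨lin l ^ (e + 1) * lin m, by
      rw [MvPolynomial.mem_homogeneousSubmodule]
      simpa [add_assoc] using ((hhom l).pow (e + 1)).mul (hhom m)⟩
  have hF : ∀ l m v w, MvPolynomial.aeval v (F l m).1 = l v ^ (e + 1) * m v ∧
      MvPolynomial.aeval v (D w (F l m).1) = (e + 1) * l v ^ e * l w * m v + l v ^ (e + 1) * m w := by
    intro l m v w
    refine ⟨by simp [F, hlin'], ?_⟩
    simp [F, Derivation.leibniz, Derivation.leibniz_pow, hDlin, hlin']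
    ring
  have hmem : ∀ lam mu : Module.Dual k (Fin (r + 1) → k), (1 ≤ e ∨ lam v₂ = mu v₁) →
      (lam.domRestrict W₁, mu.domRestrict W₂) ∈ LinearMap.range Φ := by
    intro lam mu hc
    rcases Nat.eq_zero_or_pos e with he | he
    · subst he
      have hc' : lam v₂ = mu v₁ := hc.resolve_left (by omega)
      refine ⟨lam v₁ • F ℓ₁ ℓ₁ + mu v₂ • F ℓ₂ ℓ₂ + F ℓ₁ (lam - lam v₁ • ℓ₁) + F ℓ₂ (mu - mu v₂ • ℓ₂)
        - lam v₂ • F ℓ₁ ℓ₂, Prod.ext (LinearMap.ext fun w => ?_) (LinearMap.ext fun w => ?_)⟩
      all_goals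
        simp only [hfst, hsnd, map_add, map_sub, map_smul, Prod.fst_add, Prod.snd_add, Prod.fst_sub, Prod.snd_sub, Prod.smul_fst, Prod.smul_snd, LinearMap.add_apply,
          LinearMap.sub_apply, LinearMap.smul_apply, hΦ', (hF _ _ _ w.1).1, (hF _ _ _ w.1).2,
          LinearMap.domRestrict_apply, smul_eq_mul, hℓ₁, hℓ₁', hℓ₂, hℓ₂', hc']
        push_cast
        ring
    · obtain ⟨e', rfl⟩ : ∃ e', e = e' + 1 := ⟨e - 1, by omega⟩
      refine ⟨lam v₁ • F ℓ₁ ℓ₁ + mu v₂ • F ℓ₂ ℓ₂ + F ℓ₁ (lam - lam v₁ • ℓ₁) + F ℓ₂ (mu - mu v₂ • ℓ₂),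
        Prod.ext (LinearMap.ext fun w => ?_) (LinearMap.ext fun w => ?_)⟩
      all_goals
        simp only [hfst, hsnd, map_add, map_sub, map_smul, Prod.fst_add, Prod.snd_add, Prod.fst_sub, Prod.snd_sub, Prod.smul_fst, Prod.smul_snd, LinearMap.add_apply,
          LinearMap.sub_apply, LinearMap.smul_apply, hΦ', (hF _ _ _ w.1).1, (hF _ _ _ w.1).2,
          LinearMap.domRestrict_apply, smul_eq_mul, hℓ₁, hℓ₁', hℓ₂, hℓ₂', one_pow]
        push_cast
        ring
  have hrn := LinearMap.finrank_range_add_finrank_ker Φ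
  rw [hkerΦ] at hrn
  have hW : Module.finrank k (Module.Dual k ↥W₁ × Module.Dual k ↥W₂) =
      Module.finrank k ↥W₁ + Module.finrank k ↥W₂ := by
    rw [Module.finrank_prod, Subspace.dual_finrank_eq, Subspace.dual_finrank_eq]
  refine ⟨fun hgen => ?_, fun hspec => ?_⟩
  · have htop : LinearMap.range Φ = ⊤ := by
      refine eq_top_iff.mpr fun x _ => ?_
      obtain ⟨φ, ψ⟩ := x
      obtain ⟨lam0, hlam0⟩ := LinearMap.exists_extend φ
      obtain ⟨mu0, hmu0⟩ := LinearMap.exists_extend ψ
      by_cases he : 1 ≤ e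
      · rw [← hlam0, ← hmu0]; exact hmem lam0 mu0 (Or.inl he)
      · have hno := hgen.resolve_left (by omega)
        rw [not_and_or] at hno
        rcases hno with h | h
        · obtain ⟨z, hz, hzW⟩ := Submodule.exists_dual_map_eq_bot_of_notMem h inferInstance
          have hz' : ∀ w ∈ W₁, z w = 0 := fun w hw => by
            have := Submodule.mem_map_of_mem (f := z) hw
            rw [hzW] at this
            exact (Submodule.mem_bot k).mp this
          have e1 : (lam0 + ((mu0 v₁ - lam0 v₂) / z v₂) • z).domRestrict W₁ = φ := by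
            rw [← hlam0]; ext w; simp [hz' w.1 w.2]
          have e2 : mu0.domRestrict W₂ = ψ := hmu0
          rw [← e1, ← e2]
          exact hmem _ _ (Or.inr (by simp [div_mul_cancel₀ _ hz]))
        · obtain ⟨z, hz, hzW⟩ := Submodule.exists_dual_map_eq_bot_of_notMem h inferInstance
          have hz' : ∀ w ∈ W₂, z w = 0 := fun w hw => by
            have := Submodule.mem_map_of_mem (f := z) hw
            rw [hzW] at this
            exact (Submodule.mem_bot k).mp this
          have e1 : lam0.domRestrict W₁ = φ := hlam0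
          have e2 : (mu0 + ((lam0 v₂ - mu0 v₁) / z v₁) • z).domRestrict W₂ = ψ := by
            rw [← hmu0]; ext w; simp [hz' w.1 w.2]
          rw [← e1, ← e2]
          exact hmem _ _ (Or.inr (by simp [div_mul_cancel₀ _ hz]))
    rw [htop, finrank_top, hW] at hrn
    linarith
  · obtain ⟨hd2, hv2, hv1⟩ := hspec
    obtain rfl : e = 0 := by omega
    let θ : Module.Dual k ↥W₁ × Module.Dual k ↥W₂ →ₗ[k] k :=
      (LinearMap.applyₗ (⟨v₂, hv2⟩ : ↥W₁)) ∘ₗ LinearMap.fst k _ _ -
        (LinearMap.applyₗ (⟨v₁, hv1⟩ : ↥W₂)) ∘ₗ LinearMap.snd k _ _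
    have hθ : ∀ x, θ x = x.1 ⟨v₂, hv2⟩ - x.2 ⟨v₁, hv1⟩ := fun x => rfl
    have hrange : LinearMap.range Φ = LinearMap.ker θ := by
      refine le_antisymm ?_ fun x hx => ?_
      · rintro _ ⟨G, rfl⟩
        rw [LinearMap.mem_ker, hθ]
        simp only [hfst, hsnd, hΦ', hℓ₁', hℓ₂', mul_zero, add_zero]
        -- the polar form of a quadratic form is symmetric
        rw [sub_eq_zero]
        have key : ∀ p : MvPolynomial (Fin (r + 1)) k, p ∈ MvPolynomial.homogeneousSubmodule (Fin (r + 1)) k (0 + 2) →
            MvPolynomial.aeval v₁ (D v₂ p) = MvPolynomial.aeval v₂ (D v₁ p) := by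
          intro p hp
          rw [MvPolynomial.as_sum p]
          simp only [map_sum]
          refine Finset.sum_congr rfl fun m hm => ?_
          obtain ⟨i, j, rfl⟩ : ∃ i j, m = Finsupp.single i 1 + Finsupp.single j 1 := by
            have hdeg : m.degree = 0 + 2 := by
              have := (MvPolynomial.mem_homogeneousSubmodule _ p).mp hp (MvPolynomial.mem_support_iff.mp hm)
              rw [← this, Finsupp.weight_apply, Finsupp.degree_apply, Finsupp.sum]
              simp
            have hm0 : m ≠ 0 := by rintro rfl; simp at hdeg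
            obtain ⟨i, hi⟩ := Finsupp.support_nonempty_iff.mpr hm0
            have hi1 : Finsupp.single i 1 ≤ m := by
              rw [Finsupp.single_le_iff]; exact Nat.one_le_iff_ne_zero.mpr (Finsupp.mem_support_iff.mp hi)
            have hsum : Finsupp.single i 1 + (m - Finsupp.single i 1) = m := add_tsub_cancel_of_le hi1
            have hdeg' : (m - Finsupp.single i 1).degree = 1 := by
              have := congrArg Finsupp.degree hsum
              rw [map_add, Finsupp.degree_single, hdeg] at this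
              omega
            obtain ⟨m', hm'⟩ : ∃ m', m' = m - Finsupp.single i 1 := ⟨_, rfl⟩
            rw [← hm'] at hdeg' hsum
            have hm0' : m' ≠ 0 := by rintro rfl; simp at hdeg'
            obtain ⟨j, hj⟩ := Finsupp.support_nonempty_iff.mpr hm0'
            have hj1 : Finsupp.single j 1 ≤ m' := by
              rw [Finsupp.single_le_iff]; exact Nat.one_le_iff_ne_zero.mpr (Finsupp.mem_support_iff.mp hj)
            have hsum' : Finsupp.single j 1 + (m' - Finsupp.single j 1) = m' := add_tsub_cancel_of_le hj1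
            have hz0 : (m' - Finsupp.single j 1).degree = 0 := by
              have := congrArg Finsupp.degree hsum'
              rw [map_add, Finsupp.degree_single, hdeg'] at this
              omega
            rw [(Finsupp.degree_eq_zero_iff _).mp hz0, add_zero] at hsum'
            exact ⟨i, j, by rw [hsum', hsum]⟩
          rw [show MvPolynomial.monomial (Finsupp.single i 1 + Finsupp.single j 1) (MvPolynomial.coeff _ p) =
            MvPolynomial.C (MvPolynomial.coeff (Finsupp.single i 1 + Finsupp.single j 1) p) * (MvPolynomial.X i * MvPolynomial.X j) by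
              simp [MvPolynomial.X, MvPolynomial.C_mul_monomial, MvPolynomial.monomial_mul]]
          simp only [hDsum, Derivation.leibniz, MvPolynomial.pderiv_C, MvPolynomial.pderiv_X, Pi.single_apply,
            smul_zero, add_zero, smul_eq_mul, mul_ite, mul_one, mul_zero, smul_add, mul_add, smul_ite,
            Finset.sum_add_distrib, Finset.sum_ite_eq, Finset.mem_univ, if_true, map_add, map_mul, map_smul,
            MvPolynomial.aeval_X, MvPolynomial.aeval_C]
          ring
        exact key G.1 G.2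
      · obtain ⟨φ, ψ⟩ := x
        obtain ⟨lam0, hlam0⟩ := LinearMap.exists_extend φ
        obtain ⟨mu0, hmu0⟩ := LinearMap.exists_extend ψ
        rw [LinearMap.mem_ker, hθ, sub_eq_zero] at hx
        rw [← hlam0, ← hmu0]
        refine hmem lam0 mu0 (Or.inr ?_)
        rw [← hlam0, ← hmu0] at hx
        exact hx
    have hθne : θ ≠ 0 := by
      intro h
      have := LinearMap.congr_fun h (ℓ₂.domRestrict W₁, 0)
      simp [hθ, hℓ₂] at this
    have h1 := Module.Dual.finrank_ker_add_one_of_ne_zero hθne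
    rw [hrange] at hrn
    rw [hW] at h1
    linarith

end Groth.Agent.S4024
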