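import Groth.Statements.S4025
import Groth.Agent.Lib.OrdQuad12.Pairs
import Groth.Agent.Lib.Chow.Prod

set_option autoImplicit false
set_option linter.all false
set_option backward.isDefEq.respectTransparency false
universe u
open CategoryTheory CategoryTheory.Limits AlgebraicGeometry
open LefPen

namespace Groth.Agent.S4025

/-- Let k be an algebraically closed field and X an irreducible smooth proper k-scheme of dimension n ≥
1 embedded in projective r-space by a closed immersion i, and let d ≥ 1. Inside the dual variety
(the forms whose hypersurface does not cut X transversally), the forms H such that X ∩ V(H) is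
smooth except at exactly one point which is an ordinary quadratic singularity form an open subset:
around each such H₀ there is a polynomial function on the space of forms, non-zero at H₀, whose
non-vanishing locus meets the dual variety only in such forms. -/
theorem result (k : Type u) [Field k] [IsAlgClosed k] (r n : ℕ) (hn : 1 ≤ n)
    {X : Scheme.{u}} (i : X ⟶ CohB1.ProjSpace r k) [IsClosedImmersion i] [IrreducibleSpace X]
    [SmoothOfRelativeDimension n (i ≫ CohB1.ProjSpace.toSpec r k)]
    (d : ℕ) (hd : 1 ≤ d) (H₀ : LefPen.Form r k d) (hH₀ : LefPen.OneOrdQuad k n i H₀) :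
    ∃ f : LefPen.Form r k d → k, LefPen.IsPolyFun k f ∧ f H₀ ≠ 0 ∧
      ∀ H : LefPen.Form r k d, ¬ LefPen.Transversal k n 1 (LefPen.secToSpec i ({H} : Set (LefPen.Form r k d))) →
        f H ≠ 0 → LefPen.OneOrdQuad k n i H := by
  obtain ⟨m, rfl⟩ : ∃ m, n = m + 1 := ⟨n - 1, by omega⟩
  letI : X.Over (Spec (CommRingCat.of k)) := ⟨i ≫ CohB1.ProjSpace.toSpec r k⟩
  haveI hs : SmoothOfRelativeDimension (m + 1) (X ↘ Spec (CommRingCat.of k)) :=
    inferInstanceAs (SmoothOfRelativeDimension (m + 1) (i ≫ CohB1.ProjSpace.toSpec r k))
  haveI : Smooth (X ↘ Spec (CommRingCat.of k)) := SmoothOfRelativeDimension.smooth (m + 1) _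
  haveI := GrothLib.Chow.isProper_toSpec r k
  haveI : IsProper (X ↘ Spec (CommRingCat.of k)) :=
    inferInstanceAs (IsProper (i ≫ CohB1.ProjSpace.toSpec r k))
  haveI : IsIntegral X := GrothLib.Euler.isIntegral_of_smooth_connected k (X ↘ Spec (CommRingCat.of k))
  haveI := GrothLib.FormBertini12.finite_form (k := k) (r := r) d
  let b := Module.finBasis k (LefPen.Form r k d)
  obtain ⟨P, hP0, hP⟩ := GrothLib.OrdQuad12.exists_open_oneOrdQuad i rfl (m := m) b H₀ hH₀
  exact ⟨_, GrothLib.DualVar12.isPolyFun_eval b P, hP0, fun H hT hf => hP H hf (by_contra fun hb =>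
    hT (GrothLib.DualVar12.transversal_of_not_bad i rfl hn H hb))⟩

end Groth.Agent.S4025
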