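import Groth.Statements.S4026
import Groth.Agent.Lib.FormBertini12.Main
import Groth.Agent.Lib.Chow.Prod

set_option autoImplicit false
set_option linter.all false
set_option backward.isDefEq.respectTransparency false
universe u
open CategoryTheory CategoryTheory.Limits AlgebraicGeometry
open LefPen

namespace Groth.Agent.S4026

/-- In the form 'the dual variety (the hyperplanes not transversal to X) is a proper closed subset of
the dual projective space': let k be an algebraically closed field and X an irreducible smooth
proper k-scheme of dimension n ≥ 1 embedded in projective r-space by a closed immersion i, and let d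
≥ 1. The degree-d forms whose hypersurface cuts X transversally (X ∩ V(H) smooth over k of dimension
n - 1) contain the non-vanishing locus of a not identically zero polynomial function of the
coefficients. -/
theorem result (k : Type u) [Field k] [IsAlgClosed k] (r n : ℕ) (hn : 1 ≤ n)
    {X : Scheme.{u}} (i : X ⟶ CohB1.ProjSpace r k) [IsClosedImmersion i] [IrreducibleSpace X]
    [SmoothOfRelativeDimension n (i ≫ CohB1.ProjSpace.toSpec r k)]
    (d : ℕ) (hd : 1 ≤ d) :
    LefPen.IsGeneric k {H : LefPen.Form r k d |
      LefPen.Transversal k n 1 (LefPen.secToSpec i ({H} : Set (LefPen.Form r k d)))} := by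
  letI : X.Over (Spec (CommRingCat.of k)) := ⟨i ≫ CohB1.ProjSpace.toSpec r k⟩
  haveI hs : SmoothOfRelativeDimension n (X ↘ Spec (CommRingCat.of k)) :=
    inferInstanceAs (SmoothOfRelativeDimension n (i ≫ CohB1.ProjSpace.toSpec r k))
  haveI : Smooth (X ↘ Spec (CommRingCat.of k)) := SmoothOfRelativeDimension.smooth n _
  haveI := GrothLib.Chow.isProper_toSpec r k
  haveI : QuasiCompact (X ↘ Spec (CommRingCat.of k)) :=
    inferInstanceAs (QuasiCompact (i ≫ CohB1.ProjSpace.toSpec r k))
  haveI : IsIntegral X := GrothLib.Euler.isIntegral_of_smooth_connected k (X ↘ Spec (CommRingCat.of k))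
  exact GrothLib.FormBertini12.isGeneric i rfl hn d hd

end Groth.Agent.S4026
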