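import Groth.Statements.S4027
import Mathlib.Algebra.Polynomial.Laurent
import Mathlib.RingTheory.Polynomial.GaussLemma
import Mathlib.Algebra.MvPolynomial.Nilpotent
import Mathlib.RingTheory.Polynomial.UniqueFactorization

set_option autoImplicit false
set_option linter.all false
universe u
open LefPen

namespace Groth.Agent.S4027

/-- Let k be an algebraically closed field, r ≥ 2, and F ∈ k[X_1, …, X_r] an irreducible polynomial with
F(0) ≠ 0 (in the source the origin is the base point of the lines considered and lies off the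
hypersurface F = 0; without this the claim fails, e.g. for X_1 - X_2^2). Then the polynomial G(T) =
F(X_1 T, …, X_r T), with coefficients in the field of rational functions k(X_1, …, X_r), is
irreducible. -/
theorem result (k : Type u) [Field k] [IsAlgClosed k] (r : ℕ) (hr : 2 ≤ r)
    (F : MvPolynomial (Fin r) k) (hF : Irreducible F) (hF0 : MvPolynomial.eval (fun _ => (0 : k)) F ≠ 0) :
    Irreducible ((MvPolynomial.eval₂ (Polynomial.C.comp MvPolynomial.C)
        (fun j => Polynomial.C (MvPolynomial.X j) * Polynomial.X) F).map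
      (algebraMap (MvPolynomial (Fin r) k) (FractionRing (MvPolynomial (Fin r) k)))) := by
  classical
  set G : Polynomial (MvPolynomial (Fin r) k) := MvPolynomial.eval₂ (Polynomial.C.comp MvPolynomial.C)
        (fun j => Polynomial.C (MvPolynomial.X j) * Polynomial.X) F with hG
  have hG0 : G.coeff 0 = MvPolynomial.C (MvPolynomial.eval (fun _ => (0 : k)) F) := by
    have e : ((Polynomial.evalRingHom (0 : (MvPolynomial (Fin r) k))).comp (MvPolynomial.eval₂Hom (Polynomial.C.comp MvPolynomial.C)
        (fun j => Polynomial.C (MvPolynomial.X j) * Polynomial.X))) =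
        (MvPolynomial.C).comp (MvPolynomial.eval (fun _ : Fin r => (0 : k))) := by
      apply MvPolynomial.ringHom_ext <;> intro i <;> simp
    rw [Polynomial.coeff_zero_eq_eval_zero]
    exact RingHom.congr_fun e F
  have hu : IsUnit (G.coeff 0) := hG0 ▸ (Ne.isUnit hF0).map MvPolynomial.C
  have hprim : G.IsPrimitive := fun a ha =>
    isUnit_of_dvd_unit ((Polynomial.C_dvd_iff_dvd_coeff a G).1 ha 0) hu
  refine (Polynomial.IsPrimitive.irreducible_iff_irreducible_map_fraction_map hprim).1 ?_
  let φ : (MvPolynomial (Fin r) k) →+* LaurentPolynomial (MvPolynomial (Fin r) k) := MvPolynomial.eval₂Hom (LaurentPolynomial.C.comp MvPolynomial.C)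
    (fun j => LaurentPolynomial.C (MvPolynomial.X j) * LaurentPolynomial.T 1)
  let θ : Polynomial (MvPolynomial (Fin r) k) →+* LaurentPolynomial (MvPolynomial (Fin r) k) := Polynomial.eval₂RingHom φ (LaurentPolynomial.T (-1))
  let x : (LaurentPolynomial (MvPolynomial (Fin r) k))ˣ := ⟨LaurentPolynomial.T (-1), LaurentPolynomial.T 1,
    by rw [← LaurentPolynomial.T_add]; simp, by rw [← LaurentPolynomial.T_add]; simp⟩
  let τ : LaurentPolynomial (MvPolynomial (Fin r) k) →+* LaurentPolynomial (MvPolynomial (Fin r) k) := LaurentPolynomial.eval₂ φ x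
  have hx : ∀ n : ℤ, ((x ^ n : (LaurentPolynomial (MvPolynomial (Fin r) k))ˣ) : LaurentPolynomial (MvPolynomial (Fin r) k)) = LaurentPolynomial.T (-n) := by
    intro n
    cases n with
    | ofNat n => simp [x, LaurentPolynomial.T_pow]
    | negSucc n =>
      rw [zpow_negSucc, ← inv_pow]
      simp [x, LaurentPolynomial.T_pow, Int.negSucc_eq]
  have hτθ : ∀ p, τ (θ p) = Polynomial.toLaurent p := by
    intro p
    have e : τ.comp θ = (Polynomial.toLaurent : Polynomial (MvPolynomial (Fin r) k) →+* LaurentPolynomial (MvPolynomial (Fin r) k)) := by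
      refine Polynomial.ringHom_ext' (MvPolynomial.ringHom_ext (fun c => ?_) (fun j => ?_)) ?_
      · simp [τ, θ, φ]
      · have h1 := hx 1
        have h2 := hx (-1)
        rw [zpow_one] at h1
        simp [τ, θ, φ, h1, h2, LaurentPolynomial.mul_T_assoc]
      · have h2 := hx (-1)
        simp only [zpow_neg, zpow_one, neg_neg] at h2
        simp [τ, θ, h2, Polynomial.toLaurent_X]
    exact RingHom.congr_fun e p
  have hθG : θ G = LaurentPolynomial.C F := by
    have e : θ.comp (MvPolynomial.eval₂Hom (Polynomial.C.comp MvPolynomial.C)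
        (fun j => Polynomial.C (MvPolynomial.X j) * Polynomial.X)) = LaurentPolynomial.C := by
      apply MvPolynomial.ringHom_ext <;> intro i <;> simp [θ, φ, LaurentPolynomial.mul_T_assoc]
    exact RingHom.congr_fun e F
  have mono : ∀ (A B : Polynomial (MvPolynomial (Fin r) k)) (n : ℕ) (a : (MvPolynomial (Fin r) k)), a ≠ 0 → A * B = Polynomial.monomial n a →
      ∃ (m : ℕ) (c : (MvPolynomial (Fin r) k)), A = Polynomial.monomial m c := by
    intro A B n a ha h
    have hA : A ≠ 0 := by rintro rfl; rw [zero_mul] at h; exact ha ((Polynomial.monomial_eq_zero_iff _ _).1 h.symm)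
    have hB : B ≠ 0 := by rintro rfl; rw [mul_zero] at h; exact ha ((Polynomial.monomial_eq_zero_iff _ _).1 h.symm)
    have h1 := Polynomial.natDegree_mul hA hB
    have h2 := Polynomial.natTrailingDegree_mul hA hB
    rw [h, Polynomial.natDegree_monomial_eq _ ha] at h1
    rw [h, Polynomial.natTrailingDegree_monomial ha] at h2
    have h3 := A.natTrailingDegree_le_natDegree
    have h4 := B.natTrailingDegree_le_natDegree
    refine ⟨A.natDegree, A.coeff A.natDegree, Polynomial.ext fun i => ?_⟩
    rw [Polynomial.coeff_monomial]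
    split_ifs with hi
    · rw [hi]
    · rcases lt_or_gt_of_ne hi with h5 | h5
      · exact Polynomial.coeff_eq_zero_of_natDegree_lt h5
      · exact Polynomial.coeff_eq_zero_of_lt_natTrailingDegree (by omega)
  have lmono : ∀ (A B : LaurentPolynomial (MvPolynomial (Fin r) k)), A * B = LaurentPolynomial.C F →
      ∃ (e : ℤ) (c : (MvPolynomial (Fin r) k)), A = LaurentPolynomial.C c * LaurentPolynomial.T e := by
    intro A B h
    obtain ⟨p, A', hA'⟩ := LaurentPolynomial.exists_T_pow A
    obtain ⟨q, B', hB'⟩ := LaurentPolynomial.exists_T_pow B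
    obtain ⟨m, c, hc⟩ := mono A' B' (p + q) F hF.ne_zero (by
      apply Polynomial.toLaurent_injective
      rw [map_mul, hA', hB', mul_mul_mul_comm, h, ← LaurentPolynomial.T_add, ← Polynomial.C_mul_X_pow_eq_monomial,
        Polynomial.toLaurent_C_mul_X_pow]
      push_cast
      rfl)
    refine ⟨(m : ℤ) - p, c, ?_⟩
    have : A = Polynomial.toLaurent A' * LaurentPolynomial.T (-(p : ℤ)) := by
      rw [hA', LaurentPolynomial.mul_T_assoc, add_neg_cancel, LaurentPolynomial.T_zero, mul_one]
    rw [this, hc, ← Polynomial.C_mul_X_pow_eq_monomial, Polynomial.toLaurent_C_mul_X_pow,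
      LaurentPolynomial.mul_T_assoc, sub_eq_add_neg]
  have key : ∀ (A : Polynomial (MvPolynomial (Fin r) k)) (c : (MvPolynomial (Fin r) k)) (e : ℤ), IsUnit c → A.coeff 0 ≠ 0 →
      θ A = LaurentPolynomial.C c * LaurentPolynomial.T e → IsUnit A := by
    intro A c e hc hA h
    obtain ⟨w, -, rfl⟩ := MvPolynomial.isUnit_iff_eq_C_of_isReduced.1 hc
    have h' := congrArg τ h
    rw [hτθ, map_mul, LaurentPolynomial.eval₂_C, LaurentPolynomial.eval₂_T, hx] at h'
    simp only [φ, MvPolynomial.eval₂Hom_C, RingHom.comp_apply] at h'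
    have h0 : (Polynomial.toLaurent A).coeff ((0 : ℕ) : ℤ) = A.coeff 0 := by
      rw [LaurentPolynomial.coeff_toLaurent]
      exact Finsupp.mapDomain_apply Nat.cast_injective _ _
    have he : e = 0 := by
      by_contra hne
      apply hA
      rw [← h0, h', ← LaurentPolynomial.single_eq_C_mul_T]
      rw [AddMonoidAlgebra.coeff_single, Finsupp.single_apply, if_neg (by omega)]
    rw [he, neg_zero, LaurentPolynomial.T_zero, mul_one, ← Polynomial.toLaurent_C] at h'
    rw [Polynomial.toLaurent_injective h']
    exact hc.map Polynomial.C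
  have hGne : ¬ IsUnit G := by
    intro hG1
    have h1 := hG1.map (Polynomial.evalRingHom (1 : (MvPolynomial (Fin r) k)))
    have e : ((Polynomial.evalRingHom (1 : (MvPolynomial (Fin r) k))).comp (MvPolynomial.eval₂Hom (Polynomial.C.comp MvPolynomial.C)
        (fun j => Polynomial.C (MvPolynomial.X j) * Polynomial.X))) = RingHom.id (MvPolynomial (Fin r) k) := by
      apply MvPolynomial.ringHom_ext <;> intro i <;> simp
    rw [show Polynomial.evalRingHom (1 : (MvPolynomial (Fin r) k)) G = F from RingHom.congr_fun e F] at h1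
    exact hF.not_isUnit h1
  refine ⟨hGne, fun A B hAB => ?_⟩
  have hne : A.coeff 0 * B.coeff 0 ≠ 0 := by
    rw [← Polynomial.mul_coeff_zero, ← hAB]
    exact hu.ne_zero
  have hmul : θ A * θ B = LaurentPolynomial.C F := by rw [← map_mul, ← hAB, hθG]
  obtain ⟨e, c, hc⟩ := lmono _ _ hmul
  obtain ⟨f, d, hd⟩ := lmono _ _ ((mul_comm _ _).trans hmul)
  rw [hc, hd, mul_mul_mul_comm, ← map_mul, ← LaurentPolynomial.T_add,
    ← LaurentPolynomial.single_eq_C_mul_T, ← LaurentPolynomial.single_eq_C] at hmul
  have hco := congrArg (fun g => g.coeff (0 : ℤ)) hmul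
  simp only [AddMonoidAlgebra.coeff_single, Finsupp.single_apply, if_true] at hco
  have hcd : c * d = F := by
    by_cases hef : e + f = 0
    · rwa [if_pos hef] at hco
    · rw [if_neg hef] at hco
      exact absurd hco.symm hF.ne_zero
  rcases hF.isUnit_or_isUnit hcd.symm with h | h
  · exact Or.inl (key A c e h (left_ne_zero_of_mul hne) hc)
  · exact Or.inr (key B d f h (right_ne_zero_of_mul hne) hd)

end Groth.Agent.S4027
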