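import Groth.Statements.S4039
import Groth.Agent.Lib.QuadCount12.Scheme

set_option autoImplicit false
set_option maxHeartbeats 800000
set_option backward.isDefEq.respectTransparency false
set_option linter.all false
universe u
open CategoryTheory CategoryTheory.Limits AlgebraicGeometry
open LefPen

namespace Groth.Agent.S4039

/-- Let k be a finite field with q elements, n ≥ 0, and Q a quadratic form in n + 2 variables over k
whose zero scheme X = V(Q) ⊆ P^{n+1}_k is smooth over k of relative dimension n (a smooth quadric of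
dimension n over k). Then the number of k-rational points of X is Σ_{i=0}^{n} q^i if n is odd, and
Σ_{i=0}^{n} q^i + ε q^{n/2} with ε = 1 or ε = -1 if n is even, where ε = 1 exactly when X is split,
i.e. contains a k-rational linear subspace of dimension n/2 (Q vanishes on a subspace of k^{n+2} of
dimension n/2 + 1). -/
theorem result (k : Type u) [Field k] [Fintype k] (n : ℕ) (Q : LefPen.Form (n + 1) k 2)
    [SmoothOfRelativeDimension n ((LefPen.hypIdeal Q).subschemeι ≫ CohB1.ProjSpace.toSpec (n + 1) k)] :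
    (Odd n → (SgaExt.pointCount ((LefPen.hypIdeal Q).subschemeι ≫ CohB1.ProjSpace.toSpec (n + 1) k) k : ℤ) =
      ∑ i ∈ Finset.range (n + 1), (Fintype.card k : ℤ) ^ i) ∧
    (Even n → ∃ ε : ℤ, (ε = 1 ∨ ε = -1) ∧
      (SgaExt.pointCount ((LefPen.hypIdeal Q).subschemeι ≫ CohB1.ProjSpace.toSpec (n + 1) k) k : ℤ) =
        (∑ i ∈ Finset.range (n + 1), (Fintype.card k : ℤ) ^ i) + ε * (Fintype.card k : ℤ) ^ (n / 2) ∧
      (ε = 1 ↔ ∃ W : Submodule k (Fin (n + 1 + 1) → k), Module.finrank k ↥W = n / 2 + 1 ∧
        ∀ w ∈ W, MvPolynomial.eval w Q.1 = 0)) := by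
  classical
  obtain ⟨β, hβ, hnd⟩ := GrothLib.QuadCount12.exists_nonDeg n Q
  set P := SgaExt.pointCount ((LefPen.hypIdeal Q).subschemeι ≫ CohB1.ProjSpace.toSpec (n + 1) k) k with hP
  set q : ℤ := (Fintype.card k : ℤ) with hq
  have hqk : (Nat.card k : ℤ) = q := by rw [hq, Nat.card_eq_fintype_card]
  have hN : (GrothLib.QuadCount12.N β : ℤ) = (q - 1) * P + 1 := by
    have h1 : GrothLib.QuadCount12.N β =
        Nat.card {v : Fin (n + 1 + 1) → k // v ≠ 0 ∧ MvPolynomial.eval v Q.1 = 0} + 1 := by
      rw [← Finite.card_option]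
      let z : {v : Fin (n + 1 + 1) → k // β v v = 0} := ⟨0, by simp⟩
      refine Nat.card_congr ((Equiv.optionSubtypeNe z).symm.trans (Equiv.optionCongr ?_))
      exact
        { toFun := fun v => ⟨v.1.1, fun h => v.2 (Subtype.ext h), by rw [← hβ]; exact v.1.2⟩
          invFun := fun v => ⟨⟨v.1, by rw [hβ]; exact v.2.2⟩, fun h => v.2.1 (congrArg Subtype.val h)⟩
          left_inv := fun v => rfl
          right_inv := fun v => rfl }
    rw [h1, GrothLib.QuadCount12.card_zeros_ne_zero Q.2, ← GrothLib.QuadCount12.pointCount_hyp (by norm_num) Q, ← hP,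
      Nat.card_eq_fintype_card (α := kˣ), Fintype.card_units, hq]
    have : 1 ≤ Fintype.card k := Fintype.card_pos
    push_cast [Nat.cast_sub this]
    ring
  obtain ⟨hodd, heven⟩ := GrothLib.QuadCount12.count (n + 1 + 1) (Fin (n + 1 + 1) → k) (Module.finrank_fin_fun k) β hnd
  rw [hqk, hN] at hodd
  simp only [hqk, hN] at heven
  have hq2 : (2 : ℤ) ≤ q := by
    have := Fintype.one_lt_card (α := k)
    omega
  have hne : q * (q - 1) ≠ 0 := mul_ne_zero (by omega) (by omega)
  have hgeom := geom_sum_mul q (n + 1)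
  constructor
  · intro hn
    have h := hodd (by obtain ⟨j, hj⟩ := hn; exact ⟨j + 1, by omega⟩)
    refine mul_left_cancel₀ hne ?_
    rw [pow_succ] at h
    linear_combination h - q * hgeom
  · intro hn
    obtain ⟨s, hs⟩ := hn
    have hn2 : n / 2 = s := by omega
    rw [hn2]
    have hW : GrothLib.QuadCount12.HasSing β (s + 1) ↔ ∃ W : Submodule k (Fin (n + 1 + 1) → k),
        Module.finrank k ↥W = s + 1 ∧ ∀ w ∈ W, MvPolynomial.eval w Q.1 = 0 := by
      simp only [GrothLib.QuadCount12.HasSing, hβ]
    obtain ⟨hyes, hno⟩ := heven (s + 1) (by omega)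
    by_cases h : GrothLib.QuadCount12.HasSing β (s + 1)
    · refine ⟨1, Or.inl rfl, ?_, by rw [← hW]; simp [h]⟩
      have h' := hyes h
      refine mul_left_cancel₀ hne ?_
      rw [pow_succ q (n + 1), pow_succ q (s + 1), pow_succ q s] at h'
      linear_combination h' - q * hgeom
    · refine ⟨-1, Or.inr rfl, ?_, by rw [← hW]; simp [h]⟩
      have h' := hno h
      refine mul_left_cancel₀ hne ?_
      rw [pow_succ q (n + 1), pow_succ q (s + 1), pow_succ q s] at h'
      linear_combination h' - q * hgeom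

end Groth.Agent.S4039
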