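import Groth.Statements.S4040
import Groth.Agent.Lib.HypVan12.CI
set_option linter.style.haveILetI false
-- import your own Groth.Agent.* helpers here

set_option autoImplicit false
universe u
open CategoryTheory CategoryTheory.Limits AlgebraicGeometry
open LefPen

namespace Groth.Agent.S4040

/-- Over a field (base Spec k): let k be a field and Y ⊆ P^{n+d}_k the common zero scheme of d ≥ 1 forms
of degrees a_j ≥ 1, smooth over k of relative dimension n (a smooth complete intersection of
dimension n); let Ω = Ω^1_{Y/k} (the conormal sheaf of the diagonal) and L an O_Y-module which is a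
j-th exterior power of Ω. Then H^i(Y, L) = 0 for all i, j with i ≠ j and i + j ≠ n. -/
theorem result (k : Type u) [Field k] (n d : ℕ) (hd : 1 ≤ d) (a : Fin d → ℕ) (ha : ∀ j, 1 ≤ a j)
    (G : ∀ j : Fin d, LefPen.Form (n + d) k (a j))
    [SmoothOfRelativeDimension n ((LefPen.ciIdeal G).subschemeι ≫ CohB1.ProjSpace.toSpec (n + d) k)]
    (j : ℕ) (L : (LefPen.ciIdeal G).subscheme.Modules) (hL : ExtPow.IsExtPow j (Omega.sheaf ((LefPen.ciIdeal G).subschemeι ≫ CohB1.ProjSpace.toSpec (n + d) k)) L)
    (i : ℕ) (hij : i ≠ j) (hijn : i + j ≠ n) :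
    Subsingleton (Coh.HH (LefPen.ciIdeal G).subscheme L i) := by
  letI : (LefPen.ciIdeal G).subscheme.Over (Spec (CommRingCat.of k)) :=
    ⟨(LefPen.ciIdeal G).subschemeι ≫ CohB1.ProjSpace.toSpec (n + d) k⟩
  have h := GrothLib.HypVan12.finrank_hodge n d a ha G rfl j i (by omega) L hL
  rw [if_neg (fun h => hij h.1.symm)] at h
  exact h.subsingleton


end Groth.Agent.S4040
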