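import Groth.Statements.S4057
import Groth.Agent.Lib.SplitRed1.IsogFibre
import Groth.Agent.Lib.SplitRed1.GaBC
-- import your own Groth.Agent.* helpers here

set_option autoImplicit false
set_option backward.isDefEq.respectTransparency false
set_option maxHeartbeats 1000000
universe u
open CategoryTheory CategoryTheory.Limits AlgebraicGeometry MonObj
open SGA7

namespace Groth.Agent.S4057

/-- Let R -> R' be an injective homomorphism of Dedekind domains (a dominant morphism of the spectra)
with fraction fields K and K', N a group scheme over Spec R which is a Néron model of its generic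
fibre (an abelian variety over K) and whose geometric fibres contain no copy of the additive group
(semistable reduction), and N' a group scheme over Spec R' which is a Néron model of its generic
fibre. Then every homomorphism u : N ×_R R' -> N' of group schemes over Spec R' which is an
isomorphism on generic fibres is an open immersion. -/
theorem result (R K R' K' : Type u) [CommRing R] [IsDedekindDomain R]
    [Field K] [Algebra R K] [IsFractionRing R K] [CommRing R'] [IsDedekindDomain R']
    [Field K'] [Algebra R' K'] [IsFractionRing R' K']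
    (φ : R →+* R') (hφ : Function.Injective φ)
    (N : Over (Spec (CommRingCat.of R))) [GrpObj N] (hN : SGA7.IsNeron R K N)
    [IsProper ((SGA7.genFib R K).obj N).hom] [GeometricallyIntegral ((SGA7.genFib R K).obj N).hom]
    (hss : SGA7.FibresUnipotentRankZero N)
    (N' : Over (Spec (CommRingCat.of R'))) [GrpObj N'] (hN' : SGA7.IsNeron R' K' N')
    (u : Red.bc (Spec.map (CommRingCat.ofHom φ)) N ⟶ N') [IsMonHom u] [IsIso ((SGA7.genFib R' K').map u)] :
    IsOpenImmersion u.left := by
  obtain ⟨hNs, hNsep, hNq, -⟩ := hN
  obtain ⟨hN's, hN'sep, hN'q, -⟩ := hN'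
  haveI := hNs; haveI := hNsep; haveI := hNq; haveI := hN's; haveI := hN'sep; haveI := hN'q
  haveI : IsCommMonObj ((SGA7.genFib R K).obj N) := GrothLib.Cube.isCommMonObj_abVar
  haveI := GrothLib.SplitRed1.isCommMonObj_of_genFib K N
  let f := Spec.map (CommRingCat.ofHom φ)
  let j := Spec.map (CommRingCat.ofHom (algebraMap R K))
  let j' := Spec.map (CommRingCat.ofHom (algebraMap R' K'))
  let G' := Red.bc f N
  haveI : Smooth G'.hom := MorphismProperty.pullback_snd N.hom f hNs
  haveI : IsSeparated G'.hom := MorphismProperty.pullback_snd N.hom f hNsep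
  haveI : QuasiCompact G'.hom := MorphismProperty.pullback_snd N.hom f hNq
  haveI : IsCommMonObj G' := Functor.isCommMonObj_obj
  let P' := SGA7.genFib R' K'
  haveI : IsCommMonObj (P'.obj G') := Functor.isCommMonObj_obj
  haveI : IsMonHom (inv (P'.map u)) :=
    ⟨by rw [IsIso.comp_inv_eq, IsMonHom.one_hom (f := P'.map u)], by
      rw [IsIso.comp_inv_eq, Category.assoc, IsMonHom.mul_hom (f := P'.map u), MonoidalCategory.tensorHom_comp_tensorHom_assoc,
        IsIso.inv_hom_id, MonoidalCategory.id_tensorHom_id, Category.id_comp]⟩
  haveI : IsCommMonObj (P'.obj N') := GrothLib.AlgGrp14.isCommMonObj_of_mono (inv (P'.map u))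
  haveI := GrothLib.SplitRed1.isCommMonObj_of_genFib K' N'
  let q' : Spec (CommRingCat.of K') ⟶ Spec (CommRingCat.of K) :=
    Spec.map (CommRingCat.ofHom (IsFractionRing.lift (g := (algebraMap R' K').comp φ)
      ((IsFractionRing.injective R' K').comp hφ)))
  have hq' : j' ≫ f = q' ≫ j := by
    rw [← Spec.map_comp, ← Spec.map_comp, ← CommRingCat.ofHom_comp, ← CommRingCat.ofHom_comp]
    congr 2
    ext r
    simp [IsFractionRing.lift_algebraMap]
  haveI : GeometricallyIntegral (P'.obj G').hom := by
    have sq := (IsPullback.of_hasPullback (pullback.snd N.hom f) j').paste_horiz (IsPullback.of_hasPullback N.hom f)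
    rw [hq'] at sq
    exact MorphismProperty.of_isPullback (IsPullback.of_right' sq (IsPullback.of_hasPullback N.hom j))
      (inferInstanceAs (GeometricallyIntegral ((SGA7.genFib R K).obj N).hom))
  haveI : IsIntegral (P'.obj G').left := GeometricallyIntegral.isIntegral_of_subsingleton (P'.obj G').hom
  haveI : IsIntegral (P'.obj N').left :=
    haveI : Nonempty (P'.obj N').left := ⟨(P'.map u).left (Classical.arbitrary _)⟩
    haveI : IsIso (inv (P'.map u)).left := inferInstanceAs (IsIso ((Over.forget _).map (inv (P'.map u))))
    isIntegral_of_isOpenImmersion (inv (P'.map u)).left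
  refine GrothLib.SplitRed1.isOpenImmersion_of_generic_iso K' u ?_
  intro s' v hv hvc
  let s := f s'
  letI : Algebra ((Spec (CommRingCat.of R)).residueField s) ((Spec (CommRingCat.of R')).residueField s') :=
    (f.residueFieldMap s').hom.toAlgebra
  letI : Algebra ((Spec (CommRingCat.of R)).residueField s) (AlgebraicClosure ((Spec (CommRingCat.of R')).residueField s')) :=
    ((algebraMap ((Spec (CommRingCat.of R')).residueField s') _).comp (f.residueFieldMap s').hom).toAlgebra
  let σ : AlgebraicClosure ((Spec (CommRingCat.of R)).residueField s) →ₐ[(Spec (CommRingCat.of R)).residueField s]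
      AlgebraicClosure ((Spec (CommRingCat.of R')).residueField s') := IsAlgClosed.lift
  let q := Spec.map (CommRingCat.ofHom σ.toRingHom)
  have hq : Red.geomPt s' ≫ f = q ≫ Red.geomPt s := by
    rw [Category.assoc, ← Scheme.Hom.SpecMap_residueFieldMap_fromSpecResidueField, ← Spec.map_comp_assoc,
      ← Spec.map_comp_assoc, ← CommRingCat.ofHom_comp]
    congr 2
    ext r
    exact (σ.commutes r).symm
  let e1 := GrothLib.DiagGrp.bcGrpComp N f (Red.geomPt s') (Red.geomPt s' ≫ f) rfl
  let e2 := GrothLib.DiagGrp.bcGrpComp N (Red.geomPt s) q (Red.geomPt s' ≫ f) hq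
  let e := e1.symm ≪≫ e2
  haveI : IsMonHom e.hom.hom.hom := e.hom.hom.isMonHom_hom
  haveI : IsIso e.hom.hom.hom := inferInstanceAs (IsIso ((Grp.forget _).mapIso e).hom)
  haveI : IsIso e.hom.hom.hom.left := inferInstanceAs (IsIso ((Over.forget _).map e.hom.hom.hom))
  let G := Red.geomFibre s N
  haveI : Smooth G.hom := MorphismProperty.pullback_snd N.hom _ hNs
  haveI : QuasiCompact G.hom := MorphismProperty.pullback_snd N.hom _ hNq
  haveI : IsCommMonObj G := Functor.isCommMonObj_obj
  haveI := hv
  haveI := hvc
  exact GrothLib.SplitRed1.noGa_bc G (hss s) q (v ≫ e.hom.hom.hom) inferInstance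
    (inferInstanceAs (IsClosedImmersion (v.left ≫ e.hom.hom.hom.left)))

end Groth.Agent.S4057
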