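import Groth.Prelude.Def_SGA7IX
import Groth.Agent.Lib.ProperFib19.Main
import Groth.Agent.Lib.RedSmooth.Basic
import Groth.Agent.Lib.ProperFib19.DVR

set_option autoImplicit false
universe u
open CategoryTheory CategoryTheory.Limits AlgebraicGeometry MonObj
open SGA7 MonoidalCategory

namespace Groth.Agent.S4058

/-- (iii) ⇒ (iv): let R be a discrete valuation ring with fraction field K and residue field k, and N a
group scheme over Spec R which is a Néron model of its generic fibre, an abelian variety over K. If
the special fibre N ×_R k is proper over k, then N is proper over Spec R. (In (iii) as published the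
special fibre is an abelian variety; connectedness of the special fibre is not assumed here.) -/
theorem result (R K : Type u) [CommRing R] [IsDomain R] [IsDiscreteValuationRing R] [Field K]
    [Algebra R K] [IsFractionRing R K]
    (N : Over (Spec (CommRingCat.of R))) [GrpObj N] (hN : SGA7.IsNeron R K N)
    [IsProper ((SGA7.genFib R K).obj N).hom] [GeometricallyIntegral ((SGA7.genFib R K).obj N).hom]
    [IsProper (Red.bc (Spec.map (CommRingCat.ofHom (IsLocalRing.residue R))) N).hom] :
    IsProper N.hom := by
  obtain ⟨hsm, hsep, hqc, -⟩ := hN
  let f : N.left ⟶ Spec (CommRingCat.of R) := N.hom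
  let iK := Spec.map (CommRingCat.ofHom (algebraMap R K))
  let ik := Spec.map (CommRingCat.ofHom (IsLocalRing.residue R))
  have hgi : GeometricallyIntegral (pullback.snd f iK) :=
    inferInstanceAs (GeometricallyIntegral ((SGA7.genFib R K).obj N).hom)
  have hpK : IsProper (pullback.snd f iK) :=
    inferInstanceAs (IsProper ((SGA7.genFib R K).obj N).hom)
  have hpk : IsProper (pullback.snd f ik) :=
    inferInstanceAs (IsProper (Red.bc ik N).hom)
  have : IsReduced N.left := GrothLib.RedSmooth.isReduced_of_smooth f
  have : IsIntegral (pullback f iK) := GeometricallyIntegral.isIntegral_of_subsingleton (pullback.snd f iK)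
  have hsec : Function.Surjective f.base := fun y => by
    refine ⟨(η[N] : 𝟙_ (Over (Spec (CommRingCat.of R))) ⟶ N).left.base y, ?_⟩
    rw [← Scheme.Hom.comp_apply, Over.w]
    rfl
  have : IrreducibleSpace ↥(GrothLib.ProperFib19.genFibre R K f) :=
    inferInstanceAs (IrreducibleSpace ↥(pullback f iK))
  have : IsIntegral N.left := GrothLib.ProperFib19.isIntegral_of_generic R K f f.isOpenMap
  have hY := GrothLib.ProperFib19.isNormalScheme_spec R
  refine GrothLib.ProperFib19.isProper_of_geometric_fibres f hY hsec (fun Ω _ _ y => ?_)
    (fun Ω _ _ y hy => ?_)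
  · obtain ⟨φ, rfl⟩ := Spec.map_surjective y
    by_cases hφ : Function.Injective φ.hom
    · let ψ : CommRingCat.of K ⟶ CommRingCat.of Ω := CommRingCat.ofHom (IsFractionRing.lift hφ)
      have e : Spec.map φ = Spec.map ψ ≫ iK := by
        rw [← Spec.map_comp]
        congr 1
        ext r
        exact (IsFractionRing.lift_algebraMap hφ r).symm
      rw [e]
      exact (MorphismProperty.cancel_left_of_respectsIso @IsProper
        (pullbackLeftPullbackSndIso f iK (Spec.map ψ)).hom _).1
          (by rw [pullbackLeftPullbackSndIso_hom_snd]; infer_instance)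
    · have hker : RingHom.ker φ.hom = IsLocalRing.maximalIdeal R := by
        have hp : (RingHom.ker φ.hom).IsPrime := RingHom.ker_isPrime _
        exact IsLocalRing.eq_maximalIdeal
          (hp.isMaximal (fun h => hφ ((RingHom.injective_iff_ker_eq_bot _).2 h)))
      let ψ : CommRingCat.of (IsLocalRing.ResidueField R) ⟶ CommRingCat.of Ω :=
        CommRingCat.ofHom (Ideal.Quotient.lift _ φ.hom (fun r hr => by rwa [← hker] at hr))
      have e : Spec.map φ = Spec.map ψ ≫ ik := by
        rw [← Spec.map_comp]
        congr 1
      rw [e]
      exact (MorphismProperty.cancel_left_of_respectsIso @IsProper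
        (pullbackLeftPullbackSndIso f ik (Spec.map ψ)).hom _).1
          (by rw [pullbackLeftPullbackSndIso_hom_snd]; infer_instance)
  · obtain ⟨φ, rfl⟩ := Spec.map_surjective y
    have hφ : Function.Injective φ.hom := by
      rw [injective_iff_map_eq_zero]
      intro r hr
      rw [genericPoint_eq_bot_of_affine] at hy
      have h1 : r ∈ ((Spec.map φ).base default : PrimeSpectrum R).asIdeal := by
        change φ.hom r ∈ (default : Spec (CommRingCat.of Ω)).asIdeal
        rw [show φ.hom r = 0 from hr]
        exact zero_mem _
      rw [hy] at h1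
      exact h1
    let ψ : CommRingCat.of K ⟶ CommRingCat.of Ω := CommRingCat.ofHom (IsFractionRing.lift hφ)
    have e : Spec.map φ = Spec.map ψ ≫ iK := by
      rw [← Spec.map_comp]
      congr 1
      ext r
      exact (IsFractionRing.lift_algebraMap hφ r).symm
    rw [e]
    have : GeometricallyIntegral (pullback.snd f iK) := hgi
    have : IsIntegral (pullback (pullback.snd f iK) (Spec.map ψ)) :=
      GeometricallyIntegral.geometrically_isIntegral _ _ _ (IsPullback.of_hasPullback _ _)
    have : IsIntegral (pullback f (Spec.map ψ ≫ iK)) :=
      IsIntegral.of_isIso (pullbackLeftPullbackSndIso f iK (Spec.map ψ)).hom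
    infer_instance

end Groth.Agent.S4058
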