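import Groth.Statements.S4059
import Groth.Agent.Lib.SplitRed1.MulFlat
import Groth.Agent.Lib.NeronSH24.Glue
-- import your own Groth.Agent.* helpers here

set_option autoImplicit false
set_option backward.isDefEq.respectTransparency false
set_option maxHeartbeats 1000000
universe u
open CategoryTheory CategoryTheory.Limits AlgebraicGeometry MonObj
open SGA7
open MonoidalCategory CartesianMonoidalCategory GrpObj

namespace Groth.Agent.S4059

/-- The four equivalent conditions, for a group scheme with the properties of the identity component of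
a Néron model: let R be a discrete valuation ring with fraction field K and G a smooth separated
group scheme of finite type over Spec R with connected fibres whose generic fibre is an abelian
variety over K (proper and geometrically integral); let m > 0 and write [m] : G -> G for the m-th
power morphism. The following are equivalent: (i) [m] is flat; (ii) [m] is surjective; (iii) [m] is
locally quasi-finite; (iv) m is invertible in the residue field of R, or the geometric special fibre
of G contains no copy of the additive group. -/
theorem result (R K : Type u) [CommRing R] [IsDomain R] [IsDiscreteValuationRing R] [Field K]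
    [Algebra R K] [IsFractionRing R K]
    (G : Over (Spec (CommRingCat.of R))) [GrpObj G] [Smooth G.hom] [IsSeparated G.hom] [QuasiCompact G.hom]
    (hconn : ∀ s : ↥(Spec (CommRingCat.of R)), ConnectedSpace ↥(Red.bc ((Spec (CommRingCat.of R)).fromSpecResidueField s) G).left)
    [IsProper ((SGA7.genFib R K).obj G).hom] [GeometricallyIntegral ((SGA7.genFib R K).obj G).hom]
    (m : ℕ) (hm : 0 < m) :
    [Flat ((𝟙 G : G ⟶ G) ^ m).left, Surjective ((𝟙 G : G ⟶ G) ^ m).left,
      LocallyQuasiFinite ((𝟙 G : G ⟶ G) ^ m).left,
      (m : IsLocalRing.ResidueField R) ≠ 0 ∨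
        SGA7.FibreUnipotentRankZero (IsLocalRing.closedPoint R) G].TFAE := by
  haveI : IsSeparated (G ⊗ G).hom := by
    rw [← Over.w (fst G G)]
    haveI : IsSeparated (fst G G).left := inferInstanceAs (IsSeparated (pullback.fst G.hom G.hom))
    infer_instance
  haveI : Smooth (G ⊗ G).hom := by
    rw [← Over.w (fst G G)]
    haveI : Smooth (fst G G).left := inferInstanceAs (Smooth (pullback.fst G.hom G.hom))
    infer_instance
  haveI hAc : IsCommMonObj ((SGA7.genFib R K).obj G) := GrothLib.Cube.isCommMonObj_abVar
  haveI : IsCommMonObj G := by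
    have e : fst G G * snd G G = snd G G * fst G G := by
      apply Over.OverMorphism.ext
      refine GrothLib.NeronSH24.ext_of_genericFibre R G.hom (G ⊗ G).hom _ _ (Over.w _) (Over.w _) ?_
      have hK : (SGA7.genFib R K).map (fst G G * snd G G) = (SGA7.genFib R K).map (snd G G * fst G G) := by
        rw [Functor.map_mul, Functor.map_mul, _root_.mul_comm]
      have h2 := congrArg (fun z => z.left ≫ pullback.fst G.hom _) hK
      simp only [Over.pullback_map_left, pullback.lift_fst] at h2
      let θ : Spec (CommRingCat.of (FractionRing R)) ⟶ Spec (CommRingCat.of K) :=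
        Spec.map (CommRingCat.ofHom (FractionRing.algEquiv R K).symm.toAlgHom.toRingHom)
      have hθ : θ ≫ Spec.map (CommRingCat.ofHom (algebraMap R K)) =
          Spec.map (CommRingCat.ofHom (algebraMap R (FractionRing R))) := by
        rw [← Spec.map_comp, ← CommRingCat.ofHom_comp]
        congr 2
        ext x
        exact (FractionRing.algEquiv R K).symm.commutes x
      have h3 := pullback.lift_fst (f := (G ⊗ G).hom) (g := Spec.map (CommRingCat.ofHom (algebraMap R K)))
        (pullback.fst (G ⊗ G).hom (Spec.map (CommRingCat.ofHom (algebraMap R (FractionRing R)))))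
        (pullback.snd (G ⊗ G).hom _ ≫ θ) (by rw [Category.assoc, hθ]; exact pullback.condition)
      rw [← h3]
      simp only [Category.assoc]
      exact congrArg _ h2
    constructor
    have h1 : fst G G * snd G G = μ[G] := by rw [Hom.mul_def, lift_fst_snd, Category.id_comp]
    have h2 : (β_ G G).hom ≫ μ[G] = snd G G * fst G G := by
      rw [← h1, MonObj.comp_mul]
      simp
    rw [h2, ← e, h1]
  let f : G ⟶ G := 𝟙 G ^ m
  haveI : IsMonHom f := GrothLib.GrpDeligne.isMonHom_pow (𝟙 G) m
  have hconn' : ∀ s, ConnectedSpace (Red.geomFibre s G).left := GrothLib.SplitRed1.connectedSpace_geomFibre G hconn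
  have hsm : ∀ s, Smooth (Red.geomFibre s G).hom := fun s => MorphismProperty.pullback_snd _ _ ‹Smooth G.hom›
  have hqc : ∀ s, QuasiCompact (Red.geomFibre s G).hom := fun s =>
    MorphismProperty.pullback_snd _ _ ‹QuasiCompact G.hom›
  have hcm : ∀ s, IsCommMonObj (Red.geomFibre s G) := fun s => Functor.isCommMonObj_obj
  have hN : SGA3x.neutralSet G = Set.univ := Set.eq_univ_of_forall fun g => by
    rw [GrothLib.Neutral.mem_neutralSet_iff]
    haveI := hconn (G.hom g)
    have hc : _root_.IsConnected (G.hom ⁻¹' {G.hom g}) := by
      rw [← G.hom.range_fiberι]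
      haveI : ConnectedSpace ↥(G.hom.fiber (G.hom g)) :=
        ‹ConnectedSpace ↥(Red.bc ((Spec (CommRingCat.of R)).fromSpecResidueField (G.hom g)) G).left›
      exact isConnected_range (G.hom.fiberι _).continuous
    exact hc.isPreconnected.subset_connectedComponentIn (GrothLib.Neutral.hom_unit G _) subset_rfl rfl
  tfae_have 1 → 2 := fun h => by
    haveI := h
    refine ⟨fun y => ?_⟩
    obtain ⟨x, -, hx⟩ := (GrothLib.Neutral.image_neutralSet_of_flat G G f).ge (hN.symm ▸ Set.mem_univ y)
    exact ⟨x, hx⟩
  tfae_have 2 → 1 := fun h => by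
    haveI := h
    refine GrothLib.Neutral.flat_of_image_neutralSet G G f (fun s => ?_) ?_
    · exact @GrothLib.Rigidity.isReduced_of_smooth _ _ _ (G.hom.fiberToSpecResidueField s)
        (MorphismProperty.pullback_snd _ _ ‹Smooth G.hom›)
    · rw [hN, Set.image_univ, f.left.surjective.range_eq]
  tfae_have 2 → 3 := fun h => by
    rw [GrothLib.SplitRed1.locallyQuasiFinite_iff_geomFibre]
    intro s
    haveI := hconn' s; haveI := hsm s; haveI := hqc s; haveI := hcm s
    haveI : IsMonHom ((𝟙 (Red.geomFibre s G) : _ ⟶ Red.geomFibre s G) ^ m) := GrothLib.GrpDeligne.isMonHom_pow _ m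
    exact GrothLib.SplitRed1.locallyQuasiFinite_of_surjective _
      ((GrothLib.SplitRed1.surjective_iff_geomFibre G m).1 h s)
  tfae_have 3 → 4 := fun h => or_iff_not_imp_left.2 fun h0 =>
    GrothLib.SplitRed1.unipotentRankZero_of_lqf G m h (not_not.1 h0) _ rfl
  tfae_have 4 → 2 := fun h =>
    GrothLib.SplitRed1.surjective_of_alt K G hconn' m hm.ne' fun s hs => by subst hs; exact h
  tfae_finish

end Groth.Agent.S4059
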