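import Groth.Statements.S4064
import Groth.Agent.Lib.ExtReal.Basic

set_option autoImplicit false
universe w v v'
open CategoryTheory CategoryTheory.Abelian
open SGA7

namespace Groth.Agent.S4064

open Abelian Limits

/-- Let P -> F -> R and R -> E -> Q be short exact sequences in an abelian category (F an extension of R
by P, E an extension of Q by R). A blended extension of E by F is an object X with a monomorphism i
: F -> X and an epimorphism p : X -> E such that P -> X -> E (via i) and F -> X -> Q (via p) are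
short exact and F -> X -> E is the composite F -> R -> E. Such an X exists if and only if the
composite of the two extension classes, an element of Ext^2(Q, P), is zero. -/
theorem result {C : Type w} [Category.{v} C] [Abelian C]
    [HasExt.{v'} C] {P F R E Q : C} (a : P ⟶ F) (b : F ⟶ R) (wF : a ≫ b = 0)
    (hF : (ShortComplex.mk a b wF).ShortExact) (c : R ⟶ E) (d : E ⟶ Q) (wE : c ≫ d = 0)
    (hE : (ShortComplex.mk c d wE).ShortExact) :
    (∃ (X : C) (i : F ⟶ X) (p : X ⟶ E), i ≫ p = b ≫ c ∧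
        (∃ w : (a ≫ i) ≫ p = 0, (ShortComplex.mk (a ≫ i) p w).ShortExact) ∧
        (∃ w : i ≫ (p ≫ d) = 0, (ShortComplex.mk i (p ≫ d) w).ShortExact)) ↔
      hE.extClass.comp hF.extClass (rfl : 1 + 1 = 2) = 0 := by
  haveI : Mono a := hF.mono_f
  haveI : Epi b := hF.epi_g
  haveI : Mono c := hE.mono_f
  haveI : Epi d := hE.epi_g
  constructor
  · rintro ⟨X, i, p, hip, ⟨w₁, h₁⟩, -⟩
    let φ : ShortComplex.mk a b wF ⟶ ShortComplex.mk (a ≫ i) p w₁ :=
      ShortComplex.homMk (𝟙 P) i c (Category.id_comp _) hip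
    have hn : hF.extClass.comp (Ext.mk₀ (𝟙 P)) (add_zero 1) = (Ext.mk₀ c).comp h₁.extClass (zero_add 1) :=
      ShortComplex.ShortExact.extClass_naturality hF h₁ φ
    rw [Ext.comp_mk₀_id] at hn
    rw [hn]
    exact hE.extClass_comp_assoc h₁.extClass
  · intro h0
    obtain ⟨ξ, hξ⟩ := Ext.contravariant_sequence_exact₁ hE P hF.extClass (rfl : 1 + 1 = 2) h0
    have hξ' : (Ext.mk₀ c).comp ξ (zero_add 1) = hF.extClass := hξ
    obtain ⟨X, j, p, wX, hX, hXξ⟩ := GrothLib.ExtReal.exists_shortExact ξ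
    haveI : Mono j := hX.mono_f
    haveI : Epi p := hX.epi_g
    have hbc : (Ext.mk₀ (b ≫ c)).comp hX.extClass (zero_add 1) = 0 := by
      rw [hXξ, ← Ext.mk₀_comp_mk₀_assoc, hξ']
      exact hF.comp_extClass
    obtain ⟨x, hx⟩ := Ext.covariant_sequence_exact₃ F hX (Ext.mk₀ (b ≫ c)) (zero_add 1) hbc
    obtain ⟨i₀, rfl⟩ : ∃ i₀, Ext.mk₀ i₀ = x := ⟨Ext.homEquiv₀ x, Ext.mk₀_homEquiv₀_apply x⟩
    have hx' : (Ext.mk₀ i₀).comp (Ext.mk₀ p) (zero_add 0) = Ext.mk₀ (b ≫ c) := hx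
    rw [Ext.mk₀_comp_mk₀] at hx'
    have hi₀ : i₀ ≫ p = b ≫ c := Ext.homEquiv₀.symm.injective hx'
    obtain ⟨g, hg⟩ : ∃ g : P ⟶ P, g ≫ j = a ≫ i₀ :=
      ⟨hX.exact.lift (a ≫ i₀) (by show (a ≫ i₀) ≫ p = 0; rw [Category.assoc, hi₀, ← Category.assoc, wF, zero_comp]),
        hX.exact.lift_f _ _⟩
    let φ : ShortComplex.mk a b wF ⟶ ShortComplex.mk j p wX := ShortComplex.homMk g i₀ c hg hi₀
    have hn : hF.extClass.comp (Ext.mk₀ g) (add_zero 1) = (Ext.mk₀ c).comp hX.extClass (zero_add 1) :=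
      ShortComplex.ShortExact.extClass_naturality hF hX φ
    rw [hXξ, hξ'] at hn
    have hd : hF.extClass.comp (Ext.mk₀ (g - 𝟙 P)) (add_zero 1) = 0 := by
      rw [sub_eq_add_neg, Ext.mk₀_add, Ext.comp_add, hn]
      conv_lhs => arg 2; rw [show Ext.mk₀ (-𝟙 P) = -Ext.mk₀ (𝟙 P) from map_neg Ext.addEquiv₀.symm _]
      rw [Ext.comp_neg, Ext.comp_mk₀_id, add_neg_cancel]
    obtain ⟨y, hy⟩ := Ext.contravariant_sequence_exact₁ hF P (Ext.mk₀ (g - 𝟙 P)) (add_zero 1) hd
    obtain ⟨h, rfl⟩ : ∃ h, Ext.mk₀ h = y := ⟨Ext.homEquiv₀ y, Ext.mk₀_homEquiv₀_apply y⟩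
    have hy' : (Ext.mk₀ a).comp (Ext.mk₀ h) (zero_add 0) = Ext.mk₀ (g - 𝟙 P) := hy
    rw [Ext.mk₀_comp_mk₀] at hy'
    have hh : a ≫ h = g - 𝟙 P := Ext.homEquiv₀.symm.injective hy'
    let i : F ⟶ X := i₀ - h ≫ j
    have hai : a ≫ i = j := by
      simp only [i, Preadditive.comp_sub, ← Category.assoc, hh, Preadditive.sub_comp, hg, Category.id_comp]
      abel
    have hip : i ≫ p = b ≫ c := by
      simp only [i, Preadditive.sub_comp, Category.assoc, wX, comp_zero, sub_zero, hi₀]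
    refine ⟨X, i, p, hip, ⟨by rw [hai]; exact wX, ?_⟩, ⟨by rw [← Category.assoc, hip, Category.assoc, wE, comp_zero], ?_⟩⟩
    · have e : ShortComplex.mk (a ≫ i) p (hai ▸ wX : (a ≫ i) ≫ p = 0) = ShortComplex.mk j p wX := by
        congr 1
      exact e ▸ hX
    · haveI : Mono i := Preadditive.mono_of_cancel_zero _ fun {U} t ht => by
        have hb : (t ≫ b) = 0 := by
          rw [← cancel_mono c, zero_comp, Category.assoc, ← hip, ← Category.assoc, ht, zero_comp]
        obtain ⟨s, hs⟩ : ∃ s, s ≫ a = t := ⟨hF.exact.lift t hb, hF.exact.lift_f _ _⟩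
        have : s = 0 := by rw [← cancel_mono j, zero_comp, ← hai, ← Category.assoc, hs, ht]
        rw [← hs, this, zero_comp]
      haveI : Epi (p ≫ d) := epi_comp _ _
      refine { exact := ?_, mono_f := inferInstanceAs (Mono i), epi_g := inferInstanceAs (Epi (p ≫ d)) }
      rw [ShortComplex.exact_iff_exact_up_to_refinements]
      intro U t ht
      obtain ⟨r, hr⟩ : ∃ r, r ≫ c = t ≫ p := ⟨hE.exact.lift (t ≫ p) (by
        show (t ≫ p) ≫ d = 0
        rw [Category.assoc]; exact ht), hE.exact.lift_f _ _⟩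
      obtain ⟨U', π, hπ, f, hf⟩ := surjective_up_to_refinements_of_epi b r
      have hk : (π ≫ t - f ≫ i) ≫ p = 0 := by
        calc (π ≫ t - f ≫ i) ≫ p = π ≫ (t ≫ p) - f ≫ (i ≫ p) := by
              simp only [Preadditive.sub_comp, Category.assoc]
          _ = π ≫ (r ≫ c) - f ≫ (b ≫ c) := congrArg₂ (fun x y => π ≫ x - f ≫ y) hr.symm hip
          _ = (π ≫ r) ≫ c - (f ≫ b) ≫ c := by simp only [Category.assoc]
          _ = 0 := (congrArg (fun x => x ≫ c - (f ≫ b) ≫ c) hf).trans (sub_self _)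
      obtain ⟨y, hy⟩ : ∃ y, y ≫ j = π ≫ t - f ≫ i :=
        ⟨hX.exact.lift (π ≫ t - f ≫ i) hk, hX.exact.lift_f _ _⟩
      refine ⟨U', π, hπ, f + y ≫ a, ?_⟩
      show π ≫ t = (f + y ≫ a) ≫ i
      simp only [Preadditive.add_comp, Category.assoc, hai, hy]
      abel

end Groth.Agent.S4064
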