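import Groth.Statements.S4070
import Groth.Agent.Lib.SplitRed1.IsogFibre
import Groth.Agent.Lib.GrpSchField.SepPoint
import Groth.Agent.Lib.AlgSp.HenselPoint
import Groth.Agent.Lib.EtLocal.HenselPart
import Groth.Agent.Lib.Chev28.ConnValuation
-- import your own Groth.Agent.* helpers here

set_option autoImplicit false
set_option backward.isDefEq.respectTransparency false
set_option maxHeartbeats 1000000
universe u
open CategoryTheory CategoryTheory.Limits AlgebraicGeometry MonObj
open MonoidalCategory
open SGA7

namespace Groth.Agent.S4070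

/-- Translation by a section. -/
noncomputable def tr {S : Scheme.{u}} {N : Over S} [GrpObj N] (g : 𝟙_ (Over S) ⟶ N) : N ≅ N where
  hom := 𝟙 N * (CartesianMonoidalCategory.toUnit N ≫ g)
  inv := 𝟙 N * (CartesianMonoidalCategory.toUnit N ≫ g⁻¹)
  hom_inv_id := by
    rw [MonObj.comp_mul, Category.comp_id, _root_.mul_assoc, ← Category.assoc, CartesianMonoidalCategory.comp_toUnit, ← MonObj.comp_mul, mul_inv_cancel,
      MonObj.comp_one, _root_.mul_one]
  inv_hom_id := by
    rw [MonObj.comp_mul, Category.comp_id, _root_.mul_assoc, ← Category.assoc, CartesianMonoidalCategory.comp_toUnit, ← MonObj.comp_mul, inv_mul_cancel,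
      MonObj.comp_one, _root_.mul_one]

theorem comp_tr {S : Scheme.{u}} {N : Over S} [GrpObj N] (y g : 𝟙_ (Over S) ⟶ N) : y ≫ (tr g).hom = y * g := by
  show y ≫ (𝟙 N * (CartesianMonoidalCategory.toUnit N ≫ g)) = y * g
  rw [MonObj.comp_mul, Category.comp_id, ← Category.assoc, CartesianMonoidalCategory.toUnit_unique (y ≫ _) (𝟙 _), Category.id_comp]

/-- Let R be a strictly henselian discrete valuation ring (henselian, separably closed residue field)
with fraction field K and N a group scheme over Spec R which is a Néron model of its generic fibre,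
an abelian variety A over K, so that sections of N over Spec R are the K-points of A. Then the
special fibre of N has finitely many connected components, every one of them is met by a section,
and two sections x, y meet the same connected component if and only if x · y⁻¹ meets the connected
component of the unit section: the component group of the special fibre is A(K) modulo the subgroup
of points reducing into the identity component. -/
theorem result (R K : Type u) [CommRing R] [IsDomain R] [IsDiscreteValuationRing R] [HenselianLocalRing R]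
    [IsSepClosed (IsLocalRing.ResidueField R)] [Field K] [Algebra R K] [IsFractionRing R K]
    (N : Over (Spec (CommRingCat.of R))) [GrpObj N] (hN : SGA7.IsNeron R K N)
    [IsProper ((SGA7.genFib R K).obj N).hom] [GeometricallyIntegral ((SGA7.genFib R K).obj N).hom] :
    (Set.range (SGA7.secComp R N)).Finite ∧
    (∀ z ∈ SGA7.specialFibreSet R N, ∃ x : 𝟙_ (Over (Spec (CommRingCat.of R))) ⟶ N, z ∈ SGA7.secComp R N x) ∧
      ∀ x y : 𝟙_ (Over (Spec (CommRingCat.of R))) ⟶ N,
        SGA7.secComp R N x = SGA7.secComp R N y ↔ x * y⁻¹ ∈ SGA7.secUnitComp R N := by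
  obtain ⟨hs, hsep, hq, -⟩ := hN
  haveI := hs; haveI := hsep; haveI := hq
  let F : Set N.left := SGA7.specialFibreSet R N
  let cpt : Spec (CommRingCat.of R) := IsLocalRing.closedPoint R
  haveI : IsLocallyNoetherian N.left := LocallyOfFiniteType.isLocallyNoetherian N.hom
  haveI : CompactSpace N.left := QuasiCompact.compactSpace_of_compactSpace N.hom
  haveI : IsNoetherian N.left := ⟨⟩
  haveI : TopologicalSpace.NoetherianSpace ↥F := inferInstance
  haveI : Finite (_root_.ConnectedComponents ↥F) := GrothLib.Chev28.finite_connectedComponents ↥F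
  have hsec : ∀ w : 𝟙_ (Over (Spec (CommRingCat.of R))) ⟶ N, w.left cpt ∈ F := fun w => by
    show N.hom (w.left cpt) ∈ ({cpt} : Set _)
    rw [← Scheme.Hom.comp_apply, Over.w w]
    rfl
  refine ⟨?_, ?_, ?_⟩
  · refine (Set.finite_range fun C : _root_.ConnectedComponents ↥F =>
      (Subtype.val '' (_root_.ConnectedComponents.mk ⁻¹' {C}) : Set N.left)).subset ?_
    rintro _ ⟨x, rfl⟩
    refine ⟨ConnectedComponents.mk ⟨_, hsec x⟩, ?_⟩
    show Subtype.val '' (ConnectedComponents.mk ⁻¹' {ConnectedComponents.mk (⟨_, hsec x⟩ : F)}) = connectedComponentIn F (x.left cpt)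
    rw [connectedComponentIn_eq_image (hsec x), connectedComponents_preimage_singleton]
  · intro z hz
    let cl := Spec.map (CommRingCat.ofHom (IsLocalRing.residue R))
    let pr := pullback.fst N.hom cl
    have hpr : ∀ a, pr a ∈ F := fun a => by
      show N.hom (pr a) ∈ ({cpt} : Set _)
      rw [← Scheme.Hom.comp_apply, pullback.condition, Scheme.Hom.comp_apply,
        Subsingleton.elim (α := PrimeSpectrum (IsLocalRing.ResidueField R)) (pullback.snd N.hom cl a)
          (IsLocalRing.closedPoint (IsLocalRing.ResidueField R))]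
      exact GrothLib.EtLocal.comap_closedPoint_residue
    have hopen : IsOpen (connectedComponent (⟨z, hz⟩ : F)) := by
      rw [← connectedComponents_preimage_singleton]
      haveI : T1Space (_root_.ConnectedComponents ↥F) := TotallyDisconnectedSpace.t1Space
      exact (isOpen_discrete _).preimage _root_.ConnectedComponents.continuous_coe
    let V : (pullback N.hom cl).Opens := ⟨(fun a => (⟨pr a, hpr a⟩ : F)) ⁻¹' connectedComponent (⟨z, hz⟩ : F),
      hopen.preimage (pr.continuous.subtype_mk hpr)⟩
    obtain ⟨z', hz', -⟩ := Scheme.Pullback.exists_preimage_pullback (f := N.hom) (g := cl) z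
      (IsLocalRing.closedPoint (IsLocalRing.ResidueField R))
      ((show N.hom z = cpt from hz).trans GrothLib.EtLocal.comap_closedPoint_residue.symm)
    haveI : Nonempty (V : Scheme.{u}) := ⟨⟨z', by
      show (⟨pr z', hpr z'⟩ : F) ∈ connectedComponent (⟨z, hz⟩ : F)
      rw [show (⟨pr z', hpr z'⟩ : F) = ⟨z, hz⟩ from Subtype.ext hz']
      exact mem_connectedComponent⟩⟩
    haveI : Smooth (pullback.snd N.hom cl) := MorphismProperty.pullback_snd _ _ hs
    obtain ⟨s, hs'⟩ := GrothLib.GrpSchField.exists_section_of_smooth (V.ι ≫ pullback.snd N.hom cl)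
    obtain ⟨σ, hσ, hσ'⟩ := GrothLib.AlgSp.exists_section_extending_quotient
      (a := IsLocalRing.maximalIdeal R) (IsLocalRing.maximalIdeal.isMaximal R).ne_top N.hom (s ≫ V.ι ≫ pr) (by
        simp only [Category.assoc, pr, pullback.condition]
        rw [← Category.assoc V.ι, ← Category.assoc s]
        erw [hs']
        exact Category.id_comp _)
    let x : 𝟙_ (Over (Spec (CommRingCat.of R))) ⟶ N := Over.homMk σ hσ
    refine ⟨x, ?_⟩
    let p0 := IsLocalRing.closedPoint (IsLocalRing.ResidueField R)
    have hx : x.left cpt = pr (V.ι (s p0)) := by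
      show σ cpt = _
      rw [← Scheme.Hom.comp_apply, ← Scheme.Hom.comp_apply]
      have h := congrArg (fun m : Spec (CommRingCat.of (IsLocalRing.ResidueField R)) ⟶ N.left => m p0) hσ'
      simp only [Scheme.Hom.comp_apply] at h ⊢
      refine Eq.trans ?_ h
      exact congrArg σ GrothLib.EtLocal.comap_closedPoint_residue.symm
    show z ∈ connectedComponentIn F (x.left cpt)
    have hm : (⟨pr (V.ι (s p0)), hpr _⟩ : F) ∈ connectedComponent (⟨z, hz⟩ : F) := (s p0).2
    rw [connectedComponentIn_eq_image (hsec x)]
    refine ⟨⟨z, hz⟩, ?_, rfl⟩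
    rw [show (⟨x.left cpt, hsec x⟩ : F) = ⟨pr (V.ι (s p0)), hpr _⟩ from Subtype.ext hx, ← connectedComponent_eq hm]
    exact mem_connectedComponent
  · intro x y
    let T := Scheme.Hom.homeomorph ((Over.forget _).mapIso (tr y⁻¹)).hom
    have hT : ∀ w : 𝟙_ (Over (Spec (CommRingCat.of R))) ⟶ N, T (w.left cpt) = (w * y⁻¹).left cpt := fun w => by
      rw [← comp_tr, Over.comp_left, Scheme.Hom.comp_apply]
      rfl
    have hTF : T '' F = F := by
      refine Set.ext fun a => ⟨?_, fun ha => ⟨T.symm a, ?_, T.apply_symm_apply a⟩⟩
      · rintro ⟨b, hb, rfl⟩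
        show N.hom ((tr y⁻¹).hom.left b) ∈ ({cpt} : Set _)
        rw [← Scheme.Hom.comp_apply, Over.w]
        exact hb
      · have h1 : N.hom (T (T.symm a)) = N.hom (T.symm a) := by
          show N.hom ((tr y⁻¹).hom.left (T.symm a)) = _
          rw [← Scheme.Hom.comp_apply, Over.w]
        rw [T.apply_symm_apply] at h1
        show N.hom (T.symm a) ∈ ({cpt} : Set _)
        rw [← h1]
        exact ha
    have himg := T.image_connectedComponentIn (hsec y)
    rw [hTF, hT, mul_inv_cancel] at himg
    show connectedComponentIn F (x.left cpt) = connectedComponentIn F (y.left cpt) ↔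
      (x * y⁻¹).left cpt ∈ connectedComponentIn F (η[N].left cpt)
    have hone : (1 : 𝟙_ (Over (Spec (CommRingCat.of R))) ⟶ N) = η[N] := by
      rw [Hom.one_def, CartesianMonoidalCategory.toUnit_unit, Category.id_comp]
    rw [hone] at himg
    rw [← himg, ← hT x, T.injective.mem_set_image]
    exact ⟨fun h => h ▸ mem_connectedComponentIn (hsec x), fun h => (connectedComponentIn_eq h).symm⟩

end Groth.Agent.S4070
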