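import Groth.Statements.S4071
import Groth.Agent.Lib.SplitRed1.IsogFibre
import Groth.Agent.Lib.AbMul.EtalePow
import Groth.Agent.Lib.Neutral.HomImage
import Groth.Agent.Lib.EtLocal.HenselPart
import Groth.Agent.Lib.ProEtS.GeomPoint
-- import your own Groth.Agent.* helpers here

set_option autoImplicit false
set_option backward.isDefEq.respectTransparency false
set_option maxHeartbeats 1000000
universe u
open CategoryTheory CategoryTheory.Limits AlgebraicGeometry MonObj
open MonoidalCategory
open SGA7

namespace Groth.Agent.S4071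

theorem residue_bijective {R : Type u} [CommRing R] [IsLocalRing R] [IsSepClosed (IsLocalRing.ResidueField R)]
    {U : Scheme.{u}} (g : U ⟶ Spec (CommRingCat.of R)) [Etale g] (w : U) (hw : g w = IsLocalRing.closedPoint R) :
    Function.Bijective (g.residueFieldMap w) := by
  let cl := Spec.map (CommRingCat.ofHom (IsLocalRing.residue R))
  haveI : IsClosedImmersion cl := IsClosedImmersion.spec_of_surjective _ IsLocalRing.residue_surjective
  let p := pullback.snd g cl
  haveI : Etale p := MorphismProperty.pullback_snd g cl ‹Etale g›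
  obtain ⟨z, hz, -⟩ := Scheme.Pullback.exists_preimage_pullback (f := g) (g := cl) w
    (IsLocalRing.closedPoint (IsLocalRing.ResidueField R))
    (hw.trans (GrothLib.EtLocal.comap_closedPoint_residue).symm)
  obtain ⟨φ, hφ⟩ := Spec.map_surjective ((pullback g cl).fromSpecStalk z ≫ p)
  letI := φ.hom.toAlgebra
  haveI : Algebra.WeaklyEtale (IsLocalRing.ResidueField R) ((pullback g cl).presheaf.stalk z) :=
    (GrothLib.WeakEtale.weaklyEtale_specMap_iff φ).1 (hφ ▸ inferInstance)
  have hb := GrothLib.ProEtS.bijective_algebraMap_of_weaklyEtale (k := IsLocalRing.ResidueField R)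
    (L := (pullback g cl).presheaf.stalk z)
  haveI : IsIso φ := (ConcreteCategory.isIso_iff_bijective φ).2 hb
  let s := Spec.map (inv φ) ≫ (pullback g cl).fromSpecStalk z ≫ pullback.fst g cl
  have hs : s ≫ g = cl := by
    simp only [s, Category.assoc, pullback.condition]
    rw [← Category.assoc _ (pullback.snd g cl) cl]
    erw [← hφ]
    rw [← Category.assoc, ← Spec.map_comp, IsIso.hom_inv_id, Spec.map_id, Category.id_comp]
  have hpt : s (IsLocalRing.closedPoint (IsLocalRing.ResidueField R)) = w := by
    have h1 : Spec.map (inv φ) (IsLocalRing.closedPoint (IsLocalRing.ResidueField R)) =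
        IsLocalRing.closedPoint ((pullback g cl).presheaf.stalk z) := by
      apply (Spec.map φ).homeomorph.injective
      exact Subsingleton.elim (α := PrimeSpectrum (IsLocalRing.ResidueField R)) _ _
    show ((Spec.map (inv φ) ≫ (pullback g cl).fromSpecStalk z ≫ pullback.fst g cl) _) = w
    rw [Scheme.Hom.comp_apply, Scheme.Hom.comp_apply, h1, Scheme.fromSpecStalk_closedPoint, hz]
  have key : Function.Surjective ((s ≫ g).residueFieldMap (IsLocalRing.closedPoint (IsLocalRing.ResidueField R))) := by
    haveI : IsClosedImmersion (s ≫ g) := by rw [hs]; infer_instance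
    intro c
    obtain ⟨c', rfl⟩ := IsLocalRing.residue_surjective c
    obtain ⟨d, rfl⟩ := (s ≫ g).stalkMap_surjective _ c'
    refine ⟨(Spec (CommRingCat.of R)).residue _ d, ?_⟩
    have h := ConcreteCategory.congr_hom (Scheme.residue_residueFieldMap (s ≫ g) (IsLocalRing.closedPoint (IsLocalRing.ResidueField R))) d
    simp only [CommRingCat.comp_apply] at h
    exact h
  rw [Scheme.residueFieldMap_comp] at key
  refine ⟨RingHom.injective (g.residueFieldMap w).hom, ?_⟩
  subst hpt
  intro c
  obtain ⟨d, hd⟩ := key (s.residueFieldMap _ c)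
  exact ⟨d, RingHom.injective (s.residueFieldMap _).hom hd⟩

/-- Let R be a strictly henselian discrete valuation ring with fraction field K, N a group scheme over
Spec R which is a Néron model of its generic fibre, an abelian variety A over K, and n an integer
invertible in the residue field of R. If x is a section of N (a K-point of A) whose n-th power meets
the connected component of the unit section in the special fibre, then there is a section y with y^n
= 1 such that x · y⁻¹ meets the connected component of the unit section: the n-torsion of the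
component group is the image of the n-torsion of A(K). -/
theorem result (R K : Type u) [CommRing R] [IsDomain R] [IsDiscreteValuationRing R] [HenselianLocalRing R]
    [IsSepClosed (IsLocalRing.ResidueField R)] [Field K] [Algebra R K] [IsFractionRing R K]
    (N : Over (Spec (CommRingCat.of R))) [GrpObj N] (hN : SGA7.IsNeron R K N)
    [IsProper ((SGA7.genFib R K).obj N).hom] [GeometricallyIntegral ((SGA7.genFib R K).obj N).hom]
    (n : ℕ) (hn : (n : IsLocalRing.ResidueField R) ≠ 0)
    (x : 𝟙_ (Over (Spec (CommRingCat.of R))) ⟶ N) (hx : x ^ n ∈ SGA7.secUnitComp R N) :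
    ∃ y : 𝟙_ (Over (Spec (CommRingCat.of R))) ⟶ N, y ^ n = 1 ∧ x * y⁻¹ ∈ SGA7.secUnitComp R N := by
  obtain ⟨hs, hsep, hq, -⟩ := hN
  haveI := hs; haveI := hsep; haveI := hq
  haveI : IsCommMonObj ((SGA7.genFib R K).obj N) := GrothLib.Cube.isCommMonObj_abVar
  haveI := GrothLib.SplitRed1.isCommMonObj_of_genFib K N
  let f : N ⟶ N := 𝟙 N ^ n
  haveI : IsMonHom f := GrothLib.GrpDeligne.isMonHom_pow (𝟙 N) n
  have hu' : IsUnit (((n : ℤ)) : Γ(Spec (CommRingCat.of R), ⊤)) := by
    have hu : IsUnit (n : R) := by
      rw [← IsLocalRing.notMem_maximalIdeal, ← IsLocalRing.residue_eq_zero_iff, map_natCast]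
      exact hn
    have := hu.map (Scheme.ΓSpecIso (CommRingCat.of R)).inv.hom
    rw [map_natCast] at this
    exact_mod_cast this
  haveI : Etale f.left := by
    rw [show f = 𝟙 N ^ (n : ℤ) from (zpow_natCast _ _).symm]
    exact GrothLib.AbMul.etale_pow_relative N (n : ℤ) hu'
  let cpt : Spec (CommRingCat.of R) := IsLocalRing.closedPoint R
  let x' : 𝟙_ (Over (Spec (CommRingCat.of R))) ⟶ N := x ^ n
  let y0 := x'.left cpt
  have hsec : ∀ (w : 𝟙_ (Over (Spec (CommRingCat.of R))) ⟶ N), N.hom (w.left cpt) = cpt := fun w => by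
    rw [← Scheme.Hom.comp_apply, Over.w w]
    rfl
  have hy0 : y0 ∈ SGA3x.neutralSet N := by
    rw [GrothLib.Neutral.mem_neutralSet_iff, hsec]
    exact hx
  obtain ⟨a, ha, hfa⟩ := (GrothLib.Neutral.image_neutralSet_of_flat N N f).ge hy0
  have ha0 : N.hom a = cpt := by
    rw [← hsec x', show x'.left cpt = f.left a from hfa.symm, ← Scheme.Hom.comp_apply, Over.w f]
  let g := pullback.snd f.left x'.left
  haveI : Etale g := MorphismProperty.pullback_snd f.left x'.left ‹Etale f.left›
  obtain ⟨w, hw1, hw2⟩ := Scheme.Pullback.exists_preimage_pullback (f := f.left) (g := x'.left) a cpt hfa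
  obtain ⟨σ, hσ, hσw⟩ := GrothLib.EtLocal.exists_section_of_etaleNbhd g w ⟨‹Etale g›, hw2, residue_bijective g w hw2⟩
  let y' : 𝟙_ (Over (Spec (CommRingCat.of R))) ⟶ N := Over.homMk (σ ≫ pullback.fst f.left x'.left) (by
    rw [← Over.w f, Category.assoc, pullback.condition_assoc, ← Category.assoc]
    erw [hσ]
    erw [Category.id_comp]
    exact Over.w x')
  have hy' : y' ^ n = x' := by
    rw [show y' ^ n = y' ≫ f by rw [MonObj.comp_pow, Category.comp_id]]
    apply Over.OverMorphism.ext
    show (σ ≫ pullback.fst f.left x'.left) ≫ f.left = x'.left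
    rw [Category.assoc, pullback.condition, ← Category.assoc]
    erw [hσ]
    exact Category.id_comp _
  have hxy : (x * y'⁻¹) ^ n = 1 := by
    rw [mul_pow, inv_pow, hy', mul_inv_cancel]
  refine ⟨x * y'⁻¹, hxy, ?_⟩
  rw [mul_inv_rev, inv_inv, mul_comm y' x⁻¹, mul_inv_cancel_left]
  show y'.left.base cpt ∈ connectedComponentIn _ _
  have he : y'.left.base cpt = a := by
    show (pullback.fst f.left x'.left) (σ cpt) = a
    erw [hσw, hw1]
  rw [he]
  rw [GrothLib.Neutral.mem_neutralSet_iff, ha0] at ha
  exact ha

end Groth.Agent.S4071
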