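import Groth.Statements.S4088
import Groth.Agent.Lib.QSecGen13.Proper
import Groth.Agent.Lib.QSecGen13.UQGlue
import Groth.Agent.Lib.GrpdQuot.QuotCriteria
import Groth.Agent.Lib.Ample.ProjSpace
import Groth.Agent.Lib.Chow.Prod
-- import your own Groth.Agent.* helpers here

set_option autoImplicit false
universe u
open CategoryTheory MonoidalCategory CartesianMonoidalCategory MonObj GrpObj AlgebraicGeometry CategoryTheory.Limits
open GrpQ

namespace Groth.Agent.S4088

open GrothLib GrothLib.QSecGen13 GrothLib.GrpdQuot
set_option backward.isDefEq.respectTransparency false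


/-- With the object scheme assumed to admit an S-immersion into some P^n_S (a special case of
quasi-projective): let S be locally noetherian and (U, R, s, t, c) a groupoid scheme over S such
that s is proper and flat, U admits an immersion e into P^n_S over S, and j = (t, s) : R → U ×_S U
is quasi-finite (locally quasi-finite and locally of finite type). Then (t, s) has a coequalizer p :
U → Y in schemes together with q : Y → S through which U → S factors; p is surjective, open, proper
and of finite presentation, q is separated and of finite presentation; R → U ×_Y U is surjective;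
and if j is a monomorphism then R ≅ U ×_Y U and p is flat. -/
theorem result (S : Scheme.{u}) [IsLocallyNoetherian S] (G : Grpd.GroupoidScheme S)
    [IsProper G.s] [Flat G.s] (n : ℕ) (e : G.U ⟶ CohB1.ProjSpaceOver n S) [IsImmersion e]
    (he : e ≫ CohB1.ProjSpaceOver.toBase n S = G.pU) [LocallyQuasiFinite G.j] [LocallyOfFiniteType G.j] :
    ∃ (Y : Scheme.{u}) (p : G.U ⟶ Y) (w : G.t ≫ p = G.s ≫ p) (q : Y ⟶ S),
      Nonempty (IsColimit (Cofork.ofπ p w)) ∧ p ≫ q = G.pU ∧ Surjective p ∧ IsOpenMap p.base ∧ IsProper p ∧
      LocallyOfFinitePresentation p ∧ IsSeparated q ∧ LocallyOfFinitePresentation q ∧ QuasiCompact q ∧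
      Function.Surjective (pullback.lift G.t G.s w).base ∧
      (Mono G.j → IsPullback G.t G.s p p ∧ Flat p) := by
  haveI := Chow.isProper_toBase n S
  haveI : IsLocallyNoetherian (CohB1.ProjSpaceOver n S) :=
    LocallyOfFiniteType.isLocallyNoetherian (CohB1.ProjSpaceOver.toBase n S)
  haveI : IsSeparated G.pU := by rw [← he]; infer_instance
  haveI : LocallyOfFiniteType G.pU := by rw [← he]; infer_instance
  haveI : QuasiCompact e := by rw [← e.liftCoborder_ι]; infer_instance
  haveI : QuasiCompact G.pU := by rw [← he]; infer_instance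
  haveI : IsLocallyNoetherian G.U := LocallyOfFiniteType.isLocallyNoetherian G.pU
  haveI : LocallyOfFinitePresentation G.s := LocProp.locallyOfFinitePresentation_of_isLocallyNoetherian G.s
  haveI := flat_t G
  have hqp : RelProj.IsQuasiProjective G.pU := Ample.isQuasiProjective_of_isImmersion G.pU e he
  have hnhd : ∀ x : G.U, ∃ W : G.U.Opens, x ∈ W ∧ Nonempty (QSData G W) := fun x => by
    let s := G.pU x
    haveI : QuasiCompact (pullback.snd G.pU (S.fromSpecResidueField s)) := MorphismProperty.pullback_snd _ _ ‹_›
    haveI : CompactSpace (G.pU.fiber s) :=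
      QuasiCompact.compactSpace_of_compactSpace (pullback.snd G.pU (S.fromSpecResidueField s))
    obtain ⟨w, hw, hwc⟩ := (isClosed_closure (s := ({G.pU.asFiber x} : Set (G.pU.fiber s)))).exists_closed_singleton
      (Set.singleton_nonempty _).closure
    obtain ⟨W, hzW, hD⟩ := exists_qsData_of_proper G hqp (G.pU.fiberι s w) (fun z' hz' hp => by
      obtain ⟨w', rfl⟩ := (G.pU.range_fiberι s).ge
        (show z' ∈ G.pU ⁻¹' {s} from hp.trans (DimCut.apply_fiberι G.pU s w))
      rw [(G.pU.fiberι s).isEmbedding.isInducing.specializes_iff] at hz'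
      exact congrArg _ (hz'.mem_closed hwc rfl))
    refine ⟨W, ?_, hD⟩
    have h1 : G.pU.asFiber x ⤳ w := specializes_iff_mem_closure.2 hw
    have h2 : x ⤳ G.pU.fiberι s w := G.pU.fiberι_asFiber x ▸ h1.map (G.pU.fiberι s).continuous
    exact h2.mem_open W.2 hzW
  choose W hxW D using hnhd
  let D := fun x => (D x).some
  have hsec := fun x => (D x).exists_isQuasiSection
  choose u hu himm hqs using hsec
  haveI := hu
  haveI := himm
  have hfl : ∀ x, Flat (restrict G (W x) (D x).invariant).s := fun x => inferInstanceAs (Flat (G.s ∣_ W x))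
  have hpr : ∀ x, IsProper (restrict G (W x) (D x).invariant).s := fun x =>
    IsZariskiLocalAtTarget.restrict ‹IsProper G.s› (W x)
  have hlf : ∀ x, LocallyOfFinitePresentation (restrict G (W x) (D x).invariant).s := fun x =>
    inferInstanceAs (LocallyOfFinitePresentation (G.s ∣_ W x))
  have htfl : ∀ x, Flat (restrict G (W x) (D x).invariant).t := fun x =>
    haveI := hfl x
    flat_t _
  have hopen : ∀ x, IsOpenMap (qsProj (hqs x)) := fun x => by
    haveI := hfl x; haveI := hlf x; haveI := htfl x
    haveI := locallyOfFinitePresentation_t (restrict G (W x) (D x).invariant)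
    exact isOpenMap_qsProj (hqs x) (isOpenMap_snd (restrict G (W x) (D x).invariant).t.isOpenMap)
  let Q : ∀ x, UQ G (W x) := fun x => uqOfQuasiSection (W x) (D x).invariant (hqs x) (hopen x)
  have hcov : GCovers Q := fun x => ⟨x, hxW x⟩
  obtain ⟨q, hq⟩ := exists_gπ_desc hcov G.pU (G.t_over.trans G.s_over.symm)
  haveI := gπ_surjective hcov
  haveI : UniversallyClosed (gπ hcov) := prop_gπ hcov @UniversallyClosed fun x => by
    haveI := hpr x
    haveI := isIso_i (restrict G (W x) (D x).invariant)
    haveI : UniversallyClosed (restrict G (W x) (D x).invariant).t := by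
      rw [← (restrict G (W x) (D x).invariant).i_s]; infer_instance
    exact universallyClosed_qsProj (hqs x)
  haveI : LocallyOfFiniteType q := prop_gQuot_hom hcov @LocallyOfFiniteType q fun x => by
    let r := (Scheme.topIso (Q x).Y).inv ≫ gChart Q (gTop Q x) ≫ q
    have e : qsπ (hqs x) ≫ r = u x ≫ (W x).ι ≫ G.pU := by
      rw [← hq, ← Category.assoc (W x).ι, gTop_inc_gπ hcov x, ← u_qsProj (hqs x)]
      simp only [r, Category.assoc]
      rfl
    haveI : LocallyOfFiniteType (qsπ (hqs x) ≫ r) := by
      rw [e]
      haveI : LocallyOfFiniteType (u x) := inferInstance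
      haveI : LocallyOfFiniteType ((W x).ι ≫ G.pU) := inferInstance
      exact MorphismProperty.comp_mem _ _ _ ‹LocallyOfFiniteType (u x)› ‹_›
    have h : LocallyOfFiniteType r := locallyOfFiniteType_qsQuot _ (hqs x) r
    exact (MorphismProperty.cancel_left_of_respectsIso @LocallyOfFiniteType (Scheme.topIso (Q x).Y).inv _).1 h
  haveI : IsLocallyNoetherian (gQuot Q) := LocallyOfFiniteType.isLocallyNoetherian q
  haveI : QuasiCompact (gπ hcov ≫ q) := hq.symm ▸ inferInstance
  haveI : LocallyOfFiniteType (gπ hcov ≫ q) := hq.symm ▸ inferInstance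
  haveI : IsSeparated (gπ hcov ≫ q) := hq.symm ▸ inferInstance
  haveI : QuasiCompact q := quasiCompact_of_comp_surjective (gπ hcov) q
  haveI : IsSeparated q := isSeparated_of_comp_surjective (gπ hcov) q
  haveI : LocallyOfFiniteType (gπ hcov) := locallyOfFiniteType_of_comp _ q
  haveI : IsSeparated (gπ hcov) := IsSeparated.of_comp (gπ hcov) q
  haveI : IsProper (gπ hcov) := {}
  refine ⟨gQuot Q, gπ hcov, gπ_condition hcov, q, ⟨isColimit_gπ hcov⟩, hq, inferInstance, isOpenMap_gπ hcov,
    inferInstance, LocProp.locallyOfFinitePresentation_of_isLocallyNoetherian _, inferInstance,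
    LocProp.locallyOfFinitePresentation_of_isLocallyNoetherian q, inferInstance, surjective_gπ_lift hcov, fun hm => ?_⟩
  haveI := hm
  refine ⟨isPullback_gπ hcov, prop_gπ hcov @Flat fun x => ?_⟩
  haveI := htfl x
  haveI : Mono (restrict G (W x) (D x).invariant).j := mono_restrict_j G (W x) (D x).invariant
  exact flat_qsProj (hqs x)

end Groth.Agent.S4088
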