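import Groth.Statements.S4089
import Groth.Agent.Lib.QSecGen13.Generic
import Groth.Agent.Lib.QSecGen13.LftQuot
import Groth.Agent.Lib.GrpdQuot.QuotCriteria
-- import your own Groth.Agent.* helpers here

set_option autoImplicit false
universe u
open CategoryTheory MonoidalCategory CartesianMonoidalCategory MonObj GrpObj AlgebraicGeometry CategoryTheory.Limits
open GrpQ

namespace Groth.Agent.S4089

open GrothLib GrothLib.QSecGen13 GrothLib.GrpdQuot


/-- Let S be noetherian and (U, R, s, t, c) a groupoid scheme over S with s flat and of finite type, U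
of finite type over S, and j = (t, s) quasi-finite. Then there is a dense open W of U which is
saturated (t⁻¹(W) = s⁻¹(W)) such that the induced pair t|, s| : s⁻¹(W) ⇉ W has a coequalizer p : W →
V in schemes with V → S of finite presentation; p is surjective, open and of finite presentation;
s⁻¹(W) → W ×_V W is surjective; and if j is a monomorphism, s⁻¹(W) ≅ W ×_V W and p is faithfully
flat. -/
theorem result (S : Scheme.{u}) [IsNoetherian S] (G : Grpd.GroupoidScheme S)
    [Flat G.s] [LocallyOfFiniteType G.s] [QuasiCompact G.s] [LocallyOfFiniteType G.pU] [QuasiCompact G.pU]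
    [LocallyQuasiFinite G.j] [LocallyOfFiniteType G.j] :
    ∃ (W : G.U.Opens) (hW : G.t ⁻¹ᵁ W = G.s ⁻¹ᵁ W), Dense (W : Set G.U) ∧
      ∃ (V : Scheme.{u}) (p : (W : Scheme.{u}) ⟶ V)
        (w : G.t.resLE W (G.s ⁻¹ᵁ W) hW.ge ≫ p = (G.s ∣_ W) ≫ p) (q : V ⟶ S),
        Nonempty (IsColimit (Cofork.ofπ p w)) ∧ p ≫ q = W.ι ≫ G.pU ∧
        Surjective p ∧ IsOpenMap p.base ∧ LocallyOfFinitePresentation p ∧
        LocallyOfFinitePresentation q ∧ QuasiCompact q ∧ QuasiSeparated q ∧
        Function.Surjective (pullback.lift (G.t.resLE W (G.s ⁻¹ᵁ W) hW.ge) (G.s ∣_ W) w).base ∧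
        (Mono G.j → IsPullback (G.t.resLE W (G.s ⁻¹ᵁ W) hW.ge) (G.s ∣_ W) p p ∧ Flat p) := by
  obtain ⟨W, hdense, ⟨D⟩⟩ := exists_dense_qsData G
  obtain ⟨u', _, himm, h⟩ := D.exists_isQuasiSection
  haveI := himm
  let G' := restrict G W D.invariant
  haveI : CompactSpace G.U := QuasiCompact.compactSpace_of_compactSpace G.pU
  haveI : IsLocallyNoetherian G.U := LocallyOfFiniteType.isLocallyNoetherian G.pU
  haveI : IsNoetherian G.U := {}
  haveI : LocallyOfFinitePresentation G.s := LocProp.locallyOfFinitePresentation_of_isLocallyNoetherian G.s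
  haveI : Flat G'.s := inferInstanceAs (Flat (G.s ∣_ W))
  haveI : LocallyOfFinitePresentation G'.s := inferInstanceAs (LocallyOfFinitePresentation (G.s ∣_ W))
  haveI := flat_t G'
  haveI := locallyOfFinitePresentation_t G'
  haveI : CompactSpace ↥(W : Scheme.{u}) :=
    isCompact_iff_compactSpace.mp (TopologicalSpace.NoetherianSpace.isCompact _)
  haveI : LocallyOfFiniteType G'.pU := inferInstanceAs (LocallyOfFiniteType (W.ι ≫ G.pU))
  haveI : CompactSpace ↥G'.U := inferInstanceAs (CompactSpace ↥(W : Scheme.{u}))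
  obtain ⟨q, hq⟩ : ∃ q, qsProj h ≫ q = G'.pU :=
    ⟨_, Cofork.IsColimit.π_desc' (isColimitQsProj h) G'.pU (G'.t_over.trans G'.s_over.symm)⟩
  haveI := surjective_qsProj h
  haveI : LocallyOfFiniteType (qsπ h ≫ q) := by
    rw [← u_qsProj h, Category.assoc, hq]
    infer_instance
  haveI : LocallyOfFiniteType q := locallyOfFiniteType_qsQuot G' h q
  haveI : IsLocallyNoetherian (qsQuot h) := LocallyOfFiniteType.isLocallyNoetherian q
  haveI : LocallyOfFiniteType (qsProj h ≫ q) := hq.symm ▸ inferInstance
  haveI : LocallyOfFiniteType (qsProj h) := locallyOfFiniteType_of_comp _ q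
  haveI : QuasiCompact (qsProj h ≫ q) := hq.symm ▸ quasiCompact_of_compactSpace _
  haveI : CompactSpace ↥(qsQuot h) := Function.Surjective.compactSpace (qsProj h).continuous (qsProj h).surjective
  have hp₁ := surjective_qsProj h
  have hp₂ : LocallyOfFinitePresentation (qsProj h) := LocProp.locallyOfFinitePresentation_of_isLocallyNoetherian _
  refine ⟨W, D.invariant.symm, hdense, qsQuot h, qsProj h, qsProj_condition h, q,
    ⟨isColimitQsProj h⟩, hq, hp₁, ?_, hp₂,
    LocProp.locallyOfFinitePresentation_of_isLocallyNoetherian q, quasiCompact_of_compactSpace q,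
    inferInstance, surjective_qsProj_lift h, fun hm => ?_⟩
  · exact isOpenMap_qsProj h (isOpenMap_snd G'.t.isOpenMap)
  · haveI := hm
    haveI : Mono G'.j := mono_restrict_j G W D.invariant
    exact ⟨isPullback_qsProj h, flat_qsProj h⟩

end Groth.Agent.S4089
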