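import Groth.Statements.S4091
import Groth.Agent.Lib.FppfSource.Scheme
import Groth.Agent.Lib.Thickening.Morphisms
-- import your own Groth.Agent.* helpers here

set_option autoImplicit false
universe u
open CategoryTheory MonoidalCategory CartesianMonoidalCategory MonObj GrpObj AlgebraicGeometry CategoryTheory.Limits
open GrpQ

namespace Groth.Agent.S4091

/-- Let p : X → Y and q : Y → S be morphisms of schemes with p surjective, flat and of finite
presentation. If p ≫ q is of finite type then q is of finite type; if p ≫ q is of finite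
presentation then q is of finite presentation. -/
theorem result {X Y S : Scheme.{u}} (p : X ⟶ Y) (q : Y ⟶ S)
    [Surjective p] [Flat p] [LocallyOfFinitePresentation p] [QuasiCompact p] [QuasiSeparated p] :
    ((LocallyOfFiniteType (p ≫ q) ∧ QuasiCompact (p ≫ q)) → (LocallyOfFiniteType q ∧ QuasiCompact q)) ∧
    ((LocallyOfFinitePresentation (p ≫ q) ∧ QuasiCompact (p ≫ q) ∧ QuasiSeparated (p ≫ q)) →
      (LocallyOfFinitePresentation q ∧ QuasiCompact q ∧ QuasiSeparated q)) := by
  refine ⟨fun ⟨h, hc⟩ => ⟨GrothLib.FppfSource.fppfSourceDescends_lft p q ‹_› ‹_› ‹_› h,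
    GrothLib.Thickening.quasiCompact_of_comp_surjective p q⟩, fun ⟨h, hc, hs⟩ =>
    ⟨GrothLib.FppfSource.fppfSourceDescends_lfp p q ‹_› ‹_› ‹_› h,
    GrothLib.Thickening.quasiCompact_of_comp_surjective p q, ?_⟩⟩
  refine ⟨?_⟩
  let pp := pullback.map (p ≫ q) (p ≫ q) q q p p (𝟙 S) (by simp) (by simp)
  have : QuasiCompact pp := by
    exact MorphismProperty.pullbackMap (P := @QuasiCompact) (i₁ := p) (i₂ := p) ‹QuasiCompact p› ‹QuasiCompact p› rfl rfl
  have e : p ≫ pullback.diagonal q = pullback.diagonal (p ≫ q) ≫ pp := by
    apply pullback.hom_ext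
    · rw [Category.assoc, Category.assoc, pullback.diagonal_fst, Category.comp_id, pullback.lift_fst,
        pullback.diagonal_fst_assoc]
    · rw [Category.assoc, Category.assoc, pullback.diagonal_snd, Category.comp_id, pullback.lift_snd,
        pullback.diagonal_snd_assoc]
  have : QuasiCompact (p ≫ pullback.diagonal q) := by rw [e]; infer_instance
  exact GrothLib.Thickening.quasiCompact_of_comp_surjective p (pullback.diagonal q)


end Groth.Agent.S4091
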