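import Groth.Statements.S4092
import Groth.Agent.Lib.FlatFactor.Main
-- import your own Groth.Agent.* helpers here

set_option autoImplicit false
universe u
open CategoryTheory MonoidalCategory CartesianMonoidalCategory MonObj GrpObj AlgebraicGeometry CategoryTheory.Limits
open GrpQ

namespace Groth.Agent.S4092

/-- Let f : X → Y be a morphism of schemes which is locally of finite presentation. Then f factors as f
= f'' ∘ f' with f' : X → X' surjective, flat and locally of finite presentation and f'' : X' → Y a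
monomorphism if and only if the first projection X ×_Y X → X is flat. Moreover two such
factorisations are isomorphic: there is an isomorphism of the middle schemes compatible with both
maps. -/
theorem result {X Y : Scheme.{u}} (f : X ⟶ Y) [LocallyOfFinitePresentation f] :
    ((∃ (X' : Scheme.{u}) (f' : X ⟶ X') (f'' : X' ⟶ Y),
        Surjective f' ∧ Flat f' ∧ LocallyOfFinitePresentation f' ∧ Mono f'' ∧ f' ≫ f'' = f) ↔
      Flat (pullback.fst f f)) ∧
    (∀ (X₁ X₂ : Scheme.{u}) (g₁ : X ⟶ X₁) (h₁ : X₁ ⟶ Y) (g₂ : X ⟶ X₂) (h₂ : X₂ ⟶ Y),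
      Surjective g₁ → Flat g₁ → LocallyOfFinitePresentation g₁ → Mono h₁ → g₁ ≫ h₁ = f →
      Surjective g₂ → Flat g₂ → LocallyOfFinitePresentation g₂ → Mono h₂ → g₂ ≫ h₂ = f →
      ∃ φ : X₁ ≅ X₂, g₁ ≫ φ.hom = g₂ ∧ φ.hom ≫ h₂ = h₁) := by
  refine ⟨⟨?_, ?_⟩, ?_⟩
  · rintro ⟨X', f', f'', -, hflat, -, hmono, w⟩
    exact GrothLib.FlatFactor.flat_fst_of_exists_factor f f' f'' w
  · intro h
    obtain ⟨X', f', f'', h₁, h₂, h₃, h₄, -, w⟩ := GrothLib.FlatFactor.exists_factor f
    exact ⟨X', f', f'', h₁, h₂, h₃, h₄, w⟩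
  · intro X₁ X₂ g₁ h₁ g₂ h₂ _ _ _ _ w₁ _ _ _ _ w₂
    exact GrothLib.FlatFactor.exists_iso_of_factor f g₁ h₁ g₂ h₂ w₁ w₂

end Groth.Agent.S4092
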