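import Groth.Statements.S4095
import Groth.Agent.S4089
import Groth.Agent.Lib.QSecGen13.ActGrpd
import Groth.Agent.Lib.LocProp.Stalk
-- import your own Groth.Agent.* helpers here

set_option autoImplicit false
universe u
open CategoryTheory MonoidalCategory CartesianMonoidalCategory MonObj GrpObj AlgebraicGeometry CategoryTheory.Limits
open GrpQ

namespace Groth.Agent.S4095

open GrothLib GrothLib.QSecGen13


/-- Let S be noetherian, G an S-group scheme flat and of finite type over S acting on an S-scheme X of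
finite type, with action d₀ : G ×_S X → X and projection d₁, and suppose the stabilizer F of the
diagonal (the pullback of (d₀, d₁) : G ×_S X → X ×_S X along the diagonal) is quasi-finite over X.
Then there is a dense open U of X, saturated (d₀⁻¹(U) = d₁⁻¹(U)), such that the pair d₀|, d₁| :
d₁⁻¹(U) ⇉ U has a coequalizer p : U → V in schemes, with V of finite presentation over S and p
surjective, open and of finite presentation, and d₁⁻¹(U) → U ×_V U surjective; if moreover G acts
freely ((d₀, d₁) a monomorphism) then d₁⁻¹(U) ≅ U ×_V U via (d₀, d₁) and p is faithfully flat (U is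
a G-torsor over V for the fppf topology). -/
theorem result (S : Scheme.{u}) [IsNoetherian S] (G X : Over S) [GrpObj G]
    [Flat G.hom] [LocallyOfFiniteType G.hom] [QuasiCompact G.hom] [LocallyOfFiniteType X.hom] [QuasiCompact X.hom]
    (a : AlgGrp.Action G X)
    (hF : LocallyQuasiFinite (pullback.snd (lift a.act (snd G X)) (lift (𝟙 X) (𝟙 X))).left) :
    ∃ (U : X.left.Opens) (hU : a.act.left ⁻¹ᵁ U = (snd G X).left ⁻¹ᵁ U), Dense (U : Set X.left) ∧
      ∃ (V : Scheme.{u}) (p : (U : Scheme.{u}) ⟶ V)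
        (w : a.act.left.resLE U ((snd G X).left ⁻¹ᵁ U) hU.ge ≫ p = ((snd G X).left ∣_ U) ≫ p) (q : V ⟶ S),
        Nonempty (IsColimit (Cofork.ofπ p w)) ∧ p ≫ q = U.ι ≫ X.hom ∧
        Surjective p ∧ IsOpenMap p.base ∧ LocallyOfFinitePresentation p ∧
        LocallyOfFinitePresentation q ∧ QuasiCompact q ∧ QuasiSeparated q ∧
        Function.Surjective (pullback.lift (a.act.left.resLE U ((snd G X).left ⁻¹ᵁ U) hU.ge) ((snd G X).left ∣_ U) w).base ∧
        (Mono (lift a.act (snd G X)) →
          IsPullback (a.act.left.resLE U ((snd G X).left ⁻¹ᵁ U) hU.ge) ((snd G X).left ∣_ U) p p ∧ Flat p) := by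
  let Γ := actGroupoid a
  haveI : Flat Γ.s := inferInstanceAs (Flat (pullback.snd G.hom X.hom))
  haveI : LocallyOfFiniteType Γ.s := inferInstanceAs (LocallyOfFiniteType (pullback.snd G.hom X.hom))
  haveI : QuasiCompact Γ.s := inferInstanceAs (QuasiCompact (pullback.snd G.hom X.hom))
  haveI : LocallyOfFiniteType Γ.pU := ‹LocallyOfFiniteType X.hom›
  haveI : QuasiCompact Γ.pU := ‹QuasiCompact X.hom›
  haveI : CompactSpace Γ.U := QuasiCompact.compactSpace_of_compactSpace Γ.pU
  haveI : IsLocallyNoetherian Γ.U := LocallyOfFiniteType.isLocallyNoetherian Γ.pU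
  haveI : CompactSpace Γ.R := QuasiCompact.compactSpace_of_compactSpace Γ.s
  haveI : IsLocallyNoetherian Γ.R := LocallyOfFiniteType.isLocallyNoetherian Γ.s
  haveI : IsNoetherian Γ.R := {}
  haveI : LocallyOfFiniteType (Γ.j ≫ pullback.snd Γ.pU Γ.pU) := by
    rw [Grpd.GroupoidScheme.j, pullback.lift_snd]; infer_instance
  haveI : LocallyOfFiniteType Γ.j := locallyOfFiniteType_of_comp _ (pullback.snd Γ.pU Γ.pU)
  haveI : IsLocallyNoetherian (pullback Γ.pU Γ.pU) :=
    LocallyOfFiniteType.isLocallyNoetherian (pullback.snd Γ.pU Γ.pU)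
  haveI : QuasiCompact Γ.j := inferInstance
  haveI : LocallyQuasiFinite Γ.j := locallyQuasiFinite_j Γ (locallyQuasiFinite_stabilizerToU a hF)
  obtain ⟨W, hW, hd, V, p, w, q, h1, h2, h3, h4, h5, h6, h7, h8, h9, h10⟩ := Groth.Agent.S4089.result S Γ
  refine ⟨W, hW, hd, V, p, w, q, h1, h2, h3, h4, h5, h6, h7, h8, h9, fun hm => h10 ?_⟩
  haveI := hm
  rw [show Γ.j = (lift a.act (snd G X)).left from actGroupoid_j a]
  exact (Over.forget S).map_mono (lift a.act (snd G X))

end Groth.Agent.S4095
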