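import Groth.Statements.S4096
import Groth.Agent.Lib.FlatFactor.Orbit
import Groth.Agent.Lib.GrpdQuot.QuotCriteria
-- import your own Groth.Agent.* helpers here

set_option autoImplicit false
universe u
open CategoryTheory MonoidalCategory CartesianMonoidalCategory MonObj GrpObj AlgebraicGeometry CategoryTheory.Limits
open GrpQ

namespace Groth.Agent.S4096

/-- Let S be noetherian, G an S-group scheme flat and of finite type acting on an S-scheme X of finite
type, d = (d₀, d₁) : G ×_S X → X ×_S X, and F the stabilizer of the diagonal. Then a) d factors as ψ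
: G ×_S X → Y surjective, flat and locally of finite presentation followed by a monomorphism τ : Y →
X ×_S X (Y represents the sheaf image of d) if and only if F is flat over X; b) in that case the two
morphisms Y → X induced by the projections are surjective, flat and of finite presentation. -/
theorem result (S : Scheme.{u}) [IsNoetherian S] (G X : Over S) [GrpObj G]
    [Flat G.hom] [LocallyOfFiniteType G.hom] [QuasiCompact G.hom] [LocallyOfFiniteType X.hom] [QuasiCompact X.hom]
    (a : AlgGrp.Action G X) :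
    ((∃ (Y : Over S) (ψ : G ⊗ X ⟶ Y) (τ : Y ⟶ X ⊗ X), ψ ≫ τ = lift a.act (snd G X) ∧
        Surjective ψ.left ∧ Flat ψ.left ∧ LocallyOfFinitePresentation ψ.left ∧ Mono τ) ↔
      Flat (pullback.snd (lift a.act (snd G X)) (lift (𝟙 X) (𝟙 X))).left) ∧
    (∀ (Y : Over S) (ψ : G ⊗ X ⟶ Y) (τ : Y ⟶ X ⊗ X), ψ ≫ τ = lift a.act (snd G X) →
      Surjective ψ.left → Flat ψ.left → LocallyOfFinitePresentation ψ.left → Mono τ →
      (Surjective (τ ≫ fst X X).left ∧ Flat (τ ≫ fst X X).left ∧ LocallyOfFinitePresentation (τ ≫ fst X X).left ∧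
        QuasiCompact (τ ≫ fst X X).left ∧ QuasiSeparated (τ ≫ fst X X).left ∧
       Surjective (τ ≫ snd X X).left ∧ Flat (τ ≫ snd X X).left ∧ LocallyOfFinitePresentation (τ ≫ snd X X).left ∧
        QuasiCompact (τ ≫ snd X X).left ∧ QuasiSeparated (τ ≫ snd X X).left)) := by
  let d := lift a.act (snd G X)
  let δ := lift (𝟙 X) (𝟙 X)
  let F := pullback d δ
  let k : F ⟶ G ⊗ X := pullback.fst d δ
  let σ : F ⟶ X := pullback.snd d δ
  have hk₁ : k ≫ a.act = σ := by
    have := congrArg (· ≫ fst X X) (pullback.condition : k ≫ d = σ ≫ δ)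
    simpa [d, δ] using this
  have hk₂ : k ≫ snd G X = σ := by
    have := congrArg (· ≫ snd X X) (pullback.condition : k ≫ d = σ ≫ δ)
    simpa [d, δ] using this
  have : LocallyOfFiniteType (G ⊗ X).hom := by
    rw [← Over.w (snd G X)]
    exact MorphismProperty.comp_mem @LocallyOfFiniteType _ _
      (inferInstanceAs (LocallyOfFiniteType (pullback.snd G.hom X.hom))) inferInstance
  have : LocallyOfFiniteType (X ⊗ X).hom := by
    rw [← Over.w (snd X X)]
    exact MorphismProperty.comp_mem @LocallyOfFiniteType _ _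
      (inferInstanceAs (LocallyOfFiniteType (pullback.snd X.hom X.hom))) inferInstance
  have : IsLocallyNoetherian (X ⊗ X).left := LocallyOfFiniteType.isLocallyNoetherian (X ⊗ X).hom
  have : IsLocallyNoetherian X.left := LocallyOfFiniteType.isLocallyNoetherian X.hom
  have : LocallyOfFiniteType d.left := by
    have h : LocallyOfFiniteType (d.left ≫ (X ⊗ X).hom) := by rw [Over.w d]; infer_instance
    exact locallyOfFiniteType_of_comp d.left (X ⊗ X).hom
  have hd : LocallyOfFinitePresentation d.left := GrothLib.GrpSchField.lfp_of_isLocallyNoetherian _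
  refine ⟨⟨?_, ?_⟩, ?_⟩
  · rintro ⟨Y, ψ, τ, hw, -, hψ, -, hτ⟩
    let s : X ⟶ Y := lift (1 : X ⟶ G) (𝟙 X) ≫ ψ
    have hs : s ≫ τ = δ := by
      rw [Category.assoc, hw, comp_lift, lift_snd, GrothLib.GrpSchField.act_one]
    have sq : IsPullback k σ ψ s :=
      GrothLib.FlatFactor.isPullback_cancel_mono τ hw hs (IsPullback.of_hasPullback d δ)
    exact MorphismProperty.of_isPullback (sq.map (Over.forget S)) hψ
  · intro hF
    let p₁ : G ⊗ F ⟶ G ⊗ X := lift (fst G F * (snd G F ≫ k ≫ fst G X)) (snd G F ≫ σ)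
    let p₂ : G ⊗ F ⟶ G ⊗ X := G ◁ σ
    have hfix : ∀ {T : Over S} (z : T ⟶ F), lift (z ≫ k ≫ fst G X) (z ≫ σ) ≫ a.act = z ≫ σ := by
      intro T z
      have e : lift (z ≫ k ≫ fst G X) (z ≫ σ) = z ≫ k := by
        rw [← hk₂]
        exact CartesianMonoidalCategory.hom_ext _ _ (by simp) (by simp)
      rw [e, Category.assoc, hk₁]
    have hp₁ : ∀ {T : Over S} (g : T ⟶ G) (z : T ⟶ F),
        lift g z ≫ p₁ = lift (g * (z ≫ k ≫ fst G X)) (z ≫ σ) := by
      intro T g z
      simp only [p₁, comp_lift, MonObj.comp_mul, lift_fst, lift_snd_assoc]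
    have hd' : ∀ {T : Over S} (g : T ⟶ G) (x : T ⟶ X), lift g x ≫ d = lift (lift g x ≫ a.act) x := by
      intro T g x
      simp only [d, comp_lift, lift_snd]
    have w : p₁ ≫ d = p₂ ≫ d := by
      apply GrothLib.GrpSchField.hom_ext_points₂
      intro T g z
      rw [← Category.assoc, hp₁, hd', GrothLib.GrpSchField.act_mul, hfix, ← Category.assoc,
        lift_whiskerLeft, hd']
    have sq : IsPullback p₁ p₂ d d := by
      have hc : ∀ c : PullbackCone d d, ∃ l : c.pt ⟶ G ⊗ F, l ≫ p₁ = c.fst ∧ l ≫ p₂ = c.snd := by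
        intro c
        have e₁ := congrArg (· ≫ fst X X) c.condition
        have e₂ := congrArg (· ≫ snd X X) c.condition
        simp only [d, Category.assoc, lift_fst, lift_snd] at e₁ e₂
        let g := c.fst ≫ fst G X
        let g' := c.snd ≫ fst G X
        let x := c.snd ≫ snd G X
        have hc₁ : c.fst = lift g x := CartesianMonoidalCategory.hom_ext _ _ (by simp [g]) (by simp [x, e₂])
        have hc₂ : c.snd = lift g' x := CartesianMonoidalCategory.hom_ext _ _ (by simp [g']) (by simp [x])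
        have he : lift g x ≫ a.act = lift g' x ≫ a.act := by rw [← hc₁, ← hc₂]; exact e₁
        have hz : lift (g'⁻¹ * g) x ≫ d = x ≫ δ := by
          rw [hd', GrothLib.GrpSchField.act_mul, he, ← GrothLib.GrpSchField.act_mul, inv_mul_cancel,
            GrothLib.GrpSchField.act_one, comp_lift, Category.comp_id]
        refine ⟨lift g' (pullback.lift _ _ hz), ?_, ?_⟩
        · have e₃ : pullback.lift _ _ hz ≫ σ = x := pullback.lift_snd _ _ _
          have e₄ : pullback.lift _ _ hz ≫ k ≫ fst G X = g'⁻¹ * g := by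
            rw [← Category.assoc, show pullback.lift _ _ hz ≫ k = _ from pullback.lift_fst _ _ _, lift_fst]
          rw [hp₁, e₄, e₃, mul_inv_cancel_left, hc₁]
        · rw [lift_whiskerLeft, show pullback.lift _ _ hz ≫ σ = x from pullback.lift_snd _ _ _, hc₂]
      choose l hl₁ hl₂ using hc
      refine ⟨⟨w⟩, ⟨PullbackCone.IsLimit.mk _ l hl₁ hl₂ fun c m h₁ h₂ => ?_⟩⟩
      have e₁ : m ≫ fst G F = l c ≫ fst G F := by
        have := congrArg (· ≫ fst G X) (h₂.trans (hl₂ c).symm)
        simpa [p₂] using this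
      refine CartesianMonoidalCategory.hom_ext _ _ e₁ (pullback.hom_ext ?_ ?_)
      · apply CartesianMonoidalCategory.hom_ext
        · have := congrArg (· ≫ fst G X) (h₁.trans (hl₁ c).symm)
          simp only [p₁, Category.assoc, lift_fst, MonObj.comp_mul, e₁, mul_left_cancel_iff] at this
          simpa [k, mul_left_cancel_iff] using this
        · show ((m ≫ snd G F) ≫ k) ≫ snd G X = ((l c ≫ snd G F) ≫ k) ≫ snd G X
          simp only [Category.assoc, hk₂]
          have := congrArg (· ≫ snd G X) (h₂.trans (hl₂ c).symm)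
          simpa [p₂] using this
      · show (m ≫ snd G F) ≫ σ = (l c ≫ snd G F) ≫ σ
        have := congrArg (· ≫ snd G X) (h₂.trans (hl₂ c).symm)
        simpa [p₂] using this
    have : Flat p₂.left := by
      rw [show p₂ = G ◁ σ from rfl, Over.whiskerLeft_left]
      exact MorphismProperty.pullbackMap (P := @Flat) (inferInstance : Flat (𝟙 G.left)) hF
        (Category.id_comp _).symm (Over.w σ).symm
    have : Flat (pullback.fst d.left d.left) := by
      have sq' := (sq.map (Over.forget S)).flip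
      have e : sq'.isoPullback.inv ≫ p₂.left = pullback.fst d.left d.left := sq'.isoPullback_inv_fst
      rw [← e]
      exact MorphismProperty.comp_mem @Flat sq'.isoPullback.inv p₂.left inferInstance ‹Flat p₂.left›
    obtain ⟨Y, f', m, h₁, h₂, h₃, h₄, -, hfm⟩ := GrothLib.FlatFactor.exists_factor d.left
    refine ⟨Over.mk (m ≫ (X ⊗ X).hom), Over.homMk f' (by
        show f' ≫ m ≫ (X ⊗ X).hom = (G ⊗ X).hom
        rw [reassoc_of% hfm]; exact Over.w d), Over.homMk m rfl,
      Over.OverMorphism.ext hfm, h₁, h₂, h₃, ?_⟩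
    have : Mono (Over.homMk m rfl : Over.mk (m ≫ (X ⊗ X).hom) ⟶ X ⊗ X).left := h₄
    exact (Over.forget S).mono_of_mono_map ‹_›
  · intro Y ψ τ hw hψs hψf hψp hτ
    have key : ∀ q : Y ⟶ X, Flat (ψ ≫ q).left → Surjective (ψ ≫ q).left → QuasiCompact (ψ ≫ q).left →
        LocallyOfFiniteType (ψ ≫ q).left →
        Surjective q.left ∧ Flat q.left ∧ LocallyOfFinitePresentation q.left ∧
          QuasiCompact q.left ∧ QuasiSeparated q.left := by
      intro q hqf hqs hqc hqt
      have hft : LocallyOfFiniteType q.left := GrothLib.AlgSp.srcDescends_fppf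
        GrothLib.FppfSource.fppfSourceDescends_lft ψ.left q.left ⟨hψf, hψp⟩ hψs hqt
      have : IsLocallyNoetherian Y.left := LocallyOfFiniteType.isLocallyNoetherian q.left
      have : Surjective (ψ.left ≫ q.left) := hqs
      have : QuasiCompact (ψ.left ≫ q.left) := hqc
      exact ⟨Surjective.of_comp ψ.left q.left, GrothLib.AlgSp.srcDescends_flat ψ.left q.left hψf hψs hqf,
        GrothLib.GrpSchField.lfp_of_isLocallyNoetherian _,
        GrothLib.GrpdQuot.quasiCompact_of_comp_surjective ψ.left q.left, inferInstance⟩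
    have e₁ : ψ ≫ τ ≫ fst X X = a.act := by rw [reassoc_of% hw, lift_fst]
    have e₂ : ψ ≫ τ ≫ snd X X = snd G X := by rw [reassoc_of% hw, lift_snd]
    have hs₁ : Surjective (snd G X).left := ⟨fun x => ⟨(lift (1 : X ⟶ G) (𝟙 X)).left x, by
      rw [← Scheme.Hom.comp_apply, ← Over.comp_left, lift_snd]; rfl⟩⟩
    have hs₂ : Surjective a.act.left := ⟨fun x => ⟨(lift (1 : X ⟶ G) (𝟙 X)).left x, by
      rw [← Scheme.Hom.comp_apply, ← Over.comp_left, GrothLib.GrpSchField.act_one]; rfl⟩⟩
    have hf₂ : Flat (snd G X).left := inferInstanceAs (Flat (pullback.snd G.hom X.hom))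
    have hc₂ : QuasiCompact (snd G X).left := inferInstanceAs (QuasiCompact (pullback.snd G.hom X.hom))
    have ht₂ : LocallyOfFiniteType (snd G X).left :=
      inferInstanceAs (LocallyOfFiniteType (pullback.snd G.hom X.hom))
    obtain ⟨a₁, a₂, a₃, a₄, a₅⟩ := key (τ ≫ fst X X)
      (by rw [e₁]; exact GrothLib.GrpSchField.act_property @Flat a ‹_›)
      (by rw [e₁]; exact hs₂)
      (by rw [e₁]; exact GrothLib.GrpSchField.act_property @QuasiCompact a ‹_›)
      (by rw [e₁]; exact GrothLib.GrpSchField.act_property @LocallyOfFiniteType a ‹_›)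
    obtain ⟨b₁, b₂, b₃, b₄, b₅⟩ := key (τ ≫ snd X X) (by rw [e₂]; exact hf₂) (by rw [e₂]; exact hs₁)
      (by rw [e₂]; exact hc₂) (by rw [e₂]; exact ht₂)
    exact ⟨a₁, a₂, a₃, a₄, a₅, b₁, b₂, b₃, b₄, b₅⟩

end Groth.Agent.S4096
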