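import Groth.Statements.S4097
import Groth.Agent.S4096
import Groth.Agent.Lib.FlatStab13.Locus
import Groth.Agent.Lib.FlatStab13.Restr
import Groth.Agent.Lib.FlatStab13.Rel
import Groth.Agent.Lib.LocProp.Stalk
-- import your own Groth.Agent.* helpers here

set_option autoImplicit false
universe u
open CategoryTheory MonoidalCategory CartesianMonoidalCategory MonObj GrpObj AlgebraicGeometry CategoryTheory.Limits
open GrpQ

namespace Groth.Agent.S4097


open GrothLib GrothLib.QSecGen13 GrothLib.FlatStab13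


/-- Let S be noetherian, G an S-group scheme flat and of finite type acting on an S-scheme X of finite
type, and suppose that the stabilizer F of the diagonal is flat over X, or that X is reduced. Then
there is a dense open U of X, saturated for the action, and a coequalizer p : U → V in schemes of
the induced pair d₀|, d₁| : d₁⁻¹(U) ⇉ U, with V of finite type over S and p surjective, flat and of
finite presentation. -/
theorem result (S : Scheme.{u}) [IsNoetherian S] (G X : Over S) [GrpObj G]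
    [Flat G.hom] [LocallyOfFiniteType G.hom] [QuasiCompact G.hom] [LocallyOfFiniteType X.hom] [QuasiCompact X.hom]
    (a : AlgGrp.Action G X)
    (hF : Flat (pullback.snd (lift a.act (snd G X)) (lift (𝟙 X) (𝟙 X))).left ∨ IsReduced X.left) :
    ∃ (U : X.left.Opens) (hU : a.act.left ⁻¹ᵁ U = (snd G X).left ⁻¹ᵁ U), Dense (U : Set X.left) ∧
      ∃ (V : Scheme.{u}) (p : (U : Scheme.{u}) ⟶ V)
        (w : a.act.left.resLE U ((snd G X).left ⁻¹ᵁ U) hU.ge ≫ p = ((snd G X).left ∣_ U) ≫ p) (q : V ⟶ S),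
        Nonempty (IsColimit (Cofork.ofπ p w)) ∧ p ≫ q = U.ι ≫ X.hom ∧
        Surjective p ∧ Flat p ∧ LocallyOfFinitePresentation p ∧ LocallyOfFiniteType q ∧ QuasiCompact q := by
  let Γ := actGroupoid a
  haveI : Flat Γ.s := inferInstanceAs (Flat (pullback.snd G.hom X.hom))
  haveI : LocallyOfFiniteType Γ.s := inferInstanceAs (LocallyOfFiniteType (pullback.snd G.hom X.hom))
  haveI : QuasiCompact Γ.s := inferInstanceAs (QuasiCompact (pullback.snd G.hom X.hom))
  haveI : CompactSpace X.left := QuasiCompact.compactSpace_of_compactSpace X.hom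
  haveI : IsLocallyNoetherian X.left := LocallyOfFiniteType.isLocallyNoetherian X.hom
  haveI : IsNoetherian X.left := {}
  haveI : IsLocallyNoetherian Γ.U := ‹IsLocallyNoetherian X.left›
  haveI : LocallyOfFinitePresentation Γ.s := LocProp.locallyOfFinitePresentation_of_isLocallyNoetherian Γ.s
  let d := lift a.act (snd G X)
  let δ := lift (𝟙 X) (𝟙 X)
  let σ := pullback.snd d δ
  -- a dense open over which the stabilizer is flat
  obtain ⟨O, hOd, hOf⟩ : ∃ O : X.left.Opens, Dense (O : Set X.left) ∧ Flat (σ.left ∣_ O) := by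
    rcases hF with hF | hF
    · haveI : Flat σ.left := hF
      exact ⟨⊤, by simp, inferInstance⟩
    · haveI := hF
      haveI : LocallyOfFiniteType (pullback.snd X.hom X.hom) := inferInstance
      haveI : IsLocallyNoetherian (X ⊗ X).left :=
        LocallyOfFiniteType.isLocallyNoetherian (pullback.snd X.hom X.hom)
      haveI : IsLocallyNoetherian Γ.R := LocallyOfFiniteType.isLocallyNoetherian Γ.s
      haveI : CompactSpace Γ.U := ‹CompactSpace X.left›
      haveI : CompactSpace Γ.R := QuasiCompact.compactSpace_of_compactSpace Γ.s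
      haveI : IsNoetherian Γ.R := {}
      haveI : IsNoetherian (G ⊗ X).left := ‹IsNoetherian Γ.R›
      haveI : LocallyOfFiniteType (G ⊗ X).hom := by
        rw [← Over.w (snd G X)]
        exact MorphismProperty.comp_mem @LocallyOfFiniteType _ _ ‹LocallyOfFiniteType Γ.s› inferInstance
      haveI : LocallyOfFiniteType d.left := by
        haveI : LocallyOfFiniteType (d.left ≫ (X ⊗ X).hom) := by rw [Over.w d]; infer_instance
        exact locallyOfFiniteType_of_comp d.left (X ⊗ X).hom
      have hd₁ : LocallyOfFinitePresentation d.left :=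
        LocProp.locallyOfFinitePresentation_of_isLocallyNoetherian d.left
      have hd₂ : QuasiCompact d.left := inferInstance
      have sq := (IsPullback.of_hasPullback d δ).map (Over.forget S)
      haveI : LocallyOfFinitePresentation σ.left := MorphismProperty.of_isPullback sq hd₁
      haveI : QuasiCompact σ.left := MorphismProperty.of_isPullback sq hd₂
      haveI : CompactSpace ↥(pullback d δ).left := QuasiCompact.compactSpace_of_compactSpace σ.left
      exact exists_dense_open_flat σ.left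
  -- its saturation
  obtain ⟨b, sqb⟩ := exists_isPullback_stab_act a
  let U₀ : X.left.Opens := satOpen Γ O
  have hU₀ : a.act.left ⁻¹ᵁ U₀ = (snd G X).left ⁻¹ᵁ U₀ := (satOpen_invariant Γ O).symm
  have hflat : Flat (σ.left ∣_ U₀) :=
    flat_satOpen Γ σ.left ((isPullback_stab_snd a).map (Over.forget S)) (sqb.map (Over.forget S)) O hOf
  have hU₀d : Dense (U₀ : Set X.left) := hOd.mono (le_satOpen Γ O)
  -- the restricted action
  let a₀ := openAct a U₀ hU₀
  have hσ₀ : Flat (pullback.snd (lift a₀.act (snd G (openObj U₀)))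
      (lift (𝟙 (openObj U₀)) (𝟙 (openObj U₀)))).left := by
    obtain ⟨q, sqq⟩ := exists_isPullback_stab_open a U₀ hU₀
    have sq₁ : IsPullback q.left _ σ.left U₀.ι := sqq.map (Over.forget S)
    have sq₂ := (isPullback_morphismRestrict σ.left U₀).flip
    have h : Flat ((sq₁.isoIsPullback _ _ sq₂).hom ≫ (σ.left ∣_ U₀)) :=
      MorphismProperty.comp_mem @Flat _ _ inferInstance hflat
    rw [sq₁.isoIsPullback_hom_snd _ _ sq₂] at h
    exact h
  haveI : LocallyOfFiniteType (openObj U₀).hom := inferInstanceAs (LocallyOfFiniteType (U₀.ι ≫ X.hom))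
  haveI : CompactSpace ↥(U₀ : Scheme.{u}) :=
    isCompact_iff_compactSpace.mp (TopologicalSpace.NoetherianSpace.isCompact _)
  haveI : QuasiCompact U₀.ι := inferInstance
  haveI : QuasiCompact (openObj U₀).hom := inferInstanceAs (QuasiCompact (U₀.ι ≫ X.hom))
  obtain ⟨Y, ψ, τ, hw, hψs, hψf, hψp, hτ⟩ := (Groth.Agent.S4096.result S G (openObj U₀) a₀).1.2 hσ₀
  obtain ⟨-, -, -, -, -, -, hs₁, hs₂, hs₃, -⟩ :=
    (Groth.Agent.S4096.result S G (openObj U₀) a₀).2 Y ψ τ hw hψs hψf hψp hτ
  haveI := hψs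
  haveI := hψf
  haveI := hψp
  haveI := hτ
  haveI : Mono τ.left := (Over.forget S).map_mono τ
  let Γ₀ := actGroupoid a₀
  let t₁ : Y.left ⟶ Γ₀.U := (τ ≫ fst _ _).left
  let s₁ : Y.left ⟶ Γ₀.U := (τ ≫ snd _ _).left
  have e₁ : ψ ≫ τ ≫ fst _ _ = a₀.act := by rw [reassoc_of% hw, lift_fst]
  have e₂ : ψ ≫ τ ≫ snd _ _ = snd G _ := by rw [reassoc_of% hw, lift_snd]
  have ht : ψ.left ≫ t₁ = Γ₀.t := congrArg (fun f => f.left) e₁
  have hs : ψ.left ≫ s₁ = Γ₀.s := congrArg (fun f => f.left) e₂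
  have hst : t₁ ≫ Γ₀.pU = s₁ ≫ Γ₀.pU := (Over.w (τ ≫ fst _ _)).trans (Over.w (τ ≫ snd _ _)).symm
  have hm : ∀ {T : Scheme.{u}} (u v : T ⟶ Y.left), u ≫ t₁ = v ≫ t₁ → u ≫ s₁ = v ≫ s₁ → u = v :=
    fun u v h₁ h₂ => (cancel_mono τ.left).1 (pullback.hom_ext
      ((Category.assoc _ _ _).trans (h₁.trans (Category.assoc _ _ _).symm))
      ((Category.assoc _ _ _).trans (h₂.trans (Category.assoc _ _ _).symm)))
  haveI : Flat s₁ := hs₁
  haveI : LocallyOfFinitePresentation s₁ := hs₂
  haveI : LocallyOfFiniteType s₁ := inferInstance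
  haveI : QuasiCompact s₁ := hs₃
  haveI : LocallyOfFiniteType Γ₀.pU := ‹LocallyOfFiniteType (openObj U₀).hom›
  haveI : QuasiCompact Γ₀.pU := ‹QuasiCompact (openObj U₀).hom›
  let ψ' : Γ₀.R ⟶ Y.left := ψ.left
  haveI : Flat ψ' := hψf
  haveI : LocallyOfFinitePresentation ψ' := hψp
  haveI : Surjective ψ' := hψs
  obtain ⟨W, hW, hWd, V, p, w, q, ⟨hcol⟩, hq, hp₁, hp₂, hp₃, hq₁, hq₂⟩ :=
    exists_quotient Γ₀ ψ' ht hs hst @hm
  -- transport to X
  let U : X.left.Opens := U₀.ι ''ᵁ W
  let k := (G ◁ openInc U₀).left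
  have hks : k ≫ (snd G X).left = (snd G (openObj U₀)).left ≫ U₀.ι :=
    congrArg (fun f => f.left) (whiskerLeft_snd G (openInc U₀))
  have hkt : k ≫ a.act.left = a₀.act.left ≫ U₀.ι :=
    congrArg (fun f => f.left) (openAct_inc a U₀ hU₀).symm
  have sqk : IsPullback k (snd G (openObj U₀)).left (snd G X).left U₀.ι :=
    (isPullback_whiskerLeft_snd (openInc U₀)).map (Over.forget S)
  have hkr : ∀ r, (snd G X).left r ∈ U₀ → r ∈ Set.range k := fun r hr => by
    obtain ⟨z, hz, -⟩ := Scheme.Pullback.exists_preimage_pullback r ⟨_, hr⟩ (f := (snd G X).left) (g := U₀.ι) rfl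
    refine ⟨sqk.isoPullback.inv z, ?_⟩
    exact ((Scheme.Hom.comp_apply _ _ _).symm.trans
      (congrArg (fun f : pullback (snd G X).left U₀.ι ⟶ (G ⊗ X).left => f z) sqk.isoPullback_inv_fst)).trans hz
  haveI : IsOpenImmersion k := MorphismProperty.of_isPullback sqk.flip (inferInstanceAs (IsOpenImmersion U₀.ι))
  let j' : Γ₀.U ⟶ Γ.U := U₀.ι
  let k' : Γ₀.R ⟶ Γ.R := k
  haveI : IsOpenImmersion j' := inferInstanceAs (IsOpenImmersion U₀.ι)
  haveI : IsOpenImmersion k' := ‹IsOpenImmersion k›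
  have hk : ∀ r, Γ.s r ∈ Set.range j' ∨ Γ.t r ∈ Set.range j' → r ∈ Set.range k' := by
    rintro r (⟨x, hx⟩ | ⟨x, hx⟩)
    · exact hkr r (show Γ.s r ∈ U₀ from hx ▸ x.2)
    · refine hkr r ?_
      have h : r ∈ a.act.left ⁻¹ᵁ U₀ := show Γ.t r ∈ U₀ from hx ▸ x.2
      rw [hU₀] at h
      exact h
  have hjd : DenseRange j' := by
    show Dense (Set.range U₀.ι)
    rw [Scheme.Opens.range_ι]
    exact hU₀d
  haveI := hp₁
  haveI := hp₂
  haveI := hp₃
  obtain ⟨U, hU, hUd, p', w', hcol', hq', h1, h2, h3⟩ :=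
    exists_quotient_of_openImmersion (Γ := Γ) (Γ₀ := Γ₀) j' k' rfl hks hkt hk hjd W hW hWd p w q hcol hq
  exact ⟨U, hU, hUd, V, p', w', q, hcol', hq', h1, h2, h3, hq₁, hq₂⟩


end Groth.Agent.S4097
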