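import Groth.Statements.S4100
import Groth.Agent.Lib.SepAct.Connected

set_option autoImplicit false
universe u
open CategoryTheory MonoidalCategory CartesianMonoidalCategory MonObj GrpObj AlgebraicGeometry CategoryTheory.Limits
open SGA3

namespace Groth.Agent.S4100

/-- Let G be an S-group scheme locally of finite presentation and universally open over S with connected
fibres, acting on an S-scheme X locally of finite presentation over S in such a way that the
morphism G ×_S X → X ×_S X, (g, x) ↦ (g·x, x), is surjective. Then X is separated over S. -/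
theorem result (S : Scheme.{u}) (G X : Over S) [GrpObj G]
    [LocallyOfFinitePresentation G.hom] [UniversallyOpen G.hom]
    (hconn : ∀ s : S, _root_.IsConnected (G.hom.base ⁻¹' {s}))
    [LocallyOfFinitePresentation X.hom] (a : AlgGrp.Action G X)
    (hΦ : Surjective (lift a.act (snd G X)).left) : IsSeparated X.hom := by
  haveI : UniversallyOpen ((⊤ : G.left.Opens).ι ≫ G.hom) := inferInstance
  refine GrothLib.SepAct.isSeparated_of_action a ⊤ (fun _ => trivial) hΦ
    (fun s => MorphismProperty.pullback_snd _ _ inferInstance) (fun s => ?_)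
  rcases (X.hom.base ⁻¹' {s}).eq_empty_or_nonempty with he | ⟨x, hx⟩
  · refine ⟨⊥, ?_, ?_⟩
    · haveI : IsEmpty (⊥ : X.left.Opens).toScheme := ⟨fun p => p.2⟩
      infer_instance
    · exact fun z hz => (he.le hz).elim
  · obtain ⟨_, ⟨U, hU, rfl⟩, hxU, -⟩ := X.left.isBasis_affineOpens.exists_subset_of_mem_open
      (Set.mem_univ x) isOpen_univ
    haveI : IsAffine U := hU
    refine ⟨U, inferInstance, ?_⟩
    exact (subset_closure_inter_of_isPreirreducible_of_isOpen
      (GrothLib.SepAct.isPreirreducible_fibre a hΦ s (hconn s)) U.2 ⟨x, hx, hxU⟩).trans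
      (closure_mono (Set.inter_comm _ _).le)

end Groth.Agent.S4100
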