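import Groth.Statements.S4104
import Groth.Agent.Lib.Hopf.Faithful

set_option autoImplicit false
universe u
open CategoryTheory MonoidalCategory CartesianMonoidalCategory MonObj GrpObj AlgebraicGeometry CategoryTheory.Limits
open SGA3

namespace Groth.Agent.S4104

/-- Let φ : A' → A be a bialgebra map between commutative Hopf algebras over a field k (a homomorphism
of affine k-groups Spec A → Spec A', not necessarily of finite type). If the corresponding morphism
of schemes is a monomorphism, i.e. φ is an epimorphism in the category of commutative rings, then φ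
is surjective (the homomorphism is a closed immersion). -/
theorem result (k : Type u) [Field k] (A' A : Type u) [CommRing A'] [HopfAlgebra k A']
    [CommRing A] [HopfAlgebra k A] (φ : A' →ₐc[k] A)
    (hepi : ∀ (R : Type u) [CommRing R] (f g : A →+* R), f.comp (φ : A' →+* A) = g.comp (φ : A' →+* A) → f = g) :
    Function.Surjective φ := by
  let B : Subalgebra k A := (φ : A' →ₐ[k] A).range
  have hB : SGA3.IsHopfSubalgebra k A B := by
    refine ⟨?_, ?_⟩
    · rintro _ ⟨x, rfl⟩
      refine ⟨TensorProduct.map (φ : A' →ₐ[k] A).rangeRestrict.toLinearMap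
        (φ : A' →ₐ[k] A).rangeRestrict.toLinearMap (Coalgebra.comul (R := k) x), ?_⟩
      change _ = Coalgebra.comul (R := k) (φ x)
      rw [← CoalgHomClass.map_comp_comul_apply φ x]
      induction Coalgebra.comul (R := k) x using TensorProduct.induction_on with
      | zero => simp
      | tmul p q => rfl
      | add p q hp hq => simp only [map_add, hp, hq]
    · rintro _ ⟨x, rfl⟩
      refine ⟨HopfAlgebraStruct.antipode k x, ?_⟩
      exact (GrothLib.Hopf.bialgHom_antipode φ x).symm
  letI := GrothLib.Hopf.Sub.hopfAlgebra hB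
  haveI := GrothLib.Hopf.faithfullyFlat (GrothLib.Hopf.Sub.valHom hB) (fun _ => rfl) Subtype.val_injective
  have hc : ∀ a : A, a ⊗ₜ[↥B] (1 : A) = (1 : A) ⊗ₜ[↥B] a := by
    intro a
    have := hepi (TensorProduct ↥B A A) Algebra.TensorProduct.includeLeftRingHom
      (Algebra.TensorProduct.includeRight (R := ↥B) (A := A) (B := A)).toRingHom (RingHom.ext fun x => by
        have hx : (φ x : A) = algebraMap ↥B A ⟨φ x, x, rfl⟩ := rfl
        change (φ x) ⊗ₜ[↥B] (1 : A) = (1 : A) ⊗ₜ[↥B] (φ x)
        rw [hx, Algebra.algebraMap_eq_smul_one, TensorProduct.smul_tmul])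
    exact RingHom.congr_fun this a
  have hsurj : Function.Surjective (Algebra.linearMap ↥B A) := by
    rw [← Module.FaithfullyFlat.lTensor_surjective_iff_surjective ↥B A]
    intro z
    induction z using TensorProduct.induction_on with
    | zero => exact ⟨0, map_zero _⟩
    | tmul a a' =>
      refine ⟨(a * a') ⊗ₜ 1, ?_⟩
      rw [LinearMap.lTensor_tmul, Algebra.linearMap_apply, map_one]
      calc (a * a') ⊗ₜ[↥B] (1 : A) = (a ⊗ₜ[↥B] (1 : A)) * (a' ⊗ₜ[↥B] (1 : A)) := by
            rw [Algebra.TensorProduct.tmul_mul_tmul, _root_.mul_one]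
        _ = (a ⊗ₜ[↥B] (1 : A)) * ((1 : A) ⊗ₜ[↥B] a') := by rw [hc a']
        _ = a ⊗ₜ a' := by rw [Algebra.TensorProduct.tmul_mul_tmul, _root_.mul_one, _root_.one_mul]
    | add x y hx hy =>
      obtain ⟨u, rfl⟩ := hx
      obtain ⟨v, rfl⟩ := hy
      exact ⟨u + v, map_add _ _ _⟩
  intro a
  obtain ⟨⟨_, x, rfl⟩, hb⟩ := hsurj a
  exact ⟨x, hb⟩

end Groth.Agent.S4104
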