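import Groth.Statements.S4105
import Groth.Agent.Lib.HopfNQ14.Basic

set_option autoImplicit false
universe u
open CategoryTheory MonoidalCategory CartesianMonoidalCategory MonObj GrpObj AlgebraicGeometry CategoryTheory.Limits
open scoped TensorProduct
open SGA3

namespace Groth.Agent.S4105

/-- Let A be a commutative Hopf algebra over a field k, B a sub-Hopf-algebra of A and J a normal Hopf
ideal of A (a normal closed subgroup N of G = Spec A). Then J is the ideal generated by the
augmentation ideal of B (N is the kernel of G → Spec B) if and only if B consists exactly of the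
elements x with Δ(x) - x ⊗ 1 in the image of A ⊗ J (B is the ring of functions on G/N). This
expresses that N ↦ O(G/N) and B ↦ Spec (A/AB₊) are inverse bijections. -/
theorem result (k : Type u) [Field k] (A : Type u) [CommRing A] [HopfAlgebra k A]
    (B : Subalgebra k A) (hB : SGA3.IsHopfSubalgebra k A B) (J : Ideal A) [J.IsHopfIdeal k]
    (hJ : SGA3.IsNormalHopfIdeal k A J) :
    J = SGA3.augIdealSpan k A B ↔
      (B : Set A) = {x : A | CoalgebraStruct.comul (R := k) (A := A) x - x ⊗ₜ[k] (1 : A) ∈
        LinearMap.range (LinearMap.lTensor A (J.restrictScalars k).subtype)} := by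
  have hN := GrothLib.HopfNQ14.isNormalPts_of hJ
  let π : A →ₐ[k] A ⧸ J := Ideal.Quotient.mkₐ k J
  have hset : ∀ x : A, x ∈ GrothLib.Chevalley.invariants k J ↔
      CoalgebraStruct.comul (R := k) (A := A) x - x ⊗ₜ[k] (1 : A) ∈
        LinearMap.range (LinearMap.lTensor A (J.restrictScalars k).subtype) := by
    intro x
    have hex : Function.Exact (LinearMap.lTensor A (J.restrictScalars k).subtype) (π.toLinearMap.lTensor A) :=
      lTensor_exact A (fun y => ⟨fun h => ⟨⟨y, Ideal.Quotient.eq_zero_iff_mem.1 h⟩, rfl⟩, by
        rintro ⟨z, rfl⟩; exact Ideal.Quotient.eq_zero_iff_mem.2 z.2⟩) Ideal.Quotient.mk_surjective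
    rw [GrothLib.Chevalley.mem_invariants_iff]
    refine Iff.trans ?_ (hex _)
    rw [map_sub, LinearMap.lTensor_tmul, GrothLib.Chevalley.lTensor_comul_eq, GrothLib.Chevalley.delta,
      LinearMap.sub_apply, AlgHom.toLinearMap_apply, AlgHom.toLinearMap_apply, AlgHom.toLinearMap_apply, map_one]
    rfl
  constructor
  · intro h
    ext x
    rw [SetLike.mem_coe, Set.mem_setOf_eq, ← hset]
    constructor
    · intro hx R _ _ g w hw
      letI := GrothLib.Hopf.Sub.hopfAlgebra hB
      let φ : B →ₐc[k] A := GrothLib.Hopf.Sub.valHom hB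
      have hw1 : GrothLib.HopfNQ14.pre φ w = 1 := WithConv.ofConv_injective (AlgHom.ext fun b => by
        have hm : (b : A) - algebraMap k A (Coalgebra.counit (R := k) (b : A)) ∈ J := by
          rw [h]
          exact Ideal.subset_span ⟨sub_mem b.2 (Subalgebra.algebraMap_mem _ _), by simp⟩
        have h0 := hw _ hm
        rw [map_sub, sub_eq_zero, AlgHom.commutes] at h0
        exact h0)
      have h1 := map_mul (GrothLib.HopfNQ14.pre (R := R) φ) g w
      rw [hw1, _root_.mul_one] at h1
      exact congr($(congrArg WithConv.ofConv h1) ⟨x, hx⟩)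
    · intro hx
      refine GrothLib.HopfNQ14.mem_of_invariant hB h ?_
      have h2 := (GrothLib.Chevalley.mem_invariants_iff J).1 hx
      rw [GrothLib.Chevalley.delta, LinearMap.sub_apply, sub_eq_zero, AlgHom.toLinearMap_apply,
        AlgHom.toLinearMap_apply] at h2
      rw [GrothLib.Chevalley.lTensor_comul_eq]
      exact h2
  · intro h
    have hBi : B = GrothLib.Chevalley.invariants k J := SetLike.ext fun x => by
      rw [hset]; exact Set.ext_iff.1 h x
    rw [hBi]
    exact le_antisymm (GrothLib.HopfNQ14.le_augIdealSpan_invariants J hN) (GrothLib.HopfNQ14.augIdealSpan_invariants_le J)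

end Groth.Agent.S4105
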