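import Groth.Statements.S4106
import Groth.Agent.Lib.AffHull14.Basic

set_option autoImplicit false
universe u
open CategoryTheory MonoidalCategory CartesianMonoidalCategory MonObj GrpObj AlgebraicGeometry CategoryTheory.Limits
open SGA3

namespace Groth.Agent.S4106

/-- Let G be an algebraic group over a field k (a k-group scheme of finite type) and ρ : G → G_af = Spec
O(G) the canonical morphism to its affine hull. Then ρ is surjective and flat, and G_af is of finite
type over k: the morphism G_af → Spec k through which the structure morphism of G factors is locally
of finite type. -/
theorem result (k : Type u) [Field k] (G : Over (Spec (CommRingCat.of k))) [GrpObj G]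
    [LocallyOfFiniteType G.hom] [QuasiCompact G.hom] :
    Surjective G.left.toSpecΓ ∧ Flat G.left.toSpecΓ ∧
      LocallyOfFiniteType (Spec.map G.hom.appTop ≫ (Spec (CommRingCat.of k)).isoSpec.inv) := by
  exact GrothLib.AffHull14.toSpecΓ_faithfullyFlat G

end Groth.Agent.S4106
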