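import Groth.Statements.S5442
import Groth.Agent.Lib.MagnetGr25.MultTypeFixedExist
import Groth.Agent.Lib.EssFree.Subgroup
-- import your own Groth.Agent.* helpers here

set_option autoImplicit false
universe u
open CategoryTheory MonoidalCategory CartesianMonoidalCategory MonObj GrpObj AlgebraicGeometry CategoryTheory.Limits
open SGA3x

namespace Groth.Agent.S5442

/-- Let S be a scheme, G an S-group scheme separated and smooth over S, and H an S-group of
multiplicative type and of finite type acting on G by group automorphisms (on points, h · (g g′) =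
(h · g)(h · g′)). Then the functor Z = G^H of invariants (points of G fixed by all points of H after
any base change) is representable by a closed subgroup scheme of G which is smooth over S: there are
an S-group Z and a homomorphism Z → G which is a closed immersion, with Z smooth over S, whose
points are exactly the invariant points. (The published statement allows any S-group of
multiplicative type; this row assumes it moreover of finite type.) -/
theorem result (S : Scheme.{u}) (H G : Over S) [GrpObj H] [GrpObj G] (hH : SGA3x.IsMultTypeFT H)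
    [IsSeparated G.hom] [Smooth G.hom] (a : AlgGrp.Action H G)
    (hmul : ∀ (X : Over S) (h : X ⟶ H) (g g' : X ⟶ G),
      lift h (g * g') ≫ a.act = (lift h g ≫ a.act) * (lift h g' ≫ a.act)) :
    ∃ (Z : Over S) (_ : GrpObj Z) (z : Z ⟶ G) (_ : IsMonHom z), IsClosedImmersion z.left ∧ Smooth Z.hom ∧
      ∀ (X : Over S) (g : X ⟶ G), (∃ x : X ⟶ Z, x ≫ z = g) ↔
        ∀ (X' : Over S) (f : X' ⟶ X) (h : X' ⟶ H), lift h (f ≫ g) ≫ a.act = f ≫ g := by
  obtain ⟨Z, z, hz, hsm, hZ⟩ := GrothLib.MagnetGr.exists_smooth_closed_fixed hH a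
  haveI := hz
  haveI : Mono z := Over.mono_of_mono_left _
  have hone : ∀ (T : Over S) (h : T ⟶ H), lift h (1 : T ⟶ G) ≫ a.act = 1 := fun T h => by
    have h1 := hmul T h 1 1
    rw [_root_.mul_one] at h1
    exact left_eq_mul.mp h1
  have fix : ∀ {T : Over S} (x : T ⟶ Z) (T' : Over S) (t : T' ⟶ T) (g : T' ⟶ H),
      lift g (t ≫ x ≫ z) ≫ a.act = t ≫ x ≫ z := fun {T} x => (hZ T (x ≫ z)).1 ⟨x, rfl⟩
  obtain ⟨_, hm⟩ := GrothLib.EssFree.exists_grpObj_of_mono z
    (fun T => (hZ T 1).2 fun T' t g => by rw [MonObj.comp_one]; exact hone T' g)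
    (fun T p q => (hZ T _).2 fun T' t g => by rw [MonObj.comp_mul, hmul, fix p T' t g, fix q T' t g])
    (fun T p => (hZ T _).2 fun T' t g => by
      have h1 := hmul T' g (t ≫ p ≫ z) ((t ≫ p ≫ z)⁻¹)
      rw [_root_.mul_inv_cancel, hone, fix p T' t g] at h1
      rw [GrpObj.comp_inv]
      exact eq_inv_of_mul_eq_one_right h1.symm)
  exact ⟨Z, inferInstance, z, hm, hz, hsm, hZ⟩

end Groth.Agent.S5442
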