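import Groth.Statements.S4118
import Groth.Agent.S5442
import Groth.Agent.Lib.MaxTorBC14.Comm
import Groth.Agent.Lib.Flag27.CentBC
import Groth.Agent.Lib.Flag27.MaxTorusIso
-- import your own Groth.Agent.* helpers here

set_option autoImplicit false
universe u
open CategoryTheory MonoidalCategory CartesianMonoidalCategory MonObj GrpObj AlgebraicGeometry CategoryTheory.Limits
open SGA3x

namespace Groth.Agent.S4118

set_option backward.isDefEq.respectTransparency false
set_option maxHeartbeats 1600000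
set_option synthInstance.maxHeartbeats 200000

open GrothLib.DiagGrp

/-- Over an algebraically closed field a torus commuting with a maximal one lies in it. -/
theorem factor_commuting {K : Type u} [Field K] [IsAlgClosed K] {G T R : Over (Spec (CommRingCat.of K))}
    [GrpObj G] [GrpObj T] [GrpObj R] [LocallyOfFiniteType G.hom] (i : T ⟶ G) [IsMonHom i] [Mono i]
    (hT : Red.IsTorus T)
    (hmax : ∀ (T' : Over (Spec (CommRingCat.of K))) [GrpObj T'] (j : T' ⟶ G) [IsMonHom j] [Mono j] (f : T ⟶ T'),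
      Red.IsTorus T' → f ≫ j = i → IsIso f)
    (r : R ⟶ G) [IsMonHom r] (hR : Red.IsTorus R)
    (hc : ∀ (X : Over (Spec (CommRingCat.of K))) (x : X ⟶ R) (t : X ⟶ T), (x ≫ r) * (t ≫ i) = (t ≫ i) * (x ≫ r)) :
    ∃ w : R ⟶ T, w ≫ i = r := by
  haveI : IsSeparated G.hom := GrothLib.GrpSchField.isSeparated G
  haveI : IsAffineHom T.hom := GrothLib.EssFree.isAffineHom_of_charts (hasChartsFpqc_of_isTorus hT)
  haveI : IsAffineHom R.hom := GrothLib.EssFree.isAffineHom_of_charts (hasChartsFpqc_of_isTorus hR)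
  haveI : LocallyOfFiniteType T.hom := by
    haveI := lfp_of_isMultTypeFT (GrothLib.QuotTorus14.isMultTypeFT_of_charts (hasChartsFpqc_of_isTorus hT))
    infer_instance
  haveI : LocallyOfFiniteType R.hom := by
    haveI := lfp_of_isMultTypeFT (GrothLib.QuotTorus14.isMultTypeFT_of_charts (hasChartsFpqc_of_isTorus hR))
    infer_instance
  haveI : IsAffineHom (Limits.pullback.fst T.hom R.hom) := MorphismProperty.pullback_fst _ _ ‹IsAffineHom R.hom›
  haveI : IsAffineHom (T ⊗ R).hom :=
    inferInstanceAs (IsAffineHom (Limits.pullback.fst T.hom R.hom ≫ T.hom))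
  haveI : LocallyOfFiniteType (T ⊗ R).hom :=
    inferInstanceAs (LocallyOfFiniteType (Limits.pullback.fst T.hom R.hom ≫ T.hom))
  haveI : IsAffine (T ⊗ R).left := isAffine_of_isAffineHom (T ⊗ R).hom
  let v : T ⊗ R ⟶ G := (fst T R ≫ i) * (snd T R ≫ r)
  haveI : IsMonHom v := GrothLib.DiagGrp.isMonHom_of_points v fun Y a b => by
    simp only [v, MonObj.comp_mul, ← Category.assoc]
    rw [show (a * b) ≫ fst T R = (a ≫ fst T R) * (b ≫ fst T R) from MonObj.mul_comp _ _ _,
      show (a * b) ≫ snd T R = (a ≫ snd T R) * (b ≫ snd T R) from MonObj.mul_comp _ _ _]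
    simp only [MonObj.mul_comp]
    have e := hc Y (a ≫ snd T R) (b ≫ fst T R)
    generalize (a ≫ fst T R) ≫ i = p at e ⊢
    generalize (b ≫ fst T R) ≫ i = q at e ⊢
    generalize (a ≫ snd T R) ≫ r = m at e ⊢
    generalize (b ≫ snd T R) ≫ r = n at e ⊢
    calc p * q * (m * n) = p * (q * m) * n := by group
      _ = p * (m * q) * n := by rw [e]
      _ = p * m * (q * n) := by group
  haveI : QuasiCompact v.left := by
    haveI : QuasiCompact (v.left ≫ G.hom) := by rw [Over.w v]; infer_instance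
    exact QuasiCompact.of_comp _ G.hom
  obtain ⟨I, _, p, iI, hp, hiI, hpi, hps, -, -, himono, hIl, -⟩ := GrothLib.Neutral.exists_factor_field v
  haveI := hp; haveI := hiI; haveI := hps; haveI := himono; haveI := hIl
  haveI : IsAffine I.left := GrothLib.Chevalley.isAffine_of_surjective_hom p
  obtain ⟨I', _, j', f, hj', hf, hjc, hI', -, -, -, hfj⟩ := GrothLib.MaxTorBC14.exists_image_torus hT hR p
  haveI := hj'; haveI := hf; haveI := hjc
  haveI : Mono j' := Over.mono_of_mono_left j'
  haveI : IsMonHom (j' ≫ iI) := inferInstance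
  haveI : Mono (j' ≫ iI) := mono_comp _ _
  have h0 : (lift (𝟙 T) (1 : T ⟶ R) ≫ f) ≫ j' ≫ iI = i := by
    rw [Category.assoc, reassoc_of% hfj, hpi]
    simp only [v, MonObj.comp_mul, lift_fst_assoc, lift_snd_assoc, Category.id_comp, MonObj.one_comp, _root_.mul_one]
  haveI := hmax I' (j' ≫ iI) (lift (𝟙 T) (1 : T ⟶ R) ≫ f) hI' h0
  refine ⟨lift (1 : R ⟶ T) (𝟙 R) ≫ f ≫ inv (lift (𝟙 T) (1 : T ⟶ R) ≫ f), ?_⟩
  rw [Category.assoc, Category.assoc, show inv (lift (𝟙 T) (1 : T ⟶ R) ≫ f) ≫ i = j' ≫ iI from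
    (IsIso.inv_comp_eq _).mpr h0.symm, reassoc_of% hfj, hpi]
  simp only [v, MonObj.comp_mul, lift_fst_assoc, lift_snd_assoc, Category.id_comp, MonObj.one_comp, _root_.one_mul]

/-- Conjugation as an action. -/
noncomputable def conjAct {S : Scheme.{u}} {T G : Over S} [GrpObj T] [GrpObj G] (i : T ⟶ G) [IsMonHom i] :
    AlgGrp.Action T G where
  act := (fst T G ≫ i) * snd T G * (fst T G ≫ i)⁻¹
  one_act := by
    rw [MonObj.comp_mul, MonObj.comp_mul, GrpObj.comp_inv, ← Category.assoc, whiskerRight_fst, whiskerRight_snd,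
      Category.assoc, IsMonHom.one_hom]
    rw [show (fst (𝟙_ (Over S)) G ≫ η[G]) = 1 from by rw [Hom.one_def, toUnit_unique (fst (𝟙_ (Over S)) G) (toUnit _)]]
    rw [_root_.one_mul, _root_.inv_one, _root_.mul_one, leftUnitor_hom]
  mul_act := by
    simp only [MonObj.comp_mul, GrpObj.comp_inv, ← Category.assoc, whiskerRight_fst, whiskerRight_snd,
      whiskerLeft_fst, whiskerLeft_snd]
    simp only [Category.assoc, associator_hom_fst, associator_hom_snd_fst_assoc, associator_hom_snd_snd,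
      whiskerLeft_fst, whiskerLeft_snd, associator_hom_fst_assoc, whiskerLeft_fst_assoc]
    have e : μ[T] = fst T T * snd T T := by rw [Hom.mul_def, lift_fst_snd, Category.id_comp]
    rw [e, MonObj.mul_comp]
    simp only [MonObj.comp_mul, GrpObj.comp_inv, associator_hom_snd_snd, associator_hom_snd_fst_assoc]
    group

/-- Let G be an S-group scheme, smooth, separated and of finite type over S, and i : T → G a maximal
torus. Then the centralizer of T is represented by a closed subgroup scheme c : C → G which is a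
Cartan subgroup of G (smooth over S with Cartan geometric fibres); T factors through C as a maximal
torus of C, and every maximal torus of C coincides with T (as a subgroup of C). -/
theorem result (S : Scheme.{u}) (G : Over S) [GrpObj G]
    [Smooth G.hom] [IsSeparated G.hom] [QuasiCompact G.hom]
    (T : Over S) [GrpObj T] (i : T ⟶ G) (hT : Red.IsMaximalTorus i) :
    ∃ (C : Over S) (_ : GrpObj C) (c : C ⟶ G), Red.IsCentralizerOf i c ∧ IsClosedImmersion c.left ∧ SGA3x.IsCartan c ∧
      ∃ i' : T ⟶ C, i' ≫ c = i ∧ Red.IsMaximalTorus i' ∧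
        ∀ (T' : Over S) [GrpObj T'] (j : T' ⟶ C), Red.IsMaximalTorus j → ∃ φ : T' ≅ T, φ.hom ≫ i' = j := by
  obtain ⟨him, himono, hTt, hmax⟩ := hT
  haveI := him; haveI := himono
  have hTm := GrothLib.QuotTorus14.isMultTypeFT_of_charts (hasChartsFpqc_of_isTorus hTt)
  have hTcomm := GrothLib.DiagGrp.mul_comm_of_charts (hasChartsFpqc_of_isTorus hTt)
  have hact : ∀ (Y : Over S) (t : Y ⟶ T) (g : Y ⟶ G), lift t g ≫ (conjAct i).act = (t ≫ i) * g * (t ≫ i)⁻¹ :=
    fun Y t g => by
      simp only [conjAct, MonObj.comp_mul, GrpObj.comp_inv, lift_fst_assoc, lift_snd]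
  obtain ⟨C, gC, c, hcm, hcc, hCs, hC⟩ := Groth.Agent.S5442.result S T G hTm (conjAct i) fun Y t g g' => by
    rw [hact, hact, hact]; group
  haveI := hcm; haveI := hcc; haveI := hCs
  haveI hcmono : Mono c := Over.mono_of_mono_left c
  have hcent : Red.IsCentralizerOf i c := ⟨hcm, hcmono, fun X g => (hC X g).trans (forall₃_congr fun X' x h => by
    rw [hact, mul_inv_eq_iff_eq_mul, eq_comm])⟩
  have hmaxK : ∀ s : S, Red.IsMaximalTorus ((Over.pullback (Red.geomPt s)).map i) := fun s => by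
    haveI : Mono ((Over.pullback (Red.geomPt s)).map i) := GrothLib.MaxTorBC14.mono_map (Red.geomPt s) i
    exact GrothLib.Flag27.isMaximalTorus_of_isMaxTorus ⟨inferInstance, inferInstance,
      GrothLib.MaxTorBC14.isTorus_bc (Red.geomPt s) hTt, fun T' _ j _ _ f hT' hf => hmax s T' j f hT' hf⟩
  have hCartan : SGA3x.IsCartan c := ⟨hcm, hcmono, hCs, fun s => by
    haveI : Mono ((Over.pullback (Red.geomPt s)).map c) := GrothLib.MaxTorBC14.mono_map (Red.geomPt s) c
    exact ⟨inferInstance, inferInstance, _, inferInstance, _, hmaxK s, GrothLib.Flag27.isCentralizerOf_bc _ hcent⟩⟩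
  obtain ⟨i', hi'⟩ := (hcent.2.2 T i).2 fun X x h => by
    rw [← MonObj.mul_comp, ← MonObj.mul_comp, hTcomm]
  haveI : IsMonHom (i' ≫ c) := by rw [hi']; infer_instance
  haveI : IsMonHom i' := GrothLib.CentMT14.isMonHom_of_comp i' c
  haveI : Mono (i' ≫ c) := by rw [hi']; infer_instance
  haveI : Mono i' := mono_of_mono i' c
  have hi'max : Red.IsMaximalTorus i' := ⟨inferInstance, inferInstance, hTt, fun s T' _ j _ _ f hT' hf => by
    haveI : Mono ((Over.pullback (Red.geomPt s)).map c) := GrothLib.MaxTorBC14.mono_map (Red.geomPt s) c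
    haveI : Mono (j ≫ (Over.pullback (Red.geomPt s)).map c) := mono_comp _ _
    exact hmax s T' (j ≫ (Over.pullback (Red.geomPt s)).map c) f hT' (by
      rw [reassoc_of% hf, ← Functor.map_comp, hi'])⟩
  refine ⟨C, gC, c, hcent, hcc, hCartan, i', hi', hi'max, fun T' _ j hj => ?_⟩
  obtain ⟨hjm, hjmono, hT't, hjmax⟩ := hj
  haveI := hjm; haveI := hjmono
  have hT'm := GrothLib.QuotTorus14.isMultTypeFT_of_charts (hasChartsFpqc_of_isTorus hT't)
  have hcen : ∀ (X : Over S) (g : X ⟶ C) (h : X ⟶ T), g * (h ≫ i') = (h ≫ i') * g := fun X g h => by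
    rw [← cancel_mono c, MonObj.mul_comp, MonObj.mul_comp, Category.assoc h i' c, hi']
    simpa only [Category.id_comp] using (hcent.2.2 X (g ≫ c)).1 ⟨g, rfl⟩ X (𝟙 X) h
  have hgeo : ∀ s : S, Factor i' j (Red.geomPt s) ∧ Factor j i' (Red.geomPt s) := fun s => by
    let q := Red.geomPt s
    haveI : Smooth (Red.geomFibre s G).hom := MorphismProperty.pullback_snd (P := @Smooth) G.hom q ‹_›
    haveI : Smooth (Red.geomFibre s C).hom := MorphismProperty.pullback_snd (P := @Smooth) C.hom q ‹_›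
    haveI : Mono ((Over.pullback q).map i) := GrothLib.MaxTorBC14.mono_map q i
    haveI : Mono ((Over.pullback q).map i') := GrothLib.MaxTorBC14.mono_map q i'
    haveI : Mono ((Over.pullback q).map c) := GrothLib.MaxTorBC14.mono_map q c
    haveI : Mono ((Over.pullback q).map j) := GrothLib.MaxTorBC14.mono_map q j
    have hcK := GrothLib.Flag27.isCentralizerOf_bc q hcent
    have key : ∀ (X : Over (Spec (CommRingCat.of (AlgebraicClosure (S.residueField s))))) (g : X ⟶ Red.bc q C)
        (h : X ⟶ Red.bc q T), g * (h ≫ (Over.pullback q).map i') = (h ≫ (Over.pullback q).map i') * g := fun X g h => by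
      rw [← cancel_mono ((Over.pullback q).map c), MonObj.mul_comp, MonObj.mul_comp, Category.assoc h,
        ← Functor.map_comp, hi']
      simpa only [Category.id_comp] using (hcK.2.2 X (g ≫ (Over.pullback q).map c)).1 ⟨g, rfl⟩ X (𝟙 X) h
    have hTK := GrothLib.MaxTorBC14.isTorus_bc q hTt
    have hT'K := GrothLib.MaxTorBC14.isTorus_bc q hT't
    obtain ⟨w, hw⟩ := factor_commuting ((Over.pullback q).map i') hTK (hi'max.2.2.2 s)
      ((Over.pullback q).map j) hT'K (fun X x t => key X _ t)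
    obtain ⟨w', hw'⟩ := factor_commuting ((Over.pullback q).map j) hT'K (hjmax s)
      ((Over.pullback q).map i') hTK (fun X x t => (key X _ x).symm)
    exact ⟨(factor_iff_exists i' j q).2 ⟨w', hw'⟩, (factor_iff_exists j i' q).2 ⟨w, hw⟩⟩
  have hres : ∀ s : S, Factor i' j (S.fromSpecResidueField s) ∧ Factor j i' (S.fromSpecResidueField s) := fun s =>
    ⟨GrothLib.MaxTorBC14.factor_descend (k := S.residueField s) i' j (S.fromSpecResidueField s) _ (hgeo s).1,
      GrothLib.MaxTorBC14.factor_descend (k := S.residueField s) j i' (S.fromSpecResidueField s) _ (hgeo s).2⟩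
  haveI := lfp_of_isMultTypeFT hTm
  haveI := lfp_of_isMultTypeFT hT'm
  haveI : LocallyOfFiniteType (T ⊗ T').hom :=
    inferInstanceAs (LocallyOfFiniteType (Limits.pullback.fst T.hom T'.hom ≫ T.hom))
  haveI : LocallyOfFiniteType ((T ⊗ T') ⊗ (T ⊗ T')).hom :=
    inferInstanceAs (LocallyOfFiniteType (Limits.pullback.fst (T ⊗ T').hom (T ⊗ T').hom ≫ (T ⊗ T').hom))
  haveI : IsSeparated C.hom := by rw [← Over.w c]; infer_instance
  let Pc : ∀ (W : Scheme.{u}), (W ⟶ S) → Prop := fun W f => HasChart fgM T f ∧ HasChart fgM T' f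
  have hcov : ∀ V : S.Opens, IsAffineOpen V → CoverBy Pc V := fun V hV =>
    ((hasChartsFpqc_of_isMultTypeFT hTm).coverBy V hV).inter ((hasChartsFpqc_of_isMultTypeFT hT'm).coverBy V hV)
      (fun f g f' hf' h => h.precomp g f' hf') (fun f g f' hf' h => h.precomp g f' hf')
  have main : ∀ {W : Scheme.{u}} [IsAffine W] (f : W ⟶ S), Pc W f → Factor i' j f ∧ Factor j i' f := by
    intro W _ f hP
    obtain ⟨M, _, hM, ⟨e₁⟩⟩ := hP.1.precomp W.isoSpec.inv _ rfl
    obtain ⟨M', _, hM', ⟨e₂⟩⟩ := hP.2.precomp W.isoSpec.inv _ rfl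
    obtain ⟨-, hover⟩ := factor_locus_chart (W.isoSpec.inv ≫ f) e₁ e₂ i' j hcen
      (Or.inr (inferInstance : LocallyOfFinitePresentation C.hom)) hM'
    obtain ⟨h₁, h₂⟩ := hover fun x => hres _
    exact ⟨h₁.precomp W.isoSpec.hom f (by simp), h₂.precomp W.isoSpec.hom f (by simp)⟩
  have h1 : Factor i' j (⊤ : S.Opens).ι := factor_of_coverBy i' j hcov ⊤ fun f hP _ => (main f hP).1
  have h2 : Factor j i' (⊤ : S.Opens).ι := factor_of_coverBy j i' hcov ⊤ fun f hP _ => (main f hP).2
  obtain ⟨a, ha⟩ := h1 T (T.hom ≫ (Scheme.topIso S).inv) (by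
    rw [Category.assoc, ← Scheme.topIso_hom, Iso.inv_hom_id, Category.comp_id]) (𝟙 T)
  obtain ⟨b, hb⟩ := h2 T' (T'.hom ≫ (Scheme.topIso S).inv) (by
    rw [Category.assoc, ← Scheme.topIso_hom, Iso.inv_hom_id, Category.comp_id]) (𝟙 T')
  rw [Category.id_comp] at ha hb
  exact ⟨⟨b, a, by rw [← cancel_mono j, Category.assoc, ha, hb, Category.id_comp],
    by rw [← cancel_mono i', Category.assoc, hb, ha, Category.id_comp]⟩, hb⟩

end Groth.Agent.S4118
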