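import Groth.Statements.S4129
import Groth.Agent.Lib.CentSplit14.Smooth
-- import your own Groth.Agent.* helpers here

set_option autoImplicit false
universe u
open TensorProduct
open SGA3

namespace Groth.Agent.S4129

/-- In Hopf-algebra form: let k be a perfect field, A a finitely generated commutative Hopf algebra over
k (an algebraic group E) and ψ : C → A an injective bialgebra map from a finitely generated
commutative Hopf algebra C which is formally smooth over k and unipotent in the fixed-vector sense
(a smooth unipotent quotient U = Spec C of E). Let J be the Hopf ideal of A generated by the image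
of the augmentation ideal of C and suppose the kernel H = Spec (A/J) is of multiplicative type
(diagonalizable after a faithfully flat extension of k). Suppose moreover that U is connected (C has
no idempotents other than 0 and 1). Then the extension 1 → H → E → U → 1 is trivial with a unique
lifting: there is exactly one bialgebra map r : A → C with r ∘ ψ = id. (The published statement
omits the connectedness of U; it is added here, for existence as well as uniqueness, as its
published proof assumes it.) -/
theorem result (k : Type u) [Field k] [PerfectField k]
    (A C : Type u) [CommRing A] [HopfAlgebra k A] [Algebra.FiniteType k A] [CommRing C] [HopfAlgebra k C]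
    [Algebra.FiniteType k C] [Algebra.FormallySmooth k C] (hC : HopfRep.IsUnipotent k C)
    (ψ : C →ₐc[k] A) (hψ : Function.Injective ψ)
    (J : Ideal A) [J.IsHopfIdeal k] (hJ : J = Ideal.map (ψ : C →+* A) (RingHom.ker (Bialgebra.counitAlgHom k C)))
    (hH : SGA3b.IsMultTypeConst k (A ⧸ J))
    (hU : ∀ e : C, IsIdempotentElem e → e = 0 ∨ e = 1) :
    ∃! r : A →ₐc[k] C, r.comp ψ = BialgHom.id k C := by
  subst hJ
  exact GrothLib.CentSplit14.existsUnique_retraction_smooth hC ψ hψ (Bialgebra.Quotient.mkBialgHom _)
    Ideal.Quotient.mk_surjective (fun a => Ideal.Quotient.eq_zero_iff_mem) hH hU

end Groth.Agent.S4129
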