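import Groth.Statements.S4131
import Groth.Agent.Lib.RankComm14.Global

set_option backward.isDefEq.respectTransparency false
-- import your own Groth.Agent.* helpers here

set_option autoImplicit false
universe u
open CategoryTheory MonoidalCategory CartesianMonoidalCategory MonObj GrpObj AlgebraicGeometry CategoryTheory.Limits
open Red

namespace Groth.Agent.S4131

/-- Let G be an S-group scheme, i : T → G a subtorus, α : T → 𝔾_m a character which is non-trivial on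
every geometric fibre, and p₊, p₋ : 𝔾_a → G homomorphisms which are monomorphisms normalised by T
with multipliers α and α⁻¹ (i(t) p₊(x) i(t)⁻¹ = p₊(α(t)x), i(t) p₋(y) i(t)⁻¹ = p₋(α(t)⁻¹y)). Assume
(i) the morphism 𝔾_a ×_S T ×_S 𝔾_a → G, (y, t, x) ↦ p₋(y)·i(t)·p₊(x), is an open immersion, with
image Ω, and (ii) on every geometric fibre the images of p₊ and p₋ do not commute. Then there is
exactly one pair (a, α*) consisting of an S-point a of 𝔾_m and a homomorphism α* : 𝔾_m → T such that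
for every S-scheme X and all points x, y of 𝔾_a with values in X: p₊(x)p₋(y) lies in Ω if and only
if 1 + a·x·y is a unit (as a function on X), and in that case p₊(x)p₋(y) = p₋(y')·i(α*(z))·p₊(x')
where z = 1 + axy, y'·z = y and x'·z = x; moreover α ∘ α* is the squaring map of 𝔾_m. -/
theorem result (S : Scheme.{u}) (G T : Over S) [GrpObj G] [GrpObj T] (i : T ⟶ G)
    [IsMonHom i] [Mono i] (hT : Red.IsTorus T) (α : T ⟶ Red.Gm S) [IsMonHom α]
    (hα : ∀ s : S, (Over.pullback (Red.geomPt s)).map α ≠ 1)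
    (pp pm : Red.Ga S ⟶ G) [IsMonHom pp] [Mono pp] [IsMonHom pm] [Mono pm]
    (hpp : ∀ (X : Over S) (t : X ⟶ T) (x : X ⟶ Red.Ga S), ∃ x' : X ⟶ Red.Ga S,
      x' ≫ pp = (t ≫ i) * (x ≫ pp) * (t ≫ i)⁻¹ ∧ Red.gaFn x' = Red.gmFn (t ≫ α) * Red.gaFn x)
    (hpm : ∀ (X : Over S) (t : X ⟶ T) (y : X ⟶ Red.Ga S), ∃ y' : X ⟶ Red.Ga S,
      y' ≫ pm = (t ≫ i) * (y ≫ pm) * (t ≫ i)⁻¹ ∧ Red.gaFn y' * Red.gmFn (t ≫ α) = Red.gaFn y)
    (hΩ : IsOpenImmersion (((pm ⊗ₘ i) ⊗ₘ pp) ≫ (μ[G] ▷ G) ≫ μ[G]).left)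
    (hnc : ∀ s : S, ∃ (X : Over (Spec (CommRingCat.of (AlgebraicClosure (S.residueField s)))))
      (x y : X ⟶ Red.bc (Red.geomPt s) (Red.Ga S)),
      (x ≫ (Over.pullback (Red.geomPt s)).map pp) * (y ≫ (Over.pullback (Red.geomPt s)).map pm) ≠
        (y ≫ (Over.pullback (Red.geomPt s)).map pm) * (x ≫ (Over.pullback (Red.geomPt s)).map pp)) :
    ∃! q : (𝟙_ (Over S) ⟶ Red.Gm S) × (Red.Gm S ⟶ T), IsMonHom q.2 ∧ q.2 ≫ α = (𝟙 (Red.Gm S)) ^ 2 ∧
      ∀ (X : Over S) (x y : X ⟶ Red.Ga S),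
        ((∃ w : X ⟶ (Red.Ga S ⊗ T) ⊗ Red.Ga S, w ≫ (((pm ⊗ₘ i) ⊗ₘ pp) ≫ (μ[G] ▷ G) ≫ μ[G]) = (x ≫ pp) * (y ≫ pm)) ↔
          IsUnit (1 + Red.gmFn (toUnit X ≫ q.1) * Red.gaFn x * Red.gaFn y)) ∧
        (IsUnit (1 + Red.gmFn (toUnit X ≫ q.1) * Red.gaFn x * Red.gaFn y) →
          ∃ (x' y' : X ⟶ Red.Ga S) (z : X ⟶ Red.Gm S),
            Red.gmFn z = 1 + Red.gmFn (toUnit X ≫ q.1) * Red.gaFn x * Red.gaFn y ∧
            Red.gaFn x' * Red.gmFn z = Red.gaFn x ∧ Red.gaFn y' * Red.gmFn z = Red.gaFn y ∧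
            (x ≫ pp) * (y ≫ pm) = (y' ≫ pm) * (z ≫ q.2 ≫ i) * (x' ≫ pp)) := by
  have H : GrothLib.RankComm14.Sys i α pp pm :=
    ⟨inferInstance, inferInstance, inferInstance, inferInstance, hT, hα, hpp, hpm, hΩ⟩
  haveI : IsOpenImmersion (GrothLib.RankCell14.cell i pp pm).left := hΩ
  obtain ⟨a, h, hau, hmon, h2, hf⟩ := GrothLib.RankComm14.exists_formula H hnc
  obtain ⟨au, hau'⟩ := hau
  let q₁ : 𝟙_ (Over S) ⟶ Red.Gm S := GmPts.ptOfUnit (T := 𝟙_ (Over S)) au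
  have hval : ∀ (X : Over S) (p : 𝟙_ (Over S) ⟶ Red.Gm S),
      Red.gmFn (toUnit X ≫ p) = X.hom.appTop (Red.gmFn p) := fun X p => by
    rw [GmPts.gmFn_comp]
    rfl
  have hq₁ : ∀ X : Over S, Red.gmFn (toUnit X ≫ q₁) = X.hom.appTop a := fun X => by
    rw [hval]
    exact congrArg X.hom.appTop ((GmPts.gmFn_ptOfUnit (T := 𝟙_ (Over S)) au).trans hau')
  have hw : ∀ {X : Over S} (g : X ⟶ G),
      (∃ w : X ⟶ (Red.Ga S ⊗ T) ⊗ Red.Ga S, w ≫ GrothLib.RankCell14.cell i pp pm = g) ↔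
        GrothLib.RankComm14.InC i pp pm g := by
    intro X g
    constructor
    · rintro ⟨w, rfl⟩ z
      exact ⟨w.left.base z, (Scheme.Hom.comp_apply _ _ _).symm⟩
    · intro hg
      obtain ⟨y, t, x, e⟩ := GrothLib.RankCell14.exists_coords i pp pm g hg
      exact ⟨lift (lift y t) x, (GrothLib.RankCell14.cell_apply i pp pm y t x).trans e.symm⟩
  refine ⟨(q₁, h), ⟨hmon, h2, fun X x y => ?_⟩, ?_⟩
  · change _ ∧ _
    rw [hq₁]
    exact ⟨(hw _).trans (hf X x y).1, (hf X x y).2⟩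
  rintro ⟨q₁', h'⟩ ⟨-, -, hf'⟩
  have hg : ∀ (b : Γ(S, ⊤)), (∀ (X : Over S) (x y : X ⟶ Red.Ga S),
      (GrothLib.RankComm14.InC i pp pm ((x ≫ pp) * (y ≫ pm)) ↔ IsUnit (1 + X.hom.appTop b * Red.gaFn x * Red.gaFn y)) ∧
      (IsUnit (1 + X.hom.appTop b * Red.gaFn x * Red.gaFn y) → ∃ (x' y' : X ⟶ Red.Ga S) (t : X ⟶ T),
        Red.gaFn x' * (1 + X.hom.appTop b * Red.gaFn x * Red.gaFn y) = Red.gaFn x ∧
        Red.gaFn y' * (1 + X.hom.appTop b * Red.gaFn x * Red.gaFn y) = Red.gaFn y ∧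
        (x ≫ pp) * (y ≫ pm) = (y' ≫ pm) * (t ≫ i) * (x' ≫ pp))) →
      GrothLib.RankComm14.Good i pp pm (𝟙 S) b := by
    intro b hb Y k hk x y
    rw [Category.comp_id] at hk
    subst hk
    exact hb Y x y
  have ha' : Red.gmFn q₁' = a := by
    refine GrothLib.RankComm14.good_unique' H (𝟙 S) (hg (Red.gmFn q₁') fun X x y => ?_) (hg a fun X x y => ?_)
    · have h1 := hf' X x y
      dsimp only at h1
      rw [hval] at h1
      refine ⟨(hw _).symm.trans h1.1, fun hu => ?_⟩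
      obtain ⟨x', y', z, hz, hx, hy, e⟩ := h1.2 hu
      refine ⟨x', y', z ≫ h', ?_, ?_, by rw [e, Category.assoc]⟩
      · rw [← hz]; exact hx
      · rw [← hz]; exact hy
    · refine ⟨(hf X x y).1, fun hu => ?_⟩
      obtain ⟨x', y', z, hz, hx, hy, e⟩ := (hf X x y).2 hu
      refine ⟨x', y', z ≫ h, ?_, ?_, by rw [e, Category.assoc]⟩
      · rw [← hz]; exact hx
      · rw [← hz]; exact hy
  have e₁ : q₁' = q₁ := GmPts.gmFn_injective (ha'.trans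
    ((GmPts.gmFn_ptOfUnit (T := 𝟙_ (Over S)) au).trans hau').symm)
  have e₂ : h' = h := by
    let Y := Red.Gm S
    let ai : Γ(Y.left, ⊤) := Y.hom.appTop ((au⁻¹ : (Γ(S, ⊤))ˣ) : Γ(S, ⊤))
    let x : Y ⟶ Red.Ga S := GrothLib.RedPts.gaPt ((Red.gmFn (𝟙 Y) - 1) * ai)
    let y : Y ⟶ Red.Ga S := GrothLib.RedPts.gaPt 1
    have hi : Y.hom.appTop a * ai = 1 := by
      simp only [ai]
      rw [← map_mul, ← hau', Units.mul_inv, map_one]
    have hz : 1 + Y.hom.appTop a * Red.gaFn x * Red.gaFn y = Red.gmFn (𝟙 Y) := by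
      simp only [x, y]
      rw [GrothLib.RedPts.gaFn_gaPt, GrothLib.RedPts.gaFn_gaPt]
      linear_combination (Red.gmFn (𝟙 Y) - 1) * hi
    have hu : IsUnit (1 + Y.hom.appTop a * Red.gaFn x * Red.gaFn y) := hz ▸ GmPts.isUnit_gmFn (𝟙 Y)
    obtain ⟨x₁, y₁, z₁, hz₁, -, -, e⟩ := (hf Y x y).2 hu
    have h1 := hf' Y x y
    dsimp only at h1
    rw [hval, ha'] at h1
    obtain ⟨x₂, y₂, z₂, hz₂, -, -, e'⟩ := h1.2 hu
    rw [← Category.assoc] at e e'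
    have e3 := (GrothLib.RankCell14.cell_inj i pp pm (e.symm.trans e')).2.1
    rw [show z₁ = 𝟙 Y from GmPts.gmFn_injective (hz₁.trans hz),
      show z₂ = 𝟙 Y from GmPts.gmFn_injective (hz₂.trans hz), Category.id_comp, Category.id_comp] at e3
    exact e3.symm
  rw [e₁, e₂]

end Groth.Agent.S4131
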