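import Groth.Statements.S4135
import Groth.Agent.Lib.CMM.Pow
import Groth.Agent.Lib.CMM.Powers

set_option autoImplicit false
universe u
open TensorProduct
attribute [local instance] LieRing.ofAssociativeRing
open SGA3y

namespace Groth.Agent.S4135

open GrothLib.CMM

/-- Let k be a field of characteristic zero and H a cocommutative bialgebra over k which is connected
(every nonzero subcoalgebra contains 1). Then the canonical algebra homomorphism from the universal
enveloping algebra of the Lie algebra of primitive elements of H to H is bijective. -/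
theorem result (k : Type u) [Field k] [CharZero k] (H : Type u) [Ring H]
    [Bialgebra k H] [Coalgebra.IsCocomm k H] (hconn : SGA3y.IsConnectedCoalg k H) :
    Function.Bijective (UniversalEnvelopingAlgebra.lift k (SGA3y.primLie k H).incl) := by
  classical
  let P := SGA3y.primLie k H
  let U := UniversalEnvelopingAlgebra k P
  let F : U →ₐ[k] H := UniversalEnvelopingAlgebra.lift k P.incl
  have hFι : ∀ z : P, F (UniversalEnvelopingAlgebra.ι k z) = (z : H) := fun z =>
    UniversalEnvelopingAlgebra.lift_ι_apply k P.incl z
  obtain ⟨pr, hpr⟩ := (P.incl : P →ₗ⁅k⁆ H).toLinearMap.exists_leftInverse_of_injective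
    (LinearMap.ker_eq_bot.2 Subtype.val_injective)
  have hpr' : ∀ z : P, pr (z : H) = z := fun z => LinearMap.congr_fun hpr z
  let g : ℕ → Conv k H U := fun N => WithConv.toConv
    ((UniversalEnvelopingAlgebra.ι k : P →ₗ⁅k⁆ U).toLinearMap ∘ₗ pr ∘ₗ (L k H N).ofConv)
  have hg_apply : ∀ N h, g N h = UniversalEnvelopingAlgebra.ι k (pr (L k H N h)) := fun N h => rfl
  refine ⟨?_, fun h => ?_⟩
  · have hpow : ∀ (z : P) (N j n : ℕ), n < N →
        (g N ^ j) ((z : H) ^ n) = if n = j then (n.factorial : k) • (UniversalEnvelopingAlgebra.ι k z) ^ j else 0 := by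
      intro z N j
      induction j with
      | zero =>
        intro n _
        have hone : CoalgebraStruct.counit (R := k) (z : H) = 0 := by
          have h := congrArg (fun w => TensorProduct.lid k H ((CoalgebraStruct.counit (R := k) (A := H)).rTensor H w))
            (show CoalgebraStruct.comul (R := k) (z : H) = (z : H) ⊗ₜ[k] (1 : H) + (1 : H) ⊗ₜ[k] (z : H) from z.2)
          rw [Coalgebra.rTensor_counit_comul] at h
          simp only [map_add, LinearMap.rTensor_tmul, TensorProduct.lid_tmul, Bialgebra.counit_one, one_smul, right_eq_add] at h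
          rcases smul_eq_zero.1 h with h' | h'
          · exact h'
          · rw [← mul_one (z : H), h', mul_zero, map_zero]
        rw [pow_zero, LinearMap.convOne_apply, Bialgebra.counit_pow, hone]
        rcases n with _ | n <;> simp
      | succ j ih =>
        intro n hn
        rw [pow_succ (g N) j, conv_apply_pow z.2]
        have hg : ∀ i < N, g N ((z : H) ^ i) = if i = 1 then UniversalEnvelopingAlgebra.ι k z else 0 := fun i hi => by
          rw [hg_apply, L_pow z.2 hi]
          split_ifs <;> simp [hpr']
        rcases n with _ | n
        · rw [Finset.sum_range_one, hg 0 (by omega)]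
          simp
        · rw [Finset.sum_eq_single n]
          · rw [ih n (by omega), show n + 1 - n = 1 by omega, hg 1 (by omega), if_pos rfl, Nat.choose_succ_self_right]
            split_ifs with h1 h2 h2
            · subst h1
              rw [smul_mul_assoc, ← pow_succ, ← Nat.cast_smul_eq_nsmul k, smul_smul, Nat.factorial_succ, Nat.cast_mul]
            · omega
            · omega
            · simp
          · intro i hi hne
            have := Finset.mem_range.1 hi
            rw [hg _ (by omega), if_neg (by omega), mul_zero, smul_zero]
          · intro h1; simp at h1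
    have key : ∀ u : U, ∃ N₀, ∀ N, N₀ ≤ N → (expT k N (g N)) (F u) = u := by
      intro u
      induction span_pow_eq_top (k := k) u using Submodule.span_induction with
      | mem b hb =>
        obtain ⟨z, n, rfl⟩ := hb
        refine ⟨n + 1, fun N hN => ?_⟩
        rw [map_pow, hFι, expT, Polynomial.aeval_eq_sum_range' (n := N + 1) (Nat.lt_succ_of_le
          (Polynomial.natDegree_le_iff_coeff_eq_zero.2 fun m hm => by rw [PowerSeries.coeff_trunc, if_neg (by omega)]))]
        rw [WithConv.ofConv_sum, LinearMap.sum_apply, Finset.sum_eq_single n]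
        · rw [WithConv.ofConv_smul, LinearMap.smul_apply, hpow z N n n (by omega), if_pos rfl, PowerSeries.coeff_trunc,
            if_pos (by omega), PowerSeries.coeff_exp, smul_smul, map_div₀, map_one, map_natCast, one_div,
            inv_mul_cancel₀ (Nat.cast_ne_zero.2 (Nat.factorial_ne_zero n)), one_smul]
        · intro j _ hj
          rw [WithConv.ofConv_smul, LinearMap.smul_apply, hpow z N j n (by omega), if_neg (Ne.symm hj), smul_zero]
        · intro h1; simp at h1; omega
      | zero => exact ⟨0, fun N _ => by simp⟩
      | add a b _ _ ha hb =>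
        obtain ⟨N1, h1⟩ := ha
        obtain ⟨N2, h2⟩ := hb
        exact ⟨max N1 N2, fun N hN => by rw [map_add, map_add, h1 N (le_of_max_le_left hN), h2 N (le_of_max_le_right hN)]⟩
      | smul c a _ ha =>
        obtain ⟨N1, h1⟩ := ha
        exact ⟨N1, fun N hN => by rw [map_smul, map_smul, h1 N hN]⟩
    intro u v huv
    obtain ⟨N1, h1⟩ := key u
    obtain ⟨N2, h2⟩ := key v
    rw [← h1 (max N1 N2) (le_max_left _ _), ← h2 (max N1 N2) (le_max_right _ _)]
    exact congrArg _ huv
  · obtain ⟨N, hN⟩ := exists_S hconn h
    refine ⟨expT k N (g N) h, ?_⟩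
    change F ((expT k N (g N)) h) = h
    have h1 : q k H H N (post F (g N)) = q k H H N (L k H N) := q_eq_iff.2 fun x hx => by
      rw [post_apply, hg_apply, hFι]
      exact congrArg Subtype.val (hpr' ⟨_, L_primitive hx⟩)
    have h2 : q k H H N (post F (expT k N (g N))) = q k H H N (WithConv.toConv LinearMap.id) := by
      rw [expT_map, expT_map, h1, ← expT_map, q_expT_L]
    have h3 := q_eq_iff.1 h2 h hN
    rwa [post_apply] at h3

end Groth.Agent.S4135
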