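import Groth.Statements.S4137
import Groth.Agent.Lib.GenericStage.Group
import Groth.Agent.Lib.EssFree.Transporter
import Groth.Agent.Lib.EssFree.Generic
import Groth.Agent.Lib.EssFree.Subgroup
import Groth.Agent.Lib.Neutral.QCHom
import Mathlib

set_option autoImplicit false
universe u
open CategoryTheory MonoidalCategory CartesianMonoidalCategory MonObj GrpObj AlgebraicGeometry CategoryTheory.Limits
open SGA3

namespace Groth.Agent.S4137

/-- Let S be an integral scheme, G and H S-group schemes of finite presentation over S and i : H → G a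
homomorphism which is a quasi-compact monomorphism. Then there is a non-empty open U of S over which
i becomes a closed immersion and the centralizer and the normalizer of H_U in G_U are representable
by closed subgroup schemes of G_U of finite presentation over U. -/
theorem result (S : Scheme.{u}) [IsIntegral S] (G H : Over S)
    [GrpObj G] [GrpObj H] [LocallyOfFinitePresentation G.hom] [QuasiCompact G.hom] [QuasiSeparated G.hom]
    [LocallyOfFinitePresentation H.hom] [QuasiCompact H.hom] [QuasiSeparated H.hom]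
    (i : H ⟶ G) [IsMonHom i] [Mono i] [QuasiCompact i.left] :
    ∃ U : S.Opens, (U : Set S).Nonempty ∧ IsClosedImmersion ((Over.pullback U.ι).map i).left ∧
      ∃ (C N : Over (U : Scheme.{u})) (_ : GrpObj C) (_ : GrpObj N) (c : C ⟶ Red.bc U.ι G) (n : N ⟶ Red.bc U.ι G),
        Red.IsCentralizerOf ((Over.pullback U.ι).map i) c ∧ IsClosedImmersion c.left ∧
          LocallyOfFinitePresentation C.hom ∧ QuasiCompact C.hom ∧
        Red.IsNormalizerOf ((Over.pullback U.ι).map i) n ∧ IsClosedImmersion n.left ∧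
          LocallyOfFinitePresentation N.hom ∧ QuasiCompact N.hom := by
  haveI : QuasiSeparated i.left := by
    haveI : QuasiSeparated (i.left ≫ G.hom) := by rw [Over.w i]; infer_instance
    exact QuasiSeparated.of_comp i.left G.hom
  haveI : LocallyOfFiniteType i.left := by
    haveI : LocallyOfFiniteType (i.left ≫ G.hom) := by rw [Over.w i]; infer_instance
    exact locallyOfFiniteType_of_comp i.left G.hom
  obtain ⟨U₁, hU₁, hsep⟩ := GrothLib.GenericStage.exists_open_isSeparated G
  obtain ⟨U₂, hU₂, hci⟩ := GrothLib.GenericStage.exists_open_isClosedImmersion i fun K _ t => by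
    haveI : QuasiCompact ((Over.pullback t).map i).left :=
      MorphismProperty.of_isPullback (GrothLib.GenericStage.isPullback_pullback_map t i) ‹QuasiCompact i.left›
    haveI : LocallyOfFiniteType (Red.bc t H).hom := inferInstanceAs (LocallyOfFiniteType (pullback.snd H.hom t))
    haveI : LocallyOfFiniteType (Red.bc t G).hom := inferInstanceAs (LocallyOfFiniteType (pullback.snd G.hom t))
    exact GrothLib.Neutral.isClosedImmersion_of_quasiCompact ((Over.pullback t).map i)
  obtain ⟨U₃, hU₃, hfree⟩ := GrothLib.EssFree.exists_open_essFree H.hom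
  let U := U₁ ⊓ (U₂ ⊓ U₃)
  have hη : IsClosedImmersion η[Red.bc U.ι G].left :=
    GrothLib.GenericStage.isClosedImmersion_eta_bc U.ι G
      (GrothLib.GenericStage.map_mono @IsClosedImmersion η[G] inf_le_left hsep)
  have hiU : IsClosedImmersion ((Over.pullback U.ι).map i).left :=
    GrothLib.GenericStage.map_mono @IsClosedImmersion i (inf_le_right.trans inf_le_left) hci
  have hH : SGA3x.IsEssentiallyFree (Red.bc U.ι H).hom :=
    GrothLib.GenericStage.essFree_mono H.hom (inf_le_right.trans inf_le_right) hfree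
  refine ⟨U, nonempty_preirreducible_inter U₁.2 (U₂ ⊓ U₃).2 hU₁
    (nonempty_preirreducible_inter U₂.2 U₃.2 hU₂ hU₃), hiU, ?_⟩
  let G' := Red.bc U.ι G
  let H' := Red.bc U.ι H
  let i' : H' ⟶ G' := (Over.pullback U.ι).map i
  haveI : IsClosedImmersion i'.left := hiU
  haveI hG : LocallyOfFinitePresentation G'.hom :=
    inferInstanceAs (LocallyOfFinitePresentation (pullback.snd G.hom U.ι))
  haveI : QuasiCompact G'.hom := inferInstanceAs (QuasiCompact (pullback.snd G.hom U.ι))
  haveI : LocallyOfFinitePresentation H'.hom :=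
    inferInstanceAs (LocallyOfFinitePresentation (pullback.snd H.hom U.ι))
  haveI : QuasiCompact H'.hom := inferInstanceAs (QuasiCompact (pullback.snd H.hom U.ι))
  haveI hd : IsClosedImmersion (lift (𝟙 G') (𝟙 G')).left :=
    GrothLib.GrpSchField.diagonal_property @IsClosedImmersion hη
  have hdfp : LocallyOfFinitePresentation (lift (𝟙 G') (𝟙 G')).left := by
    refine GrothLib.GrpSchField.diagonal_property @LocallyOfFinitePresentation ?_
    haveI : LocallyOfFinitePresentation (η[G'].left ≫ G'.hom) := by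
      rw [GrothLib.GrpSchField.eta_left_hom]
      exact MorphismProperty.of_isPullback (IsPullback.of_id_snd (f := 𝟙 (U : Scheme.{u})))
        (inferInstance : LocallyOfFinitePresentation (𝟙 (U : Scheme.{u})))
    exact GrothLib.DiagGrp.lfp_of_comp_of_lft η[G'].left G'.hom inferInstance inferInstance
  -- the centraliser
  let δ : G' ⊗ H' ⟶ G' ⊗ G' := lift (fst G' H' * (snd G' H' ≫ i')) ((snd G' H' ≫ i') * fst G' H')
  have sq := (IsPullback.of_hasPullback δ (lift (𝟙 G') (𝟙 G'))).map (Over.forget _)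
  haveI : IsClosedImmersion (pullback.fst δ (lift (𝟙 G') (𝟙 G'))).left :=
    MorphismProperty.of_isPullback sq.flip hd
  have hefp : LocallyOfFinitePresentation (pullback.fst δ (lift (𝟙 G') (𝟙 G'))).left :=
    MorphismProperty.of_isPullback sq.flip hdfp
  obtain ⟨C, c, hc, hcfp, hC₀⟩ :=
    GrothLib.EssFree.exists_closed_forall_points_essFree (pullback.fst δ (lift (𝟙 G') (𝟙 G'))) hH
  haveI := hcfp inferInstance hefp
  haveI : Mono c := haveI := hc; Over.mono_of_mono_left c
  have hC : ∀ (T : Over (U : Scheme.{u})) (g : T ⟶ G'), (∃ z : T ⟶ C, z ≫ c = g) ↔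
      ∀ (T' : Over (U : Scheme.{u})) (x : T' ⟶ T) (h : T' ⟶ H'), (x ≫ g) * (h ≫ i') = (h ≫ i') * (x ≫ g) := by
    intro T g
    refine (hC₀ T g).trans (forall₃_congr fun T' s y => ?_)
    have hc' : lift (s ≫ g) y ≫ δ = lift ((s ≫ g) * (y ≫ i')) ((y ≫ i') * (s ≫ g)) := by
      have e1 := lift_fst (X := G') (Y := H') (s ≫ g) y
      have e2 := lift_snd (X := G') (Y := H') (s ≫ g) y
      simp only [δ, comp_lift, MonObj.comp_mul, e1, ← Category.assoc (lift (s ≫ g) y), e2]
    constructor
    · rintro ⟨l, hl⟩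
      have h := congrArg (· ≫ δ) hl
      simp only [Category.assoc, pullback.condition, hc', comp_lift, Category.comp_id] at h
      have h1 := congrArg (· ≫ fst G' G') h
      have h2 := congrArg (· ≫ snd G' G') h
      erw [lift_fst, lift_fst] at h1
      erw [lift_snd, lift_snd] at h2
      exact h1.symm.trans h2
    · intro h
      refine ⟨pullback.lift (lift (s ≫ g) y) ((y ≫ i') * (s ≫ g)) ?_, pullback.lift_fst _ _ _⟩
      rw [hc', comp_lift, Category.comp_id, h]
  obtain ⟨grpC, hcm⟩ := GrothLib.EssFree.exists_grpObj_of_mono c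
    (fun T => (hC T 1).2 fun T' x h => by rw [MonObj.comp_one, _root_.one_mul, _root_.mul_one])
    (fun T a b => (hC T _).2 fun T' x h => by
      have ha := (hC T _).1 ⟨a, rfl⟩ T' x h
      have hb := (hC T _).1 ⟨b, rfl⟩ T' x h
      rw [MonObj.comp_mul]
      exact (Commute.mul_left (show Commute (x ≫ a ≫ c) (h ≫ i') from ha) (show Commute (x ≫ b ≫ c) (h ≫ i') from hb)).eq)
    (fun T a => (hC T _).2 fun T' x h => by
      have ha := (hC T _).1 ⟨a, rfl⟩ T' x h
      rw [GrpObj.comp_inv]
      exact (Commute.inv_left (show Commute (x ≫ a ≫ c) (h ≫ i') from ha)).eq)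
  -- the normaliser
  haveI : QuasiCompact H'.hom := inferInstance
  obtain ⟨T₁, t, ht, hTfp, hT⟩ :=
    GrothLib.EssFree.exists_closed_transporter G' H' H' hG i' hH i' inferInstance
  haveI := ht
  haveI : IsIso ι[G'].left := GrothLib.GrpSchField.isIso_left _
  haveI htι : IsClosedImmersion (t ≫ ι[G']).left := by rw [Over.comp_left]; infer_instance
  haveI htfp : LocallyOfFinitePresentation t.left := by
    haveI : LocallyOfFinitePresentation (t.left ≫ G'.hom) := by rw [Over.w t]; infer_instance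
    exact GrothLib.DiagGrp.lfp_of_comp_of_lft t.left G'.hom inferInstance inferInstance
  have htιfp : LocallyOfFinitePresentation (t ≫ ι[G']).left := by rw [Over.comp_left]; infer_instance
  have sq₂ := (IsPullback.of_hasPullback t (t ≫ ι[G'])).map (Over.forget _)
  haveI h₁ : IsClosedImmersion (pullback.fst t (t ≫ ι[G'])).left :=
    MorphismProperty.of_isPullback sq₂.flip htι
  haveI h₂ : LocallyOfFinitePresentation (pullback.fst t (t ≫ ι[G'])).left :=
    MorphismProperty.of_isPullback sq₂.flip htιfp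
  let n : pullback t (t ≫ ι[G']) ⟶ G' := pullback.fst _ _ ≫ t
  haveI hn : IsClosedImmersion n.left := by rw [Over.comp_left]; infer_instance
  haveI hnfp : LocallyOfFinitePresentation n.left := by rw [Over.comp_left]; infer_instance
  haveI : Mono n := Over.mono_of_mono_left n
  have hinv : ∀ {T T' : Over (U : Scheme.{u})} (x : T' ⟶ T) (g : T ⟶ G'),
      (x ≫ g⁻¹)⁻¹ = x ≫ g ∧ x ≫ g⁻¹ = (x ≫ g)⁻¹ := fun x g => by
    have e : x ≫ g⁻¹ = (x ≫ g)⁻¹ := GrpObj.comp_inv _ _
    exact ⟨by rw [e]; exact _root_.inv_inv _, e⟩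
  have hN : ∀ (T : Over (U : Scheme.{u})) (g : T ⟶ G'), (∃ z, z ≫ n = g) ↔
      ∀ (T' : Over (U : Scheme.{u})) (x : T' ⟶ T) (h : T' ⟶ H'),
        (∃ h' : T' ⟶ H', (x ≫ g) * (h ≫ i') * (x ≫ g)⁻¹ = h' ≫ i') ∧
        (∃ h' : T' ⟶ H', (x ≫ g)⁻¹ * (h ≫ i') * (x ≫ g) = h' ≫ i') := by
    intro T g
    constructor
    · rintro ⟨z, rfl⟩ T' x h
      refine ⟨(hT T _).1 ⟨z ≫ pullback.fst _ _, Category.assoc _ _ _⟩ T' x h, ?_⟩
      have := (hT T (z ≫ n)⁻¹).1 ⟨z ≫ pullback.snd _ _, by
        have e := congrArg (z ≫ ·) (pullback.condition (f := t) (g := t ≫ ι[G']))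
        simp only [n, Hom.inv_def, Category.assoc] at e ⊢
        rw [reassoc_of% e, GrpObj.inv_comp_inv, Category.comp_id]⟩ T' x h
      rw [(hinv x (z ≫ n)).1, (hinv x (z ≫ n)).2] at this
      exact this
    · intro h
      obtain ⟨z₁, hz₁⟩ := (hT T g).2 fun T' x a => (h T' x a).1
      obtain ⟨z₂, hz₂⟩ := (hT T g⁻¹).2 fun T' x a => by
        rw [(hinv x g).1, (hinv x g).2]
        exact (h T' x a).2
      refine ⟨pullback.lift z₁ z₂ ?_, by rw [pullback.lift_fst_assoc, hz₁]⟩
      rw [hz₁, ← Category.assoc, hz₂, ← Hom.inv_def, _root_.inv_inv]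
  obtain ⟨grpN, hnm⟩ := GrothLib.EssFree.exists_grpObj_of_mono n
    (fun T => (hN T 1).2 fun _ _ h => ⟨⟨h, by simp⟩, ⟨h, by simp⟩⟩)
    (fun T a b => (hN T _).2 fun T' x h => by
      have ha := (hN T _).1 ⟨a, rfl⟩
      have hb := (hN T _).1 ⟨b, rfl⟩
      constructor
      · obtain ⟨x₁, hx₁⟩ := (hb T' x h).1
        obtain ⟨x₂, hx₂⟩ := (ha T' x x₁).1
        refine ⟨x₂, ?_⟩
        rw [← hx₂, ← hx₁]
        simp only [MonObj.comp_mul, _root_.mul_inv_rev, _root_.mul_assoc]
      · obtain ⟨x₁, hx₁⟩ := (ha T' x h).2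
        obtain ⟨x₂, hx₂⟩ := (hb T' x x₁).2
        refine ⟨x₂, ?_⟩
        rw [← hx₂, ← hx₁]
        simp only [MonObj.comp_mul, _root_.mul_inv_rev, _root_.mul_assoc])
    (fun T a => (hN T _).2 fun T' x h => by
      have ha := (hN T _).1 ⟨a, rfl⟩
      constructor
      · rw [(hinv x (a ≫ n)).1, (hinv x (a ≫ n)).2]
        exact (ha T' x h).2
      · rw [(hinv x (a ≫ n)).1, (hinv x (a ≫ n)).2]
        exact (ha T' x h).1)
  refine ⟨C, _, grpC, grpN, c, n, ⟨hcm, inferInstance, hC⟩, hc, ?_, ?_, ⟨hnm, inferInstance, hN⟩, hn, ?_, ?_⟩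
  · rw [← Over.w c]; infer_instance
  · rw [← Over.w c]; infer_instance
  · rw [← Over.w n]; infer_instance
  · rw [← Over.w n]; infer_instance

end Groth.Agent.S4137
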