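import Groth.Statements.S4140
import Groth.Agent.Lib.Neutral.ActOpen

set_option autoImplicit false
universe u
open CategoryTheory MonoidalCategory CartesianMonoidalCategory MonObj GrpObj AlgebraicGeometry CategoryTheory.Limits
open SGA3

namespace Groth.Agent.S4140

/-- Let G be an S-group scheme locally of finite presentation over S such that s ↦ dim G_s is locally
constant, and σ, τ two S-points of G with values in the neutral component G⁰ (their images lie in
the union of the neutral components of the fibres). Then the subscheme of coincidences of σ and τ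
(the pullback of the diagonal of G along (σ, τ)) is a closed subscheme of S. -/
theorem result (S : Scheme.{u}) (G : Over S) [GrpObj G]
    [LocallyOfFinitePresentation G.hom]
    (hdim : IsLocallyConstant (fun s : S => topologicalKrullDim ↥(G.hom.base ⁻¹' {s})))
    (σ τ : 𝟙_ (Over S) ⟶ G) (hσ : Set.range σ.left.base ⊆ SGA3x.neutralSet G)
    (hτ : Set.range τ.left.base ⊆ SGA3x.neutralSet G) :
    IsClosedImmersion (pullback.fst (lift σ τ) (lift (𝟙 G) (𝟙 G))).left := by
  have hd : ∀ t s : S, t ⤳ s → GrothLib.Neutral.fibDim G t = GrothLib.Neutral.fibDim G s :=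
    fun t s h => h.mem_open (hdim.isOpen_fiber (GrothLib.Neutral.fibDim G s)) rfl
  let Δ : G ⟶ G ⊗ G := lift (𝟙 G) (𝟙 G)
  let f := (lift σ τ).left
  have sq : IsPullback (pullback.fst (lift σ τ) Δ).left (pullback.snd (lift σ τ) Δ).left f Δ.left :=
    (IsPullback.of_hasPullback (lift σ τ) Δ).map (Over.forget S)
  haveI : IsImmersion Δ.left := inferInstanceAs (IsImmersion (pullback.diagonal G.hom))
  haveI : IsImmersion (pullback.fst (lift σ τ) Δ).left := MorphismProperty.of_isPullback sq.flip inferInstance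
  refine IsClosedImmersion.of_isPreimmersion _ ?_
  have hr : Set.range (pullback.fst (lift σ τ) Δ).left = f ⁻¹' Set.range Δ.left := by
    ext v
    constructor
    · rintro ⟨p, rfl⟩
      exact ⟨(pullback.snd (lift σ τ) Δ).left p, congr($(sq.w.symm) p)⟩
    · rintro ⟨g, hg⟩
      obtain ⟨p, hp, -⟩ := Scheme.exists_preimage_of_isPullback sq v g hg.symm
      exact ⟨p, hp⟩
  rw [hr, ← isOpen_compl_iff, isOpen_iff_forall_mem_open]
  intro v hv
  let s : S := v
  obtain ⟨_, ⟨(V : S.Opens), hV, rfl⟩, hsV, -⟩ := S.isBasis_affineOpens.exists_subset_of_mem_open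
    (Set.mem_univ s) isOpen_univ
  obtain ⟨_, ⟨(W : G.left.Opens), hW, rfl⟩, heW, hWV⟩ := G.left.isBasis_affineOpens.exists_subset_of_mem_open
    (show η[G].left s ∈ G.hom ⁻¹ᵁ V by
      change G.hom (η[G].left s) ∈ V; rw [GrothLib.Neutral.hom_unit]; exact hsV) (G.hom ⁻¹ᵁ V).2
  haveI : IsAffine W.toScheme := hW
  haveI : IsAffine V.toScheme := hV
  haveI : IsSeparated (W.ι ≫ G.hom) := by
    rw [← Scheme.Hom.resLE_comp_ι G.hom (U := V) (V := W) hWV]
    infer_instance
  let a := GrothLib.GrpSchField.mulAction G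
  let V' : G.left.Opens := ⟨GrothLib.Neutral.neutralOrbit a W, GrothLib.Neutral.isOpen_neutralOrbit a hd W⟩
  haveI : IsSeparated (V'.ι ≫ G.hom) := GrothLib.Neutral.isSeparated_neutralOrbit a hd W V' rfl
  have hV' : ∀ g ∈ SGA3x.neutralSet G, η[G].left (G.hom g) ∈ W → g ∈ V' := by
    intro g hg hgW
    refine ⟨(lift (𝟙 G) (toUnit G ≫ η[G])).left g, ⟨?_, ?_⟩, ?_⟩
    · rw [GrothLib.SepAct.left_apply (lift_fst _ _)]
      exact hg
    · rw [GrothLib.SepAct.left_apply (lift_snd _ _), Over.comp_left, Scheme.Hom.comp_apply]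
      exact hgW
    · exact GrothLib.SepAct.left_apply (show lift (𝟙 G) (toUnit G ≫ η[G]) ≫ μ[G] = 𝟙 G by
        rw [← Hom.mul_def, ← Hom.one_def, _root_.mul_one]) g
  let J : pullback (V'.ι ≫ G.hom) (V'.ι ≫ G.hom) ⟶ (G ⊗ G).left :=
    pullback.map _ _ G.hom G.hom V'.ι V'.ι (𝟙 _) (by simp) (by simp)
  have hJ : Set.range J = _ := Scheme.Pullback.range_map _ _ G.hom G.hom V'.ι V'.ι (𝟙 _) (by simp) (by simp)
  rw [Scheme.Opens.range_ι] at hJ
  have hΔ : pullback.diagonal (V'.ι ≫ G.hom) ≫ J = V'.ι ≫ Δ.left := by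
    apply pullback.hom_ext
    · rw [Category.assoc, pullback.lift_fst, ← Category.assoc, pullback.diagonal_fst, Category.id_comp,
        Category.assoc]
      change _ = V'.ι ≫ (Δ ≫ fst G G).left
      rw [lift_fst]
      exact (Category.comp_id _).symm
    · rw [Category.assoc, pullback.lift_snd, ← Category.assoc, pullback.diagonal_snd, Category.id_comp,
        Category.assoc]
      change _ = V'.ι ≫ (Δ ≫ snd G G).left
      rw [lift_snd]
      exact (Category.comp_id _).symm
  let O : Set ↥(𝟙_ (Over S)).left := (η[G].left ⁻¹' (W : Set G.left)) ∩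
    f ⁻¹' (J '' (Set.range (pullback.diagonal (V'.ι ≫ G.hom)))ᶜ)
  refine ⟨O, ?_, (W.2.preimage η[G].left.continuous).inter ((J.isOpenEmbedding.isOpenMap _
    (pullback.diagonal (V'.ι ≫ G.hom)).isClosedEmbedding.isClosed_range.isOpen_compl).preimage f.continuous), ?_⟩
  · rintro w ⟨-, p, hp, hpw⟩ ⟨x, hx⟩
    have hxV : x ∈ V' := by
      have h1 : (fst G G).left (J p) ∈ V' := (hJ.le ⟨p, rfl⟩).1
      rwa [hpw, ← hx, GrothLib.SepAct.left_apply (show Δ ≫ fst G G = 𝟙 G from lift_fst _ _)] at h1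
    refine hp ⟨⟨x, hxV⟩, J.isOpenEmbedding.injective ?_⟩
    rw [← Scheme.Hom.comp_apply, hΔ, hpw]
    exact hx
  · have hmem : ∀ ρ : 𝟙_ (Over S) ⟶ G, Set.range ρ.left.base ⊆ SGA3x.neutralSet G → ρ.left v ∈ V' := fun ρ hρ => by
      refine hV' _ (hρ ⟨v, rfl⟩) ?_
      rw [← Scheme.Hom.comp_apply ρ.left, Over.w ρ]
      exact heW
    refine ⟨heW, ?_⟩
    obtain ⟨p, hp⟩ : f v ∈ Set.range J := by
      rw [hJ]
      refine ⟨?_, ?_⟩
      · change (fst G G).left ((lift σ τ).left v) ∈ V'
        rw [GrothLib.SepAct.left_apply (lift_fst σ τ)]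
        exact hmem σ hσ
      · change (snd G G).left ((lift σ τ).left v) ∈ V'
        rw [GrothLib.SepAct.left_apply (lift_snd σ τ)]
        exact hmem τ hτ
    refine ⟨p, ?_, hp⟩
    rintro ⟨x, rfl⟩
    exact hv ⟨V'.ι x, by rw [← Scheme.Hom.comp_apply, ← hΔ]; exact hp⟩

end Groth.Agent.S4140
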