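import Groth.Statements.S4143
import Groth.Agent.Lib.GrpdThick13.Quot
import Mathlib.AlgebraicGeometry.Sites.Fpqc
-- import your own Groth.Agent.* helpers here

set_option autoImplicit false
universe u
open CategoryTheory MonoidalCategory CartesianMonoidalCategory MonObj GrpObj AlgebraicGeometry CategoryTheory.Limits
open GrpQ

namespace Groth.Agent.S4143

set_option backward.isDefEq.respectTransparency false


/-- Let A be a ring and (U, R, s, t, c) a groupoid scheme over Spec A which is an equivalence relation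
((t, s) a monomorphism) with s and t surjective, flat and of finite presentation. Let c₀ : U₀ → U be
a closed subscheme defined by a nilpotent ideal (a finite order thickening) which is saturated:
s⁻¹(U₀) and t⁻¹(U₀) are the same subscheme R₀ of R. If the induced equivalence relation R₀ ⇉ U₀ has
an fppf quotient scheme (a surjective flat locally finitely presented p₀ : U₀ → Y₀ with R₀ ≅ U₀
×_{Y₀} U₀), then so does R ⇉ U. -/
theorem result (A : Type u) [CommRing A] (G : Grpd.GroupoidScheme (Spec (CommRingCat.of A)))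
    [Mono G.j] [Surjective G.s] [Flat G.s] [LocallyOfFinitePresentation G.s] [QuasiCompact G.s] [QuasiSeparated G.s]
    [Surjective G.t] [Flat G.t] [LocallyOfFinitePresentation G.t] [QuasiCompact G.t] [QuasiSeparated G.t]
    (U₀ : Scheme.{u}) (c₀ : U₀ ⟶ G.U) (hc : MoreMor.IsFiniteOrderThickening c₀)
    (ψ : pullback G.s c₀ ≅ pullback G.t c₀) (hψ : ψ.hom ≫ pullback.fst G.t c₀ = pullback.fst G.s c₀)
    (h₀ : ∃ (Y₀ : Scheme.{u}) (p₀ : U₀ ⟶ Y₀), Surjective p₀ ∧ Flat p₀ ∧ LocallyOfFinitePresentation p₀ ∧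
      IsPullback (ψ.hom ≫ pullback.snd G.t c₀) (pullback.snd G.s c₀) p₀ p₀) :
    ∃ (Y : Scheme.{u}) (p : G.U ⟶ Y), Surjective p ∧ Flat p ∧ LocallyOfFinitePresentation p ∧ IsPullback G.t G.s p p := by
  obtain ⟨Y₀, p₀, hps, hpf, hpl, sq₀⟩ := h₀
  haveI := hps
  haveI := hpf
  haveI := hpl
  let SA := Spec (CommRingCat.of A)
  have hι : IsPullback (pullback.fst G.s c₀) (ψ.hom ≫ pullback.snd G.t c₀) G.t c₀ :=
    (IsPullback.of_hasPullback G.t c₀).of_iso ψ.symm (Iso.refl _) (Iso.refl _) (Iso.refl _)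
      (by simp [← hψ]) (by simp) (by simp) (by simp)
  let g := c₀ ≫ G.pU
  have hg : ∀ {Z : Scheme.{u}} (a b : Z ⟶ U₀), a ≫ p₀ = b ≫ p₀ → a ≫ g = b ≫ g := by
    intro Z a b hab
    obtain ⟨l, hl₁, hl₂⟩ := sq₀.exists_lift a b hab
    rw [← hl₁, ← hl₂]
    simp only [g, Category.assoc]
    rw [← pullback.condition_assoc, G.t_over, reassoc_of% hψ, ← pullback.condition_assoc, G.s_over]
  let y : Y₀ ⟶ SA := EffectiveEpi.desc p₀ g (fun a b h => hg a b h)
  have hy : p₀ ≫ y = g := EffectiveEpi.fac p₀ g _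
  let R : Over SA := Over.mk G.pR
  let U : Over SA := Over.mk G.pU
  let U' : Over SA := Over.mk g
  let R' : Over SA := Over.mk (pullback.fst G.s c₀ ≫ G.pR)
  let s : R ⟶ U := Over.homMk G.s G.s_over
  let t : R ⟶ U := Over.homMk G.t G.t_over
  let c : U' ⟶ U := Over.homMk c₀ rfl
  let q : U' ⟶ Over.mk y := Over.homMk p₀ hy
  let incl : R' ⟶ R := Over.homMk (pullback.fst G.s c₀) rfl
  have hs' : pullback.snd G.s c₀ ≫ g = pullback.fst G.s c₀ ≫ G.pR := by
    simp only [g]; rw [← pullback.condition_assoc, G.s_over]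
  have ht' : (ψ.hom ≫ pullback.snd G.t c₀) ≫ g = pullback.fst G.s c₀ ≫ G.pR := by
    simp only [g]
    rw [← Category.assoc, ← hι.w, Category.assoc, G.t_over]
  let s' : R' ⟶ U' := Over.homMk (pullback.snd G.s c₀) hs'
  let t' : R' ⟶ U' := Over.homMk (ψ.hom ≫ pullback.snd G.t c₀) ht'
  haveI : Flat s.left := ‹Flat G.s›
  haveI : LocallyOfFinitePresentation s.left := ‹LocallyOfFinitePresentation G.s›
  haveI : Flat q.left := hpf
  haveI : LocallyOfFinitePresentation q.left := hpl
  haveI : Surjective q.left := hps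
  obtain ⟨Y, p, h₁, h₂, h₃, h₄⟩ := GrothLib.GrpdThick13.exists_quot (R := R) (U := U) (s := s) (t := t)
    (GrothLib.GrpdThick13.isEqvRel_of_grpd G) c hc.1 q incl s' t'
    (GrothLib.AlgSp.isPullback_of_left hι) (Over.OverMorphism.ext pullback.condition)
    (GrothLib.AlgSp.isPullback_of_left sq₀)
  exact ⟨Y.left, p.left, h₁, h₂, h₃, h₄⟩

end Groth.Agent.S4143
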