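import Groth.Statements.S4147
import Groth.Agent.Lib.TorusImage14.Basic
-- import your own Groth.Agent.* helpers here

set_option autoImplicit false
universe u
open CategoryTheory MonoidalCategory CartesianMonoidalCategory MonObj GrpObj AlgebraicGeometry CategoryTheory.Limits
open SGA3x

namespace Groth.Agent.S4147

set_option backward.isDefEq.respectTransparency false
set_option maxHeartbeats 800000

/-- Let G and G' be S-group schemes, smooth, separated and of finite type over S, G acquiring a maximal
torus after an fpqc covering base change, and u : G → G' a homomorphism which is surjective on every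
geometric fibre. Then for every maximal torus i : T → G there is a maximal torus i' : T' → G' of G'
and a surjective flat homomorphism v : T → T' with v ≫ i' = i ≫ u (T' is the image u(T)). -/
theorem result (S : Scheme.{u}) (G G' : Over S) [GrpObj G] [GrpObj G']
    [Smooth G.hom] [IsSeparated G.hom] [QuasiCompact G.hom] [Smooth G'.hom] [IsSeparated G'.hom] [QuasiCompact G'.hom]
    (hG : SGA3x.HasMaxTorusFpqcLocally G) (u : G ⟶ G') [IsMonHom u]
    (hu : ∀ s : S, Surjective ((Over.pullback (Red.geomPt s)).map u).left)
    (T : Over S) [GrpObj T] (i : T ⟶ G) (hT : Red.IsMaximalTorus i) :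
    ∃ (T' : Over S) (_ : GrpObj T') (i' : T' ⟶ G') (v : T ⟶ T'), Red.IsMaximalTorus i' ∧ IsMonHom v ∧
      v ≫ i' = i ≫ u ∧ Surjective v.left ∧ Flat v.left := by
  obtain ⟨him, himono, hTt, hmax⟩ := hT
  haveI := him; haveI := himono
  obtain ⟨T', gT', i', v, hi', hv, hi'c, hT't, hvf, hvs, hvi⟩ :=
    GrothLib.TorusImage14.exists_image_torus (inferInstanceAs (LocallyOfFinitePresentation G'.hom)) hTt (i ≫ u)
  haveI := hi'; haveI := hv; haveI := hi'c
  haveI : Mono i' := Over.mono_of_mono_left i'
  refine ⟨T', gT', i', v, ⟨inferInstance, inferInstance, hT't, fun s R _ r _ _ f hR hf => ?_⟩, hv, hvi, hvs, hvf⟩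
  set g := Red.geomPt s
  haveI : Mono ((Over.pullback g).map i) := GrothLib.MaxTorBC14.mono_map g i
  haveI : Mono ((Over.pullback g).map i') := GrothLib.MaxTorBC14.mono_map g i'
  have hmaxK : Red.IsMaximalTorus ((Over.pullback g).map i) :=
    GrothLib.Flag27.isMaximalTorus_of_isMaxTorus ⟨inferInstance, inferInstance,
      GrothLib.MaxTorBC14.isTorus_bc g hTt, fun R' _ j _ _ f' hR' hf' => hmax s R' j f' hR' hf'⟩
  haveI : Flat ((Over.pullback g).map v).left := MorphismProperty.baseChange_map (P := @Flat) g v hvf
  haveI : Surjective ((Over.pullback g).map v).left := MorphismProperty.baseChange_map (P := @Surjective) g v hvs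
  haveI : Smooth (Red.bc g G).hom := MorphismProperty.pullback_snd (P := @Smooth) _ _ ‹Smooth G.hom›
  haveI : Smooth (Red.bc g G').hom := MorphismProperty.pullback_snd (P := @Smooth) _ _ ‹Smooth G'.hom›
  haveI : QuasiCompact (Red.bc g G).hom := MorphismProperty.pullback_snd (P := @QuasiCompact) _ _ ‹QuasiCompact G.hom›
  haveI : QuasiCompact (Red.bc g G').hom := MorphismProperty.pullback_snd (P := @QuasiCompact) _ _ ‹QuasiCompact G'.hom›
  haveI : Surjective ((Over.pullback g).map u).left := hu s
  have h := GrothLib.TorusImage14.isMaxTorus_image ((Over.pullback g).map u) ((Over.pullback g).map i) hmaxK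
    ((Over.pullback g).map i') (GrothLib.MaxTorBC14.isTorus_bc g hT't) ((Over.pullback g).map v)
    (by rw [← Functor.map_comp, ← Functor.map_comp, hvi])
  obtain ⟨-, -, -, hmax'⟩ := GrothLib.Chev24.isMaxTorus_of_isMaximalTorus h
  exact hmax' R r f hR hf

end Groth.Agent.S4147
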