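import Groth.Statements.S4149
import Groth.Agent.Lib.CentMT14.Nilp
-- import your own Groth.Agent.* helpers here

set_option autoImplicit false
universe u
open CategoryTheory MonoidalCategory CartesianMonoidalCategory MonObj GrpObj AlgebraicGeometry CategoryTheory.Limits
open SGA3x

namespace Groth.Agent.S4149

/-- Let G be an affine, connected algebraic group over a field k which is nilpotent (for some n the n-th
term of the lower central series of G(X) is trivial for every k-scheme X). Then G has a largest
subgroup of multiplicative type M — a closed subgroup scheme of multiplicative type and of finite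
type through which every such subgroup factors — and M is central in G. (The source adds that M is
characteristic and G/M unipotent.) -/
theorem result (k : Type u) [Field k] (G : Over (Spec (CommRingCat.of k)))
    [GrpObj G] [IsAffine G.left] [LocallyOfFiniteType G.hom] [ConnectedSpace ↥G.left]
    (hnil : ∃ n : ℕ, ∀ X : Over (Spec (CommRingCat.of k)), (⊤ : Subgroup (X ⟶ G)).lowerCentralSeries n = ⊥) :
    ∃ (M : Over (Spec (CommRingCat.of k))) (_ : GrpObj M) (m : M ⟶ G), IsMonHom m ∧ IsClosedImmersion m.left ∧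
      SGA3x.IsMultTypeFT M ∧
      (∀ (M' : Over (Spec (CommRingCat.of k))) [GrpObj M'] (m' : M' ⟶ G) [IsMonHom m'] [Mono m'],
        SGA3x.IsMultTypeFT M' → ∃ f : M' ⟶ M, f ≫ m = m') ∧
      ∀ (X : Over (Spec (CommRingCat.of k))) (x : X ⟶ M) (g : X ⟶ G), (x ≫ m) * g = g * (x ≫ m) := by
  obtain ⟨M, gM, m, hm, hcl, -, hMT, hc, hu⟩ := GrothLib.CentMT14.exists_reductiveCentre G
  refine ⟨M, gM, m, hm, hcl, hMT, fun M' _ m' _ _ hM' => ?_, hc⟩
  let f := 𝟙 (Spec (CommRingCat.of k))
  let l : ∀ T : Over (Spec (CommRingCat.of k)), (Over.map f).obj T ⟶ T := fun T =>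
    Over.homMk (𝟙 _) ((Category.id_comp _).trans (Category.comp_id _).symm)
  let v : M' ⟶ Red.bc f G := GrothLib.DiagGrp.bcPointMulEquiv f G M' (l M' ≫ m')
  have hv : ∀ (T : Over (Spec (CommRingCat.of k))) (x : T ⟶ M'),
      x ≫ v = GrothLib.DiagGrp.bcPointMulEquiv f G T (l T ≫ x ≫ m') := fun T x => by
    refine (GrothLib.DiagGrp.bcPoint_comp f x _).symm.trans (congrArg _ ?_)
    rw [← Category.assoc, ← Category.assoc]
    congr 1
  haveI : IsMonHom v := GrothLib.DiagGrp.isMonHom_of_points v fun T x y => by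
    rw [hv, hv, hv, MonObj.mul_comp, MonObj.comp_mul, map_mul]
  obtain ⟨w, hw⟩ := hu _ f M' v hM' fun T x g => by
    obtain ⟨g, rfl⟩ := (GrothLib.DiagGrp.bcPointMulEquiv f G T).surjective g
    rw [hv, ← map_mul, ← map_mul, ← Category.assoc,
      GrothLib.CentMT14.central_of_nilpotent hM' hnil m']
  let l' : M' ⟶ (Over.map f).obj M' := Over.homMk (𝟙 _) ((Category.id_comp _).trans (Category.comp_id _))
  refine ⟨l' ≫ (GrothLib.DiagGrp.bcPointMulEquiv f M M').symm w, ?_⟩
  have h : (GrothLib.DiagGrp.bcPointMulEquiv f M M').symm w ≫ m = l M' ≫ m' := by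
    apply (GrothLib.DiagGrp.bcPointMulEquiv f G M').injective
    refine (GrothLib.DiagGrp.bcPoint_comp_right f _ m).trans ?_
    change GrothLib.DiagGrp.bcPointMulEquiv f M M' _ ≫ _ = v
    rw [MulEquiv.apply_symm_apply]
    exact hw
  rw [Category.assoc, h, ← Category.assoc]
  exact (congrArg (· ≫ m') (Over.OverMorphism.ext (Category.id_comp _) : l' ≫ l M' = 𝟙 M')).trans (Category.id_comp _)

end Groth.Agent.S4149
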