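import Groth.Statements.S4195
import Groth.Agent.Lib.AnPts.Maps
-- import your own Groth.Agent.* helpers here

set_option autoImplicit false
open CategoryTheory AlgebraicGeometry Topology TopologicalSpace
open An

namespace Groth.Agent.S4195

/-- A morphism f : X → Y of schemes locally of finite type over ℂ is separated if and only if the
induced map X(ℂ) → Y(ℂ) is separated, i.e. distinct ℂ-points of X with the same image have disjoint
neighbourhoods (the diagonal of X(ℂ) over Y(ℂ) is closed). -/
theorem result (X Y : Scheme.{0}) [X.Over An.SC] [LocallyOfFiniteType (X ↘ An.SC)]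
    [Y.Over An.SC] [LocallyOfFiniteType (Y ↘ An.SC)] (f : X ⟶ Y) [f.IsOver An.SC] :
    IsSeparated f ↔ IsSeparatedMap (An.Pts.map f) := GrothLib.AnPts.isSeparated_iff f

end Groth.Agent.S4195
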