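import Groth.Statements.S4204
import Groth.Agent.Lib.AnPts.Maps
-- import your own Groth.Agent.* helpers here

set_option autoImplicit false
open CategoryTheory AlgebraicGeometry Topology TopologicalSpace
open An

namespace Groth.Agent.S4204

/-- Let X be a scheme locally of finite type over ℂ. Then X is separated over ℂ if and only if X(ℂ) with
the complex topology is Hausdorff. -/
theorem result (X : Scheme.{0}) [X.Over An.SC] [LocallyOfFiniteType (X ↘ An.SC)] :
    IsSeparated (X ↘ An.SC) ↔ T2Space (An.Pts X) := by
  letI : An.SC.Over An.SC := ⟨𝟙 An.SC⟩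
  haveI : LocallyOfFiniteType (An.SC ↘ An.SC) := inferInstanceAs (LocallyOfFiniteType (𝟙 An.SC))
  haveI : Scheme.Hom.IsOver (X := X) (Y := An.SC) (X ↘ An.SC) An.SC :=
    ⟨Category.comp_id _⟩
  rw [GrothLib.AnPts.isSeparated_iff (X ↘ An.SC)]
  have hsub : Subsingleton (An.Pts An.SC) := ⟨fun a b => Subtype.ext
    ((Category.comp_id _).symm.trans (a.2.trans (b.2.symm.trans (Category.comp_id _))))⟩
  constructor
  · intro h
    exact ⟨fun x y hxy => h x y (Subsingleton.elim _ _) hxy⟩
  · intro h x y _ hxy
    exact t2_separation hxy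

end Groth.Agent.S4204
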