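import Groth.Statements.S4228
import Mathlib
import Groth.Agent.Lib.Bertini16.Killing
import Groth.Agent.Lib.Bertini16.Section
import Groth.Agent.Lib.AlgMisc.SmoothRank

set_option autoImplicit false
open CategoryTheory AlgebraicGeometry
universe u
open An

namespace Groth.Agent.S4228

open AlgebraicGeometry TensorProduct GrothLib.Bertini16 CategoryTheory

universe v

set_option maxHeartbeats 1500000

theorem trdeg_residue {k S : Type v} [Field k] [CommRing S] [Algebra k S] (p : Ideal S) [p.IsPrime] :
    Algebra.trdeg k p.ResidueField = Algebra.trdeg k (S ⧸ p) := by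
  have : Algebra.IsAlgebraic (S ⧸ p) p.ResidueField := IsLocalization.isAlgebraic _ (nonZeroDivisors (S ⧸ p))
  haveI : FaithfulSMul k (S ⧸ p) := (faithfulSMul_iff_algebraMap_injective k _).2 (algebraMap k _).injective
  have h := trdeg_add_eq k (S ⧸ p) (A := p.ResidueField)
  rw [trdeg_eq_zero (R := S ⧸ p) (A := p.ResidueField), add_zero] at h
  exact h.symm

theorem transfer {k C D : Type v} [CommRing k] [CommRing C] [CommRing D] [Algebra k C] [Algebra k D] (r : ℕ)
    (e : C ≃ₐ[k] D) (h : SmoothOfRelativeDimension r (Spec.map (CommRingCat.ofHom (algebraMap k C)))) :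
    SmoothOfRelativeDimension r (Spec.map (CommRingCat.ofHom (algebraMap k D))) := by
  have hfac : Spec.map (CommRingCat.ofHom (algebraMap k D)) =
      Spec.map e.toRingEquiv.toCommRingCatIso.hom ≫ Spec.map (CommRingCat.ofHom (algebraMap k C)) := by
    rw [← Spec.map_comp]
    congr 1
    ext z
    exact (e.commutes z).symm
  rw [hfac]
  exact (MorphismProperty.cancel_left_of_respectsIso (@SmoothOfRelativeDimension.{v} r) _ _).2 h


/-- In the affine hyperplane case to which the proof reduces (the published statement is for a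
projective scheme V ⊆ P^n_k of pure dimension r and a general linear subspace of any dimension,
parametrised by a dense open subset of the Grassmannian; part (ii), hypersurfaces of degree ≥ 2
through a point, is not stated here): let k be an infinite field (for a finite field the condition
below on coefficient vectors could hold at no rational point, so the dense-open formulation is
rendered only for infinite k) and A = k[x_1, …, x_n]/I a quotient of the polynomial ring (V = Spec A
⊆ A^n_k) such that every irreducible component of V has dimension r. Then there is a nonzero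
polynomial g in the n + 1 coefficients such that for every a = (a_0, …, a_n) with g(a) ≠ 0 the
hyperplane a_0 + Σ a_i x_i = 0 cuts V transversally at every point of the hyperplane section where V
is smooth over k: the section Spec (A/(a_0 + Σ a_i x_i)) is smooth over k of relative dimension r −
1 on a neighbourhood of each such point. -/
theorem result (k : Type u) [Field k] [Infinite k] (n r : ℕ) (A : Type u) [CommRing A]
    [Algebra k A] (x : Fin n → A)
    (hx : Function.Surjective (MvPolynomial.aeval x : MvPolynomial (Fin n) k →ₐ[k] A))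
    (hdim : ∀ P ∈ minimalPrimes A, ringKrullDim (A ⧸ P) = r) :
    ∃ g : MvPolynomial (Fin (n + 1)) k, g ≠ 0 ∧
      ∀ a : Fin (n + 1) → k, MvPolynomial.eval a g ≠ 0 →
        ∀ (q : Ideal (A ⧸ Ideal.span {algebraMap k A (a 0) + ∑ i : Fin n, algebraMap k A (a i.succ) * x i}))
          (_ : q.IsPrime),
          (∃ f : A, f ∉ q.comap (Ideal.Quotient.mk _) ∧
            Smooth (Spec.map (CommRingCat.ofHom (algebraMap k (Localization.Away f))))) →
          ∃ f : A ⧸ Ideal.span {algebraMap k A (a 0) + ∑ i : Fin n, algebraMap k A (a i.succ) * x i},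
            f ∉ q ∧ SmoothOfRelativeDimension (r - 1)
              (Spec.map (CommRingCat.ofHom (algebraMap k (Localization.Away f)))) := by
  classical
  haveI : Algebra.FiniteType k A := Algebra.FiniteType.of_surjective (MvPolynomial.aeval x) hx
  haveI : IsNoetherianRing A := Algebra.FiniteType.isNoetherianRing k A
  haveI : Algebra.FinitePresentation k A := Algebra.FinitePresentation.of_finiteType.1 inferInstance
  -- the killing polynomials
  have key : ∀ P : minimalPrimes A, ∃ g : MvPolynomial (Fin (n + 1)) k, g ≠ 0 ∧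
      haveI : P.1.IsPrime := P.2.1.1
      Algebra.trdeg k P.1.ResidueField = r ∧
      ∀ (N : ℕ) (b : Fin N → (Fin n → P.1.ResidueField)),
        (∀ j, ∑ i, b j i • KaehlerDifferential.D k P.1.ResidueField (algebraMap A P.1.ResidueField (x i)) = 0) →
        MvPolynomial.aeval (pt (fun i => MvPolynomial.C (algebraMap A P.1.ResidueField (x i))) (gen b)) g = 0 := by
    intro P
    haveI : P.1.IsPrime := P.2.1.1
    let K := P.1.ResidueField
    have htr : Algebra.trdeg k K = r := by
      obtain ⟨m, hm, hm'⟩ := GrothLib.Dim.exists_nat_trdeg_eq_and_ringKrullDim_eq k (A ⧸ P.1)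
      rw [hdim P.1 P.2] at hm'
      rw [trdeg_residue, hm]
      exact_mod_cast hm'.symm
    have hspan : Submodule.span K (Set.range fun i => KaehlerDifferential.D k K (algebraMap A K (x i))) = ⊤ := by
      refine span_D_eq_top _ fun c => ?_
      obtain ⟨u, ⟨w, hw⟩, rfl⟩ := IsLocalization.exists_mk'_eq (nonZeroDivisors (A ⧸ P.1)) c
      obtain ⟨u, rfl⟩ := Ideal.Quotient.mk_surjective u
      obtain ⟨w, rfl⟩ := Ideal.Quotient.mk_surjective w
      obtain ⟨p, rfl⟩ := hx u
      obtain ⟨s, rfl⟩ := hx w
      have hc : ∀ p : MvPolynomial (Fin n) k, MvPolynomial.aeval (fun i => algebraMap A K (x i)) p = algebraMap A K (MvPolynomial.aeval x p) :=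
        fun p => MvPolynomial.aeval_algebraMap_apply K x p
      refine ⟨p, s, ?_, ?_⟩
      · rw [hc, IsScalarTower.algebraMap_apply A (A ⧸ P.1) K]
        exact IsLocalization.map_units K (⟨_, hw⟩ : nonZeroDivisors (A ⧸ P.1))
      · rw [hc, hc, IsScalarTower.algebraMap_apply A (A ⧸ P.1) K, IsScalarTower.algebraMap_apply A (A ⧸ P.1) K (MvPolynomial.aeval x p)]
        exact IsLocalization.mk'_spec K _ (⟨_, hw⟩ : nonZeroDivisors (A ⧸ P.1))
    haveI : Algebra.EssFiniteType A K := by
      haveI : Algebra.EssFiniteType (A ⧸ P.1) K := Algebra.EssFiniteType.of_isLocalization K (nonZeroDivisors (A ⧸ P.1))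
      exact Algebra.EssFiniteType.comp A (A ⧸ P.1) K
    haveI : Algebra.EssFiniteType k K := Algebra.EssFiniteType.comp k A K
    obtain ⟨g, hg0, hg⟩ := exists_killing K (fun i => algebraMap A K (x i)) hspan r htr
    exact ⟨g, hg0, htr, hg⟩
  choose G hG0 hGr hG using key
  haveI : Fintype (minimalPrimes A) := (minimalPrimes.finite_of_isNoetherianRing A).fintype
  refine ⟨∏ P, G P, Finset.prod_ne_zero_iff.2 fun P _ => hG0 P, fun a ha q hq hsm => ?_⟩
  haveI := hq
  let q0 := q.comap (Ideal.Quotient.mk _)
  obtain ⟨f0, hf0, hsm0⟩ := hsm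
  -- a standard smooth neighbourhood
  haveI : Algebra.IsSmoothAt k q0 := by
    have h1 : (algebraMap k (Localization.Away f0)).Smooth := (HasRingHomProperty.Spec_iff (P := @Smooth)).1 hsm0
    rw [RingHom.smooth_algebraMap] at h1
    exact (Algebra.basicOpen_subset_smoothLocus_iff_smooth.2 h1) (show (⟨q0, inferInstance⟩ : PrimeSpectrum A) ∈ PrimeSpectrum.basicOpen f0 from hf0)
  obtain ⟨f, hf, hstd⟩ := Algebra.IsSmoothAt.exists_notMem_isStandardSmooth k q0
  let B := Localization.Away f
  haveI := hstd
  have hdisj : Disjoint (Submonoid.powers f : Set A) q0 := (Ideal.disjoint_powers_iff_notMem_of_isPrime f).2 hf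
  let qB := q0.map (algebraMap A B)
  haveI hqB : qB.IsPrime := IsLocalization.isPrime_of_isPrime_disjoint (.powers f) B q0 inferInstance hdisj
  haveI : Nontrivial B := by
    refine ⟨0, 1, fun h => hqB.ne_top ((Ideal.eq_top_iff_one _).2 (h ▸ qB.zero_mem))⟩
  obtain ⟨P, hP, hPq⟩ := Ideal.exists_minimalPrimes_le (bot_le : (⊥ : Ideal A) ≤ q0)
  haveI : P.IsPrime := hP.1.1
  have hfP : f ∉ P := fun h => hf (hPq h)
  let Pm : minimalPrimes A := ⟨P, hP⟩
  let K := P.ResidueField
  have hu : ∀ y : Submonoid.powers f, IsUnit (algebraMap A K y) := by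
    rintro ⟨_, m, rfl⟩
    rw [map_pow]
    exact (isUnit_iff_ne_zero.2 (mt Ideal.algebraMap_residueField_eq_zero.1 hfP)).pow m
  let χ : B →ₐ[k] K := IsLocalization.liftAlgHom (M := Submonoid.powers f) (f := IsScalarTower.toAlgHom k A K) hu
  have hχ : ∀ z, χ (algebraMap A B z) = algebraMap A K z := fun z => IsLocalization.lift_eq _ z
  let y : Fin n → B := fun i => algebraMap A B (x i)
  have hker : RingHom.ker χ ≤ qB := fun z hz => by
    obtain ⟨u, w, rfl⟩ := IsLocalization.exists_mk'_eq (Submonoid.powers f) z
    rw [IsLocalization.mk'_mem_iff]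
    refine Ideal.mem_map_of_mem _ (hPq (Ideal.algebraMap_residueField_eq_zero.1 ?_))
    rw [← hχ, ← IsLocalization.mk'_spec B u w, map_mul, show χ (IsLocalization.mk' B u w) = 0 from hz, zero_mul]
  obtain ⟨_, _, _, _, ⟨Pr⟩⟩ := hstd.out
  let d := Pr.dimension
  haveI : Algebra.IsStandardSmoothOfRelativeDimension d k B := ⟨_, _, _, ‹_›, Pr, rfl⟩
  have hrk := Algebra.IsStandardSmoothOfRelativeDimension.rank_kaehlerDifferential (R := k) (S := B) d
  haveI : Module.Finite B Ω[B⁄k] := Module.finite_of_rank_eq_nat hrk
  let bas := Module.finBasisOfFinrankEq B Ω[B⁄k] (Module.finrank_eq_of_rank_eq hrk)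
  have hspanB : Submodule.span B (Set.range fun i => KaehlerDifferential.D k B (y i)) = ⊤ := by
    refine span_D_eq_top _ fun c => ?_
    obtain ⟨u, ⟨w, hw⟩, rfl⟩ := IsLocalization.exists_mk'_eq (Submonoid.powers f) c
    obtain ⟨p, rfl⟩ := hx u
    obtain ⟨s, rfl⟩ := hx w
    have hc : ∀ p : MvPolynomial (Fin n) k, MvPolynomial.aeval y p = algebraMap A B (MvPolynomial.aeval x p) :=
      fun p => MvPolynomial.aeval_algebraMap_apply B x p
    refine ⟨p, s, ?_, ?_⟩ <;> simp only [hc]
    · exact IsLocalization.map_units B (⟨_, hw⟩ : Submonoid.powers f)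
    · exact IsLocalization.mk'_spec B _ (⟨_, hw⟩ : Submonoid.powers f)
  -- the dimension
  have hdr : d = r := by
    let P2 : Ideal B := RingHom.ker χ
    haveI : P2.IsPrime := RingHom.ker_isPrime _
    have hcomap : P2.comap (algebraMap A B) = P := by
      ext z
      rw [Ideal.mem_comap, RingHom.mem_ker, hχ, Ideal.algebraMap_residueField_eq_zero]
    have hmin : P2.height = 0 := by
      rw [Ideal.height_eq_zero_iff]
      refine ⟨⟨inferInstance, bot_le⟩, fun Q hQ hle => ?_⟩
      haveI := hQ.1
      have h1 : P ≤ Q.comap (algebraMap A B) := hP.2 ⟨inferInstance, bot_le⟩ ((Ideal.comap_mono hle).trans hcomap.le)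
      rw [← IsLocalization.map_comap (Submonoid.powers f) B P2, show Ideal.under A P2 = P from hcomap]
      exact Ideal.map_le_iff_le_comap.2 h1
    have ht : Algebra.trdeg k P2.ResidueField = r := by
      rw [trdeg_residue]
      refine le_antisymm ?_ ?_
      · refine le_of_le_of_eq (trdeg_le_of_injective (Ideal.Quotient.liftₐ P2 χ fun z hz => hz)
          (RingHom.lift_injective_of_ker_le_ideal _ _ le_rfl)) (hGr Pm)
      · refine le_of_eq_of_le ((hGr Pm).symm.trans (trdeg_residue P)) (trdeg_le_of_injective
          (Ideal.quotientMapₐ P2 (IsScalarTower.toAlgHom k A B) hcomap.ge) ?_)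
        exact Ideal.quotientMap_injective' (H := hcomap.ge) hcomap.le
    have h1 := (Groth.Agent.S2141.result P2 r ht).symm.trans
      (Groth.Agent.Lib.AlgMisc.SmoothRank.localDim_standardSmooth (k := k) d B P2)
    rw [IsLocalization.AtPrime.ringKrullDim_eq_height P2 (Localization.AtPrime P2), hmin] at h1
    norm_num at h1
    exact h1.symm
  -- the coordinate of the differential not vanishing at the point
  let hA := algebraMap k A (a 0) + ∑ i : Fin n, algebraMap k A (a i.succ) * x i
  let hB := algebraMap A B hA
  have hDh : KaehlerDifferential.D k B hB = ∑ i : Fin n, algebraMap k B (a i.succ) • KaehlerDifferential.D k B (y i) := by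
    simp only [hB, hA, map_add, map_sum, map_mul, ← IsScalarTower.algebraMap_apply, Derivation.map_algebraMap, zero_add]
    refine Finset.sum_congr rfl fun i _ => ?_
    rw [Derivation.leibniz, Derivation.map_algebraMap, smul_zero, add_zero]
  obtain ⟨s, hs⟩ : ∃ s, bas.repr (KaehlerDifferential.D k B hB) s ∉ qB := by
    by_contra! hbad
    rw [MvPolynomial.eval_prod, Finset.prod_ne_zero_iff] at ha
    refine ha Pm (Finset.mem_univ _) (eval_eq_zero_of_bad χ y qB hker bas hspanB (G Pm) ?_ a ?_ ?_)
    · intro N b hb
      simp only [y, hχ] at hb ⊢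
      exact hG Pm N b hb
    · have h1 : hA ∈ q0 := by
        show Ideal.Quotient.mk _ hA ∈ q
        rw [Ideal.Quotient.eq_zero_iff_mem.2 (Ideal.mem_span_singleton_self hA)]
        exact q.zero_mem
      have h2 := Ideal.mem_map_of_mem (algebraMap A B) h1
      simpa [hA, y, map_add, map_sum, map_mul, ← IsScalarTower.algebraMap_apply] using h2
    · rw [← hDh]; exact hbad
  -- invert that coordinate
  let c := bas.repr (KaehlerDifferential.D k B hB) s
  let B2 := Localization.Away c
  let F := f * (IsLocalization.Away.sec f c).1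
  haveI : IsLocalization.Away F B2 :=
    .mul_of_associated _ _ c <| IsLocalization.Away.associated_sec_fst f c
  have hF : F ∉ q0 := by
    refine Ideal.IsPrime.mul_notMem inferInstance hf fun hmem => hs ?_
    show c ∈ qB
    rw [Ideal.mem_iff_of_associated (IsLocalization.Away.associated_sec_fst f c).symm]
    exact Ideal.mem_map_of_mem (algebraMap A B) hmem
  haveI : Algebra.Smooth B B2 :=
    { formallySmooth := Algebra.FormallySmooth.of_isLocalization (Submonoid.powers c),
      finitePresentation := IsLocalization.Away.finitePresentation c }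
  haveI : Algebra.Smooth k B2 := Algebra.Smooth.comp k B B2
  haveI : Algebra.FormallyEtale B B2 := Algebra.FormallyEtale.of_isLocalization (Submonoid.powers c)
  let eq2 := KaehlerDifferential.tensorKaehlerEquivOfFormallyEtale k B B2
  let b2 := (bas.baseChange B2).map eq2
  have hcu : IsUnit (algebraMap B B2 c) := IsLocalization.map_units B2 (⟨c, 1, pow_one c⟩ : Submonoid.powers c)
  let h2 := algebraMap B B2 hB
  have hD2 : b2.coord s (KaehlerDifferential.D k B2 h2) = algebraMap B B2 c := by
    have he : eq2.symm (KaehlerDifferential.D k B2 h2) = 1 ⊗ₜ KaehlerDifferential.D k B hB := by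
      rw [LinearEquiv.symm_apply_eq]
      simp [eq2, h2, KaehlerDifferential.mapBaseChange_tmul]
      exact (one_smul B2 (KaehlerDifferential.D k B2 (algebraMap B B2 hB) : Ω[B2⁄k])).symm
    simp only [b2, Module.Basis.coord_apply, Module.Basis.map_repr, LinearEquiv.trans_apply, he,
      Module.Basis.baseChange_repr_tmul]
    rw [Algebra.smul_def, mul_one]
  have hsec := smoothOfRelativeDimension_section (k := k) h2 d b2 ((↑hcu.unit⁻¹ : B2) • b2.coord s) (by
    rw [LinearMap.smul_apply, hD2, smul_eq_mul, IsUnit.val_inv_mul])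
  haveI : IsNoetherianRing B2 := IsLocalization.isNoetherianRing (Submonoid.powers F) B2 inferInstance
  refine ⟨Ideal.Quotient.mk _ F, hF, ?_⟩
  -- identify the two localizations
  let J : Ideal A := Ideal.span {hA}
  let C' := B2 ⧸ J.map (algebraMap A B2)
  haveI : IsLocalization.Away (Ideal.Quotient.mk J F) C' := by
    have e : Algebra.algebraMapSubmonoid (A ⧸ J) (Submonoid.powers F) = Submonoid.powers (Ideal.Quotient.mk J F) :=
      Submonoid.map_powers _ _
    show IsLocalization (Submonoid.powers (Ideal.Quotient.mk J F)) C'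
    rw [← e]
    infer_instance
  have hJ : Ideal.span {h2} = J.map (algebraMap A B2) := by
    rw [Ideal.map_span, Set.image_singleton, IsScalarTower.algebraMap_apply A B B2]
  haveI : IsScalarTower k (A ⧸ J) C' := IsScalarTower.of_algebraMap_eq fun z => by
    show Ideal.Quotient.mk _ (algebraMap k B2 z) = Ideal.Quotient.mk _ (algebraMap A B2 (algebraMap k A z))
    rw [← IsScalarTower.algebraMap_apply]
  let E : (B2 ⧸ Ideal.span {h2}) ≃ₐ[k] Localization.Away (Ideal.Quotient.mk J F) :=
    (Ideal.quotientEquivAlgOfEq k hJ).trans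
      ((IsLocalization.algEquiv (Submonoid.powers (Ideal.Quotient.mk J F)) C' (Localization.Away (Ideal.Quotient.mk J F))).restrictScalars k)
  rw [← hdr]
  exact transfer (d - 1) E hsec


end Groth.Agent.S4228
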