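import Groth.Statements.S4243
import Mathlib.Combinatorics.Nullstellensatz
import Mathlib.Tactic.LinearCombination

set_option autoImplicit false
open SGA4h

namespace Groth.Agent.S4243

theorem red_zero (k : Type) [Field k] [Fintype k] (σ : Type) [Fintype σ]
    (P : MvPolynomial σ k) (hdeg : ∀ e ∈ P.support, ∀ i, e i < Fintype.card k)
    (hvan : ∀ x, MvPolynomial.eval x P = 0) : P = 0 := by
  refine MvPolynomial.eq_zero_of_eval_zero_at_prod_finset P (fun _ => Finset.univ) (fun i => ?_) (fun x _ => hvan x)
  rw [Finset.card_univ, MvPolynomial.degreeOf_lt_iff Fintype.card_pos]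
  exact fun e he => hdeg e he i

/-- Let k be a finite field with q elements and P a nonzero homogeneous polynomial of degree d in r+1
variables over k. If P vanishes at every point of k^{r+1} (that is, the hypersurface P = 0 in
projective r-space passes through every rational point), then d ≥ q + 1. -/
theorem result (k : Type) [Field k] [Fintype k] (r d : ℕ)
    (P : MvPolynomial (Fin (r + 1)) k) (hP : P.IsHomogeneous d) (hP0 : P ≠ 0)
    (hvan : ∀ x : Fin (r + 1) → k, MvPolynomial.eval x P = 0) :
    Fintype.card k + 1 ≤ d := by
  classical
  by_contra hlt
  have hd : d ≤ Fintype.card k := by omega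
  have hq : 1 < Fintype.card k := Fintype.one_lt_card
  have hdeg : ∀ e ∈ P.support, Finsupp.degree e = d := fun e he => by
    rw [Finsupp.degree_eq_weight_one]; exact hP (MvPolynomial.mem_support_iff.mp he)
  rcases hd.lt_or_eq with h | rfl
  · refine hP0 (red_zero k _ P (fun e he i => ?_) hvan)
    have := Finsupp.le_degree i e
    rw [hdeg e he] at this; omega
  -- replace x_i ^ q by x_i
  let q := Fintype.card k
  let P' : MvPolynomial (Fin (r + 1)) k :=
    P - ∑ i, MvPolynomial.C (P.coeff (Finsupp.single i q)) * (MvPolynomial.X i ^ q - MvPolynomial.X i)
  have hv' : ∀ x, MvPolynomial.eval x P' = 0 := fun x => by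
    simp [P', hvan, q, FiniteField.pow_card]
  have hcoeff : ∀ e, P'.coeff e = P.coeff e
      - ∑ i, P.coeff (Finsupp.single i q) * ((if Finsupp.single i q = e then 1 else 0) - (if Finsupp.single i 1 = e then 1 else 0)) := by
    intro e
    simp [P', MvPolynomial.coeff_sum, MvPolynomial.coeff_C_mul, MvPolynomial.coeff_X_pow, MvPolynomial.coeff_X']
  have hP' : P' = 0 := by
    refine red_zero k _ P' (fun e he i => ?_) hv'
    by_contra hei
    rw [not_lt] at hei
    apply MvPolynomial.mem_support_iff.mp he
    rw [hcoeff]
    have hsingle1 : ∀ j, Finsupp.single j 1 ≠ e := fun j h => by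
      have := hei; rw [← h, Finsupp.single_apply] at this; split_ifs at this <;> omega
    by_cases hs : e = Finsupp.single i q
    · subst hs
      rw [Finset.sum_eq_single i]
      · simp [hsingle1 i, q]
      · intro j _ hj
        rw [if_neg (fun h => hj ((Finsupp.single_left_injective (show q ≠ 0 by omega)) h)), if_neg (hsingle1 j)]
        simp
      · simp
    · have : P.coeff e = 0 := by
        by_contra hne
        apply hs
        have hd2 := hdeg e (MvPolynomial.mem_support_iff.mpr hne)
        ext j
        rcases eq_or_ne j i with rfl | hj
        · have := Finsupp.le_degree j e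
          simp only [Finsupp.single_eq_same, q]; omega
        · rw [Finsupp.single_eq_of_ne hj]
          have hle : e i + e j ≤ Finsupp.degree e := by
            rw [Finsupp.degree_eq_sum, ← Finset.sum_pair hj.symm]
            exact Finset.sum_le_univ_sum_of_nonneg (fun _ => Nat.zero_le _)
          omega
      rw [this, Finset.sum_eq_zero, sub_zero]
      intro j _
      rw [if_neg (hsingle1 j), if_neg]
      · simp
      · intro h
        rcases eq_or_ne j i with rfl | hj
        · exact hs h.symm
        · rw [← h, Finsupp.single_eq_of_ne hj.symm] at hei; omega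
  apply hP0
  have h1 : ∀ i, P.coeff (Finsupp.single i q) = 0 := by
    intro i
    have h := hcoeff (Finsupp.single i 1)
    rw [hP', MvPolynomial.coeff_zero, Finset.sum_eq_single i] at h
    · have hz : P.coeff (Finsupp.single i 1) = 0 := by
        by_contra hne
        have := hdeg _ (MvPolynomial.mem_support_iff.mpr hne)
        simp at this; omega
      rw [hz, if_neg (fun hh => by
        have := DFunLike.congr_fun hh i; simp [q] at this; omega), if_pos rfl] at h
      linear_combination -h
    · intro j _ hj
      rw [if_neg (fun hh => hj ?_), if_neg (fun hh => hj (Finsupp.single_left_injective one_ne_zero hh))]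
      · simp
      · have := DFunLike.congr_fun hh i
        by_contra hne
        rw [Finsupp.single_eq_of_ne (Ne.symm hne)] at this; simp at this
    · simp
  simpa [P', h1] using hP'

end Groth.Agent.S4243
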