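import Groth.Statements.S4256
import Mathlib.Algebra.BigOperators.Ring.Finset
import Mathlib.Data.Fintype.Pi
import Mathlib.Tactic.LinearCombination

set_option autoImplicit false
open scoped BigOperators
open SGA4h

namespace Groth.Agent.S4256

/-- Let k be a finite field, ψ a nontrivial additive character of k with values in a domain R, and n ≥
1. Then the generalised Kloosterman sum with parameter 0, Σ ψ(x_1 + ⋯ + x_n) over all (x_1, …, x_n)
∈ k^n with x_1 ⋯ x_n = 0, equals (-1)^{n-1}. -/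
theorem result (k : Type) [Field k] [Fintype k] [DecidableEq k] (R : Type) [CommRing R] [IsDomain R]
    (ψ : AddChar k R) (hψ : ψ ≠ 1) (n : ℕ) (hn : 1 ≤ n) :
    ∑ x ∈ (Finset.univ : Finset (Fin n → k)).filter (fun x => ∏ i, x i = 0), ψ (∑ i, x i) = (-1) ^ (n - 1) := by
  have hs : ∑ x : k, ψ x = 0 := AddChar.sum_eq_zero_of_ne_one hψ
  have hu : ∑ x ∈ (Finset.univ : Finset k).erase 0, ψ x = -1 := by
    rw [← Finset.add_sum_erase _ _ (Finset.mem_univ (0 : k)), ψ.map_zero_eq_one] at hs
    exact eq_neg_of_add_eq_zero_right hs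
  have hψsum : ∀ x : Fin n → k, ψ (∑ i, x i) = ∏ i, ψ (x i) := fun x => by
    refine Finset.induction_on (motive := fun s => ψ (∑ i ∈ s, x i) = ∏ i ∈ s, ψ (x i)) _ (by simp) ?_
    intro a s ha ih
    rw [Finset.sum_insert ha, Finset.prod_insert ha, AddChar.map_add_eq_mul, ih]
  simp only [hψsum]
  have hall : ∑ x : Fin n → k, ∏ i, ψ (x i) = 0 := by
    rw [← Fintype.prod_sum fun _ : Fin n => (fun a : k => ψ a)]
    simp [hs, zero_pow (by omega : n ≠ 0)]
  have hnz : ∑ x ∈ (Finset.univ : Finset (Fin n → k)).filter (fun x => ¬ ∏ i, x i = 0), ∏ i, ψ (x i) = (-1) ^ n := by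
    have : (Finset.univ : Finset (Fin n → k)).filter (fun x => ¬ ∏ i, x i = 0)
        = Fintype.piFinset fun _ => (Finset.univ : Finset k).erase 0 := by
      ext x; simp [Finset.prod_eq_zero_iff]
    rw [this, Finset.sum_prod_piFinset _ (fun _ a => ψ a)]
    simp [hu]
  rw [← Finset.sum_filter_add_sum_filter_not _ (fun x : Fin n → k => ∏ i, x i = 0), hnz] at hall
  obtain ⟨j, rfl⟩ : ∃ j, n = j + 1 := ⟨n - 1, by omega⟩
  rw [pow_succ] at hall
  simp only [Nat.add_sub_cancel]
  linear_combination hall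

end Groth.Agent.S4256
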