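import Groth.Statements.S4265
import Groth.Agent.Lib.KSix19.ProjPush.Amplitude
-- import your own Groth.Agent.* helpers here

set_option autoImplicit false
universe u
open CategoryTheory CategoryTheory.Limits AlgebraicGeometry
attribute [local instance] HasDerivedCategory.standard
open KSix

namespace Groth.Agent.S4265

/-- Let Y be an affine scheme, X = P^r_Y with projection f : X ⟶ Y, and E an object of D(O_X) which is
pseudo-coherent with bounded cohomology, acyclic in degrees > a. Assuming the total derived functor
Rf_* exists, Rf_*E is acyclic in degrees > a + r. -/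
theorem result (Y : Scheme.{u}) [IsAffine Y] (r : ℕ)
    [DCoh.HasRpush (CohB1.ProjSpaceOver.toBase r Y)]
    (E : DCoh.D (CohB1.ProjSpaceOver r Y)) (hE : ∀ m : ℤ, DCoh.IsPseudoCoherentD m E)
    (a b : ℤ) [E.IsGE b] [E.IsLE a] :
    ((DCoh.Rpush (CohB1.ProjSpaceOver.toBase r Y)).obj E).IsLE (a + r) := by
  refine GrothLib.KSix19.ProjPush.isLE_Rpush r Y E (fun i => ?_) b a
  exact GrothLib.OX.isQCoh_HD_of_pseudoCoherent (hE (i - 1)) (by omega)

end Groth.Agent.S4265
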