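import Groth.Statements.S4267
import Groth.Agent.Lib.KSix19.RelNoeth.Perf
-- import your own Groth.Agent.* helpers here

set_option autoImplicit false
universe u
open CategoryTheory CategoryTheory.Limits AlgebraicGeometry
attribute [local instance] HasDerivedCategory.standard
open KSix

namespace Groth.Agent.S4267

/-- In the case where the base is locally Noetherian: let f : X ⟶ Y be a proper morphism which is
perfect (affine-locally of finite tor-dimension and pseudo-coherent), with Y locally Noetherian, and
E a bounded below perfect object of D(O_X). Assuming Rf_* exists, Rf_*E is a perfect object of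
D(O_Y). -/
theorem result {X Y : Scheme.{u}} [IsLocallyNoetherian Y] (f : X ⟶ Y) [IsProper f]
    (hf : MoreMor.IsPerfectMor f) [DCoh.HasRpush f] (E : DCoh.D X) (b : ℤ) [E.IsGE b] (hE : DCoh.IsPerfect E) :
    DCoh.IsPerfect ((DCoh.Rpush f).obj E) := GrothLib.KSix19.RelNoeth.isPerfect_Rpush f hf E b hE

end Groth.Agent.S4267
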