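import Groth.Statements.S4278
import Groth.Agent.Lib.FGAInt26.AlgEquiv

set_option autoImplicit false
universe u
open CategoryTheory CategoryTheory.Limits AlgebraicGeometry
open Pic13

namespace Groth.Agent.S4278

/-- Let k be an algebraically closed field, X a proper k-scheme and L an invertible O_X-module which is
τ-equivalent to zero. Then L is numerically equivalent to zero: its restriction to every integral
closed curve Y ⊆ X has degree χ(L|_Y) - χ(O_Y) = 0. -/
theorem result (k : Type u) [Field k] [IsAlgClosed k] (X : Scheme.{u}) [X.Over (Spec (CommRingCat.of k))]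
    [IsProper (X ↘ Spec (CommRingCat.of k))]
    (L : X.Modules) (hL : PicF.IsInvertible L) (hτ : Pic13.IsTauEquivZero k X L) : Pic13.IsNumEquivZero k X L := by
  intro Y i _ _ hY
  haveI := GrothLib.Euler.isNoetherian_of_proper (X := X) k
  obtain ⟨d, hd⟩ := GrothLib.FGAInt26.exists_dim_le k X
  rw [GrothLib.FGAInt26.curveDeg_eq k i hY (GrothLib.Cube.hasCls_clsMod hL),
    GrothLib.FGAInt26.ev_tauEquiv k hL hτ hd (GrothLib.QCoh.pushUnit_isCoh i), sub_self]

end Groth.Agent.S4278
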