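import Groth.Statements.S4280
import Groth.Agent.Lib.NumTau26.AmpleTwist
import Groth.Agent.Lib.Poincare.TensorInv
import Groth.Agent.S4278

set_option autoImplicit false
universe u
open CategoryTheory CategoryTheory.Limits AlgebraicGeometry
open Pic13

namespace Groth.Agent.S4280

/-- Let k be an algebraically closed field, X a proper k-scheme carrying an ample invertible module H,
and L an invertible O_X-module, with inverse L', which is τ-equivalent to zero. Then L^{⊗ m} ⊗ H and
L'^{⊗ m} ⊗ H are ample for every m ≥ 0. -/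
theorem result (k : Type u) [Field k] [IsAlgClosed k] (X : Scheme.{u}) [X.Over (Spec (CommRingCat.of k))]
    [IsProper (X ↘ Spec (CommRingCat.of k))]
    (H : X.Modules) (hH : CohB1.IsAmple H) (L L' : X.Modules) (hL : PicF.IsInvertible L)
    (hLL' : Nonempty (CohB1.tensorMod L L' ≅ Coh.structureModule X)) (hτ : Pic13.IsTauEquivZero k X L) (m : ℕ) :
    CohB1.IsAmple (CohB1.tensorMod (CohB1.tensorPow L m) H) ∧ CohB1.IsAmple (CohB1.tensorMod (CohB1.tensorPow L' m) H) := by
  have hnum := Groth.Agent.S4278.result k X L hL hτ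
  obtain ⟨e⟩ := hLL'
  have hL' := GrothLib.KL.isInvertible_of_tensor_iso e hL GrothLib.Euler.isInvertible_structure
  have hz := GrothLib.Cube.hasCls_clsMod hL
  have hw := GrothLib.Cube.hasCls_clsMod hL'
  have h1 := (GrothLib.NumReg26.numCls_iff k hz).2 hnum
  have h2 : GrothLib.Cube.clsMod hL' = (GrothLib.Cube.clsMod hL)⁻¹ :=
    eq_inv_of_mul_eq_one_right ((hz.tensor hw).eq (GrothLib.Cube.hasCls_structureModule X) ⟨e⟩)
  exact ⟨GrothLib.NumTau26.isAmple_tensorMod_numTrivial hH (hz.tensorPow m).1
      ((GrothLib.NumReg26.numCls_iff k (hz.tensorPow m)).1 (h1.pow k m)),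
    GrothLib.NumTau26.isAmple_tensorMod_numTrivial hH (hw.tensorPow m).1
      ((GrothLib.NumReg26.numCls_iff k (hw.tensorPow m)).1 ((h2 ▸ h1.inv k).pow k m))⟩

end Groth.Agent.S4280
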