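import Groth.Statements.S4285
import Groth.Agent.Lib.BddFam20.Embedded

set_option autoImplicit false
set_option maxHeartbeats 1000000
set_option linter.style.haveILetI false
set_option backward.isDefEq.respectTransparency.types false
universe u
open CategoryTheory CategoryTheory.Limits AlgebraicGeometry
open Pic13

namespace Groth.Agent.S4285

/-- (iii) implies (i), over the base S = Spec k with k algebraically closed: let X ⊆ P^n_k be a closed
subscheme, m an integer and φ a polynomial. The family of coherent O_X-modules F which are m-regular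
(H^q(X, F(m - q)) = 0 for q ≥ 1) and have Hilbert polynomial φ (χ(F(d)) = φ(d) for all integers d)
is bounded. (The source allows a finite set of Hilbert polynomials and a projective X over a
Noetherian base with O_X(1) generated by global sections on the fibres.) -/
theorem result (k : Type u) [Field k] [IsAlgClosed k] (n : ℕ) (X : Scheme.{u}) [X.Over (Spec (CommRingCat.of k))]
    (i : X ⟶ CohB1.ProjSpace n k) [IsClosedImmersion i] (hi : i ≫ CohB1.ProjSpace.toSpec n k = X ↘ Spec (CommRingCat.of k))
    (m : ℤ) (φ : Polynomial ℚ) :
    Pic13.IsBounded k X (fun F : X.Modules => Coh.IsCoh F ∧ Pic13.IsMRegular k i F m ∧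
      ∀ d : ℤ, (FGA.eulerCharLE k X (Pic13.twistOn k i F d) n : ℚ) = φ.eval (d : ℚ)) := by
  refine GrothLib.BddFam20.isBounded_mono
    (GrothLib.BddFam20.isBounded_regular_closed i hi m ⌊φ.eval (m : ℚ)⌋.toNat) ?_
  rintro F ⟨hF, hreg, hφ⟩
  have h := GrothLib.BddFam20.isMRegular_push i hi hF hreg
  refine ⟨hF, h, ?_⟩
  have h2 := hφ m
  rw [GrothLib.BddFam20.eulerCharLE_eq i hi hF h] at h2
  rw [← h2]
  simp

end Groth.Agent.S4285
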