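import Groth.Statements.S4288
import Groth.Agent.Lib.KSix19.ProjPush.SerreOver
-- import your own Groth.Agent.* helpers here

set_option autoImplicit false
universe u
open CategoryTheory CategoryTheory.Limits AlgebraicGeometry
attribute [local instance] HasDerivedCategory.standard
open KSix

namespace Groth.Agent.S4288

/-- Let Y be an affine scheme, i : X ⟶ P^r_Y a closed immersion, f : X ⟶ Y the composite with the
projection, L = i^* O(1), and E a bounded below object of D(O_X), acyclic in degrees > a, which is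
pseudo-coherent relative to Y (i.e. Ri_*E is pseudo-coherent on P^r_Y). Assuming the derived
functors exist, there is an integer N such that for every n ≥ N the complex Rf_*(E ⊗^L L^{⊗ n}) is
pseudo-coherent on Y and acyclic in degrees > a. (The published statement allows any quasi-compact
base S, Y of finite type over S and a closed immersion into P(F) with F quasi-coherent of finite
type.) -/
theorem result {X Y : Scheme.{u}} [IsAffine Y] (r : ℕ)
    (i : X ⟶ CohB1.ProjSpaceOver r Y) [IsClosedImmersion i]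
    [DCoh.HasRpush i] [DCoh.HasRpush (i ≫ CohB1.ProjSpaceOver.toBase r Y)]
    [∀ n : ℤ, DCoh.HasLTensorMod ((Scheme.Modules.pullback i).obj (Twist.twistOver r Y n))]
    (E : DCoh.D X) (a b : ℤ) [E.IsGE b] [E.IsLE a]
    (hE : ∀ m : ℤ, DCoh.IsPseudoCoherentD m ((DCoh.Rpush i).obj E)) :
    ∃ N : ℤ, ∀ n : ℤ, N ≤ n →
      (∀ m : ℤ, DCoh.IsPseudoCoherentD m ((DCoh.Rpush (i ≫ CohB1.ProjSpaceOver.toBase r Y)).obj
        ((DCoh.LTensorMod ((Scheme.Modules.pullback i).obj (Twist.twistOver r Y n))).obj E))) ∧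
      ((DCoh.Rpush (i ≫ CohB1.ProjSpaceOver.toBase r Y)).obj
        ((DCoh.LTensorMod ((Scheme.Modules.pullback i).obj (Twist.twistOver r Y n))).obj E)).IsLE a := by
  let π := CohB1.ProjSpaceOver.toBase r Y
  haveI : ∀ d : ℤ, PreservesFiniteLimits (GrothLib.KSix19.ProjPush.TT (Twist.twistOver r Y d)) := fun d =>
    GrothLib.KSix19.ProjPush.preservesFiniteLimits_TT (GrothLib.ProjPic26.isInvertible_twistOver r Y d)
  let K := (GrothLib.OX.RR i).obj E
  have hK : ∀ m : ℤ, DCoh.IsPseudoCoherentD m K := fun m =>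
    GrothLib.OX.isPseudoCoherentD_of_iso (hE m) ((GrothLib.OX.rpushIsoRres i).app E)
  haveI : K.IsGE b := GrothLib.KSix19.ProjPush.isGE_RR i E b
  haveI : K.IsLE a := GrothLib.KSix19.ProjPush.isLE_pushRR i E a
  obtain ⟨N, hN⟩ := GrothLib.KSix19.ProjPush.exists_isLE_RR_twist r Y K b a hK
  refine ⟨N, fun n hn => ?_⟩
  haveI : PreservesFiniteLimits
      (GrothLib.KSix19.ProjPush.TT ((Scheme.Modules.pullback i).obj (Twist.twistOver r Y n))) :=
    GrothLib.KSix19.ProjPush.preservesFiniteLimits_TT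
      (GrothLib.Ample.isInvertible_pullback i (GrothLib.ProjPic26.isInvertible_twistOver r Y n))
  obtain ⟨l⟩ := GrothLib.KSix19.ProjPush.nonempty_LTensorMod ((Scheme.Modules.pullback i).obj (Twist.twistOver r Y n)) E
  obtain ⟨w⟩ := GrothLib.KSix19.ProjPush.nonempty_RR_TD i (Twist.twistOver r Y n) E
  let e : (GrothLib.OX.RR π).obj ((GrothLib.KSix19.ProjPush.TD (Twist.twistOver r Y n)).obj K) ≅
      (DCoh.Rpush (i ≫ π)).obj
        ((DCoh.LTensorMod ((Scheme.Modules.pullback i).obj (Twist.twistOver r Y n))).obj E) :=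
    (GrothLib.OX.RR π).mapIso w.symm ≪≫ (GrothLib.OX.RRCompIso i π).app _ ≪≫
      ((GrothLib.OX.rpushIsoRres (i ≫ π)).app _).symm ≪≫ (DCoh.Rpush (i ≫ π)).mapIso l.symm
  haveI : ((GrothLib.KSix19.ProjPush.TD (Twist.twistOver r Y n)).obj K).IsGE b :=
    GrothLib.KSix19.ProjPush.isGE_TD _ K b
  refine ⟨fun m => GrothLib.OX.isPseudoCoherentD_of_iso
    (GrothLib.KSix19.ProjPush.isPseudoCoherentD_RR_toBase r Y _ b (fun k =>
      GrothLib.KSix19.ProjPush.isPseudoCoherentD_TD (GrothLib.ProjPic26.isInvertible_twistOver r Y n) (hK k)) m) e, ?_⟩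
  haveI := hN n hn
  exact DerivedCategory.TStructure.t.isLE_of_iso e a

end Groth.Agent.S4288
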