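import Groth.Statements.S4290
import Groth.Agent.Lib.NumTriv12.Main
import Groth.Agent.Lib.Seesaw26.Criterion

set_option backward.isDefEq.respectTransparency false
set_option linter.all false
-- import your own Groth.Agent.* helpers here

set_option autoImplicit false
universe u
open CategoryTheory CategoryTheory.Limits AlgebraicGeometry
open Pic13

namespace Groth.Agent.S4290

/-- Let k be an algebraically closed field, X an irreducible proper k-scheme of dimension r = s + 2 ≥ 2
carrying an ample invertible module H, and L an invertible module with (c₁(L)·c₁(H)^{r-1}) = 0 and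
(c₁(L)²·c₁(H)^{r-2}) ≥ 0. Then L is numerically equivalent to zero. Intersection numbers are those
of FGA.intNum, which takes inverses H', L' of H, L as arguments. -/
theorem result (k : Type u) [Field k] [IsAlgClosed k] (X : Scheme.{u}) [X.Over (Spec (CommRingCat.of k))]
    [IsProper (X ↘ Spec (CommRingCat.of k))] [IrreducibleSpace X] (s : ℕ) (hdim : topologicalKrullDim X = (s + 2 : ℕ))
    (H H' L L' : X.Modules) (hH : CohB1.IsAmple H) (hL : PicF.IsInvertible L)
    (hHH' : Nonempty (CohB1.tensorMod H H' ≅ Coh.structureModule X)) (hLL' : Nonempty (CohB1.tensorMod L L' ≅ Coh.structureModule X))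
    (horth : FGA.intNum k X (s + 2) (Matrix.vecCons L' (fun _ : Fin (s + 1) => H')) (Coh.structureModule X) = 0)
    (hsq : 0 ≤ FGA.intNum k X (s + 2) (Matrix.vecCons L' (Matrix.vecCons L' (fun _ : Fin s => H'))) (Coh.structureModule X)) :
    Pic13.IsNumEquivZero k X L := by
  have hL' : PicF.IsInvertible L' := GrothLib.Seesaw26.isInvertible_of_tensor_iso hLL'.some hL
  have hH' : PicF.IsInvertible H' := GrothLib.Seesaw26.isInvertible_of_tensor_iso hHH'.some hH.1
  have hx : GrothLib.Cube.clsMod hL' = (GrothLib.Cube.clsMod hL)⁻¹ := eq_inv_of_mul_eq_one_right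
    (((GrothLib.Cube.hasCls_clsMod hL).tensor (GrothLib.Cube.hasCls_clsMod hL')).eq
      (GrothLib.Cube.hasCls_structureModule X) hLL')
  have hh : GrothLib.Cube.clsMod hH' = (GrothLib.Cube.clsMod hH.1)⁻¹ := eq_inv_of_mul_eq_one_right
    (((GrothLib.Cube.hasCls_clsMod hH.1).tensor (GrothLib.Cube.hasCls_clsMod hH')).eq
      (GrothLib.Cube.hasCls_structureModule X) hHH')
  have hdim' : topologicalKrullDim X = ((s + 2 : ℕ) : WithBot ℕ∞) := hdim
  have hO : Coh.IsCoh (Coh.structureModule X) := GrothLib.Kleiman.isCoh_O k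
  have hOd := GrothLib.HodgeIndex.support_structure_dimLT (X := X) k hdim'.le
  have h1 : ∀ j, PicF.IsInvertible ((Matrix.vecCons L' (fun _ : Fin (s + 1) => H')) j) := fun j => by
    refine Fin.cases ?_ (fun j => ?_) j
    · exact hL'
    · exact hH'
  have h2 : ∀ j, PicF.IsInvertible ((Matrix.vecCons L' (Matrix.vecCons L' (fun _ : Fin s => H'))) j) := fun j => by
    refine Fin.cases ?_ (fun j => ?_) j
    · exact hL'
    · refine Fin.cases ?_ (fun j => ?_) j
      · exact hL'
      · exact hH'
  rw [GrothLib.FGAInt26.intNum_eq k hdim'.le h1,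
    show (fun j => GrothLib.Cube.clsMod (h1 j)) = fun j => ((Fin.cons (GrothLib.Cube.clsMod hL)
      (fun _ => GrothLib.Cube.clsMod hH.1) : Fin (s + 2) → GrothLib.Cube.Pic X) j)⁻¹ from by
      funext j
      refine Fin.cases ?_ (fun j => ?_) j
      · rw [Fin.cons_zero]; exact hx
      · rw [Fin.cons_succ]; exact hh,
    GrothLib.FGAInt26.del_inv k hO hOd] at horth
  rw [GrothLib.FGAInt26.intNum_eq k hdim'.le h2,
    show (fun j => GrothLib.Cube.clsMod (h2 j)) = fun j => ((Fin.cons (GrothLib.Cube.clsMod hL)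
      (Fin.cons (GrothLib.Cube.clsMod hL) (fun _ => GrothLib.Cube.clsMod hH.1) : Fin (s + 1) → GrothLib.Cube.Pic X) :
        Fin (s + 2) → GrothLib.Cube.Pic X) j)⁻¹ from by
      funext j
      refine Fin.cases ?_ (fun j => ?_) j
      · rw [Fin.cons_zero]; exact hx
      · refine Fin.cases ?_ (fun j => ?_) j
        · rw [Fin.cons_succ, Fin.cons_zero]; exact hx
        · rw [Fin.cons_succ, Fin.cons_succ]; exact hh,
    GrothLib.FGAInt26.del_inv k hO hOd] at hsq
  refine (GrothLib.NumTriv12.numTriv_iff k hL).2 (GrothLib.NumTriv12.numTriv_of_orth k hdim' hH ⟨?_, ?_⟩)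
  · exact (mul_eq_zero.1 horth).resolve_left (pow_ne_zero _ (by norm_num))
  · rwa [pow_add, neg_one_sq, mul_one] at hsq


end Groth.Agent.S4290
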