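import Groth.Statements.S4297
import Groth.Agent.Lib.PC.Consequences

set_option autoImplicit false
universe w v u
open CategoryTheory CategoryTheory.Limits
open PCoh

open GrothLib.PC

namespace Groth.Agent.S4297

/-- Punctual site: faithfulness of K⁻(C₀)/(acyclic complexes) ⟶ D(C): let C be an abelian category and
C₀ a strictly full additive subcategory, quasi-stable under kernels of epimorphisms and
quasi-liftable. If two chain maps f, g : E ⟶ E' between bounded above complexes with terms in C₀
have the same image in D(C), then there are a bounded above complex E'' with terms in C₀ and a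
quasi-isomorphism s : E'' ⟶ E such that s ≫ f and s ≫ g are homotopic. -/
theorem result {C : Type u} [Category.{v} C] [Abelian C] [HasDerivedCategory.{w} C]
    (P : ObjectProperty C) [P.IsClosedUnderIsomorphisms] [P.ContainsZero] (hsum : ∀ X Y : C, P X → P Y → P (X ⨯ Y))
    (hqs : PCoh.IsQuasiStableUnderKernels P) (hql : PCoh.IsQuasiLiftable P)
    (E E' : CochainComplex C ℤ) (hE : PCoh.IsStrictPCAll P E) (hE' : PCoh.IsStrictPCAll P E')
    (f g : E ⟶ E') (hfg : DerivedCategory.Q.map f = DerivedCategory.Q.map g) :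
    ∃ (E'' : CochainComplex C ℤ) (s : E'' ⟶ E), PCoh.IsStrictPCAll P E'' ∧ QuasiIso s ∧ Nonempty (Homotopy (s ≫ f) (s ≫ g)) := by
  obtain ⟨X, s, hs, ⟨h⟩⟩ := exists_quasiIso_homotopy f g hfg
  have : IsIso (DerivedCategory.Q.map s) := (DerivedCategory.isIso_Q_map_iff_quasiIso C s).2 hs
  obtain ⟨X', t, hX', ht⟩ := exists_strictAll_quasiIso P hsum hqs hql (F := X) fun m =>
    pcn_of_iso P (asIso (DerivedCategory.Q.map s)).symm
      ⟨E, ⟨hE.1, fun i _ => hE.2 i⟩, ⟨Iso.refl _⟩⟩
  refine ⟨X', t ≫ s, hX', inferInstance, ⟨?_⟩⟩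
  exact ((Homotopy.ofEq (Category.assoc t s f)).trans (h.compLeft t)).trans
    (Homotopy.ofEq (Category.assoc t s g).symm)

end Groth.Agent.S4297
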