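import Groth.Statements.S4302
import Groth.Agent.Lib.KSix19.ProjPush.PerfAmp
-- import your own Groth.Agent.* helpers here

set_option autoImplicit false
universe u
open CategoryTheory CategoryTheory.Limits AlgebraicGeometry
attribute [local instance] HasDerivedCategory.standard
open KSix

namespace Groth.Agent.S4302

/-- Over an affine base Y, through the embedding criterion for perfect amplitude: let i : X ⟶ P^r_Y be a
closed immersion with Y affine, f : X ⟶ Y the composite with the projection, and E a bounded object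
of D(O_X) such that Ri_*E has perfect amplitude in [a, b] on P^r_Y. Assuming the derived functors
exist, Rf_*E has perfect amplitude in [a, b + r] on Y (r bounds the cohomological dimension of f on
quasi-coherent modules). -/
theorem result {X Y : Scheme.{u}} [IsAffine Y] (r : ℕ)
    (i : X ⟶ CohB1.ProjSpaceOver r Y) [IsClosedImmersion i]
    [DCoh.HasRpush i] [DCoh.HasRpush (i ≫ CohB1.ProjSpaceOver.toBase r Y)]
    (E : DCoh.D X) (a₀ b₀ : ℤ) [E.IsGE a₀] [E.IsLE b₀] (a b : ℤ)
    (hE : KSix.HasPerfectAmplitudeIn a b ((DCoh.Rpush i).obj E)) :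
    KSix.HasPerfectAmplitudeIn a (b + r) ((DCoh.Rpush (i ≫ CohB1.ProjSpaceOver.toBase r Y)).obj E) := by
  let K := (DCoh.Rpush i).obj E
  let e : (GrothLib.OX.RR (CohB1.ProjSpaceOver.toBase r Y)).obj K ≅
      (DCoh.Rpush (i ≫ CohB1.ProjSpaceOver.toBase r Y)).obj E :=
    (GrothLib.OX.RR _).mapIso ((GrothLib.OX.rpushIsoRres i).app E) ≪≫
      (GrothLib.OX.RRCompIso i _).app E ≪≫ ((GrothLib.OX.rpushIsoRres _).app E).symm
  exact GrothLib.KSix19.hasPerfectAmplitudeIn_iff.2 (GrothLib.OX.Locally.of_iso GrothLib.KSix19.strictIn_of_iso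
    (GrothLib.KSix19.hasPerfectAmplitudeIn_iff.1 (GrothLib.KSix19.ProjPush.perfectAmplitude_RR_toBase r Y hE)) e)

end Groth.Agent.S4302
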