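import Groth.Statements.S4303
import Groth.Agent.Lib.BddReg26.Hilbert
import Groth.Agent.Lib.TensorPerf20.FlatKernel
import Groth.Agent.Lib.Seesaw26.Criterion
import Groth.Agent.Lib.Kleiman.Kleiman

set_option backward.isDefEq.respectTransparency false
set_option maxHeartbeats 800000
set_option linter.all false
-- import your own Groth.Agent.* helpers here

set_option autoImplicit false
universe u
open CategoryTheory CategoryTheory.Limits AlgebraicGeometry
open Pic13

namespace Groth.Agent.S4303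
section Aux

open GrothLib.Cube (Pic clsMod HasCls hasCls_clsMod hasCls_structureModule)
open GrothLib.BddReg26 (isPullback_sliceAt sliceFstIso)

variable {k : Type u} [Field k] {X : Scheme.{u}} [X.Over (Spec (CommRingCat.of k))]
  [IsProper (X ↘ Spec (CommRingCat.of k))]

theorem isCoh_tensorPow {Y : Scheme.{u}} [IsLocallyNoetherian Y] {G : Y.Modules} (hG : Coh.IsCoh G) :
    ∀ a : ℕ, Coh.IsCoh (CohB1.tensorPow G a)
  | 0 => GrothLib.Euler.isCoh_of_isInvertible (GrothLib.Euler.isInvertible_structure (X := Y))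
  | a + 1 => GrothLib.TensorPerf20.isCoh_tensor (isCoh_tensorPow hG a) hG

theorem nonempty_pullback_pow {Y Z : Scheme.{u}} (g : Z ⟶ Y) (G : Y.Modules) :
    ∀ a : ℕ, Nonempty ((Scheme.Modules.pullback g).obj (CohB1.tensorPow G a) ≅
      CohB1.tensorPow ((Scheme.Modules.pullback g).obj G) a)
  | 0 => ⟨GrothLib.OX.pullUnitIso g⟩
  | a + 1 => by
    obtain ⟨e⟩ := nonempty_pullback_pow g G a
    exact ⟨GrothLib.OX.pullTensorIso g _ G ≪≫ GrothLib.Ample.LineData.tensorModMapIso e (Iso.refl _)⟩

theorem exists_bound_euler {T : Scheme.{u}} (q : T ⟶ Spec (CommRingCat.of k)) [LocallyOfFiniteType q]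
    [QuasiCompact q] {N : (Pic13.prodK k X q).Modules} (hN : Coh.IsCoh N) :
    ∃ B : ℕ, ∀ (t : Spec (CommRingCat.of k) ⟶ T) (ht : t ≫ q = 𝟙 _),
      |Curv2.euler k X (Pic13.fibreMod k X q t ht N)| ≤ B := by
  let p := X ↘ Spec (CommRingCat.of k)
  let π := pullback.snd p q
  haveI : IsProper π := MorphismProperty.pullback_snd (P := @IsProper) p q inferInstance
  haveI : IsLocallyNoetherian T := LocallyOfFiniteType.isLocallyNoetherian q
  haveI : CompactSpace T := QuasiCompact.compactSpace_of_compactSpace q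
  haveI : LocallyOfFinitePresentation π := inferInstance
  haveI : IsLocallyNoetherian (Pic13.prodK k X q) := LocallyOfFiniteType.isLocallyNoetherian π
  haveI : CompactSpace (Pic13.prodK k X q) := QuasiCompact.compactSpace_of_compactSpace π
  haveI : IsNoetherian (Pic13.prodK k X q) := {}
  haveI : N.IsQuasicoherent := hN.1
  have hR := GrothLib.EulerConst10.finite_range_fibEuler π N (GrothLib.FunMor20.isFP_of_isCoh hN)
    (t := 0) (fun j => j.elim0) (fun j => j.elim0)
  obtain ⟨B, hB⟩ := (hR.image fun f => (f fun j => j.elim0).natAbs).bddAbove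
  refine ⟨B, fun t ht => ?_⟩
  have h := hB ⟨_, ⟨t (IsLocalRing.closedPoint k), rfl⟩, rfl⟩
  change (GrothLib.EulerConst10.fibEuler π N (t (IsLocalRing.closedPoint k))).natAbs ≤ B at h
  rw [← GrothLib.EulerConst10.fibEuler_baseChange (isPullback_sliceAt q t ht) N (IsLocalRing.closedPoint k)] at h
  haveI := GrothLib.FittSheaf.isQuasicoherent_pullback (Pic13.sliceAt k X q t ht) N
  rw [GrothLib.FGAInt26.fibEuler_point] at h
  rw [Int.abs_eq_natAbs]
  exact_mod_cast h

/-- Euler characteristics of fixed monomials in a bounded family are bounded. -/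
theorem exists_bound_mono (P : X.Modules → Prop) (hb : Pic13.IsBounded k X P) {H : X.Modules}
    (hH : PicF.IsInvertible H) (a b : ℕ) :
    ∃ B : ℕ, ∀ L : X.Modules, P L → ∀ hL : PicF.IsInvertible L,
      |GrothLib.FGAInt26.ev k (Coh.structureModule X) (clsMod hL ^ a * clsMod hH ^ b)| ≤ B := by
  haveI := GrothLib.Euler.isNoetherian_of_proper (X := X) k
  obtain ⟨T, q, hft, hqc, G, hG, hall⟩ := hb
  haveI := hft
  haveI := hqc
  let π := pullback.snd (X ↘ Spec (CommRingCat.of k)) q
  haveI : IsLocallyNoetherian T := LocallyOfFiniteType.isLocallyNoetherian q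
  haveI : IsProper π := MorphismProperty.pullback_snd (P := @IsProper) _ q inferInstance
  haveI : IsLocallyNoetherian (Pic13.prodK k X q) := LocallyOfFiniteType.isLocallyNoetherian π
  let H₁ : (Pic13.prodK k X q).Modules :=
    (Scheme.Modules.pullback (pullback.fst (X ↘ Spec (CommRingCat.of k)) q)).obj H
  have hH₁ : PicF.IsInvertible H₁ := GrothLib.Ample.isInvertible_pullback _ hH
  obtain ⟨B, hB⟩ := exists_bound_euler q (GrothLib.TensorPerf20.isCoh_tensor (isCoh_tensorPow hG a)
    (isCoh_tensorPow (GrothLib.Euler.isCoh_of_isInvertible hH₁) b))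
  refine ⟨B, fun L hPL hL => ?_⟩
  obtain ⟨t, ht, ⟨e⟩⟩ := hall L hPL
  obtain ⟨e₁⟩ := nonempty_pullback_pow (Pic13.sliceAt k X q t ht) G a
  obtain ⟨e₂⟩ := nonempty_pullback_pow (Pic13.sliceAt k X q t ht) H₁ b
  obtain ⟨f₁⟩ := GrothLib.Regularity.nonempty_tensorPow_congr (show (Scheme.Modules.pullback
    (Pic13.sliceAt k X q t ht)).obj G ≅ L from e) a
  obtain ⟨f₂⟩ := GrothLib.Regularity.nonempty_tensorPow_congr (show (Scheme.Modules.pullback
    (Pic13.sliceAt k X q t ht)).obj H₁ ≅ H from sliceFstIso q t ht H) b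
  have hc : HasCls (CohB1.tensorMod (CohB1.tensorPow L a) (CohB1.tensorPow H b)) (clsMod hL ^ a * clsMod hH ^ b) :=
    ((hasCls_clsMod hL).tensorPow a).tensor ((hasCls_clsMod hH).tensorPow b)
  have h := hB t ht
  rw [GrothLib.FGAInt26.ev_eq k hc]
  refine le_trans (le_of_eq (congrArg abs ?_)) h
  exact GrothLib.Euler.euler_of_iso k (GrothLib.OX.tensorUnitLeftIso _ ≪≫
    (GrothLib.OX.pullTensorIso (Pic13.sliceAt k X q t ht) _ _ ≪≫
      GrothLib.Ample.LineData.tensorModMapIso (e₁ ≪≫ f₁) (e₂ ≪≫ f₂)).symm)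

/-- Alternating sums against inverse classes only see monomials with exponents in a box. -/
theorem abs_del_le {n : ℕ} (hn : GrothLib.Snapper.DimLT (CohB1.support (Coh.structureModule X)) (n + 1))
    (w : Fin n → Pic X) (B : (Fin n → Bool) → ℕ)
    (hB : ∀ c : Fin n → Bool, |GrothLib.FGAInt26.ev k (Coh.structureModule X) (∏ i, if c i then 1 else w i)| ≤ B c) :
    |GrothLib.FGAInt26.del (GrothLib.FGAInt26.ev k (Coh.structureModule X)) (fun i => (w i)⁻¹)| ≤
      ∑ c : Fin n → Bool, (B c : ℤ) := by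
  rw [← GrothLib.FGAInt26.del_shift k (GrothLib.Kleiman.isCoh_O (X := X) k) hn (∏ i, w i) (fun i => (w i)⁻¹)]
  refine (Finset.abs_sum_le_sum_abs _ _).trans (Finset.sum_le_sum fun c _ => ?_)
  beta_reduce
  rw [abs_mul, Finset.abs_prod,
    Finset.prod_eq_one (fun i _ => by split <;> simp : ∀ i ∈ Finset.univ, |(if c i then (-1 : ℤ) else 1)| = 1),
    one_mul, ← Finset.prod_mul_distrib,
    Finset.prod_congr rfl (fun i _ => by split <;> simp :
      ∀ i ∈ Finset.univ, w i * (if c i then (w i)⁻¹ else 1) = if c i then 1 else w i)]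
  exact hB c

end Aux


/-- (i) implies (iii), over S = Spec k with k algebraically closed: let X be a proper integral k-scheme
of dimension r = s + 2 ≥ 2 carrying an ample invertible module H with inverse H', and P a family of
invertible O_X-modules. Condition (iii): as L runs through P (with inverse L'), the degree
(c₁(L)·c₁(H)^{r-1}) stays bounded and (c₁(L)²·c₁(H)^{r-2}) stays bounded below; condition (i): P is
bounded. Intersection numbers are those of FGA.intNum, taking the inverse modules as arguments. -/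
theorem result (k : Type u) [Field k] [IsAlgClosed k] (X : Scheme.{u})
    [X.Over (Spec (CommRingCat.of k))] [IsProper (X ↘ Spec (CommRingCat.of k))] [IsIntegral X] (s : ℕ)
    (hdim : topologicalKrullDim X = (s + 2 : ℕ)) (H H' : X.Modules) (hH : CohB1.IsAmple H)
    (hHH' : Nonempty (CohB1.tensorMod H H' ≅ Coh.structureModule X))
    (P : X.Modules → Prop) (hP : ∀ L, P L → PicF.IsInvertible L)
    (hb : Pic13.IsBounded k X P) :
    ∃ B : ℤ, ∀ L L' : X.Modules, P L → Nonempty (CohB1.tensorMod L L' ≅ Coh.structureModule X) →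
      |FGA.intNum k X (s + 2) (Matrix.vecCons L' (fun _ : Fin (s + 1) => H')) (Coh.structureModule X)| ≤ B ∧
      -B ≤ FGA.intNum k X (s + 2) (Matrix.vecCons L' (Matrix.vecCons L' (fun _ : Fin s => H'))) (Coh.structureModule X) := by
  obtain ⟨e⟩ := hHH'
  have hH' : PicF.IsInvertible H' := GrothLib.Seesaw26.isInvertible_of_tensor_iso e hH.1
  have hinv : ∀ {A A' : X.Modules} (hA : PicF.IsInvertible A) (hA' : PicF.IsInvertible A'),
      (CohB1.tensorMod A A' ≅ Coh.structureModule X) →
        GrothLib.Cube.clsMod hA' = (GrothLib.Cube.clsMod hA)⁻¹ := fun {A A'} hA hA' e' => by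
    refine eq_inv_of_mul_eq_one_right ?_
    rw [← GrothLib.Cube.clsMod_tensorMod hA hA']
    exact (GrothLib.Cube.clsMod_eq_one_iff _).2 ⟨e'⟩
  have hd : GrothLib.Snapper.DimLT (CohB1.support (Coh.structureModule X)) (s + 2 + 1) :=
    (GrothLib.Kleiman.dimLT_univ hdim.le).mono (Set.subset_univ _)
  obtain ⟨η, hη⟩ : ∃ η, η = GrothLib.Cube.clsMod hH.1 := ⟨_, rfl⟩
  choose B hB using fun a b : ℕ => exists_bound_mono P hb hH.1 a b
  let B₁ : ℕ := ∑ c : Fin (s + 2) → Bool, B (if c 0 then 0 else 1)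
    (∑ i : Fin (s + 1), if c i.succ then 0 else 1)
  let B₂ : ℕ := ∑ c : Fin (s + 2) → Bool, B ((if c 0 then 0 else 1) + (if c 1 then 0 else 1))
    (∑ i : Fin s, if c i.succ.succ then 0 else 1)
  refine ⟨(B₁ : ℤ) + B₂, fun L L' hPL he' => ?_⟩
  obtain ⟨e'⟩ := he'
  have hL := hP L hPL
  have hL' : PicF.IsInvertible L' := GrothLib.Seesaw26.isInvertible_of_tensor_iso e' hL
  obtain ⟨lam, hlam⟩ : ∃ x, x = GrothLib.Cube.clsMod hL := ⟨_, rfl⟩
  have key : ∀ (M : Fin (s + 2) → X.Modules) (w : Fin (s + 2) → GrothLib.Cube.Pic X)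
      (hM : ∀ i, PicF.IsInvertible (M i)) (Bc : (Fin (s + 2) → Bool) → ℕ),
      (∀ i, GrothLib.Cube.clsMod (hM i) = (w i)⁻¹) →
      (∀ c : Fin (s + 2) → Bool,
        |GrothLib.FGAInt26.ev k (Coh.structureModule X) (∏ i, if c i then 1 else w i)| ≤ Bc c) →
      |FGA.intNum k X (s + 2) M (Coh.structureModule X)| ≤ ∑ c : Fin (s + 2) → Bool, (Bc c : ℤ) := by
    intro M w hM Bc hw hBc
    rw [GrothLib.FGAInt26.intNum_eq k hdim.le hM, funext hw]
    exact abs_del_le hd w Bc hBc
  have hpow : ∀ (c : Bool) (x : GrothLib.Cube.Pic X),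
      (if c then 1 else x) = x ^ (if c then 0 else 1 : ℕ) := fun c x => by cases c <;> simp
  constructor
  · have hM : ∀ i, PicF.IsInvertible (Matrix.vecCons L' (fun _ : Fin (s + 1) => H') i) :=
      Fin.cases hL' fun _ => hH'
    refine (key _ (Fin.cons lam fun _ => η) hM
      (fun c => B (if c 0 then 0 else 1) (∑ i : Fin (s + 1), if c i.succ then 0 else 1))
      (fun i => ?_) fun c => ?_).trans ?_
    · refine Fin.cases ?_ (fun i => ?_) i
      · rw [Fin.cons_zero, hlam]
        exact hinv hL _ e'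
      · rw [Fin.cons_succ, hη]
        exact hinv hH.1 _ e
    · rw [Fin.prod_univ_succ]
      simp only [Fin.cons_zero, Fin.cons_succ, hpow, Finset.prod_pow_eq_pow_sum]
      rw [hlam, hη]
      exact hB _ _ L hPL hL
    · simp only [B₁]
      push_cast
      linarith [Int.natCast_nonneg B₂]
  · have hM : ∀ i, PicF.IsInvertible (Matrix.vecCons L' (Matrix.vecCons L' (fun _ : Fin s => H')) i) :=
      Fin.cases hL' (Fin.cases hL' fun _ => hH')
    refine neg_le_of_abs_le ((key _ (Fin.cons lam (Fin.cons lam fun _ => η)) hM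
      (fun c => B ((if c 0 then 0 else 1) + (if c 1 then 0 else 1)) (∑ i : Fin s, if c i.succ.succ then 0 else 1))
      (fun i => ?_) fun c => ?_).trans ?_)
    · refine Fin.cases ?_ (fun i => Fin.cases ?_ (fun i => ?_) i) i
      · rw [Fin.cons_zero, hlam]
        exact hinv hL _ e'
      · rw [Fin.cons_succ, Fin.cons_zero, hlam]
        exact hinv hL _ e'
      · rw [Fin.cons_succ, Fin.cons_succ, hη]
        exact hinv hH.1 _ e
    · rw [Fin.prod_univ_succ, Fin.prod_univ_succ]
      simp only [Fin.cons_zero, Fin.cons_succ, hpow, Finset.prod_pow_eq_pow_sum]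
      rw [← mul_assoc, ← pow_add, hlam, hη]
      exact hB _ _ L hPL hL
    · simp only [B₂]
      push_cast
      linarith [Int.natCast_nonneg B₁]


end Groth.Agent.S4303
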