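import Groth.Statements.S4305
import Groth.Agent.Lib.FGAInt26.AlgEquiv
import Groth.Agent.Lib.NefGrowth.IntNum

set_option autoImplicit false
universe u
open CategoryTheory CategoryTheory.Limits AlgebraicGeometry
open Pic13

namespace Groth.Agent.S4305

/-- Let k be an algebraically closed field, X an irreducible proper k-scheme of dimension ≤ d carrying
an ample invertible module H with inverse H', and L an invertible module with inverse L'. Condition
(v): χ(L^{⊗ m} ⊗ H^{⊗ n}) = χ(H^{⊗ n}) for all integers m, n — written with natural exponents on L,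
L', H, H' to cover all signs, Euler characteristics in degrees ≤ d; condition (i): L is τ-equivalent
to zero. -/
theorem result (k : Type u) [Field k] [IsAlgClosed k] (X : Scheme.{u})
    [X.Over (Spec (CommRingCat.of k))] [IsProper (X ↘ Spec (CommRingCat.of k))] [IrreducibleSpace X]
    (d : ℕ) (hd : topologicalKrullDim X ≤ d) (H H' L L' : X.Modules) (hH : CohB1.IsAmple H) (hL : PicF.IsInvertible L)
    (hHH' : Nonempty (CohB1.tensorMod H H' ≅ Coh.structureModule X)) (hLL' : Nonempty (CohB1.tensorMod L L' ≅ Coh.structureModule X))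
    (hτ : Pic13.IsTauEquivZero k X L) :
    ∀ m n : ℕ,
      FGA.eulerCharLE k X (CohB1.tensorMod (CohB1.tensorPow L m) (CohB1.tensorPow H n)) d = FGA.eulerCharLE k X (CohB1.tensorPow H n) d ∧
      FGA.eulerCharLE k X (CohB1.tensorMod (CohB1.tensorPow L m) (CohB1.tensorPow H' n)) d = FGA.eulerCharLE k X (CohB1.tensorPow H' n) d ∧
      FGA.eulerCharLE k X (CohB1.tensorMod (CohB1.tensorPow L' m) (CohB1.tensorPow H n)) d = FGA.eulerCharLE k X (CohB1.tensorPow H n) d ∧
      FGA.eulerCharLE k X (CohB1.tensorMod (CohB1.tensorPow L' m) (CohB1.tensorPow H' n)) d = FGA.eulerCharLE k X (CohB1.tensorPow H' n) d := by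
  intro m n
  haveI := GrothLib.Euler.isNoetherian_of_proper (X := X) k
  have hH0 := hH.1
  obtain ⟨hH', hH'c⟩ := GrothLib.NefGrowth.cls_inverse hH0
    (show ClSub.IsInverseOf H' H from ⟨GrothLib.GrTilde.tensorModComm H' H ≪≫ hHH'.some⟩)
  obtain ⟨hL', hL'c⟩ := GrothLib.NefGrowth.cls_inverse hL
    (show ClSub.IsInverseOf L' L from ⟨GrothLib.GrTilde.tensorModComm L' L ≪≫ hLL'.some⟩)
  have key : ∀ (G : X.Modules), PicF.IsInvertible G → ∀ m : ℕ,
      GrothLib.FGAInt26.ev k G (GrothLib.Cube.clsMod hL ^ m) = GrothLib.FGAInt26.ev k G 1 ∧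
      GrothLib.FGAInt26.ev k G ((GrothLib.Cube.clsMod hL)⁻¹ ^ m) = GrothLib.FGAInt26.ev k G 1 := by
    have hz : ∀ {F : X.Modules}, Coh.IsCoh F →
        GrothLib.FGAInt26.ev k F (GrothLib.Cube.clsMod hL) = GrothLib.FGAInt26.ev k F 1 :=
      fun hF => GrothLib.FGAInt26.ev_tauEquiv k hL hτ hd hF
    intro G hG m
    have hGc := GrothLib.Euler.isCoh_of_isInvertible hG
    induction m with
    | zero => simp
    | succ m ih =>
      refine ⟨?_, ?_⟩
      · rw [pow_succ, ← GrothLib.FGAInt26.ev_tw, hz (GrothLib.FGAInt26.isCoh_tw k hGc _),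
          GrothLib.FGAInt26.ev_tw, mul_one, ih.1]
      · have := hz (GrothLib.FGAInt26.isCoh_tw k hGc ((GrothLib.Cube.clsMod hL)⁻¹ ^ (m + 1)))
        rw [GrothLib.FGAInt26.ev_tw, GrothLib.FGAInt26.ev_tw, mul_one, pow_succ, inv_mul_cancel_right,
          ih.2] at this
        rw [pow_succ]
        exact this.symm
  have step : ∀ (A G : X.Modules) (hA : PicF.IsInvertible A), PicF.IsInvertible G →
      (GrothLib.FGAInt26.ev k G (GrothLib.Cube.clsMod hA) = GrothLib.FGAInt26.ev k G 1) →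
      FGA.eulerCharLE k X (CohB1.tensorMod A G) d = FGA.eulerCharLE k X G d := fun A G hA hG h => by
    rw [GrothLib.FGAInt26.eulerCharLE_eq k hd, GrothLib.FGAInt26.eulerCharLE_eq k hd,
      GrothLib.FGAInt26.euler_tensor_eq k (GrothLib.Cube.hasCls_clsMod hA), h, GrothLib.FGAInt26.ev_one]
  have hP := fun (A : X.Modules) (hA : PicF.IsInvertible A) (j : ℕ) => GrothLib.Ample.isInvertible_tensorPow hA j
  have c1 : GrothLib.Cube.clsMod (hP L hL m) = GrothLib.Cube.clsMod hL ^ m := GrothLib.Cube.clsMod_tensorPow hL m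
  have c2 : GrothLib.Cube.clsMod (hP L' hL' m) = (GrothLib.Cube.clsMod hL)⁻¹ ^ m := by
    rw [GrothLib.Cube.clsMod_tensorPow hL' m, eq_inv_of_mul_eq_one_left hL'c]
  exact ⟨step _ _ (hP L hL m) (hP H hH0 n) (c1 ▸ (key _ (hP H hH0 n) m).1),
    step _ _ (hP L hL m) (hP H' hH' n) (c1 ▸ (key _ (hP H' hH' n) m).1),
    step _ _ (hP L' hL' m) (hP H hH0 n) (c2 ▸ (key _ (hP H hH0 n) m).2),
    step _ _ (hP L' hL' m) (hP H' hH' n) (c2 ▸ (key _ (hP H' hH' n) m).2)⟩

end Groth.Agent.S4305
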