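import Groth.Statements.S4306
import Groth.Agent.Lib.NumTriv12.Euler
import Groth.Agent.Lib.NumTau26.Twists

set_option backward.isDefEq.respectTransparency false
set_option linter.all false
-- import your own Groth.Agent.* helpers here

set_option autoImplicit false
universe u
open CategoryTheory CategoryTheory.Limits AlgebraicGeometry
open Pic13

namespace Groth.Agent.S4306

/-- Let k be an algebraically closed field, X an irreducible proper k-scheme of dimension ≤ d carrying
an ample invertible module H with inverse H', and L an invertible module with inverse L'. Condition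
(v): χ(L^{⊗ m} ⊗ H^{⊗ n}) = χ(H^{⊗ n}) for all integers m, n — written with natural exponents on L,
L', H, H' to cover all signs, Euler characteristics in degrees ≤ d; condition (i): L is τ-equivalent
to zero. -/
theorem result (k : Type u) [Field k] [IsAlgClosed k] (X : Scheme.{u})
    [X.Over (Spec (CommRingCat.of k))] [IsProper (X ↘ Spec (CommRingCat.of k))] [IrreducibleSpace X]
    (d : ℕ) (hd : topologicalKrullDim X ≤ d) (H H' L L' : X.Modules) (hH : CohB1.IsAmple H) (hL : PicF.IsInvertible L)
    (hHH' : Nonempty (CohB1.tensorMod H H' ≅ Coh.structureModule X)) (hLL' : Nonempty (CohB1.tensorMod L L' ≅ Coh.structureModule X))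
    (hv : ∀ m n : ℕ,
      FGA.eulerCharLE k X (CohB1.tensorMod (CohB1.tensorPow L m) (CohB1.tensorPow H n)) d = FGA.eulerCharLE k X (CohB1.tensorPow H n) d ∧
      FGA.eulerCharLE k X (CohB1.tensorMod (CohB1.tensorPow L m) (CohB1.tensorPow H' n)) d = FGA.eulerCharLE k X (CohB1.tensorPow H' n) d ∧
      FGA.eulerCharLE k X (CohB1.tensorMod (CohB1.tensorPow L' m) (CohB1.tensorPow H n)) d = FGA.eulerCharLE k X (CohB1.tensorPow H n) d ∧
      FGA.eulerCharLE k X (CohB1.tensorMod (CohB1.tensorPow L' m) (CohB1.tensorPow H' n)) d = FGA.eulerCharLE k X (CohB1.tensorPow H' n) d) :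
    Pic13.IsTauEquivZero k X L := by
  refine GrothLib.NumTau26.isTauEquivZero_of_ample hH hL ((GrothLib.NumTriv12.numTriv_iff k hL).2
    (GrothLib.NumTriv12.numTriv_of_euler k hH fun j => ?_))
  have h1 := (hv 1 j).1
  have h2 := (hv 2 j).1
  have cx := GrothLib.Cube.hasCls_clsMod hL
  have ch := GrothLib.Cube.hasCls_clsMod hH.1
  rw [GrothLib.FGAInt26.eulerCharLE_eq k hd, GrothLib.FGAInt26.eulerCharLE_eq k hd,
    ← GrothLib.NumTriv12.evO k ((cx.tensorPow 1).tensor (ch.tensorPow j)),
    ← GrothLib.NumTriv12.evO k (ch.tensorPow j), pow_one] at h1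
  rw [GrothLib.FGAInt26.eulerCharLE_eq k hd, GrothLib.FGAInt26.eulerCharLE_eq k hd,
    ← GrothLib.NumTriv12.evO k ((cx.tensorPow 2).tensor (ch.tensorPow j)),
    ← GrothLib.NumTriv12.evO k (ch.tensorPow j)] at h2
  exact ⟨h1, h2⟩


end Groth.Agent.S4306
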