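import Groth.Statements.S4307
import Groth.Agent.Lib.AnPts.AffineHol
-- import your own Groth.Agent.* helpers here

set_option autoImplicit false
open CategoryTheory AlgebraicGeometry Topology TopologicalSpace
open An

namespace Groth.Agent.S4307

/-- A sanity check of the definition of holomorphic functions: for an open set U of complex points of
affine n-space over ℂ and g : U → ℂ, g is holomorphic (satisfies the local predicate An.holPred of
the prelude) if and only if g = G ∘ (coordinates) for some G : ℂ^n → ℂ complex-differentiable on the
image of U in ℂ^n. -/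
theorem result (n : ℕ) (U : TopologicalSpace.Opens (An.Pts (𝔸(Fin n; An.SC))))
    (g : U → ℂ) :
    (An.holPred (𝔸(Fin n; An.SC))).pred g ↔
      ∃ G : (Fin n → ℂ) → ℂ,
        DifferentiableOn ℂ G ((fun (x : An.Pts (𝔸(Fin n; An.SC))) (i : Fin n) =>
          x.evTop (AffineSpace.coord An.SC i)) '' (U : Set (An.Pts (𝔸(Fin n; An.SC))))) ∧
        ∀ x : U, g x = G (fun i => (x : An.Pts (𝔸(Fin n; An.SC))).evTop (AffineSpace.coord An.SC i)) := GrothLib.AnPts.holPred_affineSpace_iff n U g

end Groth.Agent.S4307
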