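import Groth.Statements.S4329
import Groth.Agent.Lib.PlusComp19.Unbounded
-- import your own Groth.Agent.* helpers here

set_option autoImplicit false
universe u
open CategoryTheory CategoryTheory.Limits AlgebraicGeometry Opposite
attribute [local instance] HasDerivedCategory.standard
open EtSix

namespace Groth.Agent.S4329

/-- Composition of derived direct images: for the small etale sites of schemes and abelian sheaves: let
f : X -> Y and g : Y -> Z be morphisms of schemes and assume the unbounded derived direct images
Rf_*, Rg_* and R(g ∘ f)_* exist (they do; the existence is recorded as instance hypotheses). Then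
the canonical morphism R(g ∘ f)_* -> Rg_* ∘ Rf_* of functors D(X_et) -> D(Z_et), induced by (g ∘
f)_* ≅ g_* ∘ f_* through the universal property of R(g ∘ f)_* as a right derived functor, is an
isomorphism. -/
theorem result {X Y Z : Scheme.{u}} (f : X ⟶ Y) (g : Y ⟶ Z)
    [DCoh.HasRpushEt X f] [DCoh.HasRpushEt Y g] [DCoh.HasRpushEt X (f ≫ g)] :
    IsIso (EtSix.compMap f g) := GrothLib.PlusComp19.isIso_compMap f g

end Groth.Agent.S4329
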