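import Groth.Statements.S4334
import Groth.Agent.Lib.CdBr2.Curve
import Groth.Agent.Lib.CotTangent.Components
import Groth.Agent.Lib.EtTrace21.Killed
-- import your own Groth.Agent.* helpers here

set_option autoImplicit false
universe u
open CategoryTheory CategoryTheory.Limits AlgebraicGeometry Opposite
open EtSix

namespace Groth.Agent.S4334

/-- The degree-two step in canonical form: let X be a smooth projective curve over an algebraically
closed field k (here: X integral, with a proper morphism X -> Spec k that is smooth of relative
dimension 1), and n an integer that is nonzero in k, so that the n-th power map on G_m is an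
epimorphism of sheaves on the small etale site (taken as the hypothesis h). Then the boundary map
H^1(X, G_m) -> H^2(X, μ_n) of the Kummer sequence is surjective, and its kernel is the image of
multiplication by n on H^1(X, G_m). -/
theorem result (k : Type u) [Field k] [IsAlgClosed k] {X : Scheme.{u}} [IsIntegral X]
    (f : X ⟶ Spec (CommRingCat.of k)) [IsProper f] [SmoothOfRelativeDimension 1 f]
    (n : ℕ) (hn : (n : k) ≠ 0) (h : Epi (EtCoh.powMap X n)) :
    Function.Surjective (EtSix.kummerBoundary h 1) ∧
      (EtSix.kummerBoundary h 1).ker = (n • AddMonoidHom.id (EtCoh.H X (EtCoh.Gm X) 1)).range := by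
  haveI : Smooth f := SmoothOfRelativeDimension.smooth 1 f
  haveI : CompactSpace X := QuasiCompact.compactSpace_of_compactSpace f
  haveI : IsLocallyNoetherian X := LocallyOfFiniteType.isLocallyNoetherian f
  haveI : AlgebraicGeometry.IsNoetherian X := {}
  have hdim : topologicalKrullDim X = 1 := by
    exact_mod_cast GrothLib.CotTangent.topologicalKrullDim_integral_of_smoothOfRelativeDimension f 1
  have h0 := GrothLib.CdBr2.HGm_eq_zero_of_max (X := X) hdim.le
    (fun x hx => GrothLib.GalCd.isSepClosed_residueField_of_closed f x hx)
    (fun x p _ =>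
      letI : Algebra k (X.residueField x.1) := (Spec.preimage (X.fromSpecResidueField x.1 ≫ f)).hom.toAlgebra
      GrothLib.CdBr2.normSurj_of_trdeg_le_one k (X.residueField x.1)
        (GrothLib.GalCd.trdeg_residueField_le f hdim.le x.1) p) 2 le_rfl
  have hS := EtSix.kummerShortExact h
  refine ⟨fun y => ?_, ?_⟩
  · obtain ⟨x, hx⟩ := Abelian.Ext.covariant_sequence_exact₁ _ hS (n₁ := 2) y (h0 _) (n₀ := 1) rfl
    exact ⟨x, hx⟩
  · ext ξ
    simp only [AddMonoidHom.mem_ker, AddMonoidHom.mem_range, AddMonoidHom.smul_apply, AddMonoidHom.id_apply]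
    constructor
    · intro hξ
      obtain ⟨w, hw⟩ := Abelian.Ext.covariant_sequence_exact₃ _ hS (n₀ := 1) (n₁ := 2) ξ rfl hξ
      exact ⟨w, (GrothLib.EtTrace21.comp_nsmul_id w n).symm.trans hw⟩
    · rintro ⟨w, rfl⟩
      show Abelian.Ext.comp (n • w) hS.extClass rfl = 0
      rw [← GrothLib.EtTrace21.comp_nsmul_id w n]
      erw [Abelian.Ext.comp_assoc_of_second_deg_zero]
      erw [hS.comp_extClass]
      exact Abelian.Ext.comp_zero ..

end Groth.Agent.S4334
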