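import Groth.Statements.S4337
import Groth.Agent.Lib.LinTop.Ring
import Groth.Agent.S2276
import Mathlib.LinearAlgebra.TensorProduct.Quotient
import Mathlib.RingTheory.Nakayama
import Mathlib.LinearAlgebra.TensorProduct.RightExactness
-- import your own Groth.Agent.* helpers here

set_option autoImplicit false
universe u
open LinTop

namespace Groth.Agent.S4337

/-- Let A be an admissible ring, J an ideal of definition, and u : M -> N a homomorphism of A-modules
with N of finite type. Then u is surjective if and only if u tensored with A/J is surjective. -/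
theorem result
    (A : Type u) [CommRing A] [UniformSpace A] [IsUniformAddGroup A] [IsTopologicalRing A]
    (hA : LinTop.IsAdmissible A) (J : Ideal A) (hJ : LinTop.IsIdealOfDefinition A J)
    (M N : Type u) [AddCommGroup M] [Module A M] [AddCommGroup N] [Module A N] [Module.Finite A N]
    (u : M →ₗ[A] N) :
    Function.Surjective u ↔ Function.Surjective (u.rTensor (A ⧸ J)) := by
  refine ⟨fun h => LinearMap.rTensor_surjective _ h, fun h => ?_⟩
  rw [← LinearMap.range_eq_top, eq_top_iff]
  refine Submodule.le_of_le_smul_of_le_jacobson_bot (I := J) Module.Finite.fg_top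
    (Groth.Agent.S2276.result A hA J hJ).2 fun z _ => ?_
  have h2 : ∀ w : TensorProduct A M (A ⧸ J), ∃ m : M, TensorProduct.tensorQuotEquivQuotSMul N J (u.rTensor (A ⧸ J) w) =
      Submodule.Quotient.mk (u m) := by
    intro w
    obtain ⟨y, rfl⟩ := (TensorProduct.tensorQuotEquivQuotSMul M J).symm.surjective w
    obtain ⟨m, rfl⟩ := Submodule.Quotient.mk_surjective _ y
    refine ⟨m, ?_⟩
    rw [TensorProduct.tensorQuotEquivQuotSMul_symm_mk, LinearMap.rTensor_tmul, ← map_one (Ideal.Quotient.mk J),
      TensorProduct.tensorQuotEquivQuotSMul_tmul_mk, one_smul]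
  obtain ⟨w, hw⟩ := h ((TensorProduct.tensorQuotEquivQuotSMul N J).symm (Submodule.Quotient.mk z))
  obtain ⟨m, hm⟩ := h2 w
  rw [hw, LinearEquiv.apply_symm_apply, Submodule.Quotient.eq] at hm
  exact Submodule.mem_sup.2 ⟨u m, ⟨m, rfl⟩, z - u m, hm, by abel⟩

end Groth.Agent.S4337
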