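import Groth.Statements.S4338
import Mathlib.RingTheory.AdicCompletion.Basic
import Mathlib.Topology.Algebra.LinearTopology
import Mathlib.RingTheory.Finiteness.Ideal
-- import your own Groth.Agent.* helpers here

set_option autoImplicit false
universe u
open LinTop

namespace Groth.Agent.S4338

/-- For a finitely generated ideal. Let A be an admissible ring and I a finitely generated ideal
contained in an ideal of definition of A. Then A is separated and complete for the I-adic topology.
(The published statement has no finiteness hypothesis on I and is then not correct: the completion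
of a polynomial ring in countably many variables over a field along the ideal generated by the
variables, with its inverse-limit topology, is admissible, the kernel of its projection onto the
field is an ideal of definition, and the ring is not adically complete for that kernel.) -/
theorem result
    (A : Type u) [CommRing A] [UniformSpace A] [IsUniformAddGroup A] [IsTopologicalRing A]
    (hA : LinTop.IsAdmissible A) (J : Ideal A) (hJ : LinTop.IsIdealOfDefinition A J)
    (I : Ideal A) (hI : I.FG) (hIJ : I ≤ J) :
    IsAdicComplete I A := by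
  classical
  obtain ⟨⟨hlin, -⟩, hT2, hc⟩ := hA
  obtain ⟨hJo, hJn⟩ := hJ
  have := hlin
  have hnhd : ∀ U ∈ nhds (0 : A), ∃ n, ((I ^ n : Ideal A) : Set A) ⊆ U := fun U hU => by
    obtain ⟨n, -, hn⟩ := hJn U hU
    exact ⟨n, fun x hx => hn (Ideal.pow_right_mono hIJ n hx)⟩
  have hconv : ∀ f : ℕ → A, (∀ n, f (n + 1) - f n ∈ I ^ n) →
      ∃ x, Filter.Tendsto f Filter.atTop (nhds x) := by
    intro f hf
    refine cauchySeq_tendsto_of_complete (cauchySeq_iff.2 fun V hV => ?_)
    rw [uniformity_eq_comap_nhds_zero A] at hV
    obtain ⟨U, hU, hUV⟩ := hV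
    obtain ⟨K, hK, hKU⟩ := (IsLinearTopology.hasBasis_ideal (R := A)).mem_iff.1 hU
    obtain ⟨N, hN⟩ := hnhd _ hK
    have hgap : ∀ n, N ≤ n → f n - f N ∈ K := by
      intro n hn
      induction hn with
      | refl => simp
      | @step n hn ih =>
        have := add_mem (hN (Ideal.pow_le_pow_right hn (hf n))) ih
        simpa using this
    refine ⟨N, fun a ha b hb => hUV (hKU ?_)⟩
    have := sub_mem (hgap b hb) (hgap a ha)
    simpa using this
  have hsep : IsHausdorff I A := ⟨fun x hx => by
    by_contra h
    obtain ⟨n, hn⟩ := hnhd {x}ᶜ (isOpen_compl_singleton.mem_nhds (Ne.symm h))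
    refine hn (show x ∈ I ^ n from ?_) rfl
    have := hx n
    rwa [SModEq.zero, Ideal.smul_eq_mul, Ideal.mul_top] at this⟩
  refine { toIsHausdorff := hsep, toIsPrecomplete := ⟨fun f hf => ?_⟩ }
  have hf' : ∀ n, f (n + 1) - f n ∈ I ^ n := fun n => by
    have := hf (Nat.le_succ n)
    rw [SModEq.sub_mem, Ideal.smul_eq_mul, Ideal.mul_top] at this
    simpa using neg_mem this
  obtain ⟨x, hx⟩ := hconv f hf'
  refine ⟨x, fun n => ?_⟩
  rw [SModEq.sub_mem, Ideal.smul_eq_mul, Ideal.mul_top]
  obtain ⟨s, hs⟩ := (Ideal.FG.pow hI : (I ^ n).FG)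
  have hd : ∀ j, ∃ c : s → A, (∀ i, c i ∈ I ^ j) ∧ ∑ i, c i * i.1 = f (n + j + 1) - f (n + j) := by
    intro j
    have h1 : f (n + j + 1) - f (n + j) ∈ I ^ j • Submodule.span A (Set.range fun i : s => (i : A)) := by
      rw [show Submodule.span A (Set.range fun i : s => (i : A)) = I ^ n by
        rw [Subtype.range_coe_subtype, Finset.setOfPred_mem]; exact hs, Ideal.smul_eq_mul, ← pow_add, add_comm]
      exact hf' _
    obtain ⟨c, hc, hcs⟩ := Submodule.mem_ideal_smul_span_iff_exists_sum .. |>.1 h1
    exact ⟨c, hc, by rw [← hcs, Finsupp.sum_fintype] <;> simp⟩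
  choose c hc hcs using hd
  choose L hL using fun i : s => hconv (fun N => ∑ j ∈ Finset.range N, c j i) fun N => by
    rw [Finset.sum_range_succ, add_sub_cancel_left]; exact hc N i
  have h1 : Filter.Tendsto (fun N => f (N + n) - f n) Filter.atTop (nhds (x - f n)) :=
    ((Filter.tendsto_add_atTop_iff_nat n).2 hx).sub_const _
  have h2 : Filter.Tendsto (fun N => ∑ i : s, (∑ j ∈ Finset.range N, c j i) * (i : A)) Filter.atTop
      (nhds (∑ i : s, L i * (i : A))) :=
    tendsto_finsetSum _ fun i _ => (hL i).mul_const _
  have h3 : (fun N => f (N + n) - f n) = fun N => ∑ i : s, (∑ j ∈ Finset.range N, c j i) * (i : A) := by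
    funext N
    induction N with
    | zero => simp
    | succ N ih =>
      simp only [Finset.sum_range_succ, add_mul, Finset.sum_add_distrib, ← ih, hcs]
      rw [show n + N = N + n from add_comm n N, show N + 1 + n = N + n + 1 from by omega]
      abel
  rw [h3] at h1
  have h4 : x - f n ∈ I ^ n := by
    rw [tendsto_nhds_unique h1 h2]
    exact sum_mem fun i _ => Ideal.mul_mem_left _ _ (hs ▸ Submodule.subset_span i.2)
  simpa using neg_mem h4

end Groth.Agent.S4338
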