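import Groth.Statements.S4339
import Groth.Agent.Lib.AdicLim.RingSystem
import Groth.Agent.Lib.AdicLim.Noeth

set_option autoImplicit false
universe u
open AdicRing

namespace Groth.Agent.S4339

/-- Let (B_n) be an inverse system of rings with surjective transition maps B_{n+1} → B_n whose kernels
are the (n+1)-st powers of the kernels of the maps B_{n+1} → B_0, the kernel of B_1 → B_0 being
finitely generated, and let A be its inverse limit. Then A is Noetherian if and only if B_0 is
Noetherian. -/
theorem result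
    (B : ℕ → Type u) [∀ n, CommRing (B n)]
    (u : ∀ n, B (n + 1) →+* B n) (hu : ∀ n, Function.Surjective (u n))
    (v : ∀ n, B n →+* B 0) (hv0 : v 0 = RingHom.id (B 0)) (hv : ∀ n, (v n).comp (u n) = v (n + 1))
    (hker : ∀ n, RingHom.ker (u n) = RingHom.ker (v (n + 1)) ^ (n + 1))
    (hfg : (RingHom.ker (v 1)).FG)
    (A : Type u) [CommRing A] (p : ∀ n, A →+* B n)
    (hp : ∀ n, (u n).comp (p (n + 1)) = p n)
    (hinj : ∀ x : A, (∀ n, p n x = 0) → x = 0)
    (hlift : ∀ y : (∀ n, B n), (∀ n, u n (y (n + 1)) = y n) → ∃ x : A, ∀ n, p n x = y n) :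
    IsNoetherianRing A ↔ IsNoetherianRing (B 0) := by
  obtain ⟨hc, hk, hfgI⟩ := GrothLib.AdicLim.ring_system B u hu v hv0 hv hker hfg A p hp hinj hlift
  refine ⟨fun h => isNoetherianRing_of_surjective A (B 0) (p 0) (hk 0).1, fun h => ?_⟩
  have : IsNoetherianRing (A ⧸ RingHom.ker (p 0)) :=
    isNoetherianRing_of_ringEquiv (B 0) (RingHom.quotientKerEquivOfSurjective (hk 0).1).symm
  exact GrothLib.AdicLim.isNoetherianRing_of_complete hfgI

end Groth.Agent.S4339
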