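import Groth.Statements.S4344
import Mathlib.AlgebraicGeometry.Birational.RationalMap

set_option autoImplicit false
universe u
open RatMapD

namespace Groth.Agent.S4344

open AlgebraicGeometry in
open CategoryTheory in
/-- Let X be a reduced S-scheme, Y an S-scheme separated over S and f an S-rational map from X to Y.
There is a representative g of f which is an S-morphism and of which every S-morphism representing f
is a restriction; in particular g is the unique S-morphism of the class of f defined on the largest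
open where some S-representative is defined. (The published statement speaks of the domain of
definition among all representatives; over a base that is not separated that domain can be larger
than the one on which an S-representative exists, and this row takes the latter.) -/
theorem result
    (S X Y : Scheme.{u}) [X.Over S] [Y.Over S] [IsReduced X] [IsSeparated (Y ↘ S)]
    (f : X ⤏ Y) [f.IsOver S] :
    ∃ g : X.PartialMap Y, g.IsOver S ∧ g.toRationalMap = f ∧
      ∀ h : X.PartialMap Y, h.IsOver S → h.toRationalMap = f →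
        ∃ hle : h.domain ≤ g.domain, h = g.restrict h.domain h.dense_domain hle := by
  let I := {h : X.PartialMap Y // h.IsOver S ∧ h.toRationalMap = f}
  let D : X.Opens := ⨆ h : I, h.1.domain
  have hle : ∀ h : I, h.1.domain ≤ D := fun h ↦ le_iSup (fun h : I ↦ h.1.domain) h
  let 𝒰 : D.toScheme.OpenCover :=
    { I₀ := I
      X := fun h ↦ h.1.domain.toScheme
      f := fun h ↦ X.homOfLE (hle h)
      mem₀ := by
        rw [Scheme.presieve₀_mem_precoverage_iff]
        refine ⟨fun x ↦ ?_, inferInstance⟩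
        obtain ⟨h, hx⟩ := TopologicalSpace.Opens.mem_iSup.mp x.2
        exact ⟨h, ⟨x.1, hx⟩, Subtype.ext (by simp)⟩ }
  have hcompat : ∀ h₁ h₂ : 𝒰.I₀, Limits.pullback.fst (𝒰.f h₁) (𝒰.f h₂) ≫ h₁.1.hom =
      Limits.pullback.snd (𝒰.f h₁) (𝒰.f h₂) ≫ h₂.1.hom := by
    intro h₁ h₂
    have := h₁.2.1
    have := h₂.2.1
    refine (cancel_epi (isPullback_opens_inf_le (hle h₁) (hle h₂)).isoPullback.hom).mp ?_
    simp only [𝒰, IsPullback.isoPullback_hom_fst_assoc, IsPullback.isoPullback_hom_snd_assoc]
    exact (Scheme.PartialMap.equiv_iff_of_isSeparated (S := S)).mp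
      (Scheme.PartialMap.toRationalMap_eq_iff.mp (h₁.2.2.trans h₂.2.2.symm))
  obtain ⟨h₀, hh₀⟩ := f.exists_partialMap_over S
  have hd : Dense (D : Set X) := h₀.dense_domain.mono (hle ⟨h₀, hh₀⟩)
  let g : X.PartialMap Y := ⟨D, hd, 𝒰.glueMorphisms (fun h ↦ h.1.hom) hcompat⟩
  have hι : ∀ h : I, X.homOfLE (hle h) ≫ g.hom = h.1.hom := fun h ↦
    𝒰.ι_glueMorphisms _ hcompat h
  have key : ∀ h : I, h.1 = g.restrict h.1.domain h.1.dense_domain (hle h) := fun h ↦
    Scheme.PartialMap.ext _ _ rfl (by
      show h.1.hom = (X.isoOfEq (rfl : h.1.domain = h.1.domain)).hom ≫ (X.homOfLE (hle h) ≫ g.hom)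
      rw [hι h]
      simp)
  refine ⟨g, ⟨?_⟩, ?_, fun h ho he ↦ ⟨hle ⟨h, ho, he⟩, key ⟨h, ho, he⟩⟩⟩
  · refine 𝒰.hom_ext _ _ fun h ↦ ?_
    have := h.2.1
    show X.homOfLE (hle h) ≫ g.hom ≫ (Y ↘ S) = X.homOfLE (hle h) ≫ D.ι ≫ (X ↘ S)
    rw [reassoc_of% (hι h), Scheme.homOfLE_ι_assoc]
    exact CategoryTheory.comp_over h.1.hom S
  · rw [← g.restrict_toRationalMap _ h₀.dense_domain (hle ⟨h₀, hh₀⟩), ← key ⟨h₀, hh₀⟩]
    exact hh₀.2

end Groth.Agent.S4344
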