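import Groth.Statements.S4345
import Mathlib.RingTheory.Localization.AtPrime.Basic
import Mathlib.Tactic.TFAE
-- import your own Groth.Agent.* helpers here

set_option autoImplicit false
universe u
open SchLoc

namespace Groth.Agent.S4345

variable {K : Type u} [Field K]

/-- The trace of the maximal ideal of `Q` on a subring contained in it. -/
abbrev trace (A : Subring K) (Q : LocalSubring K) (h : A ≤ Q.toSubring) : Ideal A :=
  (IsLocalRing.maximalIdeal Q.toSubring).comap (Subring.inclusion h)

theorem ofPrime_trace_le (A : Subring K) (Q : LocalSubring K) (h : A ≤ Q.toSubring) :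
    LocalSubring.ofPrime A (trace A Q h) ≤ Q := by
  set P := trace A Q h with hP
  have key : ∀ x : (LocalSubring.ofPrime A P).toSubring, ∃ a s : A, IsUnit (Subring.inclusion h s) ∧
      (x : K) * (s : K) = (a : K) ∧ (IsUnit (Subring.inclusion h a) → IsUnit x) := by
    intro x
    obtain ⟨⟨a, s⟩, hx⟩ := IsLocalization.surj P.primeCompl x
    refine ⟨a, s, ?_, congrArg Subtype.val hx, fun hu => ?_⟩
    · by_contra hs
      exact s.2 hs
    · refine isUnit_of_mul_isUnit_left (y := algebraMap A (LocalSubring.ofPrime A P).toSubring s) ?_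
      rw [hx]
      exact (IsLocalization.AtPrime.isUnit_to_map_iff (LocalSubring.ofPrime A P).toSubring P a).2
        fun hm => (IsLocalRing.mem_maximalIdeal _).1 hm hu
  have hle : (LocalSubring.ofPrime A P).toSubring ≤ Q.toSubring := by
    intro x hx
    obtain ⟨a, s, hs, hxs, -⟩ := key ⟨x, hx⟩
    obtain ⟨v, hv⟩ := hs.exists_right_inv
    have hv' : (s : K) * (v : K) = 1 := congrArg Subtype.val hv
    have : x = (a : K) * (v : K) := by rw [← hxs, mul_assoc, hv', mul_one]
    rw [this]
    exact mul_mem (h a.2) v.2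
  refine ⟨hle, ⟨fun x hx => ?_⟩⟩
  obtain ⟨a, s, hs, hxs, hu⟩ := key x
  refine hu ?_
  have : Subring.inclusion h a = Subring.inclusion hle x * Subring.inclusion h s := Subtype.ext hxs.symm
  rw [this]
  exact hx.mul hs

theorem le_of_ofPrime_le {A : Subring K} {P : Ideal A} [P.IsPrime] {Q : LocalSubring K}
    (hle : LocalSubring.ofPrime A P ≤ Q) : A ≤ Q.toSubring :=
  (LocalSubring.le_ofPrime A P).trans hle.1

theorem trace_eq_of_le {A : Subring K} {P : Ideal A} [P.IsPrime] {Q : LocalSubring K}
    (hle : LocalSubring.ofPrime A P ≤ Q) (h : A ≤ Q.toSubring) : trace A Q h = P := by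
  obtain ⟨hle, hloc⟩ := hle
  ext a
  rw [trace, Ideal.mem_comap, ← IsLocalization.AtPrime.to_map_mem_maximal_iff
    (LocalSubring.ofPrime A P).toSubring P a, IsLocalRing.mem_maximalIdeal, IsLocalRing.mem_maximalIdeal,
    mem_nonunits_iff, mem_nonunits_iff, not_iff_not]
  exact ⟨fun hu => hloc.map_nonunit (algebraMap A (LocalSubring.ofPrime A P).toSubring a) hu,
    fun hu => hu.map (Subring.inclusion hle)⟩

theorem ofPrime_congr {A : Subring K} {P P' : Ideal A} [hP : P.IsPrime] [hP' : P'.IsPrime] (h : P = P') :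
    LocalSubring.ofPrime A P = LocalSubring.ofPrime A P' := by subst h; rfl

/-- Let A and B be subrings of a field R, C the subring generated by A and B, and for a subring E let
L(E) be the set of local subrings E_p of R, p a prime ideal of E. The following are equivalent: (i)
for every local subring Q of R containing A and B, the localizations of A and of B at the traces of
the maximal ideal of Q coincide; (ii) for every prime ideal r of C the localizations of A and B at
the traces of r coincide; (iii) two members of L(A) and L(B) dominated by a common local subring of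
R are equal; (iv) the intersection of L(A) and L(B) is L(C). -/
theorem result
    (R : Type u) [Field R] (A B : Subring R) :
    [ ∀ (Q : LocalSubring R) (hA : A ≤ Q.toSubring) (hB : B ≤ Q.toSubring),
        LocalSubring.ofPrime A ((IsLocalRing.maximalIdeal Q.toSubring).comap (Subring.inclusion hA)) =
          LocalSubring.ofPrime B ((IsLocalRing.maximalIdeal Q.toSubring).comap (Subring.inclusion hB)),
      ∀ r : PrimeSpectrum ↥(A ⊔ B),
        LocalSubring.ofPrime A (r.asIdeal.comap (Subring.inclusion (le_sup_left : A ≤ A ⊔ B))) =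
          LocalSubring.ofPrime B (r.asIdeal.comap (Subring.inclusion (le_sup_right : B ≤ A ⊔ B))),
      ∀ (p : PrimeSpectrum A) (q : PrimeSpectrum B),
        (∃ Q : LocalSubring R, LocalSubring.ofPrime A p.asIdeal ≤ Q ∧ LocalSubring.ofPrime B q.asIdeal ≤ Q) →
          LocalSubring.ofPrime A p.asIdeal = LocalSubring.ofPrime B q.asIdeal,
      Set.range (fun p : PrimeSpectrum A ↦ LocalSubring.ofPrime A p.asIdeal) ∩
          Set.range (fun q : PrimeSpectrum B ↦ LocalSubring.ofPrime B q.asIdeal) =
        Set.range (fun r : PrimeSpectrum ↥(A ⊔ B) ↦ LocalSubring.ofPrime (A ⊔ B) r.asIdeal) ].TFAE := by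
  tfae_have 1 → 2 := by
    intro h r
    have hC := LocalSubring.le_ofPrime (A ⊔ B) r.asIdeal
    have ht := trace_eq_of_le (le_refl (LocalSubring.ofPrime (A ⊔ B) r.asIdeal)) hC
    have e := h (LocalSubring.ofPrime (A ⊔ B) r.asIdeal) (le_sup_left.trans hC) (le_sup_right.trans hC)
    refine ((ofPrime_congr ?_).trans e).trans (ofPrime_congr ?_)
    · conv_lhs => rw [← ht]
      rfl
    · conv_rhs => rw [← ht]
      rfl
  tfae_have 2 → 3 := by
    rintro h p q ⟨Q, hp, hq⟩
    have hC : A ⊔ B ≤ Q.toSubring := sup_le (le_of_ofPrime_le hp) (le_of_ofPrime_le hq)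
    have e := h ⟨trace (A ⊔ B) Q hC, inferInstance⟩
    refine ((ofPrime_congr ?_).trans e).trans (ofPrime_congr ?_)
    · conv_lhs => rw [← trace_eq_of_le hp (le_of_ofPrime_le hp)]
      rfl
    · conv_rhs => rw [← trace_eq_of_le hq (le_of_ofPrime_le hq)]
      rfl
  tfae_have 3 → 4 := by
    intro h
    apply Set.Subset.antisymm
    · rintro Q ⟨⟨p, hp⟩, q, hq⟩
      have hp' : LocalSubring.ofPrime A p.asIdeal ≤ Q := le_of_eq hp
      have hC : A ⊔ B ≤ Q.toSubring := sup_le (le_of_ofPrime_le hp') (le_of_ofPrime_le (le_of_eq hq))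
      refine ⟨⟨trace (A ⊔ B) Q hC, inferInstance⟩, le_antisymm (ofPrime_trace_le _ Q hC) ?_⟩
      show Q ≤ LocalSubring.ofPrime (A ⊔ B) (trace (A ⊔ B) Q hC)
      set Q₂ := LocalSubring.ofPrime (A ⊔ B) (trace (A ⊔ B) Q hC) with hQ₂
      have hle : Q₂ ≤ Q := ofPrime_trace_le _ Q hC
      have hA2 : A ≤ Q₂.toSubring := le_sup_left.trans (LocalSubring.le_ofPrime _ _)
      have ht : trace A Q₂ hA2 = p.asIdeal := by
        rw [← trace_eq_of_le ((ofPrime_trace_le A Q₂ hA2).trans hle) (le_of_ofPrime_le hp'),
          trace_eq_of_le hp']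
      exact hp.symm.trans_le ((ofPrime_congr ht).symm.trans_le (ofPrime_trace_le A Q₂ hA2))
    · rintro Q ⟨r, hr⟩
      have hC : A ⊔ B ≤ Q.toSubring := le_of_ofPrime_le (le_of_eq hr)
      have hA := ofPrime_trace_le A Q (le_sup_left.trans hC)
      have hB := ofPrime_trace_le B Q (le_sup_right.trans hC)
      let p : PrimeSpectrum A := ⟨trace A Q (le_sup_left.trans hC), inferInstance⟩
      let q : PrimeSpectrum B := ⟨trace B Q (le_sup_right.trans hC), inferInstance⟩
      have e := h p q ⟨Q, hA, hB⟩
      have hC1 : A ⊔ B ≤ (LocalSubring.ofPrime A p.asIdeal).toSubring := by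
        refine sup_le (LocalSubring.le_ofPrime _ _) ?_
        rw [e]
        exact LocalSubring.le_ofPrime _ _
      have hQ : Q = LocalSubring.ofPrime A p.asIdeal := by
        refine le_antisymm ?_ hA
        have h1 := ofPrime_trace_le (A ⊔ B) _ hC1
        have h2 := trace_eq_of_le (h1.trans hA) hC
        rw [trace_eq_of_le (le_of_eq hr) hC] at h2
        exact hr.symm.trans_le ((ofPrime_congr h2).trans_le h1)
      exact ⟨⟨p, hQ.symm⟩, q, e.symm.trans hQ.symm⟩
  tfae_have 4 → 1 := by
    intro h Q hA hB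
    have hC : A ⊔ B ≤ Q.toSubring := sup_le hA hB
    obtain ⟨⟨p, hp⟩, q, hq⟩ :=
      (Set.ext_iff.1 h (LocalSubring.ofPrime (A ⊔ B) (trace (A ⊔ B) Q hC))).2
        ⟨⟨trace (A ⊔ B) Q hC, inferInstance⟩, rfl⟩
    have hp' := le_of_eq_of_le hp (ofPrime_trace_le (A ⊔ B) Q hC)
    have hq' := le_of_eq_of_le hq (ofPrime_trace_le (A ⊔ B) Q hC)
    exact ((ofPrime_congr (trace_eq_of_le hp' hA)).trans (hp.trans hq.symm)).trans
      (ofPrime_congr (trace_eq_of_le hq' hB)).symm
  tfae_finish

end Groth.Agent.S4345
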