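import Groth.Statements.S4348
import Groth.Agent.Lib.QCoh.Abelian
import Groth.Agent.Lib.QCoh.Qcqs
import Groth.Agent.Lib.Cohom.Serre

set_option autoImplicit false
universe u
open QCohSup

namespace Groth.Agent.S4348

open AlgebraicGeometry in
open CategoryTheory in
open CategoryTheory.Limits in
/-- Let X be a scheme and U an open subscheme such that the inclusion j : U -> X is quasi-compact. For a
quasi-coherent O_X-module F and a quasi-coherent submodule G of F|U, the canonical extension of G to
X (the preimage of j_*(G) under F -> j_*(F|U), here the fibre product in the category of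
O_X-modules) is quasi-coherent. -/
theorem result
    {X : Scheme.{u}} (U : X.Opens) [QuasiCompact U.ι] (F : X.Modules) [Coh.IsQCoh F]
    (G : (U : Scheme.{u}).Modules) [Coh.IsQCoh G]
    (i : G ⟶ (Scheme.Modules.pullback U.ι).obj F) [Mono i] :
    Coh.IsQCoh (pullback ((Scheme.Modules.pushforward U.ι).map i)
      ((Scheme.Modules.pullbackPushforwardAdjunction U.ι).unit.app F)) := by
  have : F.IsQuasicoherent := inferInstance
  have : ((Scheme.Modules.pullback U.ι).obj F).IsQuasicoherent :=
    GrothLib.QCoh.isQuasicoherent_of_iso ((Scheme.Modules.restrictFunctorIsoPullback U.ι).app F)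
  set a := (Scheme.Modules.pushforward U.ι).map i
  set b := (Scheme.Modules.pullbackPushforwardAdjunction U.ι).unit.app F
  have h1 : ((Scheme.Modules.pushforward U.ι).obj G).IsQuasicoherent :=
    GrothLib.QCoh.isQuasicoherent_pushforward U.ι G
  have h2 : ((Scheme.Modules.pushforward U.ι).obj ((Scheme.Modules.pullback U.ι).obj F)).IsQuasicoherent :=
    GrothLib.QCoh.isQuasicoherent_pushforward U.ι _
  have h3 := GrothLib.Cohom.isQuasicoherent_biprod ((Scheme.Modules.pushforward U.ι).obj G) F
  let d : (Scheme.Modules.pushforward U.ι).obj G ⊞ F ⟶ _ := biprod.fst ≫ a - biprod.snd ≫ b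
  have : (kernel d).IsQuasicoherent := GrothLib.QCoh.isQuasicoherent_kernel d
  have w : (kernel.ι d ≫ biprod.fst) ≫ a = (kernel.ι d ≫ biprod.snd) ≫ b := by
    have := kernel.condition d
    rw [Preadditive.comp_sub, sub_eq_zero] at this
    simpa using this
  let e : kernel d ≅ pullback a b :=
    { hom := pullback.lift _ _ w
      inv := kernel.lift d (biprod.lift (pullback.fst a b) (pullback.snd a b))
        (by simp [d, pullback.condition])
      hom_inv_id := by
        rw [← cancel_mono (kernel.ι d)]
        apply biprod.hom_ext <;> simp <;> first | erw [pullback.lift_fst] | erw [pullback.lift_snd]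
      inv_hom_id := by
        apply pullback.hom_ext <;> simp <;> first | (erw [pullback.lift_fst]; simp) | (erw [pullback.lift_snd]; simp) }
  exact GrothLib.QCoh.isQuasicoherent_of_iso e

end Groth.Agent.S4348
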