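import Groth.Statements.S4358
import Groth.Agent.Lib.FSchSys.Stalk
import Mathlib.RingTheory.Flat.FaithfullyFlat.Basic
-- import your own Groth.Agent.* helpers here

set_option autoImplicit false
universe u
open FCompl

namespace Groth.Agent.S4358

/-- Affine content (the completion of X = Spec A along V(J) has as stalk ring at an open prime 𝔭 the
ring A_{S}, S = A ∖ 𝔭, realised here as the union of the images of the completed rings A_{f}, f ∉ 𝔭,
inside the completed local ring A{S⁻¹}; flatness of the canonical morphism of ringed spaces from the
completion to X is flatness of A_{S} over the local ring of X at 𝔭, equivalently over A). For A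
Noetherian and J ⊆ 𝔭, the canonical ring map A → A_{S} is flat; the hypothesis h records that A →
A{S⁻¹} takes values in A_{S}, which always holds. -/
theorem result
    (A : Type u) [CommRing A] [IsNoetherianRing A] (J 𝔭 : Ideal A) [𝔭.IsPrime] (hJ : J ≤ 𝔭)
    (h : ∀ a : A, ((algebraMap (Localization.AtPrime 𝔭) (FSch.cAtPrime A J 𝔭)).comp
      (algebraMap A (Localization.AtPrime 𝔭))) a ∈ FSch.stalkSubring A J 𝔭) :
    (((algebraMap (Localization.AtPrime 𝔭) (FSch.cAtPrime A J 𝔭)).comp
      (algebraMap A (Localization.AtPrime 𝔭))).codRestrict (FSch.stalkSubring A J 𝔭) h).Flat := by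
  let R := FSch.stalkSubring A J 𝔭
  let C := FSch.cAtPrime A J 𝔭
  let φ : A →+* R := ((algebraMap (Localization.AtPrime 𝔭) C).comp
    (algebraMap A (Localization.AtPrime 𝔭))).codRestrict R h
  let := φ.toAlgebra
  have : IsScalarTower A R C := IsScalarTower.of_algebraMap_eq' rfl
  have : Module.FaithfullyFlat R C := GrothLib.FSchSys.faithfullyFlat_stalkSubring J 𝔭 hJ
  have : IsNoetherianRing (Localization.AtPrime 𝔭) :=
    IsLocalization.isNoetherianRing 𝔭.primeCompl _ inferInstance
  have : Module.Flat A (Localization.AtPrime 𝔭) := IsLocalization.flat _ 𝔭.primeCompl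
  have hAC : Module.Flat A C := Module.Flat.trans A (Localization.AtPrime 𝔭) C
  change Module.Flat A R
  rw [Module.Flat.iff_lTensor_preserves_injective_linearMap]
  intro N P _ _ _ _ f hf
  have h1 := Module.Flat.lTensor_preserves_injective_linearMap (M := C) f hf
  have key : Function.Injective ((f.baseChange R).baseChange C) := by
    let eN := TensorProduct.AlgebraTensorModule.cancelBaseChange A R C C N
    let eP := TensorProduct.AlgebraTensorModule.cancelBaseChange A R C C P
    have hcomm : ∀ z, eP ((f.baseChange R).baseChange C z) = f.lTensor C (eN z) := fun z => by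
      induction z using TensorProduct.induction_on with
      | zero => simp
      | tmul c w =>
        induction w using TensorProduct.induction_on with
        | zero => simp
        | tmul r n => simp [eN, eP]
        | add u v hu hv => simp only [TensorProduct.tmul_add, map_add, hu, hv]
      | add u v hu hv => simp only [map_add, hu, hv]
    intro u v huv
    apply eN.injective
    apply h1
    rw [← hcomm, ← hcomm, huv]
  have h2 : Function.Injective ((f.baseChange R).lTensor C) := fun u v huv => key huv
  exact (Module.FaithfullyFlat.lTensor_injective_iff_injective R C _).mp h2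

end Groth.Agent.S4358
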