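import Groth.Statements.S4359
import Groth.Agent.Lib.LocNoeth.Scheme
import Mathlib.AlgebraicGeometry.Morphisms.FiniteType

set_option autoImplicit false
universe u
open FinCond

namespace Groth.Agent.S4359

open AlgebraicGeometry in
open CategoryTheory in
/-- Let S be a locally Noetherian scheme, p : X -> S a morphism of finite type (locally of finite type
and quasi-compact) and q : Y -> S any morphism. Then every morphism f : X -> Y with f followed by q
equal to p is of finite type, that is, locally of finite type and quasi-compact. -/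
theorem result
    {X Y S : Scheme.{u}} [IsLocallyNoetherian S] (p : X ⟶ S) (q : Y ⟶ S)
    [LocallyOfFiniteType p] [QuasiCompact p] (f : X ⟶ Y) (hf : f ≫ q = p) :
    LocallyOfFiniteType f ∧ QuasiCompact f := by
  subst hf
  refine ⟨locallyOfFiniteType_of_comp f q, ?_⟩
  have : IsLocallyNoetherian X := LocallyOfFiniteType.isLocallyNoetherian (f ≫ q)
  rw [quasiCompact_iff]
  intro U _ hU
  obtain ⟨t, ht⟩ := hU.elim_finite_subcover (fun W : S.affineOpens => q.base ⁻¹' (W.1 : Set S))
    (fun W => W.1.isOpen.preimage q.continuous) (fun y _ => by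
      obtain ⟨_, ⟨W, hW, rfl⟩, hyW, -⟩ := S.isBasis_affineOpens.exists_subset_of_mem_open
        (Set.mem_univ (q.base y)) isOpen_univ
      exact Set.mem_iUnion.mpr ⟨⟨W, hW⟩, hyW⟩)
  refine (GrothLib.LocNoeth.isLocNoeth X).isCompact_of_subset
    (K := ⋃ W ∈ t, (f ≫ q).base ⁻¹' (W.1 : Set S))
    (t.isCompact_biUnion fun W _ => (f ≫ q).isCompact_preimage W.2.isCompact) ?_
  intro x hx
  obtain ⟨W, hW, hxW⟩ := Set.mem_iUnion₂.mp (ht hx)
  exact Set.mem_iUnion₂.mpr ⟨W, hW, hxW⟩

end Groth.Agent.S4359
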