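import Groth.Statements.S4361
import Groth.Agent.Lib.LocNoeth.Space
import Mathlib.AlgebraicGeometry.Morphisms.QuasiCompact

set_option autoImplicit false
universe u
open FinCond

namespace Groth.Agent.S4361

open AlgebraicGeometry in
open CategoryTheory in
/-- Let f : X -> Y and g : Y -> Z be morphisms whose composite is quasi-compact, and suppose the
underlying space of X is locally Noetherian (every point has an open neighbourhood which is a
Noetherian topological space). Then f is quasi-compact. (The published statement also covers the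
case g separated, which is the standard cancellation property; this row states only the case of a
locally Noetherian source.) -/
theorem result
    {X Y Z : Scheme.{u}} (f : X ⟶ Y) (g : Y ⟶ Z) [QuasiCompact (f ≫ g)]
    (hX : ∀ x : X, ∃ U : X.Opens, x ∈ U ∧ TopologicalSpace.NoetherianSpace U) :
    QuasiCompact f := by
  have h : GrothLib.LocNoeth.IsLocNoeth (X : Type u) := fun x => by
    obtain ⟨U, hxU, hU⟩ := hX x
    exact ⟨U, U.isOpen.mem_nhds hxU, hU⟩
  rw [quasiCompact_iff]
  intro U _ hU
  obtain ⟨t, ht⟩ := hU.elim_finite_subcover (fun W : Z.affineOpens => g.base ⁻¹' (W.1 : Set Z))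
    (fun W => W.1.isOpen.preimage g.continuous) (fun y _ => by
      obtain ⟨_, ⟨W, hW, rfl⟩, hyW, -⟩ := Z.isBasis_affineOpens.exists_subset_of_mem_open
        (Set.mem_univ (g.base y)) isOpen_univ
      exact Set.mem_iUnion.mpr ⟨⟨W, hW⟩, hyW⟩)
  refine h.isCompact_of_subset (K := ⋃ W ∈ t, (f ≫ g).base ⁻¹' (W.1 : Set Z))
    (t.isCompact_biUnion fun W _ => (f ≫ g).isCompact_preimage W.2.isCompact) ?_
  intro x hx
  obtain ⟨W, hW, hxW⟩ := Set.mem_iUnion₂.mp (ht hx)
  exact Set.mem_iUnion₂.mpr ⟨W, hW, hxW⟩

end Groth.Agent.S4361
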