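import Groth.Statements.S4363

set_option autoImplicit false
universe u v
open RedSep

namespace Groth.Agent.S4363

open CategoryTheory Limits AlgebraicGeometry in
lemma aux {X Y : Scheme.{u}} [IsAffine Y] (f : X ⟶ Y) {U V : X.Opens} (hU : IsAffineOpen U) (hV : IsAffineOpen V)
    (φ : ↑(U ⊓ V) ⟶ pullback (U.ι ≫ f) (V.ι ≫ f))
    (h₁ : φ ≫ pullback.fst _ _ = X.homOfLE inf_le_left) (h₂ : φ ≫ pullback.snd _ _ = X.homOfLE inf_le_right) :
    IsClosedImmersion φ ↔ IsAffineOpen (U ⊓ V) ∧
      Subring.closure (Set.range (X.presheaf.map (homOfLE (inf_le_left : U ⊓ V ≤ U)).op).hom ∪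
        Set.range (X.presheaf.map (homOfLE (inf_le_right : U ⊓ V ≤ V)).op).hom) = ⊤ := by
  have : IsAffine U.toScheme := hU
  have : IsAffine V.toScheme := hV
  rw [HasAffineProperty.iff_of_isAffine (P := @IsClosedImmersion)]
  refine and_congr Iff.rfl ?_
  set e := (U ⊓ V).topIso
  set r₁ := (X.presheaf.map (homOfLE (inf_le_left : U ⊓ V ≤ U)).op)
  set r₂ := (X.presheaf.map (homOfLE (inf_le_right : U ⊓ V ≤ V)).op)
  have hpo := isPushout_appTop_of_isPullback (IsPullback.of_hasPullback (U.ι ≫ f) (V.ι ≫ f))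
  have hgen : Subring.closure (Set.range (pullback.fst (U.ι ≫ f) (V.ι ≫ f)).appTop.hom ∪
      Set.range (pullback.snd (U.ι ≫ f) (V.ι ≫ f)).appTop.hom) = ⊤ := by
    set P := pullback (U.ι ≫ f) (V.ι ≫ f)
    set R := Subring.closure (Set.range (pullback.fst (U.ι ≫ f) (V.ι ≫ f)).appTop.hom ∪
      Set.range (pullback.snd (U.ι ≫ f) (V.ι ≫ f)).appTop.hom)
    let a : Γ(U.toScheme, ⊤) ⟶ CommRingCat.of R := CommRingCat.ofHom ((pullback.fst (U.ι ≫ f) (V.ι ≫ f)).appTop.hom.codRestrict R
      fun x => Subring.subset_closure (Or.inl ⟨x, rfl⟩))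
    let b : Γ(V.toScheme, ⊤) ⟶ CommRingCat.of R := CommRingCat.ofHom ((pullback.snd (U.ι ≫ f) (V.ι ≫ f)).appTop.hom.codRestrict R
      fun x => Subring.subset_closure (Or.inr ⟨x, rfl⟩))
    have hw : (U.ι ≫ f).appTop ≫ a = (V.ι ≫ f).appTop ≫ b := by
      ext x
      exact congrArg (fun g => g.hom x) hpo.w
    have hs : hpo.desc a b hw ≫ CommRingCat.ofHom R.subtype = 𝟙 _ := by
      apply hpo.hom_ext
      · rw [hpo.inl_desc_assoc, Category.comp_id]; rfl
      · rw [hpo.inr_desc_assoc, Category.comp_id]; rfl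
    refine eq_top_iff.mpr fun x _ => ?_
    have := congrArg (fun g => g.hom x) hs
    simp only [CommRingCat.hom_id, RingHom.id_apply] at this
    rw [← this]
    exact ((hpo.desc a b hw).hom x).2
  have e₁ : (pullback.fst (U.ι ≫ f) (V.ι ≫ f)).appTop ≫ φ.appTop ≫ e.hom = U.topIso.hom ≫ r₁ := by
    rw [← Category.assoc, ← Scheme.Hom.comp_appTop, h₁]
    simp [e, r₁, Scheme.Opens.topIso]
    exact (X.presheaf.map_comp _ _).symm.trans ((congrArg X.presheaf.map (Subsingleton.elim _ _)).trans (X.presheaf.map_comp _ _))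
  have e₂ : (pullback.snd (U.ι ≫ f) (V.ι ≫ f)).appTop ≫ φ.appTop ≫ e.hom = V.topIso.hom ≫ r₂ := by
    rw [← Category.assoc, ← Scheme.Hom.comp_appTop, h₂]
    simp [e, r₂, Scheme.Opens.topIso]
    exact (X.presheaf.map_comp _ _).symm.trans ((congrArg X.presheaf.map (Subsingleton.elim _ _)).trans (X.presheaf.map_comp _ _))
  have hm := congrArg (Subring.map (φ.appTop ≫ e.hom).hom) hgen
  rw [RingHom.map_closure, Set.image_union, ← Set.range_comp, ← Set.range_comp, ← RingHom.coe_comp, ← RingHom.coe_comp,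
    ← CommRingCat.hom_comp, ← CommRingCat.hom_comp, e₁, e₂, ← RingHom.range_eq_map] at hm
  have s₁ : Set.range (U.topIso.hom ≫ r₁).hom = Set.range r₁.hom := by
    rw [CommRingCat.hom_comp, RingHom.coe_comp,
      ((ConcreteCategory.bijective_of_isIso U.topIso.hom).2).range_comp]
  have s₂ : Set.range (V.topIso.hom ≫ r₂).hom = Set.range r₂.hom := by
    rw [CommRingCat.hom_comp, RingHom.coe_comp,
      ((ConcreteCategory.bijective_of_isIso V.topIso.hom).2).range_comp]
  rw [s₁, s₂] at hm
  rw [hm, RingHom.range_eq_top, CommRingCat.hom_comp, RingHom.coe_comp]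
  exact by
    constructor
    · exact fun hs => (ConcreteCategory.bijective_of_isIso e.hom).2.comp hs
    · exact fun hs => Function.Surjective.of_comp_left hs (ConcreteCategory.bijective_of_isIso e.hom).1

open AlgebraicGeometry in
open CategoryTheory in
/-- Let Y be an affine scheme, f : X -> Y a morphism and (U i) a cover of X by affine open subschemes.
Then f is separated if and only if, for every pair of indices i, j, the intersection of U i and U j
is an affine open and its ring of sections is generated, as a ring, by the images of the rings of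
sections of U i and of U j under the restriction maps. -/
theorem result
    {X Y : Scheme.{u}} [IsAffine Y] (f : X ⟶ Y) {ι : Type v} (U : ι → X.Opens)
    (hU : ∀ i, IsAffineOpen (U i)) (hcov : ⨆ i, U i = ⊤) :
    IsSeparated f ↔ ∀ i j, IsAffineOpen (U i ⊓ U j) ∧
      Subring.closure (Set.range (X.presheaf.map (homOfLE (inf_le_left : U i ⊓ U j ≤ U i)).op).hom ∪
        Set.range (X.presheaf.map (homOfLE (inf_le_right : U i ⊓ U j ≤ U j)).op).hom) = ⊤ := by
  let φ : ∀ i j, (↑(U i ⊓ U j) : Scheme.{u}) ⟶ Limits.pullback ((U i).ι ≫ f) ((U j).ι ≫ f) := fun i j =>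
    Limits.pullback.lift (X.homOfLE inf_le_left) (X.homOfLE inf_le_right) (by simp)
  let m : ∀ i j, Limits.pullback ((U i).ι ≫ f) ((U j).ι ≫ f) ⟶ Limits.pullback f f := fun i j =>
    Limits.pullback.map _ _ _ _ (U i).ι (U j).ι (𝟙 _) (Category.comp_id _) (Category.comp_id _)
  have hm₁ : ∀ i j, m i j ≫ Limits.pullback.fst f f = Limits.pullback.fst _ _ ≫ (U i).ι := fun i j =>
    Limits.pullback.lift_fst _ _ _
  have hm₂ : ∀ i j, m i j ≫ Limits.pullback.snd f f = Limits.pullback.snd _ _ ≫ (U j).ι := fun i j =>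
    Limits.pullback.lift_snd _ _ _
  have hφ₁ : ∀ i j, φ i j ≫ Limits.pullback.fst _ _ = X.homOfLE inf_le_left := fun i j =>
    Limits.pullback.lift_fst _ _ _
  have hφ₂ : ∀ i j, φ i j ≫ Limits.pullback.snd _ _ = X.homOfLE inf_le_right := fun i j =>
    Limits.pullback.lift_snd _ _ _
  have hsq : ∀ i j, IsPullback (U i ⊓ U j).ι (φ i j) (Limits.pullback.diagonal f) (m i j) := by
    intro i j
    refine ⟨⟨?_⟩, ⟨Limits.PullbackCone.IsLimit.mk _
      (fun s => IsOpenImmersion.lift (U i ⊓ U j).ι s.fst ?_) (fun s => IsOpenImmersion.lift_fac _ _ _) ?_ ?_⟩⟩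
    · apply Limits.pullback.hom_ext
      · rw [Category.assoc, Category.assoc, Limits.pullback.diagonal_fst, Category.comp_id, hm₁, ← Category.assoc,
          hφ₁, Scheme.homOfLE_ι]
      · rw [Category.assoc, Category.assoc, Limits.pullback.diagonal_snd, Category.comp_id, hm₂, ← Category.assoc,
          hφ₂, Scheme.homOfLE_ι]
    · have h1 := congrArg (· ≫ Limits.pullback.fst f f) s.condition
      have h2 := congrArg (· ≫ Limits.pullback.snd f f) s.condition
      simp only [Category.assoc, Limits.pullback.diagonal_fst, Limits.pullback.diagonal_snd, Category.comp_id, hm₁, hm₂] at h1 h2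
      rintro _ ⟨t, rfl⟩
      rw [Scheme.Opens.range_ι]
      refine ⟨?_, ?_⟩
      · rw [h1]; exact ((s.snd ≫ Limits.pullback.fst _ _).base t).2
      · rw [h2]; exact ((s.snd ≫ Limits.pullback.snd _ _).base t).2
    · intro s
      have h1 := congrArg (· ≫ Limits.pullback.fst f f) s.condition
      have h2 := congrArg (· ≫ Limits.pullback.snd f f) s.condition
      simp only [Category.assoc, Limits.pullback.diagonal_fst, Limits.pullback.diagonal_snd, Category.comp_id, hm₁, hm₂] at h1 h2
      apply Limits.pullback.hom_ext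
      · rw [← cancel_mono (U i).ι]
        simp only [Category.assoc]
        rw [reassoc_of% (hφ₁ i j), Scheme.homOfLE_ι, IsOpenImmersion.lift_fac]
        simpa [Category.assoc] using h1
      · rw [← cancel_mono (U j).ι]
        simp only [Category.assoc]
        rw [reassoc_of% (hφ₂ i j), Scheme.homOfLE_ι, IsOpenImmersion.lift_fac]
        simpa [Category.assoc] using h2
    · intro s l hl _
      rw [← cancel_mono (U i ⊓ U j).ι, IsOpenImmersion.lift_fac]
      exact hl
  have key := fun i j => aux f (hU i) (hU j) (φ i j) (Limits.pullback.lift_fst _ _ _) (Limits.pullback.lift_snd _ _ _)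
  constructor
  · intro hf i j
    exact (key i j).mp (MorphismProperty.of_isPullback (hsq i j) hf.isClosedImmersion_diagonal)
  · intro H
    refine ⟨IsZariskiLocalAtTarget.of_openCover (Scheme.Pullback.openCoverOfLeftRight (X.openCoverOfIsOpenCover U hcov)
      (X.openCoverOfIsOpenCover U hcov) f f) fun ⟨i, j⟩ => ?_⟩
    refine (MorphismProperty.cancel_left_of_respectsIso @IsClosedImmersion (hsq i j).isoPullback.hom _).mp ?_
    change IsClosedImmersion ((hsq i j).isoPullback.hom ≫ Limits.pullback.snd _ _)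
    rw [IsPullback.isoPullback_hom_snd]
    exact (key i j).mpr (H i j)

end Groth.Agent.S4363
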