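import Groth.Statements.S4365
import Groth.Agent.Lib.SchPoints.AlgClosed

set_option autoImplicit false
universe u
open FinCond

namespace Groth.Agent.S4365

open AlgebraicGeometry in
open CategoryTheory in
/-- Let K be a field, X and Y schemes locally of finite type over K, f : X -> Y a K-morphism and Ω an
algebraically closed extension field of K of infinite transcendence degree over K (there is an
algebraically independent sequence in Ω). Then f is surjective if and only if the map it induces
from the K-points of X with values in Ω to those of Y is surjective, i.e. every K-morphism Spec Ω ->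
Y factors through f. (The published proposition assumes X and Y of finite type over K, and a later
remark of the same text extends it to X and Y locally of finite type over K, the form stated here.) -/
theorem result
    (K Ω : Type u) [Field K] [Field Ω] [IsAlgClosed Ω] [Algebra K Ω]
    (t : ℕ → Ω) (ht : AlgebraicIndependent K t)
    {X Y : Scheme.{u}} (pX : X ⟶ Spec (CommRingCat.of K)) (pY : Y ⟶ Spec (CommRingCat.of K))
    [LocallyOfFiniteType pX] [LocallyOfFiniteType pY] (f : X ⟶ Y) (hf : f ≫ pY = pX) :
    Surjective f ↔ ∀ y : Spec (CommRingCat.of Ω) ⟶ Y,
      y ≫ pY = Spec.map (CommRingCat.ofHom (algebraMap K Ω)) →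
        ∃ x : Spec (CommRingCat.of Ω) ⟶ X, x ≫ f = y := by
  have : LocallyOfFiniteType (f ≫ pY) := by rw [hf]; infer_instance
  have : LocallyOfFiniteType f := locallyOfFiniteType_of_comp f pY
  constructor
  · intro hs y _
    exact GrothLib.SchPoints.exists_lift f y (f.surjective _)
  · intro h
    refine ⟨fun y => ?_⟩
    obtain ⟨s, hs, hsy⟩ := GrothLib.SchPoints.exists_point (Ω := Ω) t ht pY y
    obtain ⟨x, hx⟩ := h s hs
    exact ⟨x (IsLocalRing.closedPoint Ω), by rw [← Scheme.Hom.comp_apply, hx, hsy]⟩

end Groth.Agent.S4365
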