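import Groth.Statements.S4366
import Groth.Agent.Lib.AffUnion.Gener

set_option autoImplicit false
universe u
open SchMor

namespace Groth.Agent.S4366

open AlgebraicGeometry in
open CategoryTheory in
open CategoryTheory.Limits in
/-- Let f : X -> Y be a morphism, y a point of Y and Z = Spec O_{Y,y} the local scheme of Y at y with
its canonical morphism to Y. Then the projection p : X x_Y Z -> X induces isomorphisms on all local
rings: for every point t of X x_Y Z the homomorphism O_{X, p t} -> O_{X x_Y Z, t} is bijective. (The
published statement also asserts that p is a homeomorphism onto the preimage of Z; that part is not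
stated here.) -/
theorem result
    {X Y : Scheme.{u}} (f : X ⟶ Y) (y : Y) (t : ↑(pullback f (Y.fromSpecStalk y))) :
    IsIso ((pullback.fst f (Y.fromSpecStalk y)).stalkMap t) := by
    let p := Limits.pullback.fst f (Y.fromSpecStalk y)
    haveI : SurjectiveOnStalks p := MorphismProperty.pullback_fst (P := @SurjectiveOnStalks) _ _ inferInstance
    haveI : Flat p := MorphismProperty.pullback_fst (P := @Flat) _ _ (GrothLib.FFDesc.flat_fromSpecStalk' Y y)
    refine (ConcreteCategory.isIso_iff_bijective _).mpr ⟨?_, p.stalkMap_surjective t⟩
    have hf := Flat.stalkMap p t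
    algebraize [(p.stalkMap t).hom]
    haveI : Module.FaithfullyFlat (X.presheaf.stalk (p t)) ((Limits.pullback f (Y.fromSpecStalk y)).presheaf.stalk t) :=
      @Module.FaithfullyFlat.of_flat_of_isLocalHom _ _ _ _ _ _ _ hf (p.toLRSHom.prop t)
    exact FaithfulSMul.algebraMap_injective (X.presheaf.stalk (p t))
      ((Limits.pullback f (Y.fromSpecStalk y)).presheaf.stalk t)

end Groth.Agent.S4366
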