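import Groth.Statements.S4369
import Mathlib

set_option autoImplicit false
universe u
open AffSch

namespace Groth.Agent.S4369

/-- Let φ : A' -> A be a ring homomorphism such that every f in A can be written f = h φ(f') with h
invertible in A (this holds in particular when φ is surjective). Then the associated continuous map
Spec A -> Spec A' is a homeomorphism onto its image. -/
theorem result
    {A' A : Type u} [CommRing A'] [CommRing A] (φ : A' →+* A)
    (h : ∀ f : A, ∃ (u : Aˣ) (f' : A'), f = (u : A) * φ f') :
    Topology.IsEmbedding (PrimeSpectrum.comap φ) := by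
  have hinj : Function.Injective (PrimeSpectrum.comap φ) := by
    intro q₁ q₂ e
    ext f
    obtain ⟨u, f', rfl⟩ := h f
    rw [Ideal.unit_mul_mem_iff_mem _ u.isUnit, Ideal.unit_mul_mem_iff_mem _ u.isUnit]
    have := congrArg (fun q : PrimeSpectrum A' => f' ∈ q.asIdeal) e
    simpa [PrimeSpectrum.comap_asIdeal] using this
  refine ⟨⟨le_antisymm (continuous_iff_le_induced.mp (PrimeSpectrum.continuous_comap φ)) ?_⟩, hinj⟩
  conv_rhs => rw [PrimeSpectrum.isTopologicalBasis_basic_opens.eq_generateFrom]
  refine le_generateFrom ?_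
  rintro s ⟨f, rfl⟩
  obtain ⟨u, f', rfl⟩ := h f
  refine isOpen_induced_iff.mpr ⟨PrimeSpectrum.basicOpen f', PrimeSpectrum.isOpen_basicOpen, ?_⟩
  ext q
  simp [Ideal.unit_mul_mem_iff_mem _ u.isUnit]

end Groth.Agent.S4369
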