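import Groth.Statements.S4371
import Groth.Agent.Lib.RLpsi8.PlaneMinusPoint

set_option autoImplicit false
universe u
open RedSep

namespace Groth.Agent.S4371

open AlgebraicGeometry in
open CategoryTheory in
/-- Let K be a field and Y = Spec K[s, t] the affine plane over K. The open subset D(s) ∪ D(t) of Y, the
complement of the closed point s = t = 0, is not affine. -/
theorem result
    (K : Type u) [Field K] :
    ¬ IsAffineOpen (X := Spec (CommRingCat.of (MvPolynomial (Fin 2) K)))
      (PrimeSpectrum.basicOpen (MvPolynomial.X 0 : MvPolynomial (Fin 2) K) ⊔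
        PrimeSpectrum.basicOpen (MvPolynomial.X 1 : MvPolynomial (Fin 2) K)) := by
  let A : CommRingCat.{u} := CommRingCat.of (MvPolynomial (Fin 2) K)
  haveI : IsDomain A := inferInstanceAs (IsDomain (MvPolynomial (Fin 2) K))
  let φ : MvPolynomial (Fin 2) K →+* K := MvPolynomial.constantCoeff
  haveI : (RingHom.ker φ).IsPrime := RingHom.ker_isPrime φ
  refine GrothLib.RLpsi8.not_isAffineOpen_specD_sup (A := A) (MvPolynomial.X 0) (MvPolynomial.X 1)
    (MvPolynomial.X_prime) ?_ ⟨RingHom.ker φ, inferInstance⟩ ?_ ?_
  · intro h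
    obtain ⟨c, hc⟩ := Ideal.mem_span_singleton'.mp h
    have := congrArg (MvPolynomial.eval (![0, 1] : Fin 2 → K)) hc
    simp at this
  · show φ _ = 0
    simp [φ]
  · show φ _ = 0
    simp [φ]

end Groth.Agent.S4371
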