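import Groth.Statements.S4372
import Groth.Agent.Lib.RedSub.Basic

set_option autoImplicit false
universe u
open RedSep

namespace Groth.Agent.S4372

open AlgebraicGeometry in
open CategoryTheory in
/-- Let h : Z -> X be an immersion with Z reduced (a reduced subscheme of X), and let W be the reduced
closed subscheme of X whose underlying space is the closure of h(Z). Then Z is an open subscheme of
W: h factors as an open immersion Z -> W followed by the closed immersion W -> X. Stated as the
existence of such a factorization through a reduced scheme W closed-immersed onto the closure of the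
image. -/
theorem result
    {Z X : Scheme.{u}} (h : Z ⟶ X) [IsImmersion h] [IsReduced Z] :
    ∃ (W : Scheme.{u}) (j : Z ⟶ W) (i : W ⟶ X), IsOpenImmersion j ∧ IsClosedImmersion i ∧
      IsReduced W ∧ Set.range i = closure (Set.range h) ∧ j ≫ i = h := by
  let C : TopologicalSpace.Closeds X := ⟨closure (Set.range h), isClosed_closure⟩
  have := GrothLib.RedSub.isReduced_subscheme_vanishingIdeal C
  have hr := GrothLib.RedSub.range_subschemeι_vanishingIdeal C
  obtain ⟨j, hj⟩ := GrothLib.RedSub.exists_lift h (Scheme.IdealSheafData.vanishingIdeal C).subschemeι
    (hr.symm ▸ subset_closure)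
  have : IsImmersion (j ≫ (Scheme.IdealSheafData.vanishingIdeal C).subschemeι) := by rw [hj]; infer_instance
  have : IsImmersion j := IsImmersion.of_comp j (Scheme.IdealSheafData.vanishingIdeal C).subschemeι
  have hopen : IsOpen (Set.range j) := by
    have e : Set.range j = (Scheme.IdealSheafData.vanishingIdeal C).subschemeι.base ⁻¹' coborder (Set.range h) := by
      have h1 : Set.range h = (Scheme.IdealSheafData.vanishingIdeal C).subschemeι.base '' Set.range j := by
        rw [← hj, Scheme.Hom.comp_base, TopCat.coe_comp, Set.range_comp]
      apply (Scheme.IdealSheafData.vanishingIdeal C).subschemeι.isEmbedding.injective.image_injective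
      rw [← h1, Set.image_preimage_eq_range_inter, hr]
      exact closure_inter_coborder.symm
    rw [e]
    exact h.isLocallyClosed_range.isOpen_coborder.preimage (Scheme.Hom.continuous _)
  exact ⟨_, j, _, GrothLib.RedSub.isOpenImmersion_of_isOpen_range j hopen, inferInstance, inferInstance, hr, hj⟩

end Groth.Agent.S4372
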