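import Groth.Statements.S4375
import Groth.Agent.Lib.RLpsi8.AffineCritApply

set_option autoImplicit false
set_option backward.isDefEq.respectTransparency false
universe u
open CategoryTheory CategoryTheory.Limits AlgebraicGeometry TopologicalSpace Opposite
open EGA2

namespace Groth.Agent.S4375

/-- (c') ⇒ (a): let X be a quasi-compact separated scheme. Suppose that for every n, every
quasi-coherent O_X-module F admitting a monomorphism into the free module O_X^n, and every
epimorphism p : F → F'' onto a quasi-coherent O_X-module, the map induced by p on global sections is
surjective. Then X is affine. (The published statement also allows X to be a scheme whose underlying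
space is Noetherian; this row assumes it quasi-compact and separated.) -/
theorem result (X : Scheme.{u}) [CompactSpace X] [X.IsSeparated]
    (h : ∀ (n : ℕ) (F F'' : X.Modules) (i : F ⟶ FlatMod.freeMod X n) (p : F ⟶ F''),
      Mono i → Epi p → Coh.IsQCoh F → Coh.IsQCoh F'' →
        Function.Surjective (p.val.app (Opposite.op ⊤)).hom) :
    IsAffine X := by
  refine GrothLib.RLpsi8.isAffine_of_liftsClosed fun Z => ?_
  let I := Scheme.IdealSheafData.vanishingIdeal Z
  have h1 := GrothLib.Cohom.isQuasicoherent_structureModule X
  haveI := GrothLib.Cohom.isQuasicoherent_structureModule I.subscheme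
  have h2 : (ClSub.quotMod I).IsQuasicoherent := GrothLib.QCoh.isQuasicoherent_pushforward _ _
  refine ⟨_, I.subschemeι, inferInstance, ?_, ?_⟩
  · rw [Scheme.IdealSheafData.range_subschemeι, Scheme.IdealSheafData.coe_support_vanishingIdeal]
  · exact h 1 _ _ (Sigma.ι (fun _ : Fin 1 => Coh.structureModule X) 0) (ClSub.toSubscheme I) inferInstance
      (GrothLib.Euler.epi_toSubscheme I) h1 h2

end Groth.Agent.S4375
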