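import Groth.Statements.S4377
import Groth.Agent.Lib.RLpsi8.AffineCritApply

set_option autoImplicit false
set_option backward.isDefEq.respectTransparency false
universe u
open CategoryTheory CategoryTheory.Limits AlgebraicGeometry TopologicalSpace Opposite
open EGA2

namespace Groth.Agent.S4377

/-- (c') ⇒ (a): let f : X → Y be a separated quasi-compact morphism such that R¹f_*(J) = 0 (first higher
direct image of the underlying abelian sheaf) for every quasi-coherent submodule J of O_X. Then f is
an affine morphism. -/
theorem result {X Y : Scheme.{u}} (f : X ⟶ Y) [IsSeparated f] [QuasiCompact f]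
    (h : ∀ (J : X.Modules) (i : J ⟶ Coh.structureModule X), Mono i → Coh.IsQCoh J →
      Limits.IsZero ((Coh.RpushAb f 1).obj (Coh.toAb J))) :
    IsAffineHom f := by
  exact GrothLib.RLpsi8.isAffineHom_of_surjective f fun V hV Z => GrothLib.RLpsi8.surjective_of_R1 f h hV Z

end Groth.Agent.S4377
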