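import Groth.Statements.S4378
import Groth.Agent.Lib.UCTest.AffineSpace
import Mathlib.AlgebraicGeometry.Morphisms.Proper

set_option autoImplicit false
universe u
open CategoryTheory CategoryTheory.Limits AlgebraicGeometry
open EGA2

namespace Groth.Agent.S4378

/-- Let q : Y → S be separated and of finite type, and f : X → Y a morphism such that X is also
separated and of finite type over S through f ≫ q. Then f is proper if and only if for every scheme
S' over S the morphism X ×_S S' → Y ×_S S' induced by f is closed (as a map of topological spaces). -/
theorem result {X Y S : Scheme.{u}} (q : Y ⟶ S) (f : X ⟶ Y)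
    [IsSeparated q] [LocallyOfFiniteType q] [QuasiCompact q]
    [IsSeparated (f ≫ q)] [LocallyOfFiniteType (f ≫ q)] [QuasiCompact (f ≫ q)] :
    IsProper f ↔ ∀ (S' : Scheme.{u}) (g : S' ⟶ S),
      IsClosedMap (pullback.map (f ≫ q) g q g f (𝟙 S') (𝟙 S) (Category.comp_id (f ≫ q))
        ((Category.comp_id g).trans (Category.id_comp g).symm)).base := by
  constructor
  · intro hf S' g
    have h : IsPullback (pullback.fst (f ≫ q) g)
        (pullback.map (f ≫ q) g q g f (𝟙 S') (𝟙 S) (Category.comp_id (f ≫ q))
          ((Category.comp_id g).trans (Category.id_comp g).symm))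
        f (pullback.fst q g) := by
      refine IsPullback.of_bot ?_ (pullback.lift_fst _ _ _).symm (IsPullback.of_hasPullback q g)
      rw [pullback.lift_snd, Category.comp_id]
      exact IsPullback.of_hasPullback (f ≫ q) g
    have : UniversallyClosed _ := MorphismProperty.of_isPullback (P := @UniversallyClosed) h inferInstance
    exact Scheme.Hom.isClosedMap _
  intro H
  have : IsSeparated f := IsSeparated.of_comp f q
  have : LocallyOfFiniteType f := locallyOfFiniteType_of_comp f q
  have : QuasiCompact f := QuasiCompact.of_comp f q
  have : UniversallyClosed f := by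
    refine GrothLib.UCTest.universallyClosed_of_affineSpace f fun n ↦ ?_
    let hT := 𝔸(ULift.{u} (Fin n); Y) ↘ Y
    let g := hT ≫ q
    let M := pullback.map (f ≫ q) g q g f (𝟙 _) (𝟙 S) (Category.comp_id (f ≫ q))
      ((Category.comp_id g).trans (Category.id_comp g).symm)
    let σ := pullback.lift hT (𝟙 _) (show hT ≫ q = 𝟙 _ ≫ g from (Category.id_comp g).symm)
    have hσ : IsClosedImmersion σ := by
      have : IsClosedImmersion (σ ≫ pullback.snd q g) := by rw [pullback.lift_snd]; infer_instance
      exact IsClosedImmersion.of_comp σ (pullback.snd q g)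
    let τ := pullback.lift (pullback.fst f hT) (pullback.snd f hT)
      (show pullback.fst f hT ≫ f ≫ q = pullback.snd f hT ≫ g by rw [pullback.condition_assoc])
    have h : IsPullback (pullback.fst (f ≫ q) g) M f (pullback.fst q g) := by
      refine IsPullback.of_bot ?_ (pullback.lift_fst _ _ _).symm (IsPullback.of_hasPullback q g)
      rw [pullback.lift_snd, Category.comp_id]
      exact IsPullback.of_hasPullback (f ≫ q) g
    have h' : IsPullback τ (pullback.snd f hT) M σ := by
      refine IsPullback.of_right ?_ ?_ h
      · rw [pullback.lift_fst, pullback.lift_fst]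
        exact IsPullback.of_hasPullback f hT
      · apply pullback.hom_ext
        · simp only [M, σ, τ, pullback.map, Category.assoc, pullback.lift_fst, pullback.lift_fst_assoc, pullback.condition]
        · simp only [M, σ, τ, pullback.map, Category.assoc, pullback.lift_snd, pullback.lift_snd_assoc, Category.comp_id]
    have : IsClosedImmersion τ := MorphismProperty.of_isPullback (P := @IsClosedImmersion) h'.flip hσ
    intro Z hZ
    have h1 : IsClosed (M.base '' (τ.base '' Z)) := H _ g _ (τ.isClosedMap _ hZ)
    rw [σ.isClosedEmbedding.isClosed_iff_image_isClosed]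
    convert h1 using 1
    rw [Set.image_image, Set.image_image]
    exact Set.image_congr fun z _ ↦ by rw [← Scheme.Hom.comp_apply, ← Scheme.Hom.comp_apply, h'.w]
  exact {}

end Groth.Agent.S4378
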