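import Groth.Statements.S4380
import Groth.Agent.Lib.Ample.Functorial

set_option autoImplicit false
universe u
open CategoryTheory CategoryTheory.Limits AlgebraicGeometry
open EGA2

namespace Groth.Agent.S4380

/-- Let f : X → Y be a quasi-compact morphism, L an O_X-module and (U_i) a cover of Y by open subsets.
Then L is ample relative to f if and only if, for every i, the restriction of L to f⁻¹(U_i) is ample
relative to the restriction f⁻¹(U_i) → U_i of f. -/
theorem result {X Y : Scheme.{u}} (f : X ⟶ Y) [QuasiCompact f] (L : X.Modules)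
    {ι : Type u} (U : ι → Y.Opens) (hU : ⨆ i, U i = ⊤) :
    RelAmple.IsRelAmple f L ↔ ∀ i, RelAmple.IsRelAmple (f ∣_ (U i)) (L.restrict (f ⁻¹ᵁ (U i)).ι) := by
  constructor
  · intro h i
    refine ⟨inferInstance, fun V => ?_⟩
    rw [GrothLib.Ample.isAmple_restrict_restrict_iff, image_morphismRestrict_preimage]
    exact h.2 ⟨(U i).ι ''ᵁ V.1, V.2.image_of_isOpenImmersion _⟩
  · intro h
    refine GrothLib.Ample.isRelAmple_of_cover fun y => ?_
    obtain ⟨i, hi⟩ := TopologicalSpace.Opens.mem_iSup.mp (hU ▸ TopologicalSpace.Opens.mem_top y : y ∈ ⨆ i, U i)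
    obtain ⟨O, hO, hyO, hOU⟩ := exists_isAffineOpen_mem_and_subset hi
    refine ⟨O, hyO, hO, ?_⟩
    have e : (U i).ι ''ᵁ ((U i).ι ⁻¹ᵁ O) = O := by
      rw [Scheme.Hom.image_preimage_eq_opensRange_inf, Scheme.Opens.opensRange_ι]
      exact inf_eq_right.mpr hOU
    have h2 : IsAffineOpen ((U i).ι ⁻¹ᵁ O) := by
      rw [← (U i).ι.isAffineOpen_iff_of_isOpenImmersion, e]; exact hO
    have h3 := (h i).2 ⟨_, h2⟩
    rw [GrothLib.Ample.isAmple_restrict_restrict_iff, image_morphismRestrict_preimage, e] at h3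
    exact h3

end Groth.Agent.S4380
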