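import Groth.Statements.S4382
import Groth.Agent.Lib.RLpsi8.IdealAmple
import Groth.Agent.Lib.RLpsi8.CounitEpi
import Groth.Agent.Lib.Cohom.RpushModules
import Groth.Agent.Lib.RelVanish.Basic

set_option autoImplicit false
set_option backward.isDefEq.respectTransparency false
universe u
open CategoryTheory CategoryTheory.Limits AlgebraicGeometry TopologicalSpace Opposite
open EGA2

namespace Groth.Agent.S4382

/-- Let X be a quasi-compact separated scheme, f : X → Y a separated quasi-compact morphism and L an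
invertible O_X-module. Then L is ample relative to f if and only if for every quasi-coherent
O_X-module F of finite type there is n₀ > 0 such that for every n ≥ n₀ the canonical morphism
f^*(f_*(F ⊗ L^{⊗n})) → F ⊗ L^{⊗n} (the counit of the adjunction between f^* and f_*) is an
epimorphism. (The published statement also allows X to be a scheme whose underlying space is
Noetherian; this row assumes X quasi-compact and separated.) -/
theorem result {X Y : Scheme.{u}} [CompactSpace X] [X.IsSeparated] (f : X ⟶ Y)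
    [IsSeparated f] [QuasiCompact f] (L : X.Modules) (hL : PicF.IsInvertible L) :
    RelAmple.IsRelAmple f L ↔ ∀ F : X.Modules, Coh.IsQCoh F → CohB1.IsFT F →
      ∃ n₀ : ℕ, 0 < n₀ ∧ ∀ n : ℕ, n₀ ≤ n →
        Epi ((Scheme.Modules.pullbackPushforwardAdjunction f).counit.app (CohB1.tensorMod F (CohB1.tensorPow L n))) := by
  classical
  constructor
  · intro hamp F hF hFT
    haveI : F.IsQuasicoherent := hF
    obtain ⟨c, ⟨e⟩⟩ := GrothLib.Ample.exists_cocycle hL
    choose V hV hxV _ using fun x : X => exists_isAffineOpen_mem_and_subset (Opens.mem_top (f x))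
    obtain ⟨T, hT⟩ := isCompact_univ.elim_finite_subcover (fun x => (f ⁻¹ᵁ V x : Set X))
      (fun x => (f ⁻¹ᵁ V x).isOpen) fun x _ => Set.mem_iUnion.mpr ⟨x, hxV x⟩
    have hx : ∀ x : X, ∃ n₀ : ℕ, ∀ n, n₀ ≤ n →
        Curv2.IsGloballyGenerated ((CohB1.tensorMod F (CohB1.tensorPow L n)).restrict (f ⁻¹ᵁ V x).ι) := fun x => by
      let U := f ⁻¹ᵁ V x
      obtain ⟨eU⟩ := c.nonempty_restrict_iso U.ι e
      obtain ⟨hUc, hA⟩ := ((c.comap U.ι).isAmple_iff eU).mp (hamp.2 ⟨V x, hV x⟩)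
      haveI := hUc
      haveI : (F.restrict U.ι).IsQuasicoherent := inferInstance
      obtain ⟨n₀, h⟩ := (c.comap U.ι).eventually_isGloballyGenerated (F.restrict U.ι) hA fun p =>
        ⟨⊤, trivial, fun W hW _ => GrothLib.QCoh.moduleFinite_of_isFiniteType _
          ((GrothLib.Cohom.isCoh_restrict F ⟨hF, hFT⟩ U.ι).2) hW⟩
      refine ⟨n₀, fun n hn => ?_⟩
      obtain ⟨φ⟩ := GrothLib.RelVanish.nonempty_restrict_tensorPow U.ι F hL n
      obtain ⟨d⟩ := (c.comap U.ι).nonempty_tensorPow_iso eU n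
      obtain ⟨t⟩ := (c.comap U.ι).nonempty_tensor_modTwist (F.restrict U.ι) n
      exact GrothLib.Ample.isGloballyGenerated_of_iso
        (φ ≪≫ GrothLib.Ample.LineData.tensorModMapIso (Iso.refl _) d ≪≫ t).symm (h n hn)
    choose n₀ hn₀ using hx
    refine ⟨T.sup n₀ + 1, Nat.succ_pos _, fun n hn => ?_⟩
    haveI : (CohB1.tensorMod F (CohB1.tensorPow L n)).IsQuasicoherent :=
      GrothLib.VA.isQCoh_tensor hF (GrothLib.InvExt.isQuasicoherent_of_isInvertible (GrothLib.Ample.isInvertible_tensorPow hL n))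
    refine GrothLib.RLpsi8.epi_counit_of_ggen_on f _ fun x => ?_
    obtain ⟨t, ht, hxt⟩ := Set.mem_iUnion₂.mp (hT (Set.mem_univ x))
    exact ⟨V t, hxt, hn₀ t n ((Finset.le_sup ht).trans (Nat.le_of_succ_le hn))⟩
  · intro h
    refine ⟨inferInstance, fun U => ?_⟩
    obtain ⟨c, ⟨e⟩⟩ := GrothLib.Ample.exists_cocycle hL
    obtain ⟨eU⟩ := c.nonempty_restrict_iso (f ⁻¹ᵁ U.1).ι e
    refine ((c.comap (f ⁻¹ᵁ U.1).ι).isAmple_iff eU).mpr
      ⟨isCompact_iff_compactSpace.mp (f.isCompact_preimage U.2.isCompact), fun p => ?_⟩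
    obtain ⟨W, hW, hxW, hWU⟩ := exists_isAffineOpen_mem_and_subset (U := f ⁻¹ᵁ U.1) p.2
    obtain ⟨J, φ, hφ, hJ, hFT, O, k, hk, hvan⟩ := GrothLib.RLpsi8.exists_ft_ideal hxW
    obtain ⟨n, hn, hepi⟩ := h J hJ hFT
    obtain ⟨m, rfl⟩ := Nat.exists_eq_add_one.mpr hn
    obtain ⟨d⟩ := c.nonempty_tensorPow_iso e (m + 1)
    haveI := hepi (m + 1) le_rfl
    obtain ⟨a, ha⟩ := GrothLib.RLpsi8.exists_affine_locus_preimage c φ d f hJ U.2 hW hWU hvan p k hk
    exact ⟨m, a, ha⟩

end Groth.Agent.S4382
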