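import Groth.Statements.S4383
import Groth.Agent.Lib.RLpsi8.IdealAmple

set_option autoImplicit false
set_option backward.isDefEq.respectTransparency false
universe u
open CategoryTheory CategoryTheory.Limits AlgebraicGeometry TopologicalSpace Opposite
open EGA2

namespace Groth.Agent.S4383

/-- Let X be a quasi-compact separated scheme, f : X → Y a separated quasi-compact morphism and L an
invertible O_X-module. Suppose that for every quasi-coherent submodule J of O_X of finite type there
is n > 0 such that the canonical morphism f^*(f_*(J ⊗ L^{⊗n})) → J ⊗ L^{⊗n} is an epimorphism. Then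
L is ample relative to f. (The published statement also allows X to be a scheme whose underlying
space is Noetherian; this row assumes X quasi-compact and separated.) -/
theorem result {X Y : Scheme.{u}} [CompactSpace X] [X.IsSeparated] (f : X ⟶ Y)
    [IsSeparated f] [QuasiCompact f] (L : X.Modules) (hL : PicF.IsInvertible L)
    (h : ∀ (J : X.Modules) (i : J ⟶ Coh.structureModule X), Mono i → Coh.IsQCoh J → CohB1.IsFT J →
      ∃ n : ℕ, 0 < n ∧
        Epi ((Scheme.Modules.pullbackPushforwardAdjunction f).counit.app (CohB1.tensorMod J (CohB1.tensorPow L n)))) :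
    RelAmple.IsRelAmple f L := by
  refine ⟨inferInstance, fun U => ?_⟩
  obtain ⟨c, ⟨e⟩⟩ := GrothLib.Ample.exists_cocycle hL
  obtain ⟨eU⟩ := c.nonempty_restrict_iso (f ⁻¹ᵁ U.1).ι e
  refine ((c.comap (f ⁻¹ᵁ U.1).ι).isAmple_iff eU).mpr
    ⟨isCompact_iff_compactSpace.mp (f.isCompact_preimage U.2.isCompact), fun p => ?_⟩
  obtain ⟨W, hW, hxW, hWU⟩ := exists_isAffineOpen_mem_and_subset (U := f ⁻¹ᵁ U.1) p.2
  obtain ⟨J, φ, hφ, hJ, hFT, O, k, hk, hvan⟩ := GrothLib.RLpsi8.exists_ft_ideal hxW
  obtain ⟨n, hn, hepi⟩ := h J φ hφ hJ hFT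
  obtain ⟨m, rfl⟩ := Nat.exists_eq_add_one.mpr hn
  obtain ⟨d⟩ := c.nonempty_tensorPow_iso e (m + 1)
  haveI := hepi
  obtain ⟨a, ha⟩ := GrothLib.RLpsi8.exists_affine_locus_preimage c φ d f hJ U.2 hW hWU hvan p k hk
  exact ⟨m, a, ha⟩

end Groth.Agent.S4383
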