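import Groth.Statements.S4384
import Groth.Agent.Lib.Ample.Functorial

set_option autoImplicit false
universe u
open CategoryTheory CategoryTheory.Limits AlgebraicGeometry
open EGA2

namespace Groth.Agent.S4384

/-- Let f : X → Y be a quasi-compact morphism and L, L' two O_X-modules ample relative to f. Then L ⊗ L'
is ample relative to f. -/
theorem result {X Y : Scheme.{u}} (f : X ⟶ Y) [QuasiCompact f] (L L' : X.Modules)
    (hL : RelAmple.IsRelAmple f L) (hL' : RelAmple.IsRelAmple f L') :
    RelAmple.IsRelAmple f (CohB1.tensorMod L L') := by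
  refine ⟨inferInstance, fun V => ?_⟩
  obtain ⟨e⟩ := GrothLib.Ample.nonempty_pullback_tensorMod (f ⁻¹ᵁ V.1).ι
    (GrothLib.Ample.isInvertible_of_isRelAmple hL) (GrothLib.Ample.isInvertible_of_isRelAmple hL')
  rw [GrothLib.Ample.isAmple_restrict_iff, GrothLib.Ample.isAmple_iff_of_iso e]
  exact GrothLib.Ample.isAmple_tensorMod ((GrothLib.Ample.isAmple_restrict_iff _ L).mp (hL.2 V))
    ((GrothLib.Ample.isAmple_restrict_iff _ L').mp (hL'.2 V))

end Groth.Agent.S4384
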