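import Groth.Statements.S4385
import Groth.Agent.Lib.Ample.Functorial

set_option autoImplicit false
universe u
open CategoryTheory CategoryTheory.Limits AlgebraicGeometry
open EGA2

namespace Groth.Agent.S4385

/-- Let f : X → Y and f' : X' → Y be quasi-compact morphisms, X'' = X ⨿ X' their disjoint union with f''
: X'' → Y the morphism restricting to f and f', and L'' an O_{X''}-module whose inverse images L on
X and L' on X' (along the two coprojections) are invertible. Then L'' is ample relative to f'' if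
and only if L is ample relative to f and L' is ample relative to f'. -/
theorem result {X X' Y : Scheme.{u}} (f : X ⟶ Y) (f' : X' ⟶ Y) [QuasiCompact f] [QuasiCompact f']
    (L'' : (X ⨿ X').Modules)
    (hL : PicF.IsInvertible ((Scheme.Modules.pullback (coprod.inl : X ⟶ X ⨿ X')).obj L''))
    (hL' : PicF.IsInvertible ((Scheme.Modules.pullback (coprod.inr : X' ⟶ X ⨿ X')).obj L'')) :
    RelAmple.IsRelAmple (coprod.desc f f') L'' ↔
      RelAmple.IsRelAmple f ((Scheme.Modules.pullback (coprod.inl : X ⟶ X ⨿ X')).obj L'') ∧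
        RelAmple.IsRelAmple f' ((Scheme.Modules.pullback (coprod.inr : X' ⟶ X ⨿ X')).obj L'') := by
  have himg : ∀ O : Y.Opens, coprod.desc f f' ⁻¹ᵁ O =
      (coprod.inl : X ⟶ X ⨿ X') ''ᵁ (f ⁻¹ᵁ O) ⊔ (coprod.inr : X' ⟶ X ⨿ X') ''ᵁ (f' ⁻¹ᵁ O) := by
    intro O
    ext z
    simp only [SetLike.mem_coe, TopologicalSpace.Opens.mem_sup]
    constructor
    · intro hz
      obtain ⟨(x | x), rfl⟩ := (coprodMk X X').surjective z
      · rw [coprodMk_inl] at hz ⊢
        exact Or.inl ⟨x, show f x ∈ O by rwa [Scheme.Hom.mem_preimage, ← Scheme.Hom.comp_apply, coprod.inl_desc] at hz, rfl⟩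
      · rw [coprodMk_inr] at hz ⊢
        exact Or.inr ⟨x, show f' x ∈ O by rwa [Scheme.Hom.mem_preimage, ← Scheme.Hom.comp_apply, coprod.inr_desc] at hz, rfl⟩
    · rintro (⟨x, hx, rfl⟩ | ⟨x, hx, rfl⟩)
      · show ((coprod.inl : X ⟶ X ⨿ X') ≫ coprod.desc f f') x ∈ O
        rw [coprod.inl_desc]; exact hx
      · show ((coprod.inr : X' ⟶ X ⨿ X') ≫ coprod.desc f f') x ∈ O
        rw [coprod.inr_desc]; exact hx
  haveI : QuasiCompact (coprod.desc f f') := by
    refine ⟨fun K hK hKc => ?_⟩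
    have h := himg ⟨K, hK⟩
    rw [show (coprod.desc f f') ⁻¹' K = ((coprod.desc f f' ⁻¹ᵁ ⟨K, hK⟩ : (X ⨿ X').Opens) : Set (X ⨿ X' : Scheme.{u})) from rfl, h]
    exact ((f.isCompact_preimage (U := ⟨K, hK⟩) hKc).image (coprod.inl : X ⟶ X ⨿ X').continuous).union
      ((f'.isCompact_preimage (U := ⟨K, hK⟩) hKc).image (coprod.inr : X' ⟶ X ⨿ X').continuous)
  -- a piece is ample iff the corresponding image open is
  have piece : ∀ {Z : Scheme.{u}} (j : Z ⟶ X ⨿ X') [IsOpenImmersion j] (O : Z.Opens),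
      CohB1.IsAmple (((Scheme.Modules.pullback j).obj L'').restrict O.ι) ↔
        CohB1.IsAmple (L''.restrict (j ''ᵁ O).ι) := by
    intro Z j _ O
    rw [GrothLib.Ample.isAmple_restrict_iff, GrothLib.Ample.isAmple_pullback_comp_iff,
      GrothLib.Ample.isAmple_restrict_iff]
    refine GrothLib.Ample.isAmple_pullback_iff_of_range_eq _ _ ?_
    rw [Scheme.Hom.comp_base, TopCat.coe_comp, Set.range_comp, O.range_ι, (j ''ᵁ O).range_ι]
    rfl
  constructor
  · intro h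
    have hsub : ∀ V : Y.affineOpens, (coprod.inl : X ⟶ X ⨿ X') ''ᵁ (f ⁻¹ᵁ V.1) ≤ coprod.desc f f' ⁻¹ᵁ V.1 :=
      fun V => himg V.1 ▸ le_sup_left
    have hsub' : ∀ V : Y.affineOpens, (coprod.inr : X' ⟶ X ⨿ X') ''ᵁ (f' ⁻¹ᵁ V.1) ≤ coprod.desc f f' ⁻¹ᵁ V.1 :=
      fun V => himg V.1 ▸ le_sup_right
    exact ⟨⟨inferInstance, fun V => (piece _ _).mpr (GrothLib.Ample.isAmple_restrict_of_le (hsub V)
        ((f.isCompact_preimage V.2.isCompact).image (coprod.inl : X ⟶ X ⨿ X').continuous) (h.2 V))⟩,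
      ⟨inferInstance, fun V => (piece _ _).mpr (GrothLib.Ample.isAmple_restrict_of_le (hsub' V)
        ((f'.isCompact_preimage V.2.isCompact).image (coprod.inr : X' ⟶ X ⨿ X').continuous) (h.2 V))⟩⟩
  · rintro ⟨h, h'⟩
    refine ⟨inferInstance, fun V => ?_⟩
    let U := coprod.desc f f' ⁻¹ᵁ V.1
    let A := (coprod.inl : X ⟶ X ⨿ X') ''ᵁ (f ⁻¹ᵁ V.1)
    let B := (coprod.inr : X' ⟶ X ⨿ X') ''ᵁ (f' ⁻¹ᵁ V.1)
    have hA := (piece _ _).mp (h.2 V)
    have hB := (piece _ _).mp (h'.2 V)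
    have hU : U = A ⊔ B := himg V.1
    have hAB : IsCompl (U.ι ⁻¹ᵁ A) (U.ι ⁻¹ᵁ B) := by
      refine IsCompl.of_eq ?_ ?_
      · rw [eq_bot_iff]
        rintro z ⟨⟨a, -, ha⟩, ⟨b, -, hb⟩⟩
        exact absurd (ha.trans hb.symm) (inl_ne_inr X X' a b)
      · rw [eq_top_iff]
        intro z _
        have hz : U.ι z ∈ U := z.2
        replace hz : U.ι z ∈ A ⊔ B := hU.le hz
        exact hz
    have eA : U.ι ''ᵁ (U.ι ⁻¹ᵁ A) = A := by
      rw [Scheme.Hom.image_preimage_eq_opensRange_inf, Scheme.Opens.opensRange_ι]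
      exact inf_eq_right.mpr (hU ▸ le_sup_left)
    have eB : U.ι ''ᵁ (U.ι ⁻¹ᵁ B) = B := by
      rw [Scheme.Hom.image_preimage_eq_opensRange_inf, Scheme.Opens.opensRange_ι]
      exact inf_eq_right.mpr (hU ▸ le_sup_right)
    have hA' := (GrothLib.Ample.isAmple_restrict_restrict_iff L'' U (U.ι ⁻¹ᵁ A)).mpr (by rw [eA]; exact hA)
    have hB' := (GrothLib.Ample.isAmple_restrict_restrict_iff L'' U (U.ι ⁻¹ᵁ B)).mpr (by rw [eB]; exact hB)
    refine GrothLib.Ample.isAmple_of_isCompl ?_ hAB hA' hB'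
    refine GrothLib.Ample.isInvertible_of_restrict (fun b : Bool => bif b then U.ι ⁻¹ᵁ A else U.ι ⁻¹ᵁ B) ?_ fun b => ?_
    · rw [iSup_bool_eq]; exact hAB.sup_eq_top
    · cases b
      · exact hB'.1
      · exact hA'.1

end Groth.Agent.S4385
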