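import Groth.Statements.S4386
import Groth.Agent.Lib.Ample.VeryAmple

set_option autoImplicit false
universe u
open CategoryTheory CategoryTheory.Limits AlgebraicGeometry
open EGA2

namespace Groth.Agent.S4386

/-- Let Y be an affine scheme, q : X → Y a separated morphism of finite type, L an ample O_X-module and
L' an invertible O_X-module. Then there is n₀ such that for every n ≥ n₀ the module L^{⊗n} ⊗ L' is
very ample relative to q: it is isomorphic to the inverse image of O(1) along some immersion of X
into a projective space P^m_Y over Y. (The published statement means very ample through the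
projective bundle P(E) of a quasi-coherent module E on Y; for a morphism of finite type to an affine
base this is equivalent to the form with an immersion into P^m_Y used in this row.) -/
theorem result {X Y : Scheme.{u}} [IsAffine Y] (q : X ⟶ Y) [IsSeparated q]
    [QuasiCompact q] [LocallyOfFiniteType q] (L L' : X.Modules) (hL : CohB1.IsAmple L) (hL' : PicF.IsInvertible L') :
    ∃ n₀ : ℕ, ∀ n : ℕ, n₀ ≤ n → RelAmple.IsRelVeryAmplePn q (CohB1.tensorMod (CohB1.tensorPow L n) L') := by
  haveI := GrothLib.Ample.compactSpace_of_isAmple hL
  obtain ⟨c, ⟨e⟩⟩ := GrothLib.Ample.exists_cocycle hL.1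
  obtain ⟨c', ⟨e'⟩⟩ := GrothLib.Ample.exists_cocycle hL'
  obtain ⟨n₀, h⟩ := GrothLib.Ample.eventually_isRelVeryAmplePn q c c' ((c.isAmple_iff e).mp hL).2
  refine ⟨n₀, fun n hn => ?_⟩
  obtain ⟨d⟩ := c.nonempty_tensorPow_iso_pow e n
  obtain ⟨f⟩ := (c.pow n).nonempty_tensorMod_iso_prod c' d e'
  exact h n hn f

end Groth.Agent.S4386
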