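import Groth.Statements.S4387
import Groth.Agent.Lib.Ample.Functorial

set_option autoImplicit false
universe u
open CategoryTheory CategoryTheory.Limits AlgebraicGeometry
open EGA2

namespace Groth.Agent.S4387

/-- Let f : X → Y be a quasi-compact morphism, L an invertible O_X-module and n > 0 an integer. Then L
is ample relative to f if and only if L^{⊗n} is ample relative to f. -/
theorem result {X Y : Scheme.{u}} (f : X ⟶ Y) [QuasiCompact f] (L : X.Modules)
    (hL : PicF.IsInvertible L) (n : ℕ) (hn : 0 < n) :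
    RelAmple.IsRelAmple f L ↔ RelAmple.IsRelAmple f (CohB1.tensorPow L n) := by
  have key : ∀ U : X.Opens, CohB1.IsAmple (L.restrict U.ι) ↔ CohB1.IsAmple ((CohB1.tensorPow L n).restrict U.ι) := by
    intro U
    obtain ⟨e⟩ := GrothLib.Ample.nonempty_pullback_tensorPow U.ι hL n
    rw [GrothLib.Ample.isAmple_restrict_iff, GrothLib.Ample.isAmple_restrict_iff,
      GrothLib.Ample.isAmple_iff_of_iso e,
      GrothLib.Ample.isAmple_tensorPow_iff (GrothLib.Ample.isInvertible_pullback U.ι hL) hn]
  exact ⟨fun h => ⟨h.1, fun V => (key _).mp (h.2 V)⟩, fun h => ⟨h.1, fun V => (key _).mpr (h.2 V)⟩⟩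

end Groth.Agent.S4387
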