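import Groth.Statements.S4388
import Groth.Agent.Lib.RLpsi8.IdealAmple
import Groth.Agent.Lib.RLpsi8.CounitEpi
import Groth.Agent.Lib.Ample.Product

set_option autoImplicit false
set_option backward.isDefEq.respectTransparency false
universe u
open CategoryTheory CategoryTheory.Limits AlgebraicGeometry TopologicalSpace Opposite
open EGA2

namespace Groth.Agent.S4388

/-- Let f : X → Y be a quasi-compact morphism, L an O_X-module ample relative to f and L' an invertible
O_X-module such that, for some n > 0, the canonical morphism f^*(f_*(L'^{⊗n})) → L'^{⊗n} (counit of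
the adjunction between f^* and f_*) is an epimorphism. Then L ⊗ L' is ample relative to f. -/
theorem result {X Y : Scheme.{u}} (f : X ⟶ Y) [QuasiCompact f] (L L' : X.Modules)
    (hL : RelAmple.IsRelAmple f L) (hL' : PicF.IsInvertible L') (n : ℕ) (hn : 0 < n)
    (hepi : Epi ((Scheme.Modules.pullbackPushforwardAdjunction f).counit.app (CohB1.tensorPow L' n))) :
    RelAmple.IsRelAmple f (CohB1.tensorMod L L') := by
  refine ⟨inferInstance, fun V => ?_⟩
  let U := f ⁻¹ᵁ V.1
  have hLi := GrothLib.Ample.isInvertible_of_isRelAmple hL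
  obtain ⟨c, ⟨e⟩⟩ := GrothLib.Ample.exists_cocycle hLi
  obtain ⟨c', ⟨e'⟩⟩ := GrothLib.Ample.exists_cocycle hL'
  obtain ⟨d⟩ := c'.nonempty_tensorPow_iso e' n
  obtain ⟨eU⟩ := c.nonempty_pullback_iso U.ι e
  obtain ⟨eU'⟩ := c'.nonempty_pullback_iso U.ι e'
  obtain ⟨hU, hA⟩ := ((c.comap U.ι).isAmple_iff eU).mp ((GrothLib.Ample.isAmple_restrict_iff _ L).mp (hL.2 V))
  haveI := hepi
  haveI : (CohB1.tensorPow L' n).IsQuasicoherent :=
    GrothLib.InvExt.isQuasicoherent_of_isInvertible (GrothLib.Ample.isInvertible_tensorPow hL' n)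
  have hA' := (c.comap U.ι).isAmp_prod (c'.comap U.ι) hA fun p => by
    obtain ⟨i, hi⟩ := c'.exists_mem p.1
    haveI : QuasiSeparated f := GrothLib.RLpsi8.quasiSeparated_of_isRelAmple hL
    obtain ⟨t, ht⟩ := GrothLib.RLpsi8.exists_genAt_of_epi_counit f (c'.isInvertible_twist n) d.hom
      ⟨c'.D i, d.inv.app (c'.D i) (c'.base n i le_rfl), by
        have e1 : d.hom.app (c'.D i) (d.inv.app (c'.D i) (c'.base n i le_rfl)) = c'.base n i le_rfl :=
          congrArg (fun k : c'.twist n ⟶ c'.twist n => k.app (c'.D i) (c'.base n i le_rfl)) d.inv_hom_id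
        rw [e1]
        exact GrothLib.RLpsi8.genAt_of_isGen (c'.isGen_base n i le_rfl) hi⟩ V.2 p.2
    let a := c'.pullSect U.ι (le_of_eq U.ι_preimage_self.symm : (⊤ : Opens (U : Scheme.{u})) ≤ U.ι ⁻¹ᵁ U)
      (d.hom.app U t)
    obtain ⟨m, hm⟩ := Nat.exists_eq_add_one.mpr hn
    refine ⟨m, (c'.comap U.ι).sectCast hm a, ?_⟩
    rw [(c'.comap U.ι).locus_sectCast, (c'.comap U.ι).mem_locus_iff a (i := i) hi]
    show p ∈ Scheme.basicOpen _ ((U.ι.appLE _ _ _).hom ((show c'.sect n U from d.hom.app U t).1 i))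
    rw [Scheme.basicOpen_appLE]
    exact ⟨⟨trivial, hi⟩, GrothLib.RLpsi8.mem_basicOpen_component c' p.2 _ ht hi⟩
  obtain ⟨ε⟩ := GrothLib.Ample.nonempty_pullback_tensorMod U.ι hLi hL'
  rw [GrothLib.Ample.isAmple_restrict_iff, GrothLib.Ample.isAmple_iff_of_iso ε]
  obtain ⟨ζ⟩ := (c.comap U.ι).nonempty_tensorMod_iso_prod (c'.comap U.ι) eU eU'
  exact ((c.comap U.ι).prod (c'.comap U.ι)).isAmple_iff ζ |>.mpr ⟨hU, hA'⟩

end Groth.Agent.S4388
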