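import Groth.Statements.S4392
import Groth.Agent.Lib.GradedAlg.Basic

set_option autoImplicit false
universe u
open EGA2

namespace Groth.Agent.S4392

/-- Let S be a ring graded in nonnegative degrees which is an S_0-algebra of finite type, and M a
finitely generated graded S-module, graded in nonnegative degrees. Then there exist an integer n₁
and an integer h > 0 such that M_{n+h} = S_h M_n for every n ≥ n₁. (The published statement allows M
graded in all integer degrees; this row takes M graded in nonnegative degrees.) -/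
theorem result {R A : Type u} [CommRing R] [CommRing A] [Algebra R A] (𝒜 : ℕ → Submodule R A) [GradedAlgebra 𝒜] [Algebra.FiniteType (𝒜 0) A]
    {M : Type u} [AddCommGroup M] [Module R M] [Module A M] [IsScalarTower R A M] (ℳ : ℕ → Submodule R M) [DirectSum.Decomposition ℳ] [SetLike.GradedSMul 𝒜 ℳ] [Module.Finite A M] :
    ∃ (n₁ h : ℕ), 0 < h ∧ ∀ n : ℕ, n₁ ≤ n → ℳ (n + h) = (𝒜 h : Submodule R A) • (ℳ n : Submodule R M) := by
  classical
  obtain ⟨L, r, hL, hper⟩ := GrothLib.GradedAlg.exists_period 𝒜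
  obtain ⟨s, hs⟩ := Module.Finite.fg_top (R := A) (M := M)
  obtain ⟨D, hD⟩ : ∃ D, ∀ x ∈ s, ∀ i ∈ (DirectSum.decompose ℳ x).support, i ≤ D :=
    ⟨s.sup fun x => (DirectSum.decompose ℳ x).support.sup id, fun x hx i hi =>
      (Finset.le_sup (f := id) hi).trans
        (Finset.le_sup (f := fun x => (DirectSum.decompose ℳ x).support.sup id) hx)⟩
  refine ⟨r * L + D, L, hL, fun n hn => le_antisymm (fun y hy => ?_) ?_⟩
  swap
  · exact Submodule.smul_le.mpr fun a ha m hm => by
      have h := SetLike.GradedSMul.smul_mem (A := 𝒜) (B := ℳ) ha hm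
      rwa [vadd_eq_add, add_comm] at h
  have hhom : ∀ (i : ℕ) (a : A), a ∈ 𝒜 i → ∀ (δ : ℕ), δ ≤ D → ∀ g ∈ ℳ δ,
      ((DirectSum.decompose ℳ (a • g) (n + L) : ℳ (n + L)) : M) ∈ 𝒜 L • ℳ n := by
    intro i a ha δ hδ g hg
    have hmem : a • g ∈ ℳ (i + δ) := SetLike.GradedSMul.smul_mem (A := 𝒜) (B := ℳ) ha hg
    by_cases hdeg : i + δ = n + L
    swap
    · rw [DirectSum.decompose_of_mem_ne ℳ hmem hdeg]
      exact zero_mem _
    rw [DirectSum.decompose_of_mem_same ℳ (hdeg ▸ hmem)]
    have hi : i = (i - L) + L := by omega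
    have ha' : a ∈ 𝒜 L * 𝒜 (i - L) := hper (i - L) (by omega) (hi ▸ ha)
    clear hmem ha
    induction ha' using Submodule.mul_induction_on' with
    | mem_mul_mem u hu v hv =>
      rw [mul_smul]
      have hv' : v • g ∈ ℳ ((i - L) + δ) := SetLike.GradedSMul.smul_mem (A := 𝒜) (B := ℳ) hv hg
      rw [show i - L + δ = n by omega] at hv'
      exact Submodule.smul_mem_smul hu hv'
    | add u _ v _ hu hv => rw [add_smul]; exact add_mem hu hv
  suffices H : ∀ x ∈ Submodule.span A (s : Set M), ∀ c : A,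
      ((DirectSum.decompose ℳ (c • x) (n + L) : ℳ (n + L)) : M) ∈ 𝒜 L • ℳ n by
    simpa [DirectSum.decompose_of_mem_same ℳ hy] using H y (by rw [hs]; trivial) 1
  intro x hx
  induction hx using Submodule.span_induction with
  | mem x hx =>
    intro c
    rw [← DirectSum.sum_support_decompose ℳ x, Finset.smul_sum, DirectSum.decompose_sum]
    rw [DFinsupp.finset_sum_apply, AddSubmonoidClass.coe_finset_sum]
    refine sum_mem fun δ hδ => ?_
    refine GrothLib.GradedAlg.sum_decompose_mem 𝒜
      (P := fun a => ((DirectSum.decompose ℳ (a • ((DirectSum.decompose ℳ x δ : ℳ δ) : M)) (n + L) :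
        ℳ (n + L)) : M) ∈ 𝒜 L • ℳ n) (by simp) (fun a b h1 h2 => ?_)
      (fun i a ha => hhom i a ha δ (hD x hx δ hδ) _ (DirectSum.decompose ℳ x δ).2) c
    simpa [add_smul, DirectSum.decompose_add] using add_mem h1 h2
  | zero => intro c; simp
  | add x y _ _ hx hy =>
    intro c
    simpa [smul_add, DirectSum.decompose_add] using add_mem (hx c) (hy c)
  | smul b x _ hx =>
    intro c
    simpa [← mul_smul] using hx (c * b)

end Groth.Agent.S4392
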