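import Groth.Statements.S4393
import Groth.Agent.Lib.GradedAlg.Basic

set_option autoImplicit false
universe u
open EGA2

namespace Groth.Agent.S4393

/-- Let S be a ring graded in nonnegative degrees which is an S_0-algebra of finite type. Then there is
an integer h > 0 such that S_{mh} = (S_h)^m (the S_0-submodule spanned by m-fold products of
elements of S_h) for every m > 0. -/
theorem result {R A : Type u} [CommRing R] [CommRing A] [Algebra R A] (𝒜 : ℕ → Submodule R A) [GradedAlgebra 𝒜] [Algebra.FiniteType (𝒜 0) A] :
    ∃ h : ℕ, 0 < h ∧ ∀ m : ℕ, 0 < m → 𝒜 (m * h) = (𝒜 h : Submodule R A) ^ m := by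
  exact GrothLib.GradedAlg.exists_pow_degree_eq 𝒜

end Groth.Agent.S4393
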