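import Groth.Statements.S4395
import Groth.Agent.Lib.GradedAlg.Basic

set_option autoImplicit false
universe u
open EGA2

namespace Groth.Agent.S4395

/-- Let S be a ring graded in nonnegative degrees, n₀ > 0 an integer and, for every n ≥ n₀, p_n an
additive subgroup of S_n. Then there is a graded prime ideal p of S not containing S_+ with p ∩ S_n
= p_n for all n ≥ n₀ if and only if: (1) S_m p_n ⊆ p_{m+n} for all m ≥ 0 and n ≥ n₀; (2) for m ≥ n₀,
n ≥ n₀, f ∈ S_m, g ∈ S_n, fg ∈ p_{m+n} implies f ∈ p_m or g ∈ p_n; (3) p_n ≠ S_n for at least one n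
≥ n₀. Moreover such a graded prime ideal is unique. -/
theorem result {R A : Type u} [CommRing R] [CommRing A] [Algebra R A] (𝒜 : ℕ → Submodule R A) [GradedAlgebra 𝒜]
    (n₀ : ℕ) (hn₀ : 0 < n₀) (p : ℕ → AddSubgroup A) (hp : ∀ n : ℕ, n₀ ≤ n → (p n : Set A) ⊆ 𝒜 n) :
    ((∃ 𝔭 : HomogeneousIdeal 𝒜, 𝔭.toIdeal.IsPrime ∧ ¬ HomogeneousIdeal.irrelevant 𝒜 ≤ 𝔭 ∧
        ∀ n : ℕ, n₀ ≤ n → (𝔭.toIdeal : Set A) ∩ 𝒜 n = p n) ↔
      ((∀ m n : ℕ, n₀ ≤ n → ∀ a ∈ 𝒜 m, ∀ b ∈ p n, a * b ∈ p (m + n)) ∧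
        (∀ m n : ℕ, n₀ ≤ m → n₀ ≤ n → ∀ f ∈ 𝒜 m, ∀ g ∈ 𝒜 n, f * g ∈ p (m + n) → f ∈ p m ∨ g ∈ p n) ∧
        ∃ n : ℕ, n₀ ≤ n ∧ (p n : Set A) ≠ 𝒜 n)) ∧
    ∀ 𝔭 𝔮 : HomogeneousIdeal 𝒜, 𝔭.toIdeal.IsPrime → 𝔮.toIdeal.IsPrime →
      ¬ HomogeneousIdeal.irrelevant 𝒜 ≤ 𝔭 → ¬ HomogeneousIdeal.irrelevant 𝒜 ≤ 𝔮 →
      (∀ n : ℕ, n₀ ≤ n → (𝔭.toIdeal : Set A) ∩ 𝒜 n = p n) → (∀ n : ℕ, n₀ ≤ n → (𝔮.toIdeal : Set A) ∩ 𝒜 n = p n) →
      𝔭 = 𝔮 := by
  classical
  refine ⟨⟨?_, ?_⟩, ?_⟩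
  · rintro ⟨P, hP, hrel, htail⟩
    have hiff : ∀ n, n₀ ≤ n → ∀ a, a ∈ p n ↔ a ∈ P.toIdeal ∧ a ∈ 𝒜 n := fun n hn a => by
      rw [← SetLike.mem_coe, ← htail n hn]
      rfl
    refine ⟨fun m n hn a ha b hb => ?_, fun m n hm hn f hf g hg hfg => ?_, ?_⟩
    · rw [hiff n hn] at hb
      rw [hiff (m + n) (by omega)]
      exact ⟨Ideal.mul_mem_left _ _ hb.1, SetLike.mul_mem_graded ha hb.2⟩
    · rw [hiff (m + n) (by omega)] at hfg
      rw [hiff m hm, hiff n hn]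
      exact (hP.mem_or_mem hfg.1).imp (⟨·, hf⟩) (⟨·, hg⟩)
    · have : ∃ i, 0 < i ∧ ∃ a ∈ 𝒜 i, a ∉ P.toIdeal := by
        by_contra hc
        push Not at hc
        exact hrel ((HomogeneousIdeal.irrelevant_le 𝒜).mpr fun i hi a ha => hc i hi a ha)
      obtain ⟨i, hi, a, ha, haP⟩ := this
      refine ⟨n₀ * i, Nat.le_mul_of_pos_right _ hi, fun heq => ?_⟩
      have hmem : a ^ n₀ ∈ 𝒜 (n₀ * i) := by simpa using SetLike.pow_mem_graded n₀ ha
      have : a ^ n₀ ∈ p (n₀ * i) := by rw [← SetLike.mem_coe, heq]; exact hmem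
      exact haP (hP.mem_of_pow_mem n₀ ((hiff _ (Nat.le_mul_of_pos_right _ hi) _).mp this).1)
  · rintro ⟨h1, h2, N, hN, hne⟩
    obtain ⟨f, hfN, hfp⟩ : ∃ f ∈ 𝒜 N, f ∉ p N := by
      by_contra hc
      push Not at hc
      exact hne (Set.Subset.antisymm (hp N hN) hc)
    let Pset : Set A := {a | ∀ m, ((DirectSum.decompose 𝒜 a m : 𝒜 m) : A) * f ∈ p (m + N)}
    have hhom : ∀ m, ∀ a ∈ 𝒜 m, (a ∈ Pset ↔ a * f ∈ p (m + N)) := by
      intro m a ha
      refine ⟨fun h => by simpa [DirectSum.decompose_of_mem_same 𝒜 ha] using h m, fun h k => ?_⟩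
      by_cases hk : m = k
      · subst hk; simpa [DirectSum.decompose_of_mem_same 𝒜 ha] using h
      · simp [DirectSum.decompose_of_mem_ne 𝒜 ha hk]
    have hadd : ∀ a b, a ∈ Pset → b ∈ Pset → a + b ∈ Pset := by
      intro a b ha hb m
      simpa [add_mul] using add_mem (ha m) (hb m)
    have hzero : (0 : A) ∈ Pset := fun m => by simp
    let I : Ideal A :=
      { carrier := Pset
        add_mem' := fun {a b} => hadd a b
        zero_mem' := hzero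
        smul_mem' := fun c x hx => by
          change c * x ∈ Pset
          refine GrothLib.GradedAlg.sum_decompose_mem 𝒜 (P := fun c => c * x ∈ Pset) (by simpa using hzero)
            (fun a b ha hb => by rw [add_mul]; exact hadd _ _ ha hb) (fun i c hc m => ?_) c
          by_cases him : i ≤ m
          · rw [DirectSum.coe_decompose_mul_of_left_mem_of_le 𝒜 hc him, mul_assoc]
            have h3 := h1 i (m - i + N) (le_add_left hN) c hc _ (hx (m - i))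
            rwa [show i + (m - i + N) = m + N by omega] at h3
          · rw [DirectSum.coe_decompose_mul_of_left_mem_of_not_le 𝒜 hc him]
            simp }
    have hIhom : I.IsHomogeneous 𝒜 := fun i a ha =>
      (hhom i _ (DirectSum.decompose 𝒜 a i).2).mpr (ha i)
    have htail : ∀ n, n₀ ≤ n → ∀ a, a ∈ 𝒜 n → (a ∈ I ↔ a ∈ p n) := fun n hn a ha =>
      (hhom n a ha).trans ⟨fun h => (h2 n N hn hN a ha f hfN h).resolve_right hfp,
        fun h => by
          have h3 := h1 N n hn f hfN a h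
          rwa [mul_comm, add_comm] at h3⟩
    have hfI : f ∉ I := fun h => hfp ((htail N hN f hfN).mp h)
    have hprime : I.IsPrime := by
      refine hIhom.isPrime_of_homogeneous_mem_or_mem (fun h => hfI (h ▸ trivial)) ?_
      rintro a b ⟨i, ha⟩ ⟨j, hb⟩ hab
      have hab' : a * b * f ∈ p (i + j + N) := (hhom _ _ (SetLike.mul_mem_graded ha hb)).mp hab
      have h3 : (a * f) * (b * f) ∈ p ((i + N) + (j + N)) := by
        have := h1 N (i + j + N) (le_add_left hN) f hfN _ hab'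
        rw [show i + N + (j + N) = N + (i + j + N) by omega,
          show a * f * (b * f) = f * (a * b * f) by ring]
        exact this
      exact (h2 (i + N) (j + N) (le_add_left hN) (le_add_left hN) _ (SetLike.mul_mem_graded ha hfN) _
        (SetLike.mul_mem_graded hb hfN) h3).imp (hhom i a ha).mpr (hhom j b hb).mpr
    refine ⟨⟨I, hIhom⟩, hprime, fun hle => ?_, fun n hn => ?_⟩
    · exact hfI (hle (HomogeneousIdeal.mem_irrelevant_of_mem 𝒜 (lt_of_lt_of_le hn₀ hN) hfN))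
    · ext a
      exact ⟨fun h => (htail n hn a h.2).mp h.1, fun h => ⟨(htail n hn a (hp n hn h)).mpr h, hp n hn h⟩⟩
  · have key : ∀ P Q : HomogeneousIdeal 𝒜, P.toIdeal.IsPrime → Q.toIdeal.IsPrime →
        ¬ HomogeneousIdeal.irrelevant 𝒜 ≤ Q →
        (∀ n, n₀ ≤ n → (P.toIdeal : Set A) ∩ 𝒜 n = p n) →
        (∀ n, n₀ ≤ n → (Q.toIdeal : Set A) ∩ 𝒜 n = p n) → P ≤ Q := by
      intro P Q hP hQ hrel hPt hQt
      have : ∃ i, 0 < i ∧ ∃ a ∈ 𝒜 i, a ∉ Q.toIdeal := by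
        by_contra hc
        push Not at hc
        exact hrel ((HomogeneousIdeal.irrelevant_le 𝒜).mpr fun i hi a ha => hc i hi a ha)
      obtain ⟨i, hi, a, ha, haQ⟩ := this
      intro x hx
      change x ∈ Q.toIdeal
      rw [← DirectSum.sum_support_decompose 𝒜 x]
      refine sum_mem fun m _ => ?_
      have hy : ((DirectSum.decompose 𝒜 x m : 𝒜 m) : A) * a ^ n₀ ∈ (P.toIdeal : Set A) ∩ 𝒜 (m + n₀ * i) := by
        refine ⟨Ideal.mul_mem_right _ _ (P.isHomogeneous m hx), ?_⟩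
        exact SetLike.mul_mem_graded (DirectSum.decompose 𝒜 x m).2 (by simpa using SetLike.pow_mem_graded n₀ ha)
      have hle : n₀ ≤ m + n₀ * i := le_add_left (Nat.le_mul_of_pos_right _ hi)
      rw [hPt _ hle, ← hQt _ hle] at hy
      exact (hQ.mem_or_mem hy.1).resolve_right fun h => haQ (hQ.mem_of_pow_mem n₀ h)
    exact fun P Q hP hQ hrP hrQ hPt hQt => le_antisymm (key P Q hP hQ hrQ hPt hQt) (key Q P hQ hP hrP hQt hPt)

end Groth.Agent.S4395
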