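import Groth.Statements.S4398
import Groth.Agent.Lib.GradedAlg.ProjMap

set_option autoImplicit false
universe u
open AlgebraicGeometry
open EGA2

namespace Groth.Agent.S4398

/-- Let φ : S' → S be a homomorphism of rings graded in nonnegative degrees which maps S'_n bijectively
onto S_n for every n > 0, so that S_+ lies in the ideal generated by φ(S'_+) (stated as a hypothesis
because the induced morphism is built from it). Then the induced morphism Proj S → Proj S' is an
isomorphism of schemes. (The published statement treats the cases S'_0 = ℤ and S'_0 = A with S'_n =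
S_n for n > 0; this row allows any graded φ that is bijective in positive degrees.) -/
theorem result {R A : Type u} [CommRing R] [CommRing A] [Algebra R A] (𝒜 : ℕ → Submodule R A) [GradedAlgebra 𝒜]
    {B : Type u} [CommRing B] [Algebra R B] (ℬ : ℕ → Submodule R B) [GradedAlgebra ℬ]
    (φ : ℬ →+*ᵍ 𝒜) (hbij : ∀ n : ℕ, 0 < n → Set.BijOn φ (ℬ n) (𝒜 n))
    (hφ : HomogeneousIdeal.irrelevant 𝒜 ≤ (HomogeneousIdeal.irrelevant ℬ).map φ) :
    CategoryTheory.IsIso (Proj.map φ hφ) := by
  exact GrothLib.GradedAlg.isIso_map φ hφ hbij

end Groth.Agent.S4398
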