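import Groth.Statements.S4401
import Groth.Agent.Lib.GrTilde.Amp
import Groth.Agent.Lib.Ample.FiniteGen

set_option autoImplicit false
universe u
open CategoryTheory CategoryTheory.Limits AlgebraicGeometry
open EGA2

namespace Groth.Agent.S4401

/-- Let S be a ring graded in nonnegative degrees whose irrelevant ideal S_+ is generated by finitely
many elements of degree one, and X = Proj S. Then for every integer n ≥ 0 there exist an integer k
and an epimorphism of O_X-modules O_X^k → O_X(n). -/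
theorem result {R A : Type u} [CommRing R] [CommRing A] [Algebra R A] (𝒜 : ℕ → Submodule R A) [GradedAlgebra 𝒜]
    (s : Finset A) (hs1 : ∀ f ∈ s, f ∈ 𝒜 1)
    (hs : (HomogeneousIdeal.irrelevant 𝒜).toIdeal = Ideal.span (s : Set A)) (n : ℕ) :
    ∃ (k : ℕ) (p : FlatMod.freeMod (Proj 𝒜) k ⟶ Twist.twist 𝒜 (n : ℤ)), Epi p := by
  let f : Fin s.card → A := fun i => (s.equivFin.symm i : A)
  have hf : ∀ i, f i ∈ 𝒜 1 := fun i => hs1 _ (s.equivFin.symm i).2
  refine ⟨s.card, GrothLib.Ample.exists_epi_free (F := Twist.twist 𝒜 (n : ℤ))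
    (fun i => GrothLib.Ample.ProjTwist.gsec 𝒜 (f i ^ n) (GrothLib.Ample.ProjTwist.pow_mem 𝒜 (hf i) n))
    fun O m x hx => ?_⟩
  obtain ⟨g, hg, hgx⟩ := GrothLib.GrTilde.exists_notMem_of_span hs.le x
  obtain ⟨i, rfl⟩ : ∃ i, f i = g := ⟨s.equivFin ⟨g, hg⟩, by simp [f]⟩
  obtain ⟨r, hr⟩ := (GrothLib.Ample.ProjTwist.isGen_gsec (hf i) n (O ⊓ Proj.basicOpen 𝒜 (f i)) inf_le_right).2
    (GrothLib.InvExt.mres (Twist.twist 𝒜 (n : ℤ)) inf_le_left m)
  rw [GrothLib.InvExt.mres_mres] at hr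
  refine ⟨O ⊓ Proj.basicOpen 𝒜 (f i), inf_le_left, ⟨hx, hgx⟩, ?_⟩
  rw [← hr]
  exact Submodule.smul_mem _ _ (Submodule.subset_span ⟨i, rfl⟩)

end Groth.Agent.S4401
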