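import Groth.Statements.S4408
import Groth.Agent.Lib.RLpsi8.FTSub
import Groth.Agent.Lib.OmegaAff.Basic
import Groth.Agent.Lib.CurveMult.GGCurve
import Mathlib.AlgebraicGeometry.QuasiAffine

set_option autoImplicit false
set_option backward.isDefEq.respectTransparency false
universe u
open CategoryTheory CategoryTheory.Limits AlgebraicGeometry TopologicalSpace Opposite
open EGA2

namespace Groth.Agent.S4408

/-- (e') ⇒ (a): let X be a quasi-compact separated scheme such that every quasi-coherent submodule of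
finite type of O_X is generated by its global sections. Then X is quasi-affine. (The published
statement also allows X to be a scheme whose underlying space is Noetherian; this row assumes it
quasi-compact and separated.) -/
theorem result (X : Scheme.{u}) [CompactSpace X] [X.IsSeparated]
    (h : ∀ (J : X.Modules) (i : J ⟶ Coh.structureModule X), Mono i → Coh.IsQCoh J → CohB1.IsFT J →
      Curv2.IsGloballyGenerated J) :
    X.IsQuasiAffine := by
  refine Scheme.IsQuasiAffine.of_forall_exists_mem_basicOpen X fun x => ?_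
  obtain ⟨W, hW, hxW, -⟩ := exists_isAffineOpen_mem_and_subset (Opens.mem_top x)
  let Z : Closeds X := ⟨(W : Set X)ᶜ, W.2.isClosed_compl⟩
  let I := Scheme.IdealSheafData.vanishingIdeal (X := X) Z
  have hsupp : (I.support : Set X) = (W : Set X)ᶜ := by
    simp [I, Z]
  have htop : I.ideal ⟨W, hW⟩ = ⊤ := by
    show PrimeSpectrum.vanishingIdeal (hW.fromSpec ⁻¹' (W : Set X)ᶜ) = ⊤
    rw [Set.preimage_compl, ← hW.range_fromSpec, Set.preimage_range, Set.compl_univ, PrimeSpectrum.vanishingIdeal_empty]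
  obtain ⟨k, hk⟩ := GrothLib.IdealModSec.exists_val_eq I ⟨W, hW⟩ (a := 1) (htop ▸ Submodule.mem_top)
  haveI : (ClSub.idealMod I).IsQuasicoherent := GrothLib.OmegaAff.isQuasicoherent_idealMod I
  obtain ⟨Q, hQ, hkQ⟩ := GrothLib.RLpsi8.exists_locGen_mem (F := ClSub.idealMod I) hW {k} (Set.finite_singleton k)
  have hi : Mono (Q.ι ≫ ClSub.idealModι I) := by
    haveI := GrothLib.RLpsi8.mono_ι Q
    haveI : Mono (ClSub.idealModι I) := by
      unfold ClSub.idealModι
      infer_instance
    infer_instance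
  have hQq : Coh.IsQCoh Q.obj := hQ.isQuasicoherent
  obtain ⟨ι, s, hs⟩ := GrothLib.CurveMult.spanned_of_isGloballyGenerated (h Q.obj (Q.ι ≫ ClSub.idealModι I) hi hQq hQ.isFiniteType)
  obtain ⟨V, hVW, hxV, hmem⟩ := hs W (Q.lift k (hkQ rfl)) x hxW
  let a : ι → Γ(X, ⊤) := fun i => GrothLib.IdealModSec.val I ⊤ (Q.ι.app ⊤ (s i))
  have hle : ∀ i, X.basicOpen (a i) ≤ W := fun i y hy => by
    by_contra hyW
    obtain ⟨T, hT, hyT, -⟩ := exists_isAffineOpen_mem_and_subset (Opens.mem_top y)
    have h1 : y ∈ (I.support : Set X) ∩ (T : Set X) := ⟨by rw [hsupp]; exact hyW, hyT⟩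
    rw [I.coe_support_inter ⟨T, hT⟩] at h1
    refine (Scheme.mem_zeroLocus_iff _ _ _).mp h1.1 _ (GrothLib.IdealModSec.val_mem I ⟨T, hT⟩
      (GrothLib.InvExt.mres _ (le_top : T ≤ ⊤) (Q.ι.app ⊤ (s i)))) ?_
    rw [GrothLib.IdealModSec.val_mres]
    show y ∈ X.basicOpen ((X.presheaf.map (homOfLE (le_top : T ≤ ⊤)).op).hom (a i))
    rw [X.basicOpen_res]
    exact ⟨hyT, hy⟩
  obtain ⟨i, hxi⟩ : ∃ i, x ∈ X.basicOpen (a i) := by
    by_contra hne
    push_neg at hne
    let φ := Q.ι ≫ ClSub.idealModι I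
    let m := (IsLocalRing.maximalIdeal (X.presheaf.stalk x)).comap (X.presheaf.germ V x hxV).hom
    have hlin : ∀ z ∈ Submodule.span Γ(X, V) (Set.range fun j => GrothLib.InvExt.mres Q.obj (le_top : V ≤ ⊤) (s j)),
        GrothLib.IdealModSec.val I V (Q.ι.app V z) ∈ m := by
      intro z hz
      induction hz using Submodule.span_induction with
      | mem z hz =>
        obtain ⟨j, rfl⟩ := hz
        have e : Q.ι.app V (GrothLib.InvExt.mres Q.obj (le_top : V ≤ ⊤) (s j)) =
            GrothLib.InvExt.mres _ (le_top : V ≤ ⊤) (Q.ι.app ⊤ (s j)) :=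
          ConcreteCategory.congr_hom (Q.ι.mapPresheaf.naturality (homOfLE (le_top : V ≤ ⊤)).op) (s j)
        rw [e, GrothLib.IdealModSec.val_mres]
        show X.presheaf.germ V x hxV (X.presheaf.map (homOfLE _).op (a j)) ∈ IsLocalRing.maximalIdeal _
        rw [TopCat.Presheaf.germ_res_apply]
        exact fun hu => hne j ((X.mem_basicOpen (a j) x trivial).mpr hu)
      | zero => rw [map_zero, GrothLib.IdealModSec.val_zero]; exact zero_mem _
      | add z w _ _ hz hw =>
        have e : GrothLib.IdealModSec.val I V (Q.ι.app V (z + w)) =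
            GrothLib.IdealModSec.val I V (Q.ι.app V z) + GrothLib.IdealModSec.val I V (Q.ι.app V w) := by
          simp [GrothLib.IdealModSec.val]
        rw [e]; exact add_mem hz hw
      | smul c z _ hz =>
        rw [Scheme.Modules.Hom.app_smul, GrothLib.IdealModSec.val_smul]
        exact Ideal.mul_mem_left _ _ hz
    have h1 := hlin _ hmem
    have e : Q.ι.app V (GrothLib.InvExt.mres Q.obj hVW (Q.lift k (hkQ rfl))) = GrothLib.InvExt.mres _ hVW k :=
      (ConcreteCategory.congr_hom (Q.ι.mapPresheaf.naturality (homOfLE hVW).op) (Q.lift k (hkQ rfl))).trans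
        (congrArg _ (Q.ι_app_lift k (hkQ rfl)))
    rw [e, GrothLib.IdealModSec.val_mres, hk] at h1
    have h2 : X.presheaf.germ V x hxV (1 : Γ(X, V)) ∈ IsLocalRing.maximalIdeal (X.presheaf.stalk x) := by
      simpa only [m, Ideal.mem_comap, map_one] using h1
    rw [map_one] at h2
    exact (Ideal.ne_top_iff_one _).mp (IsLocalRing.maximalIdeal.isMaximal _).ne_top h2
  refine ⟨a i, ?_, hxi⟩
  have e : X.basicOpen (a i) = X.basicOpen ((X.presheaf.map (homOfLE (le_top : W ≤ ⊤)).op).hom (a i)) := by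
    rw [X.basicOpen_res]
    exact (inf_eq_right.mpr (hle i)).symm
  rw [e]
  exact hW.basicOpen _

end Groth.Agent.S4408
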