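import Groth.Statements.S4409
import Groth.Agent.Lib.RLpsi8.IdealAmple
import Groth.Agent.Lib.RelVanish.Counit
import Groth.Agent.Lib.Ample.Generation
import Mathlib.AlgebraicGeometry.QuasiAffine

set_option autoImplicit false
set_option backward.isDefEq.respectTransparency false
universe u
open CategoryTheory CategoryTheory.Limits AlgebraicGeometry TopologicalSpace Opposite
open EGA2

namespace Groth.Agent.S4409

/-- (a) ⇔ (d): let f : X → Y be a quasi-compact morphism. Then f is quasi-affine (the preimage of every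
affine open of Y is a quasi-affine scheme) if and only if f is separated and, for every
quasi-coherent O_X-module F, the canonical morphism f^*(f_*(F)) → F (counit of the adjunction
between f^* and f_*) is an epimorphism. -/
theorem result {X Y : Scheme.{u}} (f : X ⟶ Y) [QuasiCompact f] :
    Mor2.IsQuasiAffine f ↔ (IsSeparated f ∧ ∀ F : X.Modules, Coh.IsQCoh F →
      Epi ((Scheme.Modules.pullbackPushforwardAdjunction f).counit.app F)) := by
  constructor
  · intro h
    refine ⟨?_, fun F hF => ?_⟩
    · refine IsZariskiLocalAtTarget.of_iSup_eq_top (P := @IsSeparated) (fun V : Y.affineOpens => V.1)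
        (iSup_affineOpens_eq_top Y) fun V => ?_
      haveI := h.2 V.1 V.2
      haveI : IsAffine (V.1 : Scheme.{u}) := V.2
      haveI : (f ⁻¹ᵁ V.1 : Scheme.{u}).IsSeparated := inferInstance
      exact IsSeparated.of_comp (f ∣_ V.1) (Limits.terminal.from _)
    · haveI : F.IsQuasicoherent := hF
      refine GrothLib.RelVanish.epi_counit_of_ggen f F fun y => ?_
      obtain ⟨V, hV, hyV, -⟩ := exists_isAffineOpen_mem_and_subset (Opens.mem_top y)
      haveI := h.2 V hV
      exact ⟨V, hyV, GrothLib.Ample.isGloballyGenerated_of_isQuasiAffine _⟩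
  · rintro ⟨hs, h⟩
    refine ⟨inferInstance, fun V hV => ?_⟩
    haveI : CompactSpace (f ⁻¹ᵁ V : Scheme.{u}) := isCompact_iff_compactSpace.mp (f.isCompact_preimage hV.isCompact)
    refine Scheme.IsQuasiAffine.of_forall_exists_mem_basicOpen _ fun p => ?_
    obtain ⟨W, hW, hxW, hWU⟩ := exists_isAffineOpen_mem_and_subset (U := f ⁻¹ᵁ V) p.2
    let I := Scheme.IdealSheafData.vanishingIdeal (X := X) ⟨(W : Set X)ᶜ, W.2.isClosed_compl⟩
    have hsupp : (I.support : Set X) = (W : Set X)ᶜ := by simp [I]
    obtain ⟨T, hT, k, hk⟩ := GrothLib.RLpsi8.exists_mem_basicOpen_val I (x := p.1)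
      (by rw [hsupp]; exact fun h => h hxW)
    haveI hq : (ClSub.idealMod I).IsQuasicoherent := GrothLib.OmegaAff.isQuasicoherent_idealMod I
    haveI := h _ hq
    have hgen : ∀ {O : X.Opens}, GrothLib.InvExt.IsGen (Coh.structureModule X) O (GrothLib.FinCov.one X O) :=
      fun {O} => GrothLib.TensorGen.isGen_one O
    have hiff : ∀ {O : X.Opens} (r : Γ(X, O)), p.1 ∈ O →
        (GrothLib.VA.GenAt (Coh.structureModule X) (r : Γ(Coh.structureModule X, O)) p.1 ↔ p.1 ∈ X.basicOpen r) :=
      fun {O} r hO => GrothLib.VA.genAt_iff_mem_basicOpen le_rfl hgen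
        (by rw [GrothLib.InvExt.mres_self]; exact (GrothLib.FinCov.smul_one O r).symm) hO
    obtain ⟨t, ht⟩ := GrothLib.RLpsi8.exists_genAt_of_epi_counit f (GrothLib.InvExt.isInvertible_of_gens fun q =>
        ⟨⊤, GrothLib.FinCov.one X ⊤, trivial, hgen⟩) (ClSub.idealModι I)
      ⟨T, k, (hiff _ (X.basicOpen_le _ hk)).mpr hk⟩ hV p.2
    let s : Γ(X, f ⁻¹ᵁ V) := (ClSub.idealModι I).app (f ⁻¹ᵁ V) t
    have hps : p.1 ∈ X.basicOpen s := (hiff s p.2).mp ht
    have hsW : X.basicOpen s ≤ W := fun y hy => by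
      by_contra hyW
      exact GrothLib.RLpsi8.not_mem_basicOpen_val I (by rw [hsupp]; exact hyW) t hy
    let U := f ⁻¹ᵁ V
    have e : U.ι ''ᵁ (U : Scheme.{u}).basicOpen (U.topIso.inv.hom s) = X.basicOpen s := by
      rw [Scheme.image_basicOpen]
      simp [U]
      exact X.basicOpen_res_eq s _
    refine ⟨U.topIso.inv.hom s, ?_, ?_⟩
    · rw [← U.ι.isAffineOpen_iff_of_isOpenImmersion, e]
      have e' : X.basicOpen s = X.basicOpen ((X.presheaf.map (homOfLE hWU).op).hom s) := by
        rw [X.basicOpen_res]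
        exact (inf_eq_right.mpr hsW).symm
      rw [e']
      exact hW.basicOpen _
    · obtain ⟨q, hq, hqp⟩ := e.ge hps
      exact U.ι.isOpenEmbedding.injective hqp ▸ hq

end Groth.Agent.S4409
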