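import Groth.Statements.S4416
import Groth.Agent.Lib.Chow.Projective

set_option autoImplicit false
universe u
open CategoryTheory CategoryTheory.Limits AlgebraicGeometry
open EGA2

namespace Groth.Agent.S4416

/-- Let r : X → S be separated of finite type, and assume either S Noetherian, or S quasi-compact and
separated with X having finitely many irreducible components. Then r is proper if and only if there
are a scheme X' and a surjective morphism f : X' → X with f ≫ r projective. Moreover, when r is
proper, f can be chosen so that in addition there is a dense open U of X with f⁻¹(U) dense in X'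
over which f is an isomorphism, and with X' irreducible (resp. reduced) if X is. (The published
statement also remarks that f is then projective; that is not stated here.) -/
theorem result {X S : Scheme.{u}} (r : X ⟶ S) [IsSeparated r] [LocallyOfFiniteType r] [QuasiCompact r]
    (h : IsNoetherian S ∨ (CompactSpace S ∧ S.IsSeparated ∧ (irreducibleComponents X).Finite)) :
    (IsProper r ↔ ∃ (X' : Scheme.{u}) (f : X' ⟶ X), Surjective f ∧ RelProj.IsProjective (f ≫ r)) ∧
    (IsProper r → ∃ (X' : Scheme.{u}) (f : X' ⟶ X), Surjective f ∧ RelProj.IsProjective (f ≫ r) ∧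
        (∃ U : X.Opens, Dense (U : Set X) ∧ Dense ((f ⁻¹ᵁ U : X'.Opens) : Set X') ∧ IsIso (f ∣_ U)) ∧
        (IrreducibleSpace X → IrreducibleSpace X') ∧ (IsReduced X → IsReduced X')) := by
  haveI : CompactSpace S := by
    rcases h with hS | ⟨hS, -, -⟩
    · exact hS.toCompactSpace
    · exact hS
  haveI : QuasiSeparatedSpace S := by
    rcases h with hS | ⟨-, hS, -⟩
    · haveI := hS; infer_instance
    · haveI := hS; infer_instance
  have hfin : (irreducibleComponents X).Finite := by
    rcases h with hS | ⟨-, -, hX⟩
    · haveI := hS
      haveI : IsLocallyNoetherian X := LocallyOfFiniteType.isLocallyNoetherian r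
      haveI : CompactSpace X := QuasiCompact.compactSpace_of_compactSpace r
      haveI : IsNoetherian X := ⟨⟩
      exact finite_irreducibleComponents_of_isNoetherian
    · exact hX
  have main : IsProper r → ∃ (X' : Scheme.{u}) (f : X' ⟶ X), Surjective f ∧ RelProj.IsProjective (f ≫ r) ∧
      (∃ U : X.Opens, Dense (U : Set X) ∧ Dense ((f ⁻¹ᵁ U : X'.Opens) : Set X') ∧ IsIso (f ∣_ U)) ∧
      (IrreducibleSpace X → IrreducibleSpace X') ∧ (IsReduced X → IsReduced X') := by
    intro hr
    obtain ⟨M, X', π, i, hi, hib, hπ, hs, hred, hirr, U, hU, hiso, hd⟩ :=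
      GrothLib.Chow.chow_of_finite_components r hfin
    exact ⟨X', π, hs,
      GrothLib.ProjAlg.isProjective_of_isHProjective
        (GrothLib.Chow.isHProjective_of_isProper (π ≫ r) i hib),
      ⟨U, hU, hd, hiso⟩, hirr, hred⟩
  refine ⟨⟨fun hr => ?_, fun ⟨X', f, hf, hp⟩ => ?_⟩, main⟩
  · obtain ⟨X', f, hf, hp, -⟩ := main hr
    exact ⟨X', f, hf, hp⟩
  · haveI := hf
    exact GrothLib.Chow.isProper_of_surjective_projective r f hp

end Groth.Agent.S4416
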