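import Groth.Statements.S4417
import Groth.Agent.Lib.Ample.Coprod
import Groth.Agent.S4385

set_option autoImplicit false
universe u
open CategoryTheory CategoryTheory.Limits AlgebraicGeometry
open EGA2

namespace Groth.Agent.S4417

/-- Let f : X → Y and f' : X' → Y be quasi-projective morphisms (of finite type, each admitting a
relatively ample module). Then the morphism X ⨿ X' → Y restricting to f and f' on the two summands
is quasi-projective. -/
theorem result {X X' Y : Scheme.{u}} (f : X ⟶ Y) (f' : X' ⟶ Y)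
    (hf : RelProj.IsQuasiProjective f) (hf' : RelProj.IsQuasiProjective f') :
    RelProj.IsQuasiProjective (coprod.desc f f') := by
  obtain ⟨hft, hqc, L, hL⟩ := hf
  obtain ⟨hft', hqc', L', hL'⟩ := hf'
  obtain ⟨c₁, ⟨e₁⟩⟩ := GrothLib.Ample.exists_cocycle (GrothLib.Ample.isInvertible_of_isRelAmple hL)
  obtain ⟨c₂, ⟨e₂⟩⟩ := GrothLib.Ample.exists_cocycle (GrothLib.Ample.isInvertible_of_isRelAmple hL')
  let L'' := (GrothLib.Ample.coprodCocycle c₁ c₂).twist 1
  obtain ⟨d₁⟩ := GrothLib.Ample.nonempty_pullback_inl c₁ c₂ 1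
  obtain ⟨d₂⟩ := GrothLib.Ample.nonempty_pullback_inr c₁ c₂ 1
  have key : ∀ {Z : Scheme.{u}} (h : Z ⟶ Y) {A B : Z.Modules}, (A ≅ B) →
      RelAmple.IsRelAmple h A → RelAmple.IsRelAmple h B :=
    fun h _ _ e hA => ⟨hA.1, fun V => (GrothLib.Ample.isAmple_iff_of_iso
      ((Scheme.Modules.restrictFunctor _).mapIso e)).mp (hA.2 V)⟩
  have hrel : RelAmple.IsRelAmple (coprod.desc f f') L'' :=
    (Groth.Agent.S4385.result f f' L'' (c₁.isInvertible_of_iso d₁) (c₂.isInvertible_of_iso d₂)).mpr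
      ⟨key f (e₁ ≪≫ d₁.symm) hL, key f' (e₂ ≪≫ d₂.symm) hL'⟩
  refine ⟨?_, hrel.1, L'', hrel⟩
  rw [IsZariskiLocalAtSource.iff_of_openCover (P := @LocallyOfFiniteType) (coprodOpenCover.{u, u} X X')]
  rintro (i | i)
  · change LocallyOfFiniteType ((coprod.inl : X ⟶ X ⨿ X') ≫ coprod.desc f f')
    rw [coprod.inl_desc]; exact hft
  · change LocallyOfFiniteType ((coprod.inr : X' ⟶ X ⨿ X') ≫ coprod.desc f f')
    rw [coprod.inr_desc]; exact hft'

end Groth.Agent.S4417
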