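import Groth.Statements.S4420
import Groth.Agent.S4418
import Groth.Agent.Lib.Ample.QuasiProj
import Groth.Agent.Lib.Chow.Projective
import Groth.Agent.Lib.ProjAlg.Projective

set_option autoImplicit false
set_option backward.isDefEq.respectTransparency false
universe u
open CategoryTheory CategoryTheory.Limits AlgebraicGeometry
open EGA2

namespace Groth.Agent.S4420

/-- Let Y be a quasi-compact separated scheme possessing an ample invertible O_Y-module and f : X → Y a
morphism. Then f is projective if and only if there are r ≥ 0 and a closed immersion of X into
projective r-space over Y compatible with the projections (f is H-projective). -/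
theorem result {X Y : Scheme.{u}} [CompactSpace Y] [Y.IsSeparated]
    (hY : ∃ M : Y.Modules, CohB1.IsAmple M) (f : X ⟶ Y) :
    RelProj.IsProjective f ↔ RelProj.IsHProjective f := by
  constructor
  · intro h
    haveI := GrothLib.ProjAlg.isProper_of_isProjective h
    obtain ⟨N, hN⟩ := hY
    obtain ⟨h1, h2, L, hL⟩ := (Groth.Agent.S4418.result f h).1
    obtain ⟨L', hL'⟩ := GrothLib.Ample.exists_isAmple_of_isRelAmple f hN hL
    obtain ⟨n, i, hi, hif⟩ := GrothLib.Ample.exists_immersion_of_isAmple f hL'
    haveI := hi
    exact GrothLib.Chow.isHProjective_of_isProper f i hif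
  · exact GrothLib.ProjAlg.isProjective_of_isHProjective

end Groth.Agent.S4420
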