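import Groth.Statements.S5726
import Groth.Agent.Lib.ProjQ8.Bundle
import Groth.Agent.Lib.RelProjK.TwistMap

set_option autoImplicit false
set_option backward.isDefEq.respectTransparency false
universe u
open CategoryTheory CategoryTheory.Limits AlgebraicGeometry TopologicalSpace Opposite
open scoped HomogeneousIdeal
open EGA2

namespace Groth.Agent.S5726

/-- Let Y be a scheme which is either quasi-compact and separated or Noetherian, q : X → Y a morphism of
finite type and L an invertible O_X-module which is very ample relative to q. Then there are a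
quasi-coherent graded O_Y-algebra 𝒮 generated by its degree-one part, that part being of finite
type, a relative homogeneous spectrum p : P → Y of 𝒮 (given with its charts over affine opens)
together with its twisting sheaf O_P(1) (given with its chart identifications), and an open
immersion i : X → P with dense image such that i ≫ p = q and L is isomorphic to i^*O_P(1). (The
published statement keeps the notation of the proposition it follows, in which q is of finite type;
without that hypothesis the conclusion fails, for instance for the affine space of countably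
infinite dimension over a field with the structure sheaf, which is an open subscheme of a projective
bundle over the field but is not of finite type.) -/
theorem result {X Y : Scheme.{u}}
    (hY : (CompactSpace Y ∧ Y.IsSeparated) ∨ AlgebraicGeometry.IsNoetherian Y) (q : X ⟶ Y) [QuasiCompact q] [LocallyOfFiniteType q]
    (L : X.Modules) (hL : PicF.IsInvertible L) (h : RelProj.IsRelVeryAmple q L) :
    ∃ (𝒮 : RelProj.QCGrAlg Y) (P : Scheme.{u}) (p : P ⟶ Y)
      (chart : ∀ (U : Y.Opens) (hU : IsAffineOpen U), ((p ⁻¹ᵁ U : P.Opens) : Scheme.{u}) ≅ Proj (𝒮.deg U hU))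
      (O1 : P.Modules)
      (lam : ∀ (U : Y.Opens) (hU : IsAffineOpen U),
        O1 ⟶ (Scheme.Modules.pushforward (RelProj.emb p chart U hU)).obj (GrTwist.twist (𝒮.deg U hU) 1))
      (i : X ⟶ P),
      𝒮.IsGenDegOne ∧ 𝒮.IsFTDeg 1 ∧ RelProj.IsRelProj 𝒮 p chart ∧ RelProj.IsRelTwist 𝒮 p chart 1 O1 lam ∧
        IsOpenImmersion i ∧ Dense (Set.range i.base) ∧ i ≫ p = q ∧
        Nonempty (L ≅ (Scheme.Modules.pullback i).obj O1) := by
    have hqs : CompactSpace Y ∧ QuasiSeparatedSpace Y := by
      rcases hY with ⟨h1, h2⟩ | hn
      · exact ⟨h1, inferInstance⟩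
      · exact ⟨inferInstance, inferInstance⟩
    haveI := hqs.1; haveI := hqs.2
    obtain ⟨B, φ, r, θ, hft, hr, hi⟩ := GrothLib.VA.exists_lift_finiteType q hL h
    haveI := hi
    haveI := hr.isIso_symm
    haveI := GrothLib.RelProjK.isSeparated_of_isRelProj B.isProj
    haveI : QuasiCompact (r ≫ B.p) := by rw [hr.comp]; infer_instance
    haveI : QuasiCompact r := QuasiCompact.of_comp r B.p
    have hgen := GrothLib.RelProjK.isGenDegOne_of_isGrSymAlg B.isQCoh B.isSym
    obtain ⟨𝒮, ψ, hψ, hirr, Q, p, chart, h', e, -, hgS, hftS, hQ, hh', he⟩ :=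
      GrothLib.ProjQ8.exists_quotient_model r.imageι B.isProj hgen (GrothLib.VA.isFTDeg_one_of_isGrSymAlg B.isQCoh hft B.isSym)
    obtain ⟨OQ, lamQ, hOQ⟩ := GrothLib.RelProjK.exists_isRelTwist (n := (1 : ℤ)) hQ
    obtain ⟨c⟩ := GrothLib.RelProjK.nonempty_pullback_twist_iso hh' B.isProj hQ B.isTwist hOQ hgen
    have hi' : (r.toImage ≫ e.hom) ≫ h' = r := by rw [Category.assoc, he, Scheme.Hom.toImage_imageι]
    refine ⟨𝒮, Q, p, chart, OQ, lamQ, r.toImage ≫ e.hom, hgS, hftS, hQ, hOQ, inferInstance, ?_, ?_, ⟨?_⟩⟩
    · rw [Scheme.Hom.comp_base]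
      exact (e.hom.homeomorph.surjective.denseRange.comp r.toImage.denseRange e.hom.continuous : _)
    · rw [← GrothLib.RelProjK.relProjMap_comp B.isProj hQ hh', ← Category.assoc, hi', hr.comp]
    · exact (asIso (((Scheme.Modules.pullbackPushforwardAdjunction r).homEquiv B.O L).symm θ)).symm ≪≫
        ((Scheme.Modules.pullbackCongr hi').app B.O).symm ≪≫ ((Scheme.Modules.pullbackComp (r.toImage ≫ e.hom) h').app B.O).symm ≪≫
        (Scheme.Modules.pullback (r.toImage ≫ e.hom)).mapIso c

end Groth.Agent.S5726
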