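import Groth.Statements.S4425
import Groth.Agent.S5726
import Groth.Agent.Lib.RelProjK.Amp

set_option autoImplicit false
set_option backward.isDefEq.respectTransparency false
universe u
open CategoryTheory CategoryTheory.Limits AlgebraicGeometry
open EGA2

namespace Groth.Agent.S4425

/-- (a) ⇔ (c): let Y be a quasi-compact separated scheme and f : X → Y a morphism. Then f is
quasi-projective if and only if f is of finite type and there are a quasi-coherent graded
O_Y-algebra 𝒮, generated by its degree-one part with that part of finite type, a relative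
homogeneous spectrum p : P → Y of 𝒮 (given with its charts over affine opens), and an open immersion
j : X → P with dense image such that j ≫ p = f. (The published statement also allows Y whose
underlying space is Noetherian, and adds a third equivalent condition, an immersion into some P(E);
this row assumes Y quasi-compact and separated and states only the equivalence of the other two.) -/
theorem result {X Y : Scheme.{u}} [CompactSpace Y] [Y.IsSeparated] (f : X ⟶ Y) :
    RelProj.IsQuasiProjective f ↔
      (LocallyOfFiniteType f ∧ QuasiCompact f ∧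
        ∃ (𝒮 : RelProj.QCGrAlg Y) (P : Scheme.{u}) (p : P ⟶ Y)
          (chart : ∀ (U : Y.Opens) (hU : IsAffineOpen U), ((p ⁻¹ᵁ U : P.Opens) : Scheme.{u}) ≅ Proj (𝒮.deg U hU))
          (j : X ⟶ P), 𝒮.IsGenDegOne ∧ 𝒮.IsFTDeg 1 ∧ RelProj.IsRelProj 𝒮 p chart ∧
            IsOpenImmersion j ∧ Dense (Set.range j.base) ∧ j ≫ p = f) := by
    constructor
    · rintro ⟨h1, h2, L, hL⟩
      haveI := h1; haveI := h2
      have hinv : PicF.IsInvertible L := GrothLib.Ample.isInvertible_of_isRelAmple hL
      obtain ⟨n, hn⟩ := GrothLib.VA.eventually_isRelVeryAmple f hinv hinv hL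
      obtain ⟨𝒮, P, p, chart, O1, lam, i, hg, hft, hP, -, hi, hd, hc, -⟩ :=
        Groth.Agent.S5726.result (Or.inl ⟨inferInstance, inferInstance⟩) f _
          (GrothLib.Ample.isInvertible_tensorMod (GrothLib.Ample.isInvertible_tensorPow hinv n) hinv) (hn n le_rfl)
      exact ⟨h1, h2, 𝒮, P, p, chart, i, hg, hft, hP, hi, hd, hc⟩
    · rintro ⟨h1, h2, 𝒮, P, p, chart, j, hg, -, hP, hj, -, hjp⟩
      haveI := h2; haveI := hj
      obtain ⟨O1, lam, hO1⟩ := GrothLib.RelProjK.exists_isRelTwist (n := (1 : ℤ)) hP
      exact ⟨h1, h2, _, GrothLib.RelProjK.isRelAmple_pullback_of_isEmbedding hg hO1 f j hjp j.isOpenEmbedding.isEmbedding⟩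

end Groth.Agent.S4425
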