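import Groth.Statements.S4428
import Groth.Agent.Lib.Ample.External

set_option autoImplicit false
universe u
open CategoryTheory CategoryTheory.Limits AlgebraicGeometry
open EGA2

namespace Groth.Agent.S4428

/-- Let a₁ : Y₁ → S and a₂ : Y₂ → S be morphisms, f₁ : X₁ → Y₁ and f₂ : X₂ → Y₂ quasi-compact morphisms
(so X₁, X₂ are S-schemes through f_i ≫ a_i), and L₁, L₂ modules on X₁, X₂ ample relative to f₁, f₂.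
Then the external tensor product p₁^*(L₁) ⊗ p₂^*(L₂) on X₁ ×_S X₂ (p₁, p₂ the projections) is ample
relative to the product morphism f₁ ×_S f₂ : X₁ ×_S X₂ → Y₁ ×_S Y₂. -/
theorem result {X₁ X₂ Y₁ Y₂ S : Scheme.{u}} (a₁ : Y₁ ⟶ S) (a₂ : Y₂ ⟶ S)
    (f₁ : X₁ ⟶ Y₁) (f₂ : X₂ ⟶ Y₂) [QuasiCompact f₁] [QuasiCompact f₂] (L₁ : X₁.Modules) (L₂ : X₂.Modules)
    (hL₁ : RelAmple.IsRelAmple f₁ L₁) (hL₂ : RelAmple.IsRelAmple f₂ L₂) :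
    RelAmple.IsRelAmple
      (pullback.map (f₁ ≫ a₁) (f₂ ≫ a₂) a₁ a₂ f₁ f₂ (𝟙 S) (Category.comp_id (f₁ ≫ a₁)) (Category.comp_id (f₂ ≫ a₂)))
      (CohB1.tensorMod ((Scheme.Modules.pullback (pullback.fst (f₁ ≫ a₁) (f₂ ≫ a₂))).obj L₁)
        ((Scheme.Modules.pullback (pullback.snd (f₁ ≫ a₁) (f₂ ≫ a₂))).obj L₂)) := by
  let F₁ := f₁ ≫ a₁
  let F₂ := f₂ ≫ a₂
  let π := pullback.map (f₁ ≫ a₁) (f₂ ≫ a₂) a₁ a₂ f₁ f₂ (𝟙 S) (Category.comp_id (f₁ ≫ a₁)) (Category.comp_id (f₂ ≫ a₂))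
  let p₁ := pullback.fst (f₁ ≫ a₁) (f₂ ≫ a₂)
  let p₂ := pullback.snd (f₁ ≫ a₁) (f₂ ≫ a₂)
  haveI : QuasiCompact π := MorphismProperty.pullbackMap (P := @QuasiCompact) ‹_› ‹_› rfl rfl
  refine GrothLib.Ample.isRelAmple_of_cover fun y => ?_
  obtain ⟨V₀, hV₀, hy₀, -⟩ :=
    exists_isAffineOpen_mem_and_subset (TopologicalSpace.Opens.mem_top (a₁ (pullback.fst a₁ a₂ y)))
  obtain ⟨V₁, hV₁, hy₁, hV₁0⟩ := exists_isAffineOpen_mem_and_subset (U := a₁ ⁻¹ᵁ V₀) hy₀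
  have hy₀' : a₂ (pullback.snd a₁ a₂ y) ∈ V₀ := by
    rw [← Scheme.Hom.comp_apply, ← pullback.condition]; exact hy₀
  obtain ⟨V₂, hV₂, hy₂, hV₂0⟩ := exists_isAffineOpen_mem_and_subset (U := a₂ ⁻¹ᵁ V₀) hy₀'
  let W := pullback.fst a₁ a₂ ⁻¹ᵁ V₁ ⊓ pullback.snd a₁ a₂ ⁻¹ᵁ V₂
  refine ⟨W, ⟨hy₁, hy₂⟩, GrothLib.Ample.isAffineOpen_fst_inf_snd a₁ a₂ hV₁ hV₂ hV₀ hV₁0 hV₂0, ?_⟩
  let U₁ : X₁.Opens := f₁ ⁻¹ᵁ V₁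
  let U₂ : X₂.Opens := f₂ ⁻¹ᵁ V₂
  let U : (pullback (f₁ ≫ a₁) (f₂ ≫ a₂)).Opens := π ⁻¹ᵁ W
  have hW : IsCompact (W : Set (pullback a₁ a₂ : Scheme.{u})) :=
    (GrothLib.Ample.isAffineOpen_fst_inf_snd a₁ a₂ hV₁ hV₂ hV₀ hV₁0 hV₂0).isCompact
  haveI : CompactSpace (U : Scheme.{u}) := isCompact_iff_compactSpace.mp (π.isCompact_preimage hW)
  have e₁ : π ≫ pullback.fst a₁ a₂ = p₁ ≫ f₁ := pullback.lift_fst _ _ _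
  have e₂ : π ≫ pullback.snd a₁ a₂ = p₂ ≫ f₂ := pullback.lift_snd _ _ _
  have hU : U = p₁ ⁻¹ᵁ U₁ ⊓ p₂ ⁻¹ᵁ U₂ := by
    show π ⁻¹ᵁ (_ ⊓ _) = _
    rw [Scheme.Hom.preimage_inf, ← Scheme.Hom.comp_preimage, ← Scheme.Hom.comp_preimage, e₁, e₂]
    rfl
  have h₁ : U ≤ p₁ ⁻¹ᵁ U₁ := hU.le.trans inf_le_left
  have h₂ : U ≤ p₂ ⁻¹ᵁ U₂ := hU.le.trans inf_le_right
  let q₁ := p₁.resLE U₁ U h₁
  let q₂ := p₂.resLE U₂ U h₂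
  have hA₁ := (GrothLib.Ample.isAmple_restrict_iff U₁.ι L₁).mp (hL₁.2 ⟨V₁, hV₁⟩)
  have hA₂ := (GrothLib.Ample.isAmple_restrict_iff U₂.ι L₂).mp (hL₂.2 ⟨V₂, hV₂⟩)
  obtain ⟨c₁, ⟨d₁⟩⟩ := GrothLib.Ample.exists_cocycle hA₁.1
  obtain ⟨c₂, ⟨d₂⟩⟩ := GrothLib.Ample.exists_cocycle hA₂.1
  obtain ⟨g₁⟩ := c₁.nonempty_pullback_iso q₁ d₁
  obtain ⟨g₂⟩ := c₂.nonempty_pullback_iso q₂ d₂
  let k₁ : (Scheme.Modules.pullback U.ι).obj ((Scheme.Modules.pullback p₁).obj L₁) ≅ (c₁.comap q₁).twist 1 :=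
    (Scheme.Modules.pullbackComp U.ι p₁).app L₁ ≪≫
      (Scheme.Modules.pullbackCongr (Scheme.Hom.resLE_comp_ι p₁ h₁).symm).app L₁ ≪≫
      ((Scheme.Modules.pullbackComp q₁ U₁.ι).app L₁).symm ≪≫ g₁
  let k₂ : (Scheme.Modules.pullback U.ι).obj ((Scheme.Modules.pullback p₂).obj L₂) ≅ (c₂.comap q₂).twist 1 :=
    (Scheme.Modules.pullbackComp U.ι p₂).app L₂ ≪≫
      (Scheme.Modules.pullbackCongr (Scheme.Hom.resLE_comp_ι p₂ h₂).symm).app L₂ ≪≫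
      ((Scheme.Modules.pullbackComp q₂ U₂.ι).app L₂).symm ≪≫ g₂
  obtain ⟨t⟩ := GrothLib.Ample.nonempty_pullback_tensorMod U.ι
    (GrothLib.Ample.isInvertible_pullback p₁ (GrothLib.Ample.isInvertible_of_isRelAmple hL₁))
    (GrothLib.Ample.isInvertible_pullback p₂ (GrothLib.Ample.isInvertible_of_isRelAmple hL₂))
  obtain ⟨d⟩ := (c₁.comap q₁).nonempty_tensorMod_iso_prod (c₂.comap q₂) k₁ k₂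
  rw [GrothLib.Ample.isAmple_restrict_iff, GrothLib.Ample.isAmple_iff_of_iso t]
  refine (((c₁.comap q₁).prod (c₂.comap q₂)).isAmple_iff d).mpr
    ⟨inferInstance, GrothLib.Ample.Cocycle.isAmp_prod_of_inf _ _ fun p => ?_⟩
  obtain ⟨n, a, hpa, ha⟩ := ((c₁.isAmple_iff d₁).mp hA₁).2 (q₁ p)
  obtain ⟨m, b, hpb, hb⟩ := ((c₂.isAmple_iff d₂).mp hA₂).2 (q₂ p)
  refine ⟨n, c₁.pullSect q₁ le_top a, m, c₂.pullSect q₂ le_top b, ?_⟩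
  rw [c₁.locus_pullSect, c₂.locus_pullSect]
  refine ⟨⟨hpa, hpb⟩, ?_⟩
  rw [← U.ι.isAffineOpen_iff_of_isOpenImmersion]
  let A := U₁.ι ''ᵁ c₁.locus a
  let B := U₂.ι ''ᵁ c₂.locus b
  have e : U.ι ''ᵁ (q₁ ⁻¹ᵁ c₁.locus a ⊓ q₂ ⁻¹ᵁ c₂.locus b) = p₁ ⁻¹ᵁ A ⊓ p₂ ⁻¹ᵁ B := by
    ext x
    constructor
    · rintro ⟨z, ⟨hz₁, hz₂⟩, rfl⟩
      refine ⟨⟨q₁ z, hz₁, ?_⟩, ⟨q₂ z, hz₂, ?_⟩⟩
      · show (q₁ ≫ U₁.ι) z = (U.ι ≫ p₁) z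
        rw [Scheme.Hom.resLE_comp_ι]
      · show (q₂ ≫ U₂.ι) z = (U.ι ≫ p₂) z
        rw [Scheme.Hom.resLE_comp_ι]
    · rintro ⟨⟨w₁, hw₁, hx₁⟩, ⟨w₂, hw₂, hx₂⟩⟩
      have hx : x ∈ U := hU.ge ⟨show p₁ x ∈ U₁ from hx₁ ▸ w₁.2, show p₂ x ∈ U₂ from hx₂ ▸ w₂.2⟩
      have i₁ : q₁ ⟨x, hx⟩ = w₁ := U₁.ι.isOpenEmbedding.injective
        ((show (q₁ ≫ U₁.ι) ⟨x, hx⟩ = (U.ι ≫ p₁) ⟨x, hx⟩ by rw [Scheme.Hom.resLE_comp_ι]).trans hx₁.symm)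
      have i₂ : q₂ ⟨x, hx⟩ = w₂ := U₂.ι.isOpenEmbedding.injective
        ((show (q₂ ≫ U₂.ι) ⟨x, hx⟩ = (U.ι ≫ p₂) ⟨x, hx⟩ by rw [Scheme.Hom.resLE_comp_ι]).trans hx₂.symm)
      exact ⟨⟨x, hx⟩, ⟨show q₁ ⟨x, hx⟩ ∈ c₁.locus a from i₁.symm ▸ hw₁,
        show q₂ ⟨x, hx⟩ ∈ c₂.locus b from i₂.symm ▸ hw₂⟩, rfl⟩
  rw [e]
  refine GrothLib.Ample.isAffineOpen_fst_inf_snd _ _ (ha.image_of_isOpenImmersion _) (hb.image_of_isOpenImmersion _) hV₀ ?_ ?_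
  · rintro _ ⟨z, -, rfl⟩
    exact hV₁0 z.2
  · rintro _ ⟨z, -, rfl⟩
    exact hV₂0 z.2

end Groth.Agent.S4428
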