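import Groth.Statements.S4429
import Groth.Agent.Lib.CharPolyInt.Basic

set_option autoImplicit false
universe u
open EGA2

namespace Groth.Agent.S4429

/-- For an integral domain A with fraction field K, a finitely generated A-module E and an endomorphism
u of E, the coefficients of the characteristic polynomial of u ⊗ 1 acting on the K-vector space K
⊗_A E (the elementary symmetric functions of u, among them its trace and determinant) are integral
over A. -/
theorem result (A : Type u) [CommRing A] [IsDomain A] (K : Type u) [Field K]
    [Algebra A K] [IsFractionRing A K] (E : Type u) [AddCommGroup E] [Module A E] [Module.Finite A E]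
    (u : E →ₗ[A] E) (i : ℕ) :
    IsIntegral A (((u.baseChange K).charpoly).coeff i) := by
    exact GrothLib.CharPolyInt.isIntegral_charpoly_coeff u i

end Groth.Agent.S4429
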