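import Groth.Statements.S4430
import Groth.Agent.Lib.CharPolyInt.Basic

set_option autoImplicit false
universe u
open EGA2

namespace Groth.Agent.S4430

/-- Let A be an integral domain with fraction field K, E a finitely generated A-module and u an
endomorphism of E whose characteristic-polynomial coefficients (those of u ⊗ 1 on K ⊗_A E) all lie
in A. If u is an automorphism of E, then its determinant, as an element of A, is invertible in A. -/
theorem result (A : Type u) [CommRing A] [IsDomain A] (K : Type u) [Field K]
    [Algebra A K] [IsFractionRing A K] (E : Type u) [AddCommGroup E] [Module A E] [Module.Finite A E]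
    (u : E →ₗ[A] E) (hcoeff : ∀ i : ℕ, ((u.baseChange K).charpoly).coeff i ∈ (algebraMap A K).range)
    (a : A) (ha : algebraMap A K a = LinearMap.det (u.baseChange K)) (hu : Function.Bijective u) :
    IsUnit a := by
    exact GrothLib.CharPolyInt.isUnit_det_of_bijective u hu a ha

end Groth.Agent.S4430
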