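import Groth.Statements.S4432
import Groth.Agent.Lib.NormAmple.DetInt

set_option autoImplicit false
set_option linter.style.haveILetI false
universe u
open EGA2

namespace Groth.Agent.S4432

open Polynomial in
theorem isIntegral_charpoly_coeff {R L : Type*} [CommRing R] [Field L] [IsAlgClosed L] [Algebra R L] {m : ℕ}
    (M : Matrix (Fin m) (Fin m) L) (hM : IsIntegral R M) (j : ℕ) : IsIntegral R (M.charpoly.coeff j) := by
  obtain ⟨p, hp, hpM⟩ := hM
  have hr : ∀ ν ∈ M.charpoly.roots, IsIntegral R ν := fun ν hν =>
    ⟨p, hp, by rw [← aeval_def]; exact GrothLib.NormAmple.eval_eq_zero_of_mem_roots M p hpM hν⟩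
  by_cases hj : j ≤ M.charpoly.natDegree
  · rw [Polynomial.coeff_eq_esymm_roots_of_card (IsAlgClosed.splits M.charpoly).natDegree_eq_card_roots.symm hj,
      M.charpoly_monic.leadingCoeff, one_mul]
    refine IsIntegral.mul (IsIntegral.pow (IsIntegral.neg isIntegral_one) _) ?_
    refine IsIntegral.multiset_sum fun x hx => ?_
    obtain ⟨s, hs, rfl⟩ := Multiset.mem_map.mp hx
    exact IsIntegral.multiset_prod fun ν hν => hr ν (Multiset.mem_of_le (Multiset.mem_powersetCard.mp hs).1 hν)
  · rw [Polynomial.coeff_eq_zero_of_natDegree_lt (not_le.mp hj)]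
    exact isIntegral_zero

/-- Let A be a reduced Noetherian ring, K its total ring of fractions, and E a finitely generated
A-module with K ⊗_A E free over K. The A-subalgebra of K generated by the coefficients of the
characteristic polynomials of v ⊗ 1 (v running through all endomorphisms of E), i.e. by all
elementary symmetric functions of all endomorphisms of E, is a finitely generated A-module. -/
theorem result (A : Type u) [CommRing A] [IsNoetherianRing A] [IsReduced A]
    (E : Type u) [AddCommGroup E] [Module A E] [Module.Finite A E]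
    [Module.Free (FractionRing A) (TensorProduct A (FractionRing A) E)] :
    (Algebra.adjoin A {c : FractionRing A | ∃ (v : E →ₗ[A] E) (j : ℕ),
        c = ((v.baseChange (FractionRing A)).charpoly).coeff j}).toSubmodule.FG := by
  let K := FractionRing A
  haveI : IsReduced K := isReduced_localizationPreserves (nonZeroDivisors A) K inferInstance
  haveI : IsNoetherianRing K := IsLocalization.isNoetherianRing (nonZeroDivisors A) K inferInstance
  set N := TensorProduct A K E
  haveI : Module.Finite K N := inferInstance
  let b := (Module.Free.chooseBasis K N).reindex (Fintype.equivFin _)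
  let Φ : (E →ₗ[A] E) →ₗ[A] Matrix (Fin _) (Fin _) K :=
    ((LinearMap.toMatrix b b).toLinearMap.restrictScalars A).comp (LinearMap.baseChangeHom A K E E)
  have hcp : ∀ v : E →ₗ[A] E, (v.baseChange K).charpoly = (Φ v).charpoly := fun v =>
    ((v.baseChange K).charpoly_toMatrix b).symm
  obtain ⟨n, w, hw⟩ := Module.Finite.exists_fin (R := A) (M := E →ₗ[A] E)
  let U : Matrix (Fin _) (Fin _) (MvPolynomial (Fin n) K) :=
    ∑ i, (MvPolynomial.X i : MvPolynomial (Fin n) K) • (Φ (w i)).map (MvPolynomial.C : K →+* MvPolynomial (Fin n) K)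
  let S := {c : K | ∃ (v : E →ₗ[A] E) (j : ℕ), c = ((v.baseChange K).charpoly).coeff j}
  let G : Set K := ⋃ j ∈ Finset.range (U.charpoly.natDegree + 1),
    (fun e => MvPolynomial.coeff e (U.charpoly.coeff j)) '' ((U.charpoly.coeff j).support : Set _)
  have hG : (Submodule.span A G).FG := Submodule.fg_span ((Finset.range _).finite_toSet.biUnion fun j _ => (Finset.finite_toSet _).image _)
  have hS : S ⊆ Submodule.span A G := by
    rintro c ⟨v, j, rfl⟩
    obtain ⟨a, rfl⟩ := (Submodule.mem_span_range_iff_exists_fun A).mp (hw.symm ▸ Submodule.mem_top : v ∈ Submodule.span A (Set.range w))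
    have hU : Φ (∑ i, a i • w i) = U.map (MvPolynomial.eval fun i => algebraMap A K (a i)) := by
      rw [map_sum]
      ext p q
      simp only [map_smul, Matrix.sum_apply, Matrix.smul_apply, Matrix.map_apply, U, smul_eq_mul, map_sum, map_mul, MvPolynomial.eval_X, MvPolynomial.eval_C]
      simp [Algebra.smul_def]
    rw [hcp, hU, Matrix.charpoly_map, Polynomial.coeff_map, MvPolynomial.eval_eq]
    by_cases hj : j ∈ Finset.range (U.charpoly.natDegree + 1)
    · refine Submodule.sum_mem _ fun e he => ?_
      rw [show (∏ i ∈ e.support, algebraMap A K (a i) ^ e i) = algebraMap A K (∏ i ∈ e.support, a i ^ e i) by simp,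
        mul_comm, ← Algebra.smul_def]
      exact Submodule.smul_mem _ _ (Submodule.subset_span (Set.mem_biUnion hj ⟨e, he, rfl⟩))
    · rw [Polynomial.coeff_eq_zero_of_natDegree_lt (by simpa using hj)]
      simp
  haveI : Module.Finite A (Submodule.span A G) := Module.Finite.iff_fg.mpr hG
  haveI : IsNoetherian A (Submodule.span A G) := inferInstance
  have hfg : (Submodule.span A S).FG := Submodule.FG.of_le hG (Submodule.span_le.mpr hS)
  obtain ⟨T', hTS, hT⟩ := (Submodule.fg_span_iff_fg_span_finset_subset S).mp hfg
  set T : Set K := ↑T'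
  have hTfin : T.Finite := T'.finite_toSet
  have hadj : Algebra.adjoin A S = Algebra.adjoin A T := le_antisymm
    (Algebra.adjoin_le fun x hx => (Submodule.span_le.mpr Algebra.subset_adjoin : Submodule.span A T ≤ Subalgebra.toSubmodule (Algebra.adjoin A T)) (hT ▸ Submodule.subset_span hx))
    (Algebra.adjoin_mono hTS)
  have hint : ∀ x ∈ S, IsIntegral A x := by
    rintro x ⟨v, j, rfl⟩
    have hM : IsIntegral A (Φ v) := by
      have h1 : IsIntegral A v := Algebra.IsIntegral.isIntegral v
      exact h1.map ((LinearMap.toMatrixAlgEquiv b).toAlgHom.restrictScalars A |>.comp (Module.End.baseChangeHom A K E))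
    rw [hcp]
    set x := (Φ v).charpoly.coeff j
    have hp : ∀ P : minimalPrimes K, ∃ q : Polynomial A, q.Monic ∧ Polynomial.aeval x q ∈ P.1 := by
      intro P
      haveI : P.1.IsPrime := Ideal.minimalPrimes_isPrime P.2
      let L := AlgebraicClosure P.1.ResidueField
      let φ : K →ₐ[A] L := IsScalarTower.toAlgHom A K L
      have h2 := isIntegral_charpoly_coeff ((φ.mapMatrix) (Φ v)) (hM.map φ.mapMatrix) j
      rw [AlgHom.mapMatrix_apply, show ((Φ v).map φ) = (Φ v).map φ.toRingHom from rfl, Matrix.charpoly_map, Polynomial.coeff_map] at h2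
      obtain ⟨q, hq, hqx⟩ := h2
      refine ⟨q, hq, ?_⟩
      have h3 : φ (Polynomial.aeval x q) = 0 := by rw [← Polynomial.aeval_algHom_apply]; exact hqx
      have h4 : algebraMap K P.1.ResidueField (Polynomial.aeval x q) = 0 :=
        (algebraMap P.1.ResidueField L).injective (by rw [map_zero, ← IsScalarTower.algebraMap_apply]; exact h3)
      exact Ideal.algebraMap_residueField_eq_zero.mp h4
    choose q hq hqx using hp
    haveI : Fintype (minimalPrimes K) := (minimalPrimes.finite_of_isNoetherianRing K).fintype
    refine ⟨∏ P, q P, Polynomial.monic_prod_of_monic _ _ fun P _ => hq P, ?_⟩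
    rw [← Polynomial.aeval_def, map_prod]
    refine IsReduced.eq_zero _ ?_
    rw [← mem_nilradical, nilradical, ← Ideal.sInf_minimalPrimes, Submodule.mem_sInf]
    intro P hP
    exact Ideal.mem_of_dvd (P : Ideal K) (Finset.dvd_prod_of_mem (fun P => Polynomial.aeval x (q P)) (Finset.mem_univ ⟨P, hP⟩)) (hqx ⟨P, hP⟩)
  show (Algebra.adjoin A S).toSubmodule.FG
  rw [hadj]
  exact fg_adjoin_of_finite hTfin fun x hx => hint x (hTS hx)

end Groth.Agent.S4432
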