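import Groth.Statements.S4435
import Mathlib.AlgebraicGeometry.FunctionField
import Mathlib.RingTheory.Algebraic.Integral

set_option autoImplicit false
universe u
open CategoryTheory CategoryTheory.Limits AlgebraicGeometry
open EGA2

namespace Groth.Agent.S4435

/-- Let X, S be integral schemes and f : X ⟶ S a dominant morphism. If f is integral, the field of
rational functions of X is algebraic over that of S; if f is finite, it is a finite extension. Here
the extension is given by the stalk map of f at the generic point of X, whose source is the local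
ring of S at the generic point of S (f being dominant), i.e. the function field of S. -/
theorem result {X S : Scheme.{u}} [IsIntegral X] [IsIntegral S]
    (f : X ⟶ S) [IsDominant f] :
    (IsIntegralHom f → (f.stalkMap (genericPoint X)).hom.IsIntegral) ∧
      (IsFinite f → (f.stalkMap (genericPoint X)).hom.Finite) := by
  set η := genericPoint X with hη
  have hfη : f η = genericPoint S := by
    have h1 : IsGenericPoint (f η) (Set.univ : Set S) := by
      have hX := genericPoint_spec X
      have := hX.image f.continuous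
      rwa [Set.image_univ, f.denseRange.closure_range] at this
    exact h1.eq (genericPoint_spec S)
  have hK : IsField (S.presheaf.stalk (f η)) := by
    rw [hfη]; exact Field.toIsField S.functionField
  obtain ⟨U, hU, hfU, -⟩ := exists_isAffineOpen_mem_and_subset (U := ⊤) (x := f η) trivial
  letI : Field (S.presheaf.stalk (f η)) := hK.toField
  letI : Field (X.presheaf.stalk η) := (inferInstance : Field X.functionField)
  let φ := (f.stalkMap η).hom
  letI : Algebra (S.presheaf.stalk (f η)) (X.presheaf.stalk η) := φ.toAlgebra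
  have key : IsIntegralHom f →
      (∀ a, IsIntegral (S.presheaf.stalk (f η)) (X.presheaf.germ (f ⁻¹ᵁ U) η hfU a)) := by
    intro hf a
    obtain ⟨p, hp, hp0⟩ := hf.isIntegral_app U hU a
    refine ⟨p.map (S.presheaf.germ U (f η) hfU).hom, hp.map _, ?_⟩
    have hc : φ.comp (S.presheaf.germ U (f η) hfU).hom =
        (X.presheaf.germ (f ⁻¹ᵁ U) η hfU).hom.comp (f.app U).hom := by
      rw [← CommRingCat.hom_comp, ← CommRingCat.hom_comp, Scheme.Hom.germ_stalkMap]
    rw [Polynomial.eval₂_map]
    change Polynomial.eval₂ (φ.comp (S.presheaf.germ U (f η) hfU).hom) _ p = 0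
    rw [hc, ← Polynomial.hom_eval₂, hp0, map_zero]
  have frac : IsAffineHom f → ∀ x, ∃ a b, X.presheaf.germ (f ⁻¹ᵁ U) η hfU a /
      X.presheaf.germ (f ⁻¹ᵁ U) η hfU b = x := by
    intro hf x
    haveI : Nonempty (f ⁻¹ᵁ U : X.Opens) := ⟨⟨η, hfU⟩⟩
    haveI := functionField_isFractionRing_of_isAffineOpen X _ (hU.preimage f)
    obtain ⟨a, b, -, h⟩ := IsFractionRing.div_surjective Γ(X, f ⁻¹ᵁ U) (K := X.functionField) x
    exact ⟨a, b, h⟩
  refine ⟨fun hf x => ?_, fun hf => ?_⟩
  · obtain ⟨a, b, rfl⟩ := frac inferInstance x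
    rw [div_eq_mul_inv]
    exact (key hf a).mul (key hf b).inv
  · letI : Algebra Γ(S, U) Γ(X, f ⁻¹ᵁ U) := (f.app U).hom.toAlgebra
    obtain ⟨G, hG⟩ := (hf.finite_app U hU : Module.Finite Γ(S, U) Γ(X, f ⁻¹ᵁ U)).fg_top
    let ι := (X.presheaf.germ (f ⁻¹ᵁ U) η hfU).hom
    let A := Algebra.adjoin (S.presheaf.stalk (f η)) (ι '' (G : Set Γ(X, f ⁻¹ᵁ U)))
    have hint : ∀ y ∈ ι '' (G : Set Γ(X, f ⁻¹ᵁ U)), IsIntegral (S.presheaf.stalk (f η)) y := by
      rintro _ ⟨y, -, rfl⟩; exact key inferInstance y
    have hmem : ∀ a, ι a ∈ A := by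
      intro a
      have : a ∈ Submodule.span Γ(S, U) (G : Set Γ(X, f ⁻¹ᵁ U)) := hG ▸ trivial
      induction this using Submodule.span_induction with
      | mem y hy => exact Algebra.subset_adjoin ⟨y, hy, rfl⟩
      | zero => rw [map_zero]; exact zero_mem _
      | add y z _ _ hy hz => rw [map_add]; exact add_mem hy hz
      | smul r y _ hy =>
        rw [Algebra.smul_def, map_mul]
        refine mul_mem ?_ hy
        have hc : ι (algebraMap Γ(S, U) Γ(X, f ⁻¹ᵁ U) r) =
            algebraMap (S.presheaf.stalk (f η)) (X.presheaf.stalk η) (S.presheaf.germ U (f η) hfU r) :=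
          (Scheme.Hom.germ_stalkMap_apply f U η hfU r).symm
        rw [hc]
        exact Subalgebra.algebraMap_mem _ _
    have htop : A = ⊤ := by
      refine top_le_iff.mp fun x _ => ?_
      obtain ⟨a, b, rfl⟩ := frac inferInstance x
      rw [div_eq_mul_inv]
      exact mul_mem (hmem a) (A.inv_mem_of_algebraic (x := ⟨_, hmem b⟩)
        (key inferInstance b).isAlgebraic)
    exact ⟨by rw [← Algebra.top_toSubmodule, ← htop]; exact fg_adjoin_of_finite (G.finite_toSet.image ι) hint⟩

end Groth.Agent.S4435
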