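import Groth.Statements.S4437
import Groth.Agent.Lib.EtLocal.HenselPart
import Groth.Agent.Lib.Hensel.Local

set_option autoImplicit false
universe u
open CategoryTheory CategoryTheory.Limits AlgebraicGeometry
open EGA2

namespace Groth.Agent.S4437

/-- Let A be a complete Noetherian local ring and f : X ⟶ Spec A a separated quasi-finite morphism (of
finite type with discrete fibres). Then X splits as a disjoint sum of two open subschemes, one
finite over Spec A and containing the fibre over the closed point, the other not meeting that fibre:
there is an open and closed U ⊆ X, finite over Spec A, containing every point lying over the closed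
point. -/
theorem result (A : Type u) [CommRing A] [IsLocalRing A]
    [IsNoetherianRing A] [IsAdicComplete (IsLocalRing.maximalIdeal A) A] (X : Scheme.{u})
    (f : X ⟶ Spec (CommRingCat.of A)) [LocallyOfFiniteType f] [QuasiCompact f] [IsSeparated f] [LocallyQuasiFinite f] :
    ∃ U : X.Opens, IsClosed (U : Set X) ∧ IsFinite (U.ι ≫ f) ∧
      ∀ x : X, f.base x = IsLocalRing.closedPoint A → x ∈ U := by
  haveI : HenselianLocalRing A := GrothLib.Hensel.henselianLocalRing_of_henselianRing inferInstance
  obtain ⟨W, hW, -⟩ := GrothLib.EtLocal.existsUnique_isFinitePart f
  exact ⟨W, hW.1, hW.2.1, fun x hx => hW.2.2 x hx⟩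

end Groth.Agent.S4437
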