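import Groth.Statements.S4439
import Groth.Agent.Lib.DVRDom.Scheme

set_option autoImplicit false
universe u
open CategoryTheory CategoryTheory.Limits AlgebraicGeometry
open EGA2

namespace Groth.Agent.S4439

/-- Let A be a valuation ring with field of fractions K and f : X ⟶ Spec A a separated morphism whose
underlying map is closed. Then restriction to the generic point is a bijection from sections of f to
K-rational points of the generic fibre: every morphism Spec K ⟶ X over Spec A extends to exactly one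
section of f. -/
theorem result (A : Type u) [CommRing A] [IsDomain A]
    [ValuationRing A] (K : Type u) [Field K] [Algebra A K] [IsFractionRing A K] (X : Scheme.{u})
    (f : X ⟶ Spec (CommRingCat.of A)) [IsSeparated f] (hf : IsClosedMap f.base)
    (x : Spec (CommRingCat.of K) ⟶ X) (hx : x ≫ f = Spec.map (CommRingCat.ofHom (algebraMap A K))) :
    ∃! s : Spec (CommRingCat.of A) ⟶ X, s ≫ f = 𝟙 _ ∧ Spec.map (CommRingCat.ofHom (algebraMap A K)) ≫ s = x := by
  classical
  have hinj : Function.Injective (algebraMap A K) := IsFractionRing.injective A K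
  let S := Spec (CommRingCat.of A)
  let m : S := IsLocalRing.closedPoint A
  obtain ⟨x', hx'sp, hx'⟩ : ∃ x', x.base (IsLocalRing.closedPoint K) ⤳ x' ∧ f.base x' = m := by
    have h1 : f.base (x.base (IsLocalRing.closedPoint K)) ⤳ m := IsLocalRing.specializes_closedPoint _
    obtain ⟨x', h2, h3⟩ := hf.specializingMap h1
    exact ⟨x', h2, h3⟩
  obtain ⟨_, ⟨W, hW, rfl⟩, hxW, -⟩ :=
    X.isBasis_affineOpens.exists_subset_of_mem_open (Set.mem_univ x') isOpen_univ
  have hV := isAffineOpen_top S
  have hηW : x.base (IsLocalRing.closedPoint K) ∈ W := hx'sp.mem_open W.2 hxW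
  let χ : X.presheaf.stalk x' ⟶ .of K :=
    X.presheaf.stalkSpecializes hx'sp ≫ Scheme.stalkClosedPointTo x
  let c : Γ(S, ⊤) ⟶ .of A := S.presheaf.germ ⊤ m trivial ≫ Scheme.stalkClosedPointTo (𝟙 S)
  have hc : Spec.map c ≫ hV.fromSpec = 𝟙 S := by
    rw [Spec.map_comp, Category.assoc]
    show _ ≫ hV.fromSpecStalk (x := m) trivial = _
    rw [hV.fromSpecStalk_eq_fromSpecStalk]
    exact Scheme.Spec_stalkClosedPointTo_fromSpecStalk (𝟙 S)
  have hcs : Function.Surjective c.hom := by
    have h0 : (Scheme.ΓSpecIso (CommRingCat.of A)).inv ≫ c = 𝟙 _ := by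
      apply Spec.map_injective
      rw [Spec.map_comp, Spec.map_id]
      rw [IsAffineOpen.fromSpec_top, Scheme.isoSpec_Spec_inv] at hc
      exact hc
    exact fun r ↦ ⟨_, ConcreteCategory.congr_hom h0 r⟩
  have e : W ≤ f ⁻¹ᵁ (⊤ : S.Opens) := le_top
  have key : ∀ a, (GrothLib.DVRDom.ev x W hηW).hom a ∈ (algebraMap A K).range := by
    intro a
    by_contra ha
    have hne : (GrothLib.DVRDom.ev x W hηW).hom a ≠ 0 := fun h0 ↦ ha (h0 ▸ zero_mem _)
    obtain ⟨r, hr⟩ : IsLocalization.IsInteger A ((GrothLib.DVRDom.ev x W hηW).hom a)⁻¹ :=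
      (ValuationRing.isInteger_or_isInteger A _).resolve_left fun ⟨r, hr⟩ ↦ ha ⟨r, hr⟩
    obtain ⟨s, hs⟩ := hcs r
    let t := (f.appLE ⊤ W e).hom s
    have hru : ¬ IsUnit r := fun hu ↦ ha ⟨↑hu.unit⁻¹, by
      rw [← inv_inv ((GrothLib.DVRDom.ev x W hηW).hom a), ← hr]
      exact eq_inv_of_mul_eq_one_left (by rw [← map_mul, hu.val_inv_mul, map_one])⟩
    have htu : ¬ IsUnit ((X.presheaf.germ W x' hxW).hom t) := by
      intro hu
      have h1 : x' ∈ X.basicOpen t := (X.mem_basicOpen t x' hxW).mpr hu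
      have h2 : x' ∈ f ⁻¹ᵁ S.basicOpen s := by
        have := h1
        rw [show X.basicOpen t = W ⊓ f ⁻¹ᵁ S.basicOpen s from Scheme.basicOpen_appLE f W ⊤ e s] at this
        exact this.2
      have h3 : IsUnit ((S.presheaf.germ ⊤ m trivial).hom s) :=
        (S.mem_basicOpen s m trivial).mp (hx' ▸ h2)
      exact hru (hs ▸ h3.map (Scheme.stalkClosedPointTo (𝟙 S)).hom)
    have h4 : (GrothLib.DVRDom.ev x W hηW).hom t = algebraMap A K r := by
      have h5 : GrothLib.DVRDom.ev (x ≫ f) ⊤ trivial = c ≫ CommRingCat.ofHom (algebraMap A K) := by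
        apply GrothLib.DVRDom.specMap_injective hV
        rw [GrothLib.DVRDom.specMap_ev _ hV, Spec.map_comp, Category.assoc, hc, Category.comp_id, hx]
      exact ((ConcreteCategory.congr_hom (GrothLib.DVRDom.ev_comp f x hW hV e hηW) s).trans
        (ConcreteCategory.congr_hom h5 s)).trans (congrArg (algebraMap A K) hs)
    let z := (X.presheaf.germ W x' hxW).hom t * (X.presheaf.germ W x' hxW).hom a - 1
    have hz : χ.hom z = 0 := by
      have h6 : ∀ b, χ.hom ((X.presheaf.germ W x' hxW).hom b) = (GrothLib.DVRDom.ev x W hηW).hom b := by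
        intro b
        show (X.presheaf.germ W x' hxW ≫ χ).hom b = _
        rw [TopCat.Presheaf.germ_stalkSpecializes_assoc]; rfl
      rw [map_sub, map_mul, map_one, h6, h6, h4, hr, inv_mul_cancel₀ hne, sub_self]
    have hz' : IsUnit z := by
      by_contra h
      have h7 : (X.presheaf.germ W x' hxW).hom t * (X.presheaf.germ W x' hxW).hom a ∈
          IsLocalRing.maximalIdeal (X.presheaf.stalk x') :=
        Ideal.mul_mem_right _ _ ((IsLocalRing.mem_maximalIdeal _).mpr htu)
      have h8 := sub_mem h7 ((IsLocalRing.mem_maximalIdeal z).mpr h)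
      rw [sub_sub_cancel] at h8
      exact (IsLocalRing.mem_maximalIdeal _).mp h8 isUnit_one
    exact (hz'.map χ.hom).ne_zero hz
  obtain ⟨l, -, hl, hl'⟩ := GrothLib.DVRDom.exists_lift_of_range_le hinj f x (𝟙 S)
    (hx.trans (Category.comp_id _).symm) hW hV e trivial hηW key
  exact ⟨l, ⟨hl', hl⟩, fun l' h' ↦
    GrothLib.DVRDom.eq_of_isSeparated (K := K) f l' l (h'.1.trans hl'.symm) (h'.2.trans hl.symm)⟩

end Groth.Agent.S4439
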