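import Groth.Statements.S4441
import Groth.Agent.Lib.DVRDom.Center

set_option autoImplicit false
universe u
open CategoryTheory CategoryTheory.Limits AlgebraicGeometry
open EGA2

namespace Groth.Agent.S4441

/-- Let X and Y be integral separated schemes and f : X ⟶ Y a dominant, quasi-compact, universally
closed morphism, ξ the generic point of X. Every valuation subring R of the function field K(X) of X
which dominates the local ring of Y at a point y (via O_{Y,y} → O_{Y,f(ξ)} → K(X): image inside R,
maximal ideal into the maximal ideal of R) also dominates the local ring of X at some point x (via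
O_{X,x} → K(X)). -/
theorem result {X Y : Scheme.{u}} [IsIntegral X] [IsIntegral Y]
    [X.IsSeparated] [Y.IsSeparated] (f : X ⟶ Y) [IsDominant f] [QuasiCompact f] [UniversallyClosed f]
    (R : ValuationSubring X.functionField) (y : Y) (hy : f.base (genericPoint X) ⤳ y)
    (hdom : (∀ a : Y.presheaf.stalk y, (Y.presheaf.stalkSpecializes hy ≫ f.stalkMap (genericPoint X)).hom a ∈ R) ∧
      ∀ a ∈ IsLocalRing.maximalIdeal (Y.presheaf.stalk y),
        R.valuation ((Y.presheaf.stalkSpecializes hy ≫ f.stalkMap (genericPoint X)).hom a) < 1) :
    ∃ x : X, (∀ a : X.presheaf.stalk x, algebraMap (X.presheaf.stalk x) X.functionField a ∈ R) ∧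
      ∀ a ∈ IsLocalRing.maximalIdeal (X.presheaf.stalk x), R.valuation (algebraMap (X.presheaf.stalk x) X.functionField a) < 1 := by
  exact GrothLib.DVRDom.exists_center f R y hy hdom

end Groth.Agent.S4441
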