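import Groth.Statements.S4442
import Groth.Agent.Lib.CurvPt8.Basic
import Groth.Agent.Lib.BaseChange.AlgClosedIn

set_option autoImplicit false
set_option backward.isDefEq.respectTransparency false
universe u
open CategoryTheory CategoryTheory.Limits AlgebraicGeometry
attribute [local instance] Curv2.resAlgebra
open EGA2

namespace Groth.Agent.S4442

/-- (a) ⇔ (b): let X be a scheme of finite type over a field k. The residue fields of the generic points
of the irreducible components of X all have transcendence degree one over k if and only if the local
ring of X at every closed point has dimension one. (The published statement has a third equivalent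
condition: the irreducible closed subsets of X other than the irreducible components are exactly the
closed points of X. This row states only the equivalence of the first two.) -/
theorem result (k : Type u) [Field k] (X : Scheme.{u})
    [X.Over (Spec (CommRingCat.of k))] [LocallyOfFiniteType (X ↘ (Spec (CommRingCat.of k)))]
    [QuasiCompact (X ↘ (Spec (CommRingCat.of k)))] :
    (∀ x : X, closure ({x} : Set X) ∈ irreducibleComponents (X : Type u) → Algebra.trdeg k (X.residueField x) = 1) ↔
      ∀ x : X, IsClosed ({x} : Set X) → ringKrullDim (X.presheaf.stalk x) = 1 := by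
  have : CompactSpace X := HasAffineProperty.iff_of_isAffine.mp ‹QuasiCompact (X ↘ (Spec (CommRingCat.of k)))›
  rw [GrothLib.CurvPt8.dim_stalk_iff, ← GrothLib.CurvPt8.ptDim_iff]
  refine forall_congr' fun x => ?_
  rw [← GrothLib.CurvPt8.isMax_iff_closure_mem]
  refine imp_congr_right fun _ => ?_
  obtain ⟨n, hn, hn'⟩ := GrothLib.AffDom.exists_dim_closure (X ↘ (Spec (CommRingCat.of k))) x
  have he : GrothLib.AffDom.toRes (X ↘ (Spec (CommRingCat.of k))) x = Curv2.resMap k X x :=
    congrArg CommRingCat.Hom.hom (Spec.map_injective ((GrothLib.AffDom.SpecMap_toRes _ x).trans (GrothLib.BaseChange.fromSpecResidueField_over k X x)))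
  unfold GrothLib.AffDom.ptTrdeg at hn'
  rw [he] at hn'
  rw [GrothLib.AffDom.ptDim, hn]
  constructor <;> intro h
  · have h1 : (n : Cardinal.{u}) = 1 := hn'.symm.trans h
    have : n = 1 := by exact_mod_cast h1
    simp [this]
  · have h1 : n = 1 := by exact_mod_cast h
    exact hn'.trans (by rw [h1, Nat.cast_one])

end Groth.Agent.S4442
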