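import Groth.Statements.S4443
import Groth.Agent.Lib.CurvPt8.Basic

set_option autoImplicit false
set_option backward.isDefEq.respectTransparency false
universe u
open CategoryTheory CategoryTheory.Limits AlgebraicGeometry
open EGA2

namespace Groth.Agent.S4443

/-- Let X be an irreducible algebraic curve over a field k (separated and of finite type over k,
nonempty, irreducible, local rings at closed points of dimension one). Then the generic point is the
only non-closed point of X, and the closed subsets of X distinct from X are exactly the finite sets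
of closed points. (The published statement adds that these are also exactly the subsets of X that
are not dense in X, an immediate consequence; this row does not state it.) -/
theorem result (k : Type u) [Field k] (X : Scheme.{u})
    [X.Over (Spec (CommRingCat.of k))] [LocallyOfFiniteType (X ↘ (Spec (CommRingCat.of k)))]
    [QuasiCompact (X ↘ (Spec (CommRingCat.of k)))] [IsSeparated (X ↘ (Spec (CommRingCat.of k)))]
    [Nonempty X] [IrreducibleSpace X] (hcurve : ∀ x : X, IsClosed ({x} : Set X) → ringKrullDim (X.presheaf.stalk x) = 1) :
    (∀ x : X, ¬ IsClosed ({x} : Set X) → x = genericPoint X) ∧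
      ∀ F : Set X, IsClosed F → (F ≠ Set.univ ↔ (F.Finite ∧ ∀ x ∈ F, IsClosed ({x} : Set X))) := by
  have : CompactSpace X := HasAffineProperty.iff_of_isAffine.mp ‹QuasiCompact (X ↘ (Spec (CommRingCat.of k)))›
  have : IsLocallyNoetherian X := LocallyOfFiniteType.isLocallyNoetherian (X ↘ (Spec (CommRingCat.of k)))
  have : IsNoetherian X := {}
  obtain ⟨h, h'⟩ := GrothLib.CurvPt8.dim_stalk_iff.1 hcurve
  have hmax : ∀ x : X, IsMax x → x = genericPoint X := fun x hx =>
    (Specializes.antisymm (hx ((genericPoint_spec X).specializes trivial))
      ((genericPoint_spec X).specializes trivial)).eq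
  have hnc : ∀ x : X, ¬ IsClosed ({x} : Set X) → x = genericPoint X := fun x hx =>
    hmax x (by by_contra hm; exact hx (h x hm))
  refine ⟨hnc, fun F hF => ⟨fun hne => ?_, fun hfin hu => ?_⟩⟩
  · have hη : genericPoint X ∉ F := fun hm => hne
      (Set.univ_subset_iff.1 ((genericPoint_spec X).def ▸ closure_minimal (Set.singleton_subset_iff.2 hm) hF))
    have hcl : ∀ x ∈ F, IsClosed ({x} : Set X) := fun x hx => by
      by_contra hc
      exact hη (hnc x hc ▸ hx)
    refine ⟨?_, hcl⟩
    obtain ⟨S, hS, hSirr, hScl, hcov⟩ := TopologicalSpace.NoetherianSpace.exists_finite_set_isClosed_irreducible hF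
    rw [hcov]
    refine hS.sUnion fun C hC => ?_
    obtain ⟨c, hc⟩ := QuasiSober.sober (hScl C hC) (hSirr C hC)
    rw [← hc.def, (hcl c (hcov ▸ Set.subset_sUnion_of_mem hC hc.mem)).closure_eq]
    exact Set.finite_singleton c
  · have hc := hfin.2 (genericPoint X) (hu ▸ Set.mem_univ _)
    exact h' _ hc fun y hy => ((genericPoint_spec X).specializes trivial : genericPoint X ⤳ y)

end Groth.Agent.S4443
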