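import Groth.Statements.S4444
import Groth.Agent.Lib.CurveCompl10.Main
import Groth.Agent.Lib.AlgSp.FieldFibreDim

set_option autoImplicit false
universe u
open CategoryTheory CategoryTheory.Limits AlgebraicGeometry
open EGA2

namespace Groth.Agent.S4444

/-- Every normal algebraic curve X over a field k (separated and of finite type over k, nonempty, local
rings at closed points of dimension one, all local rings integrally closed domains) admits a
k-morphism which is an open immersion with dense image into a normal algebraic curve proper over k.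
(The uniqueness of this completion up to unique isomorphism is not part of this row.) -/
theorem result (k : Type u) [Field k] (X : Scheme.{u})
    [X.Over (Spec (CommRingCat.of k))] [LocallyOfFiniteType (X ↘ (Spec (CommRingCat.of k)))]
    [QuasiCompact (X ↘ (Spec (CommRingCat.of k)))] [IsSeparated (X ↘ (Spec (CommRingCat.of k)))] [Nonempty X]
    (hcurve : ∀ x : X, IsClosed ({x} : Set X) → ringKrullDim (X.presheaf.stalk x) = 1) (hnorm : Pi1.IsNormalScheme X) :
    ∃ (Xc : Scheme.{u}) (sc : Xc ⟶ Spec (CommRingCat.of k)) (j : X ⟶ Xc), IsOpenImmersion j ∧ Dense (Set.range j.base) ∧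
      j ≫ sc = X ↘ (Spec (CommRingCat.of k)) ∧ IsProper sc ∧ Pi1.IsNormalScheme Xc ∧
      ∀ x : Xc, IsClosed ({x} : Set Xc) → ringKrullDim (Xc.presheaf.stalk x) = 1 := by
  have hred : IsReduced X := by
    haveI : ∀ x : X, _root_.IsReduced (X.presheaf.stalk x) := fun x => by
      haveI := (hnorm x).1; infer_instance
    exact isReduced_of_isReduced_stalk X
  haveI := hred
  haveI : CompactSpace X := (quasiCompact_iff_compactSpace (f := X ↘ (Spec (CommRingCat.of k)))).mp inferInstance
  have hdim : topologicalKrullDim X ≤ 1 := by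
    rw [GrothLib.AlgSp.topologicalKrullDim_eq_iSup_stalk]
    refine iSup_le fun x => ?_
    obtain ⟨z, hz, hzc⟩ := (isClosed_closure (s := ({x} : Set X))).exists_closed_singleton ⟨x, subset_closure rfl⟩
    rw [← hcurve z hzc, ringKrullDim_stalk_eq_coheight, ringKrullDim_stalk_eq_coheight]
    exact WithBot.coe_le_coe.mpr (Order.coheight_anti (specializes_iff_mem_closure.mpr hz))
  obtain ⟨d, Y, c, j, hc, hj, hjc, hd, -, -, hY⟩ :=
    GrothLib.CurveCompl10.exists_completion_reduced k hdim
  haveI := hc; haveI := hj
  haveI := GrothLib.Chow.isProper_toSpec d k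
  have e : ∀ x : X, Y.presheaf.stalk (j x) ≃+* X.presheaf.stalk x := fun x =>
    (asIso (j.stalkMap x)).commRingCatIsoToRingEquiv
  refine ⟨Y, c ≫ CohB1.ProjSpace.toSpec d k, j, hj, hd, hjc, inferInstance, fun y => ?_, fun y hyc => ?_⟩
  · by_cases hy : y ∈ Set.range j.base
    · obtain ⟨x, rfl⟩ := hy
      haveI := (hnorm x).1; haveI := (hnorm x).2
      haveI : IsDomain (Y.presheaf.stalk (j x)) := (e x).toMulEquiv.isDomain _
      exact ⟨this, IsIntegrallyClosed.of_equiv (e x).symm⟩
    · obtain ⟨-, h1, h2⟩ := hY y hy
      exact ⟨h1, inferInstance⟩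
  · by_cases hy : y ∈ Set.range j.base
    · obtain ⟨x, rfl⟩ := hy
      rw [ringKrullDim_eq_of_ringEquiv (e x)]
      refine hcurve x ?_
      have h := hyc.preimage j.continuous
      rwa [← Set.image_singleton, Set.preimage_image_eq _ j.isOpenEmbedding.injective] at h
    · obtain ⟨-, h1, h2⟩ := hY y hy
      exact IsPrincipalIdealRing.ringKrullDim_eq_one _ (IsDiscreteValuationRing.not_isField _)

end Groth.Agent.S4444
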