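import Groth.Statements.S4445
import Groth.Agent.Lib.NormalExt.Basic
import Groth.Agent.Lib.DVRDom.Extend
import Mathlib.AlgebraicGeometry.SpreadingOut

set_option autoImplicit false
universe u
open CategoryTheory CategoryTheory.Limits AlgebraicGeometry
attribute [local instance] Curv2.stalkAlgebra
open EGA2

namespace Groth.Agent.S4445

/-- Let X be a normal irreducible algebraic curve over a field k with field of rational functions K, and
Y an integral complete (proper over k) algebraic curve with field of rational functions L. Dominant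
k-morphisms X ⟶ Y correspond bijectively to k-embeddings L → K: for every k-algebra homomorphism φ :
L → K there is exactly one k-morphism u : X ⟶ Y mapping the generic point of X to the generic point
of Y and inducing φ on the stalks at the generic points. -/
theorem result (k : Type u) [Field k] (X Y : Scheme.{u})
    [X.Over (Spec (CommRingCat.of k))] [LocallyOfFiniteType (X ↘ (Spec (CommRingCat.of k)))]
    [QuasiCompact (X ↘ (Spec (CommRingCat.of k)))] [IsSeparated (X ↘ (Spec (CommRingCat.of k)))] [IsIntegral X]
    (hX : ∀ x : X, IsClosed ({x} : Set X) → ringKrullDim (X.presheaf.stalk x) = 1) (hnorm : Pi1.IsNormalScheme X)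
    [Y.Over (Spec (CommRingCat.of k))] [IsProper (Y ↘ (Spec (CommRingCat.of k)))] [IsIntegral Y]
    (hY : ∀ y : Y, IsClosed ({y} : Set Y) → ringKrullDim (Y.presheaf.stalk y) = 1)
    (φ : Y.functionField →ₐ[k] X.functionField) :
    ∃! u : X ⟶ Y, u ≫ (Y ↘ (Spec (CommRingCat.of k))) = X ↘ (Spec (CommRingCat.of k)) ∧
      ∃ hu : u.base (genericPoint X) = genericPoint Y,
        (Y.presheaf.stalkSpecializes (specializes_of_eq hu) ≫ u.stalkMap (genericPoint X)).hom = (φ : Y.functionField →+* X.functionField) := by
  classical
  set sX := X ↘ Spec (CommRingCat.of k)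
  set sY := Y ↘ Spec (CommRingCat.of k)
  have : IsLocallyNoetherian X := LocallyOfFiniteType.isLocallyNoetherian sX
  have : CompactSpace X := QuasiCompact.compactSpace_of_compactSpace sX
  have hdim : ∀ x : X, ringKrullDim (X.presheaf.stalk x) ≤ 1 := by
    intro x
    obtain ⟨c, hc, hc'⟩ := (isClosed_closure (s := ({x} : Set X))).exists_closed_singleton
      ((Set.singleton_nonempty x).closure)
    have hle : Order.coheight x ≤ Order.coheight c :=
      Order.coheight_anti (show c ≤ x from specializes_iff_mem_closure.mpr hc)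
    have h := hX c hc'
    rw [ringKrullDim_stalk_eq_coheight] at h ⊢
    rw [← h]
    exact_mod_cast hle
  have hstruct : ∀ (Z : Scheme.{u}) [Z.Over (Spec (CommRingCat.of k))] (z : Z),
      Z.fromSpecStalk z ≫ (Z ↘ Spec (CommRingCat.of k)) =
        Spec.map (CommRingCat.ofHom (Curv2.stalkMap k Z z)) := by
    intro Z _ z
    rw [← cancel_mono (Spec (CommRingCat.of k)).toSpecΓ, Category.assoc, Scheme.toSpecΓ_naturality,
      ← Category.assoc, Scheme.fromSpecStalk_toSpecΓ, ← Spec.map_comp]
    rw [← AlgebraicGeometry.SpecMap_ΓSpecIso_hom (CommRingCat.of k), ← Spec.map_comp]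
    congr 1
    rw [← cancel_epi (Scheme.ΓSpecIso (CommRingCat.of k)).inv, Iso.inv_hom_id_assoc]
    rfl
  let φc : Y.presheaf.stalk (genericPoint Y) ⟶ X.presheaf.stalk (genericPoint X) :=
    CommRingCat.ofHom (φ : Y.functionField →+* X.functionField)
  let ψ : Spec (X.presheaf.stalk (genericPoint X)) ⟶ Y := Spec.map φc ≫ Y.fromSpecStalk (genericPoint Y)
  have hψ : ψ ≫ sY = X.fromSpecStalk (genericPoint X) ≫ sX := by
    rw [Category.assoc, hstruct Y, hstruct X, ← Spec.map_comp]
    congr 1
    ext c
    exact φ.commutes c
  have key : ∀ u : X ⟶ Y, X.fromSpecStalk (genericPoint X) ≫ u = ψ ↔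
      ∃ hu : u.base (genericPoint X) = genericPoint Y,
        (Y.presheaf.stalkSpecializes (specializes_of_eq hu) ≫ u.stalkMap (genericPoint X)).hom =
          (φ : Y.functionField →+* X.functionField) := by
    intro u
    constructor
    · intro h
      have h1 := congrArg (fun g => g.base (IsLocalRing.closedPoint (X.presheaf.stalk (genericPoint X)))) h
      simp only [ψ, Scheme.Hom.comp_base, TopCat.comp_app, Scheme.fromSpecStalk_closedPoint] at h1
      have hY' : IsField (Y.presheaf.stalk (genericPoint Y)) := Field.toIsField Y.functionField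
      have hcl : (Spec.map φc).base (IsLocalRing.closedPoint (X.presheaf.stalk (genericPoint X))) =
          IsLocalRing.closedPoint (Y.presheaf.stalk (genericPoint Y)) := by
        letI := hY'.toField
        exact Subsingleton.elim (α := PrimeSpectrum (Y.presheaf.stalk (genericPoint Y))) _ _
      rw [hcl, Scheme.fromSpecStalk_closedPoint] at h1
      refine ⟨h1, ?_⟩
      have : Y.presheaf.stalkSpecializes (specializes_of_eq h1) ≫ u.stalkMap (genericPoint X) = φc := by
        apply Spec.map_injective
        rw [← cancel_mono (Y.fromSpecStalk (genericPoint Y)), Spec.map_comp, Category.assoc,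
          Scheme.SpecMap_stalkSpecializes_fromSpecStalk, Scheme.SpecMap_stalkMap_fromSpecStalk]
        exact h
      rw [this]
      rfl
    · rintro ⟨hu, h⟩
      have : Y.presheaf.stalkSpecializes (specializes_of_eq hu) ≫ u.stalkMap (genericPoint X) = φc :=
        CommRingCat.hom_ext h
      change _ = Spec.map φc ≫ Y.fromSpecStalk (genericPoint Y)
      rw [← this, Spec.map_comp, Category.assoc, Scheme.SpecMap_stalkSpecializes_fromSpecStalk,
        Scheme.SpecMap_stalkMap_fromSpecStalk]
  obtain ⟨U, hxU, f, hf, hfs⟩ := spread_out_of_isGermInjective' sX sY ψ hψ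
  have hd : Dense (U : Set X) := U.isOpen.dense ⟨_, hxU⟩
  haveI : IsSeparated (pullback.fst sX sY) := MorphismProperty.pullback_fst _ _ inferInstance
  haveI : LocallyOfFiniteType (pullback.fst sX sY) := MorphismProperty.pullback_fst _ _ inferInstance
  haveI : UniversallyClosed (pullback.fst sX sY) := MorphismProperty.pullback_fst _ _ inferInstance
  obtain ⟨U', hUU', s', hs', hs'U, hmem⟩ := GrothLib.DVRDom.exists_extension_section (pullback.fst sX sY)
    (Scheme.Hom.isClosedMap _) U hd (pullback.lift U.ι f hfs.symm) (pullback.lift_fst _ _ _)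
  have htop : U' = ⊤ := top_le_iff.mp fun x _ => hmem x (hnorm x).1
    (letI := (hnorm x).1; letI := (hnorm x).2; GrothLib.DVRDom.valuationRing_of_isIntegrallyClosed _ (hdim x))
  subst htop
  let u : X ⟶ Y := X.topIso.inv ≫ s' ≫ pullback.snd sX sY
  have hu1 : u ≫ sY = sX := by
    simp only [u, Category.assoc]
    rw [← pullback.condition, reassoc_of% hs', ← Scheme.topIso_hom, Iso.inv_hom_id_assoc]
  have hu2 : X.fromSpecStalk (genericPoint X) ≫ u = ψ := by
    have e1 : U.ι ≫ X.topIso.inv = X.homOfLE hUU' := by
      rw [← cancel_mono (⊤ : X.Opens).ι, Category.assoc, ← Scheme.topIso_hom, Iso.inv_hom_id,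
        Category.comp_id, Scheme.topIso_hom, Scheme.homOfLE_ι]
    rw [hf, ← U.fromSpecStalkOfMem_ι (genericPoint X) hxU, Category.assoc]
    congr 1
    simp only [u]
    rw [reassoc_of% e1, reassoc_of% hs'U, pullback.lift_snd]
  refine ⟨u, ⟨hu1, (key u).mp hu2⟩, fun u' ⟨h1, h2⟩ => ?_⟩
  exact ext_of_isDominant_of_isSeparated sY (h1.trans hu1.symm) (X.fromSpecStalk (genericPoint X))
    (((key u').mpr h2).trans hu2.symm)

end Groth.Agent.S4445
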