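import Groth.Statements.S4447
import Groth.Agent.Lib.DVRDom.Scheme

set_option autoImplicit false
universe u
open CategoryTheory CategoryTheory.Limits AlgebraicGeometry
open EGA2

namespace Groth.Agent.S4447

/-- Let p : X ⟶ Y be a morphism, x a point of X, y = p(x) and y' a specialization of y distinct from y.
Then there are a valuation ring A which is not a field, with field of fractions the residue field
k(x), and a morphism Spec A ⟶ Y mapping the closed point to y' and restricting on Spec k(x) to the
canonical morphism Spec k(x) ⟶ X ⟶ Y (in particular the generic point of Spec A goes to y). -/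
theorem result {X Y : Scheme.{u}} (p : X ⟶ Y) (x : X) (y' : Y)
    (hsp : p.base x ⤳ y') (hne : y' ≠ p.base x) :
    ∃ (A : ValuationSubring (X.residueField x)) (h : Spec (CommRingCat.of A) ⟶ Y), A ≠ ⊤ ∧
      h.base (IsLocalRing.closedPoint A) = y' ∧
      Spec.map (CommRingCat.ofHom A.subtype) ≫ h = X.fromSpecResidueField x ≫ p := by
  exact GrothLib.DVRDom.exists_valuation_over p x y' hsp hne

end Groth.Agent.S4447
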