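import Groth.Statements.S4449
import Groth.Agent.Lib.DVRDom.Center

set_option autoImplicit false
universe u
open CategoryTheory CategoryTheory.Limits AlgebraicGeometry
open EGA2

namespace Groth.Agent.S4449

/-- Case of an arbitrary integral separated base: let Y and X be integral separated schemes and f : X ⟶
Y a dominant morphism of finite type, ξ the generic point of X. Suppose that every valuation subring
R of K(X) other than K(X) itself which dominates the local ring of Y at a point y (via O_{Y,y} →
O_{Y,f(ξ)} → K(X)) dominates the local ring of X at some point x (via O_{X,x} → K(X)). Then f is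
proper. (Compare the locally Noetherian variant with discrete valuation rings.) -/
theorem result {X Y : Scheme.{u}} [IsIntegral X] [IsIntegral Y]
    [X.IsSeparated] [Y.IsSeparated] (f : X ⟶ Y) [IsDominant f] [LocallyOfFiniteType f] [QuasiCompact f]
    (h : ∀ (R : ValuationSubring X.functionField), R ≠ ⊤ →
      ∀ (y : Y) (hy : f.base (genericPoint X) ⤳ y),
        ((∀ a : Y.presheaf.stalk y, (Y.presheaf.stalkSpecializes hy ≫ f.stalkMap (genericPoint X)).hom a ∈ R) ∧
          ∀ a ∈ IsLocalRing.maximalIdeal (Y.presheaf.stalk y),
            R.valuation ((Y.presheaf.stalkSpecializes hy ≫ f.stalkMap (genericPoint X)).hom a) < 1) →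
        ∃ x : X, (∀ a : X.presheaf.stalk x, algebraMap (X.presheaf.stalk x) X.functionField a ∈ R) ∧
          ∀ a ∈ IsLocalRing.maximalIdeal (X.presheaf.stalk x), R.valuation (algebraMap (X.presheaf.stalk x) X.functionField a) < 1) :
    IsProper f := by
  refine GrothLib.DVRDom.isProper_of_center f (fun v V ↦ V ≠ ⊤) (fun R ↦ R ≠ ⊤) ?_
    (fun v V₀ _ _ C hC _ _ ↦ GrothLib.DVRDom.exists_valuation_pick C hC) h
  intro e he V hV htop
  refine hV (top_unique fun z _ ↦ ?_)
  obtain ⟨a, rfl⟩ := he.2 z
  exact (htop.ge (show a ∈ (⊤ : ValuationSubring X.functionField) from trivial) :)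

end Groth.Agent.S4449
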