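import Groth.Statements.S4451
import Groth.Agent.Lib.DVRDom.Center
import Groth.Agent.Lib.DVRDom.Extend
import Groth.Agent.Lib.SchLoc8.Allied

set_option autoImplicit false
universe u
open CategoryTheory CategoryTheory.Limits AlgebraicGeometry
attribute [local instance] Curv2.stalkAlgebra
open EGA2

namespace Groth.Agent.S4451

/-- Let X be a normal, complete, irreducible algebraic curve over a field k with field of rational
functions K. The set of local rings of X, as subrings of K, consists of K itself (at the generic
point) and of the valuation rings of K containing k (and distinct from K): every non-generic point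
has such a valuation ring as local ring, and every such valuation ring is the local ring of exactly
one point. -/
theorem result (k : Type u) [Field k] (X : Scheme.{u})
    [X.Over (Spec (CommRingCat.of k))] [IsProper (X ↘ (Spec (CommRingCat.of k)))] [IsIntegral X]
    (hX : ∀ x : X, IsClosed ({x} : Set X) → ringKrullDim (X.presheaf.stalk x) = 1) (hnorm : Pi1.IsNormalScheme X) :
    (∀ x : X, x ≠ genericPoint X → ∃ R : ValuationSubring X.functionField, R ≠ ⊤ ∧
        (R : Set X.functionField) = Set.range (algebraMap (X.presheaf.stalk x) X.functionField)) ∧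
      ∀ R : ValuationSubring X.functionField, R ≠ ⊤ → (∀ c : k, algebraMap k X.functionField c ∈ R) →
        ∃! x : X, (R : Set X.functionField) = Set.range (algebraMap (X.presheaf.stalk x) X.functionField) := by
  classical
  set q := X ↘ Spec (CommRingCat.of k)
  have : X.IsSeparated := ⟨by rw [← Limits.terminal.comp_from q]; infer_instance⟩
  have : IsLocallyNoetherian X := LocallyOfFiniteType.isLocallyNoetherian q
  have : CompactSpace X := QuasiCompact.compactSpace_of_compactSpace q
  have hdim : ∀ x : X, ringKrullDim (X.presheaf.stalk x) ≤ 1 := by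
    intro x
    obtain ⟨c, hc, hc'⟩ := (isClosed_closure (s := ({x} : Set X))).exists_closed_singleton
      ((Set.singleton_nonempty x).closure)
    have hle : Order.coheight x ≤ Order.coheight c :=
      Order.coheight_anti (show c ≤ x from specializes_iff_mem_closure.mpr hc)
    have h := hX c hc'
    rw [ringKrullDim_stalk_eq_coheight] at h ⊢
    rw [← h]
    exact_mod_cast hle
  have hval : ∀ x : X, ValuationRing (X.presheaf.stalk x) := fun x ↦ by
    obtain ⟨hd, hi⟩ := hnorm x
    exact GrothLib.DVRDom.valuationRing_of_isIntegrallyClosed _ (hdim x)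
  let mk : ∀ x : X, ValuationSubring X.functionField := fun x ↦
    { (algebraMap (X.presheaf.stalk x) X.functionField).range with
      mem_or_inv_mem' := fun z ↦ (ValuationRing.isInteger_or_isInteger (X.presheaf.stalk x) z).imp
        (fun ⟨r, hr⟩ ↦ ⟨r, hr⟩) (fun ⟨r, hr⟩ ↦ ⟨r, hr⟩) }
  refine ⟨fun x hx ↦ ⟨mk x, fun htop ↦ hx ?_, rfl⟩, fun R hR hk ↦ ?_⟩
  · have hbij : Function.Bijective (algebraMap (X.presheaf.stalk x) X.functionField) :=
      ⟨IsFractionRing.injective _ _, fun z ↦ htop.ge (show z ∈ (⊤ : ValuationSubring _) from trivial)⟩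
    have hloc : IsLocalHom (X.presheaf.stalkSpecializes (genericPoint_specializes x)).hom :=
      ⟨fun a ha ↦ by
        obtain ⟨b, hb⟩ := ha.exists_right_inv
        obtain ⟨c, rfl⟩ := hbij.2 b
        exact isUnit_iff_exists_inv.mpr ⟨c, hbij.1
          ((map_mul _ _ _).trans (hb.trans (map_one (algebraMap (X.presheaf.stalk x) X.functionField)).symm))⟩⟩
    have h1 : (Spec.map (X.presheaf.stalkSpecializes (genericPoint_specializes x))).base
        (IsLocalRing.closedPoint (X.presheaf.stalk (genericPoint X))) = IsLocalRing.closedPoint (X.presheaf.stalk x) :=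
      IsLocalRing.comap_closedPoint (X.presheaf.stalkSpecializes (genericPoint_specializes x)).hom
    have h2 := congrArg (fun g ↦ g.base (IsLocalRing.closedPoint (X.presheaf.stalk (genericPoint X))))
      (X.SpecMap_stalkSpecializes_fromSpecStalk (genericPoint_specializes x))
    exact ((congrArg (X.fromSpecStalk x).base h1).trans Scheme.fromSpecStalk_closedPoint).symm.trans
      (h2.trans Scheme.fromSpecStalk_closedPoint)
  have hcen : ∃ x : X, GrothLib.DVRDom.Dominates R (algebraMap (X.presheaf.stalk x) X.functionField) := by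
    let i : Spec (CommRingCat.of X.functionField) ⟶ X := X.fromSpecStalk (genericPoint X)
    let c : k →+* R := (algebraMap k X.functionField).codRestrict R.toSubring hk
    let y : Spec (CommRingCat.of R) ⟶ Spec (CommRingCat.of k) := Spec.map (CommRingCat.ofHom c)
    have w : i ≫ q = Spec.map (CommRingCat.ofHom (algebraMap R X.functionField)) ≫ y := by
      rw [← Spec.map_comp, show (CommRingCat.ofHom c ≫ CommRingCat.ofHom (algebraMap R X.functionField)) =
        CommRingCat.ofHom (algebraMap k X.functionField) from rfl]
      have : IsIso (Spec (CommRingCat.of k)).toSpecΓ := inferInstance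
      rw [← cancel_mono (Spec (CommRingCat.of k)).toSpecΓ, Category.assoc, Scheme.toSpecΓ_naturality,
        ← Category.assoc, Scheme.fromSpecStalk_toSpecΓ, ← Spec.map_comp]
      rw [← AlgebraicGeometry.SpecMap_ΓSpecIso_hom (CommRingCat.of k), ← Spec.map_comp]
      congr 1
      rw [← cancel_epi (Scheme.ΓSpecIso (CommRingCat.of k)).inv, Iso.inv_hom_id_assoc]
      rfl
    have hE : ValuativeCriterion.Existence q :=
      (UniversallyClosed.eq_valuativeCriterion.{u}.le _ _ _ inferInstance).1
    obtain ⟨l, -, hl⟩ := GrothLib.DVRDom.exists_lift_of_existence hE i y w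
    let x : X := l.base (IsLocalRing.closedPoint R)
    let ψ : X.presheaf.stalk x ⟶ .of R := Scheme.stalkClosedPointTo l
    have hψ : ψ ≫ CommRingCat.ofHom (algebraMap R X.functionField) =
        X.presheaf.stalkSpecializes (genericPoint_specializes x) := by
      apply Spec.map_injective
      rw [← cancel_mono (X.fromSpecStalk x), Spec.map_comp, Category.assoc,
        Scheme.SpecMap_stalkSpecializes_fromSpecStalk]
      exact (congrArg (_ ≫ ·) (Scheme.Spec_stalkClosedPointTo_fromSpecStalk l)).trans hl
    have hm : ∀ a, algebraMap (X.presheaf.stalk x) X.functionField a ∈ R := fun a ↦ by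
      show (X.presheaf.stalkSpecializes (genericPoint_specializes x)).hom a ∈ R
      rw [← hψ]
      exact (ψ.hom a).2
    refine ⟨x, hm, fun a ha ↦ (R.valuation_lt_one_iff ⟨_, hm a⟩).mp ((IsLocalRing.mem_maximalIdeal _).mpr fun hu ↦
      (IsLocalRing.mem_maximalIdeal a).mp ha ((Scheme.isLocalHom_stalkClosedPointTo l).map_nonunit a ?_))⟩
    have h' : (ψ.hom a : R) = ⟨_, hm a⟩ := Subtype.ext (ConcreteCategory.congr_hom hψ a)
    exact h' ▸ hu
  obtain ⟨x, hmem, hlt⟩ := hcen
  have hdom : ∀ z ∈ R, z ∈ mk x := by
    intro z hz
    by_contra hz'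
    obtain ⟨r, hr⟩ : z⁻¹ ∈ mk x := ((mk x).mem_or_inv_mem z).resolve_left hz'
    by_cases hu : IsUnit r
    · refine hz' ⟨↑hu.unit⁻¹, ?_⟩
      rw [← inv_inv z, ← hr]
      exact eq_inv_of_mul_eq_one_left (by rw [← map_mul, hu.val_inv_mul, map_one])
    · have h1 := hlt r ((IsLocalRing.mem_maximalIdeal r).mpr hu)
      rw [hr, map_inv₀] at h1
      have h2 : R.valuation z ≤ 1 := (R.valuation_le_one_iff z).mpr hz
      have h0 : z ≠ 0 := fun h ↦ hz' (h ▸ zero_mem _)
      exact absurd h2 (not_le.mpr ((inv_lt_one₀ (zero_lt_iff.mpr ((map_ne_zero _).mpr h0))).mp h1))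
  have hxR : (R : Set X.functionField) = Set.range (algebraMap (X.presheaf.stalk x) X.functionField) :=
    Set.ext fun z ↦ ⟨hdom z, by rintro ⟨r, rfl⟩; exact hmem r⟩
  refine ⟨x, hxR, fun x' hx' ↦ ?_⟩
  refine GrothLib.SchLoc8.eq_of_allied (Q := LocalSubring.range (algebraMap (X.presheaf.stalk x') X.functionField)) le_rfl ?_
  have heq : (algebraMap (X.presheaf.stalk x) X.functionField).range =
      (algebraMap (X.presheaf.stalk x') X.functionField).range := SetLike.coe_injective (hxR.symm.trans hx')
  have hls : LocalSubring.range (algebraMap (X.presheaf.stalk x) X.functionField) =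
      LocalSubring.range (algebraMap (X.presheaf.stalk x') X.functionField) := LocalSubring.toSubring_injective heq
  exact hls.le

end Groth.Agent.S4451
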