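import Groth.Statements.S4453
import Groth.Agent.Lib.RLpsi8.LocNorm
import Groth.Agent.Lib.AmpSpread10.QProjFibre
import Groth.Agent.Lib.ProperOver.Basic

set_option autoImplicit false
universe u
open CategoryTheory CategoryTheory.Limits AlgebraicGeometry
open EGA2

namespace Groth.Agent.S4453

/-- Let Y be a quasi-compact separated scheme or a scheme whose underlying space is Noetherian, f : X ⟶
Y a morphism of finite type and g : X' ⟶ X a finite surjective morphism such that the direct image
of O_{X'} is a finite locally free O_X-module. Then f is projective if and only if f ∘ g is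
projective. (The companion assertion, on quasi-projectivity, is the
existence-of-a-relatively-ample-module equivalence stated separately.) -/
theorem result {X X' Y : Scheme.{u}} (f : X ⟶ Y) [LocallyOfFiniteType f]
    [QuasiCompact f] (g : X' ⟶ X) [IsFinite g] [Surjective g]
    (hfree : FlatMod.IsFinLocFree ((Coh.push g).obj (Coh.structureModule X')))
    (hY : (CompactSpace Y ∧ Y.IsSeparated) ∨ TopologicalSpace.NoetherianSpace Y) :
    RelProj.IsProjective f ↔ RelProj.IsProjective (g ≫ f) := by
  obtain ⟨hc, hq⟩ : CompactSpace Y ∧ QuasiSeparatedSpace Y := by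
    rcases hY with ⟨h1, h2⟩ | h
    · exact ⟨h1, inferInstance⟩
    · exact ⟨inferInstance, ⟨fun _ _ _ _ _ _ => TopologicalSpace.NoetherianSpace.isCompact _⟩⟩
  rw [GrothLib.AmpSpread10.isProjective_iff, GrothLib.AmpSpread10.isProjective_iff]
  constructor
  · rintro ⟨hp, L, hL⟩
    haveI := hp
    exact ⟨inferInstance, _, GrothLib.NormAmple.isRelAmple_pullback (g := g) f hL⟩
  · rintro ⟨hp, L, hL⟩
    haveI := hp
    obtain ⟨ν⟩ := GrothLib.RLpsi8.exists_lnorm hfree
    obtain ⟨N, -, hN⟩ := GrothLib.RLpsi8.exists_isRelAmple_of_norm ν f hL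
    exact ⟨GrothLib.ProperOver.isProper_of_surjective g f, N, hN⟩

end Groth.Agent.S4453
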