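import Groth.Statements.S4454
import Groth.Agent.Lib.Japanese.Curve

set_option autoImplicit false
universe u
open CategoryTheory CategoryTheory.Limits AlgebraicGeometry
open EGA2

namespace Groth.Agent.S4454

/-- Case of an integral curve and a single field: let X be an integral algebraic curve over a field k, K
a finite extension of its field of rational functions and X' the integral closure of X in K (the
normalization of X along the morphism g : Spec K ⟶ X through the generic point). Then the canonical
morphism X' ⟶ X is finite and X' is a normal algebraic curve over k (local rings integrally closed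
domains, of dimension one at closed points). -/
theorem result (k : Type u) [Field k] (X : Scheme.{u})
    [X.Over (Spec (CommRingCat.of k))] [LocallyOfFiniteType (X ↘ (Spec (CommRingCat.of k)))]
    [QuasiCompact (X ↘ (Spec (CommRingCat.of k)))] [IsSeparated (X ↘ (Spec (CommRingCat.of k)))] [IsIntegral X]
    (hX : ∀ x : X, IsClosed ({x} : Set X) → ringKrullDim (X.presheaf.stalk x) = 1)
    (K : Type u) [Field K] (φ : X.functionField →+* K) (hφ : φ.Finite) (g : Spec (CommRingCat.of K) ⟶ X)
    (hg : g = Spec.map (CommRingCat.ofHom φ) ≫ X.fromSpecStalk (genericPoint X)) [QuasiCompact g] [QuasiSeparated g] :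
    IsFinite g.fromNormalization ∧ Pi1.IsNormalScheme g.normalization ∧
      ∀ x' : g.normalization, IsClosed ({x'} : Set g.normalization) → ringKrullDim (g.normalization.presheaf.stalk x') = 1 := by
  have hfin := GrothLib.Japanese.isFinite_fromNormalization k (X ↘ Spec (CommRingCat.of k)) φ hφ g hg
  refine ⟨hfin, fun z => GrothLib.Japanese.isIntegrallyClosed_stalk_normalization k
    (X ↘ Spec (CommRingCat.of k)) φ hφ g hg z, fun x' hx' => ?_⟩
  haveI := hfin
  let f := g.fromNormalization
  haveI : LocallyQuasiFinite f := inferInstance
  have hx : IsClosed ({f x'} : Set X) := by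
    have := f.isClosedMap _ hx'
    rwa [Set.image_singleton] at this
  have h1 := hX (f x') hx
  rw [ringKrullDim_stalk_eq_coheight] at h1 ⊢
  have hle : Order.coheight x' ≤ 1 := by
    refine (GrothLib.Japanese.Scheme.Hom.coheight_le_of_locallyQuasiFinite f x').trans ?_
    have : Order.coheight (f x') = 1 := by exact_mod_cast h1
    exact this.le
  have hne : x' ≠ genericPoint g.normalization := by
    rintro rfl
    let o : Spec (CommRingCat.of K) := IsLocalRing.closedPoint K
    have hgen : g.toNormalization o = genericPoint g.normalization := by
      have hr : Set.range g.toNormalization = {g.toNormalization o} := by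
        refine Set.eq_singleton_iff_unique_mem.mpr ⟨⟨o, rfl⟩, ?_⟩
        rintro _ ⟨z, rfl⟩
        exact congrArg _ (Subsingleton.elim (α := PrimeSpectrum K) z o)
      have h2 : IsGenericPoint (g.toNormalization o) (Set.univ : Set g.normalization) := by
        rw [IsGenericPoint, ← hr]
        exact g.toNormalization.denseRange.closure_range
      exact h2.eq (genericPoint_spec _)
    have hη : f (genericPoint g.normalization) = genericPoint X := by
      rw [← hgen, ← Scheme.Hom.comp_apply, g.toNormalization_fromNormalization, hg, Scheme.Hom.comp_apply]
      rw [show Spec.map (CommRingCat.ofHom φ) o = IsLocalRing.closedPoint X.functionField from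
        Subsingleton.elim (α := PrimeSpectrum X.functionField) _ _]
      exact Scheme.fromSpecStalk_closedPoint
    have h2 := hX (genericPoint X) (hη ▸ hx)
    have h0 : ringKrullDim (X.presheaf.stalk (genericPoint X)) = 0 :=
      ringKrullDim_eq_zero_of_isField (Field.toIsField X.functionField)
    rw [h0] at h2
    exact zero_ne_one h2
  have hge : 1 ≤ Order.coheight x' := by
    refine Order.one_le_iff_pos.mpr (pos_iff_ne_zero.mpr fun h0 => hne ?_)
    have hmax := Order.coheight_eq_zero.mp h0
    have hle' : x' ≤ genericPoint g.normalization := genericPoint_specializes x'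
    exact (Specializes.antisymm (hle' : genericPoint g.normalization ⤳ x') (hmax hle')).eq.symm
  exact_mod_cast le_antisymm hle hge

end Groth.Agent.S4454
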