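import Groth.Statements.S4456
import Groth.Agent.Lib.Cohom.RpushSections

set_option autoImplicit false
universe u
open Coherent

namespace Groth.Agent.S4456

open AlgebraicGeometry CategoryTheory in
/-- Let f : X → Y be an affine morphism, g : Y → Z a morphism of schemes and F a quasi-coherent
O_X-module. Then for every p ≥ 0 the higher direct image R^p g_*(f_* F) is isomorphic to R^p (g ∘
f)_* F (higher direct images of the underlying abelian sheaves). The source shows that the canonical
comparison map is an isomorphism; only the existence of an isomorphism is asserted here. -/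
theorem result {X Y Z : Scheme.{u}} (f : X ⟶ Y) (g : Y ⟶ Z)
    [IsAffineHom f] (F : X.Modules) [Coh.IsQCoh F] (p : ℕ) :
    Nonempty ((Coh.RpushAb g p).obj (Coh.toAb ((Coh.push f).obj F)) ≅
      (Coh.RpushAb (f ≫ g) p).obj (Coh.toAb F)) := by
  exact GrothLib.Cohom.nonempty_RpushAb_pushforward_iso f p g F

end Groth.Agent.S4456
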