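import Groth.Statements.S4458
import Groth.Agent.Lib.QCoh.DevissageSummands

set_option autoImplicit false
universe u
open Coherent

namespace Groth.Agent.S4458

open AlgebraicGeometry CategoryTheory CategoryTheory.Limits in
/-- Let X be a Noetherian scheme and K' a class of O_X-modules, closed under isomorphism, containing 0,
such that in every short exact sequence of coherent modules with two terms in K' the third is in K',
and such that every coherent direct summand of a coherent module in K' is in K'. Let X' be a closed
subset such that for every irreducible closed subset Z ⊆ X' with generic point y there is a coherent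
module G in K' supported in Z, annihilated by the ideal sheaf of the reduced closed subscheme Z,
whose stalk at y is nonzero. Then every coherent O_X-module with support contained in X' belongs to
K'. (The published statement asks of G only that it lie in K' and have nonzero stalk at y, remarking
that this amounts to G having support Z; that is not sufficient: on the spectrum of the ring
k[e]/(e^2) of dual numbers over a field the free coherent modules form such a class K', containing
the structure sheaf and not the residue field. This row asks G to be supported in Z and annihilated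
by the ideal sheaf of Z, which is what the published proof uses, through the stalk of G at y being a
vector space over the residue field of y.) -/
theorem result (X : Scheme.{u}) [IsNoetherian X]
    (K' : ObjectProperty X.Modules) [K'.IsClosedUnderIsomorphisms]
    (h0 : ∀ M : X.Modules, IsZero M → K' M)
    (hex : ∀ S : ShortComplex X.Modules, S.ShortExact → Coh.IsCoh S.X₁ → Coh.IsCoh S.X₂ → Coh.IsCoh S.X₃ →
      (K' S.X₁ → K' S.X₂ → K' S.X₃) ∧ (K' S.X₁ → K' S.X₃ → K' S.X₂) ∧ (K' S.X₂ → K' S.X₃ → K' S.X₁))
    (hsum : ∀ (M N : X.Modules) (i : N ⟶ M) (r : M ⟶ N), i ≫ r = 𝟙 N → Coh.IsCoh M → Coh.IsCoh N →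
      K' M → K' N)
    (X' : Set X) (hX' : IsClosed X')
    (hgen : ∀ (Z : Set X) (hZ : IsClosed Z), IsIrreducible Z → Z ⊆ X' → ∀ y : X, closure {y} = Z →
      ∃ G : X.Modules, Coh.IsCoh G ∧ K' G ∧ CohB1.support G ⊆ Z ∧
        ClSub.KilledByIdeal (Scheme.IdealSheafData.vanishingIdeal ⟨Z, hZ⟩) G ∧ y ∈ CohB1.support G)
    (F : X.Modules) (hF : Coh.IsCoh F) (hsupp : CohB1.support F ⊆ X') : K' F := by
  suffices ∀ (T : TopologicalSpace.Closeds X) (M : X.Modules), Coh.IsCoh M →
      CohB1.support M = T → (T : Set X) ⊆ X' → K' M from
    this ⟨_, GrothLib.QCoh.isClosed_support_of_isCoh hF⟩ F hF rfl hsupp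
  have hiso : ∀ M N : X.Modules, Nonempty (M ≅ N) → K' M → K' N := fun M N e ↦ K'.prop_of_iso e.some
  intro T
  induction T using WellFounded.induction
    (r := ((· < ·) : TopologicalSpace.Closeds X → TopologicalSpace.Closeds X → Prop)) wellFounded_lt with
  | _ T ih =>
    intro M hM hMT hTX
    refine GrothLib.QCoh.devissage (fun M ↦ K' M) hiso h0 hex T (fun Z i hi hZ hsub ↦ ?_) M hM hMT.le
    have hrange := i.isClosedEmbedding.isClosed_range
    obtain ⟨G, hG, hK, hs', hk, hy⟩ := hgen (Set.range i) hrange
      (Set.image_univ (f := i) ▸
        (IrreducibleSpace.isIrreducible_univ Z).image i i.continuous.continuousOn)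
      (hsub.trans hTX) (i (genericPoint Z)) (GrothLib.QCoh.closure_singleton_eq_range i)
    have hker : i.ker = Scheme.IdealSheafData.vanishingIdeal ⟨Set.range i, hrange⟩ := by
      rw [GrothLib.QCoh.ker_eq_vanishingIdeal_closure i]
      congr 1
      ext1
      exact GrothLib.QCoh.closure_singleton_eq_range i
    refine ⟨_, GrothLib.QCoh.pushUnit_isCoh i, GrothLib.QCoh.support_pushforward_subset_range i _,
      GrothLib.QCoh.nonempty_pushUnit_stalk_equiv i, ?_⟩
    refine GrothLib.QCoh.pushUnit_of_mem_support i (fun M ↦ K' M) (fun S hS a b c _ ↦ hex S hS a b c)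
      (fun N hN hNsub hx ↦ ?_) hsum G hG (hker ▸ hk) hy hK
    exact ih ⟨_, GrothLib.QCoh.isClosed_support_of_isCoh hN⟩
      (lt_of_le_of_ne (hNsub.trans hsub) fun e ↦
        hx ((SetLike.ext'_iff.1 e).symm.le (hsub ⟨genericPoint Z, rfl⟩)))
      N hN rfl ((hNsub.trans hsub).trans hTX)

end Groth.Agent.S4458
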