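import Groth.Statements.S4460
import Groth.Agent.Lib.FormalFun.Main
import Groth.Agent.Lib.ProjCoh.SupportFinite

set_option autoImplicit false
universe u
open Formal

namespace Groth.Agent.S4460

open AlgebraicGeometry CategoryTheory in
/-- In the inverse-limit form. Let A be a Noetherian ring separated and complete for the I-adic
topology, X a scheme of finite type over Spec A and M a coherent O_X-module whose support is proper
over Spec A. Then for every p the canonical map from H^p(X, M) to the inverse limit of the groups
H^p(X, M/I^(n+1)M) is bijective. -/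
theorem result (A : Type u) [CommRing A] [IsNoetherianRing A] (I : Ideal A)
    [IsAdicComplete I A] (X : Scheme.{u}) [X.Over (Spec (CommRingCat.of A))]
    [LocallyOfFiniteType (X ↘ Spec (CommRingCat.of A))] [QuasiCompact (X ↘ Spec (CommRingCat.of A))]
    (M : X.Modules) (hM : Coh.IsCoh M)
    (hs : ClSub.IsProperOver (X ↘ Spec (CommRingCat.of A)) (CohB1.support M)) (p : ℕ) :
    Function.Bijective (Formal.toHHlim I M p) := by
  have : IsLocallyNoetherian X :=
    LocallyOfFiniteType.isLocallyNoetherian (X ↘ Spec (CommRingCat.of A))
  have : CompactSpace X :=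
    QuasiCompact.compactSpace_of_compactSpace (X ↘ Spec (CommRingCat.of A))
  have : IsNoetherian X := {}
  exact GrothLib.FormalFun.toHHlim_bijective (GrothLib.FormalFun.bij_of_finite I
    (fun N => Coh.IsCoh N ∧ ClSub.IsProperOver (X ↘ Spec (CommRingCat.of A)) (CohB1.support N))
    (fun _ h => h.1)
    (fun π _ h hN => ⟨hN, GrothLib.ProperOver.IsProperOver.subset _ h.2
      (GrothLib.QCoh.isClosed_support_of_isCoh hN) (GrothLib.QCoh.support_subset_of_epi π)⟩)
    (fun N hN q => GrothLib.ProjCoh.moduleFinite_HH_of_isProperOver A N hN.1 hN.2 q) M ⟨hM, hs⟩ p)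

end Groth.Agent.S4460
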