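import Groth.Statements.S4462
import Groth.Agent.Lib.BCCoh.ElemHom
import Groth.Agent.Lib.BCCoh.Grauert2
import Groth.Agent.Lib.BCCoh.BaseModel
import Groth.Agent.Lib.Euler.Basic

set_option autoImplicit false
universe u
open Coherent

namespace Groth.Agent.S4462

open AlgebraicGeometry CategoryTheory in
/-- Second assertion: for a local base: let A be a Noetherian local ring with maximal ideal m and closed
point y, X a scheme proper over Spec A, F a coherent O_X-module flat over Spec A and n ≥ 0 such that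
H^(n+1)(X_y, F_y) = 0, where X_y is the closed fibre and F_y the restriction of F to it. Then for
every p ≥ 0 the canonical map H^n(X, F) → H^n(X, F/m^(p+1)F) is surjective. (For a general locally
Noetherian base the published statement is about the stalk of R^n f_* F at a point; over the local
ring of that point this is the module H^n(X, F) used here.) -/
theorem result (A : Type u) [CommRing A] [IsNoetherianRing A]
    [IsLocalRing A] (X : Scheme.{u}) [X.Over (Spec (CommRingCat.of A))]
    [IsProper (X ↘ Spec (CommRingCat.of A))] (F : X.Modules) (hF : Coh.IsCoh F)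
    (hfl : FlatMod.IsFlatOver (X ↘ Spec (CommRingCat.of A)) F) (n : ℕ)
    (hvan : Subsingleton (CohIII.fiberH (X ↘ Spec (CommRingCat.of A)) F (IsLocalRing.closedPoint A) (n + 1)))
    (p : ℕ) :
    Function.Surjective (Formal.toHHmodPow (IsLocalRing.maximalIdeal A) F n p) := by
  let f := X ↘ Spec (CommRingCat.of A)
  haveI : IsLocallyNoetherian X := LocallyOfFiniteType.isLocallyNoetherian f
  haveI := hF.1
  obtain ⟨m⟩ := GrothLib.BCCoh.nonempty_model f F hF hfl
  haveI := m.flatL
  haveI := fun i => (m.finFree i).1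
  have hd : ∀ x : PrimeSpectrum A, x.asIdeal.IsMaximal → CohIII.dRank m.L ((n + 1 : ℕ) : ℤ) x = 0 := fun x hx => by
    have hx' : x = IsLocalRing.closedPoint A := PrimeSpectrum.ext (IsLocalRing.eq_maximalIdeal hx)
    rw [hx', ← m.fiberRank_eq hF.1 (n + 1) (IsLocalRing.closedPoint A)]
    exact GrothLib.BCCoh.fiberRank_eq_zero_of_subsingleton f F (n + 1) _ hvan
  have hz : ∀ M, Limits.IsZero ((CohIII.TFun m.L ((n + 1 : ℕ) : ℤ)).obj M) :=
    GrothLib.BCCoh.isZero_T_of_dRank_zero m.L _ hd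
  have hepi : (CohIII.TFun m.L (n : ℤ)).PreservesEpimorphisms :=
    (GrothLib.BCCoh.preservesMono_iff_preservesEpi_pred m.L (i := (n : ℤ)) (j := ((n + 1 : ℕ) : ℤ))
      (by push_cast; ring)).1 (GrothLib.BCCoh.preservesMono_of_isZero hz)
  obtain ⟨e, -, hnat⟩ := m.exists_equiv n
  let J := IsLocalRing.maximalIdeal A ^ (p + 1)
  let N := ModuleCat.of A (A ⧸ J)
  let mkJ : ModuleCat.of A A ⟶ N := ModuleCat.ofHom (Submodule.mkQ J)
  haveI : Epi mkJ := (ModuleCat.epi_iff_surjective mkJ).2 (Submodule.mkQ_surjective J)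
  haveI := hepi.preserves mkJ
  haveI := GrothLib.BCCoh.isIso_elemHom_one (A := A) F hF
  let πA := GrothLib.BCCoh.elemHom f F (ModuleCat.of A A) 1
  obtain ⟨i, hi⟩ := (GrothLib.BCCoh.isQuot_elemHom J F hF).exists_iso
    (GrothLib.FormalSys.IsQuot.modPowπ (IsLocalRing.maximalIdeal A) (p + 1) F)
  have hcomp : πA ≫ (GrothLib.BCCoh.TF f F).map mkJ ≫ i.hom =
      Formal.modPowπ (IsLocalRing.maximalIdeal A) (p + 1) F := by
    rw [← Category.assoc, GrothLib.BCCoh.elemHom_comp_map f F mkJ 1]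
    exact hi
  intro x
  obtain ⟨t, ht⟩ := (e N).surjective (GrothLib.Cohom.hhMap A i.inv n x)
  obtain ⟨t₀, ht₀⟩ := (ModuleCat.epi_iff_surjective ((CohIII.TFun m.L (n : ℤ)).map mkJ)).1 inferInstance t
  refine ⟨GrothLib.Cohom.hhMap A (inv πA) n (e _ t₀), ?_⟩
  have h1 : GrothLib.Cohom.hhMap A ((GrothLib.BCCoh.TF f F).map mkJ) n (e _ t₀) =
      GrothLib.Cohom.hhMap A i.inv n x := by
    rw [← ht, ← ht₀]
    exact (GrothLib.Cohom.hhMap_apply _ _ _).trans (hnat mkJ t₀).symm
  refine ((GrothLib.Cohom.hhMap_apply (A := A) _ _ _).symm :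
    _ = GrothLib.Cohom.hhMap A (Formal.modPowπ (IsLocalRing.maximalIdeal A) (p + 1) F) n _).trans ?_
  rw [← GrothLib.Euler.hhMap_comp, ← hcomp, IsIso.inv_hom_id_assoc, GrothLib.Euler.hhMap_comp, h1,
    ← GrothLib.Euler.hhMap_comp, i.inv_hom_id, GrothLib.Euler.hhMap_id]

end Groth.Agent.S4462
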