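import Groth.Statements.S4464
import Groth.Agent.Lib.Stein.Count

set_option autoImplicit false
universe u
open Coherent

namespace Groth.Agent.S4464

open AlgebraicGeometry CategoryTheory in
/-- Let X and Y be locally Noetherian integral schemes, f : X → Y a proper dominant morphism, and
suppose that the algebraic closure of the function field R(Y) in R(X) is purely inseparable over
R(Y): every element of R(X) satisfying a nonzero polynomial over R(Y) has a p^e-th power coming from
R(Y), p being the characteristic exponent. Then for every point y of Y whose local ring is
unibranch, the fibre X_y is connected and nonempty. -/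
theorem result {X Y : Scheme.{u}} [IsIntegral X]
    [IsIntegral Y] [IsLocallyNoetherian X] [IsLocallyNoetherian Y] (f : X ⟶ Y) [IsProper f]
    (hdom : f.base (genericPoint X) ⤳ genericPoint Y)
    (hrad : ∀ x : X.functionField,
      (∃ q : Polynomial Y.functionField, q ≠ 0 ∧
        Polynomial.eval₂ (CohIII.stalkToFunctionField f (genericPoint Y) hdom) x q = 0) →
      ∃ e : ℕ, x ^ (ringExpChar X.functionField ^ e) ∈
        Set.range (CohIII.stalkToFunctionField f (genericPoint Y) hdom))
    (y : Y) (hy : CAlg2.IsUnibranch (Y.presheaf.stalk y)) :
    ConnectedSpace ↥(f.fiber y) := by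
  exact GrothLib.Stein.connectedSpace_fiber_of_purelyInseparable f hdom hrad y
    (GrothLib.Stein.isLocalRing_integralClosure_of_isUnibranch hy)

end Groth.Agent.S4464
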