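import Groth.Statements.S4469
import Mathlib.RingTheory.ZariskisMainTheorem
import Mathlib.RingTheory.Ideal.MinimalPrime.Noetherian
import Mathlib.RingTheory.FiniteType
-- import your own Groth.Agent.* helpers here

set_option autoImplicit false
universe u
open CAlg

namespace Groth.Agent.S4469

/-- Let A be an integrally closed Noetherian local domain with field of fractions K, B an A-algebra of
finite type which is a domain with the same field of fractions (A → B → K compatible with A → K),
and 𝔫 a maximal ideal of B lying over the maximal ideal 𝔪 of A and minimal among the prime ideals of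
B lying over 𝔪. Then B = A: the structure map A → B is bijective. -/
theorem result (A B K : Type u) [CommRing A]
    [IsDomain A] [IsNoetherianRing A] [IsLocalRing A] [IsIntegrallyClosed A] [CommRing B] [IsDomain B]
    [Field K] [Algebra A B] [Algebra B K] [Algebra A K] [IsScalarTower A B K] [IsFractionRing A K]
    [IsFractionRing B K] [Algebra.FiniteType A B] (n : Ideal B) [n.IsMaximal]
    (hn : n.comap (algebraMap A B) = IsLocalRing.maximalIdeal A)
    (hmin : ∀ q : Ideal B, q.IsPrime → q.comap (algebraMap A B) = IsLocalRing.maximalIdeal A → q ≤ n → q = n) :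
    Function.Bijective (algebraMap A B) := by
  classical
  have : IsNoetherianRing B := Algebra.FiniteType.isNoetherianRing A B
  set J := (IsLocalRing.maximalIdeal A).map (algebraMap A B) with hJdef
  have hfin := J.finite_minimalPrimes_of_isNoetherianRing B
  obtain ⟨s, hsn, hs⟩ : ∃ s, s ∉ n ∧ ∀ P ∈ J.minimalPrimes, P ≠ n → s ∈ P := by
    have hnot : ¬ (hfin.toFinset.filter (· ≠ n)).inf id ≤ n := by
      rw [Ideal.IsPrime.inf_le' inferInstance]
      rintro ⟨P, hP, hPn⟩
      rw [Finset.mem_filter, Set.Finite.mem_toFinset] at hP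
      have hPp : P.IsPrime := hP.1.1.1
      refine hP.2 (hmin P hPp ?_ hPn)
      exact ((IsLocalRing.maximalIdeal.isMaximal A).eq_of_le (Ideal.IsPrime.ne_top inferInstance)
        (Ideal.map_le_iff_le_comap.1 hP.1.1.2)).symm
    obtain ⟨s, hs, hsn⟩ := SetLike.not_le_iff_exists.1 hnot
    exact ⟨s, hsn, fun P hP hPn => (Finset.inf_le (f := id)
      (Finset.mem_filter.2 ⟨hfin.mem_toFinset.2 hP, hPn⟩)) hs⟩
  let q : PrimeSpectrum B := ⟨n, inferInstance⟩
  have : Algebra.QuasiFiniteAt A q.asIdeal := Algebra.QuasiFiniteAt.of_isOpen_singleton_fiber q (by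
    refine ⟨(PrimeSpectrum.basicOpen s : Set (PrimeSpectrum B)), (PrimeSpectrum.basicOpen s).isOpen, ?_⟩
    ext ⟨x, hx⟩
    have hxm : x.asIdeal.comap (algebraMap A B) = IsLocalRing.maximalIdeal A :=
      (congrArg PrimeSpectrum.asIdeal (Set.mem_singleton_iff.1 hx)).trans hn
    have hJx : J ≤ x.asIdeal := Ideal.map_le_iff_le_comap.2 hxm.ge
    simp only [Set.mem_preimage, Set.mem_singleton_iff, Subtype.mk.injEq, SetLike.mem_coe,
      PrimeSpectrum.mem_basicOpen]
    constructor
    · intro hsx
      obtain ⟨P, hP, hPx⟩ := Ideal.exists_minimalPrimes_le hJx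
      have : P = n := by
        by_contra hne
        exact hsx (hPx (hs P hP hne))
      subst this
      exact PrimeSpectrum.ext ((‹P.IsMaximal›).eq_of_le x.isPrime.ne_top hPx).symm
    · rintro rfl
      exact hsn)
  obtain ⟨r, hrn, hr, hx⟩ :=
    Algebra.zariskisMainProperty_iff.1 (Algebra.ZariskisMainProperty.of_finiteType (R := A) q.asIdeal)
  have hrange : ∀ y : B, IsIntegral A y → ∃ a, algebraMap A B a = y := fun y hy => by
    obtain ⟨a, ha⟩ := IsIntegrallyClosed.isIntegral_iff.1 (hy.algebraMap (B := K))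
    exact ⟨a, IsFractionRing.injective B K (by rw [← IsScalarTower.algebraMap_apply, ha])⟩
  refine ⟨fun a b hab => IsFractionRing.injective A K (by
    rw [IsScalarTower.algebraMap_apply A B K, hab, ← IsScalarTower.algebraMap_apply]), fun y => ?_⟩
  obtain ⟨a, rfl⟩ := hrange r hr
  have hu : IsUnit a := by
    by_contra h
    exact hrn (Ideal.mem_comap.1 (hn.ge ((IsLocalRing.mem_maximalIdeal a).2 h)))
  obtain ⟨m, hm⟩ := hx y
  obtain ⟨c, hc⟩ := hrange _ hm
  refine ⟨((hu.pow m).unit⁻¹ : Aˣ) * c, ?_⟩
  rw [map_mul, hc, ← mul_assoc, ← map_pow, ← map_mul, IsUnit.val_inv_mul, map_one, one_mul]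

end Groth.Agent.S4469
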