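import Groth.Statements.S4471
import Groth.Agent.Lib.ProjCohom.Twist

set_option autoImplicit false
universe u
open Coherent

namespace Groth.Agent.S4471

open AlgebraicGeometry CategoryTheory in
/-- The case of the trivial bundle of rank r+1, i.e. projective r-space over Y; vanishing assertion. Let
Y be a scheme, r ≥ 0, f : P^r_Y → Y the structure morphism and d an integer. Then R^i f_* O(d) = 0
(higher direct image of the underlying abelian sheaf of the twisting sheaf) except possibly when i =
0 and d ≥ 0, or i = r and d ≤ -(r+1). -/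
theorem result (Y : Scheme.{u}) (r : ℕ) (i : ℕ) (d : ℤ)
    (h : ¬ ((i = 0 ∧ 0 ≤ d) ∨ (i = r ∧ d ≤ -((r : ℤ) + 1)))) :
    Limits.IsZero ((Coh.RpushAb (CohB1.ProjSpaceOver.toBase r Y) i).obj (Coh.toAb (Twist.twistOver r Y d))) := by
  exact GrothLib.ProjCohom.isZero_RpushAb_twistOver Y r i d h

end Groth.Agent.S4471
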