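import Groth.Statements.S4472
import Groth.Agent.Lib.Stein.Count
import Groth.Agent.Lib.BlowUp.Universal
import Groth.Agent.Lib.Nagata6.Proper

set_option autoImplicit false
set_option linter.style.haveILetI false
universe u
open Coherent

namespace Groth.Agent.S4472

open AlgebraicGeometry CategoryTheory in
/-- Let A be a unibranch Noetherian local domain (a local domain whose integral closure is a local ring)
with maximal ideal m, let 𝔞 be an ideal of definition of A (𝔞 ⊆ m and m^p ⊆ 𝔞 for some p), and let b
: X → Spec A be a blowing up of Spec A in the ideal sheaf defined by 𝔞. Then the fibre of b over the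
closed point is preconnected. Its underlying space is that of Proj of the associated graded ring ⊕
𝔞^i/𝔞^(i+1), so this says that Proj is connected (possibly empty). -/
theorem result (A : Type u) [CommRing A] [IsDomain A]
    [IsNoetherianRing A] [IsLocalRing A] (hA : CAlg2.IsUnibranch A) (𝔞 : Ideal A)
    (hle : 𝔞 ≤ IsLocalRing.maximalIdeal A)
    (hpow : ∃ p : ℕ, IsLocalRing.maximalIdeal A ^ p ≤ 𝔞) {X : Scheme.{u}}
    (b : X ⟶ Spec (CommRingCat.of A))
    (hb : BlowUp.IsBlowUp b
      (Scheme.IdealSheafData.ofIdealTop (𝔞.map (Scheme.ΓSpecIso (CommRingCat.of A)).inv.hom))) :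
    PreconnectedSpace ↥(b.fiber (IsLocalRing.closedPoint A)) := by
  let I := Scheme.IdealSheafData.ofIdealTop (𝔞.map (Scheme.ΓSpecIso (CommRingCat.of A)).inv.hom)
  by_cases hX : IsEmpty X
  · haveI : IsEmpty ↥(b.fiber (IsLocalRing.closedPoint A)) :=
      Function.isEmpty (b.fiberι (IsLocalRing.closedPoint A)).base
    exact ⟨fun u v _ _ _ ⟨x, _⟩ => isEmptyElim x⟩
  haveI : Nonempty X := not_isEmpty_iff.1 hX
  haveI := GrothLib.BlowUp.isIso_off_center hb
  haveI : IsReduced X := GrothLib.BlowUp.isReduced_of_isBlowUp hb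
  let U : (Spec (CommRingCat.of A)).Opens := I.support.compl
  have hmax : ∀ x : X, ∃ ξ : X, ξ ⤳ x ∧ ξ ∈ b ⁻¹ᵁ U := by
    intro x
    obtain ⟨ξ, hξ⟩ := QuasiSober.sober (isIrreducible_irreducibleComponent (x := x))
      isClosed_irreducibleComponent
    refine ⟨ξ, hξ.specializes mem_irreducibleComponent, ?_⟩
    have hnm := GrothLib.BlowUp.notMem_support_of_maximal hb.1 (x := ξ) fun z hz => by
      have hsub : irreducibleComponent x ⊆ closure {z} := by
        rw [← hξ.def]
        exact closure_minimal (Set.singleton_subset_iff.2 (specializes_iff_mem_closure.1 hz)) isClosed_closure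
      have he := eq_irreducibleComponent isIrreducible_singleton.closure.2 hsub
      exact (IsGenericPoint.eq hξ (show IsGenericPoint z (irreducibleComponent x) from he)).symm
    rw [Scheme.IdealSheafData.support_comap] at hnm
    exact hnm
  have hne : (U : Set (Spec (CommRingCat.of A))).Nonempty := by
    obtain ⟨ξ, -, hξ⟩ := hmax (Classical.arbitrary X)
    exact ⟨b ξ, hξ⟩
  haveI : IrreducibleSpace X := by
    haveI : Nonempty U := hne.to_subtype
    haveI : IsIntegral U.toScheme := isIntegral_of_isOpenImmersion U.ι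
    haveI : IrreducibleSpace U.toScheme := inferInstance
    have hirr : IsIrreducible (Set.range ((inv (b ∣_ U)) ≫ (b ⁻¹ᵁ U).ι).base) := by
      rw [← Set.image_univ]
      exact (IrreducibleSpace.isIrreducible_univ _).image _ ((inv (b ∣_ U)) ≫ (b ⁻¹ᵁ U).ι).continuous.continuousOn
    have hr : Set.range ((inv (b ∣_ U)) ≫ (b ⁻¹ᵁ U).ι).base = (b ⁻¹ᵁ U : Set X) := by
      rw [← Scheme.Opens.range_ι (b ⁻¹ᵁ U)]
      ext x
      constructor
      · rintro ⟨u, rfl⟩; exact ⟨inv (b ∣_ U) u, rfl⟩
      · rintro ⟨u, rfl⟩
        exact ⟨(b ∣_ U) u, by rw [← Scheme.Hom.comp_apply, IsIso.hom_inv_id_assoc]⟩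
    have hcl : closure (b ⁻¹ᵁ U : Set X) = Set.univ := by
      refine Set.eq_univ_of_forall fun x => ?_
      obtain ⟨ξ, h1, h2⟩ := hmax x
      exact h1.mem_closed isClosed_closure (subset_closure h2)
    refine (irreducibleSpace_def X).2 ?_
    show IsIrreducible (Set.univ : Set X)
    rw [hr] at hirr
    rw [← hcl]
    exact hirr.closure
  haveI : IsIntegral X := isIntegral_of_irreducibleSpace_of_isReduced X
  haveI : IsProper b := by
    refine GrothLib.Nagata6.isProper_of_isBlowUp (I := I) ?_ hb
    intro W
    haveI : IsNoetherianRing Γ(Spec (CommRingCat.of A), W) := IsLocallyNoetherian.component_noetherian W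
    exact IsNoetherian.noetherian _
  have hgen : b.base (genericPoint X) = genericPoint (Spec (CommRingCat.of A)) := by
    have hηU : genericPoint (Spec (CommRingCat.of A)) ∈ U :=
      ((genericPoint_spec _).mem_open_set_iff U.2).2 (by simpa using hne)
    have h1 : b.base (genericPoint X) ⤳ genericPoint (Spec (CommRingCat.of A)) := by
      have he : b ((inv (b ∣_ U) ≫ (b ⁻¹ᵁ U).ι) (⟨_, hηU⟩ : U.toScheme)) =
          genericPoint (Spec (CommRingCat.of A)) := by
        rw [← Scheme.Hom.comp_apply, Category.assoc, ← morphismRestrict_ι, IsIso.inv_hom_id_assoc]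
        rfl
      rw [← he]
      exact (genericPoint_specializes _).map b.continuous
    exact (h1.antisymm (genericPoint_specializes _)).eq
  have hbir : IsIso (b.stalkMap (genericPoint X)) := by
    obtain ⟨ξ, h1, h2⟩ := hmax (Classical.arbitrary X)
    have hη : genericPoint X ∈ b ⁻¹ᵁ U := (genericPoint_specializes ξ).mem_open (b ⁻¹ᵁ U).2 h2
    have e := morphismRestrictStalkMap b U ⟨_, hη⟩
    exact ((MorphismProperty.isomorphisms CommRingCat).arrow_mk_iso_iff e).1
      (show IsIso ((b ∣_ U).stalkMap ⟨_, hη⟩) from inferInstance)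
  haveI := GrothLib.Stein.connectedSpace_fiber_of_birational b hgen hbir (IsLocalRing.closedPoint A) (by
    exact GrothLib.Stein.isLocalRing_integralClosure_of_ringEquiv
      (stalkClosedPointIso (CommRingCat.of A)).commRingCatIsoToRingEquiv hA)
  infer_instance

end Groth.Agent.S4472
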