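import Groth.Statements.S4474
import Groth.Agent.Lib.RelVanish.Counit

set_option autoImplicit false
universe u
open Coherent

namespace Groth.Agent.S4474

open AlgebraicGeometry CategoryTheory in
/-- Let Y be a Noetherian scheme, f : X → Y a proper morphism, L an invertible O_X-module which is ample
relative to f, and F a coherent O_X-module. Then there is an integer N such that for every n ≥ N the
canonical morphism f^* f_* (F(n)) → F(n), the counit of the adjunction between f^* and f_*, is an
epimorphism, where F(n) = F ⊗ L^{⊗ n}. -/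
theorem result {X Y : Scheme.{u}} (f : X ⟶ Y) [IsNoetherian Y] [IsProper f]
    (L : X.Modules) (hL : PicF.IsInvertible L) (hamp : RelAmple.IsRelAmple f L) (F : X.Modules)
    (hF : Coh.IsCoh F) :
    ∃ N : ℕ, ∀ n : ℕ, N ≤ n →
      Epi ((Scheme.Modules.pullbackPushforwardAdjunction f).counit.app
        (CohB1.tensorMod F (CohB1.tensorPow L n))) := by
  obtain ⟨κ, hκ, W, hW, -, hcov⟩ := GrothLib.QCoh.exists_finite_affine_cover (U := (⊤ : Y.Opens))
    (by simpa using isCompact_univ)
  haveI := Fintype.ofFinite κ
  choose n hn using fun i => GrothLib.RelVanish.eventually_ggen_preimage f hL (hW i) (hamp.2 ⟨_, hW i⟩) hF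
  refine ⟨Finset.univ.sup n, fun m hm => GrothLib.RelVanish.epi_counit_of_ggen f _ fun y => ?_⟩
  obtain ⟨i, hi⟩ := TopologicalSpace.Opens.mem_iSup.1 (hcov (TopologicalSpace.Opens.mem_top y))
  exact ⟨W i, hi, hn i m ((Finset.le_sup (Finset.mem_univ i)).trans hm)⟩

end Groth.Agent.S4474
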