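import Groth.Statements.S4476
import Groth.Agent.Lib.LocFreeHom.IsoNear

set_option autoImplicit false
universe u
attribute [local instance] HasDerivedCategory.standard
open Coherent

namespace Groth.Agent.S4476

open AlgebraicGeometry CategoryTheory in
/-- Over a local base. Let A be a Noetherian local ring with closed point y, X a scheme proper and flat
over Spec A, F and G finite locally free O_X-modules and F_y, G_y their restrictions (module
pullbacks) to the closed fibre X_y. Assume that the internal Hom functor Hom(F_y, −) exists as the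
right adjoint of F_y ⊗ − and that H^1(X_y, Hom(F_y, G_y)) = 0. Then every morphism u₀ : F_y → G_y is
the restriction to X_y of a morphism u : F → G; moreover for every such u, if u₀ is a monomorphism
(resp. an epimorphism) then u is a monomorphism (resp. an epimorphism). (Over a general locally
Noetherian base the published statements give u on the inverse image of a neighbourhood of y; over
the spectrum of a local ring that neighbourhood is the whole base.) -/
theorem result (A : Type u) [CommRing A] [IsNoetherianRing A]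
    [IsLocalRing A] (X : Scheme.{u}) [X.Over (Spec (CommRingCat.of A))]
    [IsProper (X ↘ Spec (CommRingCat.of A))] [Flat (X ↘ Spec (CommRingCat.of A))]
    (F G : X.Modules) (hF : FlatMod.IsFinLocFree F) (hG : FlatMod.IsFinLocFree G)
    [DCoh.HasSheafHom (CohIII.fiberMod (X ↘ Spec (CommRingCat.of A)) F (IsLocalRing.closedPoint A))]
    (h1 : Subsingleton (Coh.HH ((X ↘ Spec (CommRingCat.of A)).fiber (IsLocalRing.closedPoint A))
      ((DCoh.sheafHom (CohIII.fiberMod (X ↘ Spec (CommRingCat.of A)) F (IsLocalRing.closedPoint A))).obj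
        (CohIII.fiberMod (X ↘ Spec (CommRingCat.of A)) G (IsLocalRing.closedPoint A))) 1))
    (u₀ : CohIII.fiberMod (X ↘ Spec (CommRingCat.of A)) F (IsLocalRing.closedPoint A) ⟶
      CohIII.fiberMod (X ↘ Spec (CommRingCat.of A)) G (IsLocalRing.closedPoint A)) :
    (∃ u : F ⟶ G,
      (Scheme.Modules.pullback ((X ↘ Spec (CommRingCat.of A)).fiberι (IsLocalRing.closedPoint A))).map u = u₀) ∧
    ∀ u : F ⟶ G,
      (Scheme.Modules.pullback ((X ↘ Spec (CommRingCat.of A)).fiberι (IsLocalRing.closedPoint A))).map u = u₀ →
        (Mono u₀ → Mono u) ∧ (Epi u₀ → Epi u) := by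
  haveI : IsLocallyNoetherian X := LocallyOfFiniteType.isLocallyNoetherian (X ↘ Spec (CommRingCat.of A))
  refine ⟨?_, fun u hu => ?_⟩
  · obtain ⟨V, hyV, B, b, v, hb, hv⟩ := GrothLib.LocFreeHom.exists_lift_near (X ↘ Spec (CommRingCat.of A)) (IsLocalRing.closedPoint A) hF hG h1 u₀
    have hV : V = ⊤ := (IsLocalRing.closedPoint_mem_iff V).1 hyV
    haveI : IsIso b := GrothLib.LocFreeHom.isIso_of_isIso_restrict_top (by rw [hV]; rfl) b hb
    refine ⟨inv b ≫ v, ?_⟩
    rw [Functor.map_comp, Functor.map_inv, hv, IsIso.inv_hom_id_assoc]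
  · have hFc := GrothLib.Euler.isCoh_of_isFinLocFree hF
    have hGc := GrothLib.Euler.isCoh_of_isFinLocFree hG
    subst hu
    constructor
    · intro _
      obtain ⟨W, hyW, hW⟩ := GrothLib.LocFreeHom.exists_mono_near (X ↘ Spec (CommRingCat.of A)) (IsLocalRing.closedPoint A) hFc hGc
        (GrothLib.LocFreeHom.isFlatOver_of_isFinLocFree (X ↘ Spec (CommRingCat.of A)) hG) u
      have hWtop : W = ⊤ := (IsLocalRing.closedPoint_mem_iff W).1 hyW
      refine (GrothLib.OX.mono_iff u).2 fun x => (ModuleCat.mono_iff_injective _).2 ?_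
      exact hW x (by rw [hWtop]; trivial)
    · intro _
      obtain ⟨W, hyW, hW⟩ := GrothLib.LocFreeHom.exists_epi_near (X ↘ Spec (CommRingCat.of A)) (IsLocalRing.closedPoint A) hFc hGc u
      have hWtop : W = ⊤ := (IsLocalRing.closedPoint_mem_iff W).1 hyW
      refine (GrothLib.OX.epi_iff u).2 fun x => (ModuleCat.epi_iff_surjective _).2 ?_
      exact hW x (by rw [hWtop]; trivial)

end Groth.Agent.S4476
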