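import Groth.Statements.S4478
import Groth.Agent.Lib.FormalFn.Push

set_option autoImplicit false
universe u
open Coherent

namespace Groth.Agent.S4478

open AlgebraicGeometry CategoryTheory in
/-- The comparison statement extended to modules with proper support, over an affine base. Let A be a
Noetherian ring, I an ideal of A, X a scheme of finite type over Spec A and F a coherent O_X-module
whose support is proper over Spec A. Then for every p the I-adic completion of H^p(X, F) is
isomorphic, as an additive group, to the inverse limit of the groups H^p(X, F/I^(n+1)F). (The source
proves that the canonical map is a topological isomorphism; only the existence of an additive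
isomorphism is asserted, as for the proper case.) -/
theorem result (A : Type u) [CommRing A] [IsNoetherianRing A] (I : Ideal A)
    (X : Scheme.{u}) [X.Over (Spec (CommRingCat.of A))]
    [LocallyOfFiniteType (X ↘ Spec (CommRingCat.of A))] [QuasiCompact (X ↘ Spec (CommRingCat.of A))]
    (F : X.Modules) (hF : Coh.IsCoh F)
    (hs : ClSub.IsProperOver (X ↘ Spec (CommRingCat.of A)) (CohB1.support F)) (p : ℕ) :
    Nonempty (AdicCompletion I (Coh.HH X F p) ≃+ Formal.HHlim I F p) := by
  exact GrothLib.FormalFn.formal_functions_of_proper_support A I X F hF hs p

end Groth.Agent.S4478
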