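import Groth.Statements.S4481
import Groth.Agent.Lib.Cohom.CechTransport
import Groth.Agent.Lib.Cohom.CechQCoh
import Groth.Agent.Lib.QCoh.Qcqs

set_option autoImplicit false
universe u
open Coherent

namespace Groth.Agent.S4481

open AlgebraicGeometry CategoryTheory Opposite TopologicalSpace in
theorem preimage_iInf {X Y : Scheme.{u}} (h : X ⟶ Y) {κ : Type} [Fintype κ] (V : κ → Y.Opens) :
    h ⁻¹ᵁ (⨅ k, V k) = ⨅ k, h ⁻¹ᵁ V k := by
  rw [← Finset.inf_univ_eq_iInf, ← Finset.inf_univ_eq_iInf]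
  exact map_finset_inf (Opens.comap h.base.hom) Finset.univ V

open AlgebraicGeometry CategoryTheory Opposite TopologicalSpace in
theorem image_iInf {X Y : Scheme.{u}} (j : X ⟶ Y) [IsOpenImmersion j] {κ : Type} [Fintype κ]
    [Nonempty κ] (V : κ → X.Opens) : j ''ᵁ (⨅ k, V k) = ⨅ k, j ''ᵁ V k := by
  have h : ⨅ k, V k = j ⁻¹ᵁ (⨅ k, j ''ᵁ V k) := by
    rw [preimage_iInf]
    exact iInf_congr fun k ↦ (j.preimage_image_eq (V k)).symm
  rw [h, Scheme.Hom.image_preimage_eq_opensRange_inf, inf_eq_right]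
  exact (iInf_le _ (Classical.arbitrary κ)).trans (j.image_le_opensRange _)

open AlgebraicGeometry CategoryTheory Opposite in
/-- Let X be a separated scheme, f_1, …, f_n global functions on X such that every open X_{f_i} is
quasi-compact, U the union of the X_{f_i}, and suppose there are sections g_1, …, g_n of O_X over U
with Σ g_i · (f_i|_U) = 1. Then for every quasi-coherent O_X-module G and every p > 0 the Čech
cohomology group of G in degree p with respect to the family of opens (X_{f_i}) is zero. (The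
published statement also covers a scheme whose underlying space is Noetherian, not necessarily
separated; this row treats separated X.) -/
theorem result (X : Scheme.{u}) [X.IsSeparated] (n : ℕ)
    (f : Fin n → Γ(X, ⊤)) (hqc : ∀ i, IsCompact (X.basicOpen (f i) : Set X))
    (g : Fin n → Γ(X, ⨆ i, X.basicOpen (f i)))
    (hg : (Finset.univ.sum fun i => g i *
      (X.presheaf.map (homOfLE (le_top : (⨆ i, X.basicOpen (f i)) ≤ ⊤)).op).hom (f i)) = 1)
    (G : X.Modules) [Coh.IsQCoh G] (p : ℕ) (hp : 0 < p) :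
    Limits.IsZero (CohB1.cechH (fun i : ULift.{u} (Fin n) => X.basicOpen (f i.down)) G p) := by
  let U : X.Opens := ⨆ i, X.basicOpen (f i)
  have : CompactSpace (U : Scheme.{u}) := isCompact_iff_compactSpace.1 (by
    rw [TopologicalSpace.Opens.coe_iSup]
    exact isCompact_iUnion hqc)
  let h := (U : Scheme.{u}).toSpecΓ
  let a : ULift.{u} (Fin n) → Γ((U : Scheme.{u}), ⊤) := fun i ↦
    U.topIso.inv.hom (X.presheaf.map (homOfLE le_top).op (f i.down))
  let E : ULift.{u} (Fin n) → (Spec Γ((U : Scheme.{u}), ⊤)).Opens := fun i ↦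
    PrimeSpectrum.basicOpen (a i)
  have hE : ∀ i, U.ι ''ᵁ (h ⁻¹ᵁ E i) = X.basicOpen (f i.down) := fun i ↦ by
    rw [Scheme.toSpecΓ_preimage_basicOpen]
    refine (Scheme.Opens.ι_image_basicOpen_topIso_inv _ _).trans ?_
    rw [Scheme.basicOpen_res, inf_eq_right]
    exact le_iSup (fun i ↦ X.basicOpen (f i)) i.down
  have hspan : (⨆ i, E i) = ⊤ := by
    refine PrimeSpectrum.iSup_basicOpen_eq_top_iff.2 ((Ideal.eq_top_iff_one _).2 ?_)
    have h1 := congrArg U.topIso.inv.hom hg
    rw [map_sum, map_one] at h1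
    rw [← h1]
    refine Submodule.sum_mem _ fun i _ ↦ ?_
    rw [map_mul]
    exact Ideal.mul_mem_left _ _ (Ideal.subset_span ⟨⟨i⟩, rfl⟩)
  let N := (Scheme.Modules.restrictFunctor U.ι).obj G
  have hN : N.IsQuasicoherent := inferInstanceAs ((Scheme.Modules.restrictFunctor U.ι).obj G).IsQuasicoherent
  have : QuasiSeparatedSpace (U : Scheme.{u}) :=
    quasiSeparatedSpace_of_quasiSeparated (U.ι ≫ Limits.terminal.from X)
  have : QuasiSeparated h := QuasiSeparated.of_quasiSeparatedSpace h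
  have := GrothLib.QCoh.isQuasicoherent_pushforward h N
  obtain ⟨e⟩ := GrothLib.Cohom.nonempty_cechH_equiv E ((Scheme.Modules.pushforward h).obj N)
    (fun q b ↦ IsAffineOpen.iInf fun k ↦ IsAffineOpen.Spec_basicOpen (a (b k))) p
  rw [hspan] at e
  obtain ⟨q, rfl⟩ := Nat.exists_eq_succ_of_ne_zero (by omega : p ≠ 0)
  have hsub := GrothLib.Cohom.subsingleton_ext_freeFun_of_isAffineOpen
    (isAffineOpen_top (Spec Γ((U : Scheme.{u}), ⊤))) ((Scheme.Modules.pushforward h).obj N) q
  have h₁ : Limits.IsZero (CohB1.cechH E ((Scheme.Modules.pushforward h).obj N) q.succ) :=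
    @AddCommGrpCat.isZero_of_subsingleton _ (@Equiv.subsingleton _ _ e.toEquiv hsub)
  have h₂ : Limits.IsZero (CohB1.cechH (fun i ↦ h ⁻¹ᵁ E i) N q.succ) :=
    GrothLib.Cohom.isZero_homology_of_map (TopologicalSpace.Opens.map h.base) E N.presheaf
      (fun m b ↦ preimage_iInf h (fun k ↦ E (b k))) q.succ h₁
  have h₃ : Limits.IsZero (CohB1.cechH (fun i ↦ U.ι ''ᵁ (h ⁻¹ᵁ E i)) G q.succ) :=
    GrothLib.Cohom.isZero_homology_of_map U.ι.opensFunctor (fun i ↦ h ⁻¹ᵁ E i) G.presheaf
      (fun m b ↦ image_iInf U.ι (fun k ↦ h ⁻¹ᵁ E (b k))) q.succ h₂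
  simp only [hE] at h₃
  exact h₃

end Groth.Agent.S4481
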