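import Groth.Statements.S4485
import Groth.Agent.Lib.FlatCx.Bc
import Groth.Agent.Lib.FlatCx.ArtinLen

set_option autoImplicit false
universe u
open FlatCx

namespace Groth.Agent.S4485

open CategoryTheory CategoryTheory.Limits in
/-- For the homological functor T_p(M) = H_p(P ⊗_A M) of a chain complex P of flat modules over a
commutative ring A. If T_p takes injections to injections and surjections to surjections and T_p(A)
is a finitely presented A-module, then the function x ↦ dim_{k(x)} H_p(P ⊗_A k(x)) is locally
constant on Spec A (hence constant when Spec A is connected). No Noetherian hypothesis on A. -/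
theorem result {A : Type u} [CommRing A]
    (P : ChainComplex (ModuleCat.{u} A) ℤ) (hP : ∀ i, Module.Flat A (P.X i)) (p : ℤ)
    (hex : (CohIII.TFun P p).PreservesMonomorphisms ∧ (CohIII.TFun P p).PreservesEpimorphisms)
    (hfp : Module.FinitePresentation A (CohIII.T P p (ModuleCat.of A A))) :
    IsLocallyConstant (CohIII.dRank P p) := by
  haveI : ∀ i, Module.Flat A (P.X i) := hP
  haveI : Module.FinitePresentation A (CohIII.T P p (ModuleCat.of A A)) := hfp
  haveI := GrothLib.FlatCx.flat_T_self P p hex.1 hex.2
  have e : LinearMap.ker (GrothLib.FlatCx.dBar P p) ≃ₗ[A] CohIII.T P p (ModuleCat.of A A) :=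
    (GrothLib.FlatCx.TUnitKerEquiv P p).symm
  haveI : Module.Flat A (LinearMap.ker (GrothLib.FlatCx.dBar P p)) := Module.Flat.of_linearEquiv e
  haveI : Module.FinitePresentation A (LinearMap.ker (GrothLib.FlatCx.dBar P p)) :=
    Module.FinitePresentation.of_equiv e.symm
  have hd : ∀ x : PrimeSpectrum A, CohIII.dRank P p x = Module.finrank x.asIdeal.ResidueField
      (TensorProduct A x.asIdeal.ResidueField (LinearMap.ker (GrothLib.FlatCx.dBar P p))) :=
    fun x => GrothLib.FlatCx.finrank_homology_bcCx_of_epi P p hex.2
  refine (IsLocallyConstant.iff_eventually_eq _).2 fun x => ?_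
  filter_upwards [GrothLib.FlatCx.eventually_finrank_fiber_eq (A := A)
    (P := LinearMap.ker (GrothLib.FlatCx.dBar P p)) x] with y hy
  rw [hd, hd, hy]

end Groth.Agent.S4485
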