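import Groth.Statements.S4486
import Groth.Agent.Lib.FlatCx.UpLocus

set_option autoImplicit false
universe u
open FlatCx

namespace Groth.Agent.S4486

open CategoryTheory CategoryTheory.Limits in
/-- For the homological functor T_p(M) = H_p(P ⊗_A M) of a chain complex P of flat modules over a
commutative ring A, which commutes with filtered colimits. Let A be a domain and suppose P_i = 0 for
i < i₀ and that every T_n(A) is a finitely presented A-module. Then for every integer N there is a
nonzero f ∈ A such that, for every p ≤ N, the functor of A_f-modules N ↦ H_p(P_f ⊗_{A_f} N), where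
P_f = P ⊗_A A_f, takes injections to injections and surjections to surjections. -/
theorem result {A : Type u} [CommRing A] [IsDomain A]
    (P : ChainComplex (ModuleCat.{u} A) ℤ) (hP : ∀ i, Module.Flat A (P.X i)) (i₀ : ℤ)
    (hb : ∀ i < i₀, IsZero (P.X i))
    (hfp : ∀ n : ℤ, Module.FinitePresentation A (CohIII.T P n (ModuleCat.of A A))) (N : ℤ) :
    ∃ f : A, f ≠ 0 ∧ ∀ p ≤ N,
      (CohIII.TFun (CohIII.bcCx (algebraMap A (Localization.Away f)) P) p).PreservesMonomorphisms ∧
        (CohIII.TFun (CohIII.bcCx (algebraMap A (Localization.Away f)) P) p).PreservesEpimorphisms := by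
  haveI : ∀ i, Module.Flat A (P.X i) := hP
  haveI := hfp
  haveI : (⊥ : Ideal A).IsPrime := Ideal.isPrime_bot
  have hmem := GrothLib.FlatCx.minimal_mem_goodLocus P i₀ N ⟨⊥, inferInstance⟩
    ⟨⟨Ideal.isPrime_bot, le_rfl⟩, fun J hJ _ => bot_le⟩
  obtain ⟨_, ⟨f, rfl⟩, hfmem, hfsub⟩ :=
    PrimeSpectrum.isTopologicalBasis_basic_opens.exists_subset_of_mem_open hmem
      (GrothLib.FlatCx.isOpen_goodLocus P i₀ N)
  refine ⟨f, fun hf0 => hfmem (by rw [hf0]; exact Ideal.zero_mem _), ?_⟩
  haveI : Module.Flat A (Localization.Away f) :=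
    IsLocalization.flat (Localization.Away f) (Submonoid.powers f)
  refine GrothLib.FlatCx.exact_upTo_bcCx P hb (Localization.Away f) N fun q hq hq0 => ?_
  haveI := GrothLib.FlatCx.finitePresentation_ker P q
  haveI : Module.Projective (Localization.Away f)
      (TensorProduct A (Localization.Away f) (LinearMap.ker (GrothLib.FlatCx.dBar P q))) := by
    rw [← Module.freeLocus_eq_univ_iff, Set.eq_univ_iff_forall]
    intro y
    refine Module.comap_freeLocus_le ?_
    refine Set.mem_iInter₂.1 (hfsub ?_) q (Finset.mem_Icc.2 ⟨hq0, hq⟩)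
    show _ ∈ (PrimeSpectrum.basicOpen f : Set (PrimeSpectrum A))
    rw [← PrimeSpectrum.localization_away_comap_range (Localization.Away f) f]
    exact Set.mem_range_self y
  infer_instance

end Groth.Agent.S4486
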