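import Groth.Statements.S4487
import Groth.Agent.Lib.FlatCx.UpLocus
import Mathlib.RingTheory.Spectrum.Prime.Homeomorph
import Mathlib.RingTheory.Ideal.Quotient.Nilpotent

set_option autoImplicit false
universe u
open FlatCx

namespace Groth.Agent.S4487

open CategoryTheory CategoryTheory.Limits in
/-- The case of the homological functor T_p(M) = H_p(P ⊗_A M) of a chain complex P of flat modules over
a commutative ring A. Let A be Noetherian and suppose P_i = 0 for i < i₀ and that every T_n(A) is a
finitely generated A-module. Then for every integer N there is a dense open subset U of Spec A such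
that, for every p ≤ N, the function x ↦ dim_{k(x)} H_p(P ⊗_A k(x)) is locally constant on U. (The
published statement says constant on U; over the product of two fields, with P the projective module
supported on one factor placed in degree 0, the only dense open set is the whole two-point spectrum
and the ranks there are 1 and 0, so locally constant on U is what holds; the argument produces U as
a disjoint union of opens, one dense in each irreducible component, on each of which the functions
are constant.) -/
theorem result {A : Type u} [CommRing A] [IsNoetherianRing A]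
    (P : ChainComplex (ModuleCat.{u} A) ℤ) (hP : ∀ i, Module.Flat A (P.X i)) (i₀ : ℤ)
    (hb : ∀ i < i₀, IsZero (P.X i))
    (hfg : ∀ n : ℤ, Module.Finite A (CohIII.T P n (ModuleCat.of A A))) (N : ℤ) :
    ∃ U : Set (PrimeSpectrum A), IsOpen U ∧ Dense U ∧
      ∀ p ≤ N, IsLocallyConstant (fun x : U => CohIII.dRank P p x) := by
  haveI : ∀ i, Module.Flat A (P.X i) := hP
  let B := A ⧸ nilradical A
  haveI : IsReduced B := (Ideal.isRadical_iff_quotient_reduced _).1 (Ideal.radical_isRadical _)
  let P' := CohIII.bcCx (algebraMap A B) P
  haveI : ∀ i, Module.Flat B (P'.X i) := GrothLib.FlatCx.flat_bcCx_X P _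
  have hb' : ∀ i < i₀, IsZero (P'.X i) := fun i hi =>
    (ModuleCat.extendScalars (algebraMap A B)).map_isZero (hb i hi)
  haveI : ∀ n, Module.FinitePresentation B (CohIII.T P' n (ModuleCat.of B B)) := fun n => by
    haveI : Module.Finite A (CohIII.T P n (ModuleCat.of A B)) :=
      GrothLib.FlatCx.finite_T P hb hfg n _
    haveI := GrothLib.FlatCx.finite_T_bcCx P (B := B) n
    exact Module.finitePresentation_of_finite B _
  let c := PrimeSpectrum.comap (algebraMap A B)
  have hsurj : Function.Surjective (algebraMap A B) := Ideal.Quotient.mk_surjective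
  have hhom : IsHomeomorph c := by
    refine PrimeSpectrum.isHomeomorph_comap _ (fun b => ⟨1, one_pos, ?_⟩) ?_
    · obtain ⟨a, rfl⟩ := hsurj b
      exact ⟨a, (pow_one _).symm⟩
    · exact le_of_eq Ideal.mk_ker
  let h : PrimeSpectrum B ≃ₜ PrimeSpectrum A := hhom.homeomorph
  refine ⟨h.symm ⁻¹' GrothLib.FlatCx.goodLocus P' i₀ N,
    (GrothLib.FlatCx.isOpen_goodLocus P' i₀ N).preimage h.symm.continuous,
    (GrothLib.FlatCx.dense_goodLocus P' i₀ N).preimage h.symm.isOpenMap, fun p hp => ?_⟩
  have h1 := GrothLib.FlatCx.isLocallyConstant_dRank_goodLocus P' hb' (N := N) hp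
  let g : ↥(h.symm ⁻¹' GrothLib.FlatCx.goodLocus P' i₀ N) →
      ↥(GrothLib.FlatCx.goodLocus P' i₀ N) := fun x => ⟨h.symm x.1, x.2⟩
  have hg : Continuous g := (h.symm.continuous.comp continuous_subtype_val).subtype_mk _
  convert h1.comp_continuous hg using 1
  funext x
  refine Eq.trans ?_ (GrothLib.FlatCx.dRank_bcCx P (algebraMap A B) p (h.symm x.1)).symm
  exact congrArg _ (h.apply_symm_apply x.1).symm

end Groth.Agent.S4487
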