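import Groth.Statements.S4488
import Groth.Agent.Lib.FlatCx.UpLocus

set_option autoImplicit false
universe u
open FlatCx

namespace Groth.Agent.S4488

open CategoryTheory CategoryTheory.Limits in
/-- For the homological functor T_q(M) = H_q(P ⊗_A M) of a chain complex P of flat modules over a
commutative local ring A with residue field k. Suppose P_i = 0 for i < i₀ and that every T_n(A) is a
finitely presented A-module, and let p be an integer. If T_q takes injections to injections and
surjections to surjections for every q ≤ p, then dim_{k(x)} T_q(k(x)) = dim_k T_q(k) for every point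
x of Spec A and every q ≤ p. Conversely, if A is reduced and this equality holds at the generic
point of every irreducible component of Spec A (every minimal prime) for every q ≤ p, then T_q takes
injections to injections and surjections to surjections for every q ≤ p. No Noetherian hypothesis on
A. -/
theorem result {A : Type u} [CommRing A] [IsLocalRing A]
    (P : ChainComplex (ModuleCat.{u} A) ℤ) (hP : ∀ i, Module.Flat A (P.X i)) (i₀ : ℤ)
    (hb : ∀ i < i₀, IsZero (P.X i))
    (hfp : ∀ n : ℤ, Module.FinitePresentation A (CohIII.T P n (ModuleCat.of A A))) (p : ℤ) :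
    ((∀ q ≤ p, (CohIII.TFun P q).PreservesMonomorphisms ∧ (CohIII.TFun P q).PreservesEpimorphisms) →
        ∀ (x : PrimeSpectrum A), ∀ q ≤ p, CohIII.dRank P q x = CohIII.dRank P q (IsLocalRing.closedPoint A)) ∧
      (IsReduced A →
        (∀ x : PrimeSpectrum A, x.asIdeal ∈ minimalPrimes A →
          ∀ q ≤ p, CohIII.dRank P q x = CohIII.dRank P q (IsLocalRing.closedPoint A)) →
        ∀ q ≤ p, (CohIII.TFun P q).PreservesMonomorphisms ∧ (CohIII.TFun P q).PreservesEpimorphisms) := by
  haveI : ∀ i, Module.Flat A (P.X i) := hP
  haveI := hfp
  have hd : ∀ q, (CohIII.TFun P q).PreservesEpimorphisms → ∀ x : PrimeSpectrum A,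
      CohIII.dRank P q x = Module.finrank x.asIdeal.ResidueField
        (TensorProduct A x.asIdeal.ResidueField (LinearMap.ker (GrothLib.FlatCx.dBar P q))) :=
    fun q hq x => GrothLib.FlatCx.finrank_homology_bcCx_of_epi P q hq
  refine ⟨fun h x q hq => ?_, fun hred heq => ?_⟩
  · haveI := GrothLib.FlatCx.finitePresentation_ker P q
    haveI : Module.Flat A (LinearMap.ker (GrothLib.FlatCx.dBar P q)) :=
      haveI := GrothLib.FlatCx.flat_T_self P q (h q hq).1 (h q hq).2
      Module.Flat.of_linearEquiv (GrothLib.FlatCx.TUnitKerEquiv P q).symm
    rw [hd q (h q hq).2, hd q (h q hq).2, GrothLib.FlatCx.finrank_closedPoint _ x,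
      GrothLib.FlatCx.finrank_closedPoint _ (IsLocalRing.closedPoint A)]
  · haveI := hred
    suffices hn : ∀ n : ℕ, ∀ q ≤ p, q < i₀ + n →
        Module.Flat A (LinearMap.ker (GrothLib.FlatCx.dBar P q)) from
      GrothLib.FlatCx.exact_upTo_of_flat P hb p fun q hq =>
        hn ((q - i₀).toNat + 1) q hq (by omega)
    intro n
    induction n with
    | zero =>
      intro q _ hq
      haveI := GrothLib.FlatCx.subsingleton_ker_of_lt P hb (q := q) (by omega)
      infer_instance
    | succ n ih =>
      intro q hq hqn
      have hex := GrothLib.FlatCx.exact_upTo_of_flat P hb (q - 1)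
        fun r hr => ih r (by omega) (by omega)
      have he : (CohIII.TFun P q).PreservesEpimorphisms :=
        (GrothLib.FlatCx.preservesMono_iff_preservesEpi_succ P (show q - 1 + 1 = q by omega)).1
          (hex (q - 1) le_rfl).1
      haveI := GrothLib.FlatCx.finitePresentation_ker P q
      haveI := GrothLib.FlatCx.free_of_finrank_eq_minimal
        (LinearMap.ker (GrothLib.FlatCx.dBar P q)) fun x hx => by
          rw [← hd q he x, ← hd q he]; exact heq x hx q hq
      infer_instance

end Groth.Agent.S4488
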