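import Groth.Statements.S4489
import Groth.Agent.Lib.FlatCx.ArtinLen
import Mathlib.RingTheory.DedekindDomain.Basic
import Mathlib.RingTheory.Flat.TorsionFree

set_option autoImplicit false
universe u
open FlatCx

namespace Groth.Agent.S4489

open CategoryTheory CategoryTheory.Limits in
/-- For the homological functor T_p(M) = H_p(P ⊗_A M) of a chain complex P of flat modules, stated over
a Dedekind domain A. (The published statement allows A to be a finite product of Dedekind domains,
that is, a Noetherian regular ring of dimension at most 1; this row takes A a Dedekind domain.) Then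
T_p takes injections to injections if and only if H_p(P) is a flat A-module; and, with q + 1 = p,
T_p takes injections to injections and surjections to surjections if and only if H_p(P) and H_q(P)
are both flat. -/
theorem result {A : Type u} [CommRing A] [IsDedekindDomain A]
    (P : ChainComplex (ModuleCat.{u} A) ℤ) (hP : ∀ i, Module.Flat A (P.X i)) (p q : ℤ) (hpq : q + 1 = p) :
    ((CohIII.TFun P p).PreservesMonomorphisms ↔ Module.Flat A (P.homology p)) ∧
      (((CohIII.TFun P p).PreservesMonomorphisms ∧ (CohIII.TFun P p).PreservesEpimorphisms) ↔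
        (Module.Flat A (P.homology p) ∧ Module.Flat A (P.homology q))) := by
  haveI : ∀ i, Module.Flat A (P.X i) := hP
  have hsub : ∀ {Q : Type u} [AddCommGroup Q] [Module A Q] [Module.Flat A Q] (S : Submodule A Q),
      Module.Flat A S := fun {Q} _ _ _ S => by
    rw [IsDedekindDomain.flat_iff_torsion_eq_bot, ← Submodule.isTorsionFree_iff_torsion_eq_bot]
    haveI : Module.IsTorsionFree A Q :=
      Submodule.isTorsionFree_iff_torsion_eq_bot.2 (IsDedekindDomain.flat_iff_torsion_eq_bot.1 inferInstance)
    infer_instance
  have key : ∀ i : ℤ, (CohIII.TFun P i).PreservesMonomorphisms ↔ Module.Flat A (P.homology i) := by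
    intro i
    rw [GrothLib.FlatCx.preservesMono_iff P i]
    let e := GrothLib.FlatCx.TUnitKerEquiv P i
    let e' : LinearMap.ker (GrothLib.FlatCx.dBar P i) ≃ₗ[A] P.homology i :=
      e.symm ≪≫ₗ (GrothLib.FlatCx.TUnitIso P i).toLinearEquiv
    haveI := hsub (LinearMap.range (GrothLib.FlatCx.dBar P i))
    constructor
    · intro h
      haveI := GrothLib.FlatCx.flat_ker_of_flat_range (GrothLib.FlatCx.dBar P i)
      exact Module.Flat.of_linearEquiv e'.symm
    · intro h
      haveI : Module.Flat A (LinearMap.ker (GrothLib.FlatCx.dBar P i)) :=
        Module.Flat.of_linearEquiv e'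
      exact GrothLib.FlatCx.flat_of_flat_ker_range (GrothLib.FlatCx.dBar P i)
  refine ⟨key p, ?_⟩
  rw [← GrothLib.FlatCx.preservesMono_iff_preservesEpi_succ P hpq, key p, key q]

end Groth.Agent.S4489
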