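import Groth.Statements.S4507
import Mathlib.Algebra.Category.ModuleCat.FilteredColimits


set_option autoImplicit false
universe u
open FlatCx

namespace Groth.Agent.S4507

open CategoryTheory CategoryTheory.Limits

variable {A : Type u} [CommRing A] (S : Submonoid A)

/-- The category whose objects are the elements of `S`, an arrow being a multiplier. -/
structure Idx where
  /-- the element -/
  val : S

instance : Category.{u} (Idx S) where
  Hom a b := {t : S // a.val * t = b.val}
  id a := ⟨1, mul_one _⟩
  comp f g := ⟨f.1 * g.1, by rw [← mul_assoc, f.2, g.2]⟩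
  id_comp f := Subtype.ext (one_mul _)
  comp_id f := Subtype.ext (mul_one _)
  assoc f g h := Subtype.ext (mul_assoc _ _ _)

instance : IsFiltered (Idx S) where
  nonempty := ⟨⟨1⟩⟩
  cocone_objs a b := ⟨⟨a.val * b.val⟩, ⟨b.val, rfl⟩, ⟨a.val, mul_comm _ _⟩, trivial⟩
  cocone_maps := fun a b f g => ⟨⟨b.val * a.val⟩, ⟨a.val, rfl⟩, Subtype.ext (by
    show f.1 * a.val = g.1 * a.val
    rw [mul_comm f.1, f.2, mul_comm g.1, g.2])⟩

variable (M : ModuleCat.{u} A)

/-- The diagram of multiplication maps on `M`. -/
def diag : Idx S ⥤ ModuleCat.{u} A where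
  obj _ := M
  map f := (f.1 : A) • 𝟙 M
  map_id a := one_smul A (𝟙 M)
  map_comp f g := by
    rw [Linear.smul_comp, Linear.comp_smul, Category.id_comp, smul_smul]
    rfl

/-- The localized module as an object of `ModuleCat`. -/
abbrev Loc : ModuleCat.{u} A := ModuleCat.of A (LocalizedModule S M)

/-- The map `m ↦ m / s`. -/
noncomputable def divBy (s : S) : M ⟶ Loc S M :=
  ModuleCat.ofHom
    { toFun := fun m => LocalizedModule.mk m s
      map_add' := fun m m' => by
        rw [LocalizedModule.mk_add_mk]
        refine LocalizedModule.mk_eq.2 ⟨1, ?_⟩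
        simp only [one_smul, smul_add, Submonoid.smul_def, smul_smul, Submonoid.coe_mul]
      map_smul' := fun c m => (LocalizedModule.smul'_mk c m s).symm }

/-- The localization as a cocone on the diagram of multiplication maps. -/
noncomputable def cocone : Cocone (diag S M) where
  pt := Loc S M
  ι :=
    { app := fun a => divBy S M a.val
      naturality := fun a b f => ModuleCat.hom_ext (LinearMap.ext fun m => by
        show LocalizedModule.mk ((f.1 : A) • (m : M)) b.val = LocalizedModule.mk (m : M) a.val
        refine LocalizedModule.mk_eq.2 ⟨1, ?_⟩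
        simp only [one_smul, Submonoid.smul_def, smul_smul]
        rw [← Submonoid.coe_mul, f.2]) }

/-- The localization is the colimit of the multiplication maps. -/
noncomputable def isColimit : IsColimit (cocone S M) := by
  apply isColimitOfReflects (forget (ModuleCat.{u} A))
  refine Types.FilteredColimit.isColimitOf' _ _ (fun x => ?_) (fun a m m' h => ?_)
  · induction x using LocalizedModule.induction_on with
    | h m s => exact ⟨⟨s⟩, m, rfl⟩
  · have h' : LocalizedModule.mk (m : M) a.val = LocalizedModule.mk (m' : M) a.val := h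
    obtain ⟨u, hu⟩ := LocalizedModule.mk_eq.1 h'
    simp only [Submonoid.smul_def, smul_smul, ← Submonoid.coe_mul] at hu
    exact ⟨⟨a.val * (u * a.val)⟩, ⟨u * a.val, rfl⟩, hu⟩

theorem smul_divBy (s : S) :
    (s : A) • divBy S M s =
      (ModuleCat.ofHom (LocalizedModule.mkLinearMap S M) : M ⟶ Loc S M) := by
  refine ModuleCat.hom_ext (LinearMap.ext fun m => ?_)
  show (s : A) • LocalizedModule.mk m s = LocalizedModule.mk m 1
  rw [LocalizedModule.smul'_mk]
  exact LocalizedModule.mk_eq.2 ⟨1, by simp [Submonoid.smul_def]⟩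

theorem divBy_one :
    divBy S M 1 = (ModuleCat.ofHom (LocalizedModule.mkLinearMap S M) : M ⟶ Loc S M) := rfl

variable (T : ModuleCat.{u} A ⥤ ModuleCat.{u} A)

theorem exists_map_divBy [PreservesColimit (diag S M) T] (y : T.obj (Loc S M)) :
    ∃ (s : S) (x : T.obj M), (T.map (divBy S M s)).hom x = y := by
  obtain ⟨a, x, hx⟩ := Concrete.isColimit_exists_rep (diag S M ⋙ T)
    (isColimitOfPreserves T (isColimit S M)) y
  exact ⟨a.val, x, hx⟩

theorem exists_smul_eq [T.Additive] [T.Linear A] [PreservesColimit (diag S M) T] (x x' : T.obj M)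
    (h : (T.map (divBy S M 1)).hom x = (T.map (divBy S M 1)).hom x') :
    ∃ t : S, (t : A) • x = (t : A) • x' := by
  obtain ⟨b, f, g, hfg⟩ := Concrete.isColimit_exists_of_rep_eq (diag S M ⋙ T)
    (isColimitOfPreserves T (isColimit S M)) (i := (⟨1⟩ : Idx S)) (j := (⟨1⟩ : Idx S)) x x' h
  have hf : f = g := Subtype.ext (by
    have := f.2.trans g.2.symm
    rwa [one_mul, one_mul] at this)
  subst hf
  have hmap : T.map ((diag S M).map f) = (f.1 : A) • 𝟙 (T.obj M) := by
    show T.map ((f.1 : A) • 𝟙 M) = _
    rw [Functor.map_smul, CategoryTheory.Functor.map_id]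
  have h' : (T.map ((diag S M).map f)).hom x = (T.map ((diag S M).map f)).hom x' := hfg
  rw [hmap] at h'
  exact ⟨f.1, h'⟩

open CategoryTheory CategoryTheory.Limits in
/-- The isomorphism T(S⁻¹M) ≅ S⁻¹T(M). Let A be a commutative ring, T an additive A-linear endofunctor
of the category of A-modules which preserves filtered colimits, S a multiplicative subset of A and M
an A-module. Then the A-linear map T(M) → T(S⁻¹M), image under T of the localization map M → S⁻¹M,
is a localization of T(M) at S (so T(S⁻¹M) is canonically S⁻¹T(M), as an S⁻¹A-module). -/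
theorem result {A : Type u} [CommRing A]
    (T : ModuleCat.{u} A ⥤ ModuleCat.{u} A) [T.Additive] [T.Linear A]
    (hT : ∀ (J : Type u) [SmallCategory J] [IsFiltered J], PreservesColimitsOfShape J T)
    (S : Submonoid A) (M : ModuleCat.{u} A) :
    IsLocalizedModule S (T.map (ModuleCat.ofHom (LocalizedModule.mkLinearMap S M) :
      M ⟶ ModuleCat.of A (LocalizedModule S M))).hom := by
  haveI := hT (Idx S)
  refine ⟨fun s => ?_, fun y => ?_, fun {x x'} h => ?_⟩
  · rw [Module.End.isUnit_iff]
    let μ : Loc S M ⟶ Loc S M := (s : A) • 𝟙 _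
    haveI : IsIso μ := by
      rw [ConcreteCategory.isIso_iff_bijective]
      exact (Module.End.isUnit_iff _).1
        (IsLocalizedModule.map_units (LocalizedModule.mkLinearMap S M) s)
    have hb := (ConcreteCategory.isIso_iff_bijective (T.map μ)).1 inferInstance
    simp only [μ, Functor.map_smul, CategoryTheory.Functor.map_id] at hb
    exact hb
  · obtain ⟨s, x, hx⟩ := exists_map_divBy S M T y
    refine ⟨⟨x, s⟩, ?_⟩
    have h := congrArg T.map (smul_divBy S M s)
    rw [Functor.map_smul] at h
    have h' := ConcreteCategory.congr_hom h x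
    rw [← hx]
    exact h'
  · exact exists_smul_eq S M T x x' h

end Groth.Agent.S4507
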