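import Groth.Statements.S4493
import Groth.Agent.S4507
import Mathlib.RingTheory.LocalProperties.Exactness
import Mathlib.Algebra.Module.LocalizedModule.Exact
import Mathlib.Algebra.Homology.ShortComplex.ExactFunctor
import Mathlib.Algebra.Homology.ShortComplex.ModuleCat
import Mathlib.Algebra.Category.ModuleCat.ChangeOfRings

set_option autoImplicit false
universe u
open FlatCx

namespace Groth.Agent.S4493

open CategoryTheory CategoryTheory.Limits

variable {A : Type u} [CommRing A] (S : Submonoid A)

/-- The localized module over the localized ring. -/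
abbrev locObj (M : ModuleCat.{u} A) : ModuleCat.{u} (Localization S) :=
  ModuleCat.of (Localization S) (LocalizedModule S M)

/-- Restricting the localized module back to the base ring gives the localized module. -/
noncomputable def restrLE (M : ModuleCat.{u} A) :
    LocalizedModule S M ≃ₗ[A]
      ((ModuleCat.restrictScalars (algebraMap A (Localization S))).obj (locObj S M) : ModuleCat.{u} A) :=
  { AddEquiv.refl (LocalizedModule S M) with
    map_smul' := fun a x => (algebraMap_smul (Localization S) a x).symm }

/-- Restricting the localized module back to the base ring gives the localized module. -/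
noncomputable def restrIso (M : ModuleCat.{u} A) :
    ModuleCat.of A (LocalizedModule S M) ≅
      (ModuleCat.restrictScalars (algebraMap A (Localization S))).obj (locObj S M) :=
  (restrLE S M).toModuleIso

/-- The canonical map to the restricted localized module. -/
noncomputable def eta (M : ModuleCat.{u} A) :
    M ⟶ (ModuleCat.restrictScalars (algebraMap A (Localization S))).obj (locObj S M) :=
  (ModuleCat.ofHom (LocalizedModule.mkLinearMap S M) : M ⟶ ModuleCat.of A (LocalizedModule S M)) ≫
    (restrIso S M).hom

/-- The localization of a morphism. -/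
noncomputable def locMap {M N : ModuleCat.{u} A} (f : M ⟶ N) : locObj S M ⟶ locObj S N :=
  ModuleCat.ofHom (LinearMap.extendScalarsOfIsLocalization S (Localization S)
    (IsLocalizedModule.map S (LocalizedModule.mkLinearMap S M) (LocalizedModule.mkLinearMap S N) f.hom))

theorem eta_naturality {M N : ModuleCat.{u} A} (f : M ⟶ N) :
    f ≫ eta S N =
      eta S M ≫ (ModuleCat.restrictScalars (algebraMap A (Localization S))).map (locMap S f) := by
  refine ModuleCat.hom_ext (LinearMap.ext fun m => ?_)
  exact (IsLocalizedModule.map_apply S (LocalizedModule.mkLinearMap S M)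
    (LocalizedModule.mkLinearMap S N) f.hom m).symm

variable (T : ModuleCat.{u} A ⥤ ModuleCat.{u} A) [T.Additive] [T.Linear A]
  (hT : ∀ (J : Type u) [SmallCategory J] [IsFiltered J], PreservesColimitsOfShape J T)

include hT in
theorem isLocalizedModule_eta (M : ModuleCat.{u} A) :
    IsLocalizedModule S (T.map (eta S M)).hom := by
  haveI := Groth.Agent.S4507.result T hT S M
  rw [eta, Functor.map_comp]
  exact IsLocalizedModule.of_linearEquiv S
    (T.map (ModuleCat.ofHom (LocalizedModule.mkLinearMap S M) :
      M ⟶ ModuleCat.of A (LocalizedModule S M))).hom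
    (T.mapIso (restrIso S M)).toLinearEquiv

theorem map_eq {M N : ModuleCat.{u} A} (f : M ⟶ N)
    [IsLocalizedModule S (T.map (eta S M)).hom] [IsLocalizedModule S (T.map (eta S N)).hom] :
    IsLocalizedModule.map S (T.map (eta S M)).hom (T.map (eta S N)).hom (T.map f).hom =
      ((ModuleCat.restrictScalars (algebraMap A (Localization S)) ⋙ T).map (locMap S f)).hom := by
  refine IsLocalizedModule.linearMap_ext S (T.map (eta S M)).hom (T.map (eta S N)).hom ?_
  rw [IsLocalizedModule.map_comp, Functor.comp_map, ← ModuleCat.hom_comp, ← ModuleCat.hom_comp,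
    ← T.map_comp, ← T.map_comp, eta_naturality]

/-- The localization of a short complex. -/
noncomputable def locComplex (X : ShortComplex (ModuleCat.{u} A)) :
    ShortComplex (ModuleCat.{u} (Localization S)) :=
  ShortComplex.mk (locMap S X.f) (locMap S X.g) (by
    refine ModuleCat.hom_ext (LinearMap.ext fun x => ?_)
    induction x using LocalizedModule.induction_on with
    | h m s =>
      show IsLocalizedModule.map S _ _ X.g.hom (IsLocalizedModule.map S _ _ X.f.hom
        (LocalizedModule.mk m s)) = 0
      rw [IsLocalizedModule.map_LocalizedModules, IsLocalizedModule.map_LocalizedModules,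
        ← LinearMap.comp_apply, ← ModuleCat.hom_comp, X.zero]
      exact LocalizedModule.zero_mk s)

theorem locComplex_shortExact {X : ShortComplex (ModuleCat.{u} A)} (hX : X.ShortExact) :
    (locComplex S X).ShortExact :=
  { exact := by
      have h := LocalizedModule.map_exact S X.f.hom X.g.hom
        ((ShortComplex.ShortExact.moduleCat_exact_iff_function_exact _).1 hX.exact)
      exact (ShortComplex.ShortExact.moduleCat_exact_iff_function_exact _).2 h
    mono_f := by
      have h := IsLocalizedModule.map_injective S (LocalizedModule.mkLinearMap S X.X₁)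
        (LocalizedModule.mkLinearMap S X.X₂) X.f.hom ((ModuleCat.mono_iff_injective _).1 hX.mono_f)
      exact (ModuleCat.mono_iff_injective _).2 h
    epi_g := by
      have h := IsLocalizedModule.map_surjective S (LocalizedModule.mkLinearMap S X.X₂)
        (LocalizedModule.mkLinearMap S X.X₃) X.g.hom ((ModuleCat.epi_iff_surjective _).1 hX.epi_g)
      exact (ModuleCat.epi_iff_surjective _).2 h }

theorem left_exact_map {R R' : Type u} [CommRing R] [CommRing R']
    (F : ModuleCat.{u} R ⥤ ModuleCat.{u} R') [F.Additive] (h : PreservesFiniteLimits F)
    {X : ShortComplex (ModuleCat.{u} R)} (hX : X.ShortExact) :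
    (X.map F).Exact ∧ Mono (F.map X.f) := by
  have e : PreservesFiniteLimits F ↔
      ∀ S : ShortComplex (ModuleCat.{u} R), S.ShortExact → (S.map F).Exact ∧ Mono (F.map S.f) :=
    (Functor.preservesFiniteLimits_tfae F).out 3 0
  exact e.1 h X hX

theorem right_exact_map {R R' : Type u} [CommRing R] [CommRing R']
    (F : ModuleCat.{u} R ⥤ ModuleCat.{u} R') [F.Additive] (h : PreservesFiniteColimits F)
    {X : ShortComplex (ModuleCat.{u} R)} (hX : X.ShortExact) :
    (X.map F).Exact ∧ Epi (F.map X.g) := by
  have e : PreservesFiniteColimits F ↔
      ∀ S : ShortComplex (ModuleCat.{u} R), S.ShortExact → (S.map F).Exact ∧ Epi (F.map S.g) :=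
    (Functor.preservesFiniteColimits_tfae F).out 3 0
  exact e.1 h X hX

section Transfer

variable {M N L M' N' L' : Type u} [AddCommGroup M] [Module A M] [AddCommGroup N] [Module A N]
  [AddCommGroup L] [Module A L] [AddCommGroup M'] [Module A M'] [AddCommGroup N'] [Module A N']
  [AddCommGroup L'] [Module A L']
  (f : M →ₗ[A] M') (g : N →ₗ[A] N') (h : L →ₗ[A] L')
  [IsLocalizedModule S f] [IsLocalizedModule S g] [IsLocalizedModule S h]

theorem transfer_injective (F : M →ₗ[A] N)
    (H : Function.Injective (IsLocalizedModule.map S f g F)) :
    Function.Injective (LocalizedModule.map S F) := by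
  intro x y hxy
  apply (IsLocalizedModule.iso S f).injective
  apply H
  have h1 := LinearMap.congr_fun (IsLocalizedModule.map_iso_commute S f g F) x
  have h2 := LinearMap.congr_fun (IsLocalizedModule.map_iso_commute S f g F) y
  exact h1.trans ((congrArg (IsLocalizedModule.iso S g) hxy).trans h2.symm)

theorem transfer_surjective (F : M →ₗ[A] N)
    (H : Function.Surjective (IsLocalizedModule.map S f g F)) :
    Function.Surjective (LocalizedModule.map S F) := by
  intro y
  obtain ⟨z, hz⟩ := H (IsLocalizedModule.iso S g y)
  obtain ⟨x, rfl⟩ := (IsLocalizedModule.iso S f).surjective z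
  refine ⟨x, (IsLocalizedModule.iso S g).injective ?_⟩
  exact (LinearMap.congr_fun (IsLocalizedModule.map_iso_commute S f g F) x).symm.trans hz

theorem transfer_exact (F : M →ₗ[A] N) (G : N →ₗ[A] L)
    (H : Function.Exact (IsLocalizedModule.map S f g F) (IsLocalizedModule.map S g h G)) :
    Function.Exact (LocalizedModule.map S F) (LocalizedModule.map S G) := by
  intro y
  have hG := LinearMap.congr_fun (IsLocalizedModule.map_iso_commute S g h G) y
  constructor
  · intro hy
    obtain ⟨z, hz⟩ := (H (IsLocalizedModule.iso S g y)).1
      (hG.trans ((congrArg (IsLocalizedModule.iso S h) hy).trans (map_zero _)))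
    obtain ⟨x, rfl⟩ := (IsLocalizedModule.iso S f).surjective z
    refine ⟨x, (IsLocalizedModule.iso S g).injective ?_⟩
    exact (LinearMap.congr_fun (IsLocalizedModule.map_iso_commute S f g F) x).symm.trans hz
  · rintro ⟨x, rfl⟩
    apply (IsLocalizedModule.iso S h).injective
    refine hG.symm.trans (((H _).2 ⟨IsLocalizedModule.iso S f x, ?_⟩).trans (map_zero _).symm)
    exact LinearMap.congr_fun (IsLocalizedModule.map_iso_commute S f g F) x

end Transfer

open CategoryTheory CategoryTheory.Limits in
/-- Let A be a commutative ring and T an additive A-linear endofunctor of the category of A-modules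
which preserves filtered colimits. For a maximal ideal m write T_m for T precomposed with
restriction of scalars along A → A_m (a functor from A_m-modules to A-modules). If T_m is left exact
for every maximal ideal m then T is left exact, and if T_m is right exact for every maximal ideal m
then T is right exact (exactness meaning preservation of finite limits, resp. finite colimits). -/
theorem result {A : Type u} [CommRing A]
    (T : ModuleCat.{u} A ⥤ ModuleCat.{u} A) [T.Additive] [T.Linear A]
    (hT : ∀ (J : Type u) [SmallCategory J] [IsFiltered J], PreservesColimitsOfShape J T) :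
    ((∀ (m : Ideal A) [m.IsMaximal],
        PreservesFiniteLimits (ModuleCat.restrictScalars (algebraMap A (Localization.AtPrime m)) ⋙ T)) →
      PreservesFiniteLimits T) ∧
    ((∀ (m : Ideal A) [m.IsMaximal],
        PreservesFiniteColimits (ModuleCat.restrictScalars (algebraMap A (Localization.AtPrime m)) ⋙ T)) →
      PreservesFiniteColimits T) := by
  have hloc : ∀ (m : Ideal A) [m.IsPrime] (M : ModuleCat.{u} A),
      IsLocalizedModule m.primeCompl (T.map (eta m.primeCompl M)).hom :=
    fun m _ M => isLocalizedModule_eta m.primeCompl T hT M
  have hex : ∀ (X : ShortComplex (ModuleCat.{u} A)),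
      (∀ (m : Ideal A) [m.IsMaximal], ((locComplex m.primeCompl X).map
        (ModuleCat.restrictScalars (algebraMap A (Localization.AtPrime m)) ⋙ T)).Exact) →
      (X.map T).Exact := by
    intro X h
    rw [ShortComplex.ShortExact.moduleCat_exact_iff_function_exact]
    refine exact_of_localized_maximal (T.map X.f).hom (T.map X.g).hom fun m _ => ?_
    haveI := hloc m X.X₁; haveI := hloc m X.X₂; haveI := hloc m X.X₃
    refine transfer_exact m.primeCompl (T.map (eta m.primeCompl X.X₁)).hom
      (T.map (eta m.primeCompl X.X₂)).hom (T.map (eta m.primeCompl X.X₃)).hom _ _ ?_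
    rw [map_eq, map_eq]
    exact (ShortComplex.ShortExact.moduleCat_exact_iff_function_exact _).1 (h m)
  constructor
  · intro h
    refine ((Functor.preservesFiniteLimits_tfae T).out 0 3).1 fun X hX => ?_
    have hm := fun (m : Ideal A) (_ : m.IsMaximal) =>
      left_exact_map (ModuleCat.restrictScalars (algebraMap A (Localization.AtPrime m)) ⋙ T) (h m)
        (locComplex_shortExact m.primeCompl hX)
    refine ⟨hex X fun m i => (hm m i).1, (ModuleCat.mono_iff_injective _).2 ?_⟩
    refine injective_of_localized_maximal (T.map X.f).hom fun m i => ?_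
    haveI := hloc m X.X₁; haveI := hloc m X.X₂
    refine transfer_injective m.primeCompl (T.map (eta m.primeCompl X.X₁)).hom
      (T.map (eta m.primeCompl X.X₂)).hom _ ?_
    rw [map_eq]
    exact (ModuleCat.mono_iff_injective _).1 (hm m i).2
  · intro h
    refine ((Functor.preservesFiniteColimits_tfae T).out 0 3).1 fun X hX => ?_
    have hm := fun (m : Ideal A) (_ : m.IsMaximal) =>
      right_exact_map (ModuleCat.restrictScalars (algebraMap A (Localization.AtPrime m)) ⋙ T) (h m)
        (locComplex_shortExact m.primeCompl hX)
    refine ⟨hex X fun m i => (hm m i).1, (ModuleCat.epi_iff_surjective _).2 ?_⟩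
    refine surjective_of_localized_maximal (T.map X.g).hom fun m i => ?_
    haveI := hloc m X.X₂; haveI := hloc m X.X₃
    refine transfer_surjective m.primeCompl (T.map (eta m.primeCompl X.X₂)).hom
      (T.map (eta m.primeCompl X.X₃)).hom _ ?_
    rw [map_eq]
    exact (ModuleCat.epi_iff_surjective _).1 (hm m i).2

end Groth.Agent.S4493
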