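import Groth.Statements.S4496
import Groth.Agent.Lib.FlatCx.ArtinLen

set_option autoImplicit false
universe u
open FlatCx

namespace Groth.Agent.S4496

open CategoryTheory CategoryTheory.Limits MonoidalCategory in
/-- For the homological functor T_p(M) = H_p(P ⊗_A M) of a chain complex P of flat modules over a
commutative ring A: T_p takes injections to injections and surjections to surjections if and only if
T_p is isomorphic to the functor M ↦ N ⊗_A M for some flat A-module N (which is then isomorphic to
T_p(A)). -/
theorem result {A : Type u} [CommRing A]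
    (P : ChainComplex (ModuleCat.{u} A) ℤ) (hP : ∀ i, Module.Flat A (P.X i)) (p : ℤ) :
    ((CohIII.TFun P p).PreservesMonomorphisms ∧ (CohIII.TFun P p).PreservesEpimorphisms) ↔
      ∃ N : ModuleCat.{u} A, Module.Flat A N ∧ Nonempty (CohIII.TFun P p ≅ tensorLeft N) := by
  haveI : ∀ i, Module.Flat A (P.X i) := hP
  constructor
  · rintro ⟨hm, he⟩
    refine ⟨ModuleCat.of A (LinearMap.ker (GrothLib.FlatCx.dBar P p)), ?_,
      ⟨GrothLib.FlatCx.TFunIsoTensor P p he⟩⟩
    haveI := GrothLib.FlatCx.flat_T_self P p hm he
    exact Module.Flat.of_linearEquiv (GrothLib.FlatCx.TUnitKerEquiv P p).symm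
  · rintro ⟨N, hN, ⟨e⟩⟩
    haveI := hN
    haveI : (MonoidalCategory.tensorLeft N).PreservesEpimorphisms :=
      (GrothLib.FlatCx.preservesEpi_iff_surjective _).2 fun M M' g hg =>
        LinearMap.lTensor_surjective N hg
    haveI : (MonoidalCategory.tensorLeft N).PreservesMonomorphisms :=
      (GrothLib.FlatCx.preservesMono_iff_injective _).2 fun M M' g hg =>
        Module.Flat.lTensor_preserves_injective_linearMap g.hom hg
    exact ⟨Functor.PreservesMonomorphisms.of_iso e.symm,
      Functor.PreservesEpimorphisms.of_iso e.symm⟩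

end Groth.Agent.S4496
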