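import Groth.Statements.S4499
import Groth.Agent.Lib.Tor1Ker.Basic


set_option autoImplicit false
universe u
attribute [local instance] HasDerivedCategory.standard
open FlatCx

namespace Groth.Agent.S4499

theorem nonempty_quot_equiv {R M M' T : Type*} [CommRing R] [AddCommGroup M] [Module R M] [AddCommGroup M']
    [Module R M'] [AddCommGroup T] [Module R T] (g : M →ₗ[R] M') (hg : Function.Surjective g) (p : Submodule R M)
    (hp : p = LinearMap.ker g) (c : T ≃ₗ[R] M') : Nonempty ((M ⧸ p) ≃ₗ[R] T) :=
  ⟨(Submodule.quotEquivOfEq _ _ hp).trans ((LinearMap.quotKerEquivOfSurjective g hg).trans c.symm)⟩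

/-- Let A be a Noetherian local ring with residue field k, and d : P₁ → P₀ an A-linear map between flat
A-modules, viewed as a two-term chain complex, so that H₁ = Ker d, H₀ = Coker d and H₁ of the
complex tensored with k is Ker(d ⊗ 1_k). Let α : (Ker d) ⊗_A k → P₁ ⊗_A k be the map induced by the
inclusion Ker d → P₁; its image lies in Ker(d ⊗ 1_k). Then there is an exact sequence 0 →
Tor₂^A(Coker d, k) → (Ker d) ⊗_A k → Ker(d ⊗ 1_k) → Tor₁^A(Coker d, k) → 0 with middle map α, stated
here as: Ker α is isomorphic to Tor₂^A(Coker d, k), and the quotient of Ker(d ⊗ 1_k) by the image of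
α is isomorphic to Tor₁^A(Coker d, k) (existence of A-linear isomorphisms only; Tor is Mathlib's,
left derived in the second variable). (In the published statement the cokernel is printed without
its prime, as the module of 0-cycles; the proof is about the cokernel of d.) -/
theorem result {A : Type u} [CommRing A] [IsNoetherianRing A]
    [IsLocalRing A] {P₁ P₀ : Type u} [AddCommGroup P₁] [Module A P₁] [AddCommGroup P₀] [Module A P₀]
    [Module.Flat A P₁] [Module.Flat A P₀] (d : P₁ →ₗ[A] P₀) :
    Nonempty (LinearMap.ker ((LinearMap.ker d).subtype.rTensor (IsLocalRing.ResidueField A)) ≃ₗ[A]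
        DRing.Tor A 2 (P₀ ⧸ LinearMap.range d) (IsLocalRing.ResidueField A)) ∧
      LinearMap.range ((LinearMap.ker d).subtype.rTensor (IsLocalRing.ResidueField A)) ≤
        LinearMap.ker (d.rTensor (IsLocalRing.ResidueField A)) ∧
      Nonempty ((↥(LinearMap.ker (d.rTensor (IsLocalRing.ResidueField A))) ⧸
          Submodule.comap (LinearMap.ker (d.rTensor (IsLocalRing.ResidueField A))).subtype
            (LinearMap.range ((LinearMap.ker d).subtype.rTensor (IsLocalRing.ResidueField A)))) ≃ₗ[A]
        DRing.Tor A 1 (P₀ ⧸ LinearMap.range d) (IsLocalRing.ResidueField A)) := by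
  let k := IsLocalRing.ResidueField A
  have hd : (LinearMap.range d).subtype ∘ₗ d.rangeRestrict = d := rfl
  have he1 : Function.Exact (LinearMap.ker d).subtype d.rangeRestrict :=
    LinearMap.exact_iff.2 (by rw [LinearMap.ker_rangeRestrict, Submodule.range_subtype])
  obtain ⟨a⟩ := GrothLib.Tor1Ker.nonempty_tor_succ_equiv (LinearMap.range d).subtype (Submodule.mkQ _)
    Subtype.val_injective (LinearMap.exact_subtype_mkQ _) (Submodule.mkQ_surjective _) k 0
  obtain ⟨b⟩ := GrothLib.Tor1Ker.nonempty_tor_one_equiv_ker (LinearMap.ker d).subtype d.rangeRestrict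
    Subtype.val_injective he1 d.surjective_rangeRestrict k
  obtain ⟨c⟩ := GrothLib.Tor1Ker.nonempty_tor_one_equiv_ker (LinearMap.range d).subtype (Submodule.mkQ _)
    Subtype.val_injective (LinearMap.exact_subtype_mkQ _) (Submodule.mkQ_surjective _) k
  have hex := rTensor_exact k he1 d.surjective_rangeRestrict
  have hcomp : ∀ x, (LinearMap.range d).subtype.rTensor k (d.rangeRestrict.rTensor k x) = d.rTensor k x :=
    fun x => by rw [← LinearMap.rTensor_comp_apply, hd]
  refine ⟨⟨(a ≪≫ₗ b).symm⟩, ?_, ?_⟩
  · rintro _ ⟨y, rfl⟩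
    rw [LinearMap.mem_ker, ← hcomp, hex.apply_apply_eq_zero, map_zero]
  · let g : LinearMap.ker (d.rTensor k) →ₗ[A] LinearMap.ker ((LinearMap.range d).subtype.rTensor k) :=
      (d.rangeRestrict.rTensor k).restrict fun x hx => by
        rw [LinearMap.mem_ker, hcomp]; exact hx
    have hg : Function.Surjective g := fun z => by
      obtain ⟨x, hx⟩ := LinearMap.rTensor_surjective k d.surjective_rangeRestrict z.1
      exact ⟨⟨x, by rw [LinearMap.mem_ker, ← hcomp, hx]; exact z.2⟩, Subtype.ext hx⟩
    have hker : Submodule.comap (LinearMap.ker (d.rTensor k)).subtype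
        (LinearMap.range ((LinearMap.ker d).subtype.rTensor k)) = LinearMap.ker g := by
      ext x
      rw [Submodule.mem_comap, LinearMap.mem_ker]
      refine (hex x.1).symm.trans ?_
      exact (Submodule.coe_eq_zero (x := g x))
    exact nonempty_quot_equiv (M' := ↥(LinearMap.ker ((LinearMap.range d).subtype.rTensor k))) g hg _ hker c

end Groth.Agent.S4499
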