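import Groth.Statements.S4501
import Groth.Agent.Lib.FlatCx.Coker
import Mathlib.RingTheory.Flat.FaithfullyFlat.Basic
import Mathlib.RingTheory.Spectrum.Prime.FreeLocus
import Mathlib.RingTheory.Localization.AtPrime.Basic

set_option autoImplicit false
universe u
open FlatCx

namespace Groth.Agent.S4501

open CategoryTheory CategoryTheory.Limits in
/-- The case of finitely generated flat terms. Let A be a Noetherian domain, P a chain complex of
finitely generated flat A-modules, and for a prime y of A let P_y be the base change of P to the
local ring A_y. Then the set U of points y of Spec A such that the functor N ↦ H_p(P_y ⊗_{A_y} N) on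
A_y-modules takes injections to injections and surjections to surjections is open and nonempty (it
contains the generic point). -/
theorem result {A : Type u} [CommRing A] [IsNoetherianRing A] [IsDomain A]
    (P : ChainComplex (ModuleCat.{u} A) ℤ) (hP : ∀ i, Module.Finite A (P.X i) ∧ Module.Flat A (P.X i))
    (p : ℤ) :
    IsOpen {y : PrimeSpectrum A |
        (CohIII.TFun (CohIII.bcCx (algebraMap A (Localization.AtPrime y.asIdeal)) P) p).PreservesMonomorphisms ∧
          (CohIII.TFun (CohIII.bcCx (algebraMap A (Localization.AtPrime y.asIdeal)) P) p).PreservesEpimorphisms} ∧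
      {y : PrimeSpectrum A |
        (CohIII.TFun (CohIII.bcCx (algebraMap A (Localization.AtPrime y.asIdeal)) P) p).PreservesMonomorphisms ∧
          (CohIII.TFun (CohIII.bcCx (algebraMap A (Localization.AtPrime y.asIdeal)) P) p).PreservesEpimorphisms}.Nonempty := by
  haveI : ∀ i, Module.Flat A (P.X i) := fun i => (hP i).2
  haveI : ∀ i, Module.Finite A (P.X i) := fun i => (hP i).1
  haveI := Module.finitePresentation_of_finite A
    (P.X ((ComplexShape.down ℤ).next p) ⧸ LinearMap.range (P.d p ((ComplexShape.down ℤ).next p)).hom)
  haveI := Module.finitePresentation_of_finite A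
    (P.X p ⧸ LinearMap.range (P.d ((ComplexShape.down ℤ).prev p) p).hom)
  simp only [GrothLib.FlatCx.preservesEpi_bcCx_iff P p, GrothLib.FlatCx.preservesMono_bcCx_iff P p,
    Set.setOf_and, GrothLib.FlatCx.setOf_flat_localization_eq_freeLocus]
  haveI : (⊥ : Ideal A).IsPrime := Ideal.isPrime_bot
  have hmem : ∀ (M : Type u) [AddCommGroup M] [Module A M],
      (⟨⊥, inferInstance⟩ : PrimeSpectrum A) ∈ Module.freeLocus A M := by
    intro M _ _
    haveI : IsFractionRing A (Localization.AtPrime (⊥ : Ideal A)) := by
      have h : (⊥ : Ideal A).primeCompl = nonZeroDivisors A := by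
        ext x; simp [Ideal.primeCompl, mem_nonZeroDivisors_iff_ne_zero]
      show IsLocalization (nonZeroDivisors A) (Localization.AtPrime (⊥ : Ideal A))
      rw [← h]
      exact Localization.isLocalization
    letI := (IsFractionRing.toField A (K := Localization.AtPrime (⊥ : Ideal A)))
    rw [Module.mem_freeLocus_iff_tensor _ (Localization.AtPrime (⊥ : Ideal A))]
    exact Module.Free.of_divisionRing _ _
  exact ⟨Module.isOpen_freeLocus.inter Module.isOpen_freeLocus, ⟨_, hmem _, hmem _⟩⟩

end Groth.Agent.S4501
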