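import Groth.Statements.S4506
import Groth.Agent.Lib.BCCoh.Bridge
import Groth.Agent.S4490

set_option autoImplicit false
universe u
attribute [local instance] HasDerivedCategory.standard
open Coherent

namespace Groth.Agent.S4506

open AlgebraicGeometry CategoryTheory in
/-- (a) ⇔ (c) (local criterion for the exchange property), for a complex reduced to one sheaf over a
local base. Let A be a Noetherian local ring with maximal ideal m and residue field k, X a proper
A-scheme with structure morphism f, F a coherent O_X-module flat over Spec A, and T^p(M) = H^p(X,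
f^*(M~) ⊗ F). Then T^p takes surjections to surjections if and only if, for every n, the map
T^p(A/m^(n+1)) → T^p(A/m) induced by the projection A/m^(n+1) → A/m = k is surjective. -/
theorem result (A : Type u) [CommRing A]
    [IsNoetherianRing A] [IsLocalRing A] (X : Scheme.{u}) [X.Over (Spec (CommRingCat.of A))]
    [IsProper (X ↘ Spec (CommRingCat.of A))] (F : X.Modules) (hF : Coh.IsCoh F)
    (hfl : FlatMod.IsFlatOver (X ↘ Spec (CommRingCat.of A)) F) (p : ℕ) :
    (CohIII.tensorAFunctor A F ⋙ CohIII.HAb X p).PreservesEpimorphisms ↔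
      ∀ n : ℕ, Function.Surjective ((CohIII.tensorAFunctor A F ⋙ CohIII.HAb X p).map (ModuleCat.ofHom
        (Ideal.Quotient.factorₐ A (Ideal.pow_le_self (I := IsLocalRing.maximalIdeal A)
          (Nat.succ_ne_zero n))).toLinearMap :
        ModuleCat.of A (A ⧸ IsLocalRing.maximalIdeal A ^ (n + 1)) ⟶
          ModuleCat.of A (A ⧸ IsLocalRing.maximalIdeal A))).hom := by
  obtain ⟨m⟩ := GrothLib.BCCoh.nonempty_model (X ↘ Spec (CommRingCat.of A)) F hF hfl
  let L' := GrothLib.BCCoh.chn m.L
  let e := GrothLib.BCCoh.chT m.L (-(p : ℤ)) p (neg_neg _)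
  have h4 := Groth.Agent.S4490.result L' m.finite_flat_chn (-(p : ℤ))
  have hs : ∀ {M N : ModuleCat.{u} A} (g : M ⟶ N),
      Function.Surjective ((CohIII.TFun L' (-(p : ℤ))).map g).hom ↔
        Function.Surjective ((CohIII.tensorAFunctor A F ⋙ CohIII.HAb X p).map g).hom := fun {M N} g => by
    rw [m.surjective_map_iff hF.1 p g, ← ModuleCat.epi_iff_surjective, ← ModuleCat.epi_iff_surjective]
    exact (MorphismProperty.epimorphisms (ModuleCat.{u} A)).arrow_mk_iso_iff
      (Arrow.isoMk (e.app M) (e.app N) (e.hom.naturality g).symm)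
  rw [m.preservesEpi_iff hF.1 p, ← Functor.preservesEpimorphisms.iso_iff e]
  constructor
  · intro h n
    rw [← hs]
    exact (GrothLib.FlatCx.preservesEpi_iff_surjective _).1 h _ _ _ (Ideal.Quotient.factor_surjective (Ideal.pow_le_self (Nat.succ_ne_zero n)))
  · intro h
    exact h4.2.2 ⟨0, fun n _ => (hs _).2 (h n)⟩

end Groth.Agent.S4506
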