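import Groth.Statements.S4510
import Groth.Agent.Lib.BCCoh.CohFlatZero
import Groth.Agent.Lib.AssPts.Flat
import Groth.Agent.Lib.HomSh.Coherent

set_option autoImplicit false
universe u
attribute [local instance] HasDerivedCategory.standard
open Coherent

namespace Groth.Agent.S4510

open AlgebraicGeometry CategoryTheory CategoryTheory.Limits in
/-- Over a local base (so that the point y is the closed point and cohomological flatness at y is
exactness of T^A_0). Let A be a Noetherian local ring with maximal ideal m, X a proper and flat
A-scheme with structure morphism f, y the closed point of Spec A (the point whose prime ideal is m),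
and suppose that the ring of global functions Γ(X_y, O_{X_y}) of the closed fibre is an étale
k(y)-algebra (a finite product of finite separable extensions of k(y)). Then O_X is cohomologically
flat over Spec A in degree 0: the functor M ↦ H^0(X, f^*(M~) ⊗ O_X) of the A-module M takes
injections to injections and surjections to surjections. -/
theorem result (A : Type u) [CommRing A]
    [IsNoetherianRing A] [IsLocalRing A] (X : Scheme.{u}) [X.Over (Spec (CommRingCat.of A))]
    [IsProper (X ↘ Spec (CommRingCat.of A))] [Flat (X ↘ Spec (CommRingCat.of A))]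
    (y : ↥(Spec (CommRingCat.of A))) (hy : y.asIdeal = IsLocalRing.maximalIdeal A)
    (het : Algebra.Etale ((Spec (CommRingCat.of A)).residueField y)
      Γ((X ↘ Spec (CommRingCat.of A)).fiber y, ⊤)) :
    (CohIII.tensorAFunctor A (Coh.structureModule X) ⋙ CohIII.HAb X 0).PreservesMonomorphisms ∧
      (CohIII.tensorAFunctor A (Coh.structureModule X) ⋙ CohIII.HAb X 0).PreservesEpimorphisms := by
  let f := X ↘ Spec (CommRingCat.of A)
  have hy' : y.asIdeal.IsMaximal := hy ▸ IsLocalRing.maximalIdeal.isMaximal A
  obtain ⟨ψ, hψ, hψy⟩ := GrothLib.BCCoh.exists_residue_hom y hy'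
  haveI : IsLocallyNoetherian X := LocallyOfFiniteType.isLocallyNoetherian f
  have hO : Coh.IsCoh (Coh.structureModule X) := GrothLib.HomSh.isCoh_structureModule X
  have hfl : FlatMod.IsFlatOver f (Coh.structureModule X) := fun x => GrothLib.AssPts.isFlatOverAt_structure f x
  obtain ⟨m⟩ := GrothLib.BCCoh.nonempty_model f _ hO hfl
  haveI := hO.1
  haveI := m.flatL
  haveI := fun i => (m.finFree i).1
  have H : IsPullback (f.fiberι y) (f.fiberToSpecResidueField y) f (Spec.map (CommRingCat.ofHom ψ.hom)) := by
    have h0 : IsPullback (f.fiberι y) (f.fiberToSpecResidueField y) f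
        ((Spec (CommRingCat.of A)).fromSpecResidueField y) := IsPullback.of_hasPullback _ _
    rwa [← hψy] at h0
  have hepi := m.preservesEpi_zero_of_etale hO.1 ψ.hom hψ (f.fiberToSpecResidueField y) (f.fiberι y) H
    (by
      convert! het using 1
      exact Algebra.algebra_ext _ _ fun r => by
        show (f.fiberToSpecResidueField y).appLE ⊤ ⊤ le_top _ = (f.fiberToSpecResidueField y).appTop _
        simp [Scheme.Hom.appTop, Scheme.Hom.app_eq_appLE]
        rfl)
  have hmono : (CohIII.TFun m.L ((0 : ℕ) : ℤ)).PreservesMonomorphisms :=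
    (GrothLib.BCCoh.preservesMono_iff_preservesEpi_pred m.L (i := -1) (by simp)).2
      (GrothLib.BCCoh.preservesEpi_of_isZero (fun M => m.isZero_T_neg (by norm_num) M))
  obtain ⟨e, -, hnat⟩ := m.exists_equiv 0
  let i : CohIII.TFun m.L ((0 : ℕ) : ℤ) ⋙ forget₂ (ModuleCat.{u} A) AddCommGrpCat.{u} ≅
      CohIII.tensorAFunctor A (Coh.structureModule X) ⋙ CohIII.HAb X 0 :=
    NatIso.ofComponents (fun M => AddEquiv.toAddCommGrpIso (e M))
      fun {M N} g => AddCommGrpCat.hom_ext (AddMonoidHom.ext fun x => hnat g x)
  haveI := hepi
  haveI := hmono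
  exact ⟨(Functor.preservesMonomorphisms.iso_iff i).1 inferInstance,
    (Functor.preservesEpimorphisms.iso_iff i).1 inferInstance⟩

end Groth.Agent.S4510
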