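import Groth.Statements.S4511
import Groth.Agent.Lib.Cohen.Structure
import Groth.Agent.Lib.RegLoc.PowerSeries
import Groth.Agent.Lib.RegLoc.Basic

set_option autoImplicit false
universe u
open EGA41

namespace Groth.Agent.S4511

open IsLocalRing in
theorem aux_ker (A : Type u) [CommRing A] [IsLocalRing A] [IsNoetherianRing A]
    [IsAdicComplete (maximalIdeal A) A] (k₀ : Type u) [Field k₀] [Algebra k₀ A] :
    ∃ (K : Type u) (_ : Field K) (n : ℕ) (f : MvPowerSeries (Fin n) K →+* A),
      Function.Surjective f ∧ RingHom.ker f ≤ maximalIdeal (MvPowerSeries (Fin n) K) ^ 2 := by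
  obtain ⟨s, hs⟩ := GrothLib.CoeffField.exists_coefficientField k₀ A
  obtain ⟨b, hb⟩ := GrothLib.RegLoc.exists_generators_fin (maximalIdeal A)
  letI : Algebra (ResidueField A) A := s.toAlgebra
  obtain ⟨ψ, hψ⟩ := GrothLib.RegLoc.PS.exists_algHom (A := ResidueField A) (maximalIdeal A) b
    (fun i => hb ▸ Ideal.subset_span ⟨i, rfl⟩)
  have hsp : Ideal.span (Set.range fun i => ψ (MvPowerSeries.X i)) = maximalIdeal A := by
    rw [funext hψ, hb]
  have hR : Function.Surjective ((residue A).comp (algebraMap (ResidueField A) A)) := by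
    rw [RingHom.algebraMap_toAlgebra, hs]; exact Function.surjective_id
  have hsurj := GrothLib.RegLoc.PS.surjective hR ψ hsp
  refine ⟨ResidueField A, inferInstance, _, ψ.toRingHom, hsurj, fun x hx => ?_⟩
  by_contra hx2
  have hxm : x ∈ maximalIdeal _ := le_maximalIdeal (RingHom.ker_ne_top ψ.toRingHom) hx
  obtain ⟨hreg, -, hrk⟩ := GrothLib.RegLoc.quotient_isRegularLocalRing hxm hx2
  haveI := hreg
  let g := Ideal.Quotient.lift (Ideal.span {x}) ψ.toRingHom
    (fun a ha => (Ideal.span_singleton_le_iff_mem _).2 hx ha)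
  have h1 := GrothLib.RegLoc.PS.map_maximalIdeal ψ hsp
  have h2 : ((maximalIdeal _).map (Ideal.Quotient.mk (Ideal.span {x}))).map g = maximalIdeal A := by
    rw [Ideal.map_map, Ideal.Quotient.lift_comp_mk]; exact h1
  obtain ⟨z, hz⟩ := GrothLib.RegLoc.exists_generators_fin
    ((maximalIdeal (MvPowerSeries (Fin (maximalIdeal A).spanFinrank) (ResidueField A))).map
      (Ideal.Quotient.mk (Ideal.span {x})))
  have h3 : Ideal.span (Set.range (g ∘ z)) = maximalIdeal A := by
    rw [Set.range_comp, ← Ideal.map_span, hz, h2]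
  have h4 := GrothLib.RegLoc.spanFinrank_le_of_span _ h3
  have h5 := GrothLib.RegLoc.spanFinrank_le_of_span _
    (GrothLib.RegLoc.PS.span_X (ResidueField A) (d := (maximalIdeal A).spanFinrank))
  omega

open IsLocalRing in
/-- Let A be a complete Noetherian local ring whose residue field has characteristic p (p = 0 allowed).
The following are equivalent: (a) A contains a field, i.e. there is a ring homomorphism from a field
into A; (b) p·1 = 0 in A; (c) A is isomorphic to a quotient of a power series ring K[[T_1, …, T_n]]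
over a field K. Moreover, when they hold, the surjection in (c) may be chosen with kernel contained
in the square of the maximal ideal of K[[T_1, …, T_n]]. -/
theorem result (A : Type u) [CommRing A] [IsLocalRing A] [IsNoetherianRing A]
    [IsAdicComplete (maximalIdeal A) A] (p : ℕ) [CharP (ResidueField A) p] :
    [∃ (K : Type u) (_ : Field K), Nonempty (K →+* A),
     (p : A) = 0,
     ∃ (K : Type u) (_ : Field K) (n : ℕ) (f : MvPowerSeries (Fin n) K →+* A), Function.Surjective f].TFAE ∧
    ((p : A) = 0 → ∃ (K : Type u) (_ : Field K) (n : ℕ) (f : MvPowerSeries (Fin n) K →+* A),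
      Function.Surjective f ∧ RingHom.ker f ≤ maximalIdeal (MvPowerSeries (Fin n) K) ^ 2) := by
  have hba : (p : A) = 0 → ∃ (K : Type u) (_ : Field K), Nonempty (K →+* A) := by
    intro hp0
    rcases CharP.char_is_prime_or_zero (ResidueField A) p with hp | rfl
    · haveI := Fact.mk hp
      exact ⟨ULift.{u} (ZMod p), inferInstance,
        ⟨(GrothLib.Cohen.zmodHom p A hp0).comp ULift.ringEquiv.toRingHom⟩⟩
    · haveI : CharZero (ResidueField A) := CharP.charP_to_charZero _
      obtain ⟨h⟩ := GrothLib.CoeffField.nonempty_algebra_rat A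
      exact ⟨ULift.{u} ℚ, inferInstance, ⟨h.algebraMap⟩⟩
  have hab : (∃ (K : Type u) (_ : Field K), Nonempty (K →+* A)) → (p : A) = 0 := by
    rintro ⟨K, _, ⟨φ⟩⟩
    have h : (p : K) = 0 := ((residue A).comp φ).injective (by
      rw [map_natCast, map_zero, CharP.cast_eq_zero])
    rw [← map_natCast φ, h, map_zero]
  have hbc : (p : A) = 0 → ∃ (K : Type u) (_ : Field K) (n : ℕ) (f : MvPowerSeries (Fin n) K →+* A),
      Function.Surjective f ∧ RingHom.ker f ≤ maximalIdeal (MvPowerSeries (Fin n) K) ^ 2 := fun h => by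
    obtain ⟨K, _, ⟨φ⟩⟩ := hba h
    letI := φ.toAlgebra
    exact aux_ker A K
  refine ⟨?_, hbc⟩
  tfae_have 1 → 2 := hab
  tfae_have 2 → 3 := fun h => by
    obtain ⟨K, i, n, f, hf, -⟩ := hbc h
    exact ⟨K, i, n, f, hf⟩
  tfae_have 3 → 1 := by
    rintro ⟨K, i, n, f, hf⟩
    exact ⟨K, i, ⟨f.comp MvPowerSeries.C⟩⟩
  tfae_finish

end Groth.Agent.S4511
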