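import Groth.Statements.S4513
import Groth.Agent.Lib.SepField.Smooth

set_option autoImplicit false
universe u
open EGA41

open GrothLib.PBasis

namespace Groth.Agent.S4513

open IsLocalRing in
/-- Let A be a Noetherian local ring and k a field mapping to A such that A is formally smooth over k
for the adic topology of its maximal ideal (k discrete). Then every field K with k → K → A
(compatible ring maps) is a separable extension of k, i.e. K is geometrically reduced over k. -/
theorem result {k A K : Type u} [Field k] [CommRing A]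
    [IsLocalRing A] [IsNoetherianRing A] [Algebra k A] (h : CAlgX.IsAdicFormallySmooth k A (maximalIdeal A))
    [Field K] [Algebra k K] [Algebra K A] [IsScalarTower k K A] :
    Algebra.IsGeometricallyReduced k K := by
  rw [GrothLib.SepField.isGeometricallyReduced_iff_injective_int, ← LinearMap.ker_eq_bot, eq_bot_iff]
  intro v hv
  refine (Module.forall_dual_apply_eq_zero_iff K v).1 fun φ => ?_
  let L := IsLocalRing.ResidueField A
  let ρ : A →+* L := IsLocalRing.residue A
  let D₀ : Derivation ℤ k K :=
    ((φ.restrictScalars k).comp ((TensorProduct.mk k K (Ω[k⁄ℤ])) 1)).compDer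
      (KaehlerDifferential.D ℤ k)
  let DL : k →+ L :=
    ((ρ.comp (algebraMap K A)).toAddMonoidHom).comp D₀.toLinearMap.toAddMonoidHom
  have hDL : ∀ a b, DL (a * b) =
      ρ (algebraMap k A a) • DL b + ρ (algebraMap k A b) • DL a := fun a b => by
    change ρ (algebraMap K A (D₀ (a * b))) = _
    rw [D₀.leibniz, Algebra.smul_def, Algebra.smul_def, map_add, map_mul, map_mul, map_add, map_mul,
      map_mul, ← IsScalarTower.algebraMap_apply, ← IsScalarTower.algebraMap_apply]
    rfl
  letI : Algebra k (SqExt L L) := (SqExt.ofDer (ρ.comp (algebraMap k A)) DL hDL).toAlgebra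
  let J : Ideal (SqExt L L) := RingHom.ker (SqExt.fstHom (B := L) (L := L))
  have hJ : J ^ 2 = ⊥ := by
    rw [pow_two, eq_bot_iff, Ideal.mul_le]
    intro a ha b hb
    rw [Ideal.mem_bot]
    change a.fst = 0 at ha
    change b.fst = 0 at hb
    ext <;> simp [ha, hb]
  let incl : L →+* SqExt L L := SqExt.ofDer (RingHom.id L) 0 (by simp)
  let ψ : A →ₐ[k] SqExt L L ⧸ J :=
    { ((Ideal.Quotient.mk J).comp incl).comp ρ with
      commutes' := fun c => by
        refine Ideal.Quotient.eq.2 (RingHom.mem_ker.2 ?_)
        change ρ (algebraMap k A c) - ρ (algebraMap k A c) = 0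
        exact sub_self _ }
  obtain ⟨χ, hχ⟩ := h (SqExt L L) J hJ ψ ⟨1, fun a ha => by
    rw [pow_one] at ha
    change Ideal.Quotient.mk J (incl (ρ a)) = 0
    rw [(IsLocalRing.residue_eq_zero_iff a).2 ha, map_zero, map_zero]⟩
  have hfst : ∀ a, (χ a).fst = ρ a := fun a => by
    have h1 := RingHom.mem_ker.1 (Ideal.Quotient.eq.1 (AlgHom.congr_fun hχ a))
    change (χ a).fst - ρ a = 0 at h1
    exact sub_eq_zero.1 h1
  have hKL : ∀ x : K, algebraMap K L x = ρ (algebraMap K A x) := fun x => rfl
  let D' : Derivation ℤ K L := Derivation.mk'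
    (AddMonoidHom.toIntLinearMap
      { toFun := fun x => (χ (algebraMap K A x)).snd
        map_zero' := by simp
        map_add' := fun a b => by simp })
    (fun a b => by
      simp [hfst, Algebra.smul_def, hKL])
  have hD' : ∀ c : k, D' (algebraMap k K c) = ρ (algebraMap K A (D₀ c)) := fun c => by
    change (χ (algebraMap K A (algebraMap k K c))).snd = _
    rw [← IsScalarTower.algebraMap_apply, χ.commutes]
    rfl
  let ι : K →ₗ[K] L := Algebra.linearMap K L
  have hfac : ι ∘ₗ φ = D'.liftKaehlerDifferential ∘ₗ KaehlerDifferential.mapBaseChange ℤ k K := by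
    refine TensorProduct.AlgebraTensorModule.ext fun c ω => ?_
    suffices h : ι (φ ((1 : K) ⊗ₜ[k] ω)) =
        D'.liftKaehlerDifferential (KaehlerDifferential.mapBaseChange ℤ k K (1 ⊗ₜ[k] ω)) by
      rw [show c ⊗ₜ[k] ω = c • ((1 : K) ⊗ₜ[k] ω) by rw [TensorProduct.smul_tmul', smul_eq_mul, mul_one],
        LinearMap.comp_apply, LinearMap.comp_apply, map_smul, map_smul, h, map_smul, map_smul]
    induction (KaehlerDifferential.span_range_derivation ℤ k ▸ Submodule.mem_top :
        ω ∈ Submodule.span k (Set.range (KaehlerDifferential.D ℤ k))) using Submodule.span_induction with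
    | mem y hy =>
        obtain ⟨a, rfl⟩ := hy
        rw [KaehlerDifferential.mapBaseChange_tmul, one_smul, KaehlerDifferential.map_D,
          Derivation.liftKaehlerDifferential_comp_D, hD']
        rfl
    | zero => simp
    | add a b _ _ ha hb => simp only [TensorProduct.tmul_add, map_add, ha, hb]
    | smul r a _ ha =>
        rw [TensorProduct.tmul_smul, ← algebraMap_smul K r, map_smul, map_smul, ha, map_smul,
          map_smul]
  have h0 := LinearMap.congr_fun hfac v
  rw [LinearMap.comp_apply, LinearMap.comp_apply, LinearMap.mem_ker.1 hv, map_zero] at h0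
  exact (algebraMap K L).injective (h0.trans (map_zero _).symm)

end Groth.Agent.S4513
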