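import Groth.Statements.S4514
import Groth.Agent.Lib.FibLift5.Basic

set_option autoImplicit false
universe u
open EGA41

namespace Groth.Agent.S4514

open IsLocalRing TensorProduct in
/-- Let A be a Noetherian local ring with residue field k, and let B₀ be a k-algebra which is a complete
regular local ring. Then there exist a complete Noetherian local ring B and a local homomorphism A →
B making B a flat A-module, such that B₀ is k-isomorphic to k ⊗_A B = B/𝔪B. -/
theorem result {A : Type u} [CommRing A] [IsLocalRing A] [IsNoetherianRing A]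
    (B₀ : Type u) [CommRing B₀] [IsRegularLocalRing B₀] [IsAdicComplete (maximalIdeal B₀) B₀]
    [Algebra (ResidueField A) B₀] :
    ∃ (B : Type u) (_ : CommRing B) (_ : IsLocalRing B) (_ : IsNoetherianRing B) (_ : Algebra A B)
      (_ : IsLocalHom (algebraMap A B)),
      IsAdicComplete (maximalIdeal B) B ∧ Module.Flat A B ∧
        Nonempty (ResidueField A ⊗[A] B ≃ₐ[ResidueField A] B₀) := by
  obtain ⟨C, _, _, _, _, _, π, hc, hflat, hπs, hπk, hπc⟩ := GrothLib.FibLift5.exists_lift_regular (A := A) B₀
  let e1 : (C ⧸ (maximalIdeal A).map (algebraMap A C)) ≃+* B₀ :=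
    (Ideal.quotEquivOfEq hπk.symm).trans (RingHom.quotientKerEquivOfSurjective hπs)
  let e0 : (C ⧸ (maximalIdeal A).map (algebraMap A C)) ≃ₐ[A ⧸ maximalIdeal A] (A ⧸ maximalIdeal A) ⊗[A] C :=
    Algebra.TensorProduct.quotIdealMapEquivQuotTensor C (maximalIdeal A)
  refine ⟨C, inferInstance, inferInstance, inferInstance, inferInstance, inferInstance, hc, hflat,
    ⟨AlgEquiv.ofRingEquiv (f := e0.symm.toRingEquiv.trans e1) fun x => ?_⟩⟩
  obtain ⟨a, rfl⟩ := IsLocalRing.residue_surjective x
  show e1 (e0.symm (algebraMap (ResidueField A) (ResidueField A ⊗[A] C) (residue A a))) = _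
  rw [show e0.symm (algebraMap (ResidueField A) (ResidueField A ⊗[A] C) (residue A a)) =
      Ideal.Quotient.mk _ (algebraMap A C a) from e0.symm.commutes _]
  exact RingHom.congr_fun hπc a

end Groth.Agent.S4514
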