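import Groth.Statements.S4515
import Mathlib.RingTheory.Flat.EquationalCriterion
import Mathlib.RingTheory.AdicCompletion.Basic

set_option autoImplicit false
universe u
open EGA41

namespace Groth.Agent.S4515

/-- Let A be a ring, J an ideal of A, and M, N two A-modules which are Hausdorff for the J-adic
topology; suppose moreover that N is J-adically complete and M is flat. Let u : N → M be A-linear.
If the induced map N/JN → M/JM is bijective (surjectivity and injectivity written out below), then u
is bijective. -/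
theorem result {A : Type u} [CommRing A] (J : Ideal A)
    {M N : Type u} [AddCommGroup M] [Module A M] [AddCommGroup N] [Module A N]
    [IsHausdorff J M] [IsAdicComplete J N] [Module.Flat A M] (u : N →ₗ[A] M)
    (hsurj : ∀ m : M, ∃ n : N, m - u n ∈ (J • ⊤ : Submodule A M))
    (hinj : ∀ n : N, u n ∈ (J • ⊤ : Submodule A M) → n ∈ (J • ⊤ : Submodule A N)) :
    Function.Bijective u := by
  classical
  -- elements of `J^k M` as finite combinations
  have expand : ∀ {Q : Type u} [AddCommGroup Q] [Module A Q] (K : Ideal A) (x : Q),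
      x ∈ K • (⊤ : Submodule A Q) → ∃ (ι : Type u) (_ : Fintype ι) (a : ι → A) (y : ι → Q),
        (∀ i, a i ∈ K) ∧ x = ∑ i, a i • y i := by
    intro Q _ _ K x hx
    induction hx using Submodule.smul_induction_on' with
    | smul r hr n _ => exact ⟨PUnit, inferInstance, fun _ => r, fun _ => n, fun _ => hr, by simp⟩
    | add x _ y _ hx hy =>
      obtain ⟨ι, _, a, v, ha, rfl⟩ := hx
      obtain ⟨κ, _, b, w, hb, rfl⟩ := hy
      exact ⟨ι ⊕ κ, inferInstance, Sum.elim a b, Sum.elim v w, fun i => by cases i <;> simp [ha, hb],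
        by simp⟩
  have step : ∀ k n, n ∈ (J ^ k • ⊤ : Submodule A N) → u n ∈ (J ^ (k + 1) • ⊤ : Submodule A M) →
      n ∈ (J ^ (k + 1) • ⊤ : Submodule A N) := by
    intro k n hn hun
    obtain ⟨ι, _, a, x, ha, rfl⟩ := expand _ n hn
    obtain ⟨κ, _, b, m, hb, hm⟩ := expand _ _ hun
    rw [map_sum] at hm
    simp only [map_smul] at hm
    have hrel : ∑ s : ι ⊕ κ, Sum.elim a b s • Sum.elim (fun i => u (x i)) (fun j => -m j) s = 0 := by
      simp [hm]
    obtain ⟨r, C, z, hz, hC⟩ := Module.Flat.isTrivialRelation_of_sum_smul_eq_zero hrel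
    choose w hw using fun l => hsurj (z l)
    have hx : ∀ i, x i - ∑ l, C (Sum.inl i) l • w l ∈ (J • ⊤ : Submodule A N) := fun i => hinj _ (by
      rw [map_sub, map_sum, show u (x i) = ∑ l, C (Sum.inl i) l • z l from hz (Sum.inl i),
        ← Finset.sum_sub_distrib]
      refine Submodule.sum_mem _ fun l _ => ?_
      rw [map_smul, ← smul_sub]
      exact Submodule.smul_mem _ _ (hw l))
    have h1 : ∑ i, a i • x i = ∑ i, a i • (x i - ∑ l, C (Sum.inl i) l • w l) +
        ∑ l, (∑ i, a i * C (Sum.inl i) l) • w l := by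
      simp only [smul_sub, Finset.smul_sum, smul_smul, Finset.sum_sub_distrib, Finset.sum_smul]
      rw [Finset.sum_comm (f := fun l i => (a i * C (Sum.inl i) l) • w l)]
      abel
    rw [h1]
    refine add_mem (Submodule.sum_mem _ fun i _ => ?_) (Submodule.sum_mem _ fun l _ => ?_)
    · rw [pow_succ, Submodule.mul_smul]
      exact Submodule.smul_mem_smul (ha i) (hx i)
    · refine Submodule.smul_mem_smul ?_ Submodule.mem_top
      have := hC l
      rw [Fintype.sum_sum_type] at this
      simp only [Sum.elim_inl, Sum.elim_inr] at this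
      rw [eq_neg_of_add_eq_zero_left this]
      exact neg_mem (Submodule.sum_mem _ fun j _ => Ideal.mul_mem_right _ _ (hb j))
  have lift : ∀ k m, m ∈ (J ^ k • ⊤ : Submodule A M) →
      ∃ n ∈ (J ^ k • ⊤ : Submodule A N), m - u n ∈ (J ^ (k + 1) • ⊤ : Submodule A M) := by
    intro k m hm
    induction hm using Submodule.smul_induction_on' with
    | smul r hr x _ =>
      obtain ⟨w, hw⟩ := hsurj x
      refine ⟨r • w, Submodule.smul_mem_smul hr Submodule.mem_top, ?_⟩
      rw [map_smul, ← smul_sub, pow_succ, Submodule.mul_smul]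
      exact Submodule.smul_mem_smul hr hw
    | add x _ y _ hx hy =>
      obtain ⟨n, hn, hn'⟩ := hx
      obtain ⟨n', hn₂, hn₂'⟩ := hy
      refine ⟨n + n', add_mem hn hn₂, ?_⟩
      rw [map_add, add_sub_add_comm]
      exact add_mem hn' hn₂'
  refine ⟨(injective_iff_map_eq_zero u).2 fun n hn => ?_, fun m => ?_⟩
  · refine IsHausdorff.haus (inferInstance : IsHausdorff J N) n fun k => SModEq.zero.2 ?_
    induction k with
    | zero => simp
    | succ k ih => exact step k n ih (by rw [hn]; exact zero_mem _)
  · choose ν hν hν' using lift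
    let seq : ∀ k, {n : N // m - u n ∈ (J ^ k • ⊤ : Submodule A M)} := fun k =>
      Nat.rec ⟨0, by simp⟩ (fun k p => ⟨p.1 + ν k _ p.2, by
        rw [map_add, ← sub_sub]; exact hν' k _ p.2⟩) k
    have hs : ∀ k, (seq (k + 1)).1 - (seq k).1 ∈ (J ^ k • ⊤ : Submodule A N) := fun k => by
      change (seq k).1 + ν k _ (seq k).2 - (seq k).1 ∈ _
      rw [add_sub_cancel_left]
      exact hν k _ _
    have hc : ∀ {i j}, i ≤ j → (seq i).1 ≡ (seq j).1 [SMOD (J ^ i • ⊤ : Submodule A N)] := fun {i j} hij => by
      rw [SModEq.comm, SModEq.sub_mem]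
      induction j, hij using Nat.le_induction with
      | base => simp
      | succ j hj ih =>
        rw [← sub_add_sub_cancel (seq (j + 1)).1 (seq j).1 (seq i).1]
        exact add_mem (Submodule.smul_mono_left (Ideal.pow_le_pow_right hj) (hs j)) ih
    obtain ⟨L, hL⟩ := IsPrecomplete.prec (inferInstance : IsPrecomplete J N) hc
    refine ⟨L, (sub_eq_zero.1 (IsHausdorff.haus (inferInstance : IsHausdorff J M) (m - u L) fun k =>
      SModEq.zero.2 ?_)).symm⟩
    have h2 : (seq k).1 - L ∈ (J ^ k • ⊤ : Submodule A N) := SModEq.sub_mem.1 (hL k)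
    have h3 : u ((seq k).1 - L) ∈ (J ^ k • ⊤ : Submodule A M) := by
      have := Submodule.mem_map_of_mem (f := u) h2
      rw [Submodule.map_smul''] at this
      exact Submodule.smul_mono le_rfl le_top this
    rw [show m - u L = (m - u (seq k).1) + u ((seq k).1 - L) by rw [map_sub]; abel]
    exact add_mem (seq k).2 h3

end Groth.Agent.S4515
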