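import Groth.Statements.S4516
import Groth.Agent.Lib.PBasis.Radicial

set_option autoImplicit false
universe u
open EGA41

namespace Groth.Agent.S4516

/-- Let p be a prime, B an A-algebra of characteristic p and A' an A-subalgebra of B contained in
A[B^p]. Then the canonical map between Ω_{B/A} and Ω_{B/A'} is bijective (every A-derivation of B
vanishes on A[B^p]). -/
theorem result (p : ℕ) [Fact p.Prime] {A B : Type u}
    [CommRing A] [CommRing B] [Algebra A B] [CharP B p] (A' : Subalgebra A B)
    (hA' : A' ≤ EGA41.pPowerSubalgebra p A B) :
    Function.Bijective (KaehlerDifferential.map A A' B B) := by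
  exact GrothLib.PBasis.map_pPower_bijective (CharP.cast_eq_zero B p) A' hA'

end Groth.Agent.S4516
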