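import Groth.Statements.S4519
import Groth.Agent.Lib.PBasis.Radicial

set_option autoImplicit false
universe u
open EGA41

namespace Groth.Agent.S4519

/-- Let p be a prime, B a ring of characteristic p and A a subring of B with B^p ⊆ A (here: A → B
injective with every p-th power in its image; R → A → B with the image of R in B equal to the set of
p-th powers, so that R stands for B^p). If B admits a p-basis over A, then B is a formally smooth
A-algebra relative to R for the discrete topologies (square-zero liftings, as in the prelude's
relative notion). -/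
theorem result (p : ℕ) [Fact p.Prime] {R A B : Type u} [CommRing R] [CommRing A]
    [CommRing B] [Algebra R A] [Algebra A B] [Algebra R B] [IsScalarTower R A B] [CharP B p]
    (hinj : Function.Injective (algebraMap A B)) (hpow : ∀ b : B, b ^ p ∈ Set.range (algebraMap A B))
    (hR : Set.range (algebraMap R B) = Set.range fun b : B => b ^ p)
    {ι : Type u} (x : ι → B) (hx : EGA41.IsPBasis p A x) :
    EGA41.IsFormallySmoothRel R A B := by
  intro C _ _ _ _ J hJ u₀ ⟨w, hw⟩
  have h := GrothLib.PBasis.isRootBasis_base hinj hpow hx
  obtain ⟨v, hv⟩ := h.exists_lift (E := C) (fun i => w (x i)) (fun i a ha => by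
    obtain ⟨r, hr⟩ : x i ^ p ∈ Set.range (algebraMap R B) := hR ▸ ⟨x i, rfl⟩
    have hra : algebraMap R A r = a := hinj (by rw [← IsScalarTower.algebraMap_apply, hr, ha])
    change w (x i) ^ p = algebraMap A C a
    rw [← map_pow, ← hr, w.commutes, ← hra, ← IsScalarTower.algebraMap_apply])
  refine ⟨v, h.algHom_ext fun i => ?_⟩
  rw [AlgHom.comp_apply, hv i]
  exact AlgHom.congr_fun hw (x i)

end Groth.Agent.S4519
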