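import Groth.Statements.S4522
import Groth.Agent.Lib.PBasis.Field

set_option autoImplicit false
universe u
open EGA41

namespace Groth.Agent.S4522

/-- Let L be a field of characteristic p > 0 and K a subfield with L^p ⊆ K ⊆ L (here R → K → L with the
image of R in L the set of p-th powers and every p-th power of L in the image of K). Then the
canonical L-linear map L ⊗_K Ω_{K/L^p} → Ω_{L/L^p} is injective, so that 0 → Ω_{K/L^p} ⊗_K L →
Ω_{L/L^p} → Ω_{L/K} → 0 is exact: the imperfection module of L over K relative to L^p vanishes. -/
theorem result (p : ℕ) [Fact p.Prime] {R K L : Type u} [Field R] [Field K] [Field L]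
    [Algebra R K] [Algebra K L] [Algebra R L] [IsScalarTower R K L] [CharP L p]
    (hR : Set.range (algebraMap R L) = Set.range fun y : L => y ^ p)
    (hK : ∀ y : L, y ^ p ∈ Set.range (algebraMap K L)) :
    Function.Injective (KaehlerDifferential.mapBaseChange R K L) := by
  classical
  have h0 : (p : L) = 0 := CharP.cast_eq_zero L p
  obtain ⟨B, -, hB⟩ := GrothLib.PBasis.exists_pBasis_superset (p := p) (k := K) (K := L)
    (x := fun e : PEmpty.{u+1} => e.elim) (by
      rw [GrothLib.PBasis.isPIndependent_iff]; exact fun a => a.elim)
  have h := GrothLib.PBasis.isRootBasis_base (algebraMap K L).injective hK hB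
  let DR := KaehlerDifferential.D R K
  let D : K →+ TensorProduct K L (Ω[K⁄R]) :=
    { toFun := fun a => (1 : L) ⊗ₜ[K] DR a
      map_zero' := by simp
      map_add' := fun a b => by rw [map_add, TensorProduct.tmul_add] }
  have hDR : ∀ r : R, D (algebraMap R K r) = 0 := fun r => by simp [D, DR]
  obtain ⟨D', ⟨hD', -⟩, -⟩ := h.existsUnique_derivation h0 D
    (fun a b => by
      change (1 : L) ⊗ₜ[K] DR (a * b) = algebraMap K L a • ((1 : L) ⊗ₜ[K] DR b) +
        algebraMap K L b • ((1 : L) ⊗ₜ[K] DR a)
      rw [Derivation.leibniz, TensorProduct.tmul_add, algebraMap_smul, algebraMap_smul,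
        TensorProduct.tmul_smul, TensorProduct.tmul_smul])
    (fun i c hc => by
      obtain ⟨r, hr⟩ : (i : L) ^ p ∈ Set.range (algebraMap R L) := hR ▸ ⟨_, rfl⟩
      rw [← (algebraMap K L).injective (a₁ := algebraMap R K r) (a₂ := c)
        (by rw [← IsScalarTower.algebraMap_apply, hr, hc]), hDR])
    (fun _ => 0)
  have hR0 : ∀ r : R, D' (algebraMap R L r) = 0 := fun r => by
    rw [IsScalarTower.algebraMap_apply R K L, hD', hDR]
  let DL : Derivation R L (TensorProduct K L (Ω[K⁄R])) := Derivation.mk'
    { toFun := D'
      map_add' := map_add D'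
      map_smul' := fun r b => by
        rw [Algebra.smul_def, Derivation.leibniz, hR0, smul_zero, add_zero, RingHom.id_apply,
          algebraMap_smul] } (fun a b => D'.leibniz a b)
  refine Function.LeftInverse.injective (g := DL.liftKaehlerDifferential) fun z => ?_
  have key : ∀ w, DL.liftKaehlerDifferential (KaehlerDifferential.mapBaseChange R K L
      ((1 : L) ⊗ₜ[K] w)) = (1 : L) ⊗ₜ[K] w := by
    intro w
    induction (KaehlerDifferential.span_range_derivation R K ▸ Submodule.mem_top :
        w ∈ Submodule.span K (Set.range (KaehlerDifferential.D R K))) using Submodule.span_induction with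
    | mem y hy =>
        obtain ⟨a, rfl⟩ := hy
        rw [KaehlerDifferential.mapBaseChange_tmul, one_smul, KaehlerDifferential.map_D,
          Derivation.liftKaehlerDifferential_comp_D]
        exact hD' a
    | zero => simp
    | add y y' _ _ hy hy' => rw [TensorProduct.tmul_add, map_add, map_add, hy, hy']
    | smul r y _ hy =>
        rw [TensorProduct.tmul_smul, ← algebraMap_smul L r ((1 : L) ⊗ₜ[K] y), map_smul, map_smul, hy]
  induction z using TensorProduct.induction_on with
  | zero => simp
  | tmul l w =>
      rw [← mul_one l, ← smul_eq_mul, ← TensorProduct.smul_tmul', map_smul, map_smul, key]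
  | add a b ha hb => rw [map_add, map_add, ha, hb]

end Groth.Agent.S4522
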