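import Groth.Statements.S4523
import Groth.Agent.Lib.SepField.Smooth

set_option autoImplicit false
universe u
open EGA41

namespace Groth.Agent.S4523

/-- Let k ⊆ K be fields. Then K is a separable extension of k if and only if the imperfection module
Υ_{K/k} vanishes, i.e. the canonical map Ω_{k/ℤ} ⊗_k K → Ω_{K/ℤ} is injective, and if and only if
every derivation of k into K extends to a derivation of K into itself. (No hypothesis on the
characteristic.) -/
theorem result {k K : Type u} [Field k] [Field K] [Algebra k K] :
    (Algebra.IsGeometricallyReduced k K ↔ EGA41.imperfection ℤ k K = ⊥) ∧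
    (Algebra.IsGeometricallyReduced k K ↔
      ∀ D : Derivation ℤ k K, ∃ D' : Derivation ℤ K K, ∀ a : k, D' (algebraMap k K a) = D a) := by
  have h1 : EGA41.imperfection ℤ k K = ⊥ ↔
      Function.Injective (KaehlerDifferential.mapBaseChange ℤ k K) := LinearMap.ker_eq_bot
  refine ⟨GrothLib.SepField.isGeometricallyReduced_iff_injective_int.trans h1.symm,
    GrothLib.SepField.isGeometricallyReduced_iff_injective_int.trans ⟨fun hinj D => ?_, fun hext => ?_⟩⟩
  · obtain ⟨g, hg⟩ := LinearMap.exists_leftInverse_of_injective _ (LinearMap.ker_eq_bot.2 hinj)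
    refine ⟨((D.liftKaehlerDifferential.liftBaseChange K).comp g).compDer
      (KaehlerDifferential.D ℤ K), fun a => ?_⟩
    have e := LinearMap.congr_fun hg ((1 : K) ⊗ₜ[k] KaehlerDifferential.D ℤ k a)
    simp only [LinearMap.comp_apply, LinearMap.id_apply, KaehlerDifferential.mapBaseChange_tmul,
      one_smul, KaehlerDifferential.map_D] at e
    change (D.liftKaehlerDifferential.liftBaseChange K) (g (KaehlerDifferential.D ℤ K _)) = D a
    rw [e, LinearMap.liftBaseChange_tmul, one_smul, Derivation.liftKaehlerDifferential_comp_D]
  · rw [← LinearMap.ker_eq_bot, eq_bot_iff]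
    intro v hv
    refine (Module.forall_dual_apply_eq_zero_iff K v).1 fun φ => ?_
    let D : Derivation ℤ k K :=
      ((φ.restrictScalars k).comp ((TensorProduct.mk k K (Ω[k⁄ℤ])) 1)).compDer
        (KaehlerDifferential.D ℤ k)
    obtain ⟨D', hD'⟩ := hext D
    have hfac : φ = D'.liftKaehlerDifferential ∘ₗ KaehlerDifferential.mapBaseChange ℤ k K := by
      refine TensorProduct.AlgebraTensorModule.ext fun c ω => ?_
      suffices h : φ ((1 : K) ⊗ₜ[k] ω) =
          D'.liftKaehlerDifferential (KaehlerDifferential.mapBaseChange ℤ k K (1 ⊗ₜ[k] ω)) by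
        rw [show c ⊗ₜ[k] ω = c • ((1 : K) ⊗ₜ[k] ω) by rw [TensorProduct.smul_tmul', smul_eq_mul, mul_one],
          map_smul, h, map_smul]
        rfl
      induction (KaehlerDifferential.span_range_derivation ℤ k ▸ Submodule.mem_top :
          ω ∈ Submodule.span k (Set.range (KaehlerDifferential.D ℤ k))) using Submodule.span_induction with
      | mem y hy =>
          obtain ⟨a, rfl⟩ := hy
          rw [KaehlerDifferential.mapBaseChange_tmul, one_smul, KaehlerDifferential.map_D,
            Derivation.liftKaehlerDifferential_comp_D, hD']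
          rfl
      | zero => simp
      | add a b _ _ ha hb => simp only [TensorProduct.tmul_add, map_add, ha, hb]
      | smul r a _ ha =>
          rw [TensorProduct.tmul_smul, LinearMap.map_smul_of_tower, ha,
            LinearMap.map_smul_of_tower, LinearMap.map_smul_of_tower]
    rw [hfac, LinearMap.comp_apply, LinearMap.mem_ker.1 hv, map_zero]

end Groth.Agent.S4523
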