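import Groth.Statements.S4524
import Groth.Agent.Lib.SepField.Smooth
import Mathlib.RingTheory.MvPolynomial.Basic
import Mathlib.Algebra.MvPolynomial.PDeriv

set_option autoImplicit false
universe u
open EGA41

open scoped IntermediateField.algebraAdjoinAdjoin TensorProduct

namespace Groth.Agent.S4524

/-- Let k be a field of characteristic 0 and K an extension of k. Then Ω_{K/k} = 0 if and only if K is
an algebraic extension of k. -/
theorem result {k K : Type u} [Field k] [CharZero k] [Field K] [Algebra k K] :
    Subsingleton (Ω[K⁄k]) ↔ Algebra.IsAlgebraic k K := by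
  refine ⟨fun hsub => ?_, fun halg => ?_⟩
  · obtain ⟨s, hs⟩ := exists_isTranscendenceBasis k K
    rcases isEmpty_or_nonempty s with he | ⟨⟨i₀⟩⟩
    · exact hs.isEmpty_iff_isAlgebraic.1 he
    exfalso
    set v : s → K := Subtype.val
    haveI := hs.isAlgebraic_field
    haveI : Algebra.IsSeparable (IntermediateField.adjoin k (Set.range v)) K := inferInstance
    haveI : Algebra.FormallySmooth (Algebra.adjoin k (Set.range v))
        (IntermediateField.adjoin k (Set.range v)) := .of_isLocalization (nonZeroDivisors _)
    haveI : Algebra.FormallyEtale (IntermediateField.adjoin k (Set.range v)) K :=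
      Algebra.FormallyEtale.of_isSeparable _ K
    haveI : Algebra.FormallySmooth (Algebra.adjoin k (Set.range v)) K :=
      .comp _ (IntermediateField.adjoin k (Set.range v)) _
    have hinj := GrothLib.SepField.injective_mapBaseChange_of_formallySmooth k
      (Algebra.adjoin k (Set.range v)) K
    let e := hs.1.aevalEquiv
    have he : ∀ a, algebraMap (Algebra.adjoin k (Set.range v)) K a =
        MvPolynomial.aeval v (e.symm a) := fun a => by
      rw [← AlgebraicIndependent.algebraMap_aevalEquiv hs.1, AlgEquiv.apply_symm_apply]
    let d : Derivation k (Algebra.adjoin k (Set.range v)) K := Derivation.mk'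
      ((MvPolynomial.aeval v).toLinearMap ∘ₗ (MvPolynomial.pderiv i₀).toLinearMap ∘ₗ e.symm.toLinearMap)
      (fun a b => by
        simp only [LinearMap.comp_apply, AlgEquiv.toLinearMap_apply, map_mul,
          Derivation.coeFn_coe, Derivation.leibniz,
          AlgHom.toLinearMap_apply, map_add, smul_eq_mul, Algebra.smul_def, he, Algebra.algebraMap_self,
          RingHom.id_apply])
    let x : Algebra.adjoin k (Set.range v) := ⟨v i₀, Algebra.subset_adjoin ⟨i₀, rfl⟩⟩
    have h0 : ((1 : K) ⊗ₜ[Algebra.adjoin k (Set.range v)] KaehlerDifferential.D k _ x) = 0 :=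
      hinj (Subsingleton.elim _ _)
    have h1 := congrArg (d.liftKaehlerDifferential.liftBaseChange K) h0
    rw [LinearMap.liftBaseChange_tmul, one_smul, Derivation.liftKaehlerDifferential_comp_D,
      map_zero] at h1
    have hx : e.symm x = MvPolynomial.X i₀ := by
      rw [AlgEquiv.symm_apply_eq]
      refine Subtype.ext ?_
      refine Eq.trans ?_ (AlgebraicIndependent.algebraMap_aevalEquiv hs.1 _).symm
      simp [x]
    have h2 : d x = 1 := by
      change MvPolynomial.aeval v (MvPolynomial.pderiv i₀ (e.symm x)) = 1
      rw [hx, MvPolynomial.pderiv_X_self, map_one]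
    exact one_ne_zero (h2.symm.trans h1)
  · haveI : Algebra.IsSeparable k K := inferInstance
    haveI := Algebra.FormallyUnramified.of_isSeparable k K
    infer_instance

end Groth.Agent.S4524
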