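import Groth.Statements.S4526
import Groth.Agent.S4525
import Mathlib

set_option autoImplicit false
universe u
open EGA41

namespace Groth.Agent.S4526

/-- Let k ⊆ K ⊆ L be three fields with L an extension of finite type of k. Then Ω_{L/k} and Ω_{K/k} are
finite-dimensional and rank_L Ω_{L/k} − rank_K Ω_{K/k} ≥ trdeg_K L. (The published statement also
gives the exact value trdeg_K L + d(L/K, k) and an equality criterion; this row states only the
inequality.) -/
theorem result {k K L : Type u} [Field k] [Field K] [Field L]
    [Algebra k K] [Algebra K L] [Algebra k L] [IsScalarTower k K L] [Algebra.EssFiniteType k L] :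
    Module.Finite L (Ω[L⁄k]) ∧ Module.Finite K (Ω[K⁄k]) ∧
      (Cardinal.toNat (Algebra.trdeg K L) : ℤ) ≤ (Module.finrank L (Ω[L⁄k]) : ℤ) - Module.finrank K (Ω[K⁄k]) := by
  haveI : Algebra.EssFiniteType K L := Algebra.EssFiniteType.of_comp k K L
  obtain ⟨hΩK, hΥ, hle⟩ := Groth.Agent.S4525.result (k := k) (K := K) (L := L)
  haveI hΩ : Module.Finite L (Ω[L⁄k]) := inferInstance
  let g := KaehlerDifferential.mapBaseChange k K L
  haveI : Module.Finite L (LinearMap.ker g) := hΥ
  haveI hT : Module.Finite L (TensorProduct K L (Ω[K⁄k])) := by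
    refine ⟨Submodule.fg_of_fg_map_of_fg_inf_ker g (IsNoetherian.noetherian _) ?_⟩
    rw [top_inf_eq]
    exact Module.Finite.iff_fg.1 hΥ
  haveI : Module.Finite K (Ω[K⁄k]) := by
    rw [← Module.rank_lt_aleph0_iff, ← Cardinal.lift_lt_aleph0.{u, u}, ← Module.rank_baseChange (R := L)]
    exact Module.rank_lt_aleph0 L _
  refine ⟨hΩ, this, ?_⟩
  have h1 := LinearMap.finrank_range_add_finrank_ker g
  rw [Module.finrank_baseChange] at h1
  have h2 := LinearMap.finrank_range_add_finrank_ker (KaehlerDifferential.map k K L L)
  rw [LinearMap.range_eq_top.2 (KaehlerDifferential.map_surjective k K L), finrank_top,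
    (KaehlerDifferential.exact_mapBaseChange_map k K L).linearMap_ker_eq] at h2
  have h3 : Module.finrank L (LinearMap.ker g) = Module.finrank L (EGA41.imperfection k K L) := rfl
  simp only [g] at h1 h3
  omega

end Groth.Agent.S4526
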