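import Groth.Statements.S4558
import Mathlib

set_option autoImplicit false
universe u
open EGA41

namespace Groth.Agent.S4558

open TensorProduct in
/-- A module which is finite modulo `I` has a finite completion over an `I`-adically complete ring. -/
theorem finite_completion {B M : Type u} [CommRing B] (I : Ideal B) [IsAdicComplete I B] [AddCommGroup M]
    [Module B M] [Module.Finite B (M ⧸ (I • ⊤ : Submodule B M))] :
    Module.Finite B (AdicCompletion I M) := by
  obtain ⟨r, q, hq⟩ := Module.Finite.exists_fin' B (M ⧸ (I • ⊤ : Submodule B M))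
  obtain ⟨σ, hσ⟩ := Module.projective_lifting_property (Submodule.mkQ (I • ⊤ : Submodule B M)) q (Submodule.mkQ_surjective _)
  have hmap := AdicCompletion.map_surjective_of_mkQ_comp_surjective (I := I) (f := σ) (hσ.symm ▸ hq)
  have hof : Function.Surjective (AdicCompletion.of I (Fin r → B)) := fun y => by
    obtain ⟨z, rfl⟩ := AdicCompletion.ofTensorProduct_surjective_of_finite I (Fin r → B) y
    induction z with
    | zero => exact ⟨0, by simp⟩
    | tmul a x =>
      obtain ⟨b, rfl⟩ := AdicCompletion.of_surjective I B a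
      refine ⟨b • x, ?_⟩
      rw [AdicCompletion.ofTensorProduct_tmul, map_smul]
      ext n
      simp [AdicCompletion.smul_eval, AdicCompletion.val_smul]
      rfl
    | add u v hu hv =>
      obtain ⟨u', hu'⟩ := hu
      obtain ⟨v', hv'⟩ := hv
      exact ⟨u' + v', by rw [map_add, map_add, hu', hv']⟩
  exact Module.Finite.of_surjective (((AdicCompletion.map I σ).restrictScalars B) ∘ₗ AdicCompletion.of I (Fin r → B))
    (hmap.comp hof)

open TensorProduct in
/-- Let A be a discrete ring, B an adic topological A-algebra with ideal of definition 𝔫 (B separated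
and complete for the 𝔫-adic topology) and B₀ = B/𝔫. If Ω_{B₀/A} and 𝔫/𝔫² are B₀-modules of finite
type, then Ω̂_{B/A}, the 𝔫-adic completion of Ω_{B/A}, is a B-module of finite type. -/
theorem result {A B : Type u} [CommRing A] [CommRing B] [Algebra A B] (𝔫 : Ideal B)
    [IsAdicComplete 𝔫 B] [Module.Finite (B ⧸ 𝔫) (Ω[B ⧸ 𝔫⁄A])] [Module.Finite (B ⧸ 𝔫) 𝔫.Cotangent] :
    Module.Finite B (AdicCompletion 𝔫 (Ω[B⁄A])) := by
  haveI : Module.Finite B (Ω[B ⧸ 𝔫⁄A]) := Module.Finite.trans (B ⧸ 𝔫) _
  haveI : Module.Finite B (RingHom.ker (algebraMap B (B ⧸ 𝔫))).Cotangent := by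
    rw [show RingHom.ker (algebraMap B (B ⧸ 𝔫)) = 𝔫 from Ideal.mk_ker]
    exact Module.Finite.trans (B ⧸ 𝔫) _
  have hex := KaehlerDifferential.exact_kerCotangentToTensor_mapBaseChange A B (B ⧸ 𝔫) Ideal.Quotient.mk_surjective
  haveI : Module.Finite B ((B ⧸ 𝔫) ⊗[B] Ω[B⁄A]) := by
    let g := (KaehlerDifferential.mapBaseChange A B (B ⧸ 𝔫)).restrictScalars B
    refine ⟨Submodule.fg_of_fg_map_of_fg_inf_ker g ?_ ?_⟩
    · rw [Submodule.map_top, LinearMap.range_eq_top.2 (show Function.Surjective g from
        KaehlerDifferential.mapBaseChange_surjective A B (B ⧸ 𝔫) Ideal.Quotient.mk_surjective)]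
      exact Module.Finite.fg_top
    · rw [top_inf_eq, show LinearMap.ker g = LinearMap.range (KaehlerDifferential.kerCotangentToTensor A B (B ⧸ 𝔫)) from
        Submodule.ext fun x => hex x]
      exact Module.Finite.iff_fg.1 (Module.Finite.range _)
  haveI : Module.Finite B (Ω[B⁄A] ⧸ (𝔫 • ⊤ : Submodule B Ω[B⁄A])) :=
    Module.Finite.equiv (TensorProduct.quotTensorEquivQuotSMul (Ω[B⁄A]) 𝔫)
  exact finite_completion 𝔫

end Groth.Agent.S4558
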