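import Groth.Statements.S4529
import Groth.Agent.Lib.SplitInj.Local

set_option autoImplicit false
universe u
open EGA41

namespace Groth.Agent.S4529

/-- Let A be a ring, M, N two A-modules with N projective, u : M → N a homomorphism and J an ideal of A;
suppose either (i) J is nilpotent, or (ii) J is contained in the Jacobson radical of A and M is of
finite type. Then u is left invertible if and only if the induced map u₀ : M/JM → N/JN is left
invertible. (A left inverse of u₀ composed with N → N/JN is an A-linear map v : N → M/JM with v ∘ u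
the projection, and conversely; the right-hand side is written in that form.) -/
theorem result {A : Type u} [CommRing A] {M N : Type u} [AddCommGroup M] [Module A M]
    [AddCommGroup N] [Module A N] [Module.Projective A N] (u : M →ₗ[A] N) (J : Ideal A)
    (hJ : IsNilpotent J ∨ (J ≤ (⊥ : Ideal A).jacobson ∧ Module.Finite A M)) :
    (∃ w : N →ₗ[A] M, w ∘ₗ u = LinearMap.id) ↔
      ∃ v : N →ₗ[A] M ⧸ (J • ⊤ : Submodule A M), v ∘ₗ u = (J • ⊤ : Submodule A M).mkQ := by
  refine ⟨fun ⟨w, hw⟩ => ⟨(J • ⊤ : Submodule A M).mkQ ∘ₗ w, by rw [LinearMap.comp_assoc, hw, LinearMap.comp_id]⟩,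
    fun ⟨v, hv⟩ => ?_⟩
  rcases hJ with hJ | ⟨hJ, hfin⟩
  · exact GrothLib.SplitInj.exists_leftInverse_of_nilpotent u J hJ v hv
  · exact GrothLib.SplitInj.exists_leftInverse_of_mod u J hJ v hv

end Groth.Agent.S4529
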