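import Groth.Statements.S4531
import Groth.Agent.Lib.SplitInj.Local
import Mathlib.RingTheory.Flat.FaithfullyFlat.Algebra

set_option autoImplicit false
universe u
open EGA41

namespace Groth.Agent.S4531

open TensorProduct in
/-- Let A be a ring, M an A-module of finite type, N a projective A-module and u : M → N a homomorphism.
(i) u is left invertible if and only if u_𝔪 : M_𝔪 → N_𝔪 is left invertible for every maximal ideal 𝔪
of A. (ii) If A' is an A-algebra which is a faithfully flat A-module, u is left invertible if and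
only if u ⊗ 1 : M ⊗_A A' → N ⊗_A A' is left invertible (as an A'-linear map). -/
theorem result {A : Type u} [CommRing A] {M N : Type u} [AddCommGroup M] [Module A M]
    [Module.Finite A M] [AddCommGroup N] [Module A N] [Module.Projective A N] (u : M →ₗ[A] N) :
    ((∃ w : N →ₗ[A] M, w ∘ₗ u = LinearMap.id) ↔
      ∀ (m : Ideal A) [m.IsMaximal],
        ∃ w : LocalizedModule m.primeCompl N →ₗ[A] LocalizedModule m.primeCompl M,
          w ∘ₗ LocalizedModule.map m.primeCompl u = LinearMap.id) ∧
    ∀ (A' : Type u) [CommRing A'] [Algebra A A'] [Module.FaithfullyFlat A A'],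
      (∃ w : N →ₗ[A] M, w ∘ₗ u = LinearMap.id) ↔
        ∃ w : A' ⊗[A] N →ₗ[A'] A' ⊗[A] M, w ∘ₗ u.baseChange A' = LinearMap.id := by
  refine ⟨⟨fun h m _ => ?_, fun h => ?_⟩, fun A' _ _ _ => ⟨fun ⟨w, hw⟩ => ⟨w.baseChange A', ?_⟩, fun h => ?_⟩⟩
  · exact GrothLib.SplitInj.exists_localized_leftInverse_of_mem u m.primeCompl (a := 1)
      ((Ideal.eq_top_iff_one _).1 ((GrothLib.SplitInj.exists_leftInverse_iff_denIdeal u).1 h)) (one_mem _)
  · exact (GrothLib.SplitInj.exists_leftInverse_iff_denIdeal u).2
      (GrothLib.SplitInj.denIdeal_eq_top_of_forall u fun m _ =>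
        GrothLib.SplitInj.injective_lTensor_of_localized u _ m le_rfl (h m))
  · rw [← LinearMap.baseChange_comp, hw, LinearMap.baseChange_id]
  · refine (GrothLib.SplitInj.exists_leftInverse_iff_denIdeal u).2
      (GrothLib.SplitInj.denIdeal_eq_top_of_forall u fun m hm => ?_)
    obtain ⟨q, hq⟩ := PrimeSpectrum.comap_surjective_of_faithfullyFlat (A := A) (B := A') ⟨m, hm.isPrime⟩
    exact GrothLib.SplitInj.injective_lTensor_of_baseChange u q.asIdeal m
      (congrArg PrimeSpectrum.asIdeal hq).symm h

end Groth.Agent.S4531
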