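import Groth.Statements.S4534
import Groth.Agent.Lib.AdicFS.Basic

set_option autoImplicit false
universe u
open EGA41

namespace Groth.Agent.S4534

/-- Let A → B → C be continuous homomorphisms of adic rings (A with the 𝔞-adic, B the 𝔟-adic, C the
𝔠-adic topology; continuity: a power of 𝔞 maps into 𝔟 and a power of 𝔟 into 𝔠). If B is formally
smooth over A and C formally smooth over B, then C is formally smooth over A. -/
theorem result {A B C : Type u} [CommRing A] [CommRing B] [CommRing C] [Algebra A B] [Algebra B C]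
    [Algebra A C] [IsScalarTower A B C] (𝔞 : Ideal A) (𝔟 : Ideal B) (𝔠 : Ideal C)
    (hAB : ∃ k : ℕ, (𝔞 ^ k).map (algebraMap A B) ≤ 𝔟) (hBC : ∃ k : ℕ, (𝔟 ^ k).map (algebraMap B C) ≤ 𝔠)
    (hB : EGA41.IsFormallySmoothAdic A 𝔞 B 𝔟) (hC : EGA41.IsFormallySmoothAdic B 𝔟 C 𝔠) :
    EGA41.IsFormallySmoothAdic A 𝔞 C 𝔠 := by
  exact GrothLib.AdicFS.formallySmoothAdic_trans hBC hB hC

end Groth.Agent.S4534
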