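import Groth.Statements.S4535
import Groth.Agent.Lib.AdicFS.Basic

set_option autoImplicit false
universe u
open EGA41

namespace Groth.Agent.S4535

open TensorProduct in
/-- Let B (𝔟-adic) be formally smooth over A (𝔞-adic) and let A' (𝔞'-adic) be a topological A-algebra (a
power of 𝔞 maps into 𝔞'). Then the A'-algebra A' ⊗_A B, with the tensor product topology, i.e. the
adic topology of the ideal generated by the images of 𝔞' and 𝔟, is formally smooth over A'. -/
theorem result {A B A' : Type u} [CommRing A] [CommRing B] [CommRing A'] [Algebra A B] [Algebra A A']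
    (𝔞 : Ideal A) (𝔟 : Ideal B) (𝔞' : Ideal A') (hAA' : ∃ k : ℕ, (𝔞 ^ k).map (algebraMap A A') ≤ 𝔞')
    (hB : EGA41.IsFormallySmoothAdic A 𝔞 B 𝔟) :
    EGA41.IsFormallySmoothAdic A' 𝔞' (A' ⊗[A] B)
      (𝔞'.map (algebraMap A' (A' ⊗[A] B)) ⊔
        𝔟.map (Algebra.TensorProduct.includeRight : B →ₐ[A] A' ⊗[A] B).toRingHom) := by
  exact GrothLib.AdicFS.formallySmoothAdic_baseChange hAA' hB le_sup_right

end Groth.Agent.S4535
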