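import Groth.Statements.S4538
import Groth.Agent.Lib.SymGr.Smooth
-- import your own Groth.Agent.* helpers here

set_option autoImplicit false
universe u
open EGA41

namespace Groth.Agent.S4538

/-- Equivalence of (a) and (b), for a discrete base ring: let A be a discrete ring, B an A-algebra, 𝔍 an
ideal of B, B carrying the 𝔍-adic topology, and suppose the discrete A-algebra C = B/𝔍 is formally
smooth. Then B is a formally smooth A-algebra (for the 𝔍-adic topology) if and only if 𝔍/𝔍² is a
projective C-module and the canonical homomorphism from the symmetric algebra of 𝔍/𝔍² over C onto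
the graded ring ⊕ 𝔍ⁿ/𝔍ⁿ⁺¹ is bijective (degrees n ≥ 1; degree 0 is C on both sides). (The published
statement allows a topological base and adds a third equivalent condition on the completion; this
row takes A discrete and states (a) ⇔ (b).) -/
theorem result {A B : Type u} [CommRing A] [CommRing B]
    [Algebra A B] (𝔍 : Ideal B) [Algebra.FormallySmooth A (B ⧸ 𝔍)] :
    CAlgX.IsAdicFormallySmooth A B 𝔍 ↔ (Module.Projective (B ⧸ 𝔍) 𝔍.Cotangent ∧ PP16.SymGrBijective B 𝔍) := by
  exact GrothLib.SymGr.isAdicFormallySmooth_iff 𝔍

end Groth.Agent.S4538
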