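import Groth.Statements.S4539
import Groth.Agent.Lib.AlgMisc.GeomRedAt
import Groth.Agent.Lib.Cohen.Smooth

set_option autoImplicit false
universe u
open EGA41

namespace Groth.Agent.S4539

open IsLocalRing in
/-- Let A be a local ring with residue characteristic p (p = 0 or a prime), P the prime local ring ℤ_(p)
(ℚ if p = 0) and P → A its unique local homomorphism. Then A is a Cohen ring, i.e. a Cohen P-algebra
— Noetherian and complete, flat over P, with pA its maximal ideal (and residue field separable over
the prime field) — if and only if A is a field of characteristic 0 or a complete discrete valuation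
ring of residue characteristic > 0 whose maximal ideal is generated by p·1. -/
theorem result (p : ℕ) [hp : (Ideal.span {(p : ℤ)}).IsPrime]
    {A : Type} [CommRing A] [IsLocalRing A] [CharP (ResidueField A) p]
    [Algebra (Localization.AtPrime (Ideal.span {(p : ℤ)})) A]
    [IsLocalHom (algebraMap (Localization.AtPrime (Ideal.span {(p : ℤ)})) A)] :
    EGA41.IsCohenAlgebra (Localization.AtPrime (Ideal.span {(p : ℤ)})) A ↔ EGA41.IsCohenRingEGA A := by
  classical
  set I : Ideal ℤ := Ideal.span {(p : ℤ)} with hI
  have hmP : maximalIdeal (Localization.AtPrime I) =
      Ideal.span {(p : Localization.AtPrime I)} := by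
    rw [← Localization.AtPrime.map_eq_maximalIdeal]
    exact (Ideal.map_span _ _).trans (by rw [Set.image_singleton, map_natCast])
  have hmap : (maximalIdeal (Localization.AtPrime I)).map (algebraMap (Localization.AtPrime I) A) =
      Ideal.span {(p : A)} := by
    rw [hmP, Ideal.map_span, Set.image_singleton, map_natCast]
  have hperf : ∀ (K : Type) [Field K] [Algebra (ResidueField (Localization.AtPrime I)) K],
      Algebra.IsGeometricallyReduced (ResidueField (Localization.AtPrime I)) K := by
    intro K _ _
    have : PerfectField (ResidueField (Localization.AtPrime I)) := by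
      rcases CharP.char_is_prime_or_zero (ResidueField A) p with hp' | hp0
      · haveI : I.IsMaximal := hp.isMaximal (by
          rw [hI, ne_eq, Ideal.span_singleton_eq_bot]; exact_mod_cast hp'.ne_zero)
        haveI : Finite (ℤ ⧸ I) := by
          haveI : NeZero p := ⟨hp'.ne_zero⟩
          exact Finite.of_equiv _ (Int.quotientSpanNatEquivZMod p).symm.toEquiv
        haveI : Finite I.ResidueField :=
          Finite.of_surjective _ (Ideal.bijective_algebraMap_quotient_residueField I).surjective
        exact PerfectField.ofFinite
      · have : CharZero (ResidueField A) := by subst hp0; exact CharP.charP_to_charZero _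
        haveI : CharZero (ResidueField (Localization.AtPrime I)) :=
          (IsLocalRing.ResidueField.map (algebraMap (Localization.AtPrime I) A)).charZero
        infer_instance
    exact GrothLib.GrpSchField.isGeometricallyReduced_of_isReduced (K := ResidueField (Localization.AtPrime I)) (B := K)
  rcases CharP.char_is_prime_or_zero (ResidueField A) p with hp' | hp0
  · constructor
    · rintro ⟨-, hN, hc, hfl, hm, -⟩
      rw [hmap] at hm
      haveI := hN
      haveI := hc
      have hreg : ∀ x : A, (p : A) * x = 0 → x = 0 := by
        intro x hx
        have hp1 : IsSMulRegular (Localization.AtPrime I) (p : Localization.AtPrime I) := by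
          rw [isSMulRegular_iff_right_eq_zero_of_smul]
          intro y hy
          exact (mul_eq_zero.1 hy).resolve_left (by
            rw [← map_natCast (algebraMap ℤ (Localization.AtPrime I))]
            exact fun h => hp'.ne_zero (by exact_mod_cast
              (IsLocalization.to_map_eq_zero_iff (Localization.AtPrime I)
                I.primeCompl_le_nonZeroDivisors).1 h))
        have := IsSMulRegular.of_flat (S := A) hp1
        rw [map_natCast] at this
        exact isSMulRegular_iff_right_eq_zero_of_smul.1 this x hx
      have hdec : ∀ a : A, a ≠ 0 → ∃ (i : ℕ) (u : A), IsUnit u ∧ a = (p : A) ^ i * u := by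
        intro a ha
        obtain ⟨n, hn⟩ : ∃ n, a ∉ maximalIdeal A ^ n := by
          by_contra h
          push Not at h
          refine ha (IsHausdorff.haus (I := maximalIdeal A) inferInstance _ fun n => ?_)
          rw [SModEq.zero, smul_eq_mul, Ideal.mul_top]
          exact h n
        induction n generalizing a with
        | zero => simp at hn
        | succ n ih =>
          by_cases hu : IsUnit a
          · exact ⟨0, a, hu, by simp⟩
          · have : a ∈ maximalIdeal A := hu
            rw [← hm, Ideal.mem_span_singleton] at this
            obtain ⟨b, rfl⟩ := this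
            obtain ⟨i, u, hu', rfl⟩ := ih b (fun h => ha (by rw [h, mul_zero])) (fun h => hn (by
              rw [pow_succ']
              exact Ideal.mul_mem_mul (hm ▸ Ideal.subset_span rfl) h))
            exact ⟨i + 1, u, hu', by ring⟩
      have hpow : ∀ (i : ℕ) (x : A), (p : A) ^ i * x = 0 → x = 0 := by
        intro i
        induction i with
        | zero => simp
        | succ i ih => exact fun x hx => hreg x (ih _ (by rw [← mul_assoc, ← pow_succ]; exact hx))
      haveI : IsDomain A := by
        haveI : NoZeroDivisors A := ⟨fun {a b} hab => by
          by_contra h
          push Not at h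
          obtain ⟨i, u, hu, rfl⟩ := hdec a h.1
          refine h.2 ((hu.mul_right_eq_zero).1 (hpow i _ ?_))
          rw [← mul_assoc]; exact hab⟩
        exact NoZeroDivisors.to_isDomain A
      have hnf : ¬ IsField A := by
        intro hf
        have := (isField_iff_maximalIdeal_eq).1 hf
        rw [← hm, Ideal.span_singleton_eq_bot] at this
        exact one_ne_zero (hreg 1 (by rw [this, zero_mul]))
      haveI : IsDiscreteValuationRing A :=
        ((IsDiscreteValuationRing.TFAE A hnf).out 4 0).1 (show (maximalIdeal A).IsPrincipal from ⟨⟨(p : A), hm.symm⟩⟩)
      exact Or.inr ⟨inferInstance, inferInstance, hc, p, hp', hm.symm⟩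
    · rintro (⟨hf, hz⟩ | ⟨hd, hv, hc, q, hq, hm⟩)
      · exfalso
        letI := hf.toField
        have h1 : (p : A) ∈ maximalIdeal A := by
          rw [← residue_eq_zero_iff, map_natCast, CharP.cast_eq_zero]
        rw [isField_iff_maximalIdeal_eq.1 hf, Ideal.mem_bot] at h1
        exact hp'.ne_zero (by exact_mod_cast h1)
      · haveI := hd
        haveI := hv
        have hqp : p = q := by
          have h1 : ((q : ℕ) : ResidueField A) = 0 := by
            rw [← map_natCast (residue A), (residue_eq_zero_iff _).2 (hm ▸ Ideal.subset_span rfl)]
          exact (Nat.prime_dvd_prime_iff_eq hp' hq).1 ((CharP.cast_eq_zero_iff _ p q).1 h1)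
        subst hqp
        haveI := GrothLib.Cohen.charZero_of_maximalIdeal_eq_span A p hq hm
        refine ⟨IsLocalization.isNoetherianRing I.primeCompl _ inferInstance, inferInstance, hc, ?_, ?_, hperf _⟩
        · haveI : IsDomain (Localization.AtPrime I) :=
            IsLocalization.isDomain_localization I.primeCompl_le_nonZeroDivisors
          haveI : FaithfulSMul (Localization.AtPrime I) A := by
            rw [faithfulSMul_iff_algebraMap_injective]
            rw [injective_iff_map_eq_zero]
            intro x hx
            obtain ⟨⟨a, s⟩, has⟩ := IsLocalization.surj I.primeCompl x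
            have h1 := congrArg (algebraMap (Localization.AtPrime I) A) has
            rw [map_mul, hx, zero_mul, eq_intCast (algebraMap ℤ (Localization.AtPrime I)), map_intCast] at h1
            have h2 : a = 0 := by exact_mod_cast h1.symm
            simp only [h2, map_zero] at has
            exact (IsLocalization.map_units (Localization.AtPrime I) s).mul_left_eq_zero.1 has
          exact inferInstance
        · rw [hmap, hm]
  · subst hp0
    haveI : CharZero (ResidueField A) := CharP.charP_to_charZero _
    rw [Ideal.span_singleton_eq_bot.2 (Nat.cast_zero (R := A))] at hmap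
    constructor
    · rintro ⟨-, -, -, -, hm, -⟩
      rw [hmap] at hm
      refine Or.inl ⟨isField_iff_maximalIdeal_eq.2 hm.symm, ?_⟩
      exact (residue A).charZero
    · rintro (⟨hf, hz⟩ | ⟨hd, hv, hc, q, hq, hm⟩)
      · have hb := isField_iff_maximalIdeal_eq.1 hf
        have hP : IsField (Localization.AtPrime I) := by
          rw [isField_iff_maximalIdeal_eq, hmP]; simp
        refine ⟨IsLocalization.isNoetherianRing I.primeCompl _ inferInstance, ?_, ?_, ?_, ?_, hperf _⟩
        · letI := hf.toField; infer_instance
        · rw [hb]; infer_instance
        · letI := hP.toField; infer_instance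
        · rw [hmap, hb]
      · exfalso
        have h1 : ((q : ℕ) : ResidueField A) = 0 := by
          rw [← map_natCast (residue A), (residue_eq_zero_iff _).2 (hm ▸ Ideal.subset_span rfl)]
        exact hq.ne_zero (by exact_mod_cast h1)

end Groth.Agent.S4539
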