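import Groth.Statements.S4540
import Groth.Agent.Lib.AdicFS.Kaehler
import Groth.Agent.Lib.Flatness.Artinian

set_option autoImplicit false
universe u
open EGA41

namespace Groth.Agent.S4540

open IsLocalRing TensorProduct in
/-- Let A, B be Noetherian local rings and A → B a local homomorphism making B a formally smooth
A-algebra for the adic topologies of the maximal ideals. Then for every ideal of definition 𝔟 of B,
the (B/𝔟)-module Ω_{B/A} ⊗_B (B/𝔟) is free. -/
theorem result {A B : Type u} [CommRing A] [IsLocalRing A]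
    [IsNoetherianRing A] [CommRing B] [IsLocalRing B] [IsNoetherianRing B] [Algebra A B] [IsLocalHom (algebraMap A B)]
    (h : EGA41.IsFormallySmoothAdic A (maximalIdeal A) B (maximalIdeal B))
    (𝔟 : Ideal B) (hle : 𝔟 ≤ maximalIdeal B) (hpow : ∃ k : ℕ, maximalIdeal B ^ k ≤ 𝔟) :
    Module.Free (B ⧸ 𝔟) ((B ⧸ 𝔟) ⊗[B] Ω[B⁄A]) := by
  obtain ⟨k, hk⟩ := hpow
  have hne : 𝔟 ≠ ⊤ := fun htop => (IsLocalRing.maximalIdeal.isMaximal B).ne_top (top_le_iff.1 (htop ▸ hle))
  haveI : Nontrivial (B ⧸ 𝔟) := Ideal.Quotient.nontrivial_iff.2 hne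
  haveI : IsLocalRing (B ⧸ 𝔟) := IsLocalRing.of_surjective' _ Ideal.Quotient.mk_surjective
  haveI : IsLocalHom (Ideal.Quotient.mk 𝔟) := IsLocalHom.of_surjective _ Ideal.Quotient.mk_surjective
  have hnil : IsNilpotent (maximalIdeal (B ⧸ 𝔟)) := by
    refine ⟨k, ?_⟩
    have hmax : maximalIdeal (B ⧸ 𝔟) ≤ (maximalIdeal B).map (Ideal.Quotient.mk 𝔟) := fun x hx => by
      obtain ⟨x, rfl⟩ := Ideal.Quotient.mk_surjective x
      exact Ideal.mem_map_of_mem _ fun hu => hx (hu.map _)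
    rw [Ideal.zero_eq_bot, eq_bot_iff]
    refine (Ideal.pow_right_mono hmax k).trans ?_
    rw [← Ideal.map_pow, le_bot_iff, Ideal.map_eq_bot_iff_le_ker, Ideal.mk_ker]
    exact hk
  haveI : Module.Projective (B ⧸ 𝔟) ((B ⧸ 𝔟) ⊗[B] Ω[B⁄A]) := GrothLib.AdicFS.projective_kaehler_mod
    ⟨1, by rw [pow_one]; exact IsLocalRing.map_maximalIdeal_le _⟩ h 𝔟 ⟨k, hk⟩
  exact GrothLib.Flatness.free_of_baseChange_flat (S := B ⧸ 𝔟) hnil Function.injective_id

end Groth.Agent.S4540
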