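import Groth.Statements.S4543
import Groth.Agent.Lib.AdicFS.Complete
import Groth.Agent.Lib.Cohen.NilpotentSmooth

set_option autoImplicit false
universe u
open EGA41

namespace Groth.Agent.S4543

open IsLocalRing in
/-- Let A be a Noetherian ring, J an ideal of A, B and B' two A-algebras which are Noetherian local
rings, the structure maps being continuous for the J-adic topology on A (JB and JB' lie in the
maximal ideals); suppose B and B' are complete for the J-adic topologies, B is a formally smooth
A-algebra for the J-adic topology on A and the JB-adic topology on B (nilpotent test ideals, test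
algebras killed by a power of J, test maps killing a power of JB), and B' is a flat A-module. Then
every (A/J)-algebra isomorphism u₀ : B/JB ≅ B'/JB' comes from an A-algebra isomorphism u : B ≅ B' by
passing to quotients. (B is taken formally smooth for the JB-adic topology, the topology along which
the argument lifts B → B'/JB' to B'; read with the convention that a local ring carries the adic
topology of its maximal ideal, the published hypothesis would be formal smoothness for the
maximal-ideal topology on B, a weaker condition when JB is strictly smaller than the maximal ideal,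
and that reading is not what the argument establishes.) -/
theorem result {A B B' : Type u} [CommRing A] [IsNoetherianRing A] (J : Ideal A)
    [CommRing B] [IsLocalRing B] [IsNoetherianRing B] [Algebra A B]
    [CommRing B'] [IsLocalRing B'] [IsNoetherianRing B'] [Algebra A B']
    (hB : J.map (algebraMap A B) ≤ maximalIdeal B) (hB' : J.map (algebraMap A B') ≤ maximalIdeal B')
    [IsAdicComplete (J.map (algebraMap A B)) B] [IsAdicComplete (J.map (algebraMap A B')) B']
    (hfs : EGA41.IsFormallySmoothAdic A J B (J.map (algebraMap A B))) [Module.Flat A B']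
    (u₀ : (B ⧸ J.map (algebraMap A B)) ≃ₐ[A ⧸ J] (B' ⧸ J.map (algebraMap A B'))) :
    ∃ u : B ≃ₐ[A] B', ∀ b : B,
      Ideal.Quotient.mk (J.map (algebraMap A B')) (u b) = u₀ (Ideal.Quotient.mk (J.map (algebraMap A B)) b) := by
  let I := J.map (algebraMap A B)
  let I' := J.map (algebraMap A B')
  let u : B →ₐ[A] B' ⧸ I' := (u₀.toAlgHom.restrictScalars A).comp (Ideal.Quotient.mkₐ A I)
  have hzero : I'.map (Ideal.Quotient.mk I') = ⊥ := Ideal.map_quotient_self I'
  haveI : IsHausdorff (I'.map (Ideal.Quotient.mk I')) (B' ⧸ I') := by
    rw [hzero]; infer_instance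
  obtain ⟨v, -, hv⟩ := GrothLib.AdicFS.exists_lift_adicComplete (C := B') (𝔠 := I') (J := I') hfs
    ⟨1, by rw [pow_one]⟩ ⟨1, by rw [pow_one]⟩ u ⟨1, by
      rw [pow_one, Ideal.map_le_iff_le_comap]
      intro x hx
      rw [Ideal.mem_comap]
      show u₀ (Ideal.Quotient.mk I x) ∈ _
      rw [Ideal.Quotient.eq_zero_iff_mem.2 hx, map_zero]
      exact zero_mem _⟩
  have hv' : ∀ b, Ideal.Quotient.mk I' (v b) = u₀ (Ideal.Quotient.mk I b) := fun b => AlgHom.congr_fun hv b
  have hmapI : I.map v.toRingHom = I' := by
    rw [Ideal.map_map, show v.toRingHom.comp (algebraMap A B) = algebraMap A B' from RingHom.ext v.commutes]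
  have hsurj : Function.Surjective v := by
    haveI : IsHausdorff (I.map v.toRingHom) B' := by rw [hmapI]; infer_instance
    refine surjective_of_mk_map_comp_surjective (I := I) v.toRingHom fun y => ?_
    obtain ⟨y, rfl⟩ := Ideal.Quotient.mk_surjective y
    obtain ⟨b, hb⟩ := Ideal.Quotient.mk_surjective (u₀.symm (Ideal.Quotient.mk I' y))
    refine ⟨b, Ideal.Quotient.eq.2 ?_⟩
    rw [hmapI]
    refine Ideal.Quotient.eq.1 ?_
    show Ideal.Quotient.mk I' (v b) = _
    rw [hv', hb, AlgEquiv.apply_symm_apply]
  letI : Algebra B B' := v.toRingHom.toAlgebra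
  haveI : IsScalarTower A B B' := IsScalarTower.of_algebraMap_eq fun a => (v.commutes a).symm
  let K : Ideal B := RingHom.ker (algebraMap B B')
  have hK : K ≤ I • K := by
    intro x hx
    have hxI : x ∈ I := by
      rw [← Ideal.Quotient.eq_zero_iff_mem]
      refine u₀.injective ?_
      rw [map_zero, ← hv', show v x = 0 from RingHom.mem_ker.1 hx, map_zero]
    have h1 := GrothLib.Cohen.mem_smul_ker_of_mem_map (R := A) (P := B) (S := B') hsurj J ⟨x, hx⟩ hxI
    have h2 : ∀ z : K, z ∈ J • (⊤ : Submodule A K) → (z : B) ∈ I • K := by
      intro z hz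
      refine Submodule.smul_induction_on hz (fun a ha y _ => ?_) fun a b ha hb => add_mem ha hb
      rw [show ((a • y : K) : B) = algebraMap A B a • (y : B) from (Algebra.smul_def a (y : B))]
      exact Submodule.smul_mem_smul (Ideal.mem_map_of_mem _ ha) y.2
    exact h2 _ h1
  have hbot : K = ⊥ := Submodule.eq_bot_of_le_smul_of_le_jacobson_bot I K (IsNoetherian.noetherian K) hK
    (hB.trans (IsLocalRing.maximalIdeal_le_jacobson _))
  exact ⟨AlgEquiv.ofBijective v ⟨(RingHom.injective_iff_ker_eq_bot (algebraMap B B')).2 hbot, hsurj⟩, hv'⟩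

end Groth.Agent.S4543
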