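import Groth.Statements.S4544
import Groth.Agent.Lib.AdicFS.Kaehler

set_option autoImplicit false
universe u
open EGA41

namespace Groth.Agent.S4544

open TensorProduct in
/-- Let B (𝔟-adic) be a formally smooth topological A-algebra over A (𝔞-adic), the structure map being
continuous (a power of 𝔞 maps into 𝔟); squares of open ideals of B are then open. For every open
ideal 𝔄 of B (an ideal containing a power of 𝔟), Ω_{B/A} ⊗_B (B/𝔄) = Ω_{B/A}/𝔄Ω_{B/A} is a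
projective (B/𝔄)-module. -/
theorem result {A B : Type u} [CommRing A] [CommRing B] [Algebra A B]
    (𝔞 : Ideal A) (𝔟 : Ideal B) (hAB : ∃ k : ℕ, (𝔞 ^ k).map (algebraMap A B) ≤ 𝔟)
    (h : EGA41.IsFormallySmoothAdic A 𝔞 B 𝔟) (𝔄 : Ideal B) (h𝔄 : ∃ n : ℕ, 𝔟 ^ n ≤ 𝔄) :
    Module.Projective (B ⧸ 𝔄) ((B ⧸ 𝔄) ⊗[B] Ω[B⁄A]) := by
  exact GrothLib.AdicFS.projective_kaehler_mod hAB h 𝔄 h𝔄

end Groth.Agent.S4544
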