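import Groth.Statements.S4545
import Groth.Agent.Lib.PBasis.Filtered16
import Groth.Agent.S4525
import Mathlib.RingTheory.Flat.Basic
import Mathlib.RingTheory.AdjoinRoot

set_option autoImplicit false
universe u
open EGA41

namespace Groth.Agent.S4545

open GrothLib.PBasis
open scoped TensorProduct
open KaehlerDifferential (D)



open TensorProduct in
/-- Let K be a field of characteristic p > 0, k₀ a subfield and (k_α) a decreasing filtered family of
subfields of K containing k₀. Then ⋂_α k_α(K^p) = k₀(K^p) if and only if for every extension L of K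
such that Υ_{L/K/k₀} has finite rank over L there is an α with k_α admissible for L over K relative
to k₀, i.e. with Υ_{L/K/k₀} → Υ_{L/K/k_α} injective. (The published statement has two further
equivalent conditions; this row states (a) ⇔ (b).) -/
theorem result (p : ℕ) [Fact p.Prime] {k₀ K : Type u}
    [Field k₀] [Field K] [Algebra k₀ K] [CharP K p]
    {ι : Type u} [Preorder ι] [IsDirected ι (· ≤ ·)] [Nonempty ι] (k : ι → IntermediateField k₀ K) (hk : Antitone k) :
    (⨅ i, k i ⊔ IntermediateField.adjoin k₀ (Set.range fun y : K => y ^ p)) =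
        IntermediateField.adjoin k₀ (Set.range fun y : K => y ^ p) ↔
      ∀ (L : Type u) [Field L] [Algebra K L] [Algebra k₀ L] [IsScalarTower k₀ K L],
        Module.Finite L (EGA41.imperfection k₀ K L) →
          ∃ i, ∀ ω ∈ EGA41.imperfection k₀ K L,
            ((KaehlerDifferential.map k₀ (k i) K K).restrictScalars K).baseChange L ω = 0 → ω = 0 := by
  classical
  let T : ι → Set K := fun i => (k i : Set K)
  have hT : Antitone T := fun i j hij => hk hij
  constructor
  · intro h L _ _ _ _ hfin
    have hbase : ∀ z : K, (∀ i, z ∈ genField p k₀ (T i)) → z ∈ genField p k₀ (∅ : Set K) := by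
      intro z hz
      rw [genField, Set.union_empty, ← h, ← SetLike.mem_coe, IntermediateField.coe_iInf, Set.mem_iInter]
      intro i
      rw [sup_eq_genField]
      exact hz i
    obtain ⟨i, hi⟩ := exists_inf_eq_bot (L := L) T hT hbase (EGA41.imperfection k₀ K L)
    refine ⟨i, fun ω hω h0 => ?_⟩
    have hex : Function.Exact ((KaehlerDifferential.mapBaseChange k₀ (k i) K).restrictScalars K)
        ((KaehlerDifferential.map k₀ (k i) K K).restrictScalars K) :=
      KaehlerDifferential.exact_mapBaseChange_map k₀ (k i) K
    obtain ⟨t, ht⟩ := (Module.Flat.lTensor_exact L hex ω).1 h0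
    have hV : ∀ v ∈ Submodule.span K (D k₀ K '' T i), ∀ a : L, a ⊗ₜ[K] v ∈ spanD k₀ L T i := by
      intro v hv
      induction hv using Submodule.span_induction with
      | mem v hv =>
        intro a
        obtain ⟨y, hy, rfl⟩ := hv
        have : a ⊗ₜ[K] D k₀ K y = a • ((1 : L) ⊗ₜ[K] D k₀ K y) := by simp [TensorProduct.smul_tmul']
        rw [this]
        exact Submodule.smul_mem _ _ (Submodule.subset_span ⟨y, hy, rfl⟩)
      | zero => intro a; simp
      | add x y _ _ hx hy => intro a; rw [TensorProduct.tmul_add]; exact add_mem (hx a) (hy a)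
      | smul c x _ hx => intro a; rw [← TensorProduct.smul_tmul]; exact hx _
    have hr : ∀ u, KaehlerDifferential.mapBaseChange k₀ (k i) K u ∈ Submodule.span K (D k₀ K '' T i) := by
      intro u
      induction u using TensorProduct.induction_on with
      | zero => simp
      | tmul c m =>
        rw [KaehlerDifferential.mapBaseChange_tmul]
        refine Submodule.smul_mem _ _ ?_
        have hm : m ∈ Submodule.span (k i) (Set.range (D k₀ (k i))) := by
          rw [KaehlerDifferential.span_range_derivation]; trivial
        induction hm using Submodule.span_induction with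
        | mem m hm =>
          obtain ⟨y, rfl⟩ := hm
          rw [KaehlerDifferential.map_D]
          exact Submodule.subset_span ⟨_, y.2, rfl⟩
        | zero => simp
        | add x y _ _ hx hy => rw [map_add]; exact add_mem hx hy
        | smul a x _ hx =>
          rw [map_smul, ← algebraMap_smul K a]
          exact Submodule.smul_mem _ _ hx
      | add x y hx hy => rw [map_add]; exact add_mem hx hy
    have hωW : ω ∈ spanD k₀ L T i := by
      rw [← ht]
      clear ht
      induction t using TensorProduct.induction_on with
      | zero => simp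
      | tmul a u => rw [LinearMap.lTensor_tmul]; exact hV _ (hr u) a
      | add x y hx hy => rw [map_add]; exact add_mem hx hy
    exact (Submodule.mem_bot L).1 (hi ▸ Submodule.mem_inf.2 ⟨hωW, hω⟩)
  · intro H
    refine le_antisymm (fun z hz => ?_) (le_iInf fun i => le_sup_right)
    rw [← SetLike.mem_coe, IntermediateField.coe_iInf, Set.mem_iInter] at hz
    by_contra hcon
    have hne : ∀ b : K, b ^ p ≠ z := fun b hb => hcon (hb ▸ IntermediateField.subset_adjoin k₀ _ ⟨b, rfl⟩)
    have hirr : Irreducible (Polynomial.X ^ p - Polynomial.C z) :=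
      X_pow_sub_C_irreducible_of_prime (Fact.out : p.Prime) hne
    haveI := Fact.mk hirr
    let L := AdjoinRoot (Polynomial.X ^ p - Polynomial.C z)
    haveI : Module.Finite K L := (Polynomial.monic_X_pow_sub_C z (Fact.out : p.Prime).ne_zero).finite_adjoinRoot
    haveI : CharP L p := charP_of_injective_algebraMap (algebraMap K L).injective p
    have hroot : (AdjoinRoot.root (Polynomial.X ^ p - Polynomial.C z) : L) ^ p = algebraMap K L z := by
      have := AdjoinRoot.aeval_eq (f := Polynomial.X ^ p - Polynomial.C z) (Polynomial.X ^ p - Polynomial.C z)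
      rw [AdjoinRoot.mk_self, map_sub, map_pow, Polynomial.aeval_X, Polynomial.aeval_C, sub_eq_zero] at this
      exact this
    obtain ⟨-, hfin, -⟩ := Groth.Agent.S4525.result (k := k₀) (K := K) (L := L)
    obtain ⟨i, hi⟩ := H L hfin
    have hω : (1 : L) ⊗ₜ[K] D k₀ K z ∈ EGA41.imperfection k₀ K L := by
      change KaehlerDifferential.mapBaseChange k₀ K L _ = 0
      rw [KaehlerDifferential.mapBaseChange_tmul, one_smul, KaehlerDifferential.map_D, ← hroot,
        GrothLib.PBasis.leibniz_pow_p p (D k₀ L) (CharP.cast_eq_zero L p)]
    have hzi := hz i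
    rw [sup_eq_genField] at hzi
    have h0 := hi _ hω (by
      rw [LinearMap.baseChange_tmul]
      have hd : ∀ u ∈ Submodule.span K (D k₀ K '' T i), KaehlerDifferential.map k₀ (k i) K K u = 0 := by
        intro u hmem
        induction hmem using Submodule.span_induction with
        | mem v hv =>
          obtain ⟨w, hw, rfl⟩ := hv
          rw [KaehlerDifferential.map_D]
          exact (D (k i) K).map_algebraMap (⟨w, hw⟩ : k i)
        | zero => simp
        | add a b _ _ ha hb => rw [map_add, ha, hb, add_zero]
        | smul c a _ ha => rw [map_smul, ha, smul_zero]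
      rw [LinearMap.restrictScalars_apply, hd _ (D_mem_span hzi), TensorProduct.tmul_zero])
    have hz0 : D k₀ K z = 0 := by
      have hinj := Module.Flat.tensorProduct_mk_injective (R := K) (S := L) (M := Ω[K⁄k₀])
      exact hinj (show (1 : L) ⊗ₜ[K] D k₀ K z = (1 : L) ⊗ₜ[K] (0 : Ω[K⁄k₀]) by rw [h0, TensorProduct.tmul_zero])
    refine notMem_D (p := p) (s := (∅ : Set K)) (y := z) ?_ (by rw [hz0]; exact zero_mem _)
    simpa [genField] using hcon


end Groth.Agent.S4545
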