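import Groth.Statements.S4546
import Groth.Agent.Lib.PBasis.Filtered16

set_option autoImplicit false
universe u
open EGA41

namespace Groth.Agent.S4546

open GrothLib.PBasis
open scoped TensorProduct


/-- Let K be a field of characteristic p > 0, k₀ a subfield, (k_α) a decreasing filtered family of
subfields of K containing k₀ with ⋂_α k_α(K^p) = k₀(K^p). Then for every extension L of K such that
Υ_{L/K/k₀} has finite rank over L, one has ⋂_α k_α(L^p) = k₀(L^p) (the k_α being viewed inside L). -/
theorem result (p : ℕ) [Fact p.Prime] {k₀ K L : Type u}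
    [Field k₀] [Field K] [Field L] [Algebra k₀ K] [Algebra K L] [Algebra k₀ L] [IsScalarTower k₀ K L] [CharP K p] [CharP L p]
    {ι : Type u} [Preorder ι] [IsDirected ι (· ≤ ·)] [Nonempty ι] (k : ι → IntermediateField k₀ K) (hk : Antitone k)
    (h : (⨅ i, k i ⊔ IntermediateField.adjoin k₀ (Set.range fun y : K => y ^ p)) =
      IntermediateField.adjoin k₀ (Set.range fun y : K => y ^ p))
    [Module.Finite L (EGA41.imperfection k₀ K L)] :
    (⨅ i, (k i).map (IsScalarTower.toAlgHom k₀ K L) ⊔ IntermediateField.adjoin k₀ (Set.range fun y : L => y ^ p)) =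
      IntermediateField.adjoin k₀ (Set.range fun y : L => y ^ p) := by
  classical
  refine le_antisymm (fun x hx => ?_) (le_iInf fun i => le_sup_right)
  rw [← SetLike.mem_coe, IntermediateField.coe_iInf, Set.mem_iInter] at hx
  let T : ι → Set K := fun i => (k i : Set K)
  have hT : Antitone T := fun i j hij => hk hij
  have hbase : ∀ z : K, (∀ i, z ∈ genField p k₀ (T i)) → z ∈ genField p k₀ (∅ : Set K) := by
    intro z hz
    rw [genField, Set.union_empty, ← h, ← SetLike.mem_coe, IntermediateField.coe_iInf, Set.mem_iInter]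
    intro i
    rw [sup_eq_genField]
    exact hz i
  let σ := IsScalarTower.toAlgHom k₀ K L
  let f := KaehlerDifferential.mapBaseChange k₀ K L
  let U : Submodule L (L ⊗[K] Ω[K⁄k₀]) := EGA41.imperfection k₀ K L
  haveI : Module.Finite L U := ‹Module.Finite L (EGA41.imperfection k₀ K L)›
  obtain ⟨i₀, hi₀⟩ := exists_inf_eq_bot T hT hbase U
  let W := spanD k₀ L T
  have hW : Antitone W := spanD_antitone T hT
  have hWbot : ∀ w, (∀ i, w ∈ W i) → w = 0 := eq_zero_of_forall_mem_spanD T hT hbase
  have hdx : ∀ i, ∃ w ∈ W i, f w = KaehlerDifferential.D k₀ L x := by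
    intro i
    have hxi := hx i
    rw [sup_eq_genField] at hxi
    have hmem := D_mem_span hxi
    rw [← Submodule.mem_map]
    simp only [W, spanD]
    rw [Submodule.map_span]
    refine Submodule.span_mono ?_ hmem
    rintro _ ⟨_, hy', rfl⟩
    obtain ⟨y, hy, rfl⟩ := (IntermediateField.mem_map _).1 hy'
    refine ⟨(1 : L) ⊗ₜ[K] KaehlerDifferential.D k₀ K y, ⟨y, hy, rfl⟩, ?_⟩
    simp [f, σ]
  choose w hw hfw using hdx
  have hw0 : w i₀ = 0 := by
    refine hWbot _ fun i => ?_
    obtain ⟨m, hm₁, hm₂⟩ := directed_of (· ≤ ·) i₀ i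
    have hmem : w i₀ - w m ∈ W i₀ ⊓ U := ⟨sub_mem (hw i₀) (hW hm₁ (hw m)),
      show f (w i₀ - w m) = 0 by rw [map_sub, hfw, hfw, sub_self]⟩
    rw [show W i₀ ⊓ U = ⊥ from hi₀, Submodule.mem_bot, sub_eq_zero] at hmem
    rw [hmem]
    exact hW hm₂ (hw m)
  have hD : KaehlerDifferential.D k₀ L x = 0 := by rw [← hfw i₀, hw0, map_zero]
  by_contra hcon
  refine notMem_D (p := p) (s := (∅ : Set L)) (y := x) ?_ (by rw [hD]; exact zero_mem _)
  simpa [genField] using hcon


end Groth.Agent.S4546
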