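import Groth.Statements.S4548
import Groth.Agent.Lib.PBasis.Filtered16
import Groth.Agent.Lib.Hensel.Noetherian
import Mathlib.RingTheory.MvPowerSeries.Equiv
import Mathlib.RingTheory.MvPowerSeries.Expand
import Mathlib.RingTheory.MvPowerSeries.NoZeroDivisors
import Mathlib.RingTheory.Flat.FaithfullyFlat.Basic
import Mathlib.RingTheory.Flat.FaithfullyFlat.Algebra
import Mathlib.RingTheory.Localization.FractionRing
import Mathlib.FieldTheory.Finite.Basic
import Mathlib.Algebra.Algebra.ZMod
import Mathlib.Algebra.Field.ZMod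
import Mathlib.Algebra.Field.Subfield.Basic

set_option autoImplicit false
universe u
open EGA41

namespace Groth.Agent.S4548

open MvPowerSeries
open GrothLib.PBasis (genField)

section
variable {p : ℕ} [hp : Fact p.Prime] {k : Type u} [Field k] [CharP k p] {r : ℕ}

/-- Series in the `T_i ^ p` with coefficients in `E`. -/
def sub (p : ℕ) (r : ℕ) (E : Subfield k) : Subring (MvPowerSeries (Fin r) k) where
  carrier := {f | ∀ n, coeff n f ∈ E ∧ ((∃ i, ¬ p ∣ n i) → coeff n f = 0)}
  mul_mem' {f g} hf hg n := by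
    classical
    rw [coeff_mul]
    refine ⟨sum_mem fun q _ => mul_mem (hf q.1).1 (hg q.2).1, fun ⟨i, hi⟩ => Finset.sum_eq_zero fun q hq => ?_⟩
    rw [Finset.mem_antidiagonal] at hq
    by_cases h1 : p ∣ q.1 i
    · rw [(hg q.2).2 ⟨i, fun h2 => hi (by rw [← hq, Finsupp.add_apply]; exact dvd_add h1 h2)⟩, mul_zero]
    · rw [(hf q.1).2 ⟨i, h1⟩, zero_mul]
  one_mem' n := by
    classical
    rw [coeff_one]
    refine ⟨by split_ifs <;> simp [one_mem, zero_mem], fun ⟨i, hi⟩ => if_neg ?_⟩
    rintro rfl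
    simp at hi
  add_mem' {f g} hf hg n := by
    rw [map_add]
    exact ⟨add_mem (hf n).1 (hg n).1, fun h => by rw [(hf n).2 h, (hg n).2 h, add_zero]⟩
  zero_mem' n := by simp [zero_mem]
  neg_mem' {f} hf n := by
    rw [map_neg]
    exact ⟨neg_mem (hf n).1, fun h => by rw [(hf n).2 h, neg_zero]⟩

omit hp [CharP k p] in
lemma mem_sub {E : Subfield k} {f : MvPowerSeries (Fin r) k} :
    f ∈ sub p r E ↔ ∀ n, coeff n f ∈ E ∧ ((∃ i, ¬ p ∣ n i) → coeff n f = 0) := Iff.rfl

/-- A coefficient function as a series. -/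
def ser (f : (Fin r →₀ ℕ) → k) : MvPowerSeries (Fin r) k := f

omit hp [CharP k p] in
lemma coeff_ser (f : (Fin r →₀ ℕ) → k) (n : Fin r →₀ ℕ) : coeff n (ser f) = f n := rfl

/-- the exponent `a` as a multi-index -/
noncomputable def emb (a : Fin r → Fin p) : Fin r →₀ ℕ := Finsupp.equivFunOnFinite.symm fun i => (a i : ℕ)

/-- `m mod p` -/
noncomputable def res (m : Fin r →₀ ℕ) : Fin r → Fin p := fun i => ⟨m i % p, Nat.mod_lt _ hp.out.pos⟩

omit [CharP k p] in
lemma coeff_comb {J : Type u} [Fintype J] {E : Subfield k} (e : J → k)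
    (g : J × (Fin r → Fin p) → sub p r E) (m : Fin r →₀ ℕ) :
    coeff m (∑ x, (g x : MvPowerSeries (Fin r) k) * monomial (emb x.2) (e x.1)) =
      ∑ j, coeff (m - emb (res (p := p) m)) (g (j, res m) : MvPowerSeries (Fin r) k) * e j := by
  classical
  rw [map_sum, Fintype.sum_prod_type]
  refine Finset.sum_congr rfl fun j _ => ?_
  rw [Finset.sum_eq_single (res (p := p) m)]
  · rw [coeff_mul_monomial, if_pos]
    intro i
    simp only [emb, res, Finsupp.equivFunOnFinite_symm_apply_apply]
    exact Nat.mod_le _ _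
  · intro a _ ha
    rw [coeff_mul_monomial]
    split_ifs with hle
    · obtain ⟨i, hi⟩ := Function.ne_iff.mp ha
      rw [((g (j, a)).2 (m - emb a)).2 ⟨i, fun hdvd => hi (Fin.ext ?_)⟩, zero_mul]
      have hle' : (a i : ℕ) ≤ m i := by simpa [emb] using hle i
      simp only [Finsupp.tsub_apply, emb, Finsupp.equivFunOnFinite_symm_apply_apply] at hdvd
      change (a i : ℕ) = m i % p
      rw [show m i = (m i - a i) + a i by omega, Nat.add_mod, Nat.dvd_iff_mod_eq_zero.mp hdvd, zero_add,
        Nat.mod_mod, Nat.mod_eq_of_lt (a i).2]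
    · rfl
  · simp

lemma sub_props (E : Subfield k) [Module.Finite E k] :
    IsNoetherianRing (sub p r E) ∧ Module.Free (sub p r E) (MvPowerSeries (Fin r) k) ∧
      Module.Finite (sub p r E) (MvPowerSeries (Fin r) k) := by
  classical
  let b := Module.Free.chooseBasis E k
  haveI : Fintype (Module.Free.ChooseBasisIndex E k) := inferInstance
  let v : Module.Free.ChooseBasisIndex E k × (Fin r → Fin p) → MvPowerSeries (Fin r) k :=
    fun x => monomial (emb x.2) (b x.1)
  have hsmul : ∀ (s : sub p r E) (f : MvPowerSeries (Fin r) k), s • f = (s : MvPowerSeries (Fin r) k) * f :=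
    fun s f => rfl
  have li : LinearIndependent (sub p r E) v := by
    rw [Fintype.linearIndependent_iff]
    rintro g hg ⟨j, a⟩
    refine Subtype.ext (MvPowerSeries.ext fun m => ?_)
    rw [ZeroMemClass.coe_zero, map_zero]
    by_cases hd : ∃ i, ¬ p ∣ m i
    · exact ((g (j, a)).2 m).2 hd
    push Not at hd
    have h := congrArg (coeff (m + emb a)) hg
    simp only [hsmul, v] at h
    rw [coeff_comb, map_zero] at h
    have hres : res (p := p) (m + emb a) = a := by
      funext i
      refine Fin.ext ?_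
      simp only [res, Finsupp.add_apply, emb, Finsupp.equivFunOnFinite_symm_apply_apply]
      rw [Nat.add_mod, Nat.dvd_iff_mod_eq_zero.mp (hd i), zero_add, Nat.mod_mod, Nat.mod_eq_of_lt (a i).2]
    rw [hres, add_tsub_cancel_right] at h
    have := Fintype.linearIndependent_iff.1 b.linearIndependent
      (fun j => (⟨_, ((g (j, a)).2 m).1⟩ : E)) (by simpa [Subfield.smul_def] using h) j
    exact congrArg Subtype.val this
  have sp : ⊤ ≤ Submodule.span (sub p r E) (Set.range v) := by
    intro f _
    let g : Module.Free.ChooseBasisIndex E k × (Fin r → Fin p) → sub p r E := fun x =>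
      ⟨ser fun n => if ∀ i, p ∣ n i then (b.repr (coeff (n + emb x.2) f) x.1 : k) else 0, fun n => by
        rw [coeff_ser]
        refine ⟨?_, fun ⟨i, hi⟩ => if_neg fun h => hi (h i)⟩
        split_ifs
        · exact Subtype.coe_prop _
        · exact zero_mem _⟩
    have hf : f = ∑ x, g x • v x := by
      refine MvPowerSeries.ext fun m => ?_
      simp only [hsmul, v]
      rw [coeff_comb]
      have hle : emb (res (p := p) m) ≤ m := fun i => by simpa [emb, res] using Nat.mod_le (m i) p
      have hdiv : ∀ i, p ∣ (m - emb (res (p := p) m)) i := fun i => by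
        simp only [Finsupp.tsub_apply, emb, res, Finsupp.equivFunOnFinite_symm_apply_apply]
        exact Nat.dvd_sub_mod _
      have hg : ∀ j, coeff (m - emb (res (p := p) m)) (g (j, res m) : MvPowerSeries (Fin r) k) =
          (b.repr (coeff m f) j : k) := by
        intro j
        change (if ∀ i, p ∣ (m - emb (res (p := p) m)) i then _ else _) = _
        rw [if_pos hdiv, tsub_add_cancel_of_le hle]
      simp only [hg]
      conv_lhs => rw [← b.sum_repr (coeff m f)]
      simp [Subfield.smul_def]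
    rw [hf]
    exact sum_mem fun x _ => Submodule.smul_mem _ _ (Submodule.subset_span ⟨x, rfl⟩)
  haveI hfree : Module.Free (sub p r E) (MvPowerSeries (Fin r) k) := Module.Free.of_basis (Module.Basis.mk li sp)
  haveI : Module.Finite (sub p r E) (MvPowerSeries (Fin r) k) := Module.Finite.of_basis (Module.Basis.mk li sp)
  exact ⟨GrothLib.Hensel.isNoetherianRing_of_faithfullyFlat (sub p r E) (MvPowerSeries (Fin r) k), hfree, inferInstance⟩


omit hp [CharP k p] in
lemma coeff_mul_proj (E : Subfield k) (l : k →ₗ[E] E) {c : MvPowerSeries (Fin r) k} (hc : ∀ n, coeff n c ∈ E)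
    (h : MvPowerSeries (Fin r) k) (n : Fin r →₀ ℕ) :
    coeff n (c * ser (fun m => ((l (coeff m h) : E) : k))) = (l (coeff n (c * h)) : k) := by
  classical
  rw [coeff_mul, coeff_mul, map_sum, AddSubmonoidClass.coe_finsetSum]
  refine Finset.sum_congr rfl fun q _ => ?_
  rw [show coeff q.1 c * coeff q.2 h = (⟨_, hc q.1⟩ : E) • coeff q.2 h from rfl, map_smul, coeff_ser]
  rfl

/-- If `c ≠ 0` and `c * h` lie in the subring, so does `h`. -/
lemma mem_of_mul_mem (E : Subfield k) [Module.Finite E k] {c h : MvPowerSeries (Fin r) k}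
    (hc : c ∈ sub p r E) (hc0 : c ≠ 0) (hch : c * h ∈ sub p r E) : h ∈ sub p r E := by
  classical
  obtain ⟨-, hfree, hfinA⟩ := sub_props (p := p) (r := r) E
  -- the part of `h` outside the admissible exponents is killed by `c`
  let h₁ : MvPowerSeries (Fin r) k := ser fun n => if ∀ i, p ∣ n i then 0 else coeff n h
  have h1 : c * h₁ = 0 := by
    refine MvPowerSeries.ext fun n => ?_
    rw [coeff_mul, map_zero]
    by_cases hn : ∀ i, p ∣ n i
    · refine Finset.sum_eq_zero fun q hq => ?_
      rw [Finset.mem_antidiagonal] at hq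
      by_cases hq1 : ∃ i, ¬ p ∣ q.1 i
      · rw [(hc q.1).2 hq1, zero_mul]
      push Not at hq1
      simp only [h₁, coeff_ser]
      rw [if_pos fun i => (Nat.dvd_add_right (hq1 i)).mp (by rw [← Finsupp.add_apply, hq]; exact hn i), mul_zero]
    · have h0 := (hch n).2 (by simpa using hn)
      rw [coeff_mul] at h0
      rw [← h0]
      refine Finset.sum_congr rfl fun q hq => ?_
      rw [Finset.mem_antidiagonal] at hq
      by_cases hq1 : ∃ i, ¬ p ∣ q.1 i
      · rw [(hc q.1).2 hq1, zero_mul, zero_mul]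
      push Not at hq1
      congr 1
      simp only [h₁, coeff_ser]
      refine (if_neg fun h2 => hn fun i => ?_)
      rw [← hq, Finsupp.add_apply]; exact dvd_add (hq1 i) (h2 i)
  have h1' : h₁ = 0 := (mul_eq_zero.mp h1).resolve_left hc0
  -- every functional vanishing on `E` kills the coefficients of `h`
  intro n
  refine ⟨?_, fun hn => ?_⟩
  · by_contra hne
    let W : Submodule E k := Submodule.span E {(1 : k)}
    have hnW : coeff n h ∉ W := fun hw => by
      obtain ⟨a, ha⟩ := Submodule.mem_span_singleton.1 hw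
      exact hne (by rw [← ha, Subfield.smul_def, smul_eq_mul, mul_one]; exact a.2)
    obtain ⟨l, hl, hW⟩ := Submodule.exists_le_ker_of_notMem hnW
    have h2 : c * ser (fun m => ((l (coeff m h) : E) : k)) = 0 := by
      refine MvPowerSeries.ext fun m => ?_
      rw [coeff_mul_proj E l (fun q => (hc q).1), map_zero]
      have : coeff m (c * h) ∈ W := Submodule.mem_span_singleton.2
        ⟨⟨_, (hch m).1⟩, by rw [Subfield.smul_def, smul_eq_mul, mul_one]⟩
      rw [show l (coeff m (c * h)) = 0 from hW this]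
      rfl
    have h3 := congrArg (coeff n) ((mul_eq_zero.mp h2).resolve_left hc0)
    rw [coeff_ser, map_zero] at h3
    exact hl (Subtype.ext h3)
  · have h2 := congrArg (coeff n) h1'
    simp only [h₁, coeff_ser, map_zero] at h2
    rwa [if_neg (by simpa using hn)] at h2

omit hp [CharP k p] in
lemma mem_closure_image {R K : Type u} [CommRing R] [Field K] (φ : R →+* K) (S : Subring R) {x : K}
    (hx : x ∈ Subfield.closure (φ '' S)) : ∃ a ∈ S, ∃ c ∈ S, x = φ a / φ c := by
  obtain ⟨y, hy, z, hz, rfl⟩ := Subfield.mem_closure_iff.1 hx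
  rw [← Subring.coe_map, Subring.closure_eq] at hy hz
  obtain ⟨a, ha, rfl⟩ := hy
  obtain ⟨c, hc, rfl⟩ := hz
  exact ⟨a, ha, c, hc, rfl⟩

lemma pow_coeff (g : MvPowerSeries (Fin r) k) (n : Fin r →₀ ℕ) :
    (∃ c : k, coeff n (g ^ p) = c ^ p) ∧ ((∃ i, ¬ p ∣ n i) → coeff n (g ^ p) = 0) := by
  classical
  haveI : ExpChar k p := ExpChar.prime hp.out
  rw [← MvPowerSeries.map_frobenius_expand p hp.out.ne_zero (f := g)]
  refine ⟨?_, fun ⟨i, hi⟩ => ?_⟩
  · rw [MvPowerSeries.coeff_map, frobenius_def]; exact ⟨_, rfl⟩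
  · rw [MvPowerSeries.coeff_map, MvPowerSeries.coeff_expand_of_not_dvd p hp.out.ne_zero g hi, map_zero]

lemma exists_root {h : MvPowerSeries (Fin r) k}
    (hh : ∀ n, (∃ c : k, coeff n h = c ^ p) ∧ ((∃ i, ¬ p ∣ n i) → coeff n h = 0)) :
    ∃ g : MvPowerSeries (Fin r) k, g ^ p = h := by
  classical
  haveI : ExpChar k p := ExpChar.prime hp.out
  choose c hc using fun n => (hh n).1
  refine ⟨ser fun n => c (p • n), MvPowerSeries.ext fun n => ?_⟩
  rw [← MvPowerSeries.map_frobenius_expand p hp.out.ne_zero, MvPowerSeries.coeff_map]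
  by_cases hd : ∃ i, ¬ p ∣ n i
  · obtain ⟨i, hi⟩ := hd
    rw [MvPowerSeries.coeff_expand_of_not_dvd p hp.out.ne_zero _ hi, map_zero, (hh n).2 ⟨i, hi⟩]
  · push Not at hd
    obtain ⟨m, rfl⟩ : ∃ m, n = p • m := ⟨n.mapRange (· / p) (Nat.zero_div p), Finsupp.ext fun i => by
      simp [Nat.mul_div_cancel' (hd i)]⟩
    rw [MvPowerSeries.coeff_expand_smul, frobenius_def, coeff_ser, ← hc]

lemma finite_of_adjoin {k₀ : Type u} [Field k₀] [Algebra k₀ k] (I : IntermediateField k₀ k) (hI : ∀ x : k, x ^ p ∈ I)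
    (G : Set k) (hG : G.Finite) (htop : ∀ z, z ∈ genField p k₀ ((I : Set k) ∪ G)) : Module.Finite I k := by
  classical
  have hint : ∀ x ∈ G, IsIntegral I x := fun x _ => ⟨Polynomial.X ^ p - Polynomial.C (⟨x ^ p, hI x⟩ : I),
    Polynomial.monic_X_pow_sub_C _ hp.out.ne_zero, by simp⟩
  have hfg := fg_adjoin_of_finite hG hint
  have htop' : Subalgebra.toSubmodule (Algebra.adjoin I G) = ⊤ := by
    rw [eq_top_iff]
    rintro z -
    let S : Subalgebra k₀ k := (Algebra.adjoin I G).restrictScalars k₀
    have hS : ∀ x : k, x ^ p ∈ S := fun x => Subalgebra.algebraMap_mem (Algebra.adjoin I G) (⟨x ^ p, hI x⟩ : I)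
    have hz := htop z
    change z ∈ S
    induction hz using IntermediateField.adjoin_induction with
    | mem w hw =>
      rcases hw with ⟨v, rfl⟩ | hw | hw
      · exact hS v
      · exact Subalgebra.algebraMap_mem (Algebra.adjoin I G) (⟨w, hw⟩ : I)
      · exact Algebra.subset_adjoin hw
    | algebraMap c => exact S.algebraMap_mem c
    | add _ _ _ _ h1 h2 => exact add_mem h1 h2
    | inv _ _ h1 => exact GrothLib.PBasis.inv_mem_of_pow_mem S hS h1
    | mul _ _ _ _ h1 h2 => exact mul_mem h1 h2
  rw [htop'] at hfg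
  exact ⟨hfg⟩

lemma finite_genField {k₀ : Type u} [Field k₀] [Algebra k₀ k] {B : Set k} (hBg : genField p k₀ B = ⊤) (F : Finset B) :
    Module.Finite (genField p k₀ (B \ ((↑) '' (F : Set B)))) k := by
  classical
  refine finite_of_adjoin (p := p) _ (fun x => GrothLib.PBasis.pPower_le_genField _ (Algebra.subset_adjoin ⟨x, rfl⟩))
    ((↑) '' (F : Set B)) (F.finite_toSet.image _) fun z => ?_
  refine GrothLib.PBasis.genField_mono ?_ (hBg ▸ IntermediateField.mem_top : z ∈ genField p k₀ B)
  intro w hw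
  by_cases hwF : w ∈ ((↑) '' (F : Set B) : Set k)
  · exact Or.inr hwF
  · exact Or.inl (GrothLib.PBasis.subset_genField _ ⟨hw, hwF⟩)

lemma inter_genField {k₀ : Type u} [Field k₀] [Algebra k₀ k] {B : Set k} (hBg : genField p k₀ B = ⊤)
    (hBi : LinearIndependent k (fun i : B => KaehlerDifferential.D k₀ k (i : k))) (z : k)
    (hz : ∀ F : Finset B, z ∈ genField p k₀ (B \ ((↑) '' (F : Set B)))) : z ∈ genField p k₀ (∅ : Set k) := by
  classical
  have h1 := GrothLib.PBasis.D_mem_span (p := p) (k := k₀) (s := B) (b := z) (hBg ▸ IntermediateField.mem_top)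
  rw [Set.image_eq_range] at h1
  obtain ⟨c, hc⟩ := Finsupp.mem_span_range_iff_exists_finsupp.1 h1
  have h2 := GrothLib.PBasis.D_mem_span (p := p) (k := k₀) (hz c.support)
  have hdis := hBi.disjoint_span_image (s := (↑c.support : Set B)) (t := (↑c.support : Set B)ᶜ) disjoint_compl_right
  have hD : KaehlerDifferential.D k₀ k z = 0 := by
    refine Submodule.disjoint_def.1 hdis _ ?_ (Submodule.span_mono ?_ h2)
    · rw [← hc]
      exact sum_mem fun y hy => Submodule.smul_mem _ _ (Submodule.subset_span ⟨y, hy, rfl⟩)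
    · rintro _ ⟨w, ⟨hwB, hw⟩, rfl⟩
      exact ⟨⟨w, hwB⟩, fun h => hw ⟨⟨w, hwB⟩, h, rfl⟩, rfl⟩
  have hmem : z ∈ genField p k₀ (∅ : Set k) := by
    by_contra hcon
    exact GrothLib.PBasis.notMem_D hcon (by rw [hD]; exact zero_mem _)
  exact hmem

end



/-- Let k be a field of characteristic p > 0, A = k[[T_1, …, T_r]] and K its field of fractions. Then
there is a decreasing filtered family (A_α) of Noetherian subrings of A (rendered: a nonempty
family, directed downwards for inclusion) such that A is a free A_α-module of finite type for every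
α and, K_α denoting the subfield of K generated by A_α (its field of fractions inside K), ⋂_α K_α =
K^p. -/
theorem result (p : ℕ) [Fact p.Prime] (k : Type u) [Field k] [CharP k p]
    (r : ℕ) :
    ∃ (ι : Type u) (_ : Nonempty ι) (S : ι → Subring (MvPowerSeries (Fin r) k)),
      (∀ a b : ι, ∃ c, S c ≤ S a ⊓ S b) ∧
      (∀ i, IsNoetherianRing (S i) ∧ Module.Free (S i) (MvPowerSeries (Fin r) k) ∧ Module.Finite (S i) (MvPowerSeries (Fin r) k)) ∧
      ((⨅ i, Subfield.closure (algebraMap (MvPowerSeries (Fin r) k) (FractionRing (MvPowerSeries (Fin r) k)) '' (S i)) :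
          Set (FractionRing (MvPowerSeries (Fin r) k)))) =
        Set.range fun x : FractionRing (MvPowerSeries (Fin r) k) => x ^ p := by
  classical
  haveI : ExpChar k p := ExpChar.prime Fact.out
  let k₀ : Subfield k := (frobenius k p).fieldRange
  haveI : IsDomain (MvPowerSeries (Fin r) k) := NoZeroDivisors.to_isDomain _
  let φ : (MvPowerSeries (Fin r) k) →+* (FractionRing (MvPowerSeries (Fin r) k)) := algebraMap (MvPowerSeries (Fin r) k) (FractionRing (MvPowerSeries (Fin r) k))
  -- a `p`-basis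
  obtain ⟨B, -, -, hB⟩ := GrothLib.PBasis.exists_pBasis (p := p) (k := k₀) (S := (Set.univ : Set k)) (L := (∅ : Set k))
    (Set.empty_subset _)
    (by
      rw [GrothLib.PBasis.isPGenerating_iff, Subtype.range_coe, eq_top_iff]
      exact fun b _ => GrothLib.PBasis.subset_genField _ (Set.mem_univ b))
    ((GrothLib.PBasis.isPIndependent_iff (Subtype.val : (∅ : Set k) → k)).2 fun a => a.2.elim)
  obtain ⟨hBi, hBg⟩ := hB
  rw [GrothLib.PBasis.isPGenerating_iff, Subtype.range_coe] at hBg
  rw [GrothLib.PBasis.isPIndependent_iff_linearIndependent] at hBi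
  let E : Finset B → Subfield k := fun F => (genField p k₀ (B \ ((↑) '' (F : Set B)))).toSubfield
  have hEmono : ∀ {F G : Finset B}, F ⊆ G → E G ≤ E F := fun h =>
    GrothLib.PBasis.genField_mono (Set.diff_subset_diff_right (Set.image_mono h))
  have hfin : ∀ F, Module.Finite (E F) k := by
    intro F
    exact finite_genField (p := p) hBg F
  have hpE : ∀ F (c : k), c ^ p ∈ E F := fun F c => IntermediateField.subset_adjoin _ _ (Or.inl ⟨c, rfl⟩)
  have hinter : ∀ z : k, (∀ F, z ∈ E F) → ∃ c : k, z = c ^ p := by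
    intro z hz
    have hmem := inter_genField (p := p) hBg hBi z hz
    have hle : ∀ w ∈ genField p k₀ (∅ : Set k), w ∈ (frobenius k p).fieldRange := by
      intro w hw
      induction hw using IntermediateField.adjoin_induction with
      | mem y hy =>
        rcases hy with ⟨v, rfl⟩ | hy
        · exact ⟨v, rfl⟩
        · exact absurd hy (Set.notMem_empty _)
      | algebraMap a => exact a.2
      | add _ _ _ _ h1 h2 => exact add_mem h1 h2
      | inv _ _ h1 => exact inv_mem h1
      | mul _ _ _ _ h1 h2 => exact mul_mem h1 h2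
    obtain ⟨c, hc⟩ := hle z hmem
    exact ⟨c, hc.symm⟩
  haveI : Nonempty (Finset B) := ⟨∅⟩
  refine ⟨Finset B, inferInstance, fun F => sub p r (E F), fun a b => ⟨a ∪ b, ?_⟩, fun F => by
    haveI := hfin F; exact sub_props (E F), ?_⟩
  · refine le_inf ?_ ?_ <;> intro f hf n
    · exact ⟨hEmono Finset.subset_union_left (hf n).1, (hf n).2⟩
    · exact ⟨hEmono Finset.subset_union_right (hf n).1, (hf n).2⟩
  have hpow : ∀ F (g : (MvPowerSeries (Fin r) k)), g ^ p ∈ sub p r (E F) := fun F g n => by
    obtain ⟨⟨c, hc⟩, h0⟩ := pow_coeff (p := p) g n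
    exact ⟨hc ▸ hpE F c, h0⟩
  ext x
  simp only [Set.iInf_eq_iInter, Set.mem_iInter]
  constructor
  · intro hx
    obtain ⟨f, g, hg, rfl⟩ := IsFractionRing.div_surjective (MvPowerSeries (Fin r) k) x
    have hg0 : φ g ≠ 0 := IsFractionRing.to_map_ne_zero_of_mem_nonZeroDivisors hg
    let h := f * g ^ (p - 1)
    have hh : φ h = φ f / φ g * φ (g ^ p) := by
      obtain ⟨q, hq⟩ : ∃ q, p = q + 1 := ⟨p - 1, (Nat.sub_add_cancel (Fact.out : p.Prime).one_le).symm⟩
      simp only [h, hq, Nat.add_sub_cancel, map_mul, map_pow, pow_succ]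
      field_simp
    -- `h` lies in every subring
    have hmem : ∀ F, h ∈ sub p r (E F) := by
      intro F
      obtain ⟨a, ha, c, hc, hac⟩ := mem_closure_image φ (sub p r (E F))
        (hh ▸ mul_mem (hx F) (Subfield.subset_closure ⟨_, hpow F g, rfl⟩))
      rcases eq_or_ne c 0 with rfl | hc0
      · rw [map_zero, div_zero, map_eq_zero_iff φ (IsFractionRing.injective (MvPowerSeries (Fin r) k) (FractionRing (MvPowerSeries (Fin r) k)))] at hac
        rw [hac]; exact zero_mem _
      have hcne : φ c ≠ 0 := by rwa [Ne, map_eq_zero_iff φ (IsFractionRing.injective (MvPowerSeries (Fin r) k) (FractionRing (MvPowerSeries (Fin r) k)))]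
      have hch : c * h = a := IsFractionRing.injective (MvPowerSeries (Fin r) k) (FractionRing (MvPowerSeries (Fin r) k)) (show φ (c * h) = φ a by
        rw [map_mul, hac, mul_div_cancel₀ _ hcne])
      haveI := hfin F
      exact mem_of_mul_mem (p := p) (E F) hc hc0 (by rw [hch]; exact ha)
    obtain ⟨q, hq⟩ := exists_root (p := p) (h := h) fun n =>
      ⟨hinter _ fun F => (hmem F n).1, (hmem ∅ n).2⟩
    refine ⟨φ q / φ g, ?_⟩
    change (φ q / φ g) ^ p = φ f / φ g
    rw [div_pow, ← map_pow, hq, hh, map_pow, mul_div_assoc, div_self (pow_ne_zero _ hg0), mul_one]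
  · rintro ⟨y, rfl⟩ F
    obtain ⟨f, g, -, rfl⟩ := IsFractionRing.div_surjective (MvPowerSeries (Fin r) k) y
    change (φ f / φ g) ^ p ∈ _
    rw [div_pow, ← map_pow, ← map_pow]
    exact div_mem (Subfield.subset_closure ⟨_, hpow F f, rfl⟩) (Subfield.subset_closure ⟨_, hpow F g, rfl⟩)


end Groth.Agent.S4548
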