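import Groth.Statements.S4549
import Groth.Agent.Lib.PBasis.Field
import Groth.Agent.Lib.ImperfDelta.Basic

set_option autoImplicit false
universe u
open EGA41

namespace Groth.Agent.S4549

open TensorProduct
open KaehlerDifferential (D)


open TensorProduct in
/-- Let K be a field of characteristic p, k₀ a subfield and L an extension of K such that Υ_{L/K/k₀} has
finite rank over L. Then there is a subfield k of K containing k₀(K^p), with [K : k] finite, which
is k₀-admissible for the extension L of K, i.e. such that Υ_{L/K/k₀} → Υ_{L/K/k} is injective. (The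
published statement uses the characteristic exponent and so also covers characteristic 0, where k =
K works; this row treats characteristic p > 0.) -/
theorem result (p : ℕ) [Fact p.Prime] {k₀ K L : Type u} [Field k₀] [Field K] [Field L]
    [Algebra k₀ K] [Algebra K L] [Algebra k₀ L] [IsScalarTower k₀ K L] [CharP K p]
    [Module.Finite L (EGA41.imperfection k₀ K L)] :
    ∃ k : IntermediateField k₀ K, (∀ y : K, y ^ p ∈ k) ∧ Module.Finite k K ∧
      ∀ ω ∈ EGA41.imperfection k₀ K L,
        ((KaehlerDifferential.map k₀ k K K).restrictScalars K).baseChange L ω = 0 → ω = 0 := by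
  classical
  obtain ⟨B, -, hB⟩ := GrothLib.PBasis.exists_pBasis_superset (p := p) (k := k₀) (K := K) (x := PEmpty.elim.{u+1, u+1})
    ((GrothLib.PBasis.isPIndependent_iff_linearIndependent _).2 linearIndependent_empty_type)
  obtain ⟨bk, hbk⟩ := GrothLib.PBasis.exists_basis_kaehler (CharP.cast_eq_zero K p) _ hB
  let bT := Algebra.TensorProduct.basis L bk
  obtain ⟨F, hF⟩ := (Module.Finite.iff_fg.1 ‹Module.Finite L (EGA41.imperfection k₀ K L)› : (EGA41.imperfection k₀ K L).FG)
  let S : Finset B := F.biUnion fun z => (bT.repr z).support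
  have hS : ∀ z ∈ EGA41.imperfection k₀ K L, z ∈ Submodule.span L (bT '' (S : Set B)) := by
    rw [← hF]
    refine fun z hz => Submodule.span_le.2 (fun y hy => ?_) hz
    rw [SetLike.mem_coe, bT.mem_span_image]
    exact fun i hi => Finset.mem_biUnion.2 ⟨y, hy, hi⟩
  let T : Set K := Subtype.val '' ((S : Set B)ᶜ)
  let k := GrothLib.PBasis.genField p k₀ T
  have hpow : ∀ y : K, y ^ p ∈ k := fun y =>
    GrothLib.PBasis.pPower_le_genField T (Algebra.subset_adjoin ⟨y, rfl⟩)
  refine ⟨k, hpow, ?_, fun ω hω h0 => ?_⟩
  · let S' : Set K := Subtype.val '' (S : Set B)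
    haveI : Finite ↥S' := (S.finite_toSet.image _).to_subtype
    have htop : IntermediateField.adjoin (↥k) S' = ⊤ := by
      refine eq_top_iff.2 fun b hb => ?_
      clear hb
      have hgen : b ∈ GrothLib.PBasis.genField p k₀ (Set.range (Subtype.val : B → K)) :=
        ((GrothLib.PBasis.isPGenerating_iff _).1 hB.2).symm ▸ IntermediateField.mem_top
      induction hgen using IntermediateField.adjoin_induction with
      | mem y hy =>
        rcases hy with ⟨z, rfl⟩ | ⟨i, rfl⟩
        · exact IntermediateField.algebraMap_mem _ (⟨_, hpow z⟩ : k)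
        · by_cases hi : i ∈ S
          · exact IntermediateField.subset_adjoin _ _ ⟨i, hi, rfl⟩
          · exact IntermediateField.algebraMap_mem _
              (⟨_, GrothLib.PBasis.subset_genField T ⟨i, hi, rfl⟩⟩ : k)
      | algebraMap r => exact IntermediateField.algebraMap_mem _ (algebraMap k₀ k r)
      | add _ _ _ _ h1 h2 => exact add_mem h1 h2
      | inv _ _ h1 => exact inv_mem h1
      | mul _ _ _ _ h1 h2 => exact mul_mem h1 h2
    have hfin : FiniteDimensional k (IntermediateField.adjoin (↥k) S') :=
      IntermediateField.finiteDimensional_adjoin fun x _ => IsIntegral.of_pow (Fact.out : p.Prime).pos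
        (isIntegral_algebraMap (x := (⟨x ^ p, hpow x⟩ : k)))
    rw [htop] at hfin
    exact Module.Finite.equiv IntermediateField.topEquiv.toLinearEquiv
  · obtain ⟨t, rfl⟩ : ω ∈ LinearMap.range (GrothLib.ImperfDelta.inner k₀ k K L) := by
      rw [GrothLib.ImperfDelta.range_inner]; exact h0
    have h1 : ∀ a : k, D k₀ K (algebraMap k K a) ∈ Submodule.span K (bk '' ((S : Set B)ᶜ)) := fun a => by
      refine Submodule.span_mono ?_ (GrothLib.PBasis.D_mem_span a.2)
      rintro _ ⟨_, ⟨i, hi, rfl⟩, rfl⟩
      exact ⟨i, hi, hbk i⟩
    have hb : ∀ i, bT i = (1 : L) ⊗ₜ[K] bk i := fun i => Algebra.TensorProduct.basis_apply bk i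
    have h2 : ∀ v ∈ Submodule.span K (bk '' ((S : Set B)ᶜ)), ∀ c : L, c ⊗ₜ[K] v ∈ Submodule.span L (bT '' ((S : Set B)ᶜ)) := by
      intro v hv
      induction hv using Submodule.span_induction with
      | mem y hy =>
        obtain ⟨i, hi, rfl⟩ := hy
        intro c
        rw [show c ⊗ₜ[K] bk i = c • bT i by rw [hb, smul_tmul', smul_eq_mul, mul_one]]
        exact Submodule.smul_mem _ _ (Submodule.subset_span ⟨i, hi, rfl⟩)
      | zero => exact fun c => by rw [tmul_zero]; exact zero_mem _
      | add a b _ _ ha hb => exact fun c => by rw [tmul_add]; exact add_mem (ha c) (hb c)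
      | smul r a _ ha => exact fun c => by rw [← smul_tmul]; exact ha _
    have h3 : ∀ t, GrothLib.ImperfDelta.inner k₀ k K L t ∈ Submodule.span L (bT '' ((S : Set B)ᶜ)) := fun t => by
      clear * - h1 h2
      induction t using TensorProduct.induction_on with
      | zero => rw [map_zero]; exact zero_mem _
      | add a b ha hb => rw [map_add]; exact add_mem ha hb
      | tmul c x =>
        rw [GrothLib.ImperfDelta.inner_tmul]
        refine h2 _ ?_ c
        induction Submodule.eq_top_iff'.1 (KaehlerDifferential.span_range_derivation k₀ k) x using Submodule.span_induction with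
        | mem x hx =>
          obtain ⟨a, rfl⟩ := hx
          rw [KaehlerDifferential.map_D]; exact h1 a
        | zero => rw [map_zero]; exact zero_mem _
        | add a b _ _ ha hb => rw [map_add]; exact add_mem ha hb
        | smul a y _ hy =>
          rw [map_smul, ← algebraMap_smul K a]
          exact Submodule.smul_mem _ _ hy
    exact Submodule.disjoint_def.1 (bT.linearIndependent.disjoint_span_image disjoint_compl_right) _ (hS _ hω) (h3 t)

end Groth.Agent.S4549
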