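import Groth.Statements.S4550
import Mathlib

set_option autoImplicit false
universe u
open EGA41

namespace Groth.Agent.S4550

set_option linter.style.haveILetI false

open MvPowerSeries in
/-- The intersection of the fields of power series with coefficients in a decreasing family of subfields. -/
theorem main {k : Type u} [Field k] {ι : Type u} [Nonempty ι] (F : ι → Subfield k)
    (e : ℕ) (hq : ∀ x : k, x ^ ringExpChar k ^ e ∈ ⨅ i, F i) (r : ℕ) :
    (⨅ i, Subfield.closure (algebraMap (MvPowerSeries (Fin r) k) (FractionRing (MvPowerSeries (Fin r) k)) ''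
        {f | ∀ n, coeff n f ∈ F i})) =
      Subfield.closure (algebraMap (MvPowerSeries (Fin r) k) (FractionRing (MvPowerSeries (Fin r) k)) ''
        {f | ∀ n, coeff n f ∈ ⨅ i, F i}) := by
  classical
  let K := FractionRing (MvPowerSeries (Fin r) k)
  let am := algebraMap (MvPowerSeries (Fin r) k) K
  have hinj : Function.Injective am := IsFractionRing.injective _ _
  have hfrac : ∀ (i : ι) {x : K}, x ∈ Subfield.closure (am '' {f | ∀ n, coeff n f ∈ F i}) →
      ∃ a b : MvPowerSeries (Fin r) (F i), b ≠ 0 ∧
        x * am (map (F i).subtype b) = am (map (F i).subtype a) := fun i x hx => by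
    have hmap : Function.Injective (map (σ := Fin r) (F i).subtype) := fun a b hab =>
      MvPowerSeries.ext fun n => (F i).subtype.injective (by simpa using congrArg (coeff n) hab)
    induction hx using Subfield.closure_induction with
    | mem x hx =>
      obtain ⟨f, hf, rfl⟩ := hx
      refine ⟨fun n => ⟨coeff n f, hf n⟩, 1, one_ne_zero, ?_⟩
      rw [map_one, map_one, mul_one]
      exact congrArg am (MvPowerSeries.ext fun n => rfl)
    | one => exact ⟨1, 1, one_ne_zero, one_mul _⟩
    | add x y _ _ hx hy =>
      obtain ⟨a, b, hb, hab⟩ := hx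
      obtain ⟨c, d, hd, hcd⟩ := hy
      refine ⟨a * d + c * b, b * d, mul_ne_zero hb hd, ?_⟩
      simp only [map_mul, map_add, ← hab, ← hcd]
      ring
    | neg x _ hx =>
      obtain ⟨a, b, hb, hab⟩ := hx
      exact ⟨-a, b, hb, by rw [map_neg, map_neg, neg_mul, hab]⟩
    | inv x _ hx =>
      obtain ⟨a, b, hb, hab⟩ := hx
      by_cases hx0 : x = 0
      · exact ⟨0, 1, one_ne_zero, by rw [hx0, inv_zero, zero_mul, map_zero, map_zero]⟩
      · have hb' : am (map (F i).subtype b) ≠ 0 := fun h => hb (hmap (by rw [map_zero]; exact hinj (by rw [h, map_zero])))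
        refine ⟨b, a, fun h => ?_, by rw [← hab, ← mul_assoc, inv_mul_cancel₀ hx0, one_mul]⟩
        rw [h, map_zero, map_zero] at hab
        exact (mul_ne_zero hx0 hb') hab
    | mul x y _ _ hx hy =>
      obtain ⟨a, b, hb, hab⟩ := hx
      obtain ⟨c, d, hd, hcd⟩ := hy
      refine ⟨a * c, b * d, mul_ne_zero hb hd, ?_⟩
      simp only [map_mul, ← hab, ← hcd]
      ring
  refine le_antisymm (fun x hx => ?_) (le_iInf fun i => Subfield.closure_mono (Set.image_mono fun f hf n =>
    Subfield.mem_iInf.1 (hf n) i))
  rw [Subfield.mem_iInf] at hx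
  obtain ⟨i₀⟩ := ‹Nonempty ι›
  obtain ⟨a, b, hb, hab⟩ := hfrac i₀ (hx i₀)
  -- a denominator with coefficients in all the subfields
  let p := ringExpChar k
  haveI : ExpChar k p := inferInstance
  have hp : p ≠ 0 := expChar_ne_zero k p
  let h : MvPowerSeries (Fin r) k := map (F i₀).subtype b ^ p ^ e
  have hh : ∀ n, coeff n h ∈ ⨅ i, F i := fun n => by
    show coeff n (map (F i₀).subtype b ^ p ^ e) ∈ _
    rw [← MvPowerSeries.map_iterateFrobenius_expand p hp, coeff_map, iterateFrobenius_def]
    exact hq _
  have hh0 : am h ≠ 0 := fun h0 => hb (MvPowerSeries.ext fun n => (F i₀).subtype.injective (by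
    have h1 := pow_eq_zero_iff (pow_ne_zero e hp) |>.1 (hinj (h0.trans (map_zero am).symm))
    simpa using congrArg (coeff n) h1))
  let s : MvPowerSeries (Fin r) k := map (F i₀).subtype a * map (F i₀).subtype b ^ (p ^ e - 1)
  have hs : x * am h = am s := by
    show x * am (map (F i₀).subtype b ^ p ^ e) = _
    conv_lhs => rw [← Nat.sub_add_cancel (Nat.one_le_iff_ne_zero.2 (pow_ne_zero e hp)), pow_succ', map_mul, ← mul_assoc, hab]
    rw [map_mul]
  have hsF : ∀ n, coeff n s ∈ ⨅ i, F i := fun n => Subfield.mem_iInf.2 fun i => by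
    obtain ⟨c, d, hd, hcd⟩ := hfrac i (hx i)
    obtain ⟨g, hg⟩ := (Algebra.linearMap (F i) k).exists_leftInverse_of_injective
      (LinearMap.ker_eq_bot.2 (algebraMap (F i) k).injective)
    have hgF : ∀ z : F i, g (z : k) = z := fun z => LinearMap.congr_fun hg z
    have hgm : ∀ (f : MvPowerSeries (Fin r) k) (q : MvPowerSeries (Fin r) (F i)) (n : Fin r →₀ ℕ),
        g (coeff n (f * map (F i).subtype q)) = coeff n ((show MvPowerSeries (Fin r) (F i) from fun m => g (coeff m f)) * q) := fun f q n => by
      rw [coeff_mul, coeff_mul, map_sum]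
      refine Finset.sum_congr rfl fun ab _ => ?_
      rw [coeff_map, mul_comm (coeff ab.1 f), show (F i).subtype (coeff ab.2 q) * coeff ab.1 f = (coeff ab.2 q) • coeff ab.1 f from rfl,
        map_smul, smul_eq_mul, mul_comm]
      rfl
    let h' : MvPowerSeries (Fin r) (F i) := fun m => ⟨coeff m h, Subfield.mem_iInf.1 (hh m) i⟩
    have hh' : map (F i).subtype h' = h := MvPowerSeries.ext fun m => rfl
    have heq : s * map (F i).subtype d = map (F i).subtype (h' * c) := hinj (by
      rw [map_mul am, ← hs, map_mul (map (F i).subtype), hh', map_mul am, ← hcd]; ring)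
    let t : MvPowerSeries (Fin r) (F i) := fun m => g (coeff m s)
    have ht : t * d = h' * c := MvPowerSeries.ext fun m => by
      rw [← hgm, heq, coeff_map]
      exact hgF _
    have hts : map (F i).subtype t = s := by
      have hd' : map (F i).subtype d ≠ 0 := fun h0 => hd (MvPowerSeries.ext fun m => (F i).subtype.injective (by
        simpa using congrArg (coeff m) h0))
      refine mul_right_cancel₀ hd' ?_
      rw [← map_mul, ht, heq]
    rw [← hts, coeff_map]
    exact (g (coeff n s)).2
  have hx' : x = am s / am h := (eq_div_iff hh0).2 hs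
  rw [hx']
  exact div_mem (Subfield.subset_closure ⟨s, hsF, rfl⟩) (Subfield.subset_closure ⟨h, hh, rfl⟩)


/-- Let k be a field, (k_α) a decreasing filtered family of subfields of k with intersection k₀, and
suppose there is a power q of the characteristic exponent of k with k^q ⊆ k₀. Then, inside k((T_1,
…, T_r)), one has ⋂_α k_α((T_1, …, T_r)) = k₀((T_1, …, T_r)); here F((T)) is the subfield of the
fraction field of k[[T]] generated by the power series with all coefficients in F. -/
theorem result {k : Type u} [Field k] {ι : Type u} [Nonempty ι] (F : ι → Subfield k)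
    (hdir : ∀ a b : ι, ∃ c, F c ≤ F a ⊓ F b) (e : ℕ) (hq : ∀ x : k, x ^ ringExpChar k ^ e ∈ ⨅ i, F i) (r : ℕ) :
    (⨅ i, Subfield.closure (algebraMap (MvPowerSeries (Fin r) k) (FractionRing (MvPowerSeries (Fin r) k)) ''
        {f | ∀ n, MvPowerSeries.coeff n f ∈ F i})) =
      Subfield.closure (algebraMap (MvPowerSeries (Fin r) k) (FractionRing (MvPowerSeries (Fin r) k)) ''
        {f | ∀ n, MvPowerSeries.coeff n f ∈ ⨅ i, F i}) := by
  exact main F e hq r


end Groth.Agent.S4550
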