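import Groth.Statements.S4552

set_option autoImplicit false
universe u
open EGA41

namespace Groth.Agent.S4552

/-- For the 𝔞-adic topology on A and the deduced topology on M: the topological A-module M is formally
projective (for every open ideal 𝔞ⁿ, every pair of (A/𝔞ⁿ)-modules P, Q, every surjection P → Q and
every continuous A-linear map M → Q — here automatically continuous — there is a continuous A-linear
lift M → P) if and only if it is strictly formally projective, i.e. M/𝔞ⁿM is a projective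
(A/𝔞ⁿ)-module for every n. -/
theorem result {A : Type u} [CommRing A] (𝔞 : Ideal A) (M : Type u)
    [AddCommGroup M] [Module A M] :
    (∀ (n : ℕ) (P Q : Type u) [AddCommGroup P] [Module A P] [AddCommGroup Q] [Module A Q],
      (∀ a ∈ 𝔞 ^ n, ∀ y : P, a • y = 0) → (∀ a ∈ 𝔞 ^ n, ∀ y : Q, a • y = 0) →
      ∀ f : P →ₗ[A] Q, Function.Surjective f → ∀ v : M →ₗ[A] Q, ∃ w : M →ₗ[A] P, f ∘ₗ w = v) ↔
    ∀ n : ℕ, Module.Projective (A ⧸ 𝔞 ^ n) (M ⧸ (𝔞 ^ n • ⊤ : Submodule A M)) := by
  constructor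
  · intro h n
    refine Module.Projective.of_lifting_property'' fun f hf => ?_
    have hs : Function.Surjective (algebraMap A (A ⧸ 𝔞 ^ n)) := Ideal.Quotient.mk_surjective
    have hP : ∀ a ∈ 𝔞 ^ n, ∀ y : (M ⧸ (𝔞 ^ n • ⊤ : Submodule A M)) →₀ A ⧸ 𝔞 ^ n, a • y = 0 := by
      intro a ha y
      rw [← IsScalarTower.algebraMap_smul (A ⧸ 𝔞 ^ n) a y, Ideal.Quotient.algebraMap_eq,
        Ideal.Quotient.eq_zero_iff_mem.2 ha, zero_smul]
    obtain ⟨w, hw⟩ := h n _ _ hP (fun a ha y => by
        obtain ⟨y, rfl⟩ := Submodule.Quotient.mk_surjective _ y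
        rw [← Submodule.Quotient.mk_smul, Submodule.Quotient.mk_eq_zero]
        exact Submodule.smul_mem_smul ha Submodule.mem_top)
      (f.restrictScalars A) hf (𝔞 ^ n • ⊤ : Submodule A M).mkQ
    refine ⟨((𝔞 ^ n • ⊤ : Submodule A M).liftQ w ?_).extendScalarsOfSurjective hs, ?_⟩
    · rw [Submodule.smul_le]
      intro a ha y _
      rw [LinearMap.mem_ker, map_smul, hP a ha]
    · refine LinearMap.ext fun x => ?_
      obtain ⟨x, rfl⟩ := Submodule.Quotient.mk_surjective _ x
      exact LinearMap.congr_fun hw x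
  · intro h n P Q _ _ _ _ hP hQ f hf v
    have hs : Function.Surjective (algebraMap A (A ⧸ 𝔞 ^ n)) := Ideal.Quotient.mk_surjective
    have hP' : Module.IsTorsionBySet A P ((𝔞 ^ n : Ideal A) : Set A) := fun y a => hP a.1 a.2 y
    have hQ' : Module.IsTorsionBySet A Q ((𝔞 ^ n : Ideal A) : Set A) := fun y a => hQ a.1 a.2 y
    letI := hP'.module
    letI := hQ'.module
    haveI : IsScalarTower A (A ⧸ 𝔞 ^ n) P := hP'.isScalarTower
    haveI : IsScalarTower A (A ⧸ 𝔞 ^ n) Q := hQ'.isScalarTower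
    haveI := h n
    obtain ⟨w, hw⟩ := Module.projective_lifting_property (f.extendScalarsOfSurjective hs)
      (((𝔞 ^ n • ⊤ : Submodule A M).liftQ v (by
        rw [Submodule.smul_le]
        intro a ha y _
        rw [LinearMap.mem_ker, map_smul, hQ a ha])).extendScalarsOfSurjective hs) hf
    exact ⟨(w.restrictScalars A) ∘ₗ (𝔞 ^ n • ⊤ : Submodule A M).mkQ,
      LinearMap.ext fun x => LinearMap.congr_fun hw (Submodule.Quotient.mk x)⟩

end Groth.Agent.S4552
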