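import Groth.Statements.S4556
import Groth.Agent.Lib.AdicFS.Basic

set_option autoImplicit false
universe u
open EGA41

namespace Groth.Agent.S4556

/-- Let B be a formally smooth A-algebra, E and E' two A-algebras, R (resp. R') a nilpotent ideal of E
(resp. E'), f : E → E' a surjective A-algebra homomorphism with f(R) = R', and f' : E/R → E'/R' the
induced homomorphism. Let u : B → E/R be an A-algebra homomorphism and v' : B → E' an A-algebra
homomorphism through which f' ∘ u factors (v' followed by E' → E'/R' equals f' ∘ u). Then there is
an A-algebra homomorphism v : B → E with f ∘ v = v'. (The published statement assumes only f(R) ⊆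
R'; in that form it fails for B = ℚ[x, x⁻¹], E = ℚ[t], E' = ℚ[t]/(t²), R = 0, R' = (t), u : x ↦ 1
and v' : x ↦ 1 + t, since any v sends x to a unit of ℚ[t], a constant; the argument identifies R'
with the image of R, and that equality is assumed here.) -/
theorem result {A B E E' : Type u} [CommRing A] [CommRing B] [Algebra A B]
    [Algebra.FormallySmooth A B] [CommRing E] [CommRing E'] [Algebra A E] [Algebra A E']
    (R : Ideal E) (R' : Ideal E') (hR : IsNilpotent R) (hR' : IsNilpotent R')
    (f : E →ₐ[A] E') (hf : Function.Surjective f) (hfR : R.map f.toRingHom = R')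
    (u : B →ₐ[A] E ⧸ R) (v' : B →ₐ[A] E')
    (huv : (Ideal.Quotient.mkₐ A R').comp v' =
      (Ideal.quotientMapₐ R' f (fun x hx => hfR.le (Ideal.mem_map_of_mem f.toRingHom hx))).comp u) :
    ∃ v : B →ₐ[A] E, f.comp v = v' := by
  exact GrothLib.AdicFS.exists_lift_along_surjection R R' hR f hf hfR u v' huv

end Groth.Agent.S4556
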