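import Groth.Statements.S4557
import Mathlib
import Groth.Agent.Lib.CKaehler2.Generic

set_option autoImplicit false
universe u
open EGA41

namespace Groth.Agent.S4557

open IsLocalRing


open IsLocalRing TensorProduct in
/-- Let A be a complete Noetherian local integral domain, A₀ a subring of A isomorphic to a power series
ring k[[T_1, …, T_r]] over a field k such that A is a finite A₀-algebra and the field of fractions E
of A is a separable extension of the field of fractions L₀ of A₀ (here: A₀ = k[[T]] → A injective
and finite, A a k-algebra through A₀, and every element of A is a root of a polynomial over A₀ which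
is separable over L₀). Then rk_A Ω̂_{A/k} = rk_E (Ω̂_{A/k} ⊗_A E) = dim A = r, where Ω̂_{A/k} is the
𝔪-adic completion of Ω_{A/k}; stated as dim_E (E ⊗_A Ω̂_{A/k}) = r. -/
theorem result (k : Type u) [Field k] (r : ℕ) (A : Type u) [CommRing A]
    [IsDomain A] [IsLocalRing A] [IsNoetherianRing A] [IsAdicComplete (maximalIdeal A) A]
    [Algebra (MvPowerSeries (Fin r) k) A] [Algebra k A] [IsScalarTower k (MvPowerSeries (Fin r) k) A]
    (hinj : Function.Injective (algebraMap (MvPowerSeries (Fin r) k) A)) [Module.Finite (MvPowerSeries (Fin r) k) A]
    (hsep : ∀ a : A, ∃ P : Polynomial (MvPowerSeries (Fin r) k), Polynomial.aeval a P = 0 ∧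
      (P.map (algebraMap (MvPowerSeries (Fin r) k) (FractionRing (MvPowerSeries (Fin r) k)))).Separable) :
    Module.finrank (FractionRing A) (FractionRing A ⊗[A] AdicCompletion (maximalIdeal A) (Ω[A⁄k])) = r := by
  exact GrothLib.CKaehler2.finrank_generic k A hinj hsep

end Groth.Agent.S4557
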