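import Groth.Statements.S4561
import Mathlib.RingTheory.MvPowerSeries.NoZeroDivisors
import Mathlib.RingTheory.Localization.FractionRing
import Mathlib.Algebra.CharP.Algebra
import Mathlib.LinearAlgebra.Dimension.Free
import Mathlib.LinearAlgebra.FiniteDimensional.Basic

set_option autoImplicit false
universe u
open EGA41

namespace Groth.Agent.S4561

/-- Let k₀ be a field of characteristic p > 0 with [k₀ : k₀^p] < ∞ and K₀ an extension of k₀. Inside
K₀((T_1, …, T_r)) one has (k₀(K₀^p))((T_1, …, T_r)) = k₀(K₀^p((T_1, …, T_r))); here, for a subfield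
F of K₀, F((T)) denotes the subfield of the fraction field of K₀[[T]] generated by the power series
with all coefficients in F. -/
theorem result (p : ℕ) [Fact p.Prime] {k₀ K₀ : Type u} [Field k₀] [Field K₀] [Algebra k₀ K₀] [CharP k₀ p]
    (hfin : Module.Finite (Subfield.closure (Set.range fun x : k₀ => x ^ p)) k₀) (r : ℕ) :
    Subfield.closure (algebraMap (MvPowerSeries (Fin r) K₀) (FractionRing (MvPowerSeries (Fin r) K₀)) ''
        {f | ∀ n, MvPowerSeries.coeff n f ∈
          Subfield.closure (Set.range (algebraMap k₀ K₀) ∪ Set.range fun y : K₀ => y ^ p)}) =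
      Subfield.closure
        (Set.range (algebraMap k₀ (FractionRing (MvPowerSeries (Fin r) K₀))) ∪
          (Subfield.closure (algebraMap (MvPowerSeries (Fin r) K₀) (FractionRing (MvPowerSeries (Fin r) K₀)) ''
            {f | ∀ n, MvPowerSeries.coeff n f ∈ Subfield.closure (Set.range fun y : K₀ => y ^ p)}) :
            Set (FractionRing (MvPowerSeries (Fin r) K₀)))) := by
  classical
  haveI : CharP K₀ p := charP_of_injective_algebraMap (algebraMap k₀ K₀).injective p
  haveI : ExpChar K₀ p := ExpChar.prime Fact.out
  let φ := algebraMap (MvPowerSeries (Fin r) K₀) (FractionRing (MvPowerSeries (Fin r) K₀))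
  let P : Subfield K₀ := Subfield.closure (Set.range fun y : K₀ => y ^ p)
  let Q : Subfield K₀ := Subfield.closure (Set.range (algebraMap k₀ K₀) ∪ Set.range fun y : K₀ => y ^ p)
  have hPQ : P ≤ Q := Subfield.closure_mono Set.subset_union_right
  have hconst : ∀ c : k₀, φ (MvPowerSeries.C (algebraMap k₀ K₀ c)) =
      algebraMap k₀ (FractionRing (MvPowerSeries (Fin r) K₀)) c := fun c => by
    rw [IsScalarTower.algebraMap_apply k₀ (MvPowerSeries (Fin r) K₀) (FractionRing (MvPowerSeries (Fin r) K₀)), MvPowerSeries.algebraMap_apply]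
  apply le_antisymm
  · rw [Subfield.closure_le]
    rintro _ ⟨f, hf, rfl⟩
    -- a finite spanning family of the coefficient field over `K₀ ^ p`
    let kp : Subfield k₀ := Subfield.closure (Set.range fun x : k₀ => x ^ p)
    haveI : Module.Finite kp k₀ := hfin
    let b := Module.finBasis kp k₀
    have hkp : ∀ a ∈ kp, algebraMap k₀ K₀ a ∈ P := by
      intro a ha
      induction ha using Subfield.closure_induction with
      | mem x hx => obtain ⟨y, rfl⟩ := hx; rw [map_pow]; exact Subfield.subset_closure ⟨_, rfl⟩
      | one => simp [one_mem]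
      | add _ _ _ _ h1 h2 => rw [map_add]; exact add_mem h1 h2
      | neg _ _ h1 => rw [map_neg]; exact neg_mem h1
      | inv _ _ h1 => rw [map_inv₀]; exact inv_mem h1
      | mul _ _ _ _ h1 h2 => rw [map_mul]; exact mul_mem h1 h2
    let V := Submodule.span P (Set.range fun j => algebraMap k₀ K₀ (b j))
    have hk : ∀ c : k₀, algebraMap k₀ K₀ c ∈ V := by
      intro c
      rw [← b.sum_repr c, map_sum]
      refine sum_mem fun j _ => ?_
      rw [Subfield.smul_def, smul_eq_mul, map_mul]
      exact V.smul_mem (⟨_, hkp _ (b.repr c j).2⟩ : P) (Submodule.subset_span ⟨j, rfl⟩)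
    have hmul : ∀ x ∈ V, ∀ y ∈ V, x * y ∈ V := by
      intro x hx y hy
      induction hx using Submodule.span_induction with
      | mem x hx =>
        induction hy using Submodule.span_induction with
        | mem y hy =>
          obtain ⟨i, rfl⟩ := hx; obtain ⟨j, rfl⟩ := hy
          simp only [← map_mul]; exact hk _
        | zero => simp
        | add _ _ _ _ h1 h2 => rw [mul_add]; exact add_mem h1 h2
        | smul a _ _ h => rw [mul_smul_comm]; exact V.smul_mem a h
      | zero => simp
      | add _ _ _ _ h1 h2 => rw [add_mul]; exact add_mem h1 h2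
      | smul a _ _ h => rw [smul_mul_assoc]; exact V.smul_mem a h
    have hP : ∀ a ∈ P, a ∈ V := fun a ha => by
      have h := V.smul_mem (⟨a, ha⟩ : P) (hk 1)
      rwa [map_one, Subfield.smul_def, smul_eq_mul, mul_one] at h
    have hQV : ∀ x ∈ Q, x ∈ V := by
      intro x hx
      induction hx using Subfield.closure_induction with
      | mem x hx =>
        rcases hx with ⟨c, rfl⟩ | ⟨y, rfl⟩
        · exact hk c
        · exact hP _ (Subfield.subset_closure ⟨y, rfl⟩)
      | one => exact hP 1 (one_mem _)
      | add _ _ _ _ h1 h2 => exact add_mem h1 h2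
      | neg _ _ h1 => exact neg_mem h1
      | inv x _ h1 =>
        rcases eq_or_ne x 0 with rfl | hx0
        · simp
        have e : x⁻¹ = x ^ (p - 1) * (x⁻¹) ^ p := by
          rw [inv_pow, ← div_eq_mul_inv, eq_div_iff (pow_ne_zero _ hx0)]
          obtain ⟨q, hq⟩ : ∃ q, p = q + 1 := ⟨p - 1, (Nat.sub_add_cancel (Fact.out : p.Prime).one_le).symm⟩
          rw [hq, Nat.add_sub_cancel, pow_succ']
          exact inv_mul_cancel_left₀ hx0 _
        rw [e]
        refine hmul _ ?_ _ (hP _ (Subfield.subset_closure ⟨_, rfl⟩))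
        generalize p - 1 = m
        induction m with
        | zero => rw [pow_zero]; exact hP 1 (one_mem _)
        | succ m ih => rw [pow_succ]; exact hmul _ ih _ h1
      | mul _ _ _ _ h1 h2 => exact hmul _ h1 _ h2
    choose c hc using fun n => (Submodule.mem_span_range_iff_exists_fun P).1 (hQV _ (hf n))
    let g : Fin (Module.finrank kp k₀) → MvPowerSeries (Fin r) K₀ := fun j n => (c n j : K₀)
    have hfg : f = ∑ j, g j * MvPowerSeries.C (algebraMap k₀ K₀ (b j)) := by
      refine MvPowerSeries.ext fun n => ?_
      simp only [map_sum, MvPowerSeries.coeff_mul_C]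
      rw [← hc n]
      rfl
    change φ f ∈ _
    rw [hfg, map_sum]
    refine sum_mem fun j _ => ?_
    rw [map_mul, hconst]
    exact mul_mem (Subfield.subset_closure (Or.inr (Subfield.subset_closure ⟨g j, fun n => (c n j).2, rfl⟩)))
      (Subfield.subset_closure (Or.inl ⟨_, rfl⟩))
  · rw [Subfield.closure_le]
    rintro _ (⟨c, rfl⟩ | hz)
    · rw [← hconst]
      refine Subfield.subset_closure ⟨_, fun n => ?_, rfl⟩
      rw [MvPowerSeries.coeff_C]
      split_ifs
      · exact Subfield.subset_closure (Or.inl ⟨c, rfl⟩)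
      · exact zero_mem _
    · refine Subfield.closure_mono (Set.image_mono ?_) hz
      intro f (hf : ∀ n, MvPowerSeries.coeff n f ∈ P) n
      exact hPQ (hf n)


end Groth.Agent.S4561
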