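import Groth.Statements.S4567
import Groth.Agent.Lib.GeomUnib.Radicial

set_option autoImplicit false
set_option backward.isDefEq.respectTransparency false
universe u
open AlgebraicGeometry
open CAlg2

namespace Groth.Agent.S4567

/-- Let A be a domain with integral closure A' (in its fraction field) and f : Spec A' → Spec A the
canonical morphism. Then f is radicial (universally injective) if and only if every local ring A_p
is geometrically unibranch; when this holds f is a homeomorphism. -/
theorem result {A : Type u} [CommRing A] [IsDomain A] :
    (UniversallyInjective (Spec.map (CommRingCat.ofHom (algebraMap A (integralClosure A (FractionRing A))))) ↔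
      ∀ (p : Ideal A) [p.IsPrime], CAlg2.IsGeomUnibranch (Localization.AtPrime p)) ∧
    ((∀ (p : Ideal A) [p.IsPrime], CAlg2.IsGeomUnibranch (Localization.AtPrime p)) →
      IsHomeomorph (PrimeSpectrum.comap (algebraMap A (integralClosure A (FractionRing A))))) := by
  set N := integralClosure A (FractionRing A)
  haveI : IsIntegrallyClosed N := integralClosure.isIntegrallyClosedOfFiniteExtension (FractionRing A)
  have hinj : Function.Injective (algebraMap A N) := fun x y h ↦
    IsFractionRing.injective A (FractionRing A) (congrArg Subtype.val h :)
  have hker : RingHom.ker (algebraMap A N) = nilradical A := by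
    rw [(RingHom.injective_iff_ker_eq_bot _).mp hinj, nilradical_eq_zero, Ideal.zero_eq_bot]
  have hint : (algebraMap A N).IsIntegral := algebraMap_isIntegral_iff.mpr inferInstance
  have hbir : ∀ t, ∃ a b, algebraMap A N b ≠ 0 ∧ t * algebraMap A N b = algebraMap A N a := fun c ↦ by
    obtain ⟨⟨a, d⟩, hd⟩ := IsLocalization.surj (nonZeroDivisors A) (c : FractionRing A)
    exact ⟨a, d, (map_ne_zero_iff _ hinj).mpr (nonZeroDivisors.coe_ne_zero d), Subtype.ext hd⟩
  have key := GrothLib.GeomUnib.forall_isGeomUnibranch_iff_radic (φ := algebraMap A N) hker hint hbir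
  rw [GrothLib.UHTower.universallyInjective_iff_radic]
  refine ⟨key.symm, fun h ↦ ?_⟩
  rw [isHomeomorph_iff_continuous_isClosedMap_bijective]
  refine ⟨PrimeSpectrum.continuous_comap _, PrimeSpectrum.isClosedMap_comap_of_isIntegral _ hint,
    (key.mp h).injComap, ?_⟩
  haveI : FaithfulSMul A N := (faithfulSMul_iff_algebraMap_injective A N).mpr hinj
  exact Algebra.IsIntegral.comap_surjective A N

end Groth.Agent.S4567
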