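import Groth.Statements.S4568
import Groth.Agent.S12124
-- import your own Groth.Agent.* helpers here

set_option autoImplicit false
universe u
open CAlg

namespace Groth.Agent.S4568

/-- Let A be a Noetherian domain with fraction field K and A' its integral closure in K. Assume that for
every sub-A-algebra C of A' which is finite over A, every height-one prime of C lies over a
height-one prime of A. Then A' is the intersection in K of the localizations A'_p over the
height-one primes p of A. -/
theorem result {A : Type u} [CommRing A] [IsDomain A] [IsNoetherianRing A]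
    (h : ∀ C : Subalgebra A (FractionRing A), C ≤ integralClosure A (FractionRing A) → Module.Finite A C →
      ∀ (q : Ideal C) [q.IsPrime], q.height = 1 → (q.comap (algebraMap A C)).height = 1) :
    (integralClosure A (FractionRing A) : Set (FractionRing A)) =
      ⋂ (p : PrimeSpectrum A) (_ : p.asIdeal.height = 1),
        {x : FractionRing A | ∃ s : A, s ∉ p.asIdeal ∧
          algebraMap A (FractionRing A) s * x ∈ integralClosure A (FractionRing A)} := by
  classical
  let K := FractionRing A
  ext x
  simp only [Set.mem_iInter, Set.mem_ofPred_eq, SetLike.mem_coe]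
  constructor
  · intro hx p hp
    exact ⟨1, fun h => p.isPrime.ne_top ((Ideal.eq_top_iff_one _).mpr h), by rw [map_one, one_mul]; exact hx⟩
  intro hx
  by_contra hxn
  let I : Ideal A :=
    { carrier := {s | algebraMap A K s * x ∈ integralClosure A K}
      add_mem' := fun {a b} ha hb => by
        show algebraMap A K (a + b) * x ∈ integralClosure A K
        rw [map_add, add_mul]; exact add_mem ha hb
      zero_mem' := by
        show algebraMap A K 0 * x ∈ integralClosure A K
        rw [map_zero, zero_mul]; exact zero_mem _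
      smul_mem' := fun c a ha => by
        show algebraMap A K (c • a) * x ∈ integralClosure A K
        rw [smul_eq_mul, map_mul, mul_assoc, ← Algebra.smul_def]; exact Subalgebra.smul_mem _ ha c }
  have hI : I ≠ ⊤ := fun h => hxn (by
    have h1 : algebraMap A K 1 * x ∈ integralClosure A K := (show (1 : A) ∈ I by rw [h]; trivial)
    rwa [map_one, one_mul] at h1)
  obtain ⟨Q, hQ, hIQ⟩ := Ideal.exists_le_maximal I hI
  haveI := hQ
  let AQ := Localization.AtPrime Q
  haveI : IsNoetherianRing AQ := IsLocalization.isNoetherianRing Q.primeCompl AQ inferInstance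
  let e : FractionRing AQ ≃ₐ[AQ] K := IsLocalization.algEquiv (nonZeroDivisors AQ) _ _
  obtain ⟨C, hCf, -, hC, -⟩ := Groth.Agent.S12124.result (A := AQ)
  haveI := hCf
  obtain ⟨m, g, hg⟩ := Module.Finite.exists_fin (R := AQ) (M := C)
  have hint : ∀ z : FractionRing AQ, IsIntegral AQ z →
      ∃ s ∉ Q, IsIntegral A (algebraMap A K s * e z) := fun z hz => by
    obtain ⟨⟨s, hs⟩, hsz⟩ := IsIntegral.exists_multiple_integral_of_isLocalization Q.primeCompl (e z) (hz.map e)
    exact ⟨s, hs, by rw [← Algebra.smul_def]; exact hsz⟩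
  choose s hs hgint using fun i => hint (g i : FractionRing AQ) ((Algebra.IsIntegral.isIntegral (g i)).map C.val)
  let C₀ := Algebra.adjoin A (Set.range fun i => algebraMap A K (s i) * e (g i))
  haveI hC₀f : Module.Finite A C₀ := by
    refine (Module.Finite.iff_fg (N := Subalgebra.toSubmodule C₀)).mpr ?_
    exact fg_adjoin_of_finite (Set.finite_range _) (by rintro _ ⟨i, rfl⟩; exact hgint i)
  have hC₀int : C₀ ≤ integralClosure A K := Algebra.adjoin_le (by rintro _ ⟨i, rfl⟩; exact hgint i)
  have hC₀C : C₀ ≤ (C.map e.toAlgHom).restrictScalars A := Algebra.adjoin_le (by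
    rintro _ ⟨i, rfl⟩
    show algebraMap A K (s i) * e (g i) ∈ (C.map e.toAlgHom).restrictScalars A
    rw [← Algebra.smul_def]
    exact Subalgebra.smul_mem _ (show e (g i) ∈ (C.map e.toAlgHom).restrictScalars A from ⟨g i, (g i).2, rfl⟩) (s i))
  let φ : C₀ →+* C :=
    { toFun := fun z => ⟨e.symm z.1, by obtain ⟨c, hc, hce⟩ := hC₀C z.2; rw [← hce]; simpa using hc⟩
      map_one' := Subtype.ext (map_one e.symm)
      map_mul' := fun a b => Subtype.ext (map_mul e.symm a.1 b.1)
      map_zero' := Subtype.ext (map_zero e.symm)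
      map_add' := fun a b => Subtype.ext (map_add e.symm a.1 b.1) }
  letI : Algebra C₀ C := φ.toAlgebra
  have hAK : ∀ a : A, e.symm (algebraMap A K a) = algebraMap AQ (FractionRing AQ) (algebraMap A AQ a) := fun a => by
    rw [IsScalarTower.algebraMap_apply A AQ K, e.symm.commutes]
  let M : Submonoid C₀ := Q.primeCompl.map (algebraMap A C₀)
  have hφa : ∀ a : A, φ (algebraMap A C₀ a) = algebraMap AQ C (algebraMap A AQ a) := fun a =>
    Subtype.ext (hAK a)
  haveI : IsLocalization M C := by
    refine ⟨?_, ?_, ?_⟩
    · rintro ⟨_, a, ha, rfl⟩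
      show IsUnit (φ (algebraMap A C₀ a))
      rw [hφa]
      exact (IsLocalization.map_units AQ (⟨a, ha⟩ : Q.primeCompl)).map _
    · intro z
      have hz : z ∈ Submodule.span AQ (Set.range g) := by rw [hg]; trivial
      induction hz using Submodule.span_induction with
      | mem z hz =>
        obtain ⟨i, rfl⟩ := hz
        refine ⟨⟨⟨_, Algebra.subset_adjoin ⟨i, rfl⟩⟩, ⟨_, s i, hs i, rfl⟩⟩, ?_⟩
        show g i * φ (algebraMap A C₀ (s i)) = φ _
        rw [hφa]
        refine Subtype.ext ?_
        show (g i : FractionRing AQ) * algebraMap AQ _ (algebraMap A AQ (s i)) =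
          e.symm (algebraMap A K (s i) * e (g i))
        rw [map_mul, e.symm_apply_apply, hAK, mul_comm]
      | zero => exact ⟨⟨0, 1⟩, by simp⟩
      | add z w _ _ hz hw =>
        obtain ⟨⟨a, b⟩, hab⟩ := hz
        obtain ⟨⟨a', b'⟩, hab'⟩ := hw
        refine ⟨⟨a * b' + a' * b, b * b'⟩, ?_⟩
        simp only [Submonoid.coe_mul, map_add, map_mul] at hab hab' ⊢
        rw [← hab, ← hab']; ring
      | smul c z _ hz =>
        obtain ⟨⟨a, b⟩, hab⟩ := hz
        obtain ⟨⟨r, t⟩, hrt⟩ := IsLocalization.surj Q.primeCompl c
        refine ⟨⟨algebraMap A C₀ r * a, b * ⟨algebraMap A C₀ t, t, t.2, rfl⟩⟩, ?_⟩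
        show c • z * φ ((b : C₀) * algebraMap A C₀ t) = φ (algebraMap A C₀ r * a)
        rw [map_mul, map_mul, hφa, hφa, ← show z * φ b = φ a from hab, ← hrt, map_mul, Algebra.smul_def]
        ring
    · intro a b h
      refine ⟨1, ?_⟩
      rw [show a = b from Subtype.ext (e.symm.injective (congrArg Subtype.val h))]
  have hfin : e.symm x ∈ integralClosure AQ (FractionRing AQ) := (hC (e.symm x)).mpr fun p _ hp1 => by
    let q := p.under C₀
    have hq1 : q.height = 1 := (IsLocalization.height_under M p).trans hp1
    obtain ⟨t, ht, htx⟩ := hx ⟨q.comap (algebraMap A C₀), inferInstance⟩ (h C₀ hC₀int hC₀f q hq1)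
    refine ⟨φ (algebraMap A C₀ t), ht, ?_⟩
    rw [hφa]
    show IsIntegral C (algebraMap AQ (FractionRing AQ) (algebraMap A AQ t) * e.symm x)
    rw [← hAK, ← map_mul]
    have h1 : IsIntegral AQ (algebraMap A K t * x) := IsIntegral.tower_top (R := A) htx
    exact (h1.map e.symm).tower_top
  obtain ⟨t, ht, htx⟩ := hint _ hfin
  rw [e.apply_symm_apply] at htx
  exact ht (hIQ htx)

end Groth.Agent.S4568
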