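import Groth.Statements.S4569
import Mathlib.RingTheory.Localization.AtPrime.Basic
import Mathlib.Tactic.LinearCombination

set_option autoImplicit false
universe u
open CAlg

namespace Groth.Agent.S4569

/-- Let A be a ring, x a non-zero-divisor of A with p = xA prime. For every n > 0 the inverse image in A
of x^n A_p is x^n A. -/
theorem result {A : Type u} [CommRing A] (x : A)
    (hx : x ∈ nonZeroDivisors A) [(Ideal.span ({x} : Set A)).IsPrime] (n : ℕ) (hn : 0 < n) :
    Ideal.comap (algebraMap A (Localization.AtPrime (Ideal.span ({x} : Set A))))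
      (Ideal.map (algebraMap A (Localization.AtPrime (Ideal.span ({x} : Set A)))) (Ideal.span ({x ^ n} : Set A))) =
      Ideal.span ({x ^ n} : Set A) := by
  refine le_antisymm ?_ Ideal.le_comap_map
  intro a ha
  rw [Ideal.mem_comap, Ideal.map_span, Set.image_singleton, Ideal.mem_span_singleton] at ha
  obtain ⟨c, hc⟩ := ha
  obtain ⟨⟨b, s⟩, hs⟩ := IsLocalization.surj (Ideal.span {x}).primeCompl c
  have h1 : algebraMap A (Localization.AtPrime (Ideal.span {x})) (a * s) =
      algebraMap A _ (x ^ n * b) := by
    rw [map_mul, map_mul, hc, mul_assoc, hs]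
  obtain ⟨u, hu⟩ := IsLocalization.exists_of_eq (M := (Ideal.span {x}).primeCompl) h1
  have hus : (u : A) * (s : A) ∉ Ideal.span {x} := (u * s).2
  have h2 : ((u : A) * (s : A)) * a = x ^ n * ((u : A) * b) := by linear_combination hu
  rw [Ideal.mem_span_singleton]
  generalize (u : A) * (s : A) = w at hus h2
  generalize (u : A) * b = d at h2
  clear hn hc hu h1 hs
  induction n generalizing a with
  | zero => exact ⟨a, by rw [pow_zero, one_mul]⟩
  | succ m ih =>
    have h3 : a ∈ Ideal.span {x} := by
      refine ((‹(Ideal.span {x}).IsPrime›).mem_or_mem ?_).resolve_left hus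
      rw [h2, Ideal.mem_span_singleton]
      exact ⟨x ^ m * d, by ring⟩
    obtain ⟨a', rfl⟩ := Ideal.mem_span_singleton.1 h3
    have h4 : w * a' = x ^ m * d := by
      refine sub_eq_zero.1 ((mem_nonZeroDivisors_iff.1 hx).1 _ ?_)
      linear_combination h2
    obtain ⟨e, rfl⟩ : x ^ m ∣ a' := ih h4
    exact ⟨e, by ring⟩

end Groth.Agent.S4569
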