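import Groth.Statements.S4575
import Groth.Agent.Lib.RegLoc.Basic
import Mathlib

set_option autoImplicit false
universe u
open IsLocalRing
open EGA41

namespace Groth.Agent.S4575

/-- Let R be a regular local ring with maximal ideal m and n a proper ideal with R/n regular. Then
(n/n²) ⊗_R K → (m/m²) ⊗_R K is injective, K the residue field; stated in the equivalent form n ∩ m²
= m·n (the kernel of n/mn → m/m² is (n ∩ m²)/mn). -/
theorem result {R : Type u} [CommRing R] [IsRegularLocalRing R]
    (n : Ideal R) (hn : n ≠ ⊤) (hreg : IsRegularRing (R ⧸ n)) :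
    n ⊓ maximalIdeal R ^ 2 = maximalIdeal R * n := by
  classical
  have : Nontrivial (R ⧸ n) := Ideal.Quotient.nontrivial_iff.2 hn
  have : IsLocalRing (R ⧸ n) := GrothLib.RegLoc.isLocalRing_quotient (IsLocalRing.le_maximalIdeal hn)
  have := hreg
  have : IsRegularLocalRing (R ⧸ n) := IsRegularLocalRing.of_isRegularRing_of_isLocalRing (R ⧸ n)
  obtain ⟨x, c, hc, hspan, hn', -⟩ := GrothLib.RegLoc.exists_generators_quotient _ R rfl n
  have hx : ∀ i, x i ∈ maximalIdeal R := fun i => hspan.le (Ideal.subset_span ⟨i, rfl⟩)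
  have hind : ∀ r : Fin (maximalIdeal R).spanFinrank → R, ∑ i, r i * x i ∈ maximalIdeal R ^ 2 → ∀ i, r i ∈ maximalIdeal R := by
    intro r hr i
    by_contra hi
    have hu : IsUnit (r i) := IsLocalRing.notMem_maximalIdeal.1 hi
    let z : {j // j ≠ i} → R := fun j => x j
    have hz : Ideal.span (Set.range z) ≤ maximalIdeal R :=
      Ideal.span_le.2 (by rintro _ ⟨j, rfl⟩; exact hx j)
    have hsup : maximalIdeal R ≤ Ideal.span (Set.range z) ⊔ maximalIdeal R ^ 2 := by
      conv_lhs => rw [← hspan]
      rw [Ideal.span_le]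
      rintro _ ⟨j, rfl⟩
      by_cases hj : j = i
      · subst hj
        rw [SetLike.mem_coe, ← Ideal.unit_mul_mem_iff_mem _ hu,
          show r j * x j = ∑ k, r k * x k - ∑ k ∈ Finset.univ.erase j, r k * x k by
            rw [← Finset.add_sum_erase _ _ (Finset.mem_univ j)]; ring]
        exact sub_mem (Ideal.mem_sup_right hr) (Submodule.sum_mem _ fun k hk =>
          Ideal.mem_sup_left (Ideal.mul_mem_left _ _ (Ideal.subset_span ⟨⟨k, Finset.ne_of_mem_erase hk⟩, rfl⟩)))
      · exact Ideal.mem_sup_left (Ideal.subset_span ⟨⟨j, hj⟩, rfl⟩)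
    have heq := GrothLib.RegLoc.eq_maximalIdeal_of_sup_sq hz hsup
    have h2 : (maximalIdeal R).spanFinrank ≤ Fintype.card {j // j ≠ i} := by
      conv_lhs => rw [← heq]
      refine (Submodule.spanFinrank_span_le_ncard_of_finite (R := R) (Set.finite_range z)).trans ?_
      rw [← Nat.card_coe_set_eq, ← Nat.card_eq_fintype_card]
      exact Finite.card_range_le z
    rw [Fintype.card_subtype_compl, Fintype.card_subtype_eq, Fintype.card_fin] at h2
    have := i.pos
    omega
  apply le_antisymm
  · rintro a ⟨ha, ha2⟩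
    rw [hn', SetLike.mem_coe, Ideal.mem_span_range_iff_exists_fun] at ha
    obtain ⟨g, rfl⟩ := ha
    let r : Fin (maximalIdeal R).spanFinrank → R := Function.extend (Fin.castLE hc) g 0
    have hr : ∀ i, r (Fin.castLE hc i) = g i := fun i =>
      (Fin.castLE_injective hc).extend_apply _ _ i
    have hsum : ∑ i, r i * x i = ∑ i : Fin c, g i * x (Fin.castLE hc i) := by
      rw [← Finset.sum_subset (Finset.subset_univ (Finset.univ.map (Fin.castLEEmb hc)))]
      · simp [hr]
      · intro j _ hj
        have : r j = 0 := Function.extend_apply' _ _ _ (by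
          rintro ⟨i, rfl⟩
          exact hj (Finset.mem_map_of_mem _ (Finset.mem_univ i)))
        rw [this, zero_mul]
    refine Submodule.sum_mem _ fun i _ => Ideal.mul_mem_mul ?_ (hn' ▸ Ideal.subset_span ⟨i, rfl⟩)
    rw [← hr]
    exact hind r (hsum ▸ ha2) _
  · refine le_inf Ideal.mul_le_right ?_
    rw [sq]
    exact Ideal.mul_mono_right (IsLocalRing.le_maximalIdeal hn)

end Groth.Agent.S4575
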