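import Groth.Statements.S4606
import Groth.Agent.Lib.SplitInj.Jacobian
import Mathlib.RingTheory.Filtration
import Mathlib.RingTheory.Ideal.Quotient.Nilpotent

set_option autoImplicit false
universe u
open TensorProduct KaehlerDifferential IsLocalRing
open EGA41

namespace Groth.Agent.S4606

open KaehlerDifferential (D)

/-- If the quotient `T` of the Noetherian local ring `S` is adically formally smooth, an element of the
kernel whose differential vanishes modulo the maximal ideal lies in `m · I`. -/
theorem mem_mul_of_adic {A S T : Type u} [CommRing A] [CommRing S] [IsLocalRing S] [IsNoetherianRing S]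
    [Algebra A S] [CommRing T] [IsLocalRing T] [Algebra A T] (φ : S →ₐ[A] T) (hφ : Function.Surjective φ)
    (h : CAlgX.IsAdicFormallySmooth A T (maximalIdeal T)) {e : S} (he : φ e = 0)
    (hde : D A S e ∈ maximalIdeal S • (⊤ : Submodule S Ω[S⁄A])) :
    e ∈ maximalIdeal S * RingHom.ker φ := by
  let 𝔪 : Ideal S := maximalIdeal S
  let I : Ideal S := RingHom.ker φ
  have hI : I ≤ 𝔪 := le_maximalIdeal (RingHom.ker_ne_top _)
  obtain ⟨k, hk⟩ := Ideal.exists_pow_inf_eq_pow_smul (M := S) 𝔪 I
  let n := k + 1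
  have hAR : 𝔪 ^ n ⊓ I ≤ 𝔪 * I := by
    have := hk n (Nat.le_succ k)
    simp only [n, Nat.add_sub_cancel_left, pow_one, Ideal.smul_eq_mul, Ideal.mul_top] at this
    rw [this]
    exact Ideal.mul_mono_right inf_le_right
  let Q : Ideal S := 𝔪 * I ⊔ 𝔪 ^ n
  let K : Ideal S := I ⊔ 𝔪 ^ n
  let J : Ideal (S ⧸ Q) := K.map (Ideal.Quotient.mk Q)
  have hKm : K ≤ 𝔪 := sup_le hI (Ideal.pow_le_self k.succ_ne_zero)
  have hmK : 𝔪 * K ≤ Q := by
    rw [Ideal.mul_sup]
    exact sup_le le_sup_left (le_sup_of_le_right Ideal.mul_le_right)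
  have hJ2 : J ^ 2 = ⊥ := by
    rw [← Ideal.map_pow, eq_bot_iff, Ideal.map_le_iff_le_comap, ← RingHom.ker_eq_comap_bot,
      Ideal.mk_ker, pow_two]
    exact (Ideal.mul_mono_left hKm).trans hmK
  have hJm : ∀ (c : S), c ∈ 𝔪 → ∀ x : J, c • x = 0 := by
    intro c hc x
    obtain ⟨y, hy, hyx⟩ := (Ideal.mem_map_iff_of_surjective _ Ideal.Quotient.mk_surjective).1 x.2
    refine Subtype.ext ?_
    change c • (x : S ⧸ Q) = 0
    rw [← hyx, Algebra.smul_def, Ideal.Quotient.algebraMap_eq, ← map_mul, Ideal.Quotient.eq_zero_iff_mem]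
    exact hmK (Ideal.mul_mem_mul hc hy)
  let q : S →ₐ[A] (S ⧸ Q) ⧸ J := (Ideal.Quotient.mkₐ A J).comp (Ideal.Quotient.mkₐ A Q)
  have hker : RingHom.ker φ.toRingHom ≤ RingHom.ker q.toRingHom := fun x hx =>
    Ideal.Quotient.eq_zero_iff_mem.2 (Ideal.mem_map_of_mem _ (Ideal.mem_sup_left hx))
  let u : T →ₐ[A] (S ⧸ Q) ⧸ J := AlgHom.liftOfSurjective φ hφ q hker
  have hu : ∀ x, u (φ x) = q x := fun x => AlgHom.liftOfSurjective_apply φ hφ q hker x
  have hloc : IsLocalHom φ.toRingHom := IsLocalHom.of_surjective φ.toRingHom hφ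
  obtain ⟨v, hv⟩ := h (S ⧸ Q) J hJ2 u ⟨n, fun x hx => by
    have hle : maximalIdeal T ≤ 𝔪.map φ.toRingHom := fun b hb => by
      obtain ⟨y, rfl⟩ := hφ b
      exact Ideal.mem_map_of_mem _ ((mem_maximalIdeal _).2 fun hy => (mem_maximalIdeal _).1 hb (hy.map _))
    have hx' : x ∈ (𝔪 ^ n).map φ.toRingHom := by
      rw [Ideal.map_pow]; exact Ideal.pow_right_mono hle n hx
    obtain ⟨y, hy, rfl⟩ := (Ideal.mem_map_iff_of_surjective _ hφ).1 hx'
    refine (hu y).trans ?_
    exact Ideal.Quotient.eq_zero_iff_mem.2 (Ideal.mem_map_of_mem _ (Ideal.mem_sup_right hy))⟩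
  let g : S →ₐ[A] S ⧸ Q := v.comp φ
  have hg : (Ideal.Quotient.mkₐ A J).comp g = IsScalarTower.toAlgHom A S ((S ⧸ Q) ⧸ J) :=
    AlgHom.ext fun x => (AlgHom.congr_fun hv (φ x)).trans (hu x)
  let δ : Derivation A S J := derivationToSquareZeroOfLift J hJ2 g hg
  have hδ : δ e = 0 := by
    rw [← Derivation.liftKaehlerDifferential_comp_D δ e]
    refine Submodule.smul_induction_on hde (fun c hc ω _ => ?_) fun a b ha hb => by rw [map_add, ha, hb, add_zero]
    rw [map_smul]
    exact hJm c hc _
  have heQ : e ∈ Q := by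
    have := congrArg Subtype.val hδ
    rw [derivationToSquareZeroOfLift_apply, ZeroMemClass.coe_zero, show g e = 0 from by
      show v (φ e) = 0
      rw [he, map_zero], zero_sub, neg_eq_zero] at this
    exact Ideal.Quotient.eq_zero_iff_mem.1 this
  obtain ⟨a, ha, b, hb, rfl⟩ := Submodule.mem_sup.1 heQ
  have haI : a ∈ I := Ideal.mul_le_right ha
  have heI : a + b ∈ I := he
  exact add_mem ha (hAR ⟨hb, (Submodule.add_mem_iff_right I haI).1 heI⟩)

variable {A B C : Type u} [CommRing A] [CommRing B] [CommRing C] [Algebra A B] [Algebra B C] [Algebra A C]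
  [IsScalarTower A B C]

/-- Adic formal smoothness of a local ring of the quotient gives the residual Jacobian condition. -/
theorem injective_of_adic [IsNoetherianRing B] (hsurj : Function.Surjective (algebraMap B C)) (p : Ideal C)
    [p.IsPrime] (h : CAlgX.IsAdicFormallySmooth A (Localization.AtPrime p) (maximalIdeal (Localization.AtPrime p))) :
    Function.Injective ((kerCotangentToTensor A B C).lTensor p.ResidueField) := by
  classical
  let P : Ideal B := p.comap (algebraMap B C)
  let κ := p.ResidueField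
  let J : Ideal B := RingHom.ker (algebraMap B C)
  have hκ : ∀ b : B, algebraMap B κ b = 0 ↔ b ∈ P := fun b => by
    rw [IsScalarTower.algebraMap_apply B C κ, Ideal.algebraMap_residueField_eq_zero]; rfl
  have hfrac : GrothLib.SplitInj.IsFrac B κ := fun z => by
    obtain ⟨r, s, hs, hrs⟩ := GrothLib.SplitInj.isFrac_residueField p z
    obtain ⟨r, rfl⟩ := hsurj r
    obtain ⟨s, rfl⟩ := hsurj s
    exact ⟨r, s, by rwa [IsScalarTower.algebraMap_apply B C κ],
      by rwa [IsScalarTower.algebraMap_apply B C κ, IsScalarTower.algebraMap_apply B C κ]⟩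
  have hnorm : ∀ z : κ ⊗[B] J.Cotangent, ∃ (d : B) (e : J),
      algebraMap B κ d ≠ 0 ∧ d • z = (1 : κ) ⊗ₜ[B] J.toCotangent e := by
    intro z
    induction z using TensorProduct.induction_on with
    | zero => exact ⟨1, 0, by simp, by simp⟩
    | tmul c m =>
        obtain ⟨m, rfl⟩ := J.toCotangent_surjective m
        obtain ⟨r, s, hs, hrs⟩ := hfrac c
        refine ⟨s, r • m, hs, ?_⟩
        rw [map_smul, TensorProduct.smul_tmul', tmul_smul, TensorProduct.smul_tmul', Algebra.smul_def,
          Algebra.smul_def, mul_one, mul_comm, hrs]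
    | add a b ha hb =>
        obtain ⟨d, e, hd, hde⟩ := ha
        obtain ⟨d', e', hd', hde'⟩ := hb
        refine ⟨d * d', d' • e + d • e', by rw [map_mul]; exact mul_ne_zero hd hd', ?_⟩
        rw [map_add, tmul_add, map_smul, map_smul, tmul_smul, tmul_smul, ← hde, ← hde', smul_add, smul_smul,
          smul_smul, mul_comm d d']
  rw [injective_iff_map_eq_zero]
  intro z hz
  obtain ⟨d, e, hd, hde⟩ := hnorm z
  have hcancel : ∀ (d : B) (z : κ ⊗[B] J.Cotangent), algebraMap B κ d ≠ 0 → d • z = 0 → z = 0 := by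
    intro d z hd h0
    rw [← algebraMap_smul κ d z] at h0
    exact (smul_eq_zero.1 h0).resolve_left hd
  refine hcancel d z hd ?_
  rw [hde]
  -- the differential vanishes at `P`
  let f : κ ⊗[B] (C ⊗[B] Ω[B⁄A]) →ₗ[B] κ ⊗[B] Ω[B⁄A] :=
    (LinearMap.mul' B κ).rTensor Ω[B⁄A] ∘ₗ (TensorProduct.assoc B κ κ Ω[B⁄A]).symm.toLinearMap ∘ₗ
      ((IsScalarTower.toAlgHom B C κ).toLinearMap.rTensor Ω[B⁄A]).lTensor κ
  have h0 : (1 : κ) ⊗ₜ[B] D A B (e : B) = 0 := by
    have h1 : f ((kerCotangentToTensor A B C).lTensor κ (d • z)) = 0 := by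
      rw [map_smul]; erw [hz]; rw [smul_zero, map_zero]
    rw [hde, LinearMap.lTensor_tmul] at h1
    rw [kerCotangentToTensor_toCotangent] at h1
    simpa [f] using h1
  obtain ⟨s, hs, hsmem⟩ := GrothLib.SplitInj.exists_smul_mem_of_tmul_eq_zero κ hfrac h0
  -- pass to the local rings
  let S := Localization.AtPrime P
  haveI : IsNoetherianRing S := IsLocalization.isNoetherianRing P.primeCompl S inferInstance
  let φ : S →ₐ[A] Localization.AtPrime p :=
    { Localization.localRingHom P p (algebraMap B C) rfl with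
      commutes' := fun a => by
        show Localization.localRingHom P p (algebraMap B C) rfl (algebraMap A S a) = _
        rw [IsScalarTower.algebraMap_apply A B S, Localization.localRingHom_to_map,
          ← IsScalarTower.algebraMap_apply A B C, ← IsScalarTower.algebraMap_apply] }
  have hφ : Function.Surjective φ := fun z => by
    obtain ⟨a, ⟨t, ht⟩, rfl⟩ := IsLocalization.exists_mk'_eq p.primeCompl z
    obtain ⟨a, rfl⟩ := hsurj a
    obtain ⟨t, rfl⟩ := hsurj t
    exact ⟨IsLocalization.mk' S a (⟨t, ht⟩ : P.primeCompl),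
      Localization.localRingHom_mk' P p _ rfl _ _⟩
  have hker : RingHom.ker φ ≤ J.map (algebraMap B S) := fun z hz => by
    obtain ⟨a, ⟨t, ht⟩, rfl⟩ := IsLocalization.exists_mk'_eq P.primeCompl z
    have hz' : Localization.localRingHom P p (algebraMap B C) rfl (IsLocalization.mk' S a (⟨t, ht⟩ : P.primeCompl)) = 0 := hz
    rw [Localization.localRingHom_mk', IsLocalization.mk'_eq_zero_iff] at hz'
    obtain ⟨⟨u, hu⟩, hu'⟩ := hz'
    obtain ⟨u, rfl⟩ := hsurj u
    rw [← map_mul] at hu'
    rw [IsLocalization.mk'_mem_map_algebraMap_iff]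
    exact ⟨u, hu, hu'⟩
  have hPS : ∀ b ∈ P, algebraMap B S b ∈ maximalIdeal S := fun b hb => by
    rw [← Localization.AtPrime.map_eq_maximalIdeal]; exact Ideal.mem_map_of_mem _ hb
  have hdS : D A S (algebraMap B S (e : B)) ∈ maximalIdeal S • (⊤ : Submodule S Ω[S⁄A]) := by
    have hsu : IsUnit (algebraMap B S s) :=
      IsLocalization.map_units S (⟨s, fun h => hs ((hκ s).2 h)⟩ : P.primeCompl)
    have hmap : ∀ w ∈ RingHom.ker (algebraMap B κ) • (⊤ : Submodule B Ω[B⁄A]),
        KaehlerDifferential.map A A B S w ∈ maximalIdeal S • (⊤ : Submodule S Ω[S⁄A]) := by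
      intro w hw
      refine Submodule.smul_induction_on hw (fun c hc ω _ => ?_) fun a b ha hb => by rw [map_add]; exact add_mem ha hb
      rw [map_smul, ← algebraMap_smul S c]
      exact Submodule.smul_mem_smul (hPS c ((hκ c).1 hc)) trivial
    have h1 := hmap _ hsmem
    rw [map_smul, KaehlerDifferential.map_D, ← algebraMap_smul S s] at h1
    exact (Submodule.smul_mem_iff_of_isUnit _ hsu).1 h1
  have hφe : φ (algebraMap B S (e : B)) = 0 := by
    show Localization.localRingHom P p (algebraMap B C) rfl (algebraMap B S (e : B)) = 0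
    rw [Localization.localRingHom_to_map, RingHom.mem_ker.1 e.2, map_zero]
  have hmem := mem_mul_of_adic φ hφ h hφe hdS
  have hmem' : algebraMap B S (e : B) ∈ (P * J).map (algebraMap B S) := by
    rw [Ideal.map_mul, Localization.AtPrime.map_eq_maximalIdeal]
    exact Ideal.mul_mono_right hker hmem
  obtain ⟨t, ht, hte⟩ := (IsLocalization.algebraMap_mem_map_algebraMap_iff P.primeCompl S (P * J) (e : B)).1 hmem'
  refine hcancel t _ (fun h0' => ht ((hκ t).1 h0')) ?_
  have hzero : ∀ x ∈ P * J, ∀ hx : x ∈ J, (1 : κ) ⊗ₜ[B] J.toCotangent ⟨x, hx⟩ = 0 := by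
    intro x hx
    refine Submodule.mul_induction_on' (C := fun x _ => ∀ hx : x ∈ J,
      (1 : κ) ⊗ₜ[B] J.toCotangent ⟨x, hx⟩ = 0) ?_ ?_ hx
    · intro π hπ j hj hx
      rw [show (⟨π * j, hx⟩ : J) = π • ⟨j, hj⟩ from rfl, map_smul, tmul_smul, TensorProduct.smul_tmul',
        Algebra.smul_def, (hκ π).2 hπ, zero_mul, zero_tmul]
    · intro a ha b hb iha ihb hx
      rw [show (⟨a + b, hx⟩ : J) = ⟨a, Ideal.mul_le_right ha⟩ + ⟨b, Ideal.mul_le_right hb⟩ from rfl, map_add,
        tmul_add, iha, ihb, add_zero]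
  rw [← tmul_smul, ← map_smul]
  exact hzero _ hte _

/-- Adic formal smoothness over a localization of the base is that over the base. -/
theorem adic_localization_base_iff {R S : Type u} [CommRing R] [CommRing S] (M : Submonoid R) (R' : Type u)
    [CommRing R'] [Algebra R R'] [IsLocalization M R'] [Algebra R S] [Algebra R' S] [IsScalarTower R R' S]
    (n : Ideal S) : CAlgX.IsAdicFormallySmooth R' S n ↔ CAlgX.IsAdicFormallySmooth R S n := by
  constructor
  · intro h T _ _ J hJ ψ hψ
    have hu : ∀ m : M, IsUnit (algebraMap R T m) := fun m => by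
      have hJn : IsNilpotent J := ⟨2, hJ⟩
      rw [← hJn.isUnit_quotient_mk_iff]
      have := ((IsLocalization.map_units R' m).map (algebraMap R' S)).map ψ
      rw [← IsScalarTower.algebraMap_apply, AlgHom.commutes] at this
      exact this
    letI : Algebra R' T := (IsLocalization.lift hu).toAlgebra
    haveI : IsScalarTower R R' T := IsScalarTower.of_algebraMap_eq fun r => (IsLocalization.lift_eq hu r).symm
    obtain ⟨χ, hχ⟩ := h T J hJ
      { ψ with
        commutes' := RingHom.congr_fun (IsLocalization.ringHom_ext M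
          (j := (ψ : S →+* T ⧸ J).comp (algebraMap R' S)) (k := algebraMap R' (T ⧸ J)) (RingHom.ext fun r => by
            show ψ (algebraMap R' S (algebraMap R R' r)) = algebraMap R' (T ⧸ J) (algebraMap R R' r)
            rw [← IsScalarTower.algebraMap_apply, AlgHom.commutes, IsScalarTower.algebraMap_apply R T (T ⧸ J),
              IsScalarTower.algebraMap_apply R' T (T ⧸ J), ← IsScalarTower.algebraMap_apply R R' T])) } hψ
    exact ⟨χ.restrictScalars R, AlgHom.ext fun x => AlgHom.congr_fun hχ x⟩
  · intro h T _ _ J hJ ψ hψ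
    letI : Algebra R T := ((algebraMap R' T).comp (algebraMap R R')).toAlgebra
    haveI : IsScalarTower R R' T := IsScalarTower.of_algebraMap_eq fun _ => rfl
    obtain ⟨χ, hχ⟩ := h T J hJ (ψ.restrictScalars R) hψ
    refine ⟨{ χ with
      commutes' := RingHom.congr_fun (IsLocalization.ringHom_ext M
        (j := (χ : S →+* T).comp (algebraMap R' S)) (k := algebraMap R' T) (RingHom.ext fun r => by
          show χ (algebraMap R' S (algebraMap R R' r)) = algebraMap R' T (algebraMap R R' r)
          rw [← IsScalarTower.algebraMap_apply, AlgHom.commutes]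
          rfl)) }, AlgHom.ext fun x => AlgHom.congr_fun hχ x⟩

/-- Let B be a Noetherian A-algebra formally smooth for the discrete topologies, B → C a surjection with
kernel J, p a prime of C and q its contraction to A. Then C_p is formally smooth over A_q (A_q
discrete, C_p with the adic topology of its maximal ideal) if and only if κ(p) ⊗ J/J² → κ(p) ⊗ (C
⊗_B Ω_{B/A}) is injective. (The equivalent variant with the q-adic topology on A_q is not stated.) -/
theorem result {A B C : Type u} [CommRing A]
    [CommRing B] [CommRing C] [Algebra A B] [Algebra B C] [Algebra A C] [IsScalarTower A B C] [IsNoetherianRing B]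
    [Algebra.FormallySmooth A B] (hsurj : Function.Surjective (algebraMap B C)) (p : Ideal C) [p.IsPrime]
    [Algebra (Localization.AtPrime (p.comap (algebraMap A C))) (Localization.AtPrime p)]
    [IsScalarTower A (Localization.AtPrime (p.comap (algebraMap A C))) (Localization.AtPrime p)] :
    CAlgX.IsAdicFormallySmooth (Localization.AtPrime (p.comap (algebraMap A C))) (Localization.AtPrime p)
        (maximalIdeal (Localization.AtPrime p)) ↔
      Function.Injective ((kerCotangentToTensor A B C).lTensor p.ResidueField) := by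
  rw [adic_localization_base_iff (p.comap (algebraMap A C)).primeCompl]
  refine ⟨fun h => injective_of_adic hsurj p h, fun hinj => ?_⟩
  haveI : Module.Finite B (RingHom.ker (algebraMap B C)).Cotangent :=
    Module.Finite.of_surjective _ (Ideal.toCotangent_surjective _)
  haveI hFS : Algebra.FormallySmooth A (Localization.AtPrime p) :=
    ((GrothLib.SplitInj.tfae_formallySmooth_localization (A := A) hsurj p).out 0 1).2 hinj
  intro T _ _ J hJ ψ _
  exact ⟨Algebra.FormallySmooth.lift J ⟨2, hJ⟩ ψ, Algebra.FormallySmooth.comp_lift J ⟨2, hJ⟩ ψ⟩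

end Groth.Agent.S4606
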