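import Groth.Statements.S4578
import Groth.Agent.S4606
import Groth.Agent.S4573

set_option autoImplicit false
universe u
open IsLocalRing
open EGA41

namespace Groth.Agent.S4578

/-- The discrete and adic conditions at a point of an algebra of finite type. -/
theorem core {k₀ k C : Type u} [Field k₀] [Field k] [Algebra k₀ k]
    [Algebra.FormallySmooth k₀ k] [CommRing C] [Algebra k C] [Algebra k₀ C] [IsScalarTower k₀ k C]
    [Algebra.FiniteType k C] (p : Ideal C) [p.IsPrime] :
    (CAlgX.IsAdicFormallySmooth k₀ (Localization.AtPrime p) (maximalIdeal (Localization.AtPrime p)) →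
      Algebra.FormallySmooth k₀ (Localization.AtPrime p)) ∧
    (Algebra.FormallySmooth k₀ (Localization.AtPrime p) ↔
      ∃ f : C, f ∉ p ∧ Algebra.FormallySmooth k₀ (Localization.Away f)) := by
  obtain ⟨n, g, hg⟩ := Algebra.FiniteType.iff_quotient_mvPolynomial''.1 ‹Algebra.FiniteType k C›
  let B := MvPolynomial (Fin n) k
  letI : Algebra B C := g.toRingHom.toAlgebra
  haveI : IsScalarTower k₀ B C := IsScalarTower.of_algebraMap_eq fun x => by
    show algebraMap k₀ C x = g (algebraMap k₀ B x)
    rw [IsScalarTower.algebraMap_apply k₀ k B, g.commutes, ← IsScalarTower.algebraMap_apply]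
  haveI : Algebra.FormallySmooth k₀ B := Algebra.FormallySmooth.comp k₀ k B
  haveI : Module.Finite B (RingHom.ker (algebraMap B C)).Cotangent :=
    Module.Finite.of_surjective _ (Ideal.toCotangent_surjective _)
  have T := GrothLib.SplitInj.tfae_formallySmooth_localization (A := k₀) (B := B) (C := C) hg p
  exact ⟨fun h => (T.out 0 1).2 (Groth.Agent.S4606.injective_of_adic hg p h), T.out 0 2⟩

/-- Let k₀ be a field, k an extension field of k₀ which is separable (formally smooth) over k₀, C a
k-algebra of finite type and p a prime ideal of C. The following are equivalent: C_p is formally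
smooth over k₀ (discrete topologies); C_p is formally smooth over k₀ for the adic topology of its
maximal ideal; C_f is formally smooth over k₀ for some f ∉ p; C_p is geometrically regular over k₀.
(The published statement adds that the set of primes p having these properties is open in Spec C;
that openness is not stated here.) -/
theorem result {k₀ k C : Type u} [Field k₀] [Field k] [Algebra k₀ k]
    [Algebra.FormallySmooth k₀ k] [CommRing C] [Algebra k C] [Algebra k₀ C] [IsScalarTower k₀ k C]
    [Algebra.FiniteType k C]
    (p : Ideal C) [p.IsPrime] :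
    [Algebra.FormallySmooth k₀ (Localization.AtPrime p),
     CAlgX.IsAdicFormallySmooth k₀ (Localization.AtPrime p) (maximalIdeal (Localization.AtPrime p)),
     ∃ f : C, f ∉ p ∧ Algebra.FormallySmooth k₀ (Localization.Away f),
     CAlg.IsGeometricallyRegular k₀ (Localization.AtPrime p)].TFAE := by
  obtain ⟨h21, h13⟩ := core (k₀ := k₀) (k := k) p
  haveI : IsNoetherianRing C := Algebra.FiniteType.isNoetherianRing k C
  haveI : IsNoetherianRing (Localization.AtPrime p) := IsLocalization.isNoetherianRing p.primeCompl _ inferInstance
  tfae_have 1 → 2 := fun h T _ _ J hJ ψ _ => by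
    haveI := h
    exact ⟨Algebra.FormallySmooth.lift J ⟨2, hJ⟩ ψ, Algebra.FormallySmooth.comp_lift J ⟨2, hJ⟩ ψ⟩
  tfae_have 2 → 1 := h21
  tfae_have 1 ↔ 3 := h13
  tfae_have 2 → 4 := fun h => (Groth.Agent.S4512.result h).1
  tfae_have 4 → 2 := fun h => by
    obtain ⟨q, hq⟩ := ExpChar.exists k₀
    exact (Groth.Agent.S4573.result q).2 fun k' _ _ hfin _ => h k' hfin
  tfae_finish

end Groth.Agent.S4578
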