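import Groth.Statements.S4579
import Groth.Agent.S4578
import Groth.Agent.S4577

set_option autoImplicit false
universe u
open TensorProduct IsLocalRing
open EGA41

namespace Groth.Agent.S4579

/-- Let k₀ be a field, k a separable (formally smooth) extension field of k₀ and C a k-algebra of finite
type. The following are equivalent: C is formally smooth over k₀ (discrete topologies); every C_p, p
prime, is formally smooth over k₀; every C_m, m maximal, is; C is geometrically regular over k₀.
(Geometric regularity is tested on finite extensions of k₀. The published statement quantifies the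
last condition over all extensions k' of k₀; for infinite ones the base change need not be
Noetherian, so it need not be regular in the Noetherian sense, and the printed proof passes through
the local rings as here.) -/
theorem result {k₀ k C : Type u} [Field k₀] [Field k] [Algebra k₀ k]
    [Algebra.FormallySmooth k₀ k] [CommRing C] [Algebra k C] [Algebra k₀ C] [IsScalarTower k₀ k C]
    [Algebra.FiniteType k C] :
    [Algebra.FormallySmooth k₀ C,
     ∀ (p : Ideal C) [p.IsPrime], Algebra.FormallySmooth k₀ (Localization.AtPrime p),
     ∀ (m : Ideal C) [m.IsMaximal], Algebra.FormallySmooth k₀ (Localization.AtPrime m),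
     CAlg.IsGeometricallyRegular k₀ C].TFAE := by
  haveI : IsNoetherianRing C := Algebra.FiniteType.isNoetherianRing k C
  tfae_have 1 → 2 := fun h p _ => by
    haveI := h
    haveI : Algebra.FormallySmooth C (Localization.AtPrime p) :=
      Algebra.FormallySmooth.of_isLocalization p.primeCompl
    exact Algebra.FormallySmooth.comp k₀ C (Localization.AtPrime p)
  tfae_have 2 → 3 := fun h m _ => h m
  tfae_have 3 → 1 := fun h => by
    obtain ⟨n, g, hg⟩ := Algebra.FiniteType.iff_quotient_mvPolynomial''.1 ‹Algebra.FiniteType k C›
    let B := MvPolynomial (Fin n) k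
    letI : Algebra B C := g.toRingHom.toAlgebra
    haveI : IsScalarTower k₀ B C := IsScalarTower.of_algebraMap_eq fun x => by
      show algebraMap k₀ C x = g (algebraMap k₀ B x)
      rw [IsScalarTower.algebraMap_apply k₀ k B, g.commutes, ← IsScalarTower.algebraMap_apply]
    haveI : Algebra.FormallySmooth k₀ B := Algebra.FormallySmooth.comp k₀ k B
    haveI : Module.Finite B (RingHom.ker (algebraMap B C)).Cotangent :=
      Module.Finite.of_surjective _ (Ideal.toCotangent_surjective _)
    exact (Groth.Agent.S4577.result (A := k₀) (B := B) hg).2 h
  tfae_have 1 → 4 := fun h k' _ _ hfin => by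
    haveI := h
    haveI := hfin
    haveI : IsNoetherianRing (C ⊗[k₀] k') := IsNoetherianRing.of_finite C _
    haveI : IsNoetherianRing (k' ⊗[k₀] C) :=
      isNoetherianRing_of_ringEquiv _ (Algebra.TensorProduct.comm k₀ C k').toRingEquiv
    refine GrothLib.Serre.isRegularRing_of_forall_isMaximal _ fun M _ => ?_
    haveI : Algebra.FormallySmooth (k' ⊗[k₀] C) (Localization.AtPrime M) :=
      Algebra.FormallySmooth.of_isLocalization M.primeCompl
    haveI : Algebra.FormallySmooth k' (Localization.AtPrime M) :=
      Algebra.FormallySmooth.comp k' (k' ⊗[k₀] C) (Localization.AtPrime M)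
    have hfs : CAlgX.IsAdicFormallySmooth k' (Localization.AtPrime M)
        (maximalIdeal (Localization.AtPrime M)) := fun T _ _ J hJ ψ _ =>
      ⟨Algebra.FormallySmooth.lift J ⟨2, hJ⟩ ψ, Algebra.FormallySmooth.comp_lift J ⟨2, hJ⟩ ψ⟩
    exact (Groth.Agent.S2471.result.1 hfs).1
  tfae_have 4 → 3 := fun h m _ => by
    refine ((Groth.Agent.S4578.result (k₀ := k₀) (k := k) m).out 0 3).2 ?_
    intro k' _ _ hfin
    haveI := h k' hfin
    exact GrothLib.GeomReg.isRegularRing_tensor_localization (R := k₀) m.primeCompl k'
  tfae_finish

end Groth.Agent.S4579
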