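import Groth.Statements.S4581
import Mathlib

set_option autoImplicit false
universe u
open EGA41

namespace Groth.Agent.S4581

open TensorProduct

theorem derivation_mem_smul {A₀ A : Type u} [CommRing A₀] [CommRing A] [Algebra A₀ A] {M : Type u} [AddCommGroup M]
    [Module A M] [Module A₀ M] (D : Derivation A₀ A M) (I : Ideal A) :
    ∀ n : ℕ, ∀ a ∈ I ^ (n + 1), D a ∈ (I ^ n • ⊤ : Submodule A M) := by
  intro n
  induction n with
  | zero => intro a _; rw [pow_zero, Ideal.one_eq_top, Submodule.top_smul]; exact Submodule.mem_top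
  | succ n ih =>
    intro a ha
    rw [pow_succ] at ha
    refine Submodule.mul_induction_on ha (fun x hx y hy => ?_) (fun x y hx hy => by rw [map_add]; exact add_mem hx hy)
    rw [Derivation.leibniz]
    refine add_mem (Submodule.smul_mem_smul hx Submodule.mem_top) ?_
    rw [pow_succ', Submodule.mul_smul]
    exact Submodule.smul_mem_smul hy (ih x hx)

/-- The derivation extends to the completion. -/
theorem exists_completed_derivation {A₀ A : Type u} [CommRing A₀] [CommRing A] [Algebra A₀ A] (I : Ideal A)
    {M : Type u} [AddCommGroup M] [Module A M] [Module A₀ M] (D : Derivation A₀ A M) :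
    ∃ Δ : AdicCompletion I A → AdicCompletion I M,
      (∀ x y, Δ (x + y) = Δ x + Δ y) ∧ (∀ x y, Δ (x * y) = x • Δ y + y • Δ x) ∧
      (∀ a, Δ (algebraMap A _ a) = AdicCompletion.of I M (D a)) := by
  have hr : ∀ (x : AdicCompletion I A) n, ∃ a : A, Submodule.Quotient.mk a = x.val n := fun x n =>
    Submodule.Quotient.mk_surjective _ (x.val n)
  choose a ha using hr
  have hwd : ∀ n (b b' : A), (Submodule.Quotient.mk b : A ⧸ (I ^ (n + 1) • ⊤ : Submodule A A)) = Submodule.Quotient.mk b' →
      (Submodule.Quotient.mk (D b) : M ⧸ (I ^ n • ⊤ : Submodule A M)) = Submodule.Quotient.mk (D b') := fun n b b' h => by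
    rw [Submodule.Quotient.eq] at h ⊢
    rw [← map_sub]
    rw [smul_eq_mul, Ideal.mul_top] at h
    exact derivation_mem_smul D I n _ h
  let Δ : AdicCompletion I A → AdicCompletion I M := fun x =>
    ⟨fun n => Submodule.Quotient.mk (D (a x (n + 1))), fun {m n} hmn => by
      refine hwd m _ _ ?_
      rw [ha x (m + 1), ← x.property (Nat.succ_le_succ hmn), ← ha x (n + 1)]
      rfl⟩
  have hΔ : ∀ x n b, Submodule.Quotient.mk b = x.val (n + 1) → (Δ x).val n = Submodule.Quotient.mk (D b) :=
    fun x n b hb => hwd n _ _ ((ha x (n + 1)).trans hb.symm)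
  refine ⟨Δ, fun x y => AdicCompletion.ext fun n => ?_, fun x y => AdicCompletion.ext fun n => ?_,
    fun b => AdicCompletion.ext fun n => ?_⟩
  · rw [hΔ (x + y) n (a x (n + 1) + a y (n + 1)) (by
      rw [AdicCompletion.val_add, Pi.add_apply, Submodule.Quotient.mk_add, ha, ha]),
      map_add, Submodule.Quotient.mk_add]
    rfl
  · have hmul : (x * y).val (n + 1) = Submodule.Quotient.mk (a x (n + 1) * a y (n + 1)) := by
      rw [AdicCompletion.val_mul, ← ha, ← ha]
      rfl
    have hsm : ∀ (z : AdicCompletion I A) (w : M), z.val n • (Submodule.Quotient.mk w : M ⧸ (I ^ n • ⊤ : Submodule A M)) =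
        Submodule.Quotient.mk (a z (n + 1) • w) := fun z w => by
      rw [← z.property (Nat.le_succ n), ← ha]
      rfl
    rw [hΔ _ n _ hmul.symm, Derivation.leibniz, Submodule.Quotient.mk_add, AdicCompletion.val_add, Pi.add_apply,
      AdicCompletion.smul_eval, AdicCompletion.smul_eval, hΔ y n _ (ha y (n + 1)), hΔ x n _ (ha x (n + 1)), hsm, hsm]
  · exact hΔ _ n b rfl

/-- Let A₀ be a semi-local Noetherian ring, A a module-finite A₀-algebra and Â the completion of A for
the adic topology of its Jacobson radical. For the discrete topologies, Â is a formally smooth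
A-algebra relative to A₀. -/
theorem result {A₀ A : Type u} [CommRing A₀]
    [IsNoetherianRing A₀] [Finite (MaximalSpectrum A₀)] [CommRing A] [Algebra A₀ A] [Module.Finite A₀ A] :
    EGA41.IsFormallySmoothRel A₀ A (AdicCompletion (Ideal.jacobson (⊥ : Ideal A)) A) := by
  classical
  haveI : IsNoetherianRing A := IsNoetherianRing.of_finite A₀ A
  haveI : Algebra.EssFiniteType A₀ A := inferInstance
  let I := Ideal.jacobson (⊥ : Ideal A)
  let Ah := AdicCompletion I A
  let M := Ω[A⁄A₀]
  haveI : Module.Finite A M := inferInstance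
  let T := AdicCompletion.ofTensorProductEquivOfFiniteNoetherian I M
  obtain ⟨Δ, hΔadd, hΔmul, hΔalg⟩ := exists_completed_derivation I (KaehlerDifferential.D A₀ A)
  intro C _ _ _ _ J hJ u₀ ⟨u, hu⟩
  have hu' : ∀ x, Ideal.Quotient.mk J (u x) = u₀ x := AlgHom.congr_fun hu
  have hJJ : ∀ a ∈ J, ∀ b ∈ J, a * b = 0 := fun a ha b hb => by
    have := Ideal.mul_mem_mul ha hb
    rwa [← pow_two, hJ, Ideal.mem_bot] at this
  letI : Module Ah J := Module.compHom J u.toRingHom
  haveI : IsScalarTower A Ah J := ⟨fun a x j => Subtype.ext (by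
    show u (a • x) * (j : C) = a • (u x * (j : C))
    rw [Algebra.smul_def, map_mul, Algebra.smul_def, ← mul_assoc]
    have h1 : u (algebraMap A Ah a) - algebraMap A C a ∈ J := Ideal.Quotient.eq.1 (by rw [hu', u₀.commutes]; rfl)
    linear_combination (u x) * hJJ _ h1 _ j.2)⟩
  let d : Derivation A₀ A J := derivationToSquareZeroOfLift J hJ (u.comp (IsScalarTower.toAlgHom A₀ A Ah)) (AlgHom.ext fun a => by
    show Ideal.Quotient.mk J (u (algebraMap A Ah a)) = _
    rw [hu', u₀.commutes]
    rfl)
  let ψ : Ah ⊗[A] M →ₗ[Ah] J := d.liftKaehlerDifferential.liftBaseChange Ah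
  let E : Ah → J := fun x => ψ (T.symm (Δ x))
  have hEadd : ∀ x y, E (x + y) = E x + E y := fun x y => by simp only [E, hΔadd, map_add]
  have hEmul : ∀ x y, ((E (x * y) : J) : C) = u x * E y + u y * E x := fun x y => by
    have h : E (x * y) = x • E y + y • E x := by simp only [E, hΔmul, map_add, map_smul]
    rw [h]
    rfl
  have hEalg : ∀ a, ((E (algebraMap A Ah a) : J) : C) = u (algebraMap A Ah a) - algebraMap A C a := fun a => by
    have h : E (algebraMap A Ah a) = d a := by
      show ψ (T.symm (Δ (algebraMap A _ a))) = d a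
      rw [show Δ (algebraMap A _ a) = AdicCompletion.of I M (KaehlerDifferential.D A₀ A a) from hΔalg a]
      rw [show T.symm (AdicCompletion.of I M (KaehlerDifferential.D A₀ A a)) = 1 ⊗ₜ KaehlerDifferential.D A₀ A a from
        AdicCompletion.ofTensorProductEquivOfFiniteNoetherian_symm_of I M _]
      simp [ψ, Derivation.liftKaehlerDifferential_comp_D]
    rw [h]
    exact derivationToSquareZeroOfLift_apply ..
  let v : Ah →ₐ[A] C :=
    { toFun := fun x => u x - (E x : C)
      map_one' := by rw [← map_one (algebraMap A Ah), hEalg, map_one, sub_sub_cancel, map_one]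
      map_mul' := fun x y => by
        rw [map_mul, hEmul]
        linear_combination - hJJ _ (E x).2 _ (E y).2
      map_zero' := by rw [← map_zero (algebraMap A Ah), hEalg, map_zero, sub_sub_cancel, map_zero]
      map_add' := fun x y => by rw [map_add, hEadd, Submodule.coe_add]; ring
      commutes' := fun a => by rw [hEalg, sub_sub_cancel] }
  refine ⟨v, AlgHom.ext fun x => ?_⟩
  show Ideal.Quotient.mk J (u x - (E x : C)) = u₀ x
  rw [map_sub, hu', Ideal.Quotient.eq_zero_iff_mem.2 (E x).2, sub_zero]

end Groth.Agent.S4581
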