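import Groth.Statements.S4582
import Groth.Agent.Lib.AdicFSLoc.RegularFibre
import Groth.Agent.Lib.GRingComplete.Main

set_option autoImplicit false
universe u
open IsLocalRing TensorProduct
open EGA41

namespace Groth.Agent.S4582

/-- Let A be a complete Noetherian local ring, p a prime of A, B = A_p, B̂ the completion of B, q a
prime of B̂ and r its contraction to B. Then B̂_q is formally smooth over B_r for the adic
topologies of the maximal ideals. -/
theorem result {A : Type u} [CommRing A]
    [IsLocalRing A] [IsNoetherianRing A] [IsAdicComplete (maximalIdeal A) A] (p : Ideal A) [p.IsPrime]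
    (q : Ideal (AdicCompletion (maximalIdeal (Localization.AtPrime p)) (Localization.AtPrime p))) [q.IsPrime]
    [Algebra (Localization.AtPrime (q.comap (algebraMap (Localization.AtPrime p)
        (AdicCompletion (maximalIdeal (Localization.AtPrime p)) (Localization.AtPrime p)))))
      (Localization.AtPrime q)]
    [IsScalarTower (Localization.AtPrime p)
      (Localization.AtPrime (q.comap (algebraMap (Localization.AtPrime p)
        (AdicCompletion (maximalIdeal (Localization.AtPrime p)) (Localization.AtPrime p)))))
      (Localization.AtPrime q)] :
    EGA41.IsFormallySmoothAdic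
      (Localization.AtPrime (q.comap (algebraMap (Localization.AtPrime p)
        (AdicCompletion (maximalIdeal (Localization.AtPrime p)) (Localization.AtPrime p)))))
      (maximalIdeal _) (Localization.AtPrime q) (maximalIdeal _) := by
  let B := Localization.AtPrime p
  haveI : IsNoetherianRing B := IsLocalization.isNoetherianRing p.primeCompl _ inferInstance
  let C := AdicCompletion (maximalIdeal B) B
  haveI : IsNoetherianRing (Localization.AtPrime q) := IsLocalization.isNoetherianRing q.primeCompl _ inferInstance
  let r := q.comap (algebraMap B C)
  have hreg : CAlg.IsRegularHom B C := (GrothLib.GRingComplete.isGRing_of_isAdicComplete A).2 p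
  haveI : Module.Flat B C := hreg.1
  haveI : Module.Flat C (Localization.AtPrime q) := IsLocalization.flat _ q.primeCompl
  haveI : Module.Flat B (Localization.AtPrime q) := Module.Flat.trans B C _
  haveI : Module.Flat (Localization.AtPrime r) (Localization.AtPrime q) :=
    (Module.flat_iff_of_isLocalization (Localization.AtPrime r) r.primeCompl (Localization.AtPrime q)).2 inferInstance
  haveI : IsLocalHom (algebraMap (Localization.AtPrime r) (Localization.AtPrime q)) := by
    refine ((local_hom_TFAE _).out 0 2).2 ?_
    rw [show maximalIdeal (Localization.AtPrime r) = r.map (algebraMap B (Localization.AtPrime r)) from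
        Localization.AtPrime.map_eq_maximalIdeal.symm,
      show maximalIdeal (Localization.AtPrime q) = q.map (algebraMap C (Localization.AtPrime q)) from
        Localization.AtPrime.map_eq_maximalIdeal.symm, Ideal.map_map,
      ← IsScalarTower.algebraMap_eq B (Localization.AtPrime r) (Localization.AtPrime q),
      IsScalarTower.algebraMap_eq B C (Localization.AtPrime q), ← Ideal.map_map]
    exact Ideal.map_mono Ideal.map_comap_le
  refine GrothLib.AdicFSLoc.isFormallySmoothAdic_of_regular_fibre fun L _ _ _ _ hfin => ?_
  letI : Algebra B L := ((algebraMap (Localization.AtPrime r) L).comp (algebraMap B (Localization.AtPrime r))).toAlgebra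
  haveI : IsScalarTower B (Localization.AtPrime r) L := IsScalarTower.of_algebraMap_eq fun _ => rfl
  haveI : Algebra.FiniteType (Localization.AtPrime r ⧸ maximalIdeal (Localization.AtPrime r)) L := inferInstance
  haveI : Algebra.FiniteType (Localization.AtPrime r) L :=
    Algebra.FiniteType.trans (S := Localization.AtPrime r ⧸ maximalIdeal (Localization.AtPrime r)) inferInstance inferInstance
  haveI : Algebra.EssFiniteType B (Localization.AtPrime r) := .of_isLocalization _ r.primeCompl
  haveI : Algebra.EssFiniteType B L := .comp B (Localization.AtPrime r) L
  haveI := GrothLib.GeomReg.isRegularRing_field_tensor hreg L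
  haveI : IsRegularRing (L ⊗[B] Localization.AtPrime q) :=
    GrothLib.GeomReg.isRegularRing_tensor_localization (R := B) q.primeCompl L
  exact IsRegularRing.of_ringEquiv (R := L ⊗[B] Localization.AtPrime q)
    (IsLocalization.algebraTensorEquiv r.primeCompl (Localization.AtPrime r) L (Localization.AtPrime q)).symm.toRingEquiv

end Groth.Agent.S4582
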