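import Groth.Statements.S4583
import Groth.Agent.S4573
import Groth.Agent.Lib.GRingComplete.Main

set_option autoImplicit false
universe u
open IsLocalRing
open EGA41

namespace Groth.Agent.S4583

open TensorProduct

/-- Regular fibres over a fraction field give formal smoothness over it at the primes over zero. -/
theorem adicFormallySmooth_of_fibres {A : Type u} [CommRing A] [IsDomain A] {C : Type u} [CommRing C]
    [IsNoetherianRing C] [Algebra A C] (q : Ideal C) [q.IsPrime] [Algebra (FractionRing A) (Localization.AtPrime q)]
    [IsScalarTower A (FractionRing A) (Localization.AtPrime q)]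
    (H : ∀ (L : Type u) [Field L] [Algebra (FractionRing A) L] [Algebra A L]
      [IsScalarTower A (FractionRing A) L] [Module.Finite (FractionRing A) L], IsRegularRing (L ⊗[A] C)) :
    CAlgX.IsAdicFormallySmooth (FractionRing A) (Localization.AtPrime q)
      (IsLocalRing.maximalIdeal (Localization.AtPrime q)) := by
  obtain ⟨e, he⟩ := ExpChar.exists (FractionRing A)
  haveI : IsNoetherianRing (Localization.AtPrime q) := IsLocalization.isNoetherianRing q.primeCompl _ inferInstance
  refine (Groth.Agent.S4573.result e).2 fun L _ _ hfin _ => ?_
  haveI := hfin
  letI : Algebra A L := ((algebraMap (FractionRing A) L).comp (algebraMap A (FractionRing A))).toAlgebra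
  haveI : IsScalarTower A (FractionRing A) L := IsScalarTower.of_algebraMap_eq fun _ => rfl
  haveI := H L
  haveI : IsRegularRing (L ⊗[A] Localization.AtPrime q) :=
    GrothLib.GeomReg.isRegularRing_tensor_localization (R := A) q.primeCompl L
  haveI := IsLocalization.tensorProduct_compatibleSMul (nonZeroDivisors A) (FractionRing A) L (Localization.AtPrime q)
  exact IsRegularRing.of_ringEquiv (R := L ⊗[A] Localization.AtPrime q)
    (Algebra.TensorProduct.equivOfCompatibleSMul (FractionRing A) A (FractionRing A) L (Localization.AtPrime q)).toRingEquiv

/-- Let A be a complete Noetherian local domain with fraction field K, p a prime of A, B = A_p, q a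
prime of the completion B̂ of B with q ∩ B = 0. Then B̂_q is a K-algebra formally smooth over K for
the adic topology of its maximal ideal (the published statement adds that it is then geometrically
regular over K; that consequence is not stated). -/
theorem result {A : Type u} [CommRing A]
    [IsDomain A] [IsLocalRing A] [IsNoetherianRing A] [IsAdicComplete (maximalIdeal A) A] (p : Ideal A) [p.IsPrime]
    (q : Ideal (AdicCompletion (maximalIdeal (Localization.AtPrime p)) (Localization.AtPrime p))) [q.IsPrime]
    (hq : q.comap (algebraMap (Localization.AtPrime p)
      (AdicCompletion (maximalIdeal (Localization.AtPrime p)) (Localization.AtPrime p))) = ⊥)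
    [Algebra A (Localization.AtPrime q)]
    [IsScalarTower A (AdicCompletion (maximalIdeal (Localization.AtPrime p)) (Localization.AtPrime p))
      (Localization.AtPrime q)]
    [Algebra (FractionRing A) (Localization.AtPrime q)] [IsScalarTower A (FractionRing A) (Localization.AtPrime q)] :
    CAlgX.IsAdicFormallySmooth (FractionRing A) (Localization.AtPrime q) (maximalIdeal (Localization.AtPrime q)) := by
  haveI : IsNoetherianRing (Localization.AtPrime p) := IsLocalization.isNoetherianRing p.primeCompl _ inferInstance
  exact adicFormallySmooth_of_fibres q fun L _ _ _ _ _ =>
    GrothLib.GRingComplete.isRegularRing_tensor_completeDomain p (FractionRing A) L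

end Groth.Agent.S4583
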