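import Groth.Statements.S4585
import Groth.Agent.Lib.Constr.Scheme
import Groth.Agent.Lib.GenFree.Generic
import Mathlib.RingTheory.Spectrum.Prime.RingHom
import Mathlib.RingTheory.Ideal.Quotient.Nilpotent

set_option autoImplicit false
universe u
open AlgebraicGeometry CategoryTheory
open EGA41

namespace Groth.Agent.S4585

/-- A morphism of finite type to a domain whose image contains the generic point contains a
nonempty open. -/
theorem exists_ne_zero_forall_comap_map {R S : Type u} [CommRing R] [IsDomain R] [CommRing S]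
    [Algebra R S] [Algebra.FiniteType R S] (hinj : Function.Injective (algebraMap R S)) :
    ∃ r : R, r ≠ 0 ∧ ∀ q : Ideal R, q.IsPrime → r ∉ q →
      (q.map (algebraMap R S)).comap (algebraMap R S) = q := by
  obtain ⟨f, -, hf0, ι, φ, h1, h2⟩ :=
    GrothLib.GenFree.gf_of_finiteType (R := R) S S 1 one_ne_zero
  obtain ⟨e₀, l₀, hl₀⟩ := h1 1
  have hne : l₀ ≠ 0 := by
    rintro rfl
    rw [map_zero, Algebra.smul_def, mul_one] at hl₀
    exact pow_ne_zero _ hf0 (hinj (hl₀.symm.trans (map_zero _).symm))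
  obtain ⟨i, hi⟩ := Finsupp.ne_iff.1 hne
  refine ⟨f * l₀ i, mul_ne_zero hf0 hi, fun q hq hrq => le_antisymm (fun s hs => ?_) Ideal.le_comap_map⟩
  have key : ∀ b ∈ q.map (algebraMap R S),
      ∃ (n : ℕ) (l : ι →₀ R), (∀ j, l j ∈ q) ∧ φ l = f ^ n • b := by
    intro b hb
    induction hb using Submodule.span_induction with
    | mem x hx =>
        obtain ⟨a, ha, rfl⟩ := hx
        obtain ⟨n, l, hl⟩ := h1 1
        exact ⟨n, a • l, fun j => q.mul_mem_right _ ha, by
          rw [map_smul, hl, smul_comm, Algebra.smul_def a, mul_one]⟩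
    | zero => exact ⟨0, 0, fun _ => q.zero_mem, by simp⟩
    | add x y _ _ hx hy =>
        obtain ⟨n, l, hlq, hl⟩ := hx
        obtain ⟨m, l', hlq', hl'⟩ := hy
        refine ⟨n + m, f ^ m • l + f ^ n • l', fun j => ?_, ?_⟩
        · exact q.add_mem (q.mul_mem_left _ (hlq j)) (q.mul_mem_left _ (hlq' j))
        · rw [map_add, map_smul, map_smul, hl, hl', smul_smul, smul_smul, ← pow_add, ← pow_add,
            smul_add, add_comm m n]
    | smul c x _ hx =>
        obtain ⟨n, l, hlq, hl⟩ := hx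
        classical
        choose ec lc hlc using fun j : ι => h1 (c * φ (Finsupp.single j 1))
        let N := l.support.sup ec
        refine ⟨n + N, ∑ j ∈ l.support, (f ^ (N - ec j) * l j) • lc j, fun k => ?_, ?_⟩
        · rw [Finsupp.finsetSum_apply]
          exact q.sum_mem fun j _ => q.mul_mem_right _ (q.mul_mem_left _ (hlq j))
        · rw [map_sum, pow_add, mul_comm, mul_smul, smul_eq_mul, ← mul_smul_comm, ← hl]
          conv_rhs => rw [← l.sum_single, Finsupp.sum, map_sum, Finset.mul_sum, Finset.smul_sum]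
          refine Finset.sum_congr rfl fun j hj => ?_
          rw [map_smul, hlc, smul_smul, ← Finsupp.smul_single_one j (l j), map_smul, mul_smul_comm,
            smul_smul]
          congr 1
          rw [mul_right_comm, ← pow_add, Nat.sub_add_cancel (Finset.le_sup hj)]
  obtain ⟨n, l, hlq, hl⟩ := key _ hs
  have h0 : φ (f ^ e₀ • l - (f ^ n * s) • l₀) = 0 := by
    rw [map_sub, map_smul, map_smul, hl, hl₀, Algebra.algebraMap_eq_smul_one, smul_smul, smul_smul,
      smul_smul, sub_eq_zero]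
    congr 1; ring
  obtain ⟨k, hk⟩ := h2 _ h0
  have hki : f ^ k * (f ^ e₀ * l i - f ^ n * s * l₀ i) = 0 := by
    simpa using congrArg (fun v => v i) hk
  have hfq : f ∉ q := fun h => hrq (q.mul_mem_right _ h)
  have h3 : f ^ n * s * l₀ i ∈ q := by
    have h4 := (mul_eq_zero.1 hki).resolve_left (pow_ne_zero _ hf0)
    rw [← sub_eq_zero.1 h4]
    exact q.mul_mem_left _ (hlq i)
  have h5 := (hq.mem_or_mem h3).resolve_right (fun h => hrq (q.mul_mem_left _ h))
  exact (hq.mem_or_mem h5).resolve_left (fun h => hfq (hq.mem_of_pow_mem n h))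

/-- The same over a ring with irreducible spectrum. -/
theorem exists_basicOpen_subset_range {R S : Type u} [CommRing R] [CommRing S] (φ : R →+* S)
    (hφ : φ.FiniteType) (η : PrimeSpectrum R) (hmin : ∀ q : PrimeSpectrum R, η.asIdeal ≤ q.asIdeal)
    (hη : η ∈ Set.range (PrimeSpectrum.comap φ)) :
    ∃ r : R, η ∈ PrimeSpectrum.basicOpen r ∧
      (PrimeSpectrum.basicOpen r : Set (PrimeSpectrum R)) ⊆ Set.range (PrimeSpectrum.comap φ) := by
  letI := φ.toAlgebra
  haveI : Algebra.FiniteType R S := hφ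
  let I := η.asIdeal.map (algebraMap R S)
  have hcm : I.comap (algebraMap R S) = η.asIdeal := (PrimeSpectrum.mem_range_comap_iff φ).1 hη
  letI : Algebra (R ⧸ η.asIdeal) (S ⧸ I) :=
    (Ideal.quotientMap I (algebraMap R S) hcm.ge).toAlgebra
  haveI : IsScalarTower R (R ⧸ η.asIdeal) (S ⧸ I) := IsScalarTower.of_algebraMap_eq fun _ => rfl
  haveI : Algebra.FiniteType R (S ⧸ I) :=
    Algebra.FiniteType.of_surjective (Ideal.Quotient.mkₐ R I) Ideal.Quotient.mk_surjective
  haveI : Algebra.FiniteType (R ⧸ η.asIdeal) (S ⧸ I) :=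
    Algebra.FiniteType.of_restrictScalars_finiteType R _ _
  obtain ⟨r', hr', hq⟩ := exists_ne_zero_forall_comap_map (R := R ⧸ η.asIdeal) (S := S ⧸ I)
    (Ideal.quotientMap_injective' hcm.le)
  obtain ⟨r, rfl⟩ := Ideal.Quotient.mk_surjective r'
  refine ⟨r, fun h => hr' (Ideal.Quotient.eq_zero_iff_mem.2 h), fun q hqr => ?_⟩
  have hp : (q.asIdeal.map (Ideal.Quotient.mk η.asIdeal)).IsPrime :=
    Ideal.map_isPrime_of_surjective Ideal.Quotient.mk_surjective (by rw [Ideal.mk_ker]; exact hmin q)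
  have hcq : (q.asIdeal.map (Ideal.Quotient.mk η.asIdeal)).comap (Ideal.Quotient.mk η.asIdeal) =
      q.asIdeal := by
    rw [Ideal.comap_map_of_surjective _ Ideal.Quotient.mk_surjective, ← RingHom.ker_eq_comap_bot,
      Ideal.mk_ker, sup_eq_left.2 (hmin q)]
  have hrq : Ideal.Quotient.mk η.asIdeal r ∉ q.asIdeal.map (Ideal.Quotient.mk η.asIdeal) := fun h =>
    hqr (hcq.le (Ideal.mem_comap.2 h))
  obtain ⟨Q, hQ⟩ := (PrimeSpectrum.mem_range_comap_iff (algebraMap (R ⧸ η.asIdeal) (S ⧸ I))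
    (p := ⟨_, hp⟩)).2 (hq _ hp hrq)
  refine ⟨PrimeSpectrum.comap (Ideal.Quotient.mk I) Q, PrimeSpectrum.ext ?_⟩
  have h := congrArg (fun z => (PrimeSpectrum.asIdeal z).comap (Ideal.Quotient.mk η.asIdeal)) hQ
  exact h.trans hcq

/-- Let Y be an irreducible scheme with generic point η and f : X → Y locally of finite type with
nonempty fibre over η. Then some open neighbourhood of η is contained in f(X). (The second
assertion, on fibres of a quasi-coherent module of finite type, is not stated.) -/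
theorem result {X Y : Scheme.{u}} (f : X ⟶ Y)
    [LocallyOfFiniteType f] [IrreducibleSpace Y] (h : genericPoint Y ∈ Set.range f.base) :
    genericPoint Y ∈ interior (Set.range f.base) := by
  obtain ⟨x, hx⟩ := h
  obtain ⟨V, W, e, hV, hW, hxV, hxW, -⟩ := GrothLib.Constr.exists_resLE f x isOpen_univ (Set.mem_univ _)
  let g : Spec Γ(X, W) ⟶ Spec Γ(Y, V) := hW.isoSpec.inv ≫ f.resLE V W e ≫ hV.isoSpec.hom
  haveI : LocallyOfFiniteType (f.resLE V W e) := by rw [Scheme.Hom.resLE]; infer_instance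
  haveI : LocallyOfFiniteType g := inferInstance
  obtain ⟨φ, hφ⟩ : ∃ φ, g = Spec.map φ := ⟨Spec.preimage g, (Spec.map_preimage g).symm⟩
  have hft : φ.hom.FiniteType :=
    (HasRingHomProperty.Spec_iff (P := @LocallyOfFiniteType)).1 (hφ ▸ inferInstance)
  let y₀ : V.toScheme := ⟨genericPoint Y, hx ▸ hxV⟩
  let η : PrimeSpectrum Γ(Y, V) := hV.isoSpec.hom y₀
  have hmin : ∀ q : PrimeSpectrum Γ(Y, V), η.asIdeal ≤ q.asIdeal := fun q => by
    rw [PrimeSpectrum.asIdeal_le_asIdeal, PrimeSpectrum.le_iff_specializes]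
    have hsp : y₀ ⤳ hV.isoSpec.inv q :=
      V.ι.isOpenEmbedding.isInducing.specializes_iff.1 (genericPoint_specializes _)
    have h2 := hsp.map hV.isoSpec.hom.continuous
    rwa [← Scheme.Hom.comp_apply hV.isoSpec.inv hV.isoSpec.hom, Iso.inv_hom_id] at h2
  have hη : η ∈ Set.range (PrimeSpectrum.comap φ.hom) := by
    refine ⟨hW.isoSpec.hom ⟨x, hxW⟩, ?_⟩
    have h2 : g (hW.isoSpec.hom ⟨x, hxW⟩) = η := by
      change (hW.isoSpec.hom ≫ hW.isoSpec.inv ≫ f.resLE V W e ≫ hV.isoSpec.hom) ⟨x, hxW⟩ = η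
      rw [Iso.hom_inv_id_assoc, Scheme.Hom.comp_apply]
      exact congrArg hV.isoSpec.hom (Subtype.ext ((Scheme.Hom.coe_resLE_apply f e ⟨x, hxW⟩).trans hx))
    rw [hφ] at h2
    exact h2
  obtain ⟨r, hr, hsub⟩ := exists_basicOpen_subset_range φ.hom hft η hmin hη
  refine mem_interior.2 ⟨Subtype.val '' (hV.isoSpec.hom ⁻¹' (((PrimeSpectrum.basicOpen r : TopologicalSpace.Opens (PrimeSpectrum Γ(Y, V))) : Set (PrimeSpectrum Γ(Y, V))) : Set (Spec Γ(Y, V)))), ?_,
    V.2.isOpenMap_subtype_val _ ((PrimeSpectrum.basicOpen r).2.preimage hV.isoSpec.hom.continuous),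
    ⟨y₀, hr, rfl⟩⟩
  rintro _ ⟨z, hz, rfl⟩
  obtain ⟨w, hw⟩ := hsub hz
  refine ⟨(hW.isoSpec.inv w).1, ?_⟩
  rw [← Scheme.Hom.coe_resLE_apply f e (hW.isoSpec.inv w)]
  refine congrArg Subtype.val (hV.isoSpec.hom.isOpenEmbedding.injective (Eq.trans ?_ hw))
  change g w = _
  rw [hφ]
  rfl

end Groth.Agent.S4585
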