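import Groth.Statements.S4586
import Groth.Agent.Lib.Constr.Topology

set_option autoImplicit false
universe u
open AlgebraicGeometry CategoryTheory Topology
open EGA41

namespace Groth.Agent.S4586

/-- Let f : X → Y be surjective and either quasi-compact or locally of finite presentation, E ⊆ Y. Then
E is locally constructible (resp. pro-constructible, resp. ind-constructible) if and only if f⁻¹(E)
is. -/
theorem result {X Y : Scheme.{u}} (f : X ⟶ Y) [Surjective f]
    (hf : QuasiCompact f ∨ LocallyOfFinitePresentation f) (E : Set Y) :
    (IsLocallyConstructible E ↔ IsLocallyConstructible (f.base ⁻¹' E)) ∧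
    (ProCons.IsProConstructible E ↔ ProCons.IsProConstructible (f.base ⁻¹' E)) ∧
    (ProCons.IsIndConstructible E ↔ ProCons.IsIndConstructible (f.base ⁻¹' E)) := by
  have hsurj : ∀ S : Set Y, f.base '' (f.base ⁻¹' S) = S := fun S =>
    Set.image_preimage_eq S f.surjective
  have key : (ProCons.IsProConstructible E ↔ ProCons.IsProConstructible (f.base ⁻¹' E)) ∧
      (ProCons.IsIndConstructible E ↔ ProCons.IsIndConstructible (f.base ⁻¹' E)) := by
    refine ⟨⟨GrothLib.Constr.isProConstructible_preimage f, fun h => ?_⟩,
      ⟨GrothLib.Constr.isIndConstructible_preimage f, fun h => ?_⟩⟩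
    · rcases hf with hf | hf
      · exact hsurj E ▸ GrothLib.Constr.isProConstructible_image f h
      · rw [GrothLib.Constr.isProConstructible_iff_compl] at h ⊢
        rw [← Set.preimage_compl] at h
        exact hsurj Eᶜ ▸ GrothLib.Constr.isIndConstructible_image f h
    · rcases hf with hf | hf
      · rw [GrothLib.Constr.isIndConstructible_iff_compl] at h ⊢
        rw [← Set.preimage_compl] at h
        exact hsurj Eᶜ ▸ GrothLib.Constr.isProConstructible_image f h
      · exact hsurj E ▸ GrothLib.Constr.isIndConstructible_image f h
  refine ⟨⟨GrothLib.Constr.isLocallyConstructible_preimage f, fun h => ?_⟩, key.1, key.2⟩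
  rw [GrothLib.Constr.isLocallyConstructible_iff_ind_and_pro] at h ⊢
  exact ⟨key.2.2 h.1, key.1.2 h.2⟩

end Groth.Agent.S4586
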