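import Groth.Statements.S4587
import Mathlib

set_option autoImplicit false
universe u
open AlgebraicGeometry CategoryTheory
open EGA41

namespace Groth.Agent.S4587

/-- A morphism of schemes f : X → Y is generizing if and only if, for every irreducible closed subset Y'
of Y, each irreducible component of f⁻¹(Y') has dense image in Y'. -/
theorem result {X Y : Scheme.{u}} (f : X ⟶ Y) :
    GeneralizingMap f.base ↔
      ∀ Y' : Set Y, IsClosed Y' → IsIrreducible Y' →
        ∀ Z ∈ irreducibleComponents ↥(f.base ⁻¹' Y'), closure (f.base '' (Subtype.val '' Z)) = Y' := by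
  constructor
  · intro hf Y' hY'c hY'i Z hZ
    have hsub : f.base '' (Subtype.val '' Z) ⊆ Y' := by
      rintro _ ⟨_, ⟨z, -, rfl⟩, rfl⟩
      exact z.2
    refine subset_antisymm (closure_minimal hsub hY'c) ?_
    obtain ⟨η, hη⟩ := QuasiSober.sober hY'i hY'c
    have hemb : Topology.IsClosedEmbedding (Subtype.val : ↥(f.base ⁻¹' Y') → X) :=
      (hY'c.preimage f.continuous).isClosedEmbedding_subtypeVal
    obtain ⟨ξ, hξ⟩ := QuasiSober.sober (hZ.1.image _ continuous_subtype_val.continuousOn)
      (hemb.isClosedMap _ (isClosed_of_mem_irreducibleComponents Z hZ))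
    have hξ' : ξ ∈ Subtype.val '' Z := hξ.mem
    obtain ⟨z, hz, rfl⟩ := hξ'
    obtain ⟨w, hw, hwη⟩ := hf (hη.specializes z.2)
    have hwY : w ∈ f.base ⁻¹' Y' := by rw [Set.mem_preimage, hwη]; exact hη.mem
    have hle : Z ⊆ closure {(⟨w, hwY⟩ : ↥(f.base ⁻¹' Y'))} := by
      intro z' hz'
      rw [← specializes_iff_mem_closure, ← Topology.IsInducing.subtypeVal.specializes_iff]
      exact hw.trans (hξ.specializes ⟨z', hz', rfl⟩)
    have hwZ : (⟨w, hwY⟩ : ↥(f.base ⁻¹' Y')) ∈ Z :=
      hZ.2 isIrreducible_singleton.closure hle (subset_closure rfl)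
    refine hη.def.symm.subset.trans (closure_mono ?_)
    rintro _ rfl
    exact ⟨w, ⟨_, hwZ, rfl⟩, hwη⟩
  · intro h x y hyx
    have hx : x ∈ f.base ⁻¹' closure {y} := specializes_iff_mem_closure.1 hyx
    obtain ⟨Z, hZ, hxZ⟩ : ∃ Z ∈ irreducibleComponents ↥(f.base ⁻¹' closure {y}), (⟨x, hx⟩ : ↥(f.base ⁻¹' closure {y})) ∈ Z :=
      ⟨_, irreducibleComponent_mem_irreducibleComponents _, mem_irreducibleComponent⟩
    have hemb : Topology.IsClosedEmbedding (Subtype.val : ↥(f.base ⁻¹' closure {y}) → X) :=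
      (isClosed_closure.preimage f.continuous).isClosedEmbedding_subtypeVal
    obtain ⟨ξ, hξ⟩ := QuasiSober.sober (hZ.1.image _ continuous_subtype_val.continuousOn)
      (hemb.isClosedMap _ (isClosed_of_mem_irreducibleComponents Z hZ))
    refine ⟨ξ, hξ.specializes ⟨_, hxZ, rfl⟩, ?_⟩
    have hdom := h _ isClosed_closure isIrreducible_singleton.closure Z hZ
    have hle : closure (f.base '' (Subtype.val '' Z)) ⊆ closure {f.base ξ} := by
      refine closure_minimal ?_ isClosed_closure
      rintro _ ⟨x', hx', rfl⟩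
      exact specializes_iff_mem_closure.1 ((hξ.specializes hx').map f.continuous)
    rw [hdom] at hle
    have h1 : f.base ξ ⤳ y := specializes_iff_mem_closure.2 (hle (subset_closure rfl))
    have h2 : y ⤳ f.base ξ := by
      refine specializes_iff_mem_closure.2 ?_
      obtain ⟨z, -, hz⟩ := hξ.mem
      rw [← hz]
      exact z.2
    exact (h1.antisymm h2).eq

end Groth.Agent.S4587
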