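import Groth.Statements.S4588
import Groth.Agent.Lib.Dim.Ring
import Groth.Agent.Lib.Serre.Ring
import Groth.Agent.Lib.CMFree.Regular
import Mathlib

set_option autoImplicit false
universe u
open IsLocalRing
open EGA41

namespace Groth.Agent.S4588

/-- Let A be a regular local ring with maximal ideal m and residue field K, and F_i(T_i) = T_i^{d_i} +
Σ_{k<d_i} c_{ik} T_i^k (1 ≤ i ≤ r) monic one-variable polynomials of degrees d_i ≥ 2 with all
non-leading coefficients in m; put A' = A[T_1, …, T_r]/(F_1, …, F_r). Then (i) A' is local with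
residue field K, and (ii) A' is regular if and only if the classes in m/m² of the constant terms
c_{i0} are linearly independent over K. -/
theorem result {A : Type u} [CommRing A]
    [IsRegularLocalRing A] {r : ℕ} (d : Fin r → ℕ) (hd : ∀ i, 2 ≤ d i) (c : Fin r → ℕ → A)
    (hc : ∀ i k, c i k ∈ maximalIdeal A) :
    let F : Fin r → MvPolynomial (Fin r) A := fun i =>
      MvPolynomial.X i ^ d i + (Finset.range (d i)).sum fun k => MvPolynomial.C (c i k) * MvPolynomial.X i ^ k
    IsLocalRing (MvPolynomial (Fin r) A ⧸ Ideal.span (Set.range F)) ∧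
    (∀ (M : Ideal (MvPolynomial (Fin r) A ⧸ Ideal.span (Set.range F))) [M.IsMaximal],
      Function.Surjective ((Ideal.Quotient.mk M).comp (algebraMap A _))) ∧
    (IsRegularRing (MvPolynomial (Fin r) A ⧸ Ideal.span (Set.range F)) ↔
      LinearIndependent (ResidueField A) (fun i => (maximalIdeal A).toCotangent ⟨c i 0, hc i 0⟩)) := by
  classical
  intro F
  let P := MvPolynomial (Fin r) A
  let I : Ideal P := Ideal.span (Set.range F)
  let B := P ⧸ I
  let T : Fin r → B := fun i => Ideal.Quotient.mk I (MvPolynomial.X i)
  let ι : A →+* B := algebraMap A B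
  let K := ResidueField A
  have h0 : ∀ i, d i ≠ 0 := fun i => by have := hd i; omega
  -- the closed point
  let ρ₀ : P →+* K := (residue A).comp MvPolynomial.constantCoeff
  have hρC : ∀ a, ρ₀ (MvPolynomial.C a) = residue A a := fun a => congrArg (residue A) (MvPolynomial.constantCoeff_C _ a)
  have hρX : ∀ i, ρ₀ (MvPolynomial.X i) = 0 := fun i =>
    (congrArg (residue A) (MvPolynomial.constantCoeff_X _ i)).trans (map_zero _)
  have hres : ∀ i k, residue A (c i k) = 0 := fun i k => (residue_eq_zero_iff _).2 (hc i k)
  have hρF : ∀ i, ρ₀ (F i) = 0 := fun i => by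
    simp only [F, map_add, map_sum, map_mul, map_pow, hρC, hρX, hres, zero_mul, Finset.sum_const_zero,
      zero_pow (h0 i), add_zero]
  have hIρ : I ≤ RingHom.ker ρ₀ := Ideal.span_le.2 (by rintro _ ⟨i, rfl⟩; exact hρF i)
  let ρ : B →+* K := Ideal.Quotient.lift I ρ₀ (fun a ha => hIρ ha)
  have hρι : ∀ a, ρ (ι a) = residue A a := fun a => hρC a
  have hρT : ∀ i, ρ (T i) = 0 := hρX
  have hρsurj : Function.Surjective ρ := fun x => by
    obtain ⟨a, rfl⟩ := residue_surjective x
    exact ⟨ι a, hρι a⟩
  let M : Ideal B := RingHom.ker ρ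
  have hMmax : M.IsMaximal := RingHom.ker_isMaximal_of_surjective ρ hρsurj
  have hdec : ∀ b : B, ∃ a : A, b - ι a ∈ Ideal.span (Set.range T) := by
    intro b
    obtain ⟨p, rfl⟩ := Ideal.Quotient.mk_surjective b
    induction p using MvPolynomial.induction_on with
    | C a => exact ⟨a, by rw [show Ideal.Quotient.mk I (MvPolynomial.C a) = ι a from rfl, sub_self]; exact zero_mem _⟩
    | add p q hp hq =>
      obtain ⟨a, hp⟩ := hp
      obtain ⟨a', hq⟩ := hq
      exact ⟨a + a', by rw [map_add, map_add, add_sub_add_comm]; exact add_mem hp hq⟩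
    | mul_X p i _ =>
      exact ⟨0, by rw [map_zero, sub_zero, map_mul]; exact Ideal.mul_mem_left _ _ (Ideal.subset_span ⟨i, rfl⟩)⟩
  have hTM : Ideal.span (Set.range T) ≤ M := Ideal.span_le.2 (by rintro _ ⟨i, rfl⟩; exact hρT i)
  have hMle : ∀ {J : Ideal B}, (maximalIdeal A).map ι ≤ J → (∀ i, T i ∈ J) → M ≤ J := fun {J} h1 h2 b hb => by
    obtain ⟨a, ha⟩ := hdec b
    have h3 : ρ (b - ι a) = 0 := hTM ha
    rw [map_sub, show ρ b = 0 from hb, hρι, zero_sub, neg_eq_zero, residue_eq_zero_iff] at h3
    have := add_mem ((Ideal.span_le.2 (by rintro _ ⟨i, rfl⟩; exact h2 i) : Ideal.span (Set.range T) ≤ J) ha)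
      (h1 (Ideal.mem_map_of_mem ι h3))
    rwa [sub_add_cancel] at this
  have hrel : ∀ i, T i ^ d i + (Finset.range (d i)).sum (fun k => ι (c i k) * T i ^ k) = 0 := fun i => by
    have h : Ideal.Quotient.mk I (F i) = 0 :=
      Ideal.Quotient.eq_zero_iff_mem.2 (Ideal.subset_span ⟨i, rfl⟩)
    rw [map_add, map_pow, map_sum] at h
    simp only [map_mul, map_pow] at h
    exact h
  haveI hint : Algebra.IsIntegral A B := by
    refine ⟨fun b => ?_⟩
    obtain ⟨p, rfl⟩ := Ideal.Quotient.mk_surjective b
    induction p using MvPolynomial.induction_on with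
    | C a => exact isIntegral_algebraMap
    | add p q hp hq => rw [map_add]; exact hp.add hq
    | mul_X p i hp =>
      rw [map_mul]
      refine hp.mul ⟨Polynomial.X ^ d i + (Finset.range (d i)).sum
        (fun k => Polynomial.C (c i k) * Polynomial.X ^ k), ?_, ?_⟩
      · refine Polynomial.monic_X_pow_add ((Polynomial.degree_sum_le _ _).trans_lt
          ((Finset.sup_lt_iff (WithBot.bot_lt_coe _)).2 fun k hk => ?_))
        exact (Polynomial.degree_C_mul_X_pow_le _ _).trans_lt (WithBot.coe_lt_coe.2 (Finset.mem_range.1 hk))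
      · simp only [Polynomial.eval₂_add, Polynomial.eval₂_X_pow, Polynomial.eval₂_finsetSum, Polynomial.eval₂_mul,
          Polynomial.eval₂_C]
        exact hrel i
  have hmax : ∀ J : Ideal B, J.IsMaximal → J = M := fun J hJ => by
    haveI := hJ
    have hcomap : J.comap ι = maximalIdeal A :=
      IsLocalRing.eq_maximalIdeal (Ideal.isMaximal_comap_of_isIntegral_of_isMaximal J)
    refine (hMmax.eq_of_le hJ.ne_top (hMle (Ideal.map_le_iff_le_comap.2 hcomap.ge) fun i => ?_)).symm
    refine hJ.isPrime.mem_of_pow_mem (d i) ?_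
    rw [eq_neg_of_add_eq_zero_left (hrel i)]
    exact neg_mem (sum_mem fun k _ => J.mul_mem_right _ (hcomap.ge (hc i k)))
  haveI hloc : IsLocalRing B := IsLocalRing.of_unique_max_ideal ⟨M, hMmax, hmax⟩
  have hM : maximalIdeal B = M := hmax _ inferInstance
  refine ⟨hloc, fun J hJ x => ?_, ?_⟩
  · obtain ⟨b, rfl⟩ := Ideal.Quotient.mk_surjective x
    obtain ⟨a, ha⟩ := hdec b
    exact ⟨a, (Ideal.Quotient.eq.2 ((hmax J hJ).symm ▸ hTM ha)).symm⟩
  -- dimensions
  haveI : IsDomain A := GrothLib.CMFree.isDomain_of_isRegularLocalRing A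
  haveI : IsNoetherianRing B := inferInstance
  let Ω := AlgebraicClosure (FractionRing A)
  let g := (algebraMap (FractionRing A) Ω).comp (algebraMap A (FractionRing A))
  have hroot : ∀ i, ∃ t : Ω, t ^ d i + (Finset.range (d i)).sum (fun k => g (c i k) * t ^ k) = 0 := fun i => by
    have hdeg : ((Finset.range (d i)).sum fun k => Polynomial.C (g (c i k)) * Polynomial.X ^ k).degree <
        ((Polynomial.X : Polynomial Ω) ^ d i).degree := by
      rw [Polynomial.degree_X_pow]
      exact (Polynomial.degree_sum_le _ _).trans_lt ((Finset.sup_lt_iff (WithBot.bot_lt_coe _)).2 fun k hk =>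
        (Polynomial.degree_C_mul_X_pow_le _ _).trans_lt (WithBot.coe_lt_coe.2 (Finset.mem_range.1 hk)))
    obtain ⟨t, ht⟩ := IsAlgClosed.exists_root (Polynomial.X ^ d i +
      (Finset.range (d i)).sum (fun k => Polynomial.C (g (c i k)) * Polynomial.X ^ k) : Polynomial Ω) (by
        rw [Polynomial.degree_add_eq_left_of_degree_lt hdeg, Polynomial.degree_X_pow]
        exact fun h => h0 i (WithBot.coe_eq_coe.1 h))
    refine ⟨t, ?_⟩
    simpa [Polynomial.IsRoot.def, Polynomial.eval_finsetSum] using ht
  choose t ht using hroot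
  have hinj : Function.Injective (algebraMap A B) := by
    refine Function.Injective.of_comp (f := Ideal.Quotient.lift I (MvPolynomial.eval₂Hom g t) (fun a ha =>
      (Ideal.span_le.2 (by
        rintro _ ⟨i, rfl⟩
        have hC : ∀ a, MvPolynomial.eval₂Hom g t (MvPolynomial.C a) = g a := fun a => MvPolynomial.eval₂_C g t a
        have hX : ∀ i, MvPolynomial.eval₂Hom g t (MvPolynomial.X i) = t i := fun i => MvPolynomial.eval₂_X g t i
        simp only [F, SetLike.mem_coe, RingHom.mem_ker, map_add, map_sum, map_mul, map_pow, hC, hX]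
        exact ht i) : I ≤ RingHom.ker (MvPolynomial.eval₂Hom g t)) ha)) ?_
    intro a b hab
    refine ((algebraMap (FractionRing A) Ω).injective.comp (IsFractionRing.injective A (FractionRing A))) ?_
    exact ((MvPolynomial.eval₂Hom_C g t a).symm.trans hab).trans (MvPolynomial.eval₂Hom_C g t b)
  have hdim : ringKrullDim B = ((maximalIdeal A).spanFinrank : WithBot ℕ∞) :=
    (GrothLib.Dim.ringKrullDim_eq_of_isIntegral hinj).trans IsRegularLocalRing.spanFinrank_maximalIdeal.symm
  let V := CotangentSpace A
  let x : Fin r → V := fun i => (maximalIdeal A).toCotangent ⟨c i 0, hc i 0⟩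
  let S : Submodule K V := Submodule.span K (Set.range x)
  have hV : Module.finrank K V = (maximalIdeal A).spanFinrank :=
    (spanFinrank_maximalIdeal_eq_finrank_cotangentSpace A).symm
  have hVS := Submodule.finrank_quotient_add_finrank S
  constructor
  · intro hreg
    haveI := hreg
    haveI : IsRegularLocalRing B := IsRegularLocalRing.of_isRegularRing_of_isLocalRing B
    have hn : (maximalIdeal B).spanFinrank = (maximalIdeal A).spanFinrank := by
      exact_mod_cast (IsRegularLocalRing.spanFinrank_maximalIdeal (R := B)).trans hdim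
    obtain ⟨w, hwc, hw⟩ : ∃ w : Finset B, w.card = (maximalIdeal B).spanFinrank ∧ Ideal.span (w : Set B) = M := by
      have hfg : (maximalIdeal B).FG := IsNoetherian.noetherian _
      refine ⟨(Submodule.FG.finite_generators hfg).toFinset, ?_, ?_⟩
      · rw [← Set.ncard_eq_toFinset_card _ (Submodule.FG.finite_generators hfg)]; exact Submodule.FG.generators_ncard hfg
      · rw [Set.Finite.coe_toFinset, ← hM]; exact Submodule.span_generators _
    -- the tangent map
    let W := (V ⧸ S) × (Fin r → K)
    have hJ : ∀ p : RingHom.ker ρ₀, MvPolynomial.constantCoeff p.1 ∈ maximalIdeal A := fun p =>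
      (residue_eq_zero_iff _).1 p.2
    let E : RingHom.ker ρ₀ →+ W := AddMonoidHom.mk'
      (fun p => (Submodule.Quotient.mk ((maximalIdeal A).toCotangent ⟨_, hJ p⟩),
        fun i => residue A (MvPolynomial.constantCoeff (MvPolynomial.pderiv i p.1))))
      (fun p q => Prod.ext (by
          show Submodule.Quotient.mk _ = Submodule.Quotient.mk _ + Submodule.Quotient.mk _
          rw [← Submodule.Quotient.mk_add, ← map_add]
          exact congrArg (fun y => Submodule.Quotient.mk ((maximalIdeal A).toCotangent y))
            (Subtype.ext (map_add MvPolynomial.constantCoeff p.1 q.1)))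
        (funext fun i => (congrArg (fun z => residue A (MvPolynomial.constantCoeff z))
          (map_add (MvPolynomial.pderiv i) p.1 q.1)).trans (by rw [map_add, map_add]; rfl)))
    have hEsmul : ∀ (g : P) (p : RingHom.ker ρ₀), E (g • p) = ρ₀ g • E p := fun g p => by
      refine Prod.ext ?_ (funext fun i => ?_)
      · show Submodule.Quotient.mk _ = ρ₀ g • Submodule.Quotient.mk _
        rw [← Submodule.Quotient.mk_smul]
        refine congrArg Submodule.Quotient.mk (Eq.trans ?_
          (map_smul (maximalIdeal A).toCotangent (MvPolynomial.constantCoeff g) ⟨_, hJ p⟩))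
        exact congrArg (maximalIdeal A).toCotangent (Subtype.ext (map_mul MvPolynomial.constantCoeff g p.1))
      · show residue A (MvPolynomial.constantCoeff (MvPolynomial.pderiv i (g * p.1))) =
          residue A (MvPolynomial.constantCoeff g) * residue A _
        simp [MvPolynomial.pderiv_mul, (residue_eq_zero_iff _).2 (hJ p)]
    have hEF : ∀ i, E ⟨F i, hρF i⟩ = 0 := fun i => by
      have hcc : MvPolynomial.constantCoeff (F i) = c i 0 := by
        simp only [F, map_add, map_sum, map_mul, map_pow, MvPolynomial.constantCoeff_C,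
          MvPolynomial.constantCoeff_X, zero_pow (h0 i), zero_add]
        rw [Finset.sum_eq_single_of_mem 0 (Finset.mem_range.2 (Nat.pos_of_ne_zero (h0 i)))
          (fun k _ hk => by rw [zero_pow hk, mul_zero]), pow_zero, mul_one]
      refine Prod.ext ?_ (funext fun j => ?_)
      · show Submodule.Quotient.mk _ = 0
        rw [Submodule.Quotient.mk_eq_zero]
        exact Submodule.subset_span ⟨i, congrArg (maximalIdeal A).toCotangent (Subtype.ext hcc.symm)⟩
      · show residue A (MvPolynomial.constantCoeff (MvPolynomial.pderiv j (F i))) = 0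
        have h1 : d i - 1 ≠ 0 := by have := hd i; omega
        simp [F, hres, zero_pow h1]
    choose v hv using fun b : w => Ideal.Quotient.mk_surjective (b : B)
    have hvρ : ∀ b, v b ∈ RingHom.ker ρ₀ := fun b => by
      show ρ (Ideal.Quotient.mk I (v b)) = 0
      rw [hv, ← RingHom.mem_ker]
      exact hw.le (Ideal.subset_span b.2)
    let U' : Submodule K W := Submodule.span K (Set.range fun b : w => E ⟨v b, hvρ b⟩)
    have hall : ∀ p : RingHom.ker ρ₀, E p ∈ U' := fun p => by
      have h1 : p.1 ∈ Ideal.span (Set.range (Sum.elim v F)) := by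
        rw [Set.Sum.elim_range, Ideal.span_union]
        have h2 : Ideal.Quotient.mk I p.1 ∈ (Ideal.span (Set.range v)).map (Ideal.Quotient.mk I) := by
          rw [Ideal.map_span, ← Set.range_comp, show (Ideal.Quotient.mk I ∘ v) = Subtype.val from funext hv,
            Subtype.range_coe_subtype, Finset.setOfPred_mem, hw]
          exact p.2
        rw [Ideal.mem_quotient_iff_mem_sup] at h2
        exact h2
      obtain ⟨a, ha⟩ := Submodule.mem_span_range_iff_exists_fun P |>.1 h1
      let q : w ⊕ Fin r → RingHom.ker ρ₀ := Sum.elim (fun b => ⟨v b, hvρ b⟩) (fun i => ⟨F i, hρF i⟩)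
      have hp : p = ∑ j, a j • q j := Subtype.ext (by
        rw [← ha, AddSubmonoidClass.coe_finsetSum]
        exact Finset.sum_congr rfl fun j _ => by cases j <;> rfl)
      rw [hp, map_sum]
      refine sum_mem fun j _ => ?_
      rw [hEsmul]
      refine U'.smul_mem _ ?_
      cases j with
      | inl b => exact Submodule.subset_span ⟨b, rfl⟩
      | inr i => rw [show E (q (Sum.inr i)) = 0 from hEF i]; exact zero_mem _
    have htop : U' = ⊤ := by
      refine eq_top_iff.2 fun y _ => ?_
      obtain ⟨y1, hy1⟩ := Submodule.Quotient.mk_surjective _ y.1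
      obtain ⟨a, ha⟩ := (maximalIdeal A).toCotangent_surjective y1
      choose e he using fun i => residue_surjective (y.2 i)
      have hmem : MvPolynomial.C a.1 + ∑ i, MvPolynomial.C (e i) * MvPolynomial.X i ∈ RingHom.ker ρ₀ := by
        simp [RingHom.mem_ker, hρC, hρX, (residue_eq_zero_iff _).2 a.2]
      convert hall ⟨_, hmem⟩
      refine Prod.ext ?_ (funext fun j => ?_)
      · show y.1 = Submodule.Quotient.mk _
        rw [← hy1, ← ha]
        exact congrArg (fun z => Submodule.Quotient.mk ((maximalIdeal A).toCotangent z)) (Subtype.ext (by simp))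
      · show y.2 j = residue A (MvPolynomial.constantCoeff (MvPolynomial.pderiv j _))
        simp [← he, Pi.single_apply, MvPolynomial.pderiv_X]
    have hle : Module.finrank K W ≤ (maximalIdeal A).spanFinrank := by
      rw [← hn, ← hwc, ← finrank_top, ← htop]
      exact (finrank_range_le_card _).trans (Fintype.card_coe w).le
    rw [linearIndependent_iff_card_le_finrank_span, Fintype.card_fin]
    rw [Module.finrank_prod, Module.finrank_fin_fun] at hle
    show r ≤ Module.finrank K S
    omega
  · intro hli
    have hS : Module.finrank K S = r := (finrank_span_eq_card hli).trans (Fintype.card_fin r)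
    let b := Module.finBasis K (V ⧸ S)
    choose y1 hy1 using fun j => Submodule.Quotient.mk_surjective S (b j)
    choose y hy using fun j => (maximalIdeal A).toCotangent_surjective (y1 j)
    let s : Set (maximalIdeal A) := Set.range (fun i => (⟨c i 0, hc i 0⟩ : maximalIdeal A)) ∪ Set.range y
    have hs : Submodule.span K ((maximalIdeal A).toCotangent '' s) = ⊤ := by
      rw [Set.image_union, Submodule.span_union, ← Set.range_comp, ← Set.range_comp,
        show (maximalIdeal A).toCotangent ∘ y = y1 from funext hy, show ((maximalIdeal A).toCotangent ∘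
          fun i => (⟨c i 0, hc i 0⟩ : maximalIdeal A)) = x from rfl, sup_comm]
      refine eq_top_iff.2 ?_
      have := congrArg (Submodule.comap S.mkQ) b.span_eq
      rw [← show S.mkQ '' Set.range y1 = Set.range b by rw [← Set.range_comp]; exact congrArg Set.range (funext hy1),
        ← Submodule.map_span, Submodule.comap_map_eq, Submodule.ker_mkQ, Submodule.comap_top] at this
      exact this.ge
    have hA : Ideal.span (Subtype.val '' s) = maximalIdeal A := by
      have := congrArg (Submodule.map (maximalIdeal A).subtype) (CotangentSpace.span_image_eq_top_iff.1 hs)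
      rwa [Submodule.map_span, Submodule.map_top, Submodule.range_subtype] at this
    have hgen : M = Ideal.span (Set.range T ∪ Set.range fun j => ι (y j).1) := by
      refine le_antisymm (hMle ?_ fun i => Ideal.subset_span (Or.inl ⟨i, rfl⟩)) (Ideal.span_le.2 ?_)
      · refine (congrArg (Ideal.map ι) hA.symm).trans_le ?_
        rw [Ideal.map_span, Ideal.span_le]
        rintro _ ⟨_, ⟨a, ha, rfl⟩, rfl⟩
        rcases ha with ⟨i, rfl⟩ | ⟨j, rfl⟩
        · let J : Ideal B := Ideal.span (Set.range T ∪ Set.range fun j => ι (y j).1)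
          show ι (c i 0) ∈ J
          have hTJ : T i ∈ J := Ideal.subset_span (Or.inl ⟨i, rfl⟩)
          have h := hrel i
          rw [← Finset.add_sum_erase _ _ (Finset.mem_range.2 (Nat.pos_of_ne_zero (h0 i))), pow_zero, mul_one] at h
          rw [show ι (c i 0) = -(T i ^ d i) - ((Finset.range (d i)).erase 0).sum (fun k => ι (c i k) * T i ^ k) by
            linear_combination h]
          exact sub_mem (neg_mem (J.pow_mem_of_mem hTJ _ (Nat.pos_of_ne_zero (h0 i)))) (sum_mem fun k hk =>
            J.mul_mem_left _ (J.pow_mem_of_mem hTJ _ (Nat.pos_of_ne_zero (Finset.ne_of_mem_erase hk))))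
        · exact Ideal.subset_span (Or.inr ⟨j, rfl⟩)
      · rintro _ (⟨i, rfl⟩ | ⟨j, rfl⟩)
        · exact hρT i
        · exact (hρι _).trans ((residue_eq_zero_iff _).2 (y j).2)
    haveI : IsRegularLocalRing B := by
      refine IsRegularLocalRing.of_spanFinrank_maximalIdeal_le B ?_
      rw [hdim, hM, hgen]
      refine Nat.cast_le.2 ((Submodule.spanFinrank_span_le_ncard_of_finite
        ((Set.finite_range _).union (Set.finite_range _))).trans ((Set.ncard_union_le _ _).trans ?_))
      have h1 := Finite.card_range_le T
      have h2 := Finite.card_range_le (fun j => ι (y j).1)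
      rw [Nat.card_coe_set_eq, Nat.card_fin] at h1 h2
      omega
    exact GrothLib.Serre.isRegularRing_of_isRegularLocalRing B

end Groth.Agent.S4588
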