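import Groth.Statements.S4589
import Groth.Agent.S4573
import Groth.Agent.S2035
import Groth.Agent.Lib.GRingComplete.Excellent
import Groth.Agent.Lib.J2.Criterion

set_option autoImplicit false
universe u
open IsLocalRing
open EGA41

namespace Groth.Agent.S4589

open TensorProduct

/-- Where a base change to a finite field extension is regular. -/
theorem isOpen_setOf_isRegularRing_tensor {k B : Type u} [Field k] [CommRing B] [IsNoetherianRing B] [Algebra k B]
    (k' : Type u) [Field k'] [Algebra k k'] [Module.Finite k k'] (h : IsOpen (EGA4.regLocus (B ⊗[k] k'))) :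
    IsOpen {n : PrimeSpectrum B | IsRegularRing (k' ⊗[k] Localization.AtPrime n.asIdeal)} := by
  let B' := B ⊗[k] k'
  haveI : IsNoetherianRing B' := IsNoetherianRing.of_finite B B'
  let C := PrimeSpectrum.comap (algebraMap B B') '' (EGA4.regLocus B')ᶜ
  have hC : IsClosed C := PrimeSpectrum.isClosedMap_comap_of_isIntegral _
    (algebraMap_isIntegral_iff.2 inferInstance) _ h.isClosed_compl
  suffices hset : {n : PrimeSpectrum B | IsRegularRing (k' ⊗[k] Localization.AtPrime n.asIdeal)} = Cᶜ by
    rw [hset]; exact hC.isOpen_compl
  ext n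
  let M := Algebra.algebraMapSubmonoid B' n.asIdeal.primeCompl
  let T := B' ⊗[B] Localization.AtPrime n.asIdeal
  haveI : IsLocalization M T := inferInstance
  haveI : IsNoetherianRing T := IsLocalization.isNoetherianRing M T inferInstance
  let e : T ≃+* k' ⊗[k] Localization.AtPrime n.asIdeal :=
    (Algebra.TensorProduct.comm B B' (Localization.AtPrime n.asIdeal)).toRingEquiv.trans
      ((Algebra.TensorProduct.cancelBaseChange k B (Localization.AtPrime n.asIdeal)
        (Localization.AtPrime n.asIdeal) k').toRingEquiv.trans
        (Algebra.TensorProduct.comm k (Localization.AtPrime n.asIdeal) k').toRingEquiv)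
  have hTiff : IsRegularRing (k' ⊗[k] Localization.AtPrime n.asIdeal) ↔ IsRegularRing T :=
    ⟨fun _ => IsRegularRing.of_ringEquiv (R := k' ⊗[k] Localization.AtPrime n.asIdeal) e.symm,
      fun _ => IsRegularRing.of_ringEquiv (R := T) e⟩
  show IsRegularRing (k' ⊗[k] Localization.AtPrime n.asIdeal) ↔ n ∉ C
  rw [hTiff]
  constructor
  · rintro hT ⟨N, hN, rfl⟩
    have hdisj : Disjoint (M : Set B') N.asIdeal := Set.disjoint_left.2 fun a ha ha' => by
      obtain ⟨b, hb, rfl⟩ := ha
      exact hb ha'
    haveI hP : (N.asIdeal.map (algebraMap B' T)).IsPrime :=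
      IsLocalization.isPrime_of_isPrime_disjoint M T N.asIdeal N.2 hdisj
    have h1 := (GrothLib.J2.isRegularLocalRing_iff_comap M (N.asIdeal.map (algebraMap B' T))).1 inferInstance
    refine hN ?_
    show IsRegularLocalRing (Localization.AtPrime N.asIdeal)
    have hc := IsLocalization.comap_map_of_isPrime_disjoint M T N.2 hdisj
    exact GrothLib.J2.isRegularLocalRing_congr hc h1
  · intro hn
    rw [isRegularRing_iff]
    intro P _
    refine (GrothLib.J2.isRegularLocalRing_iff_comap M P).2 ?_
    by_contra hbad
    let N : PrimeSpectrum B' := ⟨P.comap (algebraMap B' T), inferInstance⟩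
    have hle : (PrimeSpectrum.comap (algebraMap B B') N).asIdeal ≤ n.asIdeal := fun b hb => by
      by_contra hbn
      exact (IsLocalization.isPrime_iff_isPrime_disjoint M T P).1 inferInstance |>.2.ne_of_mem
        (⟨b, hbn, rfl⟩ : algebraMap B B' b ∈ (M : Set B')) hb rfl
    exact hn (((PrimeSpectrum.le_iff_specializes _ _).1 hle).mem_closed hC ⟨N, hbad, rfl⟩)

/-- The locus of formal smoothness is open, through the extension `k' = k^{1/p}`. -/
theorem isOpen_aux {p : ℕ} [Fact p.Prime] {k B : Type u} [Field k] [CharP k p] [ExpChar k p] [CommRing B] [IsNoetherianRing B]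
    [Algebra k B] (k' : Type u) [Field k'] [Algebra k k'] [Module.Finite k k'] (e : k' ≃+* k)
    (he : ∀ x : k, e (algebraMap k k' x) = x ^ p)
    (h : ∀ (S : Type u) [CommRing S] [Algebra B S], Algebra.FiniteType B S → IsOpen (EGA4.regLocus S)) :
    IsOpen {n : PrimeSpectrum B |
      CAlgX.IsAdicFormallySmooth k (Localization.AtPrime n.asIdeal) (maximalIdeal (Localization.AtPrime n.asIdeal))} := by
  have hp : p.Prime := Fact.out
  suffices hset : {n : PrimeSpectrum B | CAlgX.IsAdicFormallySmooth k (Localization.AtPrime n.asIdeal)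
      (maximalIdeal (Localization.AtPrime n.asIdeal))} =
      {n : PrimeSpectrum B | IsRegularRing (k' ⊗[k] Localization.AtPrime n.asIdeal)} by
    rw [hset]
    exact isOpen_setOf_isRegularRing_tensor k' (h _ inferInstance)
  ext n
  haveI : IsNoetherianRing (Localization.AtPrime n.asIdeal) :=
    IsLocalization.isNoetherianRing n.asIdeal.primeCompl _ inferInstance
  refine (Groth.Agent.S4573.result p).trans ⟨fun H => H k' inferInstance fun y => ⟨e y, ?_⟩, fun hreg L _ _ hL hpow => ?_⟩
  · exact e.injective (by rw [he, map_pow])
  · haveI := hL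
    haveI : CharP L p := charP_of_injective_algebraMap (algebraMap k L).injective p
    choose c hc using hpow
    let j : L →+* k' := e.symm.toRingHom.comp
      { toFun := c
        map_one' := (algebraMap k L).injective (by rw [hc, map_one, one_pow])
        map_zero' := (algebraMap k L).injective (by rw [hc, map_zero, zero_pow hp.ne_zero])
        map_add' := fun a b => (algebraMap k L).injective (by rw [hc, map_add, hc, hc, add_pow_char a b p])
        map_mul' := fun a b => (algebraMap k L).injective (by rw [hc, map_mul, hc, hc, mul_pow]) }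
    letI : Algebra L k' := j.toAlgebra
    haveI : IsScalarTower k L k' := IsScalarTower.of_algebraMap_eq fun x => by
      apply e.injective
      show e (algebraMap k k' x) = e (e.symm (c (algebraMap k L x)))
      rw [RingEquiv.apply_symm_apply, he]
      apply (algebraMap k L).injective
      rw [hc, map_pow]
    let Bn := Localization.AtPrime n.asIdeal
    haveI : IsRegularRing (k' ⊗[k] Bn) := hreg
    haveI : IsRegularRing (k' ⊗[L] (L ⊗[k] Bn)) := IsRegularRing.of_ringEquiv (R := k' ⊗[k] Bn)
      (Algebra.TensorProduct.cancelBaseChange k L k' k' Bn).symm.toRingEquiv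
    haveI : IsRegularRing ((L ⊗[k] Bn) ⊗[L] k') := IsRegularRing.of_ringEquiv (R := k' ⊗[L] (L ⊗[k] Bn))
      (Algebra.TensorProduct.comm L k' (L ⊗[k] Bn)).toRingEquiv
    haveI : IsNoetherianRing (Bn ⊗[k] L) := IsNoetherianRing.of_finite Bn (Bn ⊗[k] L)
    haveI : IsNoetherianRing (L ⊗[k] Bn) :=
      isNoetherianRing_of_ringEquiv (Bn ⊗[k] L) (Algebra.TensorProduct.comm k Bn L).toRingEquiv
    exact GrothLib.Serre.isRegularRing_of_faithfullyFlat (L ⊗[k] Bn) ((L ⊗[k] Bn) ⊗[L] k')

/-- Under the hypotheses of Nagata's Jacobian criterion — k a field of characteristic exponent p with k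
finite over k^p, A a complete Noetherian local ring with residue field finite over a separable
extension K₀ of k, A a K₀-algebra formally smooth for its adic topology, q an ideal of A and B = A/q
— the set of primes n of B with B_n formally smooth over k for the adic topology of its maximal
ideal is open in Spec B. -/
theorem result (p : ℕ) {k K₀ A : Type u} [Field k] [ExpChar k p]
    (hk : p = 1 ∨ Module.Finite (frobenius k p).fieldRange k)
    [Field K₀] [Algebra k K₀] [Algebra.IsGeometricallyReduced k K₀]
    [CommRing A] [IsLocalRing A] [IsNoetherianRing A] [IsAdicComplete (maximalIdeal A) A]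
    [Algebra k A] [Algebra K₀ A] [IsScalarTower k K₀ A] [Module.Finite K₀ (ResidueField A)]
    (hA : CAlgX.IsAdicFormallySmooth K₀ A (maximalIdeal A))
    (q : Ideal A) :
    IsOpen {n : PrimeSpectrum (A ⧸ q) |
      CAlgX.IsAdicFormallySmooth k (Localization.AtPrime n.asIdeal) (maximalIdeal (Localization.AtPrime n.asIdeal))} := by
  haveI hB : IsNoetherianRing (A ⧸ q) := inferInstance
  have hJ2 : EGA4.IsJ2 A := (GrothLib.GRingComplete.isExcellent_of_isAdicComplete A).2.2.2
  cases ‹ExpChar k p› with
  | zero =>
      suffices hset : {n : PrimeSpectrum (A ⧸ q) | CAlgX.IsAdicFormallySmooth k (Localization.AtPrime n.asIdeal)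
          (maximalIdeal (Localization.AtPrime n.asIdeal))} = EGA4.regLocus (A ⧸ q) by
        rw [hset]; exact hJ2 (A ⧸ q) inferInstance
      ext n
      haveI : IsNoetherianRing (Localization.AtPrime n.asIdeal) :=
        IsLocalization.isNoetherianRing n.asIdeal.primeCompl _ inferInstance
      exact Groth.Agent.S2035.result.symm
  | prime hp =>
      haveI := Fact.mk hp
      have hfin : Module.Finite (frobenius k p).fieldRange k := hk.resolve_left hp.ne_one
      have h1 : (algebraMap (frobenius k p).fieldRange k).Finite := RingHom.finite_algebraMap.2 hfin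
      have h2 : (frobenius k p).rangeRestrictField.Finite :=
        RingHom.Finite.of_surjective _ (frobenius k p).rangeRestrictField_bijective.2
      have h3 : (frobenius k p).Finite := h1.comp h2
      refine @isOpen_aux p _ k (A ⧸ q) _ _ _ _ hB _ k _ (frobenius k p).toAlgebra h3 (RingEquiv.refl k)
        (fun x => rfl) ?_
      intro S _ _ hS
      letI : Algebra A S := ((algebraMap (A ⧸ q) S).comp (Ideal.Quotient.mk q)).toAlgebra
      haveI : IsScalarTower A (A ⧸ q) S := IsScalarTower.of_algebraMap_eq fun x => rfl
      exact hJ2 S (Algebra.FiniteType.trans (S := A ⧸ q) inferInstance hS)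

end Groth.Agent.S4589
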