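import Groth.Statements.S4590
import Mathlib.RingTheory.Flat.FaithfullyFlat.Algebra
import Mathlib.RingTheory.Polynomial.ScaleRoots
import Mathlib.Algebra.Polynomial.Lifts
import Mathlib.Tactic.FieldSimp
import Mathlib.Tactic.Ring
-- import your own Groth.Agent.* helpers here

set_option autoImplicit false
universe u
open CAlg

namespace Groth.Agent.S4590

/-- Let A be a domain with fraction field K, B a faithfully flat A-algebra, C = B_red and R the total
ring of fractions of C. Then A → C is injective with nonzero elements going to non-zero-divisors, so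
that K embeds in R, and an element of K is integral over C in R if and only if it is integral over
A. -/
theorem result {A B : Type u} [CommRing A] [IsDomain A]
    [CommRing B] [Algebra A B] [Module.FaithfullyFlat A B] :
    Function.Injective (algebraMap A (B ⧸ nilradical B)) ∧
    (∀ a : A, a ≠ 0 → algebraMap A (B ⧸ nilradical B) a ∈ nonZeroDivisors (B ⧸ nilradical B)) ∧
    ∀ (R : Type u) [CommRing R] [Algebra (B ⧸ nilradical B) R] [IsFractionRing (B ⧸ nilradical B) R]
      [Algebra A R] [IsScalarTower A (B ⧸ nilradical B) R] [Algebra (FractionRing A) R]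
      [IsScalarTower A (FractionRing A) R] (x : FractionRing A),
      IsIntegral (B ⧸ nilradical B) (algebraMap (FractionRing A) R x) ↔ IsIntegral A x := by
  have hAB : Function.Injective (algebraMap A B) := FaithfulSMul.algebraMap_injective A B
  have hnil : ∀ a : A, IsNilpotent (algebraMap A B a) → a = 0 := fun a ha =>
    ((IsNilpotent.map_iff hAB).1 ha).eq_zero
  have hinj : Function.Injective (algebraMap A (B ⧸ nilradical B)) := by
    rw [injective_iff_map_eq_zero]
    intro a ha
    refine hnil a ?_
    rwa [← Ideal.Quotient.mk_algebraMap, Ideal.Quotient.eq_zero_iff_mem, mem_nilradical] at ha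
  have hnzd : ∀ a : A, a ≠ 0 →
      algebraMap A (B ⧸ nilradical B) a ∈ nonZeroDivisors (B ⧸ nilradical B) := by
    intro a ha
    rw [mem_nonZeroDivisors_iff_right]
    intro c hc
    obtain ⟨c, rfl⟩ := Ideal.Quotient.mk_surjective c
    rw [← Ideal.Quotient.mk_algebraMap, ← map_mul, Ideal.Quotient.eq_zero_iff_mem,
      mem_nilradical] at hc
    rw [Ideal.Quotient.eq_zero_iff_mem, mem_nilradical]
    obtain ⟨m, hm⟩ := hc
    refine ⟨m, ?_⟩
    rw [mul_pow, ← map_pow] at hm
    have hreg : IsSMulRegular B (a ^ m) := by
      have h0 : IsSMulRegular A (a ^ m) := fun u v h => by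
        simpa [pow_ne_zero m ha] using h
      have h1 := h0.of_flat (S := B)
      exact fun u v h => h1 (by simpa [Algebra.smul_def] using h)
    apply hreg
    simp only [smul_zero]
    rw [Algebra.smul_def, mul_comm]
    exact hm
  refine ⟨hinj, hnzd, ?_⟩
  intro R _ _ _ _ _ _ _ x
  constructor
  · intro hx
    obtain ⟨a, b, hb, rfl⟩ := IsFractionRing.div_surjective (A := A) x
    have hb0 : b ≠ 0 := nonZeroDivisors.ne_zero hb
    have hbK : algebraMap A (FractionRing A) b ≠ 0 := IsFractionRing.to_map_ne_zero_of_mem_nonZeroDivisors hb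
    obtain ⟨P, hPm, hP⟩ := hx
    -- homogenised equation in C
    have hr : algebraMap (B ⧸ nilradical B) R (algebraMap A _ b) *
        algebraMap (FractionRing A) R (algebraMap A (FractionRing A) a / algebraMap A (FractionRing A) b) =
        algebraMap (B ⧸ nilradical B) R (algebraMap A _ a) := by
      rw [← IsScalarTower.algebraMap_apply, ← IsScalarTower.algebraMap_apply,
        IsScalarTower.algebraMap_apply A (FractionRing A) R b,
        IsScalarTower.algebraMap_apply A (FractionRing A) R a, ← map_mul, mul_div_cancel₀ _ hbK]
    have h1 : (P.scaleRoots (algebraMap A _ b)).eval₂ (algebraMap (B ⧸ nilradical B) R)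
        (algebraMap (B ⧸ nilradical B) R (algebraMap A _ a)) = 0 := by
      rw [← hr]
      exact Polynomial.scaleRoots_eval₂_eq_zero _ hP
    rw [Polynomial.eval₂_at_apply, map_eq_zero_iff _ (IsFractionRing.injective (B ⧸ nilradical B) R)] at h1
    obtain ⟨q, hq, -, hqm⟩ := Polynomial.lifts_and_natDegree_eq_and_monic
      ((Polynomial.mem_lifts _).2 (Polynomial.map_surjective _ Ideal.Quotient.mk_surjective P)) hPm
    have h2 : Ideal.Quotient.mk (nilradical B)
        ((q.scaleRoots (algebraMap A B b)).eval (algebraMap A B a)) = 0 := by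
      rw [← Polynomial.eval_map_apply, Polynomial.map_scaleRoots _ _ _ (by
          rw [hqm.leadingCoeff]; simp only [map_one]
          intro h01
          exact one_ne_zero (α := A) (hinj (by simpa using h01))),
        hq, Ideal.Quotient.mk_algebraMap, Ideal.Quotient.mk_algebraMap]
      exact h1
    rw [Ideal.Quotient.eq_zero_iff_mem, mem_nilradical] at h2
    obtain ⟨m, hm⟩ := h2
    have hQ : ((q ^ m).scaleRoots (algebraMap A B b)).eval (algebraMap A B a) = 0 := by
      have hpow : ∀ m : ℕ, ((q ^ m).scaleRoots (algebraMap A B b)) =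
          (q.scaleRoots (algebraMap A B b)) ^ m := by
        intro m
        induction m with
        | zero => simp [Polynomial.one_scaleRoots]
        | succ m ih =>
          rw [pow_succ, pow_succ, ← ih, Polynomial.mul_scaleRoots']
          rw [(hqm.pow m).leadingCoeff, hqm.leadingCoeff, one_mul]
          intro h01
          exact one_ne_zero (α := A) (hAB (by simpa using h01))
      rw [hpow, Polynomial.eval_pow, hm]
    set Q := q ^ m with hQdef
    have hQm : Q.Monic := hqm.pow m
    set N := Q.natDegree with hN
    let t : Fin N → A := fun i => a ^ i.val * b ^ (N - i.val)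
    have hmem : a ^ N ∈ Ideal.span (Set.range t) := by
      rw [← Ideal.comap_map_eq_self_of_faithfullyFlat (B := B) (Ideal.span (Set.range t)),
        Ideal.mem_comap]
      have hev := hQ
      rw [Polynomial.eval_eq_sum_range, Polynomial.natDegree_scaleRoots, ← hN,
        Finset.sum_range_succ] at hev
      simp only [Polynomial.coeff_scaleRoots, ← hN, Nat.sub_self, pow_zero, mul_one] at hev
      rw [hN, hQm.coeff_natDegree, one_mul, ← hN] at hev
      rw [map_pow, eq_neg_of_add_eq_zero_right hev]
      refine neg_mem (Submodule.sum_mem _ (fun i hi => ?_))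
      have hlt : i < N := Finset.mem_range.1 hi
      have : algebraMap A B (t ⟨i, hlt⟩) ∈ (Ideal.span (Set.range t)).map (algebraMap A B) :=
        Ideal.mem_map_of_mem _ (Ideal.subset_span ⟨_, rfl⟩)
      have h := Ideal.mul_mem_left _ (Q.coeff i) this
      simp only [t, map_mul, map_pow] at h
      convert h using 1
      ring
    obtain ⟨d, hd⟩ := (Ideal.mem_span_range_iff_exists_fun).1 hmem
    refine ⟨Polynomial.X ^ N - ∑ i : Fin N, Polynomial.C (d i) * Polynomial.X ^ (i : ℕ), ?_, ?_⟩
    · refine Polynomial.monic_X_pow_sub ?_
      refine lt_of_le_of_lt (Polynomial.degree_sum_le _ _) ?_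
      refine (Finset.sup_lt_iff (WithBot.bot_lt_coe N)).2 (fun i _ => ?_)
      exact lt_of_le_of_lt (Polynomial.degree_C_mul_X_pow_le _ _) (WithBot.coe_lt_coe.2 i.isLt)
    · simp only [Polynomial.eval₂_sub, Polynomial.eval₂_X_pow, Polynomial.eval₂_finsetSum,
        Polynomial.eval₂_mul, Polynomial.eval₂_C]
      rw [sub_eq_zero, div_pow, div_eq_iff (pow_ne_zero _ hbK), Finset.sum_mul, ← map_pow, ← hd,
        map_sum]
      refine Finset.sum_congr rfl (fun i _ => ?_)
      have hpow : algebraMap A (FractionRing A) b ^ N =
          algebraMap A (FractionRing A) b ^ (i : ℕ) * algebraMap A (FractionRing A) b ^ (N - i) := by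
        rw [← pow_add, Nat.add_sub_cancel' i.isLt.le]
      simp only [t, map_mul, map_pow, div_pow, hpow]
      field_simp
  · intro hx
    exact (hx.map (IsScalarTower.toAlgHom A (FractionRing A) R)).tower_top

end Groth.Agent.S4590
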