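import Groth.Statements.S4593
import Mathlib.RingTheory.Spectrum.Prime.RingHom
import Mathlib.CategoryTheory.Limits.ConcreteCategory.Basic
import Mathlib.Algebra.Category.Ring.FilteredColimits

set_option autoImplicit false
universe u
open CategoryTheory CategoryTheory.Limits AlgebraicGeometry
open EGA41

namespace Groth.Agent.S4593

/-- Let B be a ring, (A_i) a filtered system of B-algebras with colimit A. The image of Spec A in Spec B
is the intersection of the images of the Spec A_i. -/
theorem result {I : Type u} [SmallCategory I] [IsFiltered I]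
    (B : CommRingCat.{u}) (D : I ⥤ CommRingCat.{u}) (s : (Functor.const I).obj B ⟶ D) (c : Cocone D)
    (hc : IsColimit c) (i₀ : I) :
    Set.range (Spec.map (s.app i₀ ≫ c.ι.app i₀)).base = ⋂ i : I, Set.range (Spec.map (s.app i)).base := by
  have hnat : ∀ {i j : I} (u : i ⟶ j) (b : B), D.map u (s.app i b) = s.app j b := fun {i j} u b => by
    have h := s.naturality u
    simp only [Functor.const_obj_obj, Functor.const_obj_map, Category.id_comp] at h
    exact (ConcreteCategory.congr_hom h b).symm
  have hcocone : ∀ {i j : I} (u : i ⟶ j), D.map u ≫ c.ι.app j = c.ι.app i := fun u => c.w u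
  have hcomp : ∀ i, s.app i ≫ c.ι.app i = s.app i₀ ≫ c.ι.app i₀ := fun i => by
    refine CommRingCat.hom_ext (RingHom.ext fun b => ?_)
    change c.ι.app i (s.app i b) = c.ι.app i₀ (s.app i₀ b)
    refine Concrete.isColimit_rep_eq_of_exists D _ _ ⟨IsFiltered.max i i₀, IsFiltered.leftToMax _ _,
      IsFiltered.rightToMax _ _, ?_⟩
    rw [hnat, hnat]
  refine subset_antisymm (Set.subset_iInter fun i => ?_) fun p hp => ?_
  · rw [← hcomp i, Spec.map_comp, Scheme.Hom.comp_base, TopCat.coe_comp]
    exact Set.range_comp_subset_range _ _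
  refine (PrimeSpectrum.mem_range_comap_iff _).2 (le_antisymm (fun b hb => ?_) Ideal.le_comap_map)
  let m : ∀ i : I, Ideal (D.obj i) := fun i => p.asIdeal.map (s.app i).hom
  have mv : ∀ {i j : I} (u : i ⟶ j) (a' : D.obj i), a' ∈ m i → D.map u a' ∈ m j := fun {i j} u a' ha' => by
    have e : (D.map u).hom.comp (s.app i).hom = (s.app j).hom := RingHom.ext (hnat u)
    have h2 := Ideal.mem_map_of_mem (D.map u).hom ha'
    rw [Ideal.map_map, e] at h2
    exact h2
  have key : ∀ a ∈ p.asIdeal.map (s.app i₀ ≫ c.ι.app i₀).hom, ∃ (i : I) (a' : D.obj i),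
      a' ∈ m i ∧ c.ι.app i a' = a := by
    have happ : ∀ {i j : I} (u : i ⟶ j) (a : D.obj i), c.ι.app j (D.map u a) = c.ι.app i a :=
      fun u a => ConcreteCategory.congr_hom (hcocone u) a
    intro a ha
    induction ha using Submodule.span_induction with
    | mem x hx =>
        obtain ⟨b, hb, rfl⟩ := hx
        exact ⟨i₀, s.app i₀ b, Ideal.mem_map_of_mem _ hb, rfl⟩
    | zero => exact ⟨i₀, 0, zero_mem _, map_zero _⟩
    | add x y _ _ hx hy =>
        obtain ⟨i, x', hx', rfl⟩ := hx
        obtain ⟨j, y', hy', rfl⟩ := hy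
        exact ⟨IsFiltered.max i j, D.map (IsFiltered.leftToMax i j) x' + D.map (IsFiltered.rightToMax i j) y',
          add_mem (mv _ _ hx') (mv _ _ hy'), by rw [map_add, happ, happ]⟩
    | smul r x _ hx =>
        obtain ⟨i, x', hx', rfl⟩ := hx
        obtain ⟨j, r', rfl⟩ := Concrete.isColimit_exists_rep D hc r
        exact ⟨IsFiltered.max i j, D.map (IsFiltered.rightToMax i j) r' * D.map (IsFiltered.leftToMax i j) x',
          Ideal.mul_mem_left _ _ (mv _ _ hx'), by rw [map_mul, happ, happ, smul_eq_mul]⟩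
  obtain ⟨i, a', ha', hai⟩ := key _ hb
  obtain ⟨k, u, v, huv⟩ := Concrete.isColimit_exists_of_rep_eq D hc (x := a') (y := s.app i₀ b) hai
  rw [hnat v b] at huv
  have hmem : s.app k b ∈ p.asIdeal.map (s.app k).hom := by
    rw [← huv]
    exact mv u a' ha'
  have hk := (PrimeSpectrum.mem_range_comap_iff _).1 (Set.mem_iInter.1 hp k)
  exact hk.le hmem

end Groth.Agent.S4593
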