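import Groth.Statements.S4594
import Groth.Agent.Lib.EGA41Diff.KerDiff
import Mathlib.RingTheory.Smooth.Basic

set_option autoImplicit false
universe u
open TensorProduct KaehlerDifferential
open EGA41

namespace Groth.Agent.S4594

/-- Let Λ be a ring, A → C a surjection of Λ-algebras with kernel J, C of characteristic p > 0, and π
the class of p·1 in J/J². If C is formally smooth over Λ/pΛ for the discrete topologies, then 0 →
(J/J²)/Cπ → Ω_{A/Λ} ⊗_A C → Ω_{C/Λ} → 0 is exact: the kernel of the conormal map J/J² → Ω_{A/Λ} ⊗_A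
C is the span of π, and the base-change map to Ω_{C/Λ} is surjective with kernel the image of J/J². -/
theorem result {Λ A C : Type u} [CommRing Λ] [CommRing A]
    [CommRing C] [Algebra Λ A] [Algebra A C] [Algebra Λ C] [IsScalarTower Λ A C]
    (hsurj : Function.Surjective (algebraMap A C)) (p : ℕ) [Fact p.Prime] [CharP C p]
    [Algebra (Λ ⧸ Ideal.span {(p : Λ)}) C] [IsScalarTower Λ (Λ ⧸ Ideal.span {(p : Λ)}) C]
    [Algebra.FormallySmooth (Λ ⧸ Ideal.span {(p : Λ)}) C]
    (hp : (p : A) ∈ RingHom.ker (algebraMap A C)) :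
    LinearMap.ker (kerCotangentToTensor Λ A C) =
        Submodule.span A {(RingHom.ker (algebraMap A C)).toCotangent ⟨(p : A), hp⟩} ∧
      LinearMap.range (kerCotangentToTensor Λ A C) = (LinearMap.ker (mapBaseChange Λ A C)).restrictScalars A ∧
      Function.Surjective (mapBaseChange Λ A C) := by
  classical
  refine ⟨le_antisymm ?_ ?_, KaehlerDifferential.range_kerCotangentToTensor Λ A C hsurj,
    KaehlerDifferential.mapBaseChange_surjective Λ A C hsurj⟩
  · intro z hz
    obtain ⟨⟨x, hxJ⟩, rfl⟩ := Ideal.toCotangent_surjective _ z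
    rw [LinearMap.mem_ker, KaehlerDifferential.kerCotangentToTensor_toCotangent] at hz
    set J := RingHom.ker (algebraMap A C)
    let Q₀ : Ideal A := J ^ 2 ⊔ Ideal.span {(p : A)}
    let B := A ⧸ Q₀
    have hQJ : Q₀ ≤ J := sup_le (Ideal.pow_le_self two_ne_zero)
      ((Ideal.span_singleton_le_iff_mem J).2 hp)
    have hpB : ∀ a ∈ Ideal.span {(p : Λ)}, algebraMap Λ B a = 0 := by
      intro a ha
      obtain ⟨w, rfl⟩ := Ideal.mem_span_singleton'.1 ha
      rw [map_mul, map_natCast, ← map_natCast (Ideal.Quotient.mk Q₀) p,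
        Ideal.Quotient.eq_zero_iff_mem.2 (Ideal.mem_sup_right (Ideal.mem_span_singleton_self _)),
        mul_zero]
    let _ : Algebra (Λ ⧸ Ideal.span {(p : Λ)}) B := (Ideal.Quotient.lift _ (algebraMap Λ B) hpB).toAlgebra
    have _ : IsScalarTower Λ (Λ ⧸ Ideal.span {(p : Λ)}) B := IsScalarTower.of_algebraMap_eq fun _ => rfl
    let g : B →ₐ[Λ ⧸ Ideal.span {(p : Λ)}] C :=
      { Ideal.Quotient.lift Q₀ (algebraMap A C) (fun a ha => hQJ ha) with
        commutes' := fun r => by
          obtain ⟨r, rfl⟩ := Ideal.Quotient.mk_surjective r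
          change algebraMap A C (algebraMap Λ A r) =
            algebraMap (Λ ⧸ Ideal.span {(p : Λ)}) C (algebraMap Λ (Λ ⧸ Ideal.span {(p : Λ)}) r)
          rw [← IsScalarTower.algebraMap_apply, ← IsScalarTower.algebraMap_apply] }
    have hgs : Function.Surjective g := fun c => by
      obtain ⟨a, rfl⟩ := hsurj c
      exact ⟨Ideal.Quotient.mk Q₀ a, rfl⟩
    let I : Ideal B := J.map (Ideal.Quotient.mk Q₀)
    have hI : I ^ 2 = ⊥ := by
      rw [← Ideal.map_pow, ← le_bot_iff, Ideal.map_le_iff_le_comap]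
      exact fun a ha => (Ideal.mem_bot).2 (Ideal.Quotient.eq_zero_iff_mem.2 (Ideal.mem_sup_left ha))
    have hker : ∀ b, g b = 0 → b ∈ I := fun b hb => by
      obtain ⟨a, rfl⟩ := Ideal.Quotient.mk_surjective b
      exact Ideal.mem_map_of_mem _ hb
    have hnil : IsNilpotent (RingHom.ker (g : B →+* C)) :=
      ⟨2, le_bot_iff.1 ((Ideal.pow_right_mono (fun b hb => hker b hb) 2).trans hI.le)⟩
    let σ := Algebra.FormallySmooth.liftOfSurjective (AlgHom.id (Λ ⧸ Ideal.span {(p : Λ)}) C) g hgs hnil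
    have hσ : ∀ c, g (σ c) = c := fun c =>
      Algebra.FormallySmooth.liftOfSurjective_apply (AlgHom.id _ C) g hgs hnil c
    have hx0 : algebraMap A B x = 0 := GrothLib.KerDiff.algebraMap_eq_zero hsurj I hI
      (σ.restrictScalars Λ) (fun a => hker _ (by
        rw [map_sub, AlgHom.restrictScalars_apply, hσ]
        exact sub_self _)) x hxJ hz
    obtain ⟨y, hy, w, hw, hyw⟩ := Submodule.mem_sup.1 (Ideal.Quotient.eq_zero_iff_mem.1 hx0)
    obtain ⟨a, rfl⟩ := Ideal.mem_span_singleton'.1 hw
    refine Submodule.mem_span_singleton.2 ⟨a, ?_⟩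
    rw [← map_smul, Ideal.toCotangent_eq]
    have : a * (p : A) - x = -y := by linear_combination hyw
    change a * (p : A) - x ∈ J ^ 2
    rw [this]
    exact neg_mem hy
  · rw [Submodule.span_singleton_le_iff_mem, LinearMap.mem_ker,
      KaehlerDifferential.kerCotangentToTensor_toCotangent, Derivation.map_natCast, tmul_zero]

end Groth.Agent.S4594
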