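import Groth.Statements.S4595
import Groth.Agent.Lib.EGA41Diff.CotPoly
import Groth.Agent.Lib.EGA41Diff.KerDiff
import Groth.Agent.Lib.SepField.Smooth
import Mathlib.FieldTheory.IsAlgClosed.AlgebraicClosure
import Mathlib.LinearAlgebra.Dimension.OrzechProperty

set_option autoImplicit false
universe u
open TensorProduct IsLocalRing
open EGA41

namespace Groth.Agent.S4595

section Aux

variable {A : Type u} [CommRing A] [IsLocalRing A]

section Setup

variable (p : ℕ) [hp : Fact p.Prime] [CharP A p] {r : ℕ} (f : Fin r → A)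

/-- The equations. -/
noncomputable abbrev eqns (i : Fin r) : MvPolynomial (Fin r) A :=
  MvPolynomial.X i ^ p - MvPolynomial.C (f i)

/-- The ideal of the equations. -/
noncomputable abbrev eqIdeal : Ideal (MvPolynomial (Fin r) A) := Ideal.span (Set.range (eqns p f))

theorem exists_pow_sub_mem (x : MvPolynomial (Fin r) A) :
    ∃ a, x ^ p - MvPolynomial.C a ∈ eqIdeal p f := by
  induction x using MvPolynomial.induction_on with
  | C a => exact ⟨a ^ p, by rw [map_pow, sub_self]; exact zero_mem _⟩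
  | add x y hx hy =>
    obtain ⟨a, ha⟩ := hx
    obtain ⟨b, hb⟩ := hy
    refine ⟨a + b, ?_⟩
    rw [add_pow_char, map_add, add_sub_add_comm]
    exact add_mem ha hb
  | mul_X x i hx =>
    obtain ⟨a, ha⟩ := hx
    refine ⟨a * f i, ?_⟩
    rw [mul_pow, map_mul, show x ^ p * MvPolynomial.X i ^ p - MvPolynomial.C a * MvPolynomial.C (f i) =
      (x ^ p - MvPolynomial.C a) * MvPolynomial.X i ^ p + MvPolynomial.C a * eqns p f i by
        simp only [eqns]; ring]
    exact add_mem (Ideal.mul_mem_right _ _ ha) (Ideal.mul_mem_left _ _ (Ideal.subset_span ⟨i, rfl⟩))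

theorem eqIdeal_ne_top : eqIdeal p f ≠ ⊤ := by
  let Ω := AlgebraicClosure (ResidueField A)
  let ι : A →+* Ω := (algebraMap (ResidueField A) Ω).comp (residue A)
  choose t ht using fun i => IsAlgClosed.exists_pow_nat_eq (ι (f i)) hp.out.pos
  intro h
  have h0 : eqIdeal p f ≤ RingHom.ker (MvPolynomial.eval₂Hom ι t) := Ideal.span_le.2 <| by
    rintro _ ⟨i, rfl⟩
    simp [eqns, ht]
  exact RingHom.ker_ne_top _ (top_le_iff.1 (h.symm.le.trans h0))

variable [IsArtinianRing A]

theorem comap_C_eq (M : Ideal (MvPolynomial (Fin r) A)) [M.IsPrime] :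
    M.comap MvPolynomial.C = maximalIdeal A :=
  have := Ideal.comap_isPrime (MvPolynomial.C : A →+* MvPolynomial (Fin r) A) M
  IsLocalRing.eq_maximalIdeal (IsArtinianRing.isMaximal_of_isPrime _)

theorem eq_of_eqIdeal_le {M N : Ideal (MvPolynomial (Fin r) A)} [M.IsPrime] [N.IsPrime]
    (hM : eqIdeal p f ≤ M) (hN : eqIdeal p f ≤ N) : M = N := by
  have key : ∀ (M : Ideal (MvPolynomial (Fin r) A)) [M.IsPrime], eqIdeal p f ≤ M →
      ∀ x a, x ^ p - MvPolynomial.C a ∈ eqIdeal p f → (x ∈ M ↔ a ∈ maximalIdeal A) := by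
    intro M _ hM x a ha
    rw [← comap_C_eq M, Ideal.mem_comap]
    refine ⟨fun hx => ?_, fun hc => ‹M.IsPrime›.mem_of_pow_mem p ?_⟩
    · have := M.sub_mem (M.pow_mem_of_mem hx p hp.out.pos) (hM ha)
      rwa [sub_sub_cancel] at this
    · simpa using M.add_mem (hM ha) hc
  ext x
  obtain ⟨a, ha⟩ := exists_pow_sub_mem p f x
  rw [key M hM x a ha, key N hN x a ha]

theorem isLocalRing_quotient : IsLocalRing (MvPolynomial (Fin r) A ⧸ eqIdeal p f) := by
  obtain ⟨n, hn, hle⟩ := Ideal.exists_le_maximal _ (eqIdeal_ne_top p f)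
  refine IsLocalRing.of_unique_max_ideal
    ⟨n.map (Ideal.Quotient.mk _), Ideal.IsMaximal.map_of_surjective_of_ker_le
      Ideal.Quotient.mk_surjective (by rwa [Ideal.mk_ker]), fun M hM => ?_⟩
  have := Ideal.comap_isMaximal_of_surjective (Ideal.Quotient.mk (eqIdeal p f))
    Ideal.Quotient.mk_surjective (K := M)
  rw [← eq_of_eqIdeal_le p f (M := M.comap (Ideal.Quotient.mk _))
    (by conv_lhs => rw [← Ideal.mk_ker (I := eqIdeal p f)]
        exact Ideal.comap_mono bot_le) hle]
  exact (Ideal.map_comap_of_surjective _ Ideal.Quotient.mk_surjective M).symm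

end Setup

variable [IsArtinianRing A] (p : ℕ) [hp : Fact p.Prime] [CharP A p] {r : ℕ} (f : Fin r → A)
  (n : Ideal (MvPolynomial (Fin r) A)) [n.IsMaximal] (hle : eqIdeal p f ≤ n)

include hle

/-- The classes of the equations in the cotangent space. -/
noncomputable abbrev eqClass (i : Fin r) : n.Cotangent :=
  n.toCotangent ⟨eqns p f i, hle (Ideal.subset_span ⟨i, rfl⟩)⟩

theorem sum_smul_eqClass_eq_zero_iff (c : Fin r → MvPolynomial (Fin r) A) :
    ∑ i, Ideal.Quotient.mk n (c i) • eqClass p f n hle i = 0 ↔ ∑ i, c i * eqns p f i ∈ n ^ 2 := by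
  have : ∑ i, Ideal.Quotient.mk n (c i) • eqClass p f n hle i =
      n.toCotangent (∑ i, c i • ⟨eqns p f i, hle (Ideal.subset_span ⟨i, rfl⟩)⟩) := by
    rw [map_sum]
    exact Finset.sum_congr rfl fun i _ => by
      rw [map_smul]
      exact IsScalarTower.algebraMap_smul (MvPolynomial (Fin r) A ⧸ n) (c i) (eqClass p f n hle i)
  rw [this, Ideal.toCotangent_eq_zero]
  simp

theorem finrank_cotangent_add :
    letI := isLocalRing_quotient p f
    Module.finrank (ResidueField (MvPolynomial (Fin r) A ⧸ eqIdeal p f))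
        (CotangentSpace (MvPolynomial (Fin r) A ⧸ eqIdeal p f)) +
      (Set.range (eqClass p f n hle)).finrank (MvPolynomial (Fin r) A ⧸ n) =
    Module.finrank (ResidueField A) (CotangentSpace A) + r := by
  classical
  let _ := isLocalRing_quotient p f
  let _ : Field (MvPolynomial (Fin r) A ⧸ n) := Ideal.Quotient.field n
  have : Module.Finite (MvPolynomial (Fin r) A) n.Cotangent :=
    Module.Finite.of_surjective n.toCotangent n.toCotangent_surjective
  have : Module.Finite (MvPolynomial (Fin r) A ⧸ n) n.Cotangent :=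
    Module.Finite.of_restrictScalars_finite (MvPolynomial (Fin r) A) _ _
  set π := Ideal.Quotient.mk (eqIdeal p f)
  set J := maximalIdeal (MvPolynomial (Fin r) A ⧸ eqIdeal p f)
  have hJn : J.comap π = n := by
    have := Ideal.comap_isMaximal_of_surjective π Ideal.Quotient.mk_surjective (K := J)
    refine eq_of_eqIdeal_le p f (fun x hx => ?_) hle
    rw [Ideal.mem_comap, Ideal.Quotient.eq_zero_iff_mem.2 hx]
    exact J.zero_mem
  let φ := GrothLib.CotPoly.cotMap π n J hJn.ge
  let W := Submodule.span (MvPolynomial (Fin r) A ⧸ n) (Set.range (eqClass p f n hle))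
  let i : MvPolynomial (Fin r) A ⧸ n → ResidueField (MvPolynomial (Fin r) A ⧸ eqIdeal p f) :=
    Ideal.quotientMap J π hJn.ge
  have hφsmul : ∀ l v, φ (l • v) = i l • φ v := by
    intro l v
    obtain ⟨c, rfl⟩ := Ideal.Quotient.mk_surjective l
    exact GrothLib.CotPoly.cotMap_smul π n J hJn.ge c v
  have hker : ∀ v, φ v = 0 ↔ v ∈ W := by
    intro v
    constructor
    · obtain ⟨⟨x, hx⟩, rfl⟩ := n.toCotangent_surjective v
      intro h
      have h' : π x ∈ J ^ 2 := (J.toCotangent_eq_zero _).1 h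
      rw [show J = n.map π by rw [← hJn, Ideal.map_comap_of_surjective π Ideal.Quotient.mk_surjective],
        ← Ideal.map_pow, ← Ideal.mem_comap,
        Ideal.comap_map_of_surjective' π Ideal.Quotient.mk_surjective, Ideal.mk_ker] at h'
      obtain ⟨y, hy, z, hz, hyz⟩ := Submodule.mem_sup.1 h'
      obtain ⟨c, hc⟩ := Submodule.mem_span_range_iff_exists_fun _ |>.1 hz
      have : n.toCotangent ⟨x, hx⟩ = ∑ j, Ideal.Quotient.mk n (c j) • eqClass p f n hle j := by
        have e : n.toCotangent ⟨x, hx⟩ =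
            n.toCotangent (∑ j, c j • ⟨eqns p f j, hle (Ideal.subset_span ⟨j, rfl⟩)⟩) := by
          rw [Ideal.toCotangent_eq]
          have : x - ∑ j, c j * eqns p f j = y := by
            simp only [smul_eq_mul] at hc
            rw [hc]; linear_combination -hyz
          simpa [this] using hy
        rw [e, map_sum]
        exact Finset.sum_congr rfl fun j _ => by
          rw [map_smul]
          exact (IsScalarTower.algebraMap_smul (MvPolynomial (Fin r) A ⧸ n) (c j) (eqClass p f n hle j)).symm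
      rw [this]
      exact sum_mem fun j _ => W.smul_mem _ (Submodule.subset_span ⟨j, rfl⟩)
    · intro hv
      induction hv using Submodule.span_induction with
      | mem v hv =>
        obtain ⟨j, rfl⟩ := hv
        refine (J.toCotangent_eq_zero _).2 ?_
        change π (eqns p f j) ∈ J ^ 2
        rw [Ideal.Quotient.eq_zero_iff_mem.2 (Ideal.subset_span (Set.mem_range_self j))]
        exact zero_mem _
      | zero => exact map_zero φ
      | add x y _ _ hx hy => rw [map_add, hx, hy, add_zero]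
      | smul l x _ hx => rw [hφsmul, hx, smul_zero]
  let j₀ : (n.Cotangent ⧸ W) →+ J.Cotangent :=
    QuotientAddGroup.lift W.toAddSubgroup φ (fun v hv => (hker v).2 hv)
  have hj₀ : ∀ v, j₀ (Submodule.Quotient.mk v) = φ v := fun _ => rfl
  have hbij : Function.Bijective j₀ := by
    refine ⟨(injective_iff_map_eq_zero j₀).2 fun x hx => ?_, fun x => ?_⟩
    · obtain ⟨v, rfl⟩ := Submodule.Quotient.mk_surjective W x
      exact (Submodule.Quotient.mk_eq_zero W).2 ((hker v).1 hx)
    · obtain ⟨⟨y, hy⟩, rfl⟩ := J.toCotangent_surjective x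
      obtain ⟨y, rfl⟩ := Ideal.Quotient.mk_surjective y
      exact ⟨Submodule.Quotient.mk (n.toCotangent ⟨y, hJn.le hy⟩), rfl⟩
  have hi : Function.Bijective i :=
    ⟨Ideal.quotientMap_injective' hJn.le, Ideal.quotientMap_surjective Ideal.Quotient.mk_surjective⟩
  have hrank : Module.finrank (MvPolynomial (Fin r) A ⧸ n) (n.Cotangent ⧸ W) =
      Module.finrank (ResidueField (MvPolynomial (Fin r) A ⧸ eqIdeal p f))
        (CotangentSpace (MvPolynomial (Fin r) A ⧸ eqIdeal p f)) :=
    congrArg Cardinal.toNat (rank_eq_of_equiv_equiv i (AddEquiv.ofBijective j₀ hbij) hi fun l x => by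
      obtain ⟨v, rfl⟩ := Submodule.Quotient.mk_surjective W x
      exact hφsmul l v)
  rw [← hrank, ← GrothLib.CotPoly.finrank_cotangent_mvPolynomial r n]
  exact W.finrank_quotient_add_finrank

theorem linearIndependent_of_eqClass
    (h : LinearIndependent (MvPolynomial (Fin r) A ⧸ n) (eqClass p f n hle)) :
    LinearIndependent (ResidueField A)
      fun i => (1 : ResidueField A) ⊗ₜ[A] KaehlerDifferential.D ℤ A (f i) := by
  classical
  let _ : Field (MvPolynomial (Fin r) A ⧸ n) := Ideal.Quotient.field n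
  rw [Fintype.linearIndependent_iff] at h ⊢
  intro c hc i
  choose a ha using fun i => residue_surjective (c i)
  have hpP : (p : MvPolynomial (Fin r) A) = 0 := CharP.cast_eq_zero _ p
  let Q := MvPolynomial (Fin r) A ⧸ n ^ 2
  let I : Ideal Q := n.map (Ideal.Quotient.mk (n ^ 2))
  have hI : I ^ 2 = ⊥ := by
    rw [← Ideal.map_pow, ← le_bot_iff, Ideal.map_le_iff_le_comap]
    exact fun a ha => Ideal.mem_bot.2 (Ideal.Quotient.eq_zero_iff_mem.2 ha)
  have : Nontrivial Q := Ideal.Quotient.nontrivial_iff.2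
    fun e => ‹n.IsMaximal›.ne_top (top_le_iff.1 (e.symm.le.trans (Ideal.pow_le_self two_ne_zero)))
  have : CharP Q p := (CharP.charP_iff_prime_eq_zero hp.out).2 (by
    rw [← map_natCast (Ideal.Quotient.mk (n ^ 2)), hpP, map_zero])
  have : CharP (MvPolynomial (Fin r) A ⧸ n) p := (CharP.charP_iff_prime_eq_zero hp.out).2 (by
    rw [← map_natCast (Ideal.Quotient.mk n), hpP, map_zero])
  let F := GrothLib.SepField.PrimeFld.{u} p
  have : CharP F p := charP_of_injective_ringHom
    (f := (ULift.ringEquiv.symm : ZMod p ≃+* F).toRingHom) ULift.ringEquiv.symm.injective p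
  have : PerfectRing F p := PerfectRing.ofFiniteOfIsReduced p _
  let _ : Algebra F (MvPolynomial (Fin r) A) :=
    ((ZMod.castHom (dvd_refl p) (MvPolynomial (Fin r) A)).comp ULift.ringEquiv.toRingHom).toAlgebra
  have : Algebra.FormallySmooth F (MvPolynomial (Fin r) A ⧸ n) :=
    GrothLib.SepField.formallySmooth_perfect p
  let g : Q →ₐ[F] MvPolynomial (Fin r) A ⧸ n :=
    Ideal.Quotient.liftₐ _ (Ideal.Quotient.mkₐ F n) fun x hx =>
      Ideal.Quotient.eq_zero_iff_mem.2 (Ideal.pow_le_self two_ne_zero hx)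
  have hg : Function.Surjective g := fun y => by
    obtain ⟨y, rfl⟩ := Ideal.Quotient.mk_surjective y
    exact ⟨Ideal.Quotient.mk _ y, rfl⟩
  have hker : ∀ x, g x = 0 → x ∈ I := fun x hx => by
    obtain ⟨x, rfl⟩ := Ideal.Quotient.mk_surjective x
    exact Ideal.mem_map_of_mem _ (Ideal.Quotient.eq_zero_iff_mem.1 hx)
  have hkerle : RingHom.ker g.toRingHom ≤ I := fun x hx => hker x hx
  have hnil : IsNilpotent (RingHom.ker g.toRingHom) := by
    refine ⟨2, ?_⟩
    rw [Ideal.zero_eq_bot, ← le_bot_iff, ← hI]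
    exact Ideal.pow_right_mono hkerle 2
  obtain ⟨σ, hσ0⟩ : ∃ σ : (MvPolynomial (Fin r) A ⧸ n) →ₐ[F] Q, ∀ y, g (σ y) = y :=
    ⟨Algebra.FormallySmooth.liftOfSurjective (AlgHom.id F (MvPolynomial (Fin r) A ⧸ n)) g hg hnil,
      Algebra.FormallySmooth.liftOfSurjective_apply (AlgHom.id F (MvPolynomial (Fin r) A ⧸ n)) g hg hnil⟩
  have hσ : ∀ y, σ (Ideal.Quotient.mk n y) - Ideal.Quotient.mk (n ^ 2) y ∈ I := fun y => hker _ (by
    rw [map_sub, hσ0]
    exact sub_self _)
  let fA : A →ₐ[ℤ] Q := ((σ : _ →+* Q).comp ((Ideal.Quotient.mk n).comp MvPolynomial.C)).toIntAlgHom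
  have key := GrothLib.KerDiff.sum_mul_sub_eq_zero (C := ResidueField A) residue_surjective I hI fA
    (fun x => hσ (MvPolynomial.C x))
    (fun x hx => Ideal.mem_map_of_mem _ (by
      rw [MvPolynomial.algebraMap_eq, ← Ideal.mem_comap, comap_C_eq]
      exact (residue_eq_zero_iff x).1 hx))
    Finset.univ a f (by
      refine Eq.trans (Finset.sum_congr rfl fun i _ => ?_) hc
      rw [← ha, ResidueField.algebraMap_eq])
  have hsum : ∑ j, MvPolynomial.C (a j) * eqns p f j ∈ n ^ 2 := by
    rw [← Ideal.Quotient.eq_zero_iff_mem, map_sum, ← key]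
    refine Finset.sum_congr rfl fun j _ => ?_
    rw [map_mul]
    congr 1
    have h1 : σ (Ideal.Quotient.mk n (MvPolynomial.X j)) ^ p =
        Ideal.Quotient.mk (n ^ 2) (MvPolynomial.X j) ^ p := by
      rw [← sub_eq_zero, ← sub_pow_char, ← Ideal.mem_bot, ← hI]
      exact Ideal.pow_le_pow_right hp.out.two_le (Ideal.pow_mem_pow (hσ _) p)
    have h2 : σ (Ideal.Quotient.mk n (MvPolynomial.X j)) ^ p =
        σ (Ideal.Quotient.mk n (MvPolynomial.C (f j))) := by
      rw [← map_pow, ← map_pow]
      exact congrArg σ (Ideal.Quotient.eq.2 (hle (Ideal.subset_span ⟨j, rfl⟩)))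
    change Ideal.Quotient.mk _ (eqns p f j) = σ (Ideal.Quotient.mk n (MvPolynomial.C (f j))) -
      Ideal.Quotient.mk (n ^ 2) (MvPolynomial.C (f j))
    rw [← h2, h1, map_sub, map_pow]
  have := h (fun j => Ideal.Quotient.mk n (MvPolynomial.C (a j)))
    ((sum_smul_eqClass_eq_zero_iff p f n hle _).2 hsum) i
  rw [Ideal.Quotient.eq_zero_iff_mem, ← Ideal.mem_comap, comap_C_eq] at this
  rw [← ha, residue_eq_zero_iff]
  exact this

theorem eqClass_of_linearIndependent
    (h : LinearIndependent (ResidueField A)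
      fun i => (1 : ResidueField A) ⊗ₜ[A] KaehlerDifferential.D ℤ A (f i)) :
    LinearIndependent (MvPolynomial (Fin r) A ⧸ n) (eqClass p f n hle) := by
  classical
  let _ : Field (MvPolynomial (Fin r) A ⧸ n) := Ideal.Quotient.field n
  obtain ⟨ρ, hρ⟩ := LinearMap.exists_leftInverse_of_injective
    (Finsupp.linearCombination (ResidueField A)
      fun i => (1 : ResidueField A) ⊗ₜ[A] KaehlerDifferential.D ℤ A (f i))
    (linearIndependent_iff_ker.1 h)
  rw [Fintype.linearIndependent_iff]
  intro c hc k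
  choose b hb using fun i => Ideal.Quotient.mk_surjective (c i)
  simp only [← hb] at hc
  rw [sum_smul_eqClass_eq_zero_iff] at hc
  let κ : ResidueField A →+* (MvPolynomial (Fin r) A ⧸ n) := Ideal.Quotient.lift _ ((Ideal.Quotient.mk n).comp MvPolynomial.C)
    fun x hx => Ideal.Quotient.eq_zero_iff_mem.2 (by rwa [← comap_C_eq n] at hx)
  let δ : A → ResidueField A := fun x => ρ ((1 : ResidueField A) ⊗ₜ[A] KaehlerDifferential.D ℤ A x) k
  have hδadd : ∀ x y, δ (x + y) = δ x + δ y := fun x y => by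
    simp only [δ, map_add, tmul_add, Finsupp.add_apply]
  have hδmul : ∀ x y, δ (x * y) = residue A x * δ y + residue A y * δ x := fun x y => by
    simp only [δ, Derivation.leibniz, tmul_add, tmul_smul, ← IsScalarTower.algebraMap_smul
      (ResidueField A) x ((1 : ResidueField A) ⊗ₜ[A] KaehlerDifferential.D ℤ A y),
      ← IsScalarTower.algebraMap_smul (ResidueField A) y
        ((1 : ResidueField A) ⊗ₜ[A] KaehlerDifferential.D ℤ A x), map_add, map_smul, Finsupp.add_apply,
      Finsupp.smul_apply, smul_eq_mul, ResidueField.algebraMap_eq]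
  have hδ1 : δ 1 = 0 := by simp [δ]
  have hδ0 : δ 0 = 0 := by simp [δ]
  let ψ : A →+* TrivSqZeroExt (MvPolynomial (Fin r) A ⧸ n) (MvPolynomial (Fin r) A ⧸ n) :=
    { toFun := fun x => TrivSqZeroExt.inl (κ (residue A x)) + TrivSqZeroExt.inr (κ (δ x))
      map_one' := by simp [hδ1]
      map_zero' := by simp [hδ0]
      map_add' := fun x y => by
        refine TrivSqZeroExt.ext ?_ ?_ <;> simp [hδadd]
      map_mul' := fun x y => by
        refine TrivSqZeroExt.ext ?_ ?_ <;> simp [hδmul, mul_comm (κ (residue A y))] }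
  let Ψ := MvPolynomial.eval₂Hom ψ
    fun i => (TrivSqZeroExt.inl (Ideal.Quotient.mk n (MvPolynomial.X i)) : TrivSqZeroExt (MvPolynomial (Fin r) A ⧸ n) (MvPolynomial (Fin r) A ⧸ n))
  have hfst : ∀ x, (Ψ x).fst = Ideal.Quotient.mk n x := by
    suffices e : (TrivSqZeroExt.fstHom (MvPolynomial (Fin r) A ⧸ n) (MvPolynomial (Fin r) A ⧸ n) (MvPolynomial (Fin r) A ⧸ n)).toRingHom.comp Ψ = Ideal.Quotient.mk n from
      fun x => congrFun (congrArg DFunLike.coe e) x
    refine MvPolynomial.ringHom_ext (fun x => ?_) fun i => ?_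
    · simp [Ψ, ψ, κ]; rfl
    · simp [Ψ]
  have hn2 : ∀ x ∈ n ^ 2, (Ψ x).snd = 0 := by
    intro x hx
    rw [sq] at hx
    induction hx using Submodule.mul_induction_on' with
    | mem_mul_mem x hx y hy =>
      rw [map_mul, TrivSqZeroExt.snd_mul, hfst, hfst, Ideal.Quotient.eq_zero_iff_mem.2 hx,
        Ideal.Quotient.eq_zero_iff_mem.2 hy]
      simp
    | add x _ y _ hx hy => rw [map_add, TrivSqZeroExt.snd_add, hx, hy, add_zero]
  have hg : ∀ i, (Ψ (eqns p f i)).snd = -(if i = k then 1 else 0) := by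
    intro i
    have e : δ (f i) = if i = k then 1 else 0 := by
      have := LinearMap.congr_fun hρ (Finsupp.single i (1 : ResidueField A))
      simp only [LinearMap.comp_apply, Finsupp.linearCombination_single, one_smul, LinearMap.id_apply] at this
      simp only [δ, this, Finsupp.single_apply]
    rw [map_sub, map_pow, TrivSqZeroExt.snd_sub]
    simp only [Ψ, MvPolynomial.eval₂Hom_X', MvPolynomial.eval₂Hom_C, ← TrivSqZeroExt.inl_pow,
      TrivSqZeroExt.snd_inl, zero_sub]
    simp [ψ, e, apply_ite κ]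
  have h0 := hn2 _ hc
  rw [map_sum, TrivSqZeroExt.snd_sum, Finset.sum_eq_single k] at h0
  · rw [map_mul, TrivSqZeroExt.snd_mul, hfst, hfst,
      Ideal.Quotient.eq_zero_iff_mem.2 (hle (Ideal.subset_span ⟨k, rfl⟩)), hg, if_pos rfl] at h0
    simpa [hb] using h0
  · intro i _ hik
    rw [map_mul, TrivSqZeroExt.snd_mul, hfst, hfst,
      Ideal.Quotient.eq_zero_iff_mem.2 (hle (Ideal.subset_span ⟨i, rfl⟩)), hg, if_neg hik]
    simp
  · intro hk
    exact absurd (Finset.mem_univ k) hk
end Aux

/-- Let A be an Artinian local ring of characteristic p > 0 with maximal ideal m of square zero and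
residue field K, f_1, …, f_r ∈ A, and B = A[T_1, …, T_r]/(T_1^p − f_1, …, T_r^p − f_r). Then B is
local, and dim_K m = dim_{K'}(m'/m'²) (m', K' the maximal ideal and residue field of B) if and only
if the d f_i ⊗ 1 are linearly independent in Ω_A ⊗_A K. -/
theorem result {A : Type u} [CommRing A]
    [IsArtinianRing A] [IsLocalRing A] (hm : maximalIdeal A ^ 2 = ⊥) (p : ℕ) [Fact p.Prime] [CharP A p]
    {r : ℕ} (f : Fin r → A) :
    let B := MvPolynomial (Fin r) A ⧸ Ideal.span (Set.range fun i => MvPolynomial.X i ^ p - MvPolynomial.C (f i))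
    ∃ _ : IsLocalRing B,
      (Module.finrank (ResidueField A) (CotangentSpace A) = Module.finrank (ResidueField B) (CotangentSpace B) ↔
        LinearIndependent (ResidueField A) (fun i => (1 : ResidueField A) ⊗ₜ[A] KaehlerDifferential.D ℤ A (f i))) := by
  dsimp only
  obtain ⟨n, hn, hle⟩ := Ideal.exists_le_maximal _ (eqIdeal_ne_top p f)
  refine ⟨isLocalRing_quotient p f, ?_⟩
  let _ : Field (MvPolynomial (Fin r) A ⧸ n) := Ideal.Quotient.field n
  have h := finrank_cotangent_add p f n hle
  have hiff : LinearIndependent (ResidueField A)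
      (fun i => (1 : ResidueField A) ⊗ₜ[A] KaehlerDifferential.D ℤ A (f i)) ↔
      r = (Set.range (eqClass p f n hle)).finrank (MvPolynomial (Fin r) A ⧸ n) := by
    have := linearIndependent_iff_card_eq_finrank_span
      (R := MvPolynomial (Fin r) A ⧸ n) (b := eqClass p f n hle)
    rw [Fintype.card_fin] at this
    rw [← this]
    exact ⟨eqClass_of_linearIndependent p f n hle, linearIndependent_of_eqClass p f n hle⟩
  rw [hiff]
  have hle' := finrank_range_le_card (R := MvPolynomial (Fin r) A ⧸ n) (eqClass p f n hle)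
  rw [Fintype.card_fin] at hle'
  have key : ∀ a b c : ℕ, b + c = a + r → c ≤ r → (a = b ↔ r = c) := fun a b c _ _ =>
    ⟨fun _ => by omega, fun _ => by omega⟩
  exact key _ _ _ h hle'

end Groth.Agent.S4595
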