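import Groth.Statements.S4596
import Groth.Agent.Lib.Thickening.Morphisms

set_option autoImplicit false
universe u
open AlgebraicGeometry CategoryTheory
open EGA41

namespace Groth.Agent.S4596

/-- If g ∘ f is quasi-compact and f is surjective then g is quasi-compact. -/
theorem result {X Y Z : Scheme.{u}} (f : X ⟶ Y) (g : Y ⟶ Z)
    [QuasiCompact (f ≫ g)] [Surjective f] : QuasiCompact g := by
  exact GrothLib.Thickening.quasiCompact_of_comp_surjective f g

end Groth.Agent.S4596
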