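import Groth.Statements.S4597
import Groth.Agent.Lib.Thickening.Morphisms

set_option autoImplicit false
universe u
open AlgebraicGeometry CategoryTheory CategoryTheory.Limits
open EGA41

namespace Groth.Agent.S4597

/-- Let f : X → Y, g : Y' → Y and f' : X ×_Y Y' → Y' the base change. If g is quasi-compact surjective
and f' quasi-compact, f is quasi-compact; if g is surjective and f' dominant, f is dominant. -/
theorem result {X Y Y' : Scheme.{u}} (f : X ⟶ Y)
    (g : Y' ⟶ Y) [Surjective g] :
    (QuasiCompact g → QuasiCompact (pullback.snd f g) → QuasiCompact f) ∧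
    (IsDominant (pullback.snd f g) → IsDominant f) := by
  haveI : Surjective (pullback.fst f g) := MorphismProperty.pullback_fst (P := @Surjective) f g ‹_›
  refine ⟨fun hg hs => ?_, fun hd => ⟨?_⟩⟩
  · haveI := hg
    haveI := hs
    haveI : QuasiCompact (pullback.fst f g ≫ f) := by rw [pullback.condition]; infer_instance
    exact GrothLib.Thickening.quasiCompact_of_comp_surjective (pullback.fst f g) f
  · have h1 : DenseRange (⇑g.base ∘ ⇑(pullback.snd f g).base) :=
      g.surjective.denseRange.comp hd.denseRange g.continuous
    refine h1.mono ?_
    rintro _ ⟨x, rfl⟩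
    refine ⟨(pullback.fst f g).base x, ?_⟩
    have := congrArg (fun h => h.base x) (pullback.condition (f := f) (g := g))
    exact this

end Groth.Agent.S4597
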