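import Groth.Statements.S4598
import Groth.Agent.Lib.Thickening.Morphisms

set_option autoImplicit false
universe u
open AlgebraicGeometry CategoryTheory CategoryTheory.Limits
open EGA41

namespace Groth.Agent.S4598

/-- Quasi-compactness descends along quasi-compact surjections. -/
theorem descendsAlong_quasiCompact_surjective :
    MorphismProperty.DescendsAlong @QuasiCompact (@Surjective ⊓ @QuasiCompact : MorphismProperty Scheme.{u}) := by
  refine ⟨fun {A X Y Z} fst snd f g h hf hfst => ?_⟩
  haveI : Surjective f := hf.1
  haveI : QuasiCompact f := hf.2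
  haveI : Surjective snd := MorphismProperty.of_isPullback (P := @Surjective) h hf.1
  haveI : QuasiCompact fst := hfst
  haveI : QuasiCompact (snd ≫ g) := by rw [← h.w]; infer_instance
  exact GrothLib.Thickening.quasiCompact_of_comp_surjective snd g

/-- If g : Y' → Y is quasi-compact and surjective and the base change X ×_Y Y' → Y' of f : X → Y is
quasi-separated, then f is quasi-separated. -/
theorem result {X Y Y' : Scheme.{u}} (f : X ⟶ Y)
    (g : Y' ⟶ Y) [QuasiCompact g] [Surjective g] [QuasiSeparated (pullback.snd f g)] :
    QuasiSeparated f := by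
  have hqs : MorphismProperty.DescendsAlong @QuasiSeparated (@Surjective ⊓ @QuasiCompact : MorphismProperty Scheme.{u}) := by
    rw [quasiSeparated_eq_diagonal_is_quasiCompact]
    haveI := descendsAlong_quasiCompact_surjective.{u}
    infer_instance
  exact MorphismProperty.of_pullback_snd_of_descendsAlong (P := @QuasiSeparated)
    (Q := (@Surjective ⊓ @QuasiCompact : MorphismProperty Scheme.{u})) (f := f) (g := g) ⟨‹_›, ‹_›⟩ ‹_›

end Groth.Agent.S4598
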