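import Groth.Statements.S4601
import Mathlib.LinearAlgebra.Basis.VectorSpace
import Mathlib.RingTheory.Flat.Localization
import Mathlib.RingTheory.Flat.Stability


set_option autoImplicit false
universe u
open TensorProduct
open CAlg

namespace Groth.Agent.S4601

theorem inj_left {A M N B : Type*} [CommRing A] [CommRing M] [CommRing N] [CommRing B]
    [Algebra A M] [Algebra A N] [Algebra A B] [Module.Flat A B] (f : M →ₐ[A] N)
    (hf : Function.Injective f) :
    Function.Injective (Algebra.TensorProduct.map f (AlgHom.id A B)) := by
  have : (⇑(Algebra.TensorProduct.map f (AlgHom.id A B))) = ⇑(f.toLinearMap.rTensor B) := by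
    ext x
    induction x using TensorProduct.induction_on with
    | zero => simp
    | tmul a b => simp
    | add x y hx hy => simp [map_add, hx, hy]
  rw [this]
  exact Module.Flat.rTensor_preserves_injective_linearMap f.toLinearMap hf

theorem inj_right {A N C D : Type*} [CommRing A] [CommRing N] [CommRing C] [CommRing D]
    [Algebra A N] [Algebra A C] [Algebra A D] [Module.Flat A N] (f : C →ₐ[A] D)
    (hf : Function.Injective f) :
    Function.Injective (Algebra.TensorProduct.map (AlgHom.id A N) f) := by
  have : (⇑(Algebra.TensorProduct.map (AlgHom.id A N) f)) = ⇑(f.toLinearMap.lTensor N) := by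
    ext x
    induction x using TensorProduct.induction_on with
    | zero => simp
    | tmul a b => simp
    | add x y hx hy => simp [map_add, hx, hy]
  rw [this]
  exact Module.Flat.lTensor_preserves_injective_linearMap f.toLinearMap hf

theorem nil_ker {A N C D : Type*} [CommRing A] [CommRing N] [CommRing C] [CommRing D]
    [Algebra A N] [Algebra A C] [Algebra A D] (g : C →ₐ[A] D) (hg : Function.Surjective g)
    (hker : RingHom.ker g ≤ nilradical C) (z : N ⊗[A] C)
    (hz : IsNilpotent (Algebra.TensorProduct.map (AlgHom.id A N) g z)) : IsNilpotent z := by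
  obtain ⟨n, hn⟩ := hz
  have h1 : z ^ n ∈ RingHom.ker (Algebra.TensorProduct.map (AlgHom.id A N) g) := by
    rw [RingHom.mem_ker, map_pow, hn]
  rw [Algebra.TensorProduct.lTensor_ker _ hg] at h1
  have h2 : (RingHom.ker g).map (Algebra.TensorProduct.includeRight : C →ₐ[A] N ⊗[A] C) ≤
      nilradical (N ⊗[A] C) := by
    rw [Ideal.map_le_iff_le_comap]
    intro c hc
    exact (mem_nilradical.1 (hker hc)).map (Algebra.TensorProduct.includeRight : C →ₐ[A] N ⊗[A] C)
  exact IsNilpotent.of_pow (h2 h1)



/-- Let A be a domain with fraction field K, B a Noetherian A-algebra which is flat over A, K' an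
extension field of K, B₁ = B_red and R its total ring of fractions. For every sub-A-algebra A' of
K', the map (A' ⊗_A B)_red → (K' ⊗_A R)_red is injective, i.e. an element of A' ⊗_A B with nilpotent
image in K' ⊗_A R is nilpotent. -/
theorem result {A B K' R : Type u} [CommRing A]
    [IsDomain A] [CommRing B] [Algebra A B] [IsNoetherianRing B] [Module.Flat A B]
    [Field K'] [Algebra A K'] [Algebra (FractionRing A) K'] [IsScalarTower A (FractionRing A) K']
    [CommRing R] [Algebra (B ⧸ nilradical B) R] [IsFractionRing (B ⧸ nilradical B) R]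
    [Algebra B R] [IsScalarTower B (B ⧸ nilradical B) R] [Algebra A R] [IsScalarTower A B R]
    (A' : Subalgebra A K') (x : ↥A' ⊗[A] B)
    (hx : IsNilpotent (Algebra.TensorProduct.map A'.val (IsScalarTower.toAlgHom A B R) x)) :
    IsNilpotent x := by
  haveI : Module.Flat A (FractionRing A) := IsLocalization.flat _ (nonZeroDivisors A)
  haveI : Module.Flat A K' := Module.Flat.trans A (FractionRing A) K'
  haveI : IsScalarTower A (B ⧸ nilradical B) R := IsScalarTower.of_algebraMap_eq fun a => by
    rw [IsScalarTower.algebraMap_apply A B R, IsScalarTower.algebraMap_apply B (B ⧸ nilradical B) R,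
      ← IsScalarTower.algebraMap_apply A B (B ⧸ nilradical B)]
  refine (IsNilpotent.map_iff (inj_left A'.val Subtype.val_injective)).1 ?_
  refine nil_ker (IsScalarTower.toAlgHom A B (B ⧸ nilradical B)) Ideal.Quotient.mk_surjective
    (fun b hb => Ideal.Quotient.eq_zero_iff_mem.1 hb) _ ?_
  refine (IsNilpotent.map_iff (inj_right (IsScalarTower.toAlgHom A (B ⧸ nilradical B) R)
    (IsFractionRing.injective (B ⧸ nilradical B) R))).1 ?_
  suffices heq : ∀ y : ↥A' ⊗[A] B,
      Algebra.TensorProduct.map (AlgHom.id A K') (IsScalarTower.toAlgHom A (B ⧸ nilradical B) R)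
        (Algebra.TensorProduct.map (AlgHom.id A K') (IsScalarTower.toAlgHom A B (B ⧸ nilradical B))
          (Algebra.TensorProduct.map A'.val (AlgHom.id A B) y)) =
      Algebra.TensorProduct.map A'.val (IsScalarTower.toAlgHom A B R) y by
    rw [heq]; exact hx
  clear hx x
  intro x
  induction x using TensorProduct.induction_on with
  | zero => simp
  | tmul a b =>
      simp only [Algebra.TensorProduct.map_tmul, AlgHom.coe_id, id_eq, IsScalarTower.coe_toAlgHom',
        ← IsScalarTower.algebraMap_apply B (B ⧸ nilradical B) R]
  | add x y hx hy => simp only [map_add, hx, hy]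

end Groth.Agent.S4601
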