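import Groth.Statements.S4602
import Groth.Agent.S4583

set_option autoImplicit false
universe u
open IsLocalRing
open EGA41

namespace Groth.Agent.S4602

/-- Let A be a regular local ring with fraction field of characteristic zero, B a domain containing A
and module-finite over it, with fraction field L, n a prime of B, C = B_n, q a prime of the
completion Ĉ with q ∩ C = 0. Then Ĉ_q is formally smooth over L for the adic topology of its maximal
ideal. (Case (ii) of the published statement, in characteristic p with a suitable filtered family of
subrings, is not stated.) -/
theorem result
    {A B : Type u} [CommRing A] [IsRegularLocalRing A] [CharZero A] [CommRing B] [IsDomain B] [Algebra A B]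
    [Module.Finite A B] (hinj : Function.Injective (algebraMap A B)) (n : Ideal B) [n.IsPrime]
    (q : Ideal (AdicCompletion (maximalIdeal (Localization.AtPrime n)) (Localization.AtPrime n))) [q.IsPrime]
    (hq : q.comap (algebraMap (Localization.AtPrime n)
      (AdicCompletion (maximalIdeal (Localization.AtPrime n)) (Localization.AtPrime n))) = ⊥)
    [Algebra B (Localization.AtPrime q)]
    [IsScalarTower B (AdicCompletion (maximalIdeal (Localization.AtPrime n)) (Localization.AtPrime n))
      (Localization.AtPrime q)]
    [Algebra (FractionRing B) (Localization.AtPrime q)] [IsScalarTower B (FractionRing B) (Localization.AtPrime q)] :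
    CAlgX.IsAdicFormallySmooth (FractionRing B) (Localization.AtPrime q) (maximalIdeal (Localization.AtPrime q)) := by
  haveI : IsDomain A := hinj.isDomain
  haveI : IsRegularRing A := GrothLib.Serre.isRegularRing_of_isRegularLocalRing A
  haveI : FaithfulSMul A B := (faithfulSMul_iff_algebraMap_injective _ _).2 hinj
  haveI : IsNoetherianRing B := IsNoetherianRing.of_finite A B
  haveI : IsNoetherianRing (Localization.AtPrime n) := IsLocalization.isNoetherianRing n.primeCompl _ inferInstance
  exact Groth.Agent.S4583.adicFormallySmooth_of_fibres q fun L _ _ _ _ _ =>
    GrothLib.GRingComplete.isRegularRing_tensor_of_goodBase (GrothLib.GRingComplete.goodBase_charZero A) n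
      (FractionRing B) L

end Groth.Agent.S4602
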