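import Groth.Statements.S4603
import Groth.Agent.Lib.LocNoeth.Scheme
import Mathlib.Tactic.TFAE

set_option autoImplicit false
universe u
open AlgebraicGeometry CategoryTheory
open EGA41

namespace Groth.Agent.S4603

/-- Let f : X → Y be quasi-compact. The following are equivalent: f is dominant; the fibre of f over
every maximal point of Y (a point with no proper generization, i.e. the generic point of an
irreducible component) is nonempty; every maximal point of Y is the image of a maximal point of X. -/
theorem result {X Y : Scheme.{u}} (f : X ⟶ Y) [QuasiCompact f] :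
    [IsDominant f,
     ∀ y : Y, (∀ y' : Y, y' ⤳ y → y' = y) → y ∈ Set.range f.base,
     ∀ y : Y, (∀ y' : Y, y' ⤳ y → y' = y) → ∃ x : X, (∀ x' : X, x' ⤳ x → x' = x) ∧ f.base x = y].TFAE := by
  have hmax : ∀ y : Y, (∀ y' : Y, y' ⤳ y → y' = y) → closure {y} ∈ irreducibleComponents (Y : Type u) := by
    intro y hy
    obtain ⟨η, hη, hηy⟩ := GrothLib.LocNoeth.exists_maximal_specializes y
    rwa [← hy η hηy]
  tfae_have 1 → 2 := fun h y hy =>
    GrothLib.LocNoeth.mem_range_of_maximal f (hmax y hy) (by
      rw [f.denseRange.closure_range]; exact Set.mem_univ y)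
  tfae_have 2 → 3 := fun h y hy => by
    obtain ⟨x, hx⟩ := h y hy
    obtain ⟨η, hη, hηx⟩ := GrothLib.LocNoeth.exists_maximal_specializes x
    refine ⟨η, fun x' hx' => ?_, ?_⟩
    · have h1 : closure ({η} : Set X) ⊆ closure {x'} := hx'.closure_subset
      exact (hx'.antisymm (specializes_iff_closure_subset.2 (hη.2 isIrreducible_singleton.closure h1))).eq
    · exact hy _ (hx ▸ hηx.map f.continuous)
  tfae_have 3 → 1 := fun h => by
    rw [isDominant_iff, denseRange_iff_closure_range, ← Set.univ_subset_iff]
    intro y _
    obtain ⟨η, hη, hηy⟩ := GrothLib.LocNoeth.exists_maximal_specializes y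
    obtain ⟨x, -, hx⟩ := h η fun y' hy' =>
      (hy'.antisymm (specializes_iff_closure_subset.2 (hη.2 isIrreducible_singleton.closure hy'.closure_subset))).eq
    exact closure_mono (show ({η} : Set Y) ⊆ Set.range f from Set.singleton_subset_iff.2 ⟨x, hx⟩) (specializes_iff_mem_closure.1 hηy)
  tfae_finish

end Groth.Agent.S4603
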