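import Groth.Statements.S4604
import Mathlib

set_option autoImplicit false
universe u
open IsLocalRing
open EGA41

namespace Groth.Agent.S4604

/-- (i) and the kernel statement of (ii): let A be a local ring with maximal ideal m of square zero,
F_i(T_i) = T_i^{d_i} + Σ_{k<d_i} c_{ik} T_i^k (1 ≤ i ≤ r) monic of degrees d_i ≥ 2 with non-leading
coefficients in m, and A' = A[T_1, …, T_r]/(F_1, …, F_r). Then A' is local with residue field K, and
the kernel of m → m'/m'² (m' the maximal ideal of A') is the ideal generated by the constant terms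
c_{i0}. -/
theorem result {A : Type u} [CommRing A] [IsLocalRing A]
    (hm : maximalIdeal A ^ 2 = ⊥) {r : ℕ} (d : Fin r → ℕ) (hd : ∀ i, 2 ≤ d i) (c : Fin r → ℕ → A)
    (hc : ∀ i k, c i k ∈ maximalIdeal A) :
    let F : Fin r → MvPolynomial (Fin r) A := fun i =>
      MvPolynomial.X i ^ d i + (Finset.range (d i)).sum fun k => MvPolynomial.C (c i k) * MvPolynomial.X i ^ k
    ∃ _ : IsLocalRing (MvPolynomial (Fin r) A ⧸ Ideal.span (Set.range F)),
      Function.Surjective ((Ideal.Quotient.mk (maximalIdeal (MvPolynomial (Fin r) A ⧸ Ideal.span (Set.range F)))).comp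
        (algebraMap A (MvPolynomial (Fin r) A ⧸ Ideal.span (Set.range F)))) ∧
      maximalIdeal A ⊓ Ideal.comap (algebraMap A (MvPolynomial (Fin r) A ⧸ Ideal.span (Set.range F)))
          (maximalIdeal (MvPolynomial (Fin r) A ⧸ Ideal.span (Set.range F)) ^ 2) =
        Ideal.span (Set.range fun i => c i 0) := by
  classical
  intro F
  let P := MvPolynomial (Fin r) A
  let I : Ideal P := Ideal.span (Set.range F)
  let B := P ⧸ I
  let T : Fin r → B := fun i => Ideal.Quotient.mk I (MvPolynomial.X i)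
  let ι : A →+* B := algebraMap A B
  let M : Ideal B := (maximalIdeal A).map ι ⊔ Ideal.span (Set.range T)
  have hrel : ∀ i, T i ^ d i + (Finset.range (d i)).sum (fun k => ι (c i k) * T i ^ k) = 0 := fun i => by
    have h : Ideal.Quotient.mk I (F i) = 0 :=
      Ideal.Quotient.eq_zero_iff_mem.2 (Ideal.subset_span ⟨i, rfl⟩)
    rw [map_add, map_pow, map_sum] at h
    simp only [map_mul, map_pow] at h
    exact h
  -- the retraction to `A ⧸ (c i 0)`
  let n₀ : Ideal A := Ideal.span (Set.range fun i => c i 0)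
  have hn₀ : n₀ ≤ maximalIdeal A := Ideal.span_le.2 (by rintro _ ⟨i, rfl⟩; exact hc i 0)
  let ψ : P →+* A ⧸ n₀ := (Ideal.Quotient.mk n₀).comp MvPolynomial.constantCoeff
  have hψC : ∀ a, ψ (MvPolynomial.C a) = Ideal.Quotient.mk n₀ a := fun a =>
    congrArg (Ideal.Quotient.mk n₀) (MvPolynomial.constantCoeff_C _ a)
  have hψX : ∀ i, ψ (MvPolynomial.X i) = 0 := fun i =>
    (congrArg (Ideal.Quotient.mk n₀) (MvPolynomial.constantCoeff_X _ i)).trans (map_zero _)
  let φ : B →+* A ⧸ n₀ := Ideal.Quotient.lift I ψ (fun a ha => by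
    have hle : I ≤ RingHom.ker ψ := by
      rw [Ideal.span_le]
      rintro _ ⟨i, rfl⟩
      have h0 : d i ≠ 0 := by have := hd i; omega
      rw [SetLike.mem_coe, RingHom.mem_ker, map_add, map_sum, map_pow]
      simp only [map_mul, map_pow, hψC, hψX, zero_pow h0, zero_add]
      rw [Finset.sum_eq_single_of_mem 0 (Finset.mem_range.2 (Nat.pos_of_ne_zero h0))]
      · rw [pow_zero, mul_one]
        exact Ideal.Quotient.eq_zero_iff_mem.2 (Ideal.subset_span ⟨i, rfl⟩)
      · intro k _ hk
        rw [zero_pow hk, mul_zero]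
    exact hle ha)
  have hφι : ∀ a, φ (ι a) = Ideal.Quotient.mk n₀ a := fun a => by
    show φ (Ideal.Quotient.mk I (MvPolynomial.C a)) = _
    rw [Ideal.Quotient.lift_mk]
    exact hψC a
  have hφT : ∀ i, φ (T i) = 0 := fun i => by
    rw [Ideal.Quotient.lift_mk]
    exact hψX i
  have hφM : M.map φ ≤ (maximalIdeal A).map (Ideal.Quotient.mk n₀) := by
    rw [Ideal.map_sup, Ideal.map_map, Ideal.map_span]
    refine sup_le ?_ (Ideal.span_le.2 ?_)
    · rw [show φ.comp ι = Ideal.Quotient.mk n₀ from RingHom.ext hφι]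
    · rintro _ ⟨_, ⟨i, rfl⟩, rfl⟩
      rw [hφT]
      exact Submodule.zero_mem _
  have hsq : ∀ a : A, ι a ∈ M ^ 2 → a ∈ n₀ := fun a ha => by
    have h : φ (ι a) ∈ (M ^ 2).map φ := Ideal.mem_map_of_mem φ ha
    rw [Ideal.map_pow] at h
    have h' := Ideal.pow_right_mono hφM 2 h
    rw [← Ideal.map_pow, hm, Ideal.map_bot, Ideal.mem_bot, hφι] at h'
    exact Ideal.Quotient.eq_zero_iff_mem.1 h'
  -- `M` is nil
  have hnil : M ≤ nilradical B := by
    refine sup_le ?_ (Ideal.span_le.2 ?_)
    · rw [Ideal.map_le_iff_le_comap]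
      intro a ha
      have h0 : a ^ 2 = 0 := by
        have := Ideal.pow_mem_pow ha 2
        rwa [hm, Ideal.mem_bot] at this
      exact mem_nilradical.2 ⟨2, by rw [← map_pow, h0, map_zero]⟩
    · rintro _ ⟨i, rfl⟩
      have h2 : IsNilpotent (T i ^ d i) := by
        rw [show T i ^ d i = -(Finset.range (d i)).sum (fun k => ι (c i k) * T i ^ k) from
          eq_neg_of_add_eq_zero_left (hrel i)]
        refine IsNilpotent.neg (mem_nilradical.1 (Submodule.sum_mem _ fun k _ => Ideal.mul_mem_right _ _ ?_))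
        refine mem_nilradical.2 ⟨2, ?_⟩
        have := Ideal.pow_mem_pow (hc i k) 2
        rw [hm, Ideal.mem_bot] at this
        rw [← map_pow, this, map_zero]
      exact mem_nilradical.2 (h2.of_pow)
  have hdec : ∀ b : B, ∃ a : A, b - ι a ∈ M := by
    intro b
    obtain ⟨p, rfl⟩ := Ideal.Quotient.mk_surjective b
    induction p using MvPolynomial.induction_on with
    | C a => exact ⟨a, by rw [show Ideal.Quotient.mk I (MvPolynomial.C a) = ι a from rfl, sub_self]; exact zero_mem _⟩
    | add p q hp hq =>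
      obtain ⟨a, hp⟩ := hp
      obtain ⟨a', hq⟩ := hq
      exact ⟨a + a', by rw [map_add, map_add, add_sub_add_comm]; exact add_mem hp hq⟩
    | mul_X p i _ =>
      exact ⟨0, by
        rw [map_zero, sub_zero, map_mul]
        exact Ideal.mul_mem_left _ _ (le_sup_right (α := Ideal B) (Ideal.subset_span ⟨i, rfl⟩))⟩
  have : Nontrivial (A ⧸ n₀) := Ideal.Quotient.nontrivial_iff.2
    (fun e => (maximalIdeal.isMaximal A).ne_top (top_le_iff.1 (e ▸ hn₀)))
  have : Nontrivial B := φ.domain_nontrivial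
  have hunit : ∀ b : B, b ∉ M → IsUnit b := fun b hb => by
    obtain ⟨a, ha⟩ := hdec b
    have hau : IsUnit a := by
      by_contra h
      refine hb ?_
      have := add_mem ha (le_sup_left (α := Ideal B) (Ideal.mem_map_of_mem ι h))
      rwa [sub_add_cancel] at this
    rw [← add_sub_cancel (ι a) b]
    exact (mem_nilradical.1 (hnil ha)).isUnit_add_left_of_commute (hau.map ι) (Commute.all _ _)
  have hloc : IsLocalRing B := IsLocalRing.of_nonunits_add fun a b ha hb hab => by
    have h1 : a ∈ M := by_contra fun h => ha (hunit a h)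
    have h2 : b ∈ M := by_contra fun h => hb (hunit b h)
    exact (mem_nilradical.1 (hnil (add_mem h1 h2))).not_isUnit hab
  refine ⟨hloc, ?_, ?_⟩
  · intro x
    obtain ⟨b, rfl⟩ := Ideal.Quotient.mk_surjective x
    obtain ⟨a, ha⟩ := hdec b
    refine ⟨a, (Ideal.Quotient.eq.2 ?_).symm⟩
    exact fun hu => (mem_nilradical.1 (hnil ha)).not_isUnit hu
  · have hM : maximalIdeal B = M := le_antisymm (fun b hb => by_contra fun h => hb (hunit b h))
      (fun b hb hu => (mem_nilradical.1 (hnil hb)).not_isUnit hu)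
    rw [show maximalIdeal (MvPolynomial (Fin r) A ⧸ Ideal.span (Set.range F)) = M from hM]
    refine le_antisymm (fun a ha => hsq a ha.2) (Ideal.span_le.2 ?_)
    rintro _ ⟨i, rfl⟩
    refine ⟨hc i 0, ?_⟩
    show ι (c i 0) ∈ M ^ 2
    have h0 : d i ≠ 0 := by have := hd i; omega
    have hT : T i ∈ M := le_sup_right (α := Ideal B) (Ideal.subset_span ⟨i, rfl⟩)
    have h := hrel i
    rw [← Finset.add_sum_erase _ _ (Finset.mem_range.2 (Nat.pos_of_ne_zero h0)), pow_zero, mul_one] at h
    rw [show ι (c i 0) = -(T i ^ d i) - ((Finset.range (d i)).erase 0).sum (fun k => ι (c i k) * T i ^ k) by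
      linear_combination h]
    refine sub_mem (neg_mem (Ideal.pow_le_pow_right (hd i) (Ideal.pow_mem_pow hT _)))
      (Submodule.sum_mem _ fun k hk => ?_)
    rw [sq]
    exact Ideal.mul_mem_mul (le_sup_left (α := Ideal B) (Ideal.mem_map_of_mem ι (hc i k)))
      (Ideal.pow_mem_of_mem _ hT k (Nat.pos_of_ne_zero (Finset.ne_of_mem_erase hk)))

end Groth.Agent.S4604
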