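import Groth.Statements.S4605
import Mathlib

set_option autoImplicit false
universe u
open IsLocalRing
open EGA41

namespace Groth.Agent.S4605

/-- An algebra over the residue field generated by `p`-th roots of `p`-independent elements is a field. -/
theorem isUnit_of_ne_zero {A : Type u} [CommRing A] [IsLocalRing A] (p : ℕ) [Fact p.Prime] [CharP (ResidueField A) p]
    {ι : Type u} [Finite ι] (f : ι → A)
    (hind : LinearIndependent (↥(frobenius (ResidueField A) p).fieldRange)
      (fun e : {e : ι →₀ ℕ // ∀ i, e i < p} => EGA41.pMonomial (fun i => residue A (f i)) e.1))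
    {C : Type u} [CommRing C] [Algebra A C] [CharP C p] (T : ι → C) (hT : ∀ i, T i ^ p = algebraMap A C (f i))
    (hker : ∀ a ∈ maximalIdeal A, algebraMap A C a = 0) (hgen : Algebra.adjoin A (Set.range T) = ⊤)
    (z : C) (hz : z ≠ 0) : IsUnit z := by
  classical
  have hp : p.Prime := Fact.out
  let Box := {e : ι →₀ ℕ // ∀ i, e i < p}
  let mon : (ι →₀ ℕ) → C := EGA41.pMonomial T
  have hmon0 : mon 0 = 1 := Finsupp.prod_zero_index
  have hmon : ∀ e e' : ι →₀ ℕ, mon (e + e') = mon e * mon e' := fun e e' =>
    Finsupp.prod_add_index' (fun _ => pow_zero _) (fun _ _ _ => pow_add _ _ _)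
  have hmon1 : ∀ i n, mon (Finsupp.single i n) = T i ^ n := fun i n => Finsupp.prod_single_index (pow_zero _)
  let Q : Submodule A C := Submodule.span A (Set.range fun e : Box => mon e.1)
  have hQmul : ∀ i, ∀ x ∈ Q, x * T i ∈ Q := fun i x hx => by
    induction hx using Submodule.span_induction with
    | mem x hx =>
      obtain ⟨e, rfl⟩ := hx
      show mon e.1 * T i ∈ Q
      by_cases he : e.1 i + 1 < p
      · refine Submodule.subset_span ⟨⟨e.1 + Finsupp.single i 1, fun j => ?_⟩, ?_⟩
        · rw [Finsupp.add_apply, Finsupp.single_apply]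
          split_ifs with h
          · exact h ▸ he
          · simpa using e.2 j
        · show mon (e.1 + Finsupp.single i 1) = _
          rw [hmon, hmon1, pow_one]
      · have he' : e.1 i + 1 = p := by have := e.2 i; omega
        have h1 : mon e.1 * T i = (f i) • mon (e.1.erase i) := by
          conv_lhs => rw [← Finsupp.erase_add_single i e.1, hmon, hmon1, mul_assoc, ← pow_succ, he', hT]
          rw [Algebra.smul_def, mul_comm]
        rw [h1]
        refine Q.smul_mem _ (Submodule.subset_span ⟨⟨e.1.erase i, fun j => ?_⟩, rfl⟩)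
        rw [Finsupp.erase_apply]
        split_ifs
        · exact hp.pos
        · exact e.2 j
    | zero => rw [zero_mul]; exact Q.zero_mem
    | add x y _ _ hx hy => rw [add_mul]; exact Q.add_mem hx hy
    | smul a x _ hx => rw [smul_mul_assoc]; exact Q.smul_mem a hx
  have h1Q : (1 : C) ∈ Q := Submodule.subset_span ⟨⟨0, fun _ => hp.pos⟩, hmon0⟩
  have hQ : ∀ y ∈ Algebra.adjoin A (Set.range T), ∀ x ∈ Q, x * y ∈ Q := fun y hy => by
    induction hy using Algebra.adjoin_induction with
    | mem y hy => obtain ⟨i, rfl⟩ := hy; exact hQmul i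
    | algebraMap r => intro x hx; rw [mul_comm, ← Algebra.smul_def]; exact Q.smul_mem r hx
    | add a b _ _ ha hb => intro x hx; rw [mul_add]; exact Q.add_mem (ha x hx) (hb x hx)
    | mul a b _ _ ha hb => intro x hx; rw [← mul_assoc]; exact hb _ (ha x hx)
  haveI := Fintype.ofFinite ι
  haveI : Finite Box := Finite.of_injective (fun e : Box => fun i : ι => (⟨e.1 i, e.2 i⟩ : Fin p))
    (fun e e' h => Subtype.ext (Finsupp.ext fun i => congrArg Fin.val (congrFun h i)))
  haveI := Fintype.ofFinite Box
  have hzQ : z ∈ Q := by simpa using hQ z (hgen ▸ Algebra.mem_top) 1 h1Q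
  obtain ⟨a, ha⟩ := (Submodule.mem_span_range_iff_exists_fun A).1 hzQ
  let x : A := ∑ e : Box, a e ^ p * EGA41.pMonomial f e.1
  have hmonp : ∀ e : ι →₀ ℕ, mon e ^ p = algebraMap A C (EGA41.pMonomial f e) := fun e => by
    simp only [mon, EGA41.pMonomial, Finsupp.prod, map_prod, map_pow, ← Finset.prod_pow]
    exact Finset.prod_congr rfl fun i _ => by rw [← hT, ← pow_mul, ← pow_mul, mul_comm]
  haveI : ExpChar C p := ExpChar.prime hp
  have hzp : z ^ p = algebraMap A C x := by
    rw [← ha, sum_pow_char p, map_sum]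
    exact Finset.sum_congr rfl fun e _ => by rw [Algebra.smul_def, mul_pow, hmonp, map_mul, map_pow]
  have hx : IsUnit x := by
    by_contra hx
    refine hz ?_
    have hres : residue A x = 0 := (residue_eq_zero_iff _).2 hx
    have hsum : ∑ e : Box, ((frobenius (ResidueField A) p).rangeRestrictField (residue A (a e))) •
        EGA41.pMonomial (fun i => residue A (f i)) e.1 = 0 := by
      rw [← hres, map_sum]
      refine Finset.sum_congr rfl fun e _ => ?_
      rw [map_mul, map_pow]
      simp only [EGA41.pMonomial, Finsupp.prod, map_prod, map_pow]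
      rfl
    have h0 := (Fintype.linearIndependent_iff).1 hind _ hsum
    refine ha.symm.trans (Finset.sum_eq_zero fun e _ => ?_)
    have he : residue A (a e) = 0 := (frobenius (ResidueField A) p).injective (by
      rw [map_zero]; exact congrArg Subtype.val (h0 e))
    rw [Algebra.smul_def, hker _ ((residue_eq_zero_iff _).1 he), zero_mul]
  exact (isUnit_pow_iff hp.ne_zero).1 (hzp ▸ hx.map (algebraMap A C))

/-- Let A be a local ring with maximal ideal m of square zero and residue field K of characteristic p >
0, F_i(T_i) = T_i^p + p Σ_{k=1}^{p-1} c_{ik} T_i^{p-k} − f_i (i in a finite index set) with c_{ik},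
f_i ∈ A, and suppose the residues of the f_i in K are p-independent over K^p. Then A' = A[T_i]/(F_i)
is local with maximal ideal m A'. (The identification of the residue field with K(a_i^{1/p}) is not
restated.) -/
theorem result {A : Type u} [CommRing A]
    [IsLocalRing A] (hm : maximalIdeal A ^ 2 = ⊥) (p : ℕ) [Fact p.Prime] [CharP (ResidueField A) p]
    {ι : Type u} [Finite ι] (c : ι → Fin p → A) (f : ι → A)
    (hind : LinearIndependent (↥(frobenius (ResidueField A) p).fieldRange)
      (fun e : {e : ι →₀ ℕ // ∀ i, e i < p} => EGA41.pMonomial (fun i => residue A (f i)) e.1)) :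
    let F : ι → MvPolynomial ι A := fun i =>
      MvPolynomial.X i ^ p + (p : MvPolynomial ι A) * (Finset.univ.sum fun j : Fin p =>
        if (j : ℕ) = 0 then 0 else MvPolynomial.C (c i j) * MvPolynomial.X i ^ (p - (j : ℕ))) - MvPolynomial.C (f i)
    ∃ _ : IsLocalRing (MvPolynomial ι A ⧸ Ideal.span (Set.range F)),
      maximalIdeal (MvPolynomial ι A ⧸ Ideal.span (Set.range F)) =
        (maximalIdeal A).map (algebraMap A (MvPolynomial ι A ⧸ Ideal.span (Set.range F))) := by
  classical
  intro F
  have hp : p.Prime := Fact.out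
  haveI := Fintype.ofFinite ι
  let P := MvPolynomial ι A
  let I : Ideal P := Ideal.span (Set.range F)
  let B := P ⧸ I
  let T : ι → B := fun i => Ideal.Quotient.mk I (MvPolynomial.X i)
  let κ : A →+* B := algebraMap A B
  let K := ResidueField A
  let N : Ideal B := (maximalIdeal A).map κ
  have hpA : (p : A) ∈ maximalIdeal A := (residue_eq_zero_iff _).1 (by rw [map_natCast, CharP.cast_eq_zero])
  -- a point
  let Ω := AlgebraicClosure K
  let g : A →+* Ω := (algebraMap K Ω).comp (residue A)
  choose α hα using fun i => IsAlgClosed.exists_pow_nat_eq (g (f i)) hp.pos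
  haveI : CharP Ω p := charP_of_injective_algebraMap (algebraMap K Ω).injective p
  let φ : B →+* Ω := Ideal.Quotient.lift I (MvPolynomial.eval₂Hom g α) (fun a ha =>
    (Ideal.span_le.2 (by
      rintro _ ⟨i, rfl⟩
      have hX : MvPolynomial.eval₂Hom g α (MvPolynomial.X i) = α i := MvPolynomial.eval₂_X g α i
      have hC : MvPolynomial.eval₂Hom g α (MvPolynomial.C (f i)) = g (f i) := MvPolynomial.eval₂_C g α (f i)
      simp only [F, SetLike.mem_coe, RingHom.mem_ker, map_add, map_sub, map_mul, map_pow, map_natCast,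
        CharP.cast_eq_zero, zero_mul, add_zero, hX, hC, hα, sub_self]) :
      I ≤ RingHom.ker (MvPolynomial.eval₂Hom g α)) ha)
  haveI : Nontrivial B := φ.domain_nontrivial
  have hN2 : N ^ 2 = ⊥ := by rw [← Ideal.map_pow, hm, Ideal.map_bot]
  have hNnil : ∀ x ∈ N, IsNilpotent x := fun x hx => ⟨2, (Ideal.mem_bot).1 (hN2 ▸ Ideal.pow_mem_pow hx 2)⟩
  let π := Ideal.Quotient.mk N
  have hπp : (p : B ⧸ N) = 0 := by
    rw [← map_natCast π, Ideal.Quotient.eq_zero_iff_mem, ← map_natCast κ]
    exact Ideal.mem_map_of_mem κ hpA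
  haveI : Nontrivial (B ⧸ N) := Ideal.Quotient.nontrivial_iff.2 fun h => by
    have := hNnil 1 (h ▸ Submodule.mem_top)
    exact this.not_isUnit isUnit_one
  haveI : CharP (B ⧸ N) p := (CharP.charP_iff_prime_eq_zero (R := B ⧸ N) hp).2 hπp
  have hTp : ∀ i, π (T i) ^ p = π (κ (f i)) := fun i => by
    have h : Ideal.Quotient.mk I (F i) = 0 :=
      Ideal.Quotient.eq_zero_iff_mem.2 (Ideal.subset_span ⟨i, rfl⟩)
    have h' := congrArg π h
    simp only [F, map_add, map_sub, map_mul, map_pow, map_natCast, map_zero, sub_eq_zero] at h'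
    rw [hπp] at h'
    refine Eq.trans ?_ h'
    simp only [T]
    ring
  have hunit : ∀ b : B, b ∉ N → IsUnit b := fun b hb => by
    have hgen : Algebra.adjoin A (Set.range fun i => π (T i)) = ⊤ := by
      refine eq_top_iff.2 fun z _ => ?_
      obtain ⟨y, rfl⟩ := Ideal.Quotient.mk_surjective z
      obtain ⟨q, rfl⟩ := Ideal.Quotient.mk_surjective y
      induction q using MvPolynomial.induction_on with
      | C a => exact Subalgebra.algebraMap_mem _ a
      | add q q' hq hq' => rw [map_add, map_add]; exact add_mem (hq trivial) (hq' trivial)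
      | mul_X q i hq => rw [map_mul, map_mul]; exact mul_mem (hq trivial) (Algebra.subset_adjoin ⟨i, rfl⟩)
    obtain ⟨u, hu⟩ := isUnit_of_ne_zero p f hind (C := B ⧸ N) (fun i => π (T i)) hTp
      (fun a ha => Ideal.Quotient.eq_zero_iff_mem.2 (Ideal.mem_map_of_mem κ ha)) hgen (π b)
      (fun h => hb (Ideal.Quotient.eq_zero_iff_mem.1 h))
    obtain ⟨v, hv⟩ := Ideal.Quotient.mk_surjective (↑u⁻¹ : B ⧸ N)
    have h2 : b * v - 1 ∈ N := Ideal.Quotient.eq.1 (by
      rw [map_mul, map_one, hv]
      show π b * _ = 1
      rw [← hu]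
      exact u.mul_inv)
    have h3 : IsUnit (b * v) := by
      rw [← add_sub_cancel 1 (b * v)]
      exact (hNnil _ h2).isUnit_one_add
    exact isUnit_of_mul_isUnit_left h3
  have hloc : IsLocalRing B := IsLocalRing.of_nonunits_add fun a b ha hb hab => by
    have h1 : a ∈ N := by_contra fun h => ha (hunit a h)
    have h2 : b ∈ N := by_contra fun h => hb (hunit b h)
    exact (hNnil _ (add_mem h1 h2)).not_isUnit hab
  exact ⟨hloc, le_antisymm (fun b hb => by_contra fun h => hb (hunit b h))
    (fun b hb hu => (hNnil b hb).not_isUnit hu)⟩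

end Groth.Agent.S4605
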