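import Groth.Statements.S4607
import Mathlib.AlgebraicGeometry.Pullbacks
import Mathlib.AlgebraicGeometry.PullbackCarrier

set_option autoImplicit false
universe u
open TensorProduct
open EGA41

open AlgebraicGeometry CategoryTheory CategoryTheory.Limits

namespace Groth.Agent.S4607

/-- First assertion, case of two factors: for A-algebras A' and A'' the image of Spec(A' ⊗_A A'') in
Spec A is the intersection of the images of Spec A' and Spec A''. -/
theorem result {A A' A'' : Type u} [CommRing A] [CommRing A'] [CommRing A'']
    [Algebra A A'] [Algebra A A''] :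
    Set.range (PrimeSpectrum.comap (algebraMap A (A' ⊗[A] A''))) =
      Set.range (PrimeSpectrum.comap (algebraMap A A')) ∩ Set.range (PrimeSpectrum.comap (algebraMap A A'')) := by
  have h1 : Set.range (PrimeSpectrum.comap (algebraMap A (A' ⊗[A] A''))) =
      Set.range ⇑(pullback.fst (Spec.map (CommRingCat.ofHom (algebraMap A A')))
        (Spec.map (CommRingCat.ofHom (algebraMap A A''))) ≫
          Spec.map (CommRingCat.ofHom (algebraMap A A'))) := by
    rw [← pullbackSpecIso_hom_fst, Category.assoc, Scheme.Hom.comp_base, TopCat.coe_comp,
      Set.range_comp, Set.range_eq_univ.2 (pullbackSpecIso A A' A'').hom.surjective,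
      Set.image_univ, ← Spec.map_comp, ← CommRingCat.ofHom_comp]
    rfl
  rw [h1, Scheme.Pullback.range_fst_comp]
  rfl

end Groth.Agent.S4607
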