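import Groth.Statements.S4608
import Mathlib

set_option autoImplicit false
universe u
open AlgebraicGeometry CategoryTheory CategoryTheory.Limits
open EGA41

namespace Groth.Agent.S4608

open CategoryTheory CategoryTheory.Limits AlgebraicGeometry in
/-- Compact sets meet the summands in compact sets. -/
theorem isCompact_preimage_inl_inr {X Y : Scheme.{u}} {K : Set ↥(X ⨿ Y : Scheme.{u})} (hK : IsCompact K) :
    IsCompact ((coprod.inl : X ⟶ X ⨿ Y).base ⁻¹' K) ∧ IsCompact ((coprod.inr : Y ⟶ X ⨿ Y).base ⁻¹' K) := by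
  have h := isCompl_range_inl_inr X Y
  refine ⟨?_, ?_⟩
  · refine (coprod.inl : X ⟶ X ⨿ Y).isOpenEmbedding.isInducing.isCompact_preimage' (hK.inter_right (t := Set.range (coprod.inl : X ⟶ X ⨿ Y).base) ?_) Set.inter_subset_right |> fun h => by rwa [Set.preimage_inter, Set.preimage_range, Set.inter_univ] at h
    rw [← isOpen_compl_iff, h.compl_eq]
    exact (coprod.inr : Y ⟶ X ⨿ Y).isOpenEmbedding.isOpen_range
  · refine (coprod.inr : Y ⟶ X ⨿ Y).isOpenEmbedding.isInducing.isCompact_preimage' (hK.inter_right (t := Set.range (coprod.inr : Y ⟶ X ⨿ Y).base) ?_) Set.inter_subset_right |> fun h => by rwa [Set.preimage_inter, Set.preimage_range, Set.inter_univ] at h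
    rw [← isOpen_compl_iff, h.symm.compl_eq]
    exact (coprod.inl : X ⟶ X ⨿ Y).isOpenEmbedding.isOpen_range

open CategoryTheory CategoryTheory.Limits AlgebraicGeometry in
/-- A subset of a coproduct is the union of its parts in the summands. -/
theorem eq_image_union {X Y : Scheme.{u}} (K : Set ↥(X ⨿ Y : Scheme.{u})) :
    K = (coprod.inl : X ⟶ X ⨿ Y).base '' ((coprod.inl : X ⟶ X ⨿ Y).base ⁻¹' K) ∪
      (coprod.inr : Y ⟶ X ⨿ Y).base '' ((coprod.inr : Y ⟶ X ⨿ Y).base ⁻¹' K) := by
  rw [Set.image_preimage_eq_inter_range, Set.image_preimage_eq_inter_range, ← Set.inter_union_distrib_left,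
    show Set.range (coprod.inl : X ⟶ X ⨿ Y).base ∪ Set.range (coprod.inr : Y ⟶ X ⨿ Y).base = Set.univ from
      (isCompl_range_inl_inr X Y).sup_eq_top, Set.inter_univ]

/-- A morphism from a disjoint union X' ⨿ X'' → Y is quasi-compact if and only if its two components
are. -/
theorem result {X' X'' Y : Scheme.{u}} (f' : X' ⟶ Y) (f'' : X'' ⟶ Y) :
    QuasiCompact (coprod.desc f' f'') ↔ QuasiCompact f' ∧ QuasiCompact f'' := by
  refine ⟨fun h => ⟨⟨fun U hU hc => ?_⟩, ⟨fun U hU hc => ?_⟩⟩, fun ⟨h', h''⟩ => ⟨fun U hU hc => ?_⟩⟩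
  · have h1 := (isCompact_preimage_inl_inr (QuasiCompact.isCompact_preimage (f := coprod.desc f' f'') U hU hc)).1
    rw [← Set.preimage_comp, ← TopCat.coe_comp, ← Scheme.Hom.comp_base, coprod.inl_desc] at h1
    exact h1
  · have h1 := (isCompact_preimage_inl_inr (QuasiCompact.isCompact_preimage (f := coprod.desc f' f'') U hU hc)).2
    rw [← Set.preimage_comp, ← TopCat.coe_comp, ← Scheme.Hom.comp_base, coprod.inr_desc] at h1
    exact h1
  · rw [eq_image_union ((coprod.desc f' f'').base ⁻¹' U)]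
    refine IsCompact.union (IsCompact.image ?_ (coprod.inl : X' ⟶ X' ⨿ X'').continuous)
      (IsCompact.image ?_ (coprod.inr : X'' ⟶ X' ⨿ X'').continuous)
    · rw [← Set.preimage_comp, ← TopCat.coe_comp, ← Scheme.Hom.comp_base, coprod.inl_desc]
      exact QuasiCompact.isCompact_preimage (f := f') U hU hc
    · rw [← Set.preimage_comp, ← TopCat.coe_comp, ← Scheme.Hom.comp_base, coprod.inr_desc]
      exact QuasiCompact.isCompact_preimage (f := f'') U hU hc

end Groth.Agent.S4608
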