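import Groth.Statements.S4609
import Mathlib

set_option autoImplicit false
universe u
open AlgebraicGeometry CategoryTheory CategoryTheory.Limits
open EGA41

namespace Groth.Agent.S4609

open CategoryTheory CategoryTheory.Limits AlgebraicGeometry in
/-- Compact sets meet the summands in compact sets. -/
theorem isCompact_preimage_inl_inr {X Y : Scheme.{u}} {K : Set ↥(X ⨿ Y : Scheme.{u})} (hK : IsCompact K) :
    IsCompact ((coprod.inl : X ⟶ X ⨿ Y).base ⁻¹' K) ∧ IsCompact ((coprod.inr : Y ⟶ X ⨿ Y).base ⁻¹' K) := by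
  have h := isCompl_range_inl_inr X Y
  refine ⟨?_, ?_⟩
  · refine (coprod.inl : X ⟶ X ⨿ Y).isOpenEmbedding.isInducing.isCompact_preimage' (hK.inter_right (t := Set.range (coprod.inl : X ⟶ X ⨿ Y).base) ?_) Set.inter_subset_right |> fun h => by rwa [Set.preimage_inter, Set.preimage_range, Set.inter_univ] at h
    rw [← isOpen_compl_iff, h.compl_eq]
    exact (coprod.inr : Y ⟶ X ⨿ Y).isOpenEmbedding.isOpen_range
  · refine (coprod.inr : Y ⟶ X ⨿ Y).isOpenEmbedding.isInducing.isCompact_preimage' (hK.inter_right (t := Set.range (coprod.inr : Y ⟶ X ⨿ Y).base) ?_) Set.inter_subset_right |> fun h => by rwa [Set.preimage_inter, Set.preimage_range, Set.inter_univ] at h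
    rw [← isOpen_compl_iff, h.symm.compl_eq]
    exact (coprod.inl : X ⟶ X ⨿ Y).isOpenEmbedding.isOpen_range

open CategoryTheory CategoryTheory.Limits AlgebraicGeometry in
/-- A subset of a coproduct is the union of its parts in the summands. -/
theorem eq_image_union {X Y : Scheme.{u}} (K : Set ↥(X ⨿ Y : Scheme.{u})) :
    K = (coprod.inl : X ⟶ X ⨿ Y).base '' ((coprod.inl : X ⟶ X ⨿ Y).base ⁻¹' K) ∪
      (coprod.inr : Y ⟶ X ⨿ Y).base '' ((coprod.inr : Y ⟶ X ⨿ Y).base ⁻¹' K) := by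
  rw [Set.image_preimage_eq_inter_range, Set.image_preimage_eq_inter_range, ← Set.inter_union_distrib_left,
    show Set.range (coprod.inl : X ⟶ X ⨿ Y).base ∪ Set.range (coprod.inr : Y ⟶ X ⨿ Y).base = Set.univ from
      (isCompl_range_inl_inr X Y).sup_eq_top, Set.inter_univ]

/-- A morphism from a disjoint union X' ⨿ X'' → Y is quasi-separated if and only if its two components
are. -/
theorem result {X' X'' Y : Scheme.{u}} (f' : X' ⟶ Y) (f'' : X'' ⟶ Y) :
    QuasiSeparated (coprod.desc f' f'') ↔ QuasiSeparated f' ∧ QuasiSeparated f'' := by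
  constructor
  · intro h
    refine ⟨?_, ?_⟩
    · rw [← coprod.inl_desc f' f'']; infer_instance
    · rw [← coprod.inr_desc f' f'']; infer_instance
  · rintro ⟨h', h''⟩
    rw [HasAffineProperty.eq_targetAffineLocally @QuasiSeparated]
    intro V
    show QuasiSeparatedSpace ↥((coprod.desc f' f'') ⁻¹ᵁ V.1)
    refine (isQuasiSeparated_iff_quasiSeparatedSpace _ ((coprod.desc f' f'') ⁻¹ᵁ V.1).2).1 ?_
    intro U₁ U₂ hs₁ ho₁ hc₁ hs₂ ho₂ hc₂
    rw [eq_image_union (U₁ ∩ U₂), Set.preimage_inter, Set.preimage_inter]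
    refine IsCompact.union (IsCompact.image ?_ (coprod.inl : X' ⟶ X' ⨿ X'').continuous)
      (IsCompact.image ?_ (coprod.inr : X'' ⟶ X' ⨿ X'').continuous)
    · have hq := f'.isQuasiSeparated_preimage V.2.isQuasiSeparated
      rw [show f' ⁻¹ᵁ V.1 = (coprod.inl : X' ⟶ X' ⨿ X'') ⁻¹ᵁ ((coprod.desc f' f'') ⁻¹ᵁ V.1) by
        rw [← Scheme.Hom.comp_preimage, coprod.inl_desc]] at hq
      exact hq _ _ (Set.preimage_mono hs₁) (ho₁.preimage (coprod.inl : X' ⟶ X' ⨿ X'').continuous)
        (isCompact_preimage_inl_inr hc₁).1 (Set.preimage_mono hs₂)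
        (ho₂.preimage (coprod.inl : X' ⟶ X' ⨿ X'').continuous) (isCompact_preimage_inl_inr hc₂).1
    · have hq := f''.isQuasiSeparated_preimage V.2.isQuasiSeparated
      rw [show f'' ⁻¹ᵁ V.1 = (coprod.inr : X'' ⟶ X' ⨿ X'') ⁻¹ᵁ ((coprod.desc f' f'') ⁻¹ᵁ V.1) by
        rw [← Scheme.Hom.comp_preimage, coprod.inr_desc]] at hq
      exact hq _ _ (Set.preimage_mono hs₁) (ho₁.preimage (coprod.inr : X'' ⟶ X' ⨿ X'').continuous)
        (isCompact_preimage_inl_inr hc₁).2 (Set.preimage_mono hs₂)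
        (ho₂.preimage (coprod.inr : X'' ⟶ X' ⨿ X'').continuous) (isCompact_preimage_inl_inr hc₂).2

end Groth.Agent.S4609
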