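import Groth.Statements.S4610
import Mathlib.RingTheory.AdjoinRoot
import Mathlib.LinearAlgebra.Dimension.Free

set_option autoImplicit false
universe u
open EGA41

namespace Groth.Agent.S4610

/-- Let A be a nonzero ring and F_1, …, F_r monic one-variable polynomials of degrees d_1, …, d_r; then
A[T_1, …, T_r]/(F_1(T_1), …, F_r(T_r)) is a free A-module of rank ∏ d_i. (The published statement
assumes A local with maximal ideal of square zero and A' local, which this assertion does not use;
its bound [K' : K] ≤ d and part (ii) are not stated.) -/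
theorem result {A : Type u} [CommRing A] [Nontrivial A]
    {r : ℕ} (F : Fin r → Polynomial A) (hF : ∀ i, (F i).Monic) :
    Module.Free A (MvPolynomial (Fin r) A ⧸ Ideal.span (Set.range fun i => Polynomial.aeval (MvPolynomial.X i : MvPolynomial (Fin r) A) (F i))) ∧
      Module.finrank A (MvPolynomial (Fin r) A ⧸ Ideal.span (Set.range fun i => Polynomial.aeval (MvPolynomial.X i : MvPolynomial (Fin r) A) (F i))) =
        Finset.univ.prod fun i => (F i).natDegree := by
  classical
  induction r with
  | zero =>
    have hI : Ideal.span (Set.range fun i => Polynomial.aeval (MvPolynomial.X i : MvPolynomial (Fin 0) A) (F i)) = ⊥ := by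
      rw [Set.range_eq_empty, Ideal.span_empty]
    let e : (MvPolynomial (Fin 0) A ⧸ Ideal.span (Set.range fun i => Polynomial.aeval (MvPolynomial.X i : MvPolynomial (Fin 0) A) (F i))) ≃ₐ[A] A :=
      ((Ideal.quotientEquivAlgOfEq A hI).trans (AlgEquiv.quotientBot A _)).trans (MvPolynomial.isEmptyAlgEquiv A (Fin 0))
    refine ⟨Module.Free.of_equiv e.symm.toLinearEquiv, ?_⟩
    rw [e.toLinearEquiv.finrank_eq, Module.finrank_self]
    simp
  | succ r ih =>
    let I := Ideal.span (Set.range fun i => Polynomial.aeval (MvPolynomial.X i : MvPolynomial (Fin r) A) (F i.succ))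
    let J := Ideal.span (Set.range fun i => Polynomial.aeval (MvPolynomial.X i : MvPolynomial (Fin (r + 1)) A) (F i))
    let Q := MvPolynomial (Fin r) A ⧸ I
    obtain ⟨hfree, hrank⟩ : Module.Free A Q ∧ Module.finrank A Q = Finset.univ.prod fun i => (F (Fin.succ i)).natDegree :=
      ih (fun i => F i.succ) fun i => hF i.succ
    haveI := hfree
    let g := (F 0).map (algebraMap A Q)
    have hg : g.Monic := (hF 0).map _
    let B := AdjoinRoot g
    let v : Fin (r + 1) → B := Fin.cons (AdjoinRoot.root g) fun i =>
      algebraMap Q B (Ideal.Quotient.mk I (MvPolynomial.X i))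
    let φ : MvPolynomial (Fin (r + 1)) A →ₐ[A] B := MvPolynomial.aeval v
    have hφJ : J ≤ RingHom.ker φ := by
      refine Ideal.span_le.2 ?_
      rintro _ ⟨i, rfl⟩
      change φ (Polynomial.aeval (MvPolynomial.X i) (F i)) = 0
      rw [← Polynomial.aeval_algHom_apply, MvPolynomial.aeval_X]
      induction i using Fin.cases with
      | zero =>
        simp only [v, Fin.cons_zero]
        rw [← Polynomial.aeval_map_algebraMap Q (AdjoinRoot.root g), AdjoinRoot.aeval_eq, AdjoinRoot.mk_self]
      | succ i =>
        simp only [v, Fin.cons_succ]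
        rw [Polynomial.aeval_algebraMap_apply, show Polynomial.aeval (Ideal.Quotient.mk I (MvPolynomial.X i)) (F i.succ) =
          Ideal.Quotient.mkₐ A I (Polynomial.aeval (MvPolynomial.X i) (F i.succ)) from
          Polynomial.aeval_algHom_apply (Ideal.Quotient.mkₐ A I) _ _,
          Ideal.Quotient.mkₐ_eq_mk, Ideal.Quotient.eq_zero_iff_mem.2 (show Polynomial.aeval (MvPolynomial.X i) (F i.succ) ∈ I from
            Ideal.subset_span ⟨i, rfl⟩), map_zero]
    let ι : Q →ₐ[A] MvPolynomial (Fin (r + 1)) A ⧸ J :=
      Ideal.Quotient.liftₐ I ((Ideal.Quotient.mkₐ A J).comp (MvPolynomial.rename Fin.succ)) fun a ha => by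
        have hle : I ≤ RingHom.ker ((Ideal.Quotient.mkₐ A J).comp (MvPolynomial.rename Fin.succ)) := by
          refine Ideal.span_le.2 ?_
          rintro _ ⟨i, rfl⟩
          change Ideal.Quotient.mk J (MvPolynomial.rename Fin.succ (Polynomial.aeval (MvPolynomial.X i) (F i.succ))) = 0
          rw [← Polynomial.aeval_algHom_apply, MvPolynomial.rename_X, Ideal.Quotient.eq_zero_iff_mem]
          exact Ideal.subset_span ⟨i.succ, rfl⟩
        exact hle ha
    have hroot : g.eval₂ ι (Ideal.Quotient.mk J (MvPolynomial.X 0)) = 0 := by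
      rw [Polynomial.eval₂_map, show (ι : Q →+* MvPolynomial (Fin (r + 1)) A ⧸ J).comp (algebraMap A Q) = algebraMap A _ from ι.comp_algebraMap,
        ← Polynomial.aeval_def, show Ideal.Quotient.mk J (MvPolynomial.X 0) =
        Ideal.Quotient.mkₐ A J (MvPolynomial.X 0) from rfl, Polynomial.aeval_algHom_apply, Ideal.Quotient.mkₐ_eq_mk,
        Ideal.Quotient.eq_zero_iff_mem]
      exact Ideal.subset_span ⟨0, rfl⟩
    let ψ : B →ₐ[A] MvPolynomial (Fin (r + 1)) A ⧸ J := AdjoinRoot.liftAlgHom g ι _ hroot
    have hψof : ∀ q : Q, ψ (AdjoinRoot.of g q) = ι q := fun q => AdjoinRoot.lift_of hroot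
    have hψroot : ψ (AdjoinRoot.root g) = Ideal.Quotient.mk J (MvPolynomial.X 0) := AdjoinRoot.lift_root hroot
    let φ' : (MvPolynomial (Fin (r + 1)) A ⧸ J) →ₐ[A] B := Ideal.Quotient.liftₐ J φ fun a ha => hφJ ha
    have h1 : ψ.comp φ' = AlgHom.id A _ := by
      refine Ideal.Quotient.algHom_ext A (MvPolynomial.algHom_ext fun i => ?_)
      change ψ (φ (MvPolynomial.X i)) = Ideal.Quotient.mk J (MvPolynomial.X i)
      rw [MvPolynomial.aeval_X]
      induction i using Fin.cases with
      | zero => simp only [v, Fin.cons_zero]; exact hψroot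
      | succ i =>
        simp only [v, Fin.cons_succ]
        refine (hψof _).trans ?_
        change Ideal.Quotient.mk J (MvPolynomial.rename Fin.succ (MvPolynomial.X i)) = _
        rw [MvPolynomial.rename_X]
    have h2 : ∀ b, φ' (ψ b) = b := by
      have hQ : ∀ q : Q, φ' (ι q) = algebraMap Q B q := by
        intro q
        obtain ⟨p, rfl⟩ := Ideal.Quotient.mk_surjective q
        refine AlgHom.congr_fun (φ₁ := φ.comp (MvPolynomial.rename Fin.succ))
          (φ₂ := (IsScalarTower.toAlgHom A Q B).comp (Ideal.Quotient.mkₐ A I)) (MvPolynomial.algHom_ext fun i => ?_) p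
        change φ (MvPolynomial.rename Fin.succ (MvPolynomial.X i)) = algebraMap Q B (Ideal.Quotient.mk I (MvPolynomial.X i))
        rw [MvPolynomial.rename_X, MvPolynomial.aeval_X]
        simp only [v, Fin.cons_succ]
      intro b
      obtain ⟨p, rfl⟩ := AdjoinRoot.mk_surjective b
      induction p using Polynomial.induction_on' with
      | add p q hp hq => rw [map_add, map_add, map_add, hp, hq]
      | monomial n a =>
        rw [← Polynomial.C_mul_X_pow_eq_monomial, map_mul, map_pow, AdjoinRoot.mk_C, AdjoinRoot.mk_X, map_mul, map_mul,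
          map_pow, map_pow]
        congr 1
        · rw [hψof]
          exact hQ a
        · congr 1
          rw [hψroot]
          change φ (MvPolynomial.X 0) = _
          rw [MvPolynomial.aeval_X]
          simp only [v, Fin.cons_zero]
    let e : (MvPolynomial (Fin (r + 1)) A ⧸ J) ≃ₐ[A] B :=
      AlgEquiv.ofAlgHom φ' ψ (AlgHom.ext h2) h1
    haveI := hg.free_adjoinRoot
    haveI : Module.Free A B := Module.Free.trans (S := Q)
    refine ⟨Module.Free.of_equiv e.symm.toLinearEquiv, ?_⟩
    change Module.finrank A (MvPolynomial (Fin (r + 1)) A ⧸ J) = _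
    rw [e.toLinearEquiv.finrank_eq, Fin.prod_univ_succ]
    rcases subsingleton_or_nontrivial Q with hQ0 | hQ0
    · haveI : Subsingleton B := Module.subsingleton Q B
      rw [Module.finrank_zero_of_subsingleton, ← hrank, Module.finrank_zero_of_subsingleton, mul_zero]
    · rw [← Module.finrank_mul_finrank A Q B, hrank, (AdjoinRoot.powerBasis' hg).finrank,
        AdjoinRoot.powerBasis'_dim, (hF 0).natDegree_map, mul_comm]

end Groth.Agent.S4610
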