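import Groth.Statements.S4611
import Mathlib.RingTheory.Localization.AtPrime.Basic

set_option autoImplicit false
universe u
open EGA41

namespace Groth.Agent.S4611

/-- A local algebra essentially of finite type over a ring A is A-isomorphic to a quotient of a
localization A[T_1, …, T_n]_q of a polynomial algebra at a prime ideal q; stated as the existence of
a surjective A-algebra map from such a localization. -/
theorem result {A B : Type u} [CommRing A]
    [CommRing B] [IsLocalRing B] [Algebra A B] [Algebra.EssFiniteType A B] :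
    ∃ (n : ℕ) (q : Ideal (MvPolynomial (Fin n) A)) (_ : q.IsPrime)
      (φ : Localization.AtPrime q →ₐ[A] B), Function.Surjective φ := by
  classical
  let s := Algebra.EssFiniteType.finset A B
  let n := s.card
  let g : Fin n → B := fun i => (s.equivFin.symm i : B)
  let ψ : MvPolynomial (Fin n) A →ₐ[A] B := MvPolynomial.aeval g
  let q : Ideal (MvPolynomial (Fin n) A) := (IsLocalRing.maximalIdeal B).comap ψ.toRingHom
  have hq : q.IsPrime := Ideal.comap_isPrime _ _
  have hu : ∀ y : q.primeCompl, IsUnit (ψ y) := fun y => IsLocalRing.notMem_maximalIdeal.1 y.2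
  let φ : Localization.AtPrime q →ₐ[A] B := IsLocalization.liftAlgHom (M := q.primeCompl) (f := ψ) hu
  refine ⟨n, q, hq, φ, fun b => ?_⟩
  have hφ : ∀ p, φ (algebraMap _ _ p) = ψ p := fun p => IsLocalization.lift_eq _ p
  have hrange : Algebra.EssFiniteType.subalgebra A B ≤ ψ.range := Algebra.adjoin_le fun x hx =>
    ⟨MvPolynomial.X (s.equivFin ⟨x, hx⟩), by
      change MvPolynomial.aeval g (MvPolynomial.X _) = x
      rw [MvPolynomial.aeval_X]
      simp [g]⟩
  obtain ⟨⟨a, t⟩, ht⟩ := IsLocalization.surj (Algebra.EssFiniteType.submonoid A B) b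
  obtain ⟨pa, hpa⟩ := hrange a.2
  obtain ⟨pt, hpt⟩ := hrange t.1.2
  have htu : IsUnit (t.1 : B) := t.2
  have hptq : pt ∉ q := fun h => IsLocalRing.notMem_maximalIdeal.2 htu (hpt ▸ h)
  refine ⟨IsLocalization.mk' _ pa (⟨pt, hptq⟩ : q.primeCompl), ?_⟩
  refine htu.mul_left_injective ?_
  change φ _ * (t.1 : B) = b * (t.1 : B)
  rw [← hpt]
  change φ _ * ψ pt = _
  rw [← hφ pt, ← map_mul, IsLocalization.mk'_spec, hφ]
  exact hpa.trans (ht.symm.trans (congrArg (b * ·) hpt.symm))

end Groth.Agent.S4611
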