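import Groth.Statements.S4616
import Groth.Agent.S4571
import Groth.Agent.Lib.J2.Subfields

set_option autoImplicit false
universe u
open TensorProduct KaehlerDifferential IsLocalRing
open EGA41

namespace Groth.Agent.S4616

open GrothLib

variable {k : Type u} [Field k] (p : ℕ) [hp : Fact p.Prime] [CharP k p]

omit hp in
theorem D_mem_span_closure {s : Set k} {b : k}
    (hb : b ∈ Subfield.closure ((Set.range fun y : k => y ^ p) ∪ s)) :
    D ℤ k b ∈ Submodule.span k (D ℤ k '' s) := by
  induction hb using Subfield.closure_induction with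
  | mem y hy =>
      rcases hy with ⟨z, rfl⟩ | hy
      · rw [Derivation.leibniz_pow, ← Nat.cast_smul_eq_nsmul k, CharP.cast_eq_zero k p, zero_smul]
        exact zero_mem _
      · exact Submodule.subset_span ⟨y, hy, rfl⟩
  | one => rw [Derivation.map_one_eq_zero]; exact zero_mem _
  | add _ _ _ _ h1 h2 => rw [map_add]; exact add_mem h1 h2
  | neg _ _ h1 => rw [map_neg]; exact neg_mem h1
  | inv _ _ h1 => rw [Derivation.leibniz_inv]; exact Submodule.smul_mem _ _ h1
  | mul _ _ _ _ h1 h2 =>
      rw [Derivation.leibniz]
      exact add_mem (Submodule.smul_mem _ _ h2) (Submodule.smul_mem _ _ h1)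

variable {ι : Type u} [Preorder ι] [IsDirected ι (fun a b => a ≤ b)] [Nonempty ι] (kα : ι → Subfield k)
  (hanti : Antitone kα)
  (hint : ⨅ α, (kα α ⊔ (frobenius k p).fieldRange) = (frobenius k p).fieldRange)

include hanti hint in
/-- An element outside `k^p(y)` is outside `kα(k^p)(y)` for large `α`. -/
theorem exists_notMem_genField {σ : Type u} [Finite σ] (y : σ → k) {a : k}
    (ha : a ∉ Subfield.closure ((Set.range fun z : k => z ^ p) ∪ Set.range y)) (α₀ : ι) :
    ∃ α, α₀ ≤ α ∧ a ∉ PBasis.genField p (kα α) (Set.range y) := by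
  classical
  let Ks : Finset {α // α₀ ≤ α} → Subfield k := fun s => ⨅ i ∈ s, (kα i.1 ⊔ (frobenius k p).fieldRange)
  haveI : Finite {e : σ →₀ ℕ // ∀ i, e i < p} :=
    Finite.of_injective (fun e i => (⟨e.1 i, e.2 i⟩ : Fin p)) fun e f h =>
      Subtype.ext (Finsupp.ext fun i => congrArg Fin.val (congrFun h i))
  obtain ⟨m, ⟨en⟩⟩ := Finite.exists_equiv_fin {e : σ →₀ ℕ // ∀ i, e i < p}
  obtain ⟨s, hs⟩ := GrothLib.J2.exists_notMem_span Ks
    (fun s t hst => le_iInf₂ fun i hi => iInf₂_le i (hst hi))
    (frobenius k p).fieldRange (Subfield.closure ((Set.range fun z : k => z ^ p) ∪ Set.range y))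
    (fun s => le_iInf₂ fun i _ => le_sup_right)
    (fun x hx => by
      rw [← hint, Subfield.mem_iInf]
      intro α
      obtain ⟨β, h1, h2⟩ := exists_ge_ge α α₀
      have := hx {⟨β, h2⟩}
      simp only [Ks, Finset.mem_singleton, iInf_iInf_eq_left] at this
      exact sup_le_sup_right (hanti h1) _ this)
    (fun x hx => by
      obtain ⟨z, rfl⟩ := hx
      exact Subfield.subset_closure (Or.inl ⟨z, rfl⟩))
    (fun i => EGA41.pMonomial y (en.symm i).1)
    (fun i => prod_mem fun j _ => pow_mem (Subfield.subset_closure (Set.mem_union_right _ (Set.mem_range_self j))) _) ha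
  obtain ⟨β, hβ⟩ := (s.image Subtype.val ∪ {α₀}).exists_le
  refine ⟨β, hβ _ (Finset.mem_union_right _ (Finset.mem_singleton_self _)), fun hmem => hs ?_⟩
  have hle : kα β ⊔ (frobenius k p).fieldRange ≤ Ks s := le_iInf₂ fun i hi =>
    sup_le_sup_right (hanti (hβ _ (Finset.mem_union_left _ (Finset.mem_image_of_mem _ hi)))) _
  have hP : ∀ x ∈ EGA41.pPowerSubalgebra p (kα β) k, x ∈ Ks s := fun x hx => by
    induction hx using Algebra.adjoin_induction with
    | mem z hz =>
        obtain ⟨w, rfl⟩ := hz
        exact hle (le_sup_right (a := kα β) (show w ^ p ∈ (frobenius k p).fieldRange from ⟨w, rfl⟩))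
    | algebraMap r => exact hle (le_sup_left (b := (frobenius k p).fieldRange) r.2)
    | add _ _ _ _ h1 h2 => exact add_mem h1 h2
    | mul _ _ _ _ h1 h2 => exact mul_mem h1 h2
  rw [PBasis.mem_genField_iff] at hmem
  clear hs ha
  induction hmem using Submodule.span_induction with
  | mem z hz =>
      obtain ⟨e, rfl⟩ := hz
      exact Submodule.subset_span ⟨en e, by simp⟩
  | zero => exact zero_mem _
  | add _ _ _ _ h1 h2 => exact add_mem h1 h2
  | smul c z _ h1 => exact Submodule.smul_mem _ (⟨(c : k), hP _ c.2⟩ : Ks s) h1

include hanti hint in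
/-- A finite family with independent absolute differentials keeps independent differentials over `kα`
for large `α`. -/
theorem exists_indep {T : Type u} [Finite T] (x : T → k)
    (hx : LinearIndependent k fun i => D ℤ k (x i)) (α₀ : ι) :
    ∃ α, α₀ ≤ α ∧ LinearIndependent k fun i => D (kα α) k (x i) := by
  classical
  cases nonempty_fintype T
  have h : ∀ a : T, ∃ α, α₀ ≤ α ∧ x a ∉ PBasis.genField p (kα α) (x '' {b | b ≠ a}) := fun a => by
    rw [Set.image_eq_range]
    refine exists_notMem_genField p kα hanti hint _ (fun hmem => ?_) α₀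
    have := D_mem_span_closure p hmem
    rw [← Set.image_eq_range, Set.image_image] at this
    exact hx.notMem_span_image (by simp) this
  choose β hβ hnot using h
  obtain ⟨γ, hγ⟩ := (Finset.univ.image β ∪ {α₀}).exists_le
  refine ⟨γ, hγ _ (Finset.mem_union_right _ (Finset.mem_singleton_self _)),
    (PBasis.isPIndependent_iff_linearIndependent (p := p) (k := kα γ) x).1
      ((PBasis.isPIndependent_iff x).2 fun a hmem => hnot a ?_)⟩
  suffices h : ∀ z ∈ PBasis.genField p (kα γ) (x '' {b | b ≠ a}),
      z ∈ PBasis.genField p (kα (β a)) (x '' {b | b ≠ a}) from h _ hmem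
  intro z hz
  induction hz using IntermediateField.adjoin_induction with
  | mem y hy => exact IntermediateField.subset_adjoin _ _ hy
  | algebraMap r =>
      exact IntermediateField.algebraMap_mem _
        (⟨(r : k), hanti (hγ _ (Finset.mem_union_left _ (Finset.mem_image_of_mem _ (Finset.mem_univ a)))) r.2⟩ :
          kα (β a))
  | add _ _ _ _ h1 h2 => exact add_mem h1 h2
  | inv _ _ h1 => exact inv_mem h1
  | mul _ _ _ _ h1 h2 => exact mul_mem h1 h2

include p hanti hint in
/-- The kernels of `Ω[k/ℤ] → Ω[k/kα]` meet in zero. -/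
theorem eq_zero_of_forall_map (α₀ : ι) (v : Ω[k⁄ℤ])
    (hv : ∀ α, α₀ ≤ α → KaehlerDifferential.map ℤ (kα α) k k v = 0) : v = 0 := by
  classical
  obtain ⟨b, hb, hspan, hli⟩ := exists_linearIndependent k (Set.range (D ℤ k))
  have hv' : v ∈ Submodule.span k b := by
    rw [hspan, KaehlerDifferential.span_range_derivation]; trivial
  obtain ⟨T, hT, hvT⟩ := Submodule.mem_span_finite_of_mem_span hv'
  choose x hx using fun i : T => hb (hT i.2)
  have hli' : LinearIndependent k fun i : T => D ℤ k (x i) := by
    simp only [hx]
    exact hli.comp (fun i : T => (⟨i.1, hT i.2⟩ : b)) fun i j h =>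
      Subtype.ext (congrArg Subtype.val h :)
  obtain ⟨α, hα, hind⟩ := exists_indep p kα hanti hint x hli' α₀
  have hrange : Set.range (fun i : T => D ℤ k (x i)) = (T : Set Ω[k⁄ℤ]) := by
    simp only [hx]; exact Subtype.range_coe
  rw [← hrange, Submodule.mem_span_range_iff_exists_fun] at hvT
  obtain ⟨c, rfl⟩ := hvT
  have h0 := hv α hα
  simp only [map_sum, map_smul, KaehlerDifferential.map_D, Algebra.algebraMap_self_apply] at h0
  have hc := Fintype.linearIndependent_iff.1 hind c h0
  simp [hc]

/-- Let k be a field of characteristic p > 0, A a local k-algebra with maximal ideal m and residue field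
K, (k_α) a decreasing directed family of subfields of k with ⋂ k_α(k^p) = k^p. Then A is formally
smooth over k for the m-adic topology if and only if the maps Sym^n_K(m/m²) → m^n/m^(n+1) are
bijective (n ≥ 1) and, for all large α, Ω_{k/k_α} ⊗_k K → Ω_{A/k_α} ⊗_A K is injective. -/
theorem result {k A : Type u}
    [Field k] (p : ℕ) [Fact p.Prime] [CharP k p] [CommRing A] [IsLocalRing A] [Algebra k A]
    {ι : Type u} [Preorder ι] [IsDirected ι (fun a b => a ≤ b)] [Nonempty ι] (kα : ι → Subfield k)
    (hanti : Antitone kα) (hint : ⨅ α, (kα α ⊔ (frobenius k p).fieldRange) = (frobenius k p).fieldRange) :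
    CAlgX.IsAdicFormallySmooth k A (maximalIdeal A) ↔
      (PP16.SymGrBijective A (maximalIdeal A) ∧ ∃ α₀ : ι, ∀ α : ι, α₀ ≤ α →
        Function.Injective ((mapBaseChange (kα α) k A).lTensor (ResidueField A))) := by
  haveI : Module.Free k (ResidueField A) := Module.Free.of_divisionRing k _
  rw [Groth.Agent.S4571.result]
  refine and_congr_right fun _ => ?_
  set K := ResidueField A
  let qk : ∀ α, A ⊗[k] Ω[k⁄ℤ] →ₗ[A] A ⊗[k] Ω[k⁄(kα α)] := fun α =>
    (KaehlerDifferential.map ℤ (kα α) k k).baseChange A
  let qA : ∀ α, Ω[A⁄ℤ] →ₗ[A] Ω[A⁄(kα α)] := fun α => KaehlerDifferential.map ℤ (kα α) A A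
  have hsq : ∀ α z, (qA α).lTensor K ((mapBaseChange ℤ k A).lTensor K z) =
      (mapBaseChange (kα α) k A).lTensor K ((qk α).lTensor K z) := by
    intro α z
    rw [← LinearMap.lTensor_comp_apply, ← LinearMap.lTensor_comp_apply]
    refine congrArg (fun f : A ⊗[k] Ω[k⁄ℤ] →ₗ[A] Ω[A⁄(kα α)] => f.lTensor K z) (LinearMap.ext fun w => ?_)
    induction w using TensorProduct.induction_on with
    | zero => simp
    | add a b ha hb => rw [map_add, map_add, ha, hb]
    | tmul a ω =>
        simp only [qk, qA, LinearMap.comp_apply, LinearMap.baseChange_tmul,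
          KaehlerDifferential.mapBaseChange_tmul, map_smul]
        congr 1
        induction (KaehlerDifferential.span_range_derivation ℤ k ▸ Submodule.mem_top :
            ω ∈ Submodule.span k (Set.range (D ℤ k))) using Submodule.span_induction with
        | mem y hy => obtain ⟨s, rfl⟩ := hy; simp
        | zero => simp
        | add a b _ _ ha hb => simp only [map_add, ha, hb]
        | smul c a _ ha => simp only [LinearMap.map_smul, LinearMap.map_smul_of_tower, ha]
  constructor
  · refine fun hψ => ⟨Classical.arbitrary ι, fun α _ => ?_⟩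
    rw [injective_iff_map_eq_zero]
    intro z hz
    have hsurj : Function.Surjective ((qk α).lTensor K) := LinearMap.lTensor_surjective K
      (LinearMap.lTensor_surjective A (KaehlerDifferential.map_surjective ℤ (kα α) k))
    obtain ⟨w, rfl⟩ := hsurj z
    rw [← hsq] at hz
    obtain ⟨t, ht⟩ := (lTensor_exact K (KaehlerDifferential.exact_mapBaseChange_map ℤ (kα α) A)
      (KaehlerDifferential.map_surjective ℤ (kα α) A) _).1 hz
    have hpre : ∀ t, ∃ w', (mapBaseChange ℤ k A).lTensor K w' = (mapBaseChange ℤ (kα α) A).lTensor K t ∧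
        (qk α).lTensor K w' = 0 := by
      intro t
      induction t using TensorProduct.induction_on with
      | zero => exact ⟨0, by simp⟩
      | add a b ha hb =>
          obtain ⟨a', ha1, ha2⟩ := ha
          obtain ⟨b', hb1, hb2⟩ := hb
          exact ⟨a' + b', by simp [ha1, hb1], by simp [ha2, hb2]⟩
      | tmul κ m =>
          induction m using TensorProduct.induction_on with
          | zero => exact ⟨0, by simp⟩
          | add a b ha hb =>
              obtain ⟨a', ha1, ha2⟩ := ha
              obtain ⟨b', hb1, hb2⟩ := hb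
              exact ⟨a' + b', by simp [ha1, hb1, tmul_add], by simp [ha2, hb2]⟩
          | tmul a ω =>
              refine ⟨κ ⊗ₜ (a ⊗ₜ KaehlerDifferential.map ℤ ℤ (kα α) k ω), ?_, ?_⟩
              · simp only [LinearMap.lTensor_tmul, KaehlerDifferential.mapBaseChange_tmul]
                congr 2
                induction (KaehlerDifferential.span_range_derivation ℤ (kα α) ▸ Submodule.mem_top :
                    ω ∈ Submodule.span (kα α) (Set.range (D ℤ (kα α)))) using Submodule.span_induction with
                | mem y hy =>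
                    obtain ⟨s, rfl⟩ := hy
                    simp [← IsScalarTower.algebraMap_apply]
                | zero => simp
                | add a b _ _ ha hb => simp only [map_add, ha, hb]
                | smul c a _ ha =>
                    simp only [LinearMap.map_smul, LinearMap.map_smul_of_tower, ha]
                    rfl
              · have h0 := (KaehlerDifferential.exact_mapBaseChange_map ℤ (kα α) k).apply_apply_eq_zero
                  (1 ⊗ₜ ω)
                rw [KaehlerDifferential.mapBaseChange_tmul, one_smul] at h0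
                rw [LinearMap.lTensor_tmul]
                simp [qk, h0]
    obtain ⟨w', hw1, hw2⟩ := hpre t
    rw [← hψ (hw1.trans ht), hw2]
  · rintro ⟨α₀, hψ⟩
    rw [injective_iff_map_eq_zero]
    intro z hz
    have h0 : ∀ α, α₀ ≤ α → (qk α).lTensor K z = 0 := fun α hα => hψ α hα (by
      rw [← hsq, hz, map_zero, map_zero])
    let e := AlgebraTensorModule.cancelBaseChange k A A K Ω[k⁄ℤ]
    let b := Module.Free.chooseBasis k K
    have hnat : ∀ α y i, TensorProduct.equivFinsuppOfBasisLeft b
        (AlgebraTensorModule.cancelBaseChange k A A K Ω[k⁄(kα α)] ((qk α).lTensor K y)) i =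
        KaehlerDifferential.map ℤ (kα α) k k (TensorProduct.equivFinsuppOfBasisLeft b (e y) i) := by
      intro α y i
      induction y using TensorProduct.induction_on with
      | zero => simp
      | add y1 y2 h1 h2 => simp only [map_add, Finsupp.add_apply, h1, h2]
      | tmul κ m =>
          induction m using TensorProduct.induction_on with
          | zero => simp
          | add y1 y2 h1 h2 => simp only [tmul_add, map_add, Finsupp.add_apply, h1, h2]
          | tmul a ω => simp [qk, e, TensorProduct.equivFinsuppOfBasisLeft_apply_tmul_apply]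
    refine e.injective ((TensorProduct.equivFinsuppOfBasisLeft b).injective (Finsupp.ext fun i => ?_))
    rw [map_zero, map_zero, Finsupp.zero_apply]
    refine eq_zero_of_forall_map p kα hanti hint α₀ _ fun α hα => ?_
    rw [← hnat, h0 α hα]
    simp

end Groth.Agent.S4616
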