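import Groth.Statements.S4619
import Groth.Agent.Lib.FBase7.SepClosedIn


set_option autoImplicit false
open CategoryTheory AlgebraicGeometry
universe u
open FBase

namespace Groth.Agent.S4619

/-- For a connected scheme: let X be a connected scheme over a field k and x a point of X whose residue
field κ(x) is a primary extension of k, i.e. the separable algebraic closure of k in κ(x) is k
itself (this holds in particular when x is a k-rational point). Then X is geometrically connected
over k. (The published statement concerns the connected component of x in an arbitrary scheme over
k; this row takes X connected.) -/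
theorem result {k : Type u} [Field k] {X : Scheme.{u}}
    [ConnectedSpace X] (f : X ⟶ Spec (CommRingCat.of k)) (x : X)
    (hx : FBase.ResidueFieldProp f x (fun K _ _ => separableClosure k K = ⊥)) :
    GeometricallyConnected f := by
  let _ : X.Over (Spec (CommRingCat.of k)) := ⟨f⟩
  obtain ⟨φ, hφ, hs⟩ := hx
  obtain rfl : φ = Curv2.resMap k X x := GrothLib.FBase7.resMap_eq k X hφ
  refine GrothLib.FBase7.geometricallyConnected_of_sepClosure_connected k X
    (GrothLib.FBase7.connectedSpace_of_sepClosedIn k X (x := x) (fun a ha => ?_) _)
  let _ : Algebra k (X.residueField x) := (Curv2.resMap k X x).toAlgebra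
  have h1 : a ∈ separableClosure k (X.residueField x) := mem_separableClosure_iff.2 ha
  rw [hs] at h1
  exact IntermediateField.mem_bot.1 h1

end Groth.Agent.S4619
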