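import Groth.Statements.S4622
import Groth.Agent.Lib.FBase7.Conn
import Groth.Agent.Lib.Frob.Basic
import Groth.Agent.Lib.PurInsep.EtaleHom


set_option autoImplicit false
open CategoryTheory AlgebraicGeometry
universe u
open FBase

namespace Groth.Agent.S4622

/-- Let k be a separably closed field, k' an algebraic closure of k and X a scheme over k. Then the
projection X ⊗_k k' → X is a universal homeomorphism. -/
theorem result {k k' : Type u} [Field k] [IsSepClosed k] [Field k'] [Algebra k k']
    [IsAlgClosure k k'] {X : Scheme.{u}} (f : X ⟶ Spec (CommRingCat.of k)) :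
    FlatMor.IsUnivHomeo (FBase.bcπ f k') := by
  have : Algebra.IsAlgebraic k k' := IsAlgClosure.isAlgebraic
  have : IsPurelyInseparable k k' := inferInstance
  have : UniversallyInjective (FBase.bcπ f k') :=
    MorphismProperty.pullback_fst _ _ (GrothLib.PurInsep.universallyInjective_specMap k k')
  have : IsIntegralHom (FBase.bcπ f k') :=
    MorphismProperty.pullback_fst _ _ (IsIntegralHom.SpecMap_iff.mpr (algebraMap_isIntegral_iff.mpr inferInstance))
  have : Surjective (FBase.bcπ f k') :=
    MorphismProperty.pullback_fst _ _ (GrothLib.FBase7.surjective_specMap _)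
  exact GrothLib.Frob.isUnivHomeo_of _

end Groth.Agent.S4622
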