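import Groth.Statements.S4624
import Mathlib

set_option autoImplicit false
open CategoryTheory AlgebraicGeometry
universe u
open FBase

namespace Groth.Agent.S4624

/-- Let h : X → Y be a surjective morphism of schemes over a field k. If X is geometrically connected
over k, then Y is geometrically connected over k. -/
theorem result {k : Type u} [Field k] {X Y : Scheme.{u}}
    (f : X ⟶ Spec (CommRingCat.of k)) (g : Y ⟶ Spec (CommRingCat.of k)) (h : X ⟶ Y) (w : h ≫ g = f)
    [Surjective h] [GeometricallyConnected f] : GeometricallyConnected g := by
  subst w
  refine ⟨?_⟩
  rw [geometrically_eq_universally]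
  intro Z T fst snd g' pb hi hs
  have hsq := (IsPullback.of_hasPullback h fst).flip.paste_horiz pb
  haveI : GeometricallyConnected (Limits.pullback.snd h fst ≫ g') :=
    MorphismProperty.of_isPullback (P := @GeometricallyConnected) hsq.flip inferInstance
  haveI := GeometricallyConnected.connectedSpace_of_subsingleton (f := Limits.pullback.snd h fst ≫ g')
  exact Function.Surjective.connectedSpace (f := (Limits.pullback.snd h fst).base)
    (Limits.pullback.snd h fst).surjective (Limits.pullback.snd h fst).continuous

end Groth.Agent.S4624
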