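import Groth.Statements.S4628
import Groth.Agent.Lib.FBase7.Reduced


set_option autoImplicit false
open CategoryTheory AlgebraicGeometry
universe u
open FBase

namespace Groth.Agent.S4628

open CategoryTheory.Limits in
/-- Let X be a scheme over a field k which is geometrically reduced (X ⊗_k K is reduced for every
extension field K of k), and let S be any reduced scheme over k. Then the product X ×_k S is
reduced. (No Noetherian or finiteness assumption on S.) -/
theorem result {k : Type u} [Field k] {X S : Scheme.{u}}
    (f : X ⟶ Spec (CommRingCat.of k)) (g : S ⟶ Spec (CommRingCat.of k)) [GeometricallyReduced f]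
    [AlgebraicGeometry.IsReduced S] : AlgebraicGeometry.IsReduced (pullback f g) := by
  exact GrothLib.FBase7.isReduced_pullback_of_geometricallyReduced f g

end Groth.Agent.S4628
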