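import Groth.Statements.S4630
import Groth.Agent.Lib.FBase7.Points
import Groth.Agent.Lib.FBase7.Card


set_option autoImplicit false
open CategoryTheory AlgebraicGeometry
universe u
open FBase

namespace Groth.Agent.S4630

/-- Let X be a scheme over a field k, k' an extension field of k, and x' a point of X' = X ⊗_k k' lying
over the point x of X. Then X is geometrically pointwise integral at x over k if and only if X' is
geometrically pointwise integral at x' over k'. -/
theorem result {k K : Type u} [Field k] [Field K] [Algebra k K]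
    {X : Scheme.{u}} (f : X ⟶ Spec (CommRingCat.of k)) (x' : ↥(FBase.bc f K)) :
    FBase.IsGeomPtIntegralAt f ((FBase.bcπ f K) x') ↔ FBase.IsGeomPtIntegralAt (FBase.bcStr f K) x' := by
  let _ : X.Over (Spec (CommRingCat.of k)) := ⟨f⟩
  let σ := Spec.map (CommRingCat.ofHom (algebraMap k K))
  constructor
  · intro h L _ _ z hz
    let _ : Algebra k L := ((algebraMap K L).comp (algebraMap k K)).toAlgebra
    have : IsScalarTower k K L := IsScalarTower.of_algebraMap_eq fun _ => rfl
    let τ := Spec.map (CommRingCat.ofHom (algebraMap K L))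
    let e : FBase.bc (FBase.bcStr f K) L ≅ FBase.bc f L :=
      CategoryTheory.Limits.pullbackLeftPullbackSndIso f σ τ ≪≫
        CategoryTheory.Limits.pullback.congrHom rfl (GrothLib.BaseChange.spec_tower k K L)
    have he : e.hom ≫ FBase.bcπ f L = FBase.bcπ (FBase.bcStr f K) L ≫ FBase.bcπ f K := by
      simp only [e, FBase.bcπ, Iso.trans_hom, Category.assoc, CategoryTheory.Limits.pullback.congrHom_hom]
      erw [CategoryTheory.Limits.pullback.lift_fst, Category.comp_id]
      exact CategoryTheory.Limits.pullbackLeftPullbackSndIso_hom_fst _ _ _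
    refine GrothLib.FBase7.isDomain_stalk_of_flat e.inv (e.hom z) (by rw [← Scheme.Hom.comp_apply, e.hom_inv_id]; rfl)
      (h L (e.hom z) ?_)
    rw [← Scheme.Hom.comp_apply, he, Scheme.Hom.comp_apply, hz]
  · intro h L _ _ z hz
    let π := FBase.bcπ f K
    obtain ⟨w₀, hw₁, hw₂⟩ := Scheme.Pullback.exists_preimage_pullback (f := FBase.bcπ f L) (g := FBase.bcπ f K) z x' hz
    let P := CategoryTheory.Limits.pullback (FBase.bcπ f L) (FBase.bcπ f K)
    let M := P.residueField w₀
    let a : Spec M ⟶ P := P.fromSpecResidueField w₀
    let φL := Spec.preimage (a ≫ CategoryTheory.Limits.pullback.fst (FBase.bcπ f L) (FBase.bcπ f K) ≫ FBase.bcStr f L)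
    let φK := Spec.preimage (a ≫ CategoryTheory.Limits.pullback.snd (FBase.bcπ f L) (FBase.bcπ f K) ≫ FBase.bcStr f K)
    let _ : Algebra L M := φL.hom.toAlgebra
    let _ : Algebra K M := φK.hom.toAlgebra
    let τL := Spec.map (CommRingCat.ofHom (algebraMap L M))
    let τK := Spec.map (CommRingCat.ofHom (algebraMap K M))
    have hL : τL = a ≫ CategoryTheory.Limits.pullback.fst _ _ ≫ FBase.bcStr f L := Spec.map_preimage _
    have hK : τK = a ≫ CategoryTheory.Limits.pullback.snd _ _ ≫ FBase.bcStr f K := Spec.map_preimage _
    have hLK : τL ≫ Spec.map (CommRingCat.ofHom (algebraMap k L)) = τK ≫ σ := by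
      simp only [hL, hK, σ, FBase.bcStr, FBase.bcπ, Category.assoc, ← CategoryTheory.Limits.pullback.condition]
      erw [← CategoryTheory.Limits.pullback.condition, ← CategoryTheory.Limits.pullback.condition, CategoryTheory.Limits.pullback.condition_assoc]
      rfl
    let sK : Spec M ⟶ FBase.bc (FBase.bcStr f K) M :=
      CategoryTheory.Limits.pullback.lift (a ≫ CategoryTheory.Limits.pullback.snd _ _) (𝟙 _) (by
        rw [Category.id_comp]; exact (Category.assoc _ _ _).trans hK.symm)
    let q : FBase.bc (FBase.bcStr f K) M ⟶ FBase.bc f L :=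
      CategoryTheory.Limits.pullback.lift (FBase.bcπ (FBase.bcStr f K) M ≫ FBase.bcπ f K)
        (FBase.bcStr (FBase.bcStr f K) M ≫ τL) (by
          simp only [FBase.bcπ, FBase.bcStr, Category.assoc, hLK]
          erw [CategoryTheory.Limits.pullback.condition, CategoryTheory.Limits.pullback.condition_assoc]
          rfl)
    have hq : IsPullback q (FBase.bcStr (FBase.bcStr f K) M) (FBase.bcStr f L) τL := by
      refine IsPullback.of_right ?_ (CategoryTheory.Limits.pullback.lift_snd _ _ _) (IsPullback.of_hasPullback _ _)
      rw [show q ≫ CategoryTheory.Limits.pullback.fst _ _ = _ from CategoryTheory.Limits.pullback.lift_fst _ _ _, hLK]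
      exact (IsPullback.of_hasPullback (FBase.bcStr f K) τK).paste_horiz (IsPullback.of_hasPullback f σ)
    have : Flat q := MorphismProperty.of_isPullback hq.flip inferInstance
    let pt := IsLocalRing.closedPoint M
    refine GrothLib.FBase7.isDomain_stalk_of_flat q (sK pt) ?_ (h M (sK pt) ?_)
    · rw [← Scheme.Hom.comp_apply, show sK ≫ q = a ≫ CategoryTheory.Limits.pullback.fst _ _ from ?_,
        Scheme.Hom.comp_apply, show a pt = w₀ from Scheme.fromSpecResidueField_apply _ _, hw₁]
      apply CategoryTheory.Limits.pullback.hom_ext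
      · refine (Category.assoc _ _ _).trans ?_
        erw [CategoryTheory.Limits.pullback.lift_fst, CategoryTheory.Limits.pullback.lift_fst_assoc]
        exact (congrArg (a ≫ ·) CategoryTheory.Limits.pullback.condition.symm).trans (Category.assoc _ _ _).symm
      · refine (Category.assoc _ _ _).trans ?_
        erw [CategoryTheory.Limits.pullback.lift_snd, CategoryTheory.Limits.pullback.lift_snd_assoc, Category.id_comp]
        exact hL.trans (Category.assoc _ _ _).symm
    · rw [← Scheme.Hom.comp_apply, show sK ≫ FBase.bcπ (FBase.bcStr f K) M = a ≫ CategoryTheory.Limits.pullback.snd _ _ from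
        CategoryTheory.Limits.pullback.lift_fst _ _ _, Scheme.Hom.comp_apply,
        show a pt = w₀ from Scheme.fromSpecResidueField_apply _ _, hw₂]

end Groth.Agent.S4630
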