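import Groth.Statements.S4631
import Groth.Agent.Lib.FBase7.Points
import Groth.Agent.Lib.FBase7.Card


set_option autoImplicit false
open CategoryTheory AlgebraicGeometry
universe u
open FBase

namespace Groth.Agent.S4631

/-- Let X be a scheme over an algebraically closed field k and x a point of X. Then X is geometrically
pointwise integral at x over k if and only if the local ring of X at x is a domain. -/
theorem result {k : Type u} [Field k] [IsAlgClosed k] {X : Scheme.{u}}
    (f : X ⟶ Spec (CommRingCat.of k)) (x : X) :
    FBase.IsGeomPtIntegralAt f x ↔ IsDomain ↑(X.presheaf.stalk x) := by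
  constructor
  · intro h
    have : Surjective (FBase.bcπ f k) := MorphismProperty.pullback_fst _ _ (GrothLib.FBase7.surjective_specMap (algebraMap k k))
    obtain ⟨z, hz⟩ := (FBase.bcπ f k).surjective x
    have : Flat (FBase.bcπ f k) := MorphismProperty.pullback_fst _ _ inferInstance
    exact GrothLib.FBase7.isDomain_stalk_of_flat (FBase.bcπ f k) z (h := h k z hz) (hv := hz)
  · intro h K _ _ z hz
    subst hz
    exact GrothLib.FBase7.isDomain_stalk_pullback f _ z h

end Groth.Agent.S4631
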