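import Groth.Statements.S4633
import Groth.Agent.Lib.QuasiFlat.BaseChange
import Groth.Agent.Lib.GenMap.Basic

set_option autoImplicit false
open CategoryTheory AlgebraicGeometry
universe u
open FDesc

namespace Groth.Agent.S4633

open CategoryTheory.Limits in
/-- Let f : X → Y be a morphism such that every irreducible component of X dominates an irreducible
component of Y (the closure of its image under f is an irreducible component of Y), and let g : Y' →
Y be quasi-flat (for instance flat). Then every irreducible component of X ×_Y Y' dominates an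
irreducible component of Y'. -/
theorem result {X Y Y' : Scheme.{u}} (f : X ⟶ Y) (g : Y' ⟶ Y)
    (hf : ∀ Z ∈ irreducibleComponents ↥X, closure (⇑f '' Z) ∈ irreducibleComponents ↥Y)
    (hg : FDesc.IsQuasiFlat g) (Z' : Set ↥(pullback f g)) (hZ' : Z' ∈ irreducibleComponents ↥(pullback f g)) :
    closure (⇑(pullback.snd f g) '' Z') ∈ irreducibleComponents ↥Y' := by
  let W := pullback f g
  let p₁ : W ⟶ X := pullback.fst f g
  let p₂ : W ⟶ Y' := pullback.snd f g
  show closure (⇑p₂ '' Z') ∈ irreducibleComponents ↥Y'
  have hp₁ : GeneralizingMap p₁.base := by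
    have e : p₁ = (pullbackSymmetry f g).hom ≫ pullback.snd g f := (pullbackSymmetry_hom_comp_snd f g).symm
    intro w x hx
    rw [e, Scheme.Hom.comp_apply] at hx
    obtain ⟨w₂, hw₂, he₂⟩ := GrothLib.QuasiFlat.generalizingMap_snd g f hg hx
    refine ⟨(pullbackSymmetry f g).inv w₂, ?_, ?_⟩
    · have h := hw₂.map (pullbackSymmetry f g).inv.continuous
      rwa [← Scheme.Hom.comp_apply (pullbackSymmetry f g).hom, Iso.hom_inv_id] at h
    · rw [e, Scheme.Hom.comp_apply, ← Scheme.Hom.comp_apply (pullbackSymmetry f g).inv, Iso.inv_hom_id]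
      exact he₂
  have hη : IsGenericPoint hZ'.1.genericPoint Z' := by
    have h := hZ'.1.isGenericPoint_genericPoint_closure
    rwa [(isClosed_of_mem_irreducibleComponents Z' hZ').closure_eq] at h
  set η : W := hZ'.1.genericPoint
  have hx : closure {p₁ η} ∈ irreducibleComponents ↥X :=
    GrothLib.GenMap.closure_singleton_map_mem hp₁ hZ' hη
  have hy : closure {f (p₁ η)} ∈ irreducibleComponents ↥Y := by
    have h := hf _ hx
    rwa [closure_image_closure f.continuous, Set.image_singleton] at h
  have hz : ∀ z : Y', z ⤳ p₂ η → z = p₂ η := by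
    intro z hz
    have hcond : f (p₁ η) = g (p₂ η) := congrArg (fun φ : W ⟶ Y => φ η) pullback.condition
    set p := g (p₂ η)
    rw [hcond] at hy
    have hgz : g z = p := GrothLib.GenMap.eq_of_specializes_genericPoint hy rfl (hz.map g.continuous)
    let i := Y.fromSpecResidueField p
    let fp : pullback f i ⟶ Spec (Y.residueField p) := pullback.snd f i
    let t : g.fiber p ⟶ Spec (Y.residueField p) := g.fiberToSpecResidueField p
    haveI : IsIntegral (Spec (Y.residueField p)) := inferInstance
    haveI : Subsingleton (Spec (Y.residueField p)) := inferInstanceAs (Subsingleton (PrimeSpectrum _))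
    have hflat : GeneralizingMap (pullback.snd fp t).base := Flat.generalizingMap _
    let ψ : pullback fp t ⟶ W := pullback.lift (pullback.fst fp t ≫ pullback.fst f i)
      (pullback.snd fp t ≫ g.fiberι p) (by
        rw [Category.assoc, pullback.condition, Category.assoc, g.fiber_fac,
          ← Category.assoc, pullback.condition, Category.assoc])
    let θ : (p₂ ≫ g).fiber p ⟶ pullback fp t := pullback.lift
      (pullback.lift ((p₂ ≫ g).fiberι p ≫ p₁) ((p₂ ≫ g).fiberToSpecResidueField p) (by
        rw [Category.assoc, ← (p₂ ≫ g).fiber_fac p, show p₁ ≫ f = p₂ ≫ g from pullback.condition]))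
      (pullback.lift ((p₂ ≫ g).fiberι p ≫ p₂) ((p₂ ≫ g).fiberToSpecResidueField p) (by
        rw [Category.assoc]; exact (p₂ ≫ g).fiber_fac p))
      (by
        simp only [fp, t, Scheme.Hom.fiberToSpecResidueField]
        rw [pullback.lift_snd]
        exact (pullback.lift_snd _ _ _).symm)
    have hθ : θ ≫ ψ = (p₂ ≫ g).fiberι p := by
      apply pullback.hom_ext
      · rw [Category.assoc, pullback.lift_fst, pullback.lift_fst_assoc, pullback.lift_fst]
      · rw [Category.assoc, pullback.lift_snd, pullback.lift_snd_assoc]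
        exact pullback.lift_fst _ _ _
    obtain ⟨s, hs⟩ : η ∈ Set.range ((p₂ ≫ g).fiberι p) := by
      rw [Scheme.Hom.range_fiberι]; rfl
    obtain ⟨zp, hzp⟩ : z ∈ Set.range (g.fiberι p) := by
      rw [Scheme.Hom.range_fiberι]; exact hgz
    have hw : ψ (θ s) = η := by rw [← Scheme.Hom.comp_apply, hθ]; exact hs
    have hsnd : ∀ w, p₂ (ψ w) = g.fiberι p (pullback.snd fp t w) := fun w => by
      rw [← Scheme.Hom.comp_apply, ← Scheme.Hom.comp_apply]
      exact congrArg (fun φ : pullback fp t ⟶ Y' => φ w) (pullback.lift_snd _ _ _)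
    have hspec : zp ⤳ pullback.snd fp t (θ s) := by
      rw [← (g.fiberι p).isEmbedding.isInducing.specializes_iff, hzp, ← hsnd, hw]
      exact hz
    obtain ⟨w, hw1, hw2⟩ := hflat hspec
    have h1 : ψ w ⤳ η := hw ▸ hw1.map ψ.continuous
    rw [← GrothLib.GenMap.eq_of_specializes_genericPoint hZ' hη h1, hsnd, ← hzp]
    exact congrArg _ hw2.symm
  have := GrothLib.GenMap.closure_mem_irreducibleComponents hz
  rwa [← hη.def, closure_image_closure p₂.continuous, Set.image_singleton]

end Groth.Agent.S4633
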