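import Groth.Statements.S4636
import Groth.Agent.Lib.AssPts.Points

set_option autoImplicit false
open CategoryTheory AlgebraicGeometry
universe u
open AssSch

namespace Groth.Agent.S4636

open GrothLib.WeakAss GrothLib.AssPts in
theorem exists_ass_le {X : Scheme.{u}} [IsLocallyNoetherian X] (F : X.Modules) [F.IsQuasicoherent]
    {y : X} (hy : Nontrivial ↑(F.presheaf.stalk y)) : ∃ w : X, w ⤳ y ∧ w ∈ AssSch.Ass F := by
  obtain ⟨_, ⟨V, hV, rfl⟩, hyV, -⟩ :=
    X.isBasis_affineOpens.exists_subset_of_mem_open (Set.mem_univ y) isOpen_univ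
  have hV : IsAffineOpen V := hV
  obtain ⟨m, hm⟩ := exists_ne (0 : F.presheaf.stalk y)
  obtain ⟨c, z, hc, hz⟩ := exists_smul_eq_germ hV hyV m
  have hu : IsUnit (X.presheaf.germ V y hyV c) :=
    (Scheme.mem_basicOpen _ c y hyV).mp (notMem_primeAt_iff.mp hc)
  have hle : annSec z ≤ primeAt y hyV := fun a ha => by
    by_contra hap
    exact hm (hu.smul_eq_zero.mp (hz.trans ((germ_eq_zero_iff hV hyV z).mpr ⟨a, hap, mem_annSec.mp ha⟩)))
  obtain ⟨P, hP, hPy⟩ := Ideal.exists_minimalPrimes_le hle
  obtain ⟨w, hw, rfl⟩ := exists_point hV P hP.1.1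
  exact ⟨w, (specializes_iff hV hw hyV).mpr hPy,
    (isAssPoint_iff_isWeakAssPoint w).mpr (isWeakAssPoint_of_minimal hV z hP)⟩

/-- Let X be a locally Noetherian scheme, F a coherent O_X-module and x a point of X. Then x is a
maximal associated point of F (an associated point such that every associated point specialising to
x equals x) if and only if x is the generic point of an irreducible component of Supp F, i.e. F_x ≠
0 and every point y with F_y ≠ 0 that specialises to x equals x. -/
theorem result {X : Scheme.{u}} [IsLocallyNoetherian X] (F : X.Modules)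
    (hF : Coh.IsCoh F) (x : X) :
    (x ∈ AssSch.Ass F ∧ ∀ y ∈ AssSch.Ass F, y ⤳ x → y = x) ↔
      (Nontrivial ↑(F.presheaf.stalk x) ∧ ∀ y : X, Nontrivial ↑(F.presheaf.stalk y) → y ⤳ x → y = x) := by
  have : F.IsQuasicoherent := hF.1
  constructor
  · rintro ⟨hx, hmax⟩
    refine ⟨?_, fun y hy hyx => ?_⟩
    · by_contra hn
      have := not_nontrivial_iff_subsingleton.mp hn
      exact GrothLib.WeakAss.not_isWeakAssPoint_of_subsingleton
        ((GrothLib.WeakAss.isAssPoint_iff_isWeakAssPoint x).mp hx)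
    · obtain ⟨w, hwy, hw⟩ := exists_ass_le F hy
      have hwx := hmax w hw (hwy.trans hyx)
      subst hwx
      exact (hyx.antisymm hwy).eq
  · rintro ⟨hx, hmax⟩
    have key : ∀ y ∈ AssSch.Ass F, Nontrivial ↑(F.presheaf.stalk y) := fun y hy => by
      by_contra hn
      have := not_nontrivial_iff_subsingleton.mp hn
      exact GrothLib.WeakAss.not_isWeakAssPoint_of_subsingleton
        ((GrothLib.WeakAss.isAssPoint_iff_isWeakAssPoint y).mp hy)
    obtain ⟨w, hwx, hw⟩ := exists_ass_le F hx
    have := hmax w (key w hw) hwx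
    subst this
    exact ⟨hw, fun y hy hyx => hmax y (key y hy) hyx⟩

end Groth.Agent.S4636
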