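import Groth.Statements.S4637
import Groth.Agent.Lib.AssPts.Points
import Groth.Agent.Lib.QCoh.FT
import Mathlib.RingTheory.HopkinsLevitzki
import Mathlib.RingTheory.Artinian.Ring

set_option autoImplicit false
open CategoryTheory AlgebraicGeometry
universe u
open AssSch

namespace Groth.Agent.S4637

/-- Let X be a locally Noetherian scheme, F a coherent O_X-module and x a point of X. Then x is the
generic point of an irreducible component of Supp F (F_x ≠ 0 and every point y with F_y ≠ 0 that
specialises to x equals x) if and only if F_x is a nonzero module of finite length over the local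
ring O_{X,x}. -/
theorem result {X : Scheme.{u}} [IsLocallyNoetherian X] (F : X.Modules)
    (hF : Coh.IsCoh F) (x : X) :
    (Nontrivial ↑(F.presheaf.stalk x) ∧ ∀ y : X, Nontrivial ↑(F.presheaf.stalk y) → y ⤳ x → y = x) ↔
      (Nontrivial ↑(F.presheaf.stalk x) ∧ IsFiniteLength ↑(X.presheaf.stalk x) ↑(F.presheaf.stalk x)) := by
  have : F.IsQuasicoherent := hF.1
  obtain ⟨_, ⟨V, hV, rfl⟩, hxV, -⟩ :=
    X.isBasis_affineOpens.exists_subset_of_mem_open (Set.mem_univ x) isOpen_univ
  have hV : IsAffineOpen V := hV
  have := GrothLib.QCoh.moduleFinite_of_isFiniteType F hF.2 hV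
  have := IsLocallyNoetherian.component_noetherian ⟨V, hV⟩
  classical
  obtain ⟨G, hG⟩ := Module.Finite.fg_top (R := Γ(X, V)) (M := Γ(F, V))
  refine and_congr_right fun hx => ?_
  let R := X.presheaf.stalk x
  have hspan : Submodule.span R ((F.presheaf.germ V x hxV).hom '' (G : Set Γ(F, V))) = ⊤ := by
    rw [eq_top_iff]
    intro m _
    obtain ⟨c, z, hc, hz⟩ := GrothLib.WeakAss.exists_smul_eq_germ hV hxV m
    have hu : IsUnit (X.presheaf.germ V x hxV c) :=
      (Scheme.mem_basicOpen _ c x hxV).mp (GrothLib.WeakAss.notMem_primeAt_iff.mp hc)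
    rw [← Submodule.smul_mem_iff_of_isUnit _ hu, hz]
    have hzG : z ∈ Submodule.span Γ(X, V) (G : Set Γ(F, V)) := hG ▸ trivial
    clear hz
    induction hzG using Submodule.span_induction with
    | mem w hw => exact Submodule.subset_span ⟨w, hw, rfl⟩
    | zero => rw [map_zero]; exact zero_mem _
    | add u v _ _ hu' hv' => rw [map_add]; exact add_mem hu' hv'
    | smul r u _ hu' => rw [GrothLib.WeakAss.germ_smul]; exact Submodule.smul_mem _ _ hu'
  have : Module.Finite R ↑(F.presheaf.stalk x) :=
    ⟨⟨G.image (F.presheaf.germ V x hxV).hom, by rw [Finset.coe_image]; exact hspan⟩⟩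
  have hnR : IsNoetherianRing R := inferInstance
  constructor
  · intro hmax
    have hrad : IsLocalRing.maximalIdeal R ≤ (Module.annihilator R ↑(F.presheaf.stalk x)).radical := by
      intro a ha
      have key : ∀ z : Γ(F, V), a ∈ Ideal.radical (LinearMap.ker (LinearMap.toSpanSingleton R (F.presheaf.stalk x) (F.presheaf.germ V x hxV z))) := by
        intro z
        by_cases h0 : F.presheaf.germ V x hxV z = 0
        · exact Ideal.le_radical (by simp [h0])
        have hle : GrothLib.WeakAss.annSec z ≤ GrothLib.WeakAss.primeAt x hxV := fun b hb => by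
          by_contra hbp
          exact h0 ((GrothLib.WeakAss.germ_eq_zero_iff hV hxV z).mpr ⟨b, hbp, GrothLib.WeakAss.mem_annSec.mp hb⟩)
        have hmin : GrothLib.WeakAss.primeAt x hxV ∈ (GrothLib.WeakAss.annSec z).minimalPrimes := by
          obtain ⟨P, hP, hPx⟩ := Ideal.exists_minimalPrimes_le hle
          obtain ⟨y, hy, rfl⟩ := GrothLib.AssPts.exists_point hV P hP.1.1
          have hyx : y = x := by
            refine hmax y ?_ ((GrothLib.AssPts.specializes_iff hV hy hxV).mpr hPx)
            by_contra hn
            have := not_nontrivial_iff_subsingleton.mp hn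
            exact GrothLib.WeakAss.not_isWeakAssPoint_of_subsingleton
              (GrothLib.WeakAss.isWeakAssPoint_of_minimal hV z hP)
          subst hyx
          exact hP
        rw [(GrothLib.WeakAss.radical_eq_iff_minimal hV hxV z).mpr hmin]
        exact ha
      choose n hn using fun z => key z
      refine ⟨G.sup n, Module.mem_annihilator.mpr fun m => ?_⟩
      have hm : m ∈ Submodule.span R ((F.presheaf.germ V x hxV).hom '' (G : Set Γ(F, V))) := hspan ▸ trivial
      induction hm using Submodule.span_induction with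
      | mem w hw =>
        obtain ⟨z, hz, rfl⟩ := hw
        obtain ⟨k, hk⟩ := Nat.exists_eq_add_of_le (Finset.le_sup (f := n) hz)
        rw [hk, pow_add, mul_comm, mul_smul]
        have := hn z
        rw [LinearMap.mem_ker, LinearMap.toSpanSingleton_apply] at this
        exact (congrArg (a ^ k • ·) this).trans (smul_zero _)
      | zero => rw [smul_zero]
      | add u v _ _ hu' hv' => rw [smul_add, hu', hv', add_zero]
      | smul r u _ hu' => rw [smul_comm, hu', smul_zero]
    let I := Module.annihilator R ↑(F.presheaf.stalk x)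
    have : IsArtinianRing (R ⧸ I) := by
      rw [isArtinianRing_iff_krullDimLE_zero, Ring.krullDimLE_zero_iff]
      intro p hp
      have h1 : IsLocalRing.maximalIdeal R ≤ p.comap (Ideal.Quotient.mk I) :=
        hrad.trans ((hp.comap _).radical_le_iff.mpr fun a ha => by
          rw [Ideal.mem_comap, Ideal.Quotient.eq_zero_iff_mem.mpr ha]
          exact zero_mem _)
      have h2 := (IsLocalRing.maximalIdeal.isMaximal R).eq_of_le (hp.comap _).ne_top h1
      rw [← Ideal.map_comap_of_surjective _ Ideal.Quotient.mk_surjective p]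
      exact Or.resolve_left (Ideal.map_eq_top_or_isMaximal_of_surjective _ Ideal.Quotient.mk_surjective
        (h2 ▸ IsLocalRing.maximalIdeal.isMaximal R)) (fun h => hp.ne_top
          ((Ideal.map_comap_of_surjective _ Ideal.Quotient.mk_surjective p).symm.trans h))
    let _ : Module (R ⧸ I) ↑(F.presheaf.stalk x) := Module.IsTorsionBySet.module
      (fun m a => Module.mem_annihilator.mp a.2 m)
    have : IsScalarTower R (R ⧸ I) ↑(F.presheaf.stalk x) := Module.IsTorsionBySet.isScalarTower _
    have : Module.Finite (R ⧸ I) ↑(F.presheaf.stalk x) := Module.Finite.of_restrictScalars_finite R _ _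
    refine isFiniteLength_iff_isNoetherian_isArtinian.mpr ⟨inferInstance, ?_⟩
    exact isArtinian_of_surjective_algebraMap (S := R) (R := R ⧸ I) Ideal.Quotient.mk_surjective
  · intro hfl y hy hyx
    by_contra hne
    have hyV : y ∈ V := hyx.mem_open V.2 hxV
    have hle := (GrothLib.AssPts.specializes_iff hV hyV hxV).mp hyx
    obtain ⟨a, ha, hay⟩ : ∃ a ∈ GrothLib.WeakAss.primeAt x hxV, a ∉ GrothLib.WeakAss.primeAt y hyV := by
      by_contra! h
      exact hne (GrothLib.AssPts.primeAt_injective hV hyV hxV (le_antisymm hle h))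
    have := (isFiniteLength_iff_isNoetherian_isArtinian.mp hfl).2
    let ga : R := X.presheaf.germ V x hxV a
    have hnil : ∃ n : ℕ, ∀ m : F.presheaf.stalk x, ga ^ n • m = 0 := by
      obtain ⟨n, hn⟩ := IsArtinian.monotone_stabilizes
        ⟨fun n => OrderDual.toDual (Ideal.span {ga ^ n} • (⊤ : Submodule R ↑(F.presheaf.stalk x))),
          fun i j hij => Submodule.smul_mono_left (Ideal.span_singleton_le_span_singleton.mpr (pow_dvd_pow ga hij))⟩
      refine ⟨n, fun m => ?_⟩
      have heq : Ideal.span {ga ^ n} • (⊤ : Submodule R ↑(F.presheaf.stalk x)) =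
          Ideal.span {ga} • (Ideal.span {ga ^ n} • (⊤ : Submodule R ↑(F.presheaf.stalk x))) := by
        rw [← Submodule.smul_assoc, smul_eq_mul, Ideal.span_singleton_mul_span_singleton, ← pow_succ']
        exact hn (n + 1) n.le_succ
      have h0 := Submodule.eq_bot_of_le_smul_of_le_jacobson_bot (Ideal.span {ga}) _ (IsNoetherian.noetherian _)
        heq.le (by
          rw [Ideal.span_le, Set.singleton_subset_iff, IsLocalRing.jacobson_eq_maximalIdeal ⊥ bot_ne_top]
          exact ha)
      exact (Submodule.mem_bot R).mp (h0 ▸ Submodule.smul_mem_smul (Ideal.mem_span_singleton_self _) trivial)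
    obtain ⟨n, hn⟩ := hnil
    refine not_subsingleton_iff_nontrivial.mpr hy ⟨fun m m' => ?_⟩
    suffices ∀ m : F.presheaf.stalk y, m = 0 by rw [this m, this m']
    intro m
    obtain ⟨c, z, hc, hz⟩ := GrothLib.WeakAss.exists_smul_eq_germ hV hyV m
    have hu : IsUnit (X.presheaf.germ V y hyV c) :=
      (Scheme.mem_basicOpen _ c y hyV).mp (GrothLib.WeakAss.notMem_primeAt_iff.mp hc)
    refine hu.smul_eq_zero.mp (hz.trans ?_)
    have h1 : F.presheaf.germ V x hxV (a ^ n • z) = 0 := by
      rw [GrothLib.WeakAss.germ_smul, map_pow]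
      exact hn _
    obtain ⟨b, hb, hbz⟩ := (GrothLib.WeakAss.germ_eq_zero_iff hV hxV _).mp h1
    refine (GrothLib.WeakAss.germ_eq_zero_iff hV hyV z).mpr ⟨b * a ^ n, ?_, by rw [mul_smul]; exact hbz⟩
    exact fun h => ((inferInstance : (GrothLib.WeakAss.primeAt y hyV).IsPrime).mem_or_mem h).elim
      (fun h' => hb (hle h')) (fun h' => hay (Ideal.IsPrime.mem_of_pow_mem inferInstance n h'))

end Groth.Agent.S4637
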