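import Groth.Statements.S4638
import Groth.Agent.Lib.AssPts.Points

set_option autoImplicit false
open CategoryTheory AlgebraicGeometry
universe u
open AssSch

namespace Groth.Agent.S4638

/-- Let X be a locally Noetherian scheme, F a quasi-coherent O_X-module and f a global section of O_X.
Then f is F-regular, i.e. multiplication by the germ of f is injective on every stalk of F, if and
only if every associated point of F lies in the open subset X_f where f does not vanish. -/
theorem result {X : Scheme.{u}} [IsLocallyNoetherian X] (F : X.Modules)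
    (hF : Coh.IsQCoh F) (f : Γ(X, ⊤)) :
    (∀ x : X, IsSMulRegular ↑(F.presheaf.stalk x) (X.presheaf.germ ⊤ x trivial f)) ↔
      AssSch.Ass F ⊆ (X.basicOpen f : Set ↥X) := by
  have : F.IsQuasicoherent := hF
  constructor
  · intro h x hx
    by_contra hfx
    obtain ⟨hp, m, hm⟩ := hx
    have hfm : X.presheaf.germ ⊤ x trivial f ∈ IsLocalRing.maximalIdeal (X.presheaf.stalk x) := by
      rw [IsLocalRing.mem_maximalIdeal]
      exact fun hu => hfx ((Scheme.mem_basicOpen _ f x trivial).mpr hu)
    rw [hm] at hfm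
    obtain ⟨n, hn⟩ := hfm
    rw [Submodule.mem_colon_singleton, Submodule.mem_bot] at hn
    have hm0 : m = 0 := ((h x).pow n) (hn.trans (smul_zero _).symm)
    refine hp.ne_top ?_
    rw [hm, hm0]
    simp
  · intro h x
    rw [isSMulRegular_iff_right_eq_zero_of_smul]
    intro e he
    obtain ⟨_, ⟨V, hV, rfl⟩, hxV, -⟩ :=
      X.isBasis_affineOpens.exists_subset_of_mem_open (Set.mem_univ x) isOpen_univ
    have hV : IsAffineOpen V := hV
    obtain ⟨c, z, hc, hz⟩ := GrothLib.WeakAss.exists_smul_eq_germ hV hxV e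
    let g : Γ(X, V) := X.presheaf.map (homOfLE (le_top (a := V))).op f
    have hg : ∀ w (hw : w ∈ V), X.presheaf.germ V w hw g = X.presheaf.germ ⊤ w trivial f := fun w hw =>
      TopCat.Presheaf.germ_res_apply X.presheaf (homOfLE (le_top (a := V))) w hw f
    have h1 : F.presheaf.germ V x hxV (g • z) = 0 := by
      rw [GrothLib.WeakAss.germ_smul, ← hz, hg, smul_comm, he, smul_zero]
    obtain ⟨c', hc', hcz⟩ := (GrothLib.WeakAss.germ_eq_zero_iff hV hxV _).mp h1
    have h2 : c' • z = 0 := by
      refine GrothLib.WeakAss.eq_zero_of_germ _ fun w hw hwa => ?_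
      have hu : IsUnit (X.presheaf.germ ⊤ w trivial f) :=
        (Scheme.mem_basicOpen _ f w trivial).mp (h ((GrothLib.WeakAss.isAssPoint_iff_isWeakAssPoint w).mpr hwa))
      refine hu.smul_eq_zero.mp ?_
      rw [← hg w hw, ← GrothLib.WeakAss.germ_smul, smul_comm, hcz, map_zero]
    have hu : IsUnit (X.presheaf.germ V x hxV c) :=
      (Scheme.mem_basicOpen _ c x hxV).mp (GrothLib.WeakAss.notMem_primeAt_iff.mp hc)
    refine hu.smul_eq_zero.mp (hz.trans ?_)
    exact (GrothLib.WeakAss.germ_eq_zero_iff hV hxV z).mpr ⟨c', hc', h2⟩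

end Groth.Agent.S4638
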