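import Groth.Statements.S4639
import Groth.Agent.Lib.QuasiFlat.Embed

set_option autoImplicit false
open CategoryTheory AlgebraicGeometry
universe u
open FDesc

namespace Groth.Agent.S4639

/-- The property of being quasi-compact and universally bicontinuous (every base change is a
homeomorphism onto its image) descends along a surjective, flat and quasi-compact base change. -/
theorem result :
    MorphismProperty.DescendsAlong
      (MorphismProperty.universally (topologically (fun f => Topology.IsEmbedding f)) ⊓ @QuasiCompact : MorphismProperty Scheme.{u})
      (@Surjective ⊓ @Flat ⊓ @QuasiCompact : MorphismProperty Scheme.{u}) := by
  exact GrothLib.QuasiFlat.descendsAlong_universally_embedding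

end Groth.Agent.S4639
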