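import Groth.Statements.S4640
import Mathlib.RingTheory.Flat.TorsionFree
import Mathlib.RingTheory.Localization.BaseChange
import Mathlib.RingTheory.TensorProduct.Basic

set_option autoImplicit false
universe u
open FDesc

namespace Groth.Agent.S4640

open TensorProduct in
/-- Let A be a Dedekind domain with fraction field K, M an A-module and P' a K-submodule of K ⊗_A M. Let
φ : M → (K ⊗_A M)/P' be m ↦ class of 1 ⊗ m. Then a submodule Q of M equals ker φ if and only if M/Q
is a flat A-module and the kernel of the induced surjection K ⊗_A M → K ⊗_A (M/Q) is P'. Thus M/ker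
φ is the unique flat quotient of M with generic fibre (K ⊗_A M)/P'. (The published statement takes A
Noetherian, regular and of dimension 1; a field is allowed here, where the statement is immediate.) -/
theorem result {A K : Type u} [CommRing A] [IsDedekindDomain A] [Field K]
    [Algebra A K] [IsFractionRing A K] {M : Type u} [AddCommGroup M] [Module A M]
    (P' : Submodule K (K ⊗[A] M)) (Q : Submodule A M) :
    Q = LinearMap.ker ((P'.restrictScalars A).mkQ ∘ₗ TensorProduct.mk A K M 1) ↔
      (Module.Flat A (M ⧸ Q) ∧ LinearMap.ker (Q.mkQ.baseChange K) = P') := by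
  set ψ := (P'.restrictScalars A).mkQ ∘ₗ TensorProduct.mk A K M 1 with hψ
  have hker : ∀ m, m ∈ LinearMap.ker ψ ↔ (1 : K) ⊗ₜ[A] m ∈ P' := fun m => by
    simp [hψ, Submodule.Quotient.mk_eq_zero]
  constructor
  · rintro rfl
    constructor
    · have : Module.IsTorsionFree A (M ⧸ LinearMap.ker ψ) := by
        refine Module.IsTorsionFree.of_smul_eq_zero fun a x hax => ?_
        obtain ⟨m, rfl⟩ := Submodule.Quotient.mk_surjective _ x
        by_cases ha : a = 0
        · exact Or.inl ha
        refine Or.inr ((Submodule.Quotient.mk_eq_zero _).2 ((hker m).2 ?_))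
        rw [← Submodule.Quotient.mk_smul, Submodule.Quotient.mk_eq_zero, hker, TensorProduct.tmul_smul] at hax
        have hne : algebraMap A K a ≠ 0 := by simpa using (IsFractionRing.injective A K).ne ha
        have := P'.smul_mem (algebraMap A K a)⁻¹ hax
        rwa [← algebraMap_smul K a, inv_smul_smul₀ hne] at this
      infer_instance
    · ext z
      obtain ⟨a, s, rfl⟩ : ∃ m : M, ∃ s : nonZeroDivisors A, z = (algebraMap A K s)⁻¹ ⊗ₜ m := by
        obtain ⟨⟨m, s⟩, h⟩ := IsLocalizedModule.surj (nonZeroDivisors A) (TensorProduct.mk A K M 1) z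
        refine ⟨m, s, ?_⟩
        have hne : algebraMap A K s ≠ 0 := IsFractionRing.to_map_ne_zero_of_mem_nonZeroDivisors s.2
        have : (algebraMap A K (s : A)) • z = (1 : K) ⊗ₜ[A] m := by rw [algebraMap_smul]; exact h
        rw [← inv_smul_smul₀ hne z, this, TensorProduct.smul_tmul', smul_eq_mul, mul_one]
      have hne : (algebraMap A K (s : A))⁻¹ ≠ 0 := inv_ne_zero (IsFractionRing.to_map_ne_zero_of_mem_nonZeroDivisors s.2)
      have e : (algebraMap A K (s : A))⁻¹ ⊗ₜ[A] a = (algebraMap A K (s : A))⁻¹ • ((1 : K) ⊗ₜ[A] a) := by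
        rw [TensorProduct.smul_tmul', smul_eq_mul, mul_one]
      rw [e, Submodule.smul_mem_iff _ hne, Submodule.smul_mem_iff _ hne, ← hker, LinearMap.mem_ker,
        LinearMap.baseChange_tmul]
      have hinj : Function.Injective (TensorProduct.mk A K (M ⧸ LinearMap.ker ψ) 1) := by
        intro x y hxy
        obtain ⟨x, rfl⟩ := Submodule.Quotient.mk_surjective _ x
        obtain ⟨y, rfl⟩ := Submodule.Quotient.mk_surjective _ y
        let g : (M ⧸ LinearMap.ker ψ) →ₗ[A] (K ⊗[A] M) ⧸ P' := (LinearMap.ker ψ).liftQ
          ((P'.mkQ.restrictScalars A) ∘ₗ TensorProduct.mk A K M 1) (fun m hm =>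
            (Submodule.Quotient.mk_eq_zero _).2 ((hker m).1 hm))
        have h := congrArg (g.liftBaseChange K) hxy
        rw [Submodule.Quotient.eq, hker, TensorProduct.tmul_sub, ← Submodule.Quotient.eq]
        simpa [g] using h
      rw [show Submodule.mkQ (LinearMap.ker ψ) a = Submodule.Quotient.mk a from rfl]
      exact ⟨fun h => (Submodule.Quotient.mk_eq_zero _).1 (hinj (h.trans (map_zero (TensorProduct.mk A K _ 1)).symm)),
        fun h => by rw [(Submodule.Quotient.mk_eq_zero _).2 h, TensorProduct.tmul_zero]⟩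
  · rintro ⟨hflat, rfl⟩
    ext m
    rw [hker, LinearMap.mem_ker, LinearMap.baseChange_tmul]
    refine ⟨fun h => by rw [Submodule.mkQ_apply, (Submodule.Quotient.mk_eq_zero _).2 h, TensorProduct.tmul_zero], fun h => ?_⟩
    have hinj : Function.Injective ((Algebra.linearMap A K).rTensor (M ⧸ Q)) :=
      Module.Flat.rTensor_preserves_injective_linearMap _ (IsFractionRing.injective A K)
    refine (Submodule.Quotient.mk_eq_zero _).1 ((TensorProduct.lid A (M ⧸ Q)).symm.injective (hinj ?_))
    simpa using h

end Groth.Agent.S4640
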