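import Groth.Statements.S4641
import Groth.Agent.Lib.AssPts.Flat

set_option autoImplicit false
open CategoryTheory AlgebraicGeometry
universe u
open AssSch

namespace Groth.Agent.S4641

/-- Let f : X → Y be a morphism of locally Noetherian schemes such that Y has no embedded associated
points, and let F be a quasi-coherent O_X-module which is flat over Y. Then for every associated
point x of F, f(x) is a maximal point of Y (every point of Y specialising to f(x) equals f(x)). (The
published statement assumes only Y locally Noetherian; X is taken locally Noetherian here so that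
associated points are those whose maximal ideal is an annihilator.) -/
theorem result {X Y : Scheme.{u}} (f : X ⟶ Y) [IsLocallyNoetherian X]
    [IsLocallyNoetherian Y] (hY : AssSch.NoEmbedded (Coh.structureModule Y)) (F : X.Modules) (hF : Coh.IsQCoh F)
    (hfl : FlatMod.IsFlatOver f F) (x : X) (hx : x ∈ AssSch.Ass F) (y : Y) (hy : y ⤳ f x) : y = f x := by
  have hfx : f x ∈ AssSch.Ass (Coh.structureModule Y) := GrothLib.AssPts.map_mem_ass f F (hfl x) hx
  obtain ⟨_, ⟨V, hV, rfl⟩, hyV', -⟩ :=
    Y.isBasis_affineOpens.exists_subset_of_mem_open (Set.mem_univ (f x)) isOpen_univ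
  have hV : IsAffineOpen V := hV
  have hyV : y ∈ V := hy.mem_open V.2 hyV'
  obtain ⟨P, hP, hPy⟩ := Ideal.exists_minimalPrimes_le (I := (⊥ : Ideal Γ(Y, V)))
    (J := GrothLib.WeakAss.primeAt y hyV) bot_le
  obtain ⟨w, hw, rfl⟩ := GrothLib.AssPts.exists_point hV P hP.1.1
  have hwy : w ⤳ y := (GrothLib.AssPts.specializes_iff hV hw hyV).mpr hPy
  have hwa : w ∈ AssSch.Ass (Coh.structureModule Y) := by
    refine (GrothLib.WeakAss.isAssPoint_iff_isWeakAssPoint w).mpr
      (GrothLib.WeakAss.isWeakAssPoint_of_maximal ?_ fun w' _ hw' => ?_)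
    · obtain ⟨e⟩ := GrothLib.AssPts.exists_stalk_unit_equiv w
      have : Nontrivial ((Coh.structureModule Y).presheaf.stalk w) := e.symm.toEquiv.nontrivial
      exact not_subsingleton_iff_nontrivial.mpr this
    · have hw'V : w' ∈ V := hw'.mem_open V.2 hw
      have h1 := (GrothLib.AssPts.specializes_iff hV hw'V hw).mp hw'
      exact GrothLib.AssPts.primeAt_injective hV hw'V hw (le_antisymm h1 (hP.2 ⟨inferInstance, bot_le⟩ h1))
  have hwfx : f x = w := hY _ hfx w hwa (hwy.trans hy)
  rw [hwfx] at hy ⊢
  exact (hy.antisymm hwy).eq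

end Groth.Agent.S4641
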