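import Groth.Statements.S4644
import Groth.Agent.Lib.FBase7.Dim


set_option autoImplicit false
open CategoryTheory AlgebraicGeometry
universe u
open FBase

namespace Groth.Agent.S4644

/-- Let Y be a nonempty scheme locally of finite type over a field k whose irreducible components all
have the same dimension, and let Z be a locally closed subset of Y (the underlying set of a
subscheme). Then Z is nowhere dense in Y if and only if dim Z < dim Y. (For Y empty the left side
holds and the right side fails, so Y is taken nonempty; dimensions are Krull dimensions of the
underlying spaces.) -/
theorem result {k : Type u} [Field k] {Y : Scheme.{u}} [Nonempty ↥Y]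
    (g : Y ⟶ Spec (CommRingCat.of k)) [LocallyOfFiniteType g]
    (heq : ∀ T ∈ irreducibleComponents ↥Y, topologicalKrullDim ↥T = topologicalKrullDim ↥Y)
    (Z : Set ↥Y) (hZ : IsLocallyClosed Z) :
    IsNowhereDense Z ↔ topologicalKrullDim ↥Z < topologicalKrullDim ↥Y := by
  exact GrothLib.FBase7.isNowhereDense_iff_dim_lt g heq Z hZ

end Groth.Agent.S4644
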