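import Groth.Statements.S4645
import Groth.Agent.Lib.FBase7.Embeds


set_option autoImplicit false
open CategoryTheory AlgebraicGeometry
universe u
open FBase

namespace Groth.Agent.S4645

/-- Let X be a scheme over a field k with finitely many connected components, each of which contains a
point x such that the separable algebraic closure of k in κ(x) has finite degree over k. Then there
is a finite separable extension k'' of k such that all connected components of X ⊗_k k'' are
geometrically connected over k'': for every extension field K of k'' and every point x' of X ⊗_k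
k'', the inverse image in (X ⊗_k k'') ⊗_{k''} K of the connected component of x' is connected. -/
theorem result {k : Type u} [Field k] {X : Scheme.{u}}
    (f : X ⟶ Spec (CommRingCat.of k)) [Finite (_root_.ConnectedComponents ↥X)]
    (hx : ∀ c : _root_.ConnectedComponents ↥X, ∃ x : X, _root_.ConnectedComponents.mk x = c ∧
      FBase.ResidueFieldProp f x (fun K _ _ => FiniteDimensional k (separableClosure k K))) :
    ∃ (k'' : Type u) (_ : Field k'') (_ : Algebra k k''), FiniteDimensional k k'' ∧ Algebra.IsSeparable k k'' ∧
      ∀ (K : Type u) [Field K] [Algebra k'' K] (x' : ↥(FBase.bc f k'')),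
        _root_.IsConnected (⇑(FBase.bcπ (FBase.bcStr f k'') K) ⁻¹' connectedComponent x') := by
  let _ : X.Over (Spec (CommRingCat.of k)) := ⟨f⟩
  choose p hp hres using hx
  obtain ⟨L, i1, i2, hfd, hsep, hnor, hj⟩ := GrothLib.FBase7.exists_galois_receiving k X p (fun c => by
    obtain ⟨φ, hφ, h⟩ := hres c
    obtain rfl := GrothLib.FBase7.resMap_eq k X hφ
    exact h)
  refine ⟨L, i1, i2, hfd, hsep, fun K _ _ x' => ?_⟩
  let z : X := Curv2.bcFst k X L x'
  refine GrothLib.FBase7.isConnected_preimage_component_of_embedding k X (p (ConnectedComponents.mk z))
    (hj (ConnectedComponents.mk z)).some x' ?_ K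
  exact ConnectedComponents.coe_eq_coe'.1 (hp (ConnectedComponents.mk z))

end Groth.Agent.S4645
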