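import Groth.Statements.S4647
import Mathlib
import Groth.Agent.Lib.LocIntegral.Basic

set_option autoImplicit false
open CategoryTheory AlgebraicGeometry
universe u
open FDesc

namespace Groth.Agent.S4647

/-- Let f : X → Y be a faithfully flat (flat and surjective) morphism. If all local rings of X are
domains (in particular if X is locally integral) and the underlying space of Y is locally
Noetherian, then Y is locally integral: every point of Y has an open neighbourhood which is an
integral scheme. -/
theorem result {X Y : Scheme.{u}} (f : X ⟶ Y) [Flat f] [Surjective f]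
    (hX : ∀ x : X, IsDomain ↑(X.presheaf.stalk x))
    (hY : ∀ y : Y, ∃ U : Y.Opens, y ∈ U ∧ TopologicalSpace.NoetherianSpace ↥U) (y : Y) :
    ∃ U : Y.Opens, y ∈ U ∧ IsIntegral (U : Scheme.{u}) := by
  haveI hdom : ∀ y : Y, IsDomain (Y.presheaf.stalk y) := by
    intro y
    obtain ⟨x, rfl⟩ := f.surjective y
    letI := (f.stalkMap x).hom.toAlgebra
    haveI : Module.Flat (Y.presheaf.stalk (f x)) (X.presheaf.stalk x) := Flat.stalkMap f x
    haveI : IsLocalHom (algebraMap (Y.presheaf.stalk (f x)) (X.presheaf.stalk x)) :=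
      inferInstanceAs (IsLocalHom (f.stalkMap x).hom)
    haveI := Module.FaithfullyFlat.of_flat_of_isLocalHom (A := Y.presheaf.stalk (f x)) (B := X.presheaf.stalk x)
    exact (FaithfulSMul.algebraMap_injective (Y.presheaf.stalk (f x)) (X.presheaf.stalk x)).isDomain _
  haveI : IsReduced Y := AlgebraicGeometry.isReduced_of_isReduced_stalk Y
  obtain ⟨W, hyW, hW⟩ := hY y
  obtain ⟨U, hU, hyU, hUW⟩ := exists_isAffineOpen_mem_and_subset hyW
  haveI : TopologicalSpace.NoetherianSpace U :=
    (Topology.IsEmbedding.inclusion hUW).toIsInducing.noetherianSpace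
  haveI : TopologicalSpace.NoetherianSpace (Spec Γ(Y, U)) :=
    hU.isoSpec.inv.homeomorph.isInducing.noetherianSpace
  haveI : IsAffine U := hU
  have hfin : (minimalPrimes Γ(Y, U)).Finite := by
    rw [← PrimeSpectrum.vanishingIdeal_irreducibleComponents]
    exact (TopologicalSpace.NoetherianSpace.finite_irreducibleComponents
      (α := Spec Γ(Y, U))).image _
  let p := hU.primeIdealOf ⟨y, hyU⟩
  haveI hp : IsDomain (Localization.AtPrime p.asIdeal) := by
    haveI := hdom y
    letI := TopCat.Presheaf.algebra_section_stalk Y.presheaf (⟨y, hyU⟩ : U)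
    haveI := hU.isLocalization_stalk ⟨y, hyU⟩
    exact (IsLocalization.algEquiv p.asIdeal.primeCompl (Localization.AtPrime p.asIdeal)
      (Y.presheaf.stalk y)).toMulEquiv.isDomain
  obtain ⟨g, hg, hdomg⟩ := GrothLib.LocIntegral.exists_away_isDomain hfin p.asIdeal
  have hyg : y ∈ Y.basicOpen g := by
    have : p ∈ hU.fromSpec ⁻¹ᵁ Y.basicOpen g := by
      rw [hU.fromSpec_preimage_basicOpen]; exact hg
    have h2 : hU.fromSpec p ∈ Y.basicOpen g := this
    rwa [show hU.fromSpec p = y from hU.fromSpec_primeIdealOf ⟨y, hyU⟩] at h2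
  refine ⟨Y.basicOpen g, hyg, ?_⟩
  haveI : IsAffine (Y.basicOpen g) := hU.basicOpen g
  haveI : Nonempty (Y.basicOpen g : Scheme.{u}) := ⟨⟨y, hyg⟩⟩
  haveI := hU.isLocalization_basicOpen g
  haveI : IsDomain Γ(Y, Y.basicOpen g) :=
    (IsLocalization.algEquiv (Submonoid.powers g) Γ(Y, Y.basicOpen g) (Localization.Away g)).toMulEquiv.isDomain
  haveI : IsDomain Γ((Y.basicOpen g : Scheme.{u}), ⊤) :=
    (Y.basicOpen g).topIso.commRingCatIsoToRingEquiv.toMulEquiv.isDomain
  exact isIntegral_of_isAffine_of_isDomain _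

end Groth.Agent.S4647
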