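import Groth.Statements.S4648
import Groth.Agent.Lib.QuasiFlat.ProCons

set_option autoImplicit false
open CategoryTheory AlgebraicGeometry
universe u
open FDesc

namespace Groth.Agent.S4648

/-- Let f : X → Y be a quasi-flat, surjective and quasi-compact morphism and Z a subset of Y. Then Z is
a locally closed pro-constructible subset of Y if and only if f⁻¹(Z) is a locally closed
pro-constructible subset of X. -/
theorem result {X Y : Scheme.{u}} (f : X ⟶ Y)
    (hf : FDesc.IsQuasiFlat f) [Surjective f] [QuasiCompact f] (Z : Set ↥Y) :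
    (IsLocallyClosed Z ∧ ProCons.IsProConstructible Z) ↔
      (IsLocallyClosed (⇑f ⁻¹' Z) ∧ ProCons.IsProConstructible (⇑f ⁻¹' Z)) := by
  exact GrothLib.QuasiFlat.isLocallyClosed_iff f (GrothLib.QuasiFlat.generalizingMap f hf) Z

end Groth.Agent.S4648
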