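import Groth.Statements.S4653
import Groth.Agent.Lib.MaxSupp.Basic

set_option autoImplicit false
open CategoryTheory AlgebraicGeometry
universe u
open FDesc

namespace Groth.Agent.S4653

/-- Let f : X → Y be a morphism of schemes, F a quasi-coherent O_X-module of finite type which is flat
over Y, E a quasi-coherent O_Y-module of finite type, and x a point of X with image y. Then x is a
maximal point of the support of f^*E ⊗ F (a point of the support admitting no proper generization in
it) if and only if y is a maximal point of Supp E and x, viewed in the fibre f⁻¹(y), is a maximal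
point of the support of the restriction of F to that fibre. -/
theorem result {X Y : Scheme.{u}} (f : X ⟶ Y) (F : X.Modules) (hF : Coh.IsCoh F)
    (hfl : FlatMod.IsFlatOver f F) (E : Y.Modules) (hE : Coh.IsCoh E) (x : X) :
    (x ∈ CohB1.support (CohB1.tensorMod ((Scheme.Modules.pullback f).obj E) F) ∧
        ∀ z ∈ CohB1.support (CohB1.tensorMod ((Scheme.Modules.pullback f).obj E) F), z ⤳ x → z = x) ↔
      ((f x ∈ CohB1.support E ∧ ∀ w ∈ CohB1.support E, w ⤳ f x → w = f x) ∧
        (f.asFiber x ∈ CohB1.support ((Scheme.Modules.pullback (f.fiberι (f x))).obj F) ∧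
          ∀ z ∈ CohB1.support ((Scheme.Modules.pullback (f.fiberι (f x))).obj F), z ⤳ f.asFiber x → z = f.asFiber x)) := by
  exact GrothLib.MaxSupp.maximal_iff f F hF hfl E hE x

end Groth.Agent.S4653
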