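import Groth.Statements.S4657
import Groth.Agent.Lib.AssPts.Restrict

set_option autoImplicit false
open CategoryTheory AlgebraicGeometry
universe u
open AssSch

namespace Groth.Agent.S4657

/-- Let X be a locally Noetherian scheme, U an open subset of X and F a coherent O_X-module such that U
∩ Supp F is dense in Supp F. Then F is a reduced module if and only if its restriction to U is a
reduced module and F has no embedded associated points. -/
theorem result {X : Scheme.{u}} [IsLocallyNoetherian X] (U : X.Opens) (F : X.Modules)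
    (hF : Coh.IsCoh F) (hdense : CohB1.support F ⊆ closure ((U : Set ↥X) ∩ CohB1.support F)) :
    AssSch.IsReducedMod F ↔ AssSch.IsReducedMod ((Scheme.Modules.pullback U.ι).obj F) ∧ AssSch.NoEmbedded F := by
  have htr := GrothLib.AssPts.restrict_transport F U
  have hin : Topology.IsInducing U.ι := U.ι.isOpenEmbedding.isInducing
  constructor
  · rintro ⟨hne, hlen⟩
    refine ⟨⟨fun a ha b hb hab => U.ι.isOpenEmbedding.injective ?_, fun a ha => ?_⟩, hne⟩
    · exact hne _ ((htr a).1.mp ha) _ ((htr b).1.mp hb) (hab.map U.ι.continuous)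
    · rw [(htr a).2]
      exact hlen _ ((htr a).1.mp ha)
  · rintro ⟨⟨-, hlen⟩, hne⟩
    refine ⟨hne, fun x hx => ?_⟩
    have hxU : x ∈ U := by
      obtain ⟨_, ⟨V, hV, rfl⟩, hxV, -⟩ :=
        X.isBasis_affineOpens.exists_subset_of_mem_open (Set.mem_univ x) isOpen_univ
      have hfin := (GrothLib.AssPts.finite_ass_inter_affine F hF hV).inter_of_left (U : Set X)
      have hcl : x ∈ closure ((AssSch.Ass F ∩ (V : Set X)) ∩ (U : Set X)) := by
        rw [mem_closure_iff]
        intro W hW hxW
        obtain ⟨z, ⟨hzW, hzV⟩, hzU, hz⟩ := mem_closure_iff.mp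
          (hdense (GrothLib.AssPts.mem_support_of_isAssPoint F hx)) (W ∩ (V : Set X)) (hW.inter V.isOpen)
          ⟨hxW, hxV⟩
        obtain ⟨y, hy, hyz⟩ := GrothLib.AssPts.exists_ass_specializes F hF hz
        exact ⟨y, hyz.mem_open hW hzW, ⟨hy, hyz.mem_open V.isOpen hzV⟩, hyz.mem_open U.isOpen hzU⟩
      rw [← Set.biUnion_of_singleton ((AssSch.Ass F ∩ (V : Set X)) ∩ (U : Set X)),
        hfin.closure_biUnion, Set.mem_iUnion₂] at hcl
      obtain ⟨y, ⟨⟨hy, -⟩, hyU⟩, hyx⟩ := hcl
      rw [hne x hx y hy (specializes_iff_mem_closure.mpr hyx)]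
      exact hyU
    have hx' : x = U.ι (⟨x, hxU⟩ : U) := rfl
    have h := hlen (⟨x, hxU⟩ : U) ((htr _).1.mpr hx)
    rw [(htr _).2] at h
    exact h

end Groth.Agent.S4657
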