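import Groth.Statements.S4658
import Groth.Agent.Lib.AssPts.Cyclic
import Groth.Agent.Lib.AssPts.Restrict
import Groth.Agent.Lib.QCoh.Pieces

set_option autoImplicit false
open CategoryTheory AlgebraicGeometry
universe u
open AssSch

namespace Groth.Agent.S4658

open CategoryTheory AlgebraicGeometry Opposite

theorem ann_one {X : Scheme.{u}} (x : X) {W : X.Opens} (hW : IsAffineOpen W) (hx : x ∈ W) (a : Γ(X, W)) :
    a ∈ GrothLib.WeakAss.primeAt x hx ↔
      a • (show Γ(GrothLib.QCoh.pushUnit
        (Scheme.IdealSheafData.vanishingIdeal ⟨closure {x}, isClosed_closure⟩).subschemeι, W) from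
        (1 : Γ((Scheme.IdealSheafData.vanishingIdeal ⟨closure {x}, isClosed_closure⟩).subscheme,
          (Scheme.IdealSheafData.vanishingIdeal ⟨closure {x}, isClosed_closure⟩).subschemeι ⁻¹ᵁ W))) = 0 := by
  set I := Scheme.IdealSheafData.vanishingIdeal ⟨closure {x}, isClosed_closure⟩
  change _ ↔ (I.subschemeι.app W).hom a * (1 : Γ(I.subscheme, I.subschemeι ⁻¹ᵁ W)) = 0
  rw [mul_one, ← RingHom.mem_ker, ← Scheme.Hom.ker_apply I.subschemeι ⟨W, hW⟩,
    Scheme.IdealSheafData.ker_subschemeι, GrothLib.QCoh.mem_vanishingIdeal_iff]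
  constructor
  · intro ha y _ hy hya
    exact GrothLib.WeakAss.notMem_primeAt_iff.mpr
      ((specializes_iff_mem_closure.2 hy).mem_open (X.basicOpen a).isOpen hya) ha
  · intro h
    by_contra ha
    exact h x hx (subset_closure rfl) (GrothLib.WeakAss.notMem_primeAt_iff.mp ha)

/-- Let X be a locally Noetherian scheme, F a quasi-coherent O_X-module and x a point of X; let Z be the
reduced closed subscheme of X whose underlying space is the closure of x, and O_Z its structure
sheaf viewed as an O_X-module. Then x is an associated point of F if and only if x has an open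
neighbourhood U over which there is a monomorphism of O_U-modules O_Z|_U → F|_U. -/
theorem result {X : Scheme.{u}} [IsLocallyNoetherian X] (F : X.Modules)
    (hF : Coh.IsQCoh F) (x : X) :
    x ∈ AssSch.Ass F ↔ ∃ (U : X.Opens), x ∈ U ∧
      ∃ φ : (Scheme.Modules.pullback U.ι).obj
              ((Scheme.Modules.pushforward (Scheme.IdealSheafData.vanishingIdeal ⟨closure {x}, isClosed_closure⟩).subschemeι).obj
                (Coh.structureModule (Scheme.IdealSheafData.vanishingIdeal ⟨closure {x}, isClosed_closure⟩).subscheme)) ⟶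
            (Scheme.Modules.pullback U.ι).obj F, Mono φ := by
  classical
  set I := Scheme.IdealSheafData.vanishingIdeal ⟨closure {x}, isClosed_closure⟩
  have : F.IsQuasicoherent := hF
  let Q := GrothLib.QCoh.pushUnit I.subschemeι
  have hQ : Coh.IsCoh Q := GrothLib.QCoh.pushUnit_isCoh I.subschemeι
  have hQq : Q.IsQuasicoherent := hQ.1
  constructor
  · intro hx
    obtain ⟨V, hV, hxV⟩ : ∃ V : X.Opens, IsAffineOpen V ∧ x ∈ V := by
      obtain ⟨_, ⟨V, hV, rfl⟩, hxV, -⟩ :=
        X.isBasis_affineOpens.exists_subset_of_mem_open (Set.mem_univ x) isOpen_univ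
      exact ⟨V, hV, hxV⟩
    refine ⟨V, hxV, ?_⟩
    haveI : IsAffine (V : Scheme.{u}) := hV
    let W : X.Opens := V.ι ''ᵁ ⊤
    have hWV : W = V := V.ι_image_top
    have hW : IsAffineOpen W := hWV ▸ hV
    have hxW : x ∈ W := hWV.symm ▸ hxV
    have := IsLocallyNoetherian.component_noetherian ⟨W, hW⟩
    have hass := (GrothLib.AssPts.ass_iff F hW hxW).mp hx
    rw [AssociatedPrimes.mem_iff, isAssociatedPrime_iff] at hass
    obtain ⟨-, z, hz⟩ := hass
    haveI : (Q.restrict V.ι).IsQuasicoherent := inferInstance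
    haveI : (F.restrict V.ι).IsQuasicoherent := inferInstance
    have hsm : ∀ (G : X.Modules) (b : Γ(X, W)) (g : Γ(G, W)),
        (show Γ((V : Scheme.{u}), ⊤) from (V.ι.appIso ⊤).hom.hom b) • (show Γ(G.restrict V.ι, ⊤) from g) =
          (show Γ(G.restrict V.ι, ⊤) from b • g) := fun G b g => by
      change (V.ι.appIso ⊤).inv.hom ((V.ι.appIso ⊤).hom.hom b) • g = b • g
      rw [← CommRingCat.comp_apply, Iso.hom_inv_id]
      rfl
    let one : Γ(Q, W) := (1 : Γ(I.subscheme, I.subschemeι ⁻¹ᵁ W))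
    obtain ⟨φ, hφ⟩ := GrothLib.AssPts.exists_mono_of_ann_eq (Q.restrict V.ι) (F.restrict V.ι)
      (show Γ(Q.restrict V.ι, ⊤) from one) (show Γ(F.restrict V.ι, ⊤) from z)
      (fun w => by
        obtain ⟨a, ha⟩ := I.subschemeι.app_surjective W hW w
        refine ⟨(V.ι.appIso ⊤).hom.hom a, (hsm Q a one).trans ?_⟩
        exact (show (show Γ(Q, W) from (I.subschemeι.app W).hom a * (1 : Γ(I.subscheme, I.subschemeι ⁻¹ᵁ W))) = w from
          (congrArg (fun t : Γ(I.subscheme, I.subschemeι ⁻¹ᵁ W) => (show Γ(Q, W) from t)) (mul_one _)).trans ha))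
      (fun a => by
        obtain ⟨b, rfl⟩ : ∃ b, (V.ι.appIso ⊤).hom.hom b = a := ⟨(V.ι.appIso ⊤).inv.hom a, by
          rw [← CommRingCat.comp_apply, Iso.inv_hom_id]; rfl⟩
        refine ((hsm Q b one).congr_left.trans (ann_one x hW hxW b).symm).trans ?_
        refine Iff.trans ?_ (hsm F b z).congr_left.symm
        rw [hz, Submodule.mem_colon_singleton, Submodule.mem_bot]
        rfl)
    refine ⟨((Scheme.Modules.restrictFunctorIsoPullback V.ι).app Q).inv ≫ φ ≫
      ((Scheme.Modules.restrictFunctorIsoPullback V.ι).app F).hom, inferInstance⟩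
  · rintro ⟨U, hxU, φ, hφ⟩
    have hxQ : x ∈ AssSch.Ass Q := by
      obtain ⟨_, ⟨V, hV, rfl⟩, hxV, -⟩ :=
        X.isBasis_affineOpens.exists_subset_of_mem_open (Set.mem_univ x) isOpen_univ
      have hV : IsAffineOpen V := hV
      have := IsLocallyNoetherian.component_noetherian ⟨V, hV⟩
      refine (GrothLib.AssPts.ass_iff Q hV hxV).mpr ?_
      rw [AssociatedPrimes.mem_iff, isAssociatedPrime_iff]
      refine ⟨inferInstance, show Γ(Q, V) from (1 : Γ(I.subscheme, I.subschemeι ⁻¹ᵁ V)), ?_⟩
      ext a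
      rw [Submodule.mem_colon_singleton, Submodule.mem_bot]
      exact ann_one x hV hxV a
    have h := ((GrothLib.AssPts.restrict_transport Q U ⟨x, hxU⟩).1.mpr hxQ).map_of_injective
      (f := GrothLib.QCoh.stalkLin φ (⟨x, hxU⟩ : U)) (GrothLib.QCoh.stalkLin_injective φ _)
    exact (GrothLib.AssPts.restrict_transport F U ⟨x, hxU⟩).1.mp h

end Groth.Agent.S4658
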