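import Groth.Statements.S4659
import Groth.Agent.Lib.RedMod7.Field

set_option autoImplicit false
open CategoryTheory AlgebraicGeometry
universe u
open FBase

namespace Groth.Agent.S4659

/-- Let X be a locally Noetherian scheme over a field k and F a coherent O_X-module. Then F ⊗_k k' is a
reduced module on X ⊗_k k' for every finite purely inseparable extension k' of k if and only if F
⊗_k K is a reduced module on X ⊗_k K for every extension K of k for which X ⊗_k K is locally
Noetherian. (The published statement takes K finitely generated over k, a hypothesis used only to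
make X ⊗_k K locally Noetherian.) -/
theorem result {k : Type u} [Field k] {X : Scheme.{u}} [IsLocallyNoetherian X]
    (f : X ⟶ Spec (CommRingCat.of k)) (F : X.Modules) (hF : Coh.IsCoh F) :
    (∀ (k' : Type u) [Field k'] [Algebra k k'] [FiniteDimensional k k'] [IsPurelyInseparable k k'],
        AssSch.IsReducedMod ((Scheme.Modules.pullback (FBase.bcπ f k')).obj F)) ↔
      ∀ (K : Type u) [Field K] [Algebra k K] [IsLocallyNoetherian (FBase.bc f K)],
        AssSch.IsReducedMod ((Scheme.Modules.pullback (FBase.bcπ f K)).obj F) := by
  refine ⟨fun h K _ _ _ => (GrothLib.RedMod7.isReducedMod_bc_iff f hF K).2 fun y hy => ?_, fun h k' _ _ _ _ => ?_⟩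
  · obtain ⟨h1, h2, h3⟩ := GrothLib.RedMod7.data_of_geomReduced f hF h y hy
    exact ⟨h1, h2, h3 K⟩
  · haveI : LocallyOfFiniteType (Spec.map (CommRingCat.ofHom (algebraMap k k'))) :=
      (HasRingHomProperty.Spec_iff (P := @LocallyOfFiniteType)).2
        (RingHom.finiteType_algebraMap.2 inferInstance)
    haveI : LocallyOfFiniteType (FBase.bcπ f k') := MorphismProperty.pullback_fst _ _ inferInstance
    haveI : IsLocallyNoetherian (FBase.bc f k') := LocallyOfFiniteType.isLocallyNoetherian (FBase.bcπ f k')
    exact h k'

end Groth.Agent.S4659
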