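import Groth.Statements.S4661
import Groth.Agent.Lib.RedMod7.Field
import Groth.Agent.Lib.AssTensorS10.Main
import Groth.Agent.Lib.HilbStrat10.Transfer
import Groth.Agent.Lib.GeomSS.Main

set_option autoImplicit false
open CategoryTheory AlgebraicGeometry
universe u
open FBase

namespace Groth.Agent.S4661

open CategoryTheory.Limits in
/-- Let X and Y be locally Noetherian schemes over a field k such that X ×_k Y is locally Noetherian, F
a coherent O_X-module which is geometrically reduced over k (F ⊗_k k' is a reduced module for every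
finite purely inseparable extension k' of k) and G a coherent O_Y-module which is a reduced module.
Then F ⊗_k G, i.e. the tensor product on X ×_k Y of the inverse images of F and G, is a reduced
module. -/
theorem result {k : Type u} [Field k] {X Y : Scheme.{u}}
    [IsLocallyNoetherian X] [IsLocallyNoetherian Y] (f : X ⟶ Spec (CommRingCat.of k)) (g : Y ⟶ Spec (CommRingCat.of k))
    [IsLocallyNoetherian (pullback f g)] (F : X.Modules) (hF : Coh.IsCoh F) (G : Y.Modules) (hG : Coh.IsCoh G)
    (hFgr : ∀ (k' : Type u) [Field k'] [Algebra k k'] [FiniteDimensional k k'] [IsPurelyInseparable k k'],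
      AssSch.IsReducedMod ((Scheme.Modules.pullback (FBase.bcπ f k')).obj F))
    (hGr : AssSch.IsReducedMod G) :
    AssSch.IsReducedMod (CohB1.tensorMod ((Scheme.Modules.pullback (pullback.fst f g)).obj F)
      ((Scheme.Modules.pullback (pullback.snd f g)).obj G)) := by
  haveI := hG.1
  let G' := (Scheme.Modules.pullback (pullback.snd f g)).obj G
  have hG' : Coh.IsCoh G' := GrothLib.GeomSS.isCoh_pullback' _ hG
  have hflat : FlatMod.IsFlatOver (pullback.fst f g) G' :=
    GrothLib.AssTensorS10.flat_pull G (GrothLib.HilbStrat10.isFlatOver_field g G)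
  refine (GrothLib.AssTensor3.isReducedMod_iff hF hG' hflat).2 fun y ⟨hy, _⟩ => ?_
  letI := GrothLib.RedMod7.resAlg f y
  obtain ⟨h1, h2, h3⟩ := GrothLib.RedMod7.data_of_geomReduced f hF hFgr y hy
  refine ⟨h1, h2, ?_⟩
  let q := pullback.fst f g
  let h := q.fiberι y ≫ pullback.snd f g
  haveI := GrothLib.AssTensorS10.isLocallyNoetherian_fiber q y
  have sq : IsPullback h (q.fiberToSpecResidueField y) g
      (Spec.map (CommRingCat.ofHom (algebraMap k (X.residueField y)))) := by
    refine (GrothLib.RedMod7.specMap_resAlg f y).symm ▸ ?_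
    exact (IsPullback.of_hasPullback q (X.fromSpecResidueField y)).paste_horiz (IsPullback.of_hasPullback f g).flip
  haveI : Flat (Spec.map (CommRingCat.ofHom (algebraMap k (X.residueField y)))) :=
    Flat.SpecMap_iff.2 (RingHom.flat_algebraMap_iff.2 (inferInstance : Module.Flat k (X.residueField y)))
  haveI : Flat h := MorphismProperty.of_isPullback sq.flip inferInstance
  refine (GrothLib.RedMod7.isReducedMod_congr ((Scheme.Modules.pullbackComp _ _).app G)).2 ?_
  refine (GrothLib.RedMod7.isReducedMod_pullback_iff h hG).2 fun z hz _ =>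
    ⟨fun z' hz' hsp => (hGr.1 z hz z' hz' hsp).symm, hGr.2 z hz, ?_⟩
  letI := GrothLib.RedMod7.resAlg g z
  refine (GrothLib.RedMod7.isReduced_fiber_iff (L := X.residueField y) sq z).2 ?_
  exact (GrothLib.RedMod7.isReduced_tensor_comm _ _).1 (h3 (Y.residueField z))

end Groth.Agent.S4661
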