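import Groth.Statements.S4662
import Groth.Agent.Lib.Dim.Scheme
import Groth.Agent.Lib.DimProd.Basic
import Mathlib.AlgebraicGeometry.Morphisms.Flat
-- import your own Groth.Agent.* helpers here

set_option autoImplicit false
open CategoryTheory AlgebraicGeometry
universe u
open FBase

namespace Groth.Agent.S4662

open CategoryTheory.Limits in
/-- Let X and Y be integral schemes locally of finite type over a field k. Then every irreducible
component of X ×_k Y has dimension dim X + dim Y (Krull dimensions of the underlying spaces, valued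
in WithBot ℕ∞). -/
theorem result {k : Type u} [Field k] {X Y : Scheme.{u}}
    (f : X ⟶ Spec (CommRingCat.of k)) (g : Y ⟶ Spec (CommRingCat.of k)) [IsIntegral X] [IsIntegral Y]
    [LocallyOfFiniteType f] [LocallyOfFiniteType g] (Z : Set ↥(pullback f g))
    (hZ : Z ∈ irreducibleComponents ↥(pullback f g)) :
    topologicalKrullDim ↥Z = topologicalKrullDim ↥X + topologicalKrullDim ↥Y := by
  classical
  let P := pullback f g
  let πX : P ⟶ X := pullback.fst f g
  let πY : P ⟶ Y := pullback.snd f g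
  have hflat : Flat πX ∧ Flat πY := ⟨inferInstance, inferInstance⟩
  have hZc : IsClosed Z := isClosed_of_mem_irreducibleComponents Z hZ
  let η := hZ.1.genericPoint
  have hη : IsGenericPoint η Z := hZ.1.isGenericPoint_genericPoint hZc
  have hdom : ∀ {W : Scheme.{u}} [IsIntegral W] (π : P ⟶ W) [Flat π], π η = genericPoint W := by
    intro W _ π _
    obtain ⟨η', hη', hπ⟩ := (Flat.generalizingMap π) (genericPoint_specializes (π η))
    have hsub : Z ⊆ closure {η'} := by
      rw [← hη.def]; exact closure_minimal (Set.singleton_subset_iff.2 hη'.mem_closure) isClosed_closure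
    have := Set.Subset.antisymm (hZ.2 isIrreducible_singleton.closure hsub) hsub
    rw [← hπ, ← (hη.eq (this : IsGenericPoint η' Z))]
  obtain ⟨_, ⟨U, hU, rfl⟩, hxU, -⟩ :=
    X.isBasis_affineOpens.exists_subset_of_mem_open (Set.mem_univ (genericPoint X)) isOpen_univ
  obtain ⟨_, ⟨V, hV, rfl⟩, hxV, -⟩ :=
    Y.isBasis_affineOpens.exists_subset_of_mem_open (Set.mem_univ (genericPoint Y)) isOpen_univ
  obtain ⟨ψ, hψ, hψ'⟩ := GrothLib.Dim.exists_finiteType_specMap f hU
  obtain ⟨χ, hχ, hχ'⟩ := GrothLib.Dim.exists_finiteType_specMap g hV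
  algebraize [ψ.hom, χ.hom]
  have : Algebra.FiniteType k Γ(X, U) := hψ
  have : Algebra.FiniteType k Γ(Y, V) := hχ
  have : Nonempty U := ⟨⟨_, hxU⟩⟩
  have : Nonempty V := ⟨⟨_, hxV⟩⟩
  let j : pullback (Spec.map (CommRingCat.ofHom (algebraMap k Γ(X, U))))
      (Spec.map (CommRingCat.ofHom (algebraMap k Γ(Y, V)))) ⟶ P :=
    pullback.map _ _ _ _ hU.fromSpec hV.fromSpec (𝟙 _)
      (by rw [Category.comp_id, hψ']; rfl) (by rw [Category.comp_id, hχ']; rfl)
  have hjr : Set.range j = πX ⁻¹' U ∩ πY ⁻¹' V := by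
    rw [Scheme.Pullback.range_map]
    simp [πX, πY, hU.range_fromSpec, hV.range_fromSpec]
  have : IsOpenImmersion j := inferInstance
  let e := pullbackSpecIso k Γ(X, U) Γ(Y, V)
  let j' := e.inv ≫ j
  have hjr' : Set.range j' = πX ⁻¹' U ∩ πY ⁻¹' V := by
    rw [← hjr, Scheme.Hom.comp_base, TopCat.coe_comp, Set.range_comp,
      Set.range_eq_univ.2 e.inv.surjective, Set.image_univ]
  have hηU : η ∈ πX ⁻¹' U ∩ πY ⁻¹' V :=
    ⟨by change πX η ∈ U; rw [hdom πX]; exact hxU, by change πY η ∈ V; rw [hdom πY]; exact hxV⟩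
  have hmem : (j' ⁻¹' Z) ∈ irreducibleComponents (PrimeSpectrum (TensorProduct k Γ(X, U) Γ(Y, V))) := by
    refine preimage_mem_irreducibleComponents hZ j'.isOpenEmbedding ?_
    obtain ⟨a, ha⟩ := hjr'.ge hηU
    exact ⟨η, hη.mem, a, ha⟩
  rw [← PrimeSpectrum.zeroLocus_minimalPrimes] at hmem
  obtain ⟨q, hq, hqW⟩ := hmem
  obtain ⟨n, hn, hnU⟩ := GrothLib.Dim.exists_nat_dim_open f
  obtain ⟨n', hn', hnV⟩ := GrothLib.Dim.exists_nat_dim_open g
  have : LocallyOfFiniteType (πX ≫ f) := inferInstance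
  obtain ⟨m, hm, hmU⟩ := GrothLib.Dim.exists_nat_dim_irreducible (πX ≫ f) hZc hZ.1
  rw [hm, ← hmU ⟨πX ⁻¹' U ∩ πY ⁻¹' V, (U.2.preimage πX.continuous).inter (V.2.preimage πY.continuous)⟩
      ⟨η, hη.mem, hηU⟩,
    hn, hn', ← hnU U ⟨⟨_, hxU⟩⟩, ← hnV V ⟨⟨_, hxV⟩⟩, GrothLib.Dim.topologicalKrullDim_affineOpen hU,
    GrothLib.Dim.topologicalKrullDim_affineOpen hV,
    ← GrothLib.DimProd.ringKrullDim_quotient_minimalPrime_tensor k Γ(X, U) Γ(Y, V) q hq,
    ← PrimeSpectrum.topologicalKrullDim_eq_ringKrullDim]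
  refine (GrothLib.Dim.IsEmbedding.topologicalKrullDim_eq
    (f := fun p => j' (PrimeSpectrum.comap (Ideal.Quotient.mk q) p))
    (j'.isEmbedding.comp (PrimeSpectrum.isClosedEmbedding_comap_of_surjective _ _ Ideal.Quotient.mk_surjective).isEmbedding) ?_).symm
  have hrg : Set.range (PrimeSpectrum.comap (Ideal.Quotient.mk q)) = (j' ⁻¹' Z : Set (PrimeSpectrum _)) := by
    rw [range_comap_of_surjective _ _ Ideal.Quotient.mk_surjective, Ideal.mk_ker]
    exact hqW
  exact (Set.range_comp' j' _).trans ((congrArg (j' '' ·) hrg).trans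
    (Set.image_preimage_eq_inter_range.trans (congrArg (Z ∩ ·) hjr')))

end Groth.Agent.S4662
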