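import Groth.Statements.S4663
import Groth.Agent.Lib.Dim.Scheme

set_option autoImplicit false
open CategoryTheory AlgebraicGeometry
universe u
open FBase

namespace Groth.Agent.S4663

/-- Let X be a scheme locally of finite type over a field k, K an extension field of k, and Z an
irreducible closed subset of X. Then every irreducible component of the inverse image of Z in X ⊗_k
K has the same dimension as Z (Krull dimensions of the underlying topological spaces, valued in
WithBot ℕ∞). (In the published statement Z is a cycle associated to a quasi-coherent O_X-module,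
with its reduced subscheme structure, and the components are those of Z ⊗_k K; such cycles are
exactly the irreducible closed subsets of X, and Z ⊗_k K has the inverse image of Z as underlying
space.) -/
theorem result {k K : Type u} [Field k] [Field K] [Algebra k K]
    {X : Scheme.{u}} (f : X ⟶ Spec (CommRingCat.of k)) [LocallyOfFiniteType f]
    (Z : Set ↥X) (hZc : IsClosed Z) (hZi : IsIrreducible Z)
    (W : Set ↥(⇑(FBase.bcπ f K) ⁻¹' Z)) (hW : W ∈ irreducibleComponents ↥(⇑(FBase.bcπ f K) ⁻¹' Z)) :
    topologicalKrullDim ↥W = topologicalKrullDim ↥Z := by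
  let φ := Spec.map (CommRingCat.ofHom (algebraMap k K))
  let e := CategoryTheory.Limits.pullbackSymmetry φ f
  have he : e.hom ≫ FBase.bcπ f K = CategoryTheory.Limits.pullback.snd φ f :=
    CategoryTheory.Limits.pullbackSymmetry_hom_comp_fst φ f
  have hr : ∀ y, e.hom y ∈ ⇑(FBase.bcπ f K) ⁻¹' Z ↔ y ∈ CategoryTheory.Limits.pullback.snd φ f ⁻¹' Z := fun y => by
    rw [← he]; rfl
  let g : ↥(CategoryTheory.Limits.pullback.snd φ f ⁻¹' Z) → ↥(⇑(FBase.bcπ f K) ⁻¹' Z) :=
    fun y => ⟨e.hom y.1, (hr y.1).2 y.2⟩
  have hge : Topology.IsEmbedding g := (e.hom.isEmbedding.comp Topology.IsEmbedding.subtypeVal).codRestrict _ _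
  have hgs : Function.Surjective g := fun ⟨y, hy⟩ => by
    obtain ⟨z, rfl⟩ := e.hom.surjective y
    exact ⟨⟨z, (hr z).1 hy⟩, rfl⟩
  rw [← GrothLib.Dim.topologicalKrullDim_component_preimage f hZc hZi _
    (preimage_mem_irreducibleComponents hW (hge.isOpenEmbedding_of_surjective hgs)
      (hW.1.nonempty.imp fun _ hw => ⟨hw, hgs _⟩))]
  refine (GrothLib.Dim.IsEmbedding.topologicalKrullDim_eq (f := fun y : g ⁻¹' W => g y.1)
    (hge.comp Topology.IsEmbedding.subtypeVal) ?_).symm
  exact (Set.range_comp g Subtype.val).trans (by rw [Subtype.range_coe, Set.image_preimage_eq _ hgs])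

end Groth.Agent.S4663
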