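import Groth.Statements.S4666
import Groth.Agent.Lib.BlowUp.IdealComap
import Mathlib.AlgebraicGeometry.Morphisms.Flat
import Mathlib.RingTheory.Flat.FaithfullyFlat.Algebra

set_option autoImplicit false
open CategoryTheory AlgebraicGeometry
universe u
open FDesc

namespace Groth.Agent.S4666

/-- Let f : X → Y be a flat and surjective morphism of schemes. Then the map sending a quasi-coherent
sheaf of ideals of O_Y (a closed subscheme of Y) to its inverse image in X is injective. -/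
theorem result {X Y : Scheme.{u}} (f : X ⟶ Y) [Flat f] [Surjective f] :
    Function.Injective fun J : Y.IdealSheafData => J.comap f := by
  intro J₁ J₂ h
  suffices key : ∀ J₁ J₂ : Y.IdealSheafData, J₁.comap f = J₂.comap f → ∀ U : Y.affineOpens, J₁.ideal U ≤ J₂.ideal U by
    exact Scheme.IdealSheafData.ext (funext fun U => le_antisymm (key J₁ J₂ h U) (key J₂ J₁ h.symm U))
  clear h J₁ J₂
  intro J₁ J₂ h U a ha
  by_contra hna
  let I : Ideal Γ(Y, U.1) := Submodule.comap (LinearMap.mulRight Γ(Y, U.1) a) (J₂.ideal U)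
  obtain ⟨p, hp, hIp⟩ := Ideal.exists_le_maximal I (fun e => hna (by
    have : (1 : Γ(Y, U.1)) ∈ I := e ▸ trivial
    simpa [I] using this))
  let y : Y := U.2.fromSpec ⟨p, hp.isPrime⟩
  have hyU : y ∈ U.1 := U.2.range_fromSpec.le ⟨_, rfl⟩
  obtain ⟨x, hx⟩ := f.surjective y
  obtain ⟨_, ⟨V, hV, rfl⟩, hxV, hVU⟩ :=
    X.isBasis_affineOpens.exists_subset_of_mem_open (show x ∈ f ⁻¹ᵁ U.1 from by show f x ∈ U.1; rw [hx]; exact hyU) (f ⁻¹ᵁ U.1).2
  have hfx : f x ∈ U.1 := hVU hxV
  letI := TopCat.Presheaf.algebra_section_stalk Y.presheaf ⟨f x, hfx⟩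
  haveI := U.2.isLocalization_stalk ⟨f x, hfx⟩
  -- the images of `a` in the stalk
  have e : ∀ J : Y.IdealSheafData, ((J.comap f).ideal ⟨V, hV⟩).map (X.presheaf.germ V x hxV).hom =
      ((J.ideal U).map (Y.presheaf.germ U.1 (f x) hfx).hom).map (f.stalkMap x).hom := by
    intro J
    rw [GrothLib.BlowUp.ideal_comap_eq_map J f U ⟨V, hV⟩ hVU, Ideal.map_map, Ideal.map_map,
      ← CommRingCat.hom_comp, ← CommRingCat.hom_comp]
    congr 2
    simp [Scheme.Hom.appLE, Scheme.Hom.germ_stalkMap]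
  algebraize [(f.stalkMap x).hom]
  have : Module.FaithfullyFlat (Y.presheaf.stalk (f x)) (X.presheaf.stalk x) :=
    @Module.FaithfullyFlat.of_flat_of_isLocalHom _ _ _ _ _ _ _ (Flat.stalkMap f x) (f.toLRSHom.prop x)
  have he := e J₁
  rw [h, e J₂] at he
  have he' := Ideal.map_injective_of_faithfullyFlat (B := X.presheaf.stalk x) he
  have hmem : algebraMap Γ(Y, U.1) (Y.presheaf.stalk (f x)) a ∈
      (J₂.ideal U).map (algebraMap Γ(Y, U.1) (Y.presheaf.stalk (f x))) := by
    exact he'.ge (Ideal.mem_map_of_mem _ ha)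
  obtain ⟨s, hs, hsa⟩ := (IsLocalization.algebraMap_mem_map_algebraMap_iff (U.2.primeIdealOf ⟨f x, hfx⟩).asIdeal.primeCompl _ _ _).1 hmem
  have hp' : (U.2.primeIdealOf ⟨f x, hfx⟩).asIdeal = p := by
    have : U.2.fromSpec (U.2.primeIdealOf ⟨f x, hfx⟩) = U.2.fromSpec ⟨p, hp.isPrime⟩ := by
      rw [IsAffineOpen.fromSpec_primeIdealOf]
      exact hx
    rw [U.2.fromSpec.isOpenEmbedding.injective this]
  exact hs (hp' ▸ hIp (show s ∈ I from by simpa [I] using hsa))

end Groth.Agent.S4666
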