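import Groth.Statements.S4667
import Mathlib.AlgebraicGeometry.Morphisms.SchemeTheoreticallyDominant
import Mathlib.AlgebraicGeometry.Morphisms.Flat
import Mathlib.AlgebraicGeometry.IdealSheaf.Functorial

set_option autoImplicit false
open CategoryTheory AlgebraicGeometry
universe u
open FDesc

namespace Groth.Agent.S4667

open CategoryTheory.Limits in
/-- Let f : X → Y be a quasi-compact morphism of schemes and g : Y' → Y a flat morphism, and let f' : X
×_Y Y' → Y' be the base change of f. Then the scheme-theoretic image of f' is the inverse image
under g of the scheme-theoretic image of f: the quasi-coherent ideal sheaf cutting out the former is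
the pull-back along g of the one cutting out the latter. (One published statement is phrased for a
quasi-compact and quasi-separated S-morphism f and a flat base change S′ → S, which reduces to this
case; quasi-compactness of f suffices.) -/
theorem result {X Y Y' : Scheme.{u}} (f : X ⟶ Y) (g : Y' ⟶ Y)
    [QuasiCompact f] [Flat g] :
    (pullback.snd f g).ker = f.ker.comap g := by
  -- the map to the scheme-theoretic image is schematically dominant
  have hdom : IsSchemeTheoreticallyDominant f.toImage := by
    rw [isSchemeTheoreticallyDominant_iff]
    refine Scheme.IdealSheafData.ext_of_iSup_eq_top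
      (fun U : Y.affineOpens => ⟨f.imageι ⁻¹ᵁ U.1, U.2.preimage f.imageι⟩) ?_ fun U => ?_
    · exact (TopologicalSpace.IsOpenCover.comap Y.isBasis_affineOpens.isOpenCover f.imageι.base.hom)
    · rw [Scheme.Hom.ker_apply, Scheme.IdealSheafData.ideal_bot]
      exact (RingHom.injective_iff_ker_eq_bot _).1 (f.toImage_app_injective U)
  let q := pullback.fst g f.imageι
  let a := pullback.snd f.toImage (pullback.snd g f.imageι)
  have ha : IsSchemeTheoreticallyDominant a := inferInstance
  have sq : IsPullback (pullback.fst f.toImage (pullback.snd g f.imageι)) (a ≫ q) f g := by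
    have := (IsPullback.of_hasPullback f.toImage (pullback.snd g f.imageι)).paste_vert
      (IsPullback.of_hasPullback g f.imageι).flip
    rwa [Scheme.Hom.toImage_imageι] at this
  rw [← Scheme.Hom.ker_comp_of_isIso sq.isoPullback.hom (pullback.snd f g)]
  rw [sq.isoPullback_hom_snd, Scheme.Hom.ker_comp, (isSchemeTheoreticallyDominant_iff a).1 ha,
    Scheme.IdealSheafData.map_bot, Scheme.IdealSheafData.ker_fst_of_isClosedImmersion, Scheme.IdealSheafData.ker_subschemeι]

end Groth.Agent.S4667
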