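import Groth.Prelude
import Groth.Agent.Lib.AssTensorS10.Cor

set_option autoImplicit false
open CategoryTheory AlgebraicGeometry
universe u
namespace AssSch
end AssSch
open AssSch

namespace Groth.Agent.S4670

open CategoryTheory.Limits in
/-- Let f : X → S and g : Y → S be morphisms of schemes with X, Y, S and X ×_S Y locally Noetherian, F a
quasi-coherent O_X-module such that f maps every associated point of F to an associated point of
O_S, and G a quasi-coherent O_Y-module flat over S. Then the projection q : X ×_S Y → Y maps every
associated point of F ⊗_S G (the tensor product of the pull-backs of F and G along the two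
projections) to an associated point of G. (The published statement assumes only X, S and the fibres
of g locally Noetherian; this row assumes Y and X ×_S Y locally Noetherian as well, so that
associated points are those whose maximal ideal is the annihilator of an element of the stalk.) -/
theorem result {X Y S : Scheme.{u}} (f : X ⟶ S) (g : Y ⟶ S)
    [IsLocallyNoetherian X] [IsLocallyNoetherian Y] [IsLocallyNoetherian S] [IsLocallyNoetherian (pullback f g)]
    (F : X.Modules) (hF : Coh.IsQCoh F) (G : Y.Modules) (hG : Coh.IsQCoh G) (hGfl : FlatMod.IsFlatOver g G)
    (hAss : ∀ x ∈ AssSch.Ass F, f x ∈ AssSch.Ass (Coh.structureModule S))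
    (z : ↥(pullback f g)) (hz : z ∈ AssSch.Ass (CohB1.tensorMod ((Scheme.Modules.pullback (pullback.fst f g)).obj F) ((Scheme.Modules.pullback (pullback.snd f g)).obj G))) :
    pullback.snd f g z ∈ AssSch.Ass G := by
  haveI : G.IsQuasicoherent := hG
  exact GrothLib.AssTensorS10.snd_mem_ass hGfl hAss z hz

end Groth.Agent.S4670
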