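import Groth.Statements.S4674
import Mathlib.RingTheory.Flat.Basic
import Mathlib.LinearAlgebra.TensorProduct.Pi
import Mathlib.RingTheory.Finiteness.Basic

set_option autoImplicit false
open scoped TensorProduct
universe u v w
open FDesc

namespace Groth.Agent.S4674

/-- Let B be a flat A-algebra and M a finitely presented A-module. Then the annihilator of the B-module
B ⊗_A M is the ideal of B generated by the image of the annihilator of M. -/
theorem result {A : Type u} {B : Type v} [CommRing A] [CommRing B] [Algebra A B]
    [Module.Flat A B] (M : Type w) [AddCommGroup M] [Module A M] [Module.FinitePresentation A M] :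
    Module.annihilator B (B ⊗[A] M) = (Module.annihilator A M).map (algebraMap A B) := by
  classical
  obtain ⟨n, s, hs⟩ := Module.Finite.exists_fin (R := A) (M := M)
  let φ : A →ₗ[A] (Fin n → M) := LinearMap.pi fun i => LinearMap.toSpanSingleton A M (s i)
  have hker : LinearMap.ker φ = Module.annihilator A M := by
    ext a
    rw [LinearMap.mem_ker, Module.mem_annihilator]
    constructor
    · intro h m
      have hm : m ∈ Submodule.span A (Set.range s) := hs ▸ Submodule.mem_top
      induction hm using Submodule.span_induction with
      | mem x hx => obtain ⟨i, rfl⟩ := hx; exact congrFun h i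
      | zero => exact smul_zero a
      | add x y _ _ hx hy => rw [smul_add, hx, hy, add_zero]
      | smul r x _ hx => rw [smul_comm, hx, smul_zero]
    · intro h; funext i; exact h (s i)
  apply le_antisymm
  · intro b hb
    rw [Module.mem_annihilator] at hb
    have hex : Function.Exact ((LinearMap.ker φ).subtype.lTensor B) (φ.lTensor B) :=
      Module.Flat.lTensor_exact B (LinearMap.exact_subtype_ker_map φ)
    have h0 : φ.lTensor B (b ⊗ₜ[A] (1 : A)) = 0 := by
      apply (TensorProduct.piRight A A B (fun _ : Fin n => M)).injective
      rw [map_zero]
      funext i
      have := hb ((1 : B) ⊗ₜ[A] s i)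
      rw [TensorProduct.smul_tmul', smul_eq_mul, mul_one] at this
      simpa [φ] using this
    obtain ⟨z, hz⟩ := (hex _).mp h0
    have hμ : ∀ z, (TensorProduct.rid A B) ((LinearMap.ker φ).subtype.lTensor B z) ∈
        (Module.annihilator A M).map (algebraMap A B) := fun z => by
      induction z using TensorProduct.induction_on with
      | zero => simp
      | tmul c a =>
        rw [LinearMap.lTensor_tmul, TensorProduct.rid_tmul, Algebra.smul_def]
        refine Ideal.mul_mem_right _ _ (Ideal.mem_map_of_mem _ ?_)
        rw [← hker]; exact a.2
      | add x y hx hy => simp only [map_add]; exact add_mem hx hy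
    have := hμ z
    rwa [hz, TensorProduct.rid_tmul, one_smul] at this
  · rw [Ideal.map_le_iff_le_comap]
    intro a ha
    rw [Ideal.mem_comap, Module.mem_annihilator]
    intro z
    rw [algebraMap_smul]
    induction z using TensorProduct.induction_on with
    | zero => simp
    | tmul c m => rw [← TensorProduct.tmul_smul, Module.mem_annihilator.mp ha m, TensorProduct.tmul_zero]
    | add x y hx hy => rw [smul_add, hx, hy, add_zero]

end Groth.Agent.S4674
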