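import Groth.Statements.S4675
import Mathlib.Tactic.Abel
import Mathlib.Algebra.Module.Submodule.Equiv

set_option autoImplicit false
universe u v
open FDesc

namespace Groth.Agent.S4675

/-- Let B be a ring, not necessarily commutative, and V, W two left B-modules which are isomorphic. For
a B-linear map u : V → W the following are equivalent: every B-linear map V → W can be written
uniquely as u ∘ c with c a B-linear endomorphism of V (that is, u is a basis of Hom_B(V, W) for its
right module structure over End_B(V)); u is bijective. -/
theorem result {B : Type u} [Ring B] {V W : Type v} [AddCommGroup V] [AddCommGroup W]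
    [Module B V] [Module B W] (e : V ≃ₗ[B] W) (u : V →ₗ[B] W) :
    (∀ v : V →ₗ[B] W, ∃! c : V →ₗ[B] V, v = u ∘ₗ c) ↔ Function.Bijective u := by
  constructor
  · intro h
    obtain ⟨c, hc, -⟩ := h e.toLinearMap
    have hsurj : Function.Surjective u := fun w => ⟨c (e.symm w), by
      rw [← LinearMap.comp_apply, ← hc]; exact e.apply_symm_apply w⟩
    refine ⟨(injective_iff_map_eq_zero u).mpr fun x hx => ?_, hsurj⟩
    let p : V →ₗ[B] V := LinearMap.id - c ∘ₗ e.symm.toLinearMap ∘ₗ u
    have hp : u ∘ₗ p = 0 := by
      ext y
      have := LinearMap.congr_fun hc (e.symm (u y))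
      simp only [LinearEquiv.coe_coe, e.apply_symm_apply, LinearMap.comp_apply] at this
      simp [p, ← this]
    have hp0 : p = 0 := (h 0).unique hp.symm (by simp)
    have := LinearMap.congr_fun hp0 x
    simpa [p, hx] using this
  · intro hu v
    let E := LinearEquiv.ofBijective u hu
    refine ⟨E.symm.toLinearMap ∘ₗ v, LinearMap.ext fun x => (E.apply_symm_apply (v x)).symm, fun c hc => ?_⟩
    subst hc
    exact LinearMap.ext fun x => (E.symm_apply_apply (c x)).symm

end Groth.Agent.S4675
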