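import Groth.Statements.S4677
import Groth.Agent.Lib.FBase7.Models


set_option autoImplicit false
open scoped TensorProduct
universe u
open FBase

namespace Groth.Agent.S4677

/-- Let K be a finitely generated extension field of a field k. Then there exists a finite purely
inseparable extension k' of k such that, for every maximal ideal m of the ring k' ⊗_k K, the residue
field (k' ⊗_k K)/m is geometrically reduced over k' (a separable, not necessarily algebraic,
extension of k'). -/
theorem result {k K : Type u} [Field k] [Field K] [Algebra k K]
    [Algebra.EssFiniteType k K] :
    ∃ (k' : Type u) (_ : Field k') (_ : Algebra k k'), FiniteDimensional k k' ∧ IsPurelyInseparable k k' ∧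
      ∀ (m : Ideal (k' ⊗[k] K)), m.IsMaximal → Algebra.IsGeometricallyReduced k' ((k' ⊗[k] K) ⧸ m) := by
  exact GrothLib.FBase7.exists_geometricallyReduced_residueFields K

end Groth.Agent.S4677
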