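import Groth.Statements.S4678
import Groth.Agent.Lib.FlatTensor.Tensor
import Groth.Agent.Lib.FlatFP.BaseChangeAt

set_option autoImplicit false
open CategoryTheory AlgebraicGeometry
universe u
open FDesc

namespace Groth.Agent.S4678

open CategoryTheory.Limits in
/-- Let f : X → Y, g : Y' → Y and h : Y' → Z be morphisms of schemes, X' = X ×_Y Y' with projections p :
X' → X and q : X' → Y', and x' a point of X'. Let F be a quasi-coherent O_X-module which is flat
over Y at p(x') and G' a quasi-coherent O_{Y'}-module which is flat over Z at q(x'). Then the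
O_{X'}-module p^*F ⊗ q^*G' is flat over Z at x', for the structure morphism q followed by h. -/
theorem result {X Y Y' Z : Scheme.{u}} (f : X ⟶ Y) (g : Y' ⟶ Y) (h : Y' ⟶ Z)
    (F : X.Modules) (hF : Coh.IsQCoh F) (G' : Y'.Modules) (hG' : Coh.IsQCoh G') (x' : ↥(pullback f g))
    (hFx : FlatMod.IsFlatOverAt f F (pullback.fst f g x')) (hGy : FlatMod.IsFlatOverAt h G' (pullback.snd f g x')) :
    FlatMod.IsFlatOverAt (pullback.snd f g ≫ h) (CohB1.tensorMod ((Scheme.Modules.pullback (pullback.fst f g)).obj F) ((Scheme.Modules.pullback (pullback.snd f g)).obj G')) x' := by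
  have : F.IsQuasicoherent := hF
  exact (GrothLib.FlatTensor.tensor_pullback_stalk (CategoryTheory.Limits.pullback.snd f g) h
    _ G' x' (GrothLib.FlatFP.isFlatOverAt_baseChange f (CategoryTheory.Limits.pullback.snd f g)
      (CategoryTheory.Limits.pullback.fst f g) g (IsPullback.of_hasPullback f g) F x' hFx)).1 hGy

end Groth.Agent.S4678
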