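import Groth.Statements.S4679
import Groth.Agent.Lib.FlatTensor.Point
import Groth.Agent.Lib.FlatTensor.Tensor

set_option autoImplicit false
open CategoryTheory AlgebraicGeometry
universe u
open FDesc

namespace Groth.Agent.S4679

open CategoryTheory.Limits in
/-- Let f : X → Y, g : Y' → Y and h : Y' → Z be morphisms of schemes and X' = X ×_Y Y' with projections
p : X' → X, q : X' → Y'. Call a quasi-coherent module M on a scheme T faithfully flat relative to a
morphism t : T → B when M is flat over B and for every point b of B there is a point u of T over b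
with M_u ⊗ κ(b) ≠ 0. Let F be a quasi-coherent O_X-module which is faithfully flat relative to Y and
G' a quasi-coherent O_{Y'}-module. Then G' is flat over Z if and only if p^*F ⊗ q^*G' is flat over Z
(for q followed by h); and G' is faithfully flat relative to Z if and only if p^*F ⊗ q^*G' is
faithfully flat relative to Z. -/
theorem result {X Y Y' Z : Scheme.{u}} (f : X ⟶ Y) (g : Y' ⟶ Y)
    (h : Y' ⟶ Z) (F : X.Modules) (hF : Coh.IsQCoh F) (hFfl : FlatMod.IsFlatOver f F)
    (hFff : ∀ y : ↥Y, ∃ x : ↥X, f x = y ∧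
      letI := FlatMod.moduleStalkOver f F x
      IsLocalRing.maximalIdeal (Y.presheaf.stalk (f x)) • (⊤ : Submodule (Y.presheaf.stalk (f x)) (F.presheaf.stalk x)) ≠ ⊤)
    (G' : Y'.Modules) (hG' : Coh.IsQCoh G') :
    (FlatMod.IsFlatOver h G' ↔ FlatMod.IsFlatOver (pullback.snd f g ≫ h) (CohB1.tensorMod ((Scheme.Modules.pullback (pullback.fst f g)).obj F) ((Scheme.Modules.pullback (pullback.snd f g)).obj G'))) ∧
    ((FlatMod.IsFlatOver h G' ∧ ∀ z : ↥Z, ∃ y' : ↥Y', h y' = z ∧
        letI := FlatMod.moduleStalkOver h G' y'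
        IsLocalRing.maximalIdeal (Z.presheaf.stalk (h y')) • (⊤ : Submodule (Z.presheaf.stalk (h y')) (G'.presheaf.stalk y')) ≠ ⊤) ↔
      (FlatMod.IsFlatOver (pullback.snd f g ≫ h) (CohB1.tensorMod ((Scheme.Modules.pullback (pullback.fst f g)).obj F) ((Scheme.Modules.pullback (pullback.snd f g)).obj G')) ∧
        ∀ z : ↥Z, ∃ x' : ↥(pullback f g), (pullback.snd f g ≫ h) x' = z ∧
          letI := FlatMod.moduleStalkOver (pullback.snd f g ≫ h) (CohB1.tensorMod ((Scheme.Modules.pullback (pullback.fst f g)).obj F) ((Scheme.Modules.pullback (pullback.snd f g)).obj G')) x'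
          IsLocalRing.maximalIdeal (Z.presheaf.stalk ((pullback.snd f g ≫ h) x')) •
            (⊤ : Submodule (Z.presheaf.stalk ((pullback.snd f g ≫ h) x')) ((CohB1.tensorMod ((Scheme.Modules.pullback (pullback.fst f g)).obj F) ((Scheme.Modules.pullback (pullback.snd f g)).obj G')).presheaf.stalk x')) ≠ ⊤)) := by
  open CategoryTheory.Limits in
  have : F.IsQuasicoherent := hF
  have hM : ∀ x', FlatMod.IsFlatOverAt (pullback.snd f g) ((Scheme.Modules.pullback (pullback.fst f g)).obj F) x' :=
    fun x' => GrothLib.FlatFP.isFlatOverAt_baseChange f (pullback.snd f g) (pullback.fst f g) g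
      (IsPullback.of_hasPullback f g) F x' (hFfl _)
  have hpt : ∀ y' : ↥Y', ∃ x' : ↥(pullback f g), pullback.snd f g x' = y' ∧
      letI := FlatMod.moduleStalkOver (pullback.snd f g) ((Scheme.Modules.pullback (pullback.fst f g)).obj F) x'
      IsLocalRing.maximalIdeal (Y'.presheaf.stalk ((pullback.snd f g) x')) • (⊤ : Submodule (Y'.presheaf.stalk ((pullback.snd f g) x')) (((Scheme.Modules.pullback (pullback.fst f g)).obj F).presheaf.stalk x')) ≠ ⊤ :=
    fun y' => by
      obtain ⟨x, hx, hne⟩ := hFff (g y')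
      exact GrothLib.FlatTensor.exists_point_ne_top (IsPullback.of_hasPullback f g) F x y' hx hne
  have hflat : FlatMod.IsFlatOver h G' ↔ FlatMod.IsFlatOver (pullback.snd f g ≫ h) (CohB1.tensorMod ((Scheme.Modules.pullback (pullback.fst f g)).obj F) ((Scheme.Modules.pullback (pullback.snd f g)).obj G')) := by
    refine ⟨fun hG x' => (GrothLib.FlatTensor.tensor_pullback_stalk _ h _ G' x' (hM x')).1 (hG _),
      fun hT y' => ?_⟩
    obtain ⟨x', rfl, hx'⟩ := hpt y'
    exact (GrothLib.FlatTensor.tensor_pullback_stalk _ h _ G' x' (hM x')).2.1 hx' (hT x')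
  refine ⟨hflat, and_congr hflat ⟨fun hG z => ?_, fun hT z => ?_⟩⟩
  · obtain ⟨y', rfl, hy'⟩ := hG z
    obtain ⟨x', rfl, hx'⟩ := hpt y'
    exact ⟨x', rfl, (GrothLib.FlatTensor.tensor_pullback_stalk _ h _ G' x' (hM x')).2.2.2 hx' hy'⟩
  · obtain ⟨x', rfl, hx'⟩ := hT z
    exact ⟨pullback.snd f g x', rfl, fun e => hx'
      ((GrothLib.FlatTensor.tensor_pullback_stalk _ h _ G' x' (hM x')).2.2.1 e)⟩

end Groth.Agent.S4679
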