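import Groth.Statements.S4680
import Groth.Agent.Lib.FlatTensor.Point
import Groth.Agent.Lib.FlatDesc.Basic

set_option autoImplicit false
open CategoryTheory AlgebraicGeometry
universe u
open FDesc

namespace Groth.Agent.S4680

open CategoryTheory.Limits in
/-- Let f : X → Y and g : Y' → Y be morphisms of schemes, X' = X ×_Y Y' with projections p : X' → X and
f' : X' → Y', and F a quasi-coherent O_X-module which is faithfully flat relative to Y: flat over Y,
and for every point y of Y there is a point x over y with F_x ⊗ κ(y) ≠ 0. Then F' = p^*F is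
faithfully flat relative to Y': flat over Y', and for every point y' of Y' there is a point x' of X'
over y' with F'_{x'} ⊗ κ(y') ≠ 0. -/
theorem result {X Y Y' : Scheme.{u}} (f : X ⟶ Y) (g : Y' ⟶ Y)
    (F : X.Modules) (hF : Coh.IsQCoh F) (hFfl : FlatMod.IsFlatOver f F)
    (hFff : (∀ y : ↥Y, ∃ x : ↥X, f x = y ∧
      letI := FlatMod.moduleStalkOver f F x
      IsLocalRing.maximalIdeal (Y.presheaf.stalk (f x)) • (⊤ : Submodule (Y.presheaf.stalk (f x)) (F.presheaf.stalk x)) ≠ ⊤)) :
    FlatMod.IsFlatOver (pullback.snd f g) ((Scheme.Modules.pullback (pullback.fst f g)).obj F) ∧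
      (∀ y' : ↥Y', ∃ x' : ↥(pullback f g), (pullback.snd f g) x' = y' ∧
      letI := FlatMod.moduleStalkOver (pullback.snd f g) ((Scheme.Modules.pullback (pullback.fst f g)).obj F) x'
      IsLocalRing.maximalIdeal (Y'.presheaf.stalk ((pullback.snd f g) x')) • (⊤ : Submodule (Y'.presheaf.stalk ((pullback.snd f g) x')) (((Scheme.Modules.pullback (pullback.fst f g)).obj F).presheaf.stalk x')) ≠ ⊤) := by
  have : F.IsQuasicoherent := hF
  refine ⟨GrothLib.FlatDesc.isFlatOver_baseChange (IsPullback.of_hasPullback f g) F hFfl, fun y' => ?_⟩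
  obtain ⟨x, hx, hne⟩ := hFff (g y')
  exact GrothLib.FlatTensor.exists_point_ne_top (IsPullback.of_hasPullback f g) F x y' hx hne

end Groth.Agent.S4680
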