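import Groth.Statements.S4681
import Groth.Prelude.Def_FDesc
import Groth.Agent.Lib.FlatDesc.Basic

set_option autoImplicit false
open CategoryTheory AlgebraicGeometry
universe u
open FDesc

namespace Groth.Agent.S4681

/-- Let f : X → Y and g : Y → Z be morphisms of schemes and F a quasi-coherent O_X-module which is
faithfully flat relative to Y: flat over Y, and for every point y of Y there is a point x over y
with F_x ⊗ κ(y) ≠ 0. Then g is flat and surjective (faithfully flat) if and only if F is faithfully
flat relative to Z for the morphism f followed by g: flat over Z, and for every point z of Z there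
is a point x of X over z with F_x ⊗ κ(z) ≠ 0. -/
theorem result {X Y Z : Scheme.{u}} (f : X ⟶ Y) (g : Y ⟶ Z)
    (F : X.Modules) (hF : Coh.IsQCoh F) (hFfl : FlatMod.IsFlatOver f F)
    (hFff : (∀ y : ↥Y, ∃ x : ↥X, f x = y ∧
      letI := FlatMod.moduleStalkOver f F x
      IsLocalRing.maximalIdeal (Y.presheaf.stalk (f x)) • (⊤ : Submodule (Y.presheaf.stalk (f x)) (F.presheaf.stalk x)) ≠ ⊤)) :
    (Flat g ∧ Surjective g) ↔
      (FlatMod.IsFlatOver (f ≫ g) F ∧
        (∀ z : ↥Z, ∃ x : ↥X, (f ≫ g) x = z ∧
      letI := FlatMod.moduleStalkOver (f ≫ g) F x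
      IsLocalRing.maximalIdeal (Z.presheaf.stalk ((f ≫ g) x)) • (⊤ : Submodule (Z.presheaf.stalk ((f ≫ g) x)) (F.presheaf.stalk x)) ≠ ⊤)) := by
  exact GrothLib.FlatDesc.flat_and_surjective_iff f g F hFfl hFff

end Groth.Agent.S4681
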