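import Groth.Statements.S4682
import Groth.Agent.Lib.FBase7.Descent


set_option autoImplicit false
open CategoryTheory AlgebraicGeometry
universe u
open FBase

namespace Groth.Agent.S4682

/-- Let Y be a scheme over a field K', let K be an extension field of K' which is separable over K'
(Spec K → Spec K' is geometrically reduced), let g : Y ⊗_{K'} K → Y be the projection and T a closed
subset of Y ⊗_{K'} K. Then T is defined over K' as a closed subset, that is T = g⁻¹(T') for some
closed subset T' of Y, if and only if the reduced closed subscheme of Y ⊗_{K'} K with support T is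
defined over K', that is, there is a quasi-coherent ideal sheaf of O_Y whose inverse image in Y
⊗_{K'} K is the vanishing ideal sheaf of T. -/
theorem result {K' K : Type u} [Field K'] [Field K] [Algebra K' K]
    {Y : Scheme.{u}} (fY : Y ⟶ Spec (CommRingCat.of K'))
    [GeometricallyReduced (Spec.map (CommRingCat.ofHom (algebraMap K' K)))]
    (T : TopologicalSpace.Closeds ↥(FBase.bc fY K)) :
    (∃ T' : TopologicalSpace.Closeds ↥Y, (T : Set ↥(FBase.bc fY K)) = ⇑(FBase.bcπ fY K) ⁻¹' (T' : Set ↥Y)) ↔
      ∃ J : Y.IdealSheafData, J.comap (FBase.bcπ fY K) = Scheme.IdealSheafData.vanishingIdeal T := by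
  exact GrothLib.FBase7.exists_ideal_descending_iff fY T

end Groth.Agent.S4682
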