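import Groth.Statements.S4683
import Groth.Agent.Lib.AssPts.Filtration

set_option autoImplicit false
open CategoryTheory AlgebraicGeometry
universe u
open AssSch

namespace Groth.Agent.S4683

open CategoryTheory CategoryTheory.Limits AlgebraicGeometry Opposite GrothLib

variable {X : Scheme.{u}}

theorem jointly_injective {M : X.Modules} {ι : Type u} {G : ι → X.Modules} (q : ∀ i, M ⟶ G i)
    (hm : ∀ (T : X.Modules) (a b : T ⟶ M), (∀ i, a ≫ q i = b ≫ q i) → a = b)
    {V : X.Opens} (s : Γ(M, V)) (hs : ∀ i, (q i).app V s = 0) : s = 0 := by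
  let K : QCoh.SubData M :=
    { sec := fun W =>
        { carrier := {t | ∀ i, (q i).app W t = 0}
          add_mem' := fun ha hb i => by rw [map_add, ha i, hb i, add_zero]
          zero_mem' := fun i => map_zero _
          smul_mem' := fun r t ht i => by rw [Scheme.Modules.Hom.app_smul, ht i, smul_zero] }
      map_mem := fun {U W} e t ht i => by rw [← QCoh.map_app, ht i, map_zero]
      locality := fun {U} t h i => by
        refine QCoh.section_eq_zero_of_germ _ _ fun p hp => ?_
        obtain ⟨W, e, hpW, hW⟩ := h p hp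
        rw [← QCoh.germ_map _ e hpW, QCoh.map_app, hW i, map_zero] }
  have h0 : K.ι = 0 := hm _ _ _ fun i => by
    rw [zero_comp]
    refine Scheme.Modules.hom_ext _ _ fun U => AddCommGrpCat.ext fun t => ?_
    rw [Scheme.Modules.Hom.comp_app, ConcreteCategory.comp_apply]
    exact K.ι_app_mem t i
  rw [← K.ι_app_lift s hs, h0]
  rfl

theorem kernel_desc [IsLocallyNoetherian X] (M : X.Modules) (hM : Coh.IsCoh M) (hne : AssSch.NoEmbedded M)
    (G : ↥(AssSch.Ass M) → X.Modules) (q : ∀ x, M ⟶ G x) (hG : ∀ x, Coh.IsCoh (G x))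
    (hA : ∀ x, AssSch.Ass (G x) = {x.1})
    (hm : ∀ (T : X.Modules) (a b : T ⟶ M), (∀ x, a ≫ q x = b ≫ q x) → a = b)
    (x : ↥(AssSch.Ass M)) (W : X.Opens) (s : Γ(M, W)) :
    (q x).app W s = 0 ↔ ∀ hx : x.1 ∈ W, M.presheaf.germ W x.1 hx s = 0 := by
  classical
  have := hM.1
  have hzero : ∀ (y : ↥(AssSch.Ass M)) {V : X.Opens} (t : Γ(G y, V)),
      (∀ hy : y.1 ∈ V, (G y).presheaf.germ V y.1 hy t = 0) → t = 0 := by
    intro y V t ht
    have := (hG y).1
    refine WeakAss.eq_zero_of_germ t fun p hp hw => ?_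
    obtain rfl : p = y.1 := Set.mem_singleton_iff.mp
      ((hA y).le ((WeakAss.isAssPoint_iff_isWeakAssPoint p).mpr hw))
    exact ht hp
  constructor
  · intro hs hx
    obtain ⟨V, hV, hxV, hVW⟩ : ∃ V : X.Opens, IsAffineOpen V ∧ x.1 ∈ V ∧ V ≤ W := by
      obtain ⟨_, ⟨V, hV, rfl⟩, hxV, hVW⟩ :=
        X.isBasis_affineOpens.exists_subset_of_mem_open (SetLike.mem_coe.2 hx) W.2
      exact ⟨V, hV, hxV, hVW⟩
    let z := M.presheaf.map (homOfLE hVW).op s
    have hfin := AssPts.finite_ass_inter_affine M hM hV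
    have key : ∀ y : ↥(AssSch.Ass M), ∃ c : Γ(X, V), c ∉ WeakAss.primeAt x.1 hxV ∧ c • (q y).app V z = 0 := by
      intro y
      by_cases hyx : y = x
      · subst hyx
        refine ⟨1, (Ideal.ne_top_iff_one _).mp Ideal.IsPrime.ne_top', ?_⟩
        rw [one_smul, ← QCoh.map_app, hs, map_zero]
      · have := (hG y).1
        have hsub : x.1 ∉ CohB1.support (G y) := fun hsupp => by
          obtain ⟨p, hp, hpx⟩ := AssPts.exists_ass_specializes _ (hG y) hsupp
          obtain rfl := Set.mem_singleton_iff.mp ((hA y).le hp)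
          exact hyx (Subtype.ext (hne x.1 x.2 y.1 y.2 hpx).symm)
        obtain ⟨c, hc, hcz⟩ := (WeakAss.germ_eq_zero_iff hV hxV _).mp
          (@Subsingleton.elim _ (QCoh.stalk_subsingleton_of_notMem hsub)
            ((G y).presheaf.germ V x.1 hxV ((q y).app V z)) 0)
        exact ⟨c, hc, hcz⟩
    choose c hc hcz using key
    have hfinT : {y : ↥(AssSch.Ass M) | y.1 ∈ V}.Finite :=
      Set.Finite.of_finite_image (f := Subtype.val) (hfin.subset (by
        rintro _ ⟨y, hy, rfl⟩; exact ⟨y.2, hy⟩)) Subtype.val_injective.injOn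
    let C := ∏ y ∈ hfinT.toFinset, c y
    have hC : C ∉ WeakAss.primeAt x.1 hxV := fun h => by
      obtain ⟨y, -, hy⟩ := (Ideal.IsPrime.prod_mem_iff).mp h
      exact hc y hy
    have h0 : C • z = 0 := jointly_injective q hm _ fun y => by
      rw [Scheme.Modules.Hom.app_smul]
      refine hzero y _ fun hy => ?_
      rw [show C = (∏ i ∈ hfinT.toFinset.erase y, c i) * c y from
        (Finset.prod_erase_mul _ _ (hfinT.mem_toFinset.mpr hy)).symm, mul_smul, hcz, smul_zero, map_zero]
    have := (WeakAss.germ_eq_zero_iff hV hxV z).mpr ⟨C, hC, h0⟩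
    rwa [QCoh.germ_map] at this
  · intro hs
    refine hzero x _ fun hx => ?_
    rw [← QCoh.stalkLin_germ, hs hx, map_zero]

/-- Let X be a locally Noetherian scheme and M a coherent O_X-module without embedded associated points.
Then M has only one reduced irredundant decomposition: if (q_x : M → G_x) and (q'_x : M → G'_x) are
two families of coherent quotients of M indexed by the associated points x of M, with Ass(G_x) =
Ass(G'_x) = {x} for every x and each family jointly monomorphic (M embeds in the product), then for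
every x there is an isomorphism G_x ≅ G'_x under M (it is unique, q_x being an epimorphism). -/
theorem result {X : Scheme.{u}} [IsLocallyNoetherian X] (M : X.Modules)
    (hM : Coh.IsCoh M) (hne : AssSch.NoEmbedded M)
    (G G' : ↥(AssSch.Ass M) → X.Modules) (q : ∀ x, M ⟶ G x) (q' : ∀ x, M ⟶ G' x)
    (hq : ∀ x, Epi (q x)) (hq' : ∀ x, Epi (q' x)) (hG : ∀ x, Coh.IsCoh (G x)) (hG' : ∀ x, Coh.IsCoh (G' x))
    (hA : ∀ x, AssSch.Ass (G x) = {x.1}) (hA' : ∀ x, AssSch.Ass (G' x) = {x.1})
    (hm : ∀ (T : X.Modules) (a b : T ⟶ M), (∀ x, a ≫ q x = b ≫ q x) → a = b)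
    (hm' : ∀ (T : X.Modules) (a b : T ⟶ M), (∀ x, a ≫ q' x = b ≫ q' x) → a = b) (x : ↥(AssSch.Ass M)) :
    ∃ e : G x ≅ G' x, q x ≫ e.hom = q' x := by
  have key : ∀ (W : X.Opens) (s : Γ(M, W)), (q x).app W s = 0 ↔ (q' x).app W s = 0 := fun W s =>
    (kernel_desc M hM hne G q hG hA hm x W s).trans (kernel_desc M hM hne G' q' hG' hA' hm' x W s).symm
  have h1 : kernel.ι (q x) ≫ q' x = 0 := Scheme.Modules.hom_ext _ _ fun U => AddCommGrpCat.ext fun t => by
    rw [Scheme.Modules.Hom.comp_app, ConcreteCategory.comp_apply]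
    refine (key _ _).mp ?_
    rw [← ConcreteCategory.comp_apply, ← Scheme.Modules.Hom.comp_app, kernel.condition]
    rfl
  have h2 : kernel.ι (q' x) ≫ q x = 0 := Scheme.Modules.hom_ext _ _ fun U => AddCommGrpCat.ext fun t => by
    rw [Scheme.Modules.Hom.comp_app, ConcreteCategory.comp_apply]
    refine (key _ _).mpr ?_
    rw [← ConcreteCategory.comp_apply, ← Scheme.Modules.Hom.comp_app, kernel.condition]
    rfl
  have := hq x
  have := hq' x
  refine ⟨⟨Abelian.epiDesc (q x) (q' x) h1, Abelian.epiDesc (q' x) (q x) h2, ?_, ?_⟩, Abelian.comp_epiDesc _ _ _⟩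
  · rw [← cancel_epi (q x), ← Category.assoc, Abelian.comp_epiDesc, Abelian.comp_epiDesc, Category.comp_id]
  · rw [← cancel_epi (q' x), ← Category.assoc, Abelian.comp_epiDesc, Abelian.comp_epiDesc, Category.comp_id]

end Groth.Agent.S4683
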