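import Groth.Statements.S4687
import Groth.Agent.Lib.LenBC7.Main
import Groth.Agent.Lib.CurveLocus.Basic

set_option autoImplicit false
open CategoryTheory AlgebraicGeometry
universe u
open FBase

namespace Groth.Agent.S4687

/-- Let X be an integral locally Noetherian scheme over a field k, k′ an extension field of k such that
X′ = X ⊗_k k′ is locally Noetherian, and k″ an extension field of k′ which is separable over k′
(Spec k″ → Spec k′ geometrically reduced) and such that (X′)_red ⊗_{k′} k″ is locally Noetherian.
Then for every maximal point x″ of X″ = X′ ⊗_{k′} k″ (generic point of an irreducible component),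
with image x′ in X′, the local rings O_{X″,x″} and O_{X′,x′} have the same length, each as a module
over itself, with values in ℕ∞. -/
theorem result {k k' k'' : Type u} [Field k] [Field k'] [Field k''] [Algebra k k']
    [Algebra k' k''] {X : Scheme.{u}} (f : X ⟶ Spec (CommRingCat.of k)) [IsIntegral X] [IsLocallyNoetherian X]
    [IsLocallyNoetherian (FBase.bc f k')] [GeometricallyReduced (Spec.map (CommRingCat.ofHom (algebraMap k' k'')))]
    [IsLocallyNoetherian (FBase.bc ((FBase.bc f k').nilradical.subschemeι ≫ FBase.bcStr f k') k'')]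
    (x'' : ↥(FBase.bc (FBase.bcStr f k') k'')) (hx'' : ∀ z : ↥(FBase.bc (FBase.bcStr f k') k''), z ⤳ x'' → z = x'') :
    Module.length ((FBase.bc (FBase.bcStr f k') k'').presheaf.stalk x'') ((FBase.bc (FBase.bcStr f k') k'').presheaf.stalk x'') =
      Module.length ((FBase.bc f k').presheaf.stalk (FBase.bcπ (FBase.bcStr f k') k'' x''))
        ((FBase.bc f k').presheaf.stalk (FBase.bcπ (FBase.bcStr f k') k'' x'')) := by
  haveI : Flat (Spec.map (CommRingCat.ofHom (algebraMap k' k''))) := GrothLib.CurveLocus.flat_to_spec_field _
  haveI : Flat (FBase.bcπ (FBase.bcStr f k') k'') := by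
    unfold FBase.bcπ
    exact MorphismProperty.pullback_fst (P := @Flat) _ _ inferInstance
  haveI hr := GrothLib.LenBC7.isReduced_red (FBase.bc f k')
  have hsq := GrothLib.LenBC7.isPullback_red (k'' := k'') (FBase.bcStr f k')
  haveI : IsLocallyNoetherian (FBase.bc f k').nilradical.subscheme :=
    LocallyOfFiniteType.isLocallyNoetherian (FBase.bc f k').nilradical.subschemeι
  haveI : Surjective (FBase.bc f k').nilradical.subschemeι := ⟨by
    rw [← Set.range_eq_univ, Scheme.IdealSheafData.range_subschemeι, Scheme.support_nilradical]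
    rfl⟩
  have hjs := MorphismProperty.of_isPullback (P := @Surjective) hsq.flip ‹Surjective _›
  have hjc := MorphismProperty.of_isPullback (P := @IsClosedImmersion) hsq.flip
    (inferInstance : IsClosedImmersion (FBase.bc f k').nilradical.subschemeι)
  obtain ⟨z'', rfl⟩ := Scheme.Hom.surjective (Limits.pullback.map ((FBase.bc f k').nilradical.subschemeι ≫ FBase.bcStr f k')
    (Spec.map (CommRingCat.ofHom (algebraMap k' k''))) (FBase.bcStr f k')
    (Spec.map (CommRingCat.ofHom (algebraMap k' k''))) (FBase.bc f k').nilradical.subschemeι (𝟙 _) (𝟙 _)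
    (Category.comp_id _) ((Category.comp_id _).trans (Category.id_comp _).symm)) x''
  refine (GrothLib.LenBC7.length_eq _ hr hsq z'' hx'').trans ?_
  haveI : IsLocallyNoetherian (Limits.pullback ((FBase.bc f k').nilradical.subschemeι ≫ FBase.bcStr f k')
    (Spec.map (CommRingCat.ofHom (algebraMap k' k'')))) := ‹IsLocallyNoetherian (FBase.bc _ _)›
  haveI : AlgebraicGeometry.IsReduced (Limits.pullback ((FBase.bc f k').nilradical.subschemeι ≫ FBase.bcStr f k')
    (Spec.map (CommRingCat.ofHom (algebraMap k' k'')))) := inferInstance
  rw [GrothLib.LenBC7.length_of_isField (GrothLib.TFCurve11.isField_stalk_of_maximal z'' fun v hv => ?_), mul_one]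
  · rfl
  · exact (@Scheme.Hom.isClosedEmbedding _ _ _ hjc).injective (hx'' _ (hv.map (Scheme.Hom.continuous _)))

end Groth.Agent.S4687
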