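import Groth.Statements.S4688
import Groth.Agent.Lib.Chev28.PolyHeight

set_option autoImplicit false
universe u
open EGA4

namespace Groth.Agent.S4688

open Polynomial in
/-- Let A be a Noetherian ring, p a prime ideal of A and q a prime ideal of the polynomial ring A[T]
lying over p. Then the extended ideal p A[T] has the same height as p, and if q is different from p
A[T] one has ht(q) = ht(p) + 1. (The remaining assertions of the published item, that p A[T] is
prime over p and that there are infinitely many pairwise incomparable such q, are not restated.) -/
theorem result (A : Type u) [CommRing A] [IsNoetherianRing A]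
    (p : Ideal A) [p.IsPrime] (q : Ideal A[X]) [q.IsPrime] [q.LiesOver p] :
    (p.map (Polynomial.C : A →+* A[X])).height = p.height ∧
      (q ≠ p.map (Polynomial.C : A →+* A[X]) → q.height = p.height + 1) := by
  exact ⟨GrothLib.Chev28.height_map_C_prime p, GrothLib.Chev28.height_eq_add_one_of_ne p q⟩

end Groth.Agent.S4688
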