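import Groth.Statements.S4689
import Groth.Agent.Lib.Altitude.Basic
-- import your own Groth.Agent.* helpers here

set_option autoImplicit false
universe u
open EGA4

namespace Groth.Agent.S4689

/-- Let A be a universally catenary Noetherian local domain and B a domain containing A which is a
finite A-algebra. Then for every maximal ideal n of B the local ring B_n has the same Krull
dimension as A. -/
theorem result (A B : Type u) [CommRing A] [IsDomain A]
    [IsNoetherianRing A] [IsLocalRing A] (hA : CAlg.IsUniversallyCatenary A) [CommRing B] [IsDomain B]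
    [Algebra A B] [FaithfulSMul A B] [Module.Finite A B] (n : Ideal B) [n.IsMaximal] :
    ringKrullDim (Localization.AtPrime n) = ringKrullDim A := by
  haveI : n.LiesOver (n.under A) := ⟨rfl⟩
  haveI : IsNoetherianRing B := IsNoetherianRing.of_finite A B
  haveI : (n.under A).IsMaximal := Ideal.IsMaximal.under A n
  obtain ⟨t, s, ht, hs, -, heq⟩ := GrothLib.Altitude.height_add_trdeg A B (n.under A) n
  haveI : IsLocalization (⊥ : Submonoid A) A := IsLocalization.self bot_le
  have h := heq ⊥ A bot_le hA
  have ht0 : t = 0 := by
    haveI : Algebra.IsAlgebraic A B := Algebra.IsIntegral.isAlgebraic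
    have h0 : Algebra.trdeg A B = 0 := trdeg_eq_zero
    rw [ht] at h0
    exact_mod_cast h0
  have hs0 : s = 0 := by
    haveI : Algebra.IsIntegral (A ⧸ n.under A) (B ⧸ n) := inferInstance
    haveI : Algebra.IsAlgebraic (A ⧸ n.under A) (B ⧸ n) := Algebra.IsIntegral.isAlgebraic
    have h0 : Algebra.trdeg (A ⧸ n.under A) (B ⧸ n) = 0 := trdeg_eq_zero
    rw [hs] at h0
    exact_mod_cast h0
  rw [ht0, hs0, Nat.cast_zero, add_zero, add_zero] at h
  rw [IsLocalization.AtPrime.ringKrullDim_eq_height n, h, IsLocalRing.eq_maximalIdeal ‹(n.under A).IsMaximal›,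
    IsLocalRing.maximalIdeal_height_eq_ringKrullDim]

end Groth.Agent.S4689
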