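import Groth.Statements.S4690
import Groth.Agent.Lib.Chev28.IrredDim

set_option autoImplicit false
universe u
open EGA4

namespace Groth.Agent.S4690

open AlgebraicGeometry CategoryTheory in
/-- Let Y be an irreducible locally Noetherian scheme, X an irreducible scheme and f : X → Y a dominant
morphism locally of finite type; let e be the dimension of the generic fibre of f. Then dim X ≤ dim
Y + e. If moreover every local ring of Y is universally catenary, the two sides are equal if and
only if dim Y equals the supremum of the dimensions of the local rings of Y at the points of f(X). -/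
theorem result {X Y : Scheme.{u}} (f : X ⟶ Y) [IsLocallyNoetherian Y]
    [LocallyOfFiniteType f] [IrreducibleSpace X] [IrreducibleSpace Y] (hf : DenseRange f.base) :
    topologicalKrullDim X ≤ topologicalKrullDim Y + topologicalKrullDim (f.fiber (genericPoint Y)) ∧
      ((∀ y : Y, CAlg.IsUniversallyCatenary (Y.presheaf.stalk y)) →
        (topologicalKrullDim X = topologicalKrullDim Y + topologicalKrullDim (f.fiber (genericPoint Y)) ↔
          topologicalKrullDim Y = ⨆ y ∈ Set.range f.base, ringKrullDim (Y.presheaf.stalk y))) := by
  obtain ⟨hle, heq⟩ := GrothLib.Chev28.dim_le_add_generic f hf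
  refine ⟨hle, fun hcat => ?_⟩
  obtain ⟨t, -, ht, -, -⟩ := GrothLib.Chev28.dim_stalk_irreducible f (by
    have h := ((genericPoint_spec (X : Type u)).image f.continuous)
    rw [Set.image_univ, hf.closure_range] at h
    exact h.eq (genericPoint_spec Y))
  rw [heq hcat, ht]
  have key : ∀ a b : WithBot ℕ∞, a + (t : WithBot ℕ∞) = b + (t : WithBot ℕ∞) → a = b := by
    intro a b h
    cases a with
    | bot =>
      rw [WithBot.bot_add] at h
      exact ((WithBot.add_eq_bot.mp h.symm).resolve_right (WithBot.natCast_ne_bot t)).symm
    | coe a =>
      cases b with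
      | bot =>
        rw [WithBot.bot_add] at h
        exact absurd h (WithBot.add_ne_bot.mpr ⟨WithBot.coe_ne_bot, WithBot.natCast_ne_bot t⟩)
      | coe b =>
        have h' : a + (t : ℕ∞) = b + (t : ℕ∞) := WithBot.coe_injective h
        exact congrArg _ (WithTop.add_right_cancel (ENat.natCast_ne_top t) h')
  exact ⟨fun h => (key _ _ h).symm, fun h => by rw [← h]⟩

end Groth.Agent.S4690
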