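import Groth.Statements.S4691
import Groth.Agent.Lib.Chev28.IrredDim

set_option autoImplicit false
universe u
open EGA4

namespace Groth.Agent.S4691

open AlgebraicGeometry CategoryTheory in
/-- Let Y be a locally Noetherian scheme, f : X → Y a morphism locally of finite type and n a natural
number such that every fibre of f has dimension at most n. Then dim X ≤ dim Y + n. -/
theorem result {X Y : Scheme.{u}} (f : X ⟶ Y) [IsLocallyNoetherian Y]
    [LocallyOfFiniteType f] (n : ℕ) (h : ∀ y : Y, topologicalKrullDim (f.fiber y) ≤ n) :
    topologicalKrullDim X ≤ topologicalKrullDim Y + n := by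
  exact GrothLib.Chev28.dim_le_add_of_fibre_le f n h

end Groth.Agent.S4691
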