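import Groth.Statements.S4692
import Groth.Agent.Lib.Chev28.IrredDim

set_option autoImplicit false
universe u
open EGA4

namespace Groth.Agent.S4692

open AlgebraicGeometry CategoryTheory in
/-- Let Y be a locally Noetherian scheme all of whose local rings are universally catenary, X an
irreducible scheme, f : X → Y a morphism locally of finite type and n a natural number. If every
fibre of f has dimension at least n then dim X ≥ dim Y + n; if every fibre has dimension exactly n
then dim X = dim Y + n. (The empty scheme has dimension ⊥, so either hypothesis forces f to be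
surjective.) -/
theorem result {X Y : Scheme.{u}} (f : X ⟶ Y) [IsLocallyNoetherian Y]
    [LocallyOfFiniteType f] [IrreducibleSpace X] (hY : ∀ y : Y, CAlg.IsUniversallyCatenary (Y.presheaf.stalk y))
    (n : ℕ) :
    ((∀ y : Y, (n : WithBot ℕ∞) ≤ topologicalKrullDim (f.fiber y)) →
        topologicalKrullDim Y + n ≤ topologicalKrullDim X) ∧
      ((∀ y : Y, topologicalKrullDim (f.fiber y) = n) →
        topologicalKrullDim X = topologicalKrullDim Y + n) := by
  refine ⟨fun h => GrothLib.Chev28.add_le_dim_of_fibre_ge f hY n h, fun h => le_antisymm ?_ ?_⟩
  · exact GrothLib.Chev28.dim_le_add_of_fibre_le f n fun y => (h y).le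
  · exact GrothLib.Chev28.add_le_dim_of_fibre_ge f hY n fun y => (h y).ge

end Groth.Agent.S4692
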