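import Groth.Statements.S4693
import Groth.Agent.Lib.FibDimFormula.Basic
import Groth.Agent.S2598
-- import your own Groth.Agent.* helpers here

set_option autoImplicit false
universe u
open EGA4

namespace Groth.Agent.S4693

/-- Let A → B be a local homomorphism of Noetherian local rings such that the closed fibre ring B/m_A B
has Krull dimension 0 (that is, m_A B is an ideal of definition of B). Then dim B ≤ dim A. If
moreover some finite B-module which is flat over A has support equal to all of Spec B (for instance
if B is flat over A), then dim B = dim A. -/
theorem result (A B : Type u) [CommRing A] [CommRing B] [IsNoetherianRing A]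
    [IsNoetherianRing B] [IsLocalRing A] [IsLocalRing B] [Algebra A B] [IsLocalHom (algebraMap A B)]
    (h0 : ringKrullDim (EGA4.FibRing A B) = 0) :
    ringKrullDim B ≤ ringKrullDim A ∧
      (∀ (N : Type u) [AddCommGroup N] [Module B N] [Module A N] [IsScalarTower A B N] [Module.Finite B N]
          [Module.Flat A N], Module.support B N = Set.univ → ringKrullDim B = ringKrullDim A) := by
  have h1 := GrothLib.CMBasics.ringKrullDim_le_add_fibre A B
  rw [show ringKrullDim (B ⧸ (IsLocalRing.maximalIdeal A).map (algebraMap A B)) = 0 from h0, add_zero] at h1
  refine ⟨h1, fun N => ?_⟩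
  intro _ _ _ _ _ _ hN
  refine le_antisymm h1 ?_
  haveI : Nontrivial N := by
    by_contra hs
    rw [not_nontrivial_iff_subsingleton] at hs
    rw [Module.support_eq_empty_iff.2 hs] at hN
    exact Set.empty_ne_univ hN
  have h2 := Groth.Agent.S2598.result A B A N
  rw [Module.supportDim_self_eq_ringKrullDim] at h2
  have h3 : Module.supportDim B N = ringKrullDim B := by
    rw [Module.supportDim, hN]
    exact Order.krullDim_eq_of_orderIso OrderIso.Set.univ
  have h4 : Module.supportDim B (TensorProduct A N A) = Module.supportDim B N := by
    unfold Module.supportDim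
    rw [(TensorProduct.AlgebraTensorModule.rid A B N).support_eq]
  have h5 : 0 ≤ Module.supportDim B (EGA4.FibMod A B N) := by
    haveI : Nontrivial (EGA4.FibMod A B N) := Submodule.Quotient.nontrivial_iff.2 fun h =>
      not_subsingleton N (Submodule.subsingleton_iff B |>.1 (subsingleton_of_bot_eq_top
        (Submodule.eq_bot_of_le_smul_of_le_jacobson_bot _ _ Module.Finite.fg_top h.ge
          GrothLib.Flatness.map_maximalIdeal_le_jacobson).symm))
    haveI : Nonempty ↥(Module.support B (EGA4.FibMod A B N)) := Set.nonempty_coe_sort.2 (Set.nonempty_iff_ne_empty.2 (Module.support_eq_empty_iff.not.2 (not_subsingleton _)))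
    exact Order.krullDim_nonneg
  rw [← h3, ← h4, h2]
  exact le_add_of_nonneg_right h5


end Groth.Agent.S4693
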