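import Groth.Statements.S4694
import Groth.Agent.Lib.DepthFlat.Basic
import Groth.Agent.Lib.LenIneq
import Groth.Agent.Lib.Depth.CM
-- import your own Groth.Agent.* helpers here

set_option autoImplicit false
universe u
open EGA4

namespace Groth.Agent.S4694

open TensorProduct in
/-- Let A → B be a local homomorphism of Noetherian local rings, M a finite A-module and N a nonzero
finite B-module, flat over A, whose closed-fibre module N/m_A N has finite length. Then the depth of
the B-module N ⊗_A M equals the depth of the A-module M. (The companion equality of codepths in the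
published item is not restated.) -/
theorem result {A B M N : Type u} [CommRing A] [CommRing B]
    [IsNoetherianRing A] [IsNoetherianRing B] [IsLocalRing A] [IsLocalRing B] [Algebra A B]
    [IsLocalHom (algebraMap A B)] [AddCommGroup M] [Module A M] [Module.Finite A M]
    [AddCommGroup N] [Module B N] [Module A N] [IsScalarTower A B N] [Module.Finite B N] [Nontrivial N]
    [Module.Flat A N] (hN : IsFiniteLength B (EGA4.FibMod A B N)) :
    LocCoh.depth B (N ⊗[A] M) = LocCoh.depth A M := by
  rw [GrothLib.DepthFlat.depth_tensor (R := A) (S := B) (N := N) (M := M)]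
  haveI : Nontrivial (EGA4.FibMod A B N) := Submodule.Quotient.nontrivial_iff.2 fun h =>
    not_subsingleton N (Submodule.subsingleton_iff B |>.1 (subsingleton_of_bot_eq_top
      (Submodule.eq_bot_of_le_smul_of_le_jacobson_bot _ _ Module.Finite.fg_top h.ge
        GrothLib.Flatness.map_maximalIdeal_le_jacobson).symm))
  have h := (GrothLib.Depth.depth_le_supportDim B (EGA4.FibMod A B N)).trans
    (GrothLib.LenIneq.supportDim_le_zero (Module.length_ne_top_iff.2 hN))
  rw [← WithBot.coe_zero, WithBot.coe_le_coe, nonpos_iff_eq_zero] at h
  show _ + LocCoh.depth B (EGA4.FibMod A B N) = _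
  rw [h, add_zero]


end Groth.Agent.S4694
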