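import Groth.Statements.S4695
import Groth.Agent.Lib.GeomReg.Tensor

set_option autoImplicit false
set_option linter.style.haveILetI false
universe u
open EGA4 TensorProduct

namespace Groth.Agent.S4695

open TensorProduct in
/-- For a regular homomorphism of finite type the fibres over all field points are regular. -/
theorem isRegularRing_field_tensor_of_finiteType {A B : Type u} [CommRing A] [CommRing B] [Algebra A B]
    [Algebra.FiniteType A B] (h : CAlg.IsRegularHom A B) (K : Type u) [Field K] [Algebra A K] :
    IsRegularRing (K ⊗[A] B) := by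
  let p := RingHom.ker (algebraMap A K)
  have hp : p.IsPrime := RingHom.ker_isPrime _
  let φ : p.ResidueField →+* K := Ideal.ResidueField.lift p (algebraMap A K) le_rfl
    (fun x hx => isUnit_iff_ne_zero.2 hx)
  let _ : Algebra p.ResidueField K := φ.toAlgebra
  have : IsScalarTower A p.ResidueField K := IsScalarTower.of_algebraMap_eq fun x =>
    (Ideal.ResidueField.lift_algebraMap p _ _ _ x).symm
  haveI : IsNoetherianRing (p.Fiber B) := (h.2 p).1
  haveI : Algebra.FinitePresentation p.ResidueField (p.Fiber B) :=
    Algebra.FinitePresentation.of_finiteType.mp inferInstance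
  haveI : Algebra.Smooth p.ResidueField (p.Fiber B) :=
    GrothLib.LocProp.smooth_of_isGeometricallyRegular p.ResidueField (p.Fiber B) (h.2 p).2
  haveI : IsRegularRing (K ⊗[p.ResidueField] (p.Fiber B)) := GrothLib.GeomReg.isRegularRing_of_smooth K _
  exact IsRegularRing.of_ringEquiv (R := K ⊗[p.ResidueField] (p.Fiber B))
    (Algebra.TensorProduct.cancelBaseChange A p.ResidueField K K B).toRingEquiv

open TensorProduct in
/-- Case of regular morphisms, affine form: let A → B be a homomorphism of Noetherian rings and A' a
Noetherian A-algebra, and assume that B or A' is of finite type over A. If A → B is regular then the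
base change A' → A' ⊗_A B is regular; the converse holds when A' is faithfully flat over A. -/
theorem result (A B A' : Type u) [CommRing A] [CommRing B] [CommRing A']
    [IsNoetherianRing A] [IsNoetherianRing B] [IsNoetherianRing A'] [Algebra A B] [Algebra A A']
    (hft : Algebra.FiniteType A B ∨ Algebra.FiniteType A A') :
    (CAlg.IsRegularHom A B → CAlg.IsRegularHom A' (A' ⊗[A] B)) ∧
      (Module.FaithfullyFlat A A' → CAlg.IsRegularHom A' (A' ⊗[A] B) → CAlg.IsRegularHom A B) := by
  refine ⟨fun h => ?_, fun hff h => ?_⟩
  · rcases hft with hB | hA'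
    · have := h.1
      refine GrothLib.GeomReg.isRegularHom_iff.2 ⟨inferInstance, fun K _ _ hK => ?_⟩
      letI : Algebra A K := ((algebraMap A' K).comp (algebraMap A A')).toAlgebra
      haveI : IsScalarTower A A' K := IsScalarTower.of_algebraMap_eq fun _ => rfl
      haveI := isRegularRing_field_tensor_of_finiteType h K
      exact IsRegularRing.of_ringEquiv (R := K ⊗[A] B)
        (Algebra.TensorProduct.cancelBaseChange A A' K K B).symm.toRingEquiv
    · exact GrothLib.GeomReg.isRegularHom_baseChange h
  · haveI := hff
    obtain ⟨hflat, hK⟩ := GrothLib.GeomReg.isRegularHom_iff.1 h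
    haveI := hflat
    refine GrothLib.GeomReg.isRegularHom_iff.2 ⟨Module.Flat.of_flat_tensorProduct A B A', fun L _ _ hL => ?_⟩
    haveI := hL
    obtain ⟨m, hm⟩ := Ideal.exists_maximal (A' ⊗[A] L)
    let K' := (A' ⊗[A] L) ⧸ m
    let _ : Field K' := Ideal.Quotient.field m
    let _ : Algebra L K' := ((Ideal.Quotient.mk m).comp
      Algebra.TensorProduct.includeRight.toRingHom).toAlgebra
    haveI : IsScalarTower A L K' := IsScalarTower.of_algebraMap_eq fun x => by
      show algebraMap A K' x = Ideal.Quotient.mk m ((1 : A') ⊗ₜ[A] algebraMap A L x)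
      rw [IsScalarTower.algebraMap_apply A (A' ⊗[A] L) K', Ideal.Quotient.algebraMap_eq,
        ← (Algebra.TensorProduct.includeRight : L →ₐ[A] A' ⊗[A] L).commutes]
      rfl
    haveI : Algebra.EssFiniteType A' K' := Algebra.EssFiniteType.comp A' (A' ⊗[A] L) K'
    haveI : IsRegularRing (K' ⊗[A'] (A' ⊗[A] B)) := hK K' inferInstance
    haveI : IsRegularRing ((L ⊗[A] B) ⊗[L] K') := IsRegularRing.of_ringEquiv (R := K' ⊗[A'] (A' ⊗[A] B))
      ((Algebra.TensorProduct.cancelBaseChange A A' K' K' B).toRingEquiv.trans
        ((Algebra.TensorProduct.cancelBaseChange A L K' K' B).symm.toRingEquiv.trans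
          (Algebra.TensorProduct.comm L K' (L ⊗[A] B)).toRingEquiv))
    exact GrothLib.Serre.isRegularRing_of_faithfullyFlat (L ⊗[A] B) ((L ⊗[A] B) ⊗[L] K')

end Groth.Agent.S4695
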