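import Groth.Statements.S4696
import Groth.Agent.Lib.NormalHom.Basic

set_option autoImplicit false
universe u
open EGA4

namespace Groth.Agent.S4696

/-- Case of normal morphisms, affine form: let A → B → C be homomorphisms of Noetherian rings. If A → B
and B → C are normal (flat, with geometrically normal fibres) then the composite A → C is normal. -/
theorem result (A B C : Type u) [CommRing A] [CommRing B] [CommRing C] [IsNoetherianRing A]
    [IsNoetherianRing B] [IsNoetherianRing C] [Algebra A B] [Algebra B C] [Algebra A C] [IsScalarTower A B C]
    (hAB : EGA4.IsNormalHom A B) (hBC : EGA4.IsNormalHom B C) : EGA4.IsNormalHom A C := by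
  exact GrothLib.NormalHom.isNormalHom_comp (B := B) hAB hBC

end Groth.Agent.S4696
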