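import Groth.Statements.S4699
import Groth.Agent.Lib.DepthAlong5.Main

set_option autoImplicit false
universe u
open EGA4

namespace Groth.Agent.S4699

/-- Let A be a Noetherian ring, M a finite A-module and I an ideal of A whose radical p is a prime ideal
lying in the support of M (so V(I) is an irreducible closed subset whose generic point is in Supp
M). Then there is an element f outside p such that, for every prime q containing I with f outside q,
the dimension of M_q is the dimension of M_p plus the dimension of (A/I)_q, and the depth of M_q is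
the depth of M_p plus the depth of (A/I)_q (the module (A/I)_q = A_q / I A_q being regarded over
A_q). -/
theorem result (A : Type u) [CommRing A] [IsNoetherianRing A]
    (M : Type u) [AddCommGroup M] [Module A M] [Module.Finite A M] (I : Ideal A) [I.radical.IsPrime]
    (hp : (⟨I.radical, inferInstance⟩ : PrimeSpectrum A) ∈ Module.support A M) :
    ∃ f : A, f ∉ I.radical ∧ ∀ (q : Ideal A) [q.IsPrime], I ≤ q → f ∉ q →
      Module.supportDim (Localization.AtPrime q) (LocalizedModule q.primeCompl M) =
          Module.supportDim (Localization.AtPrime I.radical) (LocalizedModule I.radical.primeCompl M) +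
            Module.supportDim (Localization.AtPrime q)
              (Localization.AtPrime q ⧸ I.map (algebraMap A (Localization.AtPrime q))) ∧
        LocCoh.depth (Localization.AtPrime q) (LocalizedModule q.primeCompl M) =
          LocCoh.depth (Localization.AtPrime I.radical) (LocalizedModule I.radical.primeCompl M) +
            LocCoh.depth (Localization.AtPrime q)
              (Localization.AtPrime q ⧸ I.map (algebraMap A (Localization.AtPrime q))) := by
  classical
  let p := I.radical
  obtain ⟨k, hk⟩ := Ideal.exists_radical_pow_le_of_fg I (IsNoetherian.noetherian _)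
  have hA : ∀ a ∈ p ^ k, ∀ m : A ⧸ I, a • m = 0 := fun a ha m => by
    obtain ⟨c, rfl⟩ := Ideal.Quotient.mk_surjective m
    rw [Algebra.smul_def, Ideal.Quotient.algebraMap_eq, Ideal.Quotient.eq_zero_iff_mem.2 (hk ha), zero_mul]
  have hnt : Nontrivial (LocalizedModule p.primeCompl (A ⧸ I)) :=
    Module.mem_support_iff.1 (show (⟨p, inferInstance⟩ : PrimeSpectrum A) ∈ Module.support A (A ⧸ I) by
      rw [Module.support_eq_zeroLocus, Ideal.annihilator_quotient]
      exact Ideal.le_radical)
  obtain ⟨f₁, hf₁, H₁⟩ := GrothLib.DepthAlong5.exists_additive p M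
  obtain ⟨f₂, hf₂, H₂⟩ := GrothLib.DepthAlong5.exists_additive p (A ⧸ I)
  obtain ⟨f₃, hf₃, H₃⟩ := GrothLib.DepthAlong5.exists_dep_eq_of_torsion p k (A ⧸ I) hA
  have h0d : GrothLib.DepthAlong5.dep p (A ⧸ I) = 0 :=
    ((H₃ p le_rfl hf₃).2 hnt).trans (GrothLib.DepthAlong5.dep_quotient_self p)
  have h0s : GrothLib.DepthAlong5.sdim p (A ⧸ I) = 0 := by
    refine Eq.trans ?_ (GrothLib.DepthAlong5.sdim_quotient_self p)
    rw [GrothLib.DepthAlong5.sdim, GrothLib.DepthAlong5.sdim, GrothLib.GrLC.supportDim_localized,
      GrothLib.GrLC.supportDim_localized, GrothLib.DepthAlong5.support_of_torsion p (A ⧸ I) k hA hnt]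
  refine ⟨f₁ * f₂, fun h => ((inferInstance : p.IsPrime).mem_or_mem h).elim hf₁ hf₂, fun q hq hIq hfq => ?_⟩
  have hpq : p ≤ q := hq.radical_le_iff.2 hIq
  obtain ⟨a1, a2⟩ := H₁ q hpq fun h => hfq (Ideal.mul_mem_right _ _ h)
  obtain ⟨b1, b2⟩ := H₂ q hpq fun h => hfq (Ideal.mul_mem_left _ _ h)
  rw [h0d, zero_add] at b1
  rw [h0s, zero_add] at b2
  let S := Localization.AtPrime q
  haveI : IsNoetherianRing S := GrothLib.Depth.isNoetherian_atPrime q
  haveI := GrothLib.DepthAlong5.finite_localized (M := A ⧸ I) q
  let g := Algebra.linearMap A S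
  have hI : Submodule.localized' S q.primeCompl g I = I.map (algebraMap A S) := by
    rw [Submodule.localized'_eq_span]
    rfl
  let e₀ : LocalizedModule q.primeCompl (A ⧸ I) ≃ₗ[S] S ⧸ I.map (algebraMap A S) :=
    ((IsLocalizedModule.linearEquiv q.primeCompl (LocalizedModule.mkLinearMap q.primeCompl (A ⧸ I))
      (I.toLocalizedQuotient' S q.primeCompl g)).extendScalarsOfIsLocalization q.primeCompl S).trans
      (Submodule.quotEquivOfEq _ _ hI)
  refine ⟨?_, ?_⟩
  · rw [← Module.supportDim_eq_of_equiv e₀]
    exact a2.trans (by rw [← b2])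
  · rw [LocCoh.depth, LocCoh.depth, LocCoh.depth, ← GrothLib.Depth.idealDepth_eq_of_equiv _ e₀]
    exact a1.trans (by rw [← b1]; rfl)

end Groth.Agent.S4699
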