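import Groth.Statements.S4701
import Groth.Agent.Lib.Excellent.RkLocus
-- import your own Groth.Agent.* helpers here

set_option autoImplicit false
universe u
open EGA4

namespace Groth.Agent.S4701

/-- Let A be a Noetherian ring. The regular locus of every quotient ring A/I is open in its spectrum if
and only if, for every prime ideal p, the regular locus of the domain A/p contains a nonempty open
subset of Spec(A/p). (The published statement quantifies over all subschemes of Spec A; open
subschemes of the closed ones add nothing, so closed subschemes are used here.) -/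
theorem result (A : Type u) [CommRing A] [IsNoetherianRing A] :
    (∀ I : Ideal A, IsOpen (EGA4.regLocus (A ⧸ I))) ↔
      ∀ (p : Ideal A) [p.IsPrime],
        ∃ U : Set (PrimeSpectrum (A ⧸ p)), IsOpen U ∧ U.Nonempty ∧ U ⊆ EGA4.regLocus (A ⧸ p) := by
  refine ⟨fun h p _ => ⟨EGA4.regLocus (A ⧸ p), h p, ?_, subset_rfl⟩, fun h I => ?_⟩
  · refine ⟨⟨⊥, Ideal.isPrime_bot⟩, ?_⟩
    show IsRegularLocalRing (Localization.AtPrime (⊥ : Ideal (A ⧸ p)))
    haveI : IsFractionRing (A ⧸ p) (Localization.AtPrime (⊥ : Ideal (A ⧸ p))) := by
      show IsLocalization (nonZeroDivisors (A ⧸ p)) (Localization.AtPrime (⊥ : Ideal (A ⧸ p)))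
      rw [← Ideal.primeCompl_bot]
      infer_instance
    let _ := IsFractionRing.toField (A ⧸ p) (K := Localization.AtPrime (⊥ : Ideal (A ⧸ p)))
    infer_instance
  · refine GrothLib.J2.isOpen_regLocus fun P _ => ?_
    let g : A →+* (A ⧸ I) ⧸ P := (Ideal.Quotient.mk P).comp (Ideal.Quotient.mk I)
    have hg : Function.Surjective g := Ideal.Quotient.mk_surjective.comp Ideal.Quotient.mk_surjective
    haveI : (RingHom.ker g).IsPrime := RingHom.ker_isPrime g
    obtain ⟨U, hU, hne, hsub⟩ := h (RingHom.ker g)
    exact GrothLib.J2.isJ0_congr (RingHom.quotientKerEquivOfSurjective hg)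
      (GrothLib.Excellent.isJ0_of_open hU hne hsub)

end Groth.Agent.S4701
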