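import Groth.Statements.S4702
import Groth.Agent.Lib.Chev28.IrredDim

set_option autoImplicit false
universe u
open EGA4

namespace Groth.Agent.S4702

open AlgebraicGeometry CategoryTheory in
/-- Let Y be an irreducible locally Noetherian scheme of dimension 1, X an irreducible scheme and f : X
→ Y a dominant morphism of finite type. Then for every point y in the image of f, every irreducible
component of the fibre of f at y has dimension equal to the dimension of the generic fibre. -/
theorem result {X Y : Scheme.{u}} (f : X ⟶ Y) [IsLocallyNoetherian Y]
    [IrreducibleSpace Y] [IrreducibleSpace X] (hY : topologicalKrullDim Y = 1) [LocallyOfFiniteType f]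
    [QuasiCompact f] (hf : DenseRange f.base) (y : Y) (hy : y ∈ Set.range f.base)
    (Z : Set ↥(f.fiber y)) (hZ : Z ∈ irreducibleComponents ↥(f.fiber y)) :
    topologicalKrullDim Z = topologicalKrullDim ↥(f.fiber (genericPoint Y)) := by
  exact GrothLib.Chev28.dim_component_fibre_of_dim_one f hY.le hf y Z hZ

end Groth.Agent.S4702
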