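import Groth.Statements.S4703
import Groth.Agent.Lib.FormalDescent.Basic
import Groth.Agent.Lib.GeomReg.Comp
import Groth.Agent.Lib.Excellent.FiniteModels

set_option autoImplicit false
universe u
open EGA4

namespace Groth.Agent.S4703

open TensorProduct in
open TensorProduct in
theorem aux_tensor (A : Type u) [CommRing A] (C : Type u) [CommRing C] [Algebra A C] (L : Type u) [Field L]
    [Algebra A L] [Algebra.EssFiniteType A L] (h : CAlg.IsRegularHom A C) : IsRegularRing (L ⊗[A] C) :=
  GrothLib.GeomReg.isRegularRing_field_tensor h L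

open TensorProduct in
theorem mp_aux (A : Type u) [CommRing A] (C : Type u) [CommRing C] [Algebra A C] (h : CAlg.IsRegularHom A C)
    (B : Type u) [CommRing B] [IsDomain B] [Algebra A B] [Module.Finite A B]
    [IsNoetherianRing (B ⊗[A] C)]
    (q : Ideal (B ⊗[A] C)) [q.IsPrime] (hq : q.comap (algebraMap B (B ⊗[A] C)) = ⊥) :
    IsRegularLocalRing (Localization.AtPrime q) := by
  let L := FractionRing B
  haveI : Algebra.EssFiniteType A L := Algebra.EssFiniteType.comp A B L
  haveI : IsRegularRing (L ⊗[A] C) := aux_tensor A C L h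
  let M := Algebra.algebraMapSubmonoid (B ⊗[A] C) (nonZeroDivisors B)
  haveI : IsRegularRing ((B ⊗[A] C) ⊗[B] L) := IsRegularRing.of_ringEquiv (R := L ⊗[A] C)
    ((Algebra.TensorProduct.comm B (B ⊗[A] C) L).toRingEquiv.trans
      (Algebra.TensorProduct.cancelBaseChange A B L L C).toRingEquiv).symm
  have hdisj : Disjoint (M : Set (B ⊗[A] C)) q := Set.disjoint_left.2 (by
    rintro _ ⟨b, hb, rfl⟩ hmem
    have : b ∈ q.comap (algebraMap B (B ⊗[A] C)) := hmem
    rw [hq, Ideal.mem_bot] at this
    exact nonZeroDivisors.ne_zero hb this)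
  let T := (B ⊗[A] C) ⊗[B] L
  let Q := q.map (algebraMap (B ⊗[A] C) T)
  haveI : Q.IsPrime := IsLocalization.isPrime_of_isPrime_disjoint M T q inferInstance hdisj
  have hQ : Q.comap (algebraMap (B ⊗[A] C) T) = q :=
    IsLocalization.comap_map_of_isPrime_disjoint M T inferInstance hdisj
  haveI : IsRegularLocalRing (Localization.AtPrime Q) := isRegularRing_iff.1 inferInstance Q
  haveI : IsLocalization.AtPrime (Localization.AtPrime Q) (Q.comap (algebraMap (B ⊗[A] C) T)) :=
    IsLocalization.isLocalization_isLocalization_atPrime_isLocalization M (Localization.AtPrime Q) Q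
  haveI : IsRegularLocalRing (Localization.AtPrime (Q.comap (algebraMap (B ⊗[A] C) T))) :=
    IsRegularLocalRing.of_ringEquiv (R := Localization.AtPrime Q)
      (IsLocalization.algEquiv (Q.comap (algebraMap (B ⊗[A] C) T)).primeCompl (Localization.AtPrime Q)
        (Localization.AtPrime (Q.comap (algebraMap (B ⊗[A] C) T)))).toRingEquiv
  exact (fun (r : Ideal (B ⊗[A] C)) [r.IsPrime] (e : r = q) (h : IsRegularLocalRing (Localization.AtPrime r)) =>
    (by subst e; exact h : IsRegularLocalRing (Localization.AtPrime q))) _ hQ ‹_›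

open TensorProduct in
theorem mpr_aux (A : Type u) [CommRing A] [IsNoetherianRing A] (C : Type u) [CommRing C] [Algebra A C]
    [IsNoetherianRing C]
    (h : ∀ (B : Type u) [CommRing B] [IsDomain B] [Algebra A B] [Module.Finite A B]
        (q : Ideal (B ⊗[A] C)) [q.IsPrime],
        q.comap (algebraMap B (B ⊗[A] C)) = ⊥ → IsRegularLocalRing (Localization.AtPrime q))
    (p : Ideal A) [p.IsPrime] (L : Type u) [Field L] [Algebra A L] [Algebra p.ResidueField L]
    [IsScalarTower A p.ResidueField L] [Module.Finite p.ResidueField L] : IsRegularRing (L ⊗[A] C) := by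
  obtain ⟨B, hBf, hB⟩ := GrothLib.Excellent.exists_finite_model p L
  haveI := hB
  haveI := hBf
  haveI : IsFractionRing B L := hB
  haveI : Algebra.FiniteType C (C ⊗[A] B) := inferInstance
  haveI : IsNoetherianRing (C ⊗[A] B) := Algebra.FiniteType.isNoetherianRing C _
  haveI : IsNoetherianRing (B ⊗[A] C) :=
    isNoetherianRing_of_ringEquiv _ (Algebra.TensorProduct.comm A C B).toRingEquiv
  let M := Algebra.algebraMapSubmonoid (B ⊗[A] C) (nonZeroDivisors B)
  let T := (B ⊗[A] C) ⊗[B] L
  haveI : IsNoetherianRing T := IsLocalization.isNoetherianRing M T inferInstance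
  haveI : IsRegularRing T := by
    rw [isRegularRing_iff]
    intro Q _
    haveI : IsRegularLocalRing (Localization.AtPrime (Q.comap (algebraMap (B ⊗[A] C) T))) := h B _ (by
      rw [Ideal.comap_comap, eq_bot_iff]
      intro b hb
      by_contra hb0
      refine (inferInstance : Q.IsPrime).ne_top (Q.eq_top_of_isUnit_mem hb ?_)
      exact IsLocalization.map_units T (⟨_, b, mem_nonZeroDivisors_of_ne_zero hb0, rfl⟩ : M))
    haveI : IsLocalization.AtPrime (Localization.AtPrime Q) (Q.comap (algebraMap (B ⊗[A] C) T)) :=
      IsLocalization.isLocalization_isLocalization_atPrime_isLocalization M (Localization.AtPrime Q) Q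
    exact IsRegularLocalRing.of_ringEquiv (R := Localization.AtPrime (Q.comap (algebraMap (B ⊗[A] C) T)))
      (IsLocalization.algEquiv (Q.comap (algebraMap (B ⊗[A] C) T)).primeCompl
        (Localization.AtPrime (Q.comap (algebraMap (B ⊗[A] C) T))) (Localization.AtPrime Q)).toRingEquiv
  exact IsRegularRing.of_ringEquiv (R := T)
    ((Algebra.TensorProduct.comm B (B ⊗[A] C) L).toRingEquiv.trans
      (Algebra.TensorProduct.cancelBaseChange A B L L C).toRingEquiv)

open TensorProduct in
/-- For the property 'geometrically regular', case of a local ring: let A be a Noetherian local ring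
with completion Â. Then the formal fibres of A are geometrically regular (the completion map A → Â
is a regular homomorphism) if and only if, for every finite A-algebra B which is a domain and every
prime ideal q of B ⊗_A Â whose contraction to B is zero, the local ring of B ⊗_A Â at q is regular.
(The published statement is for semi-local rings; this row takes A local.) -/
theorem result (A : Type u) [CommRing A] [IsNoetherianRing A] [IsLocalRing A] :
    CAlg.IsRegularHom A (EGA4.Cpl A) ↔
      ∀ (B : Type u) [CommRing B] [IsDomain B] [Algebra A B] [Module.Finite A B]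
        (q : Ideal (B ⊗[A] EGA4.Cpl A)) [q.IsPrime],
        q.comap (algebraMap B (B ⊗[A] EGA4.Cpl A)) = ⊥ → IsRegularLocalRing (Localization.AtPrime q) := by
  haveI : IsNoetherianRing (EGA4.Cpl A) := (GrothLib.Ratliff.isUniversallyCatenary_cpl (A := A)).1
  constructor
  · intro h B _ _ _ _ q _ hq
    haveI : IsNoetherianRing (EGA4.Cpl A ⊗[A] B) := Algebra.FiniteType.isNoetherianRing (EGA4.Cpl A) _
    haveI : IsNoetherianRing (B ⊗[A] EGA4.Cpl A) :=
      isNoetherianRing_of_ringEquiv _ (Algebra.TensorProduct.comm A (EGA4.Cpl A) B).toRingEquiv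
    exact mp_aux A (EGA4.Cpl A) h B q hq
  · intro h
    haveI : Module.FaithfullyFlat A (EGA4.Cpl A) := GrothLib.Excellent.faithfullyFlat_cpl A
    refine ⟨inferInstance, fun p _ => ⟨GrothLib.FormalDescent.isNoetherianRing_fiber A (EGA4.Cpl A) p, fun L _ _ hL => ?_⟩⟩
    letI : Algebra A L := ((algebraMap p.ResidueField L).comp (algebraMap A p.ResidueField)).toAlgebra
    haveI : IsScalarTower A p.ResidueField L := IsScalarTower.of_algebraMap_eq fun _ => rfl
    haveI := mpr_aux A (EGA4.Cpl A) h p L
    exact IsRegularRing.of_ringEquiv (R := L ⊗[A] EGA4.Cpl A)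
      (Algebra.TensorProduct.cancelBaseChange A p.ResidueField L L (EGA4.Cpl A)).symm.toRingEquiv

end Groth.Agent.S4703
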