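import Groth.Statements.S4704
import Groth.Agent.Lib.FormalDescent.Basic

set_option autoImplicit false
universe u
open EGA4

namespace Groth.Agent.S4704

/-- Let A → A' be a local homomorphism of Noetherian local rings which is regular (flat, with
geometrically regular fibres). If the completion map of A' is regular (the formal fibres of A' are
geometrically regular), then the completion map of A is regular. -/
theorem result (A A' : Type u) [CommRing A] [CommRing A'] [IsNoetherianRing A]
    [IsNoetherianRing A'] [IsLocalRing A] [IsLocalRing A'] [Algebra A A'] [IsLocalHom (algebraMap A A')]
    (hf : CAlg.IsRegularHom A A') (hA' : CAlg.IsRegularHom A' (EGA4.Cpl A')) :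
    CAlg.IsRegularHom A (EGA4.Cpl A) := by
  haveI := hf.1
  exact GrothLib.FormalDescent.isRegularHom_descent A A' hf hA'

end Groth.Agent.S4704
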