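import Groth.Statements.S4707
import Groth.Agent.Lib.IcTensor5.Basic

set_option autoImplicit false
universe u
open EGA4

namespace Groth.Agent.S4707

open TensorProduct in
/-- Let A be a Noetherian ring and A' a Noetherian A-algebra such that A → A' is a normal homomorphism
(flat, with geometrically normal fibres). Let B → C be a homomorphism of A-algebras and D the
integral closure of B in C. Then the integral closure in A' ⊗_A C of the image of A' ⊗_A B is the
image of A' ⊗_A D. (No finiteness is assumed on B or C.) -/
theorem result (A A' : Type u) [CommRing A] [CommRing A']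
    [IsNoetherianRing A] [IsNoetherianRing A'] [Algebra A A'] (h : EGA4.IsNormalHom A A')
    (B C : Type u) [CommRing B] [CommRing C] [Algebra A B] [Algebra A C] [Algebra B C] [IsScalarTower A B C] :
    (integralClosure
          ↥(Algebra.TensorProduct.map (AlgHom.id A' A') (IsScalarTower.toAlgHom A B C)).range (A' ⊗[A] C) :
        Set (A' ⊗[A] C)) =
      Set.range (Algebra.TensorProduct.map (AlgHom.id A' A')
        ((integralClosure B C).val.restrictScalars A)) := by
  set f := Algebra.TensorProduct.map (AlgHom.id A' A') (IsScalarTower.toAlgHom A B C) with hf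
  ext z
  constructor
  · rintro ⟨p, hp, hp0⟩
    have hlift : p.map (algebraMap f.range (A' ⊗[A] C)) ∈ Polynomial.lifts f.toRingHom := by
      rw [Polynomial.lifts_iff_coeff_lifts]
      intro m
      rw [Polynomial.coeff_map]
      exact (p.coeff m).2
    obtain ⟨q, hq, -, hqm⟩ := Polynomial.lifts_and_natDegree_eq_and_monic hlift (hp.map _)
    exact GrothLib.IcTensor5.mem_range_of_isIntegralElem h z
      ⟨q, hqm, by rw [Polynomial.eval₂_eq_eval_map, hq, ← Polynomial.eval₂_eq_eval_map]; exact hp0⟩
  · rintro ⟨y, rfl⟩
    show IsIntegral _ _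
    induction y using TensorProduct.induction_on with
    | zero => rw [map_zero]; exact isIntegral_zero
    | tmul a d =>
      have ha : IsIntegral f.range (a ⊗ₜ[A] (1 : C)) :=
        isIntegral_algebraMap (A := A' ⊗[A] C) (x := (⟨a ⊗ₜ[A] (1 : C), a ⊗ₜ[A] (1 : B), by simp [hf]; try rfl⟩ : f.range))
      have hd : IsIntegral f.range ((1 : A') ⊗ₜ[A] (d : C)) := by
        obtain ⟨q, hq, hq0⟩ := d.2
        refine ⟨q.map (f.rangeRestrict.toRingHom.comp
          (Algebra.TensorProduct.includeRight : B →ₐ[A] A' ⊗[A] B).toRingHom), hq.map _, ?_⟩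
        rw [Polynomial.eval₂_map, show (algebraMap f.range (A' ⊗[A] C)).comp (f.rangeRestrict.toRingHom.comp
          (Algebra.TensorProduct.includeRight : B →ₐ[A] A' ⊗[A] B).toRingHom) =
          (Algebra.TensorProduct.includeRight : C →ₐ[A] A' ⊗[A] C).toRingHom.comp (algebraMap B C) from rfl]
        show Polynomial.eval₂ _ ((Algebra.TensorProduct.includeRight : C →ₐ[A] A' ⊗[A] C).toRingHom (d : C)) q = 0
        rw [← Polynomial.hom_eval₂, hq0, map_zero]
      simpa using ha.mul hd
    | add a b ha hb => rw [map_add]; exact ha.add hb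

end Groth.Agent.S4707
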