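import Groth.Statements.S4708
import Groth.Agent.Lib.FibProp5.Regular
import Groth.Agent.Lib.Excellent.FormalFibres
import Groth.Agent.Lib.FormalDescent.Basic
-- import your own Groth.Agent.* helpers here

set_option autoImplicit false
universe u
open EGA4

namespace Groth.Agent.S4708

/-- Let A → B be a local homomorphism of Noetherian local rings making B a flat A-module, such that the
residue field of B is a finite extension of the residue field k of A, and such that the formal
fibres of A are geometrically regular (the completion map A → Â is regular). If the k-algebra k ⊗_A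
B̂, where B̂ is the completion of B, is geometrically regular over k, then every fibre of A → B is
geometrically regular, that is, A → B is a regular homomorphism. -/
theorem result (A B : Type u) [CommRing A] [CommRing B]
    [IsNoetherianRing A] [IsNoetherianRing B] [IsLocalRing A] [IsLocalRing B] [Algebra A B]
    [IsLocalHom (algebraMap A B)] [Module.Flat A B]
    [Module.Finite (IsLocalRing.ResidueField A) (IsLocalRing.ResidueField B)]
    (hA : CAlg.IsRegularHom A (EGA4.Cpl A))
    (h : CAlg.IsGeometricallyRegular (IsLocalRing.maximalIdeal A).ResidueField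
      ((IsLocalRing.maximalIdeal A).Fiber (EGA4.Cpl B))) :
    CAlg.IsRegularHom A B := by
  obtain ⟨alg, tow⟩ := GrothLib.FibProp5.exists_completion_algebra A B
  letI := alg
  haveI := tow
  obtain ⟨hloc, hres, hcl⟩ := GrothLib.FibProp5.completion_data (A := A) (B := B)
    GrothLib.FibProp5.good_regProp (fun K _ _ hK => h K hK)
  haveI := hloc
  haveI : Module.Flat (EGA4.Cpl A) (EGA4.Cpl B) := GrothLib.FibProp5.flat_completion_map
  have h2 : CAlg.IsRegularHom (EGA4.Cpl A) (EGA4.Cpl B) :=
    GrothLib.FibProp5.isRegularHom_complete (EGA4.Cpl A) (EGA4.Cpl B) hres hcl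
  have h3 : CAlg.IsRegularHom A (EGA4.Cpl B) :=
    GrothLib.GeomReg.isRegularHom_comp hA h2 fun p _ => GrothLib.FormalDescent.isNoetherianRing_fiber A (EGA4.Cpl B) p
  haveI := GrothLib.Excellent.faithfullyFlat_cpl B
  exact GrothLib.GeomReg.isRegularHom_of_faithfullyFlat h3

end Groth.Agent.S4708
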