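import Groth.Statements.S4709
import Groth.Agent.Lib.N2.Excellent
import Groth.Agent.Lib.N2.FiniteType
import Groth.Agent.S2657
-- import your own Groth.Agent.* helpers here

set_option autoImplicit false
universe u
open EGA4

namespace Groth.Agent.S4709

/-- Let A be a Noetherian ring such that (i) for every maximal ideal m the formal fibres of A_m are
geometrically reduced, and (ii) the regular locus of every A-algebra of finite type is open (A is
J-2). Then A is universally Japanese. -/
theorem result (A : Type u) [CommRing A] [IsNoetherianRing A]
    (h1 : ∀ (m : Ideal A) [m.IsMaximal], EGA4.HasGeomReducedFormalFibres (Localization.AtPrime m))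
    (h2 : EGA4.IsJ2 A) : CAlg.IsUniversallyJapanese A := by
  refine GrothLib.N2.isUniversallyJapanese_of_isNagata
    (GrothLib.N2.isNagata_of_normal_generic (fun m _ P _ => ?_) ?_)
  · exact (Groth.Agent.S2657.result _ (h1 m)).2 P
  · intro p _ K' _ _ _ _ _ _ B' hB' _
    haveI := hB'
    let B := A ⧸ p
    letI : Algebra A B' := ((algebraMap B B').comp (Ideal.Quotient.mk p)).toAlgebra
    haveI : IsScalarTower A B B' := IsScalarTower.of_algebraMap_eq fun _ => rfl
    haveI : Algebra.FiniteType A B' := Algebra.FiniteType.trans (R := A) (S := B) inferInstance inferInstance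
    haveI : IsNoetherianRing B' := IsNoetherianRing.of_finite B B'
    exact GrothLib.N2.exists_normal_away_of_isOpen_regLocus (h2 B' inferInstance)

end Groth.Agent.S4709
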