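import Groth.Statements.S4711
import Groth.Agent.Lib.Constr.Topology

set_option autoImplicit false
universe u
open EGA4

open Topology

namespace Groth.Agent.S4711

open AlgebraicGeometry Topology in
/-- In any scheme X, every nonempty locally constructible subset E contains a point x such that the
one-point set {x} is locally closed in X (equivalently x is isolated in its closure). -/
theorem result (X : Scheme.{u}) (E : Set X)
    (hE : Topology.IsLocallyConstructible E) (hne : E.Nonempty) :
    ∃ x ∈ E, IsLocallyClosed ({x} : Set X) := by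
  obtain ⟨x₀, hx₀⟩ := hne
  obtain ⟨V, hV, hxV, -⟩ := GrothLib.Constr.exists_affine_nhd x₀ isOpen_univ (Set.mem_univ x₀)
  haveI := GrothLib.Constr.compactSpace_of_isAffineOpen hV
  haveI := GrothLib.Constr.quasiSeparatedSpace_of_isAffineOpen hV
  haveI : Nonempty {W : Set (V : Set X) // IsOpen W ∧ IsCompact W} :=
    ⟨⟨∅, isOpen_empty, isCompact_empty⟩⟩
  obtain ⟨T, hT, hxT, hTE⟩ := GrothLib.Constr.exists_isConstructible_of_mem V
    (GrothLib.Constr.isIndConstructible_of_isLocallyConstructible hE) hxV hx₀
  have key : ∀ S : Set (V : Set X), IsConstructible S → S.Nonempty →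
      ∃ z ∈ S, IsLocallyClosed ({z} : Set (V : Set X)) := by
    intro S hS
    induction S, hS using IsConstructible.induction_of_isTopologicalBasis
      (b := fun W : {W : Set (V : Set X) // IsOpen W ∧ IsCompact W} => W.1)
      (basis := by
        convert PrespectralSpace.isTopologicalBasis (X := (V : Set X)) using 1
        ext W; simp)
      (isCompact_basis := fun W => W.2.2) with
    | sdiff i s hs =>
        intro hne
        haveI : T0Space (V : Set X) := inferInstanceAs (T0Space V.toScheme)
        have hC : IsClosed (⋃ j ∈ s, j.1)ᶜ := (isOpen_biUnion fun j _ => j.2.1).isClosed_compl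
        haveI : CompactSpace i.1 := isCompact_iff_compactSpace.1 i.2.2
        obtain ⟨z, hz, hzc⟩ := IsClosed.exists_closed_singleton
          (hC.preimage (continuous_subtype_val : Continuous ((↑) : i.1 → (V : Set X))))
          (let ⟨w, hwi, hws⟩ := hne; ⟨⟨w, hwi⟩, hws⟩)
        refine ⟨z.1, ⟨z.2, hz⟩, ?_⟩
        have h := hzc.isLocallyClosed.image IsInducing.subtypeVal
          (by rw [Subtype.range_coe]; exact i.2.1.isLocallyClosed)
        rwa [Set.image_singleton] at h
    | union s hs t ht ihs iht =>
        rintro ⟨z, hz | hz⟩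
        · obtain ⟨w, hw, hw'⟩ := ihs ⟨z, hz⟩
          exact ⟨w, Or.inl hw, hw'⟩
        · obtain ⟨w, hw, hw'⟩ := iht ⟨z, hz⟩
          exact ⟨w, Or.inr hw, hw'⟩
  obtain ⟨z, hz, hzc⟩ := key T hT ⟨_, hxT⟩
  refine ⟨z.1, hTE hz, ?_⟩
  have h := hzc.image IsInducing.subtypeVal (by rw [Subtype.range_coe]; exact V.2.isLocallyClosed)
  rwa [Set.image_singleton] at h

end Groth.Agent.S4711
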