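import Groth.Statements.S4714
import Groth.Agent.Lib.DimCut.Basic
import Groth.Agent.Lib.DimCut.FibreDimGE
import Groth.Agent.Lib.AlgSp.CodimOneQF

set_option autoImplicit false
universe u
open EGA4

namespace Groth.Agent.S4714

open AlgebraicGeometry CategoryTheory in
/-- For a section of the structure sheaf: let X be a scheme locally of finite type over a field k and f
a global section of O_X whose zero locus Y is nowhere dense in X. Then dim Y + 1 ≤ dim X. If
moreover some irreducible component of X has dimension equal to dim X and Y meets every such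
component, then dim Y + 1 = dim X. (The published statement is for a section of an invertible sheaf;
the existence of a component of maximal dimension, implicit in the published wording, is made a
hypothesis of the equality clause.) -/
theorem result (k : Type u) [Field k] (X : Scheme.{u}) (p : X ⟶ Spec (CommRingCat.of k))
    [LocallyOfFiniteType p] (f : Γ(X, ⊤)) (hY : interior (X.zeroLocus (U := ⊤) {f}) = ∅) :
    topologicalKrullDim (X.zeroLocus (U := ⊤) {f}) + 1 ≤ topologicalKrullDim X ∧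
      ((∃ Z ∈ irreducibleComponents (X : Type u), topologicalKrullDim Z = topologicalKrullDim X) →
        (∀ Z ∈ irreducibleComponents (X : Type u), topologicalKrullDim Z = topologicalKrullDim X →
          (Z ∩ X.zeroLocus (U := ⊤) {f}).Nonempty) →
        topologicalKrullDim (X.zeroLocus (U := ⊤) {f}) + 1 = topologicalKrullDim X) := by
  haveI := LocallyOfFiniteType.isLocallyNoetherian p
  set Y := X.zeroLocus (U := ⊤) {f} with hYdef
  have hYeq : Y = (X.basicOpen f : Set X)ᶜ := X.zeroLocus_singleton f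
  have hYc : IsClosed Y := hYeq ▸ (X.basicOpen f).2.isClosed_compl
  have hmaxY : ∀ ξ : X, (∀ z, z ⤳ ξ → z = ξ) → ξ ∉ Y := fun ξ hξ h => by
    have hd : Dense (X.basicOpen f : Set X) := by
      rw [dense_iff_closure_eq, ← compl_compl (X.basicOpen f : Set X), ← hYeq, closure_compl, hY, Set.compl_empty]
    rw [hYeq] at h
    exact h (GrothLib.AlgSp.mem_of_dense_open (X.basicOpen f).2 hd ξ hξ)
  have hfirst : topologicalKrullDim ↥Y + 1 ≤ topologicalKrullDim X := by
    refine GrothLib.DimCut.dim_closed_le hYc 1 fun y hy => ?_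
    obtain ⟨ξ, hξy, hmax⟩ := GrothLib.AffDom.exists_maximal_point y
    have hne : ξ ≠ y := fun h => hmaxY ξ hmax (h ▸ hy)
    obtain ⟨a, ha⟩ := GrothLib.AffDom.exists_nat_ptDim p y
    obtain ⟨b, hb⟩ := GrothLib.AffDom.exists_nat_ptDim p ξ
    have hab : a < b := by
      by_contra hle
      exact hne (GrothLib.AffDom.eq_of_specializes_of_ptDim_le p hξy (by rw [ha, hb]; exact_mod_cast not_lt.mp hle))
    refine le_trans ?_ (GrothLib.AffDom.ptDim_le ξ)
    rw [ha, hb]
    exact_mod_cast hab
  refine ⟨hfirst, ?_⟩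
  rintro ⟨Z, hZ, hZdim⟩ hmeet
  refine le_antisymm hfirst ?_
  obtain ⟨y, hyZ, hyY⟩ := hmeet Z hZ hZdim
  obtain ⟨ξ, hξ, hξdim⟩ := GrothLib.DimCut.dim_eq_ptDim (isClosed_of_mem_irreducibleComponents Z hZ) hZ.1
  have hξy : ξ ⤳ y := hξ.specializes hyZ
  obtain ⟨Ys, hYs⟩ : ∃ Ys : TopologicalSpace.Closeds X, (Ys : Set X) = closure {ξ} ∩ Y :=
    ⟨⟨_, isClosed_closure.inter hYc⟩, rfl⟩
  let ι := (Scheme.IdealSheafData.vanishingIdeal Ys).subschemeι
  have hrange : Set.range ι = closure {ξ} ∩ Y :=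
    (GrothLib.RedSub.range_subschemeι_vanishingIdeal Ys).trans hYs
  obtain ⟨w, hw⟩ := hrange.ge ⟨hξy.mem_closure, hyY⟩
  obtain ⟨z₀, hz₀, hmin₀⟩ := GrothLib.AffDom.exists_maximal_point w
  have hzmem := hrange.le ⟨z₀, rfl⟩
  have hzy : ι z₀ ⤳ y := hw ▸ hz₀.map ι.continuous
  obtain ⟨U, hU, hyU, -⟩ := exists_isAffineOpen_mem_and_subset (x := ι z₀) (U := ⊤) trivial
  have hS : hU.fromSpec ⁻¹' Y = PrimeSpectrum.zeroLocus
      (Ideal.ofList [X.presheaf.map (homOfLE (le_top : U ≤ ⊤)).op f] : Set Γ(X, U)) := by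
    rw [Ideal.ofList_singleton, PrimeSpectrum.zeroLocus_span,
      ← compl_compl (PrimeSpectrum.zeroLocus {X.presheaf.map (homOfLE (le_top : U ≤ ⊤)).op f}),
      ← PrimeSpectrum.basicOpen_eq_zeroLocus_compl, ← hU.fromSpec_preimage_basicOpen, X.basicOpen_res, hYeq,
      Set.preimage_compl]
    congr 1
    ext q
    exact ⟨fun h => ⟨hU.range_fromSpec.le ⟨q, rfl⟩, h⟩, fun h => h.2⟩
  have hle := GrothLib.DimCut.ptDim_le_add_length p hU [X.presheaf.map (homOfLE (le_top : U ≤ ⊤)).op f] Y hS
    hyU hzmem.2 (specializes_iff_mem_closure.mpr hzmem.1) fun v hv hξv hvz => by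
      obtain ⟨v', rfl⟩ := hrange.ge ⟨hξv.mem_closure, hv⟩
      rw [hmin₀ v' (ι.isEmbedding.isInducing.specializes_iff.mp hvz)]
  rw [← hZdim, hξdim]
  refine hle.trans ?_
  rw [List.length_singleton, Nat.cast_one]
  exact add_le_add (GrothLib.DimCut.ptDim_le_dim_closed hYc hzmem.2) le_rfl

end Groth.Agent.S4714
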