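import Groth.Statements.S4715
import Groth.Agent.Lib.AlgSp.DecentTop
import Groth.Agent.Lib.GenMap.OpenMap
import Mathlib.AlgebraicGeometry.Morphisms.QuasiFinite
-- import your own Groth.Agent.* helpers here

set_option autoImplicit false
universe u
open EGA4

namespace Groth.Agent.S4715

open AlgebraicGeometry CategoryTheory in
/-- Let f : X → Y be a quasi-finite morphism (of finite type with discrete fibres) of locally Noetherian
schemes. Then dim X is at most the dimension of the closure of f(X), which is at most dim Y. -/
theorem result {X Y : Scheme.{u}} (f : X ⟶ Y) [IsLocallyNoetherian X] [IsLocallyNoetherian Y]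
    [LocallyQuasiFinite f] [LocallyOfFiniteType f] [QuasiCompact f] :
    topologicalKrullDim X ≤ topologicalKrullDim (closure (Set.range f.base)) ∧
      topologicalKrullDim (closure (Set.range f.base)) ≤ topologicalKrullDim Y := by
  have hd : ∀ a b : X, a ⤳ b → f.base a = f.base b → a = b := fun a b hab he => by
    haveI : DiscreteTopology ↥(f.base ⁻¹' {f.base a}) :=
      isDiscrete_iff_discreteTopology.1 (f.isDiscrete_preimage_singleton (f.base a))
    have h : (⟨a, rfl⟩ : f.base ⁻¹' {f.base a}) ⤳ ⟨b, he.symm⟩ := (subtype_specializes_iff _ _).2 hab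
    exact congrArg Subtype.val (specializes_iff_eq.1 h)
  haveI : QuasiSober ↥(closure (Set.range f.base)) := Topology.IsClosedEmbedding.quasiSober isClosed_closure.isClosedEmbedding_subtypeVal
  exact ⟨GrothLib.AlgSp.TopDim.topologicalKrullDim_le_of_injOn
      (f := fun x => (⟨f.base x, subset_closure ⟨x, rfl⟩⟩ : closure (Set.range f.base)))
      (f.continuous.subtype_mk _) fun a b hab he => hd a b hab (congrArg Subtype.val he),
    Topology.IsInducing.subtypeVal.topologicalKrullDim_le⟩


end Groth.Agent.S4715
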