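import Groth.Statements.S4717
import Groth.Agent.Lib.AlgSp.DecentTop
import Groth.Agent.Lib.GenMap.OpenMap
import Mathlib.AlgebraicGeometry.Morphisms.QuasiFinite
-- import your own Groth.Agent.* helpers here

set_option autoImplicit false
universe u
open EGA4

namespace Groth.Agent.S4717

open AlgebraicGeometry CategoryTheory in
/-- Let f : X → Y be a finite morphism of locally Noetherian schemes. Then dim X equals the dimension of
the image f(X); in particular if f is surjective then dim X = dim Y. -/
theorem result {X Y : Scheme.{u}} (f : X ⟶ Y) [IsLocallyNoetherian X] [IsLocallyNoetherian Y]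
    [IsFinite f] :
    topologicalKrullDim X = topologicalKrullDim (Set.range f.base) ∧
      (Function.Surjective f.base → topologicalKrullDim X = topologicalKrullDim Y) := by
  have hd : ∀ a b : X, a ⤳ b → f.base a = f.base b → a = b := fun a b hab he => by
    haveI : DiscreteTopology ↥(f.base ⁻¹' {f.base a}) :=
      isDiscrete_iff_discreteTopology.1 (f.isDiscrete_preimage_singleton (f.base a))
    have h : (⟨a, rfl⟩ : f.base ⁻¹' {f.base a}) ⤳ ⟨b, he.symm⟩ := (subtype_specializes_iff _ _).2 hab
    exact congrArg Subtype.val (specializes_iff_eq.1 h)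
  haveI : QuasiSober ↥(Set.range f.base) := Topology.IsClosedEmbedding.quasiSober f.isClosedMap.isClosed_range.isClosedEmbedding_subtypeVal
  have h : topologicalKrullDim X = topologicalKrullDim ↥(Set.range f.base) := by
    refine le_antisymm (GrothLib.AlgSp.TopDim.topologicalKrullDim_le_of_injOn
      (f.continuous.subtype_mk _) (f := fun x => (⟨f.base x, x, rfl⟩ : Set.range f.base))
      fun a b hab he => hd a b hab (congrArg Subtype.val he)) ?_
    refine GrothLib.AlgSp.topologicalKrullDim_le_of_specializingMap
      (f := fun x => (⟨f.base x, x, rfl⟩ : Set.range f.base)) (f.continuous.subtype_mk _) ?_ ?_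
    · intro x y hy
      obtain ⟨z, hz, hz'⟩ := f.isClosedMap.specializingMap (hy.map continuous_subtype_val : f.base x ⤳ y.1)
      exact ⟨z, hz, Subtype.ext hz'⟩
    · rintro ⟨_, x, rfl⟩; exact ⟨x, rfl⟩
  refine ⟨h, fun hs => ?_⟩
  rw [h, hs.range_eq]
  exact (Homeomorph.Set.univ Y).isHomeomorph.topologicalKrullDim_eq


end Groth.Agent.S4717
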