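import Groth.Statements.S4718
import Groth.Agent.Lib.DepthRestrict.Basic
-- import your own Groth.Agent.* helpers here

set_option autoImplicit false
universe u
open EGA4

namespace Groth.Agent.S4718

/-- Let A be a Noetherian local ring, B a Noetherian ring, A → B a ring homomorphism and M a nonzero
B-module which is finite as an A-module. Then M is a Cohen–Macaulay A-module if and only if, for all
primes q of B lying over the maximal ideal of A and belonging to the support of M, the B_q-module
M_q is Cohen–Macaulay and all these modules M_q have the same dimension. -/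
theorem result (A B : Type u) [CommRing A] [CommRing B]
    [IsNoetherianRing A] [IsLocalRing A] [IsNoetherianRing B] [Algebra A B]
    (M : Type u) [AddCommGroup M] [Module B M] [Module A M] [IsScalarTower A B M] [Module.Finite A M]
    [Nontrivial M] :
    LocCoh.IsCohenMacaulayModule A M ↔
      (∀ q ∈ {q : PrimeSpectrum B | q.asIdeal.comap (algebraMap A B) = IsLocalRing.maximalIdeal A ∧
          q ∈ Module.support B M},
        LocCoh.IsCohenMacaulayModule (Localization.AtPrime q.asIdeal) (LocalizedModule q.asIdeal.primeCompl M)) ∧
      (∀ q ∈ {q : PrimeSpectrum B | q.asIdeal.comap (algebraMap A B) = IsLocalRing.maximalIdeal A ∧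
          q ∈ Module.support B M},
        ∀ q' ∈ {q : PrimeSpectrum B | q.asIdeal.comap (algebraMap A B) = IsLocalRing.maximalIdeal A ∧
          q ∈ Module.support B M},
          Module.supportDim (Localization.AtPrime q.asIdeal) (LocalizedModule q.asIdeal.primeCompl M) =
            Module.supportDim (Localization.AtPrime q'.asIdeal) (LocalizedModule q'.asIdeal.primeCompl M)) := by
  haveI : Module.Finite B M := Module.Finite.of_restrictScalars_finite A B M
  have h1 : Module.supportDim A M = _ := GrothLib.DepthRestrict.supportDim_eq_iSup A B M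
  have h2 : LocCoh.depth A M = _ := GrothLib.DepthRestrict.depth_eq_iInf A B M
  have hle : ∀ q ∈ GrothLib.DepthRestrict.closedSet A B M,
      ((LocCoh.depth (Localization.AtPrime q.asIdeal) (LocalizedModule q.asIdeal.primeCompl M) : ℕ∞) :
        WithBot ℕ∞) ≤ Module.supportDim (Localization.AtPrime q.asIdeal) (LocalizedModule q.asIdeal.primeCompl M) := by
    intro q hq
    haveI : Nontrivial (LocalizedModule q.asIdeal.primeCompl M) := Module.mem_support_iff.1 hq.2
    haveI : IsNoetherianRing (Localization.AtPrime q.asIdeal) :=
      IsLocalization.isNoetherianRing q.asIdeal.primeCompl _ inferInstance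
    haveI : Module.Finite (Localization.AtPrime q.asIdeal) (LocalizedModule q.asIdeal.primeCompl M) :=
      Module.Finite.of_isLocalizedModule q.asIdeal.primeCompl (LocalizedModule.mkLinearMap q.asIdeal.primeCompl M)
    exact GrothLib.Depth.depth_le_supportDim (Localization.AtPrime q.asIdeal)
      (LocalizedModule q.asIdeal.primeCompl M)
  constructor
  · intro hCM
    have key : ∀ q ∈ GrothLib.DepthRestrict.closedSet A B M,
        Module.supportDim (Localization.AtPrime q.asIdeal) (LocalizedModule q.asIdeal.primeCompl M) =
          Module.supportDim A M ∧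
        LocCoh.IsCohenMacaulayModule (Localization.AtPrime q.asIdeal)
          (LocalizedModule q.asIdeal.primeCompl M) := by
      intro q hq
      have a1 : Module.supportDim (Localization.AtPrime q.asIdeal) (LocalizedModule q.asIdeal.primeCompl M) ≤
          Module.supportDim A M := h1 ▸ le_iSup₂_of_le q hq le_rfl
      have a2 : Module.supportDim A M ≤ ((LocCoh.depth (Localization.AtPrime q.asIdeal)
          (LocalizedModule q.asIdeal.primeCompl M) : ℕ∞) : WithBot ℕ∞) := by
        rw [show Module.supportDim A M = _ from hCM, WithBot.coe_le_coe, h2]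
        exact iInf₂_le q hq
      exact ⟨le_antisymm a1 (a2.trans (hle q hq)), le_antisymm (a1.trans a2) (hle q hq)⟩
    exact ⟨fun q hq => (key q hq).2, fun q hq q' hq' => (key q hq).1.trans (key q' hq').1.symm⟩
  · rintro ⟨hCM, heq⟩
    obtain ⟨x, hx⟩ := Module.nonempty_support_of_nontrivial (R := B) (M := M)
    obtain ⟨q₀, hq₀, -⟩ := GrothLib.DepthRestrict.exists_closed_above A B M x hx
    have a1 : Module.supportDim A M =
        Module.supportDim (Localization.AtPrime q₀.asIdeal) (LocalizedModule q₀.asIdeal.primeCompl M) :=
      h1.trans (le_antisymm (iSup₂_le fun q hq => (heq q hq q₀ hq₀).le) (le_iSup₂_of_le q₀ hq₀ le_rfl))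
    have a2 : LocCoh.depth A M =
        LocCoh.depth (Localization.AtPrime q₀.asIdeal) (LocalizedModule q₀.asIdeal.primeCompl M) := by
      refine h2.trans (le_antisymm (iInf₂_le q₀ hq₀) (le_iInf₂ fun q hq => ?_))
      rw [← WithBot.coe_le_coe, ← show _ = _ from hCM q hq, ← show _ = _ from hCM q₀ hq₀, heq q hq q₀ hq₀]
    exact a1.trans ((hCM q₀ hq₀).trans (congrArg _ a2.symm))

end Groth.Agent.S4718
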