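import Groth.Statements.S4719
import Groth.Agent.Lib.DepthRestrict.Basic
-- import your own Groth.Agent.* helpers here

set_option autoImplicit false
universe u
open EGA4

namespace Groth.Agent.S4719

/-- Let A → B be a homomorphism of Noetherian rings and M a B-module which is finite as an A-module. (i)
If M satisfies (S_k) as an A-module, it satisfies (S_k) as a B-module. (ii) If for every two primes
q, q' of B in the support of M having the same contraction to A the modules M_q and M_{q'} have the
same dimension, then (S_k) for M as a B-module implies (S_k) for M as an A-module. (The published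
statement asks the equal-dimension condition for all pairs of primes of B with the same contraction;
this row asks it only for primes in the support of M, which is all its proof uses.) -/
theorem result (k : ℕ) (A B : Type u) [CommRing A] [CommRing B] [IsNoetherianRing A]
    [IsNoetherianRing B] [Algebra A B] (M : Type u) [AddCommGroup M] [Module B M] [Module A M]
    [IsScalarTower A B M] [Module.Finite A M] :
    (LocCoh.HasSk k A M → LocCoh.HasSk k B M) ∧
      ((∀ q ∈ Module.support B M, ∀ q' ∈ Module.support B M,
          q.asIdeal.comap (algebraMap A B) = q'.asIdeal.comap (algebraMap A B) →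
            Module.supportDim (Localization.AtPrime q.asIdeal) (LocalizedModule q.asIdeal.primeCompl M) =
              Module.supportDim (Localization.AtPrime q'.asIdeal) (LocalizedModule q'.asIdeal.primeCompl M)) →
        LocCoh.HasSk k B M → LocCoh.HasSk k A M) := by
  refine ⟨fun h q _ => ?_, fun hdim h p _ => ?_⟩
  · rcases subsingleton_or_nontrivial (LocalizedModule q.primeCompl M) with hs | hs
    · rw [GrothLib.Depth.depth_eq_top_of_subsingleton (M := LocalizedModule q.primeCompl M)]
      rw [(Module.supportDim_eq_bot_iff_subsingleton _ _).2 hs]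
      exact (min_le_right _ _).trans bot_le
    have hq : (⟨q, inferInstance⟩ : PrimeSpectrum B) ∈ Module.support B M := Module.mem_support_iff.2 hs
    obtain ⟨h1, h2⟩ := GrothLib.DepthRestrict.restrict A B M (q.comap (algebraMap A B))
    have hh := h (q.comap (algebraMap A B))
    rw [h1, h2] at hh
    have hmem : (⟨q, inferInstance⟩ : PrimeSpectrum B) ∈
        GrothLib.DepthRestrict.fibreSet A B M (q.comap (algebraMap A B)) := ⟨rfl, hq⟩
    refine le_trans (le_trans (min_le_min le_rfl ?_) hh) (WithBot.coe_le_coe.2 ?_)
    · exact le_iSup₂ (f := fun (x : PrimeSpectrum B) (_ : x ∈ GrothLib.DepthRestrict.fibreSet A B M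
        (q.comap (algebraMap A B))) => Module.supportDim (Localization.AtPrime x.asIdeal)
        (LocalizedModule x.asIdeal.primeCompl M)) ⟨q, inferInstance⟩ hmem
    · exact iInf₂_le (f := fun (x : PrimeSpectrum B) (_ : x ∈ GrothLib.DepthRestrict.fibreSet A B M
        (q.comap (algebraMap A B))) => LocCoh.depth (Localization.AtPrime x.asIdeal)
        (LocalizedModule x.asIdeal.primeCompl M)) ⟨q, inferInstance⟩ hmem
  · obtain ⟨h1, h2⟩ := GrothLib.DepthRestrict.restrict A B M p
    rw [h1, h2]
    generalize hd : (⨆ q ∈ GrothLib.DepthRestrict.fibreSet A B M p,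
      Module.supportDim (Localization.AtPrime q.asIdeal) (LocalizedModule q.asIdeal.primeCompl M)) = d
    have hd' : ∀ q ∈ GrothLib.DepthRestrict.fibreSet A B M p,
        Module.supportDim (Localization.AtPrime q.asIdeal) (LocalizedModule q.asIdeal.primeCompl M) = d := by
      intro q hq
      rw [← hd]
      exact le_antisymm (le_iSup₂_of_le q hq le_rfl)
        (iSup₂_le fun q' hq' => (hdim q' hq'.2 q hq.2 (hq'.1.trans hq.1.symm)).le)
    have hall : ∀ q ∈ GrothLib.DepthRestrict.fibreSet A B M p, min (k : WithBot ℕ∞) d ≤
        ((LocCoh.depth (Localization.AtPrime q.asIdeal) (LocalizedModule q.asIdeal.primeCompl M) : ℕ∞) :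
          WithBot ℕ∞) := fun q hq => hd' q hq ▸ h q.asIdeal
    generalize hm : min (k : WithBot ℕ∞) d = m at hall ⊢
    induction m with
    | bot => exact bot_le
    | coe a => exact WithBot.coe_le_coe.2 (le_iInf₂ fun q hq => WithBot.coe_le_coe.1 (hall q hq))

end Groth.Agent.S4719
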