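import Groth.Statements.S4721
import Groth.Agent.S2663
-- import your own Groth.Agent.* helpers here

set_option autoImplicit false
universe u
open EGA4

namespace Groth.Agent.S4721

/-- Let A be a Noetherian ring whose spectrum is connected and d a natural number such that for every
prime p of height at least d the local ring A_p has depth at least 2. Then for any two distinct
minimal primes p', p'' of A there is a finite chain of minimal primes starting at p' and ending at
p'' such that any two consecutive members are both contained in a prime ideal of height at most d −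
1 (the spectrum is connected in codimension at most d − 1). -/
theorem result (A : Type u) [CommRing A] [IsNoetherianRing A]
    [ConnectedSpace (PrimeSpectrum A)] (d : ℕ)
    (h : ∀ (p : Ideal A) [p.IsPrime], (d : ℕ∞) ≤ p.height →
      (2 : ℕ∞) ≤ LocCoh.depth (Localization.AtPrime p) (Localization.AtPrime p))
    (p' p'' : Ideal A) (hp' : p' ∈ minimalPrimes A) (hp'' : p'' ∈ minimalPrimes A) (hne : p' ≠ p'') :
    ∃ (n : ℕ) (c : Fin (n + 1) → Ideal A), c 0 = p' ∧ c (Fin.last n) = p'' ∧ (∀ i, c i ∈ minimalPrimes A) ∧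
      ∀ i : Fin n, ∃ (q : Ideal A) (_ : q.IsPrime),
        c i.castSucc ≤ q ∧ c i.succ ≤ q ∧ q.height + 1 ≤ (d : ℕ∞) := by
  classical
  let adj : Ideal A → Ideal A → Prop := fun a b =>
    b ∈ minimalPrimes A ∧ ∃ (q : Ideal A) (_ : q.IsPrime), a ≤ q ∧ b ≤ q ∧ q.height + 1 ≤ (d : ℕ∞)
  have hfin : (minimalPrimes A).Finite := minimalPrimes.finite_of_isNoetherianRing A
  let S := (hfin.toFinset ×ˢ hfin.toFinset).filter fun ab => ab.1 ≠ ab.2 ∧ ¬ adj ab.1 ab.2
  let I := S.inf fun ab => ab.1 ⊔ ab.2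
  have hI : ∀ p : Ideal A, p.IsPrime → I ≤ p → ∃ a b, a ∈ minimalPrimes A ∧ b ∈ minimalPrimes A ∧
      a ≠ b ∧ ¬ adj a b ∧ a ≤ p ∧ b ≤ p := by
    intro p hp hle
    obtain ⟨⟨a, b⟩, hab, hle'⟩ := (Ideal.IsPrime.inf_le' hp).mp hle
    simp only [S, Finset.mem_filter, Finset.mem_product, Set.Finite.mem_toFinset] at hab
    exact ⟨a, b, hab.1.1, hab.1.2, hab.2.1, hab.2.2, le_sup_left.trans hle', le_sup_right.trans hle'⟩
  have hU := Groth.Agent.S2663.result A I fun p hp hle => by
    obtain ⟨a, b, ha, hb, -, hnadj, hap, hbp⟩ := hI p hp hle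
    refine h p (not_lt.1 fun hlt => hnadj ⟨hb, p, hp, hap, hbp, ?_⟩)
    exact Order.add_one_le_of_lt hlt
  have hmemU : ∀ c ∈ minimalPrimes A, ∀ hc : c.IsPrime,
      (⟨c, hc⟩ : PrimeSpectrum A) ∈ (PrimeSpectrum.zeroLocus (I : Set A))ᶜ := by
    intro c hmin hc hmem
    obtain ⟨a, b, ha, hb, hne', -, hac, hbc⟩ := hI c hc ((PrimeSpectrum.mem_zeroLocus _ _).1 hmem)
    exact hne' ((le_antisymm hac (hmin.2 ha.1 hac)).trans (le_antisymm hbc (hmin.2 hb.1 hbc)).symm)
  have hreach : Relation.ReflTransGen adj p' p'' := by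
    by_contra hnot
    let t₁ := ⋃ c ∈ {c ∈ minimalPrimes A | Relation.ReflTransGen adj p' c}, PrimeSpectrum.zeroLocus ((c : Ideal A) : Set A)
    let t₂ := ⋃ c ∈ {c ∈ minimalPrimes A | ¬ Relation.ReflTransGen adj p' c}, PrimeSpectrum.zeroLocus ((c : Ideal A) : Set A)
    have ht₁ : IsClosed t₁ := (hfin.subset fun c hc => hc.1).isClosed_biUnion fun c _ => PrimeSpectrum.isClosed_zeroLocus _
    have ht₂ : IsClosed t₂ := (hfin.subset fun c hc => hc.1).isClosed_biUnion fun c _ => PrimeSpectrum.isClosed_zeroLocus _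
    obtain ⟨x, hx, hx₁, hx₂⟩ := isPreconnected_closed_iff.1 hU t₁ t₂ ht₁ ht₂ (fun x _ => by
        obtain ⟨c, hc, hcx⟩ := Ideal.exists_minimalPrimes_le (I := (⊥ : Ideal A)) (J := x.asIdeal) bot_le
        by_cases hr : Relation.ReflTransGen adj p' c
        · exact Or.inl (Set.mem_biUnion (Set.mem_sep hc hr) hcx)
        · exact Or.inr (Set.mem_biUnion (Set.mem_sep hc hr) hcx))
      ⟨⟨p', hp'.1.1⟩, hmemU p' hp' _, Set.mem_biUnion (Set.mem_sep hp' .refl) (le_refl p')⟩
      ⟨⟨p'', hp''.1.1⟩, hmemU p'' hp'' _, Set.mem_biUnion (Set.mem_sep hp'' hnot) (le_refl p'')⟩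
    simp only [t₁, t₂, Set.mem_iUnion, Set.mem_sep_iff, exists_prop] at hx₁ hx₂
    obtain ⟨c, ⟨hc, hr⟩, hcx⟩ := hx₁
    obtain ⟨c', ⟨hc', hr'⟩, hcx'⟩ := hx₂
    by_cases hadj : adj c c'
    · exact hr' (hr.tail hadj)
    refine hx ((PrimeSpectrum.mem_zeroLocus _ _).2 ?_)
    show I ≤ x.asIdeal
    refine le_trans (Finset.inf_le (b := (c, c')) ?_) (sup_le hcx hcx')
    simp only [S, Finset.mem_filter, Finset.mem_product, Set.Finite.mem_toFinset]
    exact ⟨⟨hc, hc'⟩, fun e => hr' (e ▸ hr), hadj⟩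
  clear hne hp''
  induction hreach with
  | refl => exact ⟨0, fun _ => p', rfl, rfl, fun _ => hp', fun i => i.elim0⟩
  | @tail b e _ hbe ih =>
    obtain ⟨n, c, h0, hl, hmin, hstep⟩ := ih
    obtain ⟨he, q, hq, hbq, heq, hht⟩ := hbe
    refine ⟨n + 1, Fin.snoc c e, ?_, ?_, fun i => ?_, fun i => ?_⟩
    · rw [← Fin.castSucc_zero, Fin.snoc_castSucc, h0]
    · exact Fin.snoc_last _ _
    · induction i using Fin.lastCases with
      | last => rw [Fin.snoc_last]; exact he
      | cast i => rw [Fin.snoc_castSucc]; exact hmin i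
    · induction i using Fin.lastCases with
      | last =>
        refine ⟨q, hq, ?_, ?_, hht⟩
        · rw [Fin.snoc_castSucc, hl]; exact hbq
        · rw [Fin.succ_last, Fin.snoc_last]; exact heq
      | cast i =>
        obtain ⟨q', hq', h1, h2, h3⟩ := hstep i
        refine ⟨q', hq', ?_, ?_, h3⟩
        · rw [Fin.snoc_castSucc]; exact h1
        · rw [Fin.succ_castSucc, Fin.snoc_castSucc]; exact h2

end Groth.Agent.S4721
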