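import Groth.Statements.S4722
import Mathlib.RingTheory.Ideal.AssociatedPrime.Localization
import Mathlib.RingTheory.Nilpotent.Lemmas
import Mathlib.Data.Fin.Tuple.Basic
import Mathlib.Logic.Relation

set_option autoImplicit false
universe u
open EGA4

namespace Groth.Agent.S4722

/-- Let A be a Noetherian ring and M a finite A-module whose set of associated primes is a single prime
p. Then M has a finite decreasing filtration by submodules M = M_0 ⊇ M_1 ⊇ ⋯ ⊇ M_m = 0 such that
each quotient M_h/M_{h+1} is isomorphic to a submodule of A/p (i.e. embeds A-linearly into A/p). -/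
theorem result (A : Type u) [CommRing A] [IsNoetherianRing A]
    (M : Type u) [AddCommGroup M] [Module A M] [Module.Finite A M] (p : Ideal A)
    (hp : associatedPrimes A M = {p}) :
    ∃ (m : ℕ) (F : Fin (m + 1) → Submodule A M), Antitone F ∧ F 0 = ⊤ ∧ F (Fin.last m) = ⊥ ∧
      ∀ i : Fin m, ∃ g : (↥(F i.castSucc) ⧸ Submodule.comap (F i.castSucc).subtype (F i.succ)) →ₗ[A] (A ⧸ p),
        Function.Injective g := by
  classical
  have hpA : p ∈ associatedPrimes A M := hp ▸ rfl
  haveI := hpA.isPrime
  -- `p` is nilpotent on `M`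
  have hrad : (Module.annihilator A M).radical = p := by
    refine le_antisymm ?_ ?_
    · exact (Ideal.IsPrime.radical_le_iff inferInstance).2 (Submodule.annihilator_top.symm.trans_le hpA.annihilator_le)
    · rw [← Ideal.sInf_minimalPrimes]
      refine le_sInf fun q hq => ?_
      have hmem : q ∈ associatedPrimes A M :=
        Module.associatedPrimes.minimalPrimes_annihilator_subset_associatedPrimes A M hq
      rw [hp, Set.mem_singleton_iff] at hmem
      exact hmem.ge
  obtain ⟨n₀, hn₀⟩ := (Module.annihilator A M).exists_radical_pow_le_of_fg (IsNoetherian.noetherian _)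
  rw [hrad] at hn₀
  have hsat0 : ∀ s ∉ p, ∀ m : M, s • m = 0 → m = 0 := by
    intro s hs m hm
    by_contra hne
    have h1 : s ∈ ⋃ q ∈ associatedPrimes A M, (q : Set A) := by
      rw [biUnion_associatedPrimes_eq_zero_divisors]
      exact ⟨m, hne, hm⟩
    rw [hp] at h1
    simp only [Set.mem_singleton_iff, Set.iUnion_iUnion_eq_left, SetLike.mem_coe] at h1
    exact hs h1
  -- a chain step
  let R : Submodule A M → Submodule A M → Prop := fun N K => N ≤ K ∧
    ∃ g : ↥K →ₗ[A] A ⧸ p, ∀ k : K, g k = 0 ↔ (k : M) ∈ N
  let Sat : Submodule A M → Prop := fun N => ∀ s ∉ p, ∀ m : M, s • m ∈ N → m ∈ N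
  have chain : ∀ N, Sat N → Relation.ReflTransGen R N ⊤ := by
    intro N
    induction N using WellFoundedGT.induction with
    | _ N ih =>
      intro hN
      by_cases htop : N = ⊤
      · rw [htop]
      -- an element killed by `p` modulo `N`
      obtain ⟨x, hxN, hpx⟩ : ∃ x, x ∉ N ∧ ∀ a ∈ p, a • x ∈ N := by
        by_contra hcon
        push Not at hcon
        refine htop (eq_top_iff.2 fun m _ => ?_)
        have hk : ∀ k, (∀ a ∈ p ^ k, a • m ∈ N) → m ∈ N := by
          intro k
          induction k with
          | zero => intro h; simpa using h 1 (by rw [pow_zero, Ideal.one_eq_top]; trivial)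
          | succ k ihk =>
            intro h
            refine ihk fun a ha => by_contra fun hne => ?_
            obtain ⟨b, hb, hb'⟩ := hcon _ hne
            refine hb' ?_
            rw [smul_smul]
            exact h _ (pow_succ' p k ▸ Ideal.mul_mem_mul hb ha)
        exact hk n₀ fun a ha => by rw [Module.mem_annihilator.1 (hn₀ ha) m]; exact zero_mem N
      let K : Submodule A M :=
        { carrier := {m | ∃ s ∉ p, s • m ∈ N ⊔ Submodule.span A {x}}
          zero_mem' := ⟨1, fun h => hpA.isPrime.ne_top ((Ideal.eq_top_iff_one p).2 h), by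
            rw [smul_zero]; exact zero_mem _⟩
          add_mem' := by
            rintro a b ⟨s, hs, ha⟩ ⟨s', hs', hb⟩
            refine ⟨s * s', fun h => (hpA.isPrime.mem_or_mem h).elim hs hs', ?_⟩
            rw [smul_add, mul_smul, mul_smul, smul_comm s s' a]
            exact add_mem (Submodule.smul_mem _ _ ha) (Submodule.smul_mem _ _ hb)
          smul_mem' := by
            rintro c a ⟨s, hs, ha⟩
            exact ⟨s, hs, by rw [smul_comm]; exact Submodule.smul_mem _ _ ha⟩ }
      have hone : (1 : A) ∉ p := fun h => hpA.isPrime.ne_top ((Ideal.eq_top_iff_one p).2 h)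
      have hNK : N ≤ K := fun m hm => ⟨1, hone, by rw [one_smul]; exact Submodule.mem_sup_left hm⟩
      have hxK : x ∈ K := ⟨1, hone, by rw [one_smul]; exact Submodule.mem_sup_right (Submodule.mem_span_singleton_self x)⟩
      have hKsat : Sat K := by
        rintro s hs m ⟨s', hs', hm⟩
        exact ⟨s' * s, fun h => (hpA.isPrime.mem_or_mem h).elim hs' hs, by rwa [mul_smul]⟩
      obtain ⟨k, v, hv⟩ := Submodule.fg_iff_exists_fin_generating_family.1 (IsNoetherian.noetherian K)
      have hvK : ∀ i, v i ∈ K := fun i => hv ▸ Submodule.subset_span ⟨i, rfl⟩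
      choose s hs hsv using hvK
      let σ : A := ∏ i, s i
      have hσ : σ ∉ p := fun h => by
        obtain ⟨i, -, hi⟩ := hpA.isPrime.prod_mem_iff.1 h
        exact hs i hi
      have hσK : ∀ m ∈ K, σ • m ∈ N ⊔ Submodule.span A {x} := by
        intro m hm
        rw [← hv] at hm
        induction hm using Submodule.span_induction with
        | mem y hy =>
          obtain ⟨i, rfl⟩ := hy
          rw [show σ = (∏ j ∈ Finset.univ.erase i, s j) * s i from
            (Finset.prod_erase_mul _ _ (Finset.mem_univ i)).symm, mul_smul]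
          exact Submodule.smul_mem _ _ (hsv i)
        | zero => rw [smul_zero]; exact zero_mem _
        | add a b _ _ ha hb => rw [smul_add]; exact add_mem ha hb
        | smul c a _ ha => rw [smul_comm]; exact Submodule.smul_mem _ _ ha
      -- the map `A/p → M/N`
      let φ : (A ⧸ p) →ₗ[A] M ⧸ N := p.liftQ (LinearMap.toSpanSingleton A (M ⧸ N) (N.mkQ x)) fun a ha => by
        rw [LinearMap.mem_ker, LinearMap.toSpanSingleton_apply, ← map_smul, Submodule.mkQ_apply,
          Submodule.Quotient.mk_eq_zero]
        exact hpx a ha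
      have hφ : Function.Injective φ := (injective_iff_map_eq_zero φ).2 fun c hc => by
        obtain ⟨a, rfl⟩ := Submodule.Quotient.mk_surjective p c
        rw [Submodule.Quotient.mk_eq_zero]
        by_contra ha
        refine hxN (hN a ha x ?_)
        have : N.mkQ (a • x) = 0 := hc
        rwa [Submodule.mkQ_apply, Submodule.Quotient.mk_eq_zero] at this
      let ν : ↥K →ₗ[A] LinearMap.range φ := (σ • (N.mkQ ∘ₗ K.subtype)).codRestrict _ fun m => by
        obtain ⟨w, hw, y, hy, hwy⟩ := Submodule.mem_sup.1 (hσK m m.2)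
        obtain ⟨a, rfl⟩ := Submodule.mem_span_singleton.1 hy
        refine ⟨Submodule.Quotient.mk a, ?_⟩
        change a • N.mkQ x = σ • N.mkQ (m : M)
        rw [← map_smul N.mkQ σ (m : M), ← hwy, map_add, map_smul, Submodule.mkQ_apply N w,
          (Submodule.Quotient.mk_eq_zero N).2 hw, zero_add]
      refine Relation.ReflTransGen.head (b := K) ⟨hNK, (LinearEquiv.ofInjective φ hφ).symm.toLinearMap ∘ₗ ν,
        fun m => ?_⟩ (ih K (lt_of_le_of_ne hNK fun e => hxN (e.symm ▸ hxK)) hKsat)
      rw [LinearMap.comp_apply, LinearEquiv.coe_coe, LinearEquiv.map_eq_zero_iff, Subtype.ext_iff]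
      change σ • N.mkQ (m : M) = 0 ↔ _
      rw [← map_smul, Submodule.mkQ_apply, Submodule.Quotient.mk_eq_zero]
      exact ⟨hN σ hσ _, fun h => Submodule.smul_mem _ _ h⟩
  -- convert into a descending filtration
  have conv : ∀ K, Relation.ReflTransGen R ⊥ K → ∃ (m : ℕ) (F : Fin (m + 1) → Submodule A M), Antitone F ∧
      F 0 = K ∧ F (Fin.last m) = ⊥ ∧ ∀ i : Fin m,
        ∃ g : (↥(F i.castSucc) ⧸ Submodule.comap (F i.castSucc).subtype (F i.succ)) →ₗ[A] (A ⧸ p),
          Function.Injective g := by
    intro K hK
    induction hK with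
    | refl => exact ⟨0, fun _ => ⊥, fun _ _ _ => le_rfl, rfl, rfl, fun i => i.elim0⟩
    | @tail N K _ hstep ih =>
      obtain ⟨hle, g, hg⟩ := hstep
      obtain ⟨m, F, hF, h0, hl, hq⟩ := ih
      refine ⟨m + 1, Fin.cons K F, ?_, rfl, ?_, fun i => ?_⟩
      · refine Fin.antitone_iff_succ_le.2 fun i => ?_
        induction i using Fin.cases with
        | zero => simpa [h0] using hle
        | succ i => simpa [← Fin.succ_castSucc] using hF (Fin.castSucc_lt_succ (i := i)).le
      · rw [← Fin.succ_last, Fin.cons_succ, hl]
      · induction i using Fin.cases with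
        | zero =>
          refine (?_ : ∀ P Q, P = K → Q = N →
            ∃ g : (↥P ⧸ Submodule.comap P.subtype Q) →ₗ[A] A ⧸ p, Function.Injective g) _ _
              (by simp) (by simpa using h0)
          rintro P Q rfl rfl
          refine ⟨Submodule.liftQ _ g fun k hk => LinearMap.mem_ker.2 ((hg k).2 hk), ?_⟩
          refine (injective_iff_map_eq_zero _).2 fun z hz => ?_
          obtain ⟨k, rfl⟩ := Submodule.Quotient.mk_surjective _ z
          exact (Submodule.Quotient.mk_eq_zero _).2 ((hg k).1 hz)
        | succ i =>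
          refine (?_ : ∀ P Q, P = F i.castSucc → Q = F i.succ →
            ∃ g : (↥P ⧸ Submodule.comap P.subtype Q) →ₗ[A] A ⧸ p, Function.Injective g) _ _
              (by simp [← Fin.succ_castSucc]) (by simp)
          rintro P Q rfl rfl
          exact hq i
  exact conv ⊤ (chain ⊥ fun s hs m hm => (Submodule.mem_bot A).2 (hsat0 s hs m ((Submodule.mem_bot A).1 hm)))

end Groth.Agent.S4722
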