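import Groth.Statements.S4723
import Groth.Agent.Lib.HeightOneHull5.Criteria
import Groth.Agent.Lib.HeightOneHull5.Regular
-- import your own Groth.Agent.* helpers here

set_option autoImplicit false
universe u
open EGA4

namespace Groth.Agent.S4723

/-- Let A be a Noetherian ring which is either a quotient of a regular Noetherian ring or universally
catenary and universally Japanese. Then for every prime q of A, writing B = A/q with fraction field
K, and every ideal J of B of height at least 2, the subring of K consisting of the elements lying in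
B_p for every prime p of B not containing J (the ring of sections of the structure sheaf of Spec B
over the open complement of V(J)) is a finite B-algebra (some B-subalgebra of K with exactly this
underlying set is a finitely generated B-module). -/
theorem result (A : Type u) [CommRing A] [IsNoetherianRing A]
    (hA : (∃ (R : Type u) (_ : CommRing R), IsNoetherianRing R ∧ IsRegularRing R ∧
        ∃ f : R →+* A, Function.Surjective f) ∨
      (CAlg.IsUniversallyCatenary A ∧ CAlg.IsUniversallyJapanese A))
    (q : Ideal A) [q.IsPrime] (J : Ideal (A ⧸ q)) (hJ2 : (2 : ℕ∞) ≤ J.height) :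
    ∃ B' : Subalgebra (A ⧸ q) (FractionRing (A ⧸ q)),
      (B' : Set (FractionRing (A ⧸ q))) =
          {x | ∀ (p : Ideal (A ⧸ q)) [p.IsPrime], ¬ J ≤ p →
            ∃ s : A ⧸ q, s ∉ p ∧ ∃ a : A ⧸ q,
              algebraMap (A ⧸ q) (FractionRing (A ⧸ q)) a = algebraMap (A ⧸ q) (FractionRing (A ⧸ q)) s * x} ∧
        Module.Finite (A ⧸ q) B' := by
  have hsurj : Function.Surjective (Ideal.Quotient.mk q) := Ideal.Quotient.mk_surjective
  haveI : IsNoetherianRing (A ⧸ q) := isNoetherianRing_of_surjective A _ _ hsurj
  have hfin : EGA4.HeightOneHullFinite (A ⧸ q) := by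
    rcases hA with ⟨R, _, hN, hR, f, hf⟩ | ⟨hUC, hJ⟩
    · exact GrothLib.HeightOneHull5.heightOneHullFinite_of_surjective ((Ideal.Quotient.mk q).comp f) (hsurj.comp hf)
    · haveI : Algebra.FiniteType A (A ⧸ q) := inferInstance
      exact GrothLib.HeightOneHull5.heightOneHullFinite_of_univCatenary
        (GrothLib.Altitude.isUniversallyCatenary_of_surjective _ hsurj hUC)
        (hJ (A ⧸ q) inferInstance (FractionRing (A ⧸ q)) inferInstance)
  haveI := GrothLib.HeightOneHull5.finite_hullAlg hfin
  let S : Subalgebra (A ⧸ q) (FractionRing (A ⧸ q)) :=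
    { carrier := {x | ∀ (p : Ideal (A ⧸ q)) [p.IsPrime], ¬ J ≤ p →
            ∃ s : A ⧸ q, s ∉ p ∧ ∃ a : A ⧸ q,
              algebraMap (A ⧸ q) (FractionRing (A ⧸ q)) a = algebraMap (A ⧸ q) (FractionRing (A ⧸ q)) s * x}
      mul_mem' := by
        intro x y hx hy p hp h1
        obtain ⟨s, hs, b, hb⟩ := hx p h1
        obtain ⟨t, ht, c, hc⟩ := hy p h1
        refine ⟨s * t, hp.mul_notMem hs ht, b * c, ?_⟩
        rw [map_mul, map_mul, hb, hc]; ring
      add_mem' := by
        intro x y hx hy p hp h1
        obtain ⟨s, hs, b, hb⟩ := hx p h1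
        obtain ⟨t, ht, c, hc⟩ := hy p h1
        refine ⟨s * t, hp.mul_notMem hs ht, t * b + s * c, ?_⟩
        rw [map_mul, map_add, map_mul, map_mul, hb, hc]
        ring
      algebraMap_mem' := by
        intro r p hp h1
        exact ⟨1, fun h => hp.ne_top ((Ideal.eq_top_iff_one p).2 h), r, by rw [map_one, one_mul]⟩ }
  have hle : S ≤ GrothLib.HeightOneHull5.hullAlg (A ⧸ q) := fun x hx p _ hp =>
    hx p fun hle => absurd ((hJ2.trans (Ideal.height_mono hle)).trans hp.le) (by norm_num)
  exact ⟨S, rfl, Module.Finite.of_injective (Subalgebra.inclusion hle).toLinearMap (Subalgebra.inclusion_injective hle)⟩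

end Groth.Agent.S4723
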