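import Groth.Statements.S4724

set_option autoImplicit false
universe u
open EGA4

namespace Groth.Agent.S4724

/-- Let (A_i) be a directed system of commutative rings with direct limit A. Then the nilradical of A is
the supremum of the extensions to A of the nilradicals of the A_i; in particular, if every A_i is
reduced then A is reduced. -/
theorem result (ι : Type u) [Preorder ι] [Nonempty ι] [IsDirectedOrder ι] (G : ι → Type u)
    [∀ i, CommRing (G i)] (f : ∀ i j, i ≤ j → G i →+* G j) [DirectedSystem G (fun i j h ↦ f i j h)] :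
    nilradical (Ring.DirectLimit G (fun i j h ↦ f i j h)) =
        ⨆ i, (nilradical (G i)).map (Ring.DirectLimit.of G (fun i j h ↦ f i j h) i) ∧
      ((∀ i, IsReduced (G i)) → IsReduced (Ring.DirectLimit G (fun i j h ↦ f i j h))) := by
  refine ⟨le_antisymm (fun x hx => ?_) ?_, fun h => ⟨fun x hx => ?_⟩⟩
  · obtain ⟨i, y, rfl⟩ := Ring.DirectLimit.exists_of x
    obtain ⟨n, hn⟩ := mem_nilradical.1 hx
    rw [← map_pow] at hn
    obtain ⟨j, hij, hj⟩ := Ring.DirectLimit.of.zero_exact hn
    refine Ideal.mem_iSup_of_mem j ?_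
    rw [← Ring.DirectLimit.of_f (hij := hij)]
    exact Ideal.mem_map_of_mem _ (mem_nilradical.2 ⟨n, by rw [← map_pow]; exact hj⟩)
  · refine iSup_le fun i => Ideal.map_le_iff_le_comap.2 fun y hy => ?_
    exact mem_nilradical.2 ((mem_nilradical.1 hy).map _)
  · obtain ⟨i, y, rfl⟩ := Ring.DirectLimit.exists_of x
    obtain ⟨n, hn⟩ := hx
    rw [← map_pow] at hn
    obtain ⟨j, hij, hj⟩ := Ring.DirectLimit.of.zero_exact hn
    rw [map_pow] at hj
    haveI := h j
    rw [← Ring.DirectLimit.of_f (hij := hij), IsNilpotent.eq_zero ⟨n, hj⟩, map_zero]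

end Groth.Agent.S4724
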