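import Groth.Statements.S4726
import Groth.Agent.Lib.Approx6.ModuleRing

set_option autoImplicit false
universe u
open EGA4

namespace Groth.Agent.S4726

open TensorProduct in
/-- Let (A_i) be a directed system of commutative rings with direct limit A and M a finitely presented
A-module. Then there exist an index i and a finitely presented A_i-module M_i such that M is
isomorphic, as an A-module, to A ⊗_{A_i} M_i (A being an A_i-algebra through the canonical map). -/
theorem result (ι : Type u) [Preorder ι] [Nonempty ι] [IsDirectedOrder ι]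
    (G : ι → Type u) [∀ i, CommRing (G i)] (f : ∀ i j, i ≤ j → G i →+* G j)
    [DirectedSystem G (fun i j h ↦ f i j h)] (M : Type u) [AddCommGroup M]
    [Module (Ring.DirectLimit G (fun i j h ↦ f i j h)) M]
    [Module.FinitePresentation (Ring.DirectLimit G (fun i j h ↦ f i j h)) M] :
    ∃ (i : ι) (Mi : Type u) (_ : AddCommGroup Mi) (_ : Module (G i) Mi), Module.FinitePresentation (G i) Mi ∧
      letI : Algebra (G i) (Ring.DirectLimit G (fun i j h ↦ f i j h)) :=
        (Ring.DirectLimit.of G (fun i j h ↦ f i j h) i).toAlgebra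
      Nonempty (M ≃ₗ[Ring.DirectLimit G (fun i j h ↦ f i j h)] (Ring.DirectLimit G (fun i j h ↦ f i j h)) ⊗[G i] Mi) := by
  classical
  obtain ⟨n, K, eM, hK⟩ := Module.FinitePresentation.exists_fin (Ring.DirectLimit G (fun i j h ↦ f i j h)) M
  obtain ⟨m, v, hv⟩ := Submodule.fg_iff_exists_fin_generating_family.mp hK
  choose ix x hx using fun p : Fin m × Fin n => Ring.DirectLimit.exists_of (G := G) (f := fun i j h ↦ f i j h) (v p.1 p.2)
  obtain ⟨i, hi⟩ := Finset.exists_le (Finset.univ.image ix)
  letI : Algebra (G i) (Ring.DirectLimit G (fun i j h ↦ f i j h)) :=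
    (Ring.DirectLimit.of G (fun i j h ↦ f i j h) i).toAlgebra
  obtain ⟨M₀, _, _, hM₀, ⟨e⟩⟩ := GrothLib.Approx6.exists_model_of_lift (R := G i) M K eM v hv
    (fun k l => f (ix (k, l)) i (hi _ (Finset.mem_image_of_mem _ (Finset.mem_univ _))) (x (k, l)))
    (fun k l => (Ring.DirectLimit.of_f (G := G) (f := fun i j h ↦ f i j h) _ _).trans (hx (k, l)))
  exact ⟨i, M₀, inferInstance, inferInstance, hM₀, ⟨e.symm⟩⟩


end Groth.Agent.S4726
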