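import Groth.Statements.S4728
import Groth.Agent.Lib.NormalHom.BaseChange

set_option autoImplicit false
universe u
open EGA4 IsLocalRing TensorProduct

namespace Groth.Agent.S4728

/-- Let A be a Noetherian local domain of dimension 1 with maximal ideal m, A' a Noetherian local ring
and A → A' a local homomorphism which is normal (flat, with geometrically normal fibres). Then the
ideal m A' of A' is prime and the local ring of A' at m A' has dimension 1. (The remaining clauses
of the published item, describing A' inside its total ring of fractions, are not restated.) -/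
theorem result (A A' : Type u) [CommRing A] [CommRing A']
    [IsNoetherianRing A] [IsNoetherianRing A'] [IsLocalRing A] [IsLocalRing A'] [IsDomain A]
    (hA : ringKrullDim A = 1) [Algebra A A'] [IsLocalHom (algebraMap A A')] (h : EGA4.IsNormalHom A A') :
    ((IsLocalRing.maximalIdeal A).map (algebraMap A A')).IsPrime ∧
      ((IsLocalRing.maximalIdeal A).map (algebraMap A A')).height = 1 := by
  have := h.1
  let I := (maximalIdeal A).map (algebraMap A A')
  have hI : I ≠ ⊤ := ne_top_of_le_ne_top (Ideal.IsPrime.ne_top inferInstance)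
    (show I ≤ maximalIdeal A' from ((local_hom_TFAE (algebraMap A A')).out 0 2).1 (by assumption : IsLocalHom (algebraMap A A')))
  let e : ResidueField A ⊗[A] A' ≃+* A' ⧸ I := (Algebra.TensorProduct.quotIdealMapEquivQuotTensor A' (maximalIdeal A)).symm.toRingEquiv
  have hn : EGA4.IsNormalRing (A' ⧸ I) :=
    GrothLib.Excellent.isNormalRing_congr e (GrothLib.NormalHom.isNormalRing_field_tensor' h.2 (ResidueField A))
  haveI : Nontrivial (A' ⧸ I) := Ideal.Quotient.nontrivial_iff.2 hI
  haveI : IsLocalRing (A' ⧸ I) := IsLocalRing.of_surjective' (Ideal.Quotient.mk I) Ideal.Quotient.mk_surjective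
  obtain ⟨hd, -⟩ := hn (maximalIdeal (A' ⧸ I))
  haveI := hd
  haveI : IsDomain (A' ⧸ I) := (IsLocalization.atUnits (A' ⧸ I) (maximalIdeal (A' ⧸ I)).primeCompl
    (S := Localization.AtPrime (maximalIdeal (A' ⧸ I))) fun x hx => notMem_maximalIdeal.1 hx).toMulEquiv.isDomain _
  haveI hp : I.IsPrime := (Ideal.Quotient.isDomain_iff_prime I).1 inferInstance
  haveI : I.LiesOver (maximalIdeal A) := ⟨((maximalIdeal.isMaximal A).eq_of_le
    (Ideal.comap_ne_top _ hI) Ideal.le_comap_map)⟩
  refine ⟨hp, ?_⟩
  show I.height = 1
  rw [Ideal.height_eq_height_add_of_liesOver_of_hasGoingDown (maximalIdeal A) I, Ideal.map_quotient_self]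
  have h1 : ((maximalIdeal A).height : WithBot ℕ∞) = 1 := by rw [maximalIdeal_height_eq_ringKrullDim, hA]
  have h2 : (⊥ : Ideal (A' ⧸ I)).height = 0 := Ideal.height_bot
  rw [h2, add_zero]
  exact_mod_cast h1

end Groth.Agent.S4728
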