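import Groth.Statements.S4729
import Groth.Agent.Lib.CMBasics.DimIneq

set_option autoImplicit false
universe u
open EGA4

namespace Groth.Agent.S4729

/-- Let A be a commutative ring, M a finite A-module and p ⊆ q prime ideals of A (so that p is a
generization of q). Then the dimension of the A_p-module M_p is at most the dimension of the
A_q-module M_q. -/
theorem result (A : Type u) [CommRing A] (M : Type u) [AddCommGroup M] [Module A M]
    [Module.Finite A M] (p q : Ideal A) [p.IsPrime] [q.IsPrime] (hpq : p ≤ q) :
    Module.supportDim (Localization.AtPrime p) (LocalizedModule p.primeCompl M) ≤
      Module.supportDim (Localization.AtPrime q) (LocalizedModule q.primeCompl M) := by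
  exact GrothLib.CMBasics.supportDim_localized_mono M p q hpq

end Groth.Agent.S4729
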