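import Groth.Statements.S4730
import Groth.Agent.Lib.Chev28.PolyHeight

set_option autoImplicit false
universe u
open EGA4

namespace Groth.Agent.S4730

open Polynomial in
/-- Let A be a Noetherian ring, p a prime ideal of A and q a prime ideal of the polynomial ring A[T]
lying over p. Then ht(p) + 1 = ht(q) + deg.tr_{κ(p)} κ(q), the transcendence degree being that of
the domain A[T]/q over the domain A/p. -/
theorem result (A : Type u) [CommRing A] [IsNoetherianRing A]
    (p : Ideal A) [p.IsPrime] (q : Ideal A[X]) [q.IsPrime] [q.LiesOver p] :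
    (p.height : Cardinal.{u}) + 1 = (q.height : Cardinal.{u}) + Algebra.trdeg (A ⧸ p) (A[X] ⧸ q) := by
  obtain ⟨s, hs, hh⟩ := GrothLib.Chev28.exists_height_add_trdeg p q
  obtain ⟨a, ha⟩ := ENat.ne_top_iff_exists.1 (Ideal.height_ne_top (I := p) Ideal.IsPrime.ne_top')
  obtain ⟨b, hb⟩ := ENat.ne_top_iff_exists.1 (Ideal.height_ne_top (I := q) Ideal.IsPrime.ne_top')
  rw [← ha, ← hb, hs]
  rw [← ha, ← hb] at hh
  have h : b + s = a + 1 := by exact_mod_cast hh
  simp only [Cardinal.ofENat_nat]
  exact_mod_cast h.symm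

end Groth.Agent.S4730
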