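import Groth.Statements.S4731
import Mathlib.RingTheory.Noetherian.Basic
import Mathlib.LinearAlgebra.Isomorphisms

set_option autoImplicit false
universe u
open EGA4

namespace Groth.Agent.S4731

/-- Let S → R be an injective homomorphism of commutative rings making R a finite S-module, with R
Noetherian; let c be the conductor of S in R, the ideal of those s in S with s R contained in (the
image of) S. If S/c is Noetherian, then every increasing sequence of ideals of S contained in c is
eventually constant. -/
theorem result (S R : Type u) [CommRing S] [CommRing R] [Algebra S R]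
    [FaithfulSMul S R] [IsNoetherianRing R] [Module.Finite S R] (c : Ideal S)
    (hc : ∀ s : S, s ∈ c ↔ ∀ r : R, ∃ s' : S, algebraMap S R s' = algebraMap S R s * r)
    [IsNoetherianRing (S ⧸ c)] (a : ℕ →o Ideal S) (ha : ∀ n, a n ≤ c) :
    ∃ N : ℕ, ∀ n, N ≤ n → a n = a N := by
  classical
  have hinj : Function.Injective (algebraMap S R) := FaithfulSMul.algebraMap_injective S R
  haveI hQ : IsNoetherian S (S ⧸ c) := by
    let g : Submodule S (S ⧸ c) → Ideal (S ⧸ c) := fun N =>
      { carrier := N
        zero_mem' := N.zero_mem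
        add_mem' := fun hx hy => N.add_mem hx hy
        smul_mem' := fun r x hx => by
          obtain ⟨s, rfl⟩ := Ideal.Quotient.mk_surjective r
          exact N.smul_mem s hx }
    have hg : StrictMono g := fun N N' h => lt_of_le_of_ne (fun x hx => h.le hx) fun e => h.ne (by
      ext x
      exact SetLike.ext_iff.1 e x)
    haveI : WellFoundedGT (Ideal (S ⧸ c)) := isNoetherian_iff'.1 inferInstance
    exact isNoetherian_iff'.2 hg.wellFoundedGT
  let b : ℕ →o Ideal R := ⟨fun n => (a n).map (algebraMap S R), fun _ _ h => Ideal.map_mono (a.monotone h)⟩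
  obtain ⟨N₁, hN₁⟩ := monotone_stabilizes_iff_noetherian.2 (inferInstance : IsNoetherianRing R) b
  let P : Ideal R := b N₁
  haveI : Module.Finite R P := Module.Finite.of_fg (IsNoetherian.noetherian P)
  haveI : Module.Finite S P := Module.Finite.trans (A := R) (M := P)
  let ι : P →ₗ[S] R := (Submodule.subtype P).restrictScalars S
  let A : ℕ → Submodule S P := fun n => (Submodule.map (Algebra.linearMap S R) (a n)).comap ι
  have hA : ∀ n, N₁ ≤ n → c • (⊤ : Submodule S P) ≤ A n := by
    intro n hn
    rw [Submodule.smul_le]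
    intro x hx y _
    change ι (x • y) ∈ Submodule.map (Algebra.linearMap S R) (a n)
    rw [map_smul, Algebra.smul_def]
    have hy : (y : R) ∈ Submodule.span R (algebraMap S R '' a n) := by
      exact (hN₁ n hn).le y.2
    have key : ∀ z ∈ Submodule.span R (algebraMap S R '' a n), ∀ x ∈ c,
        algebraMap S R x * z ∈ Submodule.map (Algebra.linearMap S R) (a n) := by
      intro z hz
      induction hz using Submodule.span_induction with
      | mem z hz =>
        obtain ⟨w, hw, rfl⟩ := hz
        exact fun x _ => ⟨x * w, (a n).mul_mem_left x hw, map_mul (algebraMap S R) x w⟩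
      | zero => intro x _; rw [mul_zero]; exact zero_mem _
      | add z z' _ _ hz hz' => intro x hx; rw [mul_add]; exact add_mem (hz x hx) (hz' x hx)
      | smul r z _ hz =>
        intro x hx
        obtain ⟨x', hx'⟩ := (hc x).1 hx r
        rw [smul_eq_mul, ← mul_assoc, ← hx']
        refine hz x' ((hc x').2 fun r' => ?_)
        obtain ⟨s', hs'⟩ := (hc x).1 hx (r * r')
        exact ⟨s', by rw [hs', hx', mul_assoc]⟩
    exact key _ hy x hx
  haveI : IsNoetherian S (P ⧸ c • (⊤ : Submodule S P)) := by
    obtain ⟨k, f, hf⟩ := Module.Finite.exists_fin' S P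
    let π := (c • (⊤ : Submodule S P)).mkQ ∘ₗ f
    have hπ : Function.Surjective π := (Submodule.mkQ_surjective _).comp hf
    have hker : c • (⊤ : Submodule S (Fin k → S)) ≤ LinearMap.ker π := by
      rw [Submodule.smul_le]
      intro x hx v _
      rw [LinearMap.mem_ker]
      change Submodule.Quotient.mk (f (x • v)) = 0
      rw [Submodule.Quotient.mk_eq_zero, map_smul]
      exact Submodule.smul_mem_smul hx Submodule.mem_top
    let e : (Fin k → S) →ₗ[S] (Fin k → S ⧸ c) := LinearMap.compLeft (Submodule.mkQ c) (Fin k)
    have he : Function.Surjective e := (Submodule.mkQ_surjective c).comp_left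
    have hek : LinearMap.ker e ≤ LinearMap.ker π := by
      refine le_trans (fun v hv => ?_) hker
      rw [← Finset.univ_sum_single v]
      refine Submodule.sum_mem _ fun i _ => ?_
      have : v i ∈ c := (Submodule.Quotient.mk_eq_zero c).1 (congrFun (LinearMap.mem_ker.1 hv) i)
      have h1 : (Pi.single i (v i) : Fin k → S) = v i • Pi.single i (1 : S) := by
        rw [← Pi.single_smul, smul_eq_mul, mul_one]
      rw [h1]
      exact Submodule.smul_mem_smul this Submodule.mem_top
    let π' := (LinearMap.ker e).liftQ π hek ∘ₗ (LinearMap.quotKerEquivOfSurjective e he).symm.toLinearMap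
    refine isNoetherian_of_surjective π' (LinearMap.range_eq_top.2 fun y => ?_)
    obtain ⟨v, rfl⟩ := hπ y
    refine ⟨e v, ?_⟩
    change (LinearMap.ker e).liftQ π hek ((LinearMap.quotKerEquivOfSurjective e he).symm (e v)) = π v
    rw [show (LinearMap.quotKerEquivOfSurjective e he).symm (e v) = Submodule.Quotient.mk v from
      (LinearEquiv.symm_apply_eq _).2 rfl]
    rfl
  obtain ⟨N₂, hN₂⟩ := monotone_stabilizes_iff_noetherian.2 (inferInstance : IsNoetherian S (P ⧸ c • (⊤ : Submodule S P)))
    ⟨fun n => (A n).map (c • (⊤ : Submodule S P)).mkQ, fun _ _ h =>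
      Submodule.map_mono (Submodule.comap_mono (Submodule.map_mono (a.monotone h)))⟩
  refine ⟨max N₁ N₂, fun n hn => le_antisymm (fun s hs => ?_) (a.monotone hn)⟩
  have hAeq : A n = A (max N₁ N₂) := by
    have h1 := (hN₂ n (le_of_max_le_right hn)).symm.trans (hN₂ (max N₁ N₂) (le_max_right N₁ N₂))
    have h2 := congrArg (Submodule.comap (c • (⊤ : Submodule S P)).mkQ) h1
    dsimp only [OrderHom.coe_mk] at h2
    rwa [Submodule.comap_map_eq, Submodule.comap_map_eq, Submodule.ker_mkQ,
      sup_eq_left.2 (hA n (le_of_max_le_left hn)), sup_eq_left.2 (hA _ (le_max_left _ _))] at h2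
  have hsP : algebraMap S R s ∈ P := (hN₁ n (le_of_max_le_left hn)).ge (Ideal.mem_map_of_mem _ hs)
  have : (⟨_, hsP⟩ : P) ∈ A (max N₁ N₂) := hAeq ▸ ⟨s, hs, rfl⟩
  obtain ⟨s', hs', hss⟩ := this
  rwa [← hinj (show algebraMap S R s' = algebraMap S R s from hss)]

end Groth.Agent.S4731
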