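import Groth.Statements.S4732
import Groth.Agent.Lib.LocProp.SmoothRegularScheme
import Groth.Agent.Lib.Serre.Regular
-- import your own Groth.Agent.* helpers here

set_option autoImplicit false
universe u
open EGA4

namespace Groth.Agent.S4732

open AlgebraicGeometry CategoryTheory in
/-- Let k be a field, X a scheme locally of finite type over k and x a point of X. Then there are an
open neighbourhood U of x, a k-scheme Y all of whose local rings are regular, and an immersion U → Y
compatible with the structure morphisms to Spec k. -/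
theorem result (k : Type u) [Field k] {X : Scheme.{u}}
    (f : X ⟶ Spec (CommRingCat.of k)) [LocallyOfFiniteType f] (x : X) :
    ∃ (U : X.Opens) (_ : x ∈ U) (Y : Scheme.{u}) (g : Y ⟶ Spec (CommRingCat.of k)) (i : (U : Scheme.{u}) ⟶ Y),
      IsImmersion i ∧ i ≫ g = U.ι ≫ f ∧ ∀ y : Y, IsRegularLocalRing (Y.presheaf.stalk y) := by
  obtain ⟨_, ⟨U, hU, rfl⟩, hxU, -⟩ := X.isBasis_affineOpens.exists_subset_of_mem_open (Set.mem_univ x) isOpen_univ
  replace hU : IsAffineOpen U := hU
  let φ : CommRingCat.of k ⟶ Γ(X, U) := Spec.preimage (hU.fromSpec ≫ f)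
  have hφ : Spec.map φ = hU.fromSpec ≫ f := Spec.map_preimage _
  haveI : LocallyOfFiniteType (Spec.map φ) := by rw [hφ]; infer_instance
  have hft : φ.hom.FiniteType := (HasRingHomProperty.Spec_iff (P := @LocallyOfFiniteType)).mp inferInstance
  letI : Algebra k Γ(X, U) := φ.hom.toAlgebra
  haveI : Algebra.FiniteType k Γ(X, U) := hft
  obtain ⟨n, σ, hσ⟩ := Algebra.FiniteType.iff_quotient_mvPolynomial''.mp (inferInstance : Algebra.FiniteType k Γ(X, U))
  let P := CommRingCat.of (MvPolynomial (Fin n) k)
  let j : CommRingCat.of k ⟶ P := CommRingCat.ofHom (algebraMap k (MvPolynomial (Fin n) k))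
  let σ' : P ⟶ Γ(X, U) := CommRingCat.ofHom σ.toRingHom
  haveI : IsClosedImmersion (Spec.map σ') := IsClosedImmersion.spec_of_surjective σ' hσ
  refine ⟨U, hxU, Spec P, Spec.map j, hU.isoSpec.hom ≫ Spec.map σ', inferInstance, ?_, fun y => ?_⟩
  · rw [Category.assoc, ← Spec.map_comp, show j ≫ σ' = φ from CommRingCat.hom_ext (RingHom.ext σ.commutes), hφ,
      ← Category.assoc, hU.isoSpec_hom_fromSpec]
  · haveI : IsRegularRing (MvPolynomial (Fin n) k) := inferInstance
    haveI := IsRegularRing.isRegularLocalRing_localization (R := MvPolynomial (Fin n) k) y.asIdeal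
    exact IsRegularLocalRing.of_ringEquiv (Spec.stalkIso P y).commRingCatIsoToRingEquiv.symm


end Groth.Agent.S4732
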