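import Groth.Statements.S4733
import Groth.Agent.Lib.GeomReg.FG
import Groth.Agent.Lib.SepField.Smooth
import Groth.Agent.Lib.Serre.Ring
import Mathlib.RingTheory.RingHom.Flat

set_option autoImplicit false
set_option linter.style.haveILetI false
universe u
open EGA4 TensorProduct IsLocalRing

namespace Groth.Agent.S4733

/-- Regularity ascends along flat local maps with trivial closed fibre. -/
theorem isRegularLocalRing_of_flat_map_eq (R S : Type u) [CommRing R] [IsRegularLocalRing R] [CommRing S]
    [IsLocalRing S] [IsNoetherianRing S] [Algebra R S] [IsLocalHom (algebraMap R S)] [Module.Flat R S]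
    (hm : (maximalIdeal R).map (algebraMap R S) = maximalIdeal S) : IsRegularLocalRing S := by
  refine IsRegularLocalRing.of_spanFinrank_maximalIdeal_le S ?_
  have hspan : (maximalIdeal S).spanFinrank ≤ (maximalIdeal R).spanFinrank := by
    rw [← hm]
    exact Ideal.spanFinrank_map_le_of_fg _ (IsNoetherian.noetherian (maximalIdeal R))
  have : (maximalIdeal S).LiesOver (maximalIdeal R) := ⟨(IsLocalRing.maximalIdeal_comap (algebraMap R S)).symm⟩
  have hdim : ringKrullDim R ≤ ringKrullDim S := by
    rw [← maximalIdeal_height_eq_ringKrullDim, ← maximalIdeal_height_eq_ringKrullDim,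
      Ideal.height_eq_height_add_of_liesOver_of_hasGoingDown (maximalIdeal R) (maximalIdeal S)]
    exact_mod_cast le_self_add
  calc ((maximalIdeal S).spanFinrank : WithBot ℕ∞) ≤ (maximalIdeal R).spanFinrank := by exact_mod_cast hspan
    _ = ringKrullDim R := IsRegularLocalRing.spanFinrank_maximalIdeal (R := R)
    _ ≤ _ := hdim

/-- Regularity ascends along a flat map when the prime is generated from below. -/
theorem isRegularLocalRing_atPrime_of_map_eq (X Y : Type u) [CommRing X] [CommRing Y] [IsNoetherianRing Y]
    (f : X →+* Y) (hf : f.Flat) (q' : Ideal Y) [q'.IsPrime] (hmap : (q'.comap f).map f = q')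
    (hreg : IsRegularLocalRing (Localization.AtPrime (q'.comap f))) : IsRegularLocalRing (Localization.AtPrime q') := by
  have := hreg
  let φ := Localization.localRingHom (q'.comap f) q' f rfl
  letI := φ.toAlgebra
  have : IsLocalHom (algebraMap (Localization.AtPrime (q'.comap f)) (Localization.AtPrime q')) :=
    Localization.isLocalHom_localRingHom _ q' f rfl
  have : Module.Flat (Localization.AtPrime (q'.comap f)) (Localization.AtPrime q') :=
    RingHom.Flat.localRingHom hf q' _ rfl
  refine isRegularLocalRing_of_flat_map_eq (Localization.AtPrime (q'.comap f)) _ ?_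
  rw [← Localization.AtPrime.map_eq_maximalIdeal, ← Localization.AtPrime.map_eq_maximalIdeal, Ideal.map_map]
  refine Eq.trans ?_ (congrArg (Ideal.map (algebraMap Y (Localization.AtPrime q'))) hmap)
  rw [Ideal.map_map]
  congr 1
  exact RingHom.ext fun x => Localization.localRingHom_to_map _ q' f rfl x

/-- Regularity at a prime from regularity over the local ring of the base. -/
theorem isRegularLocalRing_atPrime_of_base (S X : Type u) [CommRing S] [CommRing X] [Algebra S X]
    (Q : Ideal X) [Q.IsPrime] (q : Ideal S) [q.IsPrime] (hq : Q.comap (algebraMap S X) = q)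
    (h : IsRegularRing (X ⊗[S] Localization.AtPrime q)) : IsRegularLocalRing (Localization.AtPrime Q) := by
  have := h
  let T := X ⊗[S] Localization.AtPrime q
  let M := Algebra.algebraMapSubmonoid X q.primeCompl
  have hdisj : Disjoint (M : Set X) Q := by
    rw [Set.disjoint_left]
    rintro _ ⟨x, hx, rfl⟩ hM
    exact hx (hq ▸ hM)
  set P := Q.map (algebraMap X T) with hP
  have : P.IsPrime := IsLocalization.isPrime_of_isPrime_disjoint M T Q inferInstance hdisj
  have hc : P.comap (algebraMap X T) = Q :=
    IsLocalization.comap_map_of_isPrime_disjoint M T inferInstance hdisj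
  have : IsRegularLocalRing (Localization.AtPrime P) := IsRegularRing.isRegularLocalRing_localization P
  have : IsLocalization.AtPrime (Localization.AtPrime P) Q := by
    have := IsLocalization.isLocalization_isLocalization_atPrime_isLocalization M (Localization.AtPrime P) P
    simpa [hc] using this
  exact IsRegularLocalRing.of_ringEquiv (R := Localization.AtPrime P)
    (IsLocalization.algEquiv Q.primeCompl (Localization.AtPrime P) (Localization.AtPrime Q)).toRingEquiv

/-- Subfields detect a finitely generated ideal of a tensor product. -/
theorem map_comap_eq_of_mem_range (X Y : Type u) [CommRing X] [CommRing Y] (f : X →+* Y) (q' : Ideal Y)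
    (g : Finset Y) (hg : Ideal.span (g : Set Y) = q') (h : ∀ z ∈ g, ∃ w, f w = z) : (q'.comap f).map f = q' := by
  refine le_antisymm Ideal.map_comap_le ?_
  conv_lhs => rw [← hg]
  rw [Ideal.span_le]
  intro z hz
  obtain ⟨w, rfl⟩ := h z hz
  exact Ideal.mem_map_of_mem f (show f w ∈ q' from hg ▸ Ideal.subset_span hz)

open TensorProduct in
/-- For the property 'regular' (affine form): let k be a field, S a Noetherian k-algebra and k' an
extension field of k such that S is of finite type over k or k' is essentially of finite type over
k; let q' be a prime of S ⊗_k k' and q its contraction to S. If (S ⊗_k k')_{q'} is a regular local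
ring then so is S_q; conversely, if k' is separable over k (geometrically reduced) and S_q is
regular, then (S ⊗_k k')_{q'} is regular. -/
theorem result (k S k' : Type u) [Field k] [CommRing S] [Algebra k S]
    [IsNoetherianRing S] [Field k'] [Algebra k k'] (hft : Algebra.FiniteType k S ∨ Algebra.EssFiniteType k k')
    [IsNoetherianRing (S ⊗[k] k')] (q' : Ideal (S ⊗[k] k')) [q'.IsPrime] :
    (IsRegularLocalRing (Localization.AtPrime q') →
        IsRegularLocalRing (Localization.AtPrime (q'.comap (algebraMap S (S ⊗[k] k'))))) ∧
      (Algebra.IsGeometricallyReduced k k' →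
        IsRegularLocalRing (Localization.AtPrime (q'.comap (algebraMap S (S ⊗[k] k')))) →
          IsRegularLocalRing (Localization.AtPrime q')) := by
  classical
  set q := q'.comap (algebraMap S (S ⊗[k] k')) with hq
  refine ⟨fun h => ?_, fun hsep h => ?_⟩
  · have := h
    have : q'.LiesOver q := ⟨hq⟩
    letI := Localization.AtPrime.algebraOfLiesOver q q'
    have : Module.Flat (Localization.AtPrime q) (Localization.AtPrime q') :=
      (Module.flat_iff_of_isLocalization (Localization.AtPrime q) q.primeCompl _).mpr
        (Module.Flat.trans _ (S ⊗[k] k') _)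
    exact GrothLib.Serre.isRegularLocalRing_of_flat (Localization.AtPrime q) (Localization.AtPrime q')
  · have := hsep
    have := h
    -- a finitely generated subfield over which the prime is defined
    obtain ⟨g, hg⟩ := IsNoetherian.noetherian q'
    choose t ht using fun z : S ⊗[k] k' => TensorProduct.exists_finset z
    let G : Finset k' := g.biUnion fun z => (t z).image Prod.snd
    let F := IntermediateField.adjoin k (G : Set k')
    have hF : Algebra.EssFiniteType k F :=
      IntermediateField.essFiniteType_iff.2 (IntermediateField.fg_adjoin_finset G)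
    have : Algebra.IsGeometricallyReduced k F :=
      Algebra.IsGeometricallyReduced.of_injective F.val F.val.injective
    have : Algebra.FormallySmooth k F := GrothLib.SepField.formallySmooth_iff_isGeometricallyReduced.mpr inferInstance
    let f : S ⊗[k] F →ₐ[S] S ⊗[k] k' := Algebra.TensorProduct.map (AlgHom.id S S) F.val
    have hflat : RingHom.Flat (R := S ⊗[k] F) (S := S ⊗[k] k') f.toRingHom := RingHom.Flat.tensorProductMap (f := AlgHom.id S S) (g := F.val) (RingHom.Flat.id S)
      (RingHom.Flat.of_isField (Field.toIsField F) _)
    have : IsNoetherianRing (S ⊗[k] F) := Algebra.EssFiniteType.isNoetherianRing S (S ⊗[k] F)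
    refine isRegularLocalRing_atPrime_of_map_eq (S ⊗[k] F) (S ⊗[k] k') f.toRingHom hflat q'
      (map_comap_eq_of_mem_range _ _ _ q' g hg fun z hz => ?_) ?_
    · have hmem : z ∈ f.range := by
        rw [ht z]
        exact Subalgebra.sum_mem _ fun p hp => ⟨p.1 ⊗ₜ[k] (⟨p.2, IntermediateField.subset_adjoin k _
          (Finset.mem_coe.2 (Finset.mem_biUnion.2 ⟨z, hz, Finset.mem_image_of_mem _ hp⟩))⟩ : F), rfl⟩
      exact hmem
    · refine isRegularLocalRing_atPrime_of_base S (S ⊗[k] F) _ q
        ((Ideal.comap_comap _ _).trans (congrArg q'.comap f.comp_algebraMap)) ?_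
      let D := Localization.AtPrime q
      have : IsRegularRing D := GrothLib.Serre.isRegularRing_of_isRegularLocalRing D
      have : IsRegularRing (F ⊗[k] D) := GrothLib.GeomReg.isRegularRing_tensor_of_formallySmooth k F D
      exact IsRegularRing.of_ringEquiv (R := F ⊗[k] D)
        ((Algebra.TensorProduct.comm k F D).toRingEquiv.trans
          ((Algebra.TensorProduct.cancelBaseChange k S D D F).symm.toRingEquiv.trans
            (Algebra.TensorProduct.comm S D (S ⊗[k] F)).toRingEquiv))

end Groth.Agent.S4733
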