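import Groth.Statements.S4734
import Groth.Agent.Lib.SkLift5.NormalFlat
import Groth.Agent.Lib.DepthRestrict.Basic
-- import your own Groth.Agent.* helpers here

set_option autoImplicit false
universe u
open EGA4

namespace Groth.Agent.S4734

/-- Let A be a Noetherian ring, I a nilpotent ideal of A and M a finite A-module whose support is all of
Spec A and which is normally flat along I. Then for every prime p of A: M satisfies Serre's
condition (S_n) at p if and only if the A-module A/I does; and the codepth of M_p is at most n if
and only if the codepth of the A_p-module (A/I)_p is at most n (codepth written additively as dim ≤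
depth + n). -/
theorem result (n : ℕ) (A : Type u) [CommRing A] [IsNoetherianRing A]
    (I : Ideal A) (hI : IsNilpotent I) (M : Type u) [AddCommGroup M] [Module A M] [Module.Finite A M]
    (hsupp : Module.support A M = Set.univ) (hM : EGA4.IsNormallyFlat I M) (p : Ideal A) [p.IsPrime] :
    (EGA4.HasSkAt n A M p ↔ EGA4.HasSkAt n A (A ⧸ I) p) ∧
      (Module.supportDim (Localization.AtPrime p) (LocalizedModule p.primeCompl M) ≤
          ((LocCoh.depth (Localization.AtPrime p) (LocalizedModule p.primeCompl M) : ℕ∞) : WithBot ℕ∞) + n ↔
        Module.supportDim (Localization.AtPrime p) (LocalizedModule p.primeCompl (A ⧸ I)) ≤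
          ((LocCoh.depth (Localization.AtPrime p) (LocalizedModule p.primeCompl (A ⧸ I)) : ℕ∞) : WithBot ℕ∞) + n) := by
  have hs : Module.support A M = Module.support A (A ⧸ I) := by
    rw [hsupp, GrothLib.SkLift5.support_quotient_eq_univ hI]
  have hnt : ∀ (q : Ideal A) [q.IsPrime], Nontrivial (LocalizedModule q.primeCompl M) := fun q _ =>
    Module.mem_support_iff.1 (hsupp ▸ Set.mem_univ (⟨q, inferInstance⟩ : PrimeSpectrum A))
  constructor
  · refine forall₂_congr fun Q hQ => ?_
    haveI := hQ
    set q := Q.comap (algebraMap A (Localization.AtPrime p))
    have hd : ∀ (X : Type u) [AddCommGroup X] [Module A X],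
        Module.supportDim (Localization.AtPrime Q) (LocalizedModule Q.primeCompl (LocalizedModule p.primeCompl X)) =
          Module.supportDim (Localization.AtPrime q) (LocalizedModule q.primeCompl X) := fun X _ _ =>
      GrothLib.DepthRestrict.supportDim_localized_eq p.primeCompl (LocalizedModule.mkLinearMap p.primeCompl X) Q q rfl
    rw [hd, hd, GrothLib.SkLift5.supportDim_localized_congr hs]
    haveI : IsNoetherianRing (Localization.AtPrime p) := GrothLib.Depth.isNoetherian_atPrime p
    haveI : IsNoetherianRing (Localization.AtPrime Q) := GrothLib.Depth.isNoetherian_atPrime Q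
    haveI : Module.Flat A (Localization.AtPrime p) := IsLocalization.flat _ p.primeCompl
    haveI : Module.Flat (Localization.AtPrime p) (Localization.AtPrime Q) := IsLocalization.flat _ Q.primeCompl
    haveI : Module.Flat A (Localization.AtPrime Q) := Module.Flat.trans A (Localization.AtPrime p) (Localization.AtPrime Q)
    let e : ∀ (X : Type u) [AddCommGroup X] [Module A X],
        LocalizedModule Q.primeCompl (LocalizedModule p.primeCompl X) ≃ₗ[(Localization.AtPrime Q)] TensorProduct A (Localization.AtPrime Q) X := fun X _ _ =>
      (LocalizedModule.equivTensorProduct Q.primeCompl _).trans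
        ((LinearEquiv.baseChange (Localization.AtPrime p) (Localization.AtPrime Q) _ _ (LocalizedModule.equivTensorProduct p.primeCompl X)).trans
          (TensorProduct.AlgebraTensorModule.cancelBaseChange A (Localization.AtPrime p) (Localization.AtPrime Q) (Localization.AtPrime Q) X))
    have hne : Nontrivial (LocalizedModule Q.primeCompl (LocalizedModule p.primeCompl M)) := by
      rw [← not_subsingleton_iff_nontrivial, ← Module.supportDim_eq_bot_iff_subsingleton (Localization.AtPrime Q), hd,
        Module.supportDim_eq_bot_iff_subsingleton, not_subsingleton_iff_nontrivial]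
      exact hnt q
    haveI : Nontrivial (TensorProduct A (Localization.AtPrime Q) M) := (e M).symm.toEquiv.nontrivial
    rw [show LocCoh.depth (Localization.AtPrime Q) (LocalizedModule Q.primeCompl (LocalizedModule p.primeCompl M)) = _
        from GrothLib.Depth.idealDepth_eq_of_equiv (N := TensorProduct A (Localization.AtPrime Q) M) _ (e M),
      show LocCoh.depth (Localization.AtPrime Q) (LocalizedModule Q.primeCompl (LocalizedModule p.primeCompl (A ⧸ I))) = _
        from GrothLib.Depth.idealDepth_eq_of_equiv (N := TensorProduct A (Localization.AtPrime Q) (A ⧸ I)) _ (e (A ⧸ I))]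
    rw [show LocCoh.idealDepth (IsLocalRing.maximalIdeal (Localization.AtPrime Q)) (TensorProduct A (Localization.AtPrime Q) M) = _ from
      GrothLib.SkLift5.depth_baseChange_eq_of_isNormallyFlat (Localization.AtPrime Q) hI hM]
    rfl
  · haveI := hnt p
    rw [GrothLib.SkLift5.supportDim_localized_congr hs, GrothLib.SkLift5.depth_localized_eq_of_isNormallyFlat hI hM p]

end Groth.Agent.S4734
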