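import Groth.Statements.S4739
import Groth.Agent.Lib.AdicExtra.Local
import Groth.Agent.Lib.GeomReg.FiniteGRing
-- import your own Groth.Agent.* helpers here

set_option autoImplicit false
universe u
open EGA4

namespace Groth.Agent.S4739

open TensorProduct in
/-- Let A → B be a local homomorphism of Noetherian local rings and Â the completion of A, and suppose
B' = B ⊗_A Â is Noetherian. Then for every prime ideal n' of B' lying over the maximal ideal of B
and containing the image of the maximal ideal of A through Â (that is, lying over the maximal ideal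
m_A Â of Â), the completion of B and the completion of the local ring B'_{n'} are isomorphic
(existence of a ring isomorphism only). -/
theorem result (A B : Type u) [CommRing A] [CommRing B] [IsNoetherianRing A]
    [IsNoetherianRing B] [IsLocalRing A] [IsLocalRing B] [Algebra A B] [IsLocalHom (algebraMap A B)]
    [IsNoetherianRing (B ⊗[A] EGA4.Cpl A)] (n' : Ideal (B ⊗[A] EGA4.Cpl A)) [n'.IsPrime]
    (h1 : n'.comap (algebraMap B (B ⊗[A] EGA4.Cpl A)) = IsLocalRing.maximalIdeal B)
    (h2 : (IsLocalRing.maximalIdeal A).map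
        ((Algebra.TensorProduct.includeRight.toRingHom : EGA4.Cpl A →+* B ⊗[A] EGA4.Cpl A).comp
          (algebraMap A (EGA4.Cpl A))) ≤ n') :
    Nonempty (EGA4.Cpl B ≃+* EGA4.Cpl (Localization.AtPrime n')) := by
  set E := Localization.AtPrime n'
  haveI : IsNoetherianRing E := IsLocalization.isNoetherianRing n'.primeCompl E inferInstance
  set J := (IsLocalRing.maximalIdeal B).map (algebraMap B (B ⊗[A] EGA4.Cpl A))
  have hJ : J ≤ n' := Ideal.map_le_iff_le_comap.2 h1.ge
  have hmA : ∀ (b : B) (x : EGA4.Cpl A), x ∈ (IsLocalRing.maximalIdeal A ^ 1 • ⊤ : Submodule A (EGA4.Cpl A)) →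
      b ⊗ₜ[A] x ∈ J := by
    intro b x hx
    refine Submodule.smul_induction_on hx (fun r hr y _ => ?_) fun y z hy hz => ?_
    · rw [← TensorProduct.smul_tmul, show (r • b) ⊗ₜ[A] y = algebraMap B (B ⊗[A] EGA4.Cpl A) (algebraMap A B r) * (b ⊗ₜ[A] y) by
        rw [Algebra.TensorProduct.algebraMap_apply, Algebra.TensorProduct.tmul_mul_tmul, one_mul, Algebra.smul_def]; rfl]
      refine J.mul_mem_right _ (Ideal.mem_map_of_mem _ ?_)
      rw [pow_one] at hr
      exact map_nonunit (algebraMap A B) r hr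
    · rw [TensorProduct.tmul_add]; exact add_mem hy hz
  have hsurj : ∀ z : (B ⊗[A] EGA4.Cpl A), ∃ b : B, z - algebraMap B (B ⊗[A] EGA4.Cpl A) b ∈ J := by
    intro z
    induction z using TensorProduct.induction_on with
    | zero => exact ⟨0, by simp⟩
    | add u v hu hv =>
      obtain ⟨a, ha⟩ := hu
      obtain ⟨c, hc⟩ := hv
      refine ⟨a + c, ?_⟩
      rw [map_add, add_sub_add_comm]
      exact add_mem ha hc
    | tmul b x =>
      obtain ⟨a, ha⟩ := Submodule.mkQ_surjective _ (AdicCompletion.eval (IsLocalRing.maximalIdeal A) A 1 x)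
      have he : x - algebraMap A (EGA4.Cpl A) a ∈ (IsLocalRing.maximalIdeal A ^ 1 • ⊤ : Submodule A (EGA4.Cpl A)) := by
        rw [AdicCompletion.pow_smul_top_eq_ker_eval (IsLocalRing.maximalIdeal A).fg_of_isNoetherianRing,
          LinearMap.mem_ker, map_sub, AdicCompletion.algebraMap_apply, AdicCompletion.eval_of]
        exact sub_eq_zero.2 ha.symm
      refine ⟨a • b, ?_⟩
      have h3 : algebraMap B (B ⊗[A] EGA4.Cpl A) (a • b) = b ⊗ₜ[A] algebraMap A (EGA4.Cpl A) a := by
        show (a • b) ⊗ₜ[A] (1 : EGA4.Cpl A) = _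
        rw [Algebra.algebraMap_eq_smul_one (A := EGA4.Cpl A), TensorProduct.smul_tmul]
      rw [h3, ← TensorProduct.tmul_sub]
      exact hmA b _ he
  have hn : n' ≤ J := by
    intro z hz
    obtain ⟨b, hb⟩ := hsurj z
    have hbm : b ∈ IsLocalRing.maximalIdeal B := by
      rw [← h1, Ideal.mem_comap]
      simpa using sub_mem hz (hJ hb)
    simpa using add_mem hb (Ideal.mem_map_of_mem (algebraMap B (B ⊗[A] EGA4.Cpl A)) hbm)
  have hm : (IsLocalRing.maximalIdeal B).map (algebraMap B E) = IsLocalRing.maximalIdeal E := by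
    rw [IsScalarTower.algebraMap_eq B (B ⊗[A] EGA4.Cpl A) E, ← Ideal.map_map, ← Localization.AtPrime.map_eq_maximalIdeal]
    exact le_antisymm (Ideal.map_mono hJ) (Ideal.map_mono hn)
  haveI : IsLocalHom (algebraMap B E) := ((IsLocalRing.local_hom_TFAE (algebraMap B E)).out 0 2).2 hm.le
  haveI : n'.IsMaximal := by
    refine ⟨⟨Ideal.IsPrime.ne_top inferInstance, fun K hK => ?_⟩⟩
    obtain ⟨z, hzK, hzn⟩ := SetLike.exists_of_lt hK
    obtain ⟨b, hb⟩ := hsurj z
    have hbK : algebraMap B (B ⊗[A] EGA4.Cpl A) b ∈ K := by simpa using sub_mem hzK (hK.le (hJ hb))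
    have hbu : IsUnit b := IsLocalRing.notMem_maximalIdeal.1 fun h => hzn (by
      simpa using add_mem (hJ hb) (hJ (Ideal.mem_map_of_mem (algebraMap B (B ⊗[A] EGA4.Cpl A)) h)))
    exact Ideal.eq_top_of_isUnit_mem _ hbK (hbu.map _)
  haveI : Module.Flat B E :=
    haveI : Module.Flat (B ⊗[A] EGA4.Cpl A) E := IsLocalization.flat E n'.primeCompl
    Module.Flat.trans B (B ⊗[A] EGA4.Cpl A) E
  obtain ⟨ψ, hψ⟩ := GrothLib.GeomReg.exists_completion_map B E
  refine ⟨RingEquiv.ofBijective ψ (GrothLib.AdicExtra.bijective_completion ψ hψ hm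
    ⟨(IsLocalRing.ResidueField.map _).injective, fun y => ?_⟩)⟩
  obtain ⟨x, hx⟩ := (IsLocalization.AtPrime.equivQuotMaximalIdeal n' E).surjective y
  obtain ⟨x, rfl⟩ := Ideal.Quotient.mk_surjective x
  obtain ⟨b, hb⟩ := hsurj x
  refine ⟨IsLocalRing.residue B b, ?_⟩
  rw [IsLocalRing.ResidueField.map_residue, ← hx, IsLocalization.AtPrime.equivQuotMaximalIdeal_apply_mk,
    IsScalarTower.algebraMap_apply B (B ⊗[A] EGA4.Cpl A) E]
  refine (Ideal.Quotient.eq.2 ?_).symm
  have h9 := Ideal.mem_map_of_mem (algebraMap (B ⊗[A] EGA4.Cpl A) E) (hJ hb)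
  rw [Localization.AtPrime.map_eq_maximalIdeal] at h9
  exact (map_sub (algebraMap (B ⊗[A] EGA4.Cpl A) E) _ _) ▸ h9

end Groth.Agent.S4739
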