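import Groth.Statements.S4741
import Groth.Agent.Lib.Chev28.OpenDim
import Groth.Agent.Lib.AlgSp.PointProps
import Groth.Agent.Lib.AffDom.PointDim

set_option autoImplicit false
universe u
open EGA4

namespace Groth.Agent.S4741

open AlgebraicGeometry CategoryTheory in
/-- Suppose X and Y are locally Noetherian schemes, f : X → Y is a morphism that is surjective, and Z is
a closed subset of Y. Then codim(f⁻¹(Z), X) ≤ codim(Z, Y), where the codimension of a closed subset
means the infimum over its points of the dimensions of the local rings there; when f is in addition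
flat, these two codimensions coincide. (In the published version the equality part assumes f
quasi-flat; here f is taken to be flat.) -/
theorem result {X Y : Scheme.{u}} (f : X ⟶ Y) [IsLocallyNoetherian X]
    [IsLocallyNoetherian Y] (hf : Function.Surjective f.base) (Z : Set Y) (hZ : IsClosed Z) :
    (⨅ x ∈ f.base ⁻¹' Z, ringKrullDim (X.presheaf.stalk x)) ≤ ⨅ y ∈ Z, ringKrullDim (Y.presheaf.stalk y) ∧
      (Flat f → (⨅ x ∈ f.base ⁻¹' Z, ringKrullDim (X.presheaf.stalk x)) = ⨅ y ∈ Z, ringKrullDim (Y.presheaf.stalk y)) := by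
  have h1 : (⨅ x ∈ f.base ⁻¹' Z, ringKrullDim (X.presheaf.stalk x)) ≤ ⨅ y ∈ Z, ringKrullDim (Y.presheaf.stalk y) := by
    refine le_iInf₂ fun y hy => ?_
    obtain ⟨x₀, hx₀⟩ := hf y
    obtain ⟨w₀, hw₀⟩ := (f.range_fiberι y).ge (show x₀ ∈ f ⁻¹' {y} from hx₀)
    obtain ⟨w, -, hmax⟩ := GrothLib.AffDom.exists_maximal_point w₀
    obtain ⟨x, hx⟩ : ∃ x, f.fiberι y w = x := ⟨_, rfl⟩
    have hfx : f x = y := hx ▸ (f.range_fiberι y).le ⟨w, rfl⟩
    subst hfx
    obtain rfl : w = f.asFiber x := (f.fiberι _).isEmbedding.injective (hx.trans (f.fiberι_asFiber x).symm)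
    refine iInf₂_le_of_le x hy ((GrothLib.Equidim6.ringKrullDim_stalk_le_add f x).trans ?_)
    have h0 : ringKrullDim ((f.fiber (f x)).presheaf.stalk (f.asFiber x)) ≤ 0 := by
      rw [ringKrullDim_stalk_eq_coheight]
      refine le_of_eq ?_
      rw [show Order.coheight (f.asFiber x) = 0 from Order.coheight_eq_zero.mpr fun z hz =>
        (hmax z (Scheme.le_iff_specializes.mp hz)).le]
      rfl
    exact (add_le_add le_rfl h0).trans (add_zero _).le
  refine ⟨h1, fun _ => le_antisymm h1 (le_iInf₂ fun x hx => ?_)⟩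
  exact iInf₂_le_of_le (f x) hx (GrothLib.AlgSp.ringKrullDim_stalk_map_le_of_flat f x)

end Groth.Agent.S4741
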