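import Groth.Statements.S4742
import Groth.Agent.Lib.SkLift5.Ring
-- import your own Groth.Agent.* helpers here

set_option autoImplicit false
universe u
open EGA4

namespace Groth.Agent.S4742

/-- Let A be a Noetherian local ring which is equidimensional and catenary, t an element of A belonging
to a system of parameters (dim A/tA + 1 = dim A), and Z a set of prime ideals of A stable under
specialization. Write X = Spec A, X₀ = V(t), X₁ = X ∖ X₀ and Z₀ = Z ∩ X₀, Z₁ = Z ∩ X₁. Then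
codim(Z₀, X₀) ≤ codim(Z, X) ≤ codim(Z₁, X₁), where each codimension is the infimum of the heights of
the primes concerned, heights for Z₀ being taken in A/tA. -/
theorem result (A : Type u) [CommRing A] [IsNoetherianRing A] [IsLocalRing A]
    (hA : EGA4.IsEquidim A) (hA' : CAlg.IsCatenary A) (t : A)
    (ht : ringKrullDim (A ⧸ Ideal.span {t}) + 1 = ringKrullDim A) (Z : Set (PrimeSpectrum A))
    (hZ : StableUnderSpecialization Z) :
    (⨅ p ∈ {p ∈ Z | t ∈ p.asIdeal}, (p.asIdeal.map (Ideal.Quotient.mk (Ideal.span {t}))).height) ≤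
        ⨅ p ∈ Z, p.asIdeal.height ∧
      (⨅ p ∈ Z, p.asIdeal.height) ≤ ⨅ p ∈ {p ∈ Z | t ∉ p.asIdeal}, p.asIdeal.height := by
  refine ⟨?_, le_iInf₂ fun p hp => iInf₂_le p hp.1⟩
  have hne : ringKrullDim A ≠ ⊥ := ne_bot_of_le_ne_bot WithBot.zero_ne_bot ringKrullDim_nonneg_of_nontrivial
  have htne : Ideal.span {t} ≠ ⊤ := fun h => by
    haveI : Subsingleton (A ⧸ Ideal.span {t}) := Ideal.Quotient.subsingleton_iff.2 h
    rw [ringKrullDim_eq_bot_of_subsingleton, WithBot.bot_add] at ht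
    exact hne ht.symm
  have htm : t ∈ IsLocalRing.maximalIdeal A :=
    IsLocalRing.le_maximalIdeal htne (Ideal.mem_span_singleton_self t)
  have htmin : ∀ P ∈ minimalPrimes A, t ∉ P := by
    intro P hP htP
    haveI := hP.1.1
    have h1 : ringKrullDim (A ⧸ P) ≤ ringKrullDim (A ⧸ Ideal.span {t}) :=
      ringKrullDim_le_of_surjective _ (Ideal.Quotient.factor_surjective ((Ideal.span_singleton_le_iff_mem _).2 htP))
    rw [hA P hP, ← ht, GrothLib.Ratliff.ringKrullDim_quotient_eq htne,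
      show (1 : WithBot ℕ∞) = ((1 : ℕ∞) : WithBot ℕ∞) from rfl, ← WithBot.coe_add, WithBot.coe_le_coe] at h1
    exact (ENat.lt_add_one_iff (GrothLib.Ratliff.qdim_ne_top htne)).2 le_rfl |>.not_ge h1
  refine le_iInf₂ fun p hp => ?_
  obtain ⟨q, hqZ, htq, hq⟩ : ∃ q : PrimeSpectrum A, q ∈ Z ∧ t ∈ q.asIdeal ∧
      q.asIdeal.height ≤ p.asIdeal.height + 1 := by
    by_cases htp : t ∈ p.asIdeal
    · exact ⟨p, hp, htp, le_self_add⟩
    · obtain ⟨q, hq, -⟩ := Ideal.exists_minimalPrimes_le (I := p.asIdeal ⊔ Ideal.span {t})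
        (J := IsLocalRing.maximalIdeal A) (sup_le (IsLocalRing.le_maximalIdeal p.isPrime.ne_top)
          ((Ideal.span_singleton_le_iff_mem _).2 htm))
      haveI := hq.1.1
      refine ⟨⟨q, hq.1.1⟩, hZ ((PrimeSpectrum.le_iff_specializes p ⟨q, hq.1.1⟩).1 (le_sup_left.trans hq.1.2)) hp,
        hq.1.2 (Ideal.mem_sup_right (Ideal.mem_span_singleton_self t)), ?_⟩
      exact GrothLib.SkLift5.height_le_add_one hA' hA (le_sup_left.trans hq.1.2)
        (GrothLib.SkLift5.height_map_le_one hq)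
  refine (iInf₂_le q ⟨hqZ, htq⟩).trans ?_
  obtain ⟨Q, hQ, hQq, hh⟩ := GrothLib.Ratliff.exists_minimal_height (Ideal.span {t}) q.asIdeal
    ((Ideal.span_singleton_le_iff_mem _).2 htq)
  haveI := hQ.1.1
  obtain ⟨Q0, hQ0, hQ0Q⟩ := Ideal.exists_minimalPrimes_le (I := (⊥ : Ideal A)) (J := Q) bot_le
  haveI := hQ0.1.1
  have hlt : Q0 < Q := lt_of_le_of_ne hQ0Q fun h => htmin Q0 hQ0 (h ▸ hQ.1.2 (Ideal.mem_span_singleton_self t))
  have hadd := GrothLib.Ratliff.height_quot_add Q0 Q q.asIdeal hQ0Q hQq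
    (GrothLib.CatBasics.isCatenary_of_surjective _ Ideal.Quotient.mk_surjective hA')
  have hle : (q.asIdeal.map (Ideal.Quotient.mk Q0)).height ≤ q.asIdeal.height := by
    refine (GrothLib.Ratliff.height_quot_mono ⊥ Q0 q.asIdeal bot_le (hQ0Q.trans hQq)).trans (le_of_eq ?_)
    conv_rhs => rw [← (RingEquiv.quotientBot A).symm.height_map q.asIdeal]
    rfl
  have hone : 1 ≤ (Q.map (Ideal.Quotient.mk Q0)).height := by
    haveI : (Q.map (Ideal.Quotient.mk Q0)).IsPrime := Ideal.isPrime_map_quotientMk_of_isPrime hQ0Q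
    refine Order.one_le_iff_ne_zero.2 fun h0 => ?_
    have := Ideal.height_eq_zero_iff.1 h0
    rw [IsDomain.minimalPrimes_eq_singleton_bot, Set.mem_singleton_iff, Ideal.map_eq_bot_iff_le_ker,
      Ideal.mk_ker] at this
    exact hlt.not_ge this
  rw [hh]
  have h1 : (1 : ℕ∞) + (q.asIdeal.map (Ideal.Quotient.mk Q)).height ≤ (1 : ℕ∞) + p.asIdeal.height := by
    rw [add_comm (1 : ℕ∞) p.asIdeal.height]
    refine le_trans ?_ hq
    refine le_trans ?_ hle
    rw [hadd]
    exact add_le_add hone le_rfl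
  exact (WithTop.add_le_add_iff_left WithTop.one_ne_top).1 h1

end Groth.Agent.S4742
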