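import Groth.Statements.S4743
import Groth.Agent.Lib.Excellent.FiniteModels
-- import your own Groth.Agent.* helpers here

set_option autoImplicit false
universe u
open EGA4

namespace Groth.Agent.S4743
open TensorProduct

theorem isReduced_localization_of_localizations {R L : Type u} [CommRing R] [CommRing L] [Algebra R L]
    (M : Submonoid R) [IsLocalization M L]
    (h : ∀ (q : Ideal R) [q.IsPrime], Disjoint (M : Set R) q → IsReduced (Localization.AtPrime q)) : IsReduced L := by
  refine ⟨fun x hx => ?_⟩
  refine Module.eq_zero_of_localization_maximal (R := L)
    (fun P _ => Localization.AtPrime P) (fun P _ => Algebra.linearMap _ _) x fun P hP => ?_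
  haveI := hP
  haveI := h (P.comap (algebraMap R L)) ((IsLocalization.isPrime_iff_isPrime_disjoint M L P).1 inferInstance).2
  have := IsLocalization.isLocalization_isLocalization_atPrime_isLocalization M (Localization.AtPrime P) P
  haveI : IsReduced (Localization.AtPrime P) := GrothLib.Excellent.isReduced_congr
    (IsLocalization.algEquiv (P.comap (algebraMap R L)).primeCompl
      (Localization.AtPrime (P.comap (algebraMap R L))) (Localization.AtPrime P)).toRingEquiv
  exact (hx.map (algebraMap L (Localization.AtPrime P))).eq_zero

theorem isReduced_atPrime_of_disjoint {R L : Type u} [CommRing R] [CommRing L] [Algebra R L]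
    (M : Submonoid R) [IsLocalization M L] [IsReduced L] (q : Ideal R) [q.IsPrime]
    (hdisj : Disjoint (M : Set R) q) : IsReduced (Localization.AtPrime q) := by
  let P := q.map (algebraMap R L)
  haveI : P.IsPrime := IsLocalization.isPrime_of_isPrime_disjoint M L q inferInstance hdisj
  have hP : P.comap (algebraMap R L) = q :=
    IsLocalization.comap_map_of_isPrime_disjoint M L inferInstance hdisj
  haveI : IsReduced (Localization.AtPrime P) :=
    isReduced_localizationPreserves P.primeCompl _ inferInstance
  haveI : IsLocalization.AtPrime (Localization.AtPrime P) q := by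
    convert IsLocalization.isLocalization_isLocalization_atPrime_isLocalization M (Localization.AtPrime P) P
    exact hP.symm
  exact GrothLib.Excellent.isReduced_congr
    (IsLocalization.algEquiv q.primeCompl (Localization.AtPrime P) (Localization.AtPrime q)).toRingEquiv

/-- For the property 'geometrically reduced', case of a local ring: let A be a Noetherian local ring
with completion Â. Then the formal fibres of A are geometrically reduced if and only if, for every
finite A-algebra B which is a domain and every prime ideal q of B ⊗_A Â whose contraction to B is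
zero, the local ring of B ⊗_A Â at q is reduced. (The published statement is for semi-local rings;
this row takes A local.) -/
theorem result (A : Type u) [CommRing A] [IsNoetherianRing A]
    [IsLocalRing A] :
    EGA4.HasGeomReducedFormalFibres A ↔
      ∀ (B : Type u) [CommRing B] [IsDomain B] [Algebra A B] [Module.Finite A B]
        (q : Ideal (B ⊗[A] EGA4.Cpl A)) [q.IsPrime],
        q.comap (algebraMap B (B ⊗[A] EGA4.Cpl A)) = ⊥ → IsReduced (Localization.AtPrime q) := by
  constructor
  · intro h B _ _ _ _ q _ hq
    let K := FractionRing B
    haveI := GrothLib.Excellent.isReduced_field_tensor h K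
    let R := B ⊗[A] EGA4.Cpl A
    let S := Algebra.algebraMapSubmonoid R (nonZeroDivisors B)
    haveI : IsReduced (R ⊗[B] K) := GrothLib.Excellent.isReduced_congr (R := K ⊗[A] EGA4.Cpl A) (S := R ⊗[B] K)
      ((Algebra.TensorProduct.cancelBaseChange A B B K (EGA4.Cpl A)).symm.toRingEquiv.trans
        (Algebra.TensorProduct.comm B K R).toRingEquiv)
    haveI : IsLocalization S (R ⊗[B] K) := inferInstance
    have hdisj : Disjoint (S : Set R) q := by
      rw [Set.disjoint_left]
      rintro _ ⟨b, hb, rfl⟩ hbq
      have : b ∈ q.comap (algebraMap B R) := hbq
      rw [hq] at this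
      exact nonZeroDivisors.ne_zero hb this
    exact isReduced_atPrime_of_disjoint (L := R ⊗[B] K) S q hdisj
  · intro h p _
    refine GrothLib.Excellent.geomReduced_fibres_of_finite_domains (fun B _ _ _ _ L _ _ _ _ _ => ?_) p
    let R := B ⊗[A] EGA4.Cpl A
    let S := Algebra.algebraMapSubmonoid R (nonZeroDivisors B)
    haveI : IsLocalization S (R ⊗[B] L) := inferInstance
    haveI : IsReduced (R ⊗[B] L) := isReduced_localization_of_localizations (L := R ⊗[B] L) S fun q _ hd => by
      refine h B q (eq_bot_iff.2 fun b hb => ?_)
      by_contra hb0
      exact Set.disjoint_left.1 hd ⟨b, mem_nonZeroDivisors_of_ne_zero hb0, rfl⟩ hb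
    exact GrothLib.Excellent.isReduced_congr (R := R ⊗[B] L)
      ((Algebra.TensorProduct.comm B R L).toRingEquiv.trans
        (Algebra.TensorProduct.cancelBaseChange A B B L (EGA4.Cpl A)).toRingEquiv)

end Groth.Agent.S4743
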