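import Groth.Statements.S4746
import Groth.Agent.Lib.FibProp5.Reduced
-- import your own Groth.Agent.* helpers here

set_option autoImplicit false
universe u
open EGA4

namespace Groth.Agent.S4746

/-- For the property 'reduced': let A → B be a local homomorphism of Noetherian local rings making B a
flat A-module, such that the residue field of B is a finite extension of the residue field k of A,
and such that the formal fibres of A are geometrically reduced. If the k-algebra k ⊗_A B̂, where B̂
is the completion of B, is geometrically reduced over k, then every fibre k(p) ⊗_A B of A → B is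
geometrically reduced over k(p). -/
theorem result (A B : Type u) [CommRing A] [CommRing B]
    [IsNoetherianRing A] [IsNoetherianRing B] [IsLocalRing A] [IsLocalRing B] [Algebra A B]
    [IsLocalHom (algebraMap A B)] [Module.Flat A B]
    [Module.Finite (IsLocalRing.ResidueField A) (IsLocalRing.ResidueField B)]
    (hA : EGA4.HasGeomReducedFormalFibres A)
    (h : Algebra.IsGeometricallyReduced (IsLocalRing.maximalIdeal A).ResidueField
      ((IsLocalRing.maximalIdeal A).Fiber (EGA4.Cpl B))) :
    ∀ (p : Ideal A) [p.IsPrime], Algebra.IsGeometricallyReduced p.ResidueField (p.Fiber B) := by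
  intro p _
  obtain ⟨alg, tow⟩ := GrothLib.FibProp5.exists_completion_algebra A B
  letI := alg
  haveI := tow
  obtain ⟨hloc, hres, hcl⟩ := GrothLib.FibProp5.completion_data (A := A) (B := B)
    GrothLib.FibProp5.good_redProp (fun K _ _ _ => GrothLib.FibProp5.redProp_of_isGeometricallyReduced h K)
  haveI := hloc
  haveI : Module.Flat (EGA4.Cpl A) (EGA4.Cpl B) := GrothLib.FibProp5.flat_completion_map
  haveI := GrothLib.Excellent.faithfullyFlat_cpl B
  exact GrothLib.Excellent.geomReduced_of_comp (C := EGA4.Cpl B)
    (fun q _ => GrothLib.Excellent.geomReduced_comp (B := EGA4.Cpl A) hA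
      (fun r _ => GrothLib.FibProp5.geomReduced_complete (EGA4.Cpl A) (EGA4.Cpl B) hres hcl r) q) p

end Groth.Agent.S4746
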