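import Groth.Statements.S4747
import Groth.Agent.Lib.FibProp5.CM
import Groth.Agent.Lib.Excellent.FormalFibres
-- import your own Groth.Agent.* helpers here

set_option autoImplicit false
universe u
open EGA4

namespace Groth.Agent.S4747

open TensorProduct in
/-- For the property 'Cohen–Macaulay': let A → B be a local homomorphism of Noetherian local rings
making B a flat A-module, such that the residue field of B is a finite extension of the residue
field k of A, and such that the formal fibres of A are Cohen–Macaulay. If for every finite extension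
k' of k the ring k' ⊗_k (k ⊗_A B̂) is Cohen–Macaulay (B̂ the completion of B), then for every prime
p of A and every finite extension K of k(p) the ring K ⊗_{k(p)} (k(p) ⊗_A B) is Cohen–Macaulay; in
particular all fibres of A → B are Cohen–Macaulay. -/
theorem result (A B : Type u) [CommRing A] [CommRing B]
    [IsNoetherianRing A] [IsNoetherianRing B] [IsLocalRing A] [IsLocalRing B] [Algebra A B]
    [IsLocalHom (algebraMap A B)] [Module.Flat A B]
    [Module.Finite (IsLocalRing.ResidueField A) (IsLocalRing.ResidueField B)]
    (hA : EGA4.HasCMFormalFibres A)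
    (h : ∀ (k' : Type u) [Field k'] [Algebra (IsLocalRing.maximalIdeal A).ResidueField k'],
      Module.Finite (IsLocalRing.maximalIdeal A).ResidueField k' →
        LocCoh.IsCohenMacaulayRing (k' ⊗[(IsLocalRing.maximalIdeal A).ResidueField]
          ((IsLocalRing.maximalIdeal A).Fiber (EGA4.Cpl B)))) :
    ∀ (p : Ideal A) [p.IsPrime] (K : Type u) [Field K] [Algebra p.ResidueField K],
      Module.Finite p.ResidueField K → LocCoh.IsCohenMacaulayRing (K ⊗[p.ResidueField] (p.Fiber B)) := by
  intro p _ K _ _ hK
  obtain ⟨alg, tow⟩ := GrothLib.FibProp5.exists_completion_algebra A B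
  letI := alg
  haveI := tow
  obtain ⟨hloc, hres, hcl⟩ := GrothLib.FibProp5.completion_data (A := A) (B := B)
    GrothLib.FibProp5.good_cmProp (fun L _ _ hL => h L hL)
  haveI := hloc
  haveI : Module.Flat (EGA4.Cpl A) (EGA4.Cpl B) := GrothLib.FibProp5.flat_completion_map
  haveI := GrothLib.Excellent.faithfullyFlat_cpl B
  haveI : IsNoetherianRing (p.Fiber B) := GrothLib.FormalDescent.isNoetherianRing_fiber A B p
  refine GrothLib.FibProp5.cm_tensor_field
    (GrothLib.SnFibres.isCohenMacaulayRing_iff_forall_hasSk.2 fun n =>
      GrothLib.SnFibres.hasSk_fiber_descent (B := B) (C := EGA4.Cpl B) n p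
        (GrothLib.SnFibres.hasSk_fiber_comp (B := EGA4.Cpl A) n (fun r _ => ?_) (fun q _ => ?_) p)) K
  · haveI : IsNoetherianRing (r.Fiber (EGA4.Cpl A)) := GrothLib.FormalDescent.isNoetherianRing_fiber A (EGA4.Cpl A) r
    exact GrothLib.SnFibres.isCohenMacaulayRing_iff_forall_hasSk.1 (hA r) n
  · haveI : IsNoetherianRing (q.Fiber (EGA4.Cpl B)) :=
      GrothLib.FormalDescent.isNoetherianRing_fiber (EGA4.Cpl A) (EGA4.Cpl B) q
    exact GrothLib.SnFibres.isCohenMacaulayRing_iff_forall_hasSk.1
      (GrothLib.FibProp5.cm_fibre_complete (EGA4.Cpl A) (EGA4.Cpl B) hres hcl q) n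

end Groth.Agent.S4747
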