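import Groth.Statements.S4748
import Groth.Agent.Lib.NormalHom.Colimit

set_option autoImplicit false
universe u
open EGA4 TensorProduct

namespace Groth.Agent.S4748

open TensorProduct in
/-- For the property 'normal' (affine form): let k be a field, S a Noetherian k-algebra and k' an
extension field of k such that S is of finite type over k or k' is essentially of finite type over
k; let q' be a prime of S ⊗_k k' and q its contraction to S. If (S ⊗_k k')_{q'} is an integrally
closed domain then so is S_q; conversely, if k' is separable over k (geometrically reduced) and S_q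
is an integrally closed domain, then so is (S ⊗_k k')_{q'}. -/
theorem result (k S k' : Type u) [Field k] [CommRing S] [Algebra k S]
    [IsNoetherianRing S] [Field k'] [Algebra k k'] (hft : Algebra.FiniteType k S ∨ Algebra.EssFiniteType k k')
    [IsNoetherianRing (S ⊗[k] k')] (q' : Ideal (S ⊗[k] k')) [q'.IsPrime] :
    ((IsDomain (Localization.AtPrime q') ∧ IsIntegrallyClosed (Localization.AtPrime q')) →
        (IsDomain (Localization.AtPrime (q'.comap (algebraMap S (S ⊗[k] k')))) ∧
          IsIntegrallyClosed (Localization.AtPrime (q'.comap (algebraMap S (S ⊗[k] k')))))) ∧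
      (Algebra.IsGeometricallyReduced k k' →
        (IsDomain (Localization.AtPrime (q'.comap (algebraMap S (S ⊗[k] k')))) ∧
          IsIntegrallyClosed (Localization.AtPrime (q'.comap (algebraMap S (S ⊗[k] k'))))) →
          (IsDomain (Localization.AtPrime q') ∧ IsIntegrallyClosed (Localization.AtPrime q'))) := by
  set q := q'.comap (algebraMap S (S ⊗[k] k')) with hq
  refine ⟨fun ⟨h1, h2⟩ => ?_, fun hsep ⟨h1, h2⟩ => ?_⟩
  · have := h1
    have := h2
    have : q'.LiesOver q := ⟨hq⟩
    letI := Localization.AtPrime.algebraOfLiesOver q q'
    have : Module.Flat (Localization.AtPrime q) (Localization.AtPrime q') :=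
      (Module.flat_iff_of_isLocalization (Localization.AtPrime q) q.primeCompl _).mpr
        (Module.Flat.trans _ (S ⊗[k] k') _)
    exact GrothLib.EtBasicB.normal_of_normal_target (Localization.AtPrime q) (Localization.AtPrime q')
  · have := hsep
    have := h1
    have := h2
    let D := Localization.AtPrime q
    have hD : EGA4.IsNormalRing D := fun p _ =>
      ⟨IsLocalization.isDomain_of_le_nonZeroDivisors _ p.primeCompl_le_nonZeroDivisors,
        isIntegrallyClosed_of_isLocalization (Localization.AtPrime p) p.primeCompl p.primeCompl_le_nonZeroDivisors⟩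
    let M := Algebra.algebraMapSubmonoid (S ⊗[k] k') q.primeCompl
    let T := (S ⊗[k] k') ⊗[S] D
    have hT : EGA4.IsNormalRing T := GrothLib.Excellent.isNormalRing_congr
      ((Algebra.TensorProduct.comm k k' D).toRingEquiv.trans
        ((Algebra.TensorProduct.cancelBaseChange k S D D k').symm.toRingEquiv.trans
          (Algebra.TensorProduct.comm S D (S ⊗[k] k')).toRingEquiv))
      (GrothLib.NormalHom.isNormalRing_tensor_separable hD k')
    have hdisj : Disjoint (M : Set (S ⊗[k] k')) q' := by
      rw [Set.disjoint_left]
      rintro _ ⟨x, hx, rfl⟩ hM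
      exact hx hM
    have : (q'.map (algebraMap (S ⊗[k] k') T)).IsPrime :=
      IsLocalization.isPrime_of_isPrime_disjoint M T q' inferInstance hdisj
    exact GrothLib.Excellent.isNormalAt_congr
      (IsLocalization.comap_map_of_isPrime_disjoint M T inferInstance hdisj)
      ((GrothLib.Excellent.isNormalAt_localization M (q'.map (algebraMap (S ⊗[k] k') T))).1 (hT _))

end Groth.Agent.S4748
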