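import Groth.Statements.S4755
import Groth.Agent.Lib.Excellent.QuotientFibres
import Groth.Agent.Lib.HB26.Spread
-- import your own Groth.Agent.* helpers here

set_option autoImplicit false
universe u
open EGA4

namespace Groth.Agent.S4755

theorem isCohenMacaulayRing_congr {R S : Type u} [CommRing R] [CommRing S] (e : R ≃+* S)
    (h : LocCoh.IsCohenMacaulayRing R) : LocCoh.IsCohenMacaulayRing S := by
  haveI := h.1
  haveI : IsNoetherianRing S := isNoetherianRing_of_ringEquiv R e
  refine { isCohenMacaulayLocalRing_localization := fun P _ => ?_ }
  let P' := P.comap e.toRingHom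
  haveI := h.isCohenMacaulayLocalRing_localization P'
  exact GrothLib.HB26.isCohenMacaulayLocalRing_of_ringEquiv
    (IsLocalization.ringEquivOfRingEquiv (M := P'.primeCompl) (T := P.primeCompl)
      (Localization.AtPrime P') (Localization.AtPrime P) e (by
        ext x
        constructor
        · rintro ⟨y, hy, rfl⟩; exact hy
        · intro hx
          exact ⟨e.symm x, fun h' => hx (by simpa [P'] using h'), e.apply_symm_apply x⟩))

/-- For the property 'Cohen–Macaulay', case of a local ring: if the formal fibres of a Noetherian local
ring A are Cohen–Macaulay, then so are the formal fibres of A/I for every proper ideal I of A. -/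
theorem result (A : Type u) [CommRing A] [IsNoetherianRing A] [IsLocalRing A]
    (hA : EGA4.HasCMFormalFibres A) (I : Ideal A) [Nontrivial (A ⧸ I)] :
    EGA4.HasCMFormalFibres (A ⧸ I) := by
  intro p _
  obtain ⟨e⟩ := GrothLib.Excellent.exists_fibre_quotient_equiv I p
  exact isCohenMacaulayRing_congr e (hA _)

end Groth.Agent.S4755
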