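import Groth.Statements.S4756
import Groth.Agent.Lib.Excellent.NorFiniteType
import Groth.Agent.Lib.GeomReg.Local
import Mathlib.RingTheory.Localization.BaseChange
-- import your own Groth.Agent.* helpers here

set_option autoImplicit false
universe u
open EGA4

namespace Groth.Agent.S4756
open TensorProduct

/-- Let A → B be a normal homomorphism of Noetherian rings (flat, with geometrically normal fibres) and
S a multiplicative subset of A. Then the induced homomorphism S⁻¹A → S⁻¹B (arbitrary localizations
at S and at its image) is normal. -/
theorem result (A B : Type u) [CommRing A] [CommRing B] [IsNoetherianRing A] [IsNoetherianRing B]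
    [Algebra A B] (h : EGA4.IsNormalHom A B) (S : Submonoid A)
    (A' B' : Type u) [CommRing A'] [CommRing B'] [Algebra A A'] [Algebra B B'] [Algebra A' B'] [Algebra A B']
    [IsScalarTower A A' B'] [IsScalarTower A B B'] [IsLocalization S A']
    [IsLocalization (Algebra.algebraMapSubmonoid B S) B'] :
    EGA4.IsNormalHom A' B' := by
  haveI := h.1
  haveI : Module.Flat B B' := IsLocalization.flat B' (Algebra.algebraMapSubmonoid B S)
  haveI : Module.Flat A B' := Module.Flat.trans A B B'
  refine ⟨(Module.flat_iff_of_isLocalization A' S _).mpr inferInstance, fun p _ L _ _ hL => ?_⟩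
  let q := p.comap (algebraMap A A')
  letI : Algebra q.ResidueField p.ResidueField :=
    (Ideal.ResidueField.mapₐ q p (Algebra.ofId A A') rfl).toRingHom.toAlgebra
  haveI : IsScalarTower A q.ResidueField p.ResidueField :=
    IsScalarTower.of_algebraMap_eq fun x => ((Ideal.ResidueField.mapₐ q p (Algebra.ofId A A') rfl).commutes x).symm
  have hbij : Function.Bijective (algebraMap q.ResidueField p.ResidueField) :=
    RingHom.SurjectiveOnStalks.residueFieldMap_bijective
      (RingHom.surjectiveOnStalks_of_isLocalization S A') q p rfl
  haveI : Module.Finite q.ResidueField p.ResidueField :=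
    Module.Finite.of_surjective (Algebra.linearMap q.ResidueField p.ResidueField) hbij.2
  letI : Algebra q.ResidueField L :=
    ((algebraMap p.ResidueField L).comp (algebraMap q.ResidueField p.ResidueField)).toAlgebra
  haveI : IsScalarTower q.ResidueField p.ResidueField L := IsScalarTower.of_algebraMap_eq fun _ => rfl
  haveI : Module.Finite q.ResidueField L := Module.Finite.trans p.ResidueField L
  letI : Algebra A' L := ((algebraMap p.ResidueField L).comp (algebraMap A' p.ResidueField)).toAlgebra
  haveI : IsScalarTower A' p.ResidueField L := IsScalarTower.of_algebraMap_eq fun _ => rfl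
  letI : Algebra A L := ((algebraMap A' L).comp (algebraMap A A')).toAlgebra
  haveI : IsScalarTower A A' L := IsScalarTower.of_algebraMap_eq fun _ => rfl
  haveI : IsScalarTower A q.ResidueField L := IsScalarTower.of_algebraMap_eq fun x => by
    show algebraMap A' L (algebraMap A A' x) =
      algebraMap p.ResidueField L (algebraMap q.ResidueField p.ResidueField (algebraMap A q.ResidueField x))
    rw [← IsScalarTower.algebraMap_apply A q.ResidueField p.ResidueField,
      IsScalarTower.algebraMap_apply A A' p.ResidueField, ← IsScalarTower.algebraMap_apply A' p.ResidueField L]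
  have h0 : EGA4.IsNormalRing (L ⊗[A] B) := GrothLib.Excellent.isNormalRing_congr
    (Algebra.TensorProduct.cancelBaseChange A q.ResidueField L L B).toRingEquiv (h.2 q L inferInstance)
  have h1 : EGA4.IsNormalRing (B ⊗[A] L) :=
    GrothLib.Excellent.isNormalRing_congr (Algebra.TensorProduct.comm A L B).toRingEquiv h0
  have h2 : EGA4.IsNormalRing ((B ⊗[A] L) ⊗[B] B') := GrothLib.Excellent.isNormalRing_isLocalization
    (Algebra.algebraMapSubmonoid (B ⊗[A] L) (Algebra.algebraMapSubmonoid B S)) h1
  exact GrothLib.Excellent.isNormalRing_congr
    ((Algebra.TensorProduct.comm B (B ⊗[A] L) B').toRingEquiv.trans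
      ((Algebra.TensorProduct.cancelBaseChange A B B' B' L).toRingEquiv.trans
        ((Algebra.TensorProduct.comm A B' L).toRingEquiv.trans
          ((IsLocalization.algebraTensorEquiv S A' L B').symm.toRingEquiv.trans
            (Algebra.TensorProduct.cancelBaseChange A' p.ResidueField L L B').symm.toRingEquiv)))) h2

end Groth.Agent.S4756
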