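import Groth.Statements.S4767
import Groth.Agent.Lib.ConsLim.LimTop2

set_option autoImplicit false
universe u
open CategoryTheory AlgebraicGeometry
open Lim8

namespace Groth.Agent.S4767

/-- Let S = lim S_i be a cofiltered limit of schemes with affine transition maps, some stage S_{i₀}
being quasi-compact and quasi-separated, and assume that the underlying topological space of S is
Noetherian. If S is not irreducible, then there is an index i over i₀ such that S_j is not
irreducible for every index j over i. -/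
theorem result {I : Type u} [SmallCategory I] [IsCofiltered I]
    (D : I ⥤ Scheme.{u}) (c : Limits.Cone D) (hc : Limits.IsLimit c)
    [∀ (i j : I) (f : i ⟶ j), IsAffineHom (D.map f)] (i₀ : I)
    [CompactSpace (D.obj i₀)] [QuasiSeparatedSpace (D.obj i₀)]
    [TopologicalSpace.NoetherianSpace c.pt] (h : ¬ IrreducibleSpace c.pt) :
    ∃ (i : I) (_ : i ⟶ i₀), ∀ (j : I) (_ : j ⟶ i), ¬ IrreducibleSpace (D.obj j) := by
  classical
  haveI := GrothLib.ConsLim.compactSpace_limit D c hc i₀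
  rcases isEmpty_or_nonempty c.pt with he | hne
  · obtain ⟨j, φ, hj⟩ := GrothLib.ConsLim.exists_stage_eq_top D c hc i₀ isOpen_empty
      (Set.eq_univ_of_forall fun x => he.elim x)
    refine ⟨j, φ, fun k ψ hk => ?_⟩
    obtain ⟨z⟩ := hk.toNonempty
    exact (hj.symm ▸ Set.mem_univ (D.map ψ z) : D.map ψ z ∈ ⇑(D.map φ) ⁻¹' (∅ : Set (D.obj i₀)))
  · have h1 : ¬ PreirreducibleSpace c.pt := fun h' => h { toPreirreducibleSpace := h', toNonempty := hne }
    obtain ⟨U, V, hU, hV, hU', hV', hUV⟩ : ∃ U V : Set c.pt, IsOpen U ∧ IsOpen V ∧ U.Nonempty ∧ V.Nonempty ∧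
        U ∩ V = ∅ := by
      by_contra hcon
      refine h1 ⟨fun U V hU hV hU' hV' => ?_⟩
      by_contra he
      exact hcon ⟨U, V, hU, hV, hU'.mono Set.inter_subset_right, hV'.mono Set.inter_subset_right,
        Set.eq_empty_of_forall_notMem fun x hx => he ⟨x, trivial, hx⟩⟩
    obtain ⟨a, φa, A, hA, hAc, hAU⟩ := GrothLib.ConsLim.exists_open_preimage_eq D c hc i₀ U hU
      (TopologicalSpace.NoetherianSpace.isCompact U)
    obtain ⟨b, φb, B, hB, hBc, hBV⟩ := GrothLib.ConsLim.exists_open_preimage_eq D c hc a V hV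
      (TopologicalSpace.NoetherianSpace.isCompact V)
    haveI := GrothLib.ConsLim.compactSpace_stage D (φb ≫ φa)
    haveI := GrothLib.ConsLim.quasiSeparatedSpace_stage D (φb ≫ φa)
    let A' := ⇑(D.map φb) ⁻¹' A
    have hA'c : IsCompact A' := (D.map φb).isCompact_preimage (U := ⟨A, hA⟩) hAc
    have hA'o : IsOpen A' := hA.preimage (D.map φb).continuous
    have hA'U : ⇑(c.π.app b) ⁻¹' A' = U := by rw [GrothLib.ConsLim.π_preimage_map, hAU]
    have hAB : IsCompact (A' ∩ B) := QuasiSeparatedSpace.inter_isCompact _ _ hA'o hA'c hB hBc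
    have hE : ProCons.IsIndConstructible (A' ∩ B)ᶜ :=
      GrothLib.Constr.isIndConstructible_of_isLocallyConstructible
        (GrothLib.Constr.isLocallyConstructible_compl
          (hAB.isConstructible (hA'o.inter hB)).isLocallyConstructible)
    obtain ⟨j, φ, hj⟩ := GrothLib.ConsLim.exists_stage_forall_mem D c hc b hE (fun x hx =>
      (Set.eq_empty_iff_forall_notMem.mp hUV x) ⟨hA'U ▸ hx.1, hBV ▸ hx.2⟩)
    refine ⟨j, φ ≫ φb ≫ φa, fun k ψ hk => ?_⟩
    obtain ⟨x, hx⟩ := hU'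
    obtain ⟨y, hy⟩ := hV'
    have hx' : x ∈ ⇑(c.π.app k) ⁻¹' (⇑(D.map (ψ ≫ φ)) ⁻¹' A') := by
      rw [GrothLib.ConsLim.π_preimage_map, hA'U]; exact hx
    have hy' : y ∈ ⇑(c.π.app k) ⁻¹' (⇑(D.map (ψ ≫ φ)) ⁻¹' B) := by
      rw [GrothLib.ConsLim.π_preimage_map, hBV]; exact hy
    obtain ⟨z, hz1, hz2⟩ := nonempty_preirreducible_inter (hA'o.preimage (D.map (ψ ≫ φ)).continuous)
      (hB.preimage (D.map (ψ ≫ φ)).continuous) ⟨_, hx'⟩ ⟨_, hy'⟩
    simp only [Set.mem_preimage, D.map_comp, Scheme.Hom.comp_apply] at hz1 hz2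
    exact hj (D.map ψ z) ⟨hz1, hz2⟩

end Groth.Agent.S4767
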