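import Groth.Statements.S4768
import Groth.Agent.Lib.ConsLim.LimTop2

set_option autoImplicit false
universe u
open CategoryTheory AlgebraicGeometry
open Lim8

namespace Groth.Agent.S4768

/-- Let S = lim S_i be a cofiltered limit of schemes with affine transition maps, some stage S_{i₀}
being quasi-compact and quasi-separated. If S is not preconnected (that is, S is the disjoint union
of two nonempty open subsets), then there is an index i over i₀ such that S_j is not preconnected
for every index j over i. (The published statement assumes the stage only quasi-compact, which is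
not enough: over the affine space in infinitely many variables with a doubled origin, the closed
subschemes cut out by the first n coordinates form a system with affine transition maps in which
every stage is connected while the limit consists of two disjoint points. The published proof
descends the two pieces of S to quasi-compact open subsets of a stage and needs their intersection
to become empty at a later stage, which uses that quasi-compact open subsets of the stage are
constructible; so the stage is taken quasi-separated here, as in part (i).) -/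
theorem result {I : Type u} [SmallCategory I] [IsCofiltered I]
    (D : I ⥤ Scheme.{u}) (c : Limits.Cone D) (hc : Limits.IsLimit c)
    [∀ (i j : I) (f : i ⟶ j), IsAffineHom (D.map f)] (i₀ : I)
    [CompactSpace (D.obj i₀)] [QuasiSeparatedSpace (D.obj i₀)] (h : ¬ PreconnectedSpace c.pt) :
    ∃ (i : I) (_ : i ⟶ i₀), ∀ (j : I) (_ : j ⟶ i), ¬ PreconnectedSpace (D.obj j) := by
  classical
  haveI := GrothLib.ConsLim.compactSpace_limit D c hc i₀
  obtain ⟨W, hW, hW0, hW1⟩ : ∃ W : Set c.pt, IsClopen W ∧ W ≠ ∅ ∧ W ≠ Set.univ := by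
    by_contra hcon
    refine h (preconnectedSpace_iff_clopen.mpr fun W hW => ?_)
    by_contra he
    obtain ⟨h0, h1⟩ := not_or.mp he
    exact hcon ⟨W, hW, h0, h1⟩
  obtain ⟨a, φa, A, hA, hAc, hAW⟩ := GrothLib.ConsLim.exists_open_preimage_eq D c hc i₀ W hW.2 hW.1.isCompact
  obtain ⟨b, φb, B, hB, hBc, hBW⟩ := GrothLib.ConsLim.exists_open_preimage_eq D c hc a Wᶜ
    hW.1.isOpen_compl hW.2.isClosed_compl.isCompact
  haveI := GrothLib.ConsLim.compactSpace_stage D (φb ≫ φa)
  haveI := GrothLib.ConsLim.quasiSeparatedSpace_stage D (φb ≫ φa)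
  let A' := ⇑(D.map φb) ⁻¹' A
  have hA'c : IsCompact A' := (D.map φb).isCompact_preimage (U := ⟨A, hA⟩) hAc
  have hA'o : IsOpen A' := hA.preimage (D.map φb).continuous
  have hA'W : ⇑(c.π.app b) ⁻¹' A' = W := by rw [GrothLib.ConsLim.π_preimage_map, hAW]
  have hAB : IsCompact (A' ∩ B) := QuasiSeparatedSpace.inter_isCompact _ _ hA'o hA'c hB hBc
  have hE : ProCons.IsIndConstructible (A' ∩ B)ᶜ :=
    GrothLib.Constr.isIndConstructible_of_isLocallyConstructible
      (GrothLib.Constr.isLocallyConstructible_compl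
        (hAB.isConstructible (hA'o.inter hB)).isLocallyConstructible)
  obtain ⟨j, φ, hj⟩ := GrothLib.ConsLim.exists_stage_forall_mem D c hc b hE (fun x hx => by
    have h1 : x ∈ W := hA'W ▸ hx.1
    have h2 : x ∈ Wᶜ := hBW ▸ hx.2
    exact h2 h1)
  haveI := GrothLib.ConsLim.compactSpace_stage D φ
  obtain ⟨l, θ, hl⟩ := GrothLib.ConsLim.exists_stage_eq_top D c hc j
    ((hA'o.union hB).preimage (D.map φ).continuous)
    (by rw [GrothLib.ConsLim.π_preimage_map, Set.preimage_union, hA'W, hBW, Set.union_compl_self])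
  refine ⟨l, θ ≫ φ ≫ φb ≫ φa, fun k ψ hk => ?_⟩
  obtain ⟨x, hx⟩ := Set.nonempty_iff_ne_empty.mpr hW0
  obtain ⟨y, hy⟩ := (Set.ne_univ_iff_exists_notMem _).mp hW1
  let g := (ψ ≫ θ) ≫ φ
  have hxA : x ∈ ⇑(c.π.app k) ⁻¹' (⇑(D.map g) ⁻¹' A') := by
    rw [GrothLib.ConsLim.π_preimage_map, hA'W]; exact hx
  have hyB : y ∈ ⇑(c.π.app k) ⁻¹' (⇑(D.map g) ⁻¹' B) := by
    rw [GrothLib.ConsLim.π_preimage_map, hBW]; exact hy
  obtain ⟨z, -, hz1, hz2⟩ := hk.isPreconnected_univ _ _ (hA'o.preimage (D.map g).continuous)
    (hB.preimage (D.map g).continuous) (fun z _ => by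
      have hm : D.map ψ z ∈ ⇑(D.map θ) ⁻¹' (⇑(D.map φ) ⁻¹' (A' ∪ B)) := by rw [hl]; trivial
      simp only [g, Set.mem_preimage, Set.mem_union, D.map_comp, Scheme.Hom.comp_apply] at hm ⊢
      exact hm) ⟨_, trivial, hxA⟩ ⟨_, trivial, hyB⟩
  simp only [g, Set.mem_preimage, D.map_comp, Scheme.Hom.comp_apply] at hz1 hz2
  exact hj (D.map θ (D.map ψ z)) ⟨hz1, hz2⟩

end Groth.Agent.S4768
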