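import Groth.Statements.S4776
import Groth.Agent.Lib.ConsLim.LimFlat

set_option autoImplicit false
universe u
open CategoryTheory AlgebraicGeometry
open Lim8

namespace Groth.Agent.S4776

/-- Let S = lim S_i be a cofiltered limit of schemes whose transition maps are affine, flat and
surjective, some stage S_{i₀} being quasi-compact, and assume that the underlying topological space
of S is Noetherian. Then S is integral if and only if there is an index i over i₀ such that S_j is
integral for every j over i. (The published statement carries neither the quasi-compactness nor the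
Noetherian hypothesis; its proof combines the reducedness criterion with the irreducibility
criterion for limits, and the latter is proved only under these two hypotheses, so they are assumed
here.) -/
theorem result {I : Type u} [SmallCategory I] [IsCofiltered I]
    (D : I ⥤ Scheme.{u}) (c : Limits.Cone D) (hc : Limits.IsLimit c)
    [∀ (i j : I) (f : i ⟶ j), IsAffineHom (D.map f)] (i₀ : I)
    [CompactSpace (D.obj i₀)] [TopologicalSpace.NoetherianSpace c.pt]
    (hf : ∀ (i j : I) (φ : i ⟶ j), Flat (D.map φ) ∧ Surjective (D.map φ)) :
    IsIntegral c.pt ↔ ∃ (i : I) (_ : i ⟶ i₀), ∀ (j : I) (_ : j ⟶ i), IsIntegral (D.obj j) := by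
  have hd : ∀ (a b : I) (φ : a ⟶ b), IsDominant (D.map φ) := fun a b φ => by
    haveI := (hf a b φ).2
    infer_instance
  have hred := GrothLib.ConsLim.isReduced_limit_iff hc hf
  constructor
  · intro h
    haveI := h
    obtain ⟨i, φ, hi⟩ := (GrothLib.ConsLim.irreducibleSpace_limit_iff hc hd i₀).mp inferInstance
    refine ⟨i, φ, fun j ψ => ?_⟩
    haveI := hi j ψ
    haveI := hred.mp inferInstance j
    exact isIntegral_of_irreducibleSpace_of_isReduced _
  · rintro ⟨i, φ, hi⟩
    haveI : IrreducibleSpace c.pt := (GrothLib.ConsLim.irreducibleSpace_limit_iff hc hd i₀).mpr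
      ⟨i, φ, fun j ψ => by haveI := hi j ψ; infer_instance⟩
    haveI : IsReduced c.pt := hred.mpr fun k => by
      obtain ⟨l, a, b, -⟩ : ∃ (l : I) (_ : l ⟶ i) (_ : l ⟶ k), True :=
        ⟨IsCofiltered.min i k, IsCofiltered.minToLeft i k, IsCofiltered.minToRight i k, trivial⟩
      haveI := hi l a
      haveI := (hf l k b).1
      haveI := (hf l k b).2
      exact GrothLib.ConsLim.isReduced_of_flat_surjective (D.map b)
    exact isIntegral_of_irreducibleSpace_of_isReduced _

end Groth.Agent.S4776
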