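import Groth.Statements.S4778
import Groth.Agent.Lib.FPCrit.Basic
import Mathlib.CategoryTheory.Limits.Types.Colimits

set_option autoImplicit false
set_option backward.isDefEq.respectTransparency false
universe u
open CategoryTheory AlgebraicGeometry
open Lim8

namespace Groth.Agent.S4778

/-- Let f : X ⟶ S be a morphism of schemes. Suppose that for every affine open U of S and every
projective system (Z_λ) of U-schemes indexed by a nonempty directed preordered set, with every Z_λ
an affine scheme, the functor Hom_S(-, X) takes the limit of the system to the colimit of the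
Hom_S(Z_λ, X) (the canonical map from the colimit is bijective). Then f is locally of finite
presentation. -/
theorem result {X S : Scheme.{u}} (f : X ⟶ S)
    (h : ∀ (U : S.Opens), IsAffineOpen U →
      ∀ (J : Type u) [Preorder J] [IsDirected J (· ≤ ·)] [Nonempty J] (Z : Jᵒᵖ ⥤ Over (U : Scheme.{u})),
      (∀ j, IsAffine (Z.obj j).left) →
      Limits.PreservesColimit (Z ⋙ Over.map U.ι).op (yoneda.obj (Over.mk f))) :
    LocallyOfFinitePresentation f := by
    refine GrothLib.FPCrit.locallyOfFinitePresentation_of_lifts f fun U hU J _ _ _ F c hc G hG => ?_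
    let Z : Jᵒᵖ ⥤ Over (U : Scheme.{u}) :=
      { obj := fun j => Over.mk (Spec.map (F.obj j.unop).hom ≫ hU.isoSpec.inv)
        map := fun {a b} ψ => Over.homMk (Spec.map (F.map ψ.unop).right)
          (by change _ ≫ _ ≫ _ = _ ≫ _; rw [← Spec.map_comp_assoc, Under.w])
        map_id := fun a => by ext1; simp
        map_comp := fun ψ χ => by ext1; simp }
    have := h U hU J Z (fun j => inferInstanceAs (IsAffine (Spec _)))
    let j₀ : J := Classical.arbitrary J
    let K : Limits.Cone (Z ⋙ Over.map U.ι) :=
      { pt := Over.mk (Spec.map c.pt.hom ≫ hU.fromSpec)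
        π := { app := fun j => Over.homMk (Spec.map (c.ι.app j.unop).right) (by
                change _ ≫ (_ ≫ _) ≫ _ = _ ≫ _
                show _ ≫ _ ≫ hU.isoSpec.inv ≫ U.ι = _
                rw [hU.isoSpec_inv_ι, ← Spec.map_comp_assoc, Under.w]
                rfl)
               naturality := fun a b ψ => Over.OverMorphism.ext (by
                change 𝟙 _ ≫ Spec.map (c.ι.app b.unop).right = Spec.map (c.ι.app a.unop).right ≫ Spec.map (F.map ψ.unop).right
                rw [Category.id_comp, ← Spec.map_comp]
                congr 1
                exact (congrArg CommaMorphism.right (c.w ψ.unop)).symm) } }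
    have hK : Limits.IsLimit K := GrothLib.FPCrit.isLimitOver (Opposite.op j₀) _ K
      (Limits.IsLimit.ofIsoLimit (Limits.isLimitOfPreserves Scheme.Spec hc.op)
        (Limits.Cone.ext (Iso.refl _) (fun j => (Category.id_comp _).symm)))
    obtain ⟨j, gj, hj⟩ := Limits.Types.jointly_surjective _
      (Limits.isColimitOfPreserves (yoneda.obj (Over.mk f)) hK.op) (Over.homMk G hG)
    refine ⟨j.unop.unop, gj.left, ?_, congrArg CommaMorphism.left hj⟩
    have e := Over.w gj
    change _ ≫ f = (_ ≫ _) ≫ U.ι at e
    rw [e, Category.assoc, hU.isoSpec_inv_ι]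

end Groth.Agent.S4778
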