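import Groth.Statements.S4779
import Groth.Agent.Lib.LimDesc.Transfer

set_option autoImplicit false
universe u
open CategoryTheory AlgebraicGeometry
open Lim8

set_option backward.isDefEq.respectTransparency false

namespace Groth.Agent.S4779

/-- Let S = lim S_i be a cofiltered limit of schemes with affine transition maps, let f₀ : X₀ ⟶ Y₀ be a
morphism of schemes over a stage S_{i₀}, and let f : X ⟶ Y be its base change along S ⟶ S_{i₀} (all
base changes are expressed by pullback squares). If there is an index i over i₀ such that, for every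
j over i, the base change f_j : X_j ⟶ Y_j of f₀ along S_j ⟶ S_{i₀} is an open map, then f is an open
map. (The corresponding statement for universally open morphisms follows from this one by base
change.) -/
theorem result {I : Type u} [SmallCategory I] [IsCofiltered I]
    (D : I ⥤ Scheme.{u}) (c : Limits.Cone D) (hc : Limits.IsLimit c)
    [∀ (i j : I) (f : i ⟶ j), IsAffineHom (D.map f)] (i₀ : I)
    {X₀ Y₀ : Scheme.{u}} (f₀ : X₀ ⟶ Y₀) (g₀ : Y₀ ⟶ D.obj i₀)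
    {X Y : Scheme.{u}} (f : X ⟶ Y) (g : Y ⟶ c.pt) (qY : Y ⟶ Y₀) (qX : X ⟶ X₀)
    (hY : IsPullback qY g g₀ (c.π.app i₀)) (hX : IsPullback qX f f₀ qY)
    (h : ∃ (i : I) (φ : i ⟶ i₀), ∀ (j : I) (ψ : j ⟶ i) (Xj Yj : Scheme.{u}) (fj : Xj ⟶ Yj)
      (gj : Yj ⟶ D.obj j) (pY : Yj ⟶ Y₀) (pX : Xj ⟶ X₀),
      IsPullback pY gj g₀ (D.map (ψ ≫ φ)) → IsPullback pX fj f₀ pY → IsOpenMap ⇑fj) :
    IsOpenMap ⇑f := by
  obtain ⟨i, φ, h⟩ := h
  have hXc := GrothLib.LimDesc.isLimitCone D i₀ (f₀ ≫ g₀) (hX.paste_vert hY) hc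
  haveI (j k : Over i₀) (a : j ⟶ k) : IsAffineHom ((GrothLib.LimDesc.diag D i₀ (f₀ ≫ g₀)).map a) :=
    GrothLib.LimDesc.isAffineHom_map D i₀ (f₀ ≫ g₀) a
  have hB := isBasis_preimage_isAffineOpen (GrothLib.LimDesc.diag D i₀ (f₀ ≫ g₀)) _ hXc
  refine (TopologicalSpace.IsTopologicalBasis.isOpenMap_iff hB).mpr ?_
  rintro s ⟨O, ⟨j, V, -, rfl⟩, rfl⟩
  obtain ⟨m, ψ, a, hm⟩ := IsCofiltered.cospan φ j.hom
  let k : Over i₀ := Over.mk (ψ ≫ φ)
  let φk : k ⟶ j := Over.homMk a hm.symm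
  let N := GrothLib.LimDesc.mapNat D i₀ g₀ (f₀ ≫ g₀) f₀ rfl
  have hopen : IsOpenMap (N.app k) := h m ψ _ _ _ _ _ _ (IsPullback.of_hasPullback g₀ (D.map k.hom))
    (GrothLib.LimDesc.isPullback_mapNat D i₀ g₀ (f₀ ≫ g₀) f₀ rfl k)
  let rX := (GrothLib.LimDesc.cone D i₀ (f₀ ≫ g₀) (hX.paste_vert hY)).π.app
  let rY := (GrothLib.LimDesc.cone D i₀ g₀ hY).π.app
  have hk : IsPullback (rX k) f (N.app k) (rY k) :=
    GrothLib.LimDesc.isPullback_π D i₀ g₀ (f₀ ≫ g₀) hY f₀ rfl (hX.paste_vert hY) f hX.w.symm rfl k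
  let W : Set _ := (GrothLib.LimDesc.diag D i₀ (f₀ ≫ g₀)).map φk ⁻¹' (V : Set _)
  have e : (SetLike.coe (rX j ⁻¹ᵁ V) : Set X) = rX k ⁻¹' W := by
    show (((GrothLib.LimDesc.cone D i₀ (f₀ ≫ g₀) (hX.paste_vert hY)).π.app j) ⁻¹' (V : Set _)) = _
    rw [← (GrothLib.LimDesc.cone D i₀ (f₀ ≫ g₀) (hX.paste_vert hY)).w φk]
    exact Set.ext fun x => Iff.rfl
  have e' : f '' (rX k ⁻¹' W) = rY k ⁻¹' (N.app k '' W) := by
    ext y
    constructor
    · rintro ⟨x, hx, rfl⟩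
      exact ⟨rX k x, hx, congr($(hk.w).base x)⟩
    · rintro ⟨w, hw, hwy⟩
      obtain ⟨x, hx1, hx2⟩ := Scheme.exists_preimage_of_isPullback hk w y hwy
      exact ⟨x, show rX k x ∈ W from hx1.symm ▸ hw, hx2⟩
  exact (congrArg (f '' ·) e).trans e' ▸
    ((hopen W (V.2.preimage ((GrothLib.LimDesc.diag D i₀ (f₀ ≫ g₀)).map φk).continuous)).preimage
      (rY k).continuous)

end Groth.Agent.S4779
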