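import Groth.Statements.S4780
import Groth.Agent.Lib.UnivOpen.AffineSpace

set_option autoImplicit false
universe u
open CategoryTheory AlgebraicGeometry
open Lim8

namespace Groth.Agent.S4780

/-- Let f : X ⟶ Y be a morphism of schemes. If, for every integer n > 0, the base change of f to affine
n-space over Y, X ×_Y 𝔸ⁿ_Y ⟶ 𝔸ⁿ_Y, is an open map of topological spaces, then f is universally open. -/
theorem result {X Y : Scheme.{u}} (f : X ⟶ Y)
    (h : ∀ n : ℕ, 0 < n →
      IsOpenMap ⇑(Limits.pullback.snd f (AffineSpace (ULift.{u} (Fin n)) Y ↘ Y))) :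
    UniversallyOpen f := by
    refine (GrothLib.UnivOpen.universallyOpen_iff_isOpenMap_map f).mpr ?_
    have key : ∀ n : ℕ, 0 < n → IsOpenMap ⇑(AffineSpace.map (ULift.{u} (Fin n)) f) := fun n hn => by
      let e := (AffineSpace.isPullback_map (n := ULift.{u} (Fin n)) f).flip.isoPullback
      have he : e.hom ≫ Limits.pullback.snd _ _ = AffineSpace.map (ULift.{u} (Fin n)) f :=
        (AffineSpace.isPullback_map (n := ULift.{u} (Fin n)) f).flip.isoPullback_hom_snd
      rw [← he]
      exact (h n hn).comp e.hom.isOpenEmbedding.isOpenMap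
    intro n
    rcases Nat.eq_zero_or_pos n with rfl | hn
    · intro U hU
      let n₀ := ULift.{u} (Fin 0)
      let p₀ := AffineSpace n₀ X ↘ X
      let q₀ := AffineSpace n₀ Y ↘ Y
      haveI : IsEmpty n₀ := inferInstanceAs (IsEmpty (ULift.{u} (Fin 0)))
      let n₁ := ULift.{u} (Fin 1)
      let p₁ := AffineSpace n₁ X ↘ X
      let q₁ := AffineSpace n₁ Y ↘ Y
      have hW : IsOpen (p₁ ⁻¹' (p₀ '' U)) :=
        ((AffineSpace.isOpenMap_over (S := X) (n := n₀) _ hU).preimage p₁.continuous)
      have h1 := AffineSpace.isOpenMap_over (S := Y) (n := n₁) _ (key 1 one_pos _ hW)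
      have e1 : q₁ '' (AffineSpace.map n₁ f '' (p₁ ⁻¹' (p₀ '' U))) = q₀ '' (AffineSpace.map n₀ f '' U) := by
        have a1 : ∀ z, q₁ (AffineSpace.map n₁ f z) = f (p₁ z) := fun z => by
          rw [← Scheme.Hom.comp_apply, AffineSpace.map_over]; rfl
        have a0 : ∀ z, q₀ (AffineSpace.map n₀ f z) = f (p₀ z) := fun z => by
          rw [← Scheme.Hom.comp_apply, AffineSpace.map_over]; rfl
        rw [← Set.image_comp, ← Set.image_comp, show (q₁ ∘ AffineSpace.map n₁ f : _ → _) = f ∘ p₁ from funext a1,
          show (q₀ ∘ AffineSpace.map n₀ f : _ → _) = f ∘ p₀ from funext a0, Set.image_comp, Set.image_comp,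
          Set.image_preimage_eq _ p₁.surjective]
      have h2 : IsOpen (q₀ '' (AffineSpace.map n₀ f '' U)) := e1 ▸ h1
      have hinj : Function.Injective q₀ := q₀.isOpenEmbedding.injective
      rw [← Set.preimage_image_eq (AffineSpace.map n₀ f '' U) hinj]
      exact h2.preimage q₀.continuous
    · exact key n hn

end Groth.Agent.S4780
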