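import Groth.Statements.S4786
import Groth.Agent.Lib.ConsLim.LimFlat
import Groth.Agent.Lib.QuasiFlat.ProCons

set_option autoImplicit false
set_option backward.isDefEq.respectTransparency false
universe u
open CategoryTheory AlgebraicGeometry
open Lim8

namespace Groth.Agent.S4786

/-- Let S = lim S_i be a cofiltered limit of schemes whose transition maps are affine and flat, let
S_{i₁} be a quasi-compact stage, and let Z' and Z'' be pro-constructible subsets of S_{i₁} such that
the closure of Z' is constructible. Then the preimage of Z'' in S is contained in the closure of the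
preimage of Z' in S if and only if there is an index j over i₁ such that the preimage of Z'' in S_j
is contained in the closure of the preimage of Z' in S_j. -/
theorem result {I : Type u} [SmallCategory I] [IsCofiltered I]
    (D : I ⥤ Scheme.{u}) (c : Limits.Cone D) (hc : Limits.IsLimit c)
    [∀ (i j : I) (f : i ⟶ j), IsAffineHom (D.map f)] (i₁ : I) [CompactSpace (D.obj i₁)]
    (hfl : ∀ (i j : I) (φ : i ⟶ j), Flat (D.map φ))
    (Z' Z'' : Set (D.obj i₁)) (hZ' : ProCons.IsProConstructible Z') (hZ'' : ProCons.IsProConstructible Z'')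
    (hcl : Topology.IsConstructible (closure Z')) :
    (⇑(c.π.app i₁) ⁻¹' Z'' : Set c.pt) ⊆ closure (⇑(c.π.app i₁) ⁻¹' Z' : Set c.pt) ↔
      ∃ (j : I) (φ : j ⟶ i₁), ⇑(D.map φ) ⁻¹' Z'' ⊆ closure (⇑(D.map φ) ⁻¹' Z') := by
    haveI hπf : Flat (c.π.app i₁) := GrothLib.ConsLim.flat_π hc i₁ fun j φ => hfl j i₁ φ
    rw [← GrothLib.QuasiFlat.preimage_closure (c.π.app i₁) (Flat.generalizingMap _) hZ']
    have hmap : ∀ {j : I} (φ : j ⟶ i₁),
        closure (⇑(D.map φ) ⁻¹' Z') = ⇑(D.map φ) ⁻¹' closure Z' := fun {j} φ => by
      haveI := hfl j i₁ φ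
      exact (GrothLib.QuasiFlat.preimage_closure (D.map φ) (Flat.generalizingMap _) hZ').symm
    refine ⟨fun h => ?_, fun ⟨j, φ, h⟩ => ?_⟩
    · have hE : ProCons.IsIndConstructible (Z''ᶜ ∪ closure Z') := by
        refine GrothLib.Constr.isIndConstructible_of_forall_mem fun x _ => ?_
        obtain ⟨V, hV, hxV, -⟩ := GrothLib.Constr.exists_affine_nhd x isOpen_univ (Set.mem_univ x)
        haveI := GrothLib.Constr.compactSpace_of_isAffineOpen hV
        haveI := GrothLib.Constr.quasiSeparatedSpace_of_isAffineOpen hV
        refine ⟨V, hxV, inferInstance, inferInstance, ?_⟩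
        rw [Set.preimage_union]
        exact @IsOpen.union _ _ _ (constructibleTopology _)
          (GrothLib.Constr.isOpen_preimage_of_isIndConstructible
            (GrothLib.Constr.isProConstructible_iff_compl.mp hZ'') V)
          (GrothLib.Constr.isOpen_preimage_of_isIndConstructible
            (GrothLib.Constr.isIndConstructible_of_isLocallyConstructible hcl.isLocallyConstructible) V)
      obtain ⟨j, φ, hj⟩ := GrothLib.ConsLim.exists_stage_forall_mem D c hc i₁ hE
        (fun x => or_iff_not_imp_left.mpr fun hx => h (not_not.mp hx))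
      refine ⟨j, φ, ?_⟩
      rw [hmap]
      exact fun y hy => (hj y).resolve_left (not_not.mpr hy)
    · rw [hmap] at h
      intro x hx
      have e : D.map φ (c.π.app j x) = c.π.app i₁ x := by
        rw [← Scheme.Hom.comp_apply, c.w]; rfl
      have h1 := h (show c.π.app j x ∈ D.map φ ⁻¹' Z'' by rw [Set.mem_preimage, e]; exact hx)
      rw [Set.mem_preimage, e] at h1
      exact h1

end Groth.Agent.S4786
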