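import Groth.Statements.S4794
import Groth.Agent.Lib.LimExact8.Basic
import Groth.Agent.Lib.QCoh.Abelian

set_option autoImplicit false
universe u
open CategoryTheory AlgebraicGeometry
open Lim8

namespace Groth.Agent.S4794

/-- Let S = lim S_i be a cofiltered limit of schemes whose transition maps are affine and flat, and
S_{i₀} a quasi-compact stage; let f₀ : F₀ ⟶ G₀ be a homomorphism of quasi-coherent O-modules on
S_{i₀} whose kernel is an O-module of finite type. Then the pullback of f₀ along S ⟶ S_{i₀} is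
injective (a monomorphism of O_S-modules) if and only if, for some index j over i₀, the pullback of
f₀ along S_j ⟶ S_{i₀} is injective. -/
theorem result {I : Type u} [SmallCategory I] [IsCofiltered I]
    (D : I ⥤ Scheme.{u}) (c : Limits.Cone D) (hc : Limits.IsLimit c)
    [∀ (i j : I) (f : i ⟶ j), IsAffineHom (D.map f)] (i₀ : I) [CompactSpace (D.obj i₀)]
    (hfl : ∀ (i j : I) (φ : i ⟶ j), Flat (D.map φ))
    {F₀ G₀ : (D.obj i₀).Modules} [Coh.IsQCoh F₀]
    [Coh.IsQCoh G₀] (f₀ : F₀ ⟶ G₀)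
    (hker : CohB1.IsFT (Limits.kernel f₀)) :
    Mono ((Scheme.Modules.pullback (c.π.app i₀)).map f₀) ↔
      ∃ (j : I) (φ : j ⟶ i₀), Mono ((Scheme.Modules.pullback (D.map φ)).map f₀) := by
  haveI hπ : Flat (c.π.app i₀) := GrothLib.ConsLim.flat_π hc i₀ fun j φ => hfl j i₀ φ
  rw [GrothLib.LimExact8.mono_pullback_iff]
  haveI : (Limits.kernel f₀).IsQuasicoherent := GrothLib.QCoh.isQuasicoherent_kernel f₀
  have hE := GrothLib.LimExact8.isOpen_stalk_map_eq_zero hker (Limits.kernel.ι f₀)
  constructor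
  · intro h
    obtain ⟨j, φ, hj⟩ := GrothLib.Neutral.exists_stage_range_subset D c hc i₀
      (GrothLib.Constr.isIndConstructible_of_isOpen hE) (by rintro _ ⟨y, rfl⟩; exact h y)
    refine ⟨j, φ, ?_⟩
    haveI := hfl j i₀ φ
    exact (GrothLib.LimExact8.mono_pullback_iff (D.map φ) f₀).2 fun y => hj ⟨y, rfl⟩
  · rintro ⟨j, φ, hm⟩ y
    haveI := hfl j i₀ φ
    have h := (GrothLib.LimExact8.mono_pullback_iff (D.map φ) f₀).1 hm (c.π.app j y)
    rw [← c.w φ]
    exact h

end Groth.Agent.S4794
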