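import Groth.Statements.S4796
import Groth.Agent.Lib.FibExact10.Locus
import Mathlib.RingTheory.FinitePresentation
import Mathlib.Algebra.Module.FinitePresentation

set_option autoImplicit false
universe u
open TensorProduct
open Cons9

namespace Groth.Agent.S4796

open LinearMap (lTensor) in
theorem exact_iff_lift {R L : Type u} [CommRing R] [CommRing L] [Algebra R L]
    {F G H A B C E K I X : Type u}
    [AddCommGroup F] [Module R F] [AddCommGroup G] [Module R G] [AddCommGroup H] [Module R H]
    [AddCommGroup A] [Module R A] [AddCommGroup B] [Module R B] [AddCommGroup C] [Module R C]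
    [AddCommGroup E] [Module R E] [AddCommGroup K] [Module R K] [AddCommGroup I] [Module R I]
    [AddCommGroup X] [Module R X]
    {u : F →ₗ[R] G} {v : G →ₗ[R] H}
    {f0 : A →ₗ[R] F} (hf0 : Function.Surjective f0)
    {g0 : B →ₗ[R] G} (hg0 : Function.Surjective g0) {rG : K →ₗ[R] B} (hrG : Function.Exact rG g0)
    {h0 : C →ₗ[R] H} (hh0 : Function.Surjective h0) {Em : E →ₗ[R] C} (hE : Function.Exact Em h0)
    {U' : A →ₗ[R] B} (hU : g0 ∘ₗ U' = u ∘ₗ f0) {V' : B →ₗ[R] C} (hV : h0 ∘ₗ V' = v ∘ₗ g0)
    {W : I →ₗ[R] C} {π : I →ₗ[R] B} {π' : I →ₗ[R] E} {ιb : B →ₗ[R] I} {ιe : E →ₗ[R] I}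
    (hW : W = V' ∘ₗ π + Em ∘ₗ π') (h1 : π ∘ₗ ιb = LinearMap.id) (h2 : π ∘ₗ ιe = 0)
    (h3 : π' ∘ₗ ιb = 0) (h4 : π' ∘ₗ ιe = LinearMap.id)
    {U : X →ₗ[R] B} {pa : X →ₗ[R] A} {pr : X →ₗ[R] K} {ja : A →ₗ[R] X} {jr : K →ₗ[R] X}
    (hUm : U = U' ∘ₗ pa + rG ∘ₗ pr) (k1 : pa ∘ₗ ja = LinearMap.id) (k2 : pa ∘ₗ jr = 0)
    (k3 : pr ∘ₗ ja = 0) (k4 : pr ∘ₗ jr = LinearMap.id) :
    Function.Exact (lTensor L u) (lTensor L v) ↔
      (LinearMap.ker (lTensor L W)).map (lTensor L π) = LinearMap.range (lTensor L U) := by
  have eg : Function.Exact (lTensor L rG) (lTensor L g0) := lTensor_exact L hrG hg0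
  have eh : Function.Exact (lTensor L Em) (lTensor L h0) := lTensor_exact L hE hh0
  have sg : Function.Surjective (lTensor L g0) := LinearMap.lTensor_surjective L hg0
  have sf : Function.Surjective (lTensor L f0) := LinearMap.lTensor_surjective L hf0
  have cU : ∀ x, lTensor L g0 (lTensor L U' x) = lTensor L u (lTensor L f0 x) := fun x => by
    rw [← LinearMap.comp_apply, ← LinearMap.lTensor_comp, hU, LinearMap.lTensor_comp, LinearMap.comp_apply]
  have cV : ∀ x, lTensor L h0 (lTensor L V' x) = lTensor L v (lTensor L g0 x) := fun x => by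
    rw [← LinearMap.comp_apply, ← LinearMap.lTensor_comp, hV, LinearMap.lTensor_comp, LinearMap.comp_apply]
  have A1 : (LinearMap.ker (lTensor L W)).map (lTensor L π) =
      (LinearMap.ker (lTensor L v)).comap (lTensor L g0) := by
    subst hW
    ext y
    simp only [Submodule.mem_map, Submodule.mem_comap, LinearMap.mem_ker, LinearMap.lTensor_add,
      LinearMap.lTensor_comp, LinearMap.add_apply, LinearMap.comp_apply]
    constructor
    · rintro ⟨z, hz, rfl⟩
      rw [← cV]
      have := congrArg (lTensor L h0) hz
      rw [map_add, map_zero, eh.apply_apply_eq_zero, add_zero] at this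
      exact this
    · intro hy
      rw [← cV] at hy
      obtain ⟨w, hw⟩ := (eh _).1 hy
      refine ⟨lTensor L ιb y - lTensor L ιe w, ?_, ?_⟩
      · simp only [map_sub, ← LinearMap.comp_apply (f := lTensor L π), ← LinearMap.comp_apply (f := lTensor L π'),
          ← LinearMap.lTensor_comp, h1, h2, h3, h4]
        simp [hw]
      · simp only [map_sub, ← LinearMap.comp_apply (f := lTensor L π), ← LinearMap.lTensor_comp, h1, h2]
        simp
  have A2 : LinearMap.range (lTensor L U) = (LinearMap.range (lTensor L u)).comap (lTensor L g0) := by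
    subst hUm
    ext y
    simp only [Submodule.mem_comap, LinearMap.mem_range, LinearMap.lTensor_add,
      LinearMap.lTensor_comp, LinearMap.add_apply, LinearMap.comp_apply]
    constructor
    · rintro ⟨x, rfl⟩
      exact ⟨lTensor L f0 (lTensor L pa x), by rw [map_add, cU, eg.apply_apply_eq_zero, add_zero]⟩
    · rintro ⟨a, ha⟩
      obtain ⟨a', rfl⟩ := sf a
      obtain ⟨k, hk⟩ := (eg (y - lTensor L U' a')).1 (by rw [map_sub, cU, ha, sub_self])
      refine ⟨lTensor L ja a' + lTensor L jr k, ?_⟩
      simp only [map_add, ← LinearMap.comp_apply (f := lTensor L pa), ← LinearMap.comp_apply (f := lTensor L pr),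
        ← LinearMap.lTensor_comp, k1, k2, k3, k4]
      simp [hk]
  rw [A1, A2, (Submodule.comap_injective_of_surjective sg).eq_iff, LinearMap.exact_iff]

/-- Extension of a tuple by zero on the right. -/
def inl' (R P : Type u) [CommRing R] [CommRing P] [Algebra R P] (a b : Type) : (a → P) →ₗ[R] (a ⊕ b → P) where
  toFun y := Sum.elim y 0
  map_add' x y := by ext (i | i) <;> simp
  map_smul' r x := by ext (i | i) <;> simp

/-- Extension of a tuple by zero on the left. -/
def inr' (R P : Type u) [CommRing R] [CommRing P] [Algebra R P] (a b : Type) : (b → P) →ₗ[R] (a ⊕ b → P) where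
  toFun y := Sum.elim 0 y
  map_add' x y := by ext (i | i) <;> simp
  map_smul' r x := by ext (i | i) <;> simp


/-- Let R be a commutative ring, B an R-algebra of finite presentation, F, G, H three B-modules of
finite presentation and u : F → G, v : G → H homomorphisms of B-modules. Then the set of prime
ideals p of R for which the sequence of fibres κ(p) ⊗_R F → κ(p) ⊗_R G → κ(p) ⊗_R H is exact is a
constructible subset of Spec R. Affine form: S = Spec R, X = Spec B with B a finitely presented
R-algebra, the modules finitely presented B-modules, and the fibre of a module M at a prime p taken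
as κ(p) ⊗_R M; the published statement, for a morphism of finite presentation and quasi-coherent
modules of finite presentation, is local on S and on X and reduces to this one. -/
theorem result {R B : Type u} [CommRing R] [CommRing B] [Algebra R B] [Algebra.FinitePresentation R B]
    {F G H : Type u} [AddCommGroup F] [Module B F] [Module R F] [IsScalarTower R B F] [Module.FinitePresentation B F]
    [AddCommGroup G] [Module B G] [Module R G] [IsScalarTower R B G] [Module.FinitePresentation B G]
    [AddCommGroup H] [Module B H] [Module R H] [IsScalarTower R B H] [Module.FinitePresentation B H]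
    (u : F →ₗ[B] G) (v : G →ₗ[B] H) :
    Topology.IsConstructible {p : PrimeSpectrum R |
      Function.Exact ((u.restrictScalars R).baseChange p.asIdeal.ResidueField) ((v.restrictScalars R).baseChange p.asIdeal.ResidueField)} := by
  classical
  obtain ⟨N, g, hg, hgk⟩ := Algebra.FinitePresentation.out (R := R) (A := B)
  let P := MvPolynomial (Fin N) R
  letI : Algebra P B := g.toRingHom.toAlgebra
  haveI : Module.FinitePresentation P B :=
    Module.finitePresentation_of_surjective (Algebra.linearMap P B) hg hgk
  letI : Module P F := Module.compHom F g.toRingHom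
  letI : Module P G := Module.compHom G g.toRingHom
  letI : Module P H := Module.compHom H g.toRingHom
  haveI : IsScalarTower P B F := ⟨fun p b f => mul_smul (g p) b f⟩
  haveI : IsScalarTower P B G := ⟨fun p b f => mul_smul (g p) b f⟩
  haveI : IsScalarTower P B H := ⟨fun p b f => mul_smul (g p) b f⟩
  haveI : IsScalarTower R P F := IsScalarTower.of_algebraMap_smul fun r f => by
    show g (algebraMap R P r) • f = r • f
    rw [g.commutes, algebraMap_smul]
  haveI : IsScalarTower R P G := IsScalarTower.of_algebraMap_smul fun r f => by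
    show g (algebraMap R P r) • f = r • f
    rw [g.commutes, algebraMap_smul]
  haveI : IsScalarTower R P H := IsScalarTower.of_algebraMap_smul fun r f => by
    show g (algebraMap R P r) • f = r • f
    rw [g.commutes, algebraMap_smul]
  haveI := Module.FinitePresentation.trans P F B
  haveI := Module.FinitePresentation.trans P G B
  haveI := Module.FinitePresentation.trans P H B
  obtain ⟨a, -, f0, -, hf0, -⟩ := Module.FinitePresentation.exists_fin' P F
  obtain ⟨b, r, g0, rG, hg0, hrG⟩ := Module.FinitePresentation.exists_fin' P G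
  obtain ⟨c, e, h0, Em, hh0, hE⟩ := Module.FinitePresentation.exists_fin' P H
  obtain ⟨U', hU'⟩ := Module.projective_lifting_property g0 (u.restrictScalars P ∘ₗ f0) hg0
  obtain ⟨V', hV'⟩ := Module.projective_lifting_property h0 (v.restrictScalars P ∘ₗ g0) hh0
  let W : ((Fin b ⊕ Fin e) → P) →ₗ[P] (Fin c → P) :=
    V' ∘ₗ LinearMap.funLeft P P Sum.inl + Em ∘ₗ LinearMap.funLeft P P Sum.inr
  let U : ((Fin a ⊕ Fin r) → P) →ₗ[P] (Fin b → P) :=
    U' ∘ₗ LinearMap.funLeft P P Sum.inl + rG ∘ₗ LinearMap.funLeft P P Sum.inr
  convert GrothLib.FibExact10.isConstructible_locus (σ := Fin N) (Sum.inl : Fin b → Fin b ⊕ Fin e)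
    (LinearMap.toMatrix' W) (LinearMap.toMatrix' U) using 1
  ext p
  show Function.Exact _ _ ↔ GrothLib.FibExact10.Cond _ _ _
  rw [GrothLib.FibExact10.cond_iff, LinearMap.baseChange_eq_ltensor, LinearMap.baseChange_eq_ltensor]
  have eW : GrothLib.FibExact10.mul (LinearMap.toMatrix' W) = W.restrictScalars R := by
    rw [GrothLib.FibExact10.mul, ← Matrix.toLin'_apply', Matrix.toLin'_toMatrix']
  have eU : GrothLib.FibExact10.mul (LinearMap.toMatrix' U) = U.restrictScalars R := by
    rw [GrothLib.FibExact10.mul, ← Matrix.toLin'_apply', Matrix.toLin'_toMatrix']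
  rw [eW, eU]
  exact exact_iff_lift (u := u.restrictScalars R) (v := v.restrictScalars R) (f0 := f0.restrictScalars R) hf0 (g0 := g0.restrictScalars R) hg0
    (rG := rG.restrictScalars R) hrG (h0 := h0.restrictScalars R) hh0 (Em := Em.restrictScalars R) hE
    (U' := U'.restrictScalars R) (LinearMap.ext fun x => LinearMap.congr_fun hU' x)
    (V' := V'.restrictScalars R) (LinearMap.ext fun x => LinearMap.congr_fun hV' x)
    (π' := LinearMap.funLeft R P Sum.inr) (ιb := inl' R P (Fin b) (Fin e)) (ιe := inr' R P (Fin b) (Fin e))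
    rfl rfl rfl rfl rfl
    (pa := LinearMap.funLeft R P Sum.inl) (pr := LinearMap.funLeft R P Sum.inr)
    (ja := inl' R P (Fin a) (Fin r)) (jr := inr' R P (Fin a) (Fin r)) rfl rfl rfl rfl rfl

end Groth.Agent.S4796
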