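import Groth.Statements.S4797
import Groth.Agent.Lib.LimModMap20.Basic

set_option autoImplicit false
set_option maxHeartbeats 1000000
set_option linter.style.haveILetI false
set_option backward.isDefEq.respectTransparency false
universe u
open CategoryTheory AlgebraicGeometry
open Lim8

namespace Groth.Agent.S4797

/-- Let S = lim S_i be a cofiltered limit of schemes with affine transition maps and S_{i₀} a
quasi-compact stage; let F₀ be a quasi-coherent O-module of finite type and G₀ a quasi-coherent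
O-module on S_{i₀}, and φ₀, ψ₀ : F₀ ⟶ G₀ two homomorphisms. Then the pullbacks of φ₀ and ψ₀ along S
⟶ S_{i₀} are equal if and only if, for some index j over i₀, their pullbacks along S_j ⟶ S_{i₀} are
equal. This is the injectivity of the canonical map colim Hom(F_λ, G_λ) → Hom(F, G). -/
theorem result {I : Type u} [SmallCategory I] [IsCofiltered I]
    (D : I ⥤ Scheme.{u}) (c : Limits.Cone D) (hc : Limits.IsLimit c)
    [∀ (i j : I) (f : i ⟶ j), IsAffineHom (D.map f)] (i₀ : I) [CompactSpace (D.obj i₀)]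
    {F₀ G₀ : (D.obj i₀).Modules} [Coh.IsQCoh F₀] (hF₀ft : CohB1.IsFT F₀) [Coh.IsQCoh G₀]
    (φ₀ ψ₀ : F₀ ⟶ G₀) :
    (Scheme.Modules.pullback (c.π.app i₀)).map φ₀ = (Scheme.Modules.pullback (c.π.app i₀)).map ψ₀ ↔
      ∃ (j : I) (φ : j ⟶ i₀),
        (Scheme.Modules.pullback (D.map φ)).map φ₀ = (Scheme.Modules.pullback (D.map φ)).map ψ₀ := by
  have key : ∀ {Y : Scheme.{u}} (q : Y ⟶ D.obj i₀), (Scheme.Modules.pullback q).map φ₀ = (Scheme.Modules.pullback q).map ψ₀ ↔
      (Scheme.Modules.pullback q).map (φ₀ - ψ₀) = 0 := fun q => by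
    haveI : (Scheme.Modules.pullback q).Additive := (Scheme.Modules.pullbackPushforwardAdjunction q).left_adjoint_additive
    rw [Functor.map_sub, sub_eq_zero]
  simp only [key]
  refine ⟨fun h => GrothLib.LimModMap20.exists_stage_zero hc i₀ hF₀ft _ h, fun ⟨j, φ, h⟩ => ?_⟩
  exact GrothLib.LimModMap20.pullback_eq_zero_of_stage (c.π.app j) (D.map φ) (c.w φ) _ h

end Groth.Agent.S4797
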