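import Groth.Prelude
import Groth.Agent.Lib.FibCompDims10.Main

set_option autoImplicit false
universe u
open CategoryTheory AlgebraicGeometry
namespace Cons9
end Cons9
open Cons9

namespace Groth.Agent.S4798

/-- Let f : X ⟶ S be a morphism of finite presentation and Z a locally constructible subset of X such
that, for every s ∈ S, Z_s = Z ∩ f⁻¹(s) is locally closed in the fibre f⁻¹(s). For s ∈ S let D(s) be
the set of dimensions of the irreducible components of Z_s (fibres as subspaces of X, dimensions as
topological Krull dimensions). Then every level set {s | D(s) = Φ} of the function D is locally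
constructible in S. (The published statement asserts that the function s ↦ D(s) is locally
constructible; this row states that each of its level sets is locally constructible.) -/
theorem result {X S : Scheme.{u}} (f : X ⟶ S)
    [LocallyOfFinitePresentation f] [QuasiCompact f] [QuasiSeparated f]
    (Z : Set X) (hZ : Topology.IsLocallyConstructible Z)
    (hZs : ∀ s : S, IsLocallyClosed (Subtype.val ⁻¹' Z : Set ↥(⇑f ⁻¹' {s})))
    (Φ : Set (WithBot ℕ∞)) :
    Topology.IsLocallyConstructible {s : S |
      (fun T : Set ↥(Z ∩ ⇑f ⁻¹' {s}) => topologicalKrullDim ↥T) '' irreducibleComponents ↥(Z ∩ ⇑f ⁻¹' {s}) = Φ} := by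
  exact GrothLib.FibCompDims10.isLocallyConstructible_componentDims f hZ hZs Φ

end Groth.Agent.S4798
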