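import Groth.Statements.S4800
import Groth.Agent.Lib.QuasiFlat.Top
import Groth.Agent.Lib.ConsLim.LimFlat
import Groth.Agent.Lib.Neutral.Limit
import Groth.Agent.Lib.Constr.Topology

set_option autoImplicit false
universe u
open CategoryTheory AlgebraicGeometry
open Lim8

namespace Groth.Agent.S4800

theorem range_fst_of_isPullback {P X Y Z : Scheme.{u}} {fst : P ⟶ X} {snd : P ⟶ Y} {f : X ⟶ Z} {g : Y ⟶ Z}
    (h : IsPullback fst snd f g) : Set.range fst = f ⁻¹' Set.range g := by
  have hs : Function.Surjective ⇑h.isoPullback.hom := h.isoPullback.hom.homeomorph.surjective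
  rw [← h.isoPullback_hom_fst, Scheme.Hom.comp_base, TopCat.coe_comp, Set.range_comp,
    Set.range_eq_univ.2 hs, Set.image_univ]
  exact Scheme.Pullback.range_fst _ _

theorem isDominant_iff_range_subset {X₀ Y₀ X Y : Scheme.{u}} (f₀ : X₀ ⟶ Y₀) [QuasiCompact f₀] (qY : Y ⟶ Y₀)
    [Flat qY] (f : X ⟶ Y) (qX : X ⟶ X₀) (hX : IsPullback qX f f₀ qY) :
    IsDominant f ↔ Set.range qY ⊆ closure (Set.range f₀) := by
  have h : Set.range f = qY ⁻¹' Set.range f₀ := range_fst_of_isPullback hX.flip
  have hc : qY ⁻¹' closure (Set.range f₀) = closure (qY ⁻¹' Set.range f₀) :=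
    GrothLib.QuasiFlat.preimage_closure_range qY (Flat.generalizingMap qY) f₀
  rw [isDominant_iff, DenseRange, dense_iff_closure_eq, h, ← hc, Set.preimage_eq_univ_iff]

/-- Let S = lim S_i be a cofiltered limit of schemes whose transition maps are affine and flat, and
S_{i₀} a quasi-compact stage; let X₀ ⟶ S_{i₀} be quasi-compact, Y₀ ⟶ S_{i₀} quasi-compact and
quasi-separated, and f₀ : X₀ ⟶ Y₀ a morphism over S_{i₀} such that the closure of its image f₀(X₀)
is a constructible subset of Y₀. Let f : X ⟶ Y be the base change of f₀ along S ⟶ S_{i₀} (base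
changes are expressed by pullback squares). Then f is dominant if and only if, for some index j over
i₀ and the base change f_j : X_j ⟶ Y_j of f₀ along S_j ⟶ S_{i₀}, f_j is dominant. (The published
statement asks instead that the image f₀(X₀) itself be constructible, which is not enough: let R be
the ring of locally constant functions from the Cantor set to a field, take for stages the spectra
of the rings of locally constant functions on the clopen neighbourhoods of a point p, so that the
limit is the spectrum of the residue field at p, and take Y₀ = Spec R[t]/(m_p t) and X₀ its basic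
open subset where t is invertible; the image of X₀ is constructible, the limit morphism is the
inclusion of the punctured affine line into the affine line, which is dominant, and no stage
morphism is dominant. The published proof applies the criterion for a preimage to lie in the closure
of the preimage of a pro-constructible subset along a flat limit, whose hypothesis is that the
closure of that subset is constructible; the image f₀(X₀) is pro-constructible because f₀ is
quasi-compact, so constructibility of its closure is the hypothesis taken here.) -/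
theorem result {I : Type u} [SmallCategory I] [IsCofiltered I]
    (D : I ⥤ Scheme.{u}) (c : Limits.Cone D) (hc : Limits.IsLimit c)
    [∀ (i j : I) (f : i ⟶ j), IsAffineHom (D.map f)] (i₀ : I) [CompactSpace (D.obj i₀)]
    (hfl : ∀ (i j : I) (φ : i ⟶ j), Flat (D.map φ))
    {X₀ Y₀ : Scheme.{u}} (f₀ : X₀ ⟶ Y₀) (g₀ : Y₀ ⟶ D.obj i₀)
    [QuasiCompact (f₀ ≫ g₀)] [QuasiCompact g₀] [QuasiSeparated g₀]
    (hcl : Topology.IsConstructible (closure (Set.range ⇑f₀)))
    {X Y : Scheme.{u}} (f : X ⟶ Y) (g : Y ⟶ c.pt) (qY : Y ⟶ Y₀) (qX : X ⟶ X₀)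
    (hY : IsPullback qY g g₀ (c.π.app i₀)) (hX : IsPullback qX f f₀ qY) :
    IsDominant f ↔ ∃ (j : I) (φ : j ⟶ i₀) (Xj Yj : Scheme.{u}) (fj : Xj ⟶ Yj) (gj : Yj ⟶ D.obj j)
      (pY : Yj ⟶ Y₀) (pX : Xj ⟶ X₀), IsPullback pY gj g₀ (D.map φ) ∧ IsPullback pX fj f₀ pY ∧
      IsDominant fj := by
  haveI : QuasiCompact f₀ := QuasiCompact.of_comp f₀ g₀
  haveI hπ : Flat (c.π.app i₀) := GrothLib.ConsLim.flat_π hc i₀ fun j φ => hfl j i₀ φ
  haveI : Flat qY := MorphismProperty.of_isPullback hY.flip hπ
  have hE : ProCons.IsIndConstructible (⇑g₀ '' (closure (Set.range f₀))ᶜ)ᶜ :=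
    GrothLib.Constr.isProConstructible_iff_compl.mp (GrothLib.Constr.isProConstructible_image g₀
      (GrothLib.Constr.isProConstructible_of_isLocallyConstructible hcl.compl.isLocallyConstructible))
  have key : ∀ {T : Scheme.{u}} (t : T ⟶ D.obj i₀), (⇑g₀ ⁻¹' Set.range t ⊆ closure (Set.range f₀) ↔
      Set.range t ⊆ (⇑g₀ '' (closure (Set.range f₀))ᶜ)ᶜ) := by
    intro T t
    constructor
    · rintro h z hz ⟨y, hy, rfl⟩
      exact hy (h hz)
    · intro h y hy
      by_contra hn
      exact h hy ⟨y, hn, rfl⟩
  rw [isDominant_iff_range_subset f₀ qY f qX hX, range_fst_of_isPullback hY, key]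
  constructor
  · intro h
    obtain ⟨j, φ, hj⟩ := GrothLib.Neutral.exists_stage_range_subset D c hc i₀ hE h
    haveI := hfl j i₀ φ
    haveI : Flat (Limits.pullback.fst g₀ (D.map φ)) := MorphismProperty.pullback_fst _ _ (hfl j i₀ φ)
    refine ⟨j, φ, _, _, Limits.pullback.snd f₀ (Limits.pullback.fst g₀ (D.map φ)), Limits.pullback.snd g₀ (D.map φ),
      Limits.pullback.fst g₀ (D.map φ), Limits.pullback.fst f₀ (Limits.pullback.fst g₀ (D.map φ)),
      IsPullback.of_hasPullback _ _, IsPullback.of_hasPullback _ _, ?_⟩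
    rw [isDominant_iff_range_subset f₀ _ _ _ (IsPullback.of_hasPullback _ _),
      range_fst_of_isPullback (IsPullback.of_hasPullback g₀ (D.map φ)), key]
    exact hj
  · rintro ⟨j, φ, Xj, Yj, fj, gj, pY, pX, hYj, hXj, hdom⟩
    haveI : Flat pY := MorphismProperty.of_isPullback hYj.flip (hfl j i₀ φ)
    rw [isDominant_iff_range_subset f₀ pY fj pX hXj, range_fst_of_isPullback hYj, key] at hdom
    refine Set.Subset.trans ?_ hdom
    rintro _ ⟨y, rfl⟩
    exact ⟨c.π.app j y, by rw [← Scheme.Hom.comp_apply, c.w]⟩

end Groth.Agent.S4800
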