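import Groth.Prelude
import Groth.Agent.Lib.AmpSpread10.IndFibre
import Groth.Agent.Lib.LimDesc.Transfer
import Groth.Agent.Lib.EtSite.FpqcDescent

set_option autoImplicit false
open CategoryTheory AlgebraicGeometry
universe u
namespace Cons9
end Cons9
open Cons9

namespace Groth.Agent.S4802

open CategoryTheory.Limits in
/-- Let g : Y ⟶ S and f : X ⟶ Y be such that X and Y are of finite presentation over S (locally of
finite presentation, quasi-compact and quasi-separated). For each point s of S let f_s be the
induced morphism from the fibre of f ≫ g over s to the fibre of g over s. Then the set of s for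
which f_s is an affine morphism is ind-constructible in S. -/
theorem result {X Y S : Scheme.{u}} (f : X ⟶ Y) (g : Y ⟶ S)
    [LocallyOfFinitePresentation g] [QuasiCompact g] [QuasiSeparated g]
    [LocallyOfFinitePresentation (f ≫ g)] [QuasiCompact (f ≫ g)] [QuasiSeparated (f ≫ g)] :
    ProCons.IsIndConstructible {s : S |
      IsAffineHom (pullback.lift (pullback.fst (f ≫ g) (S.fromSpecResidueField s) ≫ f) (pullback.snd (f ≫ g) (S.fromSpecResidueField s))
          ((Category.assoc _ _ _).trans pullback.condition) :
        pullback (f ≫ g) (S.fromSpecResidueField s) ⟶ pullback g (S.fromSpecResidueField s))} := by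
  haveI : QuasiCompact f := QuasiCompact.of_comp f g
  haveI : QuasiSeparated f := QuasiSeparated.of_comp f g
  haveI : LocallyOfFinitePresentation f := GrothLib.DiagGrp.lfp_of_comp_of_lft f g inferInstance inferInstance
  refine GrothLib.AmpSpread10.isIndConstructible_fibre f g @IsAffineHom ?_ ?_
  · intro I _ _ D c hc _ i₀ _ _ X₀ Y₀ XT YT u v _ _ _ _ _ _ _ qY gT qX fT hY hX h
    haveI : IsAffineHom fT := h
    haveI : CompactSpace X₀ := QuasiCompact.compactSpace_of_compactSpace u
    haveI : QuasiSeparatedSpace X₀ := quasiSeparatedSpace_of_quasiSeparated u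
    exact GrothLib.LimDesc.exists_isAffineHom D hc u v hY hX
  · exact GrothLib.AmpSpread10.descendsAlongFieldExt_of f g fun a a' p w _ _ _ _ hsq ha =>
      MorphismProperty.of_isPullback_of_descendsAlong (P := @IsAffineHom) (Q := GrothLib.EtSite.fpqcCov)
        hsq.flip ⟨⟨‹Surjective w›, ‹Flat w›⟩, ‹QuasiCompact w›⟩ ha

end Groth.Agent.S4802
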