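import Groth.Prelude
import Groth.Agent.Lib.AmpSpread10.IndRelAmple
import Groth.Agent.S2337

set_option autoImplicit false
open CategoryTheory AlgebraicGeometry
universe u
namespace Cons9
end Cons9
open Cons9

namespace Groth.Agent.S4803

open CategoryTheory.Limits in
/-- Let g : Y ⟶ S and f : X ⟶ Y be such that X and Y are of finite presentation over S (locally of
finite presentation, quasi-compact and quasi-separated). For each point s of S let f_s be the
induced morphism from the fibre of f ≫ g over s to the fibre of g over s. Then the set of s for
which f_s is a quasi-affine morphism is ind-constructible in S. -/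
theorem result {X Y S : Scheme.{u}} (f : X ⟶ Y) (g : Y ⟶ S)
    [LocallyOfFinitePresentation g] [QuasiCompact g] [QuasiSeparated g]
    [LocallyOfFinitePresentation (f ≫ g)] [QuasiCompact (f ≫ g)] [QuasiSeparated (f ≫ g)] :
    ProCons.IsIndConstructible {s : S |
      MoreMor.IsQuasiAffineHom (pullback.lift (pullback.fst (f ≫ g) (S.fromSpecResidueField s) ≫ f) (pullback.snd (f ≫ g) (S.fromSpecResidueField s))
          ((Category.assoc _ _ _).trans pullback.condition) :
        pullback (f ≫ g) (S.fromSpecResidueField s) ⟶ pullback g (S.fromSpecResidueField s))} := by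
  haveI : QuasiCompact f := QuasiCompact.of_comp f g
  haveI : QuasiSeparated f := QuasiSeparated.of_comp f g
  have h := GrothLib.AmpSpread10.isIndConstructible_fibre_isRelAmple f g
    (L := Coh.structureModule X) GrothLib.Euler.isInvertible_structure
  refine (congrArg ProCons.IsIndConstructible (Set.ext fun s => ?_)).mp h
  let x := S.fromSpecResidueField s
  haveI : QuasiCompact (GrothLib.AmpSpread10.bcMap f g x) :=
    MorphismProperty.of_isPullback (P := @QuasiCompact) (GrothLib.AmpSpread10.isPullback_bcMap f g x) inferInstance
  obtain ⟨e⟩ := GrothLib.Ample.nonempty_pullback_structureModule (pullback.fst (f ≫ g) x)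
  exact ⟨fun h => (Groth.Agent.S2337.result (GrothLib.AmpSpread10.bcMap f g x)).2 (GrothLib.RelProjK.isRelAmple_of_iso e.symm h),
    fun h => GrothLib.RelProjK.isRelAmple_of_iso e ((Groth.Agent.S2337.result (GrothLib.AmpSpread10.bcMap f g x)).1 h)⟩

end Groth.Agent.S4803
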