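import Groth.Statements.S4806
import Groth.Agent.Lib.GrpdQuot.FiberMono
import Mathlib.AlgebraicGeometry.ZariskisMainTheorem

set_option autoImplicit false
universe u
open CategoryTheory AlgebraicGeometry
open Lim8

namespace Groth.Agent.S4806

/-- Let f : X ⟶ Y be a proper morphism of finite presentation. Then f is a closed immersion if and only
if, for every point y of Y, the scheme-theoretic fibre of f at y is empty or its structure morphism
to Spec κ(y) is an isomorphism. -/
theorem result {X Y : Scheme.{u}} (f : X ⟶ Y) [IsProper f]
    [LocallyOfFinitePresentation f] :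
    IsClosedImmersion f ↔ ∀ y : Y, IsEmpty (f.fiber y) ∨ IsIso (f.fiberToSpecResidueField y) := by
    refine ⟨fun h y => ?_, fun h => ?_⟩
    · haveI : IsClosedImmersion (f.fiberToSpecResidueField y) :=
        MorphismProperty.pullback_snd (P := @IsClosedImmersion) _ _ h
      by_cases hne : IsEmpty (f.fiber y)
      · exact Or.inl hne
      · right
        obtain ⟨x⟩ := not_isEmpty_iff.mp hne
        haveI : Surjective (f.fiberToSpecResidueField y) :=
          ⟨fun z => ⟨x, Subsingleton.elim _ _⟩⟩
        exact isIso_of_isClosedImmersion_of_surjective _
    · haveI : Mono f := GrothLib.GrpdQuot.mono_of_fiber_mono f fun y => by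
        rcases h y with he | hi
        · refine ⟨fun {T} u v _ => ?_⟩
          haveI : IsEmpty T := Function.isEmpty u
          exact isInitialOfIsEmpty.hom_ext u v
        · infer_instance
      exact (IsClosedImmersion.iff_isProper_and_mono (f := f)).mpr ⟨inferInstance, inferInstance⟩

end Groth.Agent.S4806
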