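import Groth.Statements.S4812
import Groth.Agent.Lib.LimModMap20.Exact

set_option autoImplicit false
set_option maxHeartbeats 1000000
set_option linter.style.haveILetI false
set_option backward.isDefEq.respectTransparency false
universe u
open CategoryTheory AlgebraicGeometry
open Lim8

namespace Groth.Agent.S4812

/-- Let S = lim S_i be a cofiltered limit of schemes with affine transition maps and S_{i₀} a
quasi-compact stage; let f₀ : F₀ ⟶ G₀ and g₀ : G₀ ⟶ H₀ be homomorphisms of quasi-coherent O-modules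
on S_{i₀}, with F₀ and G₀ of finite type and H₀ of finite presentation. Then the pulled-back
sequence F ⟶ G ⟶ H ⟶ 0 on S is exact (the composite is zero, the sequence is exact at G, and G ⟶ H
is an epimorphism) if and only if, for some index j over i₀, the pulled-back sequence F_j ⟶ G_j ⟶
H_j ⟶ 0 on S_j is exact. -/
theorem result {I : Type u} [SmallCategory I] [IsCofiltered I]
    (D : I ⥤ Scheme.{u}) (c : Limits.Cone D) (hc : Limits.IsLimit c)
    [∀ (i j : I) (f : i ⟶ j), IsAffineHom (D.map f)] (i₀ : I) [CompactSpace (D.obj i₀)]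
    {F₀ G₀ H₀ : (D.obj i₀).Modules} [Coh.IsQCoh F₀] [Coh.IsQCoh G₀] [Coh.IsQCoh H₀]
    (hF₀ : CohB1.IsFT F₀) (hG₀ : CohB1.IsFT G₀) (hH₀ : CohB1.IsFP H₀) (f₀ : F₀ ⟶ G₀) (g₀ : G₀ ⟶ H₀) :
    (∃ w : (Scheme.Modules.pullback (c.π.app i₀)).map f₀ ≫ (Scheme.Modules.pullback (c.π.app i₀)).map g₀ = 0,
        (ShortComplex.mk _ _ w).Exact ∧ Epi ((Scheme.Modules.pullback (c.π.app i₀)).map g₀)) ↔
      ∃ (j : I) (φ : j ⟶ i₀) (w : (Scheme.Modules.pullback (D.map φ)).map f₀ ≫ (Scheme.Modules.pullback (D.map φ)).map g₀ = 0),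
        (ShortComplex.mk _ _ w).Exact ∧ Epi ((Scheme.Modules.pullback (D.map φ)).map g₀) := by
  exact GrothLib.LimModMap20.good_iff_eventually hc i₀ hF₀ hG₀ hH₀ f₀ g₀

end Groth.Agent.S4812
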