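import Groth.Statements.S4816
import Groth.Agent.Lib.LimDesc.Snd

set_option autoImplicit false
universe u
open CategoryTheory AlgebraicGeometry
open Lim8

namespace Groth.Agent.S4816

open CategoryTheory.Limits in
/-- Let S = lim S_i be a cofiltered limit of schemes with affine transition maps and S_{i₀} a
quasi-compact stage; let ι₁ : Z₁ ⟶ S_{i₀} and ι₂ : Z₂ ⟶ S_{i₀} be two subschemes of finite
presentation of S_{i₀} (immersions which are locally of finite presentation and quasi-compact), with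
base changes Z₁ ×_{S_{i₀}} T ⟶ T to T = S and to T = S_j. Then Z₁ ×_{S_{i₀}} S is a subscheme of Z₂
×_{S_{i₀}} S (its immersion into S factors through that of Z₂ ×_{S_{i₀}} S) if and only if, for some
index j over i₀, Z₁ ×_{S_{i₀}} S_j is a subscheme of Z₂ ×_{S_{i₀}} S_j. -/
theorem result {I : Type u} [SmallCategory I] [IsCofiltered I]
    (D : I ⥤ Scheme.{u}) (c : Limits.Cone D) (hc : Limits.IsLimit c)
    [∀ (i j : I) (f : i ⟶ j), IsAffineHom (D.map f)] (i₀ : I) [CompactSpace (D.obj i₀)]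
    {Z₁ Z₂ : Scheme.{u}} (ι₁ : Z₁ ⟶ D.obj i₀) (ι₂ : Z₂ ⟶ D.obj i₀)
    [IsImmersion ι₁] [LocallyOfFinitePresentation ι₁] [QuasiCompact ι₁]
    [IsImmersion ι₂] [LocallyOfFinitePresentation ι₂] [QuasiCompact ι₂] :
    (∃ k : pullback ι₁ (c.π.app i₀) ⟶ pullback ι₂ (c.π.app i₀),
        k ≫ pullback.snd ι₂ (c.π.app i₀) = pullback.snd ι₁ (c.π.app i₀)) ↔
      ∃ (j : I) (φ : j ⟶ i₀) (k : pullback ι₁ (D.map φ) ⟶ pullback ι₂ (D.map φ)),
        k ≫ pullback.snd ι₂ (D.map φ) = pullback.snd ι₁ (D.map φ) := by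
    haveI : CompactSpace Z₁ := QuasiCompact.compactSpace_of_compactSpace ι₁
    let π := c.π.app i₀
    let W := Limits.pullback ι₁ ι₂
    let f₀ : W ⟶ Z₁ := Limits.pullback.fst ι₁ ι₂
    haveI : IsImmersion f₀ := MorphismProperty.pullback_fst (P := @IsImmersion) _ _ ‹_›
    haveI : LocallyOfFinitePresentation f₀ :=
      MorphismProperty.pullback_fst (P := @LocallyOfFinitePresentation) _ _ ‹_›
    haveI : QuasiCompact f₀ := MorphismProperty.pullback_fst (P := @QuasiCompact) _ _ ‹_›
    haveI : QuasiSeparated f₀ := inferInstance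
    haveI : Mono f₀ := inferInstance
    refine ⟨fun ⟨k, hk⟩ => ?_, ?_⟩
    · let qX : Limits.pullback ι₁ π ⟶ W := Limits.pullback.lift (Limits.pullback.fst ι₁ π)
        (k ≫ Limits.pullback.fst ι₂ π)
        (by rw [Category.assoc, Limits.pullback.condition, Limits.pullback.condition, reassoc_of% hk])
      have hw : qX ≫ f₀ = 𝟙 _ ≫ Limits.pullback.fst ι₁ π := by
        rw [Category.id_comp]; exact Limits.pullback.lift_fst _ _ _
      have hX : IsPullback qX (𝟙 _) f₀ (Limits.pullback.fst ι₁ π) :=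
        IsPullback.of_isLimit' ⟨hw⟩ (Limits.PullbackCone.IsLimit.mk _ (fun s => s.snd)
          (fun s => by rw [← cancel_mono f₀, Category.assoc, hw, Category.id_comp, s.condition])
          (fun s => Category.comp_id _) (fun s m _ h => by simpa using h))
      obtain ⟨j, hj⟩ := GrothLib.LimDesc.exists_isIso_of_compactSpace D hc f₀ ι₁
        (IsPullback.of_hasPullback ι₁ π) hX
      let N := (GrothLib.LimDesc.mapNat D i₀ ι₁ (f₀ ≫ ι₁) f₀ rfl).app j
      haveI : IsIso N := hj
      refine ⟨j.left, j.hom, (asIso N).inv ≫ Limits.pullback.lift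
        (Limits.pullback.fst (f₀ ≫ ι₁) (D.map j.hom) ≫ Limits.pullback.snd ι₁ ι₂)
        (Limits.pullback.snd _ _)
        (by rw [Category.assoc, ← Limits.pullback.condition]; exact Limits.pullback.condition), ?_⟩
      rw [Category.assoc, Limits.pullback.lift_snd, Iso.inv_comp_eq]
      exact (GrothLib.LimDesc.mapNat_snd D i₀ ι₁ (f₀ ≫ ι₁) f₀ rfl j).symm
    · rintro ⟨j, φ, k, hk⟩
      let l : Limits.pullback ι₁ π ⟶ Limits.pullback ι₁ (D.map φ) :=
        Limits.pullback.lift (Limits.pullback.fst _ _) (Limits.pullback.snd _ _ ≫ c.π.app j)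
          (by rw [Category.assoc, c.w]; exact Limits.pullback.condition)
      refine ⟨Limits.pullback.lift (l ≫ k ≫ Limits.pullback.fst ι₂ (D.map φ))
        (Limits.pullback.snd ι₁ π) ?_, Limits.pullback.lift_snd _ _ _⟩
      rw [Category.assoc, Category.assoc, Limits.pullback.condition, reassoc_of% hk,
        Limits.pullback.lift_snd_assoc, Category.assoc, c.w]

end Groth.Agent.S4816
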