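import Groth.Prelude
import Groth.Agent.Lib.FibModLocus10.LocFree

set_option autoImplicit false
universe u
open CategoryTheory AlgebraicGeometry
namespace Cons9
end Cons9
open Cons9

namespace Groth.Agent.S4819

/-- Let f : X ⟶ S be a morphism of finite presentation (locally of finite presentation, quasi-compact
and quasi-separated) and F a quasi-coherent O_X-module of finite presentation; for s in S let F_s be
the pullback of F to the scheme-theoretic fibre X_s. Then the set of s such that F_s is a finite
locally free O_{X_s}-module is locally constructible in S. This is the case of locally free modules. -/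
theorem result {X S : Scheme.{u}} (f : X ⟶ S)
    [LocallyOfFinitePresentation f] [QuasiCompact f] [QuasiSeparated f]
    (F : X.Modules) [Coh.IsQCoh F] (hF : CohB1.IsFP F) :
    Topology.IsLocallyConstructible
      {s : S | FlatMod.IsFinLocFree ((Scheme.Modules.pullback (f.fiberι s)).obj F)} := by
  haveI : F.IsQuasicoherent := ‹Coh.IsQCoh F›
  exact GrothLib.FibModLocus10.isLocallyConstructible_isFinLocFree f F hF

end Groth.Agent.S4819
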