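import Groth.Prelude
import Groth.Agent.Lib.FibModLocus10.LocFree

set_option autoImplicit false
universe u
open CategoryTheory AlgebraicGeometry
namespace Cons9
end Cons9
open Cons9

namespace Groth.Agent.S4820

/-- Let f : X ⟶ S be a morphism of finite presentation (locally of finite presentation, quasi-compact
and quasi-separated), F a quasi-coherent O_X-module of finite presentation and n a natural number;
for s in S let F_s be the pullback of F to the scheme-theoretic fibre X_s. Then the set of s such
that F_s is locally free of rank n is locally constructible in S. The case of locally free modules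
of rank n. -/
theorem result {X S : Scheme.{u}} (f : X ⟶ S)
    [LocallyOfFinitePresentation f] [QuasiCompact f] [QuasiSeparated f]
    (F : X.Modules) [Coh.IsQCoh F] (hF : CohB1.IsFP F) (n : ℕ) :
    Topology.IsLocallyConstructible
      {s : S | FlatMod.IsFinLocFreeOfRank n ((Scheme.Modules.pullback (f.fiberι s)).obj F)} := by
  haveI : F.IsQuasicoherent := ‹Coh.IsQCoh F›
  exact GrothLib.FibModLocus10.isLocallyConstructible_isFinLocFreeOfRank f F hF n

end Groth.Agent.S4820
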