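import Groth.Statements.S4821
import Mathlib

set_option autoImplicit false
universe u
open Cons9

namespace Groth.Agent.S4821

/-- Let A be an integral domain with fraction field K, and (P_i) a finite family of polynomials in
A[T_1, …, T_m], generating an ideal 𝔞; for a point s of Spec A write 𝔞_s for the ideal of κ(s)[T_1,
…, T_m] generated by the images of the P_i. If the zero locus of 𝔞_η in affine m-space over K = κ(η)
is empty, that is if 𝔞_η is the unit ideal, then there is an open neighbourhood D(f) (f ≠ 0) of the
generic point such that 𝔞_s is the unit ideal (its zero locus is empty) for every s in D(f). -/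
theorem result {A : Type u} [CommRing A] [IsDomain A] {m : ℕ}
    (P : Finset (MvPolynomial (Fin m) A))
    (hη : Ideal.span ((MvPolynomial.map (algebraMap A (FractionRing A))) '' (P : Set (MvPolynomial (Fin m) A))) = ⊤) :
    ∃ f : A, f ≠ 0 ∧ ∀ p : PrimeSpectrum A, f ∉ p.asIdeal →
      Ideal.span ((MvPolynomial.map (algebraMap A p.asIdeal.ResidueField)) '' (P : Set (MvPolynomial (Fin m) A))) = ⊤ := by
  classical
  let K := FractionRing A
  have hmap : (Ideal.span (P : Set (MvPolynomial (Fin m) A))).map (MvPolynomial.map (algebraMap A K)) = ⊤ := by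
    rw [Ideal.map_span]; exact hη
  letI : Algebra (MvPolynomial (Fin m) A) (MvPolynomial (Fin m) K) := MvPolynomial.algebraMvPolynomial
  haveI : IsLocalization ((nonZeroDivisors A).map (MvPolynomial.C (σ := Fin m))) (MvPolynomial (Fin m) K) := inferInstance
  obtain ⟨⟨⟨c, hc⟩, ⟨_, f, hf, rfl⟩⟩, heq⟩ := (IsLocalization.mem_map_algebraMap_iff
    ((nonZeroDivisors A).map (MvPolynomial.C (σ := Fin m))) (MvPolynomial (Fin m) K)
    (I := Ideal.span (P : Set (MvPolynomial (Fin m) A))) (z := 1)).mp (by
      rw [show (algebraMap (MvPolynomial (Fin m) A) (MvPolynomial (Fin m) K)) = MvPolynomial.map (algebraMap A K) from rfl,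
        hmap]
      trivial)
  dsimp only at heq
  rw [one_mul] at heq
  have hc' : c = MvPolynomial.C f := by
    refine MvPolynomial.map_injective _ (IsFractionRing.injective A K) ?_
    exact heq.symm
  subst hc'
  refine ⟨f, nonZeroDivisors.ne_zero hf, fun p hp => ?_⟩
  rw [← Ideal.map_span]
  refine Ideal.eq_top_of_isUnit_mem _ (Ideal.mem_map_of_mem _ hc) ?_
  rw [MvPolynomial.map_C]
  refine IsUnit.map _ (Ne.isUnit ?_)
  rw [ne_eq, Ideal.algebraMap_residueField_eq_zero]
  exact hp

end Groth.Agent.S4821
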