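import Groth.Statements.S4823
import Groth.Agent.Lib.LimModMap20.HomMain
import Groth.Agent.Lib.FEtLimit21.FgSub
import Mathlib.RingTheory.Jacobson.Ring

set_option linter.all false
set_option backward.isDefEq.respectTransparency false

set_option autoImplicit false
open CategoryTheory AlgebraicGeometry
universe u
open Cons9

namespace Groth.Agent.S4823

open CategoryTheory.Limits in
/-- Let k be a field, Ω an algebraically closed extension field of k, X a scheme of finite type over k
and F, G two coherent O_X-modules (quasi-coherent of finite presentation). If the pullbacks of F and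
G to X ⊗_k Ω are isomorphic, then there is a finite extension k' of k such that the pullbacks of F
and G to X ⊗_k k' are already isomorphic (base changes are the chosen fibre products with Spec of
the extension, and the modules are pulled back along the first projection). -/
theorem result {k : Type u} [Field k] {X : Scheme.{u}}
    (p : X ⟶ Spec (CommRingCat.of k)) [LocallyOfFiniteType p] [QuasiCompact p]
    (F G : X.Modules) [Coh.IsQCoh F] [Coh.IsQCoh G] (hF : CohB1.IsFP F) (hG : CohB1.IsFP G)
    (Ω : Type u) [Field Ω] [Algebra k Ω] [IsAlgClosed Ω]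
    (e : (Scheme.Modules.pullback (pullback.fst p (Spec.map (CommRingCat.ofHom (algebraMap k Ω))))).obj F ≅
      (Scheme.Modules.pullback (pullback.fst p (Spec.map (CommRingCat.ofHom (algebraMap k Ω))))).obj G) :
    ∃ (k' : Type u) (_ : Field k') (_ : Algebra k k') (_ : Module.Finite k k'),
      Nonempty ((Scheme.Modules.pullback (pullback.fst p (Spec.map (CommRingCat.ofHom (algebraMap k k'))))).obj F ≅
        (Scheme.Modules.pullback (pullback.fst p (Spec.map (CommRingCat.ofHom (algebraMap k k'))))).obj G) := by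
  classical
  haveI : CompactSpace X := QuasiCompact.compactSpace_of_compactSpace p
  haveI : IsLocallyNoetherian X := LocallyOfFiniteType.isLocallyNoetherian p
  haveI : QuasiSeparatedSpace X := inferInstance
  haveI : ∀ {Y : Scheme.{u}} (q : Y ⟶ X), ((Scheme.Modules.pullback q).obj F).IsQuasicoherent :=
    fun q => GrothLib.FittSheaf.isQuasicoherent_pullback q F
  haveI : ∀ {Y : Scheme.{u}} (q : Y ⟶ X), ((Scheme.Modules.pullback q).obj G).IsQuasicoherent :=
    fun q => GrothLib.FittSheaf.isQuasicoherent_pullback q G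
  let D := GrothLib.FEtLimit21.FgSub.bcDiag (k := k) Ω p
  let c := GrothLib.FEtLimit21.FgSub.bcCone (k := k) Ω p
  let i₀ : (GrothLib.FEtLimit21.FgSub.FinSub k Ω)ᵒᵖ := Opposite.op (GrothLib.FEtLimit21.FgSub.botSub k Ω)
  let q₀ : D.obj i₀ ⟶ X := pullback.fst p _
  have hq : c.π.app i₀ ≫ q₀ = pullback.fst p (Spec.map (CommRingCat.ofHom (algebraMap k Ω))) :=
    GrothLib.FEtLimit21.FgSub.toStage_fst Ω p _
  let pI := fun {Y Z W : Scheme.{u}} (M : W.Modules) (a : Y ⟶ Z) (b : Z ⟶ W) (l : Y ⟶ W) (h : a ≫ b = l) =>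
    (Scheme.Modules.pullbackComp a b).app M ≪≫ (Scheme.Modules.pullbackCongr h).app M
  obtain ⟨L, φ, ⟨eL⟩⟩ := (GrothLib.LimModMap20.nonempty_iso_iff_eventually
    (GrothLib.FEtLimit21.FgSub.isLimitBcCone (k := k) Ω p) i₀
    (GrothLib.FittSheaf.isFP_pullback q₀ F hF) (GrothLib.FittSheaf.isFP_pullback q₀ G hG)).1
    ⟨pI F _ _ _ hq ≪≫ e ≪≫ (pI G _ _ _ hq).symm⟩
  have hφ : D.map φ ≫ q₀ = pullback.fst p (GrothLib.FEtLimit21.FgSub.stageMap Ω L.unop.1) :=
    GrothLib.FEtLimit21.FgSub.bcDiag_map_fst Ω p φ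
  let eA := (pI F _ _ _ hφ).symm ≪≫ eL ≪≫ pI G _ _ _ hφ
  let A := L.unop.1
  haveI : Algebra.FiniteType k A := ((Subalgebra.fg_iff_finiteType _).1 L.unop.2)
  obtain ⟨m, hm⟩ := Ideal.exists_maximal A
  letI : Field (A ⧸ m) := Ideal.Quotient.field m
  haveI : Module.Finite k (A ⧸ m) := finite_of_finite_type_of_isJacobsonRing k (A ⧸ m)
  refine ⟨A ⧸ m, inferInstance, inferInstance, inferInstance, ?_⟩
  let q : pullback p (Spec.map (CommRingCat.ofHom (algebraMap k (A ⧸ m)))) ⟶
      pullback p (GrothLib.FEtLimit21.FgSub.stageMap Ω A) :=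
    pullback.lift (pullback.fst _ _) (pullback.snd _ _ ≫ Spec.map (CommRingCat.ofHom (Ideal.Quotient.mk m)))
      (by rw [Category.assoc, pullback.condition, GrothLib.FEtLimit21.FgSub.stageMap, ← Spec.map_comp]; rfl)
  have hqf : q ≫ pullback.fst p (GrothLib.FEtLimit21.FgSub.stageMap Ω A) = pullback.fst _ _ := pullback.lift_fst _ _ _
  exact ⟨(pI F _ _ _ hqf).symm ≪≫ (Scheme.Modules.pullback q).mapIso eA ≪≫ pI G _ _ _ hqf⟩

end Groth.Agent.S4823
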