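import Groth.Statements.S4824
import Groth.Agent.Lib.GrpSchField.TensorDomain
import Mathlib

set_option autoImplicit false
open CategoryTheory AlgebraicGeometry
universe u
open Cons9

namespace Groth.Agent.S4824

instance isClosedUnderIsomorphisms_isIntegral :
    ObjectProperty.IsClosedUnderIsomorphisms (C := Scheme.{u}) IsIntegral :=
  ⟨fun {X Y} e h => by
    haveI := h
    haveI : Nonempty Y := ⟨e.hom (Classical.arbitrary X)⟩
    exact isIntegral_of_isOpenImmersion e.inv⟩

open scoped TensorProduct in
theorem isDomain_tensor_iff {k : Type u} [Field k] {n : ℕ} (F : MvPolynomial (Fin n) k)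
    (hF : F ≠ 0) (K : Type u) [Field K] [Algebra k K] :
    IsDomain (K ⊗[k] (MvPolynomial (Fin n) k ⧸ Ideal.span ({F} : Set (MvPolynomial (Fin n) k)))) ↔
      Irreducible (MvPolynomial.map (algebraMap k K) F) := by
  let I := Ideal.span ({F} : Set (MvPolynomial (Fin n) k))
  let ε : K ⊗[k] MvPolynomial (Fin n) k ≃ₐ[K] MvPolynomial (Fin n) K := MvPolynomial.algebraTensorAlgEquiv k K
  let e1 := Algebra.TensorProduct.tensorQuotientEquiv (R := k) K (MvPolynomial (Fin n) k) K I
  have hI : (Ideal.span {MvPolynomial.map (algebraMap k K) F}) =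
      (I.map (Algebra.TensorProduct.includeRight : MvPolynomial (Fin n) k →ₐ[k] K ⊗[k] MvPolynomial (Fin n) k)).map
        (ε : K ⊗[k] MvPolynomial (Fin n) k →+* MvPolynomial (Fin n) K) := by
    simp only [I, Ideal.map_span, Set.image_singleton]
    congr 2
    simp [ε, MvPolynomial.algebraTensorAlgEquiv_tmul]
  let e2 := Ideal.quotientEquivAlg _ _ ε hI
  let e := (e1.restrictScalars K).trans e2
  have hF' : MvPolynomial.map (algebraMap k K) F ≠ 0 :=
    (map_ne_zero_iff _ (MvPolynomial.map_injective _ (algebraMap k K).injective)).mpr hF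
  rw [e.toMulEquiv.isDomain_iff, Ideal.Quotient.isDomain_iff_prime, Ideal.span_singleton_prime hF',
    ← irreducible_iff_prime]

open scoped TensorProduct in
theorem isDomain_tensor_of_algClosed {k : Type u} [Field k] (Ω : Type u) [Field Ω] [Algebra k Ω]
    [IsAlgClosed Ω] (B : Type u) [CommRing B] [Algebra k B] [IsDomain (Ω ⊗[k] B)]
    (K : Type u) [Field K] [Algebra k K] : IsDomain (K ⊗[k] B) := by
  haveI : Nontrivial (Ω ⊗[k] K) := Algebra.TensorProduct.nontrivial_of_algebraMap_injective_of_isDomain k Ω K
    (algebraMap k Ω).injective (algebraMap k K).injective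
  obtain ⟨m, hm⟩ := Ideal.exists_maximal (Ω ⊗[k] K)
  let L := (Ω ⊗[k] K) ⧸ m
  letI : Field L := Ideal.Quotient.field m
  haveI : IsDomain (L ⊗[Ω] (Ω ⊗[k] B)) := GrothLib.GrpSchField.isDomain_tensorProduct
  haveI : IsDomain (L ⊗[k] B) :=
    (Algebra.TensorProduct.cancelBaseChange k Ω Ω L B).toMulEquiv.isDomain_iff.mp inferInstance
  let ι : K →ₐ[k] L := (Ideal.Quotient.mkₐ k m).comp Algebra.TensorProduct.includeRight
  haveI : Nontrivial B := by
    by_contra h
    haveI := not_nontrivial_iff_subsingleton.mp h
    exact not_nontrivial (Ω ⊗[k] B) inferInstance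
  exact Function.Injective.isDomain (Algebra.TensorProduct.map ι (AlgHom.id k B))
    (Module.Flat.rTensor_preserves_injective_linearMap ι.toLinearMap ι.toRingHom.injective)

/-- Let k be a field, Ω an algebraically closed extension of k and F a non-constant polynomial in k[T_1,
…, T_n]. The following are equivalent: (a) the k-scheme Spec(k[T_1, …, T_n]/(F)) is geometrically
integral; (b) for every extension field K of k the image of F in K[T_1, …, T_n] is irreducible; (c)
the image of F in Ω[T_1, …, T_n] is irreducible. (Such an F is called geometrically irreducible.) -/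
theorem result {k : Type u} [Field k] (Ω : Type u) [Field Ω] [Algebra k Ω]
    [IsAlgClosed Ω] {n : ℕ} (F : MvPolynomial (Fin n) k) (hF : 0 < F.totalDegree) :
    List.TFAE [
      GeometricallyIntegral (Spec.map (CommRingCat.ofHom
        (algebraMap k (MvPolynomial (Fin n) k ⧸ Ideal.span ({F} : Set (MvPolynomial (Fin n) k)))))),
      ∀ (K : Type u) [Field K] [Algebra k K], Irreducible (MvPolynomial.map (algebraMap k K) F),
      Irreducible (MvPolynomial.map (algebraMap k Ω) F)] := by
  have hF0 : F ≠ 0 := by rintro rfl; simp at hF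
  set B := MvPolynomial (Fin n) k ⧸ Ideal.span ({F} : Set (MvPolynomial (Fin n) k))
  open scoped TensorProduct in
  have key : GeometricallyIntegral (Spec.map (CommRingCat.ofHom (algebraMap k B))) ↔
      ∀ (K : Type u) [Field K] [Algebra k K], IsDomain (K ⊗[k] B) := by
    rw [geometricallyIntegral_iff, geometrically_iff_of_commRing_of_isClosedUnderIsomorphisms]
    refine forall_congr' fun K => forall_congr' fun _ => forall_congr' fun _ => ?_
    let e := Limits.pullbackSymmetry (Spec.map (CommRingCat.ofHom (algebraMap k B)))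
      (Spec.map (CommRingCat.ofHom (algebraMap k K))) ≪≫ pullbackSpecIso k K B
    constructor
    · intro h
      haveI : Nonempty (Spec (CommRingCat.of (K ⊗[k] B))) := ⟨e.hom (Classical.arbitrary _)⟩
      haveI : IsIntegral (Spec (CommRingCat.of (K ⊗[k] B))) := isIntegral_of_isOpenImmersion e.inv
      exact (affine_isIntegral_iff (CommRingCat.of (K ⊗[k] B))).mp inferInstance
    · intro h
      haveI : IsDomain (CommRingCat.of (K ⊗[k] B)) := h
      haveI : IsIntegral (Spec (CommRingCat.of (K ⊗[k] B))) := inferInstance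
      have hne : Nonempty ↥(Limits.pullback (Spec.map (CommRingCat.ofHom (algebraMap k B)))
          (Spec.map (CommRingCat.ofHom (algebraMap k K)))) := ⟨e.inv (genericPoint _)⟩
      exact isIntegral_of_isOpenImmersion e.hom
  tfae_have 1 → 2 := fun h K _ _ => (isDomain_tensor_iff F hF0 K).mp (key.mp h K)
  tfae_have 2 → 3 := fun h => h Ω
  tfae_have 3 → 1 := fun h => key.mpr fun K _ _ => by
    haveI := (isDomain_tensor_iff F hF0 Ω).mpr h
    exact isDomain_tensor_of_algClosed Ω B K
  tfae_finish

end Groth.Agent.S4824
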