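import Groth.Prelude
import Groth.Agent.Lib.FibPd.GeomNormal
import Groth.Agent.Lib.Constr.Basic

set_option autoImplicit false
open CategoryTheory AlgebraicGeometry
universe u
namespace Cons9
end Cons9
open Cons9

namespace Groth.Agent.S4827

/-- Let f : X ⟶ S be a morphism of finite presentation (locally of finite presentation, quasi-compact
and quasi-separated). Then the set of points s of S whose fibre X_s is geometrically normal over
κ(s), i.e. such that for every extension field K of κ(s) all local rings of X_s ⊗_{κ(s)} K are
integrally closed domains, is locally constructible in S. This is the case of geometric normality. -/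
theorem result {X S : Scheme.{u}} (f : X ⟶ S)
    [LocallyOfFinitePresentation f] [QuasiCompact f] [QuasiSeparated f] :
    Topology.IsLocallyConstructible {s : S |
      ∀ (K : Type u) [Field K] [Algebra (IsLocalRing.ResidueField (S.presheaf.stalk s)) K]
        (x' : ↥(FBase.bc (f.fiberToSpecResidueField s) K)),
        IsDomain ((FBase.bc (f.fiberToSpecResidueField s) K).presheaf.stalk x') ∧
          IsIntegrallyClosed ((FBase.bc (f.fiberToSpecResidueField s) K).presheaf.stalk x')} := by
  have h := GrothLib.Constr.isLocallyConstructible_compl
    (f.isLocallyConstructible_image (GrothLib.Constr.isLocallyConstructible_compl (GrothLib.FibPd.isLocallyConstructible_geom_normal f)))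
  convert h using 1
  ext s
  let R : ∀ s : S, ↥(f.fiber s) → Prop := fun s z =>
    ∀ (K : Type u) [Field K] [Algebra (IsLocalRing.ResidueField (S.presheaf.stalk s)) K]
      (x' : ↥(FBase.bc (f.fiberToSpecResidueField s) K)),
      (FBase.bcπ (f.fiberToSpecResidueField s) K).base x' = z → (IsDomain ((FBase.bc (f.fiberToSpecResidueField s) K).presheaf.stalk x') ∧ IsIntegrallyClosed ((FBase.bc (f.fiberToSpecResidueField s) K).presheaf.stalk x'))
  constructor
  · rintro hall ⟨x, hx, rfl⟩
    exact hx fun K _ _ x' _ => hall K x'
  · intro hall K _ _ x'
    by_contra hc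
    refine hall ⟨f.fiberι s ((FBase.bcπ (f.fiberToSpecResidueField s) K).base x'), fun hx => ?_,
      GrothLib.FibreFlat.fiberι_comp_apply f s _⟩
    exact hc ((GrothLib.FibPd.asFiber_iff f R s _).1 hx K x' rfl)

end Groth.Agent.S4827
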