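import Groth.Prelude
import Groth.Agent.Lib.AmpSpread10.FieldDescent

set_option autoImplicit false
open CategoryTheory AlgebraicGeometry
universe u
namespace Cons9
end Cons9
open Cons9

namespace Groth.Agent.S4830

open CategoryTheory.Limits in
/-- Let k be a field, X a scheme over k and K an extension field of k. If the base change X ⊗_k K admits
an immersion over K into a projective space P^n_K (X ⊗_k K is quasi-projective over K), then X
admits an immersion over k into some projective space P^n_k (X is quasi-projective over k). This is
the quasi-projective case (projective spaces are Proj of polynomial rings base-changed to the base;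
the base change X ⊗_k K is the chosen fibre product). -/
theorem result {k : Type u} [Field k] {X : Scheme.{u}}
    (p : X ⟶ Spec (CommRingCat.of k)) (K : Type u) [Field K] [Algebra k K]
    (h : ∃ (n : ℕ) (i : pullback p (Spec.map (CommRingCat.ofHom (algebraMap k K))) ⟶ CohB1.ProjSpaceOver n (Spec (CommRingCat.of K))),
      IsImmersion i ∧ i ≫ CohB1.ProjSpaceOver.toBase n (Spec (CommRingCat.of K)) = pullback.snd p (Spec.map (CommRingCat.ofHom (algebraMap k K)))) :
    ∃ (n : ℕ) (i : X ⟶ CohB1.ProjSpaceOver n (Spec (CommRingCat.of k))),
      IsImmersion i ∧ i ≫ CohB1.ProjSpaceOver.toBase n (Spec (CommRingCat.of k)) = p := by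
  obtain ⟨n, i, hi, hip⟩ := h
  exact GrothLib.AmpSpread10.exists_immersion_of_field _ p i hip

end Groth.Agent.S4830
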