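import Groth.Prelude
import Groth.Agent.Lib.FibModLocus10.LocFree
import Groth.Agent.Lib.CritMod6.BaseChange
import Groth.Agent.Lib.FibClos.Conseq
import Groth.Agent.Lib.FlatFP.SheafFlat
import Groth.Agent.Lib.FibPd.CompDims

set_option autoImplicit false
open CategoryTheory AlgebraicGeometry
universe u
namespace Cons9
end Cons9
open Cons9

namespace Groth.Agent.S4833

open CategoryTheory.Limits in
/-- Let S be an integral Noetherian scheme with generic point η, let g : X ⟶ Y be an S-morphism between
schemes of finite type over S (structure morphisms h : Y ⟶ S and g ≫ h), and let F be a coherent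
O_X-module. For s in S write g_s : X_s ⟶ Y_s for the morphism induced on the fibres over s and F_s
for the pullback of F to X_s. If F_η is not flat relative to g_η (not flat over O_{Y_η, g_η(x)} at
some point x of X_η), then there is an open neighbourhood U of η such that for every s in U the
module F_s is not flat relative to g_s. -/
theorem result {X Y S : Scheme.{u}} [IsIntegral S] [IsNoetherian S]
    (g : X ⟶ Y) (h : Y ⟶ S) [LocallyOfFiniteType h] [QuasiCompact h]
    [LocallyOfFiniteType (g ≫ h)] [QuasiCompact (g ≫ h)]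
    (F : X.Modules) [Coh.IsQCoh F] (hF : CohB1.IsFP F)
    (hη : ¬ FlatMod.IsFlatOver
      (pullback.lift (pullback.fst (g ≫ h) (S.fromSpecResidueField (genericPoint S)) ≫ g)
          (pullback.snd (g ≫ h) (S.fromSpecResidueField (genericPoint S)))
          ((Category.assoc _ _ _).trans pullback.condition) :
        pullback (g ≫ h) (S.fromSpecResidueField (genericPoint S)) ⟶ pullback h (S.fromSpecResidueField (genericPoint S)))
      ((Scheme.Modules.pullback (pullback.fst (g ≫ h) (S.fromSpecResidueField (genericPoint S)))).obj F)) :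
    ∃ U : S.Opens, genericPoint S ∈ U ∧ ∀ s ∈ U, ¬ FlatMod.IsFlatOver
      (pullback.lift (pullback.fst (g ≫ h) (S.fromSpecResidueField s) ≫ g) (pullback.snd (g ≫ h) (S.fromSpecResidueField s))
          ((Category.assoc _ _ _).trans pullback.condition) :
        pullback (g ≫ h) (S.fromSpecResidueField s) ⟶ pullback h (S.fromSpecResidueField s))
      ((Scheme.Modules.pullback (pullback.fst (g ≫ h) (S.fromSpecResidueField s))).obj F) := by
  haveI : F.IsQuasicoherent := GrothLib.FibPd.isQuasicoherent_of_isFP hF
  haveI : IsLocallyNoetherian X := LocallyOfFiniteType.isLocallyNoetherian (g ≫ h)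
  haveI : CompactSpace X := QuasiCompact.compactSpace_of_compactSpace (g ≫ h)
  haveI : IsNoetherian X := ⟨⟩
  haveI : LocallyOfFinitePresentation (g ≫ h) := inferInstance
  haveI : LocallyOfFinitePresentation g := GrothLib.DiagGrp.lfp_of_comp_of_lft g h inferInstance inferInstance
  have hFT : CohB1.IsFT F := (GrothLib.QCoh.isFiniteType_iff_moduleFinite _).2 fun U hU => by
    haveI := GrothLib.FlatFP.finitePresentation_sections F hF hU
    infer_instance
  obtain ⟨U, hUne, hU⟩ := GrothLib.GenFree.exists_isFlatOverAt (g ≫ h) F hFT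
  have hηU : genericPoint S ∈ U := ((genericPoint_spec S).mem_open_set_iff U.isOpen).2 (by simpa using hUne)
  let N : Set X := {x | FlatMod.IsFlatOverAt g F x}ᶜ
  have hE : Topology.IsConstructible ((g ≫ h) '' N) := (g ≫ h).isConstructible_image
    ((TopologicalSpace.NoetherianSpace.isCompact _).isConstructible (GrothLib.FlatFP.isOpen_flatLocus g F hF)).compl
  have key : ∀ s ∈ U, ∀ z : ↥(pullback (g ≫ h) (S.fromSpecResidueField s)),
      (FlatMod.IsFlatOverAt (GrothLib.FibClos.fib g h s)
          ((Scheme.Modules.pullback (pullback.fst (g ≫ h) (S.fromSpecResidueField s))).obj F) z ↔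
        FlatMod.IsFlatOverAt g F (pullback.fst (g ≫ h) (S.fromSpecResidueField s) z)) := fun s hs z =>
    GrothLib.CritMod6.isFlatOverAt_baseChange_iff g h F hF (S.fromSpecResidueField s)
      (pullback.fst h (S.fromSpecResidueField s)) (pullback.snd h (S.fromSpecResidueField s))
      (IsPullback.of_hasPullback _ _) (pullback.fst (g ≫ h) (S.fromSpecResidueField s)) (GrothLib.FibClos.fib g h s)
      (by rw [pullback.lift_snd]; exact IsPullback.of_hasPullback _ _) (pullback.lift_fst _ _ _).symm z
      (hU _ (by
        show (g ≫ h) ((g ≫ h).fiberι s z) ∈ U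
        rw [GrothLib.FibreFlat.fiberι_comp_apply]; exact hs))
  have hηE : genericPoint S ∈ (g ≫ h) '' N := by
    obtain ⟨z, hz⟩ := not_forall.1 hη
    exact ⟨_, fun hfl => hz ((key _ hηU z).2 hfl), GrothLib.FibreFlat.fiberι_comp_apply (g ≫ h) _ z⟩
  obtain ⟨y, hy⟩ := GrothLib.ConsLim.interior_nonempty_of_genericPoint_mem hE hηE
  refine ⟨U ⊓ ⟨_, isOpen_interior⟩, ⟨hηU, (genericPoint_specializes y).mem_open isOpen_interior hy⟩,
    fun s hs hflat => ?_⟩
  obtain ⟨x, hx, hxs⟩ := interior_subset hs.2
  obtain ⟨z, rfl⟩ : x ∈ Set.range ((g ≫ h).fiberι s) := by rw [Scheme.Hom.range_fiberι]; exact hxs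
  exact hx ((key s hs.1 z).1 (hflat z))

end Groth.Agent.S4833
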