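import Groth.Statements.S4836
import Mathlib

set_option autoImplicit false
universe u
open Cons9

namespace Groth.Agent.S4836

/-- Principle of finite extension. Let k be a field and C a property of extension fields of k (in a
fixed universe) satisfying: (i) if K has C and there is a k-homomorphism K → K', then K' has C; (ii)
if K has C, some subextension K' of K finitely generated over k has C; (iii) if K has C and K is the
field of fractions of an integral k-algebra of finite type A, then there is a nonzero f in A such
that every field quotient of A_f (as a k-algebra) has C. If some extension of k has C, then some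
finite extension of k has C (and then, by (i), so does every algebraically closed extension). -/
theorem result {k : Type u} [Field k]
    (C : ∀ (K : Type u) [Field K] [Algebra k K], Prop)
    (h₁ : ∀ (K K' : Type u) [Field K] [Algebra k K] [Field K'] [Algebra k K'],
      Nonempty (K →ₐ[k] K') → C K → C K')
    (h₂ : ∀ (K : Type u) [Field K] [Algebra k K], C K →
      ∃ K' : IntermediateField k K, K'.FG ∧ C K')
    (h₃ : ∀ (A K : Type u) [CommRing A] [IsDomain A] [Algebra k A] [Algebra.FiniteType k A]
      [Field K] [Algebra k K] [Algebra A K] [IsScalarTower k A K] [IsFractionRing A K], C K →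
      ∃ f : A, f ≠ 0 ∧ ∀ (K' : Type u) [Field K'] [Algebra k K'] (φ : Localization.Away f →ₐ[k] K'),
        Function.Surjective φ → C K')
    (hC : ∃ (K : Type u) (_ : Field K) (_ : Algebra k K), C K) :
    ∃ (K' : Type u) (_ : Field K') (_ : Algebra k K'), Module.Finite k K' ∧ C K' := by
  obtain ⟨K, _, _, hK⟩ := hC
  obtain ⟨K₁, hfg, hK₁⟩ := h₂ K hK
  obtain ⟨S, rfl⟩ := hfg
  haveI : Algebra.FiniteType k ↥(Algebra.adjoin k (↑S : Set K)) :=
    (Subalgebra.fg_iff_finiteType _).mp (Subalgebra.fg_adjoin_finset S)
  open scoped IntermediateField.algebraAdjoinAdjoin in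
  obtain ⟨f, hf, hC'⟩ := h₃ ↥(Algebra.adjoin k (↑S : Set K))
    ↥(IntermediateField.adjoin k (↑S : Set K)) hK₁
  set B := Localization.Away f
  haveI : Nontrivial B := by
    refine ⟨0, 1, fun h => hf ?_⟩
    have h1 : algebraMap _ B f = 0 := by rw [← mul_one (algebraMap _ B f), ← h, mul_zero]
    exact (IsLocalization.injective B (powers_le_nonZeroDivisors_of_noZeroDivisors hf)) (h1.trans (map_zero _).symm)
  haveI : Algebra.FiniteType (↥(Algebra.adjoin k (↑S : Set K))) B :=
    IsLocalization.finiteType_of_monoid_fg (Submonoid.powers f) B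
  haveI : Algebra.FiniteType k B :=
    Algebra.FiniteType.trans (inferInstance : Algebra.FiniteType k ↥(Algebra.adjoin k (↑S : Set K))) inferInstance
  obtain ⟨m, hm⟩ := Ideal.exists_maximal B
  letI : Field (B ⧸ m) := Ideal.Quotient.field m
  haveI : Algebra.FiniteType k (B ⧸ m) :=
    Algebra.FiniteType.of_surjective (Ideal.Quotient.mkₐ k m) Ideal.Quotient.mk_surjective
  exact ⟨B ⧸ m, inferInstance, inferInstance, finite_of_finite_type_of_isJacobsonRing k (B ⧸ m),
    hC' _ (Ideal.Quotient.mkₐ k m) Ideal.Quotient.mk_surjective⟩

end Groth.Agent.S4836
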