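import Groth.Statements.S4837
import Groth.Agent.Lib.RLpsi8.ImmKer

set_option autoImplicit false
open CategoryTheory AlgebraicGeometry
universe u
open Lim8

namespace Groth.Agent.S4837

/-- Let f : X ⟶ Y be a quasi-compact quasi-separated morphism, C a quasi-coherent O_Y-algebra with
relative spectrum Z = Spec(C) over Y, g : X ⟶ Z a Y-morphism which is an immersion, and φ : C ⟶
f_*O_X the homomorphism of O_Y-algebras corresponding to g (the canonical identification of C with
the direct image of O_Z followed by the map induced by g). Then the scheme-theoretic image of g is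
the whole of Z, i.e. the kernel ideal of g vanishes, if and only if φ is injective; and when this
holds g is an open immersion. -/
theorem result {X Y : Scheme.{u}} (f : X ⟶ Y)
    [QuasiCompact f] [QuasiSeparated f] (C : RelSpec.QCAlg Y) (g : X ⟶ C.spec) (w : g ≫ C.π = f)
    [IsImmersion g] (φ : C ⟶ RelSpec.QCAlg.directImage f)
    (hφ : C.gammaMap ≫ φ.hom = AffAlg.algHom C.π f g w) :
    (g.ker = ⊥ ↔ ∀ U : Y.Opens, Function.Injective (φ.hom.app (Opposite.op U)).hom) ∧
      (g.ker = ⊥ → IsOpenImmersion g) := by
  exact RLpsi8.S4837 f C g w φ hφ

end Groth.Agent.S4837
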