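import Groth.Statements.S4840
import Groth.Agent.Lib.LimExact8.Basic
import Groth.Agent.Lib.QCoh.Abelian

set_option autoImplicit false
universe u
open CategoryTheory AlgebraicGeometry
open Lim8

namespace Groth.Agent.S4840

/-- Let S = lim S_i be a cofiltered limit of schemes whose transition maps are affine and flat, and
S_{i₀} a quasi-compact stage; let f₀ : F₀ ⟶ G₀ and g₀ : G₀ ⟶ H₀ be homomorphisms of quasi-coherent
O-modules on S_{i₀} such that the image of f₀ and the kernel of g₀ are O-modules of finite type.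
Then the pulled-back sequence F ⟶ G ⟶ H on S is exact (the composite is zero and the sequence is
exact at G) if and only if, for some index j over i₀, the pulled-back sequence F_j ⟶ G_j ⟶ H_j on
S_j is exact. -/
theorem result {I : Type u} [SmallCategory I] [IsCofiltered I]
    (D : I ⥤ Scheme.{u}) (c : Limits.Cone D) (hc : Limits.IsLimit c)
    [∀ (i j : I) (f : i ⟶ j), IsAffineHom (D.map f)] (i₀ : I) [CompactSpace (D.obj i₀)]
    [∀ (i j : I) (f : i ⟶ j), Flat (D.map f)]
    {F₀ G₀ H₀ : (D.obj i₀).Modules} [Coh.IsQCoh F₀] [Coh.IsQCoh G₀] [Coh.IsQCoh H₀]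
    (f₀ : F₀ ⟶ G₀) (g₀ : G₀ ⟶ H₀)
    (hIm : CohB1.IsFT (Limits.image f₀)) (hKer : CohB1.IsFT (Limits.kernel g₀)) :
    (∃ w : (Scheme.Modules.pullback (c.π.app i₀)).map f₀ ≫ (Scheme.Modules.pullback (c.π.app i₀)).map g₀ = 0, (ShortComplex.mk _ _ w).Exact) ↔
      ∃ (j : I) (φ : j ⟶ i₀) (w : (Scheme.Modules.pullback (D.map φ)).map f₀ ≫ (Scheme.Modules.pullback (D.map φ)).map g₀ = 0),
        (ShortComplex.mk _ _ w).Exact := by
  haveI hπ : Flat (c.π.app i₀) := GrothLib.ConsLim.flat_π hc i₀ fun j φ => inferInstance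
  haveI : (Limits.kernel g₀).IsQuasicoherent := GrothLib.QCoh.isQuasicoherent_kernel g₀
  haveI : (Limits.image f₀).IsQuasicoherent := by
    haveI := GrothLib.QCoh.isQuasicoherent_image f₀
    exact (SheafOfModules.isQuasicoherent (D.obj i₀).ringCatSheaf).prop_of_iso (Abelian.imageIsoImage f₀) ‹_›
  have hE := (GrothLib.LimExact8.isOpen_stalk_map_eq_zero hIm (Limits.image.ι f₀ ≫ g₀)).inter
    (GrothLib.LimExact8.isOpen_stalk_map_eq_zero hKer (Limits.kernel.ι g₀ ≫ Limits.cokernel.π f₀))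
  rw [GrothLib.LimExact8.exact_pullback_iff]
  constructor
  · intro h
    obtain ⟨j, φ, hj⟩ := GrothLib.Neutral.exists_stage_range_subset D c hc i₀
      (GrothLib.Constr.isIndConstructible_of_isOpen hE) (by rintro _ ⟨y, rfl⟩; exact h y)
    exact ⟨j, φ, (GrothLib.LimExact8.exact_pullback_iff (D.map φ) f₀ g₀).2 fun y => hj ⟨y, rfl⟩⟩
  · rintro ⟨j, φ, hm⟩ y
    have h := (GrothLib.LimExact8.exact_pullback_iff (D.map φ) f₀ g₀).1 hm (c.π.app j y)
    rw [← c.w φ]
    exact h

end Groth.Agent.S4840
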