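import Groth.Prelude
import Groth.Agent.Lib.AmpSpread10.QProjFibre

set_option autoImplicit false
open CategoryTheory AlgebraicGeometry
universe u
namespace Cons9
end Cons9
open Cons9

namespace Groth.Agent.S4843

open CategoryTheory.Limits in
/-- Let g : Y ⟶ S and f : X ⟶ Y be such that X and Y are of finite presentation over S (locally of
finite presentation, quasi-compact and quasi-separated). For each point s of S let f_s : X_s ⟶ Y_s
be the morphism induced on the fibres over s. Then the set of s for which f_s is projective (X_s is
isomorphic over Y_s to the homogeneous spectrum of a quasi-coherent graded O_{Y_s}-algebra generated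
by its degree-one part, which is of finite type) is ind-constructible in S. -/
theorem result {X Y S : Scheme.{u}} (f : X ⟶ Y) (g : Y ⟶ S)
    [LocallyOfFinitePresentation g] [QuasiCompact g] [QuasiSeparated g]
    [LocallyOfFinitePresentation (f ≫ g)] [QuasiCompact (f ≫ g)] [QuasiSeparated (f ≫ g)] :
    ProCons.IsIndConstructible {s : S |
      RelProj.IsProjective
        (pullback.lift (pullback.fst (f ≫ g) (S.fromSpecResidueField s) ≫ f) (pullback.snd (f ≫ g) (S.fromSpecResidueField s))
          ((Category.assoc _ _ _).trans pullback.condition) :
        pullback (f ≫ g) (S.fromSpecResidueField s) ⟶ pullback g (S.fromSpecResidueField s))} := by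
  haveI : LocallyOfFinitePresentation f := GrothLib.DiagGrp.lfp_of_comp_of_lft f g inferInstance inferInstance
  haveI : QuasiCompact f := QuasiCompact.of_comp f g
  haveI : QuasiSeparated f := QuasiSeparated.of_comp f g
  convert GrothLib.AmpSpread10.isIndConstructible_fibre f g GrothLib.AmpSpread10.ProperRelAmple
    GrothLib.AmpSpread10.descendsToStage_properRelAmple
    (GrothLib.AmpSpread10.descendsAlongFieldExt_properRelAmple f g) using 1
  ext s
  haveI : QuasiCompact (pullback.snd g (S.fromSpecResidueField s)) := MorphismProperty.pullback_snd _ _ inferInstance
  haveI : QuasiSeparated (pullback.snd g (S.fromSpecResidueField s)) := MorphismProperty.pullback_snd _ _ inferInstance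
  haveI : CompactSpace (pullback g (S.fromSpecResidueField s) : Scheme.{u}) :=
    QuasiCompact.compactSpace_of_compactSpace (pullback.snd g (S.fromSpecResidueField s))
  haveI : QuasiSeparatedSpace (pullback g (S.fromSpecResidueField s) : Scheme.{u}) :=
    quasiSeparatedSpace_of_quasiSeparated (pullback.snd g (S.fromSpecResidueField s))
  exact GrothLib.AmpSpread10.isProjective_iff _

end Groth.Agent.S4843
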