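import Groth.Prelude
import Groth.Agent.Lib.AmpSpread10.IndRelAmple

set_option autoImplicit false
universe u
open CategoryTheory AlgebraicGeometry
namespace Lim8
end Lim8
open Lim8

namespace Groth.Agent.S4846

/-- Let S = lim S_i be a cofiltered limit of schemes with affine transition maps and S_{i₀} a
quasi-compact stage; let X₀ and Y₀ be schemes of finite presentation over S_{i₀}, f₀ : X₀ ⟶ Y₀ an
S_{i₀}-morphism and L₀ an invertible O_{X₀}-module. Let f : X ⟶ Y be the base change of f₀ along S ⟶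
S_{i₀} and L the pullback of L₀ to X (base changes are expressed by pullback squares). Then L is
ample relative to f if and only if, for some index j over i₀, the pullback L_j of L₀ to X_j is ample
relative to the base change f_j : X_j ⟶ Y_j of f₀ along S_j ⟶ S_{i₀}. This is the case of relative
ampleness (the very ample case is not stated here). -/
theorem result {I : Type u} [SmallCategory I] [IsCofiltered I]
    (D : I ⥤ Scheme.{u}) (c : Limits.Cone D) (hc : Limits.IsLimit c)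
    [∀ (i j : I) (f : i ⟶ j), IsAffineHom (D.map f)] (i₀ : I) [CompactSpace (D.obj i₀)]
    {X₀ Y₀ : Scheme.{u}} (f₀ : X₀ ⟶ Y₀) (g₀ : Y₀ ⟶ D.obj i₀)
    [LocallyOfFinitePresentation g₀] [QuasiCompact g₀] [QuasiSeparated g₀]
    [LocallyOfFinitePresentation (f₀ ≫ g₀)] [QuasiCompact (f₀ ≫ g₀)] [QuasiSeparated (f₀ ≫ g₀)]
    (L₀ : X₀.Modules) (hL₀ : PicF.IsInvertible L₀)
    {X Y : Scheme.{u}} (f : X ⟶ Y) (g : Y ⟶ c.pt) (qY : Y ⟶ Y₀) (qX : X ⟶ X₀)
    (hY : IsPullback qY g g₀ (c.π.app i₀)) (hX : IsPullback qX f f₀ qY) :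
    RelAmple.IsRelAmple f ((Scheme.Modules.pullback qX).obj L₀) ↔
      ∃ (j : I) (φ : j ⟶ i₀) (Xj Yj : Scheme.{u}) (fj : Xj ⟶ Yj) (gj : Yj ⟶ D.obj j) (pY : Yj ⟶ Y₀)
        (pX : Xj ⟶ X₀), IsPullback pY gj g₀ (D.map φ) ∧ IsPullback pX fj f₀ pY ∧
          RelAmple.IsRelAmple fj ((Scheme.Modules.pullback pX).obj L₀) := by
  haveI : QuasiCompact f₀ := QuasiCompact.of_comp f₀ g₀
  haveI : QuasiSeparated f₀ := QuasiSeparated.of_comp f₀ g₀
  haveI : CompactSpace Y₀ := QuasiCompact.compactSpace_of_compactSpace g₀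
  constructor
  · intro h
    obtain ⟨j, hj⟩ := GrothLib.AmpSpread10.exists_stage_isRelAmple D hc f₀ g₀ hY hX hL₀ h
    exact ⟨j.left, j.hom, _, _, _, Limits.pullback.snd g₀ (D.map j.hom), Limits.pullback.fst g₀ (D.map j.hom),
      Limits.pullback.fst (f₀ ≫ g₀) (D.map j.hom), IsPullback.of_hasPullback _ _,
      GrothLib.LimDesc.isPullback_mapNat D i₀ g₀ (f₀ ≫ g₀) f₀ rfl j, hj⟩
  · rintro ⟨j, φ, Xj, Yj, fj, gj, pY, pX, hpY, hpX, h⟩
    haveI : QuasiCompact fj := MorphismProperty.of_isPullback (P := @QuasiCompact) hpX inferInstance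
    let qY' := hpY.lift qY (g ≫ c.π.app j) (by rw [Category.assoc, c.w]; exact hY.w)
    have e1 : qY' ≫ pY = qY := hpY.lift_fst _ _ _
    let qX' := hpX.lift qX (f ≫ qY') (by rw [Category.assoc, e1]; exact hX.w)
    have hq : IsPullback qX' f fj qY' := by
      refine IsPullback.of_right ?_ (hpX.lift_snd _ _ _) hpX
      rw [hpX.lift_fst, e1]
      exact hX
    exact GrothLib.RelProjK.isRelAmple_of_iso
      ((Scheme.Modules.pullbackCongr (hpX.lift_fst qX (f ≫ qY') _).symm).app L₀ ≪≫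
        ((Scheme.Modules.pullbackComp qX' pX).app L₀).symm)
      (GrothLib.AmpSpread10.isRelAmple_of_square hq h)

end Groth.Agent.S4846
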