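import Groth.Statements.S4847
import Groth.Agent.S0392
import Groth.Agent.Lib.NormFlat.Connected
import Groth.Agent.Lib.FlatFP.Sheaf

set_option autoImplicit false
universe u
open EGA43

namespace Groth.Agent.S4847

open scoped TensorProduct
set_option linter.style.haveILetI false
set_option backward.isDefEq.respectTransparency false

open AlgebraicGeometry CategoryTheory Limits in
/-- Case 1° (fibrewise flatness criterion for locally Noetherian schemes): let S, X and Y be locally
Noetherian schemes, f : X ⟶ Y and h : Y ⟶ S arbitrary morphisms, F a coherent O_X-module and x a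
point of X with images y in Y and s in S, such that the stalk F_x is nonzero. Then F is flat over S
at x and F_x / m_s F_x is flat over O_{Y,y} / m_s O_{Y,y} (that is, the fibre module F_s is flat
over the fibre Y_s at x) if and only if h is flat at y and F is flat over Y at x. No finiteness
hypothesis on f or h is required in this case. -/
theorem result {X Y S : Scheme.{u}}
    [IsLocallyNoetherian X] [IsLocallyNoetherian Y] [IsLocallyNoetherian S]
    (f : X ⟶ Y) (h : Y ⟶ S) (F : X.Modules) (hF : Coh.IsCoh F) (x : X)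
    (hx : Nontrivial ↑(F.presheaf.stalk x)) :
    letI := FlatMod.moduleStalkOver f F x
    (FlatMod.IsFlatOverAt (f ≫ h) F x ∧
      Module.Flat (↑(Y.presheaf.stalk (f x)) ⧸ Ideal.map (h.stalkMap (f x)).hom (IsLocalRing.maximalIdeal ↑(S.presheaf.stalk (h (f x)))))
        (↑(F.presheaf.stalk x) ⧸ (Ideal.map (h.stalkMap (f x)).hom (IsLocalRing.maximalIdeal ↑(S.presheaf.stalk (h (f x)))) •
          (⊤ : Submodule ↑(Y.presheaf.stalk (f x)) ↑(F.presheaf.stalk x))))) ↔
    ((h.stalkMap (f x)).hom.Flat ∧ FlatMod.IsFlatOverAt f F x) := by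
  let R := S.presheaf.stalk (h (f x))
  let S₁ := Y.presheaf.stalk (f x)
  let S' := X.presheaf.stalk x
  let M := F.presheaf.stalk x
  letI : Algebra R S₁ := (h.stalkMap (f x)).hom.toAlgebra
  letI : Algebra S₁ S' := (f.stalkMap x).hom.toAlgebra
  letI : Algebra R S' := ((f.stalkMap x).hom.comp (h.stalkMap (f x)).hom).toAlgebra
  haveI : IsScalarTower R S₁ S' := IsScalarTower.of_algebraMap_eq' rfl
  letI : Module S₁ M := FlatMod.moduleStalkOver f F x
  haveI : IsScalarTower S₁ S' M := IsScalarTower.of_algebraMap_smul fun _ _ => rfl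
  let m₁ : Module R M := FlatMod.moduleStalkOver (f ≫ h) F x
  letI : Module R M := Module.compHom M (h.stalkMap (f x)).hom
  haveI : IsScalarTower R S₁ M := IsScalarTower.of_algebraMap_smul fun _ _ => rfl
  haveI : IsLocalHom (algebraMap R S₁) := inferInstanceAs (IsLocalHom (h.stalkMap (f x)).hom)
  haveI : IsLocalHom (algebraMap S₁ S') := inferInstanceAs (IsLocalHom (f.stalkMap x).hom)
  haveI : Module.Finite S' M := GrothLib.NormFlat.finite_stalk hF x
  haveI : Nontrivial M := hx
  let I : Ideal S₁ := (IsLocalRing.maximalIdeal R).map (algebraMap R S₁)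
  have hmod : ∀ (r : R) (m : M),
      @HSMul.hSMul R M M (@instHSMul R M m₁.toSMul) r m = r • m := fun r m => by
    show ((f ≫ h).stalkMap x).hom r • m = (f.stalkMap x).hom ((h.stalkMap (f x)).hom r) • m
    rw [Scheme.Hom.stalkMap_comp]
    rfl
  have hiff : FlatMod.IsFlatOverAt (f ≫ h) F x ↔ Module.Flat R M := by
    unfold FlatMod.IsFlatOverAt
    have he : m₁ = (inferInstance : Module R M) := Module.ext' _ _ hmod
    show @Module.Flat R M _ _ m₁ ↔ _
    rw [he]
  have hq : Module.Flat (S₁ ⧸ I) (M ⧸ (I • (⊤ : Submodule S₁ M))) ↔ Module.Flat (S₁ ⧸ I) ((S₁ ⧸ I) ⊗[S₁] M) :=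
    let e := (TensorProduct.quotTensorEquivQuotSMul M I).extendScalarsOfSurjective Ideal.Quotient.mk_surjective
    ⟨fun _ => Module.Flat.of_linearEquiv e, fun _ => Module.Flat.of_linearEquiv e.symm⟩
  rw [hiff]
  constructor
  · rintro ⟨h1, h2⟩
    haveI := h1
    obtain ⟨a, b⟩ := Groth.Agent.S0392.result (R := R) (S := S₁) (S' := S') (M := M) (hq.1 h2)
    exact ⟨a, b⟩
  · rintro ⟨h1, h2⟩
    haveI : Module.Flat R S₁ := h1
    haveI : Module.Flat S₁ M := h2
    exact ⟨Module.Flat.trans R S₁ M, hq.2 (Module.Flat.baseChange S₁ (S₁ ⧸ I) M)⟩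

end Groth.Agent.S4847
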