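import Groth.Statements.S4848
import Groth.Agent.Lib.FlatLimit.Global

set_option autoImplicit false
universe u
open TensorProduct
open EGA43

namespace Groth.Agent.S4848

/-- Let A₀ be a commutative ring, (A_i) a directed system of A₀-algebras with colimit A, B₀ a finitely
presented A₀-algebra and M₀ a finitely presented B₀-module. Then the A-module A ⊗_{A₀} M₀ is flat if
and only if, for some index i, the A_i-module A_i ⊗_{A₀} M₀ is flat. -/
theorem result {A₀ : Type u} [CommRing A₀]
    {ι : Type u} [Preorder ι] (G : ι → Type u) [∀ i, CommRing (G i)] [∀ i, Algebra A₀ (G i)]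
    (g : ∀ i j, i ≤ j → G i →ₐ[A₀] G j)
    (A : Type u) [CommRing A] [Algebra A₀ A] [∀ i, Algebra (G i) A] [∀ i, IsScalarTower A₀ (G i) A]
    (hcolim : FlatCA.IsDirectedColimitRing G (fun i j h => (g i j h).toRingHom) A)
    {B₀ : Type u} [CommRing B₀] [Algebra A₀ B₀] [Algebra.FinitePresentation A₀ B₀]
    (M₀ : Type u) [AddCommGroup M₀] [Module B₀ M₀] [Module A₀ M₀] [IsScalarTower A₀ B₀ M₀]
    [Module.FinitePresentation B₀ M₀] :
    Module.Flat A (A ⊗[A₀] M₀) ↔ ∃ i : ι, Module.Flat (G i) (G i ⊗[A₀] M₀) := by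
  classical
  obtain ⟨hdirι, hne, hrefl, htrans, hcomm, hsurj, hzero⟩ := hcolim
  constructor
  · intro hA
    refine GrothLib.FlatLimit.exists_stage_flat (A := A) G (fun i i' => ?_) (fun T => ?_) (fun i p hp => ?_)
      B₀ M₀
    · obtain ⟨j, h, h'⟩ := directed_of (· ≤ ·) i i'
      exact ⟨j, g i j h, g i' j h', fun x => RingHom.congr_fun (hcomm i j h) x,
        fun x => RingHom.congr_fun (hcomm i' j h') x⟩
    · induction T using Finset.induction_on with
      | empty => exact ⟨hne.some, by simp⟩
      | insert a T _ ih =>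
        obtain ⟨i, hi⟩ := ih
        obtain ⟨i', x, hx⟩ := hsurj a
        obtain ⟨j, h, h'⟩ := directed_of (· ≤ ·) i i'
        refine ⟨j, fun b hb => ?_⟩
        rcases Finset.mem_insert.1 (Finset.mem_coe.1 hb) with rfl | hb
        · exact ⟨g i' j h' x, (RingHom.congr_fun (hcomm i' j h') x).trans hx⟩
        · obtain ⟨y, hy⟩ := hi (Finset.mem_coe.2 hb)
          exact ⟨g i j h y, (RingHom.congr_fun (hcomm i j h) y).trans hy⟩
    · induction p using Finset.induction_on with
      | empty => exact ⟨i, AlgHom.id A₀ (G i), fun _ => rfl, by simp⟩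
      | insert a p _ ih =>
        obtain ⟨j, ψ, hψ, hψp⟩ := ih fun x hx => hp x (Finset.mem_insert_of_mem hx)
        obtain ⟨k, h, hk⟩ := hzero j (ψ a.1 - ψ a.2) (by
          rw [map_sub, hψ, hψ, hp a (Finset.mem_insert_self a p), sub_self])
        refine ⟨k, (g j k h).comp ψ, fun x => ?_, fun x hx => ?_⟩
        · exact (RingHom.congr_fun (hcomm j k h) (ψ x)).trans (hψ x)
        · rcases Finset.mem_insert.1 hx with rfl | hx
          · have hk' : g j k h (ψ x.1 - ψ x.2) = 0 := hk
            rw [map_sub] at hk'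
            exact sub_eq_zero.1 hk'
          · rw [AlgHom.comp_apply, AlgHom.comp_apply, hψp x hx]
  · rintro ⟨i, hi⟩
    haveI := hi
    exact Module.Flat.of_linearEquiv
      (TensorProduct.AlgebraTensorModule.cancelBaseChange A₀ (G i) A A M₀).symm

end Groth.Agent.S4848
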