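import Groth.Statements.S4850
import Groth.Agent.Lib.FibreFlat.InjLocal
import Groth.Agent.Lib.FibreFlat.Stalk
import Groth.Agent.Lib.FlatFP.InjCokerSheaf

set_option autoImplicit false
universe u
open EGA43
open CategoryTheory.Limits TensorProduct

namespace Groth.Agent.S4850

open AlgebraicGeometry CategoryTheory Limits in
/-- Equivalence of a: and b)): let f : X ⟶ Y be locally of finite presentation, F and F' quasi-coherent
O_X-modules of finite presentation, u : F' ⟶ F a homomorphism and x a point with y = f x, such that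
F is f-flat at x. Then the stalk map u_x is injective and Coker u is f-flat at x, if and only if u_x
induces an injective map F'_x / m_y F'_x → F_x / m_y F_x. The second condition is written out: an
element of F'_x whose image under u_x lies in m_y F_x already lies in m_y F'_x. (The vanishing of
the stalk (Ker u)_x is expressed as injectivity of u_x.) -/
theorem result {X Y : Scheme.{u}} (f : X ⟶ Y)
    [LocallyOfFinitePresentation f] (F F' : X.Modules) [Coh.IsQCoh F] [Coh.IsQCoh F']
    (hF : CohB1.IsFP F) (hF' : CohB1.IsFP F') (u : F' ⟶ F) (x : X) (hflat : FlatMod.IsFlatOverAt f F x) :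
    letI J : Ideal ↑(X.presheaf.stalk x) :=
      Ideal.map (f.stalkMap x).hom (IsLocalRing.maximalIdeal ↑(Y.presheaf.stalk (f x)))
    letI ux := (TopCat.Presheaf.stalkFunctor Ab x).map (Scheme.Modules.Hom.mapPresheaf u)
    (Function.Injective ux ∧ FlatMod.IsFlatOverAt f (cokernel u) x) ↔
      ∀ m : ↑(F'.presheaf.stalk x),
        ux m ∈ (J • (⊤ : Submodule ↑(X.presheaf.stalk x) ↑(F.presheaf.stalk x))) →
          m ∈ (J • (⊤ : Submodule ↑(X.presheaf.stalk x) ↑(F'.presheaf.stalk x))) := by
  haveI : F.IsQuasicoherent := ‹Coh.IsQCoh F›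
  haveI : F'.IsQuasicoherent := ‹Coh.IsQCoh F'›
  let R := Y.presheaf.stalk (f x)
  let S := X.presheaf.stalk x
  let N := F.presheaf.stalk x
  let M := F'.presheaf.stalk x
  letI : Algebra R S := (f.stalkMap x).hom.toAlgebra
  letI : Module R N := FlatMod.moduleStalkOver f F x
  letI : Module R M := FlatMod.moduleStalkOver f F' x
  haveI : IsScalarTower R S N := IsScalarTower.of_algebraMap_smul fun _ _ => rfl
  haveI : IsScalarTower R S M := IsScalarTower.of_algebraMap_smul fun _ _ => rfl
  haveI : IsLocalHom (algebraMap R S) := inferInstanceAs (IsLocalHom (f.stalkMap x).hom)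
  obtain ⟨U, hU, hxU, -⟩ :=
    exists_isAffineOpen_mem_and_subset (show x ∈ (⊤ : X.Opens) from trivial)
  have hfp : ∀ (G : X.Modules) [G.IsQuasicoherent], CohB1.IsFP G →
      Module.FinitePresentation S (G.presheaf.stalk x) := by
    intro G _ hG
    letI := X.presheaf.algebra_section_stalk ⟨x, hxU⟩
    haveI := GrothLib.FlatFP.isLocalization_stalk_primeAt hU hxU
    letI : Module Γ(X, U) (G.presheaf.stalk x) := Module.compHom _ (X.presheaf.germ U x hxU).hom
    haveI : IsScalarTower Γ(X, U) S (G.presheaf.stalk x) :=
      IsScalarTower.of_algebraMap_smul fun _ _ => rfl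
    obtain ⟨g, hg, -⟩ := GrothLib.FlatFP.isLocalizedModule_germ G hU hxU
    haveI := GrothLib.FlatFP.finitePresentation_sections G hG hU
    exact FinitePresentation.of_isBaseChange g
      (IsLocalizedModule.isBaseChange (GrothLib.WeakAss.primeAt x hxU).primeCompl S g)
  haveI : Module.FinitePresentation S N := hfp F hF
  haveI : Module.FinitePresentation S M := hfp F' hF'
  haveI : Module.Flat R N := hflat
  let φ : M →ₗ[S] N := ((GrothLib.OX.stalk x).map u).hom
  let iso : (cokernel u).presheaf.stalk x ≃ₗ[S] N ⧸ LinearMap.range φ :=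
    (PreservesCokernel.iso (GrothLib.OX.stalk x) u ≪≫
      ModuleCat.cokernelIsoRangeQuotient ((GrothLib.OX.stalk x).map u)).toLinearEquiv
  letI : Module R ((cokernel u).presheaf.stalk x) := FlatMod.moduleStalkOver f (cokernel u) x
  haveI : IsScalarTower R S ((cokernel u).presheaf.stalk x) :=
    IsScalarTower.of_algebraMap_smul fun _ _ => rfl
  show (Function.Injective φ ∧ Module.Flat R ((cokernel u).presheaf.stalk x)) ↔
    ∀ m : M, φ m ∈ (IsLocalRing.maximalIdeal R).map (algebraMap R S) • (⊤ : Submodule S N) →
      m ∈ (IsLocalRing.maximalIdeal R).map (algebraMap R S) • (⊤ : Submodule S M)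
  constructor
  · rintro ⟨hinj, hC⟩ m hm
    haveI := hC
    haveI : Module.Flat R (N ⧸ LinearMap.range φ) :=
      Module.Flat.of_linearEquiv (iso.restrictScalars R).symm
    have hk : Function.Injective ((φ.restrictScalars R).lTensor (R ⧸ IsLocalRing.maximalIdeal R)) :=
      LinearMap.lTensor_injective_of_exact_of_flat ((LinearMap.range φ).mkQ.restrictScalars R)
        (LinearMap.range φ).mkQ_surjective (φ.restrictScalars R) hinj
        (LinearMap.exact_map_mkQ_range φ) _
    have hm' : φ m ∈ IsLocalRing.maximalIdeal R • (⊤ : Submodule R N) := by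
      rw [← Submodule.restrictScalars_top R S N, ← Ideal.smul_restrictScalars]
      exact hm
    have h0 : (1 : R ⧸ IsLocalRing.maximalIdeal R) ⊗ₜ[R] m = 0 := by
      refine hk ?_
      rw [LinearMap.lTensor_tmul]
      exact ((GrothLib.Flatness.one_tmul_eq_zero_iff (IsLocalRing.maximalIdeal R) (φ m)).mpr hm').trans
        (map_zero _).symm
    have h1 := (GrothLib.Flatness.one_tmul_eq_zero_iff _ _).mp h0
    rw [← Submodule.restrictScalars_top R S M, ← Ideal.smul_restrictScalars] at h1
    exact h1
  · intro h
    obtain ⟨hinj, hC⟩ := GrothLib.FibreFlat.injective_flat_coker_local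
      (GrothLib.FibreFlat.isEssFinitePresentation_stalkMap f x) φ h
    haveI := hC
    exact ⟨hinj, Module.Flat.of_linearEquiv (iso.restrictScalars R)⟩

end Groth.Agent.S4850
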