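import Groth.Statements.S4852
import Groth.Agent.Lib.NilFree.Semilocal

set_option autoImplicit false
universe u
open TensorProduct
open EGA43

namespace Groth.Agent.S4852

/-- Let A be a semi-local ring (finitely many maximal ideals) whose Jacobson radical is nilpotent, for
instance an Artinian ring, and let (u_i : A → B_i) be a family of ring homomorphisms whose kernels
have zero intersection. Then an A-module M is flat if and only if, for every i, the B_i-module B_i
⊗_A M is flat. -/
theorem result {A : Type u} [CommRing A]
    [Finite (MaximalSpectrum A)] (hnil : IsNilpotent (Ring.jacobson A))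
    {ι : Type u} (B : ι → Type u) [∀ i, CommRing (B i)] [∀ i, Algebra A (B i)]
    (hB : ∀ a : A, (∀ i, algebraMap A (B i) a = 0) → a = 0)
    (M : Type u) [AddCommGroup M] [Module A M] :
    Module.Flat A M ↔ ∀ i, Module.Flat (B i) (B i ⊗[A] M) := by
  exact ⟨fun h i => inferInstance, GrothLib.NilFree.flat_of_semilocal hnil B hB⟩

end Groth.Agent.S4852
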