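import Groth.Statements.S4853
import Groth.Agent.Lib.NilFree.Basic

set_option autoImplicit false
universe u
open TensorProduct
open EGA43

namespace Groth.Agent.S4853

/-- Let A be a commutative ring and M an A-module such that (A/J) ⊗_A M is free over A/J for some
nilpotent ideal J of A. Then among the ideals R of A such that (A/R) ⊗_A M is free over A/R there is
a least one, R₀, which is also the least ideal R such that (A/R) ⊗_A M is flat over A/R; and for
every commutative A-algebra A', the module A' ⊗_A M is free over A' if and only if it is flat over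
A', if and only if R₀ generates the zero ideal of A'. -/
theorem result {A : Type u} [CommRing A]
    (M : Type u) [AddCommGroup M] [Module A M]
    (J : Ideal A) (hJ : IsNilpotent J) (hfree : Module.Free (A ⧸ J) ((A ⧸ J) ⊗[A] M)) :
    ∃ R₀ : Ideal A,
      IsLeast {R : Ideal A | Module.Free (A ⧸ R) ((A ⧸ R) ⊗[A] M)} R₀ ∧
      IsLeast {R : Ideal A | Module.Flat (A ⧸ R) ((A ⧸ R) ⊗[A] M)} R₀ ∧
      ∀ (A' : Type u) [CommRing A'] [Algebra A A'],
        (Module.Free A' (A' ⊗[A] M) ↔ Ideal.map (algebraMap A A') R₀ = ⊥) ∧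
        (Module.Flat A' (A' ⊗[A] M) ↔ Ideal.map (algebraMap A A') R₀ = ⊥) := by
  haveI := hfree
  obtain ⟨R₀, -, -, hR⟩ := GrothLib.NilFree.exists_ideal (M := M) J hJ
  have key : ∀ R : Ideal A, Module.Flat (A ⧸ R) ((A ⧸ R) ⊗[A] M) → R₀ ≤ R := fun R h => by
    have h1 := (hR (A ⧸ R)).2 h
    rw [Ideal.map_eq_bot_iff_le_ker] at h1
    exact h1.trans_eq (Ideal.Quotient.algebraMap_eq R ▸ Ideal.mk_ker)
  have h0 : Module.Free (A ⧸ R₀) ((A ⧸ R₀) ⊗[A] M) := (hR (A ⧸ R₀)).1 (Ideal.map_quotient_self R₀)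
  refine ⟨R₀, ⟨h0, fun R h => key R (@Module.Flat.of_free _ _ _ _ _ h)⟩,
    ⟨@Module.Flat.of_free _ _ _ _ _ h0, fun R h => key R h⟩, fun A' _ _ =>
    ⟨⟨fun h => (hR A').2 (@Module.Flat.of_free _ _ _ _ _ h), (hR A').1⟩,
      ⟨(hR A').2, fun h => @Module.Flat.of_free _ _ _ _ _ ((hR A').1 h)⟩⟩⟩

end Groth.Agent.S4853
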