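import Groth.Statements.S4856
import Groth.Agent.Lib.FlatFam5.Geometric

set_option autoImplicit false
universe u
open CategoryTheory AlgebraicGeometry
open EGA43

namespace Groth.Agent.S4856

open CategoryTheory.Limits in
/-- Let A be an Artinian local ring, f : X ⟶ Spec A locally of finite type, F a coherent O_X-module and
x a point of X. Let (u_i : A → A_i) be a family of ring homomorphisms into local rings such that an
element of A killed by every u_i is zero. If, for every i, the pullback of F to X_i = X ×_{Spec A}
Spec A_i is flat over Spec A_i at every point of X_i whose images are x in X and the closed point in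
Spec A_i, then F is f-flat at x. -/
theorem result {A : Type u} [CommRing A]
    [IsArtinianRing A] [IsLocalRing A] {X : Scheme.{u}} (f : X ⟶ Spec (CommRingCat.of A))
    [LocallyOfFiniteType f] (F : X.Modules) (hF : Coh.IsCoh F) (x : X)
    {ι : Type u} (A' : ι → Type u) [∀ i, CommRing (A' i)] [∀ i, IsLocalRing (A' i)] (u : ∀ i, A →+* A' i)
    (hu : ∀ a : A, (∀ i, u i a = 0) → a = 0)
    (hflat : ∀ (i : ι) (x' : ↥(pullback f (Spec.map (CommRingCat.ofHom (u i))))),
      pullback.fst f (Spec.map (CommRingCat.ofHom (u i))) x' = x →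
      pullback.snd f (Spec.map (CommRingCat.ofHom (u i))) x' = IsLocalRing.closedPoint (A' i) →
      FlatMod.IsFlatOverAt (pullback.snd f (Spec.map (CommRingCat.ofHom (u i))))
        ((Scheme.Modules.pullback (pullback.fst f (Spec.map (CommRingCat.ofHom (u i))))).obj F) x') :
    FlatMod.IsFlatOverAt f F x := by
  obtain ⟨R₀, h0, h1⟩ := GrothLib.FlatFam5.exists_ideal_geom f F hF x
  refine h0 (eq_bot_iff.2 fun a ha => Ideal.mem_bot.2 (hu a fun i => ?_))
  let S := Spec (CommRingCat.of (A' i))
  let c : S := IsLocalRing.closedPoint (A' i)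
  let g := Spec.map (CommRingCat.ofHom (u i))
  have hz := h1 S g c (hflat i) a ha
  have hnat : g.appTop ((Scheme.ΓSpecIso (CommRingCat.of A)).inv a) =
      (Scheme.ΓSpecIso (CommRingCat.of (A' i))).inv (u i a) :=
    (ConcreteCategory.congr_hom (Scheme.ΓSpecIso_inv_naturality (CommRingCat.ofHom (u i))) a).symm
  rw [hnat] at hz
  letI := S.presheaf.algebra_section_stalk (U := ⊤) ⟨c, trivial⟩
  haveI := GrothLib.FlatFP.isLocalization_stalk_primeAt (isAffineOpen_top S) (x := c) trivial
  obtain ⟨⟨s, hs⟩, hs0⟩ := (IsLocalization.map_eq_zero_iff (GrothLib.WeakAss.primeAt (V := (⊤ : S.Opens)) c trivial).primeCompl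
    (S.presheaf.stalk c) _).1 hz
  have hsu : IsUnit s := by
    have hb : S.basicOpen s = ⊤ := by
      refine top_le_iff.1 fun y _ => ?_
      exact (IsLocalRing.specializes_closedPoint y).mem_open (S.basicOpen s).2
        (GrothLib.WeakAss.notMem_primeAt_iff.1 hs)
    refine RingedSpace.isUnit_of_isUnit_germ S.toRingedSpace ⊤ s fun y hy => ?_
    exact (S.mem_basicOpen s y hy).1 (hb.ge hy)
  have := hsu.mul_right_eq_zero.1 hs0
  exact (ConcreteCategory.bijective_of_isIso (Scheme.ΓSpecIso (CommRingCat.of (A' i))).inv).1 (this.trans (map_zero _).symm)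

end Groth.Agent.S4856
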