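import Groth.Statements.S4858
import Groth.Agent.Lib.QHomeo.Basic

set_option autoImplicit false
universe u
open EGA43

namespace Groth.Agent.S4858

/-- Conditions a), a′), c), c′) (very dense subsets): for a subset X₀ of a topological space X the
following are equivalent: every nonempty locally closed subset of X meets X₀; every closed subset Z
of X equals the closure of Z ∩ X₀; the map U ↦ U ∩ X₀ is injective on open subsets of X; the map F ↦
F ∩ X₀ is injective on closed subsets of X. -/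
theorem result {X : Type u} [TopologicalSpace X] (X₀ : Set X) :
    [∀ Z : Set X, IsLocallyClosed Z → Z.Nonempty → (Z ∩ X₀).Nonempty,
      ∀ Z : Set X, IsClosed Z → closure (Z ∩ X₀) = Z,
      ∀ U V : Set X, IsOpen U → IsOpen V → U ∩ X₀ = V ∩ X₀ → U = V,
      ∀ F F' : Set X, IsClosed F → IsClosed F' → F ∩ X₀ = F' ∩ X₀ → F = F'].TFAE := by
  open GrothLib.QHomeo in
  tfae_have 1 → 3 := fun h => vdense_iff_open.1 h
  tfae_have 3 → 1 := fun h => GrothLib.QHomeo.vdense_iff_open.2 h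
  tfae_have 3 → 4 := fun h F F' hF hF' e => compl_inj_iff.1 (h Fᶜ F'ᶜ hF.isOpen_compl hF'.isOpen_compl (by
    ext x
    refine ⟨fun hx => ⟨fun h' => hx.1 ((Set.ext_iff.1 e x).2 ⟨h', hx.2⟩).1, hx.2⟩,
      fun hx => ⟨fun h' => hx.1 ((Set.ext_iff.1 e x).1 ⟨h', hx.2⟩).1, hx.2⟩⟩))
  tfae_have 4 → 2 := fun h Z hZ => h (closure (Z ∩ X₀)) Z isClosed_closure hZ (by
    refine Set.Subset.antisymm (fun x hx => ⟨closure_minimal Set.inter_subset_left hZ hx.1, hx.2⟩) ?_
    exact fun x hx => ⟨subset_closure hx, hx.2⟩)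
  tfae_have 2 → 3 := fun h U V hU hV e => compl_inj_iff.1 (by
    rw [← h Uᶜ hU.isClosed_compl, ← h Vᶜ hV.isClosed_compl]
    congr 1
    ext x
    refine ⟨fun hx => ⟨fun h' => hx.1 ((Set.ext_iff.1 e x).2 ⟨h', hx.2⟩).1, hx.2⟩,
      fun hx => ⟨fun h' => hx.1 ((Set.ext_iff.1 e x).1 ⟨h', hx.2⟩).1, hx.2⟩⟩)
  tfae_finish

end Groth.Agent.S4858
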