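import Groth.Statements.S4859
import Groth.Agent.Lib.QHomeo.Basic

set_option autoImplicit false
universe u
open EGA43

namespace Groth.Agent.S4859

/-- Conditions a), a′), b) (quasi-homeomorphisms): for a continuous map f : X₀ → X the following are
equivalent: taking preimages is a bijection from the open subsets of X onto the open subsets of X₀;
taking preimages is a bijection from the closed subsets of X onto the closed subsets of X₀; the
topology of X₀ is induced from X through f and the image f(X₀) is very dense in X, in the sense that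
two open subsets of X with the same trace on f(X₀) coincide. -/
theorem result {X₀ X : Type u} [TopologicalSpace X₀] [TopologicalSpace X]
    (f : X₀ → X) (hf : Continuous f) :
    [Function.Bijective (fun U : TopologicalSpace.Opens X =>
        (⟨f ⁻¹' (U : Set X), U.isOpen.preimage hf⟩ : TopologicalSpace.Opens X₀)),
      Function.Bijective (fun F : TopologicalSpace.Closeds X =>
        (⟨f ⁻¹' (F : Set X), F.isClosed.preimage hf⟩ : TopologicalSpace.Closeds X₀)),
      Topology.IsInducing f ∧
        ∀ U V : Set X, IsOpen U → IsOpen V → U ∩ Set.range f = V ∩ Set.range f → U = V].TFAE := by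
  tfae_have 1 → 3 := fun h => ⟨(GrothLib.QHomeo.isQH_of_bijective_opens hf h).inducing,
    GrothLib.QHomeo.vdense_iff_open.1 (GrothLib.QHomeo.isQH_of_bijective_opens hf h).vdense⟩
  tfae_have 3 → 2 := fun ⟨h₁, h₂⟩ => by
    have hq : GrothLib.QHomeo.IsQH f := ⟨h₁, GrothLib.QHomeo.vdense_iff_open.2 h₂⟩
    refine ⟨fun F G e => TopologicalSpace.Closeds.ext ?_, fun G => ?_⟩
    · exact hq.eq_of_preimage_eq (GrothLib.QHomeo.lqc_of_lc F.isClosed.isLocallyClosed)
        (GrothLib.QHomeo.lqc_of_lc G.isClosed.isLocallyClosed)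
        (congrArg (fun W : TopologicalSpace.Closeds X₀ => (W : Set X₀)) e)
    · obtain ⟨U, hU, hUV⟩ := hq.exists_open G.isClosed.isOpen_compl
      exact ⟨⟨Uᶜ, hU.isClosed_compl⟩, TopologicalSpace.Closeds.ext (by
        change f ⁻¹' Uᶜ = G
        rw [Set.preimage_compl, hUV, compl_compl])⟩
  tfae_have 2 → 1 := fun h => by
    refine ⟨fun U V e => TopologicalSpace.Opens.ext (compl_inj_iff.1 ?_), fun V => ?_⟩
    · exact congrArg (fun W : TopologicalSpace.Closeds X => (W : Set X))
        (h.1 (a₁ := ⟨(U : Set X)ᶜ, U.isOpen.isClosed_compl⟩) (a₂ := ⟨(V : Set X)ᶜ, V.isOpen.isClosed_compl⟩)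
          (TopologicalSpace.Closeds.ext (congrArg (fun W : TopologicalSpace.Opens X₀ => (W : Set X₀)ᶜ) e)))
    · obtain ⟨F, hF⟩ := h.2 ⟨(V : Set X₀)ᶜ, V.isOpen.isClosed_compl⟩
      refine ⟨⟨(F : Set X)ᶜ, F.isClosed.isOpen_compl⟩, TopologicalSpace.Opens.ext ?_⟩
      change f ⁻¹' (F : Set X)ᶜ = V
      rw [Set.preimage_compl,
        show f ⁻¹' (F : Set X) = (V : Set X₀)ᶜ from congrArg (fun W : TopologicalSpace.Closeds X₀ => (W : Set X₀)) hF,
        compl_compl]
  tfae_finish

end Groth.Agent.S4859
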