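import Groth.Statements.S4864
import Groth.Agent.Lib.FlatFP.SheafFlat
import Groth.Agent.Lib.LocNoeth.Scheme

set_option autoImplicit false
universe u
open EGA43

namespace Groth.Agent.S4864

open AlgebraicGeometry CategoryTheory Limits in
/-- Let f : X ⟶ Y and g : Y ⟶ Z be morphisms of finite presentation and F a quasi-coherent O_X-module of
finite presentation. Then the set U of points y of Y such that, for every generization y' of y, F is
(f ≫ g)-flat at every point of X above y', is open in Y. -/
theorem result {X Y Z : Scheme.{u}} (f : X ⟶ Y) (g : Y ⟶ Z)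
    [LocallyOfFinitePresentation f] [QuasiCompact f] [QuasiSeparated f]
    [LocallyOfFinitePresentation g] [QuasiCompact g] [QuasiSeparated g]
    (F : X.Modules) [Coh.IsQCoh F] (hF : CohB1.IsFP F) :
    IsOpen {y : Y | ∀ y' : Y, y' ⤳ y → ∀ x : X, f x = y' → FlatMod.IsFlatOverAt (f ≫ g) F x} := by
  let Z : TopologicalSpace.Closeds X :=
    ⟨{x | FlatMod.IsFlatOverAt (f ≫ g) F x}ᶜ,
      (GrothLib.FlatFP.isOpen_flatLocus (f ≫ g) F hF).isClosed_compl⟩
  let i := (Scheme.IdealSheafData.vanishingIdeal Z).subschemeι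
  have hi : Set.range i = (Z : Set X) := by
    simp [i]
  convert (isClosed_closure (s := Set.range (i ≫ f))).isOpen_compl using 1
  ext y
  constructor
  · intro h hy
    obtain ⟨z, hz⟩ := GrothLib.LocNoeth.exists_specializes_of_mem_closure_range (i ≫ f) hy
    exact (hi.le ⟨z, rfl⟩ : i z ∈ (Z : Set X)) (h _ hz (i z) rfl)
  · intro h y' hy' x hx
    by_contra hflat
    obtain ⟨z, hz⟩ := hi.ge (show x ∈ (Z : Set X) from hflat)
    refine h (hy'.mem_closed isClosed_closure (subset_closure ⟨z, ?_⟩))
    rw [Scheme.Hom.comp_apply, hz, hx]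

end Groth.Agent.S4864
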