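import Groth.Statements.S4867
import Groth.Agent.Lib.ModDesc5.FlatStage

set_option autoImplicit false
universe u
open CategoryTheory AlgebraicGeometry
open EGA43

namespace Groth.Agent.S4867

set_option linter.style.haveILetI false

/-- Let A be a commutative ring, f : X ⟶ Spec A a morphism of finite presentation, F a quasi-coherent
O_X-module of finite presentation and x a point of X. If F is f-flat at x, then there are a finitely
generated subring A₀ of A, a morphism of finite type f₀ : X₀ ⟶ Spec A₀, a coherent O_{X₀}-module F₀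
and a cartesian square q : X ⟶ X₀ over Spec A ⟶ Spec A₀ together with an isomorphism q^*F₀ ≅ F, such
that F₀ is f₀-flat at q x; and if F is f-flat, F₀ can be chosen f₀-flat. -/
theorem result {A : Type u} [CommRing A] {X : Scheme.{u}}
    (f : X ⟶ Spec (CommRingCat.of A)) [LocallyOfFinitePresentation f] [QuasiCompact f] [QuasiSeparated f]
    (F : X.Modules) [Coh.IsQCoh F] (hF : CohB1.IsFP F) (x : X) :
    (FlatMod.IsFlatOverAt f F x →
      ∃ (A₀ : Subalgebra ℤ A) (_ : A₀.FG) (X₀ : Scheme.{u}) (f₀ : X₀ ⟶ Spec (CommRingCat.of ↥A₀))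
        (_ : LocallyOfFiniteType f₀) (_ : QuasiCompact f₀) (F₀ : X₀.Modules) (_ : Coh.IsCoh F₀) (q : X ⟶ X₀)
        (_ : IsPullback q f f₀ (Spec.map (CommRingCat.ofHom A₀.val.toRingHom)))
        (_ : (Scheme.Modules.pullback q).obj F₀ ≅ F),
        FlatMod.IsFlatOverAt f₀ F₀ (q x)) ∧
    (FlatMod.IsFlatOver f F →
      ∃ (A₀ : Subalgebra ℤ A) (_ : A₀.FG) (X₀ : Scheme.{u}) (f₀ : X₀ ⟶ Spec (CommRingCat.of ↥A₀))
        (_ : LocallyOfFiniteType f₀) (_ : QuasiCompact f₀) (F₀ : X₀.Modules) (_ : Coh.IsCoh F₀) (q : X ⟶ X₀)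
        (_ : IsPullback q f f₀ (Spec.map (CommRingCat.ofHom A₀.val.toRingHom)))
        (_ : (Scheme.Modules.pullback q).obj F₀ ≅ F),
        FlatMod.IsFlatOver f₀ F₀) := by
  haveI : F.IsQuasicoherent := ‹Coh.IsQCoh F›
  have hnoeth : ∀ S : GrothLib.LimDescend.FgSub A, IsNoetherianRing S.1 := fun S => by
    haveI : Algebra.FiniteType ℤ S.1 := (Subalgebra.fg_iff_finiteType S.1).1 S.2
    exact Algebra.FiniteType.isNoetherianRing ℤ S.1
  haveI : ∀ S : (GrothLib.LimDescend.FgSub A)ᵒᵖ, IsAffine ((GrothLib.LimDescend.fgDiagram A).obj S) := fun S => by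
    dsimp [GrothLib.LimDescend.fgDiagram]; infer_instance
  haveI : ∀ S : (GrothLib.LimDescend.FgSub A)ᵒᵖ, IsLocallyNoetherian ((GrothLib.LimDescend.fgDiagram A).obj S) :=
    fun S => by
      haveI := hnoeth S.unop
      show IsLocallyNoetherian (Spec (CommRingCat.of S.unop.1))
      infer_instance
  haveI : ∀ (S T : (GrothLib.LimDescend.FgSub A)ᵒᵖ) (h : S ⟶ T),
      IsAffineHom ((GrothLib.LimDescend.fgDiagram A).map h) := fun S T h => isAffineHom_of_isAffine _
  haveI : @LocallyOfFinitePresentation X (GrothLib.LimDescend.fgCone A).pt f := ‹LocallyOfFinitePresentation f›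
  haveI : @QuasiCompact X (GrothLib.LimDescend.fgCone A).pt f := ‹QuasiCompact f›
  haveI : @QuasiSeparated X (GrothLib.LimDescend.fgCone A).pt f := ‹QuasiSeparated f›
  constructor
  · intro hfl
    obtain ⟨j, M, G, hG, ⟨e⟩, hGfl⟩ :=
      GrothLib.ModDesc5.exists_stage_flatAt (GrothLib.LimDescend.isLimitFgCone A) (f := f) F hF x hfl
    haveI := M.lfp
    haveI hft : LocallyOfFiniteType M.hom := inferInstance
    exact ⟨j.unop.1, j.unop.2, M.obj, M.hom, hft, M.qc, G, hG, M.proj, M.isPullback, e, hGfl⟩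
  · intro hfl
    obtain ⟨j, M, G, hG, ⟨e⟩, hGfl⟩ :=
      GrothLib.ModDesc5.exists_stage_flatOver (GrothLib.LimDescend.isLimitFgCone A) (f := f) F hF hfl
    haveI := M.lfp
    haveI hft : LocallyOfFiniteType M.hom := inferInstance
    exact ⟨j.unop.1, j.unop.2, M.obj, M.hom, hft, M.qc, G, hG, M.proj, M.isPullback, e, hGfl⟩

end Groth.Agent.S4867
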