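import Groth.Statements.S4869
import Groth.Agent.Lib.FlatGr5.Apply

set_option autoImplicit false
universe u
open TensorProduct
open EGA43

namespace Groth.Agent.S4869

/-- Let A₀ be a commutative ring, (A_i) a directed system of A₀-algebras with colimit A, B₀ a finitely
presented A₀-algebra, J₀ a finitely generated ideal of B₀ and M₀ a finitely presented B₀-module; put
M = A ⊗_{A₀} M₀ and J = J₀B, and likewise M_i, J_i over each A_i. Then the associated graded module
gr_J(M) = ⊕_k J^k M / J^{k+1} M is flat over A if and only if, for some index i, gr_{J_i}(M_i) is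
flat over A_i. Flatness of the graded module is expressed through the equivalent condition that
every truncation M / J^k M (k ≥ 0) is flat (the pieces J^k M / J^{k+1} M are the kernels of the
surjections M / J^{k+1} M → M / J^k M), and J^k M is realised as the image of A ⊗_{A₀} J₀^k M₀ in A
⊗_{A₀} M₀. (The published statement also asserts that the canonical maps from gr_{J_i}(M_i) ⊗_{A_i}
A to gr_J(M) are then bijective; this row states only the equivalence.) -/
theorem result {A₀ : Type u} [CommRing A₀]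
    {ι : Type u} [Preorder ι] (G : ι → Type u) [∀ i, CommRing (G i)] [∀ i, Algebra A₀ (G i)]
    (g : ∀ i j, i ≤ j → G i →ₐ[A₀] G j)
    (A : Type u) [CommRing A] [Algebra A₀ A] [∀ i, Algebra (G i) A] [∀ i, IsScalarTower A₀ (G i) A]
    (hcolim : FlatCA.IsDirectedColimitRing G (fun i j h => (g i j h).toRingHom) A)
    {B₀ : Type u} [CommRing B₀] [Algebra A₀ B₀] [Algebra.FinitePresentation A₀ B₀]
    (J₀ : Ideal B₀) (hJ₀ : J₀.FG)
    (M₀ : Type u) [AddCommGroup M₀] [Module B₀ M₀] [Module A₀ M₀] [IsScalarTower A₀ B₀ M₀]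
    [Module.FinitePresentation B₀ M₀] :
    (∀ k : ℕ, Module.Flat A ((A ⊗[A₀] M₀) ⧸
        LinearMap.range (((J₀ ^ k • (⊤ : Submodule B₀ M₀)).restrictScalars A₀).subtype.baseChange A))) ↔
      ∃ i : ι, ∀ k : ℕ, Module.Flat (G i) ((G i ⊗[A₀] M₀) ⧸
        LinearMap.range (((J₀ ^ k • (⊤ : Submodule B₀ M₀)).restrictScalars A₀).subtype.baseChange (G i))) := by
  classical
  obtain ⟨C, _, _, B₁, _, _, M₁, _, _, _, _, _, _, _, _, _, _, r, b₁, φ, hC, hB₁, hM₁, hmod, hJ⟩ :=
    GrothLib.FlatGr5.exists_model A₀ B₀ J₀ hJ₀ M₀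
  subst hJ
  have tr : ∀ (R : Type u) [CommRing R] [Algebra A₀ R] [Algebra C R] [IsScalarTower C A₀ R] (k : ℕ),
      Module.Flat R ((R ⊗[A₀] M₀) ⧸ LinearMap.range
        ((((GrothLib.FlatGr5.Jb (GrothLib.FlatGr5.bmap (B := B₀) b₁)) ^ k • (⊤ : Submodule B₀ M₀)).restrictScalars A₀).subtype.baseChange R)) ↔
      Module.Flat R (R ⊗[C] GrothLib.FlatGr5.Qm C M₁ b₁ k) := fun R _ _ _ _ k => by
    obtain ⟨e⟩ := GrothLib.FlatGr5.exists_equiv_Qm b₁ hmod k
    let E := AlgebraTensorModule.congr (LinearEquiv.refl R R) e.symm ≪≫ₗ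
      AlgebraTensorModule.cancelBaseChange C A₀ R R (GrothLib.FlatGr5.Qm C M₁ b₁ k)
    refine (GrothLib.FlatGr5.flat_quot_iff M₀ (GrothLib.FlatGr5.bmap (B := B₀) b₁) R k).trans ?_
    exact ⟨fun _ => Module.Flat.of_linearEquiv E.symm, fun _ => Module.Flat.of_linearEquiv E⟩
  letI algC : ∀ i, Algebra C (G i) := fun i => ((algebraMap A₀ (G i)).comp (algebraMap C A₀)).toAlgebra
  haveI towC : ∀ i, IsScalarTower C A₀ (G i) := fun i => IsScalarTower.of_algebraMap_eq fun _ => rfl
  letI : Algebra C A := ((algebraMap A₀ A).comp (algebraMap C A₀)).toAlgebra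
  haveI : IsScalarTower C A₀ A := IsScalarTower.of_algebraMap_eq fun _ => rfl
  haveI towA : ∀ i, IsScalarTower C (G i) A := fun i => IsScalarTower.of_algebraMap_eq fun c =>
    (IsScalarTower.algebraMap_apply A₀ (G i) A (algebraMap C A₀ c))
  constructor
  · intro h
    have hA : GrothLib.FlatGr5.QFlat C M₁ b₁ A := fun k => (tr A k).1 (h k)
    obtain ⟨S, hS, hSf⟩ := GrothLib.FlatGr5.exists_stage M₁ b₁ A hA
    obtain ⟨hdir, hne, -, htrans, hcomp, hsurj, hzero⟩ := hcolim
    obtain ⟨i, ψ, hψ⟩ := GrothLib.FlatGr5.exists_algHom_stage S hS G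
      (fun i j h => (g i j h).restrictScalars C) hdir hne (fun i j h x => RingHom.congr_fun (hcomp i j h) x) hsurj hzero
      (fun i j k hij hjk x => RingHom.congr_fun (htrans i j k hij hjk) x)
    refine ⟨i, fun k => (tr (G i) k).2 ?_⟩
    letI : Algebra (S : Type u) (G i) := ψ.toRingHom.toAlgebra
    haveI : IsScalarTower C (S : Type u) (G i) := IsScalarTower.of_algebraMap_eq fun c => (ψ.commutes c).symm
    exact GrothLib.FlatGr5.qFlat_baseChange M₁ b₁ (S : Type u) (G i) hSf k
  · rintro ⟨i, h⟩ k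
    exact (tr A k).2 (GrothLib.FlatGr5.qFlat_baseChange M₁ b₁ (G i) A (fun k => (tr (G i) k).1 (h k)) k)

end Groth.Agent.S4869
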