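import Groth.Statements.S4870
import Groth.Agent.Lib.FlatGr5.Apply

set_option autoImplicit false
universe u
open EGA43

namespace Groth.Agent.S4870

open TensorProduct in
/-- Let A be a commutative ring, B a finitely presented A-algebra, J a finitely generated ideal of B and
M a finitely presented B-module. If the associated graded module gr_J(M) is flat over A, that is
every J^k M / J^{k+1} M is a flat A-module, then M is flat over A at every point of V(J): for every
prime ideal q of B containing J, the localization M_q is a flat A-module. -/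
theorem result {A B : Type u} [CommRing A] [CommRing B] [Algebra A B]
    [Algebra.FinitePresentation A B] (J : Ideal B) (hJ : J.FG)
    (M : Type u) [AddCommGroup M] [Module B M] [Module A M] [IsScalarTower A B M] [Module.FinitePresentation B M]
    (hgr : ∀ k : ℕ, Module.Flat A
      (↥(J ^ k • (⊤ : Submodule B M)) ⧸ Submodule.comap (J ^ k • (⊤ : Submodule B M)).subtype (J ^ (k + 1) • ⊤)))
    (q : Ideal B) [q.IsPrime] (hq : J ≤ q) :
    Module.Flat A (LocalizedModule q.primeCompl M) := by
  classical
  obtain ⟨C, _, _, B₁, _, _, M₁, _, _, _, _, _, _, _, _, _, _, r, b₁, φ, hC, hB₁, hM₁, hmod, hJ⟩ :=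
    GrothLib.FlatGr5.exists_model A B J hJ M
  have hA : GrothLib.FlatGr5.QFlat C M₁ b₁ A := fun k => by
    haveI := GrothLib.FlatGr5.flat_Qm_of_pieces A M (GrothLib.FlatGr5.bmap (B := B) b₁) J hJ hgr k
    obtain ⟨e⟩ := GrothLib.FlatGr5.exists_equiv_Qm b₁ hmod k
    exact Module.Flat.of_linearEquiv e
  obtain ⟨S, hS, hSf⟩ := GrothLib.FlatGr5.exists_stage M₁ b₁ A hA
  haveI : IsNoetherianRing (S : Type u) := isNoetherianRing_of_fg hS
  let ψ : TensorProduct C (S : Type u) B₁ →+* B :=
    (Algebra.TensorProduct.lift ((IsScalarTower.toAlgHom C A B).comp S.val) (IsScalarTower.toAlgHom C B₁ B)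
      fun _ _ => Commute.all _ _).toRingHom
  have hψ : ∀ i, ψ ((1 : (S : Type u)) ⊗ₜ[C] b₁ i) ∈ q := fun i => by
    have e : ψ ((1 : (S : Type u)) ⊗ₜ[C] b₁ i) = algebraMap B₁ B (b₁ i) := by simp [ψ]
    rw [e]
    exact hq (hJ ▸ Ideal.subset_span ⟨i, rfl⟩)
  haveI hL := GrothLib.FlatGr5.flat_localized_stage M₁ b₁ (S : Type u) hSf (q.comap ψ) hψ
  rw [Module.Flat.iff_lTensor_preserves_injective_linearMap]
  intro N N' _ _ _ _ f hf
  refine GrothLib.FibreFlat.lTensor_injective_of_isLocalizedModule q.primeCompl
    (LocalizedModule.mkLinearMap q.primeCompl M) f fun x hx => ?_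
  haveI : ∀ (N : Type u) [AddCommGroup N] [Module A N], IsScalarTower (S : Type u) A N := fun N _ _ =>
    ⟨fun s a n => mul_smul (s : A) a n⟩
  let MS := TensorProduct C (S : Type u) M₁
  let Φ : TensorProduct (S : Type u) A MS ≃ₗ[A] M :=
    TensorProduct.AlgebraTensorModule.cancelBaseChange C (S : Type u) A A M₁ ≪≫ₗ
      LinearEquiv.ofBijective _ hmod.bij
  let E : ∀ (N : Type u) [AddCommGroup N] [Module A N],
      TensorProduct (S : Type u) MS N ≃+ TensorProduct A M N := fun N _ _ =>
    ((TensorProduct.comm (S : Type u) MS N).toAddEquiv.trans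
      (TensorProduct.AlgebraTensorModule.cancelBaseChange (S : Type u) A A N MS).symm.toAddEquiv).trans
      ((TensorProduct.congr (LinearEquiv.refl A N) Φ).trans (TensorProduct.comm A N M)).toAddEquiv
  have hE : ∀ (N : Type u) [AddCommGroup N] [Module A N]
      (s : (S : Type u)) (m : M₁) (y : N), E N ((s ⊗ₜ[C] m) ⊗ₜ y) = ((s : A) • φ m) ⊗ₜ[A] y := by
    intro N _ _ s m y
    simp [E, Φ]
    rw [AlgebraTensorModule.cancelBaseChange_tmul, LinearMap.liftBaseChange_tmul, Algebra.smul_def, mul_one]
    rfl
  obtain ⟨y, rfl⟩ := (E N).surjective x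
  have hnat : ∀ z, E N' ((f.restrictScalars (S : Type u)).lTensor MS z) = f.lTensor M (E N z) := fun z => by
    induction z using TensorProduct.induction_on with
    | zero => simp
    | add p q hp hq => simp [map_add, hp, hq]
    | tmul m n =>
      induction m using TensorProduct.induction_on with
      | zero => simp
      | add p q hp hq =>
        rw [TensorProduct.add_tmul]
        simp only [map_add, hp, hq]
      | tmul s m => rw [LinearMap.lTensor_tmul, hE, hE, LinearMap.lTensor_tmul]; rfl
  have hy : (f.restrictScalars (S : Type u)).lTensor MS y = 0 := by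
    apply (E N').injective
    rw [hnat, hx, map_zero]
  let P := (q.comap ψ).primeCompl
  let g := LocalizedModule.mkLinearMap P MS
  let ιN := TensorProduct.AlgebraTensorModule.rTensor (S : Type u) N g
  have h1 : ιN y = 0 := by
    apply Module.Flat.lTensor_preserves_injective_linearMap (M := LocalizedModule P MS)
      (f.restrictScalars (S : Type u)) hf
    rw [map_zero]
    have hc : ∀ z, (f.restrictScalars (S : Type u)).lTensor (LocalizedModule P MS) (ιN z) =
        (g.restrictScalars (S : Type u)).rTensor N' ((f.restrictScalars (S : Type u)).lTensor MS z) := fun z => by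
      induction z using TensorProduct.induction_on with
      | zero => simp
      | add p q hp hq => simp [map_add, hp, hq]
      | tmul a c => rfl
    rw [hc, hy, map_zero]
  obtain ⟨⟨t, ht⟩, hty⟩ := (IsLocalizedModule.eq_zero_iff P ιN).1 h1
  refine ⟨ψ t, ht, ?_⟩
  have hsemi : ∀ (τ : TensorProduct C (S : Type u) B₁) (z : TensorProduct (S : Type u) MS N),
      E N (τ • z) = ψ τ • E N z := fun τ z => by
    induction z using TensorProduct.induction_on with
    | zero => simp
    | add p q hp hq => rw [smul_add, map_add, map_add, smul_add, hp, hq]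
    | tmul m n =>
      induction m using TensorProduct.induction_on with
      | zero => simp
      | add p q hp hq => rw [TensorProduct.add_tmul, smul_add, map_add, map_add, smul_add, hp, hq]
      | tmul s m =>
        induction τ using TensorProduct.induction_on with
        | zero =>
          rw [map_zero, zero_smul B]
          exact (congrArg _ (zero_smul (TensorProduct C (S : Type u) B₁) ((s ⊗ₜ[C] m) ⊗ₜ[(S : Type u)] n))).trans (map_zero _)
        | add p q hp hq => rw [add_smul, map_add, map_add, add_smul, hp, hq]
        | tmul s' c =>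
          rw [TensorProduct.smul_tmul', GrothLib.FlatGr5.act_tmul, hE, hE, TensorProduct.smul_tmul']
          congr 1
          rw [hmod.semi]
          simp [ψ, Algebra.smul_def, mul_smul]
          rw [smul_comm (algebraMap B₁ B c) (s : A), smul_comm]
  rw [← hsemi]
  exact (congrArg _ hty).trans (map_zero _)

end Groth.Agent.S4870
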