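import Groth.Statements.S4872
import Mathlib.AlgebraicGeometry.AffineSpace
import Mathlib.AlgebraicGeometry.Morphisms.ClosedImmersion

set_option autoImplicit false
universe u
open CategoryTheory AlgebraicGeometry
open EGA43

namespace Groth.Agent.S4872

/-- Conditions b), c), d) (schematically dominant families): let p : X ⟶ S be a morphism and (f_i : Z_i
⟶ X) a family of morphisms. The following are equivalent: b) for every open V of X, a section of O_X
over V whose images in all the Γ(f_i⁻¹(V), O_{Z_i}) are zero is zero; c) for every open U of X, a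
closed immersion j : Y ⟶ U through which each restriction f_i⁻¹(U) ⟶ U factors is an isomorphism; d)
for every separated S-scheme X', every open U of X and every pair of S-morphisms u, v : U ⟶ X'
having the same composite with each f_i⁻¹(U) ⟶ U, one has u = v. -/
theorem result {X S : Scheme.{u}} (p : X ⟶ S) {ι : Type u} (Z : ι → Scheme.{u})
    (f : ∀ i, Z i ⟶ X) :
    [(∀ (V : (X).Opens) (t : Γ(X, V)), (∀ i, (f i).app V t = 0) → t = 0),
      ∀ (U : X.Opens) (Y : Scheme.{u}) (j : Y ⟶ (U : Scheme.{u})), IsClosedImmersion j →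
        (∀ i, ∃ g : ((f i) ⁻¹ᵁ U : Scheme.{u}) ⟶ Y, g ≫ j = (f i) ∣_ U) → IsIso j,
      ∀ (X' : Scheme.{u}) (q : X' ⟶ S), IsSeparated q → ∀ (U : X.Opens) (u v : (U : Scheme.{u}) ⟶ X'),
        u ≫ q = U.ι ≫ p → v ≫ q = U.ι ≫ p → (∀ i, ((f i) ∣_ U) ≫ u = ((f i) ∣_ U) ≫ v) → u = v].TFAE := by
  tfae_have 1 → 2 := fun h U Y j hj hfac => by
    rw [IsClosedImmersion.isIso_iff_ker_eq_bot]
    refine Scheme.IdealSheafData.ext (funext fun W => ?_)
    rw [Scheme.Hom.ker_apply, Scheme.IdealSheafData.ideal_bot, Pi.bot_apply, eq_bot_iff]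
    intro s hs
    rw [RingHom.mem_ker] at hs
    rw [Ideal.mem_bot]
    refine h (U.ι ''ᵁ W.1) s fun i => ?_
    obtain ⟨g, hg⟩ := hfac i
    have h1 : ((f i) ∣_ U).app W.1 s = 0 := by
      rw [Scheme.Hom.congr_app hg.symm W.1]
      show (_ : _ →+* _) ((g.app (j ⁻¹ᵁ W.1)).hom ((j.app W.1).hom s)) = 0
      rw [hs, map_zero, map_zero]
    rw [morphismRestrict_app] at h1
    exact (ConcreteCategory.bijective_of_isIso ((Z i).presheaf.map
      (eqToHom (image_morphismRestrict_preimage (f i) U W.1)).op)).1 (h1.trans (map_zero _).symm)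
  tfae_have 2 → 3 := fun h X' q hq U u v hu hv huv => by
    let w : (U : Scheme.{u}) ⟶ Limits.pullback q q := Limits.pullback.lift u v (hu.trans hv.symm)
    let j := Limits.pullback.fst w (Limits.pullback.diagonal q)
    haveI : IsClosedImmersion j := MorphismProperty.pullback_fst w _ inferInstance
    haveI := h U _ j inferInstance fun i => by
      refine ⟨Limits.pullback.lift ((f i) ∣_ U) (((f i) ∣_ U) ≫ u) ?_, Limits.pullback.lift_fst _ _ _⟩
      refine Limits.pullback.hom_ext ?_ ?_
      · simp only [Category.assoc, w, Limits.pullback.lift_fst, Limits.pullback.diagonal_fst, Category.comp_id]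
      · simp only [Category.assoc, w, Limits.pullback.lift_snd, Limits.pullback.diagonal_snd, Category.comp_id, huv i]
    have hc := Limits.pullback.condition (f := w) (g := Limits.pullback.diagonal q)
    have h1 := congrArg (· ≫ Limits.pullback.fst q q) hc
    have h2 := congrArg (· ≫ Limits.pullback.snd q q) hc
    simp only [Category.assoc, w, Limits.pullback.lift_fst, Limits.pullback.lift_snd,
      Limits.pullback.diagonal_fst, Limits.pullback.diagonal_snd, Category.comp_id] at h1 h2
    exact (cancel_epi j).mp (h1.trans h2.symm)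
  tfae_have 3 → 1 := fun h V t ht => by
    let q : AffineSpace PUnit.{u+1} S ⟶ S := AffineSpace PUnit.{u+1} S ↘ S
    have huv := h (AffineSpace PUnit.{u+1} S) q inferInstance V
      (AffineSpace.homOfVector (V.ι ≫ p) fun _ => V.topIso.inv t) (AffineSpace.homOfVector (V.ι ≫ p) fun _ => 0)
      (AffineSpace.homOfVector_over _ _) (AffineSpace.homOfVector_over _ _) fun i => by
        rw [AffineSpace.comp_homOfVector, AffineSpace.comp_homOfVector]
        congr 1
        funext k
        show ((f i) ∣_ V).appTop (V.topIso.inv t) = ((f i) ∣_ V).appTop 0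
        rw [map_zero]
        show (V.topIso.inv ≫ ((f i) ∣_ V).appTop).hom t = 0
        have key : ∀ {A B : X.Opens} (e : A = B) (s : Γ(X, B)), (f i).app B s = 0 →
            (f i).app A (X.presheaf.map (eqToHom e).op s) = 0 := by
          rintro A _ rfl s hs
          simpa using hs
        rw [morphismRestrict_appTop]
        show ((Z i).presheaf.map (eqToHom (image_morphismRestrict_preimage (f i) V ⊤)).op).hom
          ((f i).app _ (X.presheaf.map (eqToHom V.ι_image_top).op t)) = 0
        rw [key V.ι_image_top t (ht i)]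
        exact map_zero _
    have h2 := congrArg (fun φ : (V : Scheme.{u}) ⟶ AffineSpace PUnit.{u+1} S =>
      φ.appTop (AffineSpace.coord S PUnit.unit)) huv
    simp only [AffineSpace.homOfVector_appTop_coord] at h2
    exact (ConcreteCategory.bijective_of_isIso V.topIso.inv).1 (h2.trans (map_zero _).symm)
  tfae_finish

end Groth.Agent.S4872
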