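import Groth.Statements.S4873

set_option autoImplicit false
universe u
open CategoryTheory AlgebraicGeometry
open EGA43

namespace Groth.Agent.S4873

/-- Let (f_i : Z_i ⟶ X) be a family of morphisms. If the family is schematically dominant, i.e. a
section of O_X over an open V whose pullback to every f_i⁻¹(V) vanishes is zero, then the union of
the images f_i(Z_i) is dense in X. Conversely, if X is reduced and this union is dense, the family
is schematically dominant. -/
theorem result {X : Scheme.{u}} {ι : Type u} (Z : ι → Scheme.{u})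
    (f : ∀ i, Z i ⟶ X) :
    ((∀ (V : (X).Opens) (t : Γ(X, V)), (∀ i, (f i).app V t = 0) → t = 0) → Dense (⋃ i, Set.range (f i))) ∧
    (IsReduced X → Dense (⋃ i, Set.range (f i)) → (∀ (V : (X).Opens) (t : Γ(X, V)), (∀ i, (f i).app V t = 0) → t = 0)) := by
  refine ⟨fun h => ?_, fun hX hd V t ht => ?_⟩
  · rw [dense_iff_inter_open]
    intro V hV hne
    by_contra hemp
    rw [Set.not_nonempty_iff_eq_empty] at hemp
    obtain ⟨x, hx⟩ := hne
    let V' : X.Opens := ⟨V, hV⟩
    have h1 : (1 : Γ(X, V')) = 0 := h V' 1 fun i => by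
      haveI : Subsingleton Γ(Z i, f i ⁻¹ᵁ V') := by
        have : f i ⁻¹ᵁ V' = ⊥ := TopologicalSpace.Opens.ext (Set.eq_empty_iff_forall_notMem.mpr fun z hz =>
          Set.eq_empty_iff_forall_notMem.mp hemp (f i z) ⟨hz, Set.mem_iUnion.mpr ⟨i, z, rfl⟩⟩)
        rw [this]
        exact CommRingCat.subsingleton_of_isTerminal (Z i).sheaf.isTerminalOfEmpty
      exact Subsingleton.elim _ _
    have h2 := congrArg (X.presheaf.germ V' x hx).hom h1
    rw [map_one, map_zero] at h2
    exact one_ne_zero h2
  · rw [← basicOpen_eq_bot_iff]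
    refine TopologicalSpace.Opens.ext (Set.eq_empty_iff_forall_notMem.mpr fun x hx => ?_)
    obtain ⟨y, hy, hy'⟩ := hd.inter_open_nonempty _ (X.basicOpen t).2 ⟨x, hx⟩
    obtain ⟨i, z, rfl⟩ := Set.mem_iUnion.mp hy'
    have h3 : z ∈ f i ⁻¹ᵁ X.basicOpen t := hy
    rw [Scheme.preimage_basicOpen, ht i, Scheme.basicOpen_zero] at h3
    exact h3

end Groth.Agent.S4873
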