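import Groth.Statements.S4874
import Groth.Agent.Lib.FBase7.Locus

set_option autoImplicit false
universe u
open CategoryTheory AlgebraicGeometry
open EGA43

namespace Groth.Agent.S4874

/-- Let (f_i : Z_i ⟶ X) be a family of morphisms, g : X' ⟶ X a faithfully flat morphism and f'_i : Z_i
×_X X' ⟶ X' the base changes. If the family (f'_i) is schematically dominant, then so is the family
(f_i). (Schematically dominant: a section of the structure sheaf over an open whose pullback along
every member of the family vanishes is zero.) -/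
theorem result {X X' : Scheme.{u}} {ι : Type u} (Z : ι → Scheme.{u})
    (f : ∀ i, Z i ⟶ X) (g : X' ⟶ X) [Flat g] [Surjective g]
    (h : (∀ (V : (X').Opens) (t : Γ(X', V)), (∀ i, (Limits.pullback.snd (f i) g).app V t = 0) → t = 0)) :
    (∀ (V : (X).Opens) (t : Γ(X, V)), (∀ i, (f i).app V t = 0) → t = 0) := by
  intro V t ht
  have h0 : g.app V t = 0 := h _ _ fun i => by
    show (g.app V ≫ (Limits.pullback.snd (f i) g).app (g ⁻¹ᵁ V)).hom t = 0
    rw [← Scheme.Hom.comp_app, Scheme.Hom.congr_app (Limits.pullback.condition).symm, Scheme.Hom.comp_app]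
    show ((Limits.pullback (f i) g).presheaf.map _).hom ((Limits.pullback.fst (f i) g).app _ ((f i).app V t)) = 0
    rw [ht i, map_zero, map_zero]
  refine TopCat.Presheaf.section_ext X.sheaf _ _ _ fun x hx => ?_
  obtain ⟨x', rfl⟩ := g.surjective x
  refine GrothLib.FBase7.stalkMap_injective_of_flat g x' ?_
  show (g.stalkMap x').hom (X.presheaf.germ V (g x') hx t) = (g.stalkMap x').hom (X.presheaf.germ V (g x') hx 0)
  rw [Scheme.Hom.germ_stalkMap_apply, h0, map_zero, map_zero, map_zero]

end Groth.Agent.S4874
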