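import Groth.Statements.S4875
import Groth.Agent.Lib.Separ.Dominant
import Groth.Agent.Lib.Separ.UnivFibre
import Groth.Agent.Lib.FlatFP.UnivInjRestrict


set_option autoImplicit false
set_option backward.isDefEq.respectTransparency false
set_option linter.style.haveILetI false
universe u
open CategoryTheory AlgebraicGeometry
open EGA43

namespace Groth.Agent.S4875

/-- Let (f_i : Z_i ⟶ X) be a schematically dominant family of morphisms and g : X' ⟶ X a flat morphism
locally of finite presentation. Then the family of base changes f'_i : Z_i ×_X X' ⟶ X' is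
schematically dominant. (No quasi-compactness of the f_i and no finiteness of the family is
assumed.) -/
theorem result {X X' : Scheme.{u}} {ι : Type u} (Z : ι → Scheme.{u})
    (f : ∀ i, Z i ⟶ X) (g : X' ⟶ X) [Flat g] [LocallyOfFinitePresentation g]
    (h : (∀ (V : (X).Opens) (t : Γ(X, V)), (∀ i, (f i).app V t = 0) → t = 0)) :
    (∀ (V : (X').Opens) (t : Γ(X', V)), (∀ i, (Limits.pullback.snd (f i) g).app V t = 0) → t = 0) := by
  refine GrothLib.Separ.dominant_of_basis _ fun y O hy => ?_
  obtain ⟨U, hU, hyU, -⟩ := exists_isAffineOpen_mem_and_subset (x := g y) (U := ⊤) trivial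
  obtain ⟨P, hP, hyP, hPO⟩ := exists_isAffineOpen_mem_and_subset (x := y) (U := O ⊓ g ⁻¹ᵁ U) ⟨hy, hyU⟩
  have e : P ≤ g ⁻¹ᵁ U := fun z hz => (hPO hz).2
  letI : Algebra Γ(X, U) Γ(X', P) := (g.appLE U P e).hom.toAlgebra
  haveI : Module.Flat Γ(X, U) Γ(X', P) := Flat.flat_appLE g hU hP e
  haveI : Algebra.FinitePresentation Γ(X, U) Γ(X', P) :=
    HasRingHomProperty.appLE @LocallyOfFinitePresentation g ‹_› ⟨U, hU⟩ ⟨P, hP⟩ e
  exact ⟨P, hyP, fun z hz => (hPO hz).1,
    GrothLib.Separ.eq_zero_of_injBC f (fun i => IsPullback.of_hasPullback (f i) g) hU hP e rfl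
      ((GrothLib.Separ.sep_chartMap f U h hU).inj_baseChange_of_flat_fp _)⟩

end Groth.Agent.S4875
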