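import Groth.Statements.S4876
import Groth.Agent.Lib.Separ.Dominant
import Groth.Agent.Lib.Separ.UnivFibre
import Groth.Agent.Lib.FlatFP.UnivInjRestrict


set_option autoImplicit false
set_option backward.isDefEq.respectTransparency false
set_option linter.style.haveILetI false
universe u
open CategoryTheory AlgebraicGeometry
open EGA43

namespace Groth.Agent.S4876

/-- Let p : X ⟶ S be a morphism with X locally Noetherian and (f_i : Z_i ⟶ X) a family of morphisms with
every Z_i flat over S. Then the family (f_i) is universally schematically dominant relative to S,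
i.e. for every base change S' ⟶ S the family Z_i ×_S S' ⟶ X ×_S S' is schematically dominant, if and
only if for every point s of S the family of fibres (Z_i)_s ⟶ X_s is schematically dominant.
(Schematically dominant: a section of the structure sheaf over an open whose pullback along every
member vanishes is zero.) -/
theorem result {X S : Scheme.{u}} [IsLocallyNoetherian X]
    (p : X ⟶ S) {ι : Type u} (Z : ι → Scheme.{u}) (f : ∀ i, Z i ⟶ X) [∀ i, Flat (f i ≫ p)] :
    (∀ (S' : Scheme.{u}) (g : S' ⟶ S),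
      (∀ (V : (Limits.pullback p g).Opens) (t : Γ(Limits.pullback p g, V)), (∀ i, (Limits.pullback.map (f i ≫ p) g p g (f i) (𝟙 S') (𝟙 S) (Category.comp_id _) ((Category.comp_id _).trans (Category.id_comp _).symm)).app V t = 0) → t = 0)) ↔
    ∀ s : S, (∀ (V : (p.fiber s).Opens) (t : Γ(p.fiber s, V)), (∀ i, (MoreMor.fiberMap (f i) p s).app V t = 0) → t = 0) := by
  refine ⟨fun h s => ?_, fun h S' g => ?_⟩
  · have hmap : ∀ i, MoreMor.fiberMap (f i) p s = Limits.pullback.map (f i ≫ p) (S.fromSpecResidueField s) p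
        (S.fromSpecResidueField s) (f i) (𝟙 _) (𝟙 S) (Category.comp_id _)
        ((Category.comp_id _).trans (Category.id_comp _).symm) := fun i =>
      Limits.pullback.hom_ext ((Limits.pullback.lift_fst _ _ _).trans (Limits.pullback.lift_fst _ _ _).symm)
        ((Limits.pullback.lift_snd _ _ _).trans
          ((Category.comp_id _).symm.trans (Limits.pullback.lift_snd _ _ _).symm))
    intro V t ht
    refine h _ (S.fromSpecResidueField s) V t fun i => ?_
    rw [← hmap i]
    exact ht i
  refine GrothLib.Separ.dominant_of_square f (f' := fun i => Limits.pullback.map (f i ≫ p) g p g (f i) (𝟙 S')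
      (𝟙 S) (Category.comp_id _) ((Category.comp_id _).trans (Category.id_comp _).symm))
    (fun i => GrothLib.Separ.isPullback_map (f i) p g _ (by simp) (by simp))
    (IsPullback.of_hasPullback p g) fun S₀ U W hS₀ hU hW eU eW => ?_
  letI : Algebra Γ(S, S₀) Γ(X, U) := (p.appLE S₀ U eU).hom.toAlgebra
  letI : Algebra Γ(S, S₀) Γ(S', W) := (g.appLE S₀ W eW).hom.toAlgebra
  haveI : IsNoetherianRing Γ(X, U) := IsLocallyNoetherian.component_noetherian ⟨U, hU⟩
  letI : ∀ j, Algebra Γ(S, S₀) (GrothLib.Separ.Chart f U j) := fun j =>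
    ((algebraMap Γ(X, U) (GrothLib.Separ.Chart f U j)).comp (algebraMap Γ(S, S₀) Γ(X, U))).toAlgebra
  haveI : ∀ j, IsScalarTower Γ(S, S₀) Γ(X, U) (GrothLib.Separ.Chart f U j) :=
    fun j => IsScalarTower.of_algebraMap_eq fun _ => rfl
  have hN : ∀ j, Module.Flat Γ(S, S₀) (GrothLib.Separ.Chart f U j) := fun ⟨i, V, hV, hVU⟩ => by
    have h1 := Flat.flat_appLE (f i ≫ p) hS₀ hV (hVU.trans ((f i).preimage_mono eU))
    rw [← Scheme.Hom.appLE_comp_appLE] at h1
    exact h1
  refine GrothLib.Separ.sepBC_of_fibres hN (fun P hP => ?_) Γ(S', W)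
  obtain ⟨s, hs, rfl⟩ := GrothLib.AssPts.exists_point hS₀ P hP
  let φ := S.fromSpecResidueField s
  have eT : (⊤ : (Spec (S.residueField s)).Opens) ≤ φ ⁻¹ᵁ S₀ := fun y _ => by
    show φ y ∈ S₀
    rw [Scheme.fromSpecResidueField_apply]
    exact hs
  letI : Algebra Γ(S, S₀) Γ(Spec (S.residueField s), ⊤) := (φ.appLE S₀ ⊤ eT).hom.toAlgebra
  have hK : IsField Γ(Spec (S.residueField s), (⊤ : (Spec (S.residueField s)).Opens)) :=
    (Scheme.ΓSpecIso (S.residueField s)).commRingCatIsoToRingEquiv.toMulEquiv.isField (Field.toIsField _)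
  let X₁ := p.fiberι s ⁻¹ᵁ U ⊓ p.fiberToSpecResidueField s ⁻¹ᵁ (⊤ : (Spec (S.residueField s)).Opens)
  letI : Algebra Γ(X, U) Γ(p.fiber s, X₁) := ((p.fiberι s).appLE U X₁ inf_le_left).hom.toAlgebra
  have sqX : IsPullback (p.fiberι s) (p.fiberToSpecResidueField s) p φ := IsPullback.of_hasPullback p φ
  have hX₁ : IsAffineOpen X₁ := GrothLib.FlatLimit.isAffineOpen_square sqX eT eU hS₀ (isAffineOpen_top _) hU
  have hdom : GrothLib.Separ.SepBC (GrothLib.Separ.chartMap f U) Γ(p.fiber s, X₁) :=
    GrothLib.Separ.sepBC_chartMap f (f' := fun i => MoreMor.fiberMap (f i) p s)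
      (fun i => GrothLib.Separ.isPullback_map (f i) p φ (MoreMor.fiberMap (f i) p s)
        (Limits.pullback.lift_fst _ _ _) (Limits.pullback.lift_snd _ _ _))
      hU hX₁ inf_le_left rfl (h s)
  obtain ⟨E⟩ := GrothLib.Separ.exists_square_equiv sqX hS₀ hU (isAffineOpen_top _) eU eT
  refine GrothLib.Separ.sepBC_residueField (ψ := GrothLib.Separ.chartMap f U) _ _ hK ?_
    (GrothLib.Separ.Sep.baseChange_congr _ E.symm hdom)
  refine (GrothLib.FlatFP.ker_appLE_of_isField φ eT hK (y := (default : Spec (S.residueField s))) trivial).trans ?_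
  congr 1
  exact Scheme.fromSpecResidueField_apply s _

end Groth.Agent.S4876
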