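import Groth.Statements.S4877
import Groth.Agent.Lib.Separ.Dominant
import Groth.Agent.Lib.Separ.UnivFibre
import Groth.Agent.Lib.FlatFP.UnivInjRestrict


set_option autoImplicit false
set_option backward.isDefEq.respectTransparency false
set_option linter.style.haveILetI false
universe u
open CategoryTheory AlgebraicGeometry
open EGA43

namespace Groth.Agent.S4877

/-- Let k be a field, X a k-scheme, (f_i : Z_i ⟶ X) a schematically dominant family of morphisms and S'
an arbitrary k-scheme. Then the family of base changes Z_i ×_k S' ⟶ X ×_k S' is schematically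
dominant. (Schematically dominant: a section of the structure sheaf over an open whose pullback
along every member vanishes is zero.) -/
theorem result {k : Type u} [Field k] {X S' : Scheme.{u}}
    (p : X ⟶ Spec (CommRingCat.of k)) (q : S' ⟶ Spec (CommRingCat.of k))
    {ι : Type u} (Z : ι → Scheme.{u}) (f : ∀ i, Z i ⟶ X)
    (h : (∀ (V : (X).Opens) (t : Γ(X, V)), (∀ i, (f i).app V t = 0) → t = 0)) :
    (∀ (V : (Limits.pullback p q).Opens) (t : Γ(Limits.pullback p q, V)), (∀ i, (Limits.pullback.map (f i ≫ p) q p q (f i) (𝟙 S') (𝟙 _) (Category.comp_id _) ((Category.comp_id _).trans (Category.id_comp _).symm)).app V t = 0) → t = 0) := by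
  refine GrothLib.Separ.dominant_of_square f (f' := fun i => Limits.pullback.map (f i ≫ p) q p q (f i) (𝟙 S')
      (𝟙 _) (Category.comp_id _) ((Category.comp_id _).trans (Category.id_comp _).symm))
    (fun i => GrothLib.Separ.isPullback_map (f i) p q _ (by simp) (by simp))
    (IsPullback.of_hasPullback p q) fun S₀ U W hS₀ hU hW eU eW => ?_
  letI := (p.appLE S₀ U eU).hom.toAlgebra
  letI := (q.appLE S₀ W eW).hom.toAlgebra
  by_cases hs : (default : Spec (CommRingCat.of k)) ∈ S₀
  · obtain rfl : S₀ = ⊤ := by
      ext s
      simpa [Subsingleton.elim s default] using hs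
    letI : Field Γ(Spec (CommRingCat.of k), (⊤ : (Spec (CommRingCat.of k)).Opens)) :=
      ((Scheme.ΓSpecIso (CommRingCat.of k)).commRingCatIsoToRingEquiv.toMulEquiv.isField
        (Field.toIsField k)).toField
    exact GrothLib.Separ.Sep.baseChange_of_field (GrothLib.Separ.sep_chartMap f U h hU) _
  · have hbot : S₀ = ⊥ := by
      ext s
      simpa [Subsingleton.elim s default] using hs
    subst hbot
    haveI : Subsingleton Γ(X, U) := by
      have hU0 : U = ⊥ := le_bot_iff.mp fun x hx => (eU hx : _)
      subst hU0
      infer_instance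
    intro g z _
    haveI := Module.subsingleton Γ(X, U)
      (TensorProduct Γ(X, U) (TensorProduct Γ(Spec (CommRingCat.of k), ⊥) Γ(X, U) Γ(S', W)) Γ(X, U))
    exact ⟨0, Subsingleton.elim _ _⟩

end Groth.Agent.S4877
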