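import Groth.Statements.S4878

set_option autoImplicit false
universe u
open TensorProduct
open EGA43

namespace Groth.Agent.S4878

/-- Let A be a commutative ring, (u_i : M → M_i) a family of A-linear maps whose kernels have zero
intersection, and N a projective A-module. Then the kernels of the maps u_i ⊗ 1 : M ⊗_A N → M_i ⊗_A
N have zero intersection. -/
theorem result {A : Type u} [CommRing A]
    {M : Type u} [AddCommGroup M] [Module A M] {ι : Type u} (M' : ι → Type u)
    [∀ i, AddCommGroup (M' i)] [∀ i, Module A (M' i)] (u : ∀ i, M →ₗ[A] M' i)
    (hu : ⨅ i, LinearMap.ker (u i) = ⊥)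
    (N : Type u) [AddCommGroup N] [Module A N] [Module.Projective A N] :
    ⨅ i, LinearMap.ker ((u i).rTensor N) = ⊥ := by
  classical
  obtain ⟨s, hs⟩ := (Module.projective_def (R := A) (P := N)).1 inferInstance
  rw [eq_bot_iff]
  intro x hx
  rw [Submodule.mem_iInf] at hx
  rw [Submodule.mem_bot]
  have h1 : TensorProduct.finsuppScalarRight A A M N (s.lTensor M x) = 0 := by
    ext n
    refine (Submodule.mem_bot A).1 (hu ▸ (Submodule.mem_iInf _).2 fun i => ?_)
    have key : ∀ z, u i (TensorProduct.finsuppScalarRight A A M N (s.lTensor M z) n) =
        TensorProduct.finsuppScalarRight A A (M' i) N (s.lTensor (M' i) ((u i).rTensor N z)) n := by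
      intro z
      induction z using TensorProduct.induction_on with
      | zero => simp
      | add a b ha hb => simp [ha, hb]
      | tmul m p => simp
    rw [LinearMap.mem_ker, key, LinearMap.mem_ker.1 (hx i)]
    simp
  have hinj : Function.Injective (s.lTensor M) := by
    refine Function.LeftInverse.injective (g := (Finsupp.linearCombination A id).lTensor M) fun z => ?_
    rw [← LinearMap.comp_apply, ← LinearMap.lTensor_comp,
      show (Finsupp.linearCombination A id) ∘ₗ s = LinearMap.id from LinearMap.ext hs, LinearMap.lTensor_id]
    rfl
  exact hinj (((TensorProduct.finsuppScalarRight A A M N).map_eq_zero_iff.1 h1).trans (map_zero _).symm)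

end Groth.Agent.S4878
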