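import Groth.Statements.S4880
import Groth.Agent.Lib.ArtinTate.Space
import Mathlib.Tactic.TFAE

set_option autoImplicit false
universe u
open CategoryTheory AlgebraicGeometry
open EGA43

namespace Groth.Agent.S4880

/-- For a Noetherian irreducible scheme X the following are equivalent: a) the generic point of X is an
isolated point; b) the underlying set of X is finite; c) X has dimension at most 1 and finitely many
closed points. -/
theorem result (X : Scheme.{u}) [IsNoetherian X]
    [IrreducibleSpace X] :
    [IsOpen ({genericPoint X} : Set X),
      Finite X,
      topologicalKrullDim X ≤ 1 ∧ {x : X | IsClosed ({x} : Set X)}.Finite].TFAE := by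
  have huniv : closure ({genericPoint X} : Set X) = Set.univ := genericPoint_closure _
  tfae_have 1 → 2 := fun h => by
    have hf := GrothLib.ArtinTate.finite_closure_of_isLocallyClosed h.isLocallyClosed
    rw [huniv] at hf
    exact Set.finite_univ_iff.1 hf
  tfae_have 2 → 1 := fun _ => by
    have hD : IsClosed (⋃ p ∈ {p : X | p ≠ genericPoint X}, closure ({p} : Set X)) :=
      (Set.toFinite _).isClosed_biUnion fun _ _ => isClosed_closure
    convert hD.isOpen_compl
    ext q
    constructor
    · rintro rfl hq
      obtain ⟨p, hp, hpq⟩ := Set.mem_iUnion₂.1 hq
      exact hp ((specializes_iff_mem_closure.2 hpq).antisymm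
        (genericPoint_specializes p)).eq
    · intro hq
      by_contra hne
      exact hq (Set.mem_iUnion₂.2 ⟨q, hne, subset_closure rfl⟩)
  tfae_have 1 → 3 := fun h => by
    refine ⟨?_, ?_⟩
    · haveI : QuasiSober X := inferInstance
      refine GrothLib.ArtinTate.topologicalKrullDim_le_one fun η => ?_
      by_cases hη : η = genericPoint X
      · exact Or.inl (hη ▸ huniv)
      · exact Or.inr (GrothLib.ArtinTate.isClosed_of_specializes_of_isLocallyClosed h.isLocallyClosed
          (genericPoint_specializes η) hη)
    · have hf := GrothLib.ArtinTate.finite_closure_of_isLocallyClosed h.isLocallyClosed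
      rw [huniv] at hf
      exact hf.subset (Set.subset_univ _)
  tfae_have 3 → 2 := fun ⟨hdim, hfin⟩ => by
    have hall : (Set.univ : Set X) ⊆ insert (genericPoint X) {x : X | IsClosed ({x} : Set X)} := fun p _ => by
      by_cases hp : p = genericPoint X
      · exact Or.inl hp
      refine Or.inr ?_
      let T : TopologicalSpace.IrreducibleCloseds X :=
        ⟨closure {p}, isIrreducible_singleton.closure, isClosed_closure⟩
      rcases Order.krullDim_le_one_iff.1 hdim T with hmin | hmax
      · refine isClosed_of_closure_subset fun q hq => ?_
        let Tq : TopologicalSpace.IrreducibleCloseds X :=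
          ⟨closure {q}, isIrreducible_singleton.closure, isClosed_closure⟩
        have h1 : Tq ≤ T := isClosed_closure.closure_subset_iff.2 (Set.singleton_subset_iff.2 hq)
        have h2 : p ∈ closure ({q} : Set X) := hmin h1 (subset_closure rfl : p ∈ closure ({p} : Set X))
        exact ((specializes_iff_mem_closure.2 h2).antisymm (specializes_iff_mem_closure.2 hq)).eq
      · let Tu : TopologicalSpace.IrreducibleCloseds X :=
          ⟨closure {genericPoint X}, isIrreducible_singleton.closure, isClosed_closure⟩
        have h1 : T ≤ Tu := by
          show closure ({p} : Set X) ⊆ closure {genericPoint X}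
          rw [huniv]; exact Set.subset_univ _
        have h2 : genericPoint X ∈ closure ({p} : Set X) := hmax h1 (subset_closure rfl : genericPoint X ∈ closure ({genericPoint X} : Set X))
        exact absurd ((genericPoint_specializes p).antisymm (specializes_iff_mem_closure.2 h2)).eq.symm hp
    exact Set.finite_univ_iff.1 ((hfin.insert _).subset hall)
  tfae_finish

end Groth.Agent.S4880
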