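import Groth.Statements.S4881
import Groth.Agent.Lib.Chev28.Jacobson
import Groth.Agent.Lib.AlgSp.CodimOneQF
import Groth.Agent.Lib.AffDom.PointDim

set_option autoImplicit false
universe u
open CategoryTheory AlgebraicGeometry
open EGA43

namespace Groth.Agent.S4881

/-- Let X be a locally Noetherian scheme which is Jacobson, whose local rings are universally catenary,
and whose irreducible components X' are equidimensional in the sense that for every closed point x
of X' the dimension of X' equals the dimension of the set of generizations of x in X'. Then for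
every dense open subset U of X, dim U = dim X. -/
theorem result (X : Scheme.{u}) [IsLocallyNoetherian X] [JacobsonSpace X]
    (h2 : ∀ x : X, CAlg.IsUniversallyCatenary (X.presheaf.stalk x))
    (h3 : ∀ X' ∈ irreducibleComponents (X : Type u), ∀ x ∈ X', IsClosed ({x} : Set X) →
      topologicalKrullDim (↥X' : Type u) = topologicalKrullDim ↥{t : X | t ∈ X' ∧ t ⤳ x})
    (U : Set X) (hU : IsOpen U) (hd : Dense U) :
    topologicalKrullDim ↥U = topologicalKrullDim X := by
  refine le_antisymm (topologicalKrullDim_subspace_le X U) ?_
  rw [GrothLib.AffDom.topologicalKrullDim_eq_iSup X]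
  refine iSup_le fun z => ?_
  obtain ⟨ξ, hξz, hmax⟩ := GrothLib.AffDom.exists_maximal_point z
  have hξU : ξ ∈ U := GrothLib.AlgSp.mem_of_dense_open hU hd ξ hmax
  obtain ⟨s, ⟨hsξ, hsU⟩, hsc⟩ := nonempty_inter_closedPoints (X := X) (Z := closure {ξ} ∩ U)
    ⟨ξ, subset_closure rfl, hξU⟩ (isClosed_closure.isLocallyClosed.inter hU.isLocallyClosed)
  have hle : topologicalKrullDim ↥(closure ({z} : Set X)) ≤ topologicalKrullDim ↥(closure ({ξ} : Set X)) :=
    (Topology.IsEmbedding.inclusion (closure_minimal (Set.singleton_subset_iff.mpr hξz.mem_closure)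
      isClosed_closure)).isInducing.topologicalKrullDim_le
  refine hle.trans ((h3 _ (GrothLib.Equidim6.closure_mem_components hmax) s hsξ hsc).le.trans ?_)
  exact (Topology.IsEmbedding.inclusion (t := U) (fun t ht => (ht.2 : t ⤳ s).mem_open hU hsU)).isInducing.topologicalKrullDim_le

end Groth.Agent.S4881
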