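import Groth.Statements.S4882
import Groth.Agent.Lib.QHomeo.Basic

set_option autoImplicit false
universe u
open EGA43

namespace Groth.Agent.S4882

/-- Let X be a Jacobson space and Z a locally quasi-constructible subset of X, i.e. every point of X has
an open neighbourhood U such that U ∩ Z is a finite union of locally closed subsets of X. Then the
subspace Z is a Jacobson space, and a point of Z is closed in Z if and only if it is closed in X. -/
theorem result {X : Type u} [TopologicalSpace X] [JacobsonSpace X]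
    (Z : Set X)
    (hZ : ∀ x : X, ∃ U : Set X, IsOpen U ∧ x ∈ U ∧
      ∃ T : Set (Set X), T.Finite ∧ (∀ t ∈ T, IsLocallyClosed t) ∧ U ∩ Z = ⋃₀ T) :
    JacobsonSpace ↥Z ∧ ∀ z : ↥Z, IsClosed ({z} : Set ↥Z) ↔ IsClosed ({(z : X)} : Set X) := by
  have hZ' : GrothLib.QHomeo.LQC Z := hZ
  have key : ∀ z : ↥Z, IsClosed ({z} : Set ↥Z) → IsClosed ({(z : X)} : Set X) := by
    intro z hz
    obtain ⟨C, hC, hCz⟩ := isClosed_induced_iff.1 hz
    obtain ⟨x, hx, hx'⟩ := GrothLib.QHomeo.VDense.inter_lqc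
      (fun W hW hne => nonempty_inter_closedPoints hne hW)
      (GrothLib.QHomeo.lqc_inter hZ' (GrothLib.QHomeo.lqc_of_lc hC.isLocallyClosed))
      ⟨z.1, z.2, hCz.symm.subset (Set.mem_singleton z)⟩
    have h1 : (⟨x, hx.1⟩ : ↥Z) = z := hCz.subset hx.2
    rw [← h1]
    exact hx'
  have key' : ∀ z : ↥Z, IsClosed ({(z : X)} : Set X) → IsClosed ({z} : Set ↥Z) := fun z h => by
    rw [show ({z} : Set ↥Z) = Subtype.val ⁻¹' {(z : X)} by ext y; simp [Subtype.ext_iff]]
    exact h.preimage continuous_subtype_val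
  refine ⟨jacobsonSpace_iff_locallyClosed.2 fun W hne hW => ?_, fun z => ⟨key z, key' z⟩⟩
  obtain ⟨V, hV, hVW⟩ := Topology.IsInducing.subtypeVal.isLocallyClosed_iff.1 hW
  obtain ⟨z, hz⟩ := hne
  obtain ⟨x, hx, hx'⟩ := GrothLib.QHomeo.VDense.inter_lqc
    (fun W hW hne => nonempty_inter_closedPoints hne hW)
    (GrothLib.QHomeo.lqc_inter hZ' (GrothLib.QHomeo.lqc_of_lc hV)) ⟨z.1, z.2, hVW.symm.subset hz⟩
  exact ⟨⟨x, hx.1⟩, hVW.subset hx.2, key' ⟨x, hx.1⟩ hx'⟩

end Groth.Agent.S4882
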