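import Groth.Statements.S4884
import Groth.Agent.Lib.GeomNorm5.Model

set_option autoImplicit false
universe u
open CategoryTheory AlgebraicGeometry
open EGA43

namespace Groth.Agent.S4884

/-- Let f : X ⟶ Y be locally of finite presentation and x a point of X with y = f x. If O_{Y,y} is
geometrically unibranch and f is normal at x — that is, f is flat at x and the fibre X_y is
geometrically normal at x: for every finite field extension K of k(y), the local rings of X_y
⊗_{k(y)} K at the points above x are integrally closed domains — then O_{X,x} is geometrically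
unibranch. -/
theorem result {X Y : Scheme.{u}} (f : X ⟶ Y) [LocallyOfFinitePresentation f]
    (x : X) (hY : CAlg2.IsGeomUnibranch ↑(Y.presheaf.stalk (f x))) (hflat : (f.stalkMap x).hom.Flat)
    (hnorm : ∀ (K : Type u) [Field K] [Algebra (IsLocalRing.ResidueField ↑(Y.presheaf.stalk (f x))) K],
      Module.Finite (IsLocalRing.ResidueField ↑(Y.presheaf.stalk (f x))) K →
      ∀ x' : ↥(FBase.bc (f.fiberToSpecResidueField (f x)) K),
        FBase.bcπ (f.fiberToSpecResidueField (f x)) K x' = f.asFiber x →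
        IsDomain ↑((FBase.bc (f.fiberToSpecResidueField (f x)) K).presheaf.stalk x') ∧
          IsIntegrallyClosed ↑((FBase.bc (f.fiberToSpecResidueField (f x)) K).presheaf.stalk x')) :
    CAlg2.IsGeomUnibranch ↑(X.presheaf.stalk x) := by
  obtain ⟨V, hV, hxV, -⟩ := exists_isAffineOpen_mem_and_subset (x := f x) (U := ⊤) trivial
  let U : X.Opens := ⟨{z | (f.stalkMap z).hom.Flat ∧ GrothLib.GeomNorm5.NormAt f z}, GrothLib.GeomNorm5.isOpen_normAt f⟩
  have hxU : x ∈ U := ⟨hflat, (GrothLib.GeomNorm5.normAt_iff_fibre f x).2 hnorm⟩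
  obtain ⟨W, hW, hxW, hWle⟩ := exists_isAffineOpen_mem_and_subset (x := x) (U := f ⁻¹ᵁ V ⊓ U) ⟨hxV, hxU⟩
  have e : W ≤ f ⁻¹ᵁ V := fun z hz => (hWle hz).1
  letI : Algebra Γ(Y, V) Γ(X, W) := (f.appLE V W e).hom.toAlgebra
  haveI : Module.Flat Γ(Y, V) Γ(X, W) :=
    GrothLib.FibPd.flat_appLE_of_stalkMap f hV hW e fun w hw => (hWle hw).2.1
  haveI : Algebra.FinitePresentation Γ(Y, V) Γ(X, W) :=
    RingHom.finitePresentation_algebraMap.mp (f.finitePresentation_appLE hV hW e)
  let Q := (hW.primeIdealOf ⟨x, hxW⟩).asIdeal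
  have hp : Q.comap (algebraMap Γ(Y, V) Γ(X, W)) = (hV.primeIdealOf ⟨f x, hxV⟩).asIdeal :=
    congrArg PrimeSpectrum.asIdeal (IsAffineOpen.comap_primeIdealOf_appLE V hV W hW e hxW)
  letI := Y.presheaf.algebra_section_stalk ⟨f x, hxV⟩
  haveI : IsLocalization.AtPrime (Y.presheaf.stalk (f x)) (Q.comap (algebraMap Γ(Y, V) Γ(X, W))) := by
    have h0 : IsLocalization (hV.primeIdealOf ⟨f x, hxV⟩).asIdeal.primeCompl (Y.presheaf.stalk (f x)) :=
      hV.isLocalization_stalk ⟨f x, hxV⟩
    show IsLocalization (Q.comap (algebraMap Γ(Y, V) Γ(X, W))).primeCompl (Y.presheaf.stalk (f x))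
    simp only [hp]
    exact h0
  letI := X.presheaf.algebra_section_stalk ⟨x, hxW⟩
  haveI : IsLocalization.AtPrime (X.presheaf.stalk x) Q := hW.isLocalization_stalk ⟨x, hxW⟩
  haveI : IsOpenImmersion hW.fromSpec := hW.isOpenImmersion_fromSpec
  haveI : IsOpenImmersion hV.fromSpec := hV.isOpenImmersion_fromSpec
  have hn : GrothLib.GeomNorm5.NormAt (Spec.map (CommRingCat.ofHom (algebraMap Γ(Y, V) Γ(X, W)))) ⟨Q, inferInstance⟩ := by
    refine GrothLib.GeomNorm5.normAt_restrict (f := f) hW.fromSpec hV.fromSpec ?_ ?_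
    · exact (hV.SpecMap_appLE_fromSpec f hW e).symm
    · have h0 : hW.fromSpec (hW.primeIdealOf ⟨x, hxW⟩) = x := hW.fromSpec_primeIdealOf ⟨x, hxW⟩
      exact (h0.symm ▸ hxU.2 :)
  refine GrothLib.BrnchNhd.isGeomUnibranch_of_ringEquiv
    (IsLocalization.algEquiv Q.primeCompl (Localization.AtPrime Q) (X.presheaf.stalk x)).toRingEquiv
    (GrothLib.GeomNorm5.isGeomUnibranch_atPrime Γ(Y, V) Γ(X, W) Q hn ?_)
  exact GrothLib.BrnchNhd.isGeomUnibranch_of_ringEquiv
    (IsLocalization.algEquiv (Q.comap (algebraMap Γ(Y, V) Γ(X, W))).primeCompl (Y.presheaf.stalk (f x))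
      (Localization.AtPrime (Q.comap (algebraMap Γ(Y, V) Γ(X, W))))).toRingEquiv hY

end Groth.Agent.S4884
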