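import Groth.Statements.S4885


set_option autoImplicit false
universe u
open EGA43

namespace Groth.Agent.S4885

/-- Every finite algebra A' over a commutative ring A is a directed colimit (filtered inductive limit)
of A-algebras which are finite and of finite presentation over A. -/
theorem result (A A' : Type u) [CommRing A] [CommRing A']
    [Algebra A A'] [Module.Finite A A'] :
    ∃ (ι : Type u) (_ : Preorder ι) (G : ι → Type u) (_ : ∀ i, CommRing (G i)) (_ : ∀ i, Algebra A (G i))
      (g : ∀ i j, i ≤ j → G i →ₐ[A] G j) (_ : ∀ i, Algebra (G i) A') (_ : ∀ i, IsScalarTower A (G i) A'),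
      FlatCA.IsDirectedColimitRing G (fun i j h => (g i j h).toRingHom) A' ∧
        ∀ i, Module.Finite A (G i) ∧ Algebra.FinitePresentation A (G i) := by
  classical
  obtain ⟨t, ht⟩ := (Module.Finite.fg_top : (⊤ : Submodule A A').FG)
  let P := MvPolynomial {x // x ∈ t} A
  let π : P →ₐ[A] A' := MvPolynomial.aeval fun x => (x : A')
  have hπ : Function.Surjective π := fun y => by
    have hy : y ∈ Submodule.span A (t : Set A') := by rw [ht]; trivial
    induction hy using Submodule.span_induction with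
    | mem x hx => exact ⟨MvPolynomial.X ⟨x, hx⟩, MvPolynomial.aeval_X _ _⟩
    | zero => exact ⟨0, map_zero _⟩
    | add a b _ _ ha hb =>
      obtain ⟨a, rfl⟩ := ha; obtain ⟨b, rfl⟩ := hb
      exact ⟨a + b, map_add _ _ _⟩
    | smul c a _ ha =>
      obtain ⟨a, rfl⟩ := ha
      exact ⟨c • a, map_smul _ _ _⟩
  choose p hpm hp using fun x : {x // x ∈ t} => (Algebra.IsIntegral.isIntegral (R := A) (x : A'))
  let S₀ : Finset P := Finset.univ.image fun x => Polynomial.aeval (MvPolynomial.X x : P) (p x)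
  have hS₀ : (S₀ : Set P) ⊆ RingHom.ker π := fun z hz => by
    obtain ⟨x, -, rfl⟩ := Finset.mem_image.1 (Finset.mem_coe.1 hz)
    show π _ = 0
    rw [← Polynomial.aeval_algHom_apply]
    show (Polynomial.aeval ((MvPolynomial.aeval fun v : {v // v ∈ t} => (v : A')) (MvPolynomial.X x))) (p x) = 0
    rw [MvPolynomial.aeval_X, Polynomial.aeval_def]
    exact hp x
  let ι := {s : Finset P // S₀ ⊆ s ∧ (s : Set P) ⊆ RingHom.ker π}
  have hle : ∀ s : ι, Ideal.span (s.1 : Set P) ≤ RingHom.ker π := fun s => Ideal.span_le.2 s.2.2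
  letI : ∀ s : ι, Algebra (P ⧸ Ideal.span (s.1 : Set P)) A' := fun s =>
    (Ideal.Quotient.lift _ π.toRingHom (hle s)).toAlgebra
  haveI : ∀ s : ι, IsScalarTower A (P ⧸ Ideal.span (s.1 : Set P)) A' := fun s =>
    IsScalarTower.of_algebraMap_eq (R := A) (S := P ⧸ Ideal.span (s.1 : Set P)) (A := A') fun a => (π.commutes a).symm
  refine ⟨ι, inferInstance, fun s => P ⧸ Ideal.span (s.1 : Set P), inferInstance, inferInstance,
    fun s s' h => Ideal.Quotient.factorₐ A (Ideal.span_mono (Finset.coe_subset.2 h)), inferInstance, inferInstance,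
    ⟨⟨fun s s' => ⟨⟨s.1 ∪ s'.1, s.2.1.trans Finset.subset_union_left, by
        rw [Finset.coe_union]; exact Set.union_subset s.2.2 s'.2.2⟩, Finset.subset_union_left, Finset.subset_union_right⟩⟩,
      ⟨⟨S₀, subset_rfl, hS₀⟩⟩, fun s => ?_, fun i j k hij hjk => ?_, fun i j h => ?_, fun a => ?_, fun s x hx => ?_⟩,
    fun s => ?_⟩
  · refine RingHom.ext fun x => ?_
    obtain ⟨x, rfl⟩ := Ideal.Quotient.mk_surjective x
    rfl
  · refine RingHom.ext fun x => ?_
    obtain ⟨x, rfl⟩ := Ideal.Quotient.mk_surjective x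
    rfl
  · refine RingHom.ext fun x => ?_
    obtain ⟨x, rfl⟩ := Ideal.Quotient.mk_surjective x
    rfl
  · obtain ⟨z, rfl⟩ := hπ a
    exact ⟨⟨S₀, subset_rfl, hS₀⟩, Ideal.Quotient.mk _ z, rfl⟩
  · obtain ⟨z, rfl⟩ := Ideal.Quotient.mk_surjective x
    have hz : π z = 0 := hx
    refine ⟨⟨insert z s.1, s.2.1.trans (Finset.subset_insert _ _), by
      rw [Finset.coe_insert]; exact Set.insert_subset hz s.2.2⟩, Finset.subset_insert _ _, ?_⟩
    show Ideal.Quotient.mk _ z = 0
    rw [Ideal.Quotient.eq_zero_iff_mem]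
    exact Ideal.subset_span (Finset.mem_coe.2 (Finset.mem_insert_self _ _))
  · haveI hfp : Algebra.FinitePresentation A (P ⧸ Ideal.span (s.1 : Set P)) :=
      Algebra.FinitePresentation.quotient ⟨s.1, rfl⟩
    haveI : Algebra.IsIntegral A (P ⧸ Ideal.span (s.1 : Set P)) := by
      refine ⟨fun x => ?_⟩
      obtain ⟨z, rfl⟩ := Ideal.Quotient.mk_surjective x
      have hz : z ∈ Algebra.adjoin A (Set.range (MvPolynomial.X : {x // x ∈ t} → P)) := by
        rw [MvPolynomial.adjoin_range_X]; trivial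
      induction hz using Algebra.adjoin_induction with
      | mem y hy =>
        obtain ⟨v, rfl⟩ := hy
        refine ⟨p v, hpm v, ?_⟩
        rw [← Polynomial.aeval_def, ← Ideal.Quotient.mkₐ_eq_mk A, Polynomial.aeval_algHom_apply]
        exact Ideal.Quotient.eq_zero_iff_mem.2 (Ideal.subset_span (s.2.1 (Finset.mem_image_of_mem _ (Finset.mem_univ v))))
      | algebraMap c => exact isIntegral_algebraMap
      | add a b _ _ ha hb => rw [map_add]; exact ha.add hb
      | mul a b _ _ ha hb => rw [map_mul]; exact ha.mul hb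
    exact ⟨Algebra.IsIntegral.finite, hfp⟩


end Groth.Agent.S4885
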