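import Groth.Statements.S4886
import Mathlib
import Groth.Agent.Lib.MonoEndo14.FiniteType
import Groth.Agent.Lib.Zeta.IntScheme

set_option autoImplicit false
universe u
open CategoryTheory AlgebraicGeometry
open EGA43

namespace Groth.Agent.S4886

set_option linter.style.haveILetI false

theorem closed_of_finite {Y : Scheme.{u}} (v : Y ⟶ Spec (CommRingCat.of (ULift.{u} ℤ))) [LocallyOfFiniteType v]
    (y : Y) [Finite (Y.residueField y)] : IsClosed ({y} : Set Y) := by
  haveI : IsJacobsonRing ℤ := GrothLib.Zeta.isJacobsonRing_int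
  haveI : IsJacobsonRing (CommRingCat.of (ULift.{u} ℤ)) :=
    isJacobsonRing_of_surjective ⟨(ULift.ringEquiv.symm : ℤ ≃+* ULift.{u} ℤ).toRingHom,
      (ULift.ringEquiv.symm : ℤ ≃+* ULift.{u} ℤ).surjective⟩
  haveI : JacobsonSpace Y := LocallyOfFiniteType.jacobsonSpace v
  rw [isClosed_singleton_iff_locallyOfFiniteType]
  haveI : LocallyOfFiniteType (Y.fromSpecResidueField y ≫ v) := by
    rw [← Spec.map_preimage (Y.fromSpecResidueField y ≫ v),
      HasRingHomProperty.Spec_iff (P := @LocallyOfFiniteType)]
    exact RingHom.FiniteType.of_finite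
      (@Module.Finite.of_finite _ _ _ _ (Spec.preimage (Y.fromSpecResidueField y ≫ v)).hom.toAlgebra.toModule _)
  exact locallyOfFiniteType_of_comp _ v


set_option maxHeartbeats 400000 in
theorem finite_points {Y : Scheme.{u}} (v : Y ⟶ Spec (CommRingCat.of (ULift.{u} ℤ))) [LocallyOfFiniteType v]
    [CompactSpace Y] (F : Type u) [Field F] [Finite F] :
    {y : Y | Nonempty (↑(Y.residueField y) →+* F)}.Finite := by
  haveI : IsLocalRing (CommRingCat.of F) := inferInstanceAs (IsLocalRing F)
  haveI : Finite (CommRingCat.of F) := inferInstanceAs (Finite F)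
  haveI := GrothLib.MonoEndo14.finite_hom v (CommRingCat.of F)
  refine (Set.finite_range fun t : Spec (CommRingCat.of F) ⟶ Y => t (IsLocalRing.closedPoint (CommRingCat.of F))).subset ?_
  rintro y ⟨φ⟩
  refine ⟨Spec.map (CommRingCat.ofHom φ) ≫ Y.fromSpecResidueField y, ?_⟩
  show (Spec.map (CommRingCat.ofHom φ) ≫ Y.fromSpecResidueField y) (IsLocalRing.closedPoint (CommRingCat.of F)) = y
  rw [Scheme.Hom.comp_apply]
  exact Scheme.fromSpecResidueField_apply _ _

/-- Let Y be a scheme of finite type over ℤ. (i) A point y of Y is closed if and only if the residue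
field k(y) is finite. (ii) For every prime number p and every integer d ≥ 1, the set of points y of
Y such that k(y) is an extension of 𝔽_p of degree dividing d, i.e. admits a ring homomorphism into
the field with p^d elements, is finite. -/
theorem result (Y : Scheme.{u}) [CompactSpace Y]
    [LocallyOfFiniteType (Limits.IsTerminal.from specULiftZIsTerminal Y)] :
    (∀ y : Y, IsClosed ({y} : Set Y) ↔ Finite ↑(Y.residueField y)) ∧
    ∀ (p d : ℕ) [Fact p.Prime], 0 < d →
      {y : Y | Nonempty (↑(Y.residueField y) →+* GaloisField p d)}.Finite := by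
  let v := Limits.IsTerminal.from specULiftZIsTerminal Y
  refine ⟨fun y => ⟨fun hy => GrothLib.MonoEndo14.finite_residueField v hy,
    fun h => closed_of_finite v y⟩, fun p d _ hd => ?_⟩
  haveI : Finite (GaloisField p d) := Module.finite_of_finite (ZMod p)
  letI : Field (ULift.{u} (GaloisField p d)) := ULift.field
  refine (finite_points v (ULift.{u} (GaloisField p d))).subset fun y => ?_
  rintro ⟨φ⟩
  exact ⟨(ULift.ringEquiv.symm : GaloisField p d ≃+* ULift.{u} (GaloisField p d)).toRingHom.comp φ⟩

end Groth.Agent.S4886
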