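import Groth.Statements.S4887
import Groth.Agent.Lib.FlatFP.Kernel

set_option autoImplicit false
universe u
open EGA43

namespace Groth.Agent.S4887

open AlgebraicGeometry CategoryTheory Limits in
/-- Let f : X ⟶ Y be locally of finite presentation, G and H quasi-coherent O_X-modules of finite
presentation with H f-flat, and p : G ⟶ H an epimorphism. Then Ker p is an O_X-module of finite
presentation. -/
theorem result {X Y : Scheme.{u}} (f : X ⟶ Y) [LocallyOfFinitePresentation f]
    (G H : X.Modules) [Coh.IsQCoh G] [Coh.IsQCoh H] (hG : CohB1.IsFP G) (hH : CohB1.IsFP H)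
    (hflat : FlatMod.IsFlatOver f H) (p : G ⟶ H) [Epi p] :
    CohB1.IsFP (kernel p) := by
  exact GrothLib.FlatFP.isFP_kernel f G H hG hH hflat p

end Groth.Agent.S4887
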