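import Groth.Statements.S4888
import Groth.Agent.Lib.Chev28.SpecDim

set_option autoImplicit false
universe u
open CategoryTheory AlgebraicGeometry
open EGA43

namespace Groth.Agent.S4888

/-- Let X be a locally Noetherian Jacobson scheme whose local rings are universally catenary and whose
irreducible components are equidimensional (for every irreducible component X' and closed point x of
X', dim X' equals the dimension of the space of generizations of x in X'); let Y be a closed subset
of X and x a point of Y. Then dim_x(Y) = dim(U ∩ Y) = dim cl{x} + codim(cl{x}, Y) = sup_i dim(Y_i);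
that is, the local dimension of Y at x equals the dimension of the closure of x plus the codimension
of that closure in Y (the Krull dimension of the space of generizations of x in Y), equals the
supremum of the dimensions of the irreducible components Y_i of Y through x, and equals dim(U ∩ Y)
for every open neighbourhood U of x meeting no irreducible component of Y that avoids x. (The
published statement assumes only the Jacobson and universally-catenary conditions; its proof applies
the dimension formula for dense opens to the irreducible components, which needs their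
equidimensionality, and for an irreducible Noetherian Jacobson scheme with universally catenary
local rings having two closed points with local rings of different dimensions n − 1 and n — such
schemes exist — the two sides differ at the first of these points; so equidimensionality of the
components is assumed here.) -/
theorem result (X : Scheme.{u}) [IsLocallyNoetherian X] [JacobsonSpace X]
    (h2 : ∀ x : X, CAlg.IsUniversallyCatenary (X.presheaf.stalk x))
    (h3 : ∀ X' ∈ irreducibleComponents (X : Type u), ∀ x ∈ X', IsClosed ({x} : Set X) →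
      topologicalKrullDim (↥X' : Type u) = topologicalKrullDim ↥{t : X | t ∈ X' ∧ t ⤳ x})
    (Y : Set X) (hY : IsClosed Y) (x : X) (hx : x ∈ Y) :
    FlatMor.localDim ↥Y ⟨x, hx⟩ =
        topologicalKrullDim ↥(closure ({x} : Set X)) + topologicalKrullDim ↥{t : X | t ∈ Y ∧ t ⤳ x} ∧
      FlatMor.localDim ↥Y ⟨x, hx⟩ =
        ⨆ C ∈ {C : Set ↥Y | C ∈ irreducibleComponents ↥Y ∧ (⟨x, hx⟩ : ↥Y) ∈ C}, topologicalKrullDim ↥C ∧
      ∀ U : Set X, IsOpen U → x ∈ U →
        (∀ C ∈ irreducibleComponents ↥Y, (⟨x, hx⟩ : ↥Y) ∉ C → Disjoint (Subtype.val ⁻¹' U) C) →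
        topologicalKrullDim ↥(U ∩ Y) = FlatMor.localDim ↥Y ⟨x, hx⟩ := by
  obtain ⟨σ, hσY, hσx, hmax, hloc, hadd, hU⟩ := GrothLib.Chev28.localDim_closed h2 h3 Y hY x hx
  refine ⟨hloc.trans hadd, ?_, fun U hUo hxU hdisj => ?_⟩
  · haveI : QuasiSober ↥Y := hY.isClosedEmbedding_subtypeVal.quasiSober
    have hdimC : ∀ (C : Set ↥Y), IsClosed C → ∀ t : ↥Y, closure {t} = C →
        topologicalKrullDim ↥C = topologicalKrullDim ↥(closure ({t.1} : Set X)) := fun C _ t ht => by
      subst ht
      refine GrothLib.Dim.IsEmbedding.topologicalKrullDim_eq (f := fun q : ↥(closure ({t} : Set ↥Y)) => q.1.1)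
        (Topology.IsEmbedding.subtypeVal.comp Topology.IsEmbedding.subtypeVal) ?_
      ext a
      constructor
      · rintro ⟨q, rfl⟩
        exact ((specializes_iff_mem_closure.mpr q.2).map continuous_subtype_val).mem_closure
      · intro ha
        have haY : a ∈ Y := closure_minimal (Set.singleton_subset_iff.mpr t.2) hY ha
        exact ⟨⟨⟨a, haY⟩, specializes_iff_mem_closure.mp
          (Topology.IsInducing.subtypeVal.specializes_iff.mp (specializes_iff_mem_closure.mpr ha))⟩, rfl⟩
    rw [hloc]
    refine le_antisymm ?_ (iSup₂_le fun C hC => ?_)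
    · obtain ⟨C, hC, hσC⟩ := exists_mem_irreducibleComponents_subset_of_isIrreducible
        ({⟨σ, hσY⟩} : Set ↥Y) isIrreducible_singleton
      have hCc := isClosed_of_mem_irreducibleComponents C hC
      obtain ⟨t, ht⟩ := QuasiSober.sober hC.1 hCc
      have h1 : t ⤳ ⟨σ, hσY⟩ := ht.specializes (hσC rfl)
      have h2 : (⟨x, hx⟩ : ↥Y) ∈ C :=
        (Topology.IsInducing.subtypeVal.specializes_iff.mp
          (show (⟨σ, hσY⟩ : ↥Y).1 ⤳ (⟨x, hx⟩ : ↥Y).1 from hσx)).mem_closed hCc (hσC rfl)
      refine le_iSup₂_of_le C ⟨hC, h2⟩ ?_
      rw [hdimC C hCc t ht.def]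
      exact (Topology.IsEmbedding.inclusion (closure_minimal (Set.singleton_subset_iff.mpr
        (h1.map continuous_subtype_val).mem_closure) isClosed_closure)).isInducing.topologicalKrullDim_le
    · have hCc := isClosed_of_mem_irreducibleComponents C hC.1
      obtain ⟨t, ht⟩ := QuasiSober.sober hC.1.1 hCc
      rw [hdimC C hCc t ht.def]
      exact hmax t.1 t.2 ((ht.specializes hC.2).map continuous_subtype_val)
  · rw [hloc]
    refine hU U hUo hxU fun τ hτ => ?_
    haveI : QuasiSober ↥Y := hY.isClosedEmbedding_subtypeVal.quasiSober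
    obtain ⟨C, hC, hτC⟩ := exists_mem_irreducibleComponents_subset_of_isIrreducible
      ({⟨τ, hτ.1⟩} : Set ↥Y) isIrreducible_singleton
    have hxC : (⟨x, hx⟩ : ↥Y) ∈ C := by
      by_contra hxC
      exact Set.disjoint_left.mp (hdisj C hC hxC) (show (⟨τ, hτ.1⟩ : ↥Y) ∈ Subtype.val ⁻¹' U from hτ.2) (hτC rfl)
    obtain ⟨t, ht⟩ := QuasiSober.sober hC.1 (isClosed_of_mem_irreducibleComponents C hC)
    exact ⟨t.1, t.2, (ht.specializes (hτC rfl)).map continuous_subtype_val,
      (ht.specializes hxC).map continuous_subtype_val⟩

end Groth.Agent.S4888
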