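import Groth.Statements.S4890
import Groth.Agent.Lib.QHomeo.Basic

set_option autoImplicit false
universe u
open EGA43

namespace Groth.Agent.S4890

/-- Let f : X → Y be a quasi-homeomorphism (U ↦ f⁻¹(U) is a bijection on open subsets) and Y' a locally
quasi-constructible subset of Y, i.e. every point of Y has an open neighbourhood whose trace on Y'
is a finite union of locally closed subsets; put X' = f⁻¹(Y'). Then Y' is quasi-compact if and only
if X' is, and Y' is a Noetherian space if and only if X' is. -/
theorem result {X Y : Type u} [TopologicalSpace X]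
    [TopologicalSpace Y] (f : X → Y) (hf : Continuous f)
    (hq : Function.Bijective (fun U : TopologicalSpace.Opens Y =>
      (⟨f ⁻¹' (U : Set Y), U.isOpen.preimage hf⟩ : TopologicalSpace.Opens X)))
    (Y' : Set Y)
    (hY' : ∀ y : Y, ∃ U : Set Y, IsOpen U ∧ y ∈ U ∧
      ∃ T : Set (Set Y), T.Finite ∧ (∀ t ∈ T, IsLocallyClosed t) ∧ U ∩ Y' = ⋃₀ T) :
    (IsCompact Y' ↔ IsCompact (f ⁻¹' Y')) ∧
      (TopologicalSpace.NoetherianSpace ↥Y' ↔ TopologicalSpace.NoetherianSpace ↥(f ⁻¹' Y')) := by
  have hq' := GrothLib.QHomeo.isQH_of_bijective_opens hf hq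
  exact ⟨(hq'.isCompact_lqc_preimage_iff hY').symm, ((hq'.restrictPreimage hY').noetherianSpace_iff).symm⟩

end Groth.Agent.S4890
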