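import Groth.Statements.S4892
import Groth.Agent.Lib.FlatGr5.NormalOpen

set_option autoImplicit false
universe u
open TensorProduct
open EGA43

namespace Groth.Agent.S4892

open TensorProduct in
/-- Affine form: let A be a commutative ring, B a finitely presented A-algebra, J a finitely generated
ideal of B and M a finitely presented B-module; assume that every graded piece J^k / J^{k+1} of B
and every graded piece J^k M / J^{k+1} M of M is flat over A. Then the set W of primes q ⊇ J of B at
which M is normally flat along V(J) — every localisation (J^k M / J^{k+1} M)_q is flat over B/J — is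
open in V(J); equivalently the set of primes q such that J ⊆ q implies this condition is open in
Spec B. Flatness over B/J of the localised piece N_q (a module killed by J) is expressed as flatness
of (B/J) ⊗_B N_q. -/
theorem result {A B : Type u} [CommRing A] [CommRing B] [Algebra A B]
    [Algebra.FinitePresentation A B] (J : Ideal B) (hJ : J.FG)
    (M : Type u) [AddCommGroup M] [Module B M] [Module A M] [IsScalarTower A B M] [Module.FinitePresentation B M]
    (hgrB : ∀ k : ℕ, Module.Flat A (↥(J ^ k) ⧸ Submodule.comap (J ^ k).subtype (J ^ (k + 1))))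
    (hgrM : ∀ k : ℕ, Module.Flat A
      (↥(J ^ k • (⊤ : Submodule B M)) ⧸ Submodule.comap (J ^ k • (⊤ : Submodule B M)).subtype (J ^ (k + 1) • ⊤))) :
    IsOpen {q : PrimeSpectrum B | J ≤ q.asIdeal → ∀ k : ℕ,
      Module.Flat (B ⧸ J) ((B ⧸ J) ⊗[B] LocalizedModule q.asIdeal.primeCompl
        (↥(J ^ k • (⊤ : Submodule B M)) ⧸ Submodule.comap (J ^ k • (⊤ : Submodule B M)).subtype (J ^ (k + 1) • ⊤)))} := by
  classical
  obtain ⟨C, _, _, B₁, _, _, M₁, _, _, _, _, _, _, _, _, _, _, r, b₁, φ, hC, hB₁, hM₁, hmod, hJb⟩ :=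
    GrothLib.FlatGr5.exists_model A B J hJ M
  let b : Fin r → B := GrothLib.FlatGr5.bmap (B := B) b₁
  have hA : GrothLib.FlatGr5.QFlat C M₁ b₁ A := fun k => by
    haveI := GrothLib.FlatGr5.flat_Qm_of_pieces A M b J hJb hgrM k
    obtain ⟨e⟩ := GrothLib.FlatGr5.exists_equiv_Qm b₁ hmod k
    exact Module.Flat.of_linearEquiv e
  have hfg : (GrothLib.FlatGr5.K0 B M b).FG := by
    have h := GrothLib.FlatGr5.K0_fg b₁ hmod (GrothLib.FlatGr5.fg_Krel M₁ b₁ A hA)
    have e : GrothLib.FlatGr5.K0 B M b = GrothLib.FlatGr5.K0 A M b := Submodule.ext fun x => Iff.rfl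
    rw [e]; exact h
  let U : Set (PrimeSpectrum (MvPolynomial (Fin r) (B ⧸ J))) :=
    {P | Module.Flat (B ⧸ J) (LocalizedModule P.asIdeal.primeCompl (GrothLib.FlatGr5.Gbar M b J))}
  have hU : IsOpen U := GrothLib.FlatGr5.isOpen_flat_Gbar M b J hfg
  let ζ : PrimeSpectrum (B ⧸ J) → PrimeSpectrum (MvPolynomial (Fin r) (B ⧸ J)) :=
    PrimeSpectrum.comap MvPolynomial.constantCoeff
  have hι := PrimeSpectrum.isClosedEmbedding_comap_of_surjective (B ⧸ J) (Ideal.Quotient.mk J) Ideal.Quotient.mk_surjective
  obtain ⟨O, hO, hOeq⟩ := hι.isInducing.isOpen_iff.1 (hU.preimage (PrimeSpectrum.continuous_comap MvPolynomial.constantCoeff))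
  have hmem : ∀ q : PrimeSpectrum B, J ≤ q.asIdeal →
      ∃ p : PrimeSpectrum (B ⧸ J), PrimeSpectrum.comap (Ideal.Quotient.mk J) p = q := fun q hq => by
    have : q ∈ Set.range (PrimeSpectrum.comap (Ideal.Quotient.mk J)) := by
      rw [_root_.range_comap_of_surjective _ _ Ideal.Quotient.mk_surjective, Ideal.mk_ker]
      exact hq
    exact this
  convert hO.union (PrimeSpectrum.isClosed_zeroLocus (J : Set B)).isOpen_compl using 1
  ext q
  simp only [Set.mem_setOf_eq, Set.mem_union, Set.mem_compl_iff, PrimeSpectrum.mem_zeroLocus, SetLike.coe_subset_coe]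
  by_cases hq : J ≤ q.asIdeal
  · obtain ⟨p, rfl⟩ := hmem q hq
    simp only [hq, not_true_eq_false, or_false, forall_true_left]
    have h1 := Set.ext_iff.1 hOeq p
    rw [Set.mem_preimage, Set.mem_preimage] at h1
    rw [h1]
    have h2 := GrothLib.FlatGr5.normalFlat_iff M b J hJb p.asIdeal
    subst hJb
    exact h2
  · simp [hq]

end Groth.Agent.S4892
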