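import Groth.Statements.S4896
import Groth.Agent.Lib.RectDepth5.Scheme

set_option autoImplicit false
universe u
open CategoryTheory AlgebraicGeometry
open EGA43

namespace Groth.Agent.S4896

/-- Let S be locally Noetherian, Jacobson and regular with equidimensional irreducible components, g : X
⟶ S locally of finite type and F a coherent O_X-module. For every point x of X the rectified depth
prof*_x(F) = prof(F_x) + dim cl{x} is the unique n (a natural number or ∞) such that, for some open
neighbourhood U of x, prof(F_{x'}) = n for every point x' of U ∩ cl{x} which is closed in U. -/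
theorem result {X S : Scheme.{u}} [IsLocallyNoetherian S] [JacobsonSpace S]
    (hreg : ∀ s : S, IsRegularLocalRing ↑(S.presheaf.stalk s))
    (h3 : ∀ S' ∈ irreducibleComponents (S : Type u), ∀ s ∈ S', IsClosed ({s} : Set S) →
      topologicalKrullDim (↥S' : Type u) = topologicalKrullDim ↥{t : S | t ∈ S' ∧ t ⤳ s})
    (g : X ⟶ S) [LocallyOfFiniteType g] (F : X.Modules) (hF : Coh.IsCoh F) (x : X) :
    letI pstar : WithBot ℕ∞ :=
      ((LocCoh.depth ↑(X.presheaf.stalk x) ↑(F.presheaf.stalk x) : ℕ∞) : WithBot ℕ∞) +
        topologicalKrullDim ↥(closure ({x} : Set X))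
    ∀ n : ℕ∞,
      (∃ U : X.Opens, x ∈ U ∧ ∀ x' : ↥U, (x' : X) ∈ closure ({x} : Set X) → IsClosed ({x'} : Set ↥U) →
        LocCoh.depth ↑(X.presheaf.stalk (x' : X)) ↑(F.presheaf.stalk (x' : X)) = n) ↔
      ((n : WithBot ℕ∞) = pstar) := by
  haveI : JacobsonSpace ↥X := LocallyOfFiniteType.jacobsonSpace g
  intro n
  exact GrothLib.RectDepth5.rd_characterization F (GrothLib.RectDepth5.exists_good hreg h3 g) hF x n

end Groth.Agent.S4896
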