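import Groth.Statements.S4898
import Groth.Agent.Lib.FlatGen5.Ring
import Groth.Agent.Lib.FlatGen5.Chart
import Groth.Agent.Lib.FlatStrat.Main

set_option autoImplicit false
universe u
open CategoryTheory AlgebraicGeometry
open EGA43

namespace Groth.Agent.S4898

open CategoryTheory.Limits in
/-- Over an affine irreducible base, tested on affine base changes, to which the general statement
reduces: let A be a commutative ring whose spectrum is irreducible, f : X ⟶ Spec A a morphism of
finite presentation and F a quasi-coherent O_X-module of finite presentation. Then there are an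
element h of A which is not nilpotent (so that U = Spec A_h is a nonempty open subset of Spec A) and
a finitely generated ideal J of A_h contained in the nilradical (so that the closed subscheme Z =
V(J) of U, of finite presentation over U, has the same underlying space as U) such that for every
A_h-algebra A' the pullback of F to X ×_{Spec A} Spec A' is flat over Spec A' if and only if J
generates the zero ideal of A', i.e. if and only if Spec A' ⟶ U factors through Z. (The published
statement also asserts that, for a finite affine open cover (W_i) of X, U can be chosen so that the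
sections of the pullback of F over each W_i ×_{Spec A} Spec A' form a free A'-module whenever Spec
A' ⟶ U factors through Z; this row omits that assertion.) -/
theorem result {A : Type u} [CommRing A] [IrreducibleSpace (PrimeSpectrum A)]
    {X : Scheme.{u}} (f : X ⟶ Spec (CommRingCat.of A))
    [LocallyOfFinitePresentation f] [QuasiCompact f] [QuasiSeparated f]
    (F : X.Modules) [Coh.IsQCoh F] (hF : CohB1.IsFP F) :
    ∃ (h : A) (_ : ¬ IsNilpotent h) (J : Ideal (Localization.Away h)) (_ : J.FG)
      (_ : J ≤ nilradical (Localization.Away h)),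
      ∀ (A' : Type u) [CommRing A'] [Algebra (Localization.Away h) A'],
        letI g : Spec (CommRingCat.of A') ⟶ Spec (CommRingCat.of A) :=
          Spec.map (CommRingCat.ofHom ((algebraMap (Localization.Away h) A').comp (algebraMap A (Localization.Away h))))
        (FlatMod.IsFlatOver (pullback.snd f g) ((Scheme.Modules.pullback (pullback.fst f g)).obj F) ↔
          Ideal.map (algebraMap (Localization.Away h) A') J = ⊥) := by
  classical
  haveI : F.IsQuasicoherent := ‹Coh.IsQCoh F›
  let S : Scheme.{u} := Spec (CommRingCat.of A)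
  let σ := (Scheme.ΓSpecIso (CommRingCat.of A))
  let e : Γ(S, ⊤) ≃+* A := σ.commRingCatIsoToRingEquiv
  haveI : IrreducibleSpace (PrimeSpectrum Γ(S, ⊤)) :=
    (irreducibleSpace_def _).2 (by
      rw [Set.top_eq_univ, ← (PrimeSpectrum.homeomorphOfRingEquiv e).symm.surjective.range_eq, ← Set.image_univ]
      exact (IrreducibleSpace.isIrreducible_univ _).image _
        (PrimeSpectrum.homeomorphOfRingEquiv e).symm.continuous.continuousOn)
  obtain ⟨s, hs⟩ := GrothLib.FlatStrat.exists_charts f (isAffineOpen_top S)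
  have key : ∀ U : {U : X.affineOpens // U.1 ≤ f ⁻¹ᵁ ⊤}, ∃ (h : Γ(S, ⊤)) (J : Ideal Γ(S, ⊤)),
      ¬ IsNilpotent h ∧ J.FG ∧ J ≤ nilradical Γ(S, ⊤) ∧
      letI : Module Γ(S, ⊤) Γ(F, U.1.1) := Module.compHom _ (f.appLE ⊤ U.1.1 U.2).hom
      GrothLib.FlatGen5.Good Γ(S, ⊤) Γ(F, U.1.1) h J := fun U => by
    letI : Algebra Γ(S, ⊤) Γ(X, U.1.1) := (f.appLE ⊤ U.1.1 U.2).hom.toAlgebra
    letI : Module Γ(S, ⊤) Γ(F, U.1.1) := Module.compHom _ (f.appLE ⊤ U.1.1 U.2).hom
    haveI : IsScalarTower Γ(S, ⊤) Γ(X, U.1.1) Γ(F, U.1.1) := IsScalarTower.of_algebraMap_smul fun _ _ => rfl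
    haveI : Algebra.FinitePresentation Γ(S, ⊤) Γ(X, U.1.1) :=
      HasRingHomProperty.appLE @LocallyOfFinitePresentation f ‹_› ⟨⊤, isAffineOpen_top S⟩ U.1 U.2
    haveI := GrothLib.FlatFP.finitePresentation_sections F hF U.1.2
    exact GrothLib.FlatGen5.exists_good Γ(S, ⊤) Γ(X, U.1.1) Γ(F, U.1.1)
  choose hs' Js hnil hfg hle hgood using key
  let h₀ : Γ(S, ⊤) := ∏ U ∈ s, hs' U
  let J₁ : Ideal Γ(S, ⊤) := s.sup Js
  have hh₀ : ¬ IsNilpotent h₀ := fun hn => by
    have hp : (nilradical Γ(S, ⊤)).IsPrime := PrimeSpectrum.irreducibleSpace_iff_isPrime_nilradical.1 ‹_›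
    obtain ⟨U, -, hU⟩ := hp.prod_mem_iff.1 (mem_nilradical.2 hn)
    exact hnil U (mem_nilradical.1 hU)
  have hJ₁ : J₁.FG := Finset.sup_induction Submodule.fg_bot (fun a ha b hb => Submodule.FG.sup ha hb) fun U _ => hfg U
  let h : A := e h₀
  refine ⟨h, fun hn => hh₀ ?_, (J₁.map (e : Γ(S, ⊤) →+* A)).map (algebraMap A (Localization.Away h)),
    Ideal.FG.map (Ideal.FG.map hJ₁ _) _, ?_, fun A' _ _ => ?_⟩
  · have hn' := hn.map e.symm
    rwa [show e.symm h = h₀ from e.symm_apply_apply h₀] at hn'
  · rw [Ideal.map_le_iff_le_comap, Ideal.map_le_iff_le_comap]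
    intro a ha
    have : a ∈ nilradical Γ(S, ⊤) := (Finset.sup_le fun U _ => hle U : J₁ ≤ _) ha
    exact mem_nilradical.2 (((mem_nilradical.1 this).map (e : Γ(S, ⊤) →+* A)).map _)
  · let φ : A →+* A' := (algebraMap (Localization.Away h) A').comp (algebraMap A (Localization.Away h))
    let T : Scheme.{u} := Spec (CommRingCat.of A')
    let g : T ⟶ S := Spec.map (CommRingCat.ofHom φ)
    show FlatMod.IsFlatOver (pullback.snd f g) ((Scheme.Modules.pullback (pullback.fst f g)).obj F) ↔ _
    let e' : Γ(T, ⊤) ≃+* A' := (Scheme.ΓSpecIso (CommRingCat.of A')).commRingCatIsoToRingEquiv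
    letI alg : Algebra Γ(S, ⊤) Γ(T, ⊤) := (g.appLE ⊤ ⊤ le_top).hom.toAlgebra
    have halg : ∀ a, e' (algebraMap Γ(S, ⊤) Γ(T, ⊤) a) = φ (e a) := fun a => by
      show e' ((g.appLE ⊤ ⊤ le_top) a) = φ (e a)
      rw [show g.appLE ⊤ ⊤ le_top = g.appTop from g.appLE_eq_app]
      exact congrArg (fun ψ : Γ(S, ⊤) ⟶ CommRingCat.of A' => ψ.hom a)
        (Scheme.ΓSpecIso_naturality (CommRingCat.ofHom φ))
    have hu : IsUnit (algebraMap Γ(S, ⊤) Γ(T, ⊤) h₀) := by
      have : IsUnit (φ (e h₀)) :=
        (IsLocalization.Away.algebraMap_isUnit (S := Localization.Away h) h).map (algebraMap (Localization.Away h) A')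
      rw [← halg] at this
      simpa using this.map e'.symm
    have hJ : (J₁.map (algebraMap Γ(S, ⊤) Γ(T, ⊤)) = ⊥) ↔
        Ideal.map (algebraMap (Localization.Away h) A')
          ((J₁.map (e : Γ(S, ⊤) →+* A)).map (algebraMap A (Localization.Away h))) = ⊥ := by
      rw [Ideal.map_map, Ideal.map_map, Ideal.map_eq_bot_iff_le_ker, Ideal.map_eq_bot_iff_le_ker]
      refine forall₂_congr fun a _ => ?_
      rw [RingHom.mem_ker, RingHom.mem_ker]
      show algebraMap Γ(S, ⊤) Γ(T, ⊤) a = 0 ↔ φ (e a) = 0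
      rw [← halg, map_eq_zero_iff e' e'.injective]
    rw [← hJ]
    have hchart : (∀ U ∈ s, letI : Module Γ(S, ⊤) Γ(F, U.1.1) := Module.compHom _ (f.appLE ⊤ U.1.1 U.2).hom
        Module.Flat Γ(T, ⊤) (TensorProduct Γ(S, ⊤) Γ(T, ⊤) Γ(F, U.1.1))) ↔
        J₁.map (algebraMap Γ(S, ⊤) Γ(T, ⊤)) = ⊥ :=
      @GrothLib.FlatGen5.Good.finset Γ(S, ⊤) _ _ s (fun U => Γ(F, U.1.1)) (fun U => inferInstance)
        (fun U => Module.compHom _ (f.appLE ⊤ U.1.1 U.2).hom) hs' Js (fun U _ => hgood U) Γ(T, ⊤) _ alg hu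
    rw [← hchart]
    constructor
    · intro hflat U _
      exact GrothLib.FlatGen5.flat_tensor_of_isFlatOver (IsPullback.of_hasPullback f g) F hflat
        (isAffineOpen_top S) U.1.2 U.2 (isAffineOpen_top T) le_top
    · intro hall x
      exact GrothLib.FlatStrat.isFlatOverAt_of_chartC f F g (isAffineOpen_top S) s hs (isAffineOpen_top T) le_top
        hall x trivial

end Groth.Agent.S4898
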