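import Groth.Statements.S4900
import Groth.Agent.Lib.FlatLimit.StageGlobal
import Groth.Agent.Lib.DiagGrp.KernelFP

set_option autoImplicit false
universe u
open CategoryTheory AlgebraicGeometry
open EGA43

namespace Groth.Agent.S4900

/-- Let S be the limit of a cofiltered system (S_i) of schemes with affine transition morphisms, S_{i₀}
a quasi-compact stage, f₀ : X₀ ⟶ Y₀ an S_{i₀}-morphism between schemes of finite presentation over
S_{i₀}, F₀ a quasi-coherent O_{X₀}-module of finite presentation, f : X ⟶ Y and F the base changes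
to S, and x a point of X. Then F is f-flat at x if and only if there are an index i over i₀ and base
changes f_i : X_i ⟶ Y_i, F_i of f₀, F₀ to S_i (pullback squares, with the induced compatible
morphisms X ⟶ X_i, Y ⟶ Y_i) such that F_i is f_i-flat at the image x_i of x in X_i. -/
theorem result {I : Type u} [SmallCategory I] [IsCofiltered I]
    (D : I ⥤ Scheme.{u}) (c : Limits.Cone D) (hc : Limits.IsLimit c)
    [∀ (i j : I) (φ : i ⟶ j), IsAffineHom (D.map φ)] (i₀ : I) [CompactSpace (D.obj i₀)]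
    {X₀ Y₀ : Scheme.{u}} (f₀ : X₀ ⟶ Y₀) (g₀ : Y₀ ⟶ D.obj i₀)
    [LocallyOfFinitePresentation g₀] [QuasiCompact g₀] [QuasiSeparated g₀]
    [LocallyOfFinitePresentation (f₀ ≫ g₀)] [QuasiCompact (f₀ ≫ g₀)] [QuasiSeparated (f₀ ≫ g₀)]
    (F₀ : X₀.Modules) [Coh.IsQCoh F₀] (hF₀ : CohB1.IsFP F₀)
    {X Y : Scheme.{u}} (f : X ⟶ Y) (g : Y ⟶ c.pt) (qY : Y ⟶ Y₀) (qX : X ⟶ X₀)
    (hY : IsPullback qY g g₀ (c.π.app i₀)) (hX : IsPullback qX f f₀ qY) (x : X) :
    FlatMod.IsFlatOverAt f ((Scheme.Modules.pullback qX).obj F₀) x ↔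
      ∃ (i : I) (φ : i ⟶ i₀) (Xi Yi : Scheme.{u}) (fi : Xi ⟶ Yi) (gi : Yi ⟶ D.obj i)
        (pY : Yi ⟶ Y₀) (pX : Xi ⟶ X₀) (vY : Y ⟶ Yi) (vX : X ⟶ Xi),
        IsPullback pY gi g₀ (D.map φ) ∧ IsPullback pX fi f₀ pY ∧
          vY ≫ pY = qY ∧ vY ≫ gi = g ≫ c.π.app i ∧ vX ≫ pX = qX ∧ vX ≫ fi = f ≫ vY ∧
          FlatMod.IsFlatOverAt fi ((Scheme.Modules.pullback pX).obj F₀) (vX x) := by
  haveI : LocallyOfFinitePresentation f₀ :=
    GrothLib.DiagGrp.lfp_of_comp_of_lft f₀ g₀ inferInstance inferInstance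
  haveI := GrothLib.FlatLimit.isAffineHom_of_limit D hc g₀ hY
  constructor
  · intro h
    obtain ⟨j, hj⟩ := GrothLib.FlatLimit.exists_stage_flatAt D hc f₀ g₀ hY hX F₀ hF₀ x h
    exact ⟨j.left, j.hom, _, _, _, _, _, _, (GrothLib.LimDesc.cone D i₀ g₀ hY).π.app j,
      (GrothLib.LimDesc.cone D i₀ (f₀ ≫ g₀) (hX.paste_vert hY)).π.app j,
      IsPullback.of_hasPullback g₀ (D.map j.hom),
      GrothLib.LimDesc.isPullback_mapNat D i₀ g₀ (f₀ ≫ g₀) f₀ rfl j,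
      GrothLib.LimDesc.π_fst D i₀ g₀ hY j, GrothLib.LimDesc.π_snd D i₀ g₀ hY j,
      GrothLib.LimDesc.π_fst _ _ _ _ j,
      (GrothLib.LimDesc.isPullback_π D i₀ g₀ (f₀ ≫ g₀) hY f₀ rfl (hX.paste_vert hY) f
        hX.w.symm rfl j).w, hj⟩
  · rintro ⟨i, φ, Xi, Yi, fi, gi, pY, pX, vY, vX, hpY, hpX, e1, -, e2, e3, h⟩
    haveI : IsAffineHom pY :=
      MorphismProperty.of_isPullback (P := @IsAffineHom) hpY.flip inferInstance
    exact GrothLib.FlatLimit.flatAt_of_stage hpX hX F₀ vY vX e1 e2 e3 x h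

end Groth.Agent.S4900
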