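import Groth.Statements.S4901
import Groth.Agent.Lib.FlatLimit.InjGeometric

set_option autoImplicit false
universe u
open CategoryTheory AlgebraicGeometry
open EGA43

namespace Groth.Agent.S4901

open CategoryTheory.Limits in
/-- Let S be the limit of a cofiltered system (S_i) of schemes with affine transition morphisms, i₀ an
index, f₀ : X₀ ⟶ Y₀ a morphism locally of finite presentation of S_{i₀}-schemes, F₀ and G₀
quasi-coherent O_{X₀}-modules of finite presentation and h₀ : F₀ ⟶ G₀ a homomorphism; let f : X ⟶ Y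
and h = q^*h₀ be the base changes to S and x a point of X. Then the stalk map h_x is injective and
Coker h is f-flat at x if and only if there are an index i over i₀ and base changes f_i : X_i ⟶ Y_i,
h_i = p^*h₀ to S_i (pullback squares with the compatible morphisms X ⟶ X_i, Y ⟶ Y_i) such that
(h_i)_{x_i} is injective and Coker h_i is f_i-flat at the image x_i of x. -/
theorem result {I : Type u} [SmallCategory I] [IsCofiltered I]
    (D : I ⥤ Scheme.{u}) (c : Limits.Cone D) (hc : Limits.IsLimit c)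
    [∀ (i j : I) (φ : i ⟶ j), IsAffineHom (D.map φ)] (i₀ : I)
    {X₀ Y₀ : Scheme.{u}} (f₀ : X₀ ⟶ Y₀) (g₀ : Y₀ ⟶ D.obj i₀) [LocallyOfFinitePresentation f₀]
    (F₀ G₀ : X₀.Modules) [Coh.IsQCoh F₀] [Coh.IsQCoh G₀] (hF₀ : CohB1.IsFP F₀) (hG₀ : CohB1.IsFP G₀)
    (h₀ : F₀ ⟶ G₀)
    {X Y : Scheme.{u}} (f : X ⟶ Y) (g : Y ⟶ c.pt) (qY : Y ⟶ Y₀) (qX : X ⟶ X₀)
    (hY : IsPullback qY g g₀ (c.π.app i₀)) (hX : IsPullback qX f f₀ qY) (x : X) :
    (Function.Injective ((TopCat.Presheaf.stalkFunctor Ab x).map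
        (Scheme.Modules.Hom.mapPresheaf ((Scheme.Modules.pullback qX).map h₀))) ∧
      FlatMod.IsFlatOverAt f (cokernel ((Scheme.Modules.pullback qX).map h₀)) x) ↔
      ∃ (i : I) (φ : i ⟶ i₀) (Xi Yi : Scheme.{u}) (fi : Xi ⟶ Yi) (gi : Yi ⟶ D.obj i)
        (pY : Yi ⟶ Y₀) (pX : Xi ⟶ X₀) (vY : Y ⟶ Yi) (vX : X ⟶ Xi),
        IsPullback pY gi g₀ (D.map φ) ∧ IsPullback pX fi f₀ pY ∧
          vY ≫ pY = qY ∧ vY ≫ gi = g ≫ c.π.app i ∧ vX ≫ pX = qX ∧ vX ≫ fi = f ≫ vY ∧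
          Function.Injective ((TopCat.Presheaf.stalkFunctor Ab (vX x)).map
            (Scheme.Modules.Hom.mapPresheaf ((Scheme.Modules.pullback pX).map h₀))) ∧
          FlatMod.IsFlatOverAt fi (cokernel ((Scheme.Modules.pullback pX).map h₀)) (vX x) := by
  haveI := GrothLib.FlatLimit.isAffineHom_of_limit D hc g₀ hY
  rw [GrothLib.FlatLimit.injCokerAt_iff]
  simp only [GrothLib.FlatLimit.injCokerAt_iff]
  constructor
  · intro h
    obtain ⟨j, hj⟩ := GrothLib.FlatLimit.exists_stage_injCokerAt D hc f₀ g₀ hY hX hF₀ hG₀ h₀ x h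
    exact ⟨j.left, j.hom, _, _, _, _, _, _, (GrothLib.LimDesc.cone D i₀ g₀ hY).π.app j,
      (GrothLib.LimDesc.cone D i₀ (f₀ ≫ g₀) (hX.paste_vert hY)).π.app j,
      IsPullback.of_hasPullback g₀ (D.map j.hom),
      GrothLib.LimDesc.isPullback_mapNat D i₀ g₀ (f₀ ≫ g₀) f₀ rfl j,
      GrothLib.LimDesc.π_fst D i₀ g₀ hY j, GrothLib.LimDesc.π_snd D i₀ g₀ hY j,
      GrothLib.LimDesc.π_fst _ _ _ _ j,
      (GrothLib.LimDesc.isPullback_π D i₀ g₀ (f₀ ≫ g₀) hY f₀ rfl (hX.paste_vert hY) f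
        hX.w.symm rfl j).w, hj⟩
  · rintro ⟨i, φ, Xi, Yi, fi, gi, pY, pX, vY, vX, hpY, hpX, e1, -, e2, e3, h⟩
    haveI : IsAffineHom pY :=
      MorphismProperty.of_isPullback (P := @IsAffineHom) hpY.flip inferInstance
    exact GrothLib.FlatLimit.injCokerAt_of_stage hpX hX h₀ vY vX e1 e2 e3 x h

end Groth.Agent.S4901
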