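import Groth.Statements.S4902
import Groth.Agent.Lib.ArtRed3.Family
import Groth.Agent.Lib.FlatFam5.GeometricPrim
import Mathlib.FieldTheory.Separable

set_option autoImplicit false
set_option backward.isDefEq.respectTransparency false
universe u
open CategoryTheory AlgebraicGeometry
open EGA43

namespace Groth.Agent.S4902

open CategoryTheory.Limits IsLocalRing in
/-- Separable elements and surjective maps of fields in a commutative square. -/
theorem isSeparable_preimage {K L K' L' : Type u} [Field K] [Field L] [Field K'] [Field L']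
    (φ : K →+* L) (φ' : K' →+* L') (τ : K →+* K') (σ : L →+* L') (hτ : Function.Surjective τ)
    (hsq : σ.comp φ = φ'.comp τ) (a : L)
    (ha : letI := φ'.toAlgebra; IsSeparable K' (σ a)) : letI := φ.toAlgebra; IsSeparable K a := by
  letI := φ.toAlgebra
  letI := φ'.toAlgebra
  obtain ⟨p, hp⟩ := Polynomial.map_surjective τ hτ (minpoly K' (σ a))
  have hsep : p.Separable := Polynomial.separable_map (f := τ) |>.1 (hp ▸ ha)
  have h0 : Polynomial.aeval a p = 0 := by
    apply σ.injective
    rw [map_zero, Polynomial.aeval_def, Polynomial.hom_eval₂]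
    have h := minpoly.aeval K' (σ a)
    rw [← hp, Polynomial.aeval_def, Polynomial.eval₂_map] at h
    rw [show σ.comp (algebraMap K L) = (algebraMap K' L').comp τ from hsq]
    exact h
  exact hsep.of_dvd (minpoly.dvd K a h0)

open CategoryTheory.Limits IsLocalRing in
/-- Primary residue extensions pass to points over a base change surjective on stalks. -/
theorem primary_baseChange {X Y S : Scheme.{u}} (f : X ⟶ Y) (j : S ⟶ Y) [SurjectiveOnStalks j]
    (x' : ↥(pullback f j)) (x : X) (hx : pullback.fst f j x' = x)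
    (hprim : letI := (f.residueFieldMap x).hom.toAlgebra
      ∀ a : ↑(X.residueField x), IsSeparable ↑(Y.residueField (f x)) a → a ∈ (f.residueFieldMap x).hom.range) :
    letI := ((pullback.snd f j).residueFieldMap x').hom.toAlgebra
    ∀ a : ↑((pullback f j).residueField x'), IsSeparable ↑(S.residueField (pullback.snd f j x')) a →
      a ∈ ((pullback.snd f j).residueFieldMap x').hom.range := by
  subst hx
  haveI : SurjectiveOnStalks (pullback.fst f j) := MorphismProperty.pullback_fst _ _ inferInstance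
  have hs : ∀ {V W : Scheme.{u}} (g : V ⟶ W) [SurjectiveOnStalks g] (v : V),
      Function.Surjective (g.residueFieldMap v).hom := fun {V W} g _ v a => by
    obtain ⟨b, rfl⟩ := Ideal.Quotient.mk_surjective a
    obtain ⟨c, rfl⟩ := g.stalkMap_surjective v b
    refine ⟨W.residue (g v) c, ?_⟩
    have hh := congrArg (fun h => CommRingCat.Hom.hom h c) (Scheme.residue_residueFieldMap g v)
    exact hh
  intro a ha
  obtain ⟨a₀, rfl⟩ := hs (pullback.fst f j) x' a
  let e := (Y.residueFieldCongr (show f (pullback.fst f j x') = j (pullback.snd f j x') by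
    rw [← Scheme.Hom.comp_apply, pullback.condition, Scheme.Hom.comp_apply])).hom
  let τ : Y.residueField (f (pullback.fst f j x')) ⟶ S.residueField (pullback.snd f j x') :=
    e ≫ j.residueFieldMap _
  have hτ : Function.Surjective τ.hom :=
    (hs j _).comp (ConcreteCategory.bijective_of_isIso e).2
  have hsq : f.residueFieldMap _ ≫ (pullback.fst f j).residueFieldMap x' =
      τ ≫ (pullback.snd f j).residueFieldMap x' := by
    have h := Scheme.Hom.residueFieldMap_congr (pullback.condition (f := f) (g := j)) x'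
    rw [Scheme.residueFieldMap_comp, Scheme.residueFieldMap_comp] at h
    rw [h]
    simp [τ, e]
  have hsq' := congrArg CommRingCat.Hom.hom hsq
  rw [CommRingCat.hom_comp, CommRingCat.hom_comp] at hsq'
  obtain ⟨b, hb⟩ := hprim a₀ (isSeparable_preimage _ _ τ.hom _ hτ hsq' a₀ ha)
  exact ⟨τ.hom b, by rw [← hb]; exact (RingHom.congr_fun hsq' b).symm⟩

open CategoryTheory.Limits IsLocalRing in
/-- Let Y be a locally Noetherian scheme, f : X ⟶ Y locally of finite type, F a coherent O_X-module and
x a point of X with y = f x, such that k(x) is a primary extension of k(y) (every element of k(x)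
separable algebraic over k(y) lies in k(y)). Let (φ_i : O_{Y,y} → A_i) be a family of local
homomorphisms into local rings such that, for every N, some finite intersection of the ideals
φ_i⁻¹(m_{A_i}^n) is contained in m_y^N; let Y_i = Spec A_i ⟶ Y be the induced Y-schemes and X_i = X
×_Y Y_i. If for every i there is a point of X_i above x and above the closed point of Y_i at which
the pullback of F is flat over Y_i, then F is f-flat at x. -/
theorem result {X Y : Scheme.{u}} [IsLocallyNoetherian Y]
    (f : X ⟶ Y) [LocallyOfFiniteType f] (F : X.Modules) (hF : Coh.IsCoh F) (x : X)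
    (hprim : letI := (f.residueFieldMap x).hom.toAlgebra
      ∀ a : ↑(X.residueField x), IsSeparable ↑(Y.residueField (f x)) a → a ∈ (f.residueFieldMap x).hom.range)
    {ι : Type u} (A : ι → Type u) [∀ i, CommRing (A i)] [∀ i, IsLocalRing (A i)]
    (φ : ∀ i, (Y.presheaf.stalk (f x) : Type u) →+* A i) [∀ i, IsLocalHom (φ i)]
    (htop : ∀ N : ℕ, ∃ s : Finset (ι × ℕ),
      ⨅ p ∈ s, Ideal.comap (φ p.1) (IsLocalRing.maximalIdeal (A p.1) ^ p.2) ≤
        IsLocalRing.maximalIdeal ↑(Y.presheaf.stalk (f x)) ^ N) :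
    letI g : ∀ i, Spec (CommRingCat.of (A i)) ⟶ Y :=
      fun i => Spec.map (CommRingCat.ofHom (φ i)) ≫ Y.fromSpecStalk (f x)
    (∀ i : ι, ∃ x' : ↥(pullback f (g i)), pullback.fst f (g i) x' = x ∧
      pullback.snd f (g i) x' = IsLocalRing.closedPoint (A i) ∧
      FlatMod.IsFlatOverAt (pullback.snd f (g i)) ((Scheme.Modules.pullback (pullback.fst f (g i))).obj F) x') →
    FlatMod.IsFlatOverAt f F x := by
  intro hflat
  classical
  haveI := hF.1
  refine GrothLib.ArtRed3.isFlatOverAt_of_forall_quot f F hF x fun n => ?_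
  obtain ⟨s, hs⟩ := htop (n + 1)
  let O := Y.presheaf.stalk (f x)
  let K : Ideal O := ⨅ p ∈ s, Ideal.comap (φ p.1) (maximalIdeal (A p.1) ^ p.2)
  refine ⟨K, hs, fun xQ hxQ => ?_⟩
  have hKm : K ≤ maximalIdeal O := hs.trans (Ideal.pow_le_self (by omega))
  let Q := O ⧸ K
  haveI : Nontrivial Q := Ideal.Quotient.nontrivial_iff.2
    (ne_top_of_le_ne_top (maximalIdeal.isMaximal O).ne_top hKm)
  haveI : IsLocalRing Q := IsLocalRing.of_surjective' (Ideal.Quotient.mk K) Ideal.Quotient.mk_surjective
  haveI : IsArtinianRing Q := by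
    rw [isArtinianRing_iff_isNilpotent_maximalIdeal]
    haveI : IsLocalHom (Ideal.Quotient.mk K) := IsLocalHom.of_surjective _ Ideal.Quotient.mk_surjective
    refine ⟨s.sup Prod.snd, ?_⟩
    rw [Ideal.zero_eq_bot, ← map_maximalIdeal_of_surjective (Ideal.Quotient.mk K) Ideal.Quotient.mk_surjective,
      ← Ideal.map_pow, Ideal.map_eq_bot_iff_le_ker, Ideal.mk_ker]
    refine le_iInf₂ fun p hp => ?_
    refine (Ideal.pow_le_pow_right (Finset.le_sup (f := Prod.snd) hp)).trans ?_
    refine (Ideal.pow_right_mono ?_ _).trans (Ideal.le_comap_pow _ _)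
    exact (IsLocalRing.maximalIdeal_comap (φ p.1)).ge
  haveI : SurjectiveOnStalks (Spec.map (CommRingCat.ofHom (Ideal.Quotient.mk K))) := inferInstance
  haveI : SurjectiveOnStalks (GrothLib.ArtRed3.quotMap (f x) K) := inferInstance
  obtain ⟨R₀, h0, h1⟩ := GrothLib.FlatFam5.exists_ideal_geom_prim
    (pullback.snd f (GrothLib.ArtRed3.quotMap (f x) K))
    ((Scheme.Modules.pullback (pullback.fst f (GrothLib.ArtRed3.quotMap (f x) K))).obj F)
    (GrothLib.ModDesc.isCoh_pullback _ F hF) xQ
    (primary_baseChange f (GrothLib.ArtRed3.quotMap (f x) K) xQ x hxQ hprim)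
  refine h0 (eq_bot_iff.2 fun a ha => ?_)
  obtain ⟨o, rfl⟩ := Ideal.Quotient.mk_surjective a
  rw [Ideal.mem_bot, Ideal.Quotient.eq_zero_iff_mem]
  suffices h : ∀ p ∈ s, o ∈ Ideal.comap (φ p.1) (maximalIdeal (A p.1) ^ p.2) by
    simpa [K, Ideal.mem_iInf] using h
  intro p hp
  rcases Nat.eq_zero_or_pos p.2 with h2 | h2
  · rw [h2, pow_zero, Ideal.one_eq_top, Ideal.comap_top]
    trivial
  let I : Ideal (A p.1) := maximalIdeal (A p.1) ^ p.2
  haveI : Nontrivial (A p.1 ⧸ I) := Ideal.Quotient.nontrivial_iff.2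
    (ne_top_of_le_ne_top (maximalIdeal.isMaximal _).ne_top (Ideal.pow_le_self h2.ne'))
  haveI : IsLocalRing (A p.1 ⧸ I) := IsLocalRing.of_surjective' (Ideal.Quotient.mk I) Ideal.Quotient.mk_surjective
  haveI : IsLocalHom (Ideal.Quotient.mk I) := IsLocalHom.of_surjective _ Ideal.Quotient.mk_surjective
  have hKI : ∀ b ∈ K, (Ideal.Quotient.mk I).comp (φ p.1) b = 0 := fun b hb => by
    rw [RingHom.comp_apply, Ideal.Quotient.eq_zero_iff_mem]
    exact (iInf₂_le p hp : _ ≤ Ideal.comap (φ p.1) I) hb
  let u : Q →+* A p.1 ⧸ I := Ideal.Quotient.lift K ((Ideal.Quotient.mk I).comp (φ p.1)) hKI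
  let j := GrothLib.ArtRed3.quotMap (f x) K
  let g := Spec.map (CommRingCat.ofHom (φ p.1)) ≫ Y.fromSpecStalk (f x)
  let v := Spec.map (CommRingCat.ofHom u)
  let w := Spec.map (CommRingCat.ofHom (Ideal.Quotient.mk I))
  have hvw : v ≫ j = w ≫ g := by
    show Spec.map _ ≫ Spec.map _ ≫ _ = Spec.map _ ≫ Spec.map _ ≫ _
    rw [← Category.assoc, ← Category.assoc, ← Spec.map_comp, ← Spec.map_comp]
    rfl
  have hwc : w (closedPoint (A p.1 ⧸ I)) = closedPoint (A p.1) :=
    IsLocalRing.comap_closedPoint (Ideal.Quotient.mk I)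
  obtain ⟨x', hx1, hx2, hfl⟩ := hflat p.1
  let p₁ := pullback.fst (pullback.snd f j) v
  let p₂ := pullback.snd (pullback.snd f j) v
  have hbig : IsPullback (p₁ ≫ pullback.fst f j) p₂ f (w ≫ g) := by
    rw [← hvw]
    exact (IsPullback.of_hasPullback (pullback.snd f j) v).paste_horiz (IsPullback.of_hasPullback f j)
  let b : pullback (pullback.snd f j) v ⟶ pullback f g :=
    pullback.lift (p₁ ≫ pullback.fst f j) (p₂ ≫ w) (hbig.w.trans (Category.assoc _ _ _).symm)
  have hb1 : b ≫ pullback.fst f g = p₁ ≫ pullback.fst f j := pullback.lift_fst ..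
  have hsq : IsPullback b p₂ (pullback.snd f g) w :=
    IsPullback.of_right (by rw [hb1]; exact hbig) (pullback.lift_snd ..) (IsPullback.of_hasPullback f g)
  obtain ⟨z₀, hz1, hz2⟩ := Scheme.Pullback.exists_preimage_pullback x' (closedPoint (A p.1 ⧸ I))
    (f := pullback.snd f g) (g := w) (hx2.trans hwc.symm)
  let z := hsq.isoPullback.inv z₀
  have hbz : b z = x' := by
    rw [← Scheme.Hom.comp_apply, hsq.isoPullback_inv_fst, hz1]
  have hpz : p₂ z = closedPoint (A p.1 ⧸ I) := by
    rw [← Scheme.Hom.comp_apply, hsq.isoPullback_inv_snd, hz2]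
  have hp1 : p₁ z = xQ := by
    haveI : IsPreimmersion (pullback.fst f j) := MorphismProperty.pullback_fst _ _ inferInstance
    refine (pullback.fst f j).isEmbedding.injective ?_
    rw [← Scheme.Hom.comp_apply, ← hb1, Scheme.Hom.comp_apply, hbz, hx1, hxQ]
  have hflz : FlatMod.IsFlatOverAt p₂ ((Scheme.Modules.pullback p₁).obj
      ((Scheme.Modules.pullback (pullback.fst f j)).obj F)) z := by
    haveI := GrothLib.FittSheaf.isQuasicoherent_pullback (pullback.fst f g) F
    have h1 := GrothLib.FlatFP.isFlatOverAt_baseChange (pullback.snd f g) p₂ b w hsq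
      ((Scheme.Modules.pullback (pullback.fst f g)).obj F) z (hbz ▸ hfl)
    refine (GrothLib.FlatFP.isFlatOverAt_congr p₂ ?_ z).mp h1
    exact (Scheme.Modules.pullbackComp b (pullback.fst f g)).app F ≪≫
      (Scheme.Modules.pullbackCongr hb1).app F ≪≫
        ((Scheme.Modules.pullbackComp p₁ (pullback.fst f j)).app F).symm
  have h := h1 (A p.1 ⧸ I) u ⟨z, hp1, hpz, hflz⟩ _ ha
  exact Ideal.mem_comap.mpr (Ideal.Quotient.eq_zero_iff_mem.mp h)

end Groth.Agent.S4902
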