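import Groth.Statements.S4903
import Groth.Agent.Lib.QHomeo.Basic

set_option autoImplicit false
universe u
open EGA43

namespace Groth.Agent.S4903

/-- Conditions a), b), b′), c″), c‴) and its last assertion: given a topological space X and a subset X₀
⊆ X, the statements below are equivalent. Every locally closed subset of X that is nonempty
intersects X₀. Every nonempty locally quasi-constructible subset of X intersects X₀; here a subset
is locally quasi-constructible when each point of X has an open neighbourhood on which the subset's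
trace can be written as a union of finitely many locally closed sets. Each locally
quasi-constructible Z ⊆ X is contained in the closure of Z ∩ X₀. Any two quasi-constructible subsets
of X (unions of finitely many locally closed sets) having equal traces on X₀ coincide. Any two
locally quasi-constructible subsets of X having equal traces on X₀ coincide. Assuming these
conditions, each locally quasi-constructible subset of the subspace X₀ arises as the trace on X₀ of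
some locally quasi-constructible subset of X. -/
theorem result {X : Type u} [TopologicalSpace X] (X₀ : Set X) :
    [∀ Z : Set X, IsLocallyClosed Z → Z.Nonempty → (Z ∩ X₀).Nonempty,
      ∀ Z : Set X, (∀ x : X, ∃ U : Set X, IsOpen U ∧ x ∈ U ∧ ∃ T : Set (Set X), T.Finite ∧ (∀ t ∈ T, IsLocallyClosed t) ∧ U ∩ Z = ⋃₀ T) → Z.Nonempty → (Z ∩ X₀).Nonempty,
      ∀ Z : Set X, (∀ x : X, ∃ U : Set X, IsOpen U ∧ x ∈ U ∧ ∃ T : Set (Set X), T.Finite ∧ (∀ t ∈ T, IsLocallyClosed t) ∧ U ∩ Z = ⋃₀ T) → Z ⊆ closure (Z ∩ X₀),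
      ∀ Z Z' : Set X, (∃ T : Set (Set X), T.Finite ∧ (∀ t ∈ T, IsLocallyClosed t) ∧ Z = ⋃₀ T) → (∃ T : Set (Set X), T.Finite ∧ (∀ t ∈ T, IsLocallyClosed t) ∧ Z' = ⋃₀ T) → Z ∩ X₀ = Z' ∩ X₀ → Z = Z',
      ∀ Z Z' : Set X, (∀ x : X, ∃ U : Set X, IsOpen U ∧ x ∈ U ∧ ∃ T : Set (Set X), T.Finite ∧ (∀ t ∈ T, IsLocallyClosed t) ∧ U ∩ Z = ⋃₀ T) → (∀ x : X, ∃ U : Set X, IsOpen U ∧ x ∈ U ∧ ∃ T : Set (Set X), T.Finite ∧ (∀ t ∈ T, IsLocallyClosed t) ∧ U ∩ Z' = ⋃₀ T) → Z ∩ X₀ = Z' ∩ X₀ → Z = Z'].TFAE ∧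
    ((∀ Z : Set X, IsLocallyClosed Z → Z.Nonempty → (Z ∩ X₀).Nonempty) →
      ∀ Z₀ : Set ↥X₀, (∀ x : ↥X₀, ∃ U : Set ↥X₀, IsOpen U ∧ x ∈ U ∧ ∃ T : Set (Set ↥X₀), T.Finite ∧ (∀ t ∈ T, IsLocallyClosed t) ∧ U ∩ Z₀ = ⋃₀ T) →
        ∃ Z : Set X, (∀ x : X, ∃ U : Set X, IsOpen U ∧ x ∈ U ∧ ∃ T : Set (Set X), T.Finite ∧ (∀ t ∈ T, IsLocallyClosed t) ∧ U ∩ Z = ⋃₀ T) ∧ Subtype.val ⁻¹' Z = Z₀) := by
  refine ⟨?_, fun h Z₀ hZ₀ => ?_⟩
  · tfae_have 1 → 2 := fun h Z hZ hne => GrothLib.QHomeo.VDense.inter_lqc h hZ hne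
    tfae_have 2 → 3 := fun h Z hZ z hz => by
      refine mem_closure_iff.2 fun U hU hzU => ?_
      obtain ⟨y, ⟨hyU, hyZ⟩, hy₀⟩ := h (U ∩ Z)
        (GrothLib.QHomeo.lqc_inter (GrothLib.QHomeo.lqc_of_lc hU.isLocallyClosed) hZ) ⟨z, hzU, hz⟩
      exact ⟨y, hyU, hyZ, hy₀⟩
    tfae_have 3 → 1 := fun h Z hZ ⟨z, hz⟩ => by
      obtain ⟨y, -, hy⟩ := mem_closure_iff.1 (h Z (GrothLib.QHomeo.lqc_of_lc hZ) hz) Set.univ isOpen_univ trivial
      exact ⟨y, hy⟩
    tfae_have 1 → 5 := fun h Z Z' hZ hZ' e => GrothLib.QHomeo.VDense.eq_of_inter_eq h hZ hZ' e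
    tfae_have 5 → 4 := fun h Z Z' hZ hZ' e =>
      h Z Z' (GrothLib.QHomeo.lqc_of_qc hZ) (GrothLib.QHomeo.lqc_of_qc hZ') e
    tfae_have 4 → 1 := fun h => GrothLib.QHomeo.vdense_iff_open.2 fun U V hU hV e =>
      h U V (GrothLib.QHomeo.qc_of_lc hU.isLocallyClosed) (GrothLib.QHomeo.qc_of_lc hV.isLocallyClosed) e
    tfae_finish
  · have hq : GrothLib.QHomeo.IsQH (Subtype.val : ↥X₀ → X) :=
      ⟨Topology.IsInducing.subtypeVal, by rw [Subtype.range_coe]; exact h⟩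
    exact hq.exists_lqc hZ₀

end Groth.Agent.S4903
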