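import Groth.Statements.S4907
import Groth.Agent.Lib.FibPd.RectDepth
-- import your own Groth.Agent.* helpers here

set_option autoImplicit false
universe u
open CategoryTheory AlgebraicGeometry
open EGA43

namespace Groth.Agent.S4907

/-- Let X be a regular biequidimensional scheme (Noetherian, regular local rings, finite dimension, all
irreducible components of dimension dim X, and dim T = dim cl{y} + codim(cl{y}, T) for every closed
irreducible T and point y of T) and F a coherent O_X-module. Then the rectified depth x ↦ prof(F_x)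
+ dim cl{x} is lower semicontinuous: for every integer n the set of x with prof(F_x) + dim cl{x} ≥ n
is open. -/
theorem result (X : Scheme.{u}) [IsNoetherian X]
    (hreg : ∀ x : X, IsRegularLocalRing ↑(X.presheaf.stalk x))
    (hfin : topologicalKrullDim X < ⊤)
    (hcomp : ∀ C ∈ irreducibleComponents (X : Type u), topologicalKrullDim ↥C = topologicalKrullDim X)
    (hchain : ∀ (y : X) (T : Set X), IsClosed T → IsIrreducible T → y ∈ T →
      topologicalKrullDim ↥T = topologicalKrullDim ↥(closure ({y} : Set X)) + topologicalKrullDim ↥{t : X | t ∈ T ∧ t ⤳ y})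
    (F : X.Modules) (hF : Coh.IsCoh F) (n : ℕ) :
    IsOpen {x : X | (n : WithBot ℕ∞) ≤
      ((LocCoh.depth ↑(X.presheaf.stalk x) ↑(F.presheaf.stalk x) : ℕ∞) : WithBot ℕ∞) +
        topologicalKrullDim ↥(closure ({x} : Set X))} := by
  refine isOpen_iff_forall_mem_open.mpr fun x₀ hx₀ => ?_
  have hsupp : IsOpen (CohB1.support F)ᶜ := (GrothLib.QCoh.isClosed_support_of_isCoh hF).isOpen_compl
  have hout : ∀ x : X, x ∉ CohB1.support F → (n : WithBot ℕ∞) ≤
      ((LocCoh.depth ↑(X.presheaf.stalk x) ↑(F.presheaf.stalk x) : ℕ∞) : WithBot ℕ∞) +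
        topologicalKrullDim ↥(closure ({x} : Set X)) := by
    intro x hx
    haveI : Subsingleton (F.presheaf.stalk x) := not_not.1 hx
    haveI : Nonempty ↥(closure ({x} : Set X)) := ⟨⟨x, subset_closure rfl⟩⟩
    haveI : Nonempty (TopologicalSpace.IrreducibleCloseds ↥(closure ({x} : Set X))) :=
      ⟨⟨irreducibleComponent (⟨x, subset_closure rfl⟩ : closure ({x} : Set X)), isIrreducible_irreducibleComponent, isClosed_irreducibleComponent⟩⟩
    rw [GrothLib.Depth.depth_eq_top_of_subsingleton]
    exact le_trans ((WithBot.coe_le_coe.2 le_top).trans (add_zero _).symm.le)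
      (add_le_add le_rfl Order.krullDim_nonneg)
  by_cases hx : x₀ ∈ CohB1.support F
  swap
  · exact ⟨_, fun x hx => hout x hx, hsupp, hx⟩
  haveI : Nonempty (TopologicalSpace.IrreducibleCloseds X) :=
    ⟨⟨irreducibleComponent x₀, isIrreducible_irreducibleComponent, isClosed_irreducibleComponent⟩⟩
  have hpos : 0 ≤ topologicalKrullDim X := Order.krullDim_nonneg
  obtain ⟨D, hD⟩ : ∃ D : ℕ, topologicalKrullDim X = D := by
    generalize topologicalKrullDim X = k at hfin hpos
    rcases k with _ | k
    · exact absurd hpos (by decide)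
    · rcases k with _ | k
      · exact absurd hfin (lt_irrefl _)
      · exact ⟨k, rfl⟩
  have key : ∀ x ∈ CohB1.support F, (n : WithBot ℕ∞) ≤
      ((LocCoh.depth ↑(X.presheaf.stalk x) ↑(F.presheaf.stalk x) : ℕ∞) : WithBot ℕ∞) +
        topologicalKrullDim ↥(closure ({x} : Set X)) ↔
      n ≤ D ∧ GrothLib.Serre.PdLE (X.presheaf.stalk x) (F.presheaf.stalk x) (D - n) := by
    intro x hx
    obtain ⟨d, e, hd, -, he, hdim⟩ := GrothLib.FibPd.exists_depth_dim_pd F hreg hcomp hchain hF x hx
    haveI : Nonempty ↥(closure ({x} : Set X)) := ⟨⟨x, subset_closure rfl⟩⟩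
    haveI : Nonempty (TopologicalSpace.IrreducibleCloseds ↥(closure ({x} : Set X))) :=
      ⟨⟨irreducibleComponent (⟨x, subset_closure rfl⟩ : closure ({x} : Set X)), isIrreducible_irreducibleComponent, isClosed_irreducibleComponent⟩⟩
    have hnn : 0 ≤ topologicalKrullDim ↥(closure ({x} : Set X)) := Order.krullDim_nonneg
    rw [hd, he]
    generalize topologicalKrullDim ↥(closure ({x} : Set X)) = c at hdim hnn ⊢
    rw [hD] at hdim
    rcases c with _ | c
    · exact absurd hnn (by decide)
    · rcases c with _ | c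
      · exact absurd hdim (by
          show ((D : ℕ∞) : WithBot ℕ∞) ≠ ((⊤ : ℕ∞) : WithBot ℕ∞) + (((d + e : ℕ) : ℕ∞) : WithBot ℕ∞)
          rw [← WithBot.coe_add, top_add]
          exact fun h => ENat.natCast_ne_top D (WithBot.coe_inj.1 h))
      · replace hdim : ((D : ℕ) : WithBot ℕ∞) = ((c : ℕ) : WithBot ℕ∞) + ((d + e : ℕ) : WithBot ℕ∞) := hdim
        rw [← Nat.cast_add, Nat.cast_inj] at hdim
        show (n : WithBot ℕ∞) ≤ (d : WithBot ℕ∞) + (c : WithBot ℕ∞) ↔ _
        rw [← Nat.cast_add, Nat.cast_le]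
        omega
  obtain ⟨hn, hp⟩ := (key x₀ hx).1 hx₀
  refine ⟨{x : X | GrothLib.Serre.PdLE (X.presheaf.stalk x) (F.presheaf.stalk x) (D - n)}, fun x h => ?_,
    GrothLib.FibPd.isOpen_pdLE_stalk F hF _, hp⟩
  by_cases hx' : x ∈ CohB1.support F
  · exact (key x hx').2 ⟨hn, h⟩
  · exact hout x hx'


end Groth.Agent.S4907
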