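import Groth.Statements.S4909
import Groth.Agent.Lib.Separ.Geom
import Groth.Agent.Lib.Separ.UnivFibre


set_option autoImplicit false
universe u
open CategoryTheory AlgebraicGeometry
open EGA43

namespace Groth.Agent.S4909

/-- Case Z_λ = X: let X be a scheme, u_i : F ⟶ G_i a separating family of homomorphisms of
quasi-coherent O_X-modules (a section of F over an open subset killed by every u_i is zero) and g :
X' ⟶ X a flat morphism locally of finite presentation. Then the family (g^*u_i : g^*F ⟶ g^*G_i) is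
separating. (The published statement allows homomorphisms into direct images (f_λ)_*G_λ; this row is
the case Z_λ = X, to which the general case reduces.) -/
theorem result {X X' : Scheme.{u}} (F : X.Modules) [Coh.IsQCoh F] {ι : Type u}
    (G : ι → X.Modules) [∀ i, Coh.IsQCoh (G i)] (u : ∀ i, F ⟶ G i) (g : X' ⟶ X) [Flat g] [LocallyOfFinitePresentation g]
    (h : (∀ (V : (X).Opens) (t : ↑((F).presheaf.obj (Opposite.op V))), (∀ i, (Scheme.Modules.Hom.mapPresheaf (u i)).app (Opposite.op V) t = 0) → t = 0)) :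
    (∀ (V : (X').Opens) (t : ↑(((Scheme.Modules.pullback g).obj F).presheaf.obj (Opposite.op V))), (∀ i, (Scheme.Modules.Hom.mapPresheaf ((Scheme.Modules.pullback g).map (u i))).app (Opposite.op V) t = 0) → t = 0) := by
  haveI : F.IsQuasicoherent := ‹Coh.IsQCoh F›
  haveI : ∀ i, (G i).IsQuasicoherent := fun i => ‹∀ i, Coh.IsQCoh (G i)› i
  refine GrothLib.Separ.separated_of_basis (GrothLib.Separ.pullbackFamily u g) fun y O hy => ?_
  obtain ⟨U, hU, hyU, -⟩ := exists_isAffineOpen_mem_and_subset (x := g y) (U := ⊤) trivial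
  obtain ⟨P, hP, hyP, hPO⟩ := exists_isAffineOpen_mem_and_subset (x := y) (U := O ⊓ g ⁻¹ᵁ U) ⟨hy, hyU⟩
  have e : P ≤ g ⁻¹ᵁ U := fun z hz => (hPO hz).2
  letI : Algebra Γ(X, U) Γ(X', P) := (g.appLE U P e).hom.toAlgebra
  haveI : Module.Flat Γ(X, U) Γ(X', P) := Flat.flat_appLE g hU hP e
  haveI : Algebra.FinitePresentation Γ(X, U) Γ(X', P) :=
    HasRingHomProperty.appLE @LocallyOfFinitePresentation g ‹_› ⟨U, hU⟩ ⟨P, hP⟩ e
  exact ⟨P, hyP, fun z hz => (hPO hz).1, GrothLib.Separ.inj_pullback_sections u g hU hP e rfl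
    ((GrothLib.Separ.sep_sections u hU h).inj_baseChange_of_flat_fp _)⟩

end Groth.Agent.S4909
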