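import Groth.Statements.S4910
import Groth.Agent.Lib.Separ.Geom
import Groth.Agent.Lib.Separ.UnivFibre
import Groth.Agent.Lib.FlatFP.Kernel
import Groth.Agent.Lib.FlatFP.UnivInjRestrict


set_option autoImplicit false
set_option backward.isDefEq.respectTransparency false
set_option linter.style.haveILetI false
universe u
open CategoryTheory AlgebraicGeometry
open EGA43

namespace Groth.Agent.S4910

open CategoryTheory.Limits in
/-- Case Z_λ = X: let p : X ⟶ S be a morphism with X locally Noetherian, F a coherent O_X-module, (G_i)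
a family of quasi-coherent O_X-modules flat over S and u_i : F ⟶ G_i homomorphisms. Then the family
(u_i) is universally separating relative to S — for every base change S' ⟶ S the pulled-back family
on X ×_S S' is separating (a section of the pulled-back F over an open subset killed by every member
is zero) — if and only if, for every point s of S, the family pulled back to the fibre X_s is
separating. (The published statement allows homomorphisms into direct images (f_λ)_*G_λ with the G_λ
flat over S; this row is the case Z_λ = X.) -/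
theorem result {X S : Scheme.{u}} [IsLocallyNoetherian X]
    (p : X ⟶ S) (F : X.Modules) (hF : Coh.IsCoh F) {ι : Type u} (G : ι → X.Modules) [∀ i, Coh.IsQCoh (G i)]
    (hG : ∀ i, FlatMod.IsFlatOver p (G i)) (u : ∀ i, F ⟶ G i) :
    (∀ (S' : Scheme.{u}) (g : S' ⟶ S),
      (∀ (V : (pullback p g).Opens) (t : ↑(((Scheme.Modules.pullback (pullback.fst p g)).obj F).presheaf.obj (Opposite.op V))), (∀ i, (Scheme.Modules.Hom.mapPresheaf ((Scheme.Modules.pullback (pullback.fst p g)).map (u i))).app (Opposite.op V) t = 0) → t = 0)) ↔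
    ∀ s : S, (∀ (V : (p.fiber s).Opens) (t : ↑(((Scheme.Modules.pullback (p.fiberι s)).obj F).presheaf.obj (Opposite.op V))), (∀ i, (Scheme.Modules.Hom.mapPresheaf ((Scheme.Modules.pullback (p.fiberι s)).map (u i))).app (Opposite.op V) t = 0) → t = 0) := by
  haveI : F.IsQuasicoherent := hF.1
  haveI : ∀ i, (G i).IsQuasicoherent := fun i => ‹∀ i, Coh.IsQCoh (G i)› i
  refine ⟨fun h s => h _ (S.fromSpecResidueField s), fun h S' g => ?_⟩
  refine GrothLib.Separ.separated_pullback_of_square u (IsPullback.of_hasPullback p g)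
    fun S₀ U W hS₀ hU hW eU eW => ?_
  letI : Algebra Γ(S, S₀) Γ(X, U) := (p.appLE S₀ U eU).hom.toAlgebra
  letI : Algebra Γ(S, S₀) Γ(S', W) := (g.appLE S₀ W eW).hom.toAlgebra
  letI : Module Γ(S, S₀) Γ(F, U) := Module.compHom _ (p.appLE S₀ U eU).hom
  haveI : IsScalarTower Γ(S, S₀) Γ(X, U) Γ(F, U) := IsScalarTower.of_algebraMap_smul fun _ _ => rfl
  letI : ∀ i, Module Γ(S, S₀) Γ(G i, U) := fun i => Module.compHom _ (p.appLE S₀ U eU).hom
  haveI : ∀ i, IsScalarTower Γ(S, S₀) Γ(X, U) Γ(G i, U) :=
    fun i => IsScalarTower.of_algebraMap_smul fun _ _ => rfl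
  haveI : IsNoetherianRing Γ(X, U) := IsLocallyNoetherian.component_noetherian ⟨U, hU⟩
  haveI : Module.Finite Γ(X, U) Γ(F, U) := GrothLib.QCoh.moduleFinite_of_isFiniteType F hF.2 hU
  refine GrothLib.Separ.sepBC_of_fibres
    (fun i => GrothLib.FlatFP.flat_sections p (G i) hS₀ hU eU rfl fun x _ => hG i x)
    (fun P hP => ?_) Γ(S', W)
  obtain ⟨s, hs, rfl⟩ := GrothLib.AssPts.exists_point hS₀ P hP
  let φ := S.fromSpecResidueField s
  have eT : (⊤ : (Spec (S.residueField s)).Opens) ≤ φ ⁻¹ᵁ S₀ := fun y _ => by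
    show φ y ∈ S₀
    rw [Scheme.fromSpecResidueField_apply]
    exact hs
  letI : Algebra Γ(S, S₀) Γ(Spec (S.residueField s), ⊤) := (φ.appLE S₀ ⊤ eT).hom.toAlgebra
  have hK : IsField Γ(Spec (S.residueField s), (⊤ : (Spec (S.residueField s)).Opens)) :=
    (Scheme.ΓSpecIso (S.residueField s)).commRingCatIsoToRingEquiv.toMulEquiv.isField (Field.toIsField _)
  refine GrothLib.Separ.sepBC_residueField (ψ := fun i => GrothLib.QCoh.appLinear (u i) U) _ _ hK ?_
    (GrothLib.Separ.sepBC_of_square u (p₁ := p.fiberι s) (IsPullback.of_hasPullback p φ) (h s) hS₀ hU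
      (isAffineOpen_top _) eU eT)
  refine (GrothLib.FlatFP.ker_appLE_of_isField φ eT hK (y := (default : Spec (S.residueField s))) trivial).trans ?_
  congr 1
  exact Scheme.fromSpecResidueField_apply s _

end Groth.Agent.S4910
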