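import Groth.Statements.S4911
import Groth.Agent.Lib.Separ.Geom
import Groth.Agent.Lib.Separ.UnivFibre


set_option autoImplicit false
universe u
open CategoryTheory AlgebraicGeometry
open EGA43

namespace Groth.Agent.S4911

open CategoryTheory.Limits TensorProduct in
/-- Case Z_λ = X: let k be a field, X a k-scheme, u_i : F ⟶ G_i a separating family of homomorphisms of
quasi-coherent O_X-modules (a section of F over an open subset killed by every u_i is zero) and S'
an arbitrary k-scheme. Then the family pulled back to X ×_k S' is separating. (The published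
statement allows homomorphisms into direct images (f_λ)_*G_λ; this row is the case Z_λ = X.) -/
theorem result {k : Type u} [Field k] {X S' : Scheme.{u}}
    (p : X ⟶ Spec (CommRingCat.of k)) (q : S' ⟶ Spec (CommRingCat.of k))
    (F : X.Modules) [Coh.IsQCoh F] {ι : Type u} (G : ι → X.Modules) [∀ i, Coh.IsQCoh (G i)] (u : ∀ i, F ⟶ G i)
    (h : (∀ (V : (X).Opens) (t : ↑((F).presheaf.obj (Opposite.op V))), (∀ i, (Scheme.Modules.Hom.mapPresheaf (u i)).app (Opposite.op V) t = 0) → t = 0)) :
    (∀ (V : (pullback p q).Opens) (t : ↑(((Scheme.Modules.pullback (pullback.fst p q)).obj F).presheaf.obj (Opposite.op V))), (∀ i, (Scheme.Modules.Hom.mapPresheaf ((Scheme.Modules.pullback (pullback.fst p q)).map (u i))).app (Opposite.op V) t = 0) → t = 0) := by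
  haveI : F.IsQuasicoherent := ‹Coh.IsQCoh F›
  haveI : ∀ i, (G i).IsQuasicoherent := fun i => ‹∀ i, Coh.IsQCoh (G i)› i
  refine GrothLib.Separ.separated_pullback_of_square u (IsPullback.of_hasPullback p q)
    fun S₀ U W hS₀ hU hW eU eW => ?_
  letI := (p.appLE S₀ U eU).hom.toAlgebra
  letI := (q.appLE S₀ W eW).hom.toAlgebra
  by_cases hs : (default : Spec (CommRingCat.of k)) ∈ S₀
  · obtain rfl : S₀ = ⊤ := by
      ext s
      simpa [Subsingleton.elim s default] using hs
    letI : Field Γ(Spec (CommRingCat.of k), (⊤ : (Spec (CommRingCat.of k)).Opens)) :=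
      ((Scheme.ΓSpecIso (CommRingCat.of k)).commRingCatIsoToRingEquiv.toMulEquiv.isField
        (Field.toIsField k)).toField
    exact GrothLib.Separ.Sep.baseChange_of_field (GrothLib.Separ.sep_sections u hU h) _
  · -- `S₀` is empty, so every ring above it is zero
    have hbot : S₀ = ⊥ := by
      ext s
      simpa [Subsingleton.elim s default] using hs
    subst hbot
    haveI : Subsingleton Γ(X, U) := by
      have hU0 : U = ⊥ := le_bot_iff.mp fun x hx => (eU hx : _)
      subst hU0
      infer_instance
    intro g z _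
    haveI := Module.subsingleton Γ(X, U) ((Γ(X, U) ⊗[Γ(Spec (CommRingCat.of k), ⊥)] Γ(S', W)) ⊗[Γ(X, U)] Γ(F, U))
    exact ⟨0, Subsingleton.elim _ _⟩

end Groth.Agent.S4911
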