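import Groth.Statements.S4914
import Groth.Agent.Lib.OpenAt.Basic

set_option autoImplicit false
open CategoryTheory AlgebraicGeometry
universe u v w
open EGA43

namespace Groth.Agent.S4914

/-- Let ψ : X → Y be a continuous map, x a point of X, and (Y_i) a locally finite covering of Y by
closed subsets. If for every index i with ψ x ∈ Y_i the restriction ψ⁻¹(Y_i) → Y_i of ψ is open at
x, then ψ is open at x. -/
theorem result {α : Type u} {β : Type v} {ι : Type w} [TopologicalSpace α]
    [TopologicalSpace β] (ψ : α → β) (hψ : Continuous ψ) (x : α) (Y : ι → Set β) (hY : LocallyFinite Y)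
    (hcl : ∀ i, IsClosed (Y i)) (hcov : ⋃ i, Y i = Set.univ)
    (h : ∀ i, ∀ hi : ψ x ∈ Y i, EGA43.IsOpenAt ((Y i).restrictPreimage ψ) ⟨x, hi⟩) :
    EGA43.IsOpenAt ψ x := by
  intro U hU
  have key : ∀ i, ψ '' U ∈ nhdsWithin (ψ x) (Y i) := by
    intro i
    by_cases hi : ψ x ∈ Y i
    · have h1 := h i hi (Subtype.val ⁻¹' U) (continuous_subtype_val.continuousAt.preimage_mem_nhds hU)
      obtain ⟨V, hV, hVU⟩ := (mem_nhds_subtype _ _ _).1 h1
      refine Filter.mem_of_superset (Filter.inter_mem (mem_nhdsWithin_of_mem_nhds hV)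
        self_mem_nhdsWithin) ?_
      rintro y ⟨hy1, hy2⟩
      obtain ⟨a, ha, hay⟩ := hVU (show (⟨y, hy2⟩ : Y i) ∈ Subtype.val ⁻¹' V from hy1)
      exact ⟨a.1, ha, congrArg Subtype.val hay⟩
    · rw [notMem_closure_iff_nhdsWithin_eq_bot.1 (by rwa [(hcl i).closure_eq])]
      exact Filter.mem_bot
  rw [← nhdsWithin_univ, ← hcov, hY.nhdsWithin_iUnion, Filter.mem_iSup]
  exact key

end Groth.Agent.S4914
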