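import Groth.Statements.S4917
import Groth.Agent.Lib.Chev28.DimIrred
import Groth.Agent.Lib.Chev28.OpenDim

set_option autoImplicit false
open CategoryTheory AlgebraicGeometry
universe u v w
open EGA43

namespace Groth.Agent.S4917

/-- Assume Y is a locally Noetherian scheme and X is an irreducible scheme, and consider a dominant
morphism f : X ⟶ Y that is locally of finite type. Fix a point x of X and write y = f x. If, for
every irreducible component of the fibre X_y that contains x, the morphism f is open at the generic
point of that component, then f is equidimensional at x. -/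
theorem result {X Y : Scheme.{u}} [IsLocallyNoetherian Y]
    [IrreducibleSpace X] (f : X ⟶ Y) [LocallyOfFiniteType f] [IsDominant f] (x : X)
    (h : ∀ z : ↥(f.fiber (f.base x)), f.asFiber x ∈ closure {z} →
      (∀ z' : ↥(f.fiber (f.base x)), z ∈ closure {z'} → z' = z) →
      EGA43.IsOpenAt f.base ((f.fiberι (f.base x)).base z)) :
    EGA43.IsEquidimAt f x := by
  haveI := LocallyOfFiniteType.isLocallyNoetherian f
  refine GrothLib.Chev28.isEquidimAt_of_isEquidim_stalk_of_dim_formula f x ?_
    (GrothLib.Chev28.dim_stalk_eq_of_isOpenAt f x h)
  refine (GrothLib.Chev28.isEquidim_stalk_iff x).mpr fun ξ hξ hmax => ?_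
  obtain rfl : genericPoint X = ξ := hmax _ (genericPoint_specializes ξ)
  exact GrothLib.Chev28.dim_locQuot_generic hξ rfl

end Groth.Agent.S4917
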