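import Groth.Statements.S4919
import Groth.Agent.Lib.Chev28.FibreDims

set_option autoImplicit false
open CategoryTheory AlgebraicGeometry
universe u v w
open EGA43

namespace Groth.Agent.S4919

/-- Let Y be an irreducible locally Noetherian scheme with generic point η, f : X ⟶ Y a morphism locally
of finite type, y a point of Y and Z an irreducible component of the fibre f⁻¹(y) (a maximal
irreducible subset of f⁻¹(y), with the topology induced from X) such that f is open at the generic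
point ζ of Z. Then there is an irreducible component X' of X containing Z and dominating Y such that
the local dimension of X' ∩ f⁻¹(y) at ζ equals dim Z, and dim Z = dim (X' ∩ f⁻¹(η)). (The published
statement writes the middle term as the dimension of the whole of X' ∩ f⁻¹(y); its proof yields only
the local dimension at the generic point of Z, and the global equality can fail: for the
endomorphism (a, b) ↦ (ab, b² − b) of the affine plane over a field, the fibre over the origin is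
the line b = 0 together with the isolated point (0, 1), at which the map is étale, hence open; with
Z that point, X' is the whole plane, X' ∩ f⁻¹(y) has dimension 1 and dim Z = 0. So the local form is
stated here.) -/
theorem result {X Y : Scheme.{u}} [IrreducibleSpace Y]
    [IsLocallyNoetherian Y] (f : X ⟶ Y) [LocallyOfFiniteType f] (y : Y) (Z : Set X)
    (hZy : Z ⊆ f.base ⁻¹' {y}) (hZ : IsIrreducible Z)
    (hZmax : ∀ Z' : Set X, IsIrreducible Z' → Z' ⊆ f.base ⁻¹' {y} → Z ⊆ Z' → Z' = Z)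
    (hopen : ∀ ζ ∈ Z, Z ⊆ closure {ζ} → EGA43.IsOpenAt f.base ζ) :
    ∃ X' ∈ irreducibleComponents (X : Type u), Z ⊆ X' ∧ Dense (f.base '' X') ∧
      (∀ ζ ∈ Z, Z ⊆ closure {ζ} → ∀ hζ : ζ ∈ X' ∩ f.base ⁻¹' {y},
        FlatMor.localDim ↥(X' ∩ f.base ⁻¹' {y}) ⟨ζ, hζ⟩ = topologicalKrullDim ↥Z) ∧
      topologicalKrullDim ↥Z = topologicalKrullDim ↥(X' ∩ f.base ⁻¹' {genericPoint Y}) := by
  have hZirr' : IsIrreducible ((f.fiberι y) ⁻¹' Z) := by
      refine ⟨?_, ?_⟩
      · obtain ⟨a, ha⟩ := hZ.1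
        obtain ⟨w, rfl⟩ := (f.range_fiberι y).ge (hZy ha)
        exact ⟨w, ha⟩
      · intro U V hU hV hu hv
        obtain ⟨U', hU', rfl⟩ := (f.fiberι y).isEmbedding.isInducing.isOpen_iff.mp hU
        obtain ⟨V', hV', rfl⟩ := (f.fiberι y).isEmbedding.isInducing.isOpen_iff.mp hV
        obtain ⟨a, ha, haU⟩ := hu
        obtain ⟨b, hb, hbV⟩ := hv
        obtain ⟨c, hc, hcU, hcV⟩ := hZ.2 U' V' hU' hV' ⟨_, ha, haU⟩ ⟨_, hb, hbV⟩
        obtain ⟨w, rfl⟩ := (f.range_fiberι y).ge (hZy hc)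
        exact ⟨w, hc, hcU, hcV⟩
  obtain ⟨w, hw⟩ := QuasiSober.sober hZirr'.closure isClosed_closure
  set ζ := f.fiberι y w with hζdef
  have hfζ : f ζ = y := (f.range_fiberι y).le ⟨w, rfl⟩
  have hZsub : Z ⊆ closure {ζ} ∩ f.base ⁻¹' {y} := fun a ha => by
    obtain ⟨v, rfl⟩ := (f.range_fiberι y).ge (hZy ha)
    refine ⟨specializes_iff_mem_closure.mp ((specializes_iff_mem_closure.mpr ?_).map (f.fiberι y).continuous),
      hZy ha⟩
    exact hw.def.symm ▸ subset_closure (show v ∈ (f.fiberι y) ⁻¹' Z from ha)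
  have hW : IsIrreducible (closure {ζ} ∩ f.base ⁻¹' {y}) := by
    refine ⟨⟨ζ, subset_closure rfl, hfζ⟩, fun U V hU hV hu hv => ?_⟩
    obtain ⟨a, ⟨ha, -⟩, haU⟩ := hu
    obtain ⟨b, ⟨hb, -⟩, hbV⟩ := hv
    exact ⟨ζ, ⟨subset_closure rfl, hfζ⟩, (specializes_iff_mem_closure.mpr ha).mem_open hU haU,
      (specializes_iff_mem_closure.mpr hb).mem_open hV hbV⟩
  have hZeq : closure {ζ} ∩ f.base ⁻¹' {y} = Z := hZmax _ hW Set.inter_subset_right hZsub
  have hζZ : ζ ∈ Z := hZeq ▸ ⟨subset_closure rfl, hfζ⟩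
  have hmax : ∀ z', f z' = f ζ → z' ⤳ ζ → z' = ζ := fun z' hz' hs => by
    have hz'y : f z' = y := hz'.trans hfζ
    have h1 : closure {z'} ∩ f.base ⁻¹' {y} = Z := by
      refine hZmax _ ⟨⟨z', subset_closure rfl, hz'y⟩, fun U V hU hV hu hv => ?_⟩ Set.inter_subset_right ?_
      · obtain ⟨a, ⟨ha, -⟩, haU⟩ := hu
        obtain ⟨b, ⟨hb, -⟩, hbV⟩ := hv
        exact ⟨z', ⟨subset_closure rfl, hz'y⟩, (specializes_iff_mem_closure.mpr ha).mem_open hU haU,
          (specializes_iff_mem_closure.mpr hb).mem_open hV hbV⟩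
      · intro a ha
        exact ⟨(hs.trans (specializes_iff_mem_closure.mpr (hZsub ha).1)).mem_closure, hZy ha⟩
    have h2 : z' ∈ closure {ζ} := (hZsub (h1 ▸ ⟨subset_closure rfl, hz'y⟩)).1
    exact (hs.antisymm (specializes_iff_mem_closure.mpr h2)).eq
  obtain ⟨n, hn, hdn⟩ := GrothLib.Chev28.exists_dim_closure_inter_fibre f ζ
  have hdimZ : topologicalKrullDim ↥Z = (n : WithBot ℕ∞) := by
    rw [← hdn, hfζ]
    exact congrArg (fun s : Set X => topologicalKrullDim ↥s) hZeq.symm
  obtain ⟨ξ, hξζ, hfξ, hξfib, hξn⟩ := GrothLib.Chev28.exists_over_generization f ζ hmax n hn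
    (hopen ζ hζZ fun a ha => (hZsub ha).1) (y' := genericPoint Y) (genericPoint_specializes _)
  have hξmax : ∀ v, v ⤳ ξ → v = ξ := fun v hv => hξfib v (by
    rw [hfξ]
    exact ((hfξ ▸ hv.map f.continuous : f v ⤳ genericPoint Y).antisymm (genericPoint_specializes _)).eq) hv
  refine ⟨closure {ξ}, GrothLib.Equidim6.closure_mem_components hξmax,
    fun a ha => (hξζ.trans (specializes_iff_mem_closure.mpr (hZsub ha).1)).mem_closure, ?_, ?_, ?_⟩
  · rw [dense_iff_closure_eq]
    refine (GrothLib.Chev28.closure_image_closure_singleton f.continuous ξ).trans ?_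
    rw [hfξ]
    exact genericPoint_spec Y
  · intro ζ' hζ'Z hζ' hmem
    obtain rfl : ζ' = ζ :=
      ((specializes_iff_mem_closure.mpr (hζ' hζZ)).antisymm (specializes_iff_mem_closure.mpr (hZsub hζ'Z).1)).eq
    revert hmem
    rw [← hfζ]
    intro hmem
    obtain ⟨h1, h2, h3⟩ := GrothLib.Chev28.component_dims f hξζ hξn hmem
    obtain ⟨n', hn', hn''⟩ := GrothLib.Equidim6.fibreDimAt_eq_resTrdeg f _ hmax
    rw [hdimZ]
    refine (h3 hmax).trans ?_
    rw [hn'', show n' = n by exact_mod_cast (hn'.symm.trans hn :)]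
  · obtain ⟨m, hm, hdm⟩ := GrothLib.Chev28.exists_dim_closure_inter_fibre f ξ
    rw [hfξ] at hdm
    rw [hdimZ]
    refine Eq.trans ?_ hdm.symm
    rw [show m = n by exact_mod_cast (hm.symm.trans hξn :)]

end Groth.Agent.S4919
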