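import Groth.Statements.S4920
import Groth.Agent.Lib.Chev28.FibreDims

set_option autoImplicit false
open CategoryTheory AlgebraicGeometry
universe u v w
open EGA43

namespace Groth.Agent.S4920

/-- Let Y be an irreducible locally Noetherian scheme with generic point η, f : X ⟶ Y a morphism locally
of finite type and y a point of Y such that f is open at every point of the fibre over y. For z in Y
write E(z) for the set of dimensions of the irreducible components of the fibre X_z. Then E(y) ⊆
E(η), and consequently dim X_y ≤ dim X_η. -/
theorem result {X Y : Scheme.{u}} [IrreducibleSpace Y] [IsLocallyNoetherian Y]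
    (f : X ⟶ Y) [LocallyOfFiniteType f] (y : Y) (h : ∀ x : X, f.base x = y → EGA43.IsOpenAt f.base x) :
    letI E : Y → Set (WithBot ℕ∞) := fun z =>
      (fun Z : Set ↥(f.fiber z) => topologicalKrullDim ↥Z) '' irreducibleComponents ↥(f.fiber z)
    E y ⊆ E (genericPoint Y) ∧
      topologicalKrullDim ↥(f.fiber y) ≤ topologicalKrullDim ↥(f.fiber (genericPoint Y)) := by
  have hsub := GrothLib.Chev28.fibDims_subset f (genericPoint_specializes y) h
  refine ⟨?_, GrothLib.Chev28.dim_fiber_le_of_subset hsub⟩
  dsimp only
  rw [GrothLib.Chev28.image_dims_eq, GrothLib.Chev28.image_dims_eq]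
  exact Set.image_mono hsub

end Groth.Agent.S4920
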