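import Groth.Statements.S4922
import Groth.Agent.Lib.Chev28.FibreDims

set_option autoImplicit false
open CategoryTheory AlgebraicGeometry
universe u v w
open EGA43

namespace Groth.Agent.S4922

/-- Let Y be a locally Noetherian scheme, f : X ⟶ Y an open morphism of finite type and y a point of Y.
If dim X_y = dim X_{η} for the generic point η of every irreducible component of Y containing y,
then z ↦ dim X_z is constant on a neighbourhood of y. -/
theorem result {X Y : Scheme.{u}} [IsLocallyNoetherian Y]
    (f : X ⟶ Y) [LocallyOfFiniteType f] [QuasiCompact f] (hf : IsOpenMap f.base) (y : Y)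
    (h : ∀ η : Y, y ∈ closure {η} → closure {η} ∈ irreducibleComponents (Y : Type u) →
      topologicalKrullDim ↥(f.fiber y) = topologicalKrullDim ↥(f.fiber η)) :
    ∃ V ∈ nhds y, ∀ z ∈ V, topologicalKrullDim ↥(f.fiber z) = topologicalKrullDim ↥(f.fiber y) := by
  exact GrothLib.Chev28.dim_fiber_eventually_eq_of_isOpenMap f hf y fun η hη hmax =>
    h η hη.mem_closure (GrothLib.Equidim6.closure_mem_components hmax)

end Groth.Agent.S4922
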