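import Groth.Statements.S4923
import Groth.Agent.Lib.Chev28.FibreDims

set_option autoImplicit false
open CategoryTheory AlgebraicGeometry
universe u v w
open EGA43

namespace Groth.Agent.S4923

/-- Let Y be a locally Noetherian scheme, f : X ⟶ Y an open morphism of finite type and y a point of Y;
for z in Y let E(z) be the set of dimensions of the irreducible components of the fibre X_z. If E(y)
= E(η) for the generic point η of every irreducible component of Y containing y, then E is constant
on a neighbourhood of y. -/
theorem result {X Y : Scheme.{u}}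
    [IsLocallyNoetherian Y] (f : X ⟶ Y) [LocallyOfFiniteType f] [QuasiCompact f] (hf : IsOpenMap f.base) (y : Y) :
    letI E : Y → Set (WithBot ℕ∞) := fun z =>
      (fun Z : Set ↥(f.fiber z) => topologicalKrullDim ↥Z) '' irreducibleComponents ↥(f.fiber z)
    (∀ η : Y, y ∈ closure {η} → closure {η} ∈ irreducibleComponents (Y : Type u) → E y = E η) →
      ∃ V ∈ nhds y, ∀ z ∈ V, E z = E y := by
  intro h
  have hinj : Function.Injective (fun d : ℕ => (d : WithBot ℕ∞)) := fun a b hab => by
    have h' : (a : WithBot ℕ∞) = (b : WithBot ℕ∞) := hab
    exact_mod_cast h'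
  obtain ⟨V, hV, hVz⟩ := GrothLib.Chev28.fibDims_eventually_eq_of_isOpenMap f hf y fun η hη hmax => by
    have h1 := h η hη.mem_closure (GrothLib.Equidim6.closure_mem_components hmax)
    simp only [GrothLib.Chev28.image_dims_eq] at h1
    exact hinj.image_injective h1
  refine ⟨V, hV, fun z hz => ?_⟩
  simp only [GrothLib.Chev28.image_dims_eq, hVz z hz]

end Groth.Agent.S4923
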