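import Groth.Statements.S4924
import Groth.Agent.Lib.Chev28.FibreDims

set_option autoImplicit false
open CategoryTheory AlgebraicGeometry
universe u v w
open EGA43

namespace Groth.Agent.S4924

/-- Let Y be a locally Noetherian scheme, f : X ⟶ Y an open morphism of finite type and y a point of Y.
Then there is an open neighbourhood U of the fibre f⁻¹(y) in X such that the function z ↦ dim (U ∩
f⁻¹(z)) is constant on a neighbourhood of y. -/
theorem result {X Y : Scheme.{u}} [IsLocallyNoetherian Y]
    (f : X ⟶ Y) [LocallyOfFiniteType f] [QuasiCompact f] (hf : IsOpenMap f.base) (y : Y) :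
    ∃ U : X.Opens, f.base ⁻¹' {y} ⊆ (U : Set X) ∧ ∃ V ∈ nhds y, ∀ z ∈ V,
      topologicalKrullDim ↥((U : Set X) ∩ f.base ⁻¹' {z}) = topologicalKrullDim ↥((U : Set X) ∩ f.base ⁻¹' {y}) := by
  exact GrothLib.Chev28.dim_inter_fibre_eventually_eq f hf y

end Groth.Agent.S4924
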