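import Groth.Statements.S4929
import Groth.Agent.Lib.OpenAt.Basic

set_option autoImplicit false
open CategoryTheory AlgebraicGeometry
universe u v w
open EGA43

namespace Groth.Agent.S4929

open CategoryTheory.Limits in
/-- Let f : X ⟶ Y be a morphism of schemes, x a point of X, and (Y_i ⟶ Y) a finite family of closed
immersions whose images cover Y. If for every i the base change X ×_Y Y_i ⟶ Y_i is universally open
at every point lying over x, then f is universally open at x. -/
theorem result {X Y : Scheme.{u}} (f : X ⟶ Y) (x : X) {ι : Type w}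
    [Finite ι] (T : ι → Scheme.{u}) (g : ∀ i, T i ⟶ Y) [∀ i, IsClosedImmersion (g i)]
    (hcov : ⋃ i, Set.range (g i).base = Set.univ)
    (h : ∀ i, ∀ x' : ↥(pullback f (g i)), (pullback.fst f (g i)).base x' = x →
      EGA43.IsUnivOpenAt (pullback.snd f (g i)) x') :
    EGA43.IsUnivOpenAt f x := by
  intro Y' k x' hx' U hU
  set y' := (pullback.snd f k).base x' with hy'
  have hc : (⋃ i, Set.range (pullback.snd (g i) k).base) = Set.univ := by
    simp only [Scheme.Pullback.range_snd, ← Set.preimage_iUnion, hcov, Set.preimage_univ]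
  rw [← nhdsWithin_univ, ← hc, nhdsWithin_iUnion, Filter.mem_iSup]
  intro i
  by_cases hi : y' ∈ Set.range (pullback.snd (g i) k).base
  · obtain ⟨t, ht⟩ := hi
    obtain ⟨p, hp1, hp2⟩ := Scheme.Pullback.exists_preimage_pullback x' t ht.symm
    have h1 := GrothLib.OpenAt.isOpenAt_snd_of_univOpenAt (g i) k (h i) p (hp1.symm ▸ hx') _
      ((pullback.fst (pullback.snd f k) (pullback.snd (g i) k)).continuous.continuousAt.preimage_mem_nhds
        (hp1.symm ▸ hU))
    rw [← ht, ← (pullback.snd (g i) k).isEmbedding.isInducing.map_nhds_eq]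
    refine Filter.mem_map.2 (Filter.mem_of_superset (hp2 ▸ h1) ?_)
    rintro _ ⟨a, ha, rfl⟩
    refine ⟨_, ha, ?_⟩
    have := congrArg (fun r : pullback (pullback.snd f k) (pullback.snd (g i) k) ⟶ Y' => r.base a)
      pullback.condition
    simpa only [Scheme.Hom.comp_apply] using this
  · rw [notMem_closure_iff_nhdsWithin_eq_bot.1 (by
      rwa [(pullback.snd (g i) k).isClosedEmbedding.isClosed_range.closure_eq])]
    exact Filter.mem_bot

end Groth.Agent.S4929
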