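import Groth.Statements.S4931
import Groth.Agent.Lib.UnivOpenAt6.Components
-- import your own Groth.Agent.* helpers here

set_option autoImplicit false
open CategoryTheory AlgebraicGeometry
universe u v w
open EGA43

namespace Groth.Agent.S4931

open CategoryTheory.Limits in
/-- Suppose Y is a locally Noetherian scheme and the morphism f : X ⟶ Y is locally of finite type. The
morphism f is universally open exactly when the following holds: given any discrete valuation ring A
together with any morphism g : Spec A ⟶ Y, each irreducible component of the fibre product X ×_Y
Spec A dominates Spec A (i.e. its image under the second projection is dense). -/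
theorem result {X Y : Scheme.{u}} [IsLocallyNoetherian Y] (f : X ⟶ Y)
    [LocallyOfFiniteType f] :
    UniversallyOpen f ↔
      ∀ (A : Type u) [CommRing A] [IsDomain A] [IsDiscreteValuationRing A] (g : Spec (CommRingCat.of A) ⟶ Y),
        ∀ Z ∈ irreducibleComponents (↥(pullback f g) : Type u), Dense ((pullback.snd f g).base '' Z) := by
    exact GrothLib.UnivOpenAt6.universallyOpen_iff_components_dominate f

end Groth.Agent.S4931
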