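import Groth.Statements.S4933
import Groth.Agent.Lib.Chev28.DimCond

set_option autoImplicit false
open CategoryTheory AlgebraicGeometry
universe u v w
open EGA43

namespace Groth.Agent.S4933

/-- Let f : X ⟶ Y be a morphism locally of finite type, x a point of X which is a maximal point of its
fibre X_y, y = f x. Consider: a) f is universally open at x; b) for every irreducible component Y₀
of Y containing y, with generic point η, there is an irreducible component Z of X containing x and
dominating Y₀ such that dim_x(X_y) = dim_x(Z ∩ X_y) = dim(Z ∩ X_η); b') for every open neighbourhood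
U of x and every generization y' of y one has dim(U ∩ X_{y'}) ≥ dim_x(X_y). Then a) implies b'), and
b') implies b). (Subsets of X carry the induced topology; dim_x(U ∩ X_y) = dim_x(X_y). The published
statement asserts moreover that b) implies b'); that implication can fail, because a generization y'
of y need not lie under any point of U ∩ Z: for the finite birational morphism from the affine plane
onto the surface obtained from it by identifying two rational points p and q, at x = p condition b)
holds with all dimensions equal to 0, while for U the complement of a line L through q avoiding p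
and y' the image of the generic point of L the set U ∩ X_{y'} is empty. So only a) ⇒ b') and b') ⇒
b) are stated here.) -/
theorem result {X Y : Scheme.{u}} (f : X ⟶ Y) [LocallyOfFiniteType f]
    (x : X) (hmax : ∀ x' : X, f.base x' = f.base x → x ∈ closure {x'} → x' = x) :
    (EGA43.IsUnivOpenAt f x → (∀ U : X.Opens, x ∈ U → ∀ y' : Y, y' ⤳ f.base x →
        FlatMor.fibreDimAt f x ≤ topologicalKrullDim ↥((U : Set X) ∩ f.base ⁻¹' {y'}))) ∧
    ((∀ U : X.Opens, x ∈ U → ∀ y' : Y, y' ⤳ f.base x →
        FlatMor.fibreDimAt f x ≤ topologicalKrullDim ↥((U : Set X) ∩ f.base ⁻¹' {y'})) →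
      (∀ Y₀ ∈ irreducibleComponents (Y : Type u), f.base x ∈ Y₀ →
        ∃ Z ∈ irreducibleComponents (X : Type u), ∃ hx : x ∈ Z, closure (f.base '' Z) = Y₀ ∧
          ∀ η : Y, closure ({η} : Set Y) = Y₀ →
            FlatMor.fibreDimAt f x = FlatMor.localDim ↥(Z ∩ f.base ⁻¹' {f.base x}) ⟨x, ⟨hx, rfl⟩⟩ ∧
            FlatMor.localDim ↥(Z ∩ f.base ⁻¹' {f.base x}) ⟨x, ⟨hx, rfl⟩⟩ =
              topologicalKrullDim ↥(Z ∩ f.base ⁻¹' {η}))) := by
  have hmax' : ∀ z, f z = f x → z ⤳ x → z = x := fun z hz hs => hmax z hz (specializes_iff_mem_closure.mp hs)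
  refine ⟨fun h U hU y' hy' => GrothLib.Chev28.dim_le_of_isUnivOpenAt f x hmax' h U hU y' hy',
    fun h Y₀ hY₀ hxY₀ => ?_⟩
  obtain ⟨n, -, hn⟩ := GrothLib.Equidim6.fibreDimAt_eq_resTrdeg f x hmax'
  have hg := hY₀.1.isGenericPoint_genericPoint (isClosed_of_mem_irreducibleComponents _ hY₀)
  have hηmax := GrothLib.Chev28.maximal_of_closure_mem (hg.def.symm ▸ hY₀)
  obtain ⟨ξ, hξmax, hξ, hξη, m, hm, hle⟩ := GrothLib.Chev28.exists_component_of_dim_cond f x n
    hY₀.1.genericPoint (hg.specializes hxY₀) hηmax fun U hU => hn ▸ h U hU _ (hg.specializes hxY₀)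
  obtain ⟨h1, -, h3⟩ := GrothLib.Chev28.component_dims f hξ hm ⟨hξ.mem_closure, rfl⟩
  obtain ⟨m', hm', hd⟩ := GrothLib.Chev28.exists_dim_closure_inter_fibre f ξ
  refine ⟨closure {ξ}, GrothLib.Equidim6.closure_mem_components hξmax, hξ.mem_closure, ?_, fun η hη => ?_⟩
  · rw [show f.base '' closure {ξ} = f '' closure {ξ} from rfl,
      GrothLib.Chev28.closure_image_closure_singleton f.continuous, hξη, hg.def]
  · have he : η = hY₀.1.genericPoint := (show IsGenericPoint η Y₀ from hη).eq hg
    have h4 : topologicalKrullDim ↥(closure {ξ} ∩ f.base ⁻¹' {η}) = (m : WithBot ℕ∞) := by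
      rw [he, ← hξη, show m = m' from Nat.cast_injective (hm.symm.trans hm')]
      exact hd
    have h5 := h3 hmax'
    refine ⟨h5.symm, ?_⟩
    rw [h4]
    refine le_antisymm ?_ h1
    refine h5.le.trans (hn.le.trans ?_)
    exact_mod_cast hle

end Groth.Agent.S4933
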