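import Groth.Statements.S4938
import Groth.Agent.Lib.Chev28.TFAE

set_option autoImplicit false
open CategoryTheory AlgebraicGeometry
universe u v w
open EGA43

namespace Groth.Agent.S4938

/-- Let Y be a locally Noetherian scheme, f : X ⟶ Y a morphism locally of finite type, and y a
geometrically unibranch point of Y, lying on the unique irreducible component Y₀ of Y with generic
point η. The following are equivalent: a) f is universally open at every point of X_y; b) every
point x of X_y lies on an irreducible component Z of X dominating Y₀ with dim_x(Z ∩ X_y) = dim(Z ∩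
X_η); b'') for every open subset U of X, dim(U ∩ X_η) ≥ dim(U ∩ X_y); c) f is open at every point of
X_y. (The published statement assumes Y locally Noetherian only for c) and also lists b′), the
pointwise form of b″) (for every x in X_y and every open U ∋ x, dim(U ∩ X_η) ≥ dim_x(U ∩ X_y)); over
the spectrum of an infinite product of copies of a field, the inclusion of a non-open closed point
satisfies b) and b″) but not a), so this row takes Y locally Noetherian throughout, and b′) is not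
listed.) -/
theorem result {X Y : Scheme.{u}} [IsLocallyNoetherian Y] (f : X ⟶ Y)
    [LocallyOfFiniteType f] (y : Y) (hy : CAlg2.IsGeomUnibranch (Y.presheaf.stalk y)) :
    List.TFAE [∀ x : X, f.base x = y → EGA43.IsUnivOpenAt f x,
      ∀ x : X, f.base x = y → ∀ Y₀ ∈ irreducibleComponents (Y : Type u), y ∈ Y₀ →
        ∃ Z ∈ irreducibleComponents (X : Type u), ∃ hx : x ∈ Z, closure (f.base '' Z) = Y₀ ∧
          ∀ η : Y, closure ({η} : Set Y) = Y₀ →
            FlatMor.localDim ↥(Z ∩ f.base ⁻¹' {f.base x}) ⟨x, ⟨hx, rfl⟩⟩ = topologicalKrullDim ↥(Z ∩ f.base ⁻¹' {η}),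
      ∀ U : X.Opens, ∀ Y₀ ∈ irreducibleComponents (Y : Type u), y ∈ Y₀ → ∀ η : Y, closure ({η} : Set Y) = Y₀ →
        topologicalKrullDim ↥((U : Set X) ∩ f.base ⁻¹' {y}) ≤ topologicalKrullDim ↥((U : Set X) ∩ f.base ⁻¹' {η}),
      ∀ x : X, f.base x = y → EGA43.IsOpenAt f.base x] := by
  tfae_have 1 → 4 := fun h x hx => GrothLib.Chev28.isOpenAt_of_isUnivOpenAt (h x hx)
  tfae_have 4 → 2 := fun h x hx Y₀ h1 h2 => GrothLib.Chev28.hasGoodComponent_of_forall_isOpenAt f y
    (fun z hz _ y' hy' => GrothLib.Chev28.mem_closure_of_isOpenAt (h z hz) (hz.symm ▸ hy')) x hx Y₀ h1 (hx.symm ▸ h2)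
  tfae_have 2 → 1 := fun h x hx => GrothLib.Chev28.HasGoodComponent.isUnivOpenAt
    (fun Y₀ h1 h2 => h x hx Y₀ h1 (hx ▸ h2)) (hx.symm ▸ hy)
  tfae_have 2 → 3 := by
    intro h U Y₀ hY₀ hyY₀ η hη
    subst hη
    refine GrothLib.Chev28.le_of_forall_nat_le fun n hn => ?_
    obtain ⟨z, hzU, hzy, hzmax, hnz⟩ := GrothLib.Chev28.exists_maximal_of_le_dim f y U n hn
    obtain ⟨ξ, hξ, hfξ, hξmax, hx, m, hm, hdim⟩ := GrothLib.Chev28.HasGoodComponent.extract (η := η)
      (fun Y₁ h1 h2 => h z hzy Y₁ h1 (hzy ▸ h2)) (hzy.symm ▸ specializes_iff_mem_closure.mpr hyY₀) (GrothLib.Chev28.maximal_of_closure_mem hY₀)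
    obtain ⟨m', hm', hm''⟩ := GrothLib.Equidim6.resTrdeg_eq_fibreDimAt_of_maximal f ξ hξmax
    refine le_trans ?_ (hfξ ▸ GrothLib.FibreDimAt6.fibreDimAt_le_of_open f ξ U (hξ.mem_open U.2 hzU))
    rw [hm'', show m' = m from Nat.cast_injective (hm'.symm.trans hm), ← hdim,
      (GrothLib.Chev28.component_dims f hξ hm hx).2.2 hzmax]
    exact hnz
  tfae_have 3 → 2 := by
    intro h x hx Y₀ hY₀ hyY₀
    refine GrothLib.Chev28.hasGoodComponent_of_exists f x (fun η hηx hη => ?_) Y₀ hY₀ (hx.symm ▸ hyY₀)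
    obtain ⟨x₀, he, hs, hmax, hd⟩ := GrothLib.Equidim6.exists_fibre_maximal f x
    obtain ⟨n, -, hn⟩ := GrothLib.Equidim6.fibreDimAt_eq_resTrdeg f x₀ fun z hz => hmax z (hz.trans he)
    obtain ⟨ξ, h1, h2, h3, m, hm, hle⟩ := GrothLib.Chev28.exists_component_of_dim_le f x₀ n η hη
      fun U hU => by
        have h4 := GrothLib.FibreDimAt6.fibreDimAt_le_of_open f x₀ U hU
        rw [hn, he, hx] at h4
        exact h4.trans (h U _ (GrothLib.Equidim6.closure_mem_components hη) (hx ▸ hηx.mem_closure) η rfl)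
    exact ⟨ξ, h1, h2.trans hs, h3, m, hm, hd.le.trans (hn.le.trans (by exact_mod_cast hle))⟩
  tfae_finish

end Groth.Agent.S4938
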