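import Groth.Statements.S4942
import Groth.Agent.Lib.OpenAt.Basic

set_option autoImplicit false
open CategoryTheory AlgebraicGeometry
universe u v w
open EGA43

namespace Groth.Agent.S4942

open CategoryTheory.Limits in
/-- Let v : Y₁ ⟶ Y be a universally closed surjective morphism of schemes, f : X ⟶ Y a morphism and x a
point of X. If the base change f₁ : X ×_Y Y₁ ⟶ Y₁ is universally open at every point of X ×_Y Y₁
lying over x, then f is universally open at x. -/
theorem result {X Y Y₁ : Scheme.{u}} (v : Y₁ ⟶ Y)
    [UniversallyClosed v] [Surjective v] (f : X ⟶ Y) (x : X)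
    (h : ∀ x₁ : ↥(pullback f v), (pullback.fst f v).base x₁ = x → EGA43.IsUnivOpenAt (pullback.snd f v) x₁) :
    EGA43.IsUnivOpenAt f x := by
  intro Y' g x' hx'
  refine GrothLib.OpenAt.isOpenAt_of_baseChange_closed (pullback.snd v g).isClosedMap
    (Surjective.surj (f := pullback.snd v g))
    (CategoryTheory.IsPullback.of_hasPullback (pullback.snd f g) (pullback.snd v g)) x' ?_
  intro p hp
  exact GrothLib.OpenAt.isOpenAt_snd_of_univOpenAt v g h p (hp ▸ hx')

end Groth.Agent.S4942
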