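import Groth.Statements.S4943
import Groth.Agent.Lib.Chev28.Codim

set_option autoImplicit false
open CategoryTheory AlgebraicGeometry
universe u v w
open EGA43

namespace Groth.Agent.S4943

/-- Let Y be an irreducible locally Noetherian scheme, f : X ⟶ Y a morphism locally of finite type which
is equidimensional at the point x, y = f x and e = dim_x(X_y). Let X' be an irreducible closed
subset of X containing x, with generic point x', and n a natural number such that codim(X', X) ≤ n
(the codimension being dim O_{X,x'}) and dim_x(X' ∩ X_y) ≤ e − n. Then codim(X', X) = n, dim_x(X' ∩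
X_y) = e − n, and the restriction of f to X' with its reduced subscheme structure is equidimensional
at x. -/
theorem result {X Y : Scheme.{u}} [IrreducibleSpace Y]
    [IsLocallyNoetherian Y] (f : X ⟶ Y) [LocallyOfFiniteType f] (x : X) (hf : EGA43.IsEquidimAt f x)
    (X' : TopologicalSpace.Closeds X) (x' : X) (hx' : closure ({x'} : Set X) = (X' : Set X)) (hx : x ∈ X') (n : ℕ)
    (hcodim : ringKrullDim (X.presheaf.stalk x') ≤ n)
    (hdim : FlatMor.localDim ↥((X' : Set X) ∩ f.base ⁻¹' {f.base x}) ⟨x, ⟨hx, rfl⟩⟩ + n ≤ FlatMor.fibreDimAt f x) :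
    ringKrullDim (X.presheaf.stalk x') = n ∧
      FlatMor.localDim ↥((X' : Set X) ∩ f.base ⁻¹' {f.base x}) ⟨x, ⟨hx, rfl⟩⟩ + n = FlatMor.fibreDimAt f x ∧
      ∀ w : ↥(Scheme.IdealSheafData.vanishingIdeal X').subscheme,
        (Scheme.IdealSheafData.vanishingIdeal X').subschemeι.base w = x →
        EGA43.IsEquidimAt ((Scheme.IdealSheafData.vanishingIdeal X').subschemeι ≫ f) w := by
  have hxX : x ∈ X' := hx
  have hgen : ∀ ξ ∈ (X' : Set X), (∀ z ∈ (X' : Set X), z ⤳ ξ → z = ξ) → ξ = x' := by
    intro ξ hξ hmax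
    rw [← hx'] at hξ hmax
    exact (hmax x' (subset_closure rfl) (specializes_iff_mem_closure.mpr hξ)).symm
  have hx'mem : x' ∈ (X' : Set X) := hx' ▸ subset_closure rfl
  have hx'sp : x' ⤳ x := specializes_iff_mem_closure.mpr (hx' ▸ hx)
  obtain ⟨h1, h2, h3⟩ := GrothLib.Chev28.codim_fibre_dim_of_isEquidimAt f x hf X' hxX n hdim
    fun ξ hξ _ hmax => hgen ξ hξ hmax ▸ hcodim
  refine ⟨h1 x' hx'mem hx'sp fun z hz hs => ?_, h2, h3⟩
  exact (hs.antisymm (specializes_iff_mem_closure.mpr (hx' ▸ hz))).eq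

end Groth.Agent.S4943
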