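import Groth.Statements.S4945
import Groth.Agent.Lib.Chev28.TFAE

set_option autoImplicit false
open CategoryTheory AlgebraicGeometry
universe u v w
open EGA43

namespace Groth.Agent.S4945

/-- Let Y be an irreducible locally Noetherian scheme with generic point η, f : X ⟶ Y a morphism locally
of finite type and y a geometrically unibranch point of Y. The following are equivalent: a) f is
universally open at every point of X_y; b) f is open at every point of X_y; c) for every maximal
point z of X_y there is an irreducible component Z of X containing z and dominating Y with dim_z(Z ∩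
X_y) = dim(Z ∩ X_η); d) for every point x closed in X_y there are an irreducible reduced scheme T
and an immersion T ⟶ X with image containing x such that T ⟶ Y is quasi-finite and dominant. -/
theorem result {X Y : Scheme.{u}} [IrreducibleSpace Y]
    [IsLocallyNoetherian Y] (f : X ⟶ Y) [LocallyOfFiniteType f] (y : Y) (hy : CAlg2.IsGeomUnibranch (Y.presheaf.stalk y)) :
    List.TFAE [∀ x : X, f.base x = y → EGA43.IsUnivOpenAt f x,
      ∀ x : X, f.base x = y → EGA43.IsOpenAt f.base x,
      ∀ z : X, ∀ hzy : f.base z = y, (∀ z' : X, f.base z' = y → z ∈ closure {z'} → z' = z) →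
        ∃ Z ∈ irreducibleComponents (X : Type u), ∃ hz : z ∈ Z, Dense (f.base '' Z) ∧
          FlatMor.localDim ↥(Z ∩ f.base ⁻¹' {y}) ⟨z, ⟨hz, hzy⟩⟩ = topologicalKrullDim ↥(Z ∩ f.base ⁻¹' {genericPoint Y}),
      ∀ x : X, f.base x = y → (∀ x' : X, f.base x' = y → x ⤳ x' → x' = x) →
        ∃ (T : Scheme.{u}) (i : T ⟶ X), IsImmersion i ∧ IrreducibleSpace ↥T ∧ IsReduced T ∧ x ∈ Set.range i.base ∧
        LocallyOfFiniteType (i ≫ f) ∧ LocallyQuasiFinite (i ≫ f) ∧ QuasiCompact (i ≫ f) ∧ IsDominant (i ≫ f)] := by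
  have conv : ∀ z : X, f.base z = y → (GrothLib.Chev28.HasGoodComponent f z ↔
      ∃ hz' : f.base z = y, ∃ Z ∈ irreducibleComponents (X : Type u), ∃ hz : z ∈ Z, Dense (f.base '' Z) ∧
        FlatMor.localDim ↥(Z ∩ f.base ⁻¹' {y}) ⟨z, ⟨hz, hz'⟩⟩ =
          topologicalKrullDim ↥(Z ∩ f.base ⁻¹' {genericPoint Y})) := by
    intro z hzy
    subst hzy
    constructor
    · intro h
      obtain ⟨Z, hZ, hz, hc, hd⟩ := h Set.univ
        (by rw [irreducibleComponents_eq_singleton]; exact Set.mem_singleton _) trivial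
      exact ⟨rfl, Z, hZ, hz, dense_iff_closure_eq.mpr hc, hd _ (genericPoint_spec Y).def⟩
    · rintro ⟨_, Z, hZ, hz, hc, hd⟩ Y₀ hY₀ -
      rw [irreducibleComponents_eq_singleton, Set.mem_singleton_iff] at hY₀
      subst hY₀
      refine ⟨Z, hZ, hz, hc.closure_eq, fun η hη => ?_⟩
      rw [show η = genericPoint Y from (show IsGenericPoint η Set.univ from hη).eq (genericPoint_spec Y)]
      exact hd
  tfae_have 1 → 2 := fun h x hx => GrothLib.Chev28.isOpenAt_of_isUnivOpenAt (h x hx)
  tfae_have 2 → 3 := by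
    intro h z hzy hmax
    obtain ⟨_, h'⟩ := (conv z hzy).mp <| GrothLib.Chev28.hasGoodComponent_of_forall_isOpenAt f y
      (fun x hx _ y' hy' => GrothLib.Chev28.mem_closure_of_isOpenAt (h x hx) (hx.symm ▸ hy')) z hzy
    exact h'
  have h31 : (∀ z : X, ∀ hzy : f.base z = y, (∀ z' : X, f.base z' = y → z ∈ closure {z'} → z' = z) →
      ∃ Z ∈ irreducibleComponents (X : Type u), ∃ hz : z ∈ Z, Dense (f.base '' Z) ∧
        FlatMor.localDim ↥(Z ∩ f.base ⁻¹' {y}) ⟨z, ⟨hz, hzy⟩⟩ =
          topologicalKrullDim ↥(Z ∩ f.base ⁻¹' {genericPoint Y})) →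
      ∀ x : X, f.base x = y → GrothLib.Chev28.HasGoodComponent f x := by
    intro h x hx
    obtain ⟨x₀, he, hs, hmax, hd⟩ := GrothLib.Equidim6.exists_fibre_maximal f x
    have hgood : GrothLib.Chev28.HasGoodComponent f x₀ := (conv x₀ (he.trans hx)).mpr ⟨he.trans hx,
      h x₀ (he.trans hx) fun z' hz' hz'' => hmax z' (hz'.trans hx.symm) (specializes_iff_mem_closure.mpr hz'')⟩
    exact hgood.of_specializes hs he (fun z hz => hmax z (hz.trans he)) hd
  tfae_have 3 → 1 := fun h x hx => GrothLib.Chev28.HasGoodComponent.isUnivOpenAt (h31 h x hx) (hx.symm ▸ hy)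
  tfae_have 3 → 4 := by
    intro h x hx hcl
    exact GrothLib.Chev28.HasGoodComponent.exists_quasiSection (h31 h x hx)
      fun x' hx' => hcl x' (hx'.trans hx)
  tfae_have 4 → 3 := by
    intro h z hzy hmax
    obtain ⟨_, h'⟩ := (conv z hzy).mp <| GrothLib.Chev28.hasGoodComponent_of_forall_isOpenAt f y
      (fun x hx _ y' hy' => GrothLib.Chev28.mem_closure_of_closed_points f y (fun c hc hcl => by
        obtain ⟨T, i, hi, hirr, hred, ⟨t, rfl⟩, h1, h2, h3, h4⟩ := h c hc hcl
        exact GrothLib.Chev28.isOpenAt_of_isUnivOpenAt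
          (GrothLib.Chev28.isUnivOpenAt_of_quasiSection f i t (hc.symm ▸ hy))) x hx y' hy') z hzy
    exact h'
  tfae_finish

end Groth.Agent.S4945
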