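import Groth.Statements.S4946
import Groth.Agent.Lib.QSec28.Main

set_option autoImplicit false
open CategoryTheory AlgebraicGeometry
universe u v w
open EGA43

namespace Groth.Agent.S4946

/-- Let Y be an irreducible locally Noetherian scheme which is regular of dimension 1 (all local rings
regular of dimension at most 1), f : X ⟶ Y a morphism locally of finite type and y a point of Y.
Then the following are equivalent: d) every irreducible component of X meeting the fibre X_y
dominates Y; e) for every point x closed in X_y and every irreducible component X_i of X containing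
x, there are an irreducible reduced scheme T and an immersion T ⟶ X with image containing x and
contained in X_i, such that T ⟶ Y is quasi-finite and dominant. -/
theorem result {X Y : Scheme.{u}} [IrreducibleSpace Y]
    [IsLocallyNoetherian Y] (hY : ∀ y : Y, IsRegularLocalRing (Y.presheaf.stalk y) ∧ ringKrullDim (Y.presheaf.stalk y) ≤ 1)
    (f : X ⟶ Y) [LocallyOfFiniteType f] (y : Y) :
    (∀ Z ∈ irreducibleComponents (X : Type u), (Z ∩ f.base ⁻¹' {y}).Nonempty → Dense (f.base '' Z)) ↔
      ∀ x : X, f.base x = y → (∀ x' : X, f.base x' = y → x ⤳ x' → x' = x) →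
        ∀ Xi ∈ irreducibleComponents (X : Type u), x ∈ Xi →
          ∃ (T : Scheme.{u}) (i : T ⟶ X), IsImmersion i ∧ IrreducibleSpace ↥T ∧ IsReduced T ∧ x ∈ Set.range i.base ∧
            Set.range i.base ⊆ Xi ∧
            LocallyOfFiniteType (i ≫ f) ∧ LocallyQuasiFinite (i ≫ f) ∧ QuasiCompact (i ≫ f) ∧ IsDominant (i ≫ f) := by
  exact GrothLib.QSec28.quasiSections_iff_dominate hY f y

end Groth.Agent.S4946
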