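import Groth.Statements.S4947
import Groth.Agent.Lib.OrdVal.Basic

set_option autoImplicit false
universe u
open EGA43

namespace Groth.Agent.S4947

/-- Let A be a regular local ring which is not a field, K its fraction field and k its residue field.
Then there is a discrete valuation ring V between A and K, with fraction field K, dominating A,
whose residue field is a purely transcendental extension of k: for some ring map from k compatible
with A → V there is an algebraically independent family generating the residue field of V as a field
over k. -/
theorem result (A : Type u) [CommRing A] [IsRegularLocalRing A]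
    (hA : ¬ IsField A) :
    ∃ (V : Subalgebra A (FractionRing A)) (_ : IsDomain V) (_ : IsDiscreteValuationRing V), IsFractionRing V (FractionRing A) ∧
      (IsLocalRing.maximalIdeal V).comap (algebraMap A V) = IsLocalRing.maximalIdeal A ∧
      ∃ (φ : IsLocalRing.ResidueField A →+* IsLocalRing.ResidueField V),
        φ.comp (IsLocalRing.residue A) = (IsLocalRing.residue V).comp (algebraMap A V) ∧
        letI := φ.toAlgebra
        ∃ (ι : Type u) (t : ι → IsLocalRing.ResidueField V), AlgebraicIndependent (IsLocalRing.ResidueField A) t ∧
          IntermediateField.adjoin (IsLocalRing.ResidueField A) (Set.range t) = ⊤ := by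
  open IsLocalRing in
  obtain ⟨e, he⟩ : ∃ e, (maximalIdeal A).spanFinrank = e + 1 := by
    refine Nat.exists_eq_succ_of_ne_zero fun h => hA (IsLocalRing.isField_iff_maximalIdeal_eq.mpr ?_)
    exact (Submodule.spanFinrank_eq_zero_iff_eq_bot (IsNoetherian.noetherian _)).mp h
  obtain ⟨z, hz⟩ := GrothLib.RegLoc.exists_generators_fin (IsLocalRing.maximalIdeal A)
  let x : Fin (e + 1) → A := z ∘ Fin.cast he.symm
  have hx : Ideal.span (Set.range x) = IsLocalRing.maximalIdeal A := by
    rw [Set.range_comp, (Fin.rightInverse_cast he.symm).surjective.range_eq, Set.image_univ, hz]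
  refine ⟨GrothLib.OrdVal.ring A, inferInstance, GrothLib.OrdVal.isDiscreteValuationRing x he hx,
    inferInstance, Ideal.ext fun a => GrothLib.OrdVal.algebraMap_mem_maximalIdeal a,
    GrothLib.OrdVal.resMap, ?_, ULift.{u} (Fin e), _,
    GrothLib.OrdVal.algebraicIndependent_ratio x he hx,
    GrothLib.OrdVal.adjoin_ratio_eq_top x he hx⟩
  exact RingHom.ext fun a => rfl

end Groth.Agent.S4947
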