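import Groth.Statements.S4950
import Groth.Agent.Lib.DvrPts6.Main
-- import your own Groth.Agent.* helpers here

set_option autoImplicit false
open CategoryTheory AlgebraicGeometry
universe u v w
open EGA43

namespace Groth.Agent.S4950

open CategoryTheory.Limits in
/-- Let Y be a locally Noetherian scheme, f : X ⟶ Y a separated quasi-finite morphism, y a point of Y
and y' a generization of y distinct from y; write n(z) for the geometric number of points of the
fibre X_z. Then there are a discrete valuation ring A and a morphism g : Spec A ⟶ Y mapping the
closed point to y and the generic point to y', such that n(y) is the number of points of the fibre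
of X ×_Y Spec A ⟶ Spec A over the closed point and n(y') is the number of points of its fibre over
the generic point. -/
theorem result {X Y : Scheme.{u}} [IsLocallyNoetherian Y] (f : X ⟶ Y)
    [IsSeparated f] [LocallyQuasiFinite f] [LocallyOfFiniteType f] [QuasiCompact f] (y y' : Y) (hne : y' ≠ y)
    (hgen : y' ⤳ y) :
    ∃ (A : Type u) (_ : CommRing A) (_ : IsDomain A) (_ : IsDiscreteValuationRing A) (g : Spec (CommRingCat.of A) ⟶ Y),
      g.base (IsLocalRing.closedPoint A) = y ∧ g.base (genericPoint (Spec (CommRingCat.of A))) = y' ∧
      MoreMor.nGeomConnComp f y = ENat.card ↥((pullback.snd f g).fiber (IsLocalRing.closedPoint A)) ∧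
      MoreMor.nGeomConnComp f y' = ENat.card ↥((pullback.snd f g).fiber (genericPoint (Spec (CommRingCat.of A)))) := by
    exact GrothLib.DvrPts6.exists_dvr_realizing f y y' hgen

end Groth.Agent.S4950
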