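import Groth.Statements.S4951
import Groth.Agent.Lib.Chev28.ConnCompl

set_option autoImplicit false
universe u
open EGA43

namespace Groth.Agent.S4951

/-- Let X be a locally Noetherian topological space in which every irreducible closed subset has a
unique generic point (X quasi-sober and T₀), and Z a closed nowhere dense subset of X such that for
every point x of Z the set of generizations of x distinct from x is connected (possibly empty). If X
is connected, then X − Z is connected. (Uniqueness of generic points, automatic for the underlying
space of a scheme, is needed: in the four-point space {u, v, z₁, z₂} whose open sets are ∅, {u},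
{v}, {u, v} and the whole space, the closed nowhere dense set Z = {z₁, z₂} satisfies the hypothesis,
since z₂ is a generization of z₁ and conversely, yet X − Z = {u, v} is not connected.) -/
theorem result {X : Type u} [TopologicalSpace X]
    [QuasiSober X] [T0Space X] (hloc : ∀ x : X, ∃ U ∈ nhds x, TopologicalSpace.NoetherianSpace ↥U) [ConnectedSpace X]
    (Z : Set X) (hZ : IsClosed Z) (hZn : IsNowhereDense Z)
    (hgen : ∀ x ∈ Z, IsPreconnected ({x' : X | x' ⤳ x} \ {x})) :
    IsConnected Zᶜ := by
  exact GrothLib.Chev28.isConnected_compl hloc Z hZ hZn hgen

end Groth.Agent.S4951
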