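import Groth.Statements.S4956
import Groth.Agent.Lib.Chev28.SectCompVal

set_option autoImplicit false
open CategoryTheory AlgebraicGeometry
universe u v w
open EGA43

namespace Groth.Agent.S4956

/-- Let f : X ⟶ Y be a morphism of finite presentation with a section g, X_y^0 the connected component
of f⁻¹(y) containing g y, every X_y^0 geometrically irreducible over κ(y), and y₀ a point of Y such
that f is universally open at the generic point of X_{y₀}^0. Suppose moreover that either (α) the
fibre over y₀ is geometrically reduced at g y₀ and the local ring O_{Y,y₀} is Noetherian, or (β) dim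
X_{y'} = dim X_{y'}^0 for the generic point y' of every irreducible component of Y containing y₀.
Then y ↦ dim X_y^0 is constant on a neighbourhood of y₀. -/
theorem result {X Y : Scheme.{u}} (f : X ⟶ Y)
    [LocallyOfFinitePresentation f] [QuasiCompact f] [QuasiSeparated f] (g : Y ⟶ X) (hg : g ≫ f = 𝟙 Y)
    (hirr : ∀ y : Y, (∀ (K : Type u) [Field K] [Algebra (IsLocalRing.ResidueField (Y.presheaf.stalk y)) K],
        IsIrreducible ((FBase.bcπ (f.fiberToSpecResidueField y) K ≫ f.fiberι y).base ⁻¹' connectedComponentIn (f.base ⁻¹' {y}) (g.base y))))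
    (y₀ : Y) (hopen : ∀ ξ ∈ connectedComponentIn (f.base ⁻¹' {y₀}) (g.base y₀), connectedComponentIn (f.base ⁻¹' {y₀}) (g.base y₀) ⊆ closure {ξ} → EGA43.IsUnivOpenAt f ξ)
    (hαβ : (FBase.IsGeomReducedAt (f.fiberToSpecResidueField (f.base (g.base y₀))) (f.asFiber (g.base y₀)) ∧
        IsNoetherianRing (Y.presheaf.stalk y₀)) ∨
      (∀ y' : Y, y₀ ∈ closure {y'} → closure {y'} ∈ irreducibleComponents (Y : Type u) →
        topologicalKrullDim ↥(f.fiber y') = topologicalKrullDim ↥(connectedComponentIn (f.base ⁻¹' {y'}) (g.base y')))) :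
    ∃ V ∈ nhds y₀, ∀ z ∈ V, topologicalKrullDim ↥(connectedComponentIn (f.base ⁻¹' {z}) (g.base z)) = topologicalKrullDim ↥(connectedComponentIn (f.base ⁻¹' {y₀}) (g.base y₀)) := by
  refine GrothLib.Chev28.dim_sectComp_eventually_eq_fp f g hg hirr y₀ fun y' hy' => ?_
  rcases hαβ with ⟨hα, hN⟩ | hβ
  · haveI := hN
    haveI : IsNoetherianRing ↑(CommRingCat.of (Y.presheaf.stalk y₀)) := hN
    obtain ⟨p, hp⟩ := (Scheme.range_fromSpecStalk (x := y₀)).ge hy'
    have hsp : p ⤳ IsLocalRing.closedPoint (Y.presheaf.stalk y₀) := IsLocalRing.specializes_closedPoint _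
    obtain ⟨D, _, _, _, h, h1, h2⟩ := GrothLib.SubtrLim.exists_dvr_map (Y := Spec (Y.presheaf.stalk y₀)) hsp
    refine GrothLib.Chev28.dim_sectComp_le_of_dvr f g hg hirr D (h ≫ Y.fromSpecStalk y₀) ?_ ?_ hopen hα
    · exact (congrArg (Y.fromSpecStalk y₀) h1).trans hp
    · exact (congrArg (Y.fromSpecStalk y₀) h2).trans Scheme.fromSpecStalk_closedPoint
  · obtain ⟨η, hηy', hη⟩ := GrothLib.Chev28.exists_maximal_generization y'
    have hfg : ∀ t, f.base (g.base t) = t := fun t => congrArg (fun m : Y ⟶ Y => m.base t) hg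
    obtain ⟨ξ, hξ, hCη⟩ := GrothLib.Chev28.sectComp_eq_fibClosure f (GrothLib.Chev28.isIrreducible_sectComp f g hirr η)
    calc _ ≤ topologicalKrullDim ↥(f.fiber η) :=
          GrothLib.Chev28.dim_sectComp_le_fiber f g hg hirr (hηy'.trans hy') hopen
      _ = _ := hβ η (hηy'.trans hy').mem_closure (GrothLib.Equidim6.closure_mem_components hη)
      _ ≤ _ := (GrothLib.Chev28.dim_sectComp_ge f g hg hηy' hξ
          (specializes_iff_mem_closure.2 (hCη.le (mem_connectedComponentIn (hfg η))).1) (by rw [← hCη])).1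

end Groth.Agent.S4956
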