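import Groth.Statements.S4958
import Groth.Agent.Lib.Chev28.FibreDims

set_option autoImplicit false
open CategoryTheory AlgebraicGeometry
universe u v w
open EGA43

namespace Groth.Agent.S4958

/-- Let Y be an irreducible locally Noetherian scheme with generic point η, f : X ⟶ Y a morphism of
finite type and y a point of Y whose local ring O_{Y,y} is universally catenary. Suppose that dim
O_{X,z} = dim O_{Y,y} for every maximal point z of the fibre X_y. For z' in Y let E(z') be the set
of dimensions of the irreducible components of X_{z'}. Then E(y) ⊆ E(η), and hence dim X_y ≤ dim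
X_η. -/
theorem result {X Y : Scheme.{u}} [IrreducibleSpace Y]
    [IsLocallyNoetherian Y] (f : X ⟶ Y) [LocallyOfFiniteType f] [QuasiCompact f] (y : Y)
    (hcat : CAlg.IsUniversallyCatenary (Y.presheaf.stalk y))
    (hb : ∀ z : X, f.base z = y → (∀ z' : X, f.base z' = y → z ∈ closure {z'} → z' = z) →
      ringKrullDim (X.presheaf.stalk z) = ringKrullDim (Y.presheaf.stalk y)) :
    letI E : Y → Set (WithBot ℕ∞) := fun z =>
      (fun Z : Set ↥(f.fiber z) => topologicalKrullDim ↥Z) '' irreducibleComponents ↥(f.fiber z)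
    E y ⊆ E (genericPoint Y) ∧
      topologicalKrullDim ↥(f.fiber y) ≤ topologicalKrullDim ↥(f.fiber (genericPoint Y)) := by
  have hsub : GrothLib.Chev28.fibDims f y ⊆ GrothLib.Chev28.fibDims f (genericPoint Y) := by
    rintro d ⟨z, rfl, hz, hd⟩
    obtain ⟨d', hd₁, hd₂⟩ := GrothLib.Equidim6.fibreDimAt_eq_resTrdeg f z hz
    have hdd : d' = d := by exact_mod_cast (hd₁.symm.trans hd :)
    subst hdd
    obtain ⟨-, -, h0⟩ := GrothLib.Chev28.maximal_in_fibre_of_dim_le f z d' hd hd₂.le
    refine GrothLib.Chev28.mem_fibDims_generic f z d' hd₂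
      (GrothLib.Chev28.exists_component_of_dim_eq f z (h0.trans Nat.cast_zero) ?_)
    exact hb z rfl fun z' hz' hs => hz z' hz' (specializes_iff_mem_closure.mpr hs)
  refine ⟨?_, GrothLib.Chev28.dim_fiber_le_of_subset hsub⟩
  dsimp only
  rw [GrothLib.Chev28.image_dims_eq, GrothLib.Chev28.image_dims_eq]
  exact Set.image_mono hsub

end Groth.Agent.S4958
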