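import Groth.Statements.S4959
import Groth.Agent.Lib.Chev28.PropMain

set_option autoImplicit false
open CategoryTheory AlgebraicGeometry
universe u v w
open EGA43

namespace Groth.Agent.S4959

open CategoryTheory.Limits in
/-- Let f : X ⟶ Y be a morphism of schemes and g : Y' ⟶ Y a surjective morphism which is either proper,
or flat and quasi-compact. If the base change f' : X ×_Y Y' ⟶ Y' is universally submersive (all of
its base changes are topological quotient maps), then f is universally submersive. -/
theorem result {X Y Y' : Scheme.{u}} (f : X ⟶ Y) (g : Y' ⟶ Y) [Surjective g]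
    (hg : IsProper g ∨ (Flat g ∧ QuasiCompact g))
    (h : MorphismProperty.universally (topologically @Topology.IsQuotientMap) (pullback.snd f g)) :
    MorphismProperty.universally (topologically @Topology.IsQuotientMap) f := by
  intro T' T i₁ i₂ f' sq
  let q := pullback.snd g i₂
  have hq : Topology.IsQuotientMap q := by
    haveI : Surjective q := MorphismProperty.pullback_snd g i₂ ‹_›
    rcases hg with hP | ⟨hF, hQ⟩
    · haveI : IsProper q := MorphismProperty.pullback_snd g i₂ hP
      exact IsClosedMap.isQuotientMap q.isClosedMap q.continuous q.surjective
    · haveI : Flat q := MorphismProperty.pullback_snd g i₂ hF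
      haveI : QuasiCompact q := MorphismProperty.pullback_snd g i₂ hQ
      exact Flat.isQuotientMap_of_surjective q
  let r := pullback.snd f' q
  have h1 : IsPullback (pullback.fst f' q ≫ i₁) r f (pullback.fst g i₂ ≫ g) := by
    have h0 := (IsPullback.of_hasPullback f' q).paste_horiz sq.flip
    rwa [← pullback.condition] at h0
  let k : pullback f' q ⟶ pullback f g := pullback.lift (pullback.fst f' q ≫ i₁) (r ≫ pullback.fst g i₂)
    (by rw [h1.w, Category.assoc])
  have h2 : IsPullback k r (pullback.snd f g) (pullback.fst g i₂) := by
    refine IsPullback.of_right ?_ (pullback.lift_snd _ _ _) (IsPullback.of_hasPullback f g)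
    rw [pullback.lift_fst]
    exact h1
  have hr : Topology.IsQuotientMap r := h _ _ r h2.flip
  have hcomp : Topology.IsQuotientMap (f' ∘ pullback.fst f' q) := by
    have e : (f' ∘ pullback.fst f' q : _ → _) = q ∘ r := by
      funext x
      show f' (pullback.fst f' q x) = q (r x)
      rw [← Scheme.Hom.comp_apply, pullback.condition, Scheme.Hom.comp_apply]
    rw [e]
    exact hq.comp hr
  exact Topology.IsQuotientMap.of_comp (pullback.fst f' q).continuous f'.continuous hcomp

end Groth.Agent.S4959
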