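import Groth.Statements.S4971
import Mathlib.RingTheory.Nakayama
import Mathlib.RingTheory.Noetherian.Basic

set_option autoImplicit false
universe u
open EGA43

namespace Groth.Agent.S4971

/-- Let B be a Noetherian local ring, M, N, P three B-modules with N finitely generated, u : M → N and v
: N → P linear maps with v ∘ u = 0, and t an element of the maximal ideal of B which is P-regular.
If the induced sequence M/tM → N/tN → P/tP is exact, then M → N → P is exact. -/
theorem result {B : Type u} [CommRing B] [IsNoetherianRing B] [IsLocalRing B]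
    {M N P : Type u} [AddCommGroup M] [Module B M] [AddCommGroup N] [Module B N] [Module.Finite B N]
    [AddCommGroup P] [Module B P] (u : M →ₗ[B] N) (v : N →ₗ[B] P) (huv : v ∘ₗ u = 0) (t : B)
    (ht : t ∈ IsLocalRing.maximalIdeal B) (hreg : IsSMulRegular P t)
    (hu : (Ideal.span {t} • ⊤ : Submodule B M) ≤ (Ideal.span {t} • ⊤ : Submodule B N).comap u)
    (hv : (Ideal.span {t} • ⊤ : Submodule B N) ≤ (Ideal.span {t} • ⊤ : Submodule B P).comap v)
    (hex : LinearMap.ker ((Ideal.span {t} • ⊤ : Submodule B N).mapQ (Ideal.span {t} • ⊤ : Submodule B P) v hv) ≤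
      LinearMap.range ((Ideal.span {t} • ⊤ : Submodule B M).mapQ (Ideal.span {t} • ⊤ : Submodule B N) u hu)) :
    LinearMap.ker v ≤ LinearMap.range u := by
  have hle : Ideal.span {t} ≤ IsLocalRing.maximalIdeal B := by
    rwa [Ideal.span_le, Set.singleton_subset_iff]
  refine Submodule.le_of_le_smul_of_le_jacobson_bot (IsNoetherian.noetherian (LinearMap.ker v))
    (hle.trans (IsLocalRing.maximalIdeal_le_jacobson _)) ?_
  intro x hx
  rw [LinearMap.mem_ker] at hx
  have h1 : Submodule.Quotient.mk x ∈
      LinearMap.ker ((Ideal.span {t} • ⊤ : Submodule B N).mapQ _ v hv) := by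
    simp [LinearMap.mem_ker, hx]
  obtain ⟨m, hm⟩ := hex h1
  obtain ⟨m, rfl⟩ := Submodule.Quotient.mk_surjective _ m
  simp only [Submodule.mapQ_apply] at hm
  rw [Submodule.Quotient.eq, Submodule.ideal_span_singleton_smul] at hm
  obtain ⟨n, -, hn⟩ := hm
  have h2 : v (u m) = 0 := LinearMap.congr_fun huv m
  have hn' : v n = 0 := by
    have := congrArg v hn
    simp only [map_sub, h2, hx, sub_zero] at this
    refine hreg ?_
    simpa using this
  refine Submodule.mem_sup.2 ⟨u m, LinearMap.mem_range_self u m, x - u m, ?_, by abel⟩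
  rw [← neg_sub, Submodule.neg_mem_iff, Submodule.ideal_span_singleton_smul]
  exact ⟨n, hn', hn⟩

end Groth.Agent.S4971
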