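import Groth.Statements.S4973

set_option autoImplicit false
open CategoryTheory AlgebraicGeometry
universe u v w
open EGA43

namespace Groth.Agent.S4973

open CategoryTheory.Limits in
/-- Let Y₀ and Y be integral schemes, g : Y ⟶ Y₀ a dominant morphism, f₀ : X₀ ⟶ Y₀ a dominant morphism
whose fibre over the generic point of Y₀ is irreducible, and X'₀ an irreducible component of X₀
meeting that generic fibre (it is unique), regarded as a reduced closed subscheme of X₀. If X = X₀
×_{Y₀} Y is an integral scheme, then the morphism X'₀ ×_{Y₀} Y ⟶ X induced by the inclusion of X'₀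
is an isomorphism. -/
theorem result {X₀ Y₀ Y : Scheme.{u}} [IsIntegral Y₀] [IsIntegral Y]
    (g : Y ⟶ Y₀) [IsDominant g] (f₀ : X₀ ⟶ Y₀) [IsDominant f₀]
    (hirr : IsIrreducible (f₀.base ⁻¹' {genericPoint Y₀}))
    (C : TopologicalSpace.Closeds X₀) (hC : (C : Set X₀) ∈ irreducibleComponents (X₀ : Type u))
    (hCη : ((C : Set X₀) ∩ f₀.base ⁻¹' {genericPoint Y₀}).Nonempty) [IsIntegral (pullback f₀ g)]
    (e₁ : ((Scheme.IdealSheafData.vanishingIdeal C).subschemeι ≫ f₀) ≫ 𝟙 Y₀ =
      (Scheme.IdealSheafData.vanishingIdeal C).subschemeι ≫ f₀) (e₂ : g ≫ 𝟙 Y₀ = 𝟙 Y ≫ g) :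
    IsIso (pullback.map ((Scheme.IdealSheafData.vanishingIdeal C).subschemeι ≫ f₀) g f₀ g
      (Scheme.IdealSheafData.vanishingIdeal C).subschemeι (𝟙 Y) (𝟙 Y₀) e₁ e₂) := by
  haveI : IsClosedImmersion (pullback.map ((Scheme.IdealSheafData.vanishingIdeal C).subschemeι ≫ f₀) g f₀ g
      (Scheme.IdealSheafData.vanishingIdeal C).subschemeι (𝟙 Y) (𝟙 Y₀) e₁ e₂) :=
    MorphismProperty.pullbackMap (P := @IsClosedImmersion) inferInstance inferInstance
      rfl (Category.id_comp g).symm
  set η₀ := genericPoint Y₀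
  obtain ⟨c, hc⟩ := QuasiSober.sober hC.1 C.isClosed
  obtain ⟨w, hwC, hw⟩ := hCη
  have hcη : f₀ c = η₀ :=
    ((genericPoint_specializes _).antisymm ((hc.specializes hwC).map f₀.continuous |>.trans
      (specializes_of_eq hw))).eq.symm
  obtain ⟨γ, hγ⟩ := QuasiSober.sober hirr.closure isClosed_closure
  have hγc : γ ⤳ c := hγ.specializes (subset_closure hcη)
  have hcγ : γ = c := by
    have h1 : (C : Set X₀) ⊆ closure {γ} := by
      rw [← hc.def]
      exact closure_minimal (Set.singleton_subset_iff.2 hγc.mem_closure) isClosed_closure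
    have h2 : closure {γ} = (C : Set X₀) := (hC.2 isIrreducible_singleton.closure h1).antisymm h1
    exact (IsGenericPoint.eq h2 hc)
  have hfib : f₀.base ⁻¹' {η₀} ⊆ (C : Set X₀) := by
    rw [← hc.def, ← hcγ, hγ.def]
    exact subset_closure
  have hgη : g (genericPoint Y) = η₀ := by
    have h := (genericPoint_spec Y).image g.continuous
    rw [Set.image_univ, g.denseRange.closure_range] at h
    exact h.eq (genericPoint_spec Y₀)
  obtain ⟨z, hz1, hz2⟩ := Scheme.Pullback.exists_preimage_pullback c (genericPoint Y) (hcη.trans hgη.symm)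
  set ξ := genericPoint ↑(pullback f₀ g)
  have hξ : (pullback.fst f₀ g) ξ ∈ (C : Set X₀) := by
    refine hfib ?_
    have h := ((genericPoint_specializes z).map (pullback.fst f₀ g).continuous).map f₀.continuous
    rw [hz1, hcη] at h
    exact (h.antisymm (genericPoint_specializes _)).eq
  haveI : Surjective (pullback.map ((Scheme.IdealSheafData.vanishingIdeal C).subschemeι ≫ f₀) g f₀ g
      (Scheme.IdealSheafData.vanishingIdeal C).subschemeι (𝟙 Y) (𝟙 Y₀) e₁ e₂) := by
    refine ⟨Set.range_eq_univ.1 (Set.eq_univ_of_univ_subset ?_)⟩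
    rw [← (genericPoint_spec ↑(pullback f₀ g)).def]
    refine closure_minimal (Set.singleton_subset_iff.2 ?_) (Scheme.Hom.isClosedEmbedding _).isClosed_range
    rw [Scheme.Pullback.range_map]
    refine ⟨?_, ⟨_, rfl⟩⟩
    rw [Set.mem_preimage, Scheme.IdealSheafData.range_subschemeι,
      Scheme.IdealSheafData.coe_support_vanishingIdeal]
    exact hξ
  exact isIso_of_isClosedImmersion_of_surjective _

end Groth.Agent.S4973
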