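import Groth.Statements.S4974
import Groth.Agent.Lib.Chev28.CompleteSection

set_option autoImplicit false
open CategoryTheory AlgebraicGeometry
universe u v w
open EGA43

namespace Groth.Agent.S4974

/-- Consider a complete Noetherian local domain A and put Y = Spec A. Suppose f : X ⟶ Y is locally of
finite type, and take a point x ∈ X mapping to the closed point of Y, where f is equidimensional at
x and x is closed in the fibre containing it. Then one can find a local domain A' that contains A
and is finite as an A-algebra, together with a Y-morphism h : Spec A' ⟶ X that is an immersion and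
has x in its image. -/
theorem result {A : Type u} [CommRing A] [IsDomain A]
    [IsNoetherianRing A] [IsLocalRing A] [IsAdicComplete (IsLocalRing.maximalIdeal A) A] {X : Scheme.{u}}
    (f : X ⟶ Spec (CommRingCat.of A)) [LocallyOfFiniteType f] (x : X) (hx : f.base x = IsLocalRing.closedPoint A)
    (hf : EGA43.IsEquidimAt f x) (hcl : ∀ x' : X, f.base x' = f.base x → x ⤳ x' → x' = x) :
    ∃ (A' : Type u) (_ : CommRing A') (_ : IsDomain A') (_ : IsLocalRing A') (_ : Algebra A A') (_ : Module.Finite A A'),
      Function.Injective (algebraMap A A') ∧
      ∃ h : Spec (CommRingCat.of A') ⟶ X, h ≫ f = Spec.map (CommRingCat.ofHom (algebraMap A A')) ∧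
        IsImmersion h ∧ x ∈ Set.range h.base := by
  exact GrothLib.Chev28.exists_finite_section f x hx hf hcl

end Groth.Agent.S4974
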