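import Groth.Statements.S4975
import Groth.Agent.Lib.Chev28.SectCompConst

set_option autoImplicit false
open CategoryTheory AlgebraicGeometry
universe u v w
open EGA43

namespace Groth.Agent.S4975

/-- Let f : X ⟶ Y be a morphism locally of finite type with Y locally Noetherian, g : Y ⟶ X a section of
f, X_y^0 the connected component of f⁻¹(y) containing g y, and X^0 ⊆ X their union. Suppose every
X_y^0 is geometrically integral over κ(y) (its preimage in X_y ⊗ K is irreducible and has reduced
local rings, for every field extension K of κ(y)). Then y ↦ dim X_y^0 is locally constant on Y if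
and only if f is universally open at every point of X^0; and when this holds, X^0 is open in X. (The
published statement also lists, as a further equivalent condition, flatness of the base change of f
to the reduced closed subscheme Y_red at the points of X^0; that condition is not stated here.) -/
theorem result {X Y : Scheme.{u}}
    [IsLocallyNoetherian Y] (f : X ⟶ Y) [LocallyOfFiniteType f] (g : Y ⟶ X) (hg : g ≫ f = 𝟙 Y)
    (hint : ∀ y : Y, (∀ (K : Type u) [Field K] [Algebra (IsLocalRing.ResidueField (Y.presheaf.stalk y)) K],
        IsIrreducible ((FBase.bcπ (f.fiberToSpecResidueField y) K ≫ f.fiberι y).base ⁻¹' connectedComponentIn (f.base ⁻¹' {y}) (g.base y)) ∧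
        ∀ x' : ↥(FBase.bc (f.fiberToSpecResidueField y) K),
          (FBase.bcπ (f.fiberToSpecResidueField y) K ≫ f.fiberι y).base x' ∈ connectedComponentIn (f.base ⁻¹' {y}) (g.base y) →
          _root_.IsReduced ((FBase.bc (f.fiberToSpecResidueField y) K).presheaf.stalk x'))) :
    (IsLocallyConstant (fun y : Y => topologicalKrullDim ↥(connectedComponentIn (f.base ⁻¹' {y}) (g.base y))) ↔ ∀ x ∈ MoreMor.sectionComponents f g, EGA43.IsUnivOpenAt f x) ∧
      (IsLocallyConstant (fun y : Y => topologicalKrullDim ↥(connectedComponentIn (f.base ⁻¹' {y}) (g.base y))) → IsOpen (MoreMor.sectionComponents f g)) := by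
  refine GrothLib.Chev28.isLocallyConstant_dim_sectComp_iff f g hg (fun y K _ _ => (hint y K).1) ?_
  intro x hx K _ _ x' hx'
  refine (hint (f.base x) K).2 x' ?_
  show (f.fiberι (f.base x)).base ((FBase.bcπ (f.fiberToSpecResidueField (f.base x)) K).base x') ∈ _
  rw [hx', f.fiberι_asFiber]
  exact hx

end Groth.Agent.S4975
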