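import Groth.Statements.S4977
import Groth.Agent.Lib.Chev28.PropMain

set_option autoImplicit false
open CategoryTheory AlgebraicGeometry
universe u v w
open EGA43

namespace Groth.Agent.S4977

open CategoryTheory.Limits in
/-- Let Y be a locally Noetherian scheme, y a point of Y, f : X ⟶ Y a separated morphism of finite type,
and Z a locally constructible subset of X such that: (i) for every generization y' of y, Z ∩ f⁻¹(y')
is a connected component of the fibre f⁻¹(y') and is geometrically connected over κ(y'); (ii) Z ∩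
f⁻¹(y), an open and closed subscheme of the fibre X_y, is proper over κ(y); (iii) Z is universally
submersive onto f(Z): for every morphism h : Y' ⟶ Y, writing p and f' for the two projections of X
×_Y Y', a subset E of h⁻¹(f(Z)) is open in h⁻¹(f(Z)) as soon as f'⁻¹(E) ∩ p⁻¹(Z) is open in p⁻¹(Z)
(induced topologies). Then Z is proper over Y at y: there is an open neighbourhood U of y such that
Z ∩ f⁻¹(U) is closed in f⁻¹(U) and, with its reduced subscheme structure, proper over U. -/
theorem result {X Y : Scheme.{u}} [IsLocallyNoetherian Y] (y : Y)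
    (f : X ⟶ Y) [IsSeparated f] [LocallyOfFiniteType f] [QuasiCompact f] (Z : Set X)
    (hZ : Topology.IsLocallyConstructible Z)
    (h1 : ∀ y' : Y, y' ⤳ y → (∃ x ∈ Z, f.base x = y' ∧ Z ∩ f.base ⁻¹' {y'} = connectedComponentIn (f.base ⁻¹' {y'}) x) ∧
      ∀ (K : Type u) [Field K] [Algebra (IsLocalRing.ResidueField (Y.presheaf.stalk y')) K],
        _root_.IsPreconnected ((FBase.bcπ (f.fiberToSpecResidueField y') K ≫ f.fiberι y').base ⁻¹' Z))
    (hop : IsOpen ((f.fiberι y).base ⁻¹' Z))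
    (h2 : IsProper (Scheme.Opens.ι (⟨(f.fiberι y).base ⁻¹' Z, hop⟩ : (f.fiber y).Opens) ≫ f.fiberToSpecResidueField y))
    (h3 : ∀ (Y' : Scheme.{u}) (h : Y' ⟶ Y) (E : Set Y'), E ⊆ h.base ⁻¹' (f.base '' Z) →
      (∃ W : Set ↥(pullback f h), IsOpen W ∧
        W ∩ (pullback.fst f h).base ⁻¹' Z = (pullback.snd f h).base ⁻¹' E ∩ (pullback.fst f h).base ⁻¹' Z) →
      ∃ V : Set Y', IsOpen V ∧ V ∩ h.base ⁻¹' (f.base '' Z) = E) :
    ∃ U : Y.Opens, y ∈ U ∧ ∃ hC : IsClosed ((f ⁻¹ᵁ U).ι.base ⁻¹' Z),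
      IsProper ((Scheme.IdealSheafData.vanishingIdeal
        (⟨(f ⁻¹ᵁ U).ι.base ⁻¹' Z, hC⟩ : TopologicalSpace.Closeds ↥(f ⁻¹ᵁ U))).subschemeι ≫ (f ∣_ U)) := by
  exact GrothLib.Chev28.proper_at_of_components y f Z hZ h1 hop h2 h3

end Groth.Agent.S4977
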