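import Groth.Statements.S4978
import Groth.Agent.Lib.Chev28.PropNhd

set_option autoImplicit false
open CategoryTheory AlgebraicGeometry
universe u v w
open EGA43

namespace Groth.Agent.S4978

open CategoryTheory.Limits in
/-- Let Y be a Noetherian scheme, f : X ⟶ Y a separated morphism of finite type, Z a subset of X such
that every maximal point of the closure of Z belongs to Z, and y a point of Y. Then the closure of Z
is proper over Y at y (for some open U ∋ y, its trace on f⁻¹(U) is proper over U with the reduced
structure) if and only if: for every discrete valuation ring A' and every morphism g : Spec A' ⟶ Y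
mapping the closed point to y, every point x' of X' = X ×_Y Spec A' which projects into Z, lies over
the generic point η' of Spec A' and is rational over κ(η') is in the image of some section of X' ⟶
Spec A'. -/
theorem result {X Y : Scheme.{u}} [IsNoetherian Y] (f : X ⟶ Y) [IsSeparated f]
    [LocallyOfFiniteType f] [QuasiCompact f] (Z : Set X)
    (hZ : ∀ z ∈ closure Z, (∀ z' ∈ closure Z, z ∈ closure {z'} → z' = z) → z ∈ Z) (y : Y) :
    (∃ U : Y.Opens, y ∈ U ∧ ∃ hC : IsClosed ((f ⁻¹ᵁ U).ι.base ⁻¹' closure Z),
      IsProper ((Scheme.IdealSheafData.vanishingIdeal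
        (⟨(f ⁻¹ᵁ U).ι.base ⁻¹' closure Z, hC⟩ : TopologicalSpace.Closeds ↥(f ⁻¹ᵁ U))).subschemeι ≫ (f ∣_ U))) ↔
      ∀ (A' : Type u) [CommRing A'] [IsDomain A'] [IsDiscreteValuationRing A'] (g : Spec (CommRingCat.of A') ⟶ Y),
        g.base (IsLocalRing.closedPoint A') = y →
        ∀ x' : ↥(pullback f g), (pullback.fst f g).base x' ∈ Z →
          (pullback.snd f g).base x' = genericPoint (Spec (CommRingCat.of A')) →
          Function.Bijective ((pullback.snd f g).residueFieldMap x').hom →
          ∃ s : Spec (CommRingCat.of A') ⟶ pullback f g, s ≫ pullback.snd f g = 𝟙 _ ∧ x' ∈ Set.range s.base := by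
  constructor
  · rintro ⟨U, hyU, hC, hproper⟩ A' _ _ _ g hg x' hx'Z hx'η hb
    generalize hC' : (⟨(f ⁻¹ᵁ U).ι.base ⁻¹' closure Z, hC⟩ : TopologicalSpace.Closeds ↥(f ⁻¹ᵁ U)) = C at hproper
    have hrange : Set.range (Scheme.IdealSheafData.vanishingIdeal C).subschemeι.base =
        (f ⁻¹ᵁ U).ι.base ⁻¹' closure Z := by
      rw [Scheme.IdealSheafData.range_subschemeι, Scheme.IdealSheafData.coe_support_vanishingIdeal, ← hC']
      rfl
    obtain ⟨σ, hσπ, hσx⟩ := GrothLib.Chev28.exists_point_of_bijective_residueFieldMap
      (algebraMap A' (FractionRing A')) (IsFractionRing.injective A' (FractionRing A'))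
      (pullback.snd f g) x' hx'η hb
    have hfU : (pullback.fst f g).base x' ∈ f ⁻¹ᵁ U := by
      show f.base ((pullback.fst f g).base x') ∈ U
      rw [show f.base ((pullback.fst f g).base x') = g.base ((pullback.snd f g).base x') from
        congrArg (fun m : pullback f g ⟶ Y => m.base x') pullback.condition]
      exact GrothLib.DVRDom.mem_of_closedPoint_mem g (hg ▸ hyU) _
    obtain ⟨l, hl₁, hl₂⟩ := GrothLib.Chev28.exists_lift_of_proper_nhd (A := A') (K := FractionRing A') f U
      _ hproper g (hg ▸ hyU) (σ ≫ pullback.fst f g)
      (by rw [Category.assoc, pullback.condition, reassoc_of% hσπ])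
      ⟨⟨_, hfU⟩, hrange.ge (subset_closure hx'Z), by
        show (pullback.fst f g).base x' = (pullback.fst f g).base (σ.base _)
        rw [hσx]⟩
    refine ⟨pullback.lift l (𝟙 _) (by rw [hl₁, Category.id_comp]), pullback.lift_snd _ _ _, ?_⟩
    refine ⟨(Spec.map (CommRingCat.ofHom (algebraMap A' (FractionRing A')))).base
      (IsLocalRing.closedPoint (FractionRing A')), ?_⟩
    rw [← hσx]
    have key : Spec.map (CommRingCat.ofHom (algebraMap A' (FractionRing A'))) ≫
        pullback.lift l (𝟙 _) (by rw [hl₁, Category.id_comp]) = σ := ?_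
    · exact congrArg (fun m : Spec (CommRingCat.of (FractionRing A')) ⟶ pullback f g =>
        m.base (IsLocalRing.closedPoint (FractionRing A'))) key
    refine pullback.hom_ext ?_ ?_
    · rw [Category.assoc, pullback.lift_fst, hl₂]
    · rw [Category.assoc, pullback.lift_snd, Category.comp_id, hσπ]
  · intro H
    obtain ⟨U, hyU, hU⟩ := GrothLib.Chev28.exists_nhd_proper_of_lifts f (isClosed_closure (s := Z)) y (by
      intro u hu hmax A hA g hg hcomp
      haveI := hA
      have huZ : u ∈ Z := hZ u hu fun z' hz' h => hmax z' hz' (specializes_iff_mem_closure.2 h)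
      let σ : Spec (CommRingCat.of (X.residueField u)) ⟶ pullback f g :=
        pullback.lift (X.fromSpecResidueField u) (Spec.map (CommRingCat.ofHom A.subtype)) hcomp.symm
      have hσfst : σ ≫ pullback.fst f g = X.fromSpecResidueField u := pullback.lift_fst _ _ _
      have hσsnd : σ ≫ pullback.snd f g = Spec.map (CommRingCat.ofHom A.subtype) := pullback.lift_snd _ _ _
      have hfst : (pullback.fst f g).base (σ.base (IsLocalRing.closedPoint (X.residueField u))) = u :=
        (congrArg (fun m => m.base (IsLocalRing.closedPoint (X.residueField u))) hσfst).trans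
          (Scheme.fromSpecResidueField_apply u _)
      have hη : (pullback.snd f g).base (σ.base (IsLocalRing.closedPoint (X.residueField u))) =
          genericPoint (Spec (CommRingCat.of A)) :=
        (congrArg (fun m => m.base (IsLocalRing.closedPoint (X.residueField u))) hσsnd).trans
          (GrothLib.Chev28.specMap_closedPoint_eq_genericPoint A.subtype A.subtype_injective)
      have hb := GrothLib.Chev28.surjective_residueFieldMap_of_point (A := A) (pullback.snd f g) σ hσsnd
      obtain ⟨s, hs, t, ht⟩ := H A g hg _ (by rw [hfst]; exact huZ) hη hb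
      have htη : t = genericPoint (Spec (CommRingCat.of A)) := by
        rw [← hη, ← ht]
        exact (congrArg (fun m => m.base t) hs).symm
      have heq : σ = Spec.map (CommRingCat.ofHom A.subtype) ≫ s := by
        refine GrothLib.Chev28.eq_of_surjective_residueFieldMap (pullback.snd f g) _ _ ?_ hb.2
          (by rw [Category.assoc, hs, Category.comp_id, hσsnd])
        rw [← ht, htη]
        exact congrArg s.base
          (GrothLib.Chev28.specMap_closedPoint_eq_genericPoint A.subtype A.subtype_injective).symm
      refine ⟨s ≫ pullback.fst f g, ?_, ?_⟩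
      · rw [Category.assoc, pullback.condition, reassoc_of% hs]
      · rw [← Category.assoc, ← heq, hσfst])
    refine ⟨U, hyU, isClosed_closure.preimage (f ⁻¹ᵁ U).ι.continuous, hU _ _ inferInstance ?_⟩
    rw [Scheme.IdealSheafData.range_subschemeι, Scheme.IdealSheafData.coe_support_vanishingIdeal]
    rfl

end Groth.Agent.S4978
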