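import Groth.Statements.S4980
import Groth.Agent.Lib.Chev28.FibreStalk
import Groth.Agent.Lib.CycCut.Local
import Groth.Agent.Lib.CycBasic.SheafLength
import Groth.Agent.Lib.FibreFlat.Stalk
import Groth.Agent.Lib.QCoh.SupportExact

set_option autoImplicit false
open CategoryTheory AlgebraicGeometry
universe u v w
open EGA43
open scoped Pointwise

set_option backward.isDefEq.respectTransparency false

namespace Groth.Agent.S4980

/-- Let A be a discrete valuation ring, Y = Spec A with closed point y and generic point y', f : X ⟶ Y a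
proper morphism and F a coherent O_X-module which is f-flat; write F_y, F_{y'} for the restrictions
of F to the two fibres and suppose F_y has no embedded associated point. Then the sum, over the
maximal points z' of Supp(F_{y'}), of the lengths of the stalks (F_{y'})_{z'} is at most the sum,
over the maximal points z of Supp(F_y), of the lengths of the stalks (F_y)_z (lengths over the local
rings of the fibres). -/
theorem result {A : Type u} [CommRing A] [IsDomain A]
    [IsDiscreteValuationRing A] {X : Scheme.{u}} (f : X ⟶ Spec (CommRingCat.of A)) [IsProper f] (F : X.Modules)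
    (hF : Coh.IsCoh F) (hflat : FlatMod.IsFlatOver f F)
    (hemb : AssSch.NoEmbedded ((Scheme.Modules.pullback (f.fiberι (IsLocalRing.closedPoint A))).obj F)) :
    letI y : ↥(Spec (CommRingCat.of A)) := IsLocalRing.closedPoint A
    letI y' : ↥(Spec (CommRingCat.of A)) := genericPoint (Spec (CommRingCat.of A))
    ∑ᶠ z' : {v : ↥(f.fiber y') // Nontrivial (((Scheme.Modules.pullback (f.fiberι y')).obj F).presheaf.stalk v) ∧
        ∀ w : ↥(f.fiber y'), Nontrivial (((Scheme.Modules.pullback (f.fiberι y')).obj F).presheaf.stalk w) → v ∈ closure {w} → w = v},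
        Module.length ((f.fiber y').presheaf.stalk z'.1) (((Scheme.Modules.pullback (f.fiberι y')).obj F).presheaf.stalk z'.1) ≤
      ∑ᶠ z : {v : ↥(f.fiber y) // Nontrivial (((Scheme.Modules.pullback (f.fiberι y)).obj F).presheaf.stalk v) ∧
        ∀ w : ↥(f.fiber y), Nontrivial (((Scheme.Modules.pullback (f.fiberι y)).obj F).presheaf.stalk w) → v ∈ closure {w} → w = v},
        Module.length ((f.fiber y).presheaf.stalk z.1) (((Scheme.Modules.pullback (f.fiberι y)).obj F).presheaf.stalk z.1) := by
  classical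
  let Y := Spec (CommRingCat.of A)
  let y : Y := IsLocalRing.closedPoint A
  let y' : Y := genericPoint Y
  show ∑ᶠ z' : _, _ ≤ ∑ᶠ z : _, _
  haveI : F.IsQuasicoherent := hF.1
  haveI : IsLocallyNoetherian X := LocallyOfFiniteType.isLocallyNoetherian f
  haveI : CompactSpace X := QuasiCompact.compactSpace_of_compactSpace f
  haveI : IsNoetherian X := {}
  haveI : TopologicalSpace.NoetherianSpace X := inferInstance
  obtain ⟨σ, hmaxy, hσreg, hmaxη⟩ := GrothLib.Chev28.exists_uniformizer_stalks (A := A)
  let τ : ∀ x : X, X.presheaf.stalk x := fun x => X.presheaf.germ ⊤ x trivial (f.appTop σ)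
  have hτmap : ∀ x : X, (f.stalkMap x).hom (Y.presheaf.germ ⊤ (f x) trivial σ) = τ x :=
    fun x => Scheme.Hom.germ_stalkMap_apply f ⊤ x trivial σ
  have hycl : IsClosed ({y} : Set Y) := IsLocalRing.isClosed_singleton_closedPoint A
  have hne : y ≠ y' := fun h => by
    have h1 : IsDiscreteValuationRing A := inferInstance
    have h2 : Y.presheaf.germ ⊤ y trivial σ ∈ IsLocalRing.maximalIdeal (Y.presheaf.stalk y) := by
      rw [show IsLocalRing.maximalIdeal (Y.presheaf.stalk y) = _ from hmaxy]
      exact Ideal.mem_span_singleton_self _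
    have h3 : ∀ w, w = y' → IsLocalRing.maximalIdeal (Y.presheaf.stalk w) = ⊥ := fun w hw => by
      subst hw; exact hmaxη
    rw [h3 y h, Ideal.mem_bot] at h2
    exact (hσreg y).ne_zero h2
  have hmax : ∀ w : Y, w = y → IsLocalRing.maximalIdeal (Y.presheaf.stalk w) =
      Ideal.span {Y.presheaf.germ ⊤ w trivial σ} := fun w hw => by subst hw; exact hmaxy
  have hmax' : ∀ w : Y, w = y' → IsLocalRing.maximalIdeal (Y.presheaf.stalk w) = ⊥ := fun w hw => by
    subst hw; exact hmaxη
  have hτmem : ∀ x : X, τ x ∈ IsLocalRing.maximalIdeal (X.presheaf.stalk x) ↔ f x = y := fun x => by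
    rw [← hτmap]
    refine (map_mem_nonunits_iff (f.stalkMap x).hom _).trans ⟨fun h => ?_, fun h => ?_⟩
    · refine (GrothLib.Chev28.eq_closedPoint_or_eq_genericPoint (f x)).resolve_right fun h' => ?_
      exact (hσreg (f x)).ne_zero ((Ideal.mem_bot).mp (hmax' (f x) h' ▸ h))
    · show _ ∈ IsLocalRing.maximalIdeal _
      rw [hmax (f x) h]
      exact Ideal.mem_span_singleton_self _
  have hτspec : ∀ {p ζ : X} (h : ζ ⤳ p), τ p ∈ GrothLib.CycDiv.primeOf h ↔ f ζ = y := fun {p ζ} h => by
    rw [GrothLib.CycDiv.mem_primeOf_iff, ← hτmem ζ]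
    erw [TopCat.Presheaf.germ_stalkSpecializes_apply]
  have hreg : ∀ x : X, IsSMulRegular (F.presheaf.stalk x) (τ x) := fun x => by
    letI := FlatMod.moduleStalkOver f F x
    haveI : Module.Flat (Y.presheaf.stalk (f x)) (F.presheaf.stalk x) := hflat x
    have h := Module.Flat.isSMulRegular_of_isRegular (M := F.presheaf.stalk x) (hσreg (f x))
    intro a b hab
    refine h ?_
    show (f.stalkMap x).hom _ • a = (f.stalkMap x).hom _ • b
    rw [hτmap]
    exact hab
  haveI hfinM : ∀ x : X, Module.Finite (X.presheaf.stalk x) (F.presheaf.stalk x) :=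
    fun x => GrothLib.QuasiFlat.finite_stalk F hF x
  have hrange : ∀ (w : Y) (v : f.fiber w), f (f.fiberι w v) = w := fun w v => by
    exact (f.range_fiberι w).le ⟨v, rfl⟩
  have hlift : ∀ (x : X) (w : Y), f x = w → ∃ v : f.fiber w, f.fiberι w v = x := fun x w h =>
    (f.range_fiberι w).ge (show x ∈ f.base ⁻¹' {w} from h)
  have hstalk : ∀ (w : Y) (v : f.fiber w), Function.Surjective ((f.fiberι w).stalkMap v).hom ∧
      RingHom.ker ((f.fiberι w).stalkMap v).hom =
        (IsLocalRing.maximalIdeal (Y.presheaf.stalk (f (f.fiberι w v)))).map (f.stalkMap (f.fiberι w v)).hom :=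
    fun w v => GrothLib.FibreFlat.fiberι_stalkMap f w v
  -- the two kinds of fibre stalks
  have hclosed : ∀ v : f.fiber y,
      Module.length ((f.fiber y).presheaf.stalk v)
          (((Scheme.Modules.pullback (f.fiberι y)).obj F).presheaf.stalk v) =
        Module.length (X.presheaf.stalk (f.fiberι y v))
          (QuotSMulTop (τ (f.fiberι y v)) (F.presheaf.stalk (f.fiberι y v))) ∧
      (IsLocalRing.maximalIdeal (X.presheaf.stalk (f.fiberι y v)) ∈ associatedPrimes _
          (QuotSMulTop (τ (f.fiberι y v)) (F.presheaf.stalk (f.fiberι y v))) →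
        v ∈ AssSch.Ass ((Scheme.Modules.pullback (f.fiberι y)).obj F)) ∧
      (Nontrivial (((Scheme.Modules.pullback (f.fiberι y)).obj F).presheaf.stalk v) ↔
        Nontrivial (F.presheaf.stalk (f.fiberι y v))) := fun v => by
    obtain ⟨hs, hk⟩ := hstalk y v
    rw [hmax _ (hrange y v), Ideal.map_span, Set.image_singleton, hτmap] at hk
    obtain ⟨h1, h2⟩ := GrothLib.Chev28.pullback_stalk_of_surjective (f.fiberι y) F hF v hs _ hk
    let e := Submodule.quotEquivOfEq _ _
      (Submodule.ideal_span_singleton_smul (τ (f.fiberι y v)) (⊤ : Submodule _ (F.presheaf.stalk (f.fiberι y v))))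
    have h1' := h1.trans e.length_eq
    refine ⟨h1', fun hass => h2 ((LinearEquiv.isAssociatedPrime_iff e).mpr hass), ?_⟩
    rw [← Module.length_pos_iff (R := (f.fiber y).presheaf.stalk v), h1', Module.length_pos_iff]
    refine ⟨fun h => ?_, fun h => ?_⟩
    · haveI := h
      exact Function.Surjective.nontrivial (Submodule.mkQ_surjective
        (τ (f.fiberι y v) • (⊤ : Submodule (X.presheaf.stalk (f.fiberι y v)) (F.presheaf.stalk (f.fiberι y v)))))
    · haveI := h
      exact GrothLib.Chev28.nontrivial_quotSMulTop ((hτmem _).mpr (hrange y v)) _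
  have hgen : ∀ v : f.fiber y',
      Module.length ((f.fiber y').presheaf.stalk v)
          (((Scheme.Modules.pullback (f.fiberι y')).obj F).presheaf.stalk v) =
        Module.length (X.presheaf.stalk (f.fiberι y' v)) (F.presheaf.stalk (f.fiberι y' v)) ∧
      (Nontrivial (((Scheme.Modules.pullback (f.fiberι y')).obj F).presheaf.stalk v) ↔
        Nontrivial (F.presheaf.stalk (f.fiberι y' v))) := fun v => by
    obtain ⟨hs, hk⟩ := hstalk y' v
    rw [hmax' _ (hrange y' v), Ideal.map_bot] at hk
    obtain ⟨h1, -⟩ := GrothLib.Chev28.pullback_stalk_of_surjective (f.fiberι y') F hF v hs _ hk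
    have h1' := h1.trans ((Submodule.quotEquivOfEqBot _ (Submodule.bot_smul _)).length_eq)
    refine ⟨h1', ?_⟩
    rw [← Module.length_pos_iff (R := (f.fiber y').presheaf.stalk v), h1', Module.length_pos_iff]
  -- the support
  let T : Set X := CohB1.support F
  have hT : IsClosed T := GrothLib.QCoh.isClosed_support_of_isCoh hF
  have hTy : IsClosed (T ∩ f.base ⁻¹' {y}) := hT.inter (hycl.preimage f.continuous)
  have hnt : ∀ x, x ∈ T ↔ Nontrivial (F.presheaf.stalk x) := fun x =>
    GrothLib.CycBasic.nontrivial_iff_mem_support.symm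
  let Gen := {v : ↥(f.fiber y') // Nontrivial (((Scheme.Modules.pullback (f.fiberι y')).obj F).presheaf.stalk v) ∧
      ∀ w : ↥(f.fiber y'), Nontrivial (((Scheme.Modules.pullback (f.fiberι y')).obj F).presheaf.stalk w) → v ∈ closure {w} → w = v}
  let Cl := {v : ↥(f.fiber y) // Nontrivial (((Scheme.Modules.pullback (f.fiberι y)).obj F).presheaf.stalk v) ∧
      ∀ w : ↥(f.fiber y), Nontrivial (((Scheme.Modules.pullback (f.fiberι y)).obj F).presheaf.stalk w) → v ∈ closure {w} → w = v}
  have hemby : ∀ w : Y, Topology.IsEmbedding (f.fiberι w) := fun w => (f.fiberι w).isEmbedding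
  have hgmax : ∀ g : Gen, f.fiberι y' g.1 ∈ T ∧ ∀ x ∈ T, x ⤳ f.fiberι y' g.1 → x = f.fiberι y' g.1 := by
    intro g
    refine ⟨(hnt _).mpr ((hgen g.1).2.mp g.2.1), fun x hx hxg => ?_⟩
    have hfx : f x = y' := by
      have h1 : f x ⤳ y' := hrange y' g.1 ▸ hxg.map f.continuous
      exact (h1.antisymm (genericPoint_specializes _)).eq
    obtain ⟨v, rfl⟩ := hlift x y' hfx
    rw [g.2.2 v ((hgen v).2.mpr ((hnt _).mp hx))
      (((hemby y').isInducing.specializes_iff.mp hxg).mem_closure)]
  have hcmax : ∀ c : Cl, f.fiberι y c.1 ∈ T ∩ f.base ⁻¹' {y} ∧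
      ∀ x ∈ T ∩ f.base ⁻¹' {y}, x ⤳ f.fiberι y c.1 → x = f.fiberι y c.1 := by
    intro c
    refine ⟨⟨(hnt _).mpr ((hclosed c.1).2.2.mp c.2.1), hrange y c.1⟩, fun x hx hxc => ?_⟩
    obtain ⟨v, rfl⟩ := hlift x y hx.2
    rw [c.2.2 v ((hclosed v).2.2.mpr ((hnt _).mp hx.1))
      (((hemby y).isInducing.specializes_iff.mp hxc).mem_closure)]
  haveI : Finite Gen := by
    have h := GrothLib.Chev28.finite_maximal_points hT
    haveI := h.to_subtype
    exact Finite.of_injective (fun g : Gen => (⟨f.fiberι y' g.1, hgmax g⟩ : {z | z ∈ T ∧ ∀ w ∈ T, w ⤳ z → w = z}))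
      fun a b h => Subtype.ext ((hemby y').injective (congrArg Subtype.val h))
  haveI : Finite Cl := by
    have h := GrothLib.Chev28.finite_maximal_points hTy
    haveI := h.to_subtype
    exact Finite.of_injective (fun c : Cl => (⟨f.fiberι y c.1, hcmax c⟩ :
        {z | z ∈ T ∩ f.base ⁻¹' {y} ∧ ∀ w ∈ T ∩ f.base ⁻¹' {y}, w ⤳ z → w = z}))
      fun a b h => Subtype.ext ((hemby y).injective (congrArg Subtype.val h))
  -- each maximal point of the generic fibre specializes to one of the closed fibre
  have hspec : ∀ g : Gen, ∃ c : Cl, f.fiberι y' g.1 ⤳ f.fiberι y c.1 := by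
    intro g
    let xg := f.fiberι y' g.1
    have hE : IsClosed (closure ({xg} : Set X) ∩ f.base ⁻¹' {y}) :=
      isClosed_closure.inter (hycl.preimage f.continuous)
    obtain ⟨x₀, hx₀, hfx₀⟩ : y ∈ f.base '' closure {xg} := by
      have hc : IsClosed (f.base '' closure {xg}) := f.isClosedMap _ isClosed_closure
      refine (show y' ⤳ y from genericPoint_specializes y).mem_closed hc ?_
      exact ⟨xg, subset_closure rfl, hrange y' g.1⟩
    obtain ⟨q, ⟨hq₁, hq₂⟩, -, hqmax⟩ :=
      GrothLib.Chev28.exists_maximal_generization hE (x := x₀) ⟨hx₀, hfx₀⟩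
    have hgq : xg ⤳ q := specializes_iff_mem_closure.mpr hq₁
    obtain ⟨vq, rfl⟩ := hlift q y hq₂
    have hTq : f.fiberι y vq ∈ T := hgq.mem_closed hT (hgmax g).1
    -- it is associated in the closed fibre
    have hass : vq ∈ AssSch.Ass ((Scheme.Modules.pullback (f.fiberι y)).obj F) := by
      refine (hclosed vq).2.1 (GrothLib.Chev28.maximalIdeal_mem_associatedPrimes_quotSMulTop
        ((hτmem _).mpr (hrange y vq)) (hreg _) ⟨GrothLib.CycDiv.primeOf hgq, inferInstance⟩ ?_ ?_ ?_)
      · rw [Module.mem_support_iff, ← not_subsingleton_iff_nontrivial, GrothLib.CycCut.subsingleton_localized_iff F hgq,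
          not_subsingleton_iff_nontrivial]
        exact (hnt _).mp (hgmax g).1
      · intro P hP hPle
        obtain ⟨ζ, hζ, hPζ⟩ := GrothLib.CycCut.exists_point_of_prime P
        have hζT : ζ ∈ T := by
          refine (hnt _).mpr (not_subsingleton_iff_nontrivial.mp fun hs => ?_)
          rw [Module.mem_support_iff, ← not_subsingleton_iff_nontrivial] at hP
          rw [← GrothLib.CycCut.subsingleton_localized_iff F hζ] at hs
          apply hP
          have key : ∀ I : PrimeSpectrum _, I.asIdeal = P.asIdeal →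
              Subsingleton (LocalizedModule I.asIdeal.primeCompl (F.presheaf.stalk (f.fiberι y vq))) →
              Subsingleton (LocalizedModule P.asIdeal.primeCompl (F.presheaf.stalk (f.fiberι y vq))) :=
            fun I hI => by rw [PrimeSpectrum.ext hI]; exact id
          exact key ⟨GrothLib.CycDiv.primeOf hζ, inferInstance⟩ hPζ hs
        have hζg : ζ = xg := (hgmax g).2 ζ hζT
          (GrothLib.CycCut.specializes_of_primeOf_le hζ hgq (hPζ.le.trans hPle))
        subst hζg
        exact PrimeSpectrum.ext hPζ.symm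
      · intro I hI hle hτI
        obtain ⟨ζ, hζ, hPζ⟩ := GrothLib.CycCut.exists_point_of_prime
          (⟨I, hI⟩ : PrimeSpectrum (X.presheaf.stalk (f.fiberι y vq)))
        dsimp only at hPζ
        subst hPζ
        have hgζ : xg ⤳ ζ := GrothLib.CycCut.specializes_of_primeOf_le hgq hζ hle
        have hζq : ζ = f.fiberι y vq :=
          hqmax ζ ⟨specializes_iff_mem_closure.mp hgζ, (hτspec hζ).mp hτI⟩ hζ
        subst hζq
        exact GrothLib.CycCut.primeOf_self _
    refine ⟨⟨vq, (hclosed vq).2.2.mpr ((hnt _).mp hTq), fun w hw hwq => ?_⟩, hgq⟩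
    have hwT : f.fiberι y w ∈ T ∩ f.base ⁻¹' {y} := ⟨(hnt _).mpr ((hclosed w).2.2.mp hw), hrange y w⟩
    obtain ⟨z, hzT, hzw, hzmax⟩ := GrothLib.Chev28.exists_maximal_generization hTy hwT
    obtain ⟨vz, rfl⟩ := hlift z y hzT.2
    haveI : Nontrivial (F.presheaf.stalk (f.fiberι y vz)) := (hnt _).mp hzT.1
    haveI := GrothLib.Chev28.nontrivial_quotSMulTop ((hτmem _).mpr hzT.2) (F.presheaf.stalk (f.fiberι y vz))
    have hassz : vz ∈ AssSch.Ass ((Scheme.Modules.pullback (f.fiberι y)).obj F) := by
      refine (hclosed vz).2.1 (GrothLib.Chev28.maximalIdeal_mem_associatedPrimes fun I hI hann => ?_)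
      obtain ⟨ζ, hζ, hPζ⟩ := GrothLib.CycCut.exists_point_of_prime
        (⟨I, hI⟩ : PrimeSpectrum (X.presheaf.stalk (f.fiberι y vz)))
      dsimp only at hPζ
      subst hPζ
      have hτI : τ (f.fiberι y vz) ∈ GrothLib.CycDiv.primeOf hζ := hann <| Module.mem_annihilator.mpr fun m => by
        obtain ⟨m, rfl⟩ := Submodule.Quotient.mk_surjective _ m
        rw [← Submodule.Quotient.mk_smul, Submodule.Quotient.mk_eq_zero]
        exact Submodule.smul_mem_pointwise_smul m _ ⊤ trivial
      have hsupp : (⟨GrothLib.CycDiv.primeOf hζ, hI⟩ : PrimeSpectrum _) ∈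
          Module.support (X.presheaf.stalk (f.fiberι y vz)) (F.presheaf.stalk (f.fiberι y vz)) := by
        rw [Module.support_eq_zeroLocus]
        intro r hr
        refine hann (Module.mem_annihilator.mpr fun m => ?_)
        obtain ⟨m, rfl⟩ := Submodule.Quotient.mk_surjective _ m
        rw [← Submodule.Quotient.mk_smul, Module.mem_annihilator.mp hr m, Submodule.Quotient.mk_zero]
      rw [Module.mem_support_iff, ← not_subsingleton_iff_nontrivial, GrothLib.CycCut.subsingleton_localized_iff F hζ,
        not_subsingleton_iff_nontrivial, ← hnt] at hsupp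
      have hζz : ζ = f.fiberι y vz := hzmax ζ ⟨hsupp, (hτspec hζ).mp hτI⟩ hζ
      subst hζz
      exact GrothLib.CycCut.primeOf_self _
    have hzq : vz ⤳ vq :=
      (((hemby y).isInducing.specializes_iff.mp hzw)).trans (specializes_iff_mem_closure.mpr hwq)
    have hzeq : vz = vq := (hemb vq hass vz hassz hzq).symm
    subst hzeq
    exact ((specializes_iff_mem_closure.mpr hwq).antisymm ((hemby y).isInducing.specializes_iff.mp hzw)).eq
  choose cf hcf using hspec
  letI := Fintype.ofFinite Gen
  letI := Fintype.ofFinite Cl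
  rw [finsum_eq_sum_of_fintype, finsum_eq_sum_of_fintype, ← Finset.sum_fiberwise Finset.univ cf]
  refine Finset.sum_le_sum fun c _ => ?_
  rw [(hclosed c.1).1]
  let xc := f.fiberι y c.1
  let gs := Finset.univ.filter fun g : Gen => cf g = c
  have hle : ∀ g : gs, f.fiberι y' g.1.1 ⤳ xc := fun g => by
    have h := (Finset.mem_filter.mp g.2).2
    have h2 := hcf g.1
    rw [h] at h2
    exact h2
  let φ : gs ↪ PrimeSpectrum (X.presheaf.stalk xc) :=
    ⟨fun g => ⟨GrothLib.CycDiv.primeOf (hle g), inferInstance⟩, fun a b h => Subtype.ext <| Subtype.ext <|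
      (hemby y').injective (GrothLib.CycCut.point_eq_of_primeOf_eq _ _ (congrArg PrimeSpectrum.asIdeal h))⟩
  have hlen : ∀ g : gs, Module.length (Localization.AtPrime (φ g).asIdeal)
      (LocalizedModule (φ g).asIdeal.primeCompl (F.presheaf.stalk xc)) =
      Module.length ((f.fiber y').presheaf.stalk g.1.1)
          (((Scheme.Modules.pullback (f.fiberι y')).obj F).presheaf.stalk g.1.1) := fun g =>
    (GrothLib.CycCut.length_eq_localized F (hle g)).trans (hgen g.1.1).1.symm
  have hmain := GrothLib.Chev28.sum_length_localized_le (τ := τ xc) ((hτmem _).mpr (hrange y c.1))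
    (Finset.univ.map φ) ?_ ?_ (F.presheaf.stalk xc) (hreg xc) ?_
  · rw [Finset.sum_map, Finset.univ_eq_attach] at hmain
    refine le_of_eq_of_le ?_ hmain
    rw [← Finset.sum_attach]
    exact Finset.sum_congr rfl fun g _ => (hlen g).symm
  · intro P hP hτP
    obtain ⟨g, -, rfl⟩ := Finset.mem_map.mp hP
    exact hne (((hτspec (hle g)).mp hτP).symm.trans (hrange y' g.1.1))
  · intro P hP Q hQ hPQ
    obtain ⟨a, -, rfl⟩ := Finset.mem_map.mp hP
    obtain ⟨b, -, rfl⟩ := Finset.mem_map.mp hQ
    exact congrArg φ (Subtype.ext (Subtype.ext ((hemby y').injective ((hgmax b.1).2 _ (hgmax a.1).1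
      (GrothLib.CycCut.specializes_of_primeOf_le _ _ hPQ)))))
  · intro P hP
    obtain ⟨g, -, rfl⟩ := Finset.mem_map.mp hP
    rw [← Module.length_ne_top_iff, hlen g, (hgen g.1.1).1]
    exact (GrothLib.CycBasic.length_lt_top_of_maximal hF (hgmax g.1).2).ne

end Groth.Agent.S4980
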