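import Groth.Statements.S4985
import Groth.Agent.Lib.Chev28.SubDim

set_option autoImplicit false
open CategoryTheory AlgebraicGeometry
universe u v w
open EGA43

namespace Groth.Agent.S4985

/-- Let Y be a locally Noetherian scheme, f : X ⟶ Y a morphism of finite type, x a point of X with y = f
x, X' an irreducible closed subset of X containing x, regarded as a reduced closed subscheme, and Y'
the closure of f(X') regarded as a reduced closed subscheme of Y, with generic point η'. Write A, B,
A', B' for the local rings of Y at y, of X at x, of Y' at y and of X' at x, and B ⊗ κ(y), B' ⊗ κ(y)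
for the local rings at x of the fibres over y of X and of X'. Then dim B' = dim A + dim(B ⊗ κ(y)) if
and only if all of the following hold: (i) dim A' = dim A; (ii) dim(B' ⊗ κ(y)) = dim(B ⊗ κ(y));
(iii) X' is equidimensional over Y' at x, i.e. the local dimension at x of the fibre of X' over y
equals dim(X' ∩ f⁻¹(η')); (iv) dim B' = dim A' + dim(B' ⊗ κ(y)) (the published (iv) carries the
correction term dim_x − dim of (iii), which vanishes under (iii)). -/
theorem result {X Y : Scheme.{u}} [IsLocallyNoetherian Y] (f : X ⟶ Y)
    [LocallyOfFiniteType f] [QuasiCompact f] (x : X) (X' : TopologicalSpace.Closeds X) (hirr : IsIrreducible (X' : Set X))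
    (hx : x ∈ X') (w : ↥(Scheme.IdealSheafData.vanishingIdeal X').subscheme)
    (hw : (Scheme.IdealSheafData.vanishingIdeal X').subschemeι.base w = x)
    (v : ↥(Scheme.IdealSheafData.vanishingIdeal
      (⟨closure (f.base '' (X' : Set X)), isClosed_closure⟩ : TopologicalSpace.Closeds Y)).subscheme)
    (hv : (Scheme.IdealSheafData.vanishingIdeal
      (⟨closure (f.base '' (X' : Set X)), isClosed_closure⟩ : TopologicalSpace.Closeds Y)).subschemeι.base v = f.base x)
    (η' : Y) (hη' : closure ({η'} : Set Y) = closure (f.base '' (X' : Set X))) :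
    letI ιX := (Scheme.IdealSheafData.vanishingIdeal X').subschemeι
    letI dA := ringKrullDim (Y.presheaf.stalk (f.base x))
    letI dB := ringKrullDim (X.presheaf.stalk x)
    letI dA' := ringKrullDim ((Scheme.IdealSheafData.vanishingIdeal
      (⟨closure (f.base '' (X' : Set X)), isClosed_closure⟩ : TopologicalSpace.Closeds Y)).subscheme.presheaf.stalk v)
    letI dB' := ringKrullDim ((Scheme.IdealSheafData.vanishingIdeal X').subscheme.presheaf.stalk w)
    letI dBk := ringKrullDim ((f.fiber (f.base x)).presheaf.stalk (f.asFiber x))
    letI dB'k := ringKrullDim (((ιX ≫ f).fiber ((ιX ≫ f).base w)).presheaf.stalk ((ιX ≫ f).asFiber w))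
    letI e' := topologicalKrullDim ↥((X' : Set X) ∩ f.base ⁻¹' {η'})
    (dB' = dA + dBk ↔
      (dA' = dA ∧ dB'k = dBk ∧ FlatMor.fibreDimAt (ιX ≫ f) w = e' ∧ dB' = dA' + dB'k)) := by
  let J := Scheme.IdealSheafData.vanishingIdeal X'
  let K := Scheme.IdealSheafData.vanishingIdeal
    (⟨closure (f.base '' (X' : Set X)), isClosed_closure⟩ : TopologicalSpace.Closeds Y)
  have hr : Set.range J.subschemeι = (X' : Set X) := GrothLib.RedSub.range_subschemeι_vanishingIdeal X'
  have hrY : Set.range K.subschemeι = closure (f.base '' (X' : Set X)) :=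
    GrothLib.RedSub.range_subschemeι_vanishingIdeal _
  haveI : IrreducibleSpace J.subscheme :=
    (GrothLib.GeomComp6.isIrreducible_range_iff _ J.subschemeι.isEmbedding).mp (hr.symm ▸ hirr)
  haveI : IrreducibleSpace K.subscheme :=
    (GrothLib.GeomComp6.isIrreducible_range_iff _ K.subschemeι.isEmbedding).mp
      (hrY.symm ▸ (hirr.image f.base f.continuous.continuousOn).closure)
  haveI : IsReduced J.subscheme := GrothLib.RedSub.isReduced_subscheme_vanishingIdeal _
  haveI : IsReduced K.subscheme := GrothLib.RedSub.isReduced_subscheme_vanishingIdeal _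
  haveI : IsIntegral J.subscheme := isIntegral_of_irreducibleSpace_of_isReduced _
  haveI : IsIntegral K.subscheme := isIntegral_of_irreducibleSpace_of_isReduced _
  set ξ := J.subschemeι (genericPoint J.subscheme) with hξdef
  have hξ : closure ({ξ} : Set X) = X' := by
    have h1 := (genericPoint_spec J.subscheme).image J.subschemeι.continuous
    rw [Set.image_univ, hr, X'.isClosed.closure_eq] at h1
    exact h1
  have hη : η' = f ξ := by
    rw [← hξ] at hη'
    rw [show closure (f.base '' closure {ξ}) = closure {f ξ} from
      GrothLib.Chev28.closure_image_closure_singleton f.continuous ξ] at hη'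
    exact (show IsGenericPoint η' (closure {f ξ}) from hη').eq isGenericPoint_closure
  have hgen : K.subschemeι (genericPoint K.subscheme) = f ξ := by
    have h1 := (genericPoint_spec K.subscheme).image K.subschemeι.continuous
    rw [Set.image_univ, hrY, closure_closure, ← hη'] at h1
    exact (h1.eq isGenericPoint_closure).trans hη
  obtain ⟨t, ht, hd⟩ := GrothLib.Chev28.exists_dim_closure_inter_fibre f ξ
  rw [hξ, ← hη] at hd
  have hmain := GrothLib.Chev28.dim_sub_eq_iff f J.subschemeι w x hw K.subschemeι v hv hgen t ht
  rw [← hd] at hmain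
  exact hmain

end Groth.Agent.S4985
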