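import Groth.Statements.S4986
import Groth.Agent.Lib.Chev28.SubDim

set_option autoImplicit false
open CategoryTheory AlgebraicGeometry
universe u v w
open EGA43

namespace Groth.Agent.S4986

/-- Let Y be locally Noetherian, f : X ⟶ Y of finite type, x ∈ X, y = f x, X' an irreducible closed
subset containing x with its reduced structure, Y' the closure of f(X') with its reduced structure
and generic point η', and A, B, A', B' the local rings of Y at y, of X at x, of Y' at y and of X' at
x. Suppose dim B = dim A + dim(B ⊗ κ(y)). Then X' satisfies the four conditions (i) dim A' = dim A,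
(ii) dim_x(X' ∩ X_y) = dim_x(X_y), (iii) X' equidimensional over Y' at x, (iv) dim B' = dim A' +
dim(B' ⊗ κ(y)), if and only if dim B' = dim B. -/
theorem result {X Y : Scheme.{u}} [IsLocallyNoetherian Y] (f : X ⟶ Y)
    [LocallyOfFiniteType f] [QuasiCompact f] (x : X) (X' : TopologicalSpace.Closeds X) (hirr : IsIrreducible (X' : Set X))
    (hx : x ∈ X') (w : ↥(Scheme.IdealSheafData.vanishingIdeal X').subscheme)
    (hw : (Scheme.IdealSheafData.vanishingIdeal X').subschemeι.base w = x)
    (v : ↥(Scheme.IdealSheafData.vanishingIdeal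
      (⟨closure (f.base '' (X' : Set X)), isClosed_closure⟩ : TopologicalSpace.Closeds Y)).subscheme)
    (hv : (Scheme.IdealSheafData.vanishingIdeal
      (⟨closure (f.base '' (X' : Set X)), isClosed_closure⟩ : TopologicalSpace.Closeds Y)).subschemeι.base v = f.base x)
    (η' : Y) (hη' : closure ({η'} : Set Y) = closure (f.base '' (X' : Set X))) :
    letI ιX := (Scheme.IdealSheafData.vanishingIdeal X').subschemeι
    letI dA := ringKrullDim (Y.presheaf.stalk (f.base x))
    letI dB := ringKrullDim (X.presheaf.stalk x)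
    letI dA' := ringKrullDim ((Scheme.IdealSheafData.vanishingIdeal
      (⟨closure (f.base '' (X' : Set X)), isClosed_closure⟩ : TopologicalSpace.Closeds Y)).subscheme.presheaf.stalk v)
    letI dB' := ringKrullDim ((Scheme.IdealSheafData.vanishingIdeal X').subscheme.presheaf.stalk w)
    letI dBk := ringKrullDim ((f.fiber (f.base x)).presheaf.stalk (f.asFiber x))
    letI dB'k := ringKrullDim (((ιX ≫ f).fiber ((ιX ≫ f).base w)).presheaf.stalk ((ιX ≫ f).asFiber w))
    letI e' := topologicalKrullDim ↥((X' : Set X) ∩ f.base ⁻¹' {η'})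
    dB = dA + dBk →
      ((dA' = dA ∧ FlatMor.localDim ↥((X' : Set X) ∩ f.base ⁻¹' {f.base x}) ⟨x, ⟨hx, rfl⟩⟩ = FlatMor.fibreDimAt f x ∧
        FlatMor.fibreDimAt (ιX ≫ f) w = e' ∧ dB' = dA' + dB'k) ↔ dB' = dB) := by
  intro hdB
  let J := Scheme.IdealSheafData.vanishingIdeal X'
  let K := Scheme.IdealSheafData.vanishingIdeal
    (⟨closure (f.base '' (X' : Set X)), isClosed_closure⟩ : TopologicalSpace.Closeds Y)
  have hr : Set.range J.subschemeι = (X' : Set X) := GrothLib.RedSub.range_subschemeι_vanishingIdeal X'
  have hrY : Set.range K.subschemeι = closure (f.base '' (X' : Set X)) :=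
    GrothLib.RedSub.range_subschemeι_vanishingIdeal _
  haveI : IrreducibleSpace J.subscheme :=
    (GrothLib.GeomComp6.isIrreducible_range_iff _ J.subschemeι.isEmbedding).mp (hr.symm ▸ hirr)
  haveI : IrreducibleSpace K.subscheme :=
    (GrothLib.GeomComp6.isIrreducible_range_iff _ K.subschemeι.isEmbedding).mp
      (hrY.symm ▸ (hirr.image f.base f.continuous.continuousOn).closure)
  haveI : IsReduced J.subscheme := GrothLib.RedSub.isReduced_subscheme_vanishingIdeal _
  haveI : IsReduced K.subscheme := GrothLib.RedSub.isReduced_subscheme_vanishingIdeal _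
  haveI : IsIntegral J.subscheme := isIntegral_of_irreducibleSpace_of_isReduced _
  haveI : IsIntegral K.subscheme := isIntegral_of_irreducibleSpace_of_isReduced _
  set ξ := J.subschemeι (genericPoint J.subscheme) with hξdef
  have hξ : closure ({ξ} : Set X) = X' := by
    have h1 := (genericPoint_spec J.subscheme).image J.subschemeι.continuous
    rw [Set.image_univ, hr, X'.isClosed.closure_eq] at h1
    exact h1
  have hη : η' = f ξ := by
    rw [← hξ] at hη'
    rw [show closure (f.base '' closure {ξ}) = closure {f ξ} from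
      GrothLib.Chev28.closure_image_closure_singleton f.continuous ξ] at hη'
    exact (show IsGenericPoint η' (closure {f ξ}) from hη').eq isGenericPoint_closure
  have hgen : K.subschemeι (genericPoint K.subscheme) = f ξ := by
    have h1 := (genericPoint_spec K.subscheme).image K.subschemeι.continuous
    rw [Set.image_univ, hrY, closure_closure, ← hη'] at h1
    exact (h1.eq isGenericPoint_closure).trans hη
  obtain ⟨t, ht, hd⟩ := GrothLib.Chev28.exists_dim_closure_inter_fibre f ξ
  rw [hξ, ← hη] at hd
  have hmain := GrothLib.Chev28.dim_sub_eq_iff f J.subschemeι w x hw K.subschemeι v hv hgen t ht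
  rw [← hd] at hmain
  have hk : FlatMor.localDim ↥((X' : Set X) ∩ f.base ⁻¹' {f.base x}) ⟨x, ⟨hx, rfl⟩⟩ = FlatMor.fibreDimAt f x ↔
      ringKrullDim (((J.subschemeι ≫ f).fiber ((J.subschemeι ≫ f).base w)).presheaf.stalk
          ((J.subschemeι ≫ f).asFiber w)) =
        ringKrullDim ((f.fiber (f.base x)).presheaf.stalk (f.asFiber x)) := by
    rw [GrothLib.Chev28.localDim_inter_fibre J.subschemeι f hr w x hw ⟨hx, rfl⟩]
    obtain ⟨k', sw, hsw, hk', hD'⟩ := GrothLib.Chev28.exists_dim_fibre_stalk (J.subschemeι ≫ f) w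
    obtain ⟨k, s, hs, hk, hD⟩ := GrothLib.Chev28.exists_dim_fibre_stalk f x
    rw [GrothLib.AlgSp.resTrdeg_comp, GrothLib.AlgSp.resTrdeg_eq_zero_of_lqf J.subschemeι, add_zero,
      show J.subschemeι w = x from hw, hs] at hsw
    have hsx : s = sw := by exact_mod_cast hsw
    rw [hk', hk, hD', hD]
    constructor
    · intro h
      have h' : k' + sw = k + s := by exact_mod_cast h
      exact_mod_cast (show k' = k by omega)
    · intro h
      have h' : k' = k := by exact_mod_cast h
      exact_mod_cast (show k' + sw = k + s by omega)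
  constructor
  · rintro ⟨h1, h2, h3, h4⟩
    exact (hmain.mpr ⟨h1, hk.mp h2, h3, h4⟩).trans hdB.symm
  · intro h
    obtain ⟨h1, h2, h3, h4⟩ := hmain.mp (h.trans hdB)
    exact ⟨h1, hk.mpr h2, h3, h4⟩

end Groth.Agent.S4986
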