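import Groth.Statements.S4987
import Mathlib.AlgebraicGeometry.Morphisms.FormallyUnramified
import Mathlib.AlgebraicGeometry.Fiber
-- import your own Groth.Agent.* helpers here

set_option autoImplicit false
set_option backward.isDefEq.respectTransparency false
universe u
open CategoryTheory CategoryTheory.Limits AlgebraicGeometry TopologicalSpace
open Unram17

open CategoryTheory CategoryTheory.Limits AlgebraicGeometry

namespace Groth.Agent.S4987

/-- Let h : Y ⟶ S be formally unramified and locally of finite type, let f, g : X ⟶ Y be two morphisms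
over S whose common composite X ⟶ S is closed as a map of topological spaces, and let s be a point
of S such that f and g have the same restriction to the scheme-theoretic fibre of X over s. Then
there is an open neighbourhood V of s such that f and g agree on the preimage of V. -/
theorem result {X Y S : Scheme.{u}} (h : Y ⟶ S)
    [FormallyUnramified h] [LocallyOfFiniteType h] (f g : X ⟶ Y) (w : g ≫ h = f ≫ h)
    (hc : IsClosedMap (f ≫ h).base) (s : ↥S)
    (hs : (f ≫ h).fiberι s ≫ f = (f ≫ h).fiberι s ≫ g) :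
    ∃ V : S.Opens, s ∈ V ∧ ((f ≫ h) ⁻¹ᵁ V).ι ≫ f = ((f ≫ h) ⁻¹ᵁ V).ι ≫ g := by
  let m : X ⟶ pullback h h := pullback.lift f g w.symm
  let E : X.Opens := m ⁻¹ᵁ (pullback.diagonal h).opensRange
  have hEq : E.ι ≫ f = E.ι ≫ g := by
    have hr : Set.range (E.ι ≫ m) ⊆ Set.range (pullback.diagonal h) := by
      rintro _ ⟨z, rfl⟩
      exact z.2
    have e := IsOpenImmersion.lift_fac (pullback.diagonal h) (E.ι ≫ m) hr
    have e1 := congrArg (fun t => t ≫ pullback.fst h h) e
    have e2 := congrArg (fun t => t ≫ pullback.snd h h) e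
    simp only [Category.assoc, pullback.diagonal_fst, pullback.diagonal_snd, Category.comp_id] at e1 e2
    simp only [m, pullback.lift_fst, pullback.lift_snd] at e1 e2
    exact e1.symm.trans e2
  have hfib : ∀ x : X, (f ≫ h) x = s → x ∈ E := by
    intro x hx
    obtain ⟨z, rfl⟩ : x ∈ Set.range ((f ≫ h).fiberι s) := by rw [Scheme.Hom.range_fiberι]; exact hx
    show m ((f ≫ h).fiberι s z) ∈ Set.range (pullback.diagonal h)
    have e : (f ≫ h).fiberι s ≫ m = ((f ≫ h).fiberι s ≫ f) ≫ pullback.diagonal h := by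
      apply pullback.hom_ext
      · simp [m]
      · simp [m, hs]
    exact ⟨((f ≫ h).fiberι s ≫ f) z, by rw [← Scheme.Hom.comp_apply, ← e]; rfl⟩
  let V : S.Opens := ⟨((f ≫ h) '' (E : Set X)ᶜ)ᶜ, (hc _ E.2.isClosed_compl).isOpen_compl⟩
  refine ⟨V, fun ⟨x, hxE, hxs⟩ => hxE (hfib x hxs), ?_⟩
  have hle : (f ≫ h) ⁻¹ᵁ V ≤ E := fun x hx => by
    by_contra hxE
    exact hx ⟨x, hxE, rfl⟩
  rw [← X.homOfLE_ι hle, Category.assoc, Category.assoc, hEq]

end Groth.Agent.S4987
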