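import Groth.Statements.S4990
import Groth.Agent.Lib.CMMor6.Algebra
import Groth.Agent.Lib.LocProp.Stalk
import Groth.Agent.Lib.UnrMono.FieldDim

set_option autoImplicit false
universe u
open CategoryTheory CategoryTheory.Limits AlgebraicGeometry TopologicalSpace
open Unram17

namespace Groth.Agent.S4990

/-- Let Y be locally Noetherian and f : X ⟶ Y locally of finite type, smooth on an open neighbourhood of
a point x with image y. Then the Krull dimension of the local ring of X at x is the sum of the Krull
dimension of the local ring of Y at y and of the Krull dimension of the local ring of the fibre, the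
quotient of the local ring at x by the extension of the maximal ideal at y. -/
theorem result {X Y : Scheme.{u}} (f : X ⟶ Y)
    [IsLocallyNoetherian Y] [LocallyOfFiniteType f] (x : ↥X)
    (hx : ∃ U : X.Opens, x ∈ U ∧ Smooth (U.ι ≫ f)) :
    ringKrullDim ↑(X.presheaf.stalk x) =
      ringKrullDim ↑(Y.presheaf.stalk (f.base x)) +
        ringKrullDim (↑(X.presheaf.stalk x) ⧸
          (IsLocalRing.maximalIdeal ↑(Y.presheaf.stalk (f.base x))).map (f.stalkMap x).hom) := by
  haveI := GrothLib.LocProp.locallyOfFinitePresentation_of_isLocallyNoetherian f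
  haveI : IsLocallyNoetherian X := LocallyOfFiniteType.isLocallyNoetherian f
  have hs := Scheme.Hom.mem_smoothLocus.1 ((GrothLib.LocProp.smooth_nhd_iff f x).1 hx)
  letI := (f.stalkMap x).hom.toAlgebra
  haveI : Algebra.EssFiniteType (Y.presheaf.stalk (f x)) (X.presheaf.stalk x) :=
    LocallyOfFiniteType.stalkMap f x
  haveI : Algebra.FormallySmooth (Y.presheaf.stalk (f x)) (X.presheaf.stalk x) := hs
  haveI : Module.Flat (Y.presheaf.stalk (f x)) (X.presheaf.stalk x) :=
    GrothLib.UnrMono.flat_of_formallySmooth_essFiniteType _ _
  haveI : IsLocalHom (algebraMap (Y.presheaf.stalk (f x)) (X.presheaf.stalk x)) :=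
    inferInstanceAs (IsLocalHom (f.stalkMap x).hom)
  exact GrothLib.CMMor6.ringKrullDim_eq_add

end Groth.Agent.S4990
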