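import Groth.Statements.S4998
import Groth.Agent.Lib.SepTensor.Basic
import Mathlib.RingTheory.Unramified.Field
-- import your own Groth.Agent.* helpers here

set_option autoImplicit false
universe u
open Unram17

namespace Groth.Agent.S4998

/-- Let A be an algebra of finite type over a field k. Then A is formally unramified over k if and only
if A is finite over k and every element of A has separable minimal polynomial over k (equivalently,
A is a finite product of finite separable extensions of k). -/
theorem result (k A : Type u) [Field k] [CommRing A]
    [Algebra k A] [Algebra.FiniteType k A] :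
    Algebra.FormallyUnramified k A ↔ Module.Finite k A ∧ Algebra.IsSeparable k A := by
  refine ⟨fun h ↦ ?_, fun ⟨hfin, hsep⟩ ↦ ?_⟩
  · have := Algebra.FormallyUnramified.finite_of_free k A
    have : IsReduced (TensorProduct k (AlgebraicClosure k) A) :=
      Algebra.FormallyUnramified.isReduced_of_field (AlgebraicClosure k) (TensorProduct k (AlgebraicClosure k) A)
    exact ⟨inferInstance, ⟨fun x ↦ GrothLib.SepTensor.isSeparable_of_isReduced_tensor
      (K := AlgebraicClosure k) (IsIntegral.of_finite k x)⟩⟩
  · rw [Algebra.formallyUnramified_iff]
    have hD : ∀ x : A, KaehlerDifferential.D k A x = 0 := fun x ↦ by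
      have h0 : KaehlerDifferential.D k A (Polynomial.aeval x (minpoly k x)) = 0 := by
        rw [minpoly.aeval, map_zero]
      rw [Derivation.map_aeval] at h0
      obtain ⟨a, b, hab⟩ := (Algebra.IsSeparable.isSeparable k x : (minpoly k x).Separable)
      have h1 := congrArg (Polynomial.aeval x) hab
      simp only [map_add, map_mul, map_one, minpoly.aeval, mul_zero, zero_add] at h1
      have hu : IsUnit (Polynomial.aeval x (Polynomial.derivative (minpoly k x))) :=
        isUnit_of_mul_isUnit_right (x := Polynomial.aeval x b) (by rw [h1]; exact isUnit_one)
      exact hu.smul_eq_zero.mp h0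
    refine subsingleton_of_forall_eq 0 fun ω ↦ ?_
    have : ω ∈ Submodule.span A (Set.range (KaehlerDifferential.D k A)) := by
      rw [KaehlerDifferential.span_range_derivation]; trivial
    induction this using Submodule.span_induction with
    | mem y hy => obtain ⟨x, rfl⟩ := hy; exact hD x
    | zero => rfl
    | add y z _ _ hy hz => rw [hy, hz, add_zero]
    | smul c y _ hy => rw [hy, smul_zero]

end Groth.Agent.S4998
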