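import Groth.Statements.S5002
import Groth.Agent.Lib.PrincipalParts.Basic

set_option autoImplicit false
universe u
open PP16

namespace Groth.Agent.S5002

/-- Suppose A is a commutative ring and B is a finite-type A-algebra. For each n, the ring of principal
parts of order n of B over A is then finitely generated as a B-module, where B acts via the first
factor. -/
theorem result (n : ℕ) (A B : Type u) [CommRing A] [CommRing B] [Algebra A B]
    [Algebra.FiniteType A B] : Module.Finite B (PP16.P n A B) := by
  exact GrothLib.PrincipalParts.finite_of_finiteType

end Groth.Agent.S5002
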