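import Groth.Statements.S5004
import Mathlib
import Groth.Agent.Lib.LCI6.Kinds
-- import your own Groth.Agent.* helpers here

set_option autoImplicit false
universe u
open CategoryTheory CategoryTheory.Limits AlgebraicGeometry TopologicalSpace
open Nrm16

namespace Groth.Agent.S5004

/-- On a locally Noetherian scheme, every quasi-regular (quasi-coherent) ideal sheaf is a regular ideal
sheaf. -/
theorem result {X : Scheme.{u}} [IsLocallyNoetherian X] (I : X.IdealSheafData)
    (h : RegImm.IsRegularIdeal RegImm.Kind.quasi I) : RegImm.IsRegularIdeal RegImm.Kind.regular I := by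
  classical
  intro x hx
  obtain ⟨U, hxU, rs, hrs, hI⟩ := h x hx
  have hnoeth : IsNoetherianRing Γ(X, U.1) := IsLocallyNoetherian.component_noetherian U
  let L := X.presheaf.stalk x
  let φ := (X.presheaf.germ U.1 x hxU).hom
  haveI : IsNoetherianRing L := by
    letI : Algebra Γ(X, U.1) L := TopCat.Presheaf.algebra_section_stalk X.presheaf (⟨x, hxU⟩ : U.1)
    haveI := U.2.isLocalization_stalk ⟨x, hxU⟩
    exact IsLocalization.isNoetherianRing (U.2.primeIdealOf ⟨x, hxU⟩).asIdeal.primeCompl L hnoeth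
  have hq : CAlgX.IsQuasiRegular (φ ∘ rs.get) :=
    GrothLib.SeqKinds.isQuasiRegular_map φ (GrothLib.RelReg.flat_germ U.2 hxU) _ hrs
  have hm : ∀ j, (φ ∘ rs.get) j ∈ IsLocalRing.maximalIdeal L := fun j => by
    have hmem : rs.get j ∈ I.ideal U := hI ▸ Ideal.subset_span (List.get_mem rs j)
    rw [Scheme.IdealSheafData.mem_support_iff_of_mem hxU, Scheme.mem_zeroLocus_iff] at hx
    exact fun hu => hx _ hmem ((X.mem_basicOpen _ x hxU).2 hu)
  have hreg := GrothLib.SeqKinds.isRegular_of_isQuasiRegular _ hm hq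
  obtain ⟨g, hg, rs', hrs', hI'⟩ := GrothLib.RegSeqLoc.exists_basicOpen_isRegular U.2 hxU
    (I.ideal U) (List.ofFn (φ ∘ rs.get)) hreg (by
      rw [hI, Ideal.map_ofList, ← List.map_ofFn, List.ofFn_get])
  exact ⟨X.affineBasicOpen g, hg, rs', hrs', (I.map_ideal_basicOpen U g).symm.trans hI'⟩

end Groth.Agent.S5004
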