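import Groth.Statements.S5006
import Mathlib
-- import your own Groth.Agent.* helpers here

set_option autoImplicit false
universe u
open Nrm16

namespace Groth.Agent.S5006

/-- Let A be a commutative ring, I a finitely generated ideal and p a prime ideal containing I. Then
some basic open neighbourhood of p in Spec A is contained in the closed set V(I) (so that V(I) ⟶
Spec A is a local homeomorphism onto an open set near p) if and only if there is an integer n > 0
with I^n A_p = I^(n+1) A_p in the local ring at p. Affine form. -/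
theorem result (A : Type u) [CommRing A] (I : Ideal A) (hI : I.FG)
    (p : Ideal A) [p.IsPrime] (hp : I ≤ p) :
    (∃ f : A, f ∉ p ∧ ∀ q : Ideal A, q.IsPrime → f ∉ q → I ≤ q) ↔
      ∃ n : ℕ, 0 < n ∧
        (I ^ n).map (algebraMap A (Localization.AtPrime p)) =
          (I ^ (n + 1)).map (algebraMap A (Localization.AtPrime p)) := by
  let L := Localization.AtPrime p
  constructor
  · rintro ⟨f, hf, hfI⟩
    have hnil : ∀ i ∈ I, IsNilpotent (algebraMap A L i) := by
      intro i hi
      rw [nilpotent_iff_mem_prime]
      intro P hP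
      have := hfI (P.comap (algebraMap A L)) (Ideal.comap_isPrime _ P) ?_
      · exact this hi
      · intro h
        exact hP.ne_top (Ideal.eq_top_of_isUnit_mem _ h
          (IsLocalization.map_units L (⟨f, hf⟩ : p.primeCompl)))
    obtain ⟨n, hn⟩ : IsNilpotent (I.map (algebraMap A L)) := by
      rw [Ideal.FG.isNilpotent_iff_le_nilradical (hI.map _), Ideal.map_le_iff_le_comap]
      exact fun i hi => (mem_nilradical).2 (hnil i hi)
    refine ⟨n + 1, Nat.succ_pos _, ?_⟩
    rw [Ideal.map_pow, Ideal.map_pow, pow_succ, pow_succ, pow_succ, hn]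
    simp
  · rintro ⟨n, hn0, hn⟩
    let J := (I ^ n).map (algebraMap A L)
    have hle : J ≤ IsLocalRing.maximalIdeal L • J := by
      have h1 : J = I.map (algebraMap A L) • J := by
        show J = _ * (I ^ n).map (algebraMap A L)
        rw [← Ideal.map_mul, ← pow_succ']
        exact hn
      conv_lhs => rw [h1]
      refine Submodule.smul_mono_left ?_
      rw [← Localization.AtPrime.map_eq_maximalIdeal]
      exact Ideal.map_mono hp
    have hJ : J = ⊥ := Submodule.eq_bot_of_le_smul_of_le_jacobson_bot (IsLocalRing.maximalIdeal L) J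
      ((hI.pow).map _) hle (IsLocalRing.maximalIdeal_le_jacobson ⊥)
    obtain ⟨s, hs⟩ := hI.pow (n := n)
    have hkill : ∀ a ∈ s, ∃ f ∉ p, f * a = 0 := fun a ha => by
      have : algebraMap A L a = 0 := by
        rw [← Ideal.mem_bot, ← hJ]
        exact Ideal.mem_map_of_mem _ (hs ▸ Ideal.subset_span ha)
      obtain ⟨⟨f, hf⟩, hfa⟩ := (IsLocalization.map_eq_zero_iff p.primeCompl L a).1 this
      exact ⟨f, hf, hfa⟩
    choose f hf hfa using hkill
    classical
    refine ⟨∏ a : s, f a.1 a.2, fun h => ?_, fun q hq hfq => ?_⟩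
    · obtain ⟨a, -, ha⟩ := (‹p.IsPrime›.prod_mem_iff).1 h
      exact hf a.1 a.2 ha
    · refine (hq.pow_le_iff hn0.ne').1 ?_
      rw [← hs, Ideal.span_le]
      intro a ha
      have h0 : (∏ b : s, f b.1 b.2) * a = 0 := by
        rw [← Finset.prod_erase_mul _ _ (Finset.mem_univ ⟨a, ha⟩), mul_assoc, hfa a ha, mul_zero]
      exact (hq.mem_or_mem (h0 ▸ q.zero_mem)).resolve_left hfq

end Groth.Agent.S5006
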