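import Groth.Statements.S5010
import Mathlib
import Groth.Agent.Lib.PrincipalParts.Basic

set_option autoImplicit false
universe u
open PP16

namespace Groth.Agent.S5010

open GrothLib.PrincipalParts in
theorem aux (n : ℕ) (k : Type u) [Field k] (r : ℕ) (K : Type u) [Field K] [Algebra k K]
    [Algebra (MvPolynomial (Fin r) k) K] [IsScalarTower k (MvPolynomial (Fin r) k) K]
    [IsFractionRing (MvPolynomial (Fin r) k) K] (I : Ideal (MvPolynomial (Fin r) K))
    (hI : I = Ideal.span (Set.range (MvPolynomial.X : Fin r → MvPolynomial (Fin r) K)) ^ (n + 1))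
    (φ : MvPolynomial (Fin r) K →ₐ[K] PP16.P n k K)
    (hφ : ∀ i, φ (MvPolynomial.X i) = delta n k (algebraMap (MvPolynomial (Fin r) k) K (MvPolynomial.X i))) :
    Function.Surjective φ ∧ RingHom.ker φ.toRingHom = I := by
  let x : Fin r → K := fun i => algebraMap (MvPolynomial (Fin r) k) K (MvPolynomial.X i)
  have hle : I.map φ ≤ ⊥ := by
    refine le_trans ?_ (augIdeal_pow_eq_bot (n := n) (A := k) (B := K)).le
    rw [hI, Ideal.map_pow]
    refine Ideal.pow_right_mono ?_ _
    rw [Ideal.map_span, Ideal.span_le]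
    rintro _ ⟨_, ⟨i, rfl⟩, rfl⟩
    rw [hφ]
    exact delta_mem _
  let mk := Ideal.Quotient.mk I
  let J : Ideal (MvPolynomial (Fin r) K ⧸ I) :=
    (Ideal.span (Set.range (MvPolynomial.X : Fin r → MvPolynomial (Fin r) K))).map (Ideal.Quotient.mk I)
  have hJ : J ^ (n + 1) = ⊥ := by
    refine (Ideal.map_pow (Ideal.Quotient.mk I) _ _).symm.trans ?_
    rw [← hI]
    exact Ideal.map_quotient_self I
  let f : K →ₐ[k] (MvPolynomial (Fin r) K ⧸ I) := IsScalarTower.toAlgHom k K _
  let g0 : MvPolynomial (Fin r) k →ₐ[k] (MvPolynomial (Fin r) K ⧸ I) :=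
    MvPolynomial.aeval (fun i => f (x i) + mk (MvPolynomial.X i))
  have hg0 : (Ideal.Quotient.mkₐ k J).comp g0 =
      ((Ideal.Quotient.mkₐ k J).comp f).comp (IsScalarTower.toAlgHom k (MvPolynomial (Fin r) k) K) := by
    refine MvPolynomial.algHom_ext fun i => ?_
    show Ideal.Quotient.mk J (g0 (MvPolynomial.X i)) = Ideal.Quotient.mk J (f (x i))
    rw [MvPolynomial.aeval_X, Ideal.Quotient.eq, add_sub_cancel_left]
    exact Ideal.mem_map_of_mem _ (Ideal.subset_span ⟨i, rfl⟩)
  have hg0' : ∀ p, g0 p - f (algebraMap _ K p) ∈ J := fun p =>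
    Ideal.Quotient.eq.1 (AlgHom.congr_fun hg0 p)
  have hunit : ∀ s : nonZeroDivisors (MvPolynomial (Fin r) k), IsUnit (g0 s) := fun s => by
    have h2 : IsNilpotent (g0 s - f (algebraMap _ K (s : MvPolynomial (Fin r) k))) := by
      refine ⟨n + 1, ?_⟩
      have := Ideal.pow_mem_pow (hg0' s) (n + 1)
      rwa [hJ, Ideal.mem_bot] at this
    have h3 := h2.isUnit_add_left_of_commute
      ((IsLocalization.map_units K s).map f) (Commute.all _ _)
    rwa [add_sub_cancel] at h3
  let g : K →ₐ[k] (MvPolynomial (Fin r) K ⧸ I) :=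
    IsLocalization.liftAlgHom (M := nonZeroDivisors (MvPolynomial (Fin r) k)) hunit
  have hg : ∀ p, g (algebraMap _ K p) = g0 p := fun p => IsLocalization.lift_eq hunit p
  have hfg : (Ideal.Quotient.mk J).comp g.toRingHom = (Ideal.Quotient.mk J).comp f.toRingHom := by
    refine IsLocalization.ringHom_ext (nonZeroDivisors (MvPolynomial (Fin r) k)) (RingHom.ext fun p => ?_)
    show Ideal.Quotient.mk J (g _) = Ideal.Quotient.mk J (f _)
    rw [hg, Ideal.Quotient.eq]
    exact hg0' p
  have hcong : ∀ b, g b - f b ∈ J := fun b => Ideal.Quotient.eq.1 (RingHom.congr_fun hfg b)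
  let inv := GrothLib.PrincipalParts.lift (n := n) f g J hcong hJ
  have hinv : ∀ p, inv (φ p) = mk p := by
    intro p
    induction p using MvPolynomial.induction_on with
    | C a =>
      rw [show φ (MvPolynomial.C a) = algebraMap K (PP16.P n k K) a from φ.commutes a, lift_algebraMap]
      rfl
    | add p q hp hq => rw [map_add, map_add, map_add, hp, hq]
    | mul_X p i hp => rw [map_mul, map_mul, map_mul, hp, hφ, lift_delta, hg, MvPolynomial.aeval_X,
        add_sub_cancel_left]
  let ψ : (MvPolynomial (Fin r) K ⧸ I) →ₐ[K] PP16.P n k K :=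
    Ideal.Quotient.liftₐ I φ fun y hy => (Submodule.mem_bot _).1 (hle (Ideal.mem_map_of_mem _ hy))
  have hψ : ∀ p, ψ (mk p) = φ p := fun p => rfl
  have hψg : (ψ : _ →+* _).comp g.toRingHom = (PP16.dn n k K).toRingHom := by
    have h : (ψ.restrictScalars k).comp g0 =
        (PP16.dn n k K).comp (IsScalarTower.toAlgHom k (MvPolynomial (Fin r) k) K) := by
      refine MvPolynomial.algHom_ext fun i => ?_
      show ψ (g0 (MvPolynomial.X i)) = PP16.dn n k K (x i)
      rw [MvPolynomial.aeval_X, map_add, hψ, hφ,
        show ψ (f (x i)) = algebraMap K _ (x i) from ψ.commutes (x i), delta, add_sub_cancel]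
    refine IsLocalization.ringHom_ext (nonZeroDivisors (MvPolynomial (Fin r) k)) (RingHom.ext fun p => ?_)
    show ψ (g (algebraMap _ K p)) = PP16.dn n k K (algebraMap _ K p)
    rw [hg]
    exact AlgHom.congr_fun h p
  refine ⟨fun y => ?_, le_antisymm (fun p hp => ?_) (fun p hp => ?_)⟩
  · obtain ⟨p, hp⟩ := Ideal.Quotient.mk_surjective (inv y)
    refine ⟨p, ?_⟩
    rw [← hψ]
    show ψ (Ideal.Quotient.mk I p) = y
    rw [hp]
    refine comp_apply_eq inv.toRingHom (ψ : _ →+* _) (RingHom.id _) (fun b => ?_) (fun b => ?_) y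
    · show ψ (inv _) = _
      rw [lift_algebraMap]
      exact ψ.commutes b
    · show ψ (inv _) = _
      rw [lift_dn]
      exact RingHom.congr_fun hψg b
  · have h := hinv p
    rw [show φ p = 0 from hp, map_zero] at h
    exact Ideal.Quotient.eq_zero_iff_mem.1 h.symm
  · exact (Submodule.mem_bot _).1 (hle (Ideal.mem_map_of_mem _ hp))


/-- Let k be a field and K the field of fractions of the polynomial ring k[T_1, ..., T_r]. For every n,
the K-algebra map from the polynomial ring K[U_1, ..., U_r] to the ring of principal parts of order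
n of K over k (a K-algebra through the first factor) that sends U_i to d^n(T_i) − T_i · 1 is
surjective, and its kernel is the (n+1)-st power of the ideal generated by the U_i. -/
theorem result (k : Type u) [Field k] (r n : ℕ) :
    Function.Surjective
        (MvPolynomial.aeval (R := FractionRing (MvPolynomial (Fin r) k))
          (S₁ := PP16.P n k (FractionRing (MvPolynomial (Fin r) k)))
          (fun i : Fin r =>
            PP16.dn n k (FractionRing (MvPolynomial (Fin r) k))
                (algebraMap (MvPolynomial (Fin r) k) (FractionRing (MvPolynomial (Fin r) k)) (MvPolynomial.X i)) -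
              algebraMap (FractionRing (MvPolynomial (Fin r) k)) (PP16.P n k (FractionRing (MvPolynomial (Fin r) k)))
                (algebraMap (MvPolynomial (Fin r) k) (FractionRing (MvPolynomial (Fin r) k)) (MvPolynomial.X i)))) ∧
      RingHom.ker
          (MvPolynomial.aeval (R := FractionRing (MvPolynomial (Fin r) k))
            (S₁ := PP16.P n k (FractionRing (MvPolynomial (Fin r) k)))
            (fun i : Fin r =>
              PP16.dn n k (FractionRing (MvPolynomial (Fin r) k))
                  (algebraMap (MvPolynomial (Fin r) k) (FractionRing (MvPolynomial (Fin r) k)) (MvPolynomial.X i)) -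
                algebraMap (FractionRing (MvPolynomial (Fin r) k)) (PP16.P n k (FractionRing (MvPolynomial (Fin r) k)))
                  (algebraMap (MvPolynomial (Fin r) k) (FractionRing (MvPolynomial (Fin r) k)) (MvPolynomial.X i)))).toRingHom =
        (Ideal.span (Set.range (MvPolynomial.X : Fin r → MvPolynomial (Fin r) (FractionRing (MvPolynomial (Fin r) k))))) ^ (n + 1) := by
  exact aux n k r (FractionRing (MvPolynomial (Fin r) k)) _ rfl _ (fun i => by
    rw [MvPolynomial.aeval_X]; rfl)

end Groth.Agent.S5010
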