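import Groth.Statements.S5011
import Groth.Agent.Lib.LocProp.StalkQuot
-- import your own Groth.Agent.* helpers here

set_option autoImplicit false
universe u
open CategoryTheory CategoryTheory.Limits AlgebraicGeometry TopologicalSpace
open Unram17

namespace Groth.Agent.S5011

/-- Let f : X ⟶ Y be locally of finite presentation. Then f is etale if and only if f is flat and, for
every point x of X with image y, the quotient of the local ring of X at x by the extension of the
maximal ideal of the local ring of Y at y is a field, finite and separable over the residue field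
κ(y); that is, every fibre of f is a sum of spectra of finite separable extensions of the residue
field. -/
theorem result {X Y : Scheme.{u}} (f : X ⟶ Y)
    [LocallyOfFinitePresentation f] :
    Etale f ↔ Flat f ∧ ∀ x : ↥X,
      letI φ := (f.stalkMap x).hom
      letI 𝔪 := IsLocalRing.maximalIdeal ↑(Y.presheaf.stalk (f.base x))
      letI := (Ideal.quotientMap (𝔪.map φ) φ Ideal.le_comap_map).toAlgebra
      IsField (↑(X.presheaf.stalk x) ⧸ 𝔪.map φ) ∧
        Module.Finite (↑(Y.presheaf.stalk (f.base x)) ⧸ 𝔪) (↑(X.presheaf.stalk x) ⧸ 𝔪.map φ) ∧
        Algebra.IsSeparable (↑(Y.presheaf.stalk (f.base x)) ⧸ 𝔪) (↑(X.presheaf.stalk x) ⧸ 𝔪.map φ) := by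
  rw [Etale.iff_flat_and_formallyUnramified]
  refine and_congr_right fun hflat => ?_
  have key : (FormallyUnramified f) ↔ ∀ x, (f.stalkMap x).hom.FormallyUnramified := by
    refine ⟨fun h x => FormallyUnramified.stalkMap f x, fun h => ?_⟩
    refine IsZariskiLocalAtSource.iff_of_openCover (P := @FormallyUnramified)
      (X.openCoverOfIsOpenCover (fun x : X => ((GrothLib.LocProp.formallyUnramified_nhd_iff f x).mpr (h x)).choose) ?_) |>.mpr fun x => ?_
    · exact TopologicalSpace.IsOpenCover.mk (top_unique fun x _ => TopologicalSpace.Opens.mem_iSup.mpr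
        ⟨x, ((GrothLib.LocProp.formallyUnramified_nhd_iff f x).mpr (h x)).choose_spec.1⟩)
    · exact ((GrothLib.LocProp.formallyUnramified_nhd_iff f x).mpr (h x)).choose_spec.2
  rw [and_iff_left (inferInstance : LocallyOfFinitePresentation f), key]
  exact forall_congr' fun x => GrothLib.LocProp.formallyUnramified_stalk_iff_quot f x
end Groth.Agent.S5011
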