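import Groth.Statements.S5012
import Groth.Agent.Lib.UnrMono.SmoothCriterion

set_option autoImplicit false
universe u
open Unram17

namespace Groth.Agent.S5012

/-- Let A be an algebra of finite type over a field k. Then Spec A has a dense open subset consisting of
points at which A is smooth over k if and only if, for every minimal prime p of A, the local ring
A_p is geometrically reduced over k (that is, A_p is a field and a separable extension of k). -/
theorem result (k A : Type u) [Field k] [CommRing A] [Algebra k A]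
    [Algebra.FiniteType k A] :
    (∃ U : TopologicalSpace.Opens (PrimeSpectrum A), Dense (U : Set (PrimeSpectrum A)) ∧
        ∀ p ∈ U, Algebra.IsSmoothAt k p.asIdeal) ↔
      ∀ (p : Ideal A) [p.IsPrime], p ∈ minimalPrimes A →
        Algebra.IsGeometricallyReduced k (Localization.AtPrime p) := by
  classical
  haveI : IsNoetherianRing A := Algebra.FiniteType.isNoetherianRing k A
  haveI : Algebra.FinitePresentation k A := Algebra.FinitePresentation.of_finiteType.mp ‹_›
  constructor
  · rintro ⟨U, hU, hsm⟩ p _ hp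
    let W : Set (PrimeSpectrum A) := (⋃ q ∈ minimalPrimes A \ {p}, PrimeSpectrum.zeroLocus (q : Set A))ᶜ
    have hW : IsOpen W := ((minimalPrimes.finite_of_isNoetherianRing A).sdiff.isClosed_biUnion
      fun q _ => PrimeSpectrum.isClosed_zeroLocus _).isOpen_compl
    have hpW : (⟨p, ‹_›⟩ : PrimeSpectrum A) ∈ W := by
      intro h
      obtain ⟨q, hq, hqp⟩ := Set.mem_iUnion₂.1 h
      exact hq.2 (le_antisymm hqp (hp.2 ⟨hq.1.1.1, bot_le⟩ hqp))
    obtain ⟨x, hxW, hxU⟩ := hU.inter_open_nonempty W hW ⟨_, hpW⟩
    obtain ⟨q, hq, hqx⟩ := Ideal.exists_minimalPrimes_le (show (⊥ : Ideal A) ≤ x.asIdeal from bot_le)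
    have hqp : q = p := by
      by_contra hne
      exact hxW (Set.mem_iUnion₂.2 ⟨q, ⟨hq, hne⟩, hqx⟩)
    subst hqp
    have hqU : (⟨q, ‹_›⟩ : PrimeSpectrum A) ∈ U :=
      ((PrimeSpectrum.le_iff_specializes ⟨q, ‹_›⟩ x).1 hqx).mem_open U.2 hxU
    haveI : Algebra.IsSmoothAt k q := hsm _ hqU
    haveI := GrothLib.Serre.isRegularLocalRing_of_isSmoothAt (k := k) q
    haveI := GrothLib.CMFree.isDomain_of_isRegularLocalRing (Localization.AtPrime q)
    haveI : Algebra.FormallySmooth k (Localization.AtPrime q) := ‹Algebra.IsSmoothAt k q›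
    exact (GrothLib.UnrMono.isGeometricallyReduced_minimal_iff k A q hp).2
      (Algebra.FormallySmooth.of_equiv ((GrothLib.UnrMono.minimalPrimeEquiv A q hp).restrictScalars k))
  · intro h
    refine ⟨⟨Algebra.smoothLocus k A, Algebra.isOpen_smoothLocus⟩, ?_, fun p hp => hp⟩
    intro x
    obtain ⟨q, hq, hqx⟩ := Ideal.exists_minimalPrimes_le (show (⊥ : Ideal A) ≤ x.asIdeal from bot_le)
    haveI : q.IsPrime := hq.1.1
    haveI := h q hq
    haveI : IsReduced (Localization.AtPrime q) := Algebra.isReduced_of_isGeometricallyReduced k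
    haveI := (GrothLib.UnrMono.isGeometricallyReduced_minimal_iff k A q hq).1 inferInstance
    have hmem : (⟨q, ‹_›⟩ : PrimeSpectrum A) ∈ Algebra.smoothLocus k A :=
      Algebra.FormallySmooth.of_equiv ((GrothLib.UnrMono.minimalPrimeEquiv A q hq).restrictScalars k).symm
    exact closure_mono (Set.singleton_subset_iff.2 hmem)
      (specializes_iff_mem_closure.1 ((PrimeSpectrum.le_iff_specializes ⟨q, ‹_›⟩ x).1 hqx))

end Groth.Agent.S5012
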