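import Groth.Statements.S5014
import Groth.Agent.Lib.LocProp.EtaleCoord
-- import your own Groth.Agent.* helpers here

set_option autoImplicit false
universe u
open Unram17

namespace Groth.Agent.S5014

/-- Let C be a smooth algebra over a commutative ring A, equipped with an A-algebra map from the
polynomial ring in r variables (images s_i of the variables), and let q be a prime of C. Then C is
etale at q over the polynomial ring if and only if the differentials of the s_i are linearly
independent and generate the module of differentials of the local ring C_q over A, i.e. form a basis
of it. -/
theorem result (A C : Type u) [CommRing A] [CommRing C]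
    [Algebra A C] [Algebra.Smooth A C] (r : ℕ) [Algebra (MvPolynomial (Fin r) A) C]
    [IsScalarTower A (MvPolynomial (Fin r) A) C] (q : Ideal C) [q.IsPrime] :
    Algebra.IsEtaleAt (MvPolynomial (Fin r) A) q ↔
      LinearIndependent (Localization.AtPrime q)
          (fun i : Fin r => KaehlerDifferential.D A (Localization.AtPrime q)
            (algebraMap C (Localization.AtPrime q) (algebraMap (MvPolynomial (Fin r) A) C (MvPolynomial.X i)))) ∧
        Submodule.span (Localization.AtPrime q)
          (Set.range fun i : Fin r => KaehlerDifferential.D A (Localization.AtPrime q)
            (algebraMap C (Localization.AtPrime q) (algebraMap (MvPolynomial (Fin r) A) C (MvPolynomial.X i)))) = ⊤ := by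
  have : Algebra.FormallySmooth A (Localization.AtPrime q) := by
    have : Algebra.FormallySmooth C (Localization.AtPrime q) :=
      Algebra.FormallySmooth.of_isLocalization q.primeCompl
    exact Algebra.FormallySmooth.comp A C _
  rw [Algebra.IsEtaleAt, GrothLib.LocProp.formallyEtale_mvPolynomial_iff A (Localization.AtPrime q),
    Function.Bijective, ← LinearMap.range_eq_top, Finsupp.range_linearCombination]
  simp only [← IsScalarTower.algebraMap_apply (MvPolynomial (Fin r) A) C (Localization.AtPrime q)]
  rfl

end Groth.Agent.S5014
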