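import Groth.Statements.S5015
import Mathlib
import Groth.Agent.Lib.PPGen.StalkDiff
-- import your own Groth.Agent.* helpers here

set_option autoImplicit false
universe u
open CategoryTheory CategoryTheory.Limits AlgebraicGeometry TopologicalSpace
open Unram17

open AlgebraicGeometry CategoryTheory
set_option maxHeartbeats 1000000
set_option backward.isDefEq.respectTransparency false

namespace Groth.Agent.S5015

/-- Let g : Y ⟶ S and h : X ⟶ S be morphisms and f : X ⟶ Y with f ≫ g = h. Given sheaves of
differentials of Y over S and of X over S (universal derivations dY, dX) and the canonical map c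
from the pullback of the former to the latter (the O_X-linear map carrying the pullback of dY s to
dX of the pullback of s), f is formally unramified if and only if c is an epimorphism of
O_X-modules. -/
theorem result {X Y S : Scheme.{u}} (g : Y ⟶ S) (h : X ⟶ S)
    (f : X ⟶ Y) (w : f ≫ g = h)
    (ΩY : Y.Modules) (dY : OmegaSh.Der g ΩY) (hY : OmegaSh.IsUniversal dY)
    (ΩX : X.Modules) (dX : OmegaSh.Der h ΩX) (hX : OmegaSh.IsUniversal dX)
    (c : (Scheme.Modules.pullback f).obj ΩY ⟶ ΩX) (hc : OmegaSh.IsDiffCompat f dY dX c) :
    FormallyUnramified f ↔ Epi c := by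
  subst w
  have key : ∀ x : X, (f.stalkMap x).hom.FormallyUnramified ↔ Epi ((GrothLib.OX.stalk x).map c) := by
    intro x
    letI := GrothLib.OmegaUniv.stalkAlg f x
    letI := GrothLib.OmegaUniv.stalkAlg g (f x)
    letI := GrothLib.PPGen.compAlg g f x
    haveI := GrothLib.PPGen.stalk_tower g f x
    rw [(GrothLib.PPGen.stalk_diffCompat g f x hY hX c hc).1]
    let R := S.presheaf.stalk (g (f x))
    let A := Y.presheaf.stalk (f x)
    let B := X.presheaf.stalk x
    have he := KaehlerDifferential.exact_mapBaseChange_map R A B
    constructor
    · intro h v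
      haveI : Algebra.FormallyUnramified A B := h
      exact (he v).1 (Subsingleton.elim _ _)
    · intro h
      show Algebra.FormallyUnramified A B
      refine ⟨subsingleton_of_forall_eq 0 fun y => ?_⟩
      obtain ⟨v, rfl⟩ := KaehlerDifferential.map_surjective R A B y
      exact (he v).2 (h v)
  rw [GrothLib.OX.epi_iff c]
  refine ⟨fun hf x => (key x).1 (FormallyUnramified.stalkMap f x), fun h => ?_⟩
  exact HasRingHomProperty.of_stalkMap (P := @FormallyUnramified)
    RingHom.FormallyUnramified.ofLocalizationPrime fun x => (key x).2 (h x)

end Groth.Agent.S5015
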