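import Groth.Statements.S5016
import Mathlib
import Groth.Agent.Lib.PPGen.StalkDiff
import Groth.Agent.S1486
-- import your own Groth.Agent.* helpers here

set_option autoImplicit false
universe u
open CategoryTheory CategoryTheory.Limits AlgebraicGeometry TopologicalSpace
open Unram17

open AlgebraicGeometry CategoryTheory
set_option maxHeartbeats 1000000
set_option backward.isDefEq.respectTransparency false

namespace Groth.Agent.S5016

/-- Let g : Y ⟶ S, h : X ⟶ S and f : X ⟶ Y with f ≫ g = h, and suppose f is formally smooth. Given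
sheaves of differentials of Y over S and of X over S (universal derivations) and the canonical
compatible map c from the pullback of the former to the latter, c is a monomorphism of O_X-modules.
(The published statement also identifies the cokernel of this map with the sheaf of differentials of
X over Y and splits the sequence locally; this row states only that the map is injective.) -/
theorem result {X Y S : Scheme.{u}} (g : Y ⟶ S) (h : X ⟶ S)
    (f : X ⟶ Y) (w : f ≫ g = h) (hf : MoreMor.IsFormallySmoothHom f)
    (ΩY : Y.Modules) (dY : OmegaSh.Der g ΩY) (hY : OmegaSh.IsUniversal dY)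
    (ΩX : X.Modules) (dX : OmegaSh.Der h ΩX) (hX : OmegaSh.IsUniversal dX)
    (c : (Scheme.Modules.pullback f).obj ΩY ⟶ ΩX) (hc : OmegaSh.IsDiffCompat f dY dX c) :
    Mono c := by
  subst w
  rw [GrothLib.OX.mono_iff c]
  intro x
  letI := GrothLib.OmegaUniv.stalkAlg f x
  letI := GrothLib.OmegaUniv.stalkAlg g (f x)
  letI := GrothLib.PPGen.compAlg g f x
  haveI := GrothLib.PPGen.stalk_tower g f x
  rw [(GrothLib.PPGen.stalk_diffCompat g f x hY hX c hc).2]
  have hs : (f.stalkMap x).hom.FormallySmooth := by
    obtain ⟨V, hV, hxV, -⟩ := TopologicalSpace.Opens.isBasis_iff_nbhd.mp Y.isBasis_affineOpens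
      (show f x ∈ (⊤ : Y.Opens) from trivial)
    obtain ⟨U, hU, hxU, hUV⟩ := TopologicalSpace.Opens.isBasis_iff_nbhd.mp X.isBasis_affineOpens
      (show x ∈ f ⁻¹ᵁ V from hxV)
    have h := (Groth.Agent.S1486.result f).1 hf U V hU hV hUV
    letI := (f.appLE V U hUV).hom.toAlgebra
    haveI : Algebra.FormallySmooth Γ(Y, V) Γ(X, U) := h
    rw [formallySmooth_stalkMap_iff V hV U hU hUV hxU]
    let q := (hU.primeIdealOf ⟨x, hxU⟩).asIdeal
    haveI : Algebra.FormallySmooth Γ(X, U) (Localization.AtPrime q) :=
      Algebra.FormallySmooth.of_isLocalization q.primeCompl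
    exact Algebra.FormallySmooth.comp Γ(Y, V) Γ(X, U) (Localization.AtPrime q)
  let A := Y.presheaf.stalk (f x)
  let B := X.presheaf.stalk x
  haveI : Algebra.FormallySmooth A B := hs
  rw [← LinearMap.ker_eq_bot]
  refine le_bot_iff.1 fun v hv => ?_
  obtain ⟨w, rfl⟩ := (Algebra.H1Cotangent.exact_δ_mapBaseChange (S.presheaf.stalk (g (f x))) A B v).1 hv
  rw [Subsingleton.elim w 0, map_zero]
  exact Submodule.zero_mem _

end Groth.Agent.S5016
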