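import Groth.Statements.S5017
import Mathlib

set_option autoImplicit false
universe u
open CategoryTheory CategoryTheory.Limits AlgebraicGeometry TopologicalSpace
open Unram17

namespace Groth.Agent.S5017

/-- Let f : X ⟶ Y be locally of finite type. Then f is a monomorphism if and only if, for every point x
of X with image y, x is the only point of its fibre and the canonical map from the residue field
κ(y) to the quotient of the local ring of X at x by the extension of the maximal ideal at y is
bijective (each nonempty fibre is Spec κ(y)). -/
theorem result {X Y : Scheme.{u}} (f : X ⟶ Y) [LocallyOfFiniteType f] :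
    Mono f ↔ ∀ x : ↥X,
      (∀ x' : ↥X, f.base x' = f.base x → x' = x) ∧
        Function.Bijective
          (Ideal.quotientMap
            ((IsLocalRing.maximalIdeal ↑(Y.presheaf.stalk (f.base x))).map (f.stalkMap x).hom)
            (f.stalkMap x).hom Ideal.le_comap_map) := by
  have hess : ∀ x : X, letI := (f.stalkMap x).hom.toAlgebra
      Algebra.EssFiniteType (Y.presheaf.stalk (f x)) (X.presheaf.stalk x) := fun x => by
    algebraize [(f.stalkMap x).hom]
    rw [← RingHom.essFiniteType_algebraMap, RingHom.algebraMap_toAlgebra]
    exact LocallyOfFiniteType.stalkMap f x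
  have ht : UniversallyInjective f ↔ Function.Injective f ∧ ∀ x, (f.residueFieldMap x).hom.IsPurelyInseparable :=
    (tfae_universallyInjective f).out 0 2
  constructor
  · intro hm
    haveI : IsIso (Limits.pullback.diagonal f) := (Limits.pullback.isIso_diagonal_iff f).mpr hm
    haveI : FormallyUnramified f := inferInstance
    intro x
    refine ⟨fun x' hx' => f.injective hx', ?_⟩
    letI := (f.stalkMap x).hom.toAlgebra
    haveI : IsLocalHom (algebraMap (Y.presheaf.stalk (f x)) (X.presheaf.stalk x)) :=
      inferInstanceAs <| IsLocalHom (f.stalkMap x).hom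
    haveI := hess x
    haveI : Algebra.FormallyUnramified (Y.presheaf.stalk (f x)) (X.presheaf.stalk x) := by
      rw [← RingHom.formallyUnramified_algebraMap, RingHom.algebraMap_toAlgebra]
      exact FormallyUnramified.stalkMap f x
    have hmax : (IsLocalRing.maximalIdeal (Y.presheaf.stalk (f x))).map (f.stalkMap x).hom =
        IsLocalRing.maximalIdeal (X.presheaf.stalk x) :=
      Algebra.FormallyUnramified.map_maximalIdeal
    have hins := (ht.mp (inferInstance : UniversallyInjective f)).2 x
    have hsurj : Function.Surjective (f.residueFieldMap x).hom := by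
      letI := (f.residueFieldMap x).hom.toAlgebra
      haveI : IsPurelyInseparable (Y.residueField (f x)) (X.residueField x) := hins
      exact IsPurelyInseparable.surjective_algebraMap_of_isSeparable (Y.residueField (f x)) (X.residueField x)
    refine ⟨Ideal.quotientMap_injective' (H := Ideal.le_comap_map) ?_, fun z => ?_⟩
    · rw [hmax, IsLocalRing.maximalIdeal_comap]
    · obtain ⟨b, rfl⟩ := Ideal.Quotient.mk_surjective z
      obtain ⟨r, hr⟩ := hsurj (IsLocalRing.residue _ b)
      obtain ⟨a, rfl⟩ := IsLocalRing.residue_surjective r
      refine ⟨Ideal.Quotient.mk _ a, ?_⟩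
      rw [Ideal.quotientMap_mk, Ideal.Quotient.eq, hmax]
      exact Ideal.Quotient.eq.1 hr
  · intro h
    have key : ∀ x : X, (IsLocalRing.maximalIdeal (Y.presheaf.stalk (f x))).map (f.stalkMap x).hom =
        IsLocalRing.maximalIdeal (X.presheaf.stalk x) ∧ Function.Surjective (f.residueFieldMap x).hom := by
      intro x
      have hb := (h x).2
      let e : Y.residueField (f x) ≃+* (X.presheaf.stalk x) ⧸
          (IsLocalRing.maximalIdeal (Y.presheaf.stalk (f x))).map (f.stalkMap x).hom := RingEquiv.ofBijective _ hb
      have hmx : ((IsLocalRing.maximalIdeal (Y.presheaf.stalk (f x))).map (f.stalkMap x).hom).IsMaximal :=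
        Ideal.Quotient.maximal_of_isField _
          (e.symm.toMulEquiv.isField (Field.toIsField (Y.residueField (f x))))
      refine ⟨IsLocalRing.eq_maximalIdeal hmx, fun r => ?_⟩
      obtain ⟨b, rfl⟩ := IsLocalRing.residue_surjective r
      obtain ⟨q, hq⟩ := hb.2 (Ideal.Quotient.mk _ b)
      obtain ⟨a, rfl⟩ := Ideal.Quotient.mk_surjective q
      refine ⟨IsLocalRing.residue _ a, ?_⟩
      erw [Ideal.quotientMap_mk, Ideal.Quotient.eq, IsLocalRing.eq_maximalIdeal hmx] at hq
      exact Ideal.Quotient.eq.2 hq
    haveI : FormallyUnramified f := by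
      refine HasRingHomProperty.of_stalkMap RingHom.FormallyUnramified.ofLocalizationPrime fun x => ?_
      letI := (f.stalkMap x).hom.toAlgebra
      haveI : IsLocalHom (algebraMap (Y.presheaf.stalk (f x)) (X.presheaf.stalk x)) :=
        inferInstanceAs <| IsLocalHom (f.stalkMap x).hom
      haveI := hess x
      haveI : Algebra.IsSeparable (IsLocalRing.ResidueField (Y.presheaf.stalk (f x)))
          (IsLocalRing.ResidueField (X.presheaf.stalk x)) := by
        constructor
        intro r
        have hr : ∃ s, algebraMap (IsLocalRing.ResidueField (Y.presheaf.stalk (f x)))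
            (IsLocalRing.ResidueField (X.presheaf.stalk x)) s = r := by
          obtain ⟨s, hs⟩ := (key x).2 r
          obtain ⟨a, rfl⟩ := IsLocalRing.residue_surjective (R := Y.presheaf.stalk (f x)) s
          exact ⟨IsLocalRing.residue _ a, hs⟩
        obtain ⟨s, rfl⟩ := hr
        exact isSeparable_algebraMap s
      exact Algebra.FormallyUnramified.iff_map_maximalIdeal_eq.2 ⟨inferInstance, (key x).1⟩
    haveI : UniversallyInjective f := by
      refine ht.mpr ⟨fun a b hab => (h b).1 a hab, fun x => ?_⟩
      letI := (f.residueFieldMap x).hom.toAlgebra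
      exact isPurelyInseparable_iff_pow_mem _ (ringExpChar (Y.residueField (f x))) |>.2 fun r =>
        ⟨0, by obtain ⟨s, hs⟩ := (key x).2 r; exact ⟨s, by rw [pow_zero, pow_one]; exact hs⟩⟩
    haveI : IsIso (Limits.pullback.diagonal f) := (isIso_iff_isOpenImmersion_and_surjective _).mpr
      ⟨inferInstance, (UniversallyInjective.iff_diagonal f).mp inferInstance⟩
    exact (Limits.pullback.isIso_diagonal_iff _).mp inferInstance

end Groth.Agent.S5017
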