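import Groth.Statements.S5021
import Groth.Agent.Lib.ConStalk4.SmoothPair
-- import your own Groth.Agent.* helpers here

set_option autoImplicit false
universe u
open CategoryTheory CategoryTheory.Limits AlgebraicGeometry TopologicalSpace
open Unram17

namespace Groth.Agent.S5021

/-- Let f : X ⟶ Y be smooth and j : X' ⟶ X a quasi-compact immersion such that j ≫ f is smooth. Then for
every point x of X' there are an open neighbourhood U of x and an integer n with the conormal sheaf
of j free of rank n on U, and the local dimension at j(x) of the fibre of f through j(x) equals the
local dimension at x of the fibre of j ≫ f through x plus n. (The published statement allows any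
immersion j; this row assumes j quasi-compact, the case in which the conormal sheaf used here is
known to be the conormal sheaf of j.) -/
theorem result {X' X Y : Scheme.{u}} (f : X ⟶ Y) [Smooth f]
    (j : X' ⟶ X) [IsImmersion j] [QuasiCompact j] [Smooth (j ≫ f)] (x : ↥X') :
    ∃ (U : X'.Opens) (n : ℕ), x ∈ U ∧ Nonempty ((Omega.conormal j).restrict U.ι ≅ FlatMod.freeMod (↑U) n) ∧
      FlatMor.fibreDimAt f (j.base x) = FlatMor.fibreDimAt (j ≫ f) x + (n : WithBot ℕ∞) := by
  exact GrothLib.ConStalk4.exists_free_conormal' f j x

end Groth.Agent.S5021
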