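import Groth.Statements.S5023
import Mathlib
import Groth.Agent.Lib.PPGen.FibDiff
import Groth.Agent.Lib.PPGen.DiffBasic
-- import your own Groth.Agent.* helpers here

set_option autoImplicit false
universe u
open CategoryTheory CategoryTheory.Limits AlgebraicGeometry TopologicalSpace
open Nrm16

set_option maxHeartbeats 1000000
set_option backward.isDefEq.respectTransparency false

namespace Groth.Agent.S5023

/-- Let a : X ⟶ S and b : Y ⟶ S be morphisms and Z a fibre product of X and Y over S with projections p,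
q and structure morphism h. Given sheaves of differentials (universal derivations) of X, Y and Z
over S and the canonical compatible maps c₁ : p^*Ω_X ⟶ Ω_Z and c₂ : q^*Ω_Y ⟶ Ω_Z, the induced map
from the coproduct p^*Ω_X ⨿ q^*Ω_Y to Ω_Z is an isomorphism. -/
theorem result {X Y S Z : Scheme.{u}} (a : X ⟶ S) (b : Y ⟶ S)
    (p : Z ⟶ X) (q : Z ⟶ Y) (h : Z ⟶ S) (wp : p ≫ a = h) (wq : q ≫ b = h) (hZ : IsPullback p q a b)
    (ΩX : X.Modules) (dX : OmegaSh.Der a ΩX) (hX : OmegaSh.IsUniversal dX)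
    (ΩY : Y.Modules) (dY : OmegaSh.Der b ΩY) (hY : OmegaSh.IsUniversal dY)
    (ΩZ : Z.Modules) (dZ : OmegaSh.Der h ΩZ) (hZu : OmegaSh.IsUniversal dZ)
    (c₁ : (Scheme.Modules.pullback p).obj ΩX ⟶ ΩZ) (hc₁ : OmegaSh.IsDiffCompat p dX dZ c₁)
    (c₂ : (Scheme.Modules.pullback q).obj ΩY ⟶ ΩZ) (hc₂ : OmegaSh.IsDiffCompat q dY dZ c₂) :
    IsIso (coprod.desc c₁ c₂) := by
  let i₁ : (Scheme.Modules.pullback p).obj ΩX ⟶ ((Scheme.Modules.pullback p).obj ΩX ⨿ (Scheme.Modules.pullback q).obj ΩY) := coprod.inl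
  let i₂ : (Scheme.Modules.pullback q).obj ΩY ⟶ ((Scheme.Modules.pullback p).obj ΩX ⨿ (Scheme.Modules.pullback q).obj ΩY) := coprod.inr
  refine GrothLib.PPGen.isIso_of_derFam hZ h dZ hZu (GrothLib.PPGen.DerFam.ofPullback p dX i₁)
    (GrothLib.PPGen.DerFam.ofPullback q dY i₂) (GrothLib.PPGen.DerFam.ofPullback_base p dX i₁)
    (GrothLib.PPGen.DerFam.ofPullback_base q dY i₂)
    (coprod.desc c₁ c₂) (fun U s => ?_) (fun U s => ?_) (fun {G} u v hu hv => ?_) (fun V t z hz D _ hD₁ _ => ?_)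
  · exact (congr($(coprod.inl_desc c₁ c₂).app (p ⁻¹ᵁ U) (OmegaSh.pullSect p ΩX U (dX.app U s)))).trans (hc₁ U s)
  · exact (congr($(coprod.inr_desc c₁ c₂).app (q ⁻¹ᵁ U) (OmegaSh.pullSect q ΩY U (dY.app U s)))).trans (hc₂ U s)
  · refine coprod.hom_ext ?_ ?_
    · let adj := Scheme.Modules.pullbackPushforwardAdjunction p
      refine (adj.homEquiv _ _).injective (GrothLib.PPGen.hom_ext_universal hX _ _ fun U s => ?_)
      exact (congr($(adj.homEquiv_unit _ _ (coprod.inl ≫ u)).app U (dX.app U s))).trans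
        ((hu U s).trans (congr($(adj.homEquiv_unit _ _ (coprod.inl ≫ v)).app U (dX.app U s))).symm)
    · let adj := Scheme.Modules.pullbackPushforwardAdjunction q
      refine (adj.homEquiv _ _).injective (GrothLib.PPGen.hom_ext_universal hY _ _ fun U s => ?_)
      exact (congr($(adj.homEquiv_unit _ _ (coprod.inr ≫ u)).app U (dY.app U s))).trans
        ((hv U s).trans (congr($(adj.homEquiv_unit _ _ (coprod.inr ≫ v)).app U (dY.app U s))).symm)
  · subst wp
    refine (hD₁ (a ⁻¹ᵁ V) hz (a.app V t)).trans ?_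
    exact GrothLib.PPGen.DerFam.germ_zero_of_eq _ z (a ⁻¹ᵁ V) hz _
      (GrothLib.PPGen.DerFam.ofPullback_base p dX i₁ V t)

end Groth.Agent.S5023
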