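import Groth.Statements.S5024
import Groth.Agent.Lib.UnrMono.SmoothSerre

set_option autoImplicit false
universe u
open CategoryTheory CategoryTheory.Limits AlgebraicGeometry TopologicalSpace
open Unram17

namespace Groth.Agent.S5024

/-- Let Y be locally Noetherian and f : X ⟶ Y locally of finite type, smooth on an open neighbourhood of
a point x with image y. Then for every n the local ring of X at x has Serre's property (S_n),
respectively (R_n), if and only if the local ring of Y at y has it. -/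
theorem result {X Y : Scheme.{u}} (f : X ⟶ Y)
    [IsLocallyNoetherian Y] [LocallyOfFiniteType f] (x : ↥X)
    (hx : ∃ U : X.Opens, x ∈ U ∧ Smooth (U.ι ≫ f)) (n : ℕ) :
    (LocCoh.HasSk n ↑(X.presheaf.stalk x) ↑(X.presheaf.stalk x) ↔
        LocCoh.HasSk n ↑(Y.presheaf.stalk (f.base x)) ↑(Y.presheaf.stalk (f.base x))) ∧
      (LocCoh.HasRk n ↑(X.presheaf.stalk x) ↔ LocCoh.HasRk n ↑(Y.presheaf.stalk (f.base x))) := by
  obtain ⟨A, B, _, _, _, _, _, q, _, ⟨e₁⟩, ⟨e₂⟩⟩ := GrothLib.SmoothSerre.exists_chart f x hx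
  haveI : IsNoetherianRing B := Algebra.FiniteType.isNoetherianRing A B
  haveI : IsNoetherianRing (Localization.AtPrime q) := IsLocalization.isNoetherianRing q.primeCompl _ inferInstance
  haveI : IsNoetherianRing (Localization.AtPrime (q.under A)) := IsLocalization.isNoetherianRing (q.under A).primeCompl _ inferInstance
  haveI : IsNoetherianRing ↑(X.presheaf.stalk x) := isNoetherianRing_of_ringEquiv _ e₁
  haveI : IsNoetherianRing ↑(Y.presheaf.stalk (f.base x)) := isNoetherianRing_of_ringEquiv _ e₂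
  have hs := GrothLib.SmoothSerre.hasSk_iff (A := A) q n
  have hr := GrothLib.SmoothSerre.hasRk_iff (A := A) q n
  exact ⟨⟨fun h => GrothLib.SmoothSerre.hasSk_of_ringEquiv e₂ (hs.1 (GrothLib.SmoothSerre.hasSk_of_ringEquiv e₁.symm h)),
    fun h => GrothLib.SmoothSerre.hasSk_of_ringEquiv e₁ (hs.2 (GrothLib.SmoothSerre.hasSk_of_ringEquiv e₂.symm h))⟩,
    ⟨fun h => GrothLib.SmoothSerre.hasRk_of_ringEquiv e₂ (hr.1 (GrothLib.SmoothSerre.hasRk_of_ringEquiv e₁.symm h)),
    fun h => GrothLib.SmoothSerre.hasRk_of_ringEquiv e₁ (hr.2 (GrothLib.SmoothSerre.hasRk_of_ringEquiv e₂.symm h))⟩⟩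

end Groth.Agent.S5024
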