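import Groth.Statements.S5029
import Groth.Agent.Lib.RLpsi8.VBSmooth

set_option autoImplicit false
universe u
open CategoryTheory CategoryTheory.Limits AlgebraicGeometry TopologicalSpace
open Unram17

namespace Groth.Agent.S5029

/-- Let S be a scheme and E a quasi-coherent O_S-module that is finite locally free. If A is a
quasi-coherent O_S-algebra which is the symmetric algebra of E (through j : E ⟶ A), then the
structure morphism of the relative spectrum of A, i.e. of the vector bundle V(E), is smooth. -/
theorem result {S : Scheme.{u}} (E : S.Modules) (hE : Coh.IsQCoh E)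
    (hlf : FlatMod.IsFinLocFree E) (A : RelSpec.QCAlg S) (j : E ⟶ A.toModule) (hA : RelSpec.IsSymAlg E A j) :
    Smooth A.π := by
  exact RLpsi8.S5029 E hE hlf A j hA

end Groth.Agent.S5029
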