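import Groth.Statements.S5036
import Groth.Agent.Lib.FinEnv6.Stage
import Groth.Agent.Lib.EtBasicB.OverField
import Mathlib.AlgebraicGeometry.Morphisms.FlatMono
import Mathlib.AlgebraicGeometry.PullbackCarrier
import Mathlib.AlgebraicGeometry.Morphisms.FormallyUnramified
import Mathlib.AlgebraicGeometry.IdealSheaf.Functorial
-- import your own Groth.Agent.* helpers here

set_option autoImplicit false
open CategoryTheory CategoryTheory.Limits AlgebraicGeometry
universe u
open Hensel

namespace Groth.Agent.S5036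

/-- The hypothesis of lifting of clopen subsets forces every closed subset missing `S₀` to be empty. -/
theorem closed_eq_empty {S S₀ : Scheme.{u}} (i : S₀ ⟶ S)
    (ha : ∀ (S' : Scheme.{u}) (g : S' ⟶ S), IsFinite g →
      ∀ V : Set ↥(pullback g i), IsClopen V → ∃! U : Set ↥S', IsClopen U ∧ (pullback.fst g i).base ⁻¹' U = V)
    {T : Scheme.{u}} (π : T ⟶ S) [IsFinite π] {Z : Set T} (hZ : IsClosed Z)
    (h : Disjoint Z (π.base ⁻¹' Set.range i.base)) : Z = ∅ := by
  let I := Scheme.IdealSheafData.vanishingIdeal (⟨Z, hZ⟩ : TopologicalSpace.Closeds T)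
  have hr : Set.range I.subschemeι = Z := by
    rw [Scheme.IdealSheafData.range_subschemeι, Scheme.IdealSheafData.coe_support_vanishingIdeal]
    rfl
  have hemp : IsEmpty ↥(pullback (I.subschemeι ≫ π) i) := ⟨fun y => by
    have h1 : I.subschemeι ((pullback.fst (I.subschemeι ≫ π) i) y) ∈ Z := hr ▸ Set.mem_range_self _
    refine Set.disjoint_left.mp h h1 ⟨(pullback.snd (I.subschemeι ≫ π) i) y, ?_⟩
    rw [← Scheme.Hom.comp_apply, ← pullback.condition]
    rfl⟩
  have h1 := (ha _ (I.subschemeι ≫ π) inferInstance ∅ isClopen_empty).unique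
    (y₁ := (∅ : Set I.subscheme)) (y₂ := Set.univ) ⟨isClopen_empty, Set.eq_empty_of_isEmpty _⟩
    ⟨isClopen_univ, Set.eq_empty_of_isEmpty _⟩
  rw [← hr, Set.range_eq_empty_iff]
  exact Set.univ_eq_empty_iff.mp h1.symm

/-- A finite étale morphism which is an isomorphism over `S₀` is an isomorphism. -/
theorem isIso_of_isIso_snd {S S₀ W : Scheme.{u}} (i : S₀ ⟶ S) [IsClosedImmersion i]
    (ha : ∀ (S' : Scheme.{u}) (g : S' ⟶ S), IsFinite g →
      ∀ V : Set ↥(pullback g i), IsClopen V → ∃! U : Set ↥S', IsClopen U ∧ (pullback.fst g i).base ⁻¹' U = V)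
    (h : W ⟶ S) [IsFinite h] [Etale h] [IsIso (pullback.snd h i)] : IsIso h := by
  have key : ∀ {Q : Scheme.{u}} (a b : Q ⟶ W) (r : Q ⟶ S₀), a ≫ h = r ≫ i → b ≫ h = r ≫ i → a = b := by
    intro Q a b r ha hb
    have hh : pullback.lift a r ha = pullback.lift b r hb := by
      rw [← cancel_mono (pullback.snd h i), pullback.lift_snd, pullback.lift_snd]
    have h2 := congrArg (· ≫ pullback.fst h i) hh
    simpa only [pullback.lift_fst] using h2
  let π := pullback.fst h h ≫ h
  let m := pullback.fst π i
  have hab : m ≫ pullback.fst h h = m ≫ pullback.snd h h := by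
    refine key _ _ (pullback.snd π i) ?_ ?_
    · rw [Category.assoc]; exact pullback.condition
    · rw [Category.assoc, ← pullback.condition (f := h) (g := h)]; exact pullback.condition
  have hdiag : Set.range (pullback.diagonal h) = Set.univ := by
    have hopen : IsOpen (Set.range (pullback.diagonal h)) :=
      (pullback.diagonal h).isOpenEmbedding.isOpen_range
    refine Set.compl_empty_iff.mp (closed_eq_empty i ha π hopen.isClosed_compl ?_)
    rw [Set.disjoint_left]
    intro c hc hc'
    apply hc
    obtain ⟨y, rfl⟩ : c ∈ Set.range m := by rw [Scheme.Pullback.range_fst]; exact hc'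
    refine ⟨(m ≫ pullback.fst h h) y, ?_⟩
    rw [← Scheme.Hom.comp_apply, show (m ≫ pullback.fst h h) ≫ pullback.diagonal h = m from
      pullback.hom_ext (by simp) (by simpa using hab)]
  have : Surjective (pullback.diagonal h) := ⟨Set.range_eq_univ.mp hdiag⟩
  have : IsIso (pullback.diagonal h) := Flat.isIso_of_surjective_of_mono _
  have : Mono h := (pullback.isIso_diagonal_iff h).mp inferInstance
  have hsurj : Surjective h := by
    refine ⟨Set.range_eq_univ.mp (Set.compl_empty_iff.mp
      (closed_eq_empty i ha (𝟙 S) (IsOpenImmersion.of_flat_of_mono h).base_open.isOpen_range.isClosed_compl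
        ?_))⟩
    rw [Set.disjoint_left]
    rintro _ hs ⟨s₀, rfl⟩
    refine hs ⟨(inv (pullback.snd h i) ≫ pullback.fst h i) s₀, ?_⟩
    rw [← Scheme.Hom.comp_apply, Category.assoc, pullback.condition, IsIso.inv_hom_id_assoc]
  exact Flat.isIso_of_surjective_of_mono h

/-- A sufficiently small clopen of a finite envelope gives a section. -/
theorem exists_section {S S₀ : Scheme.{u}} (i : S₀ ⟶ S) [IsClosedImmersion i]
    [CompactSpace ↥S] [QuasiSeparatedSpace ↥S]
    (ha : ∀ (S' : Scheme.{u}) (g : S' ⟶ S), IsFinite g →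
      ∀ V : Set ↥(pullback g i), IsClopen V → ∃! U : Set ↥S', IsClopen U ∧ (pullback.fst g i).base ⁻¹' U = V)
    {X : Scheme.{u}} (g : X ⟶ S) [Etale g] [IsSeparated g] [QuasiCompact g]
    (a : S₀ ⟶ X) (ha₀ : a ≫ g = i) : ∃ u : S ⟶ X, u ≫ g = 𝟙 S ∧ i ≫ u = a := by
  have : LocallyQuasiFinite g := GrothLib.EtBasicB.locallyQuasiFinite_of_unramified g
  obtain ⟨T, j, π, hj, -, -, hπ, hjπ⟩ := GrothLib.FinEnv6.exists_finite_envelope g
  let w : S₀ ⟶ pullback g i := pullback.lift a (𝟙 _) (by rw [ha₀, Category.id_comp])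
  have : Etale (w ≫ pullback.snd g i) := by rw [pullback.lift_snd]; infer_instance
  have : Etale w := Etale.of_comp w (pullback.snd g i)
  have : Mono w := by
    have : Mono (w ≫ pullback.snd g i) := by rw [pullback.lift_snd]; infer_instance
    exact mono_of_mono w (pullback.snd g i)
  have : IsOpenImmersion w := IsOpenImmersion.of_flat_of_mono w
  let m : pullback g i ⟶ pullback π i :=
    pullback.lift (pullback.fst g i ≫ j) (pullback.snd g i) (by
      rw [Category.assoc, hjπ, pullback.condition])
  have hmc : IsPullback (pullback.fst g i) m j (pullback.fst π i) := by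
    refine IsPullback.of_bot ?_ (pullback.lift_fst _ _ _).symm (IsPullback.of_hasPullback π i).flip.flip
    have := IsPullback.of_hasPullback g i
    rw [← pullback.lift_snd (pullback.fst g i ≫ j) (pullback.snd g i)
      (by rw [Category.assoc, hjπ, pullback.condition])] at this
    simpa [m, hjπ] using this
  have : IsOpenImmersion m := MorphismProperty.of_isPullback (P := @IsOpenImmersion) hmc hj
  have hmf : m ≫ pullback.fst π i = pullback.fst g i ≫ j := pullback.lift_fst _ _ _
  have hms : m ≫ pullback.snd π i = pullback.snd g i := pullback.lift_snd _ _ _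
  have hwf : w ≫ pullback.fst g i = a := pullback.lift_fst _ _ _
  have hws : w ≫ pullback.snd g i = 𝟙 _ := pullback.lift_snd _ _ _
  let v : S₀ ⟶ pullback π i := w ≫ m
  have hv : v ≫ pullback.snd π i = 𝟙 _ := by rw [Category.assoc, hms, hws]
  have hVc : IsClopen (Set.range v) := by
    refine ⟨?_, v.isOpenEmbedding.isOpen_range⟩
    have : IsClosedImmersion (v ≫ pullback.snd π i) := by rw [hv]; infer_instance
    have : IsClosedImmersion v := IsClosedImmersion.of_comp v (pullback.snd π i)
    exact v.isClosedEmbedding.isClosed_range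
  obtain ⟨U, ⟨hU, hUV⟩, -⟩ := ha T π hπ _ hVc
  have hUj : U ⊆ Set.range j := by
    rw [← Set.diff_eq_empty]
    refine closed_eq_empty i ha π (hU.1.sdiff j.isOpenEmbedding.isOpen_range) ?_
    rw [Set.disjoint_left]
    rintro t ⟨htU, htj⟩ ht
    obtain ⟨q, rfl⟩ : t ∈ Set.range (pullback.fst π i) := by
      rw [Scheme.Pullback.range_fst]; exact ht
    obtain ⟨s, rfl⟩ : q ∈ Set.range v := hUV ▸ htU
    refine htj ⟨(w ≫ pullback.fst g i) s, ?_⟩
    rw [← Scheme.Hom.comp_apply, ← Scheme.Hom.comp_apply]
    rw [show (w ≫ pullback.fst g i) ≫ j = v ≫ pullback.fst π i by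
      rw [Category.assoc, Category.assoc, hmf]]
  let U' : X.Opens := j ⁻¹ᵁ ⟨U, hU.2⟩
  let h : (U' : Scheme.{u}) ⟶ S := U'.ι ≫ g
  have : IsClosedImmersion (U'.ι ≫ j) := by
    refine IsClosedImmersion.of_isPreimmersion _ ?_
    rw [Scheme.Hom.comp_base, TopCat.coe_comp, Set.range_comp, Scheme.Opens.range_ι]
    show IsClosed (j '' (j ⁻¹' U))
    rw [Set.image_preimage_eq_of_subset hUj]
    exact hU.1
  have : IsFinite h := by
    rw [show h = (U'.ι ≫ j) ≫ π by simp [h, hjπ]]
    infer_instance
  let w' : S₀ ⟶ pullback g i := w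
  have haU : Set.range a ⊆ U' := by
    rintro _ ⟨s, rfl⟩
    show j (a s) ∈ U
    have h1 : v s ∈ (pullback.fst π i).base ⁻¹' U := hUV ▸ Set.mem_range_self s
    have h2 : v ≫ pullback.fst π i = a ≫ j := by rw [Category.assoc, hmf, ← Category.assoc, hwf]
    rw [← Scheme.Hom.comp_apply, ← h2]
    exact h1
  let aU : S₀ ⟶ (U' : Scheme.{u}) := IsOpenImmersion.lift U'.ι a (by rwa [Scheme.Opens.range_ι])
  let z : S₀ ⟶ pullback h i := pullback.lift aU (𝟙 _) (by simp [aU, h, ha₀])
  let n : pullback h i ⟶ pullback g i :=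
    pullback.lift (pullback.fst h i ≫ U'.ι) (pullback.snd h i) (by
      rw [Category.assoc]; exact pullback.condition)
  have hnf : n ≫ pullback.fst g i = pullback.fst h i ≫ U'.ι := pullback.lift_fst _ _ _
  have hns : n ≫ pullback.snd g i = pullback.snd h i := pullback.lift_snd _ _ _
  have hzf : z ≫ pullback.fst h i = aU := pullback.lift_fst _ _ _
  have hzs : z ≫ pullback.snd h i = 𝟙 _ := pullback.lift_snd _ _ _
  have hzn : z ≫ n = w := by
    apply pullback.hom_ext
    · rw [Category.assoc, hnf, ← Category.assoc, hzf, IsOpenImmersion.lift_fac, hwf]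
    · rw [Category.assoc, hns, hzs, hws]
  have hnc : IsPullback (pullback.fst h i) n U'.ι (pullback.fst g i) := by
    refine IsPullback.of_bot ?_ (pullback.lift_fst _ _ _).symm (IsPullback.of_hasPullback g i)
    rw [hns]
    exact IsPullback.of_hasPullback h i
  have : IsOpenImmersion n := MorphismProperty.of_isPullback (P := @IsOpenImmersion) hnc inferInstance
  have : IsOpenImmersion z := by
    have : IsOpenImmersion (z ≫ n) := by rw [hzn]; infer_instance
    exact IsOpenImmersion.of_comp z n
  have : Surjective z := ⟨fun y => by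
    have h1 : m (n y) ∈ (pullback.fst π i).base ⁻¹' U := by
      show pullback.fst π i (m (n y)) ∈ U
      have h3 : n ≫ m ≫ pullback.fst π i = pullback.fst h i ≫ U'.ι ≫ j := by
        rw [hmf, ← Category.assoc, hnf, Category.assoc]
      rw [← Scheme.Hom.comp_apply, ← Scheme.Hom.comp_apply, h3, Scheme.Hom.comp_apply,
        Scheme.Hom.comp_apply]
      exact (pullback.fst h i y).2
    rw [hUV] at h1
    obtain ⟨s, hs⟩ := h1
    refine ⟨s, n.isOpenEmbedding.injective (m.isOpenEmbedding.injective ?_)⟩
    show m (n (z s)) = _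
    rw [← hs, ← Scheme.Hom.comp_apply z, hzn]
    rfl⟩
  have : IsIso z := (isIso_iff_isOpenImmersion_and_epi_base z).mpr
    ⟨inferInstance, (TopCat.epi_iff_surjective _).mpr z.surjective⟩
  have : IsIso (pullback.snd h i) := by
    have : IsIso (z ≫ pullback.snd h i) := by rw [pullback.lift_snd]; infer_instance
    exact IsIso.of_isIso_comp_left z _
  have : IsIso h := isIso_of_isIso_snd i ha h
  refine ⟨inv h ≫ U'.ι, by simp [h], ?_⟩
  have h4 : i = aU ≫ h := by simp [aU, h, ha₀]
  rw [h4, Category.assoc, IsIso.hom_inv_id_assoc, IsOpenImmersion.lift_fac]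



/-- a) implies b): let S be a quasi-compact quasi-separated scheme and i : S₀ ⟶ S a closed immersion.
Suppose that for every finite morphism g : S' ⟶ S, every open-closed subset of S' ×_S S₀ is the
inverse image under the first projection of exactly one open-closed subset of S'. Then for every
étale separated morphism g : S' ⟶ S and every section u₀ of S' ×_S S₀ ⟶ S₀ there is exactly one
section u of g whose restriction to S₀ is u₀ (that is, i ≫ u = u₀ followed by the first projection). -/
theorem result {S S₀ : Scheme.{u}} (i : S₀ ⟶ S) [IsClosedImmersion i]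
    [CompactSpace ↥S] [QuasiSeparatedSpace ↥S]
    (ha : ∀ (S' : Scheme.{u}) (g : S' ⟶ S), IsFinite g →
      ∀ V : Set ↥(pullback g i), IsClopen V → ∃! U : Set ↥S', IsClopen U ∧ (pullback.fst g i).base ⁻¹' U = V)
    {S' : Scheme.{u}} (g : S' ⟶ S) [Etale g] [IsSeparated g]
    (u₀ : S₀ ⟶ pullback g i) (hu₀ : u₀ ≫ pullback.snd g i = 𝟙 S₀) :
    ∃! u : S ⟶ S', u ≫ g = 𝟙 S ∧ i ≫ u = u₀ ≫ pullback.fst g i := by
  let a := u₀ ≫ pullback.fst g i
  have ha₀ : a ≫ g = i := by
    rw [Category.assoc, pullback.condition, ← Category.assoc, hu₀, Category.id_comp]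
  haveI : CompactSpace ↥S₀ := QuasiCompact.compactSpace_of_compactSpace i
  obtain ⟨K, hK, hK', haK, -⟩ := PrespectralSpace.exists_isCompact_and_isOpen_between
    (isCompact_range a.continuous) isOpen_univ (Set.subset_univ _)
  let W : S'.Opens := ⟨K, hK'⟩
  haveI : CompactSpace ↥(W : Scheme.{u}) := isCompact_iff_compactSpace.mp hK
  obtain ⟨u, hu, hiu⟩ := exists_section i ha (W.ι ≫ g)
    (IsOpenImmersion.lift W.ι a (by rwa [Scheme.Opens.range_ι])) (by simp [ha₀])
  refine ⟨u ≫ W.ι, ⟨by rw [Category.assoc, hu], by rw [← Category.assoc, hiu, IsOpenImmersion.lift_fac]⟩,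
    fun u' hu' => ?_⟩
  let c : S ⟶ pullback g g := pullback.lift u' (u ≫ W.ι) (by rw [hu'.1, Category.assoc, hu])
  have hopen : IsOpen (c ⁻¹' Set.range (pullback.diagonal g)) :=
    (pullback.diagonal g).isOpenEmbedding.isOpen_range.preimage c.continuous
  have hall : Set.range c ⊆ Set.range (pullback.diagonal g) := by
    have h1 := closed_eq_empty i ha (𝟙 S) hopen.isClosed_compl (by
      rw [Set.disjoint_left]
      rintro _ hs ⟨s₀, rfl⟩
      refine hs ⟨a s₀, ?_⟩
      rw [← Scheme.Hom.comp_apply]
      show _ = c (i s₀)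
      rw [← Scheme.Hom.comp_apply]
      rw [show a ≫ pullback.diagonal g = i ≫ c from pullback.hom_ext
        (by rw [Category.assoc, Category.assoc, Category.assoc, pullback.diagonal_fst,
          show c ≫ pullback.fst g g = u' from pullback.lift_fst _ _ _,
          Category.comp_id, hu'.2])
        (by rw [Category.assoc, Category.assoc, Category.assoc, pullback.diagonal_snd,
          show c ≫ pullback.snd g g = u ≫ W.ι from pullback.lift_snd _ _ _,
          Category.comp_id, ← Category.assoc i, hiu, IsOpenImmersion.lift_fac])])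
    rintro _ ⟨s, rfl⟩
    exact not_not.mp fun hn => (Set.eq_empty_iff_forall_notMem.mp h1 s) hn
  have hl := IsOpenImmersion.lift_fac (pullback.diagonal g) c hall
  have e1 := congrArg (fun f => f ≫ pullback.fst g g) hl
  have e2 := congrArg (fun f => f ≫ pullback.snd g g) hl
  simp only [Category.assoc, pullback.diagonal_fst, pullback.diagonal_snd, Category.comp_id, c,
    pullback.lift_fst, pullback.lift_snd] at e1 e2
  exact e1.symm.trans e2

end Groth.Agent.S5036
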