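import Groth.Statements.S5037
import Groth.Agent.Lib.ClopenHom13.Hom
import Groth.Agent.Lib.ClopenHom13.Two
-- import your own Groth.Agent.* helpers here

set_option autoImplicit false
open CategoryTheory CategoryTheory.Limits AlgebraicGeometry
universe u
open Hensel

namespace Groth.Agent.S5037

open MonoidalCategory CartesianMonoidalCategory GrothLib.ClopenHom13


/-- b) implies a'): let i : S₀ ⟶ S be a closed immersion. Suppose that for every étale separated
morphism g : S' ⟶ S and every section u₀ of S' ×_S S₀ ⟶ S₀ there is exactly one section u of g with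
i ≫ u = u₀ followed by the first projection. Then for every finite locally free morphism g : S' ⟶ S
(finite, flat and locally of finite presentation), every open-closed subset of S' ×_S S₀ is the
inverse image under the first projection of exactly one open-closed subset of S'. -/
theorem result {S S₀ : Scheme.{u}} (i : S₀ ⟶ S) [IsClosedImmersion i]
    (hb : ∀ (S' : Scheme.{u}) (g : S' ⟶ S), Etale g → IsSeparated g →
      ∀ u₀ : S₀ ⟶ pullback g i, u₀ ≫ pullback.snd g i = 𝟙 S₀ →
        ∃! u : S ⟶ S', u ≫ g = 𝟙 S ∧ i ≫ u = u₀ ≫ pullback.fst g i)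
    {S' : Scheme.{u}} (g : S' ⟶ S) [IsFinite g] [Flat g] [LocallyOfFinitePresentation g]
    (V : Set ↥(pullback g i)) (hV : IsClopen V) :
    ∃! U : Set ↥S', IsClopen U ∧ (pullback.fst g i).base ⁻¹' U = V := by
  let X : Over S := Over.mk g
  haveI : IsFinite X.hom := inferInstanceAs (IsFinite g)
  haveI : Flat X.hom := inferInstanceAs (Flat g)
  haveI : LocallyOfFinitePresentation X.hom := inferInstanceAs (LocallyOfFinitePresentation g)
  haveI : IsFinite (Two S).hom := inferInstanceAs (IsFinite (coprod.desc (𝟙 S) (𝟙 S)))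
  obtain ⟨M, ev, hM, hME, hMA⟩ := exists_hom_etale X (Two S)
  let T₀ : Over S := Over.mk i
  let O : Over S := Over.mk (𝟙 S)
  let ι₀ : T₀ ⟶ O := Over.homMk i (Category.comp_id i)
  obtain ⟨φ₀, hφ₀⟩ := exists_hom (Z := X ⊗ T₀) hV
  obtain ⟨v₀, hv₀, hv₀u⟩ := hM T₀ φ₀
  let u₀ : S₀ ⟶ pullback M.hom i := pullback.lift v₀.left (𝟙 _) ((Over.w v₀).trans (Category.id_comp i).symm)
  obtain ⟨σ, ⟨hσ, hσ₀⟩, hσu⟩ := hb M.left M.hom hME inferInstance u₀ (pullback.lift_snd _ _ _)
  let σ' : O ⟶ M := Over.homMk σ hσ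
  have hισ : ι₀ ≫ σ' = v₀ := Over.OverMorphism.ext (hσ₀.trans (pullback.lift_fst _ _ _))
  -- the product with the base
  let p : (X ⊗ O).left ⟶ S' := pullback.fst g (𝟙 S)
  let r : S' ⟶ (X ⊗ O).left := pullback.lift (𝟙 S') g ((Category.id_comp g).trans (Category.comp_id g).symm)
  have hpr : p ≫ r = 𝟙 _ := by
    apply pullback.hom_ext
    · rw [Category.assoc, pullback.lift_fst, Category.comp_id, Category.id_comp]
      rfl
    · rw [Category.assoc, pullback.lift_snd, Category.id_comp]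
      exact pullback.condition.trans (Category.comp_id _)
  have hrp : r ≫ p = 𝟙 _ := pullback.lift_fst _ _ _
  have hwl : (X ◁ ι₀).left = pullback.fst g i ≫ r := by
    apply pullback.hom_ext
    · rw [Category.assoc, pullback.lift_fst, Category.comp_id]
      exact congrArg (fun t => t.left) (whiskerLeft_fst X ι₀)
    · rw [Category.assoc, pullback.lift_snd]
      exact (congrArg (fun t => t.left) (whiskerLeft_snd X ι₀)).trans pullback.condition.symm
  let φ : X ⊗ O ⟶ Two S := (X ◁ σ') ≫ ev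
  have hφ : (X ◁ ι₀) ≫ φ = φ₀ := by
    rw [← Category.assoc, ← MonoidalCategory.whiskerLeft_comp, hισ, hv₀]
  refine ⟨(r ≫ φ.left).base ⁻¹' first S, ⟨(isClopen_first S).preimage (r ≫ φ.left).continuous, ?_⟩, ?_⟩
  · rw [← hφ₀, ← hφ]
    ext x
    change (pullback.fst g i ≫ r ≫ φ.left) x ∈ first S ↔ ((X ◁ ι₀).left ≫ φ.left) x ∈ first S
    rw [hwl, Category.assoc]
  · rintro U ⟨hU, hUV⟩
    obtain ⟨ψ, hψ⟩ := exists_hom (Z := X ⊗ O) (V := p.base ⁻¹' U) (hU.preimage p.continuous)
    obtain ⟨τ, hτ, -⟩ := hM O ψ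
    have hιψ : (X ◁ ι₀) ≫ ψ = φ₀ := by
      refine GrothLib.ClopenHom13.hom_ext ?_
      rw [hφ₀, ← hUV]
      ext x
      change ((X ◁ ι₀).left ≫ ψ.left) x ∈ first S ↔ _
      rw [hwl, Category.assoc]
      have := Set.ext_iff.1 hψ (r (pullback.fst g i x))
      refine this.trans ?_
      change (r ≫ p) (pullback.fst g i x) ∈ U ↔ _
      rw [hrp]
      rfl
    have hιτ : ι₀ ≫ τ = v₀ := hv₀u _ (by
      change (X ◁ (ι₀ ≫ τ)) ≫ ev = φ₀
      rw [MonoidalCategory.whiskerLeft_comp, Category.assoc, hτ, hιψ])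
    have hτσ : τ = σ' := Over.OverMorphism.ext (hσu τ.left ⟨Over.w τ,
      (congrArg (fun t => t.left) hιτ).trans (pullback.lift_fst _ _ _).symm⟩)
    have hψφ : ψ = φ := by rw [← hτ, hτσ]
    ext x
    change _ ↔ (r ≫ φ.left) x ∈ first S
    rw [← hψφ]
    refine Iff.trans ?_ (Set.ext_iff.1 hψ (r x)).symm
    change _ ↔ (r ≫ p) x ∈ U
    rw [hrp]
    rfl


end Groth.Agent.S5037
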