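import Groth.Statements.S5042
import Groth.Agent.S2045
import Groth.Agent.S2773
import Groth.Agent.Lib.GRingFT.J2Local
import Groth.Agent.Lib.Hensel.FormalFibres
import Groth.Agent.Lib.Ratliff.Excellent

set_option autoImplicit false
universe u
open Hensel

namespace Groth.Agent.S5042

/-- The henselization S of an excellent local ring R is excellent. -/
theorem result (R S : Type u) [CommRing R] [IsLocalRing R]
    [CommRing S] [IsLocalRing S] [Algebra R S] [IsLocalHom (algebraMap R S)] [Hensel.IsHenselization R S]
    (h : EGA4.IsExcellent R) : EGA4.IsExcellent S := by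
  haveI := h.1
  haveI : IsNoetherianRing S := (GrothLib.Hensel.IsHenselization.isNoetherianRing_iff (R := R) (S := S)).mp inferInstance
  exact ⟨inferInstance, Groth.Agent.S2773.result R S h.2.1, Groth.Agent.S2045.result h.2.2.1,
    GrothLib.GRingFT.isJ2_of_isRegularHom_completion S
      ((GrothLib.Hensel.IsHenselization.isRegularHom_completion_iff R S).2
        (GrothLib.Ratliff.isRegularHom_cpl_of_isGRing R h.2.2.1))⟩

end Groth.Agent.S5042
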