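import Groth.Statements.S5047
import Groth.Agent.Lib.UnrMono.FibreEtale
import Groth.Agent.Lib.AlgMisc.GeomRegAt
-- import your own Groth.Agent.* helpers here

set_option autoImplicit false
set_option linter.all false
set_option backward.isDefEq.respectTransparency false
open CategoryTheory AlgebraicGeometry
universe u
open Unram

namespace Groth.Agent.S5047

/-- Consider morphisms g : Y ⟶ S and h : X ⟶ S, both locally of finite presentation, where h is flat and
every local ring of every fibre of g is a normal domain (this holds, e.g., when g is smooth). Given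
an S-morphism f : X ⟶ Y, the morphism f is an open immersion exactly when it is a monomorphism and,
at each point x of X, the local dimension at x of the h-fibre containing x coincides with the local
dimension at f x of the g-fibre containing f x. -/
theorem result {X Y S : Scheme.{u}} (g : Y ⟶ S) (h : X ⟶ S)
    [LocallyOfFinitePresentation g] [LocallyOfFinitePresentation h] [Flat h]
    (hnorm : ∀ y : Y, IsDomain ((g.fiber (g.base y)).presheaf.stalk (g.asFiber y)) ∧
      IsIntegrallyClosed ((g.fiber (g.base y)).presheaf.stalk (g.asFiber y)))
    (f : X ⟶ Y) (w : f ≫ g = h) :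
    IsOpenImmersion f ↔ (Mono f ∧ ∀ x : X, FlatMor.fibreDimAt h x = FlatMor.fibreDimAt g (f.base x)) := by
  subst w
  haveI : LocallyOfFinitePresentation f :=
    GrothLib.DiagGrp.lfp_of_comp_of_lft f g inferInstance inferInstance
  have key := fun x : ↥X =>
    GrothLib.UnrMono.etale_nhd_iff_fibreDimAt f g x (Flat.stalkMap (f ≫ g) x) (hnorm (f x))
  constructor
  · intro hg
    exact ⟨inferInstance, fun x => ((key x).1 ⟨⊤, trivial, inferInstance⟩).2⟩
  · rintro ⟨hm, hdim⟩
    have het : ∀ x : ↥X, ∃ U : X.Opens, x ∈ U ∧ Etale (U.ι ≫ f) := fun x =>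
      (key x).2 ⟨⟨⊤, trivial, inferInstance⟩, hdim x⟩
    choose U hxU hU using het
    haveI : Etale f := by
      haveI : IsZariskiLocalAtSource (@Etale : MorphismProperty Scheme.{u}) :=
        HasRingHomProperty.instIsZariskiLocalAtSource
      rw [IsZariskiLocalAtSource.iff_of_iSup_eq_top (P := @Etale) U
        (top_le_iff.mp fun x _ => TopologicalSpace.Opens.mem_iSup.mpr ⟨x, hxU x⟩)]
      exact hU
    exact IsOpenImmersion.of_flat_of_mono f

end Groth.Agent.S5047
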