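import Groth.Statements.S5050
-- import your own Groth.Agent.* helpers here
import Mathlib.RingTheory.Filtration


set_option autoImplicit false
universe u v
open CInt

namespace Groth.Agent.S5050

/-- Let A be a Noetherian ring, N a finitely generated A-module, E and F submodules of N and Q an ideal
of A. For every natural number k there is h > 0 with E ⊓ (F ⊔ Q^h N) ≤ (E ⊓ F) ⊔ Q^k N. -/
theorem result {A : Type u} [CommRing A] [IsNoetherianRing A] {N : Type v} [AddCommGroup N]
    [Module A N] [Module.Finite A N] (E F : Submodule A N) (Q : Ideal A) (k : ℕ) :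
    ∃ h : ℕ, 0 < h ∧ E ⊓ (F ⊔ Q ^ h • (⊤ : Submodule A N)) ≤ (E ⊓ F) ⊔ Q ^ k • (⊤ : Submodule A N) := by
  obtain ⟨c, hc⟩ := Ideal.exists_pow_inf_eq_pow_smul Q (E.map F.mkQ)
  refine ⟨c + k + 1, by omega, fun e he => ?_⟩
  obtain ⟨heE, heF⟩ := he
  obtain ⟨f, hf, q, hq, hfq⟩ := Submodule.mem_sup.mp heF
  have h1 : F.mkQ e ∈ Q ^ k • E.map F.mkQ := by
    have h2 : F.mkQ e ∈ Q ^ (c + k + 1) • (⊤ : Submodule A (N ⧸ F)) ⊓ E.map F.mkQ := by
      refine ⟨?_, ⟨e, heE, rfl⟩⟩
      have : F.mkQ e = F.mkQ q := by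
        rw [← hfq, map_add, show F.mkQ f = 0 from (Submodule.Quotient.mk_eq_zero F).mpr hf, zero_add]
      rw [this]
      have h3 : F.mkQ q ∈ (Q ^ (c + k + 1) • (⊤ : Submodule A N)).map F.mkQ := ⟨q, hq, rfl⟩
      rw [Submodule.map_smul'', Submodule.map_top, Submodule.range_mkQ] at h3
      exact h3
    rw [hc (c + k + 1) (by omega)] at h2
    exact Submodule.smul_mono (Ideal.pow_le_pow_right (by omega)) inf_le_right h2
  rw [← Submodule.map_smul''] at h1
  obtain ⟨e', he', hee⟩ := h1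
  refine Submodule.mem_sup.mpr ⟨e - e', ⟨sub_mem heE (Submodule.smul_le_right he'), ?_⟩, e',
    Submodule.smul_mono le_rfl le_top he', sub_add_cancel e e'⟩
  exact (Submodule.Quotient.eq F).mp hee.symm


end Groth.Agent.S5050
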