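import Groth.Statements.S5053
import Groth.Agent.Lib.EtaleCount.Basic


set_option autoImplicit false
open CategoryTheory CategoryTheory.Limits AlgebraicGeometry
universe u
open Unram

namespace Groth.Agent.S5053

/-- Let Y be a connected scheme and f : X ⟶ Y étale, separated and of finite type. Then f is finite if
and only if all geometric fibres of f have the same number of points. -/
theorem result {X Y : Scheme.{u}} [ConnectedSpace ↥Y] (f : X ⟶ Y)
    [Etale f] [IsSeparated f] [LocallyOfFiniteType f] [QuasiCompact f] :
    IsFinite f ↔ ∃ n : ℕ∞, ∀ y : Y, ENat.card ↥(MoreMor.geomFiber f y) = n := by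
  haveI : Nonempty ↥Y := ConnectedSpace.toNonempty
  constructor
  · intro hfin
    let y₀ := Classical.arbitrary ↥Y
    refine ⟨(f.finrank y₀ : ℕ), fun y => ?_⟩
    rw [GrothLib.EtaleCount.card_geomFiber_eq_finrank f y,
      (Scheme.Hom.isLocallyConstant_finrank f).apply_eq_of_preconnectedSpace y y₀]
  · rintro ⟨n, hn⟩
    haveI : LocallyQuasiFinite f := GrothLib.Weight.locallyQuasiFinite_of_formallyUnramified f
    let y := Classical.arbitrary ↥Y
    haveI : DiscreteTopology ↥(MoreMor.geomFiber f y) := GrothLib.Weight.discreteTopology_geomFiber f y
    haveI : CompactSpace ↥(MoreMor.geomFiber f y) := by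
      haveI : QuasiCompact (f.fiberToSpecResidueField y) := inferInstanceAs (QuasiCompact (pullback.snd f (Y.fromSpecResidueField y)))
      let s := Spec.map (CommRingCat.ofHom
        (algebraMap (Y.residueField y) (SeparableClosure (Y.residueField y))))
      have hqs : QuasiCompact (pullback.snd (f.fiberToSpecResidueField y) s) := inferInstance
      have hc : CompactSpace ↥(Spec (CommRingCat.of (SeparableClosure (Y.residueField y)))) :=
        inferInstanceAs (CompactSpace (PrimeSpectrum (SeparableClosure (Y.residueField y))))
      exact @QuasiCompact.compactSpace_of_compactSpace _ _ (pullback.snd (f.fiberToSpecResidueField y) s) hqs hc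
    haveI : Finite ↥(MoreMor.geomFiber f y) := finite_of_compact_of_discrete
    have hy := hn y
    rw [ENat.card_eq_coe_natCard] at hy
    exact GrothLib.EtaleCount.isFinite_of_card_eq (Nat.card ↥(MoreMor.geomFiber f y)) f fun z => by
      rw [hn z, ← hy]

end Groth.Agent.S5053
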