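import Groth.Statements.S5056
import Groth.Agent.S2811
import Groth.Agent.S2641
import Groth.Agent.Lib.N2.LocalCriterion
import Groth.Agent.Lib.Hensel.TensorIntegral
import Groth.Agent.Lib.QSect21.Finite
import Groth.Agent.Lib.NormalHom.Colimit
import Groth.Agent.Lib.Excellent.FormalFibres
import Groth.Agent.Lib.Excellent.NorFiniteType
-- import your own Groth.Agent.* helpers here

set_option autoImplicit false
universe u
open Hensel

namespace Groth.Agent.S5056


section Aux

open TensorProduct IsLocalRing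

theorem exists_injective_tensor_completion {A : Type u} [CommRing A] [IsLocalRing A] [IsNoetherianRing A]
    (S : Type u) [CommRing S] [Algebra A S] [IsLocalRing S] [IsLocalHom (algebraMap A S)] [Module.Finite A S] :
    ∃ f : AdicCompletion (maximalIdeal A) A ⊗[A] S →+* AdicCompletion (maximalIdeal S) S, Function.Injective f := by
  haveI : IsNoetherianRing S := IsNoetherianRing.of_finite A S
  let B := AdicCompletion (maximalIdeal A) A ⊗[A] S
  have hle : ∀ n, (maximalIdeal A ^ n).map (algebraMap A S) ≤ maximalIdeal S ^ n := fun n => by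
    rw [Ideal.map_pow]
    exact Ideal.pow_right_mono (((local_hom_TFAE (algebraMap A S)).out 0 2 rfl rfl).1 inferInstance) n
  let f : ∀ n, B →+* S ⧸ maximalIdeal S ^ n := fun n =>
    (Ideal.Quotient.factor (hle n)).comp (GrothLib.N2.piMap S n (A := A)).toRingHom
  have hf : ∀ {m n : ℕ} (h : m ≤ n), (Ideal.Quotient.factorPow (maximalIdeal S) h).comp (f n) = f m :=
    fun {m n} h => RingHom.ext fun z => by
      show Ideal.Quotient.factor (Ideal.pow_le_pow_right h) (Ideal.Quotient.factor (hle n) (GrothLib.N2.piMap S n z)) =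
        Ideal.Quotient.factor (hle m) (GrothLib.N2.piMap S m z)
      rw [← GrothLib.N2.piMap_factor S h z]
      obtain ⟨s, hs⟩ := Ideal.Quotient.mk_surjective (GrothLib.N2.piMap S n z)
      rw [← hs]
      simp
  let Ψ := AdicCompletion.liftRingHom (maximalIdeal S) f hf
  refine ⟨Ψ, (injective_iff_map_eq_zero _).2 fun z hz => ?_⟩
  obtain ⟨c, hc⟩ : ∃ c : ℕ, maximalIdeal S ^ c ≤ (maximalIdeal A).map (algebraMap A S) := by
    refine Ideal.exists_pow_le_of_le_radical_of_fg ?_ (IsNoetherian.noetherian _)
    rw [Ideal.radical_eq_sInf]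
    refine le_sInf fun P hP => ?_
    haveI := hP.2
    have h1 : P.comap (algebraMap A S) = maximalIdeal A :=
      ((maximalIdeal.isMaximal A).eq_of_le (Ideal.comap_ne_top _ hP.2.ne_top) (Ideal.map_le_iff_le_comap.1 hP.1)).symm
    haveI : P.IsMaximal := Ideal.isMaximal_of_isIntegral_of_isMaximal_comap P (h1 ▸ maximalIdeal.isMaximal A)
    exact (eq_maximalIdeal ‹_›).ge
  have hzn : ∀ n, GrothLib.N2.piMap S n z = 0 := by
    intro n
    have h1 := AdicCompletion.evalₐ_liftRingHom (maximalIdeal S) f hf ((c + 1) * n) z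
    rw [show Ψ z = AdicCompletion.liftRingHom (maximalIdeal S) f hf z from rfl] at hz
    rw [hz, map_zero] at h1
    obtain ⟨s, hs⟩ := Ideal.Quotient.mk_surjective (GrothLib.N2.piMap S ((c + 1) * n) z)
    have h2 : s ∈ maximalIdeal S ^ ((c + 1) * n) := by
      rw [← Ideal.Quotient.eq_zero_iff_mem]
      have h3 : f ((c + 1) * n) z = Ideal.Quotient.mk _ s := by
        show Ideal.Quotient.factor (hle _) (GrothLib.N2.piMap S _ z) = _
        rw [← hs, Ideal.Quotient.factor_mk]
      rw [← h3]; exact h1.symm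
    rw [← GrothLib.N2.piMap_factor S (Nat.le_mul_of_pos_left n (Nat.succ_pos c)) z, ← hs, Ideal.Quotient.factor_mk,
      Ideal.Quotient.eq_zero_iff_mem]
    have h4 : maximalIdeal S ^ ((c + 1) * n) ≤ (maximalIdeal A ^ n).map (algebraMap A S) := by
      rw [pow_mul, Ideal.map_pow]
      exact Ideal.pow_right_mono ((Ideal.pow_le_pow_right (Nat.le_succ c)).trans hc) n
    exact h4 h2
  haveI : IsNoetherianRing (AdicCompletion (maximalIdeal A) A) := inferInstance
  refine IsHausdorff.haus (I := maximalIdeal (AdicCompletion (maximalIdeal A) A))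
    (IsHausdorff.of_isLocalRing _ B (maximalIdeal.isMaximal _).ne_top) z fun n => ?_
  rw [SModEq.sub_mem, sub_zero]
  have h5 := GrothLib.N2.mem_of_piMap_eq_zero S n z (hzn n)
  rw [IsScalarTower.algebraMap_eq A (AdicCompletion (maximalIdeal A) A) B, ← Ideal.map_map, Ideal.map_pow,
    ← AdicCompletion.maximalIdeal_eq_map, ← Submodule.restrictScalars_mem (AdicCompletion (maximalIdeal A) A),
    ← Ideal.smul_top_eq_map] at h5
  exact h5


theorem mem_range_of_isIntegral (A : Type u) [CommRing A] [IsNoetherianRing A]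
    [HenselianLocalRing A] [IsDomain A] (h : EGA4.HasGeomNormalFormalFibres A) [IsDomain (EGA4.Cpl A)]
    (K L : Type u) [Field K] [Field L] [Algebra A K] [IsFractionRing A K]
    [Algebra (EGA4.Cpl A) L] [IsFractionRing (EGA4.Cpl A) L] [Algebra K L] [Algebra A L]
    [IsScalarTower A K L] [IsScalarTower A (EGA4.Cpl A) L] (y : L) (hy : IsIntegral A y) :
    y ∈ Set.range (algebraMap K L) := by
  classical
  let A' : Subalgebra A L := Algebra.adjoin A {y}
  haveI : Module.Finite A A' := Module.Finite.iff_fg.2 hy.fg_adjoin_singleton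
  haveI : IsDomain A' := inferInstance
  haveI : IsLocalRing A' := GrothLib.QSect21.isLocalRing_of_finite_domain A A'
  haveI : IsNoetherianRing A' := IsNoetherianRing.of_finite A A'
  haveI : IsLocalHom (algebraMap A A') := by
    refine ((local_hom_TFAE (algebraMap A A')).out 0 4).2 ?_
    haveI := Ideal.isMaximal_comap_of_isIntegral_of_isMaximal (R := A) (maximalIdeal A')
    exact eq_maximalIdeal ‹_›
  haveI : HenselianLocalRing A' := GrothLib.Hensel.henselianLocalRing_of_isIntegral_isLocalHom (R := A)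
  haveI : IsDomain (EGA4.Cpl A') := Groth.Agent.S2811.result A' (Groth.Agent.S2641.result A h A')
  obtain ⟨Ψ, hΨ⟩ := exists_injective_tensor_completion (A := A) A'
  haveI : IsDomain (EGA4.Cpl A ⊗[A] A') := hΨ.isDomain Ψ
  haveI : Module.Flat A (EGA4.Cpl A) := AdicCompletion.flat_of_isNoetherian _
  let Φ : EGA4.Cpl A ⊗[A] A' →ₐ[EGA4.Cpl A] L :=
    Algebra.TensorProduct.lift (Algebra.ofId (EGA4.Cpl A) L) A'.val fun _ _ => Commute.all _ _
  haveI : Algebra.IsIntegral (EGA4.Cpl A) (EGA4.Cpl A ⊗[A] A') := Algebra.IsIntegral.of_finite _ _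
  have hΦ : Function.Injective Φ := by
    haveI : (RingHom.ker Φ).IsPrime := RingHom.ker_isPrime _
    refine (RingHom.injective_iff_ker_eq_bot Φ).2 (Ideal.eq_bot_of_comap_eq_bot (R := EGA4.Cpl A) ?_)
    refine eq_bot_iff.2 fun c hc => ?_
    have : Φ (algebraMap (EGA4.Cpl A) _ c) = 0 := hc
    rw [AlgHom.commutes] at this
    exact IsFractionRing.injective (EGA4.Cpl A) L (this.trans (map_zero _).symm)
  by_contra hyK
  obtain ⟨c₁, c₂, hc₂, hyc⟩ := IsFractionRing.div_surjective (EGA4.Cpl A) y
  let y' : A' := ⟨y, Algebra.self_mem_adjoin_singleton A y⟩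
  let β : A × A →ₗ[A] A' := (LinearMap.toSpanSingleton A A' 1).coprod (LinearMap.toSpanSingleton A A' y')
  have hβ : Function.Injective β := by
    refine (injective_iff_map_eq_zero β).2 fun ⟨a, b⟩ hab => ?_
    have h' := congrArg (fun z : A' => (z : L)) hab
    simp [β, y', Algebra.smul_def] at h'
    rw [IsScalarTower.algebraMap_apply A K L a, IsScalarTower.algebraMap_apply A K L b] at h'
    by_cases hb : algebraMap A K b = 0
    · rw [hb, map_zero, zero_mul, add_zero] at h'
      simp only [map_eq_zero_iff _ (algebraMap K L).injective] at h'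
      exact Prod.ext (IsFractionRing.injective A K (h'.trans (map_zero _).symm))
        (IsFractionRing.injective A K (hb.trans (map_zero _).symm))
    · refine absurd ⟨-algebraMap A K a / algebraMap A K b, ?_⟩ hyK
      rw [map_div₀, map_neg, div_eq_iff ((map_ne_zero (algebraMap K L)).2 hb)]
      linear_combination -h'
  have hflat := Module.Flat.lTensor_preserves_injective_linearMap (M := EGA4.Cpl A) β hβ
  let z : EGA4.Cpl A ⊗[A] (A × A) := c₁ ⊗ₜ (1, 0) - c₂ ⊗ₜ (0, 1)
  have hz : LinearMap.lTensor (EGA4.Cpl A) β z = 0 := by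
    apply hΦ
    have hne : algebraMap (EGA4.Cpl A) L c₂ ≠ 0 := fun e =>
      nonZeroDivisors.ne_zero hc₂ (IsFractionRing.injective (EGA4.Cpl A) L (e.trans (map_zero _).symm))
    simp only [z, map_sub, LinearMap.lTensor_tmul, β, LinearMap.coprod_apply, LinearMap.toSpanSingleton_apply,
      one_smul, zero_smul, add_zero, zero_add, map_zero, Φ, Algebra.TensorProduct.lift_tmul]
    simp [Algebra.ofId_apply, y']
    rw [← hyc]
    field_simp
    ring
  have hz0 := hflat (hz.trans (map_zero _).symm)
  let p : A × A →ₗ[A] A := LinearMap.snd A A A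
  have h2 := congrArg (fun w => TensorProduct.rid A (EGA4.Cpl A) (LinearMap.lTensor (EGA4.Cpl A) p w)) hz0
  simp [z, p] at h2
  exact nonZeroDivisors.ne_zero hc₂ h2

theorem geomReduced_fractionField (A : Type u) [CommRing A] [IsNoetherianRing A]
    [IsLocalRing A] [IsDomain A] (h : EGA4.HasGeomNormalFormalFibres A) [IsDomain (EGA4.Cpl A)]
    (K L : Type u) [Field K] [Field L] [Algebra A K] [IsFractionRing A K]
    [Algebra (EGA4.Cpl A) L] [IsFractionRing (EGA4.Cpl A) L] [Algebra K L] [Algebra A L]
    [IsScalarTower A K L] [IsScalarTower A (EGA4.Cpl A) L] : Algebra.IsGeometricallyReduced K L := by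
  refine ⟨fun p _ => ?_⟩
  let Kb := AlgebraicClosure p.ResidueField
  haveI : IsScalarTower A K Kb := inferInstance
  let φ : (⊥ : Ideal A).ResidueField →+* Kb :=
    (algebraMap K Kb).comp (FractionRing.algEquiv A K |>.toRingEquiv.toRingHom.comp
      (FractionRing.algEquiv A (⊥ : Ideal A).ResidueField).symm.toRingEquiv.toRingHom)
  letI : Algebra (⊥ : Ideal A).ResidueField Kb := φ.toAlgebra
  haveI : IsScalarTower A (⊥ : Ideal A).ResidueField Kb := IsScalarTower.of_algebraMap_eq fun a => by
    rw [IsScalarTower.algebraMap_apply A K Kb]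
    show algebraMap K Kb (algebraMap A K a) = algebraMap K Kb ((FractionRing.algEquiv A K)
      ((FractionRing.algEquiv A (⊥ : Ideal A).ResidueField).symm (algebraMap A _ a)))
    rw [AlgEquiv.commutes, AlgEquiv.commutes]
  have hn : EGA4.IsNormalRing (Kb ⊗[A] EGA4.Cpl A) := GrothLib.Excellent.isNormalRing_congr
    (Algebra.TensorProduct.cancelBaseChange A (⊥ : Ideal A).ResidueField (⊥ : Ideal A).ResidueField Kb (EGA4.Cpl A)).toRingEquiv
    (GrothLib.NormalHom.isNormalRing_tensor_field (h ⊥) Kb)
  letI := Algebra.TensorProduct.rightAlgebra (R := A) (A := Kb) (B := EGA4.Cpl A)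
  let W := (Kb ⊗[A] EGA4.Cpl A) ⊗[EGA4.Cpl A] L
  haveI hW : _root_.IsReduced W := GrothLib.Excellent.isReduced_of_isNormalRing
    (GrothLib.Excellent.isNormalRing_isLocalization (T := W)
      (Algebra.algebraMapSubmonoid (Kb ⊗[A] EGA4.Cpl A) (nonZeroDivisors (EGA4.Cpl A))) hn)
  let e1 : W ≃+* Kb ⊗[A] L :=
    (Algebra.TensorProduct.comm (EGA4.Cpl A) (Kb ⊗[A] EGA4.Cpl A) L).toRingEquiv.trans
      (((Algebra.TensorProduct.congr (AlgEquiv.refl : L ≃ₐ[EGA4.Cpl A] L)
          ({ Algebra.TensorProduct.comm A Kb (EGA4.Cpl A) with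
              commutes' := fun c => by
                show Algebra.TensorProduct.comm A Kb (EGA4.Cpl A) (1 ⊗ₜ c) = c ⊗ₜ 1
                rw [Algebra.TensorProduct.comm_tmul] } :
            Kb ⊗[A] EGA4.Cpl A ≃ₐ[EGA4.Cpl A] EGA4.Cpl A ⊗[A] Kb)).toRingEquiv).trans
        ((Algebra.TensorProduct.cancelBaseChange A (EGA4.Cpl A) (EGA4.Cpl A) L Kb).toRingEquiv.trans
          (Algebra.TensorProduct.comm A L Kb).toRingEquiv))
  haveI : IsLocalization (nonZeroDivisors A) K := ‹IsFractionRing A K›
  haveI : _root_.IsReduced (Kb ⊗[A] L) := isReduced_of_injective e1.symm e1.symm.injective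
  exact isReduced_of_injective (IsLocalization.algebraTensorEquiv (nonZeroDivisors A) K Kb L).toRingEquiv (EquivLike.injective _)

end Aux


/-- Let A be a Noetherian henselian local domain whose formal fibres are geometrically normal, Â its
completion (an integral domain), K and L fraction fields of A and Â with L a K-algebra compatibly.
Then L is geometrically reduced over K (a separable extension) and every element of L algebraic over
K lies in K. -/
theorem result (A : Type u) [CommRing A] [IsNoetherianRing A]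
    [HenselianLocalRing A] [IsDomain A] (h : EGA4.HasGeomNormalFormalFibres A) [IsDomain (EGA4.Cpl A)]
    (K L : Type u) [Field K] [Field L] [Algebra A K] [IsFractionRing A K]
    [Algebra (EGA4.Cpl A) L] [IsFractionRing (EGA4.Cpl A) L] [Algebra K L] [Algebra A L]
    [IsScalarTower A K L] [IsScalarTower A (EGA4.Cpl A) L] :
    Algebra.IsGeometricallyReduced K L ∧ ∀ x : L, IsAlgebraic K x → x ∈ Set.range (algebraMap K L) := by
  refine ⟨geomReduced_fractionField A h K L, fun x hx => ?_⟩
  have hxA : IsAlgebraic A x := (IsFractionRing.isAlgebraic_iff A K L).2 hx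
  obtain ⟨a, ha, hint⟩ := hxA.exists_integral_multiple
  obtain ⟨k, hk⟩ := mem_range_of_isIntegral A h K L _ hint
  refine ⟨k / algebraMap A K a, ?_⟩
  rw [map_div₀, hk, ← IsScalarTower.algebraMap_apply, Algebra.smul_def, mul_div_assoc]
  have : algebraMap A L a ≠ 0 := by
    rw [IsScalarTower.algebraMap_apply A K L, Ne, map_eq_zero]
    exact fun e => ha (IsFractionRing.injective A K (e.trans (map_zero _).symm))
  field_simp

end Groth.Agent.S5056
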