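import Groth.Statements.S5057
import Mathlib.AlgebraicGeometry.IdealSheaf.Functorial
import Mathlib.AlgebraicGeometry.Morphisms.Finite
-- import your own Groth.Agent.* helpers here

set_option autoImplicit false
open CategoryTheory CategoryTheory.Limits AlgebraicGeometry
universe u
open Hensel

namespace Groth.Agent.S5057

/-- Let i : S₀ ⟶ S be a closed immersion such that for every finite morphism g : S' ⟶ S every
open-closed subset of S' ×_S S₀ is the inverse image under the first projection of exactly one
open-closed subset of S'. Then for every finite morphism g : S' ⟶ S, every open subset of S'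
containing the image of S' ×_S S₀ is all of S'. -/
theorem result {S S₀ : Scheme.{u}} (i : S₀ ⟶ S) [IsClosedImmersion i]
    (ha : ∀ (S' : Scheme.{u}) (g : S' ⟶ S), IsFinite g →
      ∀ V : Set ↥(pullback g i), IsClopen V → ∃! U : Set ↥S', IsClopen U ∧ (pullback.fst g i).base ⁻¹' U = V)
    {S' : Scheme.{u}} (g : S' ⟶ S) [IsFinite g] (U : Set ↥S') (hU : IsOpen U)
    (hU₀ : Set.range (pullback.fst g i).base ⊆ U) : U = Set.univ := by
  let I : S'.IdealSheafData := AlgebraicGeometry.Scheme.IdealSheafData.vanishingIdeal ⟨Uᶜ, hU.isClosed_compl⟩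
  have hrange : Set.range I.subschemeι = Uᶜ := by
    rw [AlgebraicGeometry.Scheme.IdealSheafData.range_subschemeι]
    exact AlgebraicGeometry.Scheme.IdealSheafData.coe_support_vanishingIdeal _
  have hempty : IsEmpty ↥(pullback (I.subschemeι ≫ g) i) := by
    refine ⟨fun z => ?_⟩
    let m : pullback (I.subschemeι ≫ g) i ⟶ pullback g i :=
      pullback.lift (pullback.fst _ _ ≫ I.subschemeι) (pullback.snd _ _)
        (by rw [Category.assoc, pullback.condition])
    have h1 : (pullback.fst g i).base (m.base z) ∈ U := hU₀ ⟨_, rfl⟩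
    have h2 : (pullback.fst g i).base (m.base z) = I.subschemeι ((pullback.fst (I.subschemeι ≫ g) i).base z) := by
      change (m ≫ pullback.fst g i) z = (pullback.fst (I.subschemeι ≫ g) i ≫ I.subschemeι) z
      rw [pullback.lift_fst]
    rw [h2] at h1
    have h3 : I.subschemeι ((pullback.fst (I.subschemeι ≫ g) i).base z) ∈ Uᶜ := hrange ▸ ⟨_, rfl⟩
    exact h3 h1
  obtain ⟨W, -, hW⟩ := ha I.subscheme (I.subschemeι ≫ g) inferInstance ∅ isClopen_empty
  have h1 := hW ∅ ⟨isClopen_empty, Set.preimage_empty⟩
  have h2 := hW Set.univ ⟨isClopen_univ, Set.eq_empty_of_isEmpty _⟩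
  have h3 : (Set.univ : Set ↥I.subscheme) = ∅ := h2.trans h1.symm
  refine Set.eq_univ_of_forall fun x => ?_
  by_contra hx
  obtain ⟨y, -⟩ := (hrange.symm ▸ hx : x ∈ Set.range I.subschemeι)
  exact (h3 ▸ Set.mem_univ y : y ∈ (∅ : Set ↥I.subscheme))

end Groth.Agent.S5057
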