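import Groth.Statements.S5058
import Groth.Agent.Lib.LimDescend.Scheme
import Groth.Agent.Lib.LimDescend.FgSub
import Groth.Agent.Lib.Hensel.Henselization
import Groth.Agent.Lib.Hensel.Noetherian

set_option autoImplicit false
open CategoryTheory CategoryTheory.Limits AlgebraicGeometry
universe u
open Hensel

namespace Groth.Agent.S5058

/-- Let A be a henselian local ring and f : X ⟶ Spec A a morphism of finite presentation. Then there
exist a Noetherian henselian local ring A₀, a local ring homomorphism φ : A₀ → A, a morphism of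
finite type f₀ : X₀ ⟶ Spec A₀ and a cartesian square exhibiting X as the base change of X₀ along
Spec φ. -/
theorem result (A : Type u) [CommRing A] [HenselianLocalRing A]
    {X : Scheme.{u}} (f : X ⟶ Spec (CommRingCat.of A)) [LocallyOfFinitePresentation f] [QuasiCompact f] [QuasiSeparated f] :
    ∃ (A₀ : Type u) (_ : CommRing A₀) (_ : HenselianLocalRing A₀) (_ : IsNoetherianRing A₀) (φ : A₀ →+* A) (_ : IsLocalHom φ)
      (X₀ : Scheme.{u}) (f₀ : X₀ ⟶ Spec (CommRingCat.of A₀)) (g : X ⟶ X₀),
      LocallyOfFiniteType f₀ ∧ QuasiCompact f₀ ∧ IsPullback g f f₀ (Spec.map (CommRingCat.ofHom φ)) := by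
  open GrothLib.LimDescend in
  haveI : ∀ S : (GrothLib.LimDescend.FgSub A)ᵒᵖ, IsAffine ((GrothLib.LimDescend.fgDiagram A).obj S) := fun S => by
    dsimp [GrothLib.LimDescend.fgDiagram]; infer_instance
  haveI : ∀ (S T : (GrothLib.LimDescend.FgSub A)ᵒᵖ) (h : S ⟶ T),
      IsAffineHom ((GrothLib.LimDescend.fgDiagram A).map h) := fun S T h => isAffineHom_of_isAffine _
  haveI : @LocallyOfFinitePresentation X (GrothLib.LimDescend.fgCone A).pt f := ‹LocallyOfFinitePresentation f›
  haveI : @QuasiCompact X (GrothLib.LimDescend.fgCone A).pt f := ‹QuasiCompact f›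
  haveI : @QuasiSeparated X (GrothLib.LimDescend.fgCone A).pt f := ‹QuasiSeparated f›
  obtain ⟨j, ⟨M⟩⟩ := GrothLib.LimDescend.exists_model (GrothLib.LimDescend.fgDiagram A)
    (GrothLib.LimDescend.fgCone A) (GrothLib.LimDescend.isLimitFgCone A) f
  let A₁ : Subalgebra ℤ A := j.unop.1
  haveI : Algebra.FiniteType ℤ A₁ := (Subalgebra.fg_iff_finiteType A₁).1 j.unop.2
  haveI : IsNoetherianRing A₁ := Algebra.FiniteType.isNoetherianRing ℤ A₁
  let p : Ideal A₁ := (IsLocalRing.maximalIdeal A).comap A₁.val.toRingHom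
  haveI : p.IsPrime := Ideal.IsPrime.comap _
  let L := Localization.AtPrime p
  haveI : IsNoetherianRing L := IsLocalization.isNoetherianRing p.primeCompl L inferInstance
  let l : L →+* A := IsLocalization.lift (M := p.primeCompl) (g := A₁.val.toRingHom) (fun s => by
    by_contra h
    exact s.2 h)
  haveI hl : IsLocalHom l := ⟨fun x hx => by
    obtain ⟨a, s, rfl⟩ := IsLocalization.exists_mk'_eq p.primeCompl x
    rw [IsLocalization.lift_mk'] at hx
    refine IsLocalization.AtPrime.isUnit_mk'_iff L p a s |>.2 ?_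
    exact fun ha => ha (isUnit_of_mul_isUnit_left hx)⟩
  let A₀ := GrothLib.Hensel.Hens L
  haveI : IsNoetherianRing A₀ :=
    (GrothLib.Hensel.IsHenselization.isNoetherianRing_iff (R := L) (S := A₀)).1 inferInstance
  obtain ⟨φ, hφ, -⟩ := Hensel.IsHenselization.universal (R := L) (S := A₀) A l hl
  have hφloc : IsLocalHom φ := by
    refine ((IsLocalRing.local_hom_TFAE φ).out 2 0 rfl rfl).mp ?_
    rw [← GrothLib.Hensel.IsHenselization.map_maximalIdeal (R := L) (S := A₀), Ideal.map_map, hφ]
    exact GrothLib.Hensel.map_le_maximalIdeal_of_isLocalHom hl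
  let ψ : Spec (CommRingCat.of A₀) ⟶ Spec (CommRingCat.of A₁) :=
    Spec.map (CommRingCat.ofHom ((algebraMap L A₀).comp (algebraMap A₁ L)))
  have hψ : Spec.map (CommRingCat.ofHom φ) ≫ ψ = Spec.map (CommRingCat.ofHom A₁.val.toRingHom) := by
    rw [← Spec.map_comp, ← CommRingCat.ofHom_comp, ← RingHom.comp_assoc, hφ,
      show l.comp (algebraMap A₁ L) = A₁.val.toRingHom from IsLocalization.lift_comp _]
  haveI := M.lfp
  haveI := M.qc
  let fM : M.obj ⟶ Spec (CommRingCat.of A₁) := M.hom
  haveI : LocallyOfFinitePresentation fM := M.lfp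
  haveI : QuasiCompact fM := M.qc
  have hM : IsPullback M.proj f fM (Spec.map (CommRingCat.ofHom A₁.val.toRingHom)) := M.isPullback
  let g : X ⟶ pullback fM ψ := pullback.lift M.proj (f ≫ Spec.map (CommRingCat.ofHom φ))
    (by rw [Category.assoc, hψ]; exact hM.w)
  refine ⟨A₀, inferInstance, inferInstance, inferInstance, φ, hφloc, pullback fM ψ,
    pullback.snd fM ψ, g, inferInstance, inferInstance, ?_⟩
  refine IsPullback.of_right ?_ (pullback.lift_snd _ _ _) (IsPullback.of_hasPullback fM ψ)
  rw [pullback.lift_fst, hψ]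
  exact hM

end Groth.Agent.S5058
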