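import Groth.Statements.S5059
import Groth.Agent.Lib.NormFlat.Criterion

set_option autoImplicit false
universe u
open CInt

namespace Groth.Agent.S5059

/-- a) iff c) in the Noetherian case: let A be a Noetherian ring, R an ideal of A, f_1, …, f_n elements
of the Jacobson radical of A whose images form a regular sequence on A/R, Q = R + (f_1, …, f_n), and
M a finitely generated A-module. Then every graded piece R^k M / R^(k+1) M is flat over A/R if and
only if, for every k, (R^k M / R^(k+1) M) ⊗ A/Q is flat over A/Q and f_1, …, f_n is a regular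
sequence on R^k M / R^(k+1) M. -/
theorem result (A : Type u) [CommRing A] [IsNoetherianRing A]
    (R : Ideal A) {n : ℕ} (f : Fin n → A) (hrad : ∀ i, f i ∈ (⊥ : Ideal A).jacobson)
    (hreg : RingTheory.Sequence.IsWeaklyRegular (A ⧸ R) (List.ofFn f))
    (M : Type u) [AddCommGroup M] [Module A M] [Module.Finite A M] :
    EGA4.IsNormallyFlat R M ↔
      ∀ k : ℕ, Module.Flat (A ⧸ (R ⊔ Ideal.span (Set.range f))) ((↥(R ^ k • (⊤ : Submodule A M)) ⧸ (R • (⊤ : Submodule A ↥(R ^ k • (⊤ : Submodule A M))))) ⧸ ((R ⊔ Ideal.span (Set.range f)) • (⊤ : Submodule A (↥(R ^ k • (⊤ : Submodule A M)) ⧸ (R • (⊤ : Submodule A ↥(R ^ k • (⊤ : Submodule A M)))))))) ∧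
        RingTheory.Sequence.IsWeaklyRegular (↥(R ^ k • (⊤ : Submodule A M)) ⧸ (R • (⊤ : Submodule A ↥(R ^ k • (⊤ : Submodule A M))))) (List.ofFn f) := by
  have hspan : Ideal.ofList (List.ofFn f) = Ideal.span (Set.range f) :=
    congrArg Ideal.span (Set.ext fun x => by simp [List.mem_ofFn])
  have : IsNoetherian A M := inferInstance
  have hmem : ∀ r ∈ List.ofFn f, r ∈ (⊥ : Ideal A).jacobson := fun r hr => by
    obtain ⟨i, rfl⟩ := List.mem_ofFn.1 hr
    exact hrad i
  constructor
  · intro h k
    have := h k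
    have h2 := GrothLib.NormFlat.regular_and_flat_quotient_of_flat
      (G := (↥(R ^ k • (⊤ : Submodule A M)) ⧸ (R • (⊤ : Submodule A ↥(R ^ k • (⊤ : Submodule A M))))))
      (List.ofFn f) hreg
    rw [hspan] at h2
    exact h2
  · intro h k
    obtain ⟨h1, h2⟩ := h k
    rw [← hspan] at h1
    exact GrothLib.NormFlat.flat_of_flat_quotient (List.ofFn f) hmem h2 h1

end Groth.Agent.S5059
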