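import Groth.Statements.S5060
import Groth.Agent.Lib.NormFlat.Chain

set_option autoImplicit false
universe u
open CInt

namespace Groth.Agent.S5060

open RingTheory.Sequence GrothLib.NormFlat in
theorem regS_of_localization_flat {A : Type u} [CommRing A] (R : Ideal A) (rs : List A)
    (hreg : IsWeaklyRegular (A ⧸ R) rs) (p : Ideal (A ⧸ R)) [p.IsPrime] (G : Type u) [AddCommGroup G] [Module A G]
    [Module (A ⧸ R) G] [IsScalarTower A (A ⧸ R) G]
    [Module.Flat (Localization.AtPrime p) (LocalizedModule p.primeCompl G)] :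
    RegS (p.primeCompl.comap (Ideal.Quotient.mk R)) rs G := by
  let B := A ⧸ R
  let Gp := LocalizedModule p.primeCompl G
  let Bp := Localization.AtPrime p
  have h1 : IsWeaklyRegular B (rs.map (algebraMap A B)) := (isWeaklyRegular_map_algebraMap_iff B B rs).2 hreg
  have h2 : IsWeaklyRegular Bp ((rs.map (algebraMap A B)).map (algebraMap B Bp)) :=
    h1.of_isLocalization Bp p.primeCompl
  have h3 : IsWeaklyRegular Gp ((rs.map (algebraMap A B)).map (algebraMap B Bp)) :=
    ((TensorProduct.rid Bp Gp).isWeaklyRegular_congr _).1 h2.isWeaklyRegular_lTensor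
  have h4 : IsWeaklyRegular Gp rs :=
    (isWeaklyRegular_map_algebraMap_iff B Gp rs).1 ((isWeaklyRegular_map_algebraMap_iff Bp Gp _).1 h3)
  let φ : G →ₗ[A] Gp := (LocalizedModule.mkLinearMap p.primeCompl G).restrictScalars A
  refine (SIso.regS_iff (φ := φ) ⟨fun x hx => ?_, fun y => ?_⟩ rs).2 (regS_of_isWeaklyRegular h4)
  · obtain ⟨⟨b, hb⟩, hbx⟩ :=
      (IsLocalizedModule.eq_zero_iff p.primeCompl (LocalizedModule.mkLinearMap p.primeCompl G)).1 hx
    obtain ⟨a, rfl⟩ := Ideal.Quotient.mk_surjective b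
    exact ⟨a, hb, (IsScalarTower.algebraMap_smul B a x).symm.trans hbx⟩
  · obtain ⟨⟨x, b, hb⟩, hby⟩ :=
      IsLocalizedModule.surj p.primeCompl (LocalizedModule.mkLinearMap p.primeCompl G) y
    obtain ⟨a, rfl⟩ := Ideal.Quotient.mk_surjective b
    exact ⟨a, hb, x, (IsScalarTower.algebraMap_smul B a y).symm.trans hby⟩

/-- a) iff d) in the Noetherian case: let A be a Noetherian ring, R an ideal, f_1, …, f_n elements of
the Jacobson radical of A forming a regular sequence on A/R and on every R^k/R^(k+1), Q = R + (f_1,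
…, f_n), and M a finitely generated A-module. Then every R^k M / R^(k+1) M is flat over A/R if and
only if every Q^k M / Q^(k+1) M is flat over A/Q and, for every associated prime p of A/Q viewed as
an (A/R)-module, every localized piece (R^k M / R^(k+1) M)_p is flat over (A/R)_p. -/
theorem result (A : Type u) [CommRing A] [IsNoetherianRing A]
    (R : Ideal A) {n : ℕ} (f : Fin n → A) (hrad : ∀ i, f i ∈ (⊥ : Ideal A).jacobson)
    (hreg : RingTheory.Sequence.IsWeaklyRegular (A ⧸ R) (List.ofFn f))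
    (hreggr : ∀ k : ℕ, RingTheory.Sequence.IsWeaklyRegular (↥(R ^ k • (⊤ : Submodule A A)) ⧸ (R • (⊤ : Submodule A ↥(R ^ k • (⊤ : Submodule A A))))) (List.ofFn f))
    (M : Type u) [AddCommGroup M] [Module A M] [Module.Finite A M] :
    EGA4.IsNormallyFlat R M ↔
      EGA4.IsNormallyFlat (R ⊔ Ideal.span (Set.range f)) M ∧
        ∀ (p : Ideal (A ⧸ R)) [p.IsPrime],
          p ∈ associatedPrimes (A ⧸ R) ((A ⧸ R) ⧸ Ideal.map (Ideal.Quotient.mk R) (R ⊔ Ideal.span (Set.range f))) →
            ∀ k : ℕ, Module.Flat (Localization.AtPrime p) (LocalizedModule p.primeCompl (↥(R ^ k • (⊤ : Submodule A M)) ⧸ (R • (⊤ : Submodule A ↥(R ^ k • (⊤ : Submodule A M)))))) := by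
  classical
  have hspan : Ideal.ofList (List.ofFn f) = Ideal.span (Set.range f) :=
    congrArg Ideal.span (Set.ext fun x => by simp [List.mem_ofFn])
  have hmem : ∀ r ∈ List.ofFn f, r ∈ (⊥ : Ideal A).jacobson := fun r hr => by
    obtain ⟨i, rfl⟩ := List.mem_ofFn.1 hr
    exact hrad i
  rw [← hspan]
  refine ⟨fun h => ⟨GrothLib.NormFlat.nflat_sup_ofList R hreg h, fun p _ _ k => ?_⟩, fun ⟨h, hloc⟩ => ?_⟩
  · have := h k
    exact Module.Flat.of_isLocalizedModule (Localization.AtPrime p) p.primeCompl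
      (LocalizedModule.mkLinearMap p.primeCompl _)
  · refine GrothLib.NormFlat.nflat_of_sup_ofList R hmem hreg h fun c hc => ?_
    let Q := R ⊔ Ideal.ofList (List.ofFn f)
    let Qb : Ideal (A ⧸ R) := Ideal.map (Ideal.Quotient.mk R) Q
    have hc' : (Submodule.Quotient.mk (Ideal.Quotient.mk R c) : (A ⧸ R) ⧸ Qb) ≠ 0 := fun h0 => hc (by
      have := (Submodule.Quotient.mk_eq_zero _).1 h0
      rwa [Ideal.mem_quotient_iff_mem le_sup_left] at this)
    obtain ⟨p, hp, hann⟩ := exists_le_isAssociatedPrime_of_isNoetherianRing (A ⧸ R) _ hc'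
    have := hp.isPrime
    refine ⟨p.primeCompl.comap (Ideal.Quotient.mk R), fun a ha hac => ha (hann ?_), fun k => ?_⟩
    · rw [Submodule.mem_colon_singleton, Submodule.mem_bot, ← Submodule.Quotient.mk_smul, Submodule.Quotient.mk_eq_zero,
        smul_eq_mul, ← map_mul]
      exact Ideal.mem_map_of_mem _ hac
    · have := hloc p hp k
      exact regS_of_localization_flat R _ hreg p _

end Groth.Agent.S5060
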