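import Groth.Statements.S5061
import Groth.Agent.Lib.FBase7.Models
import Groth.Agent.Lib.CKaehler2.Insep
import Mathlib.FieldTheory.IsPerfectClosure
import Mathlib.RingTheory.Noetherian.OfPrime
open scoped TensorProduct

set_option autoImplicit false
open scoped TensorProduct
universe u
open EGA418

namespace Groth.Agent.S5061

theorem isArtinianRing_of_nilpotent_maximal {R : Type u} [CommRing R] (I : Ideal R) (hI : I.FG)
    (hnil : I ≤ nilradical R) (h : IsField (R ⧸ I)) : IsArtinianRing R := by
  have hmax : I.IsMaximal := Ideal.Quotient.maximal_of_isField I h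
  have heq : ∀ P : Ideal R, P.IsPrime → P = I := fun P hP =>
    (hmax.eq_of_le hP.ne_top (hnil.trans (nilradical_le_prime P))).symm
  haveI : IsNoetherianRing R := IsNoetherianRing.of_prime fun P hP => heq P hP ▸ hI
  haveI : Ring.KrullDimLE 0 R := Ring.KrullDimLE.mk₀ fun P hP => (heq P hP).symm ▸ hmax
  exact isArtinianRing_iff_isNoetherianRing_krullDimLE_zero.2 ⟨inferInstance, inferInstance⟩

theorem quotient_ker_equiv {k X Y : Type u} [CommRing k] [CommRing X] [CommRing Y] [Algebra k X] [Algebra k Y]
    (f : X →ₐ[k] Y) (hf : Function.Surjective f) (I : Ideal X) (hI : RingHom.ker f = I) : Nonempty (X ⧸ I ≃+* Y) := by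
  subst hI
  exact ⟨(Ideal.quotientKerAlgEquivOfSurjective hf).toRingEquiv⟩

theorem quotient_map_includeRight {k : Type u} [Field k] (P : Type u) {A : Type u} [CommRing P] [CommRing A]
    [Algebra k P] [Algebra k A] (N : Ideal A) :
    Nonempty ((P ⊗[k] A) ⧸ N.map (Algebra.TensorProduct.includeRight (R := k) (A := P) (B := A)) ≃+*
      P ⊗[k] (A ⧸ N)) := by
  have h := Algebra.TensorProduct.lTensor_ker (A := P) (Ideal.Quotient.mkₐ k N) Ideal.Quotient.mk_surjective
  have hk : RingHom.ker (Ideal.Quotient.mkₐ k N) = N := Ideal.mk_ker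
  rw [hk] at h
  exact quotient_ker_equiv _ (TensorProduct.map_surjective Function.surjective_id Ideal.Quotient.mk_surjective) _ h

theorem isArtinianRing_perfect_tensor {k' P A : Type u} [Field k'] [Field P] [CommRing A]
    [Algebra k' P] [Algebra k' A] [IsPurelyInseparable k' P] [IsNoetherianRing A] [Nontrivial A]
    [Subsingleton (PrimeSpectrum A)] [Algebra.IsGeometricallyReduced k' (A ⧸ nilradical A)] :
    IsArtinianRing (P ⊗[k'] A) := by
  let N := nilradical A
  let ι : A →ₐ[k'] P ⊗[k'] A := Algebra.TensorProduct.includeRight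
  let I : Ideal (P ⊗[k'] A) := N.map ι
  have hI : I.FG := Ideal.FG.map (IsNoetherian.noetherian N : N.FG) _
  have hnil : I ≤ nilradical _ := Ideal.map_le_iff_le_comap.2 fun x hx =>
    mem_nilradical.2 ((mem_nilradical.1 hx).map ι)
  haveI : Algebra.IsAlgebraic k' P := Algebra.IsIntegral.isAlgebraic
  haveI : IsReduced (P ⊗[k'] (A ⧸ N)) := by
    haveI : IsReduced (AlgebraicClosure k' ⊗[k'] (A ⧸ N)) :=
      (Algebra.isGeometricallyReduced_field_iff k' (A ⧸ N)).1 inferInstance
    let j : P →ₐ[k'] AlgebraicClosure k' := IsAlgClosed.lift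
    exact isReduced_of_injective (Algebra.TensorProduct.map j (AlgHom.id k' (A ⧸ N)))
      (Module.Flat.rTensor_preserves_injective_linearMap (M := A ⧸ N) j.toLinearMap j.injective)
  haveI : Subsingleton (PrimeSpectrum (A ⧸ N)) :=
    (PrimeSpectrum.comap_injective_of_surjective (Ideal.Quotient.mk N) Ideal.Quotient.mk_surjective).subsingleton
  haveI : Subsingleton (PrimeSpectrum (P ⊗[k'] (A ⧸ N))) := by
    haveI : Subsingleton (PrimeSpectrum ((A ⧸ N) ⊗[k'] P)) :=
      (PrimeSpectrum.isHomeomorph_comap_of_isPurelyInseparable k' P (A ⧸ N)).injective.subsingleton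
    exact (PrimeSpectrum.comapEquiv (Algebra.TensorProduct.comm k' (A ⧸ N) P).toRingEquiv).toEquiv.symm.subsingleton
  haveI : Nontrivial (A ⧸ N) := Ideal.Quotient.nontrivial_iff.2 (by
    rw [Ne, Ideal.eq_top_iff_one]
    intro h1
    obtain ⟨n, hn⟩ := mem_nilradical.1 h1
    exact one_ne_zero (by rwa [one_pow] at hn))
  haveI : Nontrivial (P ⊗[k'] (A ⧸ N)) :=
    (Algebra.TensorProduct.includeRight_injective (R := k') (A := P) (B := A ⧸ N) (algebraMap k' P).injective).nontrivial
  refine isArtinianRing_of_nilpotent_maximal I hI hnil ?_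
  obtain ⟨e⟩ := quotient_map_includeRight (k := k') P N
  exact MulEquiv.isField (GrothLib.CKaehler2.isField_of_subsingleton (P ⊗[k'] (A ⧸ N))) e.toMulEquiv

/-- a) iff c): let k be a field of characteristic p > 0, P a perfect closure of k (a perfect field
purely inseparable over k) and K an extension field of k. Then the ring K ⊗_k P is Artinian if and
only if there exists a finite purely inseparable extension k' of k such that (k' ⊗_k K) modulo its
nilradical is geometrically reduced over k'. -/
theorem result (p : ℕ) [Fact p.Prime]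
    (k K : Type u) [Field k] [CharP k p] [Field K] [Algebra k K]
    (P : Type u) [Field P] [Algebra k P] [PerfectRing P p] [IsPRadical (algebraMap k P) p] :
    IsArtinianRing (K ⊗[k] P) ↔
      ∃ (k' : Type u) (_ : Field k') (_ : Algebra k k'), Module.Finite k k' ∧ IsPurelyInseparable k k' ∧
        Algebra.IsGeometricallyReduced k' ((k' ⊗[k] K) ⧸ nilradical (k' ⊗[k] K)) := by
  haveI : ExpChar k p := ExpChar.prime Fact.out
  haveI : CharP P p := charP_of_injective_algebraMap (algebraMap k P).injective p
  haveI : ExpChar P p := ExpChar.prime Fact.out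
  haveI hP : IsPurelyInseparable k P := (isPurelyInseparable_iff_pow_mem k p).2 fun x => by
    obtain ⟨n, y, hy⟩ := IsPRadical.pow_mem (algebraMap k P) p x
    exact ⟨n, y, hy⟩
  haveI : PerfectField P := PerfectRing.toPerfectField P p
  constructor
  · intro h
    haveI : IsNoetherianRing (K ⊗[k] P) := inferInstance
    haveI : IsNoetherianRing (P ⊗[k] K) :=
      isNoetherianRing_of_ringEquiv _ (Algebra.TensorProduct.comm k K P).toRingEquiv
    exact GrothLib.FBase7.exists_geometricallyReduced_model (k := k) P K
  · rintro ⟨k', _, _, hfin, hpi, hgr⟩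
    haveI : CharP k' p := charP_of_injective_algebraMap (algebraMap k k').injective p
    haveI : ExpChar k' p := ExpChar.prime Fact.out
    haveI : IsPRadical (algebraMap k k') p := by
      refine ⟨fun x => ?_, fun x hx => ?_⟩
      · exact (isPurelyInseparable_iff_pow_mem k p).1 hpi x
      · rw [(RingHom.injective_iff_ker_eq_bot _).1 (algebraMap k k').injective, Ideal.mem_bot] at hx
        exact hx ▸ Ideal.zero_mem _
    let j : k' →+* P := PerfectRing.lift (algebraMap k k') (algebraMap k P) p
    letI : Algebra k' P := j.toAlgebra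
    haveI : IsScalarTower k k' P :=
      IsScalarTower.of_algebraMap_eq fun x => (PerfectRing.lift_comp_apply (algebraMap k k') (algebraMap k P) p x).symm
    haveI : IsPurelyInseparable k' P := IsPurelyInseparable.tower_top k k' P
    haveI : IsNoetherianRing (k' ⊗[k] K) := by
      haveI : IsNoetherianRing (K ⊗[k] k') := IsNoetherianRing.of_finite K (K ⊗[k] k')
      exact isNoetherianRing_of_ringEquiv _ (Algebra.TensorProduct.comm k K k').toRingEquiv
    haveI : Nontrivial (k' ⊗[k] K) :=
      (Algebra.TensorProduct.includeRight_injective (R := k) (A := k') (B := K) (algebraMap k k').injective).nontrivial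
    haveI : Subsingleton (PrimeSpectrum (k' ⊗[k] K)) := by
      haveI : Subsingleton (PrimeSpectrum (K ⊗[k] k')) :=
        (PrimeSpectrum.isHomeomorph_comap_of_isPurelyInseparable k k' K).injective.subsingleton
      exact (PrimeSpectrum.comapEquiv (Algebra.TensorProduct.comm k K k').toRingEquiv).toEquiv.symm.subsingleton
    haveI := hgr
    haveI : IsArtinianRing (P ⊗[k'] (k' ⊗[k] K)) := isArtinianRing_perfect_tensor
    exact ((Algebra.TensorProduct.cancelBaseChange k k' P P K).toRingEquiv.trans
      (Algebra.TensorProduct.comm k P K).toRingEquiv).isArtinianRing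

end Groth.Agent.S5061
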