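import Groth.Statements.S5064
import Groth.Agent.Lib.EtLocal.Decomp
import Groth.Agent.Lib.EtLocal.LocallyMono
-- import your own Groth.Agent.* helpers here

set_option autoImplicit false
open CategoryTheory CategoryTheory.Limits AlgebraicGeometry
set_option backward.isDefEq.respectTransparency false
universe u
open Unram

namespace Groth.Agent.S5064

/-- Let f : X ⟶ Y be locally of finite presentation. If f is étale then there are étale morphisms g_a :
Y'_a ⟶ Y and opens U_a of the fibre products X ×_Y Y'_a whose images under the first projections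
cover X, such that each U_a ⟶ Y'_a (inclusion followed by the second projection) is an open
immersion. Conversely, the existence of such a family with the g_a only assumed flat implies that f
is étale. -/
theorem result {X Y : Scheme.{u}} (f : X ⟶ Y) [LocallyOfFinitePresentation f] :
    (Etale f → ∃ (ι : Type u) (Y' : ι → Scheme.{u}) (g : ∀ a, Y' a ⟶ Y) (U : ∀ a, (pullback f (g a)).Opens),
      (∀ a, Etale (g a)) ∧ (∀ x : X, ∃ a, x ∈ (pullback.fst f (g a)).base '' (U a : Set ↥(pullback f (g a)))) ∧
        ∀ a, IsOpenImmersion ((U a).ι ≫ pullback.snd f (g a))) ∧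
    ((∃ (ι : Type u) (Y' : ι → Scheme.{u}) (g : ∀ a, Y' a ⟶ Y) (U : ∀ a, (pullback f (g a)).Opens),
      (∀ a, Flat (g a)) ∧ (∀ x : X, ∃ a, x ∈ (pullback.fst f (g a)).base '' (U a : Set ↥(pullback f (g a)))) ∧
        ∀ a, IsOpenImmersion ((U a).ι ≫ pullback.snd f (g a))) → Etale f) := by
  refine ⟨fun hf => ?_, fun ⟨ι, Y', g, U, hg, hcov, hU⟩ => ?_⟩
  · haveI := hf
    have key : ∀ x : X, ∃ (Y' : Scheme.{u}) (g : Y' ⟶ Y) (U : (pullback f g).Opens),
        Etale g ∧ x ∈ (pullback.fst f g).base '' (U : Set ↥(pullback f g)) ∧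
          IsOpenImmersion (U.ι ≫ pullback.snd f g) := fun x => by
      obtain ⟨U, g, u, hg, hgu, P, hP⟩ := GrothLib.EtLocal.exists_parts_iso f (f x) (fun _ : Unit => x)
        (fun _ _ _ => rfl) (fun _ => rfl) (fun _ => ⟨⊤, trivial, inferInstance⟩)
      obtain ⟨w, hwx, hwu⟩ := Scheme.Pullback.exists_preimage_pullback (f := f) (g := g) x u hgu.symm
      obtain ⟨k, -, rfl⟩ := P.cover w () hwu hwx
      haveI := hP k
      exact ⟨U, g, P.V k, hg, ⟨_, P.mem k, hwx⟩, inferInstance⟩
    choose Y' g U hg hx hU using key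
    exact ⟨↥X, Y', g, U, hg, fun x => ⟨x, hx x⟩, hU⟩
  · haveI := hg
    haveI : FormallyUnramified f :=
      GrothLib.EtLocal.formallyUnramified_of_flat_locally_mono f g U hcov (fun a => by
        haveI := hU a
        infer_instance)
    haveI : Flat f := GrothLib.EtLocal.flat_of_flat_locally f g U hcov (fun a => by
      haveI := hU a
      infer_instance)
    exact Etale.of_formallyUnramified_of_flat f

end Groth.Agent.S5064
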