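import Groth.Statements.S5065
import Groth.Agent.Lib.UnrMono.Compositum

set_option autoImplicit false
universe u
open Unram

namespace Groth.Agent.S5065

/-- Let A ⊆ A' be integrally closed domains, L a field algebraic over the fraction field of A in which A
embeds and whose integral closure C over A is an étale A-algebra, and L₁ a field in which A' and L
both embed, compatibly over A, and which is generated as a field by the images of A' and L (a
compositum of L with the fraction field of A'; the map A' → L₁ is injective, so that the fraction
field of A' is a subfield of L₁). Then the integral closure of A' in L₁ is an étale A'-algebra and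
coincides with the A'-subalgebra generated by the image of C. -/
theorem result (A A' L L₁ : Type u) [CommRing A] [IsDomain A]
    [IsIntegrallyClosed A] [CommRing A'] [IsDomain A'] [IsIntegrallyClosed A'] [Algebra A A']
    [Field L] [Algebra A L] [Algebra.IsAlgebraic A L] (hinj : Function.Injective (algebraMap A L))
    [Algebra.Etale A ↥(integralClosure A L)]
    [Field L₁] [Algebra A' L₁] [Algebra L L₁] [Algebra A L₁] [IsScalarTower A A' L₁] [IsScalarTower A L L₁]
    (hinj' : Function.Injective (algebraMap A' L₁))
    (hgen : Subfield.closure (Set.range (algebraMap A' L₁) ∪ Set.range (algebraMap L L₁)) = ⊤) :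
    Algebra.Etale A' ↥(integralClosure A' L₁) ∧
      integralClosure A' L₁ = Algebra.adjoin A' ((algebraMap L L₁) '' {x : L | IsIntegral A x}) := by
  exact GrothLib.UnrMono.integralClosure_compositum A A' L L₁ hinj hinj' hgen

end Groth.Agent.S5065
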