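import Groth.Statements.S5066
import Groth.Agent.Lib.Hensel.Properties
import Groth.Agent.Lib.Hensel.Local
-- import your own Groth.Agent.* helpers here

set_option autoImplicit false
universe u
open Hensel

namespace Groth.Agent.S5066

/-- Case of a local ring, affine étale schemes: a local ring A with maximal ideal m is henselian if and
only if, for every finite A-algebra C and every étale A-algebra E, composing with the projection C →
C/mC is a bijection from the set of A-algebra homomorphisms E → C onto the set of A-algebra
homomorphisms E → C/mC. -/
theorem result (A : Type u) [CommRing A] [IsLocalRing A] :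
    HenselianLocalRing A ↔
      ∀ (C : Type u) [CommRing C] [Algebra A C] [Module.Finite A C] (E : Type u) [CommRing E] [Algebra A E] [Algebra.Etale A E],
        Function.Bijective (fun φ : E →ₐ[A] C =>
          (Ideal.Quotient.mkₐ A (Ideal.map (algebraMap A C) (IsLocalRing.maximalIdeal A))).comp φ) := by
  constructor
  · intro _ C _ _ _ E _ _ _
    have : HenselianRing C ((IsLocalRing.maximalIdeal A).map (algebraMap A C)) :=
      GrothLib.Hensel.henselianRing_of_isIntegral (IsLocalRing.maximalIdeal A) C
    rw [Function.bijective_iff_existsUnique]
    exact fun σ ↦ GrothLib.Hensel.existsUnique_algHom_lift σ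
  intro h
  refine GrothLib.Hensel.henselianLocalRing_of_henselianRing
    (GrothLib.Hensel.EtaleLift.henselianRing fun E _ _ _ σ ↦ ?_)
  have he : (IsLocalRing.maximalIdeal A).map (algebraMap A A) = IsLocalRing.maximalIdeal A := by simp
  obtain ⟨τ, hτ⟩ := (h A E).2 ((Ideal.quotientEquivAlgOfEq A he).symm.toAlgHom.comp σ)
  refine ⟨τ, AlgHom.ext fun x ↦ ?_⟩
  have h1 := congrArg (Ideal.quotientEquivAlgOfEq A he) (AlgHom.congr_fun hτ x)
  exact h1.trans ((Ideal.quotientEquivAlgOfEq A he).apply_symm_apply (σ x))
end Groth.Agent.S5066
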