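import Groth.Statements.S5067
import Groth.Agent.Lib.EtBasicB.OverField
import Mathlib.AlgebraicGeometry.Morphisms.FlatMono
import Mathlib.AlgebraicGeometry.Morphisms.Etale
-- import your own Groth.Agent.* helpers here

set_option autoImplicit false
open CategoryTheory AlgebraicGeometry
set_option backward.isDefEq.respectTransparency false
universe u
open Unram

open CategoryTheory CategoryTheory.Limits AlgebraicGeometry

namespace Groth.Agent.S5067

/-- Let f : X ⟶ Y be an étale separated morphism of integral schemes which maps the generic point of X
to the generic point of Y and induces a bijection between the residue fields of the generic points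
(f is birational). Then f is an open immersion. -/
theorem result {X Y : Scheme.{u}} [IsIntegral X] [IsIntegral Y]
    (f : X ⟶ Y) [Etale f] [IsSeparated f] (hgen : f.base (genericPoint X) = genericPoint Y)
    (hbir : Function.Bijective (f.residueFieldMap (genericPoint X)).hom) : IsOpenImmersion f := by
  haveI : LocallyQuasiFinite f := GrothLib.EtBasicB.locallyQuasiFinite_of_unramified f
  let q := f.residueFieldMap (genericPoint X)
  haveI : IsIso q := (ConcreteCategory.isIso_iff_bijective q).mpr hbir
  haveI : IsClosedImmersion (pullback.diagonal f) := IsSeparated.diagonal_isClosedImmersion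
  haveI hΔ : Surjective (pullback.diagonal f) := by
    constructor
    intro z
    obtain ⟨z', hz', hz'η⟩ := Flat.generalizingMap (pullback.fst f f) (genericPoint_specializes (pullback.fst f f z))
    let ξ := (pullback f f).fromSpecResidueField z'
    have hη1 : pullback.fst f f z' = genericPoint X := hz'η
    have hη2 : pullback.snd f f z' = genericPoint X := by
      have h1 : f (pullback.snd f f z') = genericPoint Y := by
        rw [← Scheme.Hom.comp_apply, ← pullback.condition, Scheme.Hom.comp_apply, hη1, hgen]
      exact ((f.isDiscrete_preimage_singleton (genericPoint Y)).eq_of_specializes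
        (genericPoint_specializes _) hgen h1).symm
    let a : Spec ((pullback f f).residueField z') ⟶ Spec (X.residueField (genericPoint X)) :=
      Spec.map ((X.residueFieldCongr hη1).inv ≫ (pullback.fst f f).residueFieldMap z')
    let b : Spec ((pullback f f).residueField z') ⟶ Spec (X.residueField (genericPoint X)) :=
      Spec.map ((X.residueFieldCongr hη2).inv ≫ (pullback.snd f f).residueFieldMap z')
    have ha : a ≫ X.fromSpecResidueField (genericPoint X) = ξ ≫ pullback.fst f f := by
      simp [a, ξ]
    have hb : b ≫ X.fromSpecResidueField (genericPoint X) = ξ ≫ pullback.snd f f := by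
      simp [b, ξ]
    have hab : a = b := by
      rw [← cancel_mono (Spec.map q), ← cancel_mono (Y.fromSpecResidueField _), Category.assoc,
        Category.assoc, Scheme.Hom.SpecMap_residueFieldMap_fromSpecResidueField, reassoc_of% ha,
        reassoc_of% hb, pullback.condition]
    have hξ : (a ≫ X.fromSpecResidueField (genericPoint X)) ≫ pullback.diagonal f = ξ := by
      apply pullback.hom_ext
      · rw [Category.assoc, pullback.diagonal_fst, Category.comp_id, ha]
      · rw [Category.assoc, pullback.diagonal_snd, Category.comp_id, hab, hb]
    obtain ⟨t⟩ : Nonempty (Spec ((pullback f f).residueField z')) := inferInstance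
    have hmem : z' ∈ Set.range (pullback.diagonal f) := by
      refine ⟨(a ≫ X.fromSpecResidueField (genericPoint X)) t, ?_⟩
      rw [← Scheme.Hom.comp_apply, hξ]
      exact Scheme.fromSpecResidueField_apply _ t
    exact hz'.mem_closed (pullback.diagonal f).isClosedEmbedding.isClosed_range hmem
  haveI : IsIso (pullback.diagonal f) :=
    (isIso_iff_isOpenImmersion_and_surjective _).mpr ⟨inferInstance, hΔ⟩
  haveI : Mono f := (pullback.isIso_diagonal_iff f).mp ‹_›
  exact IsOpenImmersion.of_flat_of_mono f

end Groth.Agent.S5067
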