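import Groth.Statements.S5068
import Groth.Agent.Lib.CIPres.TransReg

set_option autoImplicit false
universe u
open CInt

namespace Groth.Agent.S5068

/-- Suppose A and C are Noetherian local rings joined by a flat local homomorphism A → C whose closed
fibre C/m_A C is a regular local ring, and consider a local ring B obtained as a quotient of C by an
ideal J (encoded as a surjective C-algebra B, with J taken to be the kernel). The ideal J admits a
generating sequence that is transversally regular relative to A (each term a non-zero-divisor modulo
the previous ones, and every partial quotient C/(f_1, …, f_j) A-flat) exactly when two things hold: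
B is A-flat, and B/m_A B is a complete intersection (meaning its completion is a regular local ring
divided by a regular sequence). -/
theorem result (A C B : Type u) [CommRing A] [IsLocalRing A]
    [IsNoetherianRing A] [CommRing C] [IsLocalRing C] [IsNoetherianRing C] [Algebra A C] [IsLocalHom (algebraMap A C)]
    [Module.Flat A C] (hreg : IsRegularLocalRing (EGA4.FibRing A C))
    [CommRing B] [IsLocalRing B] [Algebra C B] [Algebra A B] [IsScalarTower A C B] [IsLocalHom (algebraMap A B)]
    (hsurj : Function.Surjective (algebraMap C B)) :
    (∃ rs : List C, Ideal.ofList rs = RingHom.ker (algebraMap C B) ∧ RegImm.IsTransRegularSeq A C rs) ↔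
      (Module.Flat A B ∧ Pi1.IsCompleteIntersection (EGA4.FibRing A B)) := by
  let J := RingHom.ker (algebraMap C B)
  haveI := hreg
  have hJ : J ≠ ⊤ := RingHom.ker_ne_top _
  let f : (C ⧸ J) ≃ₐ[A] B := Ideal.quotientKerAlgEquivOfSurjective (f := IsScalarTower.toAlgHom A C B) hsurj
  let e : EGA4.FibRing A (C ⧸ J) ≃+* EGA4.FibRing A B :=
    Ideal.quotientEquiv _ _ f.toRingEquiv (by
      show (IsLocalRing.maximalIdeal A).map (algebraMap A B) = ((IsLocalRing.maximalIdeal A).map (algebraMap A (C ⧸ J))).map f.toRingEquiv.toRingHom
      rw [Ideal.map_map]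
      exact congrArg (Ideal.map · _) (RingHom.ext fun a => (f.commutes a).symm))
  haveI : IsLocalRing (EGA4.FibRing A B) := IsLocalRing.of_surjective' (Ideal.Quotient.mk _) Ideal.Quotient.mk_surjective
  haveI : IsLocalRing (EGA4.FibRing A (C ⧸ J)) := e.symm.isLocalRing
  have hflat : Module.Flat A (C ⧸ J) ↔ Module.Flat A B :=
    ⟨fun _ => Module.Flat.of_linearEquiv f.symm.toLinearEquiv, fun _ => Module.Flat.of_linearEquiv f.toLinearEquiv⟩
  haveI : IsNoetherianRing B := isNoetherianRing_of_surjective _ _ _ hsurj
  rw [GrothLib.CIPres.exists_isTransRegularSeq_iff J hJ, hflat, GrothLib.CIPres.isCI_congr e]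

end Groth.Agent.S5068
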