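import Groth.Statements.S5069
import Mathlib.RingTheory.HopkinsLevitzki
-- import your own Groth.Agent.* helpers here

set_option autoImplicit false
universe u v
open Hensel

namespace Groth.Agent.S5069

/-- First assertion, phrased for the images of the inductive system: let B be a Noetherian commutative
ring and (C_i) a family of Artinian subrings of B, directed under inclusion, whose union is B. Then
B is an Artinian ring. -/
theorem result (B : Type u) [CommRing B] [IsNoetherianRing B]
    {ι : Type v} [Nonempty ι] (C : ι → Subring B) (hdir : Directed (fun a b => a ≤ b) C)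
    (hart : ∀ i, IsArtinianRing ↥(C i)) (hcov : ∀ b : B, ∃ i, b ∈ C i) : IsArtinianRing B := by
  refine isArtinianRing_iff_isNoetherianRing_krullDimLE_zero.mpr
    ⟨inferInstance, Ring.krullDimLE_zero_iff.mpr fun q hq ↦ ?_⟩
  obtain ⟨m, hm, hle⟩ := Ideal.exists_le_maximal q hq.ne_top
  suffices q = m by rwa [this]
  refine le_antisymm hle fun a ha ↦ ?_
  obtain ⟨i, hi⟩ := hcov a
  have := hart i
  have h1 : (q.comap (C i).subtype).IsMaximal :=
    have : (q.comap (C i).subtype).IsPrime := hq.comap _
    IsArtinianRing.isMaximal_of_isPrime _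
  exact (h1.eq_of_le (Ideal.IsPrime.ne_top (hm.isPrime.comap _)) (Ideal.comap_mono hle)).ge
    (show (⟨a, hi⟩ : C i) ∈ m.comap (C i).subtype from ha)

end Groth.Agent.S5069
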