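import Groth.Statements.S5071
import Groth.Agent.Lib.SeqKinds.BaseChange
import Groth.Agent.Lib.SeqKinds.Basic
import Groth.Agent.Lib.KoszulColon.Regular
import Groth.Agent.Lib.FlatCx.FlatSES
import Groth.Agent.Lib.FlatModel.Descent

set_option autoImplicit false
universe u
open CInt

set_option maxHeartbeats 2000000
set_option linter.style.haveILetI false
namespace Groth.Agent.S5071

/-- Let B be an A-algebra and J an ideal of B generated by a sequence which is transversally regular
relative to A. Then for n < m the module J^n/J^m is flat over A, and for every prime q of B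
containing J the localisation (J^n)_q is flat over A (modules regarded as A-modules by restriction
of scalars). -/
theorem result (A B : Type u) [CommRing A] [CommRing B] [Algebra A B]
    (rs : List B) (hrs : RegImm.IsTransRegularSeq A B rs) (n m : ℕ) (hnm : n < m) :
    Module.Flat A (RestrictScalars A B
      (↥(Ideal.ofList rs ^ n) ⧸ (Submodule.comap (Ideal.ofList rs ^ n).subtype (Ideal.ofList rs ^ m)))) ∧
      ∀ (q : Ideal B) [q.IsPrime], Ideal.ofList rs ≤ q →
        Module.Flat A (RestrictScalars A B (LocalizedModule q.primeCompl ↥(Ideal.ofList rs ^ n))) := by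
  obtain ⟨hreg, hflat⟩ := hrs
  set J := Ideal.ofList rs
  have hB : Module.Flat A B := by
    haveI := hflat 0 (Nat.zero_le _)
    exact Module.Flat.of_linearEquiv ((Submodule.quotEquivOfEqBot (Ideal.ofList (rs.take 0)) (by simp)).restrictScalars A).symm
  have hq : CAlgX.IsQuasiRegular rs.reverse.get :=
    GrothLib.SeqKinds.isQuasiRegular_of_isH1Regular _ (GrothLib.SeqKinds.isH1Regular_of_isKoszulRegularSeq _
      (GrothLib.KoszulColon.isKoszulRegularSeq_of_isWeaklyRegular _ (by rw [List.reverse_reverse]; exact hreg)))
  have hJ : Ideal.span (Set.range rs.reverse.get) = J := by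
    rw [Set.range_list_get]
    exact congrArg Ideal.span (Set.ext fun x => List.mem_reverse)
  have hJflat : Module.Flat A (B ⧸ Ideal.span (Set.range rs.reverse.get)) := by
    haveI := hflat rs.length le_rfl
    exact Module.Flat.of_linearEquiv ((Submodule.quotEquivOfEq (Ideal.span (Set.range rs.reverse.get))
      (Ideal.ofList (rs.take rs.length)) (by rw [hJ, List.take_length])).restrictScalars A)
  have hpow : ∀ k, Module.Flat A (B ⧸ J ^ k) := fun k => by
    haveI := GrothLib.SeqKinds.flat_quot_pow (R := A) _ hq k
    exact Module.Flat.of_linearEquiv ((Submodule.quotEquivOfEq (J ^ k) (Ideal.span (Set.range rs.reverse.get) ^ k)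
      (by rw [hJ])).restrictScalars A)
  have hle : J ^ m ≤ J ^ n := Ideal.pow_le_pow_right hnm.le
  haveI := hpow n
  haveI := hpow m
  haveI := hB
  have hN : Module.Flat A ↥(J ^ n) :=
    GrothLib.FlatCx.flat_of_exact_left (g := (J ^ n).subtype.restrictScalars A)
      (f := (Submodule.mkQ (J ^ n)).restrictScalars A) (J ^ n).injective_subtype (Submodule.mkQ_surjective _)
      (LinearMap.exact_subtype_mkQ (J ^ n))
  let C := Submodule.comap (J ^ n).subtype (J ^ m)
  let ι : (↥(J ^ n) ⧸ C) →ₗ[B] B ⧸ J ^ m := C.mapQ (J ^ m) (J ^ n).subtype le_rfl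
  let π : (B ⧸ J ^ m) →ₗ[B] B ⧸ J ^ n := Submodule.factor hle
  have hQ : Module.Flat A (↥(J ^ n) ⧸ C) := by
    refine GrothLib.FlatCx.flat_of_exact_left (g := ι.restrictScalars A) (f := π.restrictScalars A) ?_
      (Submodule.factor_surjective hle) ?_
    · rw [injective_iff_map_eq_zero]
      intro z hz
      obtain ⟨z, rfl⟩ := Submodule.Quotient.mk_surjective _ z
      exact (Submodule.Quotient.mk_eq_zero _).mpr ((Submodule.Quotient.mk_eq_zero (J ^ m)).mp hz : (z : B) ∈ J ^ m)
    · intro y
      obtain ⟨y, rfl⟩ := Submodule.Quotient.mk_surjective _ y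
      constructor
      · intro hy
        exact ⟨Submodule.Quotient.mk ⟨y, (Submodule.Quotient.mk_eq_zero _).mp hy⟩, rfl⟩
      · rintro ⟨z, hz⟩
        obtain ⟨z, rfl⟩ := Submodule.Quotient.mk_surjective _ z
        rw [← hz]
        exact (Submodule.Quotient.mk_eq_zero _).mpr z.2
  refine ⟨?_, fun q _ _ => ?_⟩
  · exact Module.Flat.of_linearEquiv (R := A) (M := ↥(J ^ n) ⧸ C)
      { toFun := fun x => RestrictScalars.addEquiv A B _ x
        invFun := fun x => (RestrictScalars.addEquiv A B _).symm x
        left_inv := fun x => rfl
        right_inv := fun x => rfl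
        map_add' := fun x y => map_add (RestrictScalars.addEquiv A B _) x y
        map_smul' := fun c x => by
          rw [RestrictScalars.addEquiv_map_smul, algebraMap_smul]; rfl }
  · haveI := GrothLib.FlatModel.flat_localizedModule (R := A) (A := B) (M := ↥(J ^ n)) q.primeCompl
    exact Module.Flat.of_linearEquiv (R := A) (M := LocalizedModule q.primeCompl ↥(J ^ n))
      { toFun := fun x => RestrictScalars.addEquiv A B _ x
        invFun := fun x => (RestrictScalars.addEquiv A B _).symm x
        left_inv := fun x => rfl
        right_inv := fun x => rfl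
        map_add' := fun x y => map_add (RestrictScalars.addEquiv A B _) x y
        map_smul' := fun c x => by
          rw [RestrictScalars.addEquiv_map_smul, algebraMap_smul]; rfl }

end Groth.Agent.S5071
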