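import Groth.Statements.S5072
import Groth.Agent.Lib.Hensel.StrictBase

set_option autoImplicit false
set_option backward.isDefEq.respectTransparency false
open scoped TensorProduct
universe u
open Hensel

namespace Groth.Agent.S5072

/-- Case of a local ring A and a local finite A-algebra B: let S be a strict henselization of A and T a
strict henselization of B. Then there is a maximal ideal q of B ⊗_A S such that T is isomorphic, as
a B-algebra, to the local ring (B ⊗_A S)_q. -/
theorem result (A B S T : Type u) [CommRing A] [IsLocalRing A]
    [CommRing B] [IsLocalRing B] [Algebra A B] [Module.Finite A B]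
    [CommRing S] [IsLocalRing S] [Algebra A S] [IsLocalHom (algebraMap A S)] [Hensel.IsStrictHenselization A S]
    [CommRing T] [IsLocalRing T] [Algebra B T] [IsLocalHom (algebraMap B T)] [Hensel.IsStrictHenselization B T] :
    ∃ (q : Ideal (B ⊗[A] S)) (_ : q.IsMaximal), Nonempty (Localization.AtPrime q ≃ₐ[B] T) := by
  haveI : Algebra.IsIntegral A B := Algebra.IsIntegral.of_finite A B
  haveI : IsLocalHom (algebraMap A B) :=
    ((IsLocalRing.local_hom_TFAE (algebraMap A B)).out 4 0 rfl rfl).mp
      (IsLocalRing.eq_maximalIdeal (Ideal.isMaximal_comap_of_isIntegral_of_isMaximal (R := A)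
        (IsLocalRing.maximalIdeal B)))
  haveI := GrothLib.Hensel.IsStrictHenselization.faithfullyFlat (R := A) (S := S)
  haveI : Nontrivial (B ⊗[A] S) := inferInstance
  obtain ⟨q, hq⟩ := Ideal.exists_maximal (B ⊗[A] S)
  haveI := hq
  obtain ⟨hl, hh⟩ := GrothLib.Hensel.isStrictHenselization_localization_tensor q
  exact ⟨q, hq, GrothLib.Hensel.IsStrictHenselization.nonempty_algEquiv (R := B)⟩

end Groth.Agent.S5072
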