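import Groth.Statements.S5073
import Mathlib.RingTheory.Ideal.MinimalPrime.Noetherian
import Mathlib.RingTheory.Ideal.MinimalPrime.Localization
-- import your own Groth.Agent.* helpers here

set_option autoImplicit false
universe u
open EGA418

namespace Groth.Agent.S5073

/-- Let A be a Noetherian local ring, p a prime ideal and x an element of A. Then there is an element x'
of A whose image in A_p equals that of x and which belongs to no minimal prime ideal of A not
contained in p. -/
theorem result (A : Type u) [CommRing A] [IsNoetherianRing A] [IsLocalRing A]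
    (p : Ideal A) [p.IsPrime] (x : A) :
    ∃ x' : A, algebraMap A (Localization.AtPrime p) x' = algebraMap A (Localization.AtPrime p) x ∧
      ∀ q ∈ minimalPrimes A, ¬ q ≤ p → x' ∉ q := by
  classical
  let f := algebraMap A (Localization.AtPrime p)
  let K := RingHom.ker f
  have hfin : {q ∈ minimalPrimes A | ¬ q ≤ p}.Finite :=
    (minimalPrimes.finite_of_isNoetherianRing A).subset fun q hq => hq.1
  have hK : ∀ q ∈ minimalPrimes A, ¬ q ≤ p → ¬ K ≤ q := by
    intro q hq hqp hle
    obtain ⟨a, ha, hap⟩ := Set.not_subset.mp hqp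
    haveI := hq.1.1
    obtain ⟨n, hn⟩ : algebraMap A (Localization.AtPrime q) a ∈
        ((⊥ : Ideal A).map (algebraMap A (Localization.AtPrime q))).radical := by
      rw [IsLocalization.AtPrime.radical_map_of_mem_minimalPrimes (A := Localization.AtPrime q) q ⊥ hq]
      exact Ideal.mem_map_of_mem _ ha
    rw [Ideal.map_bot, Ideal.mem_bot, ← map_pow,
      IsLocalization.map_eq_zero_iff q.primeCompl] at hn
    obtain ⟨⟨s, hsq⟩, hs'⟩ := hn
    have hs : s * a ^ n = 0 := hs'
    refine hsq (hle (RingHom.mem_ker.mpr ?_))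
    have hu := (IsLocalization.AtPrime.isUnit_to_map_iff (Localization.AtPrime p) p (a ^ n)).mpr
      (fun h => hap (Ideal.IsPrime.mem_of_pow_mem inferInstance n h))
    refine hu.mul_left_eq_zero.mp ?_
    rw [← map_mul, hs, map_zero]
  let Qs := hfin.toFinset
  let J : Ideal A := K ⊓ (Qs.filter (x ∉ ·)).inf id
  obtain ⟨y, hy, hyq⟩ : ∃ y ∈ J, ∀ q ∈ Qs.filter (x ∈ ·), y ∉ q := by
    have hnot : ¬ (J : Set A) ⊆ ⋃ q ∈ (↑(Qs.filter (x ∈ ·)) : Set (Ideal A)), (q : Set A) := by
      intro hsub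
      obtain ⟨q, hq, hle⟩ := (Ideal.subset_union_prime (f := id) ⊥ ⊥ fun i hi _ _ =>
        (hfin.mem_toFinset.mp (Finset.mem_filter.mp hi).1).1.1.1).mp hsub
      obtain ⟨hq1, hxq⟩ := Finset.mem_filter.mp hq
      obtain ⟨hqmin, hqp⟩ := hfin.mem_toFinset.mp hq1
      haveI := hqmin.1.1
      rcases (Ideal.IsPrime.inf_le hqmin.1.1).mp hle with h | h
      · exact hK q hqmin hqp h
      · obtain ⟨q', hq', hle'⟩ := (Ideal.IsPrime.inf_le' hqmin.1.1).mp h
        obtain ⟨hq'1, hxq'⟩ := Finset.mem_filter.mp hq'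
        have hq'min := (hfin.mem_toFinset.mp hq'1).1
        exact hxq' ((hqmin.2 ⟨hq'min.1.1, bot_le⟩ hle') hxq)
    simpa [Set.not_subset] using hnot
  refine ⟨x + y, ?_, fun q hq hqp hmem => ?_⟩
  · rw [map_add, RingHom.mem_ker.mp hy.1, add_zero]
  · have hqQ : q ∈ Qs := hfin.mem_toFinset.mpr ⟨hq, hqp⟩
    by_cases hxq : x ∈ q
    · exact hyq q (Finset.mem_filter.mpr ⟨hqQ, hxq⟩) (by simpa using q.sub_mem hmem hxq)
    · have hyq' : y ∈ q :=
        (Finset.inf_le (f := id) (Finset.mem_filter.mpr ⟨hqQ, hxq⟩) : _ ≤ id q) hy.2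
      exact hxq (by simpa using q.sub_mem hmem hyq')

end Groth.Agent.S5073
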