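import Groth.Statements.S5075
import Groth.Agent.S0076
-- import your own Groth.Agent.* helpers here

set_option autoImplicit false
open CategoryTheory AlgebraicGeometry
universe u
open Unram

namespace Groth.Agent.S5075
open CategoryTheory.Limits

/-- Let p : X ⟶ S be étale, g : S' ⟶ S a morphism and i : S'₀ ⟶ S' a surjective closed immersion (a
closed subscheme with the same underlying space). Then for every f₀ : S'₀ ⟶ X over S there is
exactly one f : S' ⟶ X over S with i ≫ f = f₀. -/
theorem result {X S S' S'₀ : Scheme.{u}} (p : X ⟶ S) [Etale p]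
    (g : S' ⟶ S) (i : S'₀ ⟶ S') [IsClosedImmersion i] [Surjective i]
    (f₀ : S'₀ ⟶ X) (h₀ : f₀ ≫ p = i ≫ g) :
    ∃! f : S' ⟶ X, f ≫ p = g ∧ i ≫ f = f₀ := by
  have hid : ∀ {T : Scheme.{u}} (k : T ⟶ S'), k ≫ 𝟙 S' = k := fun k ↦ Category.comp_id k
  have : Etale (Over.mk (pullback.snd p g)).hom := show Etale (pullback.snd p g) from inferInstance
  have h0 := GrothLib.EtSite.pullback_map_bijective i (Over.mk (pullback.snd p g)) (Over.mk (𝟙 S'))
  let A := (Over.pullback i).obj (Over.mk (𝟙 S'))
  let mkφ : ∀ f : S' ⟶ X, f ≫ p = g → (Over.mk (𝟙 S') ⟶ Over.mk (pullback.snd p g)) := fun f hf ↦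
    Over.homMk (pullback.lift f (𝟙 S') (hf.trans (Category.id_comp g).symm)) (pullback.lift_snd _ _ _)
  have hval : ∀ (f : S' ⟶ X) (hf : f ≫ p = g),
      ((Over.pullback i).map (mkφ f hf)).left ≫ pullback.fst _ _ ≫ pullback.fst _ _ =
        pullback.snd (𝟙 S') i ≫ i ≫ f := fun f hf ↦ by
    simp only [Over.pullback_map_left, pullback.lift_fst_assoc, Category.assoc]
    simp only [mkφ, Over.homMk_left, Over.mk_left, Category.assoc]
    erw [pullback.lift_fst]
    show pullback.fst (𝟙 S') i ≫ f = _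
    rw [show pullback.fst (𝟙 S') i = pullback.snd (𝟙 S') i ≫ i by
      rw [← pullback.condition, hid], Category.assoc]
  let ψ : (Over.pullback i).obj (Over.mk (𝟙 S')) ⟶ (Over.pullback i).obj (Over.mk (pullback.snd p g)) :=
    Over.homMk (pullback.lift (pullback.lift (pullback.snd _ _ ≫ f₀) (pullback.snd _ _ ≫ i)
      (by rw [Category.assoc, h₀, Category.assoc])) (pullback.snd _ _)
      (by exact pullback.lift_snd _ _ _)) (pullback.lift_snd _ _ _)
  obtain ⟨φ, hφ⟩ := h0.2 ψ
  have hsec : φ.left ≫ pullback.snd p g = 𝟙 S' := Over.w φ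
  have hp : (φ.left ≫ pullback.fst p g) ≫ p = g := by
    rw [Category.assoc, pullback.condition, ← Category.assoc, hsec]; exact Category.id_comp g
  have heq : ∀ (f : S' ⟶ X) (hf : f ≫ p = g), mkφ f hf = φ ↔ i ≫ f = f₀ := by
    intro f hf
    have hψ : ψ.left ≫ pullback.fst _ _ ≫ pullback.fst _ _ = pullback.snd (𝟙 S') i ≫ f₀ := by
      simp only [ψ, Over.homMk_left]
      erw [pullback.lift_fst_assoc, pullback.lift_fst]
      rfl
    constructor
    · intro h
      have h1 := hval f hf
      rw [h, show (Over.pullback i).map φ = ψ from hφ, hψ] at h1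
      exact ((cancel_epi _).mp h1).symm
    · intro h
      refine h0.1 (Eq.trans ?_ hφ.symm)
      refine Over.OverMorphism.ext (pullback.hom_ext (pullback.hom_ext ?_ ?_) ?_)
      · simp only [Category.assoc]
        exact ((hval f hf).trans (by rw [h])).trans hψ.symm
      · simp [mkφ, ψ, pullback.condition]
        erw [pullback.lift_snd_assoc, pullback.lift_snd_assoc]
      · simp [ψ]
        erw [pullback.lift_snd, pullback.lift_snd]
  have hφeq : mkφ _ hp = φ := Over.OverMorphism.ext (by
    refine pullback.hom_ext ?_ ?_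
    · exact pullback.lift_fst _ _ _
    · exact (pullback.lift_snd _ _ _).trans hsec.symm)
  refine ⟨φ.left ≫ pullback.fst p g, ⟨hp, (heq _ hp).mp hφeq⟩, fun f ⟨hf, hif⟩ ↦ ?_⟩
  rw [← (heq f hf).mpr hif]
  exact (pullback.lift_fst _ _ _).symm

end Groth.Agent.S5075
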