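import Groth.Statements.S5076
import Mathlib

set_option autoImplicit false
universe u
open Unram

namespace Groth.Agent.S5076

/-- Let A be a local ring with maximal ideal m, C a finite A-algebra, r a maximal ideal of C, and u an
element of C which lies in every maximal ideal of C other than r, does not lie in r, and whose image
generates C_r modulo m C_r as an A-algebra. Let B = A[u] be the A-subalgebra of C generated by u and
n the inverse image of r in B. Then the canonical homomorphism B_n → C_r is bijective. -/
theorem result (A C : Type u) [CommRing A] [IsLocalRing A]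
    [CommRing C] [Algebra A C] [Module.Finite A C] (r : Ideal C) [r.IsMaximal] (u : C)
    (hu₁ : ∀ r' : Ideal C, r'.IsMaximal → r' ≠ r → u ∈ r') (hu₂ : u ∉ r)
    (hu₃ : Subalgebra.toSubmodule (Algebra.adjoin A {algebraMap C (Localization.AtPrime r) u}) ⊔
        Submodule.restrictScalars A (Ideal.map (algebraMap A (Localization.AtPrime r)) (IsLocalRing.maximalIdeal A)) = ⊤) :
    Function.Bijective (Localization.localRingHom (Ideal.comap (Algebra.adjoin A ({u} : Set C)).val.toRingHom r) r
      (Algebra.adjoin A ({u} : Set C)).val.toRingHom rfl) := by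
  classical
  set B := Algebra.adjoin A ({u} : Set C)
  set n := Ideal.comap B.val.toRingHom r
  haveI : Algebra.IsIntegral A C := Algebra.IsIntegral.of_finite A C
  haveI : Algebra.IsIntegral B C := Algebra.IsIntegral.tower_top (R := A)
  haveI : Module.Finite B C := Module.Finite.of_restrictScalars_finite A B C
  have hn : n = r.comap (algebraMap B C) := rfl
  haveI : n.IsMaximal := hn ▸ Ideal.isMaximal_comap_of_isIntegral_of_isMaximal r
  -- `r` is the only maximal ideal over `n`
  have huniq : ∀ r' : Ideal C, r'.IsMaximal → r'.comap (algebraMap B C) = n → r' = r := by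
    intro r' hr' h
    by_contra hne
    have h1 : (⟨u, Algebra.subset_adjoin rfl⟩ : B) ∈ n := h ▸ (hu₁ r' hr' hne : u ∈ r')
    exact hu₂ h1
  let M := Algebra.algebraMapSubmonoid C n.primeCompl
  have hMle : M ≤ r.primeCompl := by
    rintro _ ⟨b, hb, rfl⟩
    exact hb
  have hinv : ∀ c : C, c ∉ r → IsUnit (algebraMap C (Localization M) c) := by
    intro c hc
    by_contra hcu
    obtain ⟨P, hP, hcP⟩ := exists_max_ideal_of_mem_nonunits hcu
    have hd := ((IsLocalization.isPrime_iff_isPrime_disjoint M (Localization M) P).1 hP.isPrime)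
    obtain ⟨r', hr', hle⟩ := Ideal.exists_le_maximal _ hd.1.ne_top
    haveI := hd.1
    -- the contraction of `P` lies over `n`
    have hsub : (P.comap (algebraMap C (Localization M))).comap (algebraMap B C) ≤ n := by
      intro b hb
      by_contra hbn
      exact Set.disjoint_left.1 hd.2 ⟨b, hbn, rfl⟩ hb
    obtain ⟨r₁, hle₁, hr₁, hr₁n⟩ := Ideal.exists_ideal_over_prime_of_isIntegral n
      (P.comap (algebraMap C (Localization M))) hsub
    haveI := hr₁
    have hr₁max : r₁.IsMaximal :=
      Ideal.isMaximal_of_isIntegral_of_isMaximal_comap r₁ (by rw [hr₁n]; infer_instance)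
    exact hc (huniq r₁ hr₁max hr₁n ▸ hle₁ hcP)
  haveI hloc : IsLocalization r.primeCompl (Localization M) := by
    refine IsLocalization.isLocalization_of_is_exists_mul_mem (S := Localization M) M r.primeCompl hMle ?_
    intro c
    obtain ⟨v, hv⟩ := (hinv c c.2).exists_left_inv
    obtain ⟨⟨a, m⟩, hm⟩ := IsLocalization.surj M v
    obtain ⟨m', hm'⟩ := (IsLocalization.eq_iff_exists M (Localization M)).1
      (show algebraMap C (Localization M) (a * c) = algebraMap C (Localization M) m by
        rw [map_mul, ← hm, mul_right_comm, hv, one_mul])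
    refine ⟨(m' : C) * a, ?_⟩
    rw [mul_assoc, hm']
    exact M.mul_mem m'.2 m.2
  let e : Localization M ≃ₐ[C] Localization.AtPrime r :=
    IsLocalization.algEquiv r.primeCompl _ _
  letI alg : Algebra (Localization.AtPrime n) (Localization.AtPrime r) :=
    (Localization.localRingHom n r B.val.toRingHom rfl).toAlgebra
  haveI : IsScalarTower B (Localization.AtPrime n) (Localization.AtPrime r) :=
    IsScalarTower.of_algebraMap_eq fun b => by
      rw [RingHom.algebraMap_toAlgebra, Localization.localRingHom_to_map]
      rfl
  haveI hM : IsLocalization M (Localization.AtPrime r) := IsLocalization.isLocalization_of_algEquiv M e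
  haveI hlm : IsLocalizedModule n.primeCompl (IsScalarTower.toAlgHom B C (Localization.AtPrime r)).toLinearMap :=
    isLocalizedModule_iff_isLocalization.2 hM
  haveI : Module.Finite (Localization.AtPrime n) (Localization.AtPrime r) :=
    Module.Finite.of_isLocalizedModule n.primeCompl (IsScalarTower.toAlgHom B C (Localization.AtPrime r)).toLinearMap
  constructor
  · rw [injective_iff_map_eq_zero]
    intro x hx
    obtain ⟨⟨b, s⟩, rfl⟩ := IsLocalization.mk'_surjective n.primeCompl x
    rw [Localization.localRingHom_mk', IsLocalization.mk'_eq_zero_iff] at hx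
    obtain ⟨c, hc⟩ := hx
    have h0 : algebraMap C (Localization.AtPrime r) (b : C) = 0 := by
      rw [IsLocalization.map_eq_zero_iff r.primeCompl]; exact ⟨c, hc⟩
    rw [IsLocalization.map_eq_zero_iff M] at h0
    obtain ⟨⟨_, t, ht, rfl⟩, hm⟩ := h0
    rw [IsLocalization.mk'_eq_zero_iff]
    exact ⟨⟨t, ht⟩, Subtype.ext hm⟩
  · have hN : LinearMap.range (Algebra.linearMap (Localization.AtPrime n) (Localization.AtPrime r)) = ⊤ := by
      refine le_antisymm le_top (Submodule.le_of_le_smul_of_le_jacobson_bot
        (I := IsLocalRing.maximalIdeal (Localization.AtPrime n)) Module.Finite.fg_top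
        (IsLocalRing.maximalIdeal_le_jacobson _) fun z _ => ?_)
      have hz : z ∈ (⊤ : Submodule A (Localization.AtPrime r)) := trivial
      rw [← hu₃] at hz
      obtain ⟨p, hp, q, hq, rfl⟩ := Submodule.mem_sup.1 hz
      refine Submodule.add_mem_sup ?_ ?_
      · obtain ⟨c, hc, rfl⟩ : p ∈ (IsScalarTower.toAlgHom A C (Localization.AtPrime r)) '' (B : Set C) := by
          rw [← Subalgebra.coe_map, AlgHom.map_adjoin_singleton]
          exact hp
        exact ⟨algebraMap B _ ⟨c, hc⟩, (IsScalarTower.algebraMap_apply B (Localization.AtPrime n)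
          (Localization.AtPrime r) ⟨c, hc⟩).symm⟩
      · rw [Ideal.smul_top_eq_map, Submodule.restrictScalars_mem]
        rw [Submodule.restrictScalars_mem] at hq
        refine Ideal.map_le_iff_le_comap.2 (fun a ha => ?_) hq
        rw [Ideal.mem_comap, IsScalarTower.algebraMap_apply A B (Localization.AtPrime r),
          IsScalarTower.algebraMap_apply B (Localization.AtPrime n) (Localization.AtPrime r)]
        refine Ideal.mem_map_of_mem _ ?_
        rw [IsLocalization.AtPrime.to_map_mem_maximal_iff _ n]
        have : (r.comap (algebraMap A C)) = IsLocalRing.maximalIdeal A :=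
          IsLocalRing.eq_maximalIdeal (Ideal.isMaximal_comap_of_isIntegral_of_isMaximal r)
        exact (this ▸ ha : a ∈ r.comap (algebraMap A C))
    intro z
    obtain ⟨x, hx⟩ := LinearMap.range_eq_top.1 hN z
    exact ⟨x, hx⟩

end Groth.Agent.S5076
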