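import Groth.Statements.S5077
import Groth.Agent.Lib.Hensel.Basic
import Mathlib.RingTheory.Unramified.LocalRing
import Mathlib.RingTheory.Unramified.Field
import Mathlib.RingTheory.Finiteness.Nakayama
import Mathlib.FieldTheory.Separable
-- import your own Groth.Agent.* helpers here

set_option autoImplicit false
universe u
open Unram

namespace Groth.Agent.S5077

/-- Let A be a local ring and B a finite A-algebra generated by a single element u. Then there is a
monic polynomial F with coefficients in A such that F(u) = 0 and F'(u) does not belong to any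
maximal ideal n of B at which B is unramified over A. -/
theorem result (A B : Type u) [CommRing A] [IsLocalRing A]
    [CommRing B] [Algebra A B] [Module.Finite A B] (u : B) (hu : Algebra.adjoin A ({u} : Set B) = ⊤) :
    ∃ F : Polynomial A, F.Monic ∧ Polynomial.aeval u F = 0 ∧
      ∀ (n : Ideal B) [n.IsMaximal], Algebra.IsUnramifiedAt A n → Polynomial.aeval u (Polynomial.derivative F) ∉ n := by
  classical
  set m := IsLocalRing.maximalIdeal A
  set mB := m.map (algebraMap A B)
  let k := IsLocalRing.ResidueField A
  let : Algebra k (B ⧸ mB) := (Ideal.quotientMap mB (algebraMap A B) Ideal.le_comap_map).toAlgebra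
  have : IsScalarTower A k (B ⧸ mB) := .of_algebraMap_eq fun a ↦ rfl
  have : Module.Finite k (B ⧸ mB) := Module.Finite.of_restrictScalars_finite A k (B ⧸ mB)
  set π := Ideal.Quotient.mkₐ A mB
  have key : ∀ r : Polynomial A,
      π (Polynomial.aeval u r) = Polynomial.aeval (π u) (r.map (IsLocalRing.residue A)) := fun r ↦ by
    rw [← IsLocalRing.ResidueField.algebraMap_eq, Polynomial.aeval_map_algebraMap,
      Polynomial.aeval_algHom_apply]
  set P₀ := minpoly k (π u)
  have hint : IsIntegral k (π u) := Algebra.IsIntegral.isIntegral _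
  set d := P₀.natDegree
  let v : Fin d → B := fun i ↦ u ^ (i : ℕ)
  have hsurj : ∀ b : B, ∃ p : Polynomial A, Polynomial.aeval u p = b := fun b ↦
    (Algebra.adjoin_singleton_eq_range_aeval A u).le (hu.ge (Algebra.mem_top (x := b)))
  have hspan : (⊤ : Submodule A B) ≤ Submodule.span A (Set.range v) := by
    refine Submodule.le_of_le_smul_of_le_jacobson_bot Module.Finite.fg_top
      (IsLocalRing.maximalIdeal_le_jacobson ⊥) fun b _ ↦ ?_
    obtain ⟨p, rfl⟩ := hsurj b
    obtain ⟨g, hg, hgdeg, hgm⟩ := Polynomial.lifts_and_natDegree_eq_and_monic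
      ((Polynomial.mem_lifts _).mpr (Polynomial.map_surjective _ IsLocalRing.residue_surjective P₀))
      (minpoly.monic hint)
    have h1 : p = g * (p /ₘ g) + p %ₘ g := by rw [add_comm, Polynomial.modByMonic_add_div]
    rw [h1, map_add, add_comm]
    refine Submodule.add_mem_sup ?_ ?_
    · rcases subsingleton_or_nontrivial A with hA | hA
      · exact (Subsingleton.elim (p %ₘ g) 0).symm ▸ by simp
      rw [Polynomial.aeval_eq_sum_range' (n := g.natDegree + 1) (by
        exact Nat.lt_succ_of_le (Polynomial.natDegree_modByMonic_le p hgm))]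
      refine Submodule.sum_mem _ fun i _ ↦ ?_
      by_cases hid : i < d
      · exact Submodule.smul_mem _ _ (Submodule.subset_span ⟨⟨i, hid⟩, rfl⟩)
      · rw [Polynomial.coeff_eq_zero_of_degree_lt ((Polynomial.degree_modByMonic_lt p hgm).trans_le
          (Polynomial.degree_le_natDegree.trans (WithBot.coe_le_coe.mpr (hgdeg.trans_le (not_lt.mp hid))))),
          zero_smul]
        exact zero_mem _
    · refine GrothLib.Hensel.mem_map_iff_mem_smul_top.mp (Ideal.Quotient.eq_zero_iff_mem.mp ?_)
      show π (Polynomial.aeval u (g * (p /ₘ g))) = 0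
      rw [map_mul, map_mul, key g, hg, minpoly.aeval, zero_mul]
  obtain ⟨a, ha⟩ := (Submodule.mem_span_range_iff_exists_fun A).mp (hspan (Submodule.mem_top (x := u ^ d)))
  let F : Polynomial A := Polynomial.X ^ d - ∑ i : Fin d, Polynomial.C (a i) * Polynomial.X ^ (i : ℕ)
  have hlt : (∑ i : Fin d, Polynomial.C (a i) * Polynomial.X ^ (i : ℕ)).degree < (d : WithBot ℕ) :=
    Polynomial.degree_sum_fin_lt a
  have hFm : F.Monic := Polynomial.monic_X_pow_sub hlt
  have hF0 : Polynomial.aeval u F = 0 := by
    simp only [F, map_sub, map_pow, Polynomial.aeval_X, map_sum, map_mul, Polynomial.aeval_C,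
      ← Algebra.smul_def]
    rw [sub_eq_zero]
    exact ha.symm
  have hFP : F.map (IsLocalRing.residue A) = P₀ := by
    refine (Polynomial.eq_of_monic_of_dvd_of_natDegree_le (minpoly.monic hint) (hFm.map _)
      (minpoly.dvd k _ (by rw [← key, hF0, map_zero])) ?_)
    refine Polynomial.natDegree_map_le.trans ?_
    refine Polynomial.natDegree_le_of_degree_le ?_
    exact (Polynomial.degree_sub_le _ _).trans (max_le (Polynomial.degree_X_pow_le d) hlt.le)
  refine ⟨F, hFm, hF0, fun n _ hn hmem ↦ ?_⟩
  have hnA : n.comap (algebraMap A B) = m :=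
    IsLocalRing.eq_maximalIdeal (Ideal.isMaximal_comap_of_isIntegral_of_isMaximal n)
  have : n.LiesOver m := ⟨hnA.symm⟩
  have hmn : mB ≤ n := Ideal.map_le_iff_le_comap.mpr hnA.ge
  let := Ideal.Quotient.field n
  let : Algebra k (B ⧸ n) :=
    (Ideal.quotientMap n (algebraMap A B) hnA.ge).toAlgebra
  have : IsScalarTower A k (B ⧸ n) := .of_algebraMap_eq fun a ↦ rfl
  have : Module.Finite k (B ⧸ n) := Module.Finite.of_restrictScalars_finite A k (B ⧸ n)
  let φ : B ⧸ mB →ₐ[k] B ⧸ n :=
    { Ideal.Quotient.factor hmn with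
      commutes' := fun c ↦ by
        obtain ⟨c, rfl⟩ := IsLocalRing.residue_surjective c
        rfl }
  have : Algebra.FormallyUnramified A (B ⧸ n) := by
    have : Algebra.FormallyUnramified A n.ResidueField := by
      have : Algebra.FormallyUnramified A (Localization.AtPrime n) := hn
      exact .comp A (Localization.AtPrime n) n.ResidueField
    exact .of_equiv ((AlgEquiv.ofBijective (IsScalarTower.toAlgHom A (B ⧸ n) n.ResidueField)
      n.bijective_algebraMap_quotient_residueField).symm)
  have : Algebra.FormallyUnramified k (B ⧸ n) := .of_restrictScalars A _ _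
  have : Algebra.IsSeparable k (B ⧸ n) := Algebra.FormallyUnramified.isSeparable _ _
  set x := φ (π u)
  set Q := minpoly k x
  have hQint : IsIntegral k x := Algebra.IsIntegral.isIntegral _
  have hQirr : Irreducible Q := minpoly.irreducible hQint
  obtain ⟨R, hR⟩ : Q ∣ P₀ := minpoly.dvd k x (by rw [Polynomial.aeval_algHom_apply, minpoly.aeval, map_zero])
  -- `Q` does not divide `R`
  have hQR : ¬ Q ∣ R := by
    rintro ⟨S, hS⟩
    obtain ⟨q, hq⟩ := Polynomial.map_surjective _ IsLocalRing.residue_surjective Q
    have hmax : (Ideal.map (algebraMap A (Localization.AtPrime n)) m) =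
        IsLocalRing.maximalIdeal (Localization.AtPrime n) := by
      let := Localization.AtPrime.algebraOfLiesOver m n
      exact ((Algebra.isUnramifiedAt_iff_map_eq A m n).mp hn).2
    have hqn : Polynomial.aeval u q ∈ n := by
      rw [← Ideal.Quotient.eq_zero_iff_mem]
      show φ (π (Polynomial.aeval u q)) = 0
      rw [key, hq, ← Polynomial.aeval_algHom_apply, minpoly.aeval]
    have hqB : algebraMap B (Localization.AtPrime n) (Polynomial.aeval u q) ∈
        mB.map (algebraMap B (Localization.AtPrime n)) := by
      rw [Ideal.map_map, ← IsScalarTower.algebraMap_eq, hmax]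
      exact (IsLocalization.AtPrime.to_map_mem_maximal_iff _ n _).mpr hqn
    obtain ⟨⟨⟨b, hb⟩, ⟨h, hh⟩⟩, he⟩ := (IsLocalization.mem_map_algebraMap_iff n.primeCompl _).mp hqB
    rw [← map_mul, IsLocalization.eq_iff_exists n.primeCompl] at he
    obtain ⟨⟨h', hh'⟩, he⟩ := he
    obtain ⟨H, hH⟩ := hsurj (h' * h)
    have h0 : π (Polynomial.aeval u (H * q)) = 0 := by
      rw [map_mul, hH]
      refine Ideal.Quotient.eq_zero_iff_mem.mpr ?_
      rw [show h' * h * Polynomial.aeval u q = h' * (Polynomial.aeval u q * h) by ring, he]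
      exact Ideal.mul_mem_left _ _ hb
    rw [key, Polynomial.map_mul, hq] at h0
    obtain ⟨T, hT⟩ := minpoly.dvd k _ h0
    change _ = P₀ * T at hT
    rw [hR, hS, show Q * (Q * S) * T = Q * S * T * Q by ring] at hT
    have hH' := mul_right_cancel₀ hQirr.ne_zero hT
    have hx : φ (π (Polynomial.aeval u H)) = 0 := by
      rw [key, ← Polynomial.aeval_algHom_apply, hH', map_mul, map_mul, minpoly.aeval, zero_mul,
        zero_mul]
    rw [hH] at hx
    exact (Ideal.IsPrime.mul_notMem inferInstance hh' hh) (Ideal.Quotient.eq_zero_iff_mem.mp hx)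
  have h1 : φ (π (Polynomial.aeval u (Polynomial.derivative F))) = 0 :=
    Ideal.Quotient.eq_zero_iff_mem.mpr hmem
  rw [key, ← Polynomial.derivative_map, hFP, ← Polynomial.aeval_algHom_apply, hR,
    Polynomial.derivative_mul, map_add, map_mul, map_mul, minpoly.aeval, zero_mul, add_zero,
    mul_eq_zero] at h1
  rcases h1 with h1 | h1
  · exact (Algebra.IsSeparable.isSeparable k x).aeval_derivative_ne_zero (minpoly.aeval _ _) h1
  · exact hQR (minpoly.dvd k x h1)

end Groth.Agent.S5077
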