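import Groth.Statements.S5078
import Mathlib.RingTheory.Finiteness.Projective
import Mathlib.RingTheory.AdicCompletion.Basic
-- import your own Groth.Agent.* helpers here

set_option autoImplicit false
universe u v
open Hensel

namespace Groth.Agent.S5078

/-- Let A be a ring, I an ideal such that A is I-adically separated and complete, and M a finitely
generated projective A-module. Then M is I-adically separated and complete. -/
theorem result {A : Type u} [CommRing A] (I : Ideal A) [IsAdicComplete I A]
    (M : Type v) [AddCommGroup M] [Module A M] [Module.Finite A M] [Module.Projective A M] :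
    IsAdicComplete I M := by
  obtain ⟨n, p, i, -, -, hpi⟩ := Module.Finite.exists_comp_eq_id_of_projective A M
  have key : ∀ (k : ℕ) (v : Fin n → A), v ∈ (I ^ k • ⊤ : Submodule A (Fin n → A)) ↔ ∀ j, v j ∈ I ^ k := by
    intro k v
    refine ⟨fun hv j ↦ ?_, fun hv ↦ ?_⟩
    · have h := Submodule.mem_map_of_mem (f := LinearMap.proj j) hv
      rw [Submodule.map_smul''] at h
      exact Ideal.mul_le_left h
    · rw [show v = ∑ j, v j • Pi.single j (1 : A) from pi_eq_sum_univ' v]
      exact Submodule.sum_mem _ fun j _ ↦ Submodule.smul_mem_smul (hv j) trivial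
  have hk : ∀ k : ℕ, (I ^ k • ⊤ : Ideal A) = I ^ k := fun k ↦ Ideal.mul_top _
  have hret : ∀ x, p (i x) = x := fun x ↦ LinearMap.congr_fun hpi x
  refine { haus' := fun x hx ↦ ?_, prec' := fun f hf ↦ ?_ }
  · have h0 : i x = 0 := funext fun j ↦ IsHausdorff.haus (I := I) inferInstance _ fun k ↦ by
      rw [SModEq.zero, hk]
      refine (key k (i x)).mp ?_ j
      have h := Submodule.mem_map_of_mem (f := i) (SModEq.zero.mp (hx k))
      rw [Submodule.map_smul''] at h
      exact Submodule.smul_mono le_rfl le_top h
    rw [← hret x, h0, map_zero]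
  · have hc : ∀ j, ∃ L, ∀ k, i (f k) j ≡ L [SMOD (I ^ k • ⊤ : Ideal A)] := fun j ↦
      IsPrecomplete.prec' (I := I) (fun k ↦ i (f k) j) fun {a b} hab ↦ by
        rw [SModEq.sub_mem, hk]
        have h := Submodule.mem_map_of_mem (f := i) (SModEq.sub_mem.mp (hf hab))
        rw [Submodule.map_smul'', map_sub] at h
        exact (key a _).mp (Submodule.smul_mono le_rfl le_top h) j
    choose L hL using hc
    refine ⟨p L, fun k ↦ ?_⟩
    rw [SModEq.sub_mem]
    conv => arg 2; rw [← hret (f k), ← map_sub]
    have h : i (f k) - L ∈ (I ^ k • ⊤ : Submodule A (Fin n → A)) := (key k _).mpr fun j ↦ by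
      have := SModEq.sub_mem.mp (hL j k)
      rwa [hk] at this
    have h' := Submodule.mem_map_of_mem (f := p) h
    rw [Submodule.map_smul''] at h'
    exact Submodule.smul_mono le_rfl le_top h'

end Groth.Agent.S5078
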