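import Groth.Statements.S5079
import Groth.Agent.Lib.FEt21.PunctSections
import Groth.Agent.Lib.N2.MoriNagata
import Mathlib

set_option autoImplicit false
open CategoryTheory AlgebraicGeometry Opposite
universe u
open Unram

namespace Groth.Agent.S5079


section

open AlgebraicGeometry CategoryTheory Opposite IsLocalRing

variable (A : Type u) [CommRing A]

/-- sections restricted from `A`. -/
noncomputable abbrev res (W : (Spec (CommRingCat.of A)).Opens) : A →+* Γ(Spec (CommRingCat.of A), W) :=
  ((Spec (CommRingCat.of A)).presheaf.map (homOfLE (le_top : W ≤ ⊤)).op).hom.comp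
    (Scheme.ΓSpecIso (CommRingCat.of A)).inv.hom

noncomputable abbrev restr {W W' : (Spec (CommRingCat.of A)).Opens} (h : W' ≤ W) :
    Γ(Spec (CommRingCat.of A), W) →+* Γ(Spec (CommRingCat.of A), W') :=
  ((Spec (CommRingCat.of A)).presheaf.map (homOfLE h).op).hom

theorem restr_res {W W' : (Spec (CommRingCat.of A)).Opens} (h : W' ≤ W) (a : A) :
    restr A h (res A W a) = res A W' a := by
  show ((Spec (CommRingCat.of A)).presheaf.map (homOfLE (le_top : W ≤ ⊤)).op ≫
    (Spec (CommRingCat.of A)).presheaf.map (homOfLE h).op).hom ((Scheme.ΓSpecIso (CommRingCat.of A)).inv.hom a) = _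
  rw [← Functor.map_comp]
  rfl

theorem restr_restr {W W' W'' : (Spec (CommRingCat.of A)).Opens} (h : W' ≤ W) (h' : W'' ≤ W')
    (f : Γ(Spec (CommRingCat.of A), W)) : restr A h' (restr A h f) = restr A (h'.trans h) f := by
  show ((Spec (CommRingCat.of A)).presheaf.map (homOfLE h).op ≫
    (Spec (CommRingCat.of A)).presheaf.map (homOfLE h').op).hom f = _
  rw [← Functor.map_comp]
  rfl

theorem basicOpen_surj (g : A) (f : Γ(Spec (CommRingCat.of A), PrimeSpectrum.basicOpen g)) :
    ∃ (a : A) (k : ℕ), f * res A _ (g ^ k) = res A _ a := by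
  letI := GrothLib.FEt21.specAlgebra (CommRingCat.of A) (PrimeSpectrum.basicOpen g)
  haveI := GrothLib.FEt21.isLocalization_specBasicOpen (CommRingCat.of A) g
  obtain ⟨⟨a, ⟨_, k, rfl⟩⟩, h⟩ := IsLocalization.surj (Submonoid.powers g) f
  exact ⟨a, k, h⟩

theorem basicOpen_eq (g : A) {a b : A} (h : res A (PrimeSpectrum.basicOpen g) a = res A _ b) :
    ∃ k : ℕ, g ^ k * a = g ^ k * b := by
  letI := GrothLib.FEt21.specAlgebra (CommRingCat.of A) (PrimeSpectrum.basicOpen g)
  haveI := GrothLib.FEt21.isLocalization_specBasicOpen (CommRingCat.of A) g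
  obtain ⟨⟨_, k, rfl⟩, hk⟩ := (IsLocalization.eq_iff_exists (Submonoid.powers g)
    Γ(Spec (CommRingCat.of A), PrimeSpectrum.basicOpen g)).1 h
  exact ⟨k, hk⟩

theorem basicOpen_isUnit (g : A) : IsUnit (res A (PrimeSpectrum.basicOpen g) g) := by
  letI := GrothLib.FEt21.specAlgebra (CommRingCat.of A) (PrimeSpectrum.basicOpen g)
  haveI := GrothLib.FEt21.isLocalization_specBasicOpen (CommRingCat.of A) g
  exact IsLocalization.Away.algebraMap_isUnit (S := Γ(Spec (CommRingCat.of A), PrimeSpectrum.basicOpen g)) g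

variable [IsLocalRing A]

theorem basicOpen_le_punct {g : A} (hg : g ∈ maximalIdeal A) :
    PrimeSpectrum.basicOpen g ≤ FEt.puncturedSpec A := fun x hx h => by
  obtain rfl : x = closedPoint A := h
  exact hx hg

theorem punct_ext {f f' : Γ(Spec (CommRingCat.of A), FEt.puncturedSpec A)}
    (h : ∀ g (hg : g ∈ maximalIdeal A), restr A (basicOpen_le_punct A hg) f = restr A (basicOpen_le_punct A hg) f') :
    f = f' := by
  refine (Spec (CommRingCat.of A)).sheaf.eq_of_locally_eq'
    (fun g : {g : A // g ∈ maximalIdeal A} => PrimeSpectrum.basicOpen g.1) (FEt.puncturedSpec A)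
    (fun g => homOfLE (basicOpen_le_punct A g.2)) ?_ f f' fun g => h g.1 g.2
  intro x hx
  obtain ⟨g, hg, hgx⟩ : ∃ g ∈ maximalIdeal A, g ∉ x.asIdeal := by
    by_contra! hle
    exact hx (PrimeSpectrum.ext ((maximalIdeal.isMaximal A).eq_of_le x.2.ne_top hle).symm)
  exact TopologicalSpace.Opens.mem_iSup.2 ⟨⟨g, hg⟩, hgx⟩

theorem exists_sections_to_fractionRing {y : A} (hy : y ∈ maximalIdeal A) (hy0 : y ∈ nonZeroDivisors A) :
    ∃ φ : Γ(Spec (CommRingCat.of A), FEt.puncturedSpec A) →+* FractionRing A,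
      Function.Injective φ ∧ φ.comp (res A _) = algebraMap A (FractionRing A) ∧
      ∀ f, ∀ g ∈ maximalIdeal A, ∃ (a : A) (k : ℕ),
        algebraMap A (FractionRing A) g ^ k * φ f = algebraMap A (FractionRing A) a := by
  letI := GrothLib.FEt21.specAlgebra (CommRingCat.of A) (PrimeSpectrum.basicOpen y)
  haveI := GrothLib.FEt21.isLocalization_specBasicOpen (CommRingCat.of A) y
  let l : Γ(Spec (CommRingCat.of A), PrimeSpectrum.basicOpen y) →+* FractionRing A :=
    IsLocalization.Away.lift y (g := algebraMap A (FractionRing A))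
      (IsLocalization.map_units (FractionRing A) (⟨y, hy0⟩ : nonZeroDivisors A))
  have hl : ∀ a, l (res A _ a) = algebraMap A (FractionRing A) a := fun a =>
    IsLocalization.Away.lift_eq (S := Γ(Spec (CommRingCat.of A), PrimeSpectrum.basicOpen y)) y _ a
  have key : ∀ f g, ∀ hg : g ∈ maximalIdeal A, ∀ (b : A) (n : ℕ),
      restr A (basicOpen_le_punct A hy) f * res A _ (y ^ n) = res A _ b →
      ∀ (a : A) (k : ℕ), restr A (basicOpen_le_punct A hg) f * res A _ (g ^ k) = res A _ a →
      ∃ N : ℕ, g ^ N * (a * y ^ n) = g ^ N * (b * g ^ k) := by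
    intro f g hg b n hb a k ha
    have h1 : PrimeSpectrum.basicOpen (g * y) ≤ PrimeSpectrum.basicOpen g :=
      PrimeSpectrum.basicOpen_mul_le_left g y
    have h2 : PrimeSpectrum.basicOpen (g * y) ≤ PrimeSpectrum.basicOpen y :=
      PrimeSpectrum.basicOpen_mul_le_right g y
    have ha' := congrArg (restr A h1) ha
    have hb' := congrArg (restr A h2) hb
    rw [map_mul, restr_res, restr_res, restr_restr] at ha' hb'
    obtain ⟨N, hN⟩ := basicOpen_eq A (g * y) (a := a * y ^ n) (b := b * g ^ k) (by
      rw [map_mul, map_mul, ← ha', ← hb']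
      ring)
    refine ⟨N, (isRegular_iff_mem_nonZeroDivisors.2 (pow_mem hy0 N)).left ?_⟩
    linear_combination hN
  refine ⟨l.comp (restr A (basicOpen_le_punct A hy)), ?_, RingHom.ext fun a => ?_, fun f g hg => ?_⟩
  · rw [injective_iff_map_eq_zero]
    intro f hf
    refine punct_ext A fun g hg => ?_
    rw [map_zero]
    obtain ⟨b, n, hb⟩ := basicOpen_surj A y (restr A (basicOpen_le_punct A hy) f)
    obtain ⟨a, k, ha⟩ := basicOpen_surj A g (restr A (basicOpen_le_punct A hg) f)
    obtain ⟨N, hN⟩ := key f g hg b n hb a k ha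
    have hb0 : b = 0 := by
      apply IsFractionRing.injective A (FractionRing A)
      rw [map_zero, ← hl, ← hb, map_mul]
      rw [RingHom.comp_apply] at hf
      rw [hf, zero_mul]
    rw [hb0, zero_mul, mul_zero] at hN
    have ha0 : g ^ N * a = 0 := by
      refine (isRegular_iff_mem_nonZeroDivisors.2 (pow_mem hy0 n)).right ?_
      linear_combination hN
    have hu := (basicOpen_isUnit A g).pow (N + k)
    refine hu.mul_right_eq_zero.1 ?_
    rw [← map_pow, pow_add, map_mul, mul_assoc, mul_comm (res A _ (g ^ k)), ha, ← map_mul, ha0, map_zero]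
  · show l (restr A _ (res A _ a)) = _
    rw [restr_res, hl]
  · obtain ⟨b, n, hb⟩ := basicOpen_surj A y (restr A (basicOpen_le_punct A hy) f)
    obtain ⟨a, k, ha⟩ := basicOpen_surj A g (restr A (basicOpen_le_punct A hg) f)
    obtain ⟨N, hN⟩ := key f g hg b n hb a k ha
    refine ⟨g ^ N * a, N + k,
      (IsLocalization.map_units (FractionRing A) (⟨y ^ n, pow_mem hy0 n⟩ : nonZeroDivisors A)).mul_left_injective ?_⟩
    show _ * algebraMap A (FractionRing A) (y ^ n) = _ * algebraMap A (FractionRing A) (y ^ n)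
    rw [mul_assoc, RingHom.comp_apply, ← hl (y ^ n), ← map_mul l, hb, hl, ← map_pow, ← map_mul, hl, ← map_mul]
    congr 1
    linear_combination -hN

end

section

open IsLocalRing

variable (A : Type u) [CommRing A] [IsNoetherianRing A] [IsLocalRing A] [IsReduced A]

/-- the fraction field of a component -/
abbrev Kp (p : Ideal A) : Type u := FractionRing (A ⧸ p)

theorem notMem_of_nzd {p : Ideal A} (hp : p ∈ minimalPrimes A) {s : A} (hs : s ∈ nonZeroDivisors A) : s ∉ p :=
  fun h => (Set.disjoint_left.1 (Ideal.disjoint_nonZeroDivisors_of_mem_minimalPrimes hp)) h hs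

theorem nzd_of_forall_notMem {s : A} (hs : ∀ p ∈ minimalPrimes A, s ∉ p) : s ∈ nonZeroDivisors A := by
  rw [mem_nonZeroDivisors_iff_right]
  intro x hx
  have : x ∈ sInf (minimalPrimes A) := by
    rw [Submodule.mem_sInf]
    intro p hp
    exact ((hp.1.1).mem_or_mem (show x * s ∈ p from hx ▸ p.zero_mem)).resolve_right (hs p hp)
  rwa [minimalPrimes_eq_minimals, ← minimalPrimes_eq_minimals, show sInf (minimalPrimes A) = nilradical A from
    Ideal.sInf_minimalPrimes, nilradical_eq_zero, Submodule.zero_eq_bot, Ideal.mem_bot] at this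

/-- projection of the total ring of fractions to a component -/
noncomputable def proj (p : Ideal A) [p.IsPrime] (hp : p ∈ minimalPrimes A) : FractionRing A →ₐ[A] Kp A p :=
  IsLocalization.liftAlgHom (M := nonZeroDivisors A) (f := Algebra.ofId A (Kp A p)) fun s => by
    refine isUnit_iff_ne_zero.2 fun h => notMem_of_nzd A hp s.2 ?_
    rw [Algebra.ofId_apply, IsScalarTower.algebraMap_apply A (A ⧸ p) (Kp A p), map_eq_zero_iff _
      (IsFractionRing.injective (A ⧸ p) (Kp A p))] at h
    exact Ideal.Quotient.eq_zero_iff_mem.1 h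

theorem proj_jointly_injective {z : FractionRing A}
    (h : ∀ p (hp : p ∈ minimalPrimes A), @proj A _ _ _ _ p hp.1.1 hp z = 0) : z = 0 := by
  obtain ⟨a, s, rfl⟩ := IsLocalization.exists_mk'_eq (nonZeroDivisors A) z
  rw [IsLocalization.mk'_eq_zero_iff]
  refine ⟨1, ?_⟩
  rw [OneMemClass.coe_one, one_mul]
  have : a ∈ sInf (minimalPrimes A) := by
    rw [Submodule.mem_sInf]
    intro p hp
    haveI := hp.1.1
    have h1 : proj A p hp (algebraMap A (FractionRing A) a) = 0 := by
      rw [← IsLocalization.mk'_spec (FractionRing A) a s, map_mul, h p hp, zero_mul]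
    rw [AlgHom.commutes] at h1
    rw [IsScalarTower.algebraMap_apply A (A ⧸ p) (Kp A p), map_eq_zero_iff _
      (IsFractionRing.injective (A ⧸ p) (Kp A p))] at h1
    exact Ideal.Quotient.eq_zero_iff_mem.1 h1
  rwa [show sInf (minimalPrimes A) = nilradical A from Ideal.sInf_minimalPrimes, nilradical_eq_zero,
    Submodule.zero_eq_bot, Ideal.mem_bot] at this

theorem exists_lift (p : Ideal A) [p.IsPrime] (hp : p ∈ minimalPrimes A) (k : Kp A p) :
    ∃ x : FractionRing A, proj A p hp x = k ∧
      ∀ q (hq : q ∈ minimalPrimes A), q ≠ p → @proj A _ _ _ _ q hq.1.1 hq x = 0 := by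
  classical
  have hfin := minimalPrimes.finite_of_isNoetherianRing A
  let F := hfin.toFinset.erase p
  have hF : ∀ q ∈ F, q ∈ minimalPrimes A ∧ q ≠ p := fun q hq =>
    ⟨hfin.mem_toFinset.1 (Finset.mem_of_mem_erase hq), Finset.ne_of_mem_erase hq⟩
  obtain ⟨c, hc, hcp⟩ : ∃ c, (∀ q ∈ F, c ∈ q) ∧ c ∉ p := by
    have hnle : ¬ F.inf id ≤ p := fun hle => by
      obtain ⟨q, hq, hqp⟩ := (Ideal.IsPrime.inf_le' (inferInstance : p.IsPrime)).1 hle
      exact (hF q hq).2 (le_antisymm hqp (hp.2 (hF q hq).1.1 hqp))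
    obtain ⟨c, hc, hcp⟩ := SetLike.not_le_iff_exists.1 hnle
    exact ⟨c, fun q hq => (Finset.inf_le hq : F.inf id ≤ q) hc, hcp⟩
  obtain ⟨d, hdp, hd⟩ : ∃ d ∈ p, ∀ q ∈ F, d ∉ q := by
    by_contra! h
    have hsub : (p : Set A) ⊆ ⋃ q ∈ (F : Set (Ideal A)), (q : Set A) := fun x hx => by
      obtain ⟨q, hq, hxq⟩ := h x hx
      exact Set.mem_biUnion hq hxq
    obtain ⟨q, hq, hle⟩ := (Ideal.subset_union_prime (f := fun q : Ideal A => q) ⊥ ⊥
      fun q hq _ _ => (hF q hq).1.1.1).1 hsub
    exact (hF q hq).2 (le_antisymm ((hF q hq).1.2 hp.1 hle) hle)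
  obtain ⟨a, b, hb, rfl⟩ := IsFractionRing.div_surjective (A ⧸ p) (K := Kp A p) k
  obtain ⟨a, rfl⟩ := Ideal.Quotient.mk_surjective a
  obtain ⟨b, rfl⟩ := Ideal.Quotient.mk_surjective b
  have hb' : b ∉ p := fun h => nonZeroDivisors.ne_zero hb (Ideal.Quotient.eq_zero_iff_mem.2 h)
  have hs : c * b + d ∈ nonZeroDivisors A := nzd_of_forall_notMem A fun q hq h => by
    rcases eq_or_ne q p with rfl | hqp
    · exact ((hq.1.1).mem_or_mem ((Ideal.add_mem_iff_left _ hdp).1 h)).elim hcp hb'
    · have hqF : q ∈ F := Finset.mem_erase.2 ⟨hqp, hfin.mem_toFinset.2 hq⟩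
      exact hd q hqF ((Ideal.add_mem_iff_right _ (Ideal.mul_mem_right b q (hc q hqF))).1 h)
  let x := IsLocalization.mk' (FractionRing A) (c * a) (⟨_, hs⟩ : nonZeroDivisors A)
  have hx : ∀ (q : Ideal A) [q.IsPrime] (hq : q ∈ minimalPrimes A),
      proj A q hq x * algebraMap (A ⧸ q) (Kp A q) (Ideal.Quotient.mk q (c * b + d)) =
        algebraMap (A ⧸ q) (Kp A q) (Ideal.Quotient.mk q (c * a)) := fun q _ hq => by
    have h1 := congrArg (proj A q hq) (IsLocalization.mk'_spec (FractionRing A) (c * a) (⟨_, hs⟩ : nonZeroDivisors A))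
    rw [map_mul, AlgHom.commutes, AlgHom.commutes] at h1
    exact h1
  refine ⟨x, ?_, fun q hq hqp => ?_⟩
  · have h1 := hx p hp
    rw [map_add (Ideal.Quotient.mk p), Ideal.Quotient.eq_zero_iff_mem.2 hdp, add_zero, map_mul, map_mul,
      map_mul, map_mul] at h1
    have hc0 : algebraMap (A ⧸ p) (Kp A p) (Ideal.Quotient.mk p c) ≠ 0 := fun h => hcp
      (Ideal.Quotient.eq_zero_iff_mem.1 (IsFractionRing.injective (A ⧸ p) (Kp A p) (h.trans (map_zero _).symm)))
    have hb0 : algebraMap (A ⧸ p) (Kp A p) (Ideal.Quotient.mk p b) ≠ 0 :=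
      IsFractionRing.to_map_ne_zero_of_mem_nonZeroDivisors hb
    rw [eq_div_iff hb0]
    refine mul_left_cancel₀ hc0 ?_
    linear_combination h1
  · haveI := hq.1.1
    have hqF : q ∈ F := Finset.mem_erase.2 ⟨hqp, hfin.mem_toFinset.2 hq⟩
    have h1 := hx q hq
    rw [Ideal.Quotient.eq_zero_iff_mem.2 (Ideal.mul_mem_right a q (hc q hqF)), map_zero] at h1
    refine (mul_eq_zero.1 h1).resolve_right fun h => notMem_of_nzd A hq hs
      (Ideal.Quotient.eq_zero_iff_mem.1 (IsFractionRing.injective (A ⧸ q) (Kp A q) (h.trans (map_zero _).symm)))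

theorem isIntegral_of_proj {z : FractionRing A}
    (h : ∀ p (hp : p ∈ minimalPrimes A), IsIntegral (A ⧸ p) (@proj A _ _ _ _ p hp.1.1 hp z)) : IsIntegral A z := by
  classical
  have hfin := minimalPrimes.finite_of_isNoetherianRing A
  haveI := hfin.fintype
  have h' : ∀ p : minimalPrimes A, IsIntegral A (@proj A _ _ _ _ p.1 p.2.1.1 p.2 z) := fun p =>
    isIntegral_trans (R := A) _ (h p.1 p.2)
  choose P hPm hP using h'
  refine ⟨∏ p, P p, Polynomial.monic_prod_of_monic _ _ fun p _ => hPm p, ?_⟩
  rw [← Polynomial.aeval_def]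
  refine proj_jointly_injective A fun q hq => ?_
  haveI := hq.1.1
  rw [← Polynomial.aeval_algHom_apply, map_prod]
  exact Finset.prod_eq_zero (i := (⟨q, hq⟩ : minimalPrimes A)) (Finset.mem_univ _) (hP ⟨q, hq⟩)

theorem integral_of_punct
    (hdim : ∀ (m' : Ideal ↥(integralClosure A (FractionRing A))) [m'.IsMaximal],
      m'.comap (algebraMap A ↥(integralClosure A (FractionRing A))) = maximalIdeal A →
        2 ≤ ringKrullDim (Localization.AtPrime m'))
    {z : FractionRing A}
    (hz : ∀ g ∈ maximalIdeal A, ∃ (a : A) (k : ℕ),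
        algebraMap A (FractionRing A) g ^ k * z = algebraMap A (FractionRing A) a) :
    IsIntegral A z := by
  classical
  refine isIntegral_of_proj A fun p hp => ?_
  haveI := hp.1.1
  let B := A ⧸ p
  let K := Kp A p
  let R := integralClosure B K
  let A' := integralClosure A (FractionRing A)
  haveI : IsLocalRing B := IsLocalRing.of_surjective' (Ideal.Quotient.mk p) Ideal.Quotient.mk_surjective
  obtain ⟨ι, ⟨F⟩⟩ := GrothLib.MoriNagata.nonempty_family (A := B)
  let ψ : A' →+* R := ((proj A p hp).toRingHom.comp A'.val.toRingHom).codRestrict R.toSubring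
    fun x => ((x.2.map (proj A p hp)).tower_top : IsIntegral B _)
  obtain ⟨e0, he0, he0'⟩ := exists_lift A p hp 1
  have he0i : IsIntegral A e0 := isIntegral_of_proj A fun q hq => by
    by_cases hqp : q = p
    · subst hqp; rw [he0]; exact isIntegral_one
    · rw [he0' q hq hqp]; exact isIntegral_zero
  let e : A' := ⟨e0, he0i⟩
  have hψe : ψ e = 1 := Subtype.ext he0
  letI : Algebra A' R := ψ.toAlgebra
  haveI : IsLocalization.Away e R := by
    refine ⟨fun ⟨y, k, hk⟩ => ?_, fun r => ?_, fun {x y} hxy => ⟨⟨e, 1, pow_one e⟩, Subtype.ext ?_⟩⟩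
    · subst hk
      show IsUnit (ψ (e ^ k))
      rw [map_pow, hψe, one_pow]
      exact isUnit_one
    · obtain ⟨x, hx, hx'⟩ := exists_lift A p hp (r : K)
      have hxi : IsIntegral A x := isIntegral_of_proj A fun q hq => by
        by_cases hqp : q = p
        · subst hqp; rw [hx]; exact r.2
        · rw [hx' q hq hqp]; exact isIntegral_zero
      refine ⟨(⟨x, hxi⟩, ⟨1, 0, pow_zero e⟩), ?_⟩
      show r * ψ 1 = ψ ⟨x, hxi⟩
      rw [map_one, mul_one]
      exact Subtype.ext hx.symm
    · show e0 * (x : FractionRing A) = e0 * (y : FractionRing A)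
      rw [← sub_eq_zero, ← mul_sub]
      refine proj_jointly_injective A fun q hq => ?_
      haveI := hq.1.1
      rw [map_mul, map_sub]
      by_cases hqp : q = p
      · subst hqp
        have : proj A q hp (x : FractionRing A) = proj A q hp (y : FractionRing A) := congrArg Subtype.val hxy
        rw [this, sub_self, mul_zero]
      · rw [he0' q hq hqp, zero_mul]
  have hcompat : ψ.comp (algebraMap A A') = (algebraMap B R).comp (Ideal.Quotient.mk p) :=
    RingHom.ext fun a => Subtype.ext ((proj A p hp).commutes a)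
  have hmB : (maximalIdeal B).comap (Ideal.Quotient.mk p) = maximalIdeal A :=
    IsLocalRing.eq_maximalIdeal (Ideal.comap_isMaximal_of_surjective _ Ideal.Quotient.mk_surjective)
  haveI : Algebra.IsIntegral B R := inferInstance
  have hht : ∀ P : Ideal R, P.IsPrime → P.height = 1 → ∃ g ∈ maximalIdeal A, algebraMap B R (Ideal.Quotient.mk p g) ∉ P := by
    intro P hP hP1
    haveI := hP
    by_contra! h
    have hc : P.comap (algebraMap B R) = maximalIdeal B := by
      refine ((maximalIdeal.isMaximal B).eq_of_le (Ideal.comap_isPrime _ P).ne_top fun x hx => ?_).symm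
      obtain ⟨g, rfl⟩ := Ideal.Quotient.mk_surjective x
      exact h g (hmB ▸ hx)
    haveI : (P.comap (algebraMap B R)).IsMaximal := hc ▸ maximalIdeal.isMaximal B
    haveI : P.IsMaximal := Ideal.isMaximal_of_isIntegral_of_isMaximal_comap (R := B) P inferInstance
    have hψs : Function.Surjective ψ := fun r => by
      obtain ⟨⟨x, ⟨_, k, rfl⟩⟩, hx⟩ := IsLocalization.surj (Submonoid.powers e) r
      refine ⟨x, ?_⟩
      have hx' : r * ψ (e ^ k) = ψ x := hx
      rw [map_pow, hψe, one_pow, mul_one] at hx'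
      exact hx'.symm
    haveI : (P.comap ψ).IsMaximal := Ideal.comap_isMaximal_of_surjective ψ hψs
    have h2 := hdim (P.comap ψ) (by
      rw [Ideal.comap_comap, hcompat, ← Ideal.comap_comap, hc, hmB])
    rw [IsLocalization.AtPrime.ringKrullDim_eq_height (P.comap ψ) (Localization.AtPrime (P.comap ψ))] at h2
    have h3 : (P.comap ψ).height = P.height := IsLocalization.height_under (Submonoid.powers e) P
    rw [h3, hP1] at h2
    exact absurd h2 (by decide)
  obtain ⟨r₁, r₂, hr₂, hr⟩ := IsFractionRing.div_surjective B (K := K) (proj A p hp z)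
  have hr₂0 : algebraMap B R r₂ ≠ 0 := fun h => IsFractionRing.to_map_ne_zero_of_mem_nonZeroDivisors (K := K) hr₂
    (congrArg Subtype.val h)
  obtain ⟨w, hw⟩ : algebraMap B R r₂ ∣ algebraMap B R r₁ := by
    refine F.dvd_of_forall_height_one hr₂0 fun P hP hP1 => ?_
    obtain ⟨g, hg, hgP⟩ := hht P hP hP1
    obtain ⟨a, k, ha⟩ := hz g hg
    refine ⟨algebraMap B R (Ideal.Quotient.mk p g) ^ k, fun h => hgP (hP.mem_of_pow_mem k h),
      algebraMap B R (Ideal.Quotient.mk p a), Subtype.ext ?_⟩
    have h1 := congrArg (proj A p hp) ha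
    rw [map_mul, map_pow, AlgHom.commutes, AlgHom.commutes, ← hr] at h1
    have h2 : algebraMap B K r₂ ≠ 0 := IsFractionRing.to_map_ne_zero_of_mem_nonZeroDivisors hr₂
    rw [mul_div_assoc', div_eq_iff h2] at h1
    show algebraMap B K (Ideal.Quotient.mk p g) ^ k * algebraMap B K r₁ =
      algebraMap B K r₂ * algebraMap B K (Ideal.Quotient.mk p a)
    rw [mul_comm (algebraMap B K r₂)]
    exact h1
  have hz' : proj A p hp z = (w : K) := by
    rw [← hr, div_eq_iff (IsFractionRing.to_map_ne_zero_of_mem_nonZeroDivisors hr₂)]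
    have := congrArg Subtype.val hw
    rw [mul_comm]
    exact this
  rw [hz']
  exact w.2

end


/-- Let A be a reduced Noetherian local ring, A' the integral closure of A in its total ring of
fractions and U the punctured spectrum of A. Assume that for every maximal ideal m' of A' lying over
the maximal ideal of A the local ring A'_{m'} has dimension at least 2. Then, writing ρ for the
restriction map A = Γ(Spec A, O) → Γ(U, O), the ring Γ(U, O) is integral over A via ρ and there is
an injective ring homomorphism Γ(U, O) → A' compatible with ρ and the inclusion of A in A'. -/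
theorem result (A : Type u) [CommRing A] [IsNoetherianRing A]
    [IsLocalRing A] [IsReduced A]
    (hdim : ∀ (m' : Ideal ↥(integralClosure A (FractionRing A))) [m'.IsMaximal],
      m'.comap (algebraMap A ↥(integralClosure A (FractionRing A))) = IsLocalRing.maximalIdeal A →
        2 ≤ ringKrullDim (Localization.AtPrime m')) :
    (((Spec (CommRingCat.of A)).presheaf.map (homOfLE (le_top : FEt.puncturedSpec A ≤ ⊤)).op).hom.comp
        (Scheme.ΓSpecIso (CommRingCat.of A)).inv.hom).IsIntegral ∧
      ∃ φ : ↑((Spec (CommRingCat.of A)).presheaf.obj (op (FEt.puncturedSpec A))) →+* ↥(integralClosure A (FractionRing A)),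
        Function.Injective φ ∧
          φ.comp (((Spec (CommRingCat.of A)).presheaf.map (homOfLE (le_top : FEt.puncturedSpec A ≤ ⊤)).op).hom.comp
            (Scheme.ΓSpecIso (CommRingCat.of A)).inv.hom) = algebraMap A ↥(integralClosure A (FractionRing A)) := by
  classical
  have hnm : ∀ p ∈ minimalPrimes A, p ≠ IsLocalRing.maximalIdeal A := by
    intro p hp hpm
    have hmin : minimalPrimes A = {p} := Set.eq_singleton_iff_unique_mem.2 ⟨hp, fun q hq => by
      have hle : q ≤ p := hpm ▸ IsLocalRing.le_maximalIdeal hq.1.1.ne_top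
      exact le_antisymm hle (hp.2 hq.1 hle)⟩
    have hm0 : IsLocalRing.maximalIdeal A = ⊥ := by
      rw [← hpm, eq_bot_iff]
      intro x hx
      have : x ∈ sInf (minimalPrimes A) := by rw [hmin, sInf_singleton]; exact hx
      rwa [show sInf (minimalPrimes A) = nilradical A from Ideal.sInf_minimalPrimes, nilradical_eq_zero,
        Submodule.zero_eq_bot] at this
    have hF : IsField A := IsLocalRing.isField_iff_maximalIdeal_eq.2 hm0
    letI := hF.toField
    let A' := integralClosure A (FractionRing A)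
    have hb : Function.Bijective (algebraMap A A') := by
      have h1 : Function.Bijective (algebraMap A (FractionRing A)) :=
        ⟨IsFractionRing.injective A _, IsFractionRing.surjective_iff_isField.2 hF⟩
      exact ⟨fun x y h => h1.1 (congrArg Subtype.val h),
        fun x => (h1.2 x.1).imp fun a ha => Subtype.ext ha⟩
    haveI : ((IsLocalRing.maximalIdeal A).map (algebraMap A A')).IsMaximal :=
      (Ideal.isMaximal_map_iff_of_bijective (algebraMap A A') hb).2 (IsLocalRing.maximalIdeal.isMaximal A)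
    have h2 := hdim ((IsLocalRing.maximalIdeal A).map (algebraMap A A')) (Ideal.comap_map_of_bijective _ hb)
    rw [IsLocalization.AtPrime.ringKrullDim_eq_height ((IsLocalRing.maximalIdeal A).map (algebraMap A A'))
      (Localization.AtPrime ((IsLocalRing.maximalIdeal A).map (algebraMap A A')))] at h2
    have h3 := Ideal.height_le_ringKrullDim_of_ne_top
      (Ideal.IsMaximal.ne_top (inferInstance : ((IsLocalRing.maximalIdeal A).map (algebraMap A A')).IsMaximal))
    rw [← ringKrullDim_eq_of_ringEquiv (RingEquiv.ofBijective _ hb), ringKrullDim_eq_zero_of_isField hF] at h3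
    exact absurd (h2.trans h3) (by decide)
  obtain ⟨y, hy, hy'⟩ : ∃ y ∈ IsLocalRing.maximalIdeal A, ∀ p ∈ minimalPrimes A, y ∉ p := by
    by_contra! h
    have hfin := minimalPrimes.finite_of_isNoetherianRing A
    obtain ⟨p, hp, hle⟩ := (Ideal.subset_union_prime (f := fun q : Ideal A => q) (s := hfin.toFinset) ⊥ ⊥
      fun q hq _ _ => (hfin.mem_toFinset.1 hq).1.1).1 (show ((IsLocalRing.maximalIdeal A : Ideal A) : Set A) ⊆ _ from
        fun x hx => by
          obtain ⟨q, hq, hxq⟩ := h x hx
          exact Set.mem_biUnion (hfin.mem_toFinset.2 hq) hxq)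
    have hp' := hfin.mem_toFinset.1 hp
    exact hnm p hp' (((IsLocalRing.maximalIdeal.isMaximal A).eq_of_le hp'.1.1.ne_top hle).symm)
  obtain ⟨φ, hφi, hφ, hφg⟩ := exists_sections_to_fractionRing A hy (nzd_of_forall_notMem A hy')
  have hint : ∀ f, IsIntegral A (φ f) := fun f => integral_of_punct A hdim (hφg f)
  refine ⟨fun f => ?_, φ.codRestrict (integralClosure A (FractionRing A)).toSubring hint,
    fun f f' h => hφi (congrArg Subtype.val h), RingHom.ext fun a => Subtype.ext (RingHom.congr_fun hφ a)⟩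
  obtain ⟨P, hPm, hP⟩ := hint f
  refine ⟨P, hPm, hφi ?_⟩
  rw [map_zero, Polynomial.hom_eval₂, hφ]
  exact hP


end Groth.Agent.S5079
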