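import Groth.Statements.S5081
import Mathlib.RingTheory.Kaehler.Basic
import Mathlib.Algebra.Polynomial.Derivation
-- import your own Groth.Agent.* helpers here

set_option autoImplicit false
universe u
open Unram

namespace Groth.Agent.S5081

/-- Let B be a finite A-algebra generated by a single element u and F a polynomial with coefficients in
A such that F(u) = 0. Then the ideal generated by F'(u) is contained in the annihilator of the
module of differentials of B over A, and equals it when the kernel of the surjection A[T] → B
sending T to u is generated by F. -/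
theorem result (A B : Type u) [CommRing A] [CommRing B] [Algebra A B]
    [Module.Finite A B] (u : B) (hu : Algebra.adjoin A ({u} : Set B) = ⊤) (F : Polynomial A) (hF : Polynomial.aeval u F = 0) :
    Ideal.span {Polynomial.aeval u (Polynomial.derivative F)} ≤ Module.annihilator B (KaehlerDifferential A B) ∧
      (RingHom.ker (Polynomial.aeval u : Polynomial A →ₐ[A] B) = Ideal.span {F} →
        Module.annihilator B (KaehlerDifferential A B) = Ideal.span {Polynomial.aeval u (Polynomial.derivative F)}) := by
  open KaehlerDifferential in
  have hsurj : ∀ b : B, ∃ p : Polynomial A, Polynomial.aeval u p = b := by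
    intro b
    have hb : b ∈ Algebra.adjoin A ({u} : Set B) := hu ▸ Algebra.mem_top
    rwa [Algebra.adjoin_singleton_eq_range_aeval] at hb
  have hD : ∀ p : Polynomial A, KaehlerDifferential.D A B (Polynomial.aeval u p) =
      Polynomial.aeval u (Polynomial.derivative p) • KaehlerDifferential.D A B u := by
    intro p
    induction p using Polynomial.induction_on' with
    | add p q hp hq => rw [map_add, map_add, hp, hq, map_add, map_add, add_smul]
    | monomial n a =>
      rw [Polynomial.aeval_monomial, Derivation.leibniz, Derivation.map_algebraMap, smul_zero, add_zero,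
        Derivation.leibniz_pow, Polynomial.derivative_monomial, Polynomial.aeval_monomial, ← Nat.cast_smul_eq_nsmul B,
        smul_smul, smul_smul]
      congr 1
      rw [map_mul, map_natCast]
  have hspan : ∀ ω : KaehlerDifferential A B, ∃ b : B, b • KaehlerDifferential.D A B u = ω := by
    intro ω
    have hω : ω ∈ Submodule.span B (Set.range (KaehlerDifferential.D A B)) :=
      KaehlerDifferential.span_range_derivation A B ▸ Submodule.mem_top
    induction hω using Submodule.span_induction with
    | mem x hx =>
      obtain ⟨b, rfl⟩ := hx
      obtain ⟨p, rfl⟩ := hsurj b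
      exact ⟨_, (hD p).symm⟩
    | zero => exact ⟨0, zero_smul _ _⟩
    | add x y _ _ hx hy =>
      obtain ⟨a, rfl⟩ := hx
      obtain ⟨b, rfl⟩ := hy
      exact ⟨a + b, add_smul _ _ _⟩
    | smul c x _ hx =>
      obtain ⟨a, rfl⟩ := hx
      exact ⟨c * a, mul_smul _ _ _⟩
  have hle : Ideal.span {Polynomial.aeval u (Polynomial.derivative F)} ≤
      Module.annihilator B (KaehlerDifferential A B) := by
    rw [Ideal.span_le, Set.singleton_subset_iff, SetLike.mem_coe, Module.mem_annihilator]
    intro ω
    obtain ⟨b, rfl⟩ := hspan ω
    rw [smul_comm, ← hD, hF, map_zero, smul_zero]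
  refine ⟨hle, fun hker => le_antisymm (fun b hb => ?_) hle⟩
  let I : Ideal B := Ideal.span {Polynomial.aeval u (Polynomial.derivative F)}
  have hwell : ∀ p q : Polynomial A, Polynomial.aeval u p = Polynomial.aeval u q →
      Ideal.Quotient.mk I (Polynomial.aeval u (Polynomial.derivative p)) =
        Ideal.Quotient.mk I (Polynomial.aeval u (Polynomial.derivative q)) := by
    intro p q h
    have hmem : p - q ∈ RingHom.ker (Polynomial.aeval u : Polynomial A →ₐ[A] B) := by
      rw [RingHom.mem_ker, map_sub, h, sub_self]
    rw [hker, Ideal.mem_span_singleton'] at hmem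
    obtain ⟨g, hg⟩ := hmem
    rw [Ideal.Quotient.eq, ← map_sub, ← map_sub, ← hg, Polynomial.derivative_mul, map_add, map_mul, map_mul, hF, mul_zero, zero_add]
    exact Ideal.mul_mem_left _ _ (Ideal.mem_span_singleton_self _)
  choose σ hσ using hsurj
  let f : B → B ⧸ I := fun b => Ideal.Quotient.mk I (Polynomial.aeval u (Polynomial.derivative (σ b)))
  have hf : ∀ p, f (Polynomial.aeval u p) = Ideal.Quotient.mk I (Polynomial.aeval u (Polynomial.derivative p)) :=
    fun p => hwell _ _ (hσ _)
  let δ : Derivation A B (B ⧸ I) :=
    { toFun := f
      map_add' := fun x y => by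
        rw [← hσ x, ← hσ y, ← map_add, hf, hf, hf, map_add, map_add, map_add]
      map_smul' := fun a x => by
        rw [RingHom.id_apply, ← hσ x, ← map_smul, hf, hf, Polynomial.derivative_smul, map_smul]
        rfl
      map_one_eq_zero' := by
        show f 1 = 0
        rw [← map_one (Polynomial.aeval u : Polynomial A →ₐ[A] B), hf, Polynomial.derivative_one, map_zero, map_zero]
      leibniz' := fun x y => by
        show f (x * y) = x • f y + y • f x
        rw [← hσ x, ← hσ y, ← map_mul, hf, hf, hf, Polynomial.derivative_mul, map_add, map_mul, map_mul, map_add,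
          Algebra.smul_def, Algebra.smul_def, Ideal.Quotient.algebraMap_eq, map_mul, map_mul]
        ring }
  have hu1 : δ u = 1 := by
    show f u = 1
    rw [show f u = f (Polynomial.aeval u (Polynomial.X : Polynomial A)) by rw [Polynomial.aeval_X], hf,
      Polynomial.derivative_X, map_one, map_one]
  have h0 := congrArg δ.liftKaehlerDifferential (Module.mem_annihilator.mp hb (KaehlerDifferential.D A B u))
  rw [map_smul, Derivation.liftKaehlerDifferential_comp_D, map_zero, hu1, Algebra.smul_def, mul_one,
    Ideal.Quotient.algebraMap_eq, Ideal.Quotient.eq_zero_iff_mem] at h0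
  exact h0

end Groth.Agent.S5081
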