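import Groth.Statements.S5082
import Groth.Agent.Lib.Mero.DepthOne

set_option autoImplicit false
universe u
open CategoryTheory CategoryTheory.Limits AlgebraicGeometry TopologicalSpace
open Mero

namespace Groth.Agent.S5082

/-- Let A be a Noetherian local ring. Then the group of divisors of Spec A is trivial (every divisor
equals the unit divisor, divisors being written multiplicatively) if and only if A has depth 0, that
is, if and only if every element of the maximal ideal of A is a zero-divisor. -/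
theorem result (A : Type u) [CommRing A] [IsNoetherianRing A] [IsLocalRing A] :
    (∀ D : Mero.Divisor (Spec (CommRingCat.of A)), D = 1) ↔ LocCoh.depth A A = 0 := by
  let X := Spec (CommRingCat.of A)
  let e : Γ(X, ⊤) ≃+* A := (Scheme.ΓSpecIso (CommRingCat.of A)).commRingCatIsoToRingEquiv
  let xc : X := IsLocalRing.closedPoint A
  have htop : ∀ U : X.Opens, xc ∈ U → U = ⊤ := fun U hU => by
    refine top_le_iff.mp fun y _ => ?_
    exact (show y ⤳ xc from IsLocalRing.specializes_closedPoint y).mem_open U.2 hU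
  have hunit : ∀ s : Γ(X, ⊤), IsUnit (e s) ↔ IsUnit (X.presheaf.germ ⊤ xc trivial s) := fun s => by
    rw [isUnit_map_iff e]
    refine ⟨fun h => h.map _, fun h => ?_⟩
    have := htop (X.basicOpen s) ((Scheme.mem_basicOpen _ s xc trivial).mpr h)
    exact X.toRingedSpace.isUnit_of_isUnit_germ ⊤ s fun y hy =>
      (Scheme.mem_basicOpen _ s y hy).mp (by rw [this]; trivial)
  have hreg : ∀ s : Γ(X, ⊤), s ∈ Mero.regSub X ⊤ ↔ e s ∈ nonZeroDivisors A := fun s => by
    rw [show Mero.regSub X ⊤ = nonZeroDivisors Γ(X, ⊤) from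
      GrothLib.Mero.regSub_eq_nonZeroDivisors ⟨⊤, isAffineOpen_top X⟩]
    exact (MulEquivClass.map_nonZeroDivisors e) ▸ ⟨fun h => ⟨s, h, rfl⟩, fun ⟨t, ht, hts⟩ => e.injective hts ▸ ht⟩
  have hdepth : LocCoh.depth A A = 0 ↔ ∀ t ∈ IsLocalRing.maximalIdeal A, t ∉ nonZeroDivisors A := by
    rw [← not_iff_not, not_forall]
    refine (ENat.one_le_iff_ne_zero (n := LocCoh.depth A A)).symm.trans ?_
    rw [show (1 : ℕ∞) = ((1 : ℕ) : ℕ∞) from rfl, LocCoh.depth,
      GrothLib.Depth.le_idealDepth_iff_exists _ GrothLib.Mero.smul_top_ne_top 1]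
    constructor
    · rintro ⟨rs, hlen, hmem, hr⟩
      obtain ⟨r, rfl⟩ := List.length_eq_one_iff.mp hlen
      rw [RingTheory.Sequence.isWeaklyRegular_cons_iff] at hr
      refine ⟨r, fun hn => hn (hmem r (List.mem_singleton_self r)) (mem_nonZeroDivisors_iff_left.mpr fun y hy => ?_)⟩
      exact hr.1 (hy.trans (mul_zero r).symm)
    · rintro ⟨r, hr⟩
      simp only [Classical.not_imp, not_not] at hr
      refine ⟨[r], rfl, fun y hy => List.mem_singleton.mp hy ▸ hr.1, ?_⟩
      rw [RingTheory.Sequence.isWeaklyRegular_cons_iff]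
      exact ⟨fun p q h => sub_eq_zero.mp (mem_nonZeroDivisors_iff_left.mp hr.2 _
        (by change r * p = r * q at h; rw [mul_sub, h, sub_self])), RingTheory.Sequence.IsWeaklyRegular.nil _ _⟩
  rw [hdepth]
  constructor
  · intro h t ht htn
    have hs : e.symm t ∈ Mero.regSub X ⊤ := (hreg _).mpr (by rwa [RingEquiv.apply_symm_apply])
    let f : (Γ(Mero.kmod X, ⊤))ˣ := (GrothLib.Mero.isUnit_toK ⊤ hs).unit
    have h1 := congrArg (fun D : Mero.Divisor X => D.1 xc) (h (Mero.div f))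
    change Mero.germOf f ⟨xc, trivial⟩ = 1 at h1
    rw [Mero.germOf, QuotientGroup.eq_one_iff] at h1
    obtain ⟨v, hv⟩ := h1
    have hv' := congrArg Units.val hv
    change algebraMap _ _ (v : X.presheaf.stalk xc) = (f : Γ(Mero.kmod X, ⊤)).1 ⟨xc, trivial⟩ at hv'
    rw [IsUnit.unit_spec, GrothLib.Mero.toK_apply_eq] at hv'
    have hu := (hunit (e.symm t)).mpr (Mero.algebraMap_KStalk_injective xc hv' ▸ v.isUnit)
    rw [RingEquiv.apply_symm_apply] at hu
    exact ht hu
  · intro h D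
    have hK : ∀ a ∈ nonZeroDivisors (X.presheaf.stalk xc), IsUnit a := fun a ha => by
      rw [← GrothLib.Mero.regStalk_eq GrothLib.Mero.locFiniteWA_of_noetherian xc] at ha
      obtain ⟨U, hU, s, hs, rfl⟩ := ha
      obtain rfl := htop U hU
      refine (hunit s).mp ?_
      by_contra hn
      exact h _ hn ((hreg s).mp hs)
    obtain ⟨U, hU, f, hf⟩ := D.2 xc
    have h0 := GrothLib.Mero.germ_eq_one_of_units hK D
    rw [hf ⟨xc, hU⟩, Mero.germOf, QuotientGroup.eq_one_iff, GrothLib.Mero.mem_stalkUnits_iff] at h0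
    obtain rfl := htop U hU
    obtain ⟨W, hW, hxW, c, hc⟩ := GrothLib.Mero.exists_nhd_algebraMap (f : Γ(Mero.kmod X, ⊤)) ⟨xc, hU⟩ h0.1
    obtain ⟨W', hW', hxW', c', hc'⟩ := GrothLib.Mero.exists_nhd_algebraMap (↑f⁻¹ : Γ(Mero.kmod X, ⊤)) ⟨xc, hU⟩ h0.2
    refine GrothLib.Mero.ext_germ fun y => ?_
    change D.1 y = 1
    rw [hf ⟨y, trivial⟩, Mero.germOf, QuotientGroup.eq_one_iff, GrothLib.Mero.mem_stalkUnits_iff]
    exact ⟨⟨_, (hc ⟨y, (htop W hxW).symm ▸ trivial⟩).symm⟩, ⟨_, (hc' ⟨y, (htop W' hxW').symm ▸ trivial⟩).symm⟩⟩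

end Groth.Agent.S5082
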