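import Groth.Statements.S5083
import Groth.Agent.Lib.Mero.Div

set_option autoImplicit false
universe u
open CategoryTheory CategoryTheory.Limits AlgebraicGeometry TopologicalSpace
open Mero

namespace Groth.Agent.S5083

noncomputable def mulMap {X : Scheme.{u}} (D D' : Mero.Divisor X) (f : (Γ(Mero.kmod X, ⊤))ˣ)
    (hDD : ∀ x : X, D.1 x = D'.1 x * Mero.germOf f ⟨x, Opens.mem_top x⟩) : Mero.divMod D ⟶ Mero.divMod D' :=
  ⟨PresheafOfModules.homMk (M₁ := (Mero.divMod D).val) (M₂ := (Mero.divMod D').val)
    { app := fun U => AddCommGrpCat.ofHom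
        { toFun := fun (t : Γ(Mero.divMod D, U.unop)) =>
            (⟨fun x => t.1 x * (f : Γ(Mero.kmod X, ⊤)).1 ⟨x.1, Opens.mem_top x.1⟩,
              ⟨Mero.kLoc_mul X U.unop t.1 _ t.2.1
                ((Mero.kmod X).presheaf.map (homOfLE (le_top : U.unop ≤ ⊤)).op (f : Γ(Mero.kmod X, ⊤))).2,
              fun x => by
                intro g hg
                have h := t.2.2 x (g * Units.map (Mero.evalK X ⊤ ⟨x.1, Opens.mem_top x.1⟩).toMonoidHom f)
                  (by rw [hDD, hg, Mero.germOf, ← QuotientGroup.mk_mul])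
                rw [Units.val_mul] at h
                rw [mul_assoc, mul_comm _ (g : Mero.KStalk X x.1)]
                exact h⟩⟩ : Γ(Mero.divMod D', U.unop))
          map_zero' := Subtype.ext <| funext fun x => zero_mul _
          map_add' := fun a b => Subtype.ext <| funext fun x => add_mul _ _ _ }
      naturality := by intros; rfl }
    (fun U r t => Subtype.ext <| funext fun x => smul_mul_assoc _ _ _)⟩

theorem mulMap_app {X : Scheme.{u}} (D D' : Mero.Divisor X) (f : (Γ(Mero.kmod X, ⊤))ˣ)
    (hDD : ∀ x : X, D.1 x = D'.1 x * Mero.germOf f ⟨x, Opens.mem_top x⟩) (U : X.Opens)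
    (t : Γ(Mero.divMod D, U)) (x : U) :
    ((mulMap D D' f hDD).app U t).1 x = t.1 x * (f : Γ(Mero.kmod X, ⊤)).1 ⟨x.1, Opens.mem_top x.1⟩ := rfl

/-- Let X be a scheme and D, D' divisors on X (global sections of the sheaf of units of K_X modulo units
of O_X, written multiplicatively). If D and D' are linearly equivalent, i.e. D · D'⁻¹ is the divisor
of a unit of the ring of global sections of K_X, then the O_X-modules O_X(D) and O_X(D') are
isomorphic. (The published statement is an equivalence: O_X(D) and O_X(D') are isomorphic if and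
only if D and D' are linearly equivalent; this row states only that linearly equivalent divisors
have isomorphic modules.) -/
theorem result (X : Scheme.{u}) (D D' : Mero.Divisor X) (h : Mero.LinEquiv D D') :
    Nonempty (Mero.divMod D ≅ Mero.divMod D') := by
  obtain ⟨f, hf⟩ := h
  have hDD : ∀ x : X, D.1 x = D'.1 x * Mero.germOf f ⟨x, Opens.mem_top x⟩ := fun x => by
    have := congrArg (fun E : Mero.Divisor X => E.1 x) hf
    change D.1 x * (D'.1 x)⁻¹ = Mero.germOf f ⟨x, Opens.mem_top x⟩ at this
    rw [← this, mul_comm (D.1 x), mul_inv_cancel_left]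
  have hDD' : ∀ x : X, D'.1 x = D.1 x * Mero.germOf f⁻¹ ⟨x, Opens.mem_top x⟩ := fun x => by
    rw [hDD x]
    simp only [Mero.germOf, map_inv, QuotientGroup.mk_inv, mul_inv_cancel_right]
  refine ⟨⟨mulMap D D' f hDD, mulMap D' D f⁻¹ hDD', ?_, ?_⟩⟩
  all_goals
    apply Scheme.Modules.hom_ext
    intro U
    ext t
    refine Subtype.ext (funext fun x => ?_)
    change _ * _ * _ = _
    rw [mul_assoc]
  · exact (congrArg (_ * ·) (congrArg (fun s : Γ(Mero.kmod X, ⊤) => s.1 ⟨x.1, Opens.mem_top x.1⟩) f.mul_inv)).trans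
      (mul_one _)
  · exact (congrArg (_ * ·) (congrArg (fun s : Γ(Mero.kmod X, ⊤) => s.1 ⟨x.1, Opens.mem_top x.1⟩) f.inv_mul)).trans
      (mul_one _)

end Groth.Agent.S5083
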