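import Groth.Statements.S5084
import Groth.Agent.Lib.Mero.Ass
import Groth.Agent.Lib.AssPts.Points

set_option autoImplicit false
universe u
open CategoryTheory CategoryTheory.Limits AlgebraicGeometry TopologicalSpace
open Mero

namespace Groth.Agent.S5084

/-- Let X be a locally Noetherian scheme and F a quasi-coherent O_X-module. Then F is torsion-free — the
canonical map from F to its sheaf of meromorphic sections K_X(F), m ↦ m/1, is a monomorphism, i.e.
at every point no germ of a regular function kills a nonzero element of the stalk of F — if and only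
if every associated point of F is an associated point of the structure sheaf (a point x such that
the maximal ideal of O_{X,x} is an associated prime of O_{X,x}). -/
theorem result (X : Scheme.{u}) [IsLocallyNoetherian X]
    (F : X.Modules) (hF : Coh.IsQCoh F) :
    Mono (Mero.toMer F) ↔
      ∀ x : ↥X, Curv2.IsAssPoint F x →
        IsAssociatedPrime (IsLocalRing.maximalIdeal ↑(X.presheaf.stalk x)) ↑(X.presheaf.stalk x) := by
  haveI : F.IsQuasicoherent := hF
  constructor
  · intro hmono x hx
    by_contra hno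
    obtain ⟨hp, m₀, hm₀⟩ := hx
    obtain ⟨r, hr, hrn⟩ : ∃ r ∈ IsLocalRing.maximalIdeal (X.presheaf.stalk x), r ∈ nonZeroDivisors (X.presheaf.stalk x) := by
      by_contra hall
      have hsub : (IsLocalRing.maximalIdeal (X.presheaf.stalk x) : Set (X.presheaf.stalk x)) ⊆
          ⋃ p ∈ associatedPrimes (X.presheaf.stalk x) (X.presheaf.stalk x), (p : Set (X.presheaf.stalk x)) := by
        rw [biUnion_associatedPrimes_eq_compl_nonZeroDivisors]
        exact fun r hr hrn => hall ⟨r, hr, hrn⟩
      obtain ⟨p, hpA, hle⟩ := (Ideal.subset_union_prime_finite (associatedPrimes.finite _ _) (f := id) 0 0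
        fun _ h _ _ => h.1).1 hsub
      have := (IsLocalRing.maximalIdeal.isMaximal (X.presheaf.stalk x)).eq_of_le hpA.1.ne_top hle
      exact hno (this ▸ hpA)
    have hrm : ∃ n : ℕ, r ^ n • m₀ = 0 := by
      rw [hm₀] at hr
      obtain ⟨n, hn⟩ := hr
      exact ⟨n, Submodule.mem_colon_singleton.mp hn⟩
    obtain ⟨n, hn⟩ := hrm
    have hm0 : m₀ ≠ 0 := fun h => hp.ne_top (by rw [hm₀, h]; simp)
    obtain ⟨U, hxU, m, rfl⟩ := F.presheaf.exists_germ_eq m₀
    have hrs : r ^ n ∈ Mero.regStalk X x := by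
      rw [GrothLib.Mero.regStalk_eq GrothLib.Mero.locFiniteWA_of_noetherian]
      exact pow_mem hrn n
    obtain ⟨W, hxW, b, hb, hbr⟩ := hrs
    rw [← hbr, ← TopCat.Presheaf.germ_res_apply X.presheaf (homOfLE (inf_le_right : U ⊓ W ≤ W)) x ⟨hxU, hxW⟩ b,
      ← TopCat.Presheaf.germ_res_apply F.presheaf (homOfLE (inf_le_left : U ⊓ W ≤ U)) x ⟨hxU, hxW⟩ m,
      ← Mero.germ_smul, ← map_zero (F.presheaf.germ (U ⊓ W) x ⟨hxU, hxW⟩).hom] at hn
    obtain ⟨N, hxN, j, j', hj⟩ := F.presheaf.germ_eq x _ _ _ _ hn
    rw [map_zero] at hj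
    let mN : Γ(F, N) := F.presheaf.map (homOfLE (j.le.trans inf_le_left)).op m
    have hz : (Mero.toMer F).app N mN = (Mero.toMer F).app N 0 := by
      rw [map_zero]
      refine Subtype.ext (funext fun y => ?_)
      change LocalizedModule.mk (F.presheaf.germ N y.1 y.2 mN) 1 = 0
      rw [← LocalizedModule.zero_mk (1 : Mero.regStalk X y.1), LocalizedModule.mk_eq]
      refine ⟨Mero.regGerm ⟨y.1, (j.le y.2).2⟩ ⟨b, hb⟩, ?_⟩
      have h2 := congrArg (F.presheaf.germ N y.1 y.2) hj
      simp only [map_zero, TopCat.Presheaf.germ_res_apply, Mero.germ_smul] at h2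
      simp only [mN, TopCat.Presheaf.germ_res_apply, Submonoid.smul_def, one_smul, smul_zero, Mero.regGerm]
      exact h2
    haveI : Mono ((Scheme.Modules.toPresheaf X).map (Mero.toMer F)) := inferInstance
    have hinj := (AddCommGrpCat.mono_iff_injective _).1 (NatTrans.mono_iff_mono_app _ |>.1 this (Opposite.op N))
    have h3 : mN = 0 := hinj hz
    refine hm0 ?_
    rw [← TopCat.Presheaf.germ_res_apply F.presheaf (homOfLE (j.le.trans inf_le_left)) x hxN m]
    exact (congrArg (F.presheaf.germ N x hxN) h3).trans (map_zero _)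
  · intro h
    have key : ∀ (U : X.Opens) (m : Γ(F, U)), (Mero.toMer F).app U m = 0 → m = 0 := by
      intro U m hm
      refine TopCat.Presheaf.section_ext ⟨F.presheaf, F.isSheaf⟩ U m 0 fun x hx => ?_
      change F.presheaf.germ U x hx m = F.presheaf.germ U x hx 0
      rw [map_zero]
      have h1 : LocalizedModule.mk (F.presheaf.germ U x hx m) 1 = (0 : Mero.MStalk F x) :=
        congrArg (fun t : Γ(Mero.merMod F, U) => t.1 ⟨x, hx⟩) hm
      rw [← LocalizedModule.zero_mk (1 : Mero.regStalk X x), LocalizedModule.mk_eq] at h1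
      obtain ⟨⟨_, W, hxW, b, hb, rfl⟩, hu⟩ := h1
      simp only [Submonoid.smul_def, one_smul, smul_zero] at hu
      rw [← TopCat.Presheaf.germ_res_apply X.presheaf (homOfLE (inf_le_right : U ⊓ W ≤ W)) x ⟨hx, hxW⟩ b,
        ← TopCat.Presheaf.germ_res_apply F.presheaf (homOfLE (inf_le_left : U ⊓ W ≤ U)) x ⟨hx, hxW⟩ m,
        ← Mero.germ_smul, ← map_zero (F.presheaf.germ (U ⊓ W) x ⟨hx, hxW⟩).hom] at hu
      obtain ⟨N, hxN, j, j', hj⟩ := F.presheaf.germ_eq x _ _ _ _ hu
      rw [map_zero] at hj
      obtain ⟨V, hxV, hVN⟩ := GrothLib.BlowUp.exists_affine_mem_le hxN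
      let mV : Γ(F, V.1) := F.presheaf.map (homOfLE ((hVN.trans j.le).trans inf_le_left)).op m
      suffices hmV : mV = 0 by
        rw [← TopCat.Presheaf.germ_res_apply F.presheaf (homOfLE ((hVN.trans j.le).trans inf_le_left)) x hxV m]
        exact (congrArg (F.presheaf.germ V.1 x hxV) hmV).trans (map_zero _)
      by_contra hne
      obtain ⟨y, hyV, hy, hne'⟩ := GrothLib.WeakAss.exists_isWeakAssPoint V.2 hne
      have hwa := (GrothLib.Mero.isWA_iff y).mpr (h y ((GrothLib.WeakAss.isAssPoint_iff_isWeakAssPoint y).mpr hy))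
      have hyW : y ∈ W := (j.le (hVN hyV)).2
      have hu' := (Scheme.mem_basicOpen _ b y hyW).mp (((GrothLib.Mero.regSub_iff b).mp hb) y hyW hwa)
      refine hne' ?_
      have h2 := congrArg (F.presheaf.germ N y (hVN hyV)) hj
      simp only [map_zero, TopCat.Presheaf.germ_res_apply, Mero.germ_smul] at h2
      simp only [mV, TopCat.Presheaf.germ_res_apply]
      exact hu'.smul_eq_zero.mp h2
    haveI : Mono ((Scheme.Modules.toPresheaf X).map (Mero.toMer F)) := by
      rw [NatTrans.mono_iff_mono_app]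
      intro U
      rw [AddCommGrpCat.mono_iff_injective]
      exact (injective_iff_map_eq_zero _).mpr (key U.unop)
    exact (Scheme.Modules.toPresheaf X).mono_of_mono_map this

end Groth.Agent.S5084
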