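import Groth.Statements.S5085
import Groth.Agent.Lib.Mero.Div

set_option autoImplicit false
universe u
open CategoryTheory CategoryTheory.Limits AlgebraicGeometry TopologicalSpace
open Mero

namespace Groth.Agent.S5085

/-- Let X be a scheme, U an open subset and V an open subset of U which is schematically dense in U (for
every open W ⊆ U, restriction of functions from W to W ∩ V is injective). Then restriction of
sections of the sheaf of meromorphic functions K_X from U to V is injective: the canonical map from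
meromorphic functions to pseudo-functions is injective. -/
theorem result (X : Scheme.{u}) (U V : X.Opens) (hVU : V ≤ U)
    (hV : ∀ W : X.Opens, W ≤ U →
      Function.Injective ⇑(X.presheaf.map (homOfLE (inf_le_left : W ⊓ V ≤ W)).op)) :
    Function.Injective ⇑((Mero.kmod X).presheaf.map (homOfLE hVU).op) := by
  intro s t hst
  refine GrothLib.Mero.kmod_ext fun x => ?_
  obtain ⟨W, hxW, i, a, b, hab⟩ := s.2 x
  obtain ⟨W', hxW', i', a', b', hab'⟩ := t.2 x
  let Z := W ⊓ W'
  let c : Γ(X, Z) := X.presheaf.map (homOfLE (inf_le_left : Z ≤ W)).op a *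
    X.presheaf.map (homOfLE (inf_le_right : Z ≤ W')).op b'.1 -
    X.presheaf.map (homOfLE (inf_le_right : Z ≤ W')).op a' *
    X.presheaf.map (homOfLE (inf_le_left : Z ≤ W)).op b.1
  have key : ∀ y : U, ∀ (h : y.1 ∈ Z), s.1 y = t.1 y ↔ X.presheaf.germ Z y.1 h c = 0 := by
    intro y h
    have e1 := hab ⟨y.1, h.1⟩
    have e2 := hab' ⟨y.1, h.2⟩
    dsimp only at e1 e2
    change s.1 y = _ at e1
    change t.1 y = _ at e2
    rw [e1, e2, GrothLib.Mero.mkK_eq_iff, ← sub_eq_zero]
    simp only [c, Mero.regGerm, map_sub, map_mul, TopCat.Presheaf.germ_res_apply]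
    rw [mul_comm (X.presheaf.germ W' y.1 h.2 b'.1), mul_comm (X.presheaf.germ W y.1 h.1 b.1)]
  have hc : c = 0 := by
    refine hV Z (inf_le_left.trans i.le) ?_
    rw [map_zero]
    refine TopCat.Presheaf.section_ext X.sheaf (Z ⊓ V) _ _ fun y hy => ?_
    change X.presheaf.germ _ _ hy (X.presheaf.map _ c) = X.presheaf.germ _ _ hy 0
    rw [map_zero, TopCat.Presheaf.germ_res_apply]
    refine (key ⟨y, hVU hy.2⟩ hy.1).mp ?_
    exact congrArg (fun r : Γ(Mero.kmod X, V) => r.1 ⟨y, hy.2⟩) hst
  refine (key x ⟨hxW, hxW'⟩).mpr ?_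
  rw [hc, map_zero]

end Groth.Agent.S5085
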