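import Groth.Statements.S5086
import Groth.Agent.Lib.Mero.Criteria
import Groth.Agent.S5085

set_option autoImplicit false
universe u
open CategoryTheory CategoryTheory.Limits AlgebraicGeometry TopologicalSpace
open Mero

namespace Groth.Agent.S5086

theorem mem_of_dense {X : Scheme.{u}} {U V : X.Opens}
    (hV : ∀ W : X.Opens, W ≤ U →
      Function.Injective ⇑(X.presheaf.map (homOfLE (inf_le_left : W ⊓ V ≤ W)).op))
    {T : X.Opens} (hT : IsAffineOpen T) (hTU : T ≤ U) {y : X} (hy : y ∈ T) (z : Γ(X, T))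
    (hfin : (GrothLib.WeakAss.annSec (GrothLib.WeakAss.toModSec z)).minimalPrimes.Finite)
    (hmin : GrothLib.WeakAss.primeAt y hy ∈ (GrothLib.WeakAss.annSec (GrothLib.WeakAss.toModSec z)).minimalPrimes) :
    y ∈ V := by
  classical
  by_contra hyV
  set p := GrothLib.WeakAss.primeAt y hy
  obtain ⟨g, hg, hgp⟩ : ∃ g : Γ(X, T), (∀ q ∈ (GrothLib.WeakAss.annSec (GrothLib.WeakAss.toModSec z)).minimalPrimes,
      q ≠ p → g ∈ q) ∧ g ∉ p := by
    have hchoice : ∀ q ∈ hfin.toFinset.erase p, ∃ g ∈ q, g ∉ p := fun q hq => by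
      obtain ⟨hne, hq⟩ := Finset.mem_erase.mp hq
      rw [Set.Finite.mem_toFinset] at hq
      refine Set.not_subset.mp fun hle => hne ?_
      exact le_antisymm hle (hmin.2 hq.1 hle)
    choose g hgq hgp using hchoice
    refine ⟨∏ q ∈ (hfin.toFinset.erase p).attach, g q.1 q.2, fun q hq hne => ?_, fun h => ?_⟩
    · have hm : q ∈ hfin.toFinset.erase p := Finset.mem_erase.mpr ⟨hne, (Set.Finite.mem_toFinset _).mpr hq⟩
      exact Ideal.mem_of_dvd _ (Finset.dvd_prod_of_mem (fun r : {r // r ∈ hfin.toFinset.erase p} => g r.1 r.2)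
        (Finset.mem_attach _ ⟨q, hm⟩)) (hgq q hm)
    · obtain ⟨r, -, hr⟩ := (inferInstance : (GrothLib.WeakAss.primeAt y hy).IsPrime).prod_mem_iff.mp h
      exact hgp r.1 r.2 hr
  let O := X.basicOpen g
  have hyO : y ∈ O := GrothLib.WeakAss.notMem_primeAt_iff.mp hgp
  have h0 : X.presheaf.map (homOfLE (X.basicOpen_le g)).op z = 0 := by
    refine hV O ((X.basicOpen_le g).trans hTU) ?_
    rw [map_zero]
    refine TopCat.Presheaf.section_ext X.sheaf (O ⊓ V) _ _ fun v hv => ?_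
    change X.presheaf.germ _ _ hv (X.presheaf.map _ (X.presheaf.map _ z)) = X.presheaf.germ _ _ hv 0
    rw [TopCat.Presheaf.germ_res_apply, TopCat.Presheaf.germ_res_apply, map_zero]
    have hvT : v ∈ T := X.basicOpen_le g hv.1
    by_contra hne
    have hann : GrothLib.WeakAss.annSec (GrothLib.WeakAss.toModSec z) ≤ GrothLib.WeakAss.primeAt v hvT := by
      intro c hc
      by_contra hcv
      refine hne ?_
      have h1 := congrArg (X.presheaf.germ T v hvT) (GrothLib.WeakAss.mem_annSec_structure.mp hc)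
      rw [map_mul, map_zero] at h1
      exact ((Scheme.mem_basicOpen _ c v hvT).mp (GrothLib.WeakAss.notMem_primeAt_iff.mp hcv)).mul_right_eq_zero.mp h1
    obtain ⟨q, hq, hqv⟩ := Ideal.exists_minimalPrimes_le hann
    have hgv : g ∉ GrothLib.WeakAss.primeAt v hvT := GrothLib.WeakAss.notMem_primeAt_iff.mpr hv.1
    have hqp : q = p := by
      by_contra hne'
      exact hgv (hqv (hg q hq hne'))
    rw [hqp] at hqv
    refine hyV (Specializes.mem_open ?_ V.2 hv.2)
    obtain ⟨P, hP⟩ := hT.range_fromSpec.ge hy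
    obtain ⟨Q, hQ⟩ := hT.range_fromSpec.ge hvT
    subst hP hQ
    simp only [p, GrothLib.WeakAss.primeAt_fromSpec hT] at hqv
    exact ((PrimeSpectrum.le_iff_specializes P Q).mp hqv).map hT.fromSpec.continuous
  have hz0 : X.presheaf.germ T y hy z = 0 := by
    rw [← TopCat.Presheaf.germ_res_apply X.presheaf (homOfLE (X.basicOpen_le g)) y hyO z, h0, map_zero]
  obtain ⟨c, hc, hcz⟩ := GrothLib.Mero.exists_mul_eq_zero_of_germ hT hy hz0
  exact hc (hmin.1.2 (GrothLib.WeakAss.mem_annSec_structure.mpr hcz))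

theorem exists_wa_minimal {X : Scheme.{u}}
    (hX : IsLocallyNoetherian X ∨ (IsReduced X ∧ ∀ x : ↥X, ∃ W : X.Opens, x ∈ W ∧
      {Z : Set ↥X | Z ∈ irreducibleComponents ↥X ∧ (Z ∩ (W : Set ↥X)).Nonempty}.Finite))
    (T : X.affineOpens) {y : X} (hy : y ∈ T.1) (hwa : GrothLib.Mero.IsWA y) :
    ∃ z : Γ(X, T.1), (GrothLib.WeakAss.annSec (GrothLib.WeakAss.toModSec z)).minimalPrimes.Finite ∧
      GrothLib.WeakAss.primeAt y hy ∈ (GrothLib.WeakAss.annSec (GrothLib.WeakAss.toModSec z)).minimalPrimes := by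
  rcases hX with hN | ⟨hred, hloc⟩
  · haveI : IsNoetherianRing Γ(X, T.1) := IsLocallyNoetherian.component_noetherian T
    obtain ⟨z₀, hz⟩ := GrothLib.WeakAss.exists_minimal_of_isWeakAssPoint T.2 hy hwa
    exact ⟨z₀, Ideal.finite_minimalPrimes_of_isNoetherianRing _ _, hz⟩
  · have hann : GrothLib.WeakAss.annSec (GrothLib.WeakAss.toModSec (1 : Γ(X, T.1))) = ⊥ := by
      ext c
      rw [GrothLib.WeakAss.mem_annSec_structure, mul_one, Ideal.mem_bot]
    have hkey : ∀ P : PrimeSpectrum Γ(X, T.1), P.asIdeal ∈ (⊥ : Ideal Γ(X, T.1)).minimalPrimes ↔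
        GrothLib.Mero.IsWA (T.2.fromSpec P) := by
      intro P
      refine Iff.trans ?_ (GrothLib.WeakAss.isWeakAssPoint_structure_iff _).symm
      constructor
      · intro hP w hw
        obtain ⟨Q, rfl⟩ := T.2.range_fromSpec.ge (SetLike.mem_coe.mpr (hw.mem_open T.1.2 (T.2.range_fromSpec.le ⟨P, rfl⟩)))
        have hle : Q.asIdeal ≤ P.asIdeal := (PrimeSpectrum.le_iff_specializes Q P).mpr
          (T.2.fromSpec.isOpenEmbedding.isInducing.specializes_iff.mp hw)
        rw [PrimeSpectrum.ext (le_antisymm hle (hP.2 ⟨Q.isPrime, bot_le⟩ hle))]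
      · intro h
        refine ⟨⟨P.isPrime, bot_le⟩, fun q hq hqP => ?_⟩
        have h1 := h _ (((PrimeSpectrum.le_iff_specializes ⟨q, hq.1⟩ P).mp hqP).map T.2.fromSpec.continuous)
        exact (congrArg PrimeSpectrum.asIdeal (T.2.fromSpec.isOpenEmbedding.injective h1)).ge
    refine ⟨1, ?_, ?_⟩
    · rw [hann]
      have hpre : ({P : PrimeSpectrum Γ(X, T.1) | GrothLib.Mero.IsWA (T.2.fromSpec P)}).Finite :=
        ((GrothLib.Mero.locFiniteWA_of_reduced hloc T).preimage T.2.fromSpec.isOpenEmbedding.injective.injOn).subset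
          fun P hP => ⟨hP, T.2.range_fromSpec.le ⟨P, rfl⟩⟩
      refine (hpre.image PrimeSpectrum.asIdeal).subset fun q hq => ?_
      exact ⟨⟨q, hq.1.1⟩, (hkey ⟨q, hq.1.1⟩).mp hq, rfl⟩
    · obtain ⟨P, rfl⟩ := T.2.range_fromSpec.ge hy
      rw [hann, GrothLib.WeakAss.primeAt_fromSpec T.2]
      exact (hkey P).mpr hwa

/-- Let X be a scheme which is either locally Noetherian, or reduced with locally finite set of
irreducible components (every point has an open neighbourhood meeting only finitely many irreducible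
components). Let U be an open subset, V an open subset of U schematically dense in U (restriction of
functions from every open W ⊆ U to W ∩ V is injective) and g a function on V. Then there is a
section of the sheaf of meromorphic functions K_X over U whose restriction to V is g/1; with part
(i), meromorphic functions over U are exactly the pseudo-functions on U. -/
theorem result (X : Scheme.{u})
    (hX : IsLocallyNoetherian X ∨ (IsReduced X ∧ ∀ x : ↥X, ∃ W : X.Opens, x ∈ W ∧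
      {Z : Set ↥X | Z ∈ irreducibleComponents ↥X ∧ (Z ∩ (W : Set ↥X)).Nonempty}.Finite))
    (U V : X.Opens) (hVU : V ≤ U)
    (hV : ∀ W : X.Opens, W ≤ U →
      Function.Injective ⇑(X.presheaf.map (homOfLE (inf_le_left : W ⊓ V ≤ W)).op))
    (g : Γ(X, V)) :
    ∃ s : Γ(Mero.kmod X, U), (Mero.kmod X).presheaf.map (homOfLE hVU).op s = Mero.toK X V g := by
  have hfinWA : GrothLib.Mero.LocFiniteWA X := by
    rcases hX with hN | ⟨hred, hloc⟩
    · exact GrothLib.Mero.locFiniteWA_of_noetherian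
    · exact GrothLib.Mero.locFiniteWA_of_reduced hloc
  have hWAV : ∀ y ∈ U, GrothLib.Mero.IsWA y → y ∈ V := by
    intro y hy hwa
    obtain ⟨T, hyT, hTU⟩ := GrothLib.BlowUp.exists_affine_mem_le hy
    obtain ⟨z, hfin, hmin⟩ := exists_wa_minimal hX T hyT hwa
    exact mem_of_dense hV T.2 hTU hyT z hfin hmin
  have hinj : ∀ (A : X.Opens) (hA : A ≤ U) (s t : Γ(Mero.kmod X, A)),
      (∀ y : ↥(A ⊓ V), s.1 ⟨y.1, y.2.1⟩ = t.1 ⟨y.1, y.2.1⟩) → s = t := fun A hA s t h => by
    refine Groth.Agent.S5085.result X A (A ⊓ V) inf_le_left (fun W hW => ?_) (GrothLib.Mero.kmod_ext fun y => h y)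
    intro a b hab
    refine hV W (hW.trans hA) ?_
    refine TopCat.Presheaf.section_ext X.sheaf (W ⊓ V) _ _ fun v hv => ?_
    change X.presheaf.germ _ _ hv (X.presheaf.map _ a) = X.presheaf.germ _ _ hv (X.presheaf.map _ b)
    rw [TopCat.Presheaf.germ_res_apply, TopCat.Presheaf.germ_res_apply]
    have h2 := congrArg (X.presheaf.germ (W ⊓ (A ⊓ V)) v ⟨hv.1, hW hv.1, hv.2⟩) hab
    rwa [TopCat.Presheaf.germ_res_apply, TopCat.Presheaf.germ_res_apply] at h2
  have hloc : ∀ x : U, ∃ (T : X.Opens) (_ : x.1 ∈ T) (_ : T ≤ U) (s : Γ(Mero.kmod X, T)),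
      ∀ y : ↥(T ⊓ V), s.1 ⟨y.1, y.2.1⟩ = (Mero.toK X V g).1 ⟨y.1, y.2.2⟩ := by
    intro x
    obtain ⟨T, hxT, hTU⟩ := GrothLib.BlowUp.exists_affine_mem_le x.2
    obtain ⟨b, hb, hbV⟩ := GrothLib.Mero.exists_regular_basicOpen hfinWA T V fun y hy hwa => hWAV y (hTU hy) hwa
    have := T.2.isLocalization_basicOpen b
    obtain ⟨⟨a, ⟨_, n, rfl⟩⟩, ha⟩ := IsLocalization.surj (Submonoid.powers b)
      (X.presheaf.map (homOfLE hbV).op g : Γ(X, X.basicOpen b))
    dsimp only at ha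
    refine ⟨T.1, hxT, hTU, ⟨fun y => LocalizedModule.mk (X.presheaf.germ T.1 y.1 y.2 a) (Mero.regGerm y ⟨b ^ n, pow_mem hb n⟩),
      fun y => ⟨T.1, y.2, 𝟙 _, a, ⟨b ^ n, pow_mem hb n⟩, fun z => rfl⟩⟩, fun y => ?_⟩
    rw [GrothLib.Mero.toK_apply_eq]
    refine (GrothLib.Mero.mk_eq_algebraMap_iff _ _ _).mpr ?_
    have h0 : X.presheaf.map (homOfLE (inf_le_left : T.1 ⊓ V ≤ T.1)).op a -
        X.presheaf.map (homOfLE (inf_le_left : T.1 ⊓ V ≤ T.1)).op (b ^ n) *
          X.presheaf.map (homOfLE (inf_le_right : T.1 ⊓ V ≤ V)).op g = 0 := by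
      refine GrothLib.Mero.eq_zero_of_vanish _ fun v hv hwa => ?_
      refine ⟨X.basicOpen b, le_inf (X.basicOpen_le b) hbV, (GrothLib.Mero.regSub_iff b).mp hb v hv.1 hwa, ?_⟩
      refine TopCat.Presheaf.section_ext X.sheaf (X.basicOpen b) _ _ fun w hw => ?_
      change X.presheaf.germ _ _ hw (X.presheaf.map _ _) = X.presheaf.germ _ _ hw 0
      rw [TopCat.Presheaf.germ_res_apply, map_zero, map_sub, map_mul, TopCat.Presheaf.germ_res_apply,
        TopCat.Presheaf.germ_res_apply, TopCat.Presheaf.germ_res_apply, sub_eq_zero]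
      have h2 := congrArg (X.presheaf.germ (X.basicOpen b) w hw) ha
      simp only [map_mul] at h2
      change X.presheaf.germ _ _ hw (X.presheaf.map _ g) * X.presheaf.germ _ _ hw (X.presheaf.map _ (b ^ n)) =
        X.presheaf.germ _ _ hw (X.presheaf.map _ a) at h2
      simp only [TopCat.Presheaf.germ_res_apply, TopCat.Presheaf.germ_res_apply'] at h2
      rw [← h2, mul_comm]
    have h3 := congrArg (X.presheaf.germ (T.1 ⊓ V) y.1 y.2) h0
    rw [map_zero, map_sub, map_mul, TopCat.Presheaf.germ_res_apply, TopCat.Presheaf.germ_res_apply,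
      TopCat.Presheaf.germ_res_apply, sub_eq_zero] at h3
    exact h3
  choose T hxT hTU s hs using hloc
  have hcompat : TopCat.Presheaf.IsCompatible (Mero.kring X).obj T s := fun i j =>
    hinj _ (inf_le_left.trans (hTU i)) _ _ fun y =>
      (hs i ⟨y.1, y.2.1.1, y.2.2⟩).trans (hs j ⟨y.1, y.2.1.2, y.2.2⟩).symm
  obtain ⟨t, ht, -⟩ := (Mero.kring X).existsUnique_gluing' T U (fun x => homOfLE (hTU x))
    (fun y hy => Opens.mem_iSup.mpr ⟨⟨y, hy⟩, hxT _⟩) s hcompat
  refine ⟨t, GrothLib.Mero.kmod_ext fun y => ?_⟩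
  refine Eq.trans ?_ (hs ⟨y.1, hVU y.2⟩ ⟨y.1, hxT _, y.2⟩)
  exact congrArg (fun r : Γ(Mero.kmod X, T ⟨y.1, hVU y.2⟩) => r.1 ⟨y.1, hxT _⟩) (ht ⟨y.1, hVU y.2⟩)

end Groth.Agent.S5086
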