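import Groth.Statements.S5088
import Groth.Agent.Lib.Mero.Criteria

set_option autoImplicit false
universe u
open CategoryTheory CategoryTheory.Limits AlgebraicGeometry TopologicalSpace
open Mero

namespace Groth.Agent.S5088

/-- Case a): let X be a locally Noetherian scheme such that the set of associated points of O_X (the
points x such that the maximal ideal of O_{X,x} is an associated prime of O_{X,x}) is contained in
an affine open subset of X. Then every invertible O_X-module is isomorphic to O_X(D) for some
divisor D on X; in other words the canonical homomorphism Div(X) → Pic(X) is surjective and Pic(X)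
is the group of divisors modulo linear equivalence. -/
theorem result (X : Scheme.{u}) [IsLocallyNoetherian X]
    (hX : ∃ W : X.Opens, IsAffineOpen W ∧ ∀ x : ↥X,
      IsAssociatedPrime (IsLocalRing.maximalIdeal ↑(X.presheaf.stalk x)) ↑(X.presheaf.stalk x) → x ∈ W)
    (L : X.Modules) (hL : PicF.IsInvertible L) :
    ∃ D : Mero.Divisor X, Nonempty (L ≅ Mero.divMod D) := by
  obtain ⟨W, hW, hass⟩ := hX
  obtain ⟨s, hs⟩ := GrothLib.Mero.hasRegularMero_of_affine hL hW fun y hy => hass y ((GrothLib.Mero.isWA_iff y).mp hy)
  exact GrothLib.Mero.exists_iso_divMod_of_regular hL hs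

end Groth.Agent.S5088
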