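import Groth.Statements.S5090
import Groth.Agent.Lib.FacDiv.Principal
set_option backward.isDefEq.respectTransparency false
set_option backward.isDefEq.respectTransparency.types false


set_option autoImplicit false
universe u
open CategoryTheory CategoryTheory.Limits AlgebraicGeometry TopologicalSpace
open Div21

namespace Groth.Agent.S5090

/-- Equivalence of conditions a'') and c): let X be a locally Noetherian scheme which is reduced at each
of its isolated points (for every point x such that {x} is open, the local ring O_{X,x} is reduced).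
Then the following are equivalent. (a'') Every integral closed subscheme of X of codimension 1 is
regularly immersed in X: for every point ζ whose local ring has dimension 1 and every specialization
x of ζ, the ideal of O_{X,x} defining the closure of ζ with its reduced structure (the preimage of
the maximal ideal of O_{X,ζ} under the specialization map) is generated by one non-zero-divisor of
O_{X,x}. (c) X is locally factorial: every local ring of X is a unique factorisation domain. -/
theorem result (X : Scheme.{u}) [IsLocallyNoetherian X]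
    (hred : ∀ x : ↥X, IsOpen ({x} : Set ↥X) → IsReduced ↑(X.presheaf.stalk x)) :
    (∀ ζ : ↥X, ringKrullDim ↑(X.presheaf.stalk ζ) = 1 → ∀ (x : ↥X) (h : ζ ⤳ x),
        ∃ t : ↑(X.presheaf.stalk x), t ∈ nonZeroDivisors ↑(X.presheaf.stalk x) ∧
          (IsLocalRing.maximalIdeal ↑(X.presheaf.stalk ζ)).comap (X.presheaf.stalkSpecializes h).hom =
            Ideal.span {t}) ↔
      ∀ x : ↥X, ∃ _ : IsDomain ↑(X.presheaf.stalk x), UniqueFactorizationMonoid ↑(X.presheaf.stalk x) := by
  have := (GrothLib.HomSh.isCoh_structureModule X).1
  constructor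
  · intro h
    have hpr : ∀ (x : X) (P : Ideal (X.presheaf.stalk x)), P.IsPrime → P.height = 1 → ∃ t, P = Ideal.span {t} := by
      intro x P hP hh
      obtain ⟨y, hyx, hdim, rfl⟩ := GrothLib.FacDiv.exists_comap_eq P
      obtain ⟨t, -, ht⟩ := h y (hdim.trans (by rw [hh]; rfl)) x hyx
      exact ⟨t, ht⟩
    have hdom0 : ∀ x : X, ringKrullDim (X.presheaf.stalk x) ≠ 0 → IsDomain (X.presheaf.stalk x) := by
      intro x hx
      obtain ⟨P, hP, hh⟩ := GrothLib.FacDiv.exists_height_one (A := X.presheaf.stalk x) fun h0 => hx (by
        rw [← IsLocalRing.maximalIdeal_height_eq_ringKrullDim, h0]; rfl)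
      obtain ⟨t, rfl⟩ := hpr x P hP hh
      exact GrothLib.FacDiv.isDomain_of_height_one_principal hh
    have hgen : ∀ x : X, ringKrullDim (X.presheaf.stalk x) = 0 → ∀ z : X, z ⤳ x → z = x := by
      intro x hx z hz
      have : Ring.KrullDimLE 0 (X.presheaf.stalk x) := Ring.krullDimLE_iff.2 hx.le
      have hmax := Ring.krullDimLE_zero_iff.1 this
        ((IsLocalRing.maximalIdeal (X.presheaf.stalk z)).comap (GrothLib.Ref1.spR hz)) inferInstance
      refine GrothLib.FacDiv.eq_of_isUnit_iff hz (specializes_refl x) fun a => ?_
      have he := congrArg (a ∈ ·) (IsLocalRing.eq_maximalIdeal hmax)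
      simp only [Ideal.mem_comap, IsLocalRing.mem_maximalIdeal, mem_nonunits_iff, eq_iff_iff, not_iff_not] at he
      rw [he]
      show IsUnit a ↔ IsUnit ((X.presheaf.stalkSpecializes (specializes_refl x)).hom a)
      rw [TopCat.Presheaf.stalkSpecializes_refl]
      rfl
    intro x
    have hdom : IsDomain (X.presheaf.stalk x) := by
      by_cases hx : ringKrullDim (X.presheaf.stalk x) = 0
      · by_cases hex : ∃ z, x ⤳ z ∧ z ≠ x
        · obtain ⟨z, hz, hne⟩ := hex
          have := hdom0 z fun h0 => hne (hgen z h0 x hz).symm
          exact GrothLib.FacDiv.isDomain_of_specializes hz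
        · push Not at hex
          have := hred x (GrothLib.FacDiv.isOpen_singleton_of_isolated (hgen x hx) hex)
          have : Ring.KrullDimLE 0 (X.presheaf.stalk x) := Ring.krullDimLE_iff.2 hx.le
          exact (Ring.KrullDimLE.isField_of_isReduced (R := X.presheaf.stalk x)).isDomain
      · exact hdom0 x hx
    exact ⟨hdom, GrothLib.FacDiv.ufd_of_height_one_principal (hpr x)⟩
  · intro h ζ hζ x hx
    obtain ⟨hd, hufd⟩ := h x
    let P := (IsLocalRing.maximalIdeal (X.presheaf.stalk ζ)).comap (X.presheaf.stalkSpecializes hx).hom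
    have hh : P.height = 1 := by
      have := (GrothLib.FacDiv.height_comap_eq hx).symm.trans hζ
      exact_mod_cast this
    have hP0 : P ≠ ⊥ := fun e => by rw [e, Ideal.height_bot] at hh; exact zero_ne_one hh
    obtain ⟨t, htP, ht⟩ := Ideal.IsPrime.exists_mem_prime_of_ne_bot (inferInstance : P.IsPrime) hP0
    have : (Ideal.span {t}).IsPrime := (Ideal.span_singleton_prime ht.ne_zero).2 ht
    refine ⟨t, mem_nonZeroDivisors_of_ne_zero ht.ne_zero, (eq_of_le_of_not_lt ((Ideal.span_singleton_le_iff_mem _).2 htP) fun hlt => ?_).symm⟩
    have h1 := Ideal.height_strict_mono_of_isPrime hlt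
    have h2 := Ideal.height_strict_mono_of_isPrime
      (bot_lt_iff_ne_bot.2 (fun e : Ideal.span {t} = ⊥ => ht.ne_zero (Ideal.span_singleton_eq_bot.1 e)))
    rw [hh, Order.lt_one_iff] at h1
    rw [h1] at h2
    exact not_lt_bot h2

end Groth.Agent.S5090
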