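import Groth.Statements.S5091
import Mathlib
import Groth.Agent.Lib.Hensel.FibreLocal

set_option backward.isDefEq.respectTransparency false
set_option backward.isDefEq.respectTransparency.types false

set_option autoImplicit false
universe u
open CategoryTheory CategoryTheory.Limits AlgebraicGeometry TopologicalSpace
open Div21

namespace Groth.Agent.S5091

/-- Let X be a locally Noetherian scheme, Y a closed subset and U = X − Y, with j : U → X the inclusion.
Then O_X → j_*O_U is injective — restriction of functions from every open V to V ∩ U is injective,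
i.e. U is schematically dense in X — if and only if the local ring of X at every point of Y has
depth at least 1. -/
theorem result (X : Scheme.{u}) [IsLocallyNoetherian X] (U : X.Opens) :
    CInt.IsSchematicallyDense U ↔
      ∀ x : ↥X, x ∉ U → (1 : ℕ∞) ≤ LocCoh.depth ↑(X.presheaf.stalk x) ↑(X.presheaf.stalk x) := by
  have hd : ∀ x : X, (1 : ℕ∞) ≤ LocCoh.depth ↑(X.presheaf.stalk x) ↑(X.presheaf.stalk x) ↔
      ¬ IsLocalRing.maximalIdeal (X.presheaf.stalk x) ∈ associatedPrimes (X.presheaf.stalk x) (X.presheaf.stalk x) := fun x => by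
    rw [GrothLib.Hensel.maximalIdeal_mem_associatedPrimes_iff]
    exact Order.one_le_iff_ne_zero
  have hcol : ∀ (x : X) (a r : X.presheaf.stalk x),
      r ∈ (⊥ : Submodule (X.presheaf.stalk x) (X.presheaf.stalk x)).colon {a} ↔ r * a = 0 := fun x a r => by
    simp [Submodule.mem_colon_singleton]
  constructor
  · intro hU x hx
    rw [hd]
    rintro ⟨-, a, ha⟩
    obtain ⟨_, ⟨V, hV, rfl⟩, hxV, -⟩ :=
      X.isBasis_affineOpens.exists_subset_of_mem_open (Set.mem_univ x) isOpen_univ
    haveI : IsNoetherianRing Γ(X, V) := IsLocallyNoetherian.component_noetherian ⟨V, hV⟩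
    letI : Algebra Γ(X, V) (X.presheaf.stalk x) := TopCat.Presheaf.algebra_section_stalk X.presheaf (⟨x, hxV⟩ : V)
    haveI := hV.isLocalization_stalk ⟨x, hxV⟩
    let p := (hV.primeIdealOf ⟨x, hxV⟩).asIdeal
    have halg : ∀ b, algebraMap Γ(X, V) (X.presheaf.stalk x) b = X.presheaf.germ V x hxV b := fun b => rfl
    obtain ⟨⟨z, c⟩, hzc⟩ := IsLocalization.surj p.primeCompl a
    obtain ⟨G, hG⟩ := IsNoetherian.noetherian p
    have hkill : ∀ g ∈ G, ∃ (n : ℕ) (W : X.Opens) (hW : W ≤ V), x ∈ W ∧ X.presheaf.map (homOfLE hW).op (g ^ n * z) = 0 := by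
      intro g hg
      have hgp : g ∈ p := hG ▸ Submodule.subset_span hg
      have hgm : algebraMap Γ(X, V) (X.presheaf.stalk x) g ∈ IsLocalRing.maximalIdeal (X.presheaf.stalk x) :=
        (IsLocalization.AtPrime.to_map_mem_maximal_iff (X.presheaf.stalk x) p g).2 hgp
      rw [ha] at hgm
      obtain ⟨n, hn⟩ := hgm
      rw [hcol, ← map_pow] at hn
      have h0 : X.presheaf.germ V x hxV (g ^ n * z) = X.presheaf.germ V x hxV 0 := by
        rw [map_zero, ← halg, map_mul, ← hzc, ← mul_assoc, hn, zero_mul]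
      obtain ⟨W, hxW, iU, iV, e⟩ := X.presheaf.germ_eq x hxV hxV _ _ h0
      exact ⟨n, W, iU.le, hxW, by rw [map_zero] at e; exact e⟩
    choose n W hW hxW hz0 using hkill
    let W0 : X.Opens := V ⊓ ⟨⋂ g : G, (W g g.2 : Set X), isOpen_iInter_of_finite fun g => (W g g.2).2⟩
    have hxW0 : x ∈ W0 := ⟨hxV, Set.mem_iInter.2 fun g => hxW g g.2⟩
    have hz : X.presheaf.map (homOfLE (inf_le_left : W0 ≤ V)).op z = 0 := by
      refine hU W0 ((TopCat.Presheaf.section_ext X.sheaf (W0 ⊓ U) _ _ fun y hy => ?_))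
      change X.presheaf.germ (W0 ⊓ U) y hy _ = X.presheaf.germ (W0 ⊓ U) y hy _
      rw [TopCat.Presheaf.germ_res_apply, TopCat.Presheaf.germ_res_apply, map_zero]
      have hyV : y ∈ V := hy.1.1
      obtain ⟨g, hg, hyg⟩ : ∃ g ∈ G, y ∈ X.basicOpen g := by
        by_contra hh
        push Not at hh
        refine hx (?_ : x ∈ U)
        have hle : p ≤ (hV.primeIdealOf ⟨y, hyV⟩).asIdeal := by
          rw [← hG, Submodule.span_le]
          intro g hg
          by_contra hne
          refine hh g hg ?_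
          have hfy : hV.fromSpec (hV.primeIdealOf ⟨y, hyV⟩) = y := hV.fromSpec_primeIdealOf ⟨y, hyV⟩
          rw [← hfy]
          show hV.primeIdealOf ⟨y, hyV⟩ ∈ hV.fromSpec ⁻¹ᵁ X.basicOpen g
          rw [hV.fromSpec_preimage_basicOpen]
          exact hne
        have hsp := ((PrimeSpectrum.le_iff_specializes _ _).1 hle).map hV.fromSpec.continuous
        rw [hV.fromSpec_primeIdealOf, hV.fromSpec_primeIdealOf] at hsp
        exact hsp.mem_open U.2 hy.2
      have hyW : y ∈ W g hg := Set.mem_iInter.1 hy.1.2 ⟨g, hg⟩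
      have h1 := congrArg (X.presheaf.germ (W g hg) y hyW) (hz0 g hg)
      rw [TopCat.Presheaf.germ_res_apply, map_mul, map_pow, map_zero] at h1
      exact ((((Scheme.mem_basicOpen _ g y hyV).1 hyg).pow _).mul_right_eq_zero.1 h1).trans (map_zero _).symm
    have hzx : algebraMap Γ(X, V) (X.presheaf.stalk x) z = 0 := by
      rw [halg, ← TopCat.Presheaf.germ_res_apply X.presheaf (homOfLE (inf_le_left : W0 ≤ V)) x hxW0 z, hz, map_zero]
    rw [hzx, (IsLocalization.map_units (X.presheaf.stalk x) c).mul_left_eq_zero] at hzc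
    refine (IsLocalRing.maximalIdeal.isMaximal (X.presheaf.stalk x)).ne_top ?_
    rw [ha, Ideal.radical_eq_top, Ideal.eq_top_iff_one, hcol, hzc, mul_zero]
  · intro h V
    rw [injective_iff_map_eq_zero]
    intro s hs
    refine TopCat.Presheaf.section_ext X.sheaf V s 0 fun x hxV => ?_
    rw [map_zero]
    obtain ⟨_, ⟨W, hW, rfl⟩, hxW, hWV⟩ :=
      X.isBasis_affineOpens.exists_subset_of_mem_open (SetLike.mem_coe.2 hxV) V.2
    let z := X.presheaf.map (homOfLE hWV).op s
    suffices hz : z = 0 by
      change X.presheaf.germ V x hxV s = 0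
      rw [← TopCat.Presheaf.germ_res_apply X.presheaf (homOfLE hWV) x hxW s]
      exact (congrArg _ hz).trans (map_zero _)
    by_contra hne
    let A : Ideal Γ(X, W) := LinearMap.ker (LinearMap.toSpanSingleton Γ(X, W) Γ(X, W) z)
    have hA : ∀ b, b ∈ A ↔ b * z = 0 := fun b => by simp [A, LinearMap.mem_ker]
    have hAne : A ≠ ⊤ := fun e => hne (by simpa using (hA 1).1 (e ▸ Submodule.mem_top))
    obtain ⟨q, hq⟩ := Ideal.nonempty_minimalPrimes hAne
    haveI := hq.1.1
    let Q : PrimeSpectrum Γ(X, W) := ⟨q, hq.1.1⟩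
    let y := hW.fromSpec Q
    have hyW : y ∈ W := by
      rw [← SetLike.mem_coe, ← hW.range_fromSpec]
      exact ⟨Q, rfl⟩
    have hpy : hW.primeIdealOf ⟨y, hyW⟩ = Q :=
      hW.fromSpec.isOpenEmbedding.injective (hW.fromSpec_primeIdealOf _)
    letI : Algebra Γ(X, W) (X.presheaf.stalk y) := TopCat.Presheaf.algebra_section_stalk X.presheaf (⟨y, hyW⟩ : W)
    haveI : IsLocalization.AtPrime (X.presheaf.stalk y) q := by
      have := hW.isLocalization_stalk ⟨y, hyW⟩
      simp only [hpy] at this
      exact this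
    have hgz : algebraMap Γ(X, W) (X.presheaf.stalk y) z ≠ 0 := fun e => by
      obtain ⟨c, hc⟩ := (IsLocalization.map_eq_zero_iff q.primeCompl _ z).1 e
      exact c.2 (hq.1.2 ((hA c).2 hc))
    have hyU : y ∉ U := fun hyU => hgz (by
      have h1 := congrArg (X.presheaf.germ (V ⊓ U) y ⟨hWV hyW, hyU⟩) hs
      rw [TopCat.Presheaf.germ_res_apply, map_zero] at h1
      exact (TopCat.Presheaf.germ_res_apply X.presheaf (homOfLE hWV) y hyW s).trans h1)
    refine (hd y).1 (h y hyU) ⟨Ideal.IsMaximal.isPrime inferInstance, algebraMap Γ(X, W) (X.presheaf.stalk y) z, ?_⟩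
    refine le_antisymm ?_ (IsLocalRing.le_maximalIdeal fun e => ?_)
    · calc IsLocalRing.maximalIdeal (X.presheaf.stalk y)
          ≤ (A.map (algebraMap Γ(X, W) (X.presheaf.stalk y))).radical := by
            rw [Ideal.radical_eq_sInf]
            refine le_sInf fun P hP => ?_
            obtain ⟨hle, hPp⟩ := hP
            haveI := hPp
            have h2 : P.comap (algebraMap Γ(X, W) (X.presheaf.stalk y)) ≤ q := by
              refine le_trans (Ideal.comap_mono (IsLocalRing.le_maximalIdeal hPp.ne_top)) ?_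
              exact (IsLocalization.AtPrime.comap_maximalIdeal (X.presheaf.stalk y) q).le
            have h3 := hq.2 ⟨Ideal.IsPrime.comap _, Ideal.map_le_iff_le_comap.1 hle⟩ h2
            rw [← IsLocalization.AtPrime.map_eq_maximalIdeal q (X.presheaf.stalk y)]
            exact Ideal.map_le_iff_le_comap.2 h3
        _ ≤ _ := Ideal.radical_mono (Ideal.map_le_iff_le_comap.2 fun b hb => by
            rw [Ideal.mem_comap, hcol, ← map_mul, (hA b).1 hb, map_zero])
    · rw [Ideal.radical_eq_top, Ideal.eq_top_iff_one, hcol, one_mul] at e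
      exact hgz e

end Groth.Agent.S5091
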