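import Groth.Statements.S5092
import Groth.Agent.Lib.Mero.Ass

set_option autoImplicit false
universe u
open CategoryTheory CategoryTheory.Limits AlgebraicGeometry TopologicalSpace
open Mero

namespace Groth.Agent.S5092

/-- Suppose X and Y are schemes, both locally Noetherian, and f : X → Y is a morphism carrying each
associated point of O_X (that is, a point whose local ring has its maximal ideal among its
associated primes) to an associated point of O_Y. Then, given any open subset U of Y and any regular
function s on U (one whose germ at each point of U is a non-zero-divisor), the function on f⁻¹(U)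
obtained by pulling s back along f is again regular; as a result, every meromorphic function and
every divisor on Y admits a well-defined pullback along f. -/
theorem result {X Y : Scheme.{u}} [IsLocallyNoetherian X] [IsLocallyNoetherian Y]
    (f : X ⟶ Y)
    (hf : ∀ x : ↥X, IsAssociatedPrime (IsLocalRing.maximalIdeal ↑(X.presheaf.stalk x)) ↑(X.presheaf.stalk x) →
      IsAssociatedPrime (IsLocalRing.maximalIdeal ↑(Y.presheaf.stalk (f x))) ↑(Y.presheaf.stalk (f x))) :
    ∀ (U : Y.Opens) (s : Γ(Y, U)), s ∈ Mero.regSub Y U → f.app U s ∈ Mero.regSub X (f ⁻¹ᵁ U) := by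
  intro U s hs
  rw [GrothLib.Mero.regSub_iff] at hs ⊢
  intro x hx hwa
  have hx' : IsAssociatedPrime (IsLocalRing.maximalIdeal ↑(X.presheaf.stalk x)) ↑(X.presheaf.stalk x) :=
    (GrothLib.Mero.isWA_iff x).mp hwa
  have hy : GrothLib.Mero.IsWA (f x) := (GrothLib.Mero.isWA_iff (f x)).mpr (hf x hx')
  have := hs (f x) hx hy
  rw [← Scheme.preimage_basicOpen]
  exact this

end Groth.Agent.S5092
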