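import Groth.Statements.S5094
import Groth.Agent.Lib.Birat.NormalPoint

set_option autoImplicit false
universe u
open CategoryTheory CategoryTheory.Limits AlgebraicGeometry TopologicalSpace
open Lim8

namespace Groth.Agent.S5094

/-- Let X and Y be integral schemes and f : X → Y a separated morphism, locally of finite type and
birational (f sends the generic point of X to the generic point of Y and its stalk map there, the
induced homomorphism of function fields, is an isomorphism). Let y be a normal point of Y (the local
ring O_{Y,y} is integrally closed) and suppose that some point of the fibre f⁻¹(y) is isolated in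
that fibre. Then y has an open neighbourhood U such that the restriction f⁻¹(U) → U of f is an
isomorphism. -/
theorem result {X Y : Scheme.{u}} [IsIntegral X]
    [IsIntegral Y] (f : X ⟶ Y) [IsSeparated f] [LocallyOfFiniteType f]
    (hgen : f (genericPoint X) = genericPoint Y) (hbir : IsIso (f.stalkMap (genericPoint X)))
    (y : ↥Y) (hy : IsIntegrallyClosed ↑(Y.presheaf.stalk y))
    (x : ↥(f.fiber y)) (hx : IsOpen ({x} : Set ↥(f.fiber y))) :
    ∃ U : Y.Opens, y ∈ U ∧ IsIso (f ∣_ U) := by
    obtain ⟨z, rfl⟩ : ∃ z : X, f z = y := ⟨f.fiberι y x, by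
      have h : f.fiberι y x ∈ Set.range (f.fiberι y) := ⟨x, rfl⟩
      rw [Scheme.Hom.range_fiberι] at h
      exact h⟩
    haveI := hy
    have hz : f.QuasiFiniteAt (f.fiberι (f z) x) := by
      refine f.quasiFiniteAt_iff_isOpen_singleton_asFiber.mpr ?_
      have e : f (f.fiberι (f z) x) = f z := by
        have h : f.fiberι (f z) x ∈ Set.range (f.fiberι (f z)) := ⟨x, rfl⟩
        rwa [Scheme.Hom.range_fiberι] at h
      have key : ∀ (w : Y) (e : f (f.fiberι (f z) x) = w) (t : f.fiber w),
          f.fiberι w t = f.fiberι (f z) x → IsOpen ({t} : Set (f.fiber w)) →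
          IsOpen {f.asFiber (f.fiberι (f z) x)} := by
        rintro w rfl t ht h
        have : t = f.asFiber (f.fiberι (f z) x) := (f.fiberι _).isEmbedding.injective (by simp [ht])
        rwa [← this]
      exact key _ e x rfl hx
    have e : f (f.fiberι (f z) x) = f z := by
      have h : f.fiberι (f z) x ∈ Set.range (f.fiberι (f z)) := ⟨x, rfl⟩
      rwa [Scheme.Hom.range_fiberι] at h
    haveI : IsIntegrallyClosed ↑(Y.presheaf.stalk (f (f.fiberι (f z) x))) := e.symm ▸ hy
    obtain ⟨U, hU, hi⟩ := GrothLib.Birat.exists_isIso_morphismRestrict f hgen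
      (ConcreteCategory.bijective_of_isIso _) _ hz
    exact ⟨U, e ▸ hU, hi⟩

end Groth.Agent.S5094
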