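import Groth.Statements.S5097
import Groth.Agent.Lib.Mero.Div

set_option autoImplicit false
universe u
open CategoryTheory CategoryTheory.Limits AlgebraicGeometry TopologicalSpace
open Mero

namespace Groth.Agent.S5097

/-- Injectivity of the canonical homomorphism from divisors to invertible fractional ideals: let X be a
scheme and D, D' two divisors on X such that, over every open subset U, a section t of the sheaf of
meromorphic functions lies in O_X(D) (t_x · g ∈ O_{X,x} for a representative g of the germ of D at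
x, for all x in U) if and only if it lies in O_X(D'). Then D = D'. -/
theorem result (X : Scheme.{u}) (D D' : Mero.Divisor X)
    (h : ∀ (U : X.Opens) (t : Γ(Mero.kmod X, U)),
      (∀ x : ↥U, Mero.DivCond D x.1 (t.1 x)) ↔ (∀ x : ↥U, Mero.DivCond D' x.1 (t.1 x))) :
    D = D' := by
  refine GrothLib.Mero.ext_germ fun x => ?_
  obtain ⟨U, hxU, f, hf⟩ := D.2 x
  obtain ⟨U', hxU', f', hf'⟩ := D'.2 x
  have h1 := (h U (↑f⁻¹ : Γ(Mero.kmod X, U))).1 (fun y => ?_) ⟨x, hxU⟩
  have h2 := (h U' (↑f'⁻¹ : Γ(Mero.kmod X, U'))).2 (fun y => ?_) ⟨x, hxU'⟩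
  · rw [GrothLib.Mero.divCond_iff (hf' ⟨x, hxU'⟩)] at h1
    rw [GrothLib.Mero.divCond_iff (hf ⟨x, hxU⟩)] at h2
    exact GrothLib.Mero.germ_eq_of_iff (hf ⟨x, hxU⟩) (hf' ⟨x, hxU'⟩) h1 h2
  · rw [GrothLib.Mero.divCond_iff (hf' y)]
    exact ⟨1, (map_one _).trans (congrArg (fun t : Γ(Mero.kmod X, U') => t.1 y) f'.inv_mul).symm⟩
  · rw [GrothLib.Mero.divCond_iff (hf y)]
    exact ⟨1, (map_one _).trans (congrArg (fun t : Γ(Mero.kmod X, U) => t.1 y) f.inv_mul).symm⟩

end Groth.Agent.S5097
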