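import Groth.Statements.S5098
import Groth.Agent.Lib.Mero.DepthOne

set_option autoImplicit false
universe u
open CategoryTheory CategoryTheory.Limits AlgebraicGeometry TopologicalSpace
open Mero

namespace Groth.Agent.S5098

/-- General form, for divisors on a scheme that need not be integral: let X be a locally Noetherian
scheme and D a divisor on X. If the germ of D is effective (resp. trivial) at every point x whose
local ring O_{X,x} has depth 1, then D is effective (resp. D is the unit divisor, in the
multiplicative notation used here). -/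
theorem result (X : Scheme.{u}) [IsLocallyNoetherian X] (D : Mero.Divisor X) :
    ((∀ x : ↥X, LocCoh.depth ↑(X.presheaf.stalk x) ↑(X.presheaf.stalk x) = 1 → Mero.IsEffectiveAt D x) →
        Mero.IsEffective D) ∧
      ((∀ x : ↥X, LocCoh.depth ↑(X.presheaf.stalk x) ↑(X.presheaf.stalk x) = 1 → D.1 x = 1) → D = 1) := by
  refine ⟨GrothLib.Mero.isEffective_of_depth_one D, fun h => GrothLib.Mero.ext_germ fun x => ?_⟩
  have e : ∀ (E : Mero.Divisor X), (∀ y, LocCoh.depth ↑(X.presheaf.stalk y) ↑(X.presheaf.stalk y) = 1 → E.1 y = 1) →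
      Mero.IsEffective E := fun E hE => GrothLib.Mero.isEffective_of_depth_one E fun y hy =>
    GrothLib.Mero.isEffectiveAt_of_mem (g := 1) ((hE y hy).trans (QuotientGroup.mk_one _).symm) (one_mem _)
  obtain ⟨g, hg⟩ := QuotientGroup.mk_surjective (D.1 x)
  have h1 := GrothLib.Mero.mem_of_isEffectiveAt hg.symm (e D h x)
  have h2 := GrothLib.Mero.mem_of_isEffectiveAt (D := D⁻¹) (g := g⁻¹)
    (show (D.1 x)⁻¹ = _ by rw [← hg, QuotientGroup.mk_inv]) (e D⁻¹ (fun y hy => show (D.1 y)⁻¹ = 1 by rw [h y hy, inv_one]) x)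
  change D.1 x = 1
  rw [← hg, QuotientGroup.eq_one_iff]
  exact (GrothLib.Mero.mem_stalkUnits_iff _).mpr ⟨h1, h2⟩

end Groth.Agent.S5098
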