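import Groth.Statements.S5099
import Groth.Agent.Lib.Mero.DepthOne

set_option autoImplicit false
universe u
open CategoryTheory CategoryTheory.Limits AlgebraicGeometry TopologicalSpace
open Mero

namespace Groth.Agent.S5099

/-- General form, for divisors on a scheme that need not be integral: let X be a locally Noetherian
scheme, D a divisor on X and x a maximal point of the support of D (a point at which the germ of D
is not trivial and none of whose proper generizations has that property). Then the local ring of X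
at x has depth 1. -/
theorem result (X : Scheme.{u}) [IsLocallyNoetherian X] (D : Mero.Divisor X)
    (x : ↥X) (hx : x ∈ Mero.supp D) (hmax : ∀ z : ↥X, z ∈ Mero.supp D → z ⤳ x → z = x) :
    LocCoh.depth ↑(X.presheaf.stalk x) ↑(X.presheaf.stalk x) = 1 := by
  obtain ⟨U, hxU, f, hf⟩ := D.2 x
  by_cases h1 : (f : Γ(Mero.kmod X, U)).1 ⟨x, hxU⟩ ∈ GrothLib.Mero.intRing x
  · by_cases h2 : (↑f⁻¹ : Γ(Mero.kmod X, U)).1 ⟨x, hxU⟩ ∈ GrothLib.Mero.intRing x
    · refine absurd ?_ hx
      rw [hf ⟨x, hxU⟩, Mero.germOf, QuotientGroup.eq_one_iff]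
      exact (GrothLib.Mero.mem_stalkUnits_iff _).mpr ⟨h1, h2⟩
    · refine GrothLib.Mero.depth_eq_one_of_not_mem _ hxU h2 fun z hz hne => ?_
      have h0 : D.1 z = 1 := by
        by_contra hc
        exact hne (hmax z hc hz)
      rw [hf ⟨z, hz.mem_open U.2 hxU⟩, Mero.germOf, QuotientGroup.eq_one_iff] at h0
      exact ((GrothLib.Mero.mem_stalkUnits_iff _).mp h0).2
  · refine GrothLib.Mero.depth_eq_one_of_not_mem _ hxU h1 fun z hz hne => ?_
    have h0 : D.1 z = 1 := by
      by_contra hc
      exact hne (hmax z hc hz)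
    rw [hf ⟨z, hz.mem_open U.2 hxU⟩, Mero.germOf, QuotientGroup.eq_one_iff] at h0
    exact ((GrothLib.Mero.mem_stalkUnits_iff _).mp h0).1

end Groth.Agent.S5099
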