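import Groth.Statements.S5102
import Groth.Agent.Lib.Mero.Div
import Groth.Agent.Lib.InvExt.Gen

set_option autoImplicit false
universe u
open CategoryTheory CategoryTheory.Limits AlgebraicGeometry TopologicalSpace
open Mero

namespace Groth.Agent.S5102

/-- Let X be a scheme and J a fractional ideal, i.e. a sub-O_X-module of the sheaf of meromorphic
functions K_X (given by a monomorphism J → K_X). Then J is an invertible O_X-module if and only if
every point of X has an open neighbourhood U together with a unit f of the ring Γ(U, K_X) such that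
J|_U = O_U · f: over every open subset V of U, the sections of J are exactly the r · f|_V with r a
function on V. -/
theorem result (X : Scheme.{u}) (J : X.Modules)
    (ι : J ⟶ Mero.kmod X) [Mono ι] :
    PicF.IsInvertible J ↔ ∀ x : ↥X, ∃ (U : X.Opens) (_ : x ∈ U) (f : (Γ(Mero.kmod X, U))ˣ),
      ∀ (V : X.Opens) (hV : V ≤ U),
        Set.range ⇑(ι.val.app (Opposite.op V)) =
          {t : Γ(Mero.kmod X, V) | ∃ r : Γ(X, V),
            t = Mero.toK X V r * (Mero.kmod X).presheaf.map (homOfLE hV).op (f : Γ(Mero.kmod X, U))} := by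
  have ιinj : ∀ (V : X.Opens) (m n : Γ(J, V)), ι.app V m = ι.app V n → m = n := fun V => by
    haveI : Mono ((Scheme.Modules.toPresheaf X).map ι) := inferInstance
    exact (AddCommGrpCat.mono_iff_injective _).1 (NatTrans.mono_iff_mono_app _ |>.1 this (Opposite.op V))
  constructor
  · intro hJ x
    obtain ⟨V, e, hxV, he⟩ := GrothLib.InvExt.exists_gen_nhd hJ x
    obtain ⟨W, hxW, i, a, b, hab⟩ := (ι.app V e).2 ⟨x, hxV⟩
    let eW := GrothLib.InvExt.mres J i.le e
    have hs : ∀ y : W, (ι.app W eW).1 y = LocalizedModule.mk (X.presheaf.germ W y.1 y.2 a) (Mero.regGerm y b) := fun y => by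
      refine Eq.trans ?_ (hab y)
      exact congrArg (fun t : Γ(Mero.kmod X, W) => t.1 y) (ι.mapPresheaf.naturality_apply i.op e)
    have ha : a ∈ Mero.regSub X W := fun y => by
      refine mem_nonZeroDivisors_iff_left.mpr fun r hr => ?_
      obtain ⟨Z, hyZ, r', rfl⟩ := X.presheaf.exists_germ_eq r
      rw [← TopCat.Presheaf.germ_res_apply X.presheaf (homOfLE (inf_le_left : W ⊓ Z ≤ W)) y.1 ⟨y.2, hyZ⟩ a,
        ← TopCat.Presheaf.germ_res_apply X.presheaf (homOfLE (inf_le_right : W ⊓ Z ≤ Z)) y.1 ⟨y.2, hyZ⟩ r',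
        ← map_mul, ← map_zero (X.presheaf.germ (W ⊓ Z) y.1 ⟨y.2, hyZ⟩).hom] at hr
      obtain ⟨N, hyN, j, j', hj⟩ := X.presheaf.germ_eq y.1 _ _ _ _ hr
      rw [map_mul, map_zero] at hj
      have hle : N ≤ W := j.le.trans inf_le_left
      let rN : Γ(X, N) := X.presheaf.map (homOfLE (j.le.trans inf_le_right)).op r'
      have h0 : rN • GrothLib.InvExt.mres J (hle.trans i.le) e = 0 := by
        refine ιinj N _ _ ?_
        rw [map_zero, Scheme.Modules.Hom.app_smul]
        refine GrothLib.Mero.kmod_ext fun z => ?_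
        have e1 : (ι.app N (GrothLib.InvExt.mres J (hle.trans i.le) e)).1 z =
            (ι.app V e).1 ⟨z.1, i.le (hle z.2)⟩ :=
          congrArg (fun t : Γ(Mero.kmod X, N) => t.1 z) (ι.mapPresheaf.naturality_apply (homOfLE (hle.trans i.le)).op e)
        change X.presheaf.germ N z.1 z.2 rN • _ = 0
        rw [e1]
        refine (congrArg (X.presheaf.germ N z.1 z.2 rN • ·) (hab ⟨z.1, hle z.2⟩)).trans ?_
        dsimp only
        rw [LocalizedModule.smul'_mk, GrothLib.Mero.mk_eq_zero_iff, smul_eq_mul]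
        have h2 := congrArg (X.presheaf.germ N z.1 z.2) hj
        simp only [map_mul, map_zero, TopCat.Presheaf.germ_res_apply] at h2
        simp only [rN, TopCat.Presheaf.germ_res_apply]
        rw [mul_comm]
        exact h2
      have h1 : rN = 0 := he.smul_left_injective (hle.trans i.le) (h0.trans (zero_smul _ _).symm)
      rw [← TopCat.Presheaf.germ_res_apply X.presheaf (homOfLE (j.le.trans inf_le_right)) y.1 hyN r']
      exact (congrArg (X.presheaf.germ N y.1 hyN) h1).trans (map_zero _)
    have heq : ι.app W eW * Mero.toK X W b.1 = Mero.toK X W a := GrothLib.Mero.kmod_ext fun y => by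
      rw [Mero.kmod_mul_apply, hs, Mero.toK_apply, Mero.toK_apply]
      refine LocalizedModule.mk_mul_mk.trans ((GrothLib.Mero.mkK_eq_iff _ _ _ _).mpr ?_)
      simp only [Mero.regGerm, Submonoid.coe_mul, OneMemClass.coe_one, mul_one, one_mul]
      ring
    have hu : IsUnit (ι.app W eW) := isUnit_of_mul_isUnit_left (heq ▸ GrothLib.Mero.isUnit_toK W ha)
    refine ⟨W, hxW, hu.unit, fun T hT => ?_⟩
    have key : ∀ r : Γ(X, T), ι.app T (r • GrothLib.InvExt.mres J (hT.trans i.le) e) =
        Mero.toK X T r * (Mero.kmod X).presheaf.map (homOfLE hT).op (hu.unit : Γ(Mero.kmod X, W)) := fun r => by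
      refine GrothLib.Mero.kmod_ext fun z => ?_
      rw [Scheme.Modules.Hom.app_smul, Mero.kmod_mul_apply, GrothLib.Mero.toK_apply_eq, IsUnit.unit_spec]
      change X.presheaf.germ T z.1 z.2 r • _ = _
      rw [Algebra.smul_def]
      refine congrArg (_ * ·) (congrArg (fun t : Γ(Mero.kmod X, T) => t.1 z) ?_)
      rw [show GrothLib.InvExt.mres J (hT.trans i.le) e = GrothLib.InvExt.mres J hT eW from (GrothLib.InvExt.mres_mres J _ _ e).symm]
      exact ι.mapPresheaf.naturality_apply (homOfLE hT).op eW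
    ext t
    constructor
    · rintro ⟨m, rfl⟩
      obtain ⟨r, rfl⟩ := he.exists_smul_eq (hT.trans i.le) m
      exact ⟨r, key r⟩
    · rintro ⟨r, rfl⟩
      exact ⟨_, key r⟩
  · intro h
    refine GrothLib.InvExt.isInvertible_of_gens fun x => ?_
    obtain ⟨U, hxU, f, hf⟩ := h x
    obtain ⟨e, he⟩ : (f : Γ(Mero.kmod X, U)) ∈ Set.range ⇑(ι.val.app (Opposite.op U)) := by
      rw [hf U le_rfl]
      exact ⟨1, by rw [map_one, one_mul]; rfl⟩
    have key : ∀ (W : X.Opens) (hW : W ≤ U) (r : Γ(X, W)), ι.app W (r • GrothLib.InvExt.mres J hW e) =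
        Mero.toK X W r * (Mero.kmod X).presheaf.map (homOfLE hW).op (f : Γ(Mero.kmod X, U)) := fun W hW r => by
      refine GrothLib.Mero.kmod_ext fun z => ?_
      rw [Scheme.Modules.Hom.app_smul, Mero.kmod_mul_apply, GrothLib.Mero.toK_apply_eq]
      change X.presheaf.germ W z.1 z.2 r • _ = _
      rw [Algebra.smul_def, ← he]
      exact congrArg (_ * ·) (congrArg (fun t : Γ(Mero.kmod X, W) => t.1 z)
        (ι.mapPresheaf.naturality_apply (homOfLE hW).op e))
    refine ⟨U, e, hxU, fun W hW => ⟨fun c d hcd => ?_, fun m => ?_⟩⟩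
    · have h1 := (key W hW c).symm.trans ((congrArg (ι.app W) hcd).trans (key W hW d))
      exact GrothLib.Mero.toK_injective W ((f.isUnit.map ((Mero.kring X).obj.map (homOfLE hW).op).hom).mul_right_cancel h1)
    · have hm : ι.app W m ∈ Set.range ⇑(ι.val.app (Opposite.op W)) := ⟨m, rfl⟩
      rw [hf W hW] at hm
      obtain ⟨r, hr⟩ := hm
      exact ⟨r, ιinj W _ _ ((key W hW r).trans hr.symm)⟩

end Groth.Agent.S5102
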