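import Groth.Statements.S5103
import Groth.Agent.Lib.FacDiv.Invertible
set_option backward.isDefEq.respectTransparency false
set_option backward.isDefEq.respectTransparency.types false


set_option autoImplicit false
universe u
open CategoryTheory CategoryTheory.Limits AlgebraicGeometry TopologicalSpace
open Div21

namespace Groth.Agent.S5103

/-- For an integral scheme (the canonical homomorphism Pic(X) → Cl(X) to the group of codimension-1
cycle classes is injective): let X be a normal locally Noetherian integral scheme, L an invertible
O_X-module and s a nonzero rational section of L (a nonzero element of the fibre of L at the generic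
point). If the Weil divisor of s is principal — there is a nonzero rational function f whose order
of vanishing at every point of codimension 1 (coheight 1 in the specialization order) equals the
order of s there — then L is isomorphic to O_X. -/
theorem result (X : Scheme.{u}) [IsIntegral X] [IsLocallyNoetherian X]
    (hX : Pi1.IsNormalScheme X) (L : X.Modules) (hL : PicF.IsInvertible L)
    (s : Cyc.secFibre L (genericPoint ↥X)) (hs : s ≠ 0) (f : ↑X.functionField) (hf : f ≠ 0)
    (h : ∀ x : ↥X, Order.coheight x = 1 →
      Cyc.secOrdAt L (genericPoint ↥X) x (genericPoint_specializes x) s = Scheme.ord f x) :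
    Nonempty (L ≅ Coh.structureModule X) := by
  obtain ⟨v, rfl⟩ := GrothLib.Ref1.exists_eq_mk s
  have hv : v ≠ 0 := fun h => hs (by rw [h]; exact Submodule.Quotient.mk_zero _)
  have := (GrothLib.HomSh.isCoh_structureModule X).1
  let w : (Coh.structureModule X).presheaf.stalk (genericPoint X) :=
    (f : X.presheaf.stalk (genericPoint X)) • GrothLib.HomSh.unitStalk (genericPoint X) 1
  have hw : w ≠ 0 := fun h => (GrothLib.Ref1.gen_unitStalk (genericPoint X)).ne_zero
    ((GrothLib.Ref1.isUnit_of_ne_zero hf).smul_eq_zero.1 h)
  refine GrothLib.Ref1.nonempty_iso_of_secOrd_eq hX (GrothLib.FacDiv.isRef1_of_isInvertible hL)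
    GrothLib.Ref1.isRef1_structureModule hv hw fun x hx => ?_
  rw [GrothLib.Ref1.secOrd_smul hx (GrothLib.Ref1.gen_unitStalk x) hf
    (GrothLib.Ref1.gen_unitStalk (genericPoint X)).ne_zero, GrothLib.Ref1.secOrd_unit hx, add_zero]
  exact h x hx

end Groth.Agent.S5103
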