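import Groth.Statements.S5104
import Groth.Agent.Lib.DVRDom.Scheme
import Groth.Agent.Lib.DVRDom.Extend
import Groth.Agent.Lib.RedSub.Basic
import Mathlib.AlgebraicGeometry.SpreadingOut
-- import your own Groth.Agent.* helpers here

set_option autoImplicit false
universe u
open CategoryTheory CategoryTheory.Limits AlgebraicGeometry TopologicalSpace
open Rat20

namespace Groth.Agent.S5104

/-- Near any point, every point generalizes to a generization of that point if the irreducible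
components are locally finite. -/
theorem exists_nhd_generic (X : Scheme.{u}) (hfin : ∀ x : ↥X, ∃ W : X.Opens, x ∈ W ∧
    {Z : Set ↥X | Z ∈ irreducibleComponents ↥X ∧ (Z ∩ (W : Set ↥X)).Nonempty}.Finite) (x : ↥X) :
    ∃ N : X.Opens, x ∈ N ∧ ∀ y ∈ N, ∃ η : ↥X, η ⤳ y ∧ η ⤳ x := by
  obtain ⟨W, hxW, hW⟩ := hfin x
  let T : Set (Set ↥X) :=
    {Z | (Z ∈ irreducibleComponents ↥X ∧ (Z ∩ (W : Set ↥X)).Nonempty) ∧ x ∉ Z}
  have hT : IsClosed (⋃ Z ∈ T, Z) :=
    (hW.subset fun Z hZ => hZ.1).isClosed_biUnion fun Z hZ => isClosed_of_mem_irreducibleComponents Z hZ.1.1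
  refine ⟨W ⊓ ⟨(⋃ Z ∈ T, Z)ᶜ, hT.isOpen_compl⟩, ⟨hxW, ?_⟩, fun y hy => ?_⟩
  · show x ∉ ⋃ Z ∈ T, Z
    simp only [Set.mem_iUnion, not_exists]
    exact fun Z hZ => hZ.2
  · have hxZ : x ∈ irreducibleComponent y := by
      by_contra hx
      exact hy.2 (Set.mem_iUnion₂.2 ⟨irreducibleComponent y,
        ⟨⟨irreducibleComponent_mem_irreducibleComponents y, y, mem_irreducibleComponent, hy.1⟩, hx⟩,
        mem_irreducibleComponent⟩)
    have hgen := (isIrreducible_irreducibleComponent (x := y)).isGenericPoint_genericPoint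
      isClosed_irreducibleComponent
    exact ⟨_, hgen.specializes mem_irreducibleComponent, hgen.specializes hxZ⟩

theorem isGermInjectiveAt_of (X : Scheme.{u}) (hX : IsLocallyNoetherian X ∨ (IsReduced X ∧ ∀ x : ↥X,
    ∃ W : X.Opens, x ∈ W ∧
      {Z : Set ↥X | Z ∈ irreducibleComponents ↥X ∧ (Z ∩ (W : Set ↥X)).Nonempty}.Finite)) (x : ↥X) :
    X.IsGermInjectiveAt x := by
  rcases hX with h | ⟨hred, hfin⟩
  · infer_instance
  obtain ⟨N, hxN, hN⟩ := exists_nhd_generic X hfin x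
  obtain ⟨_, ⟨A, hA, rfl⟩, hxA, hAN⟩ :=
    X.isBasis_affineOpens.exists_subset_of_mem_open (show x ∈ (N : Set ↥X) from hxN) N.2
  refine ⟨A, hxA, hA, ?_⟩
  rw [injective_iff_map_eq_zero]
  intro a ha
  refine (AlgebraicGeometry.basicOpen_eq_bot_iff a).mp (eq_bot_iff.2 fun y hy => ?_)
  obtain ⟨η, hηy, hηx⟩ := hN y (hAN (X.basicOpen_le a hy))
  have hη : η ∈ X.basicOpen a := hηy.mem_open (X.basicOpen a).2 hy
  have h0 : X.presheaf.germ A η (hηx.mem_open A.2 hxA) a = 0 := by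
    have := congrArg (X.presheaf.stalkSpecializes hηx) ha
    rw [← CommRingCat.comp_apply, TopCat.Presheaf.germ_stalkSpecializes, map_zero] at this
    exact this
  have hu := (X.mem_basicOpen a η (hηx.mem_open A.2 hxA)).mp hη
  rw [h0] at hu
  exact absurd hu not_isUnit_zero

/-- Let X be an S-scheme which is locally Noetherian, or reduced with locally finite set of irreducible
components; let Y be separated and locally of finite presentation over S, U a schematically dense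
open subset of X, h : U → Y an S-morphism (a pseudo-S-morphism ω of X into Y) and x a point of X.
Then ω is defined at x — some S-morphism from an open neighbourhood V of x to Y agrees with h on U ∩
V — if and only if the restriction of ω to Spec O_{X,x} is everywhere defined — some S-morphism Spec
O_{X,x} → Y agrees with h after pulling back to Spec O_{X,x} ×_X U. (The published statement does
not assume Y separated over S and compares morphisms only on some schematically dense open; this row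
assumes Y separated over S, where the two readings agree.) -/
theorem result {X Y S : Scheme.{u}} (pX : X ⟶ S) (pY : Y ⟶ S)
    [IsSeparated pY] [LocallyOfFinitePresentation pY]
    (hX : IsLocallyNoetherian X ∨ (IsReduced X ∧ ∀ x : ↥X, ∃ W : X.Opens, x ∈ W ∧
      {Z : Set ↥X | Z ∈ irreducibleComponents ↥X ∧ (Z ∩ (W : Set ↥X)).Nonempty}.Finite))
    (U : X.Opens) (hU : CInt.IsSchematicallyDense U) (h : (U : Scheme.{u}) ⟶ Y) (hh : h ≫ pY = U.ι ≫ pX)
    (x : ↥X) :
    (∃ (V : X.Opens) (v : (V : Scheme.{u}) ⟶ Y), x ∈ V ∧ v ≫ pY = V.ι ≫ pX ∧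
        X.homOfLE (inf_le_right : U ⊓ V ≤ V) ≫ v = X.homOfLE (inf_le_left : U ⊓ V ≤ U) ≫ h) ↔
      ∃ w : Spec (X.presheaf.stalk x) ⟶ Y, w ≫ pY = X.fromSpecStalk x ≫ pX ∧
        pullback.fst (X.fromSpecStalk x) U.ι ≫ w = pullback.snd (X.fromSpecStalk x) U.ι ≫ h := by
  constructor
  · rintro ⟨V, v, hxV, hvS, hvh⟩
    refine ⟨V.fromSpecStalkOfMem x hxV ≫ v, by rw [Category.assoc, hvS, Scheme.Opens.fromSpecStalkOfMem_ι_assoc], ?_⟩
    let P := pullback.fst (X.fromSpecStalk x) U.ι ≫ X.fromSpecStalk x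
    let l := IsOpenImmersion.lift (U ⊓ V).ι P (by
      rw [Scheme.Opens.range_ι]
      rintro _ ⟨a, rfl⟩
      refine ⟨?_, ?_⟩
      · show P a ∈ U
        rw [show P = pullback.snd _ _ ≫ U.ι from pullback.condition, Scheme.Hom.comp_apply]
        exact Subtype.prop _
      · show P a ∈ V
        have : Set.range (X.fromSpecStalk x) ⊆ (V : Set ↥X) := by
          rw [Scheme.range_fromSpecStalk]
          exact fun y hy => hy.mem_open V.2 hxV
        rw [Scheme.Hom.comp_apply]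
        exact this ⟨_, rfl⟩)
    have hl : l ≫ (U ⊓ V).ι = P := IsOpenImmersion.lift_fac _ _ _
    have hl1 : l ≫ X.homOfLE (inf_le_right : U ⊓ V ≤ V) =
        pullback.fst (X.fromSpecStalk x) U.ι ≫ V.fromSpecStalkOfMem x hxV := by
      rw [← cancel_mono V.ι, Category.assoc, Category.assoc, Scheme.homOfLE_ι, hl,
        Scheme.Opens.fromSpecStalkOfMem_ι]
    have hl2 : l ≫ X.homOfLE (inf_le_left : U ⊓ V ≤ U) = pullback.snd (X.fromSpecStalk x) U.ι := by
      rw [← cancel_mono U.ι, Category.assoc, Scheme.homOfLE_ι, hl]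
      exact pullback.condition
    have h2 := congrArg (l ≫ ·) hvh
    simp only [reassoc_of% hl1, reassoc_of% hl2] at h2
    exact h2
  · rintro ⟨w, hwS, hwh⟩
    haveI : ∀ t : ↥X, X.IsGermInjectiveAt t := fun t => isGermInjectiveAt_of X hX t
    obtain ⟨V, hxV, v, hwv, hvS⟩ := spread_out_of_isGermInjective' pX pY w hwS
    -- agreement near every generization of `x`
    have hloc : ∀ t : ↥(↑(U ⊓ V) : Scheme.{u}), (U ⊓ V).ι t ⤳ x →
        ∃ O : (↑(U ⊓ V) : Scheme.{u}).Opens, t ∈ O ∧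
          O.ι ≫ X.homOfLE (inf_le_right : U ⊓ V ≤ V) ≫ v = O.ι ≫ X.homOfLE (inf_le_left : U ⊓ V ≤ U) ≫ h := by
      intro t ht
      haveI : (↑(U ⊓ V) : Scheme.{u}).IsGermInjectiveAt t :=
        (isGermInjectiveAt_iff_of_isOpenImmersion (f := (U ⊓ V).ι)).mp inferInstance
      refine spread_out_unique_of_isGermInjective' _ _ ?_
      let s := (↑(U ⊓ V) : Scheme.{u}).fromSpecStalk t
      let m := Spec.map (X.presheaf.stalkSpecializes ht ≫ (U ⊓ V).ι.stalkMap t)
      have hm : m ≫ X.fromSpecStalk x = s ≫ (U ⊓ V).ι := by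
        simp only [m, s, Spec.map_comp, Category.assoc, Scheme.SpecMap_stalkSpecializes_fromSpecStalk,
          Scheme.SpecMap_stalkMap_fromSpecStalk]
      let q := pullback.lift (f := X.fromSpecStalk x) (g := U.ι) m
        (s ≫ X.homOfLE (inf_le_left : U ⊓ V ≤ U)) (by rw [hm, Category.assoc, Scheme.homOfLE_ι])
      have h1 := congrArg (q ≫ ·) hwh
      simp only [q, pullback.lift_fst_assoc, pullback.lift_snd_assoc, Category.assoc] at h1
      have h2 : m ≫ V.fromSpecStalkOfMem x hxV = s ≫ X.homOfLE (inf_le_right : U ⊓ V ≤ V) := by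
        rw [← cancel_mono V.ι, Category.assoc, Category.assoc, Scheme.Opens.fromSpecStalkOfMem_ι,
          Scheme.homOfLE_ι, hm]
      rw [hwv, reassoc_of% h2] at h1
      exact h1
    choose O hO hOeq using hloc
    let E₀ : (↑(U ⊓ V) : Scheme.{u}).Opens :=
      ⨆ t : {t : ↥(↑(U ⊓ V) : Scheme.{u}) // (U ⊓ V).ι t ⤳ x}, O t.1 t.2
    have hgen : ∀ t : ↥(↑(U ⊓ V) : Scheme.{u}), (U ⊓ V).ι t ⤳ x → t ∈ E₀ := fun t ht =>
      TopologicalSpace.Opens.mem_iSup.2 ⟨⟨t, ht⟩, hO t ht⟩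
    have hE₀ : E₀.ι ≫ X.homOfLE (inf_le_right : U ⊓ V ≤ V) ≫ v =
        E₀.ι ≫ X.homOfLE (inf_le_left : U ⊓ V ≤ U) ≫ h := by
      let 𝒰 : {t : ↥(↑(U ⊓ V) : Scheme.{u}) // (U ⊓ V).ι t ⤳ x} → (E₀ : Scheme.{u}).Opens :=
        fun t => E₀.ι ⁻¹ᵁ O t.1 t.2
      refine Scheme.Cover.hom_ext ((E₀ : Scheme.{u}).openCoverOfIsOpenCover 𝒰
        (TopologicalSpace.IsOpenCover.mk (eq_top_iff.2 fun a _ => by
          obtain ⟨t, ht⟩ := TopologicalSpace.Opens.mem_iSup.1
            (show E₀.ι a ∈ ⨆ t : {t : ↥(↑(U ⊓ V) : Scheme.{u}) // (U ⊓ V).ι t ⤳ x}, O t.1 t.2 from a.2)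
          exact TopologicalSpace.Opens.mem_iSup.2 ⟨t, ht⟩))) _ _ ?_
      intro t
      show (𝒰 t).ι ≫ E₀.ι ≫ _ = (𝒰 t).ι ≫ E₀.ι ≫ _
      rw [← morphismRestrict_ι_assoc, ← morphismRestrict_ι_assoc, hOeq t.1 t.2]
    -- it remains to shrink `V`
    suffices key : ∃ V' : X.Opens, x ∈ V' ∧ ∃ hV' : V' ≤ V,
        X.homOfLE (inf_le_inf_left U hV' : U ⊓ V' ≤ U ⊓ V) ≫ X.homOfLE (inf_le_right : U ⊓ V ≤ V) ≫ v =
        X.homOfLE (inf_le_inf_left U hV' : U ⊓ V' ≤ U ⊓ V) ≫ X.homOfLE (inf_le_left : U ⊓ V ≤ U) ≫ h by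
      obtain ⟨V', hxV', hV', hk⟩ := key
      refine ⟨V', X.homOfLE hV' ≫ v, hxV', by rw [Category.assoc, hvS, Scheme.homOfLE_ι_assoc], ?_⟩
      simp only [Scheme.homOfLE_homOfLE_assoc] at hk ⊢
      exact hk
    rcases hX with hN | ⟨hred, hfin⟩
    · let C : TopologicalSpace.Closeds ↥(↑(U ⊓ V) : Scheme.{u}) := ⟨(E₀ : Set _)ᶜ, E₀.2.isClosed_compl⟩
      let jC := (Scheme.IdealSheafData.vanishingIdeal C).subschemeι ≫ (U ⊓ V).ι
      have hxC : x ∉ closure (Set.range jC) := by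
        intro hc
        obtain ⟨c, hc⟩ := GrothLib.DVRDom.exists_specializes_of_mem_closure jC x hc
        exact (GrothLib.RedSub.range_subschemeι_vanishingIdeal C).le ⟨c, rfl⟩
          (hgen _ (by rw [← Scheme.Hom.comp_apply]; exact hc))
      let V' : X.Opens := V ⊓ ⟨(closure (Set.range jC))ᶜ, isClosed_closure.isOpen_compl⟩
      refine ⟨V', ⟨hxV, hxC⟩, inf_le_left, ?_⟩
      let j := X.homOfLE (inf_le_inf_left U (inf_le_left : V' ≤ V))
      let l := IsOpenImmersion.lift E₀.ι j (by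
        rw [Scheme.Opens.range_ι]
        rintro _ ⟨a, rfl⟩
        by_contra hn
        obtain ⟨c, hc⟩ := (GrothLib.RedSub.range_subschemeι_vanishingIdeal C).ge
          (show j a ∈ (C : Set _) from hn)
        refine a.2.2.2 (subset_closure ⟨c, ?_⟩)
        rw [Scheme.Hom.comp_apply, hc, ← Scheme.Hom.comp_apply, Scheme.homOfLE_ι]
        rfl)
      have hl : l ≫ E₀.ι = j := IsOpenImmersion.lift_fac _ _ _
      have h3 := congrArg (l ≫ ·) hE₀
      simp only [reassoc_of% hl] at h3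
      exact h3
    · obtain ⟨N, hxN, hN⟩ := exists_nhd_generic X hfin x
      let V' : X.Opens := V ⊓ N
      refine ⟨V', ⟨hxV, hxN⟩, inf_le_left, ?_⟩
      let E : X.Opens := (U ⊓ V).ι ''ᵁ E₀ ⊓ (U ⊓ V')
      have hle : U ⊓ V' ≤ U ⊓ V := inf_le_inf_left U inf_le_left
      refine GrothLib.DVRDom.eq_of_le_closure pY (N := E) inf_le_right ?_ _ _ ?_ ?_
      · intro y hy
        obtain ⟨η, hηy, hηx⟩ := hN y hy.2.2
        have hηW : η ∈ U ⊓ V' := hηy.mem_open (U ⊓ V').2 hy
        refine hηy.mem_closed isClosed_closure (subset_closure ⟨?_, hηW⟩)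
        exact ⟨⟨η, hle hηW⟩, hgen _ hηx, rfl⟩
      · simp only [Category.assoc, hvS, hh, Scheme.homOfLE_ι_assoc]
      · let l := IsOpenImmersion.lift E₀.ι
          (X.homOfLE ((inf_le_right : E ≤ U ⊓ V').trans hle)) (by
            rw [Scheme.Opens.range_ι]
            rintro _ ⟨a, rfl⟩
            obtain ⟨b, hb, hb'⟩ := a.2.1
            have e : X.homOfLE ((inf_le_right : E ≤ U ⊓ V').trans hle) a = b :=
              (U ⊓ V).ι.isOpenEmbedding.injective (by
                rw [← Scheme.Hom.comp_apply, Scheme.homOfLE_ι]; exact hb'.symm)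
            rw [e]
            exact hb)
        have hl : l ≫ E₀.ι = X.homOfLE ((inf_le_right : E ≤ U ⊓ V').trans hle) :=
          IsOpenImmersion.lift_fac _ _ _
        have h3 := congrArg (l ≫ ·) hE₀
        simp only [reassoc_of% hl] at h3
        simpa only [Scheme.homOfLE_homOfLE_assoc] using h3


end Groth.Agent.S5104
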