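import Groth.Statements.S5105
import Groth.Agent.Lib.FacDiv.Invertible
import Groth.Agent.S16087
set_option backward.isDefEq.respectTransparency false
set_option backward.isDefEq.respectTransparency.types false


set_option autoImplicit false
universe u
open CategoryTheory CategoryTheory.Limits AlgebraicGeometry TopologicalSpace
open Div21

namespace Groth.Agent.S5105

/-- For an integral scheme (X is locally factorial exactly when the canonical map Pic(X) → Cl(X) is a
bijection; in the presence of (i), being bijective means that each codimension-1 cycle arises as the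
Weil divisor of some rational section of an invertible module): suppose X is an integral scheme that
is normal and locally Noetherian. Then these two conditions are equivalent: (1) whenever Z is a
function from the points of X to the integers that is zero away from the points of codimension 1
(coheight 1) and whose support is locally finite, one can find an invertible O_X-module L together
with a nonzero rational section s of L (a nonzero element of the generic fibre of L) such that, at
each point of codimension 1, the order of s equals the value Z takes there; (2) each local ring of X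
is a unique factorisation domain. -/
theorem result (X : Scheme.{u}) [IsIntegral X]
    [IsLocallyNoetherian X] (hX : Pi1.IsNormalScheme X) :
    (∀ Z : ↥X → ℤ, (∀ x : ↥X, Order.coheight x ≠ 1 → Z x = 0) →
        (∀ x : ↥X, ∃ W : X.Opens, x ∈ W ∧ {z : ↥X | z ∈ W ∧ Z z ≠ 0}.Finite) →
        ∃ (L : X.Modules) (_ : PicF.IsInvertible L) (s : Cyc.secFibre L (genericPoint ↥X)), s ≠ 0 ∧
          ∀ x : ↥X, Order.coheight x = 1 →
            Cyc.secOrdAt L (genericPoint ↥X) x (genericPoint_specializes x) s = Z x) ↔
      ∀ x : ↥X, UniqueFactorizationMonoid ↑(X.presheaf.stalk x) := by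
  classical
  constructor
  · intro h x
    refine GrothLib.FacDiv.uniqueFactorizationMonoid_of_ord hX fun y hyx hy => ?_
    obtain ⟨L, hL, s, hs, hsZ⟩ := h (fun z => if z = y then 1 else 0)
      (fun z hz => if_neg fun e => hz (by rw [e]; exact hy)) fun z => ⟨⊤, trivial, (Set.finite_singleton y).subset
        fun w hw => by
          by_contra hne
          exact hw.2 (if_neg hne)⟩
    obtain ⟨v, rfl⟩ := GrothLib.Ref1.exists_eq_mk s
    have hv : v ≠ 0 := fun e => hs (by rw [e]; exact Submodule.Quotient.mk_zero _)
    have := (GrothLib.FacDiv.isRef1_of_isInvertible hL).1.1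
    obtain ⟨V, e, hxV, he⟩ := GrothLib.InvExt.exists_gen_nhd hL x
    obtain ⟨φ, hφ, hvφ⟩ := GrothLib.Ref1.exists_coeff (GrothLib.Ref1.gen_of_isGen he hxV) hv
    have hord : ∀ z : X, z ⤳ x → Order.coheight z = 1 → GrothLib.FacDiv.ordg φ z = if z = y then 1 else 0 := by
      intro z hzx hz
      have h1 : GrothLib.Ref1.secOrd L v z = if z = y then 1 else 0 := hsZ z hz
      rw [← h1, hvφ, ← GrothLib.Ref1.sp_sp L (GrothLib.Ref1.hη z) hzx, GrothLib.Ref1.sp_germ,
        GrothLib.Ref1.secOrd_gen hz (GrothLib.Ref1.gen_of_isGen he (hzx.mem_open V.2 hxV)) hφ]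
    exact ⟨φ, hφ, (hord y hyx hy).trans (if_pos rfl), fun z hzx hz hne => (hord z hzx hz).trans (if_neg hne)⟩
  · intro h Z hZ0 hZfin
    let D : AlgebraicCycle X ℤ := ⟨Z, by simp, fun z _ => by
      obtain ⟨W, hW, hfin⟩ := hZfin z
      exact ⟨W, W.2.mem_nhds hW, hfin⟩⟩
    obtain ⟨F, hF, s, hs, hsD⟩ := (Groth.Agent.S16087.result X hX).2 D hZ0
    exact ⟨F, GrothLib.FacDiv.isInvertible_of_ufd hX hF h, s, hs, fun x hx => (hsD x hx).symm⟩

end Groth.Agent.S5105
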