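import Groth.Statements.S5107
import Groth.Agent.S1699
import Groth.Agent.Lib.AssPts.Flat
import Groth.Agent.Lib.AssPts.Filtration
import Groth.Agent.Lib.HomSh.Coherent
import Groth.Agent.Lib.ConsLim.LimFlat
import Groth.Agent.Lib.Neutral.Limit
import Groth.Agent.Lib.Constr.Topology
import Groth.Agent.Lib.WeakAss.Structure
import Groth.Agent.Lib.BlowUp.WeakAss

set_option autoImplicit false
universe u
open CategoryTheory CategoryTheory.Limits AlgebraicGeometry TopologicalSpace
open Lim8

namespace Groth.Agent.S5107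

/-- An associated point outside an open carries a function near it which vanishes on the open. -/
theorem exists_section {X : Scheme.{u}} [IsLocallyNoetherian X] (U : X.Opens) (x : X)
    (hx : IsAssociatedPrime (IsLocalRing.maximalIdeal (X.presheaf.stalk x)) (X.presheaf.stalk x)) (hxU : x ∉ U) :
    ∃ (W : X.Opens) (hxW : x ∈ W) (s : Γ(X, W)),
      X.presheaf.map (homOfLE (inf_le_left : W ⊓ U ≤ W)).op s = 0 ∧ X.presheaf.germ W x hxW s ≠ 0 := by
  obtain ⟨_, ⟨V, hV, rfl⟩, hxV, -⟩ :=
    X.isBasis_affineOpens.exists_subset_of_mem_open (Set.mem_univ x) isOpen_univ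
  obtain ⟨-, m, hm⟩ := isAssociatedPrime_iff.mp hx
  obtain ⟨W₀, hxW₀, s, rfl⟩ := X.presheaf.exists_germ_eq m
  obtain ⟨W, hxW, hWle⟩ := GrothLib.WeakAss.exists_affine_le (W := W₀ ⊓ V) (x := x) ⟨hxW₀, hxV⟩
  set z : Γ(X, W.1) := X.presheaf.map (homOfLE (hWle.trans inf_le_left)).op s with hzdef
  have hgz : X.presheaf.germ W.1 x hxW z = X.presheaf.germ W₀ x hxW₀ s :=
    TopCat.Presheaf.germ_res_apply X.presheaf _ x hxW s
  rw [← hgz] at hm
  have hmem : ∀ r, r ∈ IsLocalRing.maximalIdeal (X.presheaf.stalk x) ↔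
      r * X.presheaf.germ W.1 x hxW z = 0 := fun r => by
    rw [hm, Submodule.mem_colon_singleton, smul_eq_mul, Submodule.mem_bot]
  have : IsNoetherianRing Γ(X, W.1) := IsLocallyNoetherian.component_noetherian W
  obtain ⟨S, hS⟩ := IsNoetherian.noetherian (GrothLib.WeakAss.primeAt x hxW)
  have hker : ∀ a : Γ(X, W.1), a ∈ GrothLib.WeakAss.primeAt x hxW →
      ∃ c ∉ GrothLib.WeakAss.primeAt x hxW, c * (a * z) = 0 := by
    intro a ha
    refine (GrothLib.WeakAss.germ_eq_zero_iff W.2 hxW (GrothLib.WeakAss.toModSec (a * z))).mp ?_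
    refine (GrothLib.BlowUp.germ_toUnit_eq_zero_iff hxW (a * z)).mpr ?_
    rw [map_mul]
    exact (hmem _).mp ha
  choose! c hc hcz using hker
  set c₀ : Γ(X, W.1) := ∏ a ∈ S, c a
  have hc₀ : c₀ ∉ GrothLib.WeakAss.primeAt x hxW := by
    rw [Ideal.IsPrime.prod_mem_iff]
    rintro ⟨a, ha, hca⟩
    exact hc a (hS ▸ Ideal.subset_span ha) hca
  have hp : ∀ a ∈ GrothLib.WeakAss.primeAt x hxW, a * (c₀ * z) = 0 := by
    intro a ha
    rw [← hS] at ha
    refine Submodule.span_induction ?_ (zero_mul _) ?_ ?_ ha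
    · intro a haS
      obtain ⟨d, hd⟩ := Finset.dvd_prod_of_mem c (SetLike.mem_coe.1 haS)
      calc a * (c₀ * z) = d * (c a * (a * z)) := by simp only [c₀, hd]; ring
        _ = 0 := by rw [hcz a (hS ▸ Ideal.subset_span haS), mul_zero]
    · intro a b _ _ ha hb
      rw [add_mul, ha, hb, add_zero]
    · intro r a _ ha
      rw [smul_eq_mul, mul_assoc, ha, mul_zero]
  have hne : X.presheaf.germ W.1 x hxW (c₀ * z) ≠ 0 := by
    intro h0
    have hu : IsUnit (X.presheaf.germ W.1 x hxW c₀) :=
      (Scheme.mem_basicOpen _ c₀ x hxW).mp (GrothLib.WeakAss.notMem_primeAt_iff.mp hc₀)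
    rw [map_mul, hu.mul_right_eq_zero] at h0
    exact (Ideal.ne_top_iff_one _).mp (IsLocalRing.maximalIdeal.isMaximal _).ne_top
      ((hmem 1).mpr (by rw [h0, mul_zero]))
  have hres : X.presheaf.map (homOfLE (inf_le_left : W.1 ⊓ U ≤ W.1)).op (c₀ * z) = 0 := by
    refine TopCat.Presheaf.section_ext X.sheaf (W.1 ⊓ U) _ 0 fun y hy => ?_
    show X.presheaf.germ (W.1 ⊓ U) y hy _ = X.presheaf.germ (W.1 ⊓ U) y hy 0
    rw [map_zero, TopCat.Presheaf.germ_res_apply]
    obtain ⟨a, ha, hay⟩ : ∃ a ∈ GrothLib.WeakAss.primeAt x hxW,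
        a ∉ GrothLib.WeakAss.primeAt y hy.1 := by
      by_contra hall
      push Not at hall
      obtain ⟨P, rfl⟩ := W.2.range_fromSpec.ge hxW
      obtain ⟨Q, rfl⟩ := W.2.range_fromSpec.ge hy.1
      simp only [GrothLib.WeakAss.primeAt_fromSpec W.2] at hall
      have hspec : P ⤳ Q := (PrimeSpectrum.le_iff_specializes P Q).mp hall
      exact hxU ((hspec.map W.2.fromSpec.continuous).mem_open U.2 hy.2)
    have hu : IsUnit (X.presheaf.germ W.1 y hy.1 a) :=
      (Scheme.mem_basicOpen _ a y hy.1).mp (GrothLib.WeakAss.notMem_primeAt_iff.mp hay)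
    refine hu.mul_right_eq_zero.mp ?_
    rw [← map_mul, hp a ha, map_zero]
  exact ⟨W.1, hxW, c₀ * z, hres, hne⟩
theorem mem_of_isSchematicallyDense {X Y : Scheme.{u}} [IsLocallyNoetherian X] (f : Y ⟶ X) [Flat f]
    {U : X.Opens} (h : CInt.IsSchematicallyDense (f ⁻¹ᵁ U)) (y : Y)
    (hy : IsAssociatedPrime (IsLocalRing.maximalIdeal (X.presheaf.stalk (f y))) (X.presheaf.stalk (f y))) :
    f y ∈ U := by
  by_contra hU
  obtain ⟨W, hxW, s, hs, hne⟩ := exists_section U (f y) hy hU
  have h0 : f.app W s = 0 := by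
    refine h (f ⁻¹ᵁ W) ?_
    have := congrArg (f.app (W ⊓ U)) hs
    rw [map_zero] at this
    rw [map_zero]
    exact (congr($(f.naturality (homOfLE (inf_le_left : W ⊓ U ≤ W)).op) s)).symm.trans this
  letI := (f.stalkMap y).hom.toAlgebra
  haveI : Module.Flat (X.presheaf.stalk (f y)) (Y.presheaf.stalk y) := Flat.stalkMap f y
  haveI : IsLocalHom (algebraMap (X.presheaf.stalk (f y)) (Y.presheaf.stalk y)) :=
    inferInstanceAs (IsLocalHom (f.stalkMap y).hom)
  haveI : Module.FaithfullyFlat (X.presheaf.stalk (f y)) (Y.presheaf.stalk y) :=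
    Module.FaithfullyFlat.of_flat_of_isLocalHom
  refine hne (FaithfulSMul.algebraMap_injective (X.presheaf.stalk (f y)) (Y.presheaf.stalk y) ?_)
  show f.stalkMap y (X.presheaf.germ W (f y) hxW s) = f.stalkMap y 0
  rw [map_zero, Scheme.Hom.germ_stalkMap_apply, h0, map_zero]

theorem isSchematicallyDense_of_mem {X Y : Scheme.{u}} [IsLocallyNoetherian X] [IsLocallyNoetherian Y] (f : Y ⟶ X)
    [Flat f] {U : X.Opens}
    (h : ∀ y : Y, IsAssociatedPrime (IsLocalRing.maximalIdeal (X.presheaf.stalk (f y))) (X.presheaf.stalk (f y)) →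
      f y ∈ U) : CInt.IsSchematicallyDense (f ⁻¹ᵁ U) :=
  (Groth.Agent.S1699.result Y (f ⁻¹ᵁ U)).2 fun y hy => h y
    ((GrothLib.AssPts.isAssPoint_structure_iff (f y)).1 (GrothLib.AssPts.map_mem_ass f (Coh.structureModule Y)
      (GrothLib.AssPts.isFlatOverAt_structure f y) ((GrothLib.AssPts.isAssPoint_structure_iff y).2 hy)))

theorem isProConstructible_singleton' {X : Scheme.{u}} (x : X) : ProCons.IsProConstructible ({x} : Set X) := by
  have h := GrothLib.Constr.isProConstructible_image (X.fromSpecResidueField x)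
    (GrothLib.Constr.isProConstructible_of_isLocallyConstructible
      (Topology.IsLocallyConstructible.univ (X := ↥(Spec (X.residueField x)))))
  rwa [Set.image_univ, Scheme.range_fromSpecResidueField] at h

/-- Let (X_i) be a cofiltered system of Noetherian schemes with affine and flat transition morphisms, X
its limit, assumed Noetherian as well, and U₀ an open subset of X_{i₀}, with inverse images U_i in
X_i (for i over i₀) and U in X. Then U is schematically dense in X if and only if there is an index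
i over i₀ such that U_i is schematically dense in X_i (and then, the transition morphisms being
flat, U_j is schematically dense in X_j for every j over i). -/
theorem result {I : Type u} [SmallCategory I]
    [IsCofiltered I] (D : I ⥤ Scheme.{u}) (c : Limits.Cone D) (hc : Limits.IsLimit c)
    [∀ (i j : I) (g : i ⟶ j), IsAffineHom (D.map g)] [∀ (i j : I) (g : i ⟶ j), Flat (D.map g)]
    [∀ i : I, IsNoetherian (D.obj i)] [IsNoetherian c.pt] (i₀ : I) (U₀ : (D.obj i₀).Opens) :
    CInt.IsSchematicallyDense ((c.π.app i₀) ⁻¹ᵁ U₀) ↔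
      ∃ (i : I) (g : i ⟶ i₀), CInt.IsSchematicallyDense ((D.map g) ⁻¹ᵁ U₀) := by
  classical
  haveI : IsLocallyNoetherian (((Functor.const I).obj c.pt).obj i₀) := inferInstanceAs (IsLocallyNoetherian c.pt)
  haveI : Flat (c.π.app i₀) := GrothLib.ConsLim.flat_π hc i₀ fun j φ => inferInstance
  have hfin := GrothLib.Primary.finite_ass (Coh.structureModule (D.obj i₀)) (GrothLib.HomSh.isCoh_structureModule _)
  let F : Set (D.obj i₀) := AssSch.Ass (Coh.structureModule (D.obj i₀)) \ (U₀ : Set (D.obj i₀))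
  have hF : ProCons.IsIndConstructible Fᶜ := by
    have key : ∀ t : Set (D.obj i₀), t.Finite → ProCons.IsIndConstructible tᶜ := fun t ht => by
      induction t, ht using Set.Finite.induction_on with
      | empty => rw [Set.compl_empty]; exact GrothLib.Constr.isIndConstructible_of_isOpen isOpen_univ
      | @insert a s _ _ ih =>
        rw [Set.insert_eq, Set.compl_union]
        exact GrothLib.Constr.isIndConstructible_inter
          (GrothLib.Constr.isProConstructible_iff_compl.mp (isProConstructible_singleton' a)) ih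
    exact key F (hfin.subset Set.diff_subset)
  constructor
  · intro h
    obtain ⟨j, φ, hj⟩ := GrothLib.Neutral.exists_stage_range_subset D c hc i₀ hF (by
      rintro _ ⟨y, rfl⟩ ⟨hy, hyU⟩
      exact hyU (mem_of_isSchematicallyDense (c.π.app i₀) h y ((GrothLib.AssPts.isAssPoint_structure_iff _).1 hy)))
    refine ⟨j, φ, isSchematicallyDense_of_mem (D.map φ) fun y hy => ?_⟩
    by_contra hyU
    exact hj ⟨y, rfl⟩ ⟨(GrothLib.AssPts.isAssPoint_structure_iff _).2 hy, hyU⟩
  · rintro ⟨j, φ, hd⟩
    refine isSchematicallyDense_of_mem (c.π.app i₀) fun y hy => ?_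
    rw [← c.w φ] at hy ⊢
    exact mem_of_isSchematicallyDense (D.map φ) hd (c.π.app j y) hy

end Groth.Agent.S5107
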