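import Groth.Statements.S5109
import Groth.Agent.Lib.PurIsol6.Locus
-- import your own Groth.Agent.* helpers here

set_option autoImplicit false
universe u
open CategoryTheory CategoryTheory.Limits AlgebraicGeometry TopologicalSpace
open Pur21

namespace Groth.Agent.S5109

/-- Let X and Y be locally Noetherian schemes with X irreducible, g : X → Y a morphism locally of finite
type, and V the largest open subset of X on which g is a local isomorphism. Suppose that for every
point y of Y the local ring O_{Y,y} satisfies the following condition (W): every open subset of its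
punctured spectrum which contains no irreducible component of the punctured spectrum and whose
inclusion is affine is itself affine. Then every irreducible component of T = X − V either has
codimension ≤ 1 in X or has its generic point z isolated in the fibre g⁻¹(g(z)): for every point z
with no open neighbourhood on which g is a local isomorphism, and maximal with this property under
generization, either dim O_{X,z} ≤ 1 or some open neighbourhood of z meets the fibre through z only
in z. -/
theorem result {X Y : Scheme.{u}}
    [IsLocallyNoetherian X] [IsLocallyNoetherian Y] [IrreducibleSpace ↥X] (g : X ⟶ Y) [LocallyOfFiniteType g]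
    (hW : ∀ y : ↥Y, (∀ U : (Spec (Y.presheaf.stalk y)).Opens, ∀ hU : U ≤ FEt.puncturedSpec ↑(Y.presheaf.stalk y),
        (∀ T ∈ irreducibleComponents ↥(FEt.puncturedSpec ↑(Y.presheaf.stalk y)), ¬ Subtype.val '' T ⊆ (U : Set _)) →
        IsAffineHom ((Spec (Y.presheaf.stalk y)).homOfLE hU) → IsAffineOpen U))
    (z : ↥X) (hz : ¬ ∃ W : X.Opens, z ∈ W ∧ IsLocalIso (W.ι ≫ g))
    (hmax : ∀ z' : ↥X, (¬ ∃ W : X.Opens, z' ∈ W ∧ IsLocalIso (W.ι ≫ g)) → z' ⤳ z → z' = z) :
    ringKrullDim ↑(X.presheaf.stalk z) ≤ 1 ∨
      ∃ O : X.Opens, z ∈ O ∧ ∀ z' : ↥X, z' ∈ O → g z' = g z → z' = z := by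
  exact GrothLib.PurIsol6.dim_le_one_or_isolated g hW z hz hmax

end Groth.Agent.S5109
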