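import Groth.Statements.S5111
import Groth.Agent.S3848
import Groth.Agent.Lib.Rat20Ext.Basic
import Groth.Agent.Lib.RedSub.Basic
import Groth.Agent.Lib.AffCompl.Local
import Mathlib.AlgebraicGeometry.Morphisms.UniversallyOpen
-- import your own Groth.Agent.* helpers here

set_option autoImplicit false
universe u
open CategoryTheory CategoryTheory.Limits AlgebraicGeometry TopologicalSpace
open Rat20

namespace Groth.Agent.S5111

/-- Let S and X be locally Noetherian schemes, f : X → S a flat morphism, g : Y → S a morphism locally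
of finite type, U a dense open subset of S, h : f⁻¹(U) → Y an S-morphism, Z the reduced closed
subscheme of X with underlying space f⁻¹(S − U), and h₀ : Z → Y an S-morphism; suppose X is normal
at every point of Z. Then there is an S-morphism h' : X → Y extending h and inducing h₀ on Z if and
only if: for every spectrum S₁ of a discrete valuation ring and every morphism u : S₁ → S sending
the closed point outside U and the generic point into U, there is an S₁-morphism h'₁ : X ×_S S₁ → Y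
×_S S₁ which extends the base change of h on the inverse image of U and which, at every point z₁ of
Z ×_S S₁, agrees on Spec k(z₁) with the base change of h₀. (Morphisms into Y ×_S S₁ over S₁ are
compared through their components in Y.) -/
theorem result {X Y S : Scheme.{u}} [IsLocallyNoetherian S]
    [IsLocallyNoetherian X] (f : X ⟶ S) [Flat f] (g : Y ⟶ S) [LocallyOfFiniteType g]
    (U : S.Opens) (hU : Dense (U : Set ↥S)) (h : ↑(f ⁻¹ᵁ U) ⟶ Y) (hh : h ≫ g = (f ⁻¹ᵁ U).ι ≫ f)
    (Z : Scheme.{u}) (iZ : Z ⟶ X) [IsClosedImmersion iZ] [IsReduced Z]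
    (hZ : Set.range ⇑iZ = ((f ⁻¹ᵁ U : X.Opens) : Set ↥X)ᶜ) (h₀ : Z ⟶ Y) (hh₀ : h₀ ≫ g = iZ ≫ f)
    (hnorm : ∀ z : ↥Z, IsDomain ↑(X.presheaf.stalk (iZ z)) ∧ IsIntegrallyClosed ↑(X.presheaf.stalk (iZ z))) :
    (∃ h' : X ⟶ Y, h' ≫ g = f ∧ (f ⁻¹ᵁ U).ι ≫ h' = h ∧ iZ ≫ h' = h₀) ↔
      ∀ (R : Type u) [CommRing R] [IsDomain R] [IsDiscreteValuationRing R]
        (u : Spec (CommRingCat.of R) ⟶ S),
        u (IsLocalRing.closedPoint R) ∉ U → u (genericPoint ↥(Spec (CommRingCat.of R))) ∈ U →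
        ∃ h₁ : pullback f u ⟶ pullback g u,
          h₁ ≫ pullback.snd g u = pullback.snd f u ∧
          ((pullback.fst f u) ⁻¹ᵁ (f ⁻¹ᵁ U)).ι ≫ h₁ ≫ pullback.fst g u = (pullback.fst f u ∣_ (f ⁻¹ᵁ U)) ≫ h ∧
          ∀ z₁ : ↥(pullback (iZ ≫ f) u),
            (pullback (iZ ≫ f) u).fromSpecResidueField z₁ ≫
                pullback.lift (pullback.fst (iZ ≫ f) u ≫ iZ) (pullback.snd (iZ ≫ f) u)
                  ((Category.assoc _ _ _).trans pullback.condition) ≫ h₁ ≫ pullback.fst g u =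
              (pullback (iZ ≫ f) u).fromSpecResidueField z₁ ≫ pullback.fst (iZ ≫ f) u ≫ h₀ := by
  constructor
  · rintro ⟨h', hh', hhU, hhZ⟩ R _ _ _ u - -
    refine ⟨pullback.lift (pullback.fst f u ≫ h') (pullback.snd f u)
      (by rw [Category.assoc, hh', pullback.condition]), pullback.lift_snd _ _ _, ?_, fun z₁ => ?_⟩
    · simp only [pullback.lift_fst, ← hhU, morphismRestrict_ι_assoc]
    · simp only [pullback.lift_fst, pullback.lift_fst_assoc, Category.assoc, hhZ]
  · intro H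
    haveI hlft : LocallyOfFiniteType (pullback.fst f g) := inferInstance
    let s₀ : Z ⟶ pullback f g := pullback.lift iZ h₀ hh₀.symm
    let sU : (f ⁻¹ᵁ U : Scheme.{u}) ⟶ pullback f g := pullback.lift (f ⁻¹ᵁ U).ι h hh.symm
    have hs₀ : s₀ ≫ pullback.fst f g = iZ := pullback.lift_fst _ _ _
    have hsU : sU ≫ pullback.fst f g = (f ⁻¹ᵁ U).ι := pullback.lift_fst _ _ _
    have hdense : Dense ((f ⁻¹ᵁ U : X.Opens) : Set ↥X) := by
      intro x
      obtain ⟨η, hη, hηx⟩ := GrothLib.DVRDom.exists_genericPoint_specializes x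
      refine hηx.mem_closed isClosed_closure (subset_closure ?_)
      show f η ∈ U
      refine GrothLib.AffCompl.mem_of_mem_closure_of_maximal U (fun s hs => ?_) (hU _)
      obtain ⟨η', hη', rfl⟩ := (Flat.generalizingMap f) hs
      have hle : closure {η'} ≤ closure {η} :=
        hη.2 isIrreducible_singleton.closure
          (closure_minimal (Set.singleton_subset_iff.mpr hη'.mem_closure) isClosed_closure)
      rw [(hη'.antisymm (specializes_iff_mem_closure.mpr
        (hle (subset_closure (Set.mem_singleton η'))))).eq]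
    have hZU : ∀ z : ↥Z, iZ z ∉ f ⁻¹ᵁ U := fun z => hZ.le ⟨z, rfl⟩
    have hrf : ∀ z : ↥Z, Function.Bijective ((pullback.fst f g).residueFieldMap (s₀ z)) := by
      intro z
      refine ⟨RingHom.injective _, fun w => ?_⟩
      have h1 : Function.Surjective ((s₀ ≫ pullback.fst f g).residueFieldMap z) := by
        have h2 : ∀ (k : Z ⟶ X), k = iZ → Function.Surjective (k.residueFieldMap z) := by
          rintro k rfl
          intro c
          obtain ⟨b, rfl⟩ := Z.residue_surjective z c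
          obtain ⟨a, rfl⟩ := k.stalkMap_surjective z b
          exact ⟨X.residue _ a, ConcreteCategory.congr_hom (Scheme.residue_residueFieldMap k z) a⟩
        exact h2 _ hs₀
      obtain ⟨c, hc⟩ := h1 (s₀.residueFieldMap z w)
      rw [Scheme.residueFieldMap_comp] at hc
      exact ⟨c, (s₀.residueFieldMap z).hom.injective hc⟩
    -- the valuative condition at a point of `Z`
    have cond : ∀ (z : ↥Z) (R : Type u) [CommRing R] [IsDomain R] [IsDiscreteValuationRing R]
        (v : Spec (CommRingCat.of R) ⟶ X), v (IsLocalRing.closedPoint R) = iZ z →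
        ∀ ub : Spec (CommRingCat.of (FractionRing R)) ⟶ (f ⁻¹ᵁ U : Scheme.{u}),
          ub ≫ (f ⁻¹ᵁ U).ι = Spec.map (CommRingCat.ofHom (algebraMap R (FractionRing R))) ≫ v →
          ∃ h₁ : Spec (CommRingCat.of R) ⟶ pullback f g, h₁ ≫ pullback.fst f g = v ∧
            h₁ (IsLocalRing.closedPoint R) = s₀ z ∧
            Spec.map (CommRingCat.ofHom (algebraMap R (FractionRing R))) ≫ h₁ = ub ≫ sU := by
      intro z R _ _ _ v hvc ub hub
      let e := Spec.map (CommRingCat.ofHom (algebraMap R (FractionRing R)))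
      obtain ⟨h₁, h₁snd, h₁U, h₁Z⟩ := H R (v ≫ f)
        (by rw [Scheme.Hom.comp_apply, hvc]; exact hZU z)
        (by
          have hη : genericPoint ↥(Spec (CommRingCat.of R)) = e (IsLocalRing.closedPoint (FractionRing R)) := by
            refine (genericPoint_spec _).eq (?_ : IsGenericPoint _ _)
            rw [IsGenericPoint, Set.eq_univ_iff_forall]
            intro q
            refine specializes_iff_mem_closure.mp ((PrimeSpectrum.le_iff_specializes _ _).mp ?_)
            intro a ha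
            have ha' : algebraMap R (FractionRing R) a ∈ IsLocalRing.maximalIdeal (FractionRing R) := ha
            rw [IsLocalRing.maximalIdeal_eq_bot, Ideal.mem_bot] at ha'
            rw [(IsFractionRing.injective R (FractionRing R)).eq_iff' (map_zero _) |>.mp ha']
            exact zero_mem _
          rw [hη, ← Scheme.Hom.comp_apply, ← Category.assoc, ← hub, Category.assoc, Scheme.Hom.comp_apply]
          exact (ub _).2)
      let σ : Spec (CommRingCat.of R) ⟶ pullback f (v ≫ f) := pullback.lift v (𝟙 _) (by simp)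
      have hσ1 : σ ≫ pullback.fst f (v ≫ f) = v := pullback.lift_fst _ _ _
      let r := σ ≫ h₁ ≫ pullback.fst g (v ≫ f)
      have hr : r ≫ g = v ≫ f := by
        simp only [r, Category.assoc, pullback.condition, reassoc_of% h₁snd]
        simp only [σ, pullback.lift_snd_assoc, Category.id_comp]
      refine ⟨pullback.lift v r hr.symm, pullback.lift_fst _ _ _, ?_, ?_⟩
      · let k := IsLocalRing.ResidueField R
        let c : Spec (CommRingCat.of k) ⟶ Spec (CommRingCat.of R) :=
          Spec.map (CommRingCat.ofHom (IsLocalRing.residue R))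
        have hc : ∀ t, c t = IsLocalRing.closedPoint R := fun t => by
          rw [show t = IsLocalRing.closedPoint k from Subsingleton.elim _ _]
          exact IsLocalRing.comap_closedPoint (IsLocalRing.residue R)
        obtain ⟨m₀, hm₀⟩ := GrothLib.RedSub.exists_lift (c ≫ v) iZ (by
          rintro _ ⟨t, rfl⟩
          rw [Scheme.Hom.comp_apply, hc, hvc]
          exact ⟨z, rfl⟩)
        let m : Spec (CommRingCat.of k) ⟶ pullback (iZ ≫ f) (v ≫ f) :=
          pullback.lift m₀ c (by rw [reassoc_of% hm₀])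
        have hm := Scheme.descResidueField_stalkClosedPointTo_fromSpecResidueField k _ m
        have hZ' := congrArg (Spec.map (Scheme.descResidueField (Scheme.stalkClosedPointTo m)) ≫ ·)
          (h₁Z (m (IsLocalRing.closedPoint k)))
        simp only [reassoc_of% hm] at hZ'
        have hml : m ≫ pullback.lift (pullback.fst (iZ ≫ f) (v ≫ f) ≫ iZ) (pullback.snd (iZ ≫ f) (v ≫ f))
            ((Category.assoc _ _ _).trans pullback.condition) = c ≫ σ := by
          apply pullback.hom_ext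
          · simp only [m, Category.assoc, pullback.lift_fst, pullback.lift_fst_assoc, hσ1, hm₀]
          · simp only [m, σ, Category.assoc, pullback.lift_snd, Category.comp_id]
        simp only [reassoc_of% hml, m, pullback.lift_fst_assoc] at hZ'
        have h2 : c ≫ pullback.lift v r hr.symm = m₀ ≫ s₀ := by
          apply pullback.hom_ext
          · simp only [s₀, Category.assoc, pullback.lift_fst, hm₀]
          · simp only [s₀, r, Category.assoc, pullback.lift_snd]
            exact hZ'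
        have hz : m₀ (IsLocalRing.closedPoint k) = z := iZ.isClosedEmbedding.injective (by
          rw [← Scheme.Hom.comp_apply, hm₀, Scheme.Hom.comp_apply, hc, hvc])
        rw [← hc (IsLocalRing.closedPoint k), ← Scheme.Hom.comp_apply, h2, Scheme.Hom.comp_apply, hz]
      · apply pullback.hom_ext
        · simp only [sU, Category.assoc, pullback.lift_fst, hub]
        · simp only [sU, Category.assoc, pullback.lift_snd, r]
          let l := IsOpenImmersion.lift ((pullback.fst f (v ≫ f)) ⁻¹ᵁ (f ⁻¹ᵁ U)).ι (e ≫ σ) (by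
            rw [Scheme.Opens.range_ι]
            rintro _ ⟨t, rfl⟩
            show pullback.fst f (v ≫ f) ((e ≫ σ) t) ∈ f ⁻¹ᵁ U
            rw [← Scheme.Hom.comp_apply, Category.assoc, hσ1, ← hub, Scheme.Hom.comp_apply]
            exact Subtype.prop _)
          have hl : l ≫ ((pullback.fst f (v ≫ f)) ⁻¹ᵁ (f ⁻¹ᵁ U)).ι = e ≫ σ :=
            IsOpenImmersion.lift_fac _ _ _
          have hl2 : l ≫ (pullback.fst f (v ≫ f) ∣_ (f ⁻¹ᵁ U)) = ub := by
            rw [← cancel_mono (f ⁻¹ᵁ U).ι, Category.assoc, morphismRestrict_ι, reassoc_of% hl, hσ1, hub]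
          have h2 := congrArg (l ≫ ·) h₁U
          simp only [reassoc_of% hl, reassoc_of% hl2] at h2
          exact h2
    -- local extensions around each point of `Z`
    have ext1 : ∀ z : ↥Z, ∃ (V : X.Opens) (a : (V : Scheme.{u}) ⟶ pullback f g), iZ z ∈ V ∧
        a ≫ pullback.fst f g = V.ι ∧
        X.homOfLE (inf_le_left : V ⊓ f ⁻¹ᵁ U ≤ V) ≫ a = X.homOfLE inf_le_right ≫ sU ∧
        ∀ (t : ↥Z) (ht : iZ t ∈ V), a ⟨iZ t, ht⟩ = s₀ t := by
      intro z
      haveI := (hnorm z).1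
      obtain ⟨U', hUU', hzU', a, ha, haU, haz⟩ := (Groth.Agent.S3848.result (pullback.fst f g) (f ⁻¹ᵁ U)
        hdense sU hsU (iZ z) (hZU z) (hnorm z).2 (s₀ z)
        (by rw [← Scheme.Hom.comp_apply, hs₀]) (hrf z)).2 (fun R _ _ _ v hv ub hub => cond z R v hv ub hub)
      obtain ⟨A, hA, hzA, hAU⟩ : ∃ A : X.Opens, IsAffineOpen A ∧ iZ z ∈ A ∧ A ≤ U' := by
        obtain ⟨_, ⟨A, hA, rfl⟩, h1, h2⟩ :=
          X.isBasis_affineOpens.exists_subset_of_mem_open (show iZ z ∈ (U' : Set ↥X) from hzU') U'.2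
        exact ⟨A, hA, h1, h2⟩
      obtain ⟨W, hW, hzW, hWA⟩ : ∃ W : (pullback f g).Opens, IsAffineOpen W ∧ s₀ z ∈ W ∧
          W ≤ pullback.fst f g ⁻¹ᵁ A := by
        obtain ⟨_, ⟨W, hW, rfl⟩, h1, h2⟩ := (pullback f g).isBasis_affineOpens.exists_subset_of_mem_open
          (show s₀ z ∈ (pullback.fst f g ⁻¹ᵁ A : (pullback f g).Opens) by
            show pullback.fst f g (s₀ z) ∈ A
            rw [← Scheme.Hom.comp_apply, hs₀]; exact hzA) (pullback.fst f g ⁻¹ᵁ A).2
        exact ⟨W, hW, h1, h2⟩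
      let C : Set ↥X := iZ '' ((s₀ ⁻¹ᵁ W : Z.Opens) : Set ↥Z)ᶜ
      have hC : IsClosed C := iZ.isClosedEmbedding.isClosedMap _ (s₀ ⁻¹ᵁ W).2.isClosed_compl
      let V : X.Opens := U'.ι ''ᵁ (a ⁻¹ᵁ W) ⊓ ⟨Cᶜ, hC.isOpen_compl⟩
      have hVU : V ≤ U' := inf_le_left.trans (Scheme.Opens.ι_image_le U' _)
      refine ⟨V, X.homOfLE hVU ≫ a, ⟨⟨⟨iZ z, hzU'⟩, by show a _ ∈ W; rw [haz]; exact hzW, rfl⟩, ?_⟩,
        by rw [Category.assoc, ha, Scheme.homOfLE_ι], ?_, fun t ht => ?_⟩
      · rintro ⟨t, ht, e⟩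
        rw [iZ.isClosedEmbedding.injective e] at ht
        exact ht hzW
      · rw [← haU, Scheme.homOfLE_homOfLE_assoc, Scheme.homOfLE_homOfLE_assoc]
      · have htU : iZ t ∈ U' := hVU ht
        have htW : s₀ t ∈ W := by
          by_contra hn
          exact ht.2 ⟨t, hn, rfl⟩
        have htW' : a ⟨iZ t, htU⟩ ∈ W := by
          obtain ⟨b, hb, hb'⟩ := ht.1
          rwa [show b = ⟨iZ t, htU⟩ from U'.ι.isOpenEmbedding.injective hb'] at hb
        haveI : IsAffine (A : Scheme.{u}) := hA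
        haveI : IsAffine (W : Scheme.{u}) := hW
        let qW : (W : Scheme.{u}) ⟶ (A : Scheme.{u}) := (pullback.fst f g).resLE A W hWA
        have hqW : qW ≫ A.ι = W.ι ≫ pullback.fst f g := Scheme.Hom.resLE_comp_ι _ _
        haveI : IsSeparated qW := inferInstance
        haveI := (hnorm t).1
        obtain ⟨W0, htW0, hW0⟩ := GrothLib.Rat20Ext.exists_integral_nhd (iZ t)
        haveI := hW0
        obtain ⟨hξU, hξt⟩ := GrothLib.Rat20Ext.exists_generic (W := W0) htW0 (f ⁻¹ᵁ U) hdense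
        obtain ⟨R, _, _, hR, v, zz, hvc, hvK⟩ := GrothLib.Rat20Ext.exists_dvr_map _ (iZ t) hξt
          (fun e => hZU t (e ▸ hξU))
        let e := Spec.map (CommRingCat.ofHom (algebraMap R (FractionRing R)))
        let ub := IsOpenImmersion.lift (f ⁻¹ᵁ U).ι (e ≫ v) (by
          rw [Scheme.Opens.range_ι]
          rintro _ ⟨o, rfl⟩
          show (e ≫ v) o ∈ f ⁻¹ᵁ U
          rw [hvK, Scheme.Hom.comp_apply, Scheme.fromSpecResidueField_apply]
          exact hξU)
        have hub : ub ≫ (f ⁻¹ᵁ U).ι = e ≫ v := IsOpenImmersion.lift_fac _ _ _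
        obtain ⟨h₁, hh₁, hh₁c, hh₁K⟩ := cond t R v hvc ub hub
        let vU := IsOpenImmersion.lift U'.ι v (by
          rw [Scheme.Opens.range_ι]
          rintro _ ⟨o, rfl⟩
          exact GrothLib.DVRDom.mem_of_closedPoint_mem (W := U') v (by
            show v (IsLocalRing.closedPoint R) ∈ U'
            rw [hvc]; exact htU) o)
        have hvU : vU ≫ U'.ι = v := IsOpenImmersion.lift_fac _ _ _
        have hvUc : vU (IsLocalRing.closedPoint R) = ⟨iZ t, htU⟩ := U'.ι.isOpenEmbedding.injective (by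
          rw [← Scheme.Hom.comp_apply, hvU, hvc]; rfl)
        let l₁ := IsOpenImmersion.lift W.ι h₁ (by
          rw [Scheme.Opens.range_ι]
          rintro _ ⟨o, rfl⟩
          exact GrothLib.DVRDom.mem_of_closedPoint_mem (W := W) h₁ (by
            show h₁ (IsLocalRing.closedPoint R) ∈ W
            rw [hh₁c]; exact htW) o)
        let l₂ := IsOpenImmersion.lift W.ι (vU ≫ a) (by
          rw [Scheme.Opens.range_ι]
          rintro _ ⟨o, rfl⟩
          exact GrothLib.DVRDom.mem_of_closedPoint_mem (W := W) (vU ≫ a) (by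
            show (vU ≫ a) (IsLocalRing.closedPoint R) ∈ W
            rw [Scheme.Hom.comp_apply, hvUc]; exact htW') o)
        have h1ι : l₁ ≫ W.ι = h₁ := IsOpenImmersion.lift_fac _ _ _
        have h2ι : l₂ ≫ W.ι = vU ≫ a := IsOpenImmersion.lift_fac _ _ _
        have heq : l₁ = l₂ := by
          refine GrothLib.DVRDom.eq_of_isSeparated (K := FractionRing R) qW _ _ ?_ ?_
          · rw [← cancel_mono A.ι, Category.assoc, Category.assoc, hqW, reassoc_of% h1ι,
              reassoc_of% h2ι, hh₁, ha, hvU]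
          · rw [← cancel_mono W.ι, Category.assoc, Category.assoc, h1ι, h2ι, hh₁K, ← haU,
              ← Category.assoc, ← Category.assoc]
            congr 1
            rw [← cancel_mono U'.ι, Category.assoc, Category.assoc, hvU, Scheme.homOfLE_ι, hub]
        have h3 := congrArg (· ≫ W.ι) heq
        simp only [h1ι, h2ι] at h3
        have h4 : s₀ t = a ⟨iZ t, htU⟩ := by rw [← hvUc, ← Scheme.Hom.comp_apply, ← h3, hh₁c]
        refine Eq.trans ?_ h4.symm
        rw [Scheme.Hom.comp_apply]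
        congr 1
        exact U'.ι.isOpenEmbedding.injective (by rw [← Scheme.Hom.comp_apply, Scheme.homOfLE_ι]; rfl)
    choose V a hzV ha haU haZ using ext1
    -- uniqueness of the local extensions
    have uniq : ∀ (O : X.Opens) (b c : (O : Scheme.{u}) ⟶ pullback f g), b ≫ pullback.fst f g = O.ι →
        c ≫ pullback.fst f g = O.ι →
        X.homOfLE (inf_le_left : O ⊓ f ⁻¹ᵁ U ≤ O) ≫ b = X.homOfLE (inf_le_left : O ⊓ f ⁻¹ᵁ U ≤ O) ≫ c →
        (∀ (t : ↥Z) (ht : iZ t ∈ O), b ⟨iZ t, ht⟩ = c ⟨iZ t, ht⟩) → b = c := by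
      intro O b c hb hc hbc hbcZ
      have hloc : ∀ o : ↥(O : Scheme.{u}), ∃ Q : X.Opens, o.1 ∈ Q ∧ ∃ hQ : Q ≤ O,
          X.homOfLE hQ ≫ b = X.homOfLE hQ ≫ c := by
        intro o
        by_cases ho : o.1 ∈ f ⁻¹ᵁ U
        · exact ⟨O ⊓ f ⁻¹ᵁ U, ⟨o.2, ho⟩, inf_le_left, hbc⟩
        obtain ⟨t, ht⟩ := hZ.ge ho
        have hbo : b o = c o := by
          have := hbcZ t (ht ▸ o.2)
          rwa [show (⟨iZ t, ht ▸ o.2⟩ : ↥(O : Scheme.{u})) = o from Subtype.ext ht] at this
        obtain ⟨A, hA, hoA, hAO⟩ : ∃ A : X.Opens, IsAffineOpen A ∧ o.1 ∈ A ∧ A ≤ O := by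
          obtain ⟨_, ⟨A, hA, rfl⟩, h1, h2⟩ :=
            X.isBasis_affineOpens.exists_subset_of_mem_open (show o.1 ∈ (O : Set ↥X) from o.2) O.2
          exact ⟨A, hA, h1, h2⟩
        obtain ⟨W, hW, hoW, hWA⟩ : ∃ W : (pullback f g).Opens, IsAffineOpen W ∧ b o ∈ W ∧
            W ≤ pullback.fst f g ⁻¹ᵁ A := by
          obtain ⟨_, ⟨W, hW, rfl⟩, h1, h2⟩ := (pullback f g).isBasis_affineOpens.exists_subset_of_mem_open
            (show b o ∈ (pullback.fst f g ⁻¹ᵁ A : (pullback f g).Opens) by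
              show pullback.fst f g (b o) ∈ A
              rw [← Scheme.Hom.comp_apply, hb]; exact hoA) (pullback.fst f g ⁻¹ᵁ A).2
          exact ⟨W, hW, h1, h2⟩
        haveI : IsDomain (X.presheaf.stalk o.1) := by rw [← ht]; exact (hnorm t).1
        obtain ⟨W0, hoW0, hW0⟩ := GrothLib.Rat20Ext.exists_integral_nhd o.1
        haveI := hW0
        let Q₀ : (O : Scheme.{u}).Opens := b ⁻¹ᵁ W ⊓ c ⁻¹ᵁ W ⊓ O.ι ⁻¹ᵁ W0
        let Q := O.ι ''ᵁ Q₀
        have hQO : Q ≤ O := Scheme.Opens.ι_image_le O Q₀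
        have hQmem : ∀ y : ↥(Q : Scheme.{u}), X.homOfLE hQO y ∈ Q₀ := fun y => by
          obtain ⟨w, hw, hw'⟩ := y.2
          rwa [show X.homOfLE hQO y = w from O.ι.isOpenEmbedding.injective (by
            rw [← Scheme.Hom.comp_apply, Scheme.homOfLE_ι]; exact hw'.symm)]
        refine ⟨Q, ⟨o, ⟨⟨hoW, by show c o ∈ W; rw [← hbo]; exact hoW⟩, hoW0⟩, rfl⟩, hQO, ?_⟩
        haveI : IsAffine (A : Scheme.{u}) := hA
        haveI : IsAffine (W : Scheme.{u}) := hW
        let qW : (W : Scheme.{u}) ⟶ (A : Scheme.{u}) := (pullback.fst f g).resLE A W hWA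
        have hqW : qW ≫ A.ι = W.ι ≫ pullback.fst f g := Scheme.Hom.resLE_comp_ι _ _
        haveI : IsSeparated qW := inferInstance
        haveI : IsSeparated (W.ι ≫ pullback.fst f g) := by rw [← hqW]; infer_instance
        let lb := IsOpenImmersion.lift W.ι (X.homOfLE hQO ≫ b) (by
          rw [Scheme.Opens.range_ι]
          rintro _ ⟨y, rfl⟩
          exact (hQmem y).1.1)
        let lc := IsOpenImmersion.lift W.ι (X.homOfLE hQO ≫ c) (by
          rw [Scheme.Opens.range_ι]
          rintro _ ⟨y, rfl⟩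
          exact (hQmem y).1.2)
        have hbι : lb ≫ W.ι = X.homOfLE hQO ≫ b := IsOpenImmersion.lift_fac _ _ _
        have hcι : lc ≫ W.ι = X.homOfLE hQO ≫ c := IsOpenImmersion.lift_fac _ _ _
        haveI : IsReduced (Q : Scheme.{u}) := by
          have : IsReduced (W0 : Scheme.{u}) := inferInstance
          exact isReduced_of_isOpenImmersion (X.homOfLE (show Q ≤ W0 from fun y hy => by
            obtain ⟨w, hw, rfl⟩ := hy
            exact hw.2))
        have hdQ : Dense ((Q.ι ⁻¹ᵁ (f ⁻¹ᵁ U) : (Q : Scheme.{u}).Opens) : Set ↥(Q : Scheme.{u})) :=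
          hdense.preimage Q.ι.isOpenEmbedding.isOpenMap
        haveI : IsDominant (Q.ι ⁻¹ᵁ (f ⁻¹ᵁ U)).ι := ⟨by
          rw [DenseRange, Scheme.Opens.range_ι]; exact hdQ⟩
        have heq : lb = lc := by
          refine ext_of_isDominant_of_isSeparated (W.ι ≫ pullback.fst f g) ?_ (Q.ι ⁻¹ᵁ (f ⁻¹ᵁ U)).ι ?_
          · simp only [reassoc_of% hbι, reassoc_of% hcι, hb, hc]
          · rw [← cancel_mono W.ι, Category.assoc, Category.assoc, hbι, hcι]
            let l := IsOpenImmersion.lift (O ⊓ f ⁻¹ᵁ U).ι ((Q.ι ⁻¹ᵁ (f ⁻¹ᵁ U)).ι ≫ Q.ι) (by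
              rw [Scheme.Opens.range_ι]
              rintro _ ⟨y, rfl⟩
              exact ⟨hQO (((Q.ι ⁻¹ᵁ (f ⁻¹ᵁ U)).ι y).2), y.2⟩)
            have hl : l ≫ (O ⊓ f ⁻¹ᵁ U).ι = (Q.ι ⁻¹ᵁ (f ⁻¹ᵁ U)).ι ≫ Q.ι := IsOpenImmersion.lift_fac _ _ _
            have hl1 : l ≫ X.homOfLE (inf_le_left : O ⊓ f ⁻¹ᵁ U ≤ O) =
                (Q.ι ⁻¹ᵁ (f ⁻¹ᵁ U)).ι ≫ X.homOfLE hQO := by
              rw [← cancel_mono O.ι, Category.assoc, Category.assoc, Scheme.homOfLE_ι, Scheme.homOfLE_ι, hl]
            have h2 := congrArg (l ≫ ·) hbc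
            simp only [reassoc_of% hl1] at h2
            exact h2
        rw [← hbι, ← hcι, heq]
      choose Q hQo hQO hQeq using hloc
      refine Scheme.Cover.hom_ext ((O : Scheme.{u}).openCoverOfIsOpenCover (fun o => O.ι ⁻¹ᵁ Q o)
        (TopologicalSpace.IsOpenCover.mk (eq_top_iff.2 fun o _ =>
          TopologicalSpace.Opens.mem_iSup.2 ⟨o, hQo o⟩))) _ _ fun o => ?_
      show (O.ι ⁻¹ᵁ Q o).ι ≫ b = (O.ι ⁻¹ᵁ Q o).ι ≫ c
      have e1 : (O.ι ⁻¹ᵁ Q o).ι = (O.ι ∣_ Q o) ≫ X.homOfLE (hQO o) := by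
        rw [← cancel_mono O.ι, Category.assoc, Scheme.homOfLE_ι, morphismRestrict_ι]
      rw [e1, Category.assoc, Category.assoc, hQeq]
    -- glue
    let I := Option ↥Z
    let O : I → X.Opens := fun i => i.elim (f ⁻¹ᵁ U) V
    let m : ∀ i : I, (O i : Scheme.{u}) ⟶ pullback f g := fun i => match i with
      | none => sU
      | some z => a z
    have hm : ∀ i, m i ≫ pullback.fst f g = (O i).ι := by
      rintro (_ | z)
      · exact hsU
      · exact ha z
    have hmU : ∀ i, X.homOfLE (inf_le_left : O i ⊓ f ⁻¹ᵁ U ≤ O i) ≫ m i =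
        X.homOfLE (inf_le_right : O i ⊓ f ⁻¹ᵁ U ≤ f ⁻¹ᵁ U) ≫ sU := by
      rintro (_ | z)
      · rfl
      · exact haU z
    have hmZ : ∀ i (t : ↥Z) (ht : iZ t ∈ O i), m i ⟨iZ t, ht⟩ = s₀ t := by
      rintro (_ | z) t ht
      · exact absurd ht (hZU t)
      · exact haZ z t ht
    have hcov : ⨆ i, O i = ⊤ := eq_top_iff.2 fun x _ => by
      by_cases hx : x ∈ f ⁻¹ᵁ U
      · exact TopologicalSpace.Opens.mem_iSup.2 ⟨none, hx⟩
      · obtain ⟨t, rfl⟩ := hZ.ge hx
        exact TopologicalSpace.Opens.mem_iSup.2 ⟨some t, hzV t⟩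
    let 𝒰 := X.openCoverOfIsOpenCover O (TopologicalSpace.IsOpenCover.mk hcov)
    have hcompat : ∀ i j, pullback.fst (𝒰.f i) (𝒰.f j) ≫ m i = pullback.snd (𝒰.f i) (𝒰.f j) ≫ m j := by
      intro i j
      refine (cancel_epi (IsPullback.isoPullback (?_ : IsPullback
        (X.homOfLE (inf_le_left : O i ⊓ O j ≤ O i)) (X.homOfLE (inf_le_right : O i ⊓ O j ≤ O j))
        (O i).ι (O j).ι)).hom).mp ?_
      · exact (isPullback_opens_inf (O i) (O j))
      · simp only [𝒰, Scheme.openCoverOfIsOpenCover, IsPullback.isoPullback_hom_fst_assoc,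
          IsPullback.isoPullback_hom_snd_assoc]
        refine uniq _ _ _ ?_ ?_ ?_ fun t ht => ?_
        · rw [Category.assoc, hm, Scheme.homOfLE_ι]
        · rw [Category.assoc, hm, Scheme.homOfLE_ι]
        · have key : ∀ (k : I) (hk : O i ⊓ O j ≤ O k),
              X.homOfLE (inf_le_left : O i ⊓ O j ⊓ f ⁻¹ᵁ U ≤ O i ⊓ O j) ≫ X.homOfLE hk ≫ m k =
              X.homOfLE (inf_le_right : O i ⊓ O j ⊓ f ⁻¹ᵁ U ≤ f ⁻¹ᵁ U) ≫ sU := by
            intro k hk
            have h2 := congrArg (X.homOfLE (inf_le_inf_right (f ⁻¹ᵁ U) hk) ≫ ·) (hmU k)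
            simp only [Scheme.homOfLE_homOfLE_assoc] at h2 ⊢
            exact h2
          rw [key, key]
        · rw [Scheme.Hom.comp_apply, Scheme.Hom.comp_apply]
          have e : ∀ (k : I) (hk : O i ⊓ O j ≤ O k),
              X.homOfLE hk ⟨iZ t, ht⟩ = ⟨iZ t, hk ht⟩ := fun k hk =>
            (O k).ι.isOpenEmbedding.injective (by rw [← Scheme.Hom.comp_apply, Scheme.homOfLE_ι]; rfl)
          rw [e i inf_le_left, e j inf_le_right, hmZ, hmZ]
    let s' : X ⟶ pullback f g := 𝒰.glueMorphisms m hcompat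
    have hs' : ∀ i, (O i).ι ≫ s' = m i := fun i => 𝒰.ι_glueMorphisms m hcompat i
    have hs'1 : s' ≫ pullback.fst f g = 𝟙 X := by
      refine 𝒰.hom_ext _ _ fun i => ?_
      show (O i).ι ≫ _ = (O i).ι ≫ _
      rw [reassoc_of% hs', hm, Category.comp_id]
    refine ⟨s' ≫ pullback.snd f g, by
      rw [Category.assoc, ← pullback.condition, reassoc_of% hs'1], ?_, ?_⟩
    · have h1 : (f ⁻¹ᵁ U).ι ≫ s' = sU := hs' none
      rw [reassoc_of% h1]
      exact pullback.lift_snd _ _ _
    · have hZs : iZ ≫ s' = s₀ := by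
        refine GrothLib.Rat20Ext.ext_of_forall_residue (pullback.fst f g) _ _
          (by rw [Category.assoc, hs'1, Category.comp_id, hs₀]) fun t => ?_
        have h1 : (iZ ≫ s') t = s₀ t := by
          rw [Scheme.Hom.comp_apply,
            show iZ t = (O (some t)).ι ⟨iZ t, hzV t⟩ from rfl, ← Scheme.Hom.comp_apply, hs']
          exact hmZ (some t) t (hzV t)
        exact ⟨h1, by rw [h1]; exact hrf t⟩
      rw [reassoc_of% hZs]
      exact pullback.lift_snd _ _ _


end Groth.Agent.S5111
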