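import Groth.Statements.S5114
import Groth.Agent.Lib.EtDescent21.QuasiFinite
import Mathlib.AlgebraicGeometry.Morphisms.FiniteType
import Groth.Agent.Lib.GenMap.OpenMap

set_option backward.isDefEq.respectTransparency false
set_option backward.isDefEq.respectTransparency.types false

set_option autoImplicit false
universe u
open SGA1

namespace Groth.Agent.S5114

open AlgebraicGeometry CategoryTheory CategoryTheory.Limits in
open AlgebraicGeometry CategoryTheory CategoryTheory.Limits in
theorem univSubmersive_of_comp {X Y Z : Scheme.{u}} (f : X ⟶ Y) (g : Y ⟶ Z) (h : SGA1.UnivSubmersive (f ≫ g)) :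
    SGA1.UnivSubmersive g := fun P Z' i₁ i₂ g' sq => by
  have hp := (IsPullback.of_hasPullback f i₁).paste_vert sq.flip
  have hq := h _ _ _ hp.flip
  change Topology.IsQuotientMap g'
  change Topology.IsQuotientMap (pullback.snd f i₁ ≫ g') at hq
  rw [Scheme.Hom.comp_base, TopCat.coe_comp] at hq
  exact hq.of_comp (pullback.snd f i₁).continuous g'.continuous

open AlgebraicGeometry CategoryTheory CategoryTheory.Limits in

/-- Let A be a complete Noetherian local ring, S = Spec A, and g : S' ⟶ S a surjective morphism of
finite type whose fibre over the closed point s is finite. If every point of S' specialises to some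
point of the fibre over s (equivalently: the disjoint union of the spectra of the local rings of S'
at the points over s maps onto S'), then g is universally submersive. (The published statement
asserts an equivalence and does not mention surjectivity of g; the converse fails: for A a complete
discrete valuation ring with fraction field K, S' = S ⊔ Spec K ⟶ S has a section, hence is
universally submersive, while the isolated point Spec K specialises to no point over s. This row
states the implication the published proof establishes, with the surjectivity it uses.) -/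
theorem result (A : Type u) [CommRing A]
    [IsNoetherianRing A] [IsLocalRing A] [IsAdicComplete (IsLocalRing.maximalIdeal A) A]
    {S' : Scheme.{u}} (g : S' ⟶ Spec (CommRingCat.of A)) [LocallyOfFiniteType g] [QuasiCompact g]
    [Surjective g]
    (hfin : (g.base ⁻¹' {IsLocalRing.closedPoint A}).Finite)
    (hsp : ∀ t : S', ∃ s' : S', g.base s' = IsLocalRing.closedPoint A ∧ t ⤳ s') :
    SGA1.UnivSubmersive g := by
  haveI : HenselianRing A (IsLocalRing.maximalIdeal A) := inferInstance
  haveI : HenselianLocalRing A := HenselianLocalRing.mk fun f hf a₀ h₁ h₂ =>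
    HenselianRing.is_henselian (I := IsLocalRing.maximalIdeal A) f hf a₀ h₁ (h₂.map _)
  haveI : CompactSpace S' := QuasiCompact.compactSpace_of_compactSpace g
  haveI : IsLocallyNoetherian S' := LocallyOfFiniteType.isLocallyNoetherian g
  obtain ⟨X', h, _, _, hs⟩ := GrothLib.AlgSp.exists_affine_etale_cover (𝟙 S')
  rw [Category.comp_id] at hs
  haveI := hs
  let g₂ := h ≫ g
  haveI : LocallyQuasiFinite h := GrothLib.EtBasicB.locallyQuasiFinite_of_unramified h
  haveI : QuasiCompact h := by
    have : QuasiCompact (h ≫ g) := inferInstance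
    exact QuasiCompact.of_comp h g
  have hfin₂ : (g₂ ⁻¹' {IsLocalRing.closedPoint A}).Finite := by
    have : g₂ ⁻¹' {IsLocalRing.closedPoint A} = ⋃ y ∈ g.base ⁻¹' {IsLocalRing.closedPoint A}, h ⁻¹' {y} := by
      ext z
      simp [g₂]
    rw [this]
    exact hfin.biUnion fun y _ => h.finite_preimage_singleton y
  let U := g₂.quasiFiniteLocus
  have hU : ∀ z, g₂ z = IsLocalRing.closedPoint A → z ∈ U := by
    intro z hz
    rw [Scheme.Hom.mem_quasiFiniteLocus, Scheme.Hom.quasiFiniteAt_iff_isOpen_singleton_asFiber]
    haveI : Finite (g₂ ⁻¹' {g₂ z}) := by rw [hz]; exact hfin₂.to_subtype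
    haveI : Finite (g₂.fiber (g₂ z)) := (g₂.fiberHomeo _).finite_iff.mpr ‹_›
    haveI : LocallyOfFiniteType (g₂.fiberToSpecResidueField (g₂ z)) :=
      MorphismProperty.pullback_snd _ _ inferInstance
    haveI : JacobsonSpace (g₂.fiber (g₂ z)) :=
      LocallyOfFiniteType.jacobsonSpace (g₂.fiberToSpecResidueField (g₂ z))
    haveI : T1Space (g₂.fiber (g₂ z)) := ⟨fun w => by
      have h1 : closure (closedPoints (g₂.fiber (g₂ z))) = Set.univ := closure_closedPoints
      have h2 : IsClosed (closedPoints (g₂.fiber (g₂ z))) := by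
        rw [← Set.biUnion_of_singleton (closedPoints (g₂.fiber (g₂ z)))]
        exact (Set.toFinite _).isClosed_biUnion fun x hx => hx
      rw [h2.closure_eq] at h1
      exact (h1.ge (Set.mem_univ w) : w ∈ closedPoints (g₂.fiber (g₂ z)))⟩
    exact isOpen_discrete _
  haveI : IsNoetherian X' := { toIsLocallyNoetherian := LocallyOfFiniteType.isLocallyNoetherian g₂ }
  haveI : CompactSpace (U : Scheme.{u}) := isCompact_iff_compactSpace.mp (TopologicalSpace.NoetherianSpace.isCompact _)
  haveI : QuasiCompact (U.ι ≫ g₂) := (quasiCompact_iff_compactSpace _).2 inferInstance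
  obtain ⟨W, ⟨-, hWf, hW⟩, -⟩ := GrothLib.EtLocal.existsUnique_isFinitePart (U.ι ≫ g₂)
  haveI := hWf
  haveI : Surjective (W.ι ≫ U.ι ≫ g₂) := ⟨fun p => by
    obtain ⟨t, ht⟩ := g.surjective p
    obtain ⟨s', hs', hts⟩ := hsp t
    obtain ⟨z, hz⟩ := h.surjective s'
    obtain ⟨t', ht', htt⟩ := GrothLib.GenMap.generalizingMap_of_isOpenMap h h.isOpenMap (hz ▸ hts : t ⤳ h z)
    have hzc : g₂ z = IsLocalRing.closedPoint A := by
      simp only [g₂, Scheme.Hom.comp_apply, hz]; exact hs'
    have hzU : z ∈ U := hU z hzc
    have ht'U : t' ∈ U := (ht' : t' ⤳ z).mem_open U.2 hzU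
    have hsp' : (⟨t', ht'U⟩ : (U : Scheme.{u})) ⤳ ⟨z, hzU⟩ :=
      (U.ι.isOpenEmbedding.isInducing.specializes_iff).1 (by exact ht')
    have htW : (⟨t', ht'U⟩ : (U : Scheme.{u})) ∈ W := hsp'.mem_open W.2 (hW _ (by
      rw [Scheme.Hom.comp_apply]; exact hzc))
    refine ⟨⟨_, htW⟩, ?_⟩
    simp only [g₂, Scheme.Hom.comp_apply]
    change g (h t') = p
    rw [htt, ht]⟩
  refine univSubmersive_of_comp (W.ι ≫ U.ι ≫ h) g ?_
  have := GrothLib.EtDescent21.univSubmersive_of_universallyClosed (W.ι ≫ U.ι ≫ g₂)
  simpa only [g₂, Category.assoc] using this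

end Groth.Agent.S5114
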