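import Groth.Statements.S5115
import Groth.Agent.Lib.EtSite.UHEquiv
import Mathlib.AlgebraicGeometry.Morphisms.FlatDescent
-- import your own Groth.Agent.* helpers here

set_option autoImplicit false
universe u
open EtBase

namespace Groth.Agent.S5115

open AlgebraicGeometry CategoryTheory CategoryTheory.Limits in
/-- Let g : S' ⟶ S be faithfully flat (flat and surjective), quasi-compact and radicial (universally
injective). Then base change along g is an equivalence from the category of schemes etale over S to
the category of schemes etale over S'. -/
theorem result {S S' : Scheme.{u}} (g : S' ⟶ S)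
    [Flat g] [Surjective g] [QuasiCompact g] [UniversallyInjective g] :
    (EtCoh.bc g).IsEquivalence := by
  have hom : ∀ {X Y : Scheme.{u}} (h : X ⟶ Y) [Flat h] [Surjective h] [QuasiCompact h] [UniversallyInjective h],
      IsHomeomorph h.base := by
    intro X Y h _ _ _ _
    have hq : Topology.IsQuotientMap h := Flat.isQuotientMap_of_surjective h
    exact (Equiv.ofBijective h ⟨h.injective, h.surjective⟩).toHomeomorphOfContinuousOpen h.continuous
      (fun U hU => hq.isOpen_preimage.1 (by
        change IsOpen (h ⁻¹' (h '' U))
        rwa [Set.preimage_image_eq _ h.injective])) |>.isHomeomorph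
  haveI : UniversallyClosed g := ⟨fun {X' Y'} i₁ i₂ f' hpb => by
    haveI : Flat f' := MorphismProperty.of_isPullback hpb.flip (inferInstanceAs (Flat g))
    haveI : Surjective f' := MorphismProperty.of_isPullback hpb.flip (inferInstanceAs (Surjective g))
    haveI : QuasiCompact f' := MorphismProperty.of_isPullback hpb.flip (inferInstanceAs (QuasiCompact g))
    haveI : UniversallyInjective f' :=
      MorphismProperty.of_isPullback hpb.flip (inferInstanceAs (UniversallyInjective g))
    exact (hom f').isClosedMap⟩
  haveI : IsAffineHom g :=
    isAffineHom_of_isInducing g (hom g).isInducing (hom g).isClosedEmbedding.isClosed_range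
  haveI : IsIntegralHom g := IsIntegralHom.iff_universallyClosed_and_isAffineHom.2 ⟨inferInstance, inferInstance⟩
  exact GrothLib.UHQuot.isEquivalence_bc g

end Groth.Agent.S5115
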