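import Groth.Statements.S5116
import Groth.Agent.ProperBC21.GeomClopen

set_option autoImplicit false
universe u
open Pi1

namespace Groth.Agent.S5116

open AlgebraicGeometry CategoryTheory CategoryTheory.Limits in
/-- The injectivity of π₁ of the geometric closed fibre into π₁ of the total space, in terms of covers.
Let A be a complete Noetherian local ring with residue field k, k̄ an algebraic closure of k, ξ :
Spec k̄ ⟶ Spec A the resulting geometric point, X a proper A-scheme with X ×_A Spec k̄ connected.
Then every finite etale cover of X ×_A Spec k̄ admits an open and closed immersion, over X ×_A Spec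
k̄, into the base change of some finite etale cover of X. -/
theorem result (A : Type u) [CommRing A]
    [IsNoetherianRing A] [IsLocalRing A] [IsAdicComplete (IsLocalRing.maximalIdeal A) A]
    {X : Scheme.{u}} (f : X ⟶ Spec (CommRingCat.of A)) [IsProper f]
    (ξ : Spec (CommRingCat.of (AlgebraicClosure (IsLocalRing.ResidueField A))) ⟶ Spec (CommRingCat.of A))
    (hξ : ξ = Spec.map (CommRingCat.ofHom ((algebraMap (IsLocalRing.ResidueField A)
      (AlgebraicClosure (IsLocalRing.ResidueField A))).comp (IsLocalRing.residue A))))
    [ConnectedSpace ↥(pullback f ξ)] (V : FEt.Cat (pullback f ξ)) :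
    ∃ (U : FEt.Cat X) (ι : V ⟶ (FEt.restrict (pullback.fst f ξ)).obj U),
      IsOpenImmersion ι.left ∧ IsClosedImmersion ι.left := by
  subst hξ
  let k := IsLocalRing.ResidueField A
  let K := AlgebraicClosure k
  let φ : A →+* k := IsLocalRing.residue A
  obtain ⟨U₀, ι, h₁, h₂⟩ := Groth.Agent.ProperBC21.exists_clopen_of_geometric f φ
    (χ := (algebraMap k K).comp φ) rfl V
  let cl := pullback.fst f (Spec.map (CommRingCat.ofHom φ))
  haveI : (FEt.restrict cl).IsEquivalence :=
    Groth.Agent.ProperBC21.isEquivalence_restrict (IsLocalRing.maximalIdeal A) f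
  let U := (FEt.restrict cl).objPreimage U₀
  let m := Groth.Agent.ProperBC21.bcMap f (algebraMap k K)
    (show (algebraMap k K).comp φ = (algebraMap k K).comp φ from rfl)
  have hm : m ≫ cl = pullback.fst f (Spec.map (CommRingCat.ofHom ((algebraMap k K).comp φ))) :=
    Groth.Agent.ProperBC21.bcMap_fst f _ _
  let γ : (FEt.restrict m).obj U₀ ≅ (FEt.restrict (pullback.fst f
      (Spec.map (CommRingCat.ofHom ((algebraMap k K).comp φ))))).obj U :=
    (FEt.restrict m).mapIso ((FEt.restrict cl).objObjPreimageIso U₀).symm ≪≫
    ((MorphismProperty.Over.pullbackComp (P := FEt.prop) (Q := ⊤) m cl).app U).symm ≪≫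
      (MorphismProperty.Over.pullbackCongr (P := FEt.prop) (Q := ⊤) hm).app U
  refine ⟨U, ι ≫ γ.hom, ?_, ?_⟩
  · haveI := h₁
    show IsOpenImmersion (ι.left ≫ γ.hom.left)
    infer_instance
  · haveI := h₂
    show IsClosedImmersion (ι.left ≫ γ.hom.left)
    infer_instance

end Groth.Agent.S5116
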