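import Groth.Statements.S5117
import Groth.Agent.Lib.FEtLimit21.AlgClosure
import Groth.Agent.Lib.Pi1Field21.GeomConn

set_option autoImplicit false
universe u
open Pi1

namespace Groth.Agent.S5117

open AlgebraicGeometry CategoryTheory CategoryTheory.Limits in
open AlgebraicGeometry CategoryTheory CategoryTheory.Limits CategoryTheory.PreGaloisCategory
  GrothLib.FEt21 GrothLib.FEtLimit21 GrothLib.Pi1Field21 in
set_option backward.isDefEq.respectTransparency false in
theorem key (k : Type u) [Field k] {X : Scheme.{u}}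
    (f : X ⟶ Spec (CommRingCat.of k)) [CompactSpace X] [QuasiSeparatedSpace X]
    [ConnectedSpace ↥(pullback f (geom k))]
    (X' : FEt.Cat X) [ConnectedSpace X'.left]
    (σ : pullback f (geom k) ⟶ X'.left) (hσ : σ ≫ X'.hom = pullback.fst f (geom k)) :
    ∃ S' : FEt.Cat (Spec (CommRingCat.of k)), Nonempty ((FEt.restrict f).obj S' ≅ X') := by
  haveI := GrothLib.Pi1Field21.connectedSpace f
  haveI := galois_connected f
  obtain ⟨p⟩ := (inferInstance : Nonempty ↥(pullback f (geom k)))
  let η := geomPt (pullback f (geom k)) p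
  let ξ := η ≫ pullback.fst f (geom k)
  haveI : FiberFunctor (fibFin ξ) := GrothLib.FEt21.fiberFunctor ξ
  haveI : FiberFunctor (fibFin (ξ ≫ f)) := GrothLib.FEt21.fiberFunctor (ξ ≫ f)
  haveI : FiberFunctor (FEt.restrict f ⋙ fibFin ξ) :=
    GrothLib.GalCat21.fiberFunctor_of_iso (restrictFibIso f ξ).symm
  have hs := (GrothLib.GalCat21.surjective_iff (FEt.restrict f) (fibFin ξ)).2 (restrict_fullyFaithful f)
  haveI : PreconnectedSpace X'.left := inferInstance
  haveI hconn : PreGaloisCategory.IsConnected X' := by
    refine ⟨fun h => ?_, fun Y i _ hY => ?_⟩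
    · obtain ⟨z⟩ := (inferInstance : Nonempty X'.left)
      obtain ⟨t⟩ := nonempty_fiber ξ X' z
      exact not_initial_of_inhabited (fibFin ξ) t h
    · obtain ⟨y0⟩ := (not_initial_iff_fiber_nonempty (fibFin ξ) Y).1 hY
      refine GrothLib.GalCat21.isIso_of_bijective (fibFin ξ) i ⟨fiber_map_injective_of_mono i ξ, fun s => ?_⟩
      obtain ⟨t⟩ := nonempty_fiber s.1 (MorphismProperty.Over.mk ⊤ i.left (prop_left i)) (y0.1 default)
      exact ⟨⟨t.1, (congrArg (t.1 ≫ ·) (Over.w i.hom)).symm.trans
        ((Category.assoc _ _ _).symm.trans ((congrArg (· ≫ X'.hom) t.2).trans s.2))⟩, Subtype.ext t.2⟩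
  obtain ⟨L, hL, sL, hsL, hsL'⟩ := exists_section_algClosure f X' σ hσ
  haveI : FiniteDimensional k L := hL
  have hprop : FEt.prop (stageMap (sepK k) L) := by
    haveI : Algebra.IsSeparable k (sepK k) := separableClosure.isSeparable _ _
    haveI : Algebra.IsSeparable k L := Algebra.isSeparable_tower_bot_of_isSeparable k L (sepK k)
    haveI : Algebra.FormallyEtale k L := Algebra.FormallyEtale.of_isSeparable k L
    haveI : Algebra.Etale k L := ⟨inferInstance, Algebra.FinitePresentation.of_finiteType.1 inferInstance⟩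
    exact ⟨(IsFinite.SpecMap_iff _).2 (RingHom.finite_algebraMap.2 inferInstance),
      (HasRingHomProperty.Spec_iff (P := @Etale)).2 (RingHom.etale_algebraMap.2 inferInstance)⟩
  let V : FEt.Cat (Spec (CommRingCat.of k)) := MorphismProperty.Over.mk ⊤ (stageMap (sepK k) L) hprop
  let q : (FEt.restrict f).obj V ⟶ X' :=
    MorphismProperty.Over.homMk ((pullbackSymmetry (stageMap (sepK k) L) f).hom ≫ sL)
      ((Category.assoc _ _ _).trans ((congrArg (_ ≫ ·) hsL).trans (pullbackSymmetry_hom_comp_fst _ _)))
  haveI : Nonempty ((fibFin ξ).obj ((FEt.restrict f).obj V)) :=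
    ⟨⟨η ≫ toSepStage f L ≫ (pullbackSymmetry (stageMap (sepK k) L) f).inv, by
      show (η ≫ toSepStage f L ≫ _) ≫ pullback.snd (stageMap (sepK k) L) f = ξ
      rw [Category.assoc, Category.assoc, pullbackSymmetry_inv_comp_snd, toSepStage_fst]⟩⟩
  have hker : ∀ τ ∈ (Pi1X.autWhisker (FEt.restrict f) (fibFin ξ)).ker, ∀ z : (fibFin ξ).obj X', τ • z = z := by
    intro τ hτ z
    obtain ⟨y, rfl⟩ := surjective_of_nonempty_fiber_of_isConnected (fibFin ξ) q z
    rw [← GrothLib.GalCat21.map_smul]
    refine congrArg _ ?_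
    show Pi1X.autWhisker (FEt.restrict f) (fibFin ξ) τ • (show (FEt.restrict f ⋙ fibFin ξ).obj V from y) = _
    rw [MonoidHom.mem_ker.1 hτ, one_smul]
  exact GrothLib.GalCat21.exists_preimage_of_connected (FEt.restrict f) (fibFin ξ) hs X' hker

open AlgebraicGeometry CategoryTheory CategoryTheory.Limits in

/-- (ii bis) ⇒ (i), over a field. Let k be a field with algebraic closure k̄, X a quasi-compact and
quasi-separated k-scheme such that X ×_k k̄ is connected, and X' a connected finite etale cover of
X. If the induced cover X' ×_k k̄ → X ×_k k̄ admits a section, then X' is isomorphic over X to X ×_k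
S' for some finite etale k-scheme S'. (The published statement allows the spectrum of an Artinian
local ring with residue field k as base and asks only that X be quasi-compact; this row takes a
field and X quasi-compact and quasi-separated.) -/
theorem result (k : Type u) [Field k] {X : Scheme.{u}}
    (f : X ⟶ Spec (CommRingCat.of k)) [CompactSpace X] [QuasiSeparatedSpace X]
    [ConnectedSpace ↥(pullback f (Spec.map (CommRingCat.ofHom (algebraMap k (AlgebraicClosure k)))))]
    (X' : FEt.Cat X) [ConnectedSpace X'.left]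
    (σ : pullback f (Spec.map (CommRingCat.ofHom (algebraMap k (AlgebraicClosure k)))) ⟶ X'.left)
    (hσ : σ ≫ X'.hom = pullback.fst f (Spec.map (CommRingCat.ofHom (algebraMap k (AlgebraicClosure k))))) :
    ∃ S' : FEt.Cat (Spec (CommRingCat.of k)), Nonempty ((FEt.restrict f).obj S' ≅ X') := by
  open AlgebraicGeometry CategoryTheory CategoryTheory.Limits in
    exact key k f X' σ hσ

end Groth.Agent.S5117
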