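import Groth.Statements.S5118
import Mathlib.RingTheory.Etale.StandardEtale
import Mathlib.Algebra.DualNumber
import Groth.Agent.Lib.Hensel.Pair
import Mathlib.Tactic.LinearCombination

set_option autoImplicit false
universe u
open SGA1t

namespace Groth.Agent.S5118

open Polynomial in
/-- The etaleness criterion for the Kummer group scheme: Let A be a commutative ring and n ≥ 1. The
group scheme μ_n over Spec A is the spectrum of A[t]/(t^n − 1), a free A-module of rank n; it is
etale over A if and only if n is a unit of A (equivalently, n is prime to the characteristic of the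
residue field at every point of Spec A). -/
theorem result (A : Type u) [CommRing A] (n : ℕ) (hn : 1 ≤ n) :
    Algebra.Etale A (AdjoinRoot ((X : A[X]) ^ n - 1)) ↔ IsUnit ((n : ℕ) : A) := by
  set F : A[X] := X ^ n - 1 with hFdef
  have hF : F.Monic := by simpa using monic_X_pow_sub_C (1 : A) (show n ≠ 0 by omega)
  have hroot : AdjoinRoot.root F ^ n = 1 := by
    have := AdjoinRoot.mk_self (f := F)
    rw [← AdjoinRoot.aeval_eq] at this
    simpa [F, sub_eq_zero] using this
  constructor
  · intro het
    by_contra hn'
    obtain ⟨m, hm, hnm⟩ := exists_max_ideal_of_mem_nonunits hn'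
    let k := A ⧸ m
    let := Ideal.Quotient.field m
    have hk : (n : DualNumber k) = 0 := by
      rw [← map_natCast (algebraMap A (DualNumber k)) n, IsScalarTower.algebraMap_apply A k (DualNumber k)]
      rw [show algebraMap A k n = 0 from Ideal.Quotient.eq_zero_iff_mem.2 hnm, map_zero]
    have h1 : ∀ c : k, ((1 : DualNumber k) + c • DualNumber.eps) ^ n = 1 := fun c => by
      have he : (c • DualNumber.eps : DualNumber k) * (c • DualNumber.eps) = 0 := by
        rw [smul_mul_smul_comm, DualNumber.eps_mul_eps, smul_zero]
      have hpow : ∀ j : ℕ, ((1 : DualNumber k) + c • DualNumber.eps) ^ j = 1 + (j : DualNumber k) * (c • DualNumber.eps) := by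
        intro j
        induction j with
        | zero => simp
        | succ j ih => rw [pow_succ, ih]; push_cast; linear_combination (j : DualNumber k) * he
      rw [hpow, hk, zero_mul, add_zero]
    let g : k → (AdjoinRoot F →ₐ[A] DualNumber k) := fun c =>
      AdjoinRoot.liftAlgHom F (Algebra.ofId A (DualNumber k)) ((1 : DualNumber k) + c • DualNumber.eps) (by
        simp [F, h1])
    have : Algebra.FormallyUnramified A (AdjoinRoot F) := inferInstance
    have heq : g 0 = g 1 := by
      refine Algebra.FormallyUnramified.lift_unique_of_ringHom (B := DualNumber k) (C := k)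
        (f := TrivSqZeroExt.fstHom k k k |>.toRingHom) ?_ _ _ ?_
      · refine ⟨2, ?_⟩
        rw [Ideal.zero_eq_bot, eq_bot_iff, pow_two]
        refine Ideal.mul_le.2 fun x hx y hy => ?_
        rw [Ideal.mem_bot]
        rw [RingHom.mem_ker] at hx hy
        ext <;> simp_all
      · refine RingHom.ext fun x => ?_
        induction x using AdjoinRoot.induction_on with
        | ih q =>
          show (g 0 (AdjoinRoot.mk F q)).fst = (g 1 (AdjoinRoot.mk F q)).fst
          simp only [g, AdjoinRoot.liftAlgHom_mk]
          rw [← TrivSqZeroExt.fstHom_apply (S := k), ← TrivSqZeroExt.fstHom_apply (S := k)]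
          simp only [Polynomial.eval₂_eq_sum, Polynomial.sum, map_sum, map_mul, map_pow, map_add, map_one, map_smul]
          simp
    have h2 := congrArg TrivSqZeroExt.snd (AlgHom.congr_fun heq (AdjoinRoot.root F))
    simp [g] at h2
  · intro hu
    have hru : IsUnit (AdjoinRoot.root F) :=
      IsUnit.of_mul_eq_one (AdjoinRoot.root F ^ (n - 1)) (by rw [← pow_succ', Nat.sub_add_cancel hn, hroot])
    have hder : IsUnit (AdjoinRoot.mk F F.derivative) := by
      rw [← AdjoinRoot.aeval_eq]
      simp only [F, derivative_sub, derivative_X_pow, derivative_one, sub_zero, map_mul, map_pow, aeval_X, aeval_C]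
      exact (hu.map _).mul (hru.pow _)
    let P := GrothLib.Hensel.simpleRootPair F hF
    let L := Localization.Away (AdjoinRoot.mk F F.derivative)
    let e : AdjoinRoot F ≃ₐ[AdjoinRoot F] L :=
      IsLocalization.atUnits (AdjoinRoot F) (Submonoid.powers (AdjoinRoot.mk F F.derivative)) (by
        rintro _ ⟨m, rfl⟩; exact hder.pow m)
    have : Algebra.Etale A L := Algebra.Etale.of_equiv P.equivAwayAdjoinRoot
    exact Algebra.Etale.of_equiv (e.restrictScalars A).symm

end Groth.Agent.S5118
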