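import Groth.Statements.S5119
-- import your own Groth.Agent.* helpers here

set_option autoImplicit false
universe u
open scoped LaurentPolynomial
open SGA1t

namespace Groth.Agent.S5119

/-- The computation behind the exactness of the Kummer sequence 0 → μ_n → G_m → G_m → 0, i.e. faithful
flatness of the n-th power map u_n of G_m: Let A be a commutative ring and n ≥ 1, and let u_n be the
ring endomorphism of A[t, t⁻¹] with u_n(t) = t^n (on monomials, t^k ↦ t^{nk}). Then A[t, t⁻¹] is
free of rank n over itself via u_n, with basis 1, t, …, t^{n−1}: every Laurent polynomial q can be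
written in exactly one way as Σ_{i<n} u_n(c_i) t^i. -/
theorem result (A : Type u) [CommRing A] (n : ℕ) (hn : 1 ≤ n) (q : A[T;T⁻¹]) :
    ∃! c : Fin n → A[T;T⁻¹],
      q = ∑ i : Fin n, (AddMonoidAlgebra.mapDomainRingHom A (AddMonoidHom.mulLeft (n : ℤ)) : A[T;T⁻¹] →+* A[T;T⁻¹]) (c i) *
        LaurentPolynomial.T (i : ℤ) := by
  have hinj : Function.Injective (AddMonoidHom.mulLeft (n : ℤ)) := fun a b h =>
    mul_left_cancel₀ (by omega : (n : ℤ) ≠ 0) h
  set Φ := (AddMonoidAlgebra.mapDomainRingHom A (AddMonoidHom.mulLeft (n : ℤ)) : A[T;T⁻¹] →+* A[T;T⁻¹])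
  have hap : ∀ (c : A[T;T⁻¹]) (i : Fin n) (k : ℤ) (j : Fin n),
      (Φ c * LaurentPolynomial.T (i : ℤ)).coeff ((n : ℤ) * k + j) = if i = j then c.coeff k else 0 := by
    intro c i k j
    rw [LaurentPolynomial.T, AddMonoidAlgebra.coeff_mul_single_eq_coeff_mul (m₂ := (n : ℤ) * k + j - i)]
    swap
    · intro a _; constructor <;> intro h <;> linarith
    rw [mul_one]
    show (Finsupp.mapDomain (AddMonoidHom.mulLeft (n : ℤ)) c.coeff) _ = _
    split_ifs with h
    · subst h
      rw [add_sub_cancel_right]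
      exact Finsupp.mapDomain_apply hinj c.coeff k
    · refine Finsupp.mapDomain_notin_range _ _ ?_
      rintro ⟨a, ha⟩
      replace ha : (n : ℤ) * a = (n : ℤ) * k + j - i := ha
      have h1 : (n : ℤ) ∣ ((j : ℤ) - i) := ⟨a - k, by linarith⟩
      have h2 : ((j : ℤ) - i).natAbs < n := by omega
      have h3 := Int.eq_zero_of_dvd_of_natAbs_lt_natAbs h1 (by simpa using h2)
      exact h (Fin.ext (by omega))
  have hk : ∀ m : ℤ, ∃ (k : ℤ) (j : Fin n), m = (n : ℤ) * k + j := fun m => by
    have h0 : 0 ≤ m % (n : ℤ) := Int.emod_nonneg _ (by omega)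
    have h1 : m % (n : ℤ) < n := Int.emod_lt_of_pos _ (by omega)
    refine ⟨m / n, ⟨(m % (n : ℤ)).toNat, by omega⟩, ?_⟩
    show m = _ + (((m % (n : ℤ)).toNat : ℕ) : ℤ)
    rw [Int.toNat_of_nonneg h0]; exact (Int.mul_ediv_add_emod m n).symm
  have hinjk : ∀ j : Fin n, Function.Injective fun k : ℤ => (n : ℤ) * k + j := fun j a b h =>
    hinj (show (n : ℤ) * a = n * b by simpa using h)
  refine ⟨fun j => .ofCoeff (Finsupp.comapDomain (fun k : ℤ => (n : ℤ) * k + j) q.coeff (hinjk j).injOn), ?_, ?_⟩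
  · refine AddMonoidAlgebra.ext (Finsupp.ext fun m => ?_)
    obtain ⟨k, j, rfl⟩ := hk m
    rw [AddMonoidAlgebra.coeff_sum, Finsupp.finsetSum_apply]
    simp only [hap, Finset.sum_ite_eq', Finset.mem_univ, if_true]
    rfl
  · intro c hc
    funext j
    refine AddMonoidAlgebra.ext (Finsupp.ext fun k => ?_)
    rw [AddMonoidAlgebra.coeff_ofCoeff, Finsupp.comapDomain_apply, hc, AddMonoidAlgebra.coeff_sum,
      Finsupp.finsetSum_apply]
    simp only [hap, Finset.sum_ite_eq', Finset.mem_univ, if_true]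

end Groth.Agent.S5119
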