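import Groth.Statements.S5120
import Mathlib.Tactic.LinearCombination

set_option autoImplicit false
universe u
open SGA1t

namespace Groth.Agent.S5120

open Polynomial in
/-- The computation behind the exactness of the Artin-Schreier sequence 0 → Z/p → G_a → G_a → 0 in
characteristic p, i.e. faithful flatness of ℘ = id − F: Let p be a prime and A a ring of
characteristic p. Then A[t] is free of rank p over itself via the endomorphism t ↦ t − t^p, with
basis 1, t, …, t^{p−1}: every polynomial q can be written in exactly one way as Σ_{i<p} c_i(t − t^p)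
t^i. -/
theorem result (p : ℕ) [Fact p.Prime] (A : Type u) [CommRing A] [CharP A p]
    (q : A[X]) :
    ∃! c : Fin p → A[X], q = ∑ i : Fin p, aeval (X - X ^ p : A[X]) (c i) * X ^ (i : ℕ) := by
  have hp : 2 ≤ p := (Fact.out : p.Prime).two_le
  set f : A[X] := X - X ^ p with hf
  rcases subsingleton_or_nontrivial A with hA | hA
  · exact ⟨fun _ => 0, Subsingleton.elim _ _, fun c _ => funext fun i => Subsingleton.elim _ _⟩
  set g : A[X] := X ^ p - X with hg
  have hgm : g.Monic := monic_X_pow_sub (by rw [degree_X]; exact_mod_cast hp)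
  have hgd : g.natDegree = p := by
    rw [hg, natDegree_sub_eq_left_of_natDegree_lt] <;> simp
    omega
  have hfg : f = -g := by rw [hf, hg]; ring
  have hex : ∀ (d : ℕ) (q : A[X]), q.natDegree ≤ d → ∃ c : Fin p → A[X], q = ∑ i : Fin p, aeval f (c i) * X ^ (i : ℕ) := by
    intro d
    induction d using Nat.strong_induction_on with
    | _ d ih =>
    intro q hq
    by_cases hlt : q.natDegree < p
    · refine ⟨fun i => C (q.coeff i), ?_⟩
      rw [Fin.sum_univ_eq_sum_range fun i => aeval f (C (q.coeff i)) * X ^ i]
      conv_lhs => rw [q.as_sum_range_C_mul_X_pow' hlt]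
      simp
    push Not at hlt
    obtain ⟨c', hc'⟩ := ih (q /ₘ g).natDegree (by rw [natDegree_divByMonic _ hgm, hgd]; omega) (q /ₘ g) le_rfl
    obtain ⟨r, hr⟩ : ∃ c : Fin p → A[X], q %ₘ g = ∑ i : Fin p, aeval f (c i) * X ^ (i : ℕ) := by
      have hd' : (q %ₘ g).natDegree < p := hgd ▸ natDegree_modByMonic_lt _ hgm (fun h1 => by
        rw [h1, natDegree_one] at hgd; omega)
      refine ⟨fun i => C ((q %ₘ g).coeff i), ?_⟩
      rw [Fin.sum_univ_eq_sum_range fun i => aeval f (C ((q %ₘ g).coeff i)) * X ^ i]
      conv_lhs => rw [(q %ₘ g).as_sum_range_C_mul_X_pow' hd']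
      simp
    refine ⟨fun i => r i - X * c' i, ?_⟩
    conv_lhs => rw [← modByMonic_add_div q g, hr, hc']
    simp only [map_sub, map_mul, aeval_X, sub_mul, Finset.sum_sub_distrib, mul_assoc, ← Finset.mul_sum, hfg]
    ring
  have hun : ∀ (d : ℕ) (c : Fin p → A[X]), (∀ i, (c i).natDegree < d) →
      ∑ i : Fin p, aeval f (c i) * X ^ (i : ℕ) = 0 → c = 0 := by
    intro d
    induction d with
    | zero => intro c hc _; exact absurd (hc ⟨0, by omega⟩) (Nat.not_lt_zero _)
    | succ d ih =>
      intro c hc h0
      have hsplit : ∀ i, c i = X * (c i).divX + C ((c i).coeff 0) := fun i => (X_mul_divX_add _).symm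
      set lo : A[X] := ∑ i : Fin p, C ((c i).coeff 0) * X ^ (i : ℕ) with hlo
      set hi : A[X] := ∑ i : Fin p, aeval f (c i).divX * X ^ (i : ℕ) with hhi
      have h1 : lo = g * hi := by
        have h2 : (0 : A[X]) = f * hi + lo := by
          rw [← h0, hlo, hhi, Finset.mul_sum, ← Finset.sum_add_distrib]
          refine Finset.sum_congr rfl fun i _ => ?_
          conv_lhs => rw [hsplit i]
          simp only [map_add, map_mul, aeval_X, aeval_C, Polynomial.algebraMap_eq]
          ring
        rw [hfg] at h2; linear_combination -h2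
      have hhi0 : hi = 0 := by
        by_contra hne
        have hdeg : (g * hi).natDegree = p + hi.natDegree := by rw [hgm.natDegree_mul' hne, hgd]
        have hle : lo.natDegree ≤ p - 1 := natDegree_sum_le_of_forall_le _ _ fun i _ =>
          (natDegree_C_mul_X_pow_le _ _).trans (by omega)
        rw [h1] at hle
        omega
      have hc0 : ∀ i, (c i).coeff 0 = 0 := fun i => by
        have h3 := congrArg (fun P : A[X] => P.coeff (i : ℕ)) h1
        simpa [hhi0, hlo, coeff_C_mul, coeff_X_pow, Fin.val_inj] using h3
      have hd : (fun i => (c i).divX) = 0 := by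
        rcases Nat.eq_zero_or_pos d with rfl | hd0
        · funext i
          have := hc i
          rw [Nat.lt_one_iff] at this
          show (c i).divX = 0
          rw [Polynomial.eq_C_of_natDegree_eq_zero this, divX_C]
        · exact ih _ (fun i => by rw [natDegree_divX_eq_natDegree_tsub_one]; have := hc i; omega) hhi0
      funext i
      rw [hsplit i, show (c i).divX = 0 from congrFun hd i, hc0]
      simp
  obtain ⟨c, hc⟩ := hex _ q le_rfl
  refine ⟨c, hc, fun c' hc' => sub_eq_zero.1 (hun ((Finset.univ.sup fun i => ((c' - c) i).natDegree) + 1) _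
    (fun i => Nat.lt_succ_of_le (Finset.le_sup (f := fun i => ((c' - c) i).natDegree) (Finset.mem_univ i))) ?_)⟩
  simp only [Pi.sub_apply, map_sub, sub_mul, Finset.sum_sub_distrib]
  rw [← hc, ← hc', sub_self]

end Groth.Agent.S5120
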