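import Groth.Statements.S5121
import Groth.Agent.Lib.FEt21.Paths
import Groth.Agent.Lib.LocNoeth.Scheme
set_option backward.isDefEq.respectTransparency false

set_option autoImplicit false
universe u
open Pi1

namespace Groth.Agent.S5121

open AlgebraicGeometry CategoryTheory CategoryTheory.Limits in
open AlgebraicGeometry CategoryTheory CategoryTheory.Limits in
/-- The connected component attached to a class. -/
noncomputable def comp (T : Scheme.{u}) [IsLocallyNoetherian T] (c : ConnectedComponents T) : T.Opens :=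
  ⟨connectedComponent c.exists_rep.choose,
    haveI : LocallyConnectedSpace T := (GrothLib.LocNoeth.isLocNoeth T).locallyConnectedSpace
    _root_.isOpen_connectedComponent⟩

open AlgebraicGeometry CategoryTheory CategoryTheory.Limits in
theorem mem_comp_iff (T : Scheme.{u}) [IsLocallyNoetherian T] (c : ConnectedComponents T) (x : T) :
    x ∈ comp T c ↔ ConnectedComponents.mk x = c := by
  have h := c.exists_rep.choose_spec
  show x ∈ connectedComponent c.exists_rep.choose ↔ _
  rw [← ConnectedComponents.coe_eq_coe']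
  exact ⟨fun e => e.trans h, fun e => e.trans h.symm⟩

open AlgebraicGeometry CategoryTheory CategoryTheory.Limits in
theorem connected_comp (T : Scheme.{u}) [IsLocallyNoetherian T] (c : ConnectedComponents T) :
    ConnectedSpace (comp T c : Scheme.{u}) :=
  isConnected_iff_connectedSpace.1 isConnected_connectedComponent

open AlgebraicGeometry CategoryTheory CategoryTheory.Limits in
theorem finite_comps (T : Scheme.{u}) [IsNoetherian T] : Finite (ConnectedComponents T) := by
  haveI : LocallyConnectedSpace T := (GrothLib.LocNoeth.isLocNoeth T).locallyConnectedSpace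
  obtain ⟨t, ht⟩ := isCompact_univ.elim_finite_subcover (fun x : T => connectedComponent x)
    (fun _ => _root_.isOpen_connectedComponent) (fun x _ => Set.mem_iUnion.2 ⟨x, mem_connectedComponent⟩)
  refine Finite.of_surjective (fun x : t => ConnectedComponents.mk (x : T)) fun c => ?_
  obtain ⟨x, rfl⟩ := c.exists_rep
  obtain ⟨y, hy, hxy⟩ := Set.mem_iUnion₂.1 (ht (Set.mem_univ x))
  exact ⟨⟨y, hy⟩, (ConnectedComponents.coe_eq_coe'.2 hxy).symm⟩

open AlgebraicGeometry CategoryTheory CategoryTheory.Limits in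
/-- Equal geometric points have the same fibre functor. -/
noncomputable def fiberCongr {X : Scheme.{u}} {Ω : Type u} [Field Ω]
    {η η' : Spec (CommRingCat.of Ω) ⟶ X} (h : η = η') : FEt.fiber η ≅ FEt.fiber η' :=
  NatIso.ofComponents (fun A => Equiv.toIso
    { toFun := fun s => ⟨s.1, s.2.trans h⟩
      invFun := fun s => ⟨s.1, s.2.trans h.symm⟩
      left_inv := fun _ => rfl
      right_inv := fun _ => rfl }) (fun _ => rfl)

open AlgebraicGeometry CategoryTheory CategoryTheory.Limits in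
theorem exists_lift_comp (S' : Scheme.{u}) [IsLocallyNoetherian S'] {Ωc : ConnectedComponents S' → Type u}
    [∀ c, Field (Ωc c)] [∀ c, IsAlgClosed (Ωc c)]
    (η : ∀ c, Spec (CommRingCat.of (Ωc c)) ⟶ (comp S' c : Scheme.{u}))
    {K : Type u} [Field K] [IsAlgClosed K] (p : Spec (CommRingCat.of K) ⟶ S') :
    ∃ (c : ConnectedComponents S') (j : Spec (CommRingCat.of K) ⟶ (comp S' c : Scheme.{u}))
      (_ : j ≫ (comp S' c).ι = p), Nonempty (FEt.fiber j ≅ FEt.fiber (η c)) := by
  haveI := connected_comp S'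
  have hr : Set.range p ⊆ Set.range (comp S' (ConnectedComponents.mk (p default))).ι := by
    rw [Scheme.Opens.range_ι]
    rintro _ ⟨z, rfl⟩
    exact (mem_comp_iff _ _ _).2 (by rw [Subsingleton.elim z default])
  exact ⟨_, IsOpenImmersion.lift _ p hr, IsOpenImmersion.lift_fac _ _ _,
    GrothLib.FEt21.nonempty_path _ _⟩

open AlgebraicGeometry CategoryTheory CategoryTheory.Limits in
/-- The identification of the fibre at a geometric point through a component with the fibre at the base point. -/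
noncomputable def transport {C S : Scheme.{u}} {f : C ⟶ S} {Ω : Type u} [Field Ω]
    {ξ : Spec (CommRingCat.of Ω) ⟶ S} {Ω₁ : Type u} [Field Ω₁] {η : Spec (CommRingCat.of Ω₁) ⟶ C}
    (α : FEt.restrict f ⋙ FEt.fiber η ≅ FEt.fiber ξ) {K : Type u} [Field K]
    {j : Spec (CommRingCat.of K) ⟶ C} (β : FEt.fiber j ≅ FEt.fiber η)
    {b : Spec (CommRingCat.of K) ⟶ S} (hb : b = j ≫ f) : FEt.fiber b ≅ FEt.fiber ξ :=
  fiberCongr hb ≪≫ (GrothLib.FEt21.restrictFiberIso f j).symm ≪≫
    Functor.isoWhiskerLeft _ β ≪≫ α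

open AlgebraicGeometry CategoryTheory CategoryTheory.Limits in
theorem transport_app {C S : Scheme.{u}} {f : C ⟶ S} {Ω : Type u} [Field Ω]
    {ξ : Spec (CommRingCat.of Ω) ⟶ S} {Ω₁ : Type u} [Field Ω₁] {η : Spec (CommRingCat.of Ω₁) ⟶ C}
    (α : FEt.restrict f ⋙ FEt.fiber η ≅ FEt.fiber ξ) {K : Type u} [Field K]
    {j : Spec (CommRingCat.of K) ⟶ C} (β : FEt.fiber j ≅ FEt.fiber η)
    {b : Spec (CommRingCat.of K) ⟶ S} (hb : b = j ≫ f) (Z : FEt.Cat S) (q : FEt.fiberObj b Z) :
    (transport α β hb).hom.app Z q = α.hom.app Z (β.hom.app ((FEt.restrict f).obj Z)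
      ⟨pullback.lift q.1 j (q.2.trans hb), pullback.lift_snd _ _ _⟩) := rfl

open AlgebraicGeometry CategoryTheory CategoryTheory.Limits in
/-- Subsets of the fibre stable under the π₁ of the components glue to a clopen subset. -/
theorem exists_glue {S S' : Scheme.{u}} [IsNoetherian S'] (g : S' ⟶ S) {Ω : Type u} [Field Ω]
    {ξ : Spec (CommRingCat.of Ω) ⟶ S} (Ωc : ConnectedComponents S' → Type u) [∀ c, Field (Ωc c)]
    [∀ c, IsAlgClosed (Ωc c)] (η : ∀ c, Spec (CommRingCat.of (Ωc c)) ⟶ (comp S' c : Scheme.{u}))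
    (α : ∀ c, FEt.restrict ((comp S' c).ι ≫ g) ⋙ FEt.fiber (η c) ≅ FEt.fiber ξ)
    (Z : FEt.Cat S) (O : Set (FEt.fiberObj ξ Z))
    (hst : ∀ c (σ : FEt.piOne (comp S' c : Scheme.{u}) (η c)) s, (α c).hom.app Z s ∈ O →
      (α c).hom.app Z (σ.hom.app ((FEt.restrict ((comp S' c).ι ≫ g)).obj Z) s) ∈ O) :
    ∃ W : Set (pullback Z.hom g : Scheme.{u}), IsClopen W ∧
      ∀ {K : Type u} [Field K] [IsAlgClosed K] (c : ConnectedComponents S')
        (j : Spec (CommRingCat.of K) ⟶ (comp S' c : Scheme.{u})) (β : FEt.fiber j ≅ FEt.fiber (η c))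
        {b : Spec (CommRingCat.of K) ⟶ S} (hb : b = j ≫ (comp S' c).ι ≫ g)
        (q : FEt.fiberObj b Z) (z : Spec (CommRingCat.of K) ⟶ pullback Z.hom g),
        z ≫ pullback.fst Z.hom g = q.1 → z ≫ pullback.snd Z.hom g = j ≫ (comp S' c).ι →
          (z default ∈ W ↔ (transport (α c) β hb).hom.app Z q ∈ O) := by
  haveI := finite_comps S'
  haveI := connected_comp S'
  have hD : ∀ c : ConnectedComponents S',
      ∃ D : Set ((FEt.restrict ((comp S' c).ι ≫ g)).obj Z).left, IsClopen D ∧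
        ∀ s, s.1 default ∈ D ↔ (α c).hom.app Z s ∈ O := fun c =>
    GrothLib.FEt21.exists_clopen_of_stable (η c) _ {s | (α c).hom.app Z s ∈ O} fun σ s hs => hst c σ s hs
  choose D hDc hDs using hD
  let m := fun c : ConnectedComponents S' =>
    pullback.map Z.hom ((comp S' c).ι ≫ g) Z.hom g (𝟙 _) (comp S' c).ι (𝟙 _) (by simp) (by simp)
  haveI hm : ∀ c, IsOpenImmersion (m c) := fun c =>
    MorphismProperty.pullbackMap (P := @IsOpenImmersion) inferInstance inferInstance (by simp) (by simp)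
  have hms : ∀ c d, ConnectedComponents.mk (pullback.snd Z.hom g (m c d)) = c := fun c d => by
    rw [← mem_comp_iff]
    have e : m c ≫ pullback.snd Z.hom g = pullback.snd _ _ ≫ (comp S' c).ι := pullback.lift_snd _ _ _
    rw [← Scheme.Hom.comp_apply, e, Scheme.Hom.comp_apply]
    exact (pullback.snd Z.hom ((comp S' c).ι ≫ g) d).2
  have hmc : ∀ z, ∃ c d, m c d = z := fun z => by
    let t := GrothLib.FEt21.geomPt (pullback Z.hom g : Scheme.{u}) z
    obtain ⟨c, j, hj, -⟩ := exists_lift_comp S' η (t ≫ pullback.snd Z.hom g)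
    have e : pullback.lift (t ≫ pullback.fst _ _) j (by
        rw [← Category.assoc j, hj, Category.assoc, Category.assoc, pullback.condition]) ≫ m c = t := by
      apply pullback.hom_ext <;> simp [m, hj]
    exact ⟨c, _, (congrArg (fun f : _ ⟶ pullback Z.hom g => f default) e).trans
      (GrothLib.FEt21.geomPt_default _ z)⟩
  let W : Set (pullback Z.hom g : Scheme.{u}) := ⋃ c, m c '' D c
  have hWm : ∀ c d, m c d ∈ W ↔ d ∈ D c := fun c d => by
    refine ⟨fun hd => ?_, fun hd => Set.mem_iUnion.2 ⟨c, d, hd, rfl⟩⟩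
    obtain ⟨c', d', hd', e'⟩ := Set.mem_iUnion.1 hd
    obtain rfl : c' = c := by rw [← hms c d, ← hms c' d', e']
    exact (m c').isOpenEmbedding.injective e' ▸ hd'
  have hW : IsClopen W := by
    refine ⟨?_, isOpen_iUnion fun c => (m c).isOpenMap _ (hDc c).2⟩
    have : Wᶜ = ⋃ c, m c '' (D c)ᶜ := by
      ext z
      obtain ⟨c, d, rfl⟩ := hmc z
      rw [Set.mem_compl_iff, hWm]
      refine ⟨fun hd => Set.mem_iUnion.2 ⟨c, d, hd, rfl⟩, fun hd => ?_⟩
      obtain ⟨c', d', hd', e'⟩ := Set.mem_iUnion.1 hd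
      obtain rfl : c' = c := by rw [← hms c d, ← hms c' d', e']
      exact (m c').isOpenEmbedding.injective e' ▸ hd'
    rw [← isOpen_compl_iff, this]
    exact isOpen_iUnion fun c => (m c).isOpenMap _ (hDc c).1.isOpen_compl
  refine ⟨W, hW, fun {K} _ _ c j β {b} hb q z hz₁ hz₂ => ?_⟩
  rw [transport_app, ← hDs, GrothLib.FEt21.mem_clopen_iff (η c) β (hDc c)]
  have e : pullback.lift q.1 j (q.2.trans hb) ≫ m c = z := by
    apply pullback.hom_ext <;> simp [m, hz₁, hz₂]
  rw [← e]
  exact hWm c _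

open AlgebraicGeometry CategoryTheory CategoryTheory.Limits in
/-- A clopen subset whose two pullbacks agree at one point of each component is saturated. -/
theorem saturated_of_agree {S S' : Scheme.{u}} (g : S' ⟶ S) [IsLocallyNoetherian (pullback g g : Scheme.{u})]
    (Z : FEt.Cat S) {W : Set (pullback Z.hom g : Scheme.{u})} (hW : IsClopen W)
    (Ωe : ConnectedComponents (pullback g g : Scheme.{u}) → Type u) [∀ w, Field (Ωe w)]
    [∀ w, IsAlgClosed (Ωe w)]
    (e : ∀ w, Spec (CommRingCat.of (Ωe w)) ⟶ (comp (pullback g g) w : Scheme.{u}))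
    (hag : ∀ w (q : FEt.fiberObj ((e w ≫ (comp (pullback g g) w).ι ≫ pullback.fst g g) ≫ g) Z)
      (z₁ z₂ : Spec (CommRingCat.of (Ωe w)) ⟶ pullback Z.hom g),
      z₁ ≫ pullback.fst Z.hom g = q.1 → z₁ ≫ pullback.snd Z.hom g = e w ≫ (comp (pullback g g) w).ι ≫ pullback.fst g g →
      z₂ ≫ pullback.fst Z.hom g = q.1 → z₂ ≫ pullback.snd Z.hom g = e w ≫ (comp (pullback g g) w).ι ≫ pullback.snd g g →
        (z₁ default ∈ W ↔ z₂ default ∈ W))
    {z z' : (pullback Z.hom g : Scheme.{u})}
    (hzz' : pullback.fst Z.hom g z = pullback.fst Z.hom g z') (hz : z ∈ W) : z' ∈ W := by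
  haveI := connected_comp (pullback g g)
  obtain ⟨v, hv, hv'⟩ := Scheme.Pullback.exists_preimage_pullback z z' hzz'
  let t := GrothLib.FEt21.geomPt
    (pullback (pullback.fst Z.hom g) (pullback.fst Z.hom g) : Scheme.{u}) v
  let u₀ := pullback.lift (f := g) (g := g) (t ≫ pullback.fst _ _ ≫ pullback.snd Z.hom g)
    (t ≫ pullback.snd _ _ ≫ pullback.snd Z.hom g) (by
      simp only [Category.assoc, ← pullback.condition (f := Z.hom)]
      rw [pullback.condition_assoc])
  let w := ConnectedComponents.mk (u₀ default)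
  let j := IsOpenImmersion.lift (comp (pullback g g) w).ι u₀ (by
    rw [Scheme.Opens.range_ι]
    rintro _ ⟨a, rfl⟩
    exact (mem_comp_iff _ _ _).2 (by rw [Subsingleton.elim a default]))
  let A := (FEt.restrict ((comp (pullback g g) w).ι ≫ pullback.fst g g ≫ g)).obj Z
  let n₁ : A.left ⟶ pullback Z.hom g := pullback.lift (pullback.fst _ _)
    (pullback.snd _ _ ≫ (comp (pullback g g) w).ι ≫ pullback.fst g g)
    (by simp only [Category.assoc]; exact pullback.condition)
  let n₂ : A.left ⟶ pullback Z.hom g := pullback.lift (pullback.fst _ _)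
    (pullback.snd _ _ ≫ (comp (pullback g g) w).ι ≫ pullback.snd g g)
    (by simp only [Category.assoc, ← pullback.condition (f := g)]; exact pullback.condition)
  let d : Spec (CommRingCat.of _) ⟶ A.left := pullback.lift
    (t ≫ pullback.fst _ _ ≫ pullback.fst Z.hom g) j (by
      rw [← Category.assoc j, IsOpenImmersion.lift_fac]
      simp [u₀, pullback.condition])
  have hd₁ : d ≫ n₁ = t ≫ pullback.fst _ _ := by
    apply pullback.hom_ext <;> simp [d, n₁, j, u₀]
  have hd₂ : d ≫ n₂ = t ≫ pullback.snd _ _ := by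
    apply pullback.hom_ext <;> simp [d, n₂, j, u₀, pullback.condition]
  have key : n₁ ⁻¹' W = n₂ ⁻¹' W := by
    refine GrothLib.FEt21.clopen_eq_of_fiber (e w) (hW.preimage n₁.continuous)
      (hW.preimage n₂.continuous) fun s => ?_
    let q : FEt.fiberObj ((e w ≫ (comp (pullback g g) w).ι ≫ pullback.fst g g) ≫ g) Z :=
      ⟨s.1 ≫ pullback.fst _ _, by
        have := congrArg (· ≫ (comp (pullback g g) w).ι ≫ pullback.fst g g ≫ g) s.2
        simp only [Category.assoc] at this ⊢
        rw [← this]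
        exact congrArg (s.1 ≫ ·) pullback.condition⟩
    refine hag w q (s.1 ≫ n₁) (s.1 ≫ n₂) ?_ ?_ ?_ ?_
    · simp [n₁, q]
    · simp only [n₁, Category.assoc, pullback.lift_snd]
      exact (Category.assoc _ _ _).symm.trans (congrArg (· ≫ _) s.2)
    · simp [n₂, q]
    · simp only [n₂, Category.assoc, pullback.lift_snd]
      exact (Category.assoc _ _ _).symm.trans (congrArg (· ≫ _) s.2)
  have hz1 : n₁ (d default) = z := by
    rw [← Scheme.Hom.comp_apply, hd₁, Scheme.Hom.comp_apply, GrothLib.FEt21.geomPt_default, hv]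
  have hz2 : n₂ (d default) = z' := by
    rw [← Scheme.Hom.comp_apply, hd₂, Scheme.Hom.comp_apply, GrothLib.FEt21.geomPt_default, hv']
  rw [← hz1] at hz
  rw [← hz2]
  exact key.subset hz

open AlgebraicGeometry CategoryTheory CategoryTheory.Limits in
/-- Images of topological generators control the action of the whole π₁. -/
theorem stable_of_gen {S C : Scheme.{u}} {f : C ⟶ S} {Ω : Type u} [Field Ω] [IsAlgClosed Ω]
    {ξ : Spec (CommRingCat.of Ω) ⟶ S} {Ω₁ : Type u} [Field Ω₁] [IsAlgClosed Ω₁]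
    {η : Spec (CommRingCat.of Ω₁) ⟶ C} (α : FEt.restrict f ⋙ FEt.fiber η ≅ FEt.fiber ξ)
    {Fc : Set (FEt.piOne C η)} (hFc : PiSp.TopGenerates Fc) {G : Set (FEt.piOne S ξ)}
    (hsub : GrothLib.FEt21.pushHom ξ α '' Fc ⊆ G) (Z : FEt.Cat S) (O : Set (FEt.fiberObj ξ Z))
    (hO : ∀ τ ∈ Subgroup.closure G, ∀ q, q ∈ O → τ.hom.app Z q ∈ O)
    (σ : FEt.piOne C η) (s : FEt.fiberObj η ((FEt.restrict f).obj Z)) (hs : α.hom.app Z s ∈ O) :
    α.hom.app Z (σ.hom.app ((FEt.restrict f).obj Z) s) ∈ O := by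
  obtain ⟨τ, hτ, hτs⟩ := GrothLib.FEt21.exists_mem_agree η hFc σ ((FEt.restrict f).obj Z)
  rw [← hτs, ← GrothLib.FEt21.pushHom_app]
  refine hO _ ?_ _ hs
  have h1 : GrothLib.FEt21.pushHom ξ α τ ∈ (Subgroup.closure Fc).map (GrothLib.FEt21.pushHom ξ α) :=
    Subgroup.mem_map_of_mem _ hτ
  rw [MonoidHom.map_closure] at h1
  exact Subgroup.closure_mono hsub h1

open AlgebraicGeometry CategoryTheory CategoryTheory.Limits in

/-- For a proper surjective morphism onto a Noetherian base. Let S be a connected Noetherian scheme and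
g : S' ⟶ S proper and surjective (so g is an effective descent morphism for finite etale covers, and
S', S' ×_S S', S' ×_S S' ×_S S' have finitely many connected components). Suppose that for every
connected open and closed subscheme C of S' and every geometric point η of C the fundamental group
π₁(C, η) is topologically finitely generated. Then for every geometric point ξ of S the fundamental
group π₁(S, ξ) is topologically finitely generated. -/
theorem result {S S' : Scheme.{u}} [IsNoetherian S]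
    [ConnectedSpace S] (g : S' ⟶ S) [IsProper g] [Surjective g]
    (hfg : ∀ (C : S'.Opens), IsClosed (C : Set S') → ConnectedSpace C →
      ∀ (Ω : Type u) [Field Ω] [IsAlgClosed Ω] (η : Spec (CommRingCat.of Ω) ⟶ (C : Scheme.{u})),
        ∃ F : Finset (FEt.piOne (C : Scheme.{u}) η), PiSp.TopGenerates (F : Set (FEt.piOne (C : Scheme.{u}) η)))
    {Ω : Type u} [Field Ω] [IsAlgClosed Ω] (ξ : Spec (CommRingCat.of Ω) ⟶ S) :
    ∃ F : Finset (FEt.piOne S ξ), PiSp.TopGenerates (F : Set (FEt.piOne S ξ)) := by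
  classical
  haveI : IsNoetherian S' :=
    { toIsLocallyNoetherian := LocallyOfFiniteType.isLocallyNoetherian g
      toCompactSpace := QuasiCompact.compactSpace_of_compactSpace g }
  haveI : IsLocallyNoetherian (pullback g g) :=
    LocallyOfFiniteType.isLocallyNoetherian (pullback.fst g g ≫ g)
  haveI : IsNoetherian (pullback g g) :=
    { toCompactSpace := QuasiCompact.compactSpace_of_compactSpace (pullback.fst g g ≫ g) }
  haveI := finite_comps S'
  haveI := finite_comps (pullback g g)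
  haveI := connected_comp S'
  haveI := connected_comp (pullback g g)
  -- the base points and paths of the components
  let η := fun c : ConnectedComponents S' => GrothLib.FEt21.geomPt (comp S' c : Scheme.{u})
    (Classical.arbitrary _)
  have hα : ∀ c : ConnectedComponents S', Nonempty
      (FEt.restrict ((comp S' c).ι ≫ g) ⋙ FEt.fiber (η c) ≅ FEt.fiber ξ) := fun c => by
    obtain ⟨γ⟩ := GrothLib.FEt21.nonempty_path ξ (η c ≫ (comp S' c).ι ≫ g)
    exact ⟨GrothLib.FEt21.restrictFiberIso _ _ ≪≫ γ⟩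
  let α := fun c => (hα c).some
  choose Fc hFc using fun c : ConnectedComponents S' =>
    hfg (comp S' c) (by exact isClosed_connectedComponent) (connected_comp S' c) _ (η c)
  -- the base points of the components of the double product
  let e := fun w : ConnectedComponents (pullback g g : Scheme.{u}) =>
    GrothLib.FEt21.geomPt (comp (pullback g g) w : Scheme.{u}) (Classical.arbitrary _)
  let e₁ := fun w => e w ≫ (comp (pullback g g) w).ι ≫ pullback.fst g g
  let e₂ := fun w => e w ≫ (comp (pullback g g) w).ι ≫ pullback.snd g g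
  have hcomm : ∀ w, e₂ w ≫ g = e₁ w ≫ g := fun w => by
    simp only [e₁, e₂, Category.assoc, pullback.condition]
  choose c₁ j₁ hj₁ hβ₁ using fun w => exists_lift_comp S' η (e₁ w)
  choose c₂ j₂ hj₂ hβ₂ using fun w => exists_lift_comp S' η (e₂ w)
  have hb₁ : ∀ w, e₁ w ≫ g = j₁ w ≫ (comp S' (c₁ w)).ι ≫ g := fun w => by
    rw [← Category.assoc, hj₁]
  have hb₂ : ∀ w, e₁ w ≫ g = j₂ w ≫ (comp S' (c₂ w)).ι ≫ g := fun w => by
    rw [← Category.assoc, hj₂, hcomm]
  let L₁ := fun w => transport (α (c₁ w)) (hβ₁ w).some (hb₁ w)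
  let L₂ := fun w => transport (α (c₂ w)) (hβ₂ w).some (hb₂ w)
  let h : ConnectedComponents (pullback g g : Scheme.{u}) → FEt.piOne S ξ :=
    fun w => (L₁ w).symm ≪≫ L₂ w
  let G : Set (FEt.piOne S ξ) :=
    (⋃ c, GrothLib.FEt21.pushHom ξ (α c) '' (Fc c : Set _)) ∪ Set.range h
  have hG : G.Finite :=
    (Set.finite_iUnion fun c => (Fc c).finite_toSet.image _).union (Set.finite_range h)
  refine ⟨hG.toFinset, ?_⟩
  rw [hG.coe_toFinset]
  refine GrothLib.FEt21.topGenerates_of_transitive ξ G fun Z y₀ hZ y => ?_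
  -- the orbit
  let O : Set (FEt.fiberObj ξ Z) := {q | ∃ τ ∈ Subgroup.closure G, τ.hom.app Z y₀ = q}
  have hO : ∀ τ ∈ Subgroup.closure G, ∀ q, q ∈ O → τ.hom.app Z q ∈ O := by
    rintro τ hτ _ ⟨τ', hτ', rfl⟩
    exact ⟨τ * τ', mul_mem hτ hτ', rfl⟩
  show y ∈ O
  -- the glued clopen subset
  obtain ⟨W, hW, hWpt⟩ := exists_glue g _ η α Z O fun c =>
    stable_of_gen (α c) (hFc c) ((Set.subset_iUnion
      (fun c => GrothLib.FEt21.pushHom ξ (α c) '' (Fc c : Set _)) c).trans Set.subset_union_left) Z O hO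
  have hsat : ∀ z z', pullback.fst Z.hom g z = pullback.fst Z.hom g z' → z ∈ W → z' ∈ W := by
    intro z z' hzz' hz
    refine saturated_of_agree g Z hW _ e (fun w q z₁ z₂ h11 h12 h21 h22 => ?_) hzz' hz
    rw [hWpt (c₁ w) (j₁ w) (hβ₁ w).some (hb₁ w) q z₁ h11 (h12.trans (hj₁ w).symm),
      hWpt (c₂ w) (j₂ w) (hβ₂ w).some (hb₂ w) q z₂ h21 (h22.trans (hj₂ w).symm)]
    have hh : h w ∈ Subgroup.closure G := Subgroup.subset_closure (Or.inr ⟨w, rfl⟩)
    have hq : (h w).hom.app Z ((L₁ w).hom.app Z q) = (L₂ w).hom.app Z q :=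
      congrArg ((L₂ w).hom.app Z) congr($((L₁ w).hom_inv_id_app Z) q)
    have hq' : (h w)⁻¹.hom.app Z ((L₂ w).hom.app Z q) = (L₁ w).hom.app Z q :=
      congrArg ((L₁ w).hom.app Z) congr($((L₂ w).hom_inv_id_app Z) q)
    exact ⟨fun hq1 => hq ▸ hO _ hh _ hq1, fun hq2 => hq' ▸ hO _ (inv_mem hh) _ hq2⟩
  let V : Set Z.left := pullback.fst Z.hom g '' W
  haveI : UniversallyClosed (pullback.fst Z.hom g) := MorphismProperty.pullback_fst _ _ inferInstance
  have hVclopen : IsClopen V := by
    refine ⟨(pullback.fst Z.hom g).isClosedMap _ hW.1, ?_⟩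
    have : Vᶜ = pullback.fst Z.hom g '' Wᶜ := by
      ext x
      obtain ⟨z, rfl⟩ := (pullback.fst Z.hom g).surjective x
      exact ⟨fun hz => ⟨z, fun hzW => hz ⟨z, hzW, rfl⟩, rfl⟩,
        fun ⟨a, ha, hax⟩ ⟨b, hb, hbx⟩ => ha (hsat b a (hbx.trans hax.symm) hb)⟩
    rw [← isClosed_compl_iff, this]
    exact (pullback.fst Z.hom g).isClosedMap _ hW.2.isClosed_compl
  -- compare with the orbit in the fibre at `ξ`
  obtain ⟨x₀⟩ := ConnectedSpace.toNonempty (α := S)
  obtain ⟨x', -⟩ := g.surjective x₀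
  let c := ConnectedComponents.mk x'
  obtain ⟨β⟩ := GrothLib.FEt21.nonempty_path (η c) (η c)
  let γ := transport (α c) β (b := η c ≫ (comp S' c).ι ≫ g) rfl
  have key : ∀ q : FEt.fiberObj ξ Z, q.1 default ∈ V ↔ q ∈ O := fun q => by
    obtain ⟨s, hs⟩ : ∃ s, γ.hom.app Z s = q := ⟨γ.inv.app Z q, congr($(γ.inv_hom_id_app Z) q)⟩
    let z := pullback.lift (f := Z.hom) (g := g) s.1 (η c ≫ (comp S' c).ι)
      (by rw [s.2, Category.assoc])
    rw [← hs, GrothLib.FEt21.mem_clopen_iff ξ γ hVclopen,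
      ← hWpt c (η c) β rfl s z (pullback.lift_fst _ _ _) (pullback.lift_snd _ _ _)]
    have e : s.1 default = pullback.fst Z.hom g (z default) := by
      rw [← Scheme.Hom.comp_apply, pullback.lift_fst]
      rfl
    rw [e]
    exact ⟨fun ⟨a, ha, hax⟩ => hsat a _ hax ha, fun hz => ⟨_, hz, rfl⟩⟩
  have hy₀ : y₀.1 default ∈ V := (key y₀).2 ⟨1, one_mem _, rfl⟩
  obtain ⟨σ, rfl⟩ := hZ y
  exact (key _).1 ((GrothLib.FEt21.mem_clopen_iff ξ σ hVclopen y₀).2 hy₀)

end Groth.Agent.S5121
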