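import Groth.Statements.S5122
import Groth.Agent.Lib.EtDescent21.Fpqc

set_option autoImplicit false
universe u
open SGA1

namespace Groth.Agent.S5122

open AlgebraicGeometry CategoryTheory CategoryTheory.Limits in
/-- Let g : S' ⟶ S be universally submersive, D a descent datum relative to g (functor-of-points form,
for the one-member family g) whose underlying S'-scheme is etale, separated and of finite type over
S', and p : S₁ ⟶ S faithfully flat and quasi-compact. Then D is effective in the fibred category of
etale separated finite-type schemes (isomorphic to the canonical datum of some etale, separated,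
quasi-compact S-scheme) if and only if the descent datum obtained by base change along p, relative
to S' ×_S S₁ ⟶ S₁, is effective in the same sense over S₁. -/
theorem result {S S' S₁ : Scheme.{u}} (g : S' ⟶ S) (hg : SGA1.UnivSubmersive g)
    (D : Desc.SchDDFam (fun _ : PUnit.{1} => g))
    [Etale (D.obj PUnit.unit).hom] [IsSeparated (D.obj PUnit.unit).hom] [QuasiCompact (D.obj PUnit.unit).hom]
    (p : S₁ ⟶ S) [Flat p] [Surjective p] [QuasiCompact p] :
    (∃ U : Over S, Etale U.hom ∧ IsSeparated U.hom ∧ QuasiCompact U.hom ∧ Nonempty ((Desc.toDDFam (fun _ : PUnit.{1} => g)).obj U ≅ D)) ↔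
      (∃ U : Over S₁, Etale U.hom ∧ IsSeparated U.hom ∧ QuasiCompact U.hom ∧
        Nonempty ((Desc.toDDFam (fun _ : PUnit.{1} => pullback.snd g p)).obj U ≅
          (Desc.pullDDFam (f := fun _ : PUnit.{1} => g) (f' := fun _ : PUnit.{1} => pullback.snd g p)
        (α := id) (p := p) (p' := fun _ => pullback.fst g p) (fun _ => pullback.condition)).obj D)) := by
  rw [GrothLib.EtDescent21.effEtS_lift_iff, GrothLib.EtDescent21.effEtS_iff_etSRep_id hg,
    GrothLib.EtDescent21.etSRep_fpqc_iff p]
  exact (GrothLib.EtDescent21.effEtS_pull_lift_iff (IsPullback.of_hasPullback g p) hg D _).symm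

end Groth.Agent.S5122
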