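import Groth.Statements.S5126
import Groth.Agent.Lib.EtDescent21.Spread
import Groth.Agent.Lib.EtDescent21.Descend
import Groth.Agent.Lib.EtDescent21.Complete

set_option autoImplicit false
universe u
open SGA1

namespace Groth.Agent.S5126

open AlgebraicGeometry CategoryTheory CategoryTheory.Limits in
open AlgebraicGeometry CategoryTheory CategoryTheory.Limits in
open GrothLib.EtDescent21 in
theorem aux {S S' : Scheme.{u}} [IsLocallyNoetherian S] (g : S' ⟶ S) (hg : SGA1.UnivSubmersive g)
    [LocallyOfFinitePresentation g] [QuasiCompact g] [QuasiSeparated g]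
    (D : Desc.SchDDFam (fun _ : PUnit.{1} => g)) [Etale (D.obj PUnit.unit).hom]
    [QuasiCompact (D.obj PUnit.unit).hom] [IsSeparated (D.obj PUnit.unit).hom]
    (h : ∀ a : S, EtRep (lift D) (Spec.map (CommRingCat.ofHom (algebraMap (S.presheaf.stalk a)
          (AdicCompletion (IsLocalRing.maximalIdeal (S.presheaf.stalk a)) (S.presheaf.stalk a)))) ≫ S.fromSpecStalk a)) :
    EtRep (lift D) (𝟙 S) := by
  haveI : Etale (obj₀ (lift D)).hom := ‹Etale (D.obj PUnit.unit).hom›
  haveI : QuasiCompact (obj₀ (lift D)).hom := ‹QuasiCompact (D.obj PUnit.unit).hom›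
  haveI : IsSeparated (obj₀ (lift D)).hom := ‹IsSeparated (D.obj PUnit.unit).hom›
  choose W haW hW using fun a => exists_etRep_nhd (D := lift D) (a := a) hg (by
    obtain ⟨h₁, h₂, h₃⟩ := completion_map (S.presheaf.stalk a)
    haveI := h₁; haveI := h₂; haveI := h₃
    exact (etSRep_of_fpqc' (D := lift D) _ (etSRep_of_etRep hg (h a))).etRep)
  exact etRep_id_of_openCover W
    (TopologicalSpace.IsOpenCover.mk (eq_top_iff.mpr fun z _ => TopologicalSpace.Opens.mem_iSup.mpr ⟨z, haW z⟩)) hW

open AlgebraicGeometry CategoryTheory CategoryTheory.Limits in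

/-- Let S be locally Noetherian, g : S' ⟶ S universally submersive and of finite presentation, and D a
descent datum relative to g (functor-of-points form, for the one-member family g) whose underlying
S'-scheme is etale, separated and of finite presentation over S'. Then D is the canonical datum of
some etale S-scheme if and only if for every point a of S the descent datum induced over the
spectrum of the adic completion Ô of the local ring O_{S,a} (mapping to S through Spec O_{S,a}) is
the canonical datum of some etale Ô-scheme. -/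
theorem result {S S' : Scheme.{u}} [IsLocallyNoetherian S] (g : S' ⟶ S)
    (hg : SGA1.UnivSubmersive g) [LocallyOfFinitePresentation g] [QuasiCompact g] [QuasiSeparated g]
    (D : Desc.SchDDFam (fun _ : PUnit.{1} => g)) [Etale (D.obj PUnit.unit).hom]
    [QuasiCompact (D.obj PUnit.unit).hom] [IsSeparated (D.obj PUnit.unit).hom] :
    (∃ U : Over S, Etale U.hom ∧ Nonempty ((Desc.toDDFam (fun _ : PUnit.{1} => g)).obj U ≅ D)) ↔ ∀ a : S,
      (∃ U : Over (Spec (CommRingCat.of (AdicCompletion (IsLocalRing.maximalIdeal (S.presheaf.stalk a)) (S.presheaf.stalk a)))), Etale U.hom ∧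
        Nonempty ((Desc.toDDFam (fun _ : PUnit.{1} => pullback.snd g (Spec.map (CommRingCat.ofHom (algebraMap (S.presheaf.stalk a)
          (AdicCompletion (IsLocalRing.maximalIdeal (S.presheaf.stalk a)) (S.presheaf.stalk a)))) ≫ S.fromSpecStalk a))).obj U ≅
          (Desc.pullDDFam (f := fun _ : PUnit.{1} => g) (f' := fun _ : PUnit.{1} => pullback.snd g (Spec.map (CommRingCat.ofHom (algebraMap (S.presheaf.stalk a)
          (AdicCompletion (IsLocalRing.maximalIdeal (S.presheaf.stalk a)) (S.presheaf.stalk a)))) ≫ S.fromSpecStalk a))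
        (α := id) (p := (Spec.map (CommRingCat.ofHom (algebraMap (S.presheaf.stalk a)
          (AdicCompletion (IsLocalRing.maximalIdeal (S.presheaf.stalk a)) (S.presheaf.stalk a)))) ≫ S.fromSpecStalk a)) (p' := fun _ => pullback.fst g (Spec.map (CommRingCat.ofHom (algebraMap (S.presheaf.stalk a)
          (AdicCompletion (IsLocalRing.maximalIdeal (S.presheaf.stalk a)) (S.presheaf.stalk a)))) ≫ S.fromSpecStalk a)) (fun _ => pullback.condition)).obj D)) := by
  rw [GrothLib.EtDescent21.effEt_lift_iff, GrothLib.EtDescent21.effEt_iff_etRep_id hg]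
  constructor
  · intro h a
    refine (GrothLib.EtDescent21.effEt_pull_lift_iff (IsPullback.of_hasPullback g _) hg D _).2 ?_
    have := GrothLib.EtDescent21.etRep_comp (Spec.map (CommRingCat.ofHom (algebraMap (S.presheaf.stalk a)
      (AdicCompletion (IsLocalRing.maximalIdeal (S.presheaf.stalk a)) (S.presheaf.stalk a)))) ≫ S.fromSpecStalk a) h
    rwa [Category.comp_id] at this
  · intro h
    exact aux g hg D fun a =>
      (GrothLib.EtDescent21.effEt_pull_lift_iff (IsPullback.of_hasPullback g _) hg D _).1 (h a)

end Groth.Agent.S5126
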