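import Groth.Statements.S5127
import Groth.Agent.Lib.EtDescent21.Spread
import Groth.Agent.Lib.EtDescent21.Descend
import Groth.Agent.Lib.EtDescent21.Complete

set_option autoImplicit false
universe u
open SGA1

namespace Groth.Agent.S5127

open AlgebraicGeometry CategoryTheory CategoryTheory.Limits in
open AlgebraicGeometry CategoryTheory CategoryTheory.Limits in
open GrothLib.EtDescent21 in
theorem aux {S S' : Scheme.{u}} [IsLocallyNoetherian S] (g : S' ⟶ S) (hg : SGA1.UnivSubmersive g)
    [LocallyOfFinitePresentation g] [QuasiCompact g] [QuasiSeparated g]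
    (D : Desc.SchDDFam (fun _ : PUnit.{1} => g)) [Etale (D.obj PUnit.unit).hom]
    [QuasiCompact (D.obj PUnit.unit).hom] [IsSeparated (D.obj PUnit.unit).hom]
    (h : ∀ (B : Type u) [CommRing B] [IsNoetherianRing B] [IsLocalRing B]
      [IsAdicComplete (IsLocalRing.maximalIdeal B) B] [IsAlgClosed (IsLocalRing.ResidueField B)]
      (q : Spec (CommRingCat.of B) ⟶ S), EtRep (lift D) q) :
    EtRep (lift D) (𝟙 S) := by
  haveI : Etale (obj₀ (lift D)).hom := ‹Etale (D.obj PUnit.unit).hom›
  haveI : QuasiCompact (obj₀ (lift D)).hom := ‹QuasiCompact (D.obj PUnit.unit).hom›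
  haveI : IsSeparated (obj₀ (lift D)).hom := ‹IsSeparated (D.obj PUnit.unit).hom›
  choose W haW hW using fun a => exists_etRep_nhd (D := lift D) (a := a) hg (by
    obtain ⟨B, _, _, _, _, _, φ, hF, hL⟩ := exists_complete_algClosed (S.presheaf.stalk a)
    haveI := hL
    obtain ⟨h₁, h₂, h₃⟩ := spec_map_flat_surjective φ hF
    haveI := h₁; haveI := h₂; haveI := h₃
    exact (etSRep_of_fpqc' (D := lift D) (Spec.map (CommRingCat.ofHom φ))
      (etSRep_of_etRep hg (h B (Spec.map (CommRingCat.ofHom φ) ≫ S.fromSpecStalk a)))).etRep)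
  exact etRep_id_of_openCover W
    (TopologicalSpace.IsOpenCover.mk (eq_top_iff.mpr fun z _ => TopologicalSpace.Opens.mem_iSup.mpr ⟨z, haW z⟩)) hW

open AlgebraicGeometry CategoryTheory CategoryTheory.Limits in

/-- Let S be locally Noetherian, g : S' ⟶ S universally submersive and of finite presentation, and D a
descent datum relative to g (functor-of-points form, for the one-member family g) whose underlying
S'-scheme is etale, separated and of finite presentation over S'. Then D is the canonical datum of
some etale S-scheme if and only if, for every complete Noetherian local ring B with algebraically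
closed residue field and every morphism q : Spec B ⟶ S, the descent datum induced over Spec B
(relative to S' ×_S Spec B ⟶ Spec B) is the canonical datum of some etale B-scheme. -/
theorem result {S S' : Scheme.{u}} [IsLocallyNoetherian S]
    (g : S' ⟶ S) (hg : SGA1.UnivSubmersive g) [LocallyOfFinitePresentation g] [QuasiCompact g] [QuasiSeparated g]
    (D : Desc.SchDDFam (fun _ : PUnit.{1} => g)) [Etale (D.obj PUnit.unit).hom]
    [QuasiCompact (D.obj PUnit.unit).hom] [IsSeparated (D.obj PUnit.unit).hom] :
    (∃ U : Over S, Etale U.hom ∧ Nonempty ((Desc.toDDFam (fun _ : PUnit.{1} => g)).obj U ≅ D)) ↔ ∀ (B : Type u) [CommRing B] [IsNoetherianRing B] [IsLocalRing B]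
      [IsAdicComplete (IsLocalRing.maximalIdeal B) B] [IsAlgClosed (IsLocalRing.ResidueField B)]
      (q : Spec (CommRingCat.of B) ⟶ S), (∃ U : Over (Spec (CommRingCat.of B)), Etale U.hom ∧
        Nonempty ((Desc.toDDFam (fun _ : PUnit.{1} => pullback.snd g q)).obj U ≅
          (Desc.pullDDFam (f := fun _ : PUnit.{1} => g) (f' := fun _ : PUnit.{1} => pullback.snd g q)
        (α := id) (p := q) (p' := fun _ => pullback.fst g q) (fun _ => pullback.condition)).obj D)) := by
  rw [GrothLib.EtDescent21.effEt_lift_iff, GrothLib.EtDescent21.effEt_iff_etRep_id hg]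
  constructor
  · intro h B _ _ _ _ _ q
    refine (GrothLib.EtDescent21.effEt_pull_lift_iff (IsPullback.of_hasPullback g q) hg D _).2 ?_
    exact Category.comp_id q ▸ GrothLib.EtDescent21.etRep_comp q h
  · intro h
    exact aux g hg D fun B _ _ _ _ _ q =>
      (GrothLib.EtDescent21.effEt_pull_lift_iff (IsPullback.of_hasPullback g q) hg D _).1 (h B q)

end Groth.Agent.S5127
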