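import Groth.Statements.S5128
import Groth.Agent.Lib.SGA1Quot21.Free

set_option autoImplicit false
universe u
open SGA1

namespace Groth.Agent.S5128

open AlgebraicGeometry CategoryTheory CategoryTheory.Limits in
/-- Let X and Y be S-schemes with Y etale over S. The map f ↦ Γ_f sending an S-morphism f : X ⟶ Y to the
subset of X ×_S Y underlying its graph is a bijection from Hom_S(X, Y) onto the set of open subsets
Γ of X ×_S Y for which the restriction Γ → X of the first projection is radicial (universally
injective) and surjective. Stated as: the graph of every S-morphism is an open immersion, and every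
such open Γ is the image of the graph of exactly one S-morphism. -/
theorem result {S X Y : Scheme.{u}} (p : X ⟶ S)
    (q : Y ⟶ S) [Etale q] :
    (∀ f : {f : X ⟶ Y // f ≫ q = p},
      IsOpenImmersion (pullback.lift (𝟙 X) f.1 ((Category.id_comp p).trans f.2.symm) : X ⟶ pullback p q)) ∧
    ∀ Γ : (pullback p q).Opens, UniversallyInjective (Γ.ι ≫ pullback.fst p q) → Surjective (Γ.ι ≫ pullback.fst p q) →
      ∃! f : {f : X ⟶ Y // f ≫ q = p},
        Set.range (pullback.lift (𝟙 X) f.1 ((Category.id_comp p).trans f.2.symm) : X ⟶ pullback p q).base =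
          (Γ : Set ↥(pullback p q)) := by
  have hopen : ∀ (Z : Scheme.{u}) (π : Z ⟶ X) (_ : Etale π) (s : X ⟶ Z), s ≫ π = 𝟙 X → IsOpenImmersion s :=
    fun Z π _ s hs => by
      haveI : IsSplitMono s := IsSplitMono.mk' ⟨π, hs⟩
      haveI : Etale (s ≫ π) := by rw [hs]; infer_instance
      haveI : Etale s := Etale.of_comp s π
      exact IsOpenImmersion.of_flat_of_mono s
  have hgraph := fun f : {f : X ⟶ Y // f ≫ q = p} => hopen _ (pullback.fst p q) inferInstance
    (pullback.lift (𝟙 X) f.1 ((Category.id_comp p).trans f.2.symm)) (pullback.lift_fst _ _ _)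
  refine ⟨hgraph, fun Γ hinj hsurj => ?_⟩
  let π : Γ.toScheme ⟶ X := Γ.ι ≫ pullback.fst p q
  haveI : Etale π := inferInstance
  haveI : IsOpenImmersion π := by
    haveI := hinj
    haveI : Surjective (pullback.diagonal π) := (UniversallyInjective.iff_diagonal π).1 hinj
    haveI : IsIso (pullback.diagonal π) :=
      isIso_of_isOpenImmersion_of_opensRange_eq_top _ (TopologicalSpace.Opens.ext
        (Set.range_eq_univ.2 (pullback.diagonal π).surjective))
    haveI : Mono π := (pullback.isIso_diagonal_iff π).1 ‹_›
    exact IsOpenImmersion.of_flat_of_mono π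
  haveI : IsIso π := isIso_of_isOpenImmersion_of_opensRange_eq_top _ (TopologicalSpace.Opens.ext
        (Set.range_eq_univ.2 hsurj.surj))
  have hw : (inv π ≫ Γ.ι ≫ pullback.snd p q) ≫ q = p := by
    simp only [Category.assoc, ← pullback.condition]
    rw [← Category.assoc Γ.ι]
    exact IsIso.inv_hom_id_assoc π p
  have hlift : pullback.lift (𝟙 X) (inv π ≫ Γ.ι ≫ pullback.snd p q) ((Category.id_comp p).trans hw.symm) =
      inv π ≫ Γ.ι := by
    refine pullback.hom_ext ?_ ?_
    · exact (pullback.lift_fst _ _ _).trans ((Category.assoc _ _ _).trans (IsIso.inv_hom_id π)).symm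
    · exact (pullback.lift_snd _ _ _).trans (Category.assoc _ _ _).symm
  have hr : Set.range (inv π ≫ Γ.ι) = (Γ : Set ↥(pullback p q)) := by
    rw [Scheme.Hom.comp_base, TopCat.coe_comp, Set.range_comp,
      Set.range_eq_univ.2 (inv π).surjective, Set.image_univ]
    exact Scheme.Opens.range_ι Γ
  refine ⟨⟨_, hw⟩, ?_, fun f hf => Subtype.ext ?_⟩
  · show Set.range (pullback.lift (𝟙 X) _ _ : X ⟶ pullback p q) = _
    rw [hlift, hr]
  · haveI := hgraph f
    let s := pullback.lift (𝟙 X) f.1 ((Category.id_comp p).trans f.2.symm)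
    have hle : Set.range (inv π ≫ Γ.ι) ⊆ Set.range s := by rw [hr]; exact hf.symm.le
    have e := IsOpenImmersion.lift_fac s (inv π ≫ Γ.ι) hle
    have e1 : IsOpenImmersion.lift s (inv π ≫ Γ.ι) hle = 𝟙 X := by
      have := congrArg (· ≫ pullback.fst p q) e
      simp only [Category.assoc, s, pullback.lift_fst, Category.comp_id] at this
      exact this.trans (IsIso.inv_hom_id π)
    rw [e1, Category.id_comp] at e
    exact (pullback.lift_snd _ _ _).symm.trans
      ((congrArg (· ≫ pullback.snd p q) e).trans (Category.assoc _ _ _))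

end Groth.Agent.S5128
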