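import Groth.Statements.S5130
import Groth.Agent.Lib.Pi1Field21.HenselianProper
import Groth.Agent.S5117

set_option autoImplicit false
universe u
open Pi1

namespace Groth.Agent.S5130

open AlgebraicGeometry CategoryTheory CategoryTheory.Limits in
/-- Exactness in the middle of e → π₁(X ⊗ k̄) → π₁(X) → π₁(Spec A) → e, in terms of covers. Let A be a
complete Noetherian local ring with residue field k, k̄ an algebraic closure of k, ξ : Spec k̄ ⟶
Spec A the resulting geometric point, X a proper A-scheme with X ×_A Spec k̄ connected, and X' a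
connected finite etale cover of X such that the induced cover of X ×_A Spec k̄ has a section. Then
X' is isomorphic over X to the pullback of some finite etale cover of Spec A. -/
theorem result (A : Type u) [CommRing A]
    [IsNoetherianRing A] [IsLocalRing A] [IsAdicComplete (IsLocalRing.maximalIdeal A) A]
    {X : Scheme.{u}} (f : X ⟶ Spec (CommRingCat.of A)) [IsProper f]
    (ξ : Spec (CommRingCat.of (AlgebraicClosure (IsLocalRing.ResidueField A))) ⟶ Spec (CommRingCat.of A))
    (hξ : ξ = Spec.map (CommRingCat.ofHom ((algebraMap (IsLocalRing.ResidueField A)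
      (AlgebraicClosure (IsLocalRing.ResidueField A))).comp (IsLocalRing.residue A))))
    [ConnectedSpace ↥(pullback f ξ)] (X' : FEt.Cat X) [ConnectedSpace X'.left]
    (σ : pullback f ξ ⟶ X'.left) (hσ : σ ≫ X'.hom = pullback.fst f ξ) :
    ∃ T : FEt.Cat (Spec (CommRingCat.of A)), Nonempty ((FEt.restrict f).obj T ≅ X') := by
  haveI : HenselianRing A (IsLocalRing.maximalIdeal A) := inferInstance
  let k := IsLocalRing.ResidueField A
  let q : Spec (CommRingCat.of k) ⟶ Spec (CommRingCat.of A) := Spec.map (CommRingCat.ofHom (IsLocalRing.residue A))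
  let t := pullback.fst f q
  let g := pullback.snd f q
  have hξ' : GrothLib.Pi1Field21.geom k ≫ q = ξ := by
    rw [hξ, ← Spec.map_comp]; rfl
  let e : pullback g (GrothLib.Pi1Field21.geom k) ≅ pullback f ξ :=
    pullbackLeftPullbackSndIso f q _ ≪≫ pullback.congrHom rfl hξ'
  haveI : ConnectedSpace ↥(pullback g (GrothLib.Pi1Field21.geom k)) :=
    e.inv.homeomorph.surjective.connectedSpace e.inv.continuous
  haveI := GrothLib.Pi1Field21.connectedSpace_restrict_closedFibre f X'
  have he : e.hom ≫ pullback.fst f ξ = pullback.fst g (GrothLib.Pi1Field21.geom k) ≫ t := by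
    simp only [e, Iso.trans_hom, pullback.congrHom_hom, Category.assoc, pullback.map, pullback.lift_fst,
      Category.comp_id, pullbackLeftPullbackSndIso_hom_fst]
    rfl
  let σ' : pullback g (GrothLib.Pi1Field21.geom k) ⟶ ((FEt.restrict t).obj X').left :=
    pullback.lift (e.hom ≫ σ) (pullback.fst g _) (by
      refine (Category.assoc _ _ _).trans ?_
      exact (congrArg (e.hom ≫ ·) hσ).trans he)
  obtain ⟨T₀, ⟨i₀⟩⟩ := Groth.Agent.S5117.key k g ((FEt.restrict t).obj X') σ' (pullback.lift_snd _ _ _)
  haveI : (FEt.restrict q).IsEquivalence :=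
    GrothLib.FEt21.isEquivalence_of_henselian A (IsLocalRing.maximalIdeal A)
  let T := (FEt.restrict q).objPreimage T₀
  let c : FEt.restrict f ⋙ FEt.restrict t ≅ FEt.restrict q ⋙ FEt.restrict g :=
    (MorphismProperty.Over.pullbackComp (P := FEt.prop.{u}) (Q := ⊤) _ _).symm ≪≫
      MorphismProperty.Over.pullbackCongr pullback.condition ≪≫
      MorphismProperty.Over.pullbackComp (P := FEt.prop.{u}) (Q := ⊤) _ _
  obtain ⟨_, _⟩ := GrothLib.Pi1Field21.restrict_closedFibre_fullyFaithful f
  exact ⟨T, ⟨(FEt.restrict t).preimageIso (c.app T ≪≫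
    (FEt.restrict g).mapIso ((FEt.restrict q).objObjPreimageIso T₀) ≪≫ i₀)⟩⟩

end Groth.Agent.S5130
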