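import Groth.Statements.S5132
-- import your own Groth.Agent.* helpers here

set_option autoImplicit false
open CategoryTheory AlgebraicGeometry
universe u
open SGA1

namespace Groth.Agent.S5132

/-- Quasi-compactness of a morphism descends along a surjective and quasi-compact base change; flatness
of the base change is not needed for this property. -/
theorem result :
    MorphismProperty.DescendsAlong @QuasiCompact (@Surjective ⊓ @QuasiCompact : MorphismProperty Scheme.{u}) := by
  refine MorphismProperty.DescendsAlong.mk' ?_
  intro X Y Z f g _ hfg hfst
  obtain ⟨hs, hqc⟩ := hfg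
  haveI : Surjective f := hs
  haveI : QuasiCompact f := hqc
  haveI : QuasiCompact (Limits.pullback.fst f g) := hfst
  refine ⟨fun U hU hc => ?_⟩
  haveI : Surjective (Limits.pullback.snd f g) := MorphismProperty.pullback_snd _ _ hs
  rw [← (Limits.pullback.snd f g).surjective.image_preimage (g ⁻¹' U)]
  refine IsCompact.image ?_ (Limits.pullback.snd f g).continuous
  have : (Limits.pullback.snd f g) ⁻¹' (g ⁻¹' U) = (Limits.pullback.fst f g ≫ f) ⁻¹' U := by
    rw [Limits.pullback.condition]; rfl
  rw [this]
  exact QuasiCompact.isCompact_preimage (f := Limits.pullback.fst f g ≫ f) U hU hc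

end Groth.Agent.S5132
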