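import Groth.Statements.S5133
import Groth.Agent.Lib.GrpdQuot.InvariantOpen

set_option autoImplicit false
open CategoryTheory CategoryTheory.Limits AlgebraicGeometry
universe u
open SGA1

namespace Groth.Agent.S5133

/-- For a quasi-compact morphism f : X ⟶ Y and a flat surjective base change g : Y' ⟶ Y, with no
quasi-compactness asked of g, if the base change of f along g is a homeomorphism onto its image then
f is a homeomorphism onto its image. -/
theorem result {X Y Y' : Scheme.{u}} (f : X ⟶ Y)
    (g : Y' ⟶ Y) [QuasiCompact f] [Flat g] [Surjective g]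
    (h : Topology.IsEmbedding (pullback.snd f g).base) : Topology.IsEmbedding f.base := by
  have key : ∀ (x : X) (y' : Y'), f x = g y' → ∃ z : ↥(pullback f g),
      pullback.fst f g z = x ∧ pullback.snd f g z = y' := fun x y' e =>
    Scheme.Pullback.exists_preimage_pullback x y' e
  refine ⟨⟨?_⟩, ?_⟩
  · refine TopologicalSpace.ext_iff_isClosed.mpr fun Z => ⟨fun hZ => ?_, ?_⟩
    · rw [isClosed_induced_iff]
      refine ⟨closure (f '' Z), isClosed_closure, ?_⟩
      refine Set.Subset.antisymm (fun x hx => ?_) (fun x hx => subset_closure ⟨x, hx, rfl⟩)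
      obtain ⟨z, hzZ, hzx⟩ := GrothLib.GrpdQuot.exists_specializes_of_mem_closure f Z hZ (f x) hx
      obtain ⟨y', hy'⟩ := g.surjective (f x)
      obtain ⟨y₀', hspec, hy₀'⟩ := Flat.generalizingMap (f := g) (hy'.symm ▸ hzx)
      obtain ⟨p₀, hp₀f, hp₀s⟩ := key z y₀' hy₀'.symm
      obtain ⟨p₁, hp₁f, hp₁s⟩ := key x y' hy'.symm
      have h' : p₀ ⤳ p₁ := by
        rw [← h.isInducing.specializes_iff]
        change pullback.snd f g p₀ ⤳ pullback.snd f g p₁
        rw [hp₀s, hp₁s]
        exact hspec
      have := h'.map (pullback.fst f g).continuous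
      rw [hp₀f, hp₁f] at this
      exact this.mem_closed hZ hzZ
    · intro hZ
      obtain ⟨C, hC, rfl⟩ := isClosed_induced_iff.mp hZ
      exact hC.preimage f.continuous
  · intro x₁ x₂ e
    obtain ⟨y', hy'⟩ := g.surjective (f x₁)
    obtain ⟨p₁, hp₁f, hp₁s⟩ := key x₁ y' hy'.symm
    obtain ⟨p₂, hp₂f, hp₂s⟩ := key x₂ y' (e.symm.trans hy'.symm)
    have : p₁ = p₂ := h.injective (hp₁s.trans hp₂s.symm)
    rw [← hp₁f, ← hp₂f, this]

end Groth.Agent.S5133
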