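import Groth.Statements.S5134
import Groth.Agent.Lib.FlatFP.Kernel
import Groth.Agent.Lib.QCoh.PullbackSections
import Groth.Agent.Lib.FittSheaf.PullbackFP
import Mathlib.RingTheory.Finiteness.Descent
import Mathlib.AlgebraicGeometry.Limits
set_option backward.isDefEq.respectTransparency false

set_option autoImplicit false
open CategoryTheory AlgebraicGeometry
universe u
open SGA1

namespace Groth.Agent.S5134

open AlgebraicGeometry CategoryTheory CategoryTheory.Limits TensorProduct in
theorem finitePresentation_descend (A B : Type u) [CommRing A] [CommRing B] [Algebra A B]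
    [Module.FaithfullyFlat A B] (M : Type u) [AddCommGroup M] [Module A M]
    (h : Module.FinitePresentation B (B ⊗[A] M)) : Module.FinitePresentation A M := by
  haveI := h
  haveI : Module.Finite A M := Module.Finite.of_finite_tensorProduct_of_faithfullyFlat B
  obtain ⟨n, π, hπ⟩ := Module.Finite.exists_fin' A M
  refine Module.finitePresentation_of_surjective π hπ (Module.Finite.iff_fg.1 ?_)
  let i := AlgebraTensorModule.lTensor B B (LinearMap.ker π).subtype
  have hi : Function.Injective i :=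
    Module.Flat.lTensor_preserves_injective_linearMap (M := B) _ Subtype.val_injective
  have hex : Function.Exact i (AlgebraTensorModule.lTensor B B π) :=
    lTensor_exact B π.exact_subtype_ker_map hπ
  have hfg := Module.FinitePresentation.fg_ker (AlgebraTensorModule.lTensor B B π)
    (LinearMap.lTensor_surjective B hπ)
  rw [LinearMap.exact_iff.1 hex] at hfg
  haveI : Module.Finite B (B ⊗[A] LinearMap.ker π) := by
    haveI : Module.Finite B (LinearMap.range i) := Module.Finite.iff_fg.2 hfg
    exact Module.Finite.equiv (LinearEquiv.ofInjective i hi).symm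
  exact Module.Finite.of_finite_tensorProduct_of_faithfullyFlat B

open AlgebraicGeometry CategoryTheory CategoryTheory.Limits TensorProduct in
theorem fp_sections {S S' : Scheme.{u}} (g : S' ⟶ S) [Flat g] [Surjective g] [QuasiCompact g]
    (F : S.Modules) [F.IsQuasicoherent] (h : CohB1.IsFP ((Scheme.Modules.pullback g).obj F))
    {U : S.Opens} (hU : IsAffineOpen U) : Module.FinitePresentation Γ(S, U) Γ(F, U) := by
  obtain ⟨s, hs, he⟩ := isCompact_and_isOpen_iff_finite_and_eq_biUnion_affineOpens.1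
    ⟨g.isCompact_preimage hU.isCompact, U.isOpen.preimage g.continuous⟩
  haveI : Finite s := hs.to_subtype
  haveI : ∀ i : s, IsAffine (i.1.1 : Scheme.{u}) := fun i => i.1.2
  let q : (∐ fun i : s => (i.1.1 : Scheme.{u})) ⟶ S' := Sigma.desc fun i => i.1.1.ι
  haveI : IsAffine (∐ fun i : s => (i.1.1 : Scheme.{u})) := inferInstance
  haveI : Flat q := IsZariskiLocalAtSource.sigmaDesc fun _ => inferInstance
  have hmem : ∀ z, g (q z) ∈ U := fun z => by
    obtain ⟨i, y, rfl⟩ := (Scheme.IsLocallyDirected.openCover (Discrete.functor fun i : s => (i.1.1 : Scheme.{u}))).exists_eq z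
    show g ((Sigma.ι _ _ ≫ q) y) ∈ U
    rw [Sigma.ι_desc]
    exact (Set.ext_iff.1 he.symm (i.as.1.1.ι y)).1 (Set.mem_iUnion₂.2 ⟨i.as.1, i.as.2, y.2⟩)
  have e : ⊤ ≤ (q ≫ g) ⁻¹ᵁ U := fun z _ => hmem z
  haveI hFq : CohB1.IsFP ((Scheme.Modules.pullback (q ≫ g)).obj F) := by
    haveI : ((Scheme.Modules.pullback g).obj F).IsQuasicoherent :=
      GrothLib.FittSheaf.isQuasicoherent_pullback g F
    have := GrothLib.FittSheaf.isFP_pullback q _ h
    exact (SheafOfModules.isFinitePresentation (∐ fun i : s => (i.1.1 : Scheme.{u})).ringCatSheaf).prop_of_iso ((Scheme.Modules.pullbackComp q g).app F) this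
  haveI : ((Scheme.Modules.pullback (q ≫ g)).obj F).IsQuasicoherent :=
    GrothLib.FittSheaf.isQuasicoherent_pullback (q ≫ g) F
  letI := ((q ≫ g).appLE U ⊤ e).hom.toAlgebra
  haveI : Module.FaithfullyFlat Γ(S, U) Γ(∐ fun i : s => (i.1.1 : Scheme.{u}), ⊤) := by
    haveI : IsAffine (U : Scheme.{u}) := hU
    haveI : IsAffine ((⊤ : (∐ fun i : s => (i.1.1 : Scheme.{u})).Opens) : Scheme.{u}) := isAffineOpen_top _
    haveI : Flat ((q ≫ g).resLE U ⊤ e) :=
      IsZariskiLocalAtSource.resLE (P := @Flat) e inferInstance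
    haveI : Surjective ((q ≫ g).resLE U ⊤ e) := ⟨fun x => by
      obtain ⟨y, hy⟩ := g.surjective x.1
      have hy' : y ∈ ⋃ i ∈ s, (i : S'.Opens).1 := (Set.ext_iff.1 he y).1 (show g y ∈ U from hy ▸ x.2)
      obtain ⟨i, hi, hyi⟩ := Set.mem_iUnion₂.1 hy'
      refine ⟨⟨Sigma.ι (fun i : s => (i.1.1 : Scheme.{u})) ⟨i, hi⟩ ⟨y, hyi⟩, trivial⟩, Subtype.ext ?_⟩
      show (((q ≫ g).resLE U ⊤ e) ≫ U.ι) _ = x.1
      rw [Scheme.Hom.resLE_comp_ι]
      show g ((Sigma.ι _ _ ≫ q) ⟨y, hyi⟩) = x.1
      rw [Sigma.ι_desc]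
      exact hy⟩
    have hff := Flat.flat_and_surjective_iff_faithfullyFlat_of_isAffine ((q ≫ g).resLE U ⊤ e) |>.1 ⟨inferInstance, inferInstance⟩
    rw [show ((q ≫ g).resLE U ⊤ e).appTop = _ from Scheme.Hom.resLE_app_top ..] at hff
    rw [CommRingCat.hom_comp, CommRingCat.hom_comp] at hff
    let a := U.topIso.commRingCatIsoToRingEquiv
    let b := ((⊤ : (∐ fun i : s => (i.1.1 : Scheme.{u})).Opens)).topIso.commRingCatIsoToRingEquiv
    have h2 := (RingHom.FaithfullyFlat.respectsIso.2 _ a.symm (RingHom.FaithfullyFlat.respectsIso.1 _ b hff))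
    have h3 : ((q ≫ g).appLE U ⊤ e).hom.FaithfullyFlat := by
      convert h2 using 1
      refine RingHom.ext fun r => ?_
      show _ = (⊤ : (∐ fun i : s => (i.1.1 : Scheme.{u})).Opens).topIso.hom
        ((⊤ : (∐ fun i : s => (i.1.1 : Scheme.{u})).Opens).topIso.inv
          ((q ≫ g).appLE U ⊤ e (U.topIso.hom (U.topIso.inv r))))
      rw [Iso.inv_hom_id_apply, Iso.inv_hom_id_apply]
    exact (RingHom.faithfullyFlat_algebraMap_iff (R := Γ(S, U))).1 h3
  haveI := GrothLib.FlatFP.finitePresentation_sections _ hFq (isAffineOpen_top (∐ fun i : s => (i.1.1 : Scheme.{u})))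
  refine finitePresentation_descend _ Γ(∐ fun i : s => (i.1.1 : Scheme.{u}), ⊤) _ ?_
  exact Module.FinitePresentation.of_equiv (LinearEquiv.ofBijective
    (GrothLib.QCoh.sectionsMap (q ≫ g) F e rfl)
    (GrothLib.QCoh.bijective_sectionsMap (q ≫ g) F e rfl hU (isAffineOpen_top _))).symm

/-- For g : S' ⟶ S flat, surjective and quasi-compact and F a quasi-coherent module on S, if the
pullback of F to S' is of finite presentation then F is of finite presentation. -/
theorem result {S S' : Scheme.{u}} (g : S' ⟶ S) [Flat g] [Surjective g] [QuasiCompact g]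
    (F : S.Modules) (hF : Coh.IsQCoh F)
    (h : CohB1.IsFP ((Scheme.Modules.pullback g).obj F)) : CohB1.IsFP F := by
  haveI : F.IsQuasicoherent := hF
  exact GrothLib.FlatFP.isFP_of_sections F (fun U : S.affineOpens => U.1) (iSup_affineOpens_eq_top S)
    (fun U => U.2) fun U => fp_sections g F h U.2

end Groth.Agent.S5134
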