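import Groth.Statements.S5135
import Mathlib.RingTheory.Flat.FaithfullyFlat.Basic

set_option autoImplicit false
universe u
open scoped TensorProduct
open SGA1

namespace Groth.Agent.S5135

open TensorProduct in
theorem aux {A A' M : Type u} [CommRing A] [CommRing A'] [Algebra A A'] [AddCommGroup M] [Module A M]
    {Q : Type u} [AddCommGroup Q] [Module A Q] [Module A' Q] [IsScalarTower A A' Q]
    (π : A' ⊗[A] M →ₗ[A'] Q) (x : A' ⊗[A] M) (b c : A') :
    ((π.restrictScalars A).lTensor A' ∘ₗ (TensorProduct.assoc A A' A' M).toLinearMap)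
      ((b ⊗ₜ[A] c) • ((Algebra.TensorProduct.includeRight : A' →ₐ[A] A' ⊗[A] A').toLinearMap.rTensor M x)) =
      b ⊗ₜ π (c • x) := by
  induction x with
  | zero => simp
  | tmul a m => simp [TensorProduct.smul_tmul', Algebra.TensorProduct.tmul_mul_tmul]
  | add x y hx hy => simp only [map_add, smul_add, hx, hy, tmul_add]

/-- The affine case, in submodule form (descent of submodules, equivalently of quotient modules): for A
⟶ A' faithfully flat, M an A-module and N' an A'-submodule of A' ⊗ M whose two extensions to (A' ⊗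
A') ⊗ M, along a ↦ a ⊗ 1 and a ↦ 1 ⊗ a, generate the same submodule, N' is the base change of the
submodule of M formed by the elements m with 1 ⊗ m in N'. -/
theorem result (A A' : Type u) [CommRing A] [CommRing A'] [Algebra A A']
    [Module.FaithfullyFlat A A'] (M : Type u) [AddCommGroup M] [Module A M] (N' : Submodule A' (A' ⊗[A] M))
    (h : Submodule.span (A' ⊗[A] A')
          ((N'.restrictScalars A).map
            ((Algebra.TensorProduct.includeLeft : A' →ₐ[A] A' ⊗[A] A').toLinearMap.rTensor M) : Set ((A' ⊗[A] A') ⊗[A] M)) =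
        Submodule.span (A' ⊗[A] A')
          ((N'.restrictScalars A).map
            ((Algebra.TensorProduct.includeRight : A' →ₐ[A] A' ⊗[A] A').toLinearMap.rTensor M) : Set ((A' ⊗[A] A') ⊗[A] M))) :
    ((N'.restrictScalars A).comap (TensorProduct.mk A A' M 1)).baseChange A' = N' := by
  refine le_antisymm ?_ fun x hx => ?_
  · rw [Submodule.baseChange_eq_span]
    refine Submodule.span_le.2 ?_
    rintro _ ⟨m, hm, rfl⟩
    exact hm
  let π : A' ⊗[A] M →ₗ[A'] (A' ⊗[A] M) ⧸ N' := N'.mkQ
  let μ : M →ₗ[A] (A' ⊗[A] M) ⧸ N' := π.restrictScalars A ∘ₗ TensorProduct.mk A A' M 1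
  let L := (N'.restrictScalars A).comap (TensorProduct.mk A A' M 1)
  have hex : Function.Exact L.subtype μ := by
    intro m
    simp only [μ, π, L, LinearMap.comp_apply, LinearMap.restrictScalars_apply, Submodule.mkQ_apply,
      Submodule.Quotient.mk_eq_zero, Set.mem_range, Submodule.subtype_apply, Subtype.exists]
    exact ⟨fun h => ⟨m, h, rfl⟩, by rintro ⟨_, h, rfl⟩; exact h⟩
  have hex' := Module.Flat.lTensor_exact A' hex
  let ψ := (π.restrictScalars A).lTensor A' ∘ₗ (TensorProduct.assoc A A' A' M).toLinearMap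
  have hr : ∀ z ∈ Submodule.span (A' ⊗[A] A')
          ((N'.restrictScalars A).map
            ((Algebra.TensorProduct.includeRight : A' →ₐ[A] A' ⊗[A] A').toLinearMap.rTensor M) : Set ((A' ⊗[A] A') ⊗[A] M)),
      ∀ r : A' ⊗[A] A', ψ (r • z) = 0 := by
    intro z hz
    induction hz using Submodule.span_induction with
    | mem z hz =>
      obtain ⟨y, hy, rfl⟩ := hz
      intro r
      induction r with
      | zero => simp
      | tmul b c =>
        refine (aux π y b c).trans ?_
        rw [map_smul, show π y = 0 from (Submodule.Quotient.mk_eq_zero N').2 hy, smul_zero, TensorProduct.tmul_zero]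
      | add r s hr hs => rw [add_smul, map_add, hr, hs, add_zero]
    | zero => simp
    | add z w _ _ hz hw => intro r; rw [smul_add, map_add, hz r, hw r, add_zero]
    | smul t z _ hz => intro r; rw [smul_smul]; exact hz _
  have h0 : ψ ((Algebra.TensorProduct.includeLeft : A' →ₐ[A] A' ⊗[A] A').toLinearMap.rTensor M x) = 0 := by
    have hm : ((Algebra.TensorProduct.includeLeft : A' →ₐ[A] A' ⊗[A] A').toLinearMap.rTensor M x) ∈
        Submodule.span (A' ⊗[A] A') ((N'.restrictScalars A).map
            ((Algebra.TensorProduct.includeRight : A' →ₐ[A] A' ⊗[A] A').toLinearMap.rTensor M) :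
              Set ((A' ⊗[A] A') ⊗[A] M)) :=
      h ▸ Submodule.subset_span ⟨x, hx, rfl⟩
    simpa using hr _ hm 1
  have hψ : ∀ y : A' ⊗[A] M,
      ψ ((Algebra.TensorProduct.includeLeft : A' →ₐ[A] A' ⊗[A] A').toLinearMap.rTensor M y) = μ.lTensor A' y := by
    intro y
    induction y with
    | zero => simp
    | tmul a m => simp [ψ, μ]
    | add y z hy hz => simp only [map_add, hy, hz]
  obtain ⟨z, hz⟩ := (hex' x).1 ((hψ x).symm.trans h0)
  rw [← hz, Submodule.baseChange_eq_span]
  clear hz h0 hx
  induction z with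
  | zero => simp
  | tmul a l =>
    rw [LinearMap.lTensor_tmul]
    have : a ⊗ₜ[A] (L.subtype l) = a • ((1 : A') ⊗ₜ[A] (L.subtype l)) := by
      rw [TensorProduct.smul_tmul', smul_eq_mul, mul_one]
    rw [this]
    exact Submodule.smul_mem _ _ (Submodule.subset_span ⟨l.1, l.2, rfl⟩)
  | add z w hz hw => rw [map_add]; exact add_mem hz hw

end Groth.Agent.S5135
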