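import Groth.Statements.S5136
import Groth.Agent.Lib.IdealDescFpqc.Main

set_option autoImplicit false
open CategoryTheory CategoryTheory.Limits AlgebraicGeometry
universe u
open SGA1

namespace Groth.Agent.S5136

/-- The existence half of the exactness of H(S) ⟶ H(S') ⇉ H(S'') for closed subschemes: for g : S' ⟶ S
flat, surjective and quasi-compact, a quasi-coherent ideal sheaf on S' whose pullbacks along the two
projections of S' ×_S S' agree is the pullback of a quasi-coherent ideal sheaf on S. (Injectivity of
the pullback of ideal sheaves along g is the other half.) -/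
theorem result {S S' : Scheme.{u}} (g : S' ⟶ S) [Flat g] [Surjective g]
    [QuasiCompact g] (J' : S'.IdealSheafData)
    (h : J'.comap (pullback.fst g g) = J'.comap (pullback.snd g g)) :
    ∃ J : S.IdealSheafData, J.comap g = J' := by
  have hg : Presieve.ofArrows (fun _ : PUnit.{u + 1} => S') (fun _ => g) ∈
      Scheme.fpqcPrecoverage S := by
    rw [Presieve.ofArrows_pUnit]
    exact Scheme.Hom.singleton_mem_fpqcPrecoverage g
  obtain ⟨hqc, hflat, -⟩ := GrothLib.FpqcCov.quasiCompactCover_and_flat _ hg
  obtain ⟨J, hJ, -⟩ := GrothLib.IdealDescFpqc.existsUnique (fun _ : PUnit.{u + 1} => g)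
    (fun _ => J') hqc hflat (fun _ _ => h)
  exact ⟨J, hJ PUnit.unit⟩

end Groth.Agent.S5136
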