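import Groth.Statements.S5138
import Groth.Agent.Lib.AlgSp.SourceDescent

set_option autoImplicit false
open CategoryTheory AlgebraicGeometry
universe u
open SGA1

namespace Groth.Agent.S5138

/-- For X ⟶ X' ⟶ Y locally of finite type over a locally Noetherian Y and a point x of X, if X ⟶ X' and
the composite X ⟶ Y are both etale near x then X' ⟶ Y is etale near the image of x; 'etale near a
point' is membership in the etale locus, the union of the opens on which the morphism is etale. (The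
published statement takes the morphisms of finite type; quasi-compactness plays no role in this
assertion about single points, so only local finiteness is assumed.) -/
theorem result {X X' Y : Scheme.{u}} (f : X ⟶ X') (g : X' ⟶ Y)
    [IsLocallyNoetherian Y] [LocallyOfFiniteType f] [LocallyOfFiniteType g] (x : X)
    (hf : x ∈ Pi1X.etaleLocus f) (hfg : x ∈ Pi1X.etaleLocus (f ≫ g)) : f.base x ∈ Pi1X.etaleLocus g := by
  obtain ⟨U₁, hU₁, hx₁⟩ := TopologicalSpace.Opens.mem_sSup.1 hf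
  obtain ⟨U₂, hU₂, hx₂⟩ := TopologicalSpace.Opens.mem_sSup.1 hfg
  simp only [Set.mem_ofPred_eq] at hU₁ hU₂
  have h1 : Etale ((U₁ ⊓ U₂ : X.Opens).ι ≫ f) := by
    rw [← X.homOfLE_ι (inf_le_left : U₁ ⊓ U₂ ≤ U₁), Category.assoc]; infer_instance
  have h2 : Etale ((U₁ ⊓ U₂ : X.Opens).ι ≫ f ≫ g) := by
    rw [← X.homOfLE_ι (inf_le_right : U₁ ⊓ U₂ ≤ U₂), Category.assoc]; infer_instance
  let h := (U₁ ⊓ U₂ : X.Opens).ι ≫ f
  let V : X'.Opens := ⟨Set.range h, h.isOpenMap.isOpen_range⟩
  have hV : Set.range h ⊆ Set.range V.ι := by rw [Scheme.Opens.range_ι]; rfl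
  let c := IsOpenImmersion.lift V.ι h hV
  have hc : c ≫ V.ι = h := IsOpenImmersion.lift_fac _ _ _
  have : Etale (c ≫ V.ι) := by rw [hc]; exact h1
  have : Etale c := Etale.of_comp c V.ι
  have : Surjective c := ⟨fun v => by
    obtain ⟨u, hu⟩ := v.2
    refine ⟨u, Subtype.ext ?_⟩
    rw [← hu, ← hc]
    rfl⟩
  have hg : Etale (V.ι ≫ g) := GrothLib.AlgSp.etaleSourceDescends_etale c (V.ι ≫ g) ‹_› ‹_›
    (by rw [reassoc_of% hc, show h ≫ g = (U₁ ⊓ U₂ : X.Opens).ι ≫ f ≫ g from Category.assoc _ _ _]; exact h2)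
  exact TopologicalSpace.Opens.mem_sSup.2 ⟨V, hg, ⟨⟨x, hx₁, hx₂⟩, rfl⟩⟩

end Groth.Agent.S5138
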