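import Groth.Statements.S5142
import Groth.Agent.Lib.FibCat.FpFibred


set_option autoImplicit false
set_option backward.isDefEq.respectTransparency false
set_option backward.isDefEq.respectTransparency.types false
open CategoryTheory
universe u v u₂ v₂
open FibCat

namespace Groth.Agent.S5142

open CategoryTheory.Functor GrothLib.FibCat

theorem lift_transfer {C : Type*} [Category C] {𝒳 : Type*} [Category 𝒳] (q : 𝒳 ⥤ C) {R S R' S' : C} {a b a' : 𝒳}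
    (f : R ⟶ S) (g : R' ⟶ S') (φ : a ⟶ b) (ψ : a' ⟶ b) [q.IsHomLift f φ] [q.IsHomLift g φ] [q.IsHomLift f ψ] :
    q.IsHomLift g ψ := by
  obtain rfl := IsHomLift.domain_eq q f φ
  obtain rfl := IsHomLift.codomain_eq q f φ
  obtain rfl := IsHomLift.domain_eq q g φ
  obtain rfl := IsHomLift.codomain_eq q g φ
  rw [IsHomLift.eq_of_isHomLift q g φ, ← IsHomLift.eq_of_isHomLift q f φ]
  infer_instance

/-- A morphism of the fibre product 𝒳 ×_C 𝒴 of two categories over C is cartesian if and only if its two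
components are cartesian (each over its image in C). The fibre product is taken as the 2-fibre
product over C of the two structure functors, whose objects are pairs over one object of C together
with an isomorphism of C lying over an identity. -/
theorem result {C : Type u} [Category.{v} C] {𝒳 𝒴 : BasedCategory.{v₂, u₂} C}
    {x y : (FibCat.fp (FibCat.toSelf 𝒳) (FibCat.toSelf 𝒴)).obj} (φ : x ⟶ y) :
    (FibCat.fp (FibCat.toSelf 𝒳) (FibCat.toSelf 𝒴)).p.IsCartesian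
        ((FibCat.fp (FibCat.toSelf 𝒳) (FibCat.toSelf 𝒴)).p.map φ) φ ↔
      𝒳.p.IsCartesian (𝒳.p.map φ.hom.fst) φ.hom.fst ∧ 𝒴.p.IsCartesian (𝒴.p.map φ.hom.snd) φ.hom.snd := by
    have hv : ∀ (a : (FibCat.fp (FibCat.toSelf 𝒳) (FibCat.toSelf 𝒴)).obj),
        ∃ h : 𝒳.p.obj a.obj.fst = 𝒴.p.obj a.obj.snd, a.obj.iso.hom = eqToHom h := fun a => by
      have := Fp.iso_lift a
      refine ⟨(Fp.snd_proj a).symm, ?_⟩
      have e := IsHomLift.fac' (FibCat.selfOver C).p (𝟙 (𝒳.p.obj a.obj.fst)) a.obj.iso.hom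
      simp only [Category.id_comp, eqToHom_trans] at e
      exact e
    let f := (FibCat.fp (FibCat.toSelf 𝒳) (FibCat.toSelf 𝒴)).p.map φ
    have hl : (FibCat.fp (FibCat.toSelf 𝒳) (FibCat.toSelf 𝒴)).p.IsHomLift f φ := IsHomLift.map _ φ
    have hl₁ : 𝒳.p.IsHomLift f φ.hom.fst := (Fp.isHomLift_iff φ f).1 hl
    have hl₂ : 𝒴.p.IsHomLift f φ.hom.snd := Fp.isHomLift_snd φ f hl
    constructor
    · intro hc
      refine ⟨{ universal_property := fun {x'} ψ hψ => ?_ }, { universal_property := fun {y'} ψ hψ => ?_ }⟩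
      · have hψ' : 𝒳.p.IsHomLift f ψ := hψ
        have hd : 𝒳.p.obj x' = 𝒴.p.obj x.obj.snd :=
          (IsHomLift.domain_eq 𝒳.p f ψ).trans (Fp.snd_proj x).symm
        let z : (FibCat.fp (FibCat.toSelf 𝒳) (FibCat.toSelf 𝒴)).obj :=
          Fp.mk x' x.obj.snd (eqToIso hd) (IsHomLift.eqToHom_domain_lift_id hd rfl)
        have hw : (FibCat.toSelf 𝒳).map ψ ≫ y.obj.iso.hom = z.obj.iso.hom ≫ (FibCat.toSelf 𝒴).map φ.hom.snd := by
          obtain ⟨h, e⟩ := hv y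
          rw [e]
          change 𝒳.p.map ψ ≫ eqToHom h = eqToHom hd ≫ 𝒴.p.map φ.hom.snd
          rw [IsHomLift.fac' 𝒳.p f ψ, IsHomLift.fac' 𝒴.p f φ.hom.snd]
          simp
        let Ψ : z ⟶ y := Fp.homMk (a := z) ψ φ.hom.snd hw
        have hΨ : (FibCat.fp (FibCat.toSelf 𝒳) (FibCat.toSelf 𝒴)).p.IsHomLift f Ψ := (Fp.isHomLift_iff Ψ f).2 hψ'
        have : (FibCat.fp (FibCat.toSelf 𝒳) (FibCat.toSelf 𝒴)).p.IsCartesian f φ := hc
        let χ := IsCartesian.map (FibCat.fp (FibCat.toSelf 𝒳) (FibCat.toSelf 𝒴)).p f φ Ψ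
        refine ⟨χ.hom.fst, ⟨(Fp.isHomLift_iff χ _).1 inferInstance,
          congrArg (fun t => t.hom.fst) (IsCartesian.fac (FibCat.fp (FibCat.toSelf 𝒳) (FibCat.toSelf 𝒴)).p f φ Ψ)⟩, fun α hα => ?_⟩
        have := hα.1
        have hα' : 𝒳.p.IsHomLift (𝟙 (𝒳.p.obj x.obj.fst)) α := hα.1
        obtain ⟨h, e⟩ := hv x
        have hw' : (FibCat.toSelf 𝒳).map α ≫ x.obj.iso.hom = z.obj.iso.hom ≫ (FibCat.toSelf 𝒴).map (𝟙 x.obj.snd) := by
          rw [e]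
          change 𝒳.p.map α ≫ eqToHom h = eqToHom hd ≫ 𝒴.p.map (𝟙 x.obj.snd)
          rw [IsHomLift.fac' 𝒳.p (𝟙 (𝒳.p.obj x.obj.fst)) α]
          simp
        have hA : (FibCat.fp (FibCat.toSelf 𝒳) (FibCat.toSelf 𝒴)).p.IsHomLift (𝟙 ((FibCat.fp (FibCat.toSelf 𝒳) (FibCat.toSelf 𝒴)).p.obj x))
            (Fp.homMk (a := z) α (𝟙 x.obj.snd) hw') := (Fp.isHomLift_iff _ _).2 hα'
        have := IsCartesian.map_uniq (FibCat.fp (FibCat.toSelf 𝒳) (FibCat.toSelf 𝒴)).p f φ Ψ (Fp.homMk (a := z) α (𝟙 x.obj.snd) hw')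
          (hψ := Fp.hom_ext hα.2 (Category.id_comp _))
        exact congrArg (fun t => t.hom.fst) this
      · have hψ' : 𝒴.p.IsHomLift f ψ := lift_transfer 𝒴.p (𝒴.p.map φ.hom.snd) f φ.hom.snd ψ
        have hd : 𝒳.p.obj x.obj.fst = 𝒴.p.obj y' := (IsHomLift.domain_eq 𝒴.p f ψ).symm
        let z : (FibCat.fp (FibCat.toSelf 𝒳) (FibCat.toSelf 𝒴)).obj :=
          Fp.mk x.obj.fst y' (eqToIso hd) (IsHomLift.eqToHom_domain_lift_id hd rfl)
        have hw : (FibCat.toSelf 𝒳).map φ.hom.fst ≫ y.obj.iso.hom = z.obj.iso.hom ≫ (FibCat.toSelf 𝒴).map ψ := by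
          obtain ⟨h, e⟩ := hv y
          rw [e]
          change 𝒳.p.map φ.hom.fst ≫ eqToHom h = eqToHom hd ≫ 𝒴.p.map ψ
          rw [IsHomLift.fac' 𝒳.p f φ.hom.fst, IsHomLift.fac' 𝒴.p f ψ]
          simp
        let Ψ : z ⟶ y := Fp.homMk (a := z) φ.hom.fst ψ hw
        have hΨ : (FibCat.fp (FibCat.toSelf 𝒳) (FibCat.toSelf 𝒴)).p.IsHomLift f Ψ := (Fp.isHomLift_iff Ψ f).2 hl₁
        have : (FibCat.fp (FibCat.toSelf 𝒳) (FibCat.toSelf 𝒴)).p.IsCartesian f φ := hc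
        let χ := IsCartesian.map (FibCat.fp (FibCat.toSelf 𝒳) (FibCat.toSelf 𝒴)).p f φ Ψ
        have hχ : 𝒴.p.IsHomLift (𝟙 (𝒳.p.obj x.obj.fst)) χ.hom.snd := Fp.isHomLift_snd χ _ inferInstance
        refine ⟨χ.hom.snd, ⟨?_, congrArg (fun t => t.hom.snd) (IsCartesian.fac (FibCat.fp (FibCat.toSelf 𝒳) (FibCat.toSelf 𝒴)).p f φ Ψ)⟩, fun α hα => ?_⟩
        · exact GrothLib.FibCat.isHomLift_id_of_eq 𝒴.p (R := 𝒳.p.obj x.obj.fst) χ.hom.snd (Or.inr rfl)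
        have := hα.1
        have hα' : 𝒴.p.IsHomLift (𝟙 (𝒳.p.obj x.obj.fst)) α :=
          GrothLib.FibCat.isHomLift_id_of_eq 𝒴.p (R := 𝒴.p.obj x.obj.snd) α (Or.inr (Fp.snd_proj x))
        obtain ⟨h, e⟩ := hv x
        have hw' : (FibCat.toSelf 𝒳).map (𝟙 x.obj.fst) ≫ x.obj.iso.hom = z.obj.iso.hom ≫ (FibCat.toSelf 𝒴).map α := by
          rw [e]
          change 𝒳.p.map (𝟙 x.obj.fst) ≫ eqToHom h = eqToHom hd ≫ 𝒴.p.map α
          rw [IsHomLift.fac' 𝒴.p (𝟙 (𝒳.p.obj x.obj.fst)) α]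
          simp
        have hA : (FibCat.fp (FibCat.toSelf 𝒳) (FibCat.toSelf 𝒴)).p.IsHomLift (𝟙 ((FibCat.fp (FibCat.toSelf 𝒳) (FibCat.toSelf 𝒴)).p.obj x))
            (Fp.homMk (a := z) (b := x) (𝟙 x.obj.fst) α hw') := (Fp.isHomLift_iff _ _).2 (IsHomLift.id rfl)
        have := IsCartesian.map_uniq (FibCat.fp (FibCat.toSelf 𝒳) (FibCat.toSelf 𝒴)).p f φ Ψ (Fp.homMk (a := z) (b := x) (𝟙 x.obj.fst) α hw')
          (hψ := Fp.hom_ext (Category.id_comp _) hα.2)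
        exact congrArg (fun t => t.hom.snd) this
    · rintro ⟨h1, h2⟩
      have i₁ : 𝒳.p.IsCartesian f φ.hom.fst := h1
      have i₂ : 𝒴.p.IsCartesian f φ.hom.snd :=
        { universal_property := fun {y'} ψ hψ => by
            have hy : 𝒴.p.IsHomLift (𝒴.p.map φ.hom.snd) ψ := lift_transfer 𝒴.p f (𝒴.p.map φ.hom.snd) φ.hom.snd ψ
            obtain ⟨χ, ⟨hχ₁, hχ₂⟩, hu⟩ := h2.universal_property ψ
            refine ⟨χ, ⟨GrothLib.FibCat.isHomLift_id_of_eq 𝒴.p (R := 𝒴.p.obj x.obj.snd) χ (Or.inr (Fp.snd_proj x)), hχ₂⟩,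
              fun α hα => hu α ⟨?_, hα.2⟩⟩
            have := hα.1
            exact GrothLib.FibCat.isHomLift_id_of_eq 𝒴.p (R := (FibCat.fp (FibCat.toSelf 𝒳) (FibCat.toSelf 𝒴)).p.obj x) α (Or.inr rfl) }
      have : (FibCat.selfOver C).p.IsHomLift f ((FibCat.toSelf 𝒴).map φ.hom.snd) :=
        BasedFunctor.preserves_isHomLift (FibCat.toSelf 𝒴) f φ.hom.snd
      have := Fp.isStronglyCartesian_selfOver ((FibCat.toSelf 𝒴).map φ.hom.snd) f
      exact Fp.isCartesian φ f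

end Groth.Agent.S5142
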