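import Groth.Statements.S5143
import Groth.Agent.Lib.FibCat.FpFibred


set_option autoImplicit false
set_option backward.isDefEq.respectTransparency false
set_option backward.isDefEq.respectTransparency.types false
open CategoryTheory
universe u v u₂ v₂
open FibCat

namespace Groth.Agent.S5143

open CategoryTheory.Functor GrothLib.FibCat

/-- The fibre product over C of two fibred (resp. prefibred) categories over C is fibred (resp.
prefibred); fibred and prefibred are Mathlib's notions for the structure functors, and the fibre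
product is the 2-fibre product over C of the two structure functors. -/
theorem result {C : Type u} [Category.{v} C] {𝒳 𝒴 : BasedCategory.{v₂, u₂} C} :
    (𝒳.p.IsFibered → 𝒴.p.IsFibered → (FibCat.fp (FibCat.toSelf 𝒳) (FibCat.toSelf 𝒴)).p.IsFibered) ∧
      (𝒳.p.IsPreFibered → 𝒴.p.IsPreFibered → (FibCat.fp (FibCat.toSelf 𝒳) (FibCat.toSelf 𝒴)).p.IsPreFibered) := by
    refine ⟨fun h1 h2 => ?_, fun h1 h2 => ⟨fun {b R} f => ?_⟩⟩
    · exact Fp.isFibered
        (fun {R S} f {a b} φ hφ => by
          have := BasedFunctor.preserves_isHomLift (FibCat.toSelf 𝒳) f φ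
          exact Fp.isStronglyCartesian_selfOver _ f)
        (fun {R S} f {a b} φ hφ => by
          have := BasedFunctor.preserves_isHomLift (FibCat.toSelf 𝒴) f φ
          exact Fp.isStronglyCartesian_selfOver _ f)
    · let f' : R ⟶ 𝒳.p.obj b.obj.fst := f
      let φ := IsPreFibered.pullbackMap (p := 𝒳.p) (rfl : 𝒳.p.obj b.obj.fst = _) f'
      let ψ := IsPreFibered.pullbackMap (p := 𝒴.p) (Fp.snd_proj b) f'
      have := BasedFunctor.preserves_isHomLift (FibCat.toSelf 𝒳) f' φ
      have := BasedFunctor.preserves_isHomLift (FibCat.toSelf 𝒴) f' ψ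
      have := Fp.isStronglyCartesian_selfOver ((FibCat.toSelf 𝒳).map φ) f'
      have h4 := Fp.isStronglyCartesian_selfOver ((FibCat.toSelf 𝒴).map ψ) f'
      obtain ⟨e, he, w, hl⟩ := Fp.exists_homMk f' φ ψ
      let Φ := Fp.homMk (a := Fp.mk _ _ e he) (b := b) φ ψ w
      have i₁ : 𝒳.p.IsCartesian f' Φ.hom.fst := inferInstanceAs (𝒳.p.IsCartesian f' φ)
      have i₂ : 𝒴.p.IsCartesian f' Φ.hom.snd := inferInstanceAs (𝒴.p.IsCartesian f' ψ)
      have i₃ : (FibCat.selfOver C).p.IsStronglyCartesian f' ((FibCat.toSelf 𝒴).map Φ.hom.snd) := h4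
      exact ⟨_, Φ, Fp.isCartesian Φ f'⟩

end Groth.Agent.S5143
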