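import Groth.Statements.S5144


set_option autoImplicit false
set_option backward.isDefEq.respectTransparency false
set_option backward.isDefEq.respectTransparency.types false
open CategoryTheory
universe u v u₂ v₂
open FibCat

namespace Groth.Agent.S5144

open CategoryTheory.Functor

theorem isHomLift_op {C : Type*} [Category C] {𝒳 : Type*} [Category 𝒳] (p : 𝒳 ⥤ C) {R S : C} {a b : 𝒳}
    (f : R ⟶ S) (φ : a ⟶ b) [p.IsHomLift f φ] : p.op.IsHomLift f.op φ.op := by
  subst_hom_lift p f φ
  exact IsHomLift.map p.op φ.op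

theorem isHomLift_unop {C : Type*} [Category C] {𝒳 : Type*} [Category 𝒳] (p : 𝒳 ⥤ C) {R S : Cᵒᵖ} {a b : 𝒳ᵒᵖ}
    (f : R ⟶ S) (φ : a ⟶ b) [p.op.IsHomLift f φ] : p.IsHomLift f.unop φ.unop := by
  subst_hom_lift p.op f φ
  exact IsHomLift.map p φ.unop

theorem isFibered_op_of {C : Type*} [Category C] {𝒳 : Type*} [Category 𝒳] (p : 𝒳 ⥤ C) [p.IsFibered]
    [p.op.IsPreFibered] : p.op.IsFibered where
  exists_isCartesian' := IsPreFibered.exists_isCartesian'
  comp {R S T} f g {a b c} φ ψ := by
    refine { universal_property := fun {a'} χ hχ => ?_ }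
    have hT := IsHomLift.domain_eq p.op (f ≫ g) χ
    have hcd := IsHomLift.codomain_eq p.op g ψ
    -- `χ : a' ⟶ c` corresponds to `χ.unop : c.unop ⟶ a'.unop` over `g.unop ≫ f.unop`
    have := isHomLift_unop p (f ≫ g) χ
    have hR : p.obj a'.unop = R.unop := IsHomLift.codomain_eq p (f ≫ g).unop χ.unop
    let l := IsPreFibered.pullbackMap (p := p) hR f.unop
    have hl := IsFibered.isStronglyCartesian_of_isCartesian p f.unop l
    let χ' := IsStronglyCartesian.map p f.unop l (g := g.unop) (f' := (f ≫ g).unop) rfl χ.unop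
    have : p.op.IsHomLift g χ'.op := isHomLift_op p g.unop χ'
    let β := IsCartesian.map p.op g ψ χ'.op
    have := isHomLift_unop p (𝟙 S) β
    have : p.IsHomLift (𝟙 S.unop) β.unop := this
    have : p.IsHomLift f.unop (β.unop ≫ l) := inferInstance
    have : p.op.IsHomLift f (β.unop ≫ l).op := isHomLift_op p f.unop (β.unop ≫ l)
    let γ := IsCartesian.map p.op f φ (β.unop ≫ l).op
    refine ⟨γ, ⟨inferInstance, ?_⟩, fun γ' hγ' => ?_⟩
    · calc γ ≫ φ ≫ ψ = (β.unop ≫ l).op ≫ ψ := by rw [← Category.assoc, IsCartesian.fac]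
        _ = l.op ≫ χ'.op := by rw [op_comp, Category.assoc]; exact congrArg (l.op ≫ ·) (IsCartesian.fac p.op g ψ χ'.op)
        _ = χ := by rw [← op_comp, IsStronglyCartesian.fac]; rfl
    · have := hγ'.1
      have := isHomLift_unop p f (γ' ≫ φ)
      let β' := IsStronglyCartesian.map p f.unop l (g := 𝟙 S.unop) (f' := f.unop) (Category.id_comp _).symm (γ' ≫ φ).unop
      have := isHomLift_op p (𝟙 S.unop) β'
      have : p.op.IsHomLift (𝟙 S) β'.op := this
      have e₀ : l.op ≫ β'.op = γ' ≫ φ := by rw [← op_comp, IsStronglyCartesian.fac]; rfl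
      have e : β' = β.unop := by
        apply Quiver.Hom.op_inj
        refine IsCartesian.map_uniq p.op g ψ χ'.op β'.op (Quiver.Hom.unop_inj ?_)
        have : p.IsHomLift g.unop (β'.op ≫ ψ).unop := isHomLift_unop p g (β'.op ≫ ψ)
        have : p.IsHomLift g.unop χ'.op.unop := inferInstanceAs (p.IsHomLift g.unop χ')
        refine IsStronglyCartesian.ext p f.unop l g.unop ?_
        have h2 : l.op ≫ β'.op ≫ ψ = l.op ≫ χ'.op := by
          rw [← Category.assoc, e₀, Category.assoc, hγ'.2, ← op_comp, IsStronglyCartesian.fac]; rfl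
        exact congrArg Quiver.Hom.unop h2
      apply IsCartesian.map_uniq
      rw [← e₀, e]
      rfl

theorem isFibered_of_op {C : Type*} [Category C] {𝒳 : Type*} [Category 𝒳] (p : 𝒳 ⥤ C) [p.IsPreFibered]
    [p.op.IsFibered] : p.IsFibered where
  exists_isCartesian' := IsPreFibered.exists_isCartesian'
  comp {R S T} f g {a b c} φ ψ := by
    refine { universal_property := fun {a'} χ hχ => ?_ }
    have hR : p.obj a' = R := IsHomLift.domain_eq p (f ≫ g) χ
    have hR' : p.op.obj (Opposite.op a') = Opposite.op R := congrArg Opposite.op hR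
    let l := IsPreFibered.pullbackMap (p := p.op) hR' f.op
    have hl := IsFibered.isStronglyCartesian_of_isCartesian p.op f.op l
    have := isHomLift_op p (f ≫ g) χ
    let χ' := IsStronglyCartesian.map p.op f.op l (g := g.op) (f' := (f ≫ g).op) rfl χ.op
    have := isHomLift_unop p g.op χ'
    have : p.IsHomLift g χ'.unop := this
    let β := IsCartesian.map p g ψ χ'.unop
    have := isHomLift_op p (𝟙 S) β
    have : p.op.IsHomLift (𝟙 (Opposite.op S)) β.op := this
    have := isHomLift_unop p f.op (β.op ≫ l)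
    have : p.IsHomLift f (β.op ≫ l).unop := this
    let γ := IsCartesian.map p f φ (β.op ≫ l).unop
    refine ⟨γ, ⟨inferInstance, ?_⟩, fun γ' hγ' => ?_⟩
    · calc γ ≫ φ ≫ ψ = (β.op ≫ l).unop ≫ ψ := by rw [← Category.assoc, IsCartesian.fac]
        _ = l.unop ≫ χ'.unop := by rw [unop_comp, Category.assoc]; exact congrArg (l.unop ≫ ·) (IsCartesian.fac p g ψ χ'.unop)
        _ = χ := by rw [← unop_comp, IsStronglyCartesian.fac]; rfl
    · have := hγ'.1
      have := isHomLift_op p f (γ' ≫ φ)
      let β' := IsStronglyCartesian.map p.op f.op l (g := 𝟙 (Opposite.op S)) (f' := f.op) (Category.id_comp _).symm (γ' ≫ φ).op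
      have := isHomLift_unop p (𝟙 (Opposite.op S)) β'
      have : p.IsHomLift (𝟙 S) β'.unop := this
      have e₀ : l.unop ≫ β'.unop = γ' ≫ φ := by rw [← unop_comp, IsStronglyCartesian.fac]; rfl
      have e : β' = β.op := by
        apply Quiver.Hom.unop_inj
        refine IsCartesian.map_uniq p g ψ χ'.unop β'.unop (Quiver.Hom.op_inj ?_)
        have : p.op.IsHomLift g.op (β'.unop ≫ ψ).op := isHomLift_op p g (β'.unop ≫ ψ)
        have : p.op.IsHomLift g.op χ'.unop.op := inferInstanceAs (p.op.IsHomLift g.op χ')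
        refine IsStronglyCartesian.ext p.op f.op l g.op ?_
        have h2 : l.unop ≫ β'.unop ≫ ψ = l.unop ≫ χ'.unop := by
          rw [← Category.assoc, e₀, Category.assoc, hγ'.2, ← unop_comp, IsStronglyCartesian.fac]; rfl
        exact congrArg Quiver.Hom.op h2
      apply IsCartesian.map_uniq
      rw [← e₀, e]
      rfl

/-- If p : 𝒳 ⥤ C is both prefibred and co-prefibred (its opposite functor is prefibred), then p is
fibred if and only if it is co-fibred (its opposite functor is fibred). Prefibred and fibred are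
Mathlib's notions, which are the source's. -/
theorem result {C : Type u} [Category.{v} C] {𝒳 : Type u₂} [Category.{v₂} 𝒳]
    (p : 𝒳 ⥤ C) [p.IsPreFibered] [p.op.IsPreFibered] : p.IsFibered ↔ p.op.IsFibered := by
    exact ⟨fun _ => isFibered_op_of p, fun _ => isFibered_of_op p⟩

end Groth.Agent.S5144
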