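import Groth.Statements.S5147
import Groth.Agent.Lib.GalCat21.Exact

set_option autoImplicit false
universe u v w
open CategoryTheory PreGaloisCategory
open Pi1

namespace Groth.Agent.S5147

open CategoryTheory.Limits in
/-- In the situation of the first assertion, the stabilizer U of a contains the normal subgroup
generated by the image of u (hence also its closure, U being open) if and only if H(X) is isomorphic
to a finite coproduct of copies of the final object of C'. -/
theorem result {C C' : Type u} [Category.{v} C] [Category.{v} C']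
    [GaloisCategory C] [GaloisCategory C'] (H : C ⥤ C') [PreservesFiniteLimits H] [PreservesFiniteColimits H]
    (F' : C' ⥤ FintypeCat.{w}) [FiberFunctor F'] [FiberFunctor (H ⋙ F')] (X : C) [IsConnected X]
    (a : (H ⋙ F').obj X) :
    Subgroup.normalClosure ((Pi1X.autWhisker H F').range : Set (Aut (H ⋙ F'))) ≤ MulAction.stabilizer (Aut (H ⋙ F')) a ↔
      ∃ n : ℕ, Nonempty (H.obj X ≅ ∐ fun _ : Fin n => ⊤_ C') := by
  rw [← GrothLib.GalCat21.trivial_iff_coprod F']
  constructor
  · intro h σ b
    exact GrothLib.GalCat21.smul_eq_of_normal (N := Subgroup.normalClosure _) (a := a) h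
      (Subgroup.subset_normalClosure ⟨σ, rfl⟩) b
  · intro h
    let K : Subgroup (Aut (H ⋙ F')) := ⨅ b : (H ⋙ F').obj X, MulAction.stabilizer (Aut (H ⋙ F')) b
    haveI : K.Normal := ⟨fun n hn g => by
      simp only [K, Subgroup.mem_iInf, MulAction.mem_stabilizer_iff] at hn ⊢
      intro b
      rw [mul_smul, mul_smul, hn, smul_inv_smul]⟩
    refine (Subgroup.normalClosure_le_normal (N := K) ?_).trans (iInf_le _ a)
    rintro _ ⟨σ, rfl⟩
    simp only [K, SetLike.mem_coe, Subgroup.mem_iInf, MulAction.mem_stabilizer_iff]
    exact h σ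

end Groth.Agent.S5147
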