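import Groth.Statements.S5149
import Groth.Agent.Lib.GalCat21.Exact

set_option autoImplicit false
universe u v w
open CategoryTheory PreGaloisCategory
open Pi1

namespace Groth.Agent.S5149

open CategoryTheory.Limits in
/-- For exact functors H : C ⥤ C', H' : C' ⥤ C'' of Galois categories with compatible fibre functors and
induced homomorphisms u' and u of fundamental groups, the kernel of u is contained in the image of
u' if and only if every pointed connected object (X', a') of C' for which H'(X') has a section from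
the final object through a' admits a morphism from a connected subobject of some H(X). (The
published statement writes this inclusion as Ker u ⊇ Im u', which is the condition that u ∘ u' be
trivial; this row states Ker u ⊆ Im u', which is what the published argument establishes.) -/
theorem result {C C' C'' : Type u} [Category.{v} C] [Category.{v} C'] [Category.{v} C'']
    [GaloisCategory C] [GaloisCategory C'] [GaloisCategory C'']
    (H : C ⥤ C') [PreservesFiniteLimits H] [PreservesFiniteColimits H]
    (H' : C' ⥤ C'') [PreservesFiniteLimits H'] [PreservesFiniteColimits H']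
    (F'' : C'' ⥤ FintypeCat.{w}) [FiberFunctor F''] [FiberFunctor (H' ⋙ F'')] [FiberFunctor (H ⋙ (H' ⋙ F''))] :
    (Pi1X.autWhisker H (H' ⋙ F'')).ker ≤ (Pi1X.autWhisker H' F'').range ↔
      ∀ (X' : C') (a' : (H' ⋙ F'').obj X'), IsConnected X' →
        (∃ s : ⊤_ C'' ⟶ H'.obj X', ∀ t : F''.obj (⊤_ C''), F''.map s t = a') →
          ∃ (X : C) (Y' : C') (i : Y' ⟶ H.obj X) (q : Y' ⟶ X'), Mono i ∧ IsConnected Y' := by
  constructor
  · intro h X' a' hX' hsec
    haveI := hX'
    have hfix := (GrothLib.GalCat21.fixed_iff_section F'' (show F''.obj (H'.obj X') from a')).2 hsec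
    obtain ⟨X, Y', i, q, hi, hY, -⟩ := GrothLib.GalCat21.exists_dom_of_ker_le H (H' ⋙ F'') X' a' (fun τ hτ => by
      obtain ⟨σ, rfl⟩ := h hτ
      exact hfix σ)
    exact ⟨X, Y', i, q, hi, hY⟩
  · intro h σ hσ
    by_contra hσR
    obtain ⟨X, hX⟩ : ∃ X : PointedGaloisObject (H' ⋙ F''), ∀ τ ∈ Set.range (Pi1X.autWhisker H' F''),
        τ • X.pt ≠ σ • X.pt := by
      by_contra hne
      push Not at hne
      exact hσR (GrothLib.GalCat21.mem_of_forall_exists _ (GrothLib.GalCat21.isClosed_range H' F'') hne)
    let S := MulAction.stabilizer (Aut (H' ⋙ F'')) X.pt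
    haveI : S.Normal := stabilizer_normal_of_isGalois (H' ⋙ F'') X.obj X.pt
    let U := (Pi1X.autWhisker H' F'').range ⊔ S
    have hU : IsOpen (U : Set (Aut (H' ⋙ F''))) :=
      Subgroup.isOpen_mono le_sup_right (stabilizer_isOpen (Aut (H' ⋙ F'')) X.pt)
    obtain ⟨Q, q, hQ, hstab⟩ := GrothLib.GalCat21.exists_stabilizer_eq (H' ⋙ F'') U hU
    haveI := hQ
    obtain ⟨X₀, Y', i, p, hi, hY⟩ := h Q q hQ
      ((GrothLib.GalCat21.fixed_iff_section F'' (show F''.obj (H'.obj Q) from q)).1 fun s => by
        have : Pi1X.autWhisker H' F'' s ∈ MulAction.stabilizer (Aut (H' ⋙ F'')) q := by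
          rw [hstab]; exact Subgroup.mem_sup_left ⟨s, rfl⟩
        exact this)
    haveI := hY
    have hσU : σ ∈ U := hstab ▸ GrothLib.GalCat21.ker_le_of_dom H (H' ⋙ F'') Q q X₀ Y' i p hσ
    obtain ⟨τ, hτ, s, hsS, rfl⟩ := Subgroup.mem_sup_of_normal_right.1 hσU
    exact hX τ hτ (by rw [mul_smul, show s • X.pt = X.pt from hsS])

end Groth.Agent.S5149
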