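import Groth.Statements.S5150
import Groth.Agent.Lib.Depth.Reduce

set_option autoImplicit false
universe u
open CategoryTheory
open LocCoh

namespace Groth.Agent.S5150

open CategoryTheory GrothLib.Depth in
theorem main (A : Type u) [CommRing A] (N : ModuleCat.{u} A) (I : Ideal A) (k : ℕ)
    (hN : ∀ a ∈ I ^ k, ∀ y : N, a • y = 0) (rs : List A) (hI : ∀ r ∈ rs, r ∈ I) :
    ∀ (M : Type u) [AddCommGroup M] [Module A M], RingTheory.Sequence.IsWeaklyRegular M rs →
      ∀ i < rs.length, Subsingleton (Abelian.Ext N (ModuleCat.of A M) i) := by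
  induction rs with
  | nil => intro M _ _ _ i hi; simp at hi
  | cons x rs ih =>
    intro M _ _ h i hi
    rw [RingTheory.Sequence.isWeaklyRegular_cons_iff] at h
    have hS := IsSMulRegular.smulShortComplex_shortExact (M := ModuleCat.of A M) h.1
    have hmono : ∀ e : Abelian.Ext N (ModuleCat.of A M) i, x • e = 0 → e = 0 := by
      intro e he
      rw [Abelian.Ext.smul_eq_comp_mk₀, ← smulShortComplex_f] at he
      rcases i with - | j
      · have : Mono ((ModuleCat.of A M).smulShortComplex x).f := hS.mono_f
        exact (injective_iff_map_eq_zero _).1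
          (Abelian.Ext.postcomp_mk₀_injective_of_mono _ ((ModuleCat.of A M).smulShortComplex x).f) e he
      · obtain ⟨y, rfl⟩ := Abelian.Ext.covariant_sequence_exact₁ _ hS e he rfl
        have := ih (fun r hr => hI r (List.mem_cons_of_mem x hr)) (QuotSMulTop x M) h.2 j
          (by simpa using hi)
        rw [@Subsingleton.elim _ this y 0]
        exact Abelian.Ext.zero_comp N _ _ _ _
    refine subsingleton_of_forall_eq 0 fun e => ?_
    have hk : (x ^ k) • e = 0 := by
      have h0 : (x ^ k) • 𝟙 N = 0 := ModuleCat.hom_ext (LinearMap.ext fun y =>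
        hN _ (Ideal.pow_mem_pow (hI x List.mem_cons_self) k) y)
      rw [GrothLib.LC.smul_eq_mk₀_comp, h0, Abelian.Ext.mk₀_zero, Abelian.Ext.zero_comp]
    clear hi
    suffices ∀ (m : ℕ) (e : Abelian.Ext N (ModuleCat.of A M) i), x ^ m • e = 0 → e = 0 from this k e hk
    clear hk e
    intro m
    induction m with
    | zero => intro e hk; simpa using hk
    | succ k ih2 => intro e hk; exact hmono e (ih2 (x • e) (by rw [smul_smul, ← pow_succ]; exact hk))


/-- Let A be a commutative ring, I an ideal, M and N A-modules, and f_1, …, f_r a weakly M-regular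
sequence of elements of I. If N is killed by a power of I then Ext^i_A(N, M) vanishes for all i < r.
(No Noetherian or finiteness hypothesis on A, M or N.) -/
theorem result (A : Type u) [CommRing A] (I : Ideal A) (M N : Type u) [AddCommGroup M] [Module A M] [AddCommGroup N] [Module A N] (rs : List A) (hreg : RingTheory.Sequence.IsWeaklyRegular M rs) (hI : ∀ r ∈ rs, r ∈ I) (k : ℕ) (hN : (I ^ k) • (⊤ : Submodule A N) = ⊥) (i : ℕ) (hi : i < rs.length) : Subsingleton (Abelian.Ext (ModuleCat.of A N) (ModuleCat.of A M) i) := by
  refine main A (ModuleCat.of A N) I k (fun a ha y => ?_) rs hI M hreg i hi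
  exact (Submodule.mem_bot A).1 (hN ▸ Submodule.smul_mem_smul ha Submodule.mem_top)

end Groth.Agent.S5150
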