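import Groth.Statements.S5151
import Groth.Agent.Lib.Depth.Reduce

set_option autoImplicit false
universe u
open LocCoh

namespace Groth.Agent.S5151

/-- Let A be a Noetherian ring, I an ideal and M a finite A-module with IM ≠ M. Every weakly M-regular
sequence of elements of I can be extended to a maximal one (one after which no element of I is
M-regular on the quotient), and any maximal weakly M-regular sequence of elements of I has length
equal to the I-depth of M. (The published statement does not assume IM ≠ M; without it the first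
assertion fails: over ℤ with I = (2) and M = ℤ/3 the element 2 is M-regular with M/2M = 0, after
which every element of I is regular on the zero module, so no weakly M-regular sequence of elements
of I is maximal, while the I-depth is infinite. With IM ≠ M every weakly M-regular sequence in I is
M-regular and the I-depth is finite.) -/
theorem result (A : Type u) [CommRing A] [IsNoetherianRing A] (I : Ideal A) (M : Type u) [AddCommGroup M] [Module A M] [Module.Finite A M] (hIM : I • (⊤ : Submodule A M) ≠ ⊤) : (∀ rs : List A, RingTheory.Sequence.IsWeaklyRegular M rs → (∀ r ∈ rs, r ∈ I) → ∃ rs' : List A, rs <+: rs' ∧ RingTheory.Sequence.IsWeaklyRegular M rs' ∧ (∀ r ∈ rs', r ∈ I) ∧ ∀ r ∈ I, ¬ RingTheory.Sequence.IsWeaklyRegular M (rs' ++ [r])) ∧ (∀ rs : List A, RingTheory.Sequence.IsWeaklyRegular M rs → (∀ r ∈ rs, r ∈ I) → (∀ r ∈ I, ¬ RingTheory.Sequence.IsWeaklyRegular M (rs ++ [r])) → (rs.length : ℕ∞) = LocCoh.idealDepth I M) := by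
  classical
  constructor
  · intro rs hreg hmem
    let S : Set (List A) := {l | rs <+: l ∧ RingTheory.Sequence.IsWeaklyRegular M l ∧ ∀ r ∈ l, r ∈ I}
    let T : Set (Submodule A M) := (fun l : List A => Ideal.ofList l • (⊤ : Submodule A M)) '' S
    obtain ⟨_, ⟨l, ⟨hl1, hl2, hl3⟩, rfl⟩, hmax⟩ :=
      set_has_maximal_iff_noetherian.2 (inferInstance : IsNoetherian A M) T
        ⟨_, rs, ⟨List.prefix_rfl, hreg, hmem⟩, rfl⟩
    refine ⟨l, hl1, hl2, hl3, fun r hr hbad => ?_⟩
    have hall : ∀ s ∈ l ++ [r], s ∈ I := by
      intro s hs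
      rcases List.mem_append.1 hs with hs | hs
      · exact hl3 s hs
      · rw [List.mem_singleton.1 hs]; exact hr
    refine hmax (Ideal.ofList (l ++ [r]) • ⊤) ⟨l ++ [r], ⟨hl1.trans (List.prefix_append l [r]), hbad, hall⟩, rfl⟩ ?_
    refine lt_of_le_of_ne (Submodule.smul_mono_left (Ideal.span_mono fun s hs => List.mem_append_left [r] hs))
      fun heq => ?_
    rw [RingTheory.Sequence.isWeaklyRegular_append_iff,
      RingTheory.Sequence.isWeaklyRegular_singleton_iff] at hbad
    have hr0 : ∀ m : M ⧸ (Ideal.ofList l • ⊤ : Submodule A M), m = 0 := by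
      intro m
      refine hbad.2 ?_
      obtain ⟨m, rfl⟩ := Submodule.Quotient.mk_surjective _ m
      show r • Submodule.Quotient.mk m = r • (0 : M ⧸ (Ideal.ofList l • ⊤ : Submodule A M))
      rw [smul_zero, ← Submodule.Quotient.mk_smul, Submodule.Quotient.mk_eq_zero]
      have := congrArg (r • m ∈ ·) heq
      exact this.mpr (Submodule.smul_mem_smul (Ideal.subset_span (by simp)) Submodule.mem_top)
    refine hIM (top_le_iff.1 fun m _ => Submodule.smul_mono_left (Ideal.span_le.2 hl3) ?_)
    exact (Submodule.Quotient.mk_eq_zero _).1 (hr0 (Submodule.Quotient.mk m))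
  · intro rs hreg hmem hmax
    rw [GrothLib.Depth.idealDepth_ofList I rs hmem M hreg]
    have hne : I • (⊤ : Submodule A (M ⧸ (Ideal.ofList rs • ⊤ : Submodule A M))) ≠ ⊤ := by
      intro htop
      refine hIM (top_le_iff.1 fun m _ => ?_)
      have hm : Submodule.Quotient.mk m ∈
          Submodule.map (Submodule.mkQ (Ideal.ofList rs • ⊤ : Submodule A M)) (I • ⊤) := by
        rw [Submodule.map_smul'', Submodule.map_top, Submodule.range_mkQ, htop]
        exact Submodule.mem_top
      obtain ⟨y, hy, hym⟩ := hm
      have h' : y - m ∈ I • (⊤ : Submodule A M) :=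
        Submodule.smul_mono_left (Ideal.span_le.2 hmem) ((Submodule.Quotient.eq _).1 hym)
      simpa using (I • (⊤ : Submodule A M)).sub_mem hy h'
    have h0 : LocCoh.idealDepth I (M ⧸ (Ideal.ofList rs • ⊤ : Submodule A M)) = 0 := by
      by_contra h
      obtain ⟨l, hl1, hl2, hl3⟩ :=
        (GrothLib.Depth.le_idealDepth_iff_exists I hne 1).1
          (by exact_mod_cast Order.one_le_iff_pos.2 (pos_iff_ne_zero.2 h))
      obtain ⟨r, rfl⟩ := List.length_eq_one_iff.1 hl1
      exact hmax r (hl2 r (List.mem_singleton_self r))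
        ((RingTheory.Sequence.isWeaklyRegular_append_iff _ _ _).2 ⟨hreg, hl3⟩)
    rw [h0, zero_add]

end Groth.Agent.S5151
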