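import Groth.Statements.S5155
import Groth.Agent.Lib.InjMod.Matlis

set_option autoImplicit false
universe u
open Matlis

namespace Groth.Agent.S5155

/-- Let A be a Noetherian local ring with residue field k. An A-module E is an injective hull of k if
and only if E is injective, E is m-power torsion, and Hom_A(k, E) is simple (one-dimensional over
k). (The torsion condition is needed: for a prime p ≠ m the module E(k) ⊕ E(A/p) is injective with
Hom_A(k, −) simple, represents the same functor on modules of finite length, and is not an injective
hull of k; the published definition of a dualizing module leaves this condition implicit and the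
published proof uses it.) -/
theorem result (A : Type u) [CommRing A] [IsLocalRing A] [IsNoetherianRing A] (E : Type u) [AddCommGroup E] [Module A E] : (∃ f : IsLocalRing.ResidueField A →ₗ[A] E, InjHull.IsInjectiveHull f) ↔ (Module.Injective A E ∧ LocCoh.IsPowerTorsion (IsLocalRing.maximalIdeal A) E ∧ IsSimpleModule A (IsLocalRing.ResidueField A →ₗ[A] E)) := by
    constructor
    · rintro ⟨f, hf⟩
      haveI := GrothLib.Matlis.isSimpleModule_torsionBy (m := IsLocalRing.maximalIdeal A) hf.toIsEssentialInj
      exact ⟨hf.isInjective, GrothLib.Matlis.isPowerTorsion_of_hull (m := IsLocalRing.maximalIdeal A) hf,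
        IsSimpleModule.congr (GrothLib.Matlis.homQuotEquiv (IsLocalRing.maximalIdeal A) E)⟩
    · rintro ⟨hinj, htor, hsimple⟩
      haveI : IsSimpleModule A ((A ⧸ IsLocalRing.maximalIdeal A) →ₗ[A] E) := hsimple
      haveI hns : IsSimpleModule A (LocCoh.torsionBy (IsLocalRing.maximalIdeal A) E) :=
        IsSimpleModule.congr (GrothLib.Matlis.homQuotEquiv (IsLocalRing.maximalIdeal A) E).symm
      haveI := IsSimpleModule.nontrivial A (IsLocalRing.ResidueField A →ₗ[A] E)
      obtain ⟨f, hf0⟩ := exists_ne (0 : IsLocalRing.ResidueField A →ₗ[A] E)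
      haveI : IsSimpleModule A (IsLocalRing.ResidueField A) :=
        (isSimpleModule_iff_isCoatom.2 (Ideal.isMaximal_def.1 (IsLocalRing.maximalIdeal.isMaximal A)) :
          IsSimpleModule A (A ⧸ IsLocalRing.maximalIdeal A))
      have hfi : Function.Injective f := (LinearMap.injective_or_eq_zero f).resolve_right hf0
      refine ⟨f, ⟨⟨hfi, fun N hN hbot => ?_⟩, hinj⟩⟩
      obtain ⟨x, hx, hx0⟩ := Submodule.exists_mem_ne_zero_of_ne_bot hN
      obtain ⟨a, ha, ha0⟩ := GrothLib.Matlis.exists_smul_mem_socle htor hx0
      have hle := GrothLib.Matlis.range_le_torsionBy (m := IsLocalRing.maximalIdeal A) f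
      have hr : LinearMap.range f = LocCoh.torsionBy (IsLocalRing.maximalIdeal A) E := by
        rcases (isSimpleModule_iff_isAtom.1 hns).le_iff.1 hle with h | h
        · exact absurd (LinearMap.range_eq_bot.1 h) hf0
        · exact h
      have : a • x ∈ N ⊓ LinearMap.range f := ⟨N.smul_mem a hx, hr ▸ ha⟩
      rw [hbot, Submodule.mem_bot] at this
      exact ha0 this

end Groth.Agent.S5155
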