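import Groth.Statements.S5156
import Groth.Agent.Lib.InjMod.Matlis
import Groth.Agent.S5155
import Mathlib.Algebra.Category.ModuleCat.ChangeOfRings
import Mathlib.RingTheory.IntegralClosure.IsIntegralClosure.Basic
import Mathlib.CategoryTheory.Preadditive.Injective.Basic

set_option autoImplicit false
universe u
open Matlis

namespace Groth.Agent.S5156

/-- Let A and B be Noetherian local rings with B a finite A-algebra, and E an injective hull of the
residue field of A (a dualizing module for A). Then Hom_A(B, E), as a B-module through the action on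
the source, is an injective hull of the residue field of B (a dualizing module for B). -/
theorem result (A B : Type u) [CommRing A] [IsLocalRing A] [IsNoetherianRing A] [CommRing B] [IsLocalRing B] [IsNoetherianRing B] [Algebra A B] [Module.Finite A B] (E : Type u) [AddCommGroup E] [Module A E] (f : IsLocalRing.ResidueField A →ₗ[A] E) (hf : InjHull.IsInjectiveHull f) : ∃ g : IsLocalRing.ResidueField B →ₗ[B] (ModuleCat.coextendScalars (algebraMap A B)).obj (ModuleCat.of A E), InjHull.IsInjectiveHull g := by
    let φr := algebraMap A B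
    let H := (ModuleCat.coextendScalars φr).obj (ModuleCat.of A E)
    haveI hinjE : CategoryTheory.Injective (ModuleCat.of A E) :=
      (Module.injective_iff_injective_object A E).1 hf.isInjective
    have hinj : Module.Injective B H := by
      haveI : CategoryTheory.Injective H :=
        (ModuleCat.restrictCoextendScalarsAdj φr).map_injective _ hinjE
      exact Module.injective_module_of_injective_object B H
    let θ : H ≃+ (B →ₗ[A] E) :=
      { toFun := fun g =>
          { toFun := fun x => g x
            map_add' := fun x y => (ModuleCat.CoextendScalars.equiv φr _ g).map_add x y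
            map_smul' := fun r x => by
              rw [Algebra.smul_def]
              exact (ModuleCat.CoextendScalars.equiv φr _ g).map_smul r x }
        invFun := fun ψ => (ModuleCat.CoextendScalars.equiv φr (ModuleCat.of A E)).symm
          { toFun := fun x : B => ψ x
            map_add' := fun x y : B => ψ.map_add x y
            map_smul' := fun r (x : B) => by
              show ψ (φr r * x) = r • ψ x
              rw [← Algebra.smul_def, map_smul] }
        left_inv := fun g => rfl
        right_inv := fun ψ => rfl
        map_add' := fun g h => rfl }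
    have hθ : ∀ (s : B) (g : H) (x : B), θ (s • g) x = θ g (x * s) := fun _ _ _ => rfl
    let 𝔫 := IsLocalRing.maximalIdeal B
    let 𝔪 := IsLocalRing.maximalIdeal A
    have hne : 𝔪.map φr ≠ ⊤ := fun h => by
      have : (⊤ : Submodule A B) ≤ 𝔪 • ⊤ := by
        rw [Ideal.smul_top_eq_map]
        intro x _
        show x ∈ 𝔪.map φr
        rw [h]
        trivial
      have hbot := Submodule.eq_bot_of_le_smul_of_le_jacobson_bot 𝔪 (⊤ : Submodule A B) Module.Finite.fg_top this
        (IsLocalRing.maximalIdeal_le_jacobson _)
      exact one_ne_zero ((Submodule.mem_bot A).1 (hbot ▸ Submodule.mem_top : (1 : B) ∈ (⊥ : Submodule A B)))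
    have hle : 𝔪.map φr ≤ 𝔫 := IsLocalRing.le_maximalIdeal hne
    have hrad : 𝔫 ≤ (𝔪.map φr).radical := by
      rw [Ideal.radical_eq_sInf]
      refine le_sInf fun q ⟨hq, hqp⟩ => ?_
      haveI := hqp
      haveI hqm : (q.comap φr).IsMaximal :=
        (IsLocalRing.maximalIdeal.isMaximal A).eq_of_le (Ideal.IsPrime.ne_top (hqp.comap φr))
          (Ideal.map_le_iff_le_comap.1 hq) ▸ IsLocalRing.maximalIdeal.isMaximal A
      haveI : Algebra.IsIntegral A B := Algebra.IsIntegral.of_finite A B
      exact (IsLocalRing.eq_maximalIdeal (Ideal.isMaximal_of_isIntegral_of_isMaximal_comap (R := A) q hqm)).ge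
    obtain ⟨K, hK⟩ := Ideal.exists_pow_le_of_le_radical_of_fg hrad (IsNoetherian.noetherian 𝔫)
    have hEtor := GrothLib.Matlis.isPowerTorsion_of_hull (m := IsLocalRing.maximalIdeal A) hf
    have htor : LocCoh.IsPowerTorsion 𝔫 H := fun g => by
      classical
      obtain ⟨s, hs⟩ := Module.Finite.fg_top (R := A) (M := B)
      choose n hn using fun x : B => hEtor (θ g x)
      let N := s.sup n
      have hN : ∀ a ∈ 𝔪 ^ N, ∀ x : B, a • θ g x = 0 := by
        intro a ha x
        have hx : x ∈ Submodule.span A (s : Set B) := hs ▸ Submodule.mem_top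
        induction hx using Submodule.span_induction with
        | mem x hx => exact hn x a (Ideal.pow_le_pow_right (Finset.le_sup hx) ha)
        | zero => rw [map_zero, smul_zero]
        | add x y _ _ hx hy => rw [map_add, smul_add, hx, hy, add_zero]
        | smul r x _ hx => rw [map_smul, smul_comm, hx, smul_zero]
      have hann : (𝔪 ^ N).map φr ≤ (Submodule.span B {g}).annihilator := by
        rw [Ideal.map_le_iff_le_comap]
        intro a ha
        rw [Ideal.mem_comap, Submodule.mem_annihilator_span_singleton]
        refine θ.injective (LinearMap.ext fun x => ?_)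
        rw [hθ, map_zero, mul_comm, ← Algebra.smul_def, map_smul]
        exact hN a ha x
      refine ⟨K * N, fun b hb => (Submodule.mem_annihilator_span_singleton g b).1 (hann ?_)⟩
      rw [Ideal.map_pow]
      rw [pow_mul] at hb
      exact Ideal.pow_right_mono hK N hb
    let kB := B ⧸ 𝔫
    let T := LocCoh.torsionBy 𝔫 H
    have hvan : ∀ (g : T), Submodule.restrictScalars A 𝔫 ≤ LinearMap.ker (θ g.1) := fun g z hz =>
      LinearMap.mem_ker.2 (by
        have := congrArg (fun h => θ h 1) ((Submodule.mem_torsionBySet_iff _ _).1 g.2 ⟨z, hz⟩)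
        simp only [hθ, one_mul, map_zero, LinearMap.zero_apply] at this
        exact this)
    have hkill : ∀ a ∈ 𝔪 ^ 1, ∀ z : kB, a • z = 0 := fun a ha z => by
      obtain ⟨z, rfl⟩ := Submodule.Quotient.mk_surjective _ z
      rw [← Submodule.Quotient.mk_smul, Submodule.Quotient.mk_eq_zero, Algebra.smul_def]
      exact Ideal.mul_mem_right _ _ (hle (Ideal.mem_map_of_mem φr (by rwa [pow_one] at ha)))
    haveI : IsArtinian A kB := (GrothLib.LC.finite_iff_isArtinian_of_pow_smul 𝔪 hkill).1 inferInstance
    have hfl : IsFiniteLength A kB := isFiniteLength_iff_isNoetherian_isArtinian.2 ⟨inferInstance, inferInstance⟩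
    let mkA : B →ₗ[A] kB := (Ideal.Quotient.mkₐ A 𝔫).toLinearMap
    have hmkA : Function.Surjective mkA := Ideal.Quotient.mk_surjective
    have hmem : ∀ ψ : kB →ₗ[A] E, θ.symm (ψ ∘ₗ mkA) ∈ T := fun ψ =>
      (Submodule.mem_torsionBySet_iff _ _).2 fun b => θ.injective (LinearMap.ext fun x => by
        rw [hθ, map_zero, AddEquiv.apply_symm_apply]
        show ψ (Ideal.Quotient.mk 𝔫 (x * b)) = 0
        rw [Ideal.Quotient.eq_zero_iff_mem.2 (Ideal.mul_mem_left _ x b.2), map_zero])
    haveI : IsSimpleModule B T := by
      rw [isSimpleModule_iff_toSpanSingleton_surjective]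
      refine ⟨?_, fun g hg => ?_⟩
      · obtain ⟨ψ, hψ⟩ := GrothLib.Matlis.exists_apply_ne_zero hf (x := (1 : kB)) one_ne_zero
        refine ⟨⟨⟨_, hmem ψ⟩, 0, fun h => hψ ?_⟩⟩
        have := congrArg (fun t : T => θ t.1 1) h
        simp only [AddEquiv.apply_symm_apply, ZeroMemClass.coe_zero, map_zero, LinearMap.zero_apply] at this
        exact this
      · let ψ : kB →ₗ[A] E :=
          (Submodule.restrictScalars A 𝔫).liftQ (θ g.1) (hvan g) ∘ₗ
            (Submodule.Quotient.restrictScalarsEquiv A 𝔫).symm.toLinearMap
        have hψ : ∀ x : B, ψ (Ideal.Quotient.mk 𝔫 x) = θ g.1 x := fun x => rfl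
        let L : kB →ₗ[A] (kB →ₗ[A] E) :=
          { toFun := fun c => ψ ∘ₗ LinearMap.mulRight A c
            map_add' := fun c d => LinearMap.ext fun x => by simp [mul_add]
            map_smul' := fun r c => LinearMap.ext fun x => by simp [map_smul] }
        have hL : Function.Injective L := by
          rw [injective_iff_map_eq_zero]
          intro c hc
          obtain ⟨c, rfl⟩ := Ideal.Quotient.mk_surjective c
          by_contra hc0
          have hcu : IsUnit c := IsLocalRing.notMem_maximalIdeal.1 fun h => hc0 (Ideal.Quotient.eq_zero_iff_mem.2 h)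
          obtain ⟨d, hd⟩ := hcu.exists_left_inv
          refine hg (Subtype.ext (θ.injective (LinearMap.ext fun x => ?_)))
          rw [ZeroMemClass.coe_zero, map_zero, ← hψ]
          have := LinearMap.congr_fun hc (Ideal.Quotient.mk 𝔫 (x * d))
          simp only [L, LinearMap.coe_mk, AddHom.coe_mk, LinearMap.comp_apply, LinearMap.mulRight_apply,
            ← map_mul, mul_assoc, hd, mul_one, LinearMap.zero_apply] at this
          exact this
        have hsurj := GrothLib.Matlis.surjective_of_length_eq L hL
          (GrothLib.Matlis.length_linearMap hf hfl).symm (Module.length_ne_top_iff.2 hfl)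
        intro g'
        let ψ' : kB →ₗ[A] E :=
          (Submodule.restrictScalars A 𝔫).liftQ (θ g'.1) (hvan g') ∘ₗ
            (Submodule.Quotient.restrictScalarsEquiv A 𝔫).symm.toLinearMap
        obtain ⟨c, hc⟩ := hsurj ψ'
        obtain ⟨c, rfl⟩ := Ideal.Quotient.mk_surjective c
        refine ⟨c, Subtype.ext (θ.injective (LinearMap.ext fun x => ?_))⟩
        show θ (c • g.1) x = θ g'.1 x
        rw [hθ, ← hψ, map_mul]
        exact LinearMap.congr_fun hc (Ideal.Quotient.mk 𝔫 x)
    exact (Groth.Agent.S5155.result B H).2 ⟨hinj, htor,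
      IsSimpleModule.congr (GrothLib.Matlis.homQuotEquiv 𝔫 H)⟩

end Groth.Agent.S5156
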