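import Groth.Statements.S5157
import Groth.Agent.Lib.InjMod.TorsionHull
import Groth.Agent.Lib.InjMod.Matlis

set_option autoImplicit false
universe u
open Matlis

namespace Groth.Agent.S5157

/-- Let A be a Noetherian local ring, a an ideal with A/a local (i.e. a ≠ A) and E an injective hull of
the residue field of A. Then the annihilator of a in E, E[a] = {e | a e = 0}, is an injective hull
of the residue field of A/a over A/a. -/
theorem result (A : Type u) [CommRing A] [IsLocalRing A] [IsNoetherianRing A] (a : Ideal A) [IsLocalRing (A ⧸ a)] (E : Type u) [AddCommGroup E] [Module A E] (f : IsLocalRing.ResidueField A →ₗ[A] E) (hf : InjHull.IsInjectiveHull f) : ∃ g : IsLocalRing.ResidueField (A ⧸ a) →ₗ[A ⧸ a] (LocCoh.torsionBy a E), InjHull.IsInjectiveHull g := by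
    have ha : a ≤ IsLocalRing.maximalIdeal A := IsLocalRing.le_maximalIdeal fun h =>
      (not_subsingleton (A ⧸ a)) (Ideal.Quotient.subsingleton_iff.2 h)
    let ρ : A →+* IsLocalRing.ResidueField (A ⧸ a) := (IsLocalRing.residue (A ⧸ a)).comp (Ideal.Quotient.mk a)
    have hρ : Function.Surjective ρ := IsLocalRing.residue_surjective.comp Ideal.Quotient.mk_surjective
    have hker : RingHom.ker ρ = IsLocalRing.maximalIdeal A :=
      IsLocalRing.eq_maximalIdeal (RingHom.ker_isMaximal_of_surjective ρ hρ)
    let e : IsLocalRing.ResidueField (A ⧸ a) ≃ₗ[A] A ⧸ IsLocalRing.maximalIdeal A :=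
      { ((RingHom.quotientKerEquivOfSurjective hρ).symm.trans (Ideal.quotEquivOfEq hker)).toAddEquiv with
        map_smul' := fun r x => by
          obtain ⟨y, rfl⟩ := hρ x
          have h1 : ∀ z, ((RingHom.quotientKerEquivOfSurjective hρ).symm.trans (Ideal.quotEquivOfEq hker)) (ρ z) =
              Ideal.Quotient.mk (IsLocalRing.maximalIdeal A) z := fun z => by
            have : (RingHom.quotientKerEquivOfSurjective hρ).symm (ρ z) = Ideal.Quotient.mk _ z := by
              rw [RingEquiv.symm_apply_eq]; rfl
            rw [RingEquiv.trans_apply, this]; rfl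
          show ((RingHom.quotientKerEquivOfSurjective hρ).symm.trans (Ideal.quotEquivOfEq hker)) (r • ρ y) = r • _
          rw [show r • ρ y = ρ (r * y) by rw [map_mul, Algebra.smul_def]; rfl, h1]
          show _ = r • ((RingHom.quotientKerEquivOfSurjective hρ).symm.trans (Ideal.quotEquivOfEq hker)) (ρ y)
          rw [h1, map_mul, Algebra.smul_def]
          rfl }
    have hf' : InjHull.IsInjectiveHull (f ∘ₗ e.toLinearMap) := by
      refine ⟨⟨hf.injective.comp e.injective, fun N hN => ?_⟩, hf.isInjective⟩
      intro hbot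
      refine hf.essential N hN (le_bot_iff.1 (le_trans (inf_le_inf_left N ?_) hbot.le))
      rintro _ ⟨x, rfl⟩
      exact ⟨e.symm x, congrArg f (e.apply_symm_apply x)⟩
    obtain ⟨g, hg, -⟩ := GrothLib.InjMod.exists_hull_torsionBy a hf'
    exact ⟨g, hg⟩

end Groth.Agent.S5157
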