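import Groth.Statements.S5165
import Groth.Agent.Lib.Serre.Regular
import Mathlib.RingTheory.LocalProperties.ProjectiveDimension
import Mathlib.RingTheory.Spectrum.Prime.FreeLocus

set_option autoImplicit false
universe u
open CategoryTheory
open LocCoh

namespace Groth.Agent.S5165

theorem isOpen_pdLE {A : Type u} [CommRing A] [IsNoetherianRing A] (n : ℕ) :
    ∀ (M : ModuleCat.{u} A) [Module.Finite A M], IsOpen {p : PrimeSpectrum A |
      HasProjectiveDimensionLE (M.localizedModule p.asIdeal.primeCompl) n} := by
  induction n with
  | zero =>
    intro M _
    haveI : Module.FinitePresentation A M := Module.finitePresentation_of_finite A M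
    suffices h : {p : PrimeSpectrum A | HasProjectiveDimensionLE (M.localizedModule p.asIdeal.primeCompl) 0} =
        Module.freeLocus A M by
      rw [h]; exact Module.isOpen_freeLocus
    ext p
    simp only [Set.mem_setOf_eq, HasProjectiveDimensionLE, zero_add, Module.mem_freeLocus,
      ← projective_iff_hasProjectiveDimensionLT_one]
    rw [← IsProjective.iff_projective]
    let e : (M.localizedModule p.asIdeal.primeCompl : Type u) ≃ₗ[Localization.AtPrime p.asIdeal]
        LocalizedModule p.asIdeal.primeCompl M := Shrink.linearEquiv _ _
    constructor
    · intro h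
      haveI : Module.Projective (Localization.AtPrime p.asIdeal)
          (LocalizedModule p.asIdeal.primeCompl M) := Module.Projective.of_equiv e
      haveI : Module.Finite (Localization.AtPrime p.asIdeal) (LocalizedModule p.asIdeal.primeCompl M) :=
        Module.Finite.of_isLocalizedModule p.asIdeal.primeCompl
          (LocalizedModule.mkLinearMap p.asIdeal.primeCompl M)
      haveI : Module.Flat (Localization.AtPrime p.asIdeal) (LocalizedModule p.asIdeal.primeCompl M) :=
        Module.Flat.of_projective
      exact Module.free_of_flat_of_isLocalRing
    · intro h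
      haveI : Module.Free (Localization.AtPrime p.asIdeal) (LocalizedModule p.asIdeal.primeCompl M) := h
      haveI : Module.Projective (Localization.AtPrime p.asIdeal) (LocalizedModule p.asIdeal.primeCompl M) :=
        Module.Projective.of_free
      exact Module.Projective.of_equiv e.symm
  | succ n ih =>
    intro M _
    obtain ⟨P, _, _, _, _, f, surjf⟩ := Module.exists_finite_presentation A M
    have hS := LinearMap.shortExact_shortComplexKer surjf
    have proj := ModuleCat.projective_of_categoryTheory_projective f.shortComplexKer.X₂
    convert ih (ModuleCat.of A (LinearMap.ker f)) using 1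
    ext p
    have hSp := hS.map_of_exact (ModuleCat.localizedModuleFunctor p.asIdeal.primeCompl)
    exact hSp.hasProjectiveDimensionLT_X₃_iff n
      ((ModuleCat.localizedModuleFunctor.{u} p.asIdeal.primeCompl).projective_obj_of_projective proj)


/-- Suppose A is a regular Noetherian ring and consider a finitely generated A-module M. Then some
natural number d bounds the projective dimension of M (equivalently, p ↦ proj.dim M_p stays bounded
as p ranges over Spec A, and this holds even if the Krull dimension of A is infinite). -/
theorem result (A : Type u) [CommRing A] [IsRegularRing A] (M : Type u) [AddCommGroup M] [Module A M] [Module.Finite A M] : ∃ d : ℕ, HasProjectiveDimensionLE (ModuleCat.of A M) d := by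
  let U : ℕ → Set (PrimeSpectrum A) := fun n =>
    {p | HasProjectiveDimensionLE ((ModuleCat.of A M).localizedModule p.asIdeal.primeCompl) n}
  have hcover : (Set.univ : Set (PrimeSpectrum A)) ⊆ ⋃ n, U n := fun p _ => by
    haveI := IsRegularRing.isRegularLocalRing_localization p.asIdeal
    obtain ⟨k, hk⟩ : ∃ k : ℕ, ringKrullDim (Localization.AtPrime p.asIdeal) = k :=
      ⟨_, (IsRegularLocalRing.spanFinrank_maximalIdeal (R := Localization.AtPrime p.asIdeal)).symm⟩
    exact Set.mem_iUnion.2 ⟨k, GrothLib.Serre.pdLE_of_isRegularLocalRing _ k hk _⟩
  obtain ⟨d, hd⟩ := isCompact_univ.elim_directed_cover U (fun n => isOpen_pdLE n (ModuleCat.of A M))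
    hcover (Monotone.directed_le fun a b hab p hp =>
      haveI : HasProjectiveDimensionLE _ a := hp
      hasProjectiveDimensionLT_of_ge _ (a + 1) (b + 1) (by omega))
  exact ⟨d, ((ModuleCat.of A M).hasProjectiveDimensionLE_iff_forall_primeSpectrum d).2
    fun p => hd (Set.mem_univ p)⟩

end Groth.Agent.S5165
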