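import Groth.Statements.S5166
import Groth.Agent.Lib.CAux.Primes

set_option autoImplicit false
universe u
open LocCoh

namespace Groth.Agent.S5166

/-- In its local form at a point y ∈ Y (A = O_{X,y}). Let A be a Noetherian local ring and I ≠ A an
ideal contained in no minimal prime of A. Then some prime p ⊉ I has dim A/p = 1. -/
theorem result (A : Type u) [CommRing A] [IsLocalRing A] [IsNoetherianRing A] (I : Ideal A) (hI : I ≠ ⊤) (hdense : ∀ q ∈ minimalPrimes A, ¬ I ≤ q) : ∃ p : PrimeSpectrum A, ¬ I ≤ p.asIdeal ∧ ringKrullDim (A ⧸ p.asIdeal) = 1 := by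
  obtain ⟨q₀, hq₀⟩ : (minimalPrimes A).Nonempty := Set.nonempty_coe_sort.1 (Ideal.nonempty_minimalPrimes bot_ne_top)
  obtain ⟨p, ⟨hp, hIp⟩, hmax⟩ := set_has_maximal_iff_noetherian.2 (inferInstance : IsNoetherian A A)
    {p : Ideal A | p.IsPrime ∧ ¬ I ≤ p} ⟨q₀, hq₀.1.1, hdense q₀ hq₀⟩
  refine ⟨⟨p, hp⟩, hIp, ?_⟩
  change ringKrullDim (A ⧸ p) = 1
  have hpm : p < IsLocalRing.maximalIdeal A := lt_of_le_not_ge (IsLocalRing.le_maximalIdeal hp.ne_top)
    fun h => hIp (le_trans (IsLocalRing.le_maximalIdeal hI) h)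
  have : IsLocalRing (A ⧸ p) := IsLocalRing.of_surjective' (Ideal.Quotient.mk p) Ideal.Quotient.mk_surjective
  have hmap : (IsLocalRing.maximalIdeal A).map (Ideal.Quotient.mk p) = IsLocalRing.maximalIdeal (A ⧸ p) := by
    refine IsLocalRing.eq_maximalIdeal (Ideal.IsMaximal.map_of_surjective_of_ker_le Ideal.Quotient.mk_surjective (by rw [Ideal.mk_ker]; exact hpm.le))
  rw [← IsLocalRing.maximalIdeal_height_eq_ringKrullDim, ← hmap]
  refine congrArg WithBot.some (le_antisymm ?_ ?_)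
  · by_contra hgt
    obtain ⟨a, haI, hap⟩ := SetLike.not_le_iff_exists.1 hIp
    obtain ⟨t, ht, hpt, -, hat⟩ := GrothLib.CAux.exists_prime_between p (IsLocalRing.maximalIdeal A) hpm
      (not_le.1 hgt) a (IsLocalRing.le_maximalIdeal hI haI) hap
    exact hmax t ⟨ht, fun h => hat (h haI)⟩ hpt
  · have := GrothLib.CAux.map_mk_isPrime (s := p) (P := p) le_rfl
    have := GrothLib.CAux.map_mk_isPrime (s := p) (P := IsLocalRing.maximalIdeal A) hpm.le
    exact le_trans le_add_self (Ideal.height_add_one_le_of_lt_of_isPrime (GrothLib.CAux.map_mk_lt le_rfl hpm))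

end Groth.Agent.S5166
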