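import Groth.Statements.S5167
import Groth.Agent.Lib.Faltings.UpperBound
import Groth.Agent.Lib.Faltings.LowerBound
import Groth.Agent.Lib.Faltings.Finite
import Groth.Agent.Lib.Serre.Ring

set_option autoImplicit false
universe u
open LocCoh

namespace Groth.Agent.S5167

/-- Let A be a Noetherian local ring which is a quotient of a regular local ring, m its maximal ideal, M
a finite A-module and n ≥ 0. Then H^i_m(M) is of finite length for all i ≤ n if and only if
depth(M_p) > n − dim(A/p) for every prime p ≠ m. -/
theorem result (R : Type u) [CommRing R] [IsRegularLocalRing R] (A : Type u) [CommRing A] [IsLocalRing A] [IsNoetherianRing A] (π : R →+* A) (hπ : Function.Surjective π) (M : Type u) [AddCommGroup M] [Module A M] [Module.Finite A M] (n : ℕ) : (∀ i : ℕ, i ≤ n → IsFiniteLength A (LocCoh.H (IsLocalRing.maximalIdeal A) i M)) ↔ ∀ p : PrimeSpectrum A, p.asIdeal ≠ IsLocalRing.maximalIdeal A → ∀ e : ℕ, ringKrullDim (A ⧸ p.asIdeal) = e → (n : ℕ∞) < LocCoh.depth (Localization.AtPrime p.asIdeal) (LocalizedModule p.asIdeal.primeCompl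 M) + e := by
  haveI : IsRegularRing R := GrothLib.Serre.isRegularRing_of_isRegularLocalRing R
  set m := IsLocalRing.maximalIdeal A with hm
  have hfd : LocCoh.finDimRel m m M = LocCoh.minAdjDepth m m M :=
    le_antisymm (le_iInf₂ fun p hp => GrothLib.Faltings.finDimRel_le_adjDepth m m M p hp)
      (GrothLib.Faltings.minAdjDepth_le_finDimRel π hπ m m M)
  have h1 : (∀ i : ℕ, i ≤ n → IsFiniteLength A (LocCoh.H m i M)) ↔
      ((n + 1 : ℕ) : ℕ∞) ≤ LocCoh.finDimRel m m M := by
    rw [GrothLib.Faltings.le_finDimRel_iff]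
    constructor
    · intro h i hi x hx
      haveI := (isFiniteLength_iff_isNoetherian_isArtinian.1 (h i (by omega))).1
      exact GrothLib.Faltings.killed_of_finite hx
    · intro h i hi
      haveI := GrothLib.Faltings.finite_of_killed (I := m) i M fun j hj => h j (by omega)
      exact isFiniteLength_iff_isNoetherian_isArtinian.2
        ⟨inferInstance, GrothLib.LC.isArtinian_H_maximal i M⟩
  rw [h1, hfd, LocCoh.minAdjDepth, le_iInf₂_iff]
  have hadj : ∀ (p : PrimeSpectrum A) (e : ℕ), ringKrullDim (A ⧸ p.asIdeal) = e →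
      LocCoh.adjDepth m M p =
        LocCoh.depth (Localization.AtPrime p.asIdeal) (LocalizedModule p.asIdeal.primeCompl M) + e := by
    intro p e he
    haveI : IsLocalRing (A ⧸ p.asIdeal) := IsLocalRing.of_surjective' _ Ideal.Quotient.mk_surjective
    have hpm : p.asIdeal ≤ m := IsLocalRing.le_maximalIdeal p.isPrime.ne_top
    have hmap : m.map (Ideal.Quotient.mk p.asIdeal) = IsLocalRing.maximalIdeal (A ⧸ p.asIdeal) :=
      IsLocalRing.eq_maximalIdeal ((Ideal.map_eq_top_or_isMaximal_of_surjective _
        Ideal.Quotient.mk_surjective (IsLocalRing.maximalIdeal.isMaximal A)).resolve_left fun h => by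
          have := GrothLib.Faltings.comap_map_eq (f := Ideal.Quotient.mk p.asIdeal) Ideal.Quotient.mk_surjective
            (q := m) (by rw [Ideal.mk_ker]; exact hpm)
          rw [h, Ideal.comap_top] at this
          exact (IsLocalRing.maximalIdeal.isMaximal A).ne_top this.symm)
    rw [LocCoh.adjDepth, sup_eq_left.2 hpm, hmap]
    congr 1
    have h := IsLocalRing.maximalIdeal_height_eq_ringKrullDim (R := A ⧸ p.asIdeal)
    rw [he] at h
    exact WithBot.coe_inj.1 h
  constructor
  · intro h p hp e he
    have := h p fun hle => hp (le_antisymm (IsLocalRing.le_maximalIdeal p.isPrime.ne_top) hle)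
    rw [hadj p e he] at this
    exact (ENat.add_one_le_iff (ENat.natCast_ne_top n)).1 (by exact_mod_cast this)
  · intro h p hp
    haveI : IsLocalRing (A ⧸ p.asIdeal) := IsLocalRing.of_surjective' _ Ideal.Quotient.mk_surjective
    obtain ⟨e, he⟩ := ENat.ne_top_iff_exists.1 (Ideal.height_ne_top
      (I := IsLocalRing.maximalIdeal (A ⧸ p.asIdeal)) (IsLocalRing.maximalIdeal.isMaximal _).ne_top)
    have he' : ringKrullDim (A ⧸ p.asIdeal) = e := by
      rw [← IsLocalRing.maximalIdeal_height_eq_ringKrullDim, ← he]
      rfl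
    rw [hadj p e he']
    exact_mod_cast (ENat.add_one_le_iff (ENat.natCast_ne_top n)).2 (h p (fun heq => hp heq.ge) e he')

end Groth.Agent.S5167
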