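import Groth.Statements.S5168
import Groth.Agent.Lib.InjMod.Noetherian
import Mathlib.RingTheory.Filtration

set_option autoImplicit false
universe u
open InjHull

namespace Groth.Agent.S5168

/-- Let A be a Noetherian ring, J an ideal and H a J-power torsion A-module. Then H is injective if and
only if Hom_A(−, H) is exact on finite A-modules killed by a power of J, i.e. every linear map to H
from a submodule of such a module M extends to M. -/
theorem result (A : Type u) [CommRing A] [IsNoetherianRing A] (J : Ideal A) (H : Type u) [AddCommGroup H] [Module A H] (hH : LocCoh.IsPowerTorsion J H) : Module.Injective A H ↔ ∀ (M : Type u) [AddCommGroup M] [Module A M], Module.Finite A M → (∃ k : ℕ, (J ^ k) • (⊤ : Submodule A M) = ⊥) → ∀ (N : Submodule A M) (g : N →ₗ[A] H), ∃ g' : M →ₗ[A] H, g'.comp N.subtype = g := by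
    constructor
    · intro h M _ _ _ _ N g
      obtain ⟨g', hg'⟩ := h.out N.subtype N.injective_subtype g
      exact ⟨g', LinearMap.ext hg'⟩
    · intro h
      refine Module.Baer.injective fun 𝔞 g => ?_
      classical
      obtain ⟨s, hs⟩ := IsNoetherian.noetherian 𝔞
      choose n hn using fun y : 𝔞 => hH (g y)
      let k := s.attach.sup fun y => n ⟨y, hs ▸ Submodule.subset_span y.2⟩
      have hk : ∀ (x : 𝔞), ∀ c ∈ J ^ k, c • g x = 0 := by
        intro x c hc
        have hx : (x : A) ∈ Submodule.span A (s : Set A) := by rw [hs]; exact x.2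
        suffices ∀ z (hz : z ∈ Submodule.span A (s : Set A)), c • g ⟨z, hs ▸ hz⟩ = 0 from this x hx
        intro z hz
        induction hz using Submodule.span_induction with
        | mem y hy =>
          exact hn _ c (Ideal.pow_le_pow_right (Finset.le_sup
            (f := fun y : {x // x ∈ s} => n ⟨y, hs ▸ Submodule.subset_span y.2⟩) (Finset.mem_attach _ ⟨y, hy⟩)) hc)
        | zero => rw [show (⟨0, _⟩ : 𝔞) = 0 from rfl, map_zero, smul_zero]
        | add y z hy hz h1 h2 =>
          rw [show (⟨y + z, _⟩ : 𝔞) = ⟨y, hs ▸ hy⟩ + ⟨z, hs ▸ hz⟩ from rfl, map_add, smul_add, h1, h2, add_zero]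
        | smul r y hy h1 =>
          rw [show (⟨r • y, _⟩ : 𝔞) = r • ⟨y, hs ▸ hy⟩ from rfl, map_smul, smul_comm, h1, smul_zero]
      obtain ⟨c, hc⟩ := J.exists_pow_inf_eq_pow_smul (𝔞 : Submodule A A)
      have h2 := hc (k + c) (Nat.le_add_left c k)
      simp only [smul_eq_mul, Ideal.mul_top, Nat.add_sub_cancel] at h2
      let Q := A ⧸ J ^ (k + c)
      let N : Submodule A Q := Submodule.map (Submodule.mkQ (J ^ (k + c))) 𝔞
      let q : 𝔞 →ₗ[A] N := LinearMap.codRestrict N ((Submodule.mkQ (J ^ (k + c))) ∘ₗ 𝔞.subtype)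
        fun x => Submodule.mem_map_of_mem x.2
      have hq : Function.Surjective q := by
        rintro ⟨_, x, hx, rfl⟩
        exact ⟨⟨x, hx⟩, rfl⟩
      have hker : LinearMap.ker q ≤ LinearMap.ker g := fun x hx => by
        have hx1 : (x : A) ∈ J ^ (k + c) ⊓ 𝔞 :=
          ⟨(Submodule.Quotient.mk_eq_zero _).1 (congrArg Subtype.val hx), x.2⟩
        rw [h2] at hx1
        have hmap : J ^ k * (J ^ c ⊓ 𝔞) ≤ Submodule.map 𝔞.subtype (LinearMap.ker g) := by
          refine Ideal.mul_le.2 fun a ha b hb => ⟨a • (⟨b, hb.2⟩ : 𝔞), ?_, rfl⟩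
          exact LinearMap.mem_ker.2 ((map_smul g a _).trans (hk _ a ha))
        obtain ⟨y, hy, hyx⟩ := hmap hx1
        rwa [Subtype.ext hyx] at hy
      let g₀ : N →ₗ[A] H := (LinearMap.ker q).liftQ g hker ∘ₗ (q.quotKerEquivOfSurjective hq).symm.toLinearMap
      obtain ⟨g', hg'⟩ := h Q inferInstance ⟨k + c, eq_bot_iff.2 (Submodule.smul_le.2 fun a ha x _ => by
        obtain ⟨x, rfl⟩ := Submodule.Quotient.mk_surjective _ x
        rw [Submodule.mem_bot, ← Submodule.Quotient.mk_smul, Submodule.Quotient.mk_eq_zero]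
        exact Ideal.mul_mem_right x _ ha)⟩ N g₀
      refine ⟨g' ∘ₗ Submodule.mkQ _, fun x hx => ?_⟩
      have := LinearMap.congr_fun hg' (q ⟨x, hx⟩)
      refine this.trans ?_
      show (LinearMap.ker q).liftQ g hker ((q.quotKerEquivOfSurjective hq).symm (q ⟨x, hx⟩)) = _
      rw [show (q.quotKerEquivOfSurjective hq).symm (q ⟨x, hx⟩) = Submodule.Quotient.mk ⟨x, hx⟩ by
        rw [LinearEquiv.symm_apply_eq]; rfl]
      rfl

end Groth.Agent.S5168
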