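import Groth.Statements.S5170
import Groth.Agent.Lib.InjMod.Matlis

set_option autoImplicit false
universe u
open Matlis

namespace Groth.Agent.S5170

/-- Applied to the dualizing functor Hom_A(−, E). Let A be a Noetherian local ring, E an injective hull
of the residue field and M an A-module of finite length. Then length Hom_A(M, E) = length M. -/
theorem result (A : Type u) [CommRing A] [IsLocalRing A] [IsNoetherianRing A] (E : Type u) [AddCommGroup E] [Module A E] (f : IsLocalRing.ResidueField A →ₗ[A] E) (hf : InjHull.IsInjectiveHull f) (M : Type u) [AddCommGroup M] [Module A M] (hM : IsFiniteLength A M) : Module.length A (M →ₗ[A] E) = Module.length A M := by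
    exact GrothLib.Matlis.length_linearMap hf hM

end Groth.Agent.S5170
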