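import Groth.Statements.S5171
import Groth.Agent.Lib.Depth.CM

set_option autoImplicit false
universe u
open LocCoh

namespace Groth.Agent.S5171

/-- Let A be a Noetherian ring, J an ideal, n ≥ 0 and G a finite Cohen–Macaulay A-module (each
localization G_p is zero or Cohen–Macaulay). Then H^i_J(G) = 0 for i < n if and only if codim(V(J) ∩
Supp G, Supp G) ≥ n, i.e. dim Supp(G_p) ≥ n for every p ∈ V(J) ∩ Supp G. -/
theorem result (A : Type u) [CommRing A] [IsNoetherianRing A] (J : Ideal A) (G : Type u) [AddCommGroup G] [Module A G] [Module.Finite A G] (hCM : ∀ p : PrimeSpectrum A, Subsingleton (LocalizedModule p.asIdeal.primeCompl G) ∨ LocCoh.IsCohenMacaulayModule (Localization.AtPrime p.asIdeal) (LocalizedModule p.asIdeal.primeCompl G)) (n : ℕ) : (∀ i : ℕ, i < n → Subsingleton (LocCoh.H J i G)) ↔ ∀ p : PrimeSpectrum A, J ≤ p.asIdeal → p ∈ Module.support A G → (n : WithBot ℕ∞) ≤ Module.supportDim (Localization.AtPrime p.asIdeal) (LocalizedModule p.asIdeal.primeCompl G) := by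
  constructor
  · intro h p hJp hp
    haveI : Nontrivial (LocalizedModule p.asIdeal.primeCompl G) := hp
    have hcm := (hCM p).resolve_left (not_subsingleton _)
    rw [hcm]
    exact WithBot.coe_le_coe.2 (((GrothLib.Depth.le_idealDepth_iff_H J n).2 h).trans
      (GrothLib.Depth.idealDepth_le_localization J p.asIdeal hJp))
  · intro h
    refine (GrothLib.Depth.le_idealDepth_iff_H J n).1 ?_
    by_contra hlt
    rw [not_le] at hlt
    obtain ⟨k, hk⟩ := ENat.ne_top_iff_exists.1 (ne_top_of_lt hlt)
    rw [← hk] at hlt
    obtain ⟨p, hJp, hp⟩ := GrothLib.Depth.exists_depth_localization_le J k hk.symm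
    haveI : IsNoetherianRing (Localization.AtPrime p.asIdeal) :=
      IsLocalization.isNoetherianRing p.asIdeal.primeCompl _ inferInstance
    by_cases hp' : p ∈ Module.support A G
    · haveI : Nontrivial (LocalizedModule p.asIdeal.primeCompl G) := hp'
      have h1 := h p hJp hp'
      rw [(hCM p).resolve_left (not_subsingleton _)] at h1
      exact absurd (hlt.trans_le ((WithBot.coe_le_coe.1 h1).trans hp)) (lt_irrefl _)
    · haveI : Subsingleton (LocalizedModule p.asIdeal.primeCompl G) :=
        Module.notMem_support_iff.1 hp'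
      rw [GrothLib.Depth.depth_eq_top_of_subsingleton] at hp
      exact ENat.natCast_ne_top k (top_le_iff.1 hp)

end Groth.Agent.S5171
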