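import Groth.Statements.S5172
import Groth.Agent.Lib.SGA2Fin.DepthCrit
import Groth.Agent.S11650

set_option autoImplicit false
universe u
open LocCoh

namespace Groth.Agent.S5172

/-- Let A be a Noetherian ring which is a quotient of a regular ring, I an ideal, M a finite A-module
and n ≥ 0; c(p) = codim(V(p) ∩ V(I), V(p)). Then depth M_p > n − c(p) for all primes p ⊉ I if and
only if depth M_p ≥ n for all primes p ⊉ I with c(p) = 1. -/
theorem result (R : Type u) [CommRing R] [IsRegularRing R] (A : Type u) [CommRing A] [IsNoetherianRing A] (π : R →+* A) (hπ : Function.Surjective π) (I : Ideal A) (M : Type u) [AddCommGroup M] [Module A M] [Module.Finite A M] (n : ℕ) : (∀ p : PrimeSpectrum A, ¬ I ≤ p.asIdeal → (n : ℕ∞) < LocCoh.depth (Localization.AtPrime p.asIdeal) (LocalizedModule p.asIdeal.primeCompl M) + SGA2.relCodim I p) ↔ (∀ p : PrimeSpectrum A, ¬ I ≤ p.asIdeal → SGA2.relCodim I p = 1 → (n : ℕ∞) ≤ LocCoh.depth (Localization.AtPrime p.asIdeal) (LocalizedModule p.asIdeal.primeCompl M)) :=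 by
  constructor
  · intro h p hp hc
    have h1 := h p hp
    rw [hc] at h1
    by_cases hd : LocCoh.depth (Localization.AtPrime p.asIdeal) (LocalizedModule p.asIdeal.primeCompl M) = ⊤
    · rw [hd]; exact le_top
    · exact (ENat.lt_add_one_iff hd).1 h1
  · intro h p hp
    by_cases hc : SGA2.relCodim I p = ⊤
    · rw [hc, add_top]; exact ENat.natCast_lt_top n
    obtain ⟨c, hc'⟩ := ENat.ne_top_iff_exists.1 hc
    have hone : ∀ t : PrimeSpectrum A, ¬ I ≤ t.asIdeal → 1 ≤ SGA2.relCodim I t := fun t ht => by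
      refine le_iInf fun q => ?_
      rw [GrothLib.SGA2Fin.height_Ici_eq]
      exact GrothLib.Faltings.one_le_relHeight t.asIdeal q.1.asIdeal (lt_of_le_of_ne q.2.1 fun e => ht (e ▸ q.2.2))
    rcases c with _ | c
    · exact absurd (hc' ▸ hone p hp) (by simp)
    obtain ⟨t, q, hpt, hIt, hIq, htq, hh⟩ := GrothLib.SGA2Fin.exists_covBy_of_relCodim_eq_succ hc'.symm
    have ht1 : SGA2.relCodim I t = 1 := le_antisymm
      ((GrothLib.SGA2Fin.relCodim_le I t q htq.le hIq).trans (le_of_eq (GrothLib.SGA2Fin.relHeight_eq_one_of_covBy htq)))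
      (hone t hIt)
    have h2 := (h t hIt ht1).trans (Groth.Agent.S11650.result A M p.asIdeal t.asIdeal hpt)
    change _ ≤ _ + GrothLib.Faltings.relHeight p.asIdeal t.asIdeal at h2
    rw [hh] at h2
    rw [← hc']
    push_cast
    rw [← add_assoc]
    by_cases hd : LocCoh.depth (Localization.AtPrime p.asIdeal) (LocalizedModule p.asIdeal.primeCompl M) + (c : ℕ∞) = ⊤
    · rw [hd, top_add]; exact ENat.natCast_lt_top n
    · exact (ENat.lt_add_one_iff hd).2 h2

end Groth.Agent.S5172
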