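import Groth.Statements.S5174
import Groth.Agent.Lib.LC.ExtHom

set_option autoImplicit false
universe u
open CategoryTheory Opposite
open LocCoh

namespace Groth.Agent.S5174

/-- Affine case with Z = X. Let A be a Noetherian ring, J an ideal, G any A-module and n ≥ 0 with
Ext^{n−1}_A(F', G) = 0 for all finite F' supported in V(J). Then for every finite A-module F with
Supp F ⊆ V(J) there is an A-linear isomorphism Ext^n_A(F, G) ≅ Hom_A(F, H^n_J(G)). (Existence of the
isomorphism is asserted; in the source it is the canonical one expressing that Ext^n_A(−, G), left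
exact on such F, is represented by H^n_J(G).) -/
theorem result (A : Type u) [CommRing A] [IsNoetherianRing A] (J : Ideal A) (G : Type u) [AddCommGroup G] [Module A G] (n : ℕ) (hvan : ∀ (F' : Type u) [AddCommGroup F'] [Module A F'], Module.Finite A F' → Module.support A F' ⊆ PrimeSpectrum.zeroLocus (J : Set A) → ∀ i : ℕ, i + 1 = n → Subsingleton (((Ext A (ModuleCat.{u} A) i).obj (op (ModuleCat.of A F'))).obj (ModuleCat.of A G))) (F : Type u) [AddCommGroup F] [Module A F] [Module.Finite A F] (hF : Module.support A F ⊆ PrimeSpectrum.zeroLocus (J : Set A)) : Nonempty ((((Ext A (ModuleCat.{u} A) n).obj (op (ModuleCat.of A F))).obj (ModuleCat.of A G)) ≃ₗ[A] (F →ₗ[A] LocCoh.H J n G)) := by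
  obtain ⟨k, hk⟩ := GrothLib.LC.exists_pow_le_annihilator J hF
  have hvan' : GrothLib.LC.ExtPredVanish J (ModuleCat.of A G) n := by
    intro F' hF' hm i hi
    obtain ⟨m, hm⟩ := hm
    have := hvan F' hF' (GrothLib.LC.support_subset_of_pow_le_annihilator J hm) i hi
    exact (GrothLib.LC.extEquiv F' (ModuleCat.of A G) i).symm.toEquiv.subsingleton
  exact ⟨GrothLib.LC.extEquiv (ModuleCat.of A F) (ModuleCat.of A G) n ≪≫ₗ
    GrothLib.LC.extHomEquiv J (F := ModuleCat.of A F) hk hvan'⟩

end Groth.Agent.S5174
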