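import Groth.Statements.S5175
import Groth.Agent.Lib.InjMod.SocleHull
import Mathlib.LinearAlgebra.Dual.Lemmas

set_option autoImplicit false
universe u
open Matlis

namespace Groth.Agent.S5175

/-- Let k₀ be a field and A a Noetherian local k₀-algebra with [k : k₀] finite, k the residue field.
Then the topological dual A' = colim_n Hom_{k₀}(A/m^n, k₀), i.e. the submodule of Hom_{k₀}(A, k₀) of
forms killing some power of m (A acting through the source), is an injective hull of k (it is the
dualizing module of A). -/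
theorem result (k₀ : Type u) [Field k₀] (A : Type u) [CommRing A] [IsLocalRing A] [IsNoetherianRing A] [Algebra k₀ A] [Module.Finite k₀ (A ⧸ IsLocalRing.maximalIdeal A)] : ∃ f : IsLocalRing.ResidueField A →ₗ[A] ↥(⨆ n : ℕ, Submodule.torsionBySet A ((ModuleCat.coextendScalars (algebraMap k₀ A)).obj (ModuleCat.of k₀ k₀)) ((IsLocalRing.maximalIdeal A ^ n : Ideal A) : Set A)), InjHull.IsInjectiveHull f := by
    let m := IsLocalRing.maximalIdeal A
    let V := (ModuleCat.coextendScalars (algebraMap k₀ A)).obj (ModuleCat.of k₀ k₀)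
    let T : Submodule A V := ⨆ n : ℕ, Submodule.torsionBySet A V ((m ^ n : Ideal A) : Set A)
    have hV : Module.Injective A V :=
      GrothLib.InjMod.injective_coextendScalars _ (Module.injective_of_isSemisimpleRing k₀ k₀)
    have hT : Module.Injective A T := GrothLib.InjMod.injective_iSup_torsionBySet_pow hV m
    have hTtor : LocCoh.IsPowerTorsion m T := fun t => by
      obtain ⟨n, hn⟩ := (GrothLib.InjMod.mem_iSup_torsionBySet_pow m (t : V)).1 t.2
      exact ⟨n, fun a ha => Subtype.ext (hn a ha)⟩
    haveI : Nontrivial (A ⧸ m) := Ideal.Quotient.nontrivial_iff.2 (IsLocalRing.maximalIdeal.isMaximal A).ne_top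
    obtain ⟨l, hl⟩ : ∃ l : Module.Dual k₀ (A ⧸ m), l 1 ≠ 0 := by
      by_contra h
      push Not at h
      exact one_ne_zero ((Module.forall_dual_apply_eq_zero_iff k₀ (1 : A ⧸ m)).1 h)
    let φ₀ : V := (ModuleCat.CoextendScalars.equiv (algebraMap k₀ A) (ModuleCat.of k₀ k₀)).symm
      { toFun := fun t => l (Ideal.Quotient.mk m t)
        map_add' := fun s t => (congrArg l (map_add (Ideal.Quotient.mk m) (s : A) (t : A))).trans (map_add l _ _)
        map_smul' := fun c t => (congrArg l (map_mul (Ideal.Quotient.mk m) (algebraMap k₀ A c) (t : A))).trans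
          ((congrArg l (Algebra.smul_def c (Ideal.Quotient.mk m (t : A))).symm).trans (map_smul l c _)) }
    have hap : ∀ (a t : A), (a • φ₀ : V) t = l (Ideal.Quotient.mk m (t * a)) := fun a t => rfl
    have hker : ∀ a : A, a ∈ m → a • φ₀ = 0 := fun a ha => ModuleCat.CoextendScalars.ext (LinearMap.ext fun t =>
      (hap a t).trans ((congrArg l ((Ideal.Quotient.eq_zero_iff_mem).2 (m.mul_mem_left (t : A) ha))).trans (map_zero l)))
    have hmem : φ₀ ∈ T := (GrothLib.InjMod.mem_iSup_torsionBySet_pow m φ₀).2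
      ⟨1, fun a ha => hker a (by rwa [pow_one] at ha)⟩
    let Ψ : (A ⧸ m) →ₗ[k₀] Module.Dual k₀ (A ⧸ m) := (LinearMap.mul k₀ (A ⧸ m)).compr₂ l
    have hΨ : Function.Surjective Ψ := by
      refine (LinearMap.injective_iff_surjective_of_finrank_eq_finrank
        (Subspace.dual_finrank_eq (K := k₀) (V := A ⧸ m)).symm).1 ((injective_iff_map_eq_zero Ψ).2 fun c hc => ?_)
      obtain ⟨a, rfl⟩ := Ideal.Quotient.mk_surjective c
      by_contra ha
      obtain ⟨b, hb⟩ := isUnit_iff_exists_inv.1
        ((IsLocalRing.notMem_maximalIdeal).1 fun h => ha (Ideal.Quotient.eq_zero_iff_mem.2 h))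
      have := LinearMap.congr_fun hc (Ideal.Quotient.mk m b)
      simp only [Ψ, LinearMap.compr₂_apply, LinearMap.mul_apply', LinearMap.zero_apply, ← map_mul, hb, map_one] at this
      exact hl this
    let L : A →ₗ[A] LocCoh.torsionBy m T :=
      LinearMap.toSpanSingleton A _ ⟨⟨φ₀, hmem⟩, (Submodule.mem_torsionBySet_iff _ _).2 fun a =>
        Subtype.ext (hker a a.2)⟩
    have hL : ∀ a, ((L a : T) : V) = a • φ₀ := fun a => rfl
    have hLs : Function.Surjective L := fun x => by
      have hx : ∀ b ∈ m, ∀ t : A, ((x : T) : V) (t * b : A) = (0 : k₀) := fun b hb t => by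
        have := congrArg (fun y : T => (y : V) t) ((Submodule.mem_torsionBySet_iff _ _).1 x.2 ⟨b, hb⟩)
        exact this
      let χ : A →ₗ[k₀] k₀ :=
        { toFun := fun t => ((x : T) : V) t
          map_add' := fun s t => map_add (ModuleCat.CoextendScalars.equiv (algebraMap k₀ A) _ ((x : T) : V)) s t
          map_smul' := fun c t => (congrArg _ (Algebra.smul_def c t)).trans
            ((ModuleCat.CoextendScalars.equiv (algebraMap k₀ A) _ ((x : T) : V)).map_smul c t) }
      let μ : Module.Dual k₀ (A ⧸ m) := (m.restrictScalars k₀).liftQ χ fun b hb =>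
        LinearMap.mem_ker.2 ((congrArg χ (one_mul b).symm).trans (hx b hb 1))
      obtain ⟨c, hc⟩ := hΨ μ
      obtain ⟨a, rfl⟩ := Ideal.Quotient.mk_surjective c
      refine ⟨a, Subtype.ext (Subtype.ext ((hL a).trans (ModuleCat.CoextendScalars.ext (LinearMap.ext fun t => ?_))))⟩
      have := LinearMap.congr_fun hc (Ideal.Quotient.mk m t)
      exact (hap a t).trans ((congrArg (fun u => l (Ideal.Quotient.mk m u)) (mul_comm (show A from t) a)).trans
        ((congrArg l (map_mul (Ideal.Quotient.mk m) a (t : A))).trans this))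
    have hLk : LinearMap.ker L = m := by
      refine le_antisymm (fun a ha => ?_) (fun a ha => LinearMap.mem_ker.2 (Subtype.ext (Subtype.ext (hker a ha))))
      by_contra hn
      obtain ⟨b, hb⟩ := isUnit_iff_exists_inv.1 (IsLocalRing.notMem_maximalIdeal.1 hn)
      have h0 : a • φ₀ = 0 := congrArg (fun y : LocCoh.torsionBy m T => ((y : T) : V)) (LinearMap.mem_ker.1 ha)
      have h1 := (hap a b).symm.trans (congrArg (fun φ : V => φ b) h0)
      rw [mul_comm b a, hb, map_one] at h1
      exact hl h1
    let eT : LocCoh.torsionBy m T ≃ₗ[A] IsLocalRing.ResidueField A :=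
      (Submodule.quotEquivOfEq _ _ hLk.symm ≪≫ₗ L.quotKerEquivOfSurjective hLs).symm
    obtain ⟨f, hf, -⟩ := GrothLib.InjMod.exists_essential_of_socle hTtor
      (GrothLib.Matlis.homQuotEquiv m T ≪≫ₗ eT)
    exact ⟨f, hf, hT⟩

end Groth.Agent.S5175
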