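import Groth.Statements.S5176
import Groth.Agent.Lib.Edge19.Out
import Groth.Agent.Lib.EtSupp19.Nested

set_option autoImplicit false
set_option backward.isDefEq.respectTransparency false
set_option backward.isDefEq.respectTransparency.types false
universe u
open CategoryTheory CategoryTheory.Limits AlgebraicGeometry Opposite
open EtDepth

namespace Groth.Agent.S5176

/-- For an abelian sheaf. Let X be a scheme, j : U → X and k : V → X open immersions with U ⊆ V, so that
the closed complement Z of V is contained in the closed complement Y of U, F an abelian sheaf on the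
small étale site of X and n ≥ 0. If the Y-étale depth of F is ≥ n (the local cohomology sheaves
H^p_Y(F) vanish for p < n), then the Z-étale depth of F is ≥ n. -/
theorem result {X U V : Scheme.{u}} (j : U ⟶ X) [IsOpenImmersion j] [EtCoh.BCCont j] (k : V ⟶ X) [IsOpenImmersion k] [EtCoh.BCCont k] (hUV : Set.range j.base ⊆ Set.range k.base) (F : EtCoh.Ab X) (n : ℕ) (h : EtDepth.DepthGE j F n) : EtDepth.DepthGE k F n := by
  intro p hp
  open CategoryTheory CategoryTheory.Limits in
  let I := (injectiveResolution F).cocomplex
  let K := ((EtDual.secSupp j).mapHomologicalComplex (ComplexShape.up ℕ)).obj I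
  have hH : ∀ i < p + 1, IsZero (K.homology i) := fun i hi =>
    (h i (by omega)).of_iso ((injectiveResolution F).isoRightDerivedObj (EtDual.secSupp j) i).symm
  have := GrothLib.EtSupp19.preservesFiniteLimits_secSupp k
  have := GrothLib.Edge19.isIso_homologyComparison (EtDual.secSupp k) K p
    (fun i _ => GrothLib.EtSupp19.injective_secSupp j _) (fun i hi => hH i (by omega))
  have hiso := fun i => GrothLib.EtSupp19.isIso_map_kernel_ι j k hUV (I.X i)
  let φ : K ⟶ I :=
    { f := fun i => kernel.ι (EtDual.unitApp j (I.X i))
      comm' := fun i i' _ => (kernel.lift_ι _ _ _).symm }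
  have hφ : IsIso (((EtDual.secSupp k).mapHomologicalComplex (ComplexShape.up ℕ)).map φ) :=
    have : ∀ i, IsIso ((((EtDual.secSupp k).mapHomologicalComplex (ComplexShape.up ℕ)).map φ).f i) := hiso
    HomologicalComplex.Hom.isIso_of_components _
  exact ((Functor.map_isZero (EtDual.secSupp k) (hH p (by omega))).of_iso
    (asIso (RDer.homologyComparison (EtDual.secSupp k) K p))).of_iso
    ((injectiveResolution F).isoRightDerivedObj (EtDual.secSupp k) p ≪≫
      ((HomologicalComplex.homologyFunctor _ _ p).mapIso
        (@asIso _ _ _ _ (((EtDual.secSupp k).mapHomologicalComplex (ComplexShape.up ℕ)).map φ) hφ)).symm)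

end Groth.Agent.S5176
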