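import Groth.Statements.S5178
import Groth.Agent.Lib.CIPres.Avramov
import Mathlib.RingTheory.Ideal.KrullsHeightTheorem

set_option autoImplicit false
universe u
open CInt

namespace Groth.Agent.S5178

/-- Let A be a Noetherian local ring of dimension d, and let the completion of A be presented as B/I
with B a regular local ring of dimension e and I an ideal whose minimal number of generators is q,
so that e − q is the geometric depth of A (this number does not depend on the presentation). Then e
− q ≤ d, and equality holds if and only if A is a complete intersection, i.e. its completion is a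
regular local ring modulo an ideal generated by a regular sequence. -/
theorem result (A : Type u) [CommRing A] [IsLocalRing A] [IsNoetherianRing A] (B : Type u) [CommRing B] [IsRegularLocalRing B] (I : Ideal B) (hpres : Nonempty (AdicCompletion (IsLocalRing.maximalIdeal A) A ≃+* B ⧸ I)) (d e : ℕ) (hd : ringKrullDim A = (d : WithBot ℕ∞)) (he : ringKrullDim B = (e : WithBot ℕ∞)) : (e : ℤ) - (I.spanFinrank : ℤ) ≤ (d : ℤ) ∧ ((e : ℤ) - (I.spanFinrank : ℤ) = (d : ℤ) ↔ Pi1.IsCompleteIntersection A) := by
  obtain ⟨ε⟩ := hpres
  haveI : Nontrivial (B ⧸ I) := ε.symm.toEquiv.nontrivial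
  haveI : IsLocalRing (B ⧸ I) := IsLocalRing.of_surjective' _ Ideal.Quotient.mk_surjective
  have hI : I ≠ ⊤ := Ideal.Quotient.nontrivial_iff.mp inferInstance
  let φ : B →+* AdicCompletion (IsLocalRing.maximalIdeal A) A := ε.symm.toRingHom.comp (Ideal.Quotient.mk I)
  have hφ : Function.Surjective φ := ε.symm.surjective.comp Ideal.Quotient.mk_surjective
  have hdim : ringKrullDim (B ⧸ I) = d := by
    rw [← ringKrullDim_eq_of_ringEquiv ε, ← hd]
    exact GrothLib.AdicExtra.ringKrullDim_adicCompletion
  have hle : ringKrullDim B ≤ ringKrullDim (B ⧸ I) + (I.spanFinrank : ℕ) := by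
    exact ringKrullDim_le_ringKrullDim_quotient_add_spanFinrank I
      (by rw [IsLocalRing.ringJacobson_eq_maximalIdeal]; exact IsLocalRing.le_maximalIdeal hI)
  rw [he, hdim] at hle
  norm_cast at hle
  refine ⟨by omega, ?_⟩
  rw [← GrothLib.CIPres.isCI_completion_iff A, GrothLib.CIPres.isCI_congr ε,
    GrothLib.CIPres.isCompleteIntersection_quotient_iff I hI, GrothLib.CIPres.regular_iff_spanFinrank_le I hI, he, hdim,
    show ((I.spanFinrank : WithBot ℕ∞) + (d : ℕ) ≤ (e : ℕ)) ↔ I.spanFinrank + d ≤ e by norm_cast]
  omega

end Groth.Agent.S5178
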