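import Groth.Statements.S5179
import Groth.Agent.Lib.CIPres.GeomDepth

set_option autoImplicit false
universe u
open CInt

namespace Groth.Agent.S5179

/-- Let A → A' be a flat local homomorphism of Noetherian local rings such that m_A A' is the maximal
ideal of A' and the residue field of A' is a separable extension of the residue field k of A
(separable in the sense that it is formally smooth over k; so A' ⊗_A k is a field separable over k).
Present the completions as Â ≅ B/I and Â' ≅ B'/I' with B, B' regular local rings of dimensions e,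
e'. Then e − μ(I) = e' − μ(I'), μ denoting the minimal number of generators: A and A' have the same
geometric depth. -/
theorem result (A A' : Type u) [CommRing A] [IsLocalRing A] [IsNoetherianRing A] [CommRing A'] [IsLocalRing A'] [IsNoetherianRing A'] [Algebra A A'] [IsLocalHom (algebraMap A A')] [Module.Flat A A'] (hmax : Ideal.map (algebraMap A A') (IsLocalRing.maximalIdeal A) = IsLocalRing.maximalIdeal A') (hsep : Algebra.FormallySmooth (IsLocalRing.ResidueField A) (IsLocalRing.ResidueField A')) (B B' : Type u) [CommRing B] [IsRegularLocalRing B] [CommRing B'] [IsRegularLocalRing B'] (I : Ideal B) (I' : Ideal B') (hpres : Nonempty (AdicCompletion (IsLocalRing.maximalIdeal A) A ≃+* B ⧸ I)) (hpres' : Nonempty (AdicCompletion (IsLocalRing.maximalIdeal A') A' ≃+* B' ⧸ I')) (e e' : ℕ) (he : ringKrullDim B = (e : WithBot ℕ∞)) (he' : ringKrullDim B' = (e' : WithBot ℕ∞)) : (e : ℤ) - (I.spanFinrank : ℤ) = (e' : ℤ) - (I'.spanFinrank : ℤ) := by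
  let A1 := AdicCompletion (IsLocalRing.maximalIdeal A) A
  let B1 := AdicCompletion (IsLocalRing.maximalIdeal A') A'
  obtain ⟨ε⟩ := hpres
  obtain ⟨ε'⟩ := hpres'
  obtain ⟨f, hf⟩ := GrothLib.GeomReg.exists_completion_map A A'
  letI : Algebra A1 B1 := f.toAlgebra
  haveI : IsLocalHom (algebraMap A1 B1) := GrothLib.AdicExtra.isLocalHom_completion f hf
  haveI : Module.Flat A1 B1 := RingHom.flat_algebraMap_iff.mp
    ((GrothLib.AdicExtra.flat_completion_iff f hf).mpr (RingHom.flat_algebraMap_iff.mpr inferInstance))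
  haveI : IsAdicComplete (IsLocalRing.maximalIdeal A1) A1 := by
    rw [AdicCompletion.maximalIdeal_eq_map]
    exact AdicCompletion.isAdicComplete_self _ (IsLocalRing.maximalIdeal A).fg_of_isNoetherianRing
  haveI : IsAdicComplete (IsLocalRing.maximalIdeal B1) B1 := by
    rw [AdicCompletion.maximalIdeal_eq_map]
    exact AdicCompletion.isAdicComplete_self _ (IsLocalRing.maximalIdeal A').fg_of_isNoetherianRing
  have hmax1 : (IsLocalRing.maximalIdeal A1).map (algebraMap A1 B1) = IsLocalRing.maximalIdeal B1 :=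
    (GrothLib.AdicExtra.maximalIdeal_map_completion f hf).trans
      (by rw [hmax]; exact AdicCompletion.maximalIdeal_eq_map.symm)
  obtain ⟨R, S, _, _, _, _, φ, ψ, hφ, hψ, h⟩ := GrothLib.CIPres.exists_presentations_of_flat hmax1
  let φ₀ : B →+* A1 := ε.symm.toRingHom.comp (Ideal.Quotient.mk I)
  let ψ₀ : B' →+* B1 := ε'.symm.toRingHom.comp (Ideal.Quotient.mk I')
  have hφ₀ : Function.Surjective φ₀ := ε.symm.surjective.comp Ideal.Quotient.mk_surjective
  have hψ₀ : Function.Surjective ψ₀ := ε'.symm.surjective.comp Ideal.Quotient.mk_surjective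
  have hk : RingHom.ker φ₀ = I := by
    rw [RingHom.ker_comp_of_injective _ ε.symm.injective, Ideal.mk_ker]
  have hk' : RingHom.ker ψ₀ = I' := by
    rw [RingHom.ker_comp_of_injective _ ε'.symm.injective, Ideal.mk_ker]
  have h1 := GrothLib.CIPres.spanFinrank_ker_add_le φ hφ φ₀ hφ₀
  have h2 := GrothLib.CIPres.spanFinrank_ker_add_le φ₀ hφ₀ φ hφ
  have h3 := GrothLib.CIPres.spanFinrank_ker_add_le ψ hψ ψ₀ hψ₀
  have h4 := GrothLib.CIPres.spanFinrank_ker_add_le ψ₀ hψ₀ ψ hψ
  rw [hk] at h1 h2
  rw [hk'] at h3 h4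
  have e1 := (IsRegularLocalRing.spanFinrank_maximalIdeal (R := B)).trans he
  have e2 := (IsRegularLocalRing.spanFinrank_maximalIdeal (R := B')).trans he'
  norm_cast at e1 e2
  omega

end Groth.Agent.S5179
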