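import Groth.Statements.S5182
import Groth.Agent.Lib.NormFlat.Chain
import Mathlib.RingTheory.Filtration

set_option autoImplicit false
universe u
open CInt

namespace Groth.Agent.S5182

open Pointwise RingTheory.Sequence GrothLib.NormFlat in
theorem isWeaklyRegular_of_gr {A : Type u} [CommRing A] [IsLocalRing A] [IsNoetherianRing A] (J : Ideal A) (hJ : J ≠ ⊤) :
    ∀ (fs : List A) (M : Type u) [AddCommGroup M] [Module A M] [Module.Finite A M],
      (∀ j, IsWeaklyRegular (Gr M J j) fs) → IsWeaklyRegular M fs
  | [], _, _, _, _, _ => IsWeaklyRegular.nil A _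
  | f :: fs, M, _, _, _, h => by
    have h1 : ∀ j, IsSMulRegular (Gr M J j) f := fun j => ((isWeaklyRegular_cons_iff _ _ _).1 (h j)).1
    have hup : ∀ i, RegUpTo M J f ⊥ i := fun i => regUpTo_of_regular J f fun j _ => h1 j
    have hmem : ∀ i (x : M), f • x ∈ Fil M J i → x ∈ Fil M J i := fun i x hx => by
      obtain ⟨s, hs, hsx⟩ := (hup i).mem hx
      rwa [Submonoid.mem_bot.1 hs, one_smul] at hsx
    refine (isWeaklyRegular_cons_iff _ _ _).2 ⟨IsSMulRegular.of_right_eq_zero_of_smul fun x hx => ?_, ?_⟩
    · have : x ∈ ⨅ i : ℕ, J ^ i • (⊤ : Submodule A M) :=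
        Submodule.mem_iInf _ |>.2 fun i => hmem i x (hx ▸ zero_mem _)
      rwa [Ideal.iInf_pow_smul_eq_bot_of_isLocalRing J hJ, Submodule.mem_bot] at this
    · refine isWeaklyRegular_of_gr J hJ fs (QuotSMulTop f M) fun j => ?_
      let π := Submodule.mkQ (f • (⊤ : Submodule A M))
      have hmap : (Fil M J j).map π = Fil (QuotSMulTop f M) J j := by
        rw [Submodule.map_smul'', Submodule.map_top, Submodule.range_mkQ]
      let φ : ↥(Fil M J j) →ₗ[A] Gr (QuotSMulTop f M) J j :=
        (Submodule.mkQ _).comp (π.restrict (p := Fil M J j) (q := Fil (QuotSMulTop f M) J j)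
          fun x hx => hmap ▸ Submodule.mem_map_of_mem hx)
      have hφ : Function.Surjective φ := fun z => by
        obtain ⟨⟨z, hz⟩, rfl⟩ := Submodule.mkQ_surjective _ z
        obtain ⟨x, hx, rfl⟩ := hmap ▸ hz
        exact ⟨⟨x, hx⟩, rfl⟩
      let ψ : ↥(Fil M J j) →ₗ[A] QuotSMulTop f (Gr M J j) := (Submodule.mkQ _).comp (Submodule.mkQ _)
      have hψ : Function.Surjective ψ := (Submodule.mkQ_surjective _).comp (Submodule.mkQ_surjective _)
      have hker : LinearMap.ker ψ = LinearMap.ker φ := by
        ext x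
        rw [LinearMap.mem_ker, LinearMap.mem_ker]
        constructor
        · intro h0
          obtain ⟨z, -, hz⟩ := (Submodule.Quotient.mk_eq_zero _).1 h0
          obtain ⟨z, rfl⟩ := Submodule.mkQ_surjective _ z
          change f • Submodule.mkQ (J • (⊤ : Submodule A ↥(Fil M J j))) z = Submodule.mkQ _ x at hz
          rw [← map_smul] at hz
          have h2 := (mem_smul_top_iff' _ _ _).1 ((Submodule.Quotient.eq _).1 hz)
          refine (gr_mk_eq_zero J j _).2 ?_
          have h3 := Submodule.mem_map_of_mem (f := π) h2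
          rw [Submodule.map_smul'', hmap, ← fil_succ] at h3
          have h4 : π ((f • z - x : ↥(Fil M J j)) : M) = -(π (x : M)) := by
            have h5 : π (f • (z : M)) = 0 := (Submodule.Quotient.mk_eq_zero _).2
              (Submodule.smul_mem_pointwise_smul _ _ _ Submodule.mem_top)
            rw [Submodule.coe_sub, Submodule.coe_smul, map_sub, h5, zero_sub]
          rw [h4, neg_mem_iff] at h3
          exact h3
        · intro h0
          have h2 : π (x : M) ∈ Fil (QuotSMulTop f M) J (j + 1) := (gr_mk_eq_zero J j _).1 h0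
          rw [show Fil (QuotSMulTop f M) J (j + 1) = (Fil M J (j + 1)).map π by
            rw [Submodule.map_smul'', Submodule.map_top, Submodule.range_mkQ]] at h2
          obtain ⟨y, hy, hyx⟩ := h2
          obtain ⟨w, -, hw⟩ := (Submodule.Quotient.eq _).1 hyx
          change f • w = y - x at hw
          have hwm : w ∈ Fil M J j := hmem j w (by rw [hw]; exact sub_mem (fil_le_succ J j hy) x.2)
          let q := Submodule.mkQ (J • (⊤ : Submodule A ↥(Fil M J j)))
          refine (Submodule.Quotient.mk_eq_zero _).2 ⟨-q ⟨w, hwm⟩, Submodule.mem_top, ?_⟩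
          change f • -q ⟨w, hwm⟩ = q x
          rw [← map_neg, ← map_smul]
          refine (Submodule.Quotient.eq _).2 ((mem_smul_top_iff' _ _ _).2 ?_)
          rw [← fil_succ, Submodule.coe_sub, Submodule.coe_smul, Submodule.coe_neg, smul_neg, hw, neg_sub, sub_sub_cancel_left, neg_mem_iff]
          exact hy
      let e := (ψ.quotKerEquivOfSurjective hψ).symm.trans ((Submodule.quotEquivOfEq _ _ hker).trans (φ.quotKerEquivOfSurjective hφ))
      exact (e.isWeaklyRegular_congr fs).1 ((isWeaklyRegular_cons_iff _ _ _).1 (h j)).2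

/-- In the local algebraic form to which its proof reduces. Let A be a Noetherian local ring, J a proper
ideal such that A is normally flat along J, i.e. every J^k/J^{k+1} is a flat (equivalently free)
A/J-module, and f_1, …, f_r elements of A whose images form a weakly regular sequence on A/J (each
f_i a non-zero-divisor on A/J modulo the preceding ones). Then for every k ≥ 0 the f_i form a weakly
regular sequence on the A-module J^k and on the A-module J^k/J^{k+1}; in particular (k = 0) on A
itself, so that they are regular on the Rees algebra ⊕ J^k and on the associated graded ring ⊕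
J^k/J^{k+1}. -/
theorem result (A : Type u) [CommRing A] [IsLocalRing A] [IsNoetherianRing A] (J : Ideal A) (hJ : J ≠ ⊤) (hflat : ∀ k : ℕ, Module.Flat (A ⧸ J) (↥(J ^ k) ⧸ (J • (⊤ : Submodule A ↥(J ^ k))))) (fs : List A) (hreg : RingTheory.Sequence.IsWeaklyRegular (A ⧸ J) fs) (k : ℕ) : RingTheory.Sequence.IsWeaklyRegular (↥(J ^ k)) fs ∧ RingTheory.Sequence.IsWeaklyRegular (↥(J ^ k) ⧸ (J • (⊤ : Submodule A ↥(J ^ k)))) fs := by
  have hgr : ∀ m, RingTheory.Sequence.IsWeaklyRegular (↥(J ^ m) ⧸ (J • (⊤ : Submodule A ↥(J ^ m)))) fs := fun m => by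
    have := hflat m
    exact (GrothLib.NormFlat.regular_and_flat_quotient_of_flat (G := ↥(J ^ m) ⧸ (J • (⊤ : Submodule A ↥(J ^ m)))) fs hreg).2
  refine ⟨isWeaklyRegular_of_gr J hJ fs _ fun j => ?_, hgr k⟩
  have hmap : (GrothLib.NormFlat.Fil (↥(J ^ k)) J j).map (Submodule.subtype (J ^ k)) = J ^ (j + k) := by
    rw [Submodule.map_smul'', Submodule.map_top, Submodule.range_subtype, pow_add]; rfl
  let e : ↥(GrothLib.NormFlat.Fil (↥(J ^ k)) J j) ≃ₗ[A] ↥(J ^ (j + k)) :=
    (Submodule.equivMapOfInjective _ (Submodule.subtype_injective _) _).trans (LinearEquiv.ofEq _ _ hmap)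
  have h2 : (J • (⊤ : Submodule A ↥(GrothLib.NormFlat.Fil (↥(J ^ k)) J j))).map e.toLinearMap = J • ⊤ := by
    rw [Submodule.map_smul'', Submodule.map_top, LinearEquiv.range]
  exact ((Submodule.Quotient.equiv _ _ e h2).isWeaklyRegular_congr fs).2 (hgr (j + k))

end Groth.Agent.S5182
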