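import Groth.Statements.S5183
import Groth.Statements.S5183
import Groth.Agent.PunctPure21.Slice
import Groth.Agent.Lib.FEt21.Henselian
import Groth.Agent.S2945

set_option autoImplicit false
universe u
open CategoryTheory CategoryTheory.Limits AlgebraicGeometry
open Pi1

namespace Groth.Agent.S5183

/-- Let A be a Noetherian local ring which is a quotient of a regular local ring, t an A-regular element
of the maximal ideal such that A is separated and complete for the (t)-adic topology, and assume
depth A_p ≥ 2 for every prime ideal p with dim A/p = 1. If B = A/tA is pure, i.e. the pair (Spec B,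
closed point) is pure: for every open V of Spec B restriction of finite étale covers from V to V
minus the closed point is an equivalence of categories, then A is pure. -/
theorem result (A : Type u) [CommRing A] [IsLocalRing A] [IsNoetherianRing A] (hq : ∃ (B : Type u) (_ : CommRing B) (_ : IsRegularLocalRing B) (φ : B →+* A), Function.Surjective φ) (t : A) (ht : t ∈ IsLocalRing.maximalIdeal A) (hreg : IsSMulRegular A t) [IsAdicComplete (Ideal.span {t}) A] (hdepth : ∀ p : Ideal A, ∀ _ : p.IsPrime, ringKrullDim (A ⧸ p) = 1 → (2 : ℕ∞) ≤ LocCoh.depth (Localization.AtPrime p) (Localization.AtPrime p)) [IsLocalRing (A ⧸ Ideal.span {t})] (hB : SGA2.IsPurePair (Spec (CommRingCat.of (A ⧸ Ideal.span {t}))) (FEt.puncturedSpec (A ⧸ Ideal.span {t}))) : SGA2.IsPurePair (Spec (CommRingCat.of A)) (FEt.puncturedSpec A) := by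
  obtain ⟨R, _, _, π, hπ⟩ := hq
  have hL := Groth.Agent.S2945.result R A π hπ t ht hreg fun p hp => hdepth p.asIdeal p.2 hp
  let cl : Spec (CommRingCat.of (A ⧸ Ideal.span {t})) ⟶ Spec (CommRingCat.of A) :=
    Spec.map (CommRingCat.ofHom (Ideal.Quotient.mk (Ideal.span {t})))
  haveI : IsClosedImmersion cl := IsClosedImmersion.spec_of_surjective _ Ideal.Quotient.mk_surjective
  have hpre : cl ⁻¹ᵁ FEt.puncturedSpec A = FEt.puncturedSpec (A ⧸ Ideal.span {t}) := by
    have hc : cl (IsLocalRing.closedPoint (A ⧸ Ideal.span {t})) = IsLocalRing.closedPoint A := by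
      haveI : IsLocalHom (Ideal.Quotient.mk (Ideal.span {t})) :=
        IsLocalHom.of_surjective _ Ideal.Quotient.mk_surjective
      exact IsLocalRing.comap_closedPoint _
    ext p
    show cl p ≠ IsLocalRing.closedPoint A ↔ p ≠ IsLocalRing.closedPoint _
    rw [← hc]
    exact not_congr cl.isClosedEmbedding.injective.eq_iff
  let U := FEt.puncturedSpec A
  let U₀ := FEt.puncturedSpec (A ⧸ Ideal.span {t})
  let r : (U₀ : Scheme.{u}) ⟶ (U : Scheme.{u}) := IsOpenImmersion.lift U.ι (U₀.ι ≫ cl) (by
    rintro _ ⟨w, rfl⟩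
    rw [Scheme.Opens.range_ι]
    exact hpre.ge w.2)
  have hr : r ≫ U.ι = U₀.ι ≫ cl := IsOpenImmersion.lift_fac _ _ _
  obtain ⟨hfull, hfaith⟩ := GrothLib.PunctPure21.fullyFaithful_slice U cl U₀ hpre hL ⊤ (Set.subset_univ _)
    (r ≫ (U : Scheme.{u}).topIso.inv) (by rw [Category.assoc]; erw [Scheme.toIso_inv_ι_assoc]; exact hr)
  haveI := hfull
  haveI := hfaith
  let j := (⊤ : (U : Scheme.{u}).Opens).ι ≫ U.ι
  haveI := GrothLib.FEt21.isEquivalence_of_henselian A (Ideal.span {t})
  haveI := GrothLib.PunctPure21.isEquivalence_ι hB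
  have hcomp : (r ≫ (U : Scheme.{u}).topIso.inv) ≫ j = U₀.ι ≫ cl := by
    rw [Category.assoc]; erw [Scheme.toIso_inv_ι_assoc]; exact hr
  haveI : (FEt.restrict j ⋙ FEt.restrict (r ≫ (U : Scheme.{u}).topIso.inv)).IsEquivalence :=
    Functor.isEquivalence_of_iso (F := FEt.restrict cl ⋙ FEt.restrict U₀.ι)
      ((MorphismProperty.Over.pullbackComp (P := FEt.prop) (Q := ⊤) U₀.ι cl).symm ≪≫
        MorphismProperty.Over.pullbackCongr (P := FEt.prop) (Q := ⊤) hcomp.symm ≪≫
        MorphismProperty.Over.pullbackComp (P := FEt.prop) (Q := ⊤) (r ≫ (U : Scheme.{u}).topIso.inv) j)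
  have hj := GrothLib.PunctPure21.isEquivalence_of_comp_fullyFaithful (FEt.restrict j)
    (FEt.restrict (r ≫ (U : Scheme.{u}).topIso.inv))
  exact GrothLib.PunctPure21.isPurePair_of_isEquivalence
    (GrothLib.PunctPure21.isEquivalence_comp (U : Scheme.{u}).topIso.inv j U.ι
      (by erw [Scheme.toIso_inv_ι_assoc]) (GrothLib.PunctPure21.isEquivalence_of_isIso _) hj)

end Groth.Agent.S5183
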