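import Groth.Statements.S5185
import Groth.Agent.PunctPure21.Extend
import Groth.Agent.PunctPure21.Basic
import Groth.Agent.CIPure21.Main
import Groth.Agent.S5184
import Groth.Agent.S2947

set_option autoImplicit false
universe u
open CategoryTheory CategoryTheory.Limits AlgebraicGeometry
open LefX

namespace Groth.Agent.S5185

/-- Let X be a locally Noetherian scheme and 𝓘 a quasi-coherent ideal sheaf with Y = V(𝓘), such that the
effective Lefschetz condition Leff(X, Y) holds, and such that for every open neighbourhood U of Y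
and every point x of X outside U the local ring O_{X,x} is either regular of dimension ≥ 2 or an
(absolute) complete intersection of dimension ≥ 3, i.e. a regular local ring modulo a regular
sequence. Then restriction of finite étale covers from X to Y is an equivalence of categories;
equivalently π_0(Y) → π_0(X) is bijective and, for X connected, π_1(Y) → π_1(X) is an isomorphism. -/
theorem result (X : Scheme.{u}) [IsLocallyNoetherian X] (𝓘 : X.IdealSheafData) (h : LefX.LeffCond X 𝓘) (hpur : ∀ U : X.Opens, (𝓘.support : Set X) ⊆ (U : Set X) → ∀ x : X, x ∉ U → (IsRegularLocalRing (X.presheaf.stalk x) ∧ (2 : WithBot ℕ∞) ≤ ringKrullDim (X.presheaf.stalk x)) ∨ (SGA2.IsAbsCompleteIntersection (X.presheaf.stalk x) ∧ (3 : WithBot ℕ∞) ≤ ringKrullDim (X.presheaf.stalk x))) : (FEt.restrict 𝓘.subschemeι).IsEquivalence := by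
  have hpd : ∀ U : X.Opens, (𝓘.support : Set X) ⊆ (U : Set X) → ∀ x : X, x ∉ U →
      (2 : ℕ∞) ≤ LocCoh.depth (X.presheaf.stalk x) (X.presheaf.stalk x) ∧
        FEt.PurityHolds (X.presheaf.stalk x) := by
    intro U hU x hx
    rcases hpur U hU x hx with ⟨hr, hd⟩ | ⟨⟨B, _, _, rs, hm, hreg, ⟨e⟩⟩, hd⟩
    · haveI := hr
      refine ⟨GrothLib.SGA2Para.le_depth_of_ci (X.presheaf.stalk x) [] (by simp)
        (RingTheory.Sequence.IsWeaklyRegular.nil _ _) _ (RingHom.id _) Function.surjective_id
        (by rw [Ideal.ofList_nil]; exact (RingHom.injective_iff_ker_eq_bot _).1 Function.injective_id) 2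
        (by exact_mod_cast hd), Groth.Agent.S0247.result _ hd⟩
    · have hk : RingHom.ker (e.symm.toRingHom.comp (Ideal.Quotient.mk _)) = Ideal.ofList rs := by
        rw [RingHom.ker_comp_of_injective _ e.symm.injective, Ideal.mk_ker]
      have hs := e.symm.surjective.comp (Ideal.Quotient.mk_surjective (I := Ideal.span {r | r ∈ rs}))
      refine ⟨GrothLib.SGA2Para.le_depth_of_ci B rs hm hreg.toIsWeaklyRegular _ _ hs hk 2
        (le_trans (by norm_num) hd), ?_⟩
      exact GrothLib.CIPure21.purityHolds_of_ci rs.length B rs rfl hm hreg.toIsWeaklyRegular _ _ hs hk hd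
  haveI : (FEt.restrict 𝓘.subschemeι).Full ∧ (FEt.restrict 𝓘.subschemeι).Faithful := by
    obtain ⟨hfull, hfaith⟩ := Groth.Agent.S2947.result X 𝓘 h.1 ⊤ (Set.subset_univ _)
    haveI := hfull
    haveI := hfaith
    haveI : IsIso (⊤ : X.Opens).ι := inferInstanceAs (IsIso X.topIso.hom)
    let κ := (𝓘.comapIso (⊤ : X.Opens).ι).hom ≫ pullback.snd _ _
    haveI := GrothLib.PunctPure21.isEquivalence_of_isIso κ
    haveI := GrothLib.PunctPure21.isEquivalence_of_isIso (⊤ : X.Opens).ι
    have hκ : κ ≫ 𝓘.subschemeι = (𝓘.comap (⊤ : X.Opens).ι).subschemeι ≫ (⊤ : X.Opens).ι := by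
      rw [Category.assoc, ← pullback.condition, Scheme.IdealSheafData.comapIso_hom_fst_assoc]
    let η : FEt.restrict (⊤ : X.Opens).ι ⋙ FEt.restrict (𝓘.comap (⊤ : X.Opens).ι).subschemeι ≅
        FEt.restrict 𝓘.subschemeι ⋙ FEt.restrict κ :=
      (MorphismProperty.Over.pullbackComp (P := FEt.prop) (Q := ⊤) _ _).symm ≪≫
        MorphismProperty.Over.pullbackCongr (Q := ⊤) hκ.symm ≪≫
        MorphismProperty.Over.pullbackComp (P := FEt.prop) (Q := ⊤) κ 𝓘.subschemeι
    haveI : (FEt.restrict 𝓘.subschemeι ⋙ FEt.restrict κ).Full := Functor.Full.of_iso η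
    haveI : (FEt.restrict 𝓘.subschemeι ⋙ FEt.restrict κ).Faithful := Functor.Faithful.of_iso η
    exact ⟨Functor.Full.of_comp_faithful _ (FEt.restrict κ), Functor.Faithful.of_comp _ (FEt.restrict κ)⟩
  obtain ⟨hf1, hf2⟩ := this
  haveI : (FEt.restrict 𝓘.subschemeι).EssSurj := by
    refine ⟨fun R => ?_⟩
    obtain ⟨U, R', hU, hiso⟩ := Groth.Agent.S5184.result X 𝓘 h R
    haveI := GrothLib.PunctPure21.essSurj_of_purity_depthTwo (U := U) (fun x hx => (hpd U hU x hx).1)
      fun x hx => (hpd U hU x hx).2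
    let i : 𝓘.subscheme ⟶ (U : Scheme.{u}) := IsOpenImmersion.lift U.ι 𝓘.subschemeι (by
        rw [Scheme.Opens.range_ι, Scheme.IdealSheafData.range_subschemeι]; exact hU)
    obtain ⟨e⟩ := hiso i (IsOpenImmersion.lift_fac _ _ _)
    exact ⟨(FEt.restrict U.ι).objPreimage R', ⟨GrothLib.FEt21.restrictCompIso i U.ι _
      (IsOpenImmersion.lift_fac _ _ _) _ ≪≫ (FEt.restrict i).mapIso
      ((FEt.restrict U.ι).objObjPreimageIso R') ≪≫ e⟩⟩
  exact { }

end Groth.Agent.S5185
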