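import Groth.Statements.S5186
import Groth.Agent.Lib.CohSS9.Basic
import Groth.Agent.Lib.GrothSS.Main
import Groth.Agent.Lib.InjSky20.Basic
import Groth.Agent.Lib.Cohom.RpushModules
import Groth.Agent.Lib.FlatBCRpush.Main
import Groth.Agent.Lib.SheafCoh.Derived
import Groth.Agent.Lib.Euler.Coh
import Groth.Agent.Lib.Cohom.Serre

set_option autoImplicit false
universe u
open CategoryTheory AlgebraicGeometry
open Coherent

namespace Groth.Agent.S5186

/-- Let f : X → S be a proper morphism of schemes with S locally Noetherian, U an open subset of X with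
inclusion g : U → X, h = f ∘ g : U → S, F an O_U-module and n ≥ 0. If the higher direct images R^i
g_*(F) are coherent O_X-modules for all i ≤ n, then the higher direct images R^i h_*(F) are coherent
O_S-modules for all i ≤ n. (The existence of injective resolutions in the module categories is
carried as instance arguments.) -/
theorem result {X S : Scheme.{u}} (f : X ⟶ S) [IsProper f] [IsLocallyNoetherian S] (U : X.Opens) [HasInjectiveResolutions (U : Scheme.{u}).Modules] [HasInjectiveResolutions X.Modules] (F : (U : Scheme.{u}).Modules) (n : ℕ) (hg : ∀ i : ℕ, i ≤ n → Coh.IsCoh ((Coh.Rpush U.ι i).obj F)) (i : ℕ) (hi : i ≤ n) : Coh.IsCoh ((Coh.Rpush (U.ι ≫ f) i).obj F) := by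
  haveI : IsLocallyNoetherian X := LocallyOfFiniteType.isLocallyNoetherian f
  haveI : QuasiCompact U.ι := inferInstance
  haveI := GrothLib.FlatBCRpush.preservesFiniteLimits_pushforward f
  haveI := GrothLib.FlatBCRpush.preservesFiniteLimits_pushforward U.ι
  have h0 := hg 0 (Nat.zero_le n)
  have e0 : (Coh.Rpush U.ι 0).obj F ≅ (Scheme.Modules.pushforward U.ι).obj F :=
    (Scheme.Modules.pushforward U.ι).rightDerivedZeroIsoSelf.app F
  haveI hq0 : ((Scheme.Modules.pushforward U.ι).obj F).IsQuasicoherent := (GrothLib.QCoh.isCoh_of_iso e0 h0).1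
  haveI hFq : F.IsQuasicoherent :=
    (SheafOfModules.isQuasicoherent (U : Scheme.{u}).ringCatSheaf).prop_of_iso
      ((asIso (Scheme.Modules.restrictAdjunction U.ι).counit).app F)
      (show (((Scheme.Modules.pushforward U.ι).obj F).restrict U.ι).IsQuasicoherent from inferInstance)
  obtain ⟨E, a, ha, -, hE⟩ := GrothLib.GrothSS.exists_grothendieck (Scheme.Modules.pushforward f)
    (Scheme.Modules.pushforward U.ι)
    (fun Q hQ q hq => by
      obtain ⟨q, rfl⟩ : ∃ k, q = k + 1 := ⟨q - 1, by omega⟩
      haveI := GrothLib.InjSky20.injective_pushforward_of_flat U.ι Q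
      exact Functor.isZero_rightDerived_obj_injective_succ _ q _)
    F (fun p q => (Coh.Rpush f p).obj ((Coh.Rpush U.ι q).obj F)) (fun m => (Coh.Rpush (U.ι ≫ f) m).obj F)
    (Limits.cokernel (𝟙 (Coh.structureModule S))) (Limits.isZero_cokernel_of_epi _)
    (fun m => ⟨((GrothLib.SheafCoh.rightDerivedCongr (Scheme.Modules.pushforwardComp U.ι f) m).app F).symm⟩)
    (fun p q => ⟨Iso.refl _⟩)
  haveI : ∀ q, ((Coh.Rpush U.ι q).obj F).IsQuasicoherent := fun q =>
    GrothLib.Cohom.isQuasicoherent_Rpush U.ι F q
  have hq : ∀ p q : ℕ, ((Coh.Rpush f p).obj ((Coh.Rpush U.ι q).obj F)).IsQuasicoherent := fun p q =>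
    GrothLib.Cohom.isQuasicoherent_Rpush f _ p
  have hres := GrothLib.CohSS9.isCoh_abutment E a (i : ℤ) (ha _) (fun pq => ?_) (fun p q hpq => ?_)
  · simpa using hres
  · haveI := GrothLib.Cohom.isQuasicoherent_structureModule S
    refine (SheafOfModules.isQuasicoherent S.ringCatSheaf).prop_of_iso (hE pq.1 pq.2).some.symm ?_
    split_ifs
    · exact hq _ _
    · exact GrothLib.QCoh.isQuasicoherent_cokernel _
  · refine GrothLib.QCoh.isCoh_of_iso (hE p q).some.symm ?_
    split_ifs with hc
    · exact GrothLib.Cohom.isCoh_Rpush f _ (hg _ (by omega)) _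
    · haveI := GrothLib.Cohom.isQuasicoherent_structureModule S
      have hO := GrothLib.Euler.isCoh_of_isInvertible (GrothLib.Euler.isInvertible_structure (X := S))
      exact ⟨GrothLib.QCoh.isQuasicoherent_cokernel _, GrothLib.QCoh.isFiniteType_cokernel _ hO.2⟩

end Groth.Agent.S5186
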