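import Groth.Statements.S5188
import Groth.Agent.Lib.LefCI2.Step

set_option autoImplicit false
set_option linter.all false
universe u
open CategoryTheory CategoryTheory.Limits AlgebraicGeometry
open LefX

namespace Groth.Agent.S5188

/-- Let k be a field, d ≥ 0 and r ≥ d + 3, and let G_1, …, G_d be homogeneous forms of positive degrees
in the homogeneous coordinates of P = P^r_k whose common zero scheme X = V(G_1, …, G_d), with closed
immersion ι : X → P, has dimension r − d, so that X is a global complete intersection of dimension ≥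
3. Then Pic(X) is the free group generated by the class of O_X(1) = ι^*O(1): every invertible
O_X-module is isomorphic to ι^*O(e) for some integer e, and ι^*O(e) is isomorphic to O_X only when e
= 0. -/
theorem result (k : Type u) [Field k] (d r : ℕ) (hr : d + 3 ≤ r) (a : Fin d → ℕ) (ha : ∀ j, 1 ≤ a j) (G : ∀ j : Fin d, LefPen.Form r k (a j)) (hdim : topologicalKrullDim ↥(LefPen.ciIdeal G).subscheme = ((r - d : ℕ) : WithBot ℕ∞)) : (∀ L : (LefPen.ciIdeal G).subscheme.Modules, PicF.IsInvertible L → ∃ e : ℤ, Nonempty (L ≅ (Scheme.Modules.pullback (LefPen.ciIdeal G).subschemeι).obj (Twist.twistProjSpace r k e))) ∧ (∀ e : ℤ, Nonempty ((Scheme.Modules.pullback (LefPen.ciIdeal G).subschemeι).obj (Twist.twistProjSpace r k e) ≅ Coh.structureModule (LefPen.ciIdeal G).subscheme) → e = 0) := by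
  have hb := GrothLib.LefCI2.bijective_pull (n := r) d a G ha
    (GrothLib.CI20.regForms G (by omega) ha hdim) hr
  refine ⟨fun L hL => ?_, fun e he => ?_⟩
  · obtain ⟨M, hM, ⟨f⟩⟩ := GrothLib.LefPic7.picPullbackSurjective_of_surjective _ hb.2 L hL
    obtain ⟨e, ⟨g⟩⟩ := GrothLib.ProjPic26.exists_iso_twist (n := r) (R := k) hM
    exact ⟨e, ⟨f.symm ≪≫ (Scheme.Modules.pullback (LefPen.ciIdeal G).subschemeι).mapIso g⟩⟩
  · obtain ⟨φ⟩ := GrothLib.LefPic7.picPullbackInjective_of_injective _ hb.1 _
      (GrothLib.RelVan7.isInvertible_twist r k e) he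
    obtain ⟨z⟩ := GrothLib.GrTilde.nonempty_structureModule_iso_twist_zero (CohB1.polyGrading r k)
    exact GrothLib.ProjPic26.eq_of_twist_iso (by omega) (φ ≪≫ z)

end Groth.Agent.S5188
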