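import Groth.Statements.S5193
import Groth.Agent.Lib.RelVan7.Divisor
import Groth.Agent.Lib.LeffAmp7.Kernel
import Groth.Agent.Lib.LefPic7.Bij
-- import your own Groth.Agent.* helpers here

set_option autoImplicit false
universe u
open CategoryTheory CategoryTheory.Limits AlgebraicGeometry
open LefX

namespace Groth.Agent.S5193

/-- Over an affine base. Let A be a Noetherian ring, X a proper flat A-scheme, 𝓘 a quasi-coherent ideal
whose ideal module is invertible with ample inverse L, such that X_0 = V(𝓘) is also flat over A (so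
X is projective over A and 𝓘 is cut out by a section t of L regular on every fibre); write X_m =
V(𝓘^(m+1)) for the m-th thickening of X_0. Assume that every fibre X_s has depth ≥ 3 at each of its
closed points, and that at every point x outside X_0 which is closed in its fibre the local ring of
the fibre at x is parafactorial. Let m ≥ 0 be such that H^i(X, 𝓘^n/𝓘^(n+1)) = H^i(X_0, O_{X_0}(−n))
vanishes for i = 1, 2 and every n > m (over an affine base this is the vanishing of the higher
direct images R^i f_{0*}). Then pull-back of invertible modules Pic(X) → Pic(X_m) is bijective: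
trivial kernel and surjective on isomorphism classes. -/
theorem result (A : Type u) [CommRing A] [IsNoetherianRing A] (X : Scheme.{u}) [X.Over (Spec (CommRingCat.of A))] [IsProper (X ↘ Spec (CommRingCat.of A))] [Flat (X ↘ Spec (CommRingCat.of A))] (𝓘 : X.IdealSheafData) (L : X.Modules) (hL : ClSub.IsInverseOf L (ClSub.idealMod 𝓘)) (hamp : CohB1.IsAmple L) [Flat (𝓘.subschemeι ≫ (X ↘ Spec (CommRingCat.of A)))] (hdepth : ∀ x : X, IsClosed ({((X ↘ Spec (CommRingCat.of A))).asFiber x} : Set ↥(((X ↘ Spec (CommRingCat.of A))).fiber (((X ↘ Spec (CommRingCat.of A))).base x))) → (3 : ℕ∞) ≤ LocCoh.depth ↑(CInt.fiberStalk (X ↘ Spec (CommRingCat.of A)) x) ↑(CInt.fiberStalk (X ↘ Spec (CommRingCat.of A)) x)) (hpf : ∀ x : X, IsClosed ({((X ↘ Spec (CommRingCat.of A))).asFiber x} : Set ↥(((X ↘ Spec (CommRingCat.of A))).fiber (((X ↘ Spec (CommRingCat.of A))).base x))) → x ∉ (𝓘.support : Set X) → ParaF.IsParafactorialLocalRing ↑(CInt.fiberStalk (X ↘ Spec (CommRingCat.of A)) x)) (m : ℕ) (hH :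 ∀ n : ℕ, m < n → ∀ i : ℕ, (i = 1 ∨ i = 2) → Subsingleton (Coh.HH X ((DCoh.tensorBi.obj (CohB1.tensorPow (ClSub.idealMod 𝓘) n)).obj (ClSub.quotMod 𝓘)) i)) : Formal2.PicPullbackInjective (𝓘 ^ (m + 1)).subschemeι ∧ Formal2.PicPullbackSurjective (𝓘 ^ (m + 1)).subschemeι := by
  haveI := GrothLib.RelVan7.isNoetherian_of_proper A (X := X)
  have hI := GrothLib.LefAmp7.isInvertible_idealMod_of_inverse hamp.1 hL
  have h3 : ∀ x : X, IsClosed ({x} : Set X) → ((2 + 1 : ℕ) : ℕ∞) ≤ LocCoh.depth (X.presheaf.stalk x)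
      (GrothLib.RelVan7.FibMod (X ↘ Spec (CommRingCat.of A)) (Coh.structureModule X) x) := fun x hx => by
    rw [← GrothLib.RelVan7.depth_fiberStalk_structure]
    exact le_of_eq_of_le (by norm_num) (hdepth x (GrothLib.RelVan7.isClosed_asFiber _ hx))
  have hd2 : ∀ x : X, IsClosed ({((X ↘ Spec (CommRingCat.of A))).asFiber x} :
        Set ↥(((X ↘ Spec (CommRingCat.of A))).fiber (((X ↘ Spec (CommRingCat.of A))).base x))) →
      (2 : ℕ∞) ≤ LocCoh.depth ↑(CInt.fiberStalk (X ↘ Spec (CommRingCat.of A)) x)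
        ↑(CInt.fiberStalk (X ↘ Spec (CommRingCat.of A)) x) := fun x hx => le_trans (by norm_num) (hdepth x hx)
  have hY : ∀ J : X.IdealSheafData, J = 𝓘 → ∀ {E : J.subscheme.Modules}, FlatMod.IsFinLocFree E →
      FlatMod.IsFlatOver (X ↘ Spec (CommRingCat.of A)) ((Scheme.Modules.pushforward J.subschemeι).obj E) ∧
        ∀ x : X, IsClosed ({x} : Set X) → (2 : ℕ∞) ≤ LocCoh.depth (X.presheaf.stalk x)
          (GrothLib.RelVan7.FibMod (X ↘ Spec (CommRingCat.of A)) ((Scheme.Modules.pushforward J.subschemeι).obj E) x) := by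
    rintro J rfl E hE
    haveI : IsLocallyNoetherian J.subscheme := LocallyOfFiniteType.isLocallyNoetherian J.subschemeι
    have hEc := GrothLib.Euler.isCoh_of_isFinLocFree hE
    haveI := hEc.1
    have hfree := ((GrothLib.LocFree8.isFinLocFree_iff_fp_free E).1 hE).2
    refine ⟨GrothLib.RelVan7.isFlatOver_push _ _ fun z => GrothLib.RelVan7.isFlatOverAt_of_free _ z, fun x hx => ?_⟩
    by_cases hr : x ∈ Set.range J.subschemeι
    · obtain ⟨z, rfl⟩ := hr
      rw [GrothLib.RelVan7.depth_fibMod_push J.subschemeι _ hEc z]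
      refine GrothLib.RelVan7.depth_fibMod_of_free _ z E hEc 2 ?_
      rw [← GrothLib.RelVan7.depth_fibMod_push J.subschemeι _
        (GrothLib.Euler.isCoh_of_isInvertible GrothLib.Euler.isInvertible_structure) z]
      exact GrothLib.RelVan7.depth_fibMod_quot (X ↘ Spec (CommRingCat.of A)) J hI _ 2 (h3 _ hx)
    · haveI : Subsingleton (((Scheme.Modules.pushforward J.subschemeι).obj E).presheaf.stalk x) :=
        GrothLib.QCoh.stalk_subsingleton_of_notMem fun h => hr (GrothLib.QCoh.support_pushforward_subset_range _ _ h)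
      rw [GrothLib.Depth.depth_eq_top_of_subsingleton]
      exact le_top
  have hLeff : LefX.LeffCond X 𝓘 := ⟨GrothLib.RelVan7.lefCond_of_fibre_depth A 𝓘 hL hamp hd2, fun 𝔐 h𝔐 =>
    GrothLib.RelVan7.exists_bundle_of_fibre_depth A hamp 𝓘 hL
      (fun x hx => le_trans (by norm_num) (h3 x hx)) (hY (𝓘 ^ (0 + 1)) (by rw [zero_add, pow_one])) 𝔐 h𝔐⟩
  have hpara : ∀ U : X.Opens, (𝓘.support : Set X) ⊆ (U : Set X) → ∀ x : X, x ∉ U →
      ParaF.IsParafactorialLocalRing (X.presheaf.stalk x) := fun U hU x hx => by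
    have hcl := GrothLib.RelVan7.isClosed_asFiber_of_notMem A 𝓘 hL hI hamp hU hx
    exact GrothLib.RelVan7.isParafactorial_stalk (X ↘ Spec (CommRingCat.of A)) x (hdepth x hcl)
      (hpf x hcl fun h => hx (hU h))
  have hH' : ∀ k, m ≤ k → ∀ i : ℕ, (i = 1 ∨ i = 2) →
      Subsingleton (Coh.HH X (kernel (Lef.quotMap (Lef.pow_succ_le 𝓘 k))) i) := fun k hk i hi => by
    obtain ⟨e⟩ := GrothLib.LeffAmp7.nonempty_kernel_quotMap 𝓘 hI k
    exact GrothLib.CMReg.subsingleton_of_iso e.symm (hH (k + 1) (Nat.lt_succ_of_le hk) i hi)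
  have hb := GrothLib.LefPic7.bijective_pull_thickening 𝓘 hLeff hpara m hH'
  exact ⟨GrothLib.LefPic7.picPullbackInjective_of_injective _ hb.1,
    GrothLib.LefPic7.picPullbackSurjective_of_surjective _ hb.2⟩

end Groth.Agent.S5193
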