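import Groth.Statements.S5194
import Groth.Agent.Lib.RelVan7.Divisor
import Groth.Agent.Lib.LeffAmp7.Kernel
import Groth.Agent.PunctPure21.Basic
import Groth.Agent.CIPure21.Main
import Groth.Agent.S5184
import Groth.Agent.S2947
import Groth.Agent.S2950
import Groth.Agent.S0250


set_option autoImplicit false
set_option linter.all false
universe u
open CategoryTheory CategoryTheory.Limits AlgebraicGeometry
open LefX

namespace Groth.Agent.S5194

set_option backward.isDefEq.respectTransparency false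
set_option maxHeartbeats 1000000

/-- Purity passes from the local ring of the fibre. -/
theorem purity_stalk {X S : Scheme.{u}} (f : X ⟶ S) [Flat f] [IsLocallyNoetherian S] [LocallyOfFiniteType f] (x : X)
    (hd : (3 : ℕ∞) ≤ LocCoh.depth ↑(CInt.fiberStalk f x) ↑(CInt.fiberStalk f x))
    (hp : SGA2.IsPurePair (Spec (CommRingCat.of ↑(CInt.fiberStalk f x))) (FEt.puncturedSpec ↑(CInt.fiberStalk f x))) :
    FEt.PurityHolds (X.presheaf.stalk x) := by
  haveI : IsLocallyNoetherian X := LocallyOfFiniteType.isLocallyNoetherian f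
  obtain ⟨e⟩ := GrothLib.CMMor6.nonempty_fibQuot_equiv f x
  letI : Algebra (S.presheaf.stalk (f x)) (X.presheaf.stalk x) := (f.stalkMap x).hom.toAlgebra
  haveI : IsLocalHom (algebraMap (S.presheaf.stalk (f x)) (X.presheaf.stalk x)) :=
    inferInstanceAs (IsLocalHom (f.stalkMap x).hom)
  haveI : Module.Flat (S.presheaf.stalk (f x)) (X.presheaf.stalk x) := Flat.stalkMap f x
  haveI : IsNoetherianRing ((f.fiber (f x)).presheaf.stalk (f.asFiber x)) := isNoetherianRing_of_ringEquiv _ e
  haveI : IsLocalRing (GrothLib.CMMor6.FibQuot f x) := e.symm.isLocalRing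
  haveI hpr := (GrothLib.PunctPure21.isEquivalence_ι hp)
  have h0 : FEt.PurityHolds ↑(CInt.fiberStalk f x) := hpr.essSurj
  exact @Groth.Agent.S2950.result (S.presheaf.stalk (f x)) (X.presheaf.stalk x) _ _ _ _ _ _ _ _ _ ‹_›
    (hd.trans_eq (GrothLib.SmoothSerre.depth_eq_of_ringEquiv e).symm)
    (GrothLib.CIPure21.purityHolds_congr e h0)



/-- Over an affine base. Let A be a Noetherian ring, X a proper flat A-scheme, 𝓘 a quasi-coherent ideal
whose ideal module is invertible with ample inverse L, such that X_0 = V(𝓘) is also flat over A (X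
projective over A, 𝓘 cut out by a section of L regular on every fibre). Assume that every fibre X_s
has depth ≥ 3 at each of its closed points, and that at every point x outside X_0 which is closed in
its fibre the local ring of the fibre X_s at x is pure: for every open V of its spectrum,
restriction of finite étale covers from V to V minus the closed point is an equivalence (for
instance a complete intersection, of dimension ≥ 3 here). Then restriction of finite étale covers
from X to X_0 is an equivalence of categories; in particular π_1(X_0) → π_1(X) is an isomorphism for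
a geometric base point on X_0. -/
theorem result (A : Type u) [CommRing A] [IsNoetherianRing A] (X : Scheme.{u}) [X.Over (Spec (CommRingCat.of A))] [IsProper (X ↘ Spec (CommRingCat.of A))] [Flat (X ↘ Spec (CommRingCat.of A))] (𝓘 : X.IdealSheafData) (L : X.Modules) (hL : ClSub.IsInverseOf L (ClSub.idealMod 𝓘)) (hamp : CohB1.IsAmple L) [Flat (𝓘.subschemeι ≫ (X ↘ Spec (CommRingCat.of A)))] (hdepth : ∀ x : X, IsClosed ({((X ↘ Spec (CommRingCat.of A))).asFiber x} : Set ↥(((X ↘ Spec (CommRingCat.of A))).fiber (((X ↘ Spec (CommRingCat.of A))).base x))) → (3 : ℕ∞) ≤ LocCoh.depth ↑(CInt.fiberStalk (X ↘ Spec (CommRingCat.of A)) x) ↑(CInt.fiberStalk (X ↘ Spec (CommRingCat.of A)) x)) (hpure : ∀ x : X, IsClosed ({((X ↘ Spec (CommRingCat.of A))).asFiber x} : Set ↥(((X ↘ Spec (CommRingCat.of A))).fiber (((X ↘ Spec (CommRingCat.of A))).base x))) → x ∉ (𝓘.support : Set X) → SGA2.IsPurePair (Spec (CommRingCat.of ↑(CInt.fiberStalk (X ↘ Spec (CommRingCat.of A)) x))) (FEt.puncturedSpec ↑(CInt.fiberStalk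 (X ↘ Spec (CommRingCat.of A)) x))) : (FEt.restrict 𝓘.subschemeι).IsEquivalence := by
  haveI := GrothLib.RelVan7.isNoetherian_of_proper A (X := X)
  have hI := GrothLib.LefAmp7.isInvertible_idealMod_of_inverse hamp.1 hL
  have h3 : ∀ x : X, IsClosed ({x} : Set X) → ((2 + 1 : ℕ) : ℕ∞) ≤ LocCoh.depth (X.presheaf.stalk x)
      (GrothLib.RelVan7.FibMod (X ↘ Spec (CommRingCat.of A)) (Coh.structureModule X) x) := fun x hx => by
    rw [← GrothLib.RelVan7.depth_fiberStalk_structure]
    exact le_of_eq_of_le (by norm_num) (hdepth x (GrothLib.RelVan7.isClosed_asFiber _ hx))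
  have hd2 : ∀ x : X, IsClosed ({((X ↘ Spec (CommRingCat.of A))).asFiber x} :
        Set ↥(((X ↘ Spec (CommRingCat.of A))).fiber (((X ↘ Spec (CommRingCat.of A))).base x))) →
      (2 : ℕ∞) ≤ LocCoh.depth ↑(CInt.fiberStalk (X ↘ Spec (CommRingCat.of A)) x)
        ↑(CInt.fiberStalk (X ↘ Spec (CommRingCat.of A)) x) := fun x hx => le_trans (by norm_num) (hdepth x hx)
  have hY : ∀ J : X.IdealSheafData, J = 𝓘 → ∀ {E : J.subscheme.Modules}, FlatMod.IsFinLocFree E →
      FlatMod.IsFlatOver (X ↘ Spec (CommRingCat.of A)) ((Scheme.Modules.pushforward J.subschemeι).obj E) ∧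
        ∀ x : X, IsClosed ({x} : Set X) → (2 : ℕ∞) ≤ LocCoh.depth (X.presheaf.stalk x)
          (GrothLib.RelVan7.FibMod (X ↘ Spec (CommRingCat.of A)) ((Scheme.Modules.pushforward J.subschemeι).obj E) x) := by
    rintro J rfl E hE
    haveI : IsLocallyNoetherian J.subscheme := LocallyOfFiniteType.isLocallyNoetherian J.subschemeι
    have hEc := GrothLib.Euler.isCoh_of_isFinLocFree hE
    haveI := hEc.1
    have hfree := ((GrothLib.LocFree8.isFinLocFree_iff_fp_free E).1 hE).2
    refine ⟨GrothLib.RelVan7.isFlatOver_push _ _ fun z => GrothLib.RelVan7.isFlatOverAt_of_free _ z, fun x hx => ?_⟩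
    by_cases hr : x ∈ Set.range J.subschemeι
    · obtain ⟨z, rfl⟩ := hr
      rw [GrothLib.RelVan7.depth_fibMod_push J.subschemeι _ hEc z]
      refine GrothLib.RelVan7.depth_fibMod_of_free _ z E hEc 2 ?_
      rw [← GrothLib.RelVan7.depth_fibMod_push J.subschemeι _
        (GrothLib.Euler.isCoh_of_isInvertible GrothLib.Euler.isInvertible_structure) z]
      exact GrothLib.RelVan7.depth_fibMod_quot (X ↘ Spec (CommRingCat.of A)) J hI _ 2 (h3 _ hx)
    · haveI : Subsingleton (((Scheme.Modules.pushforward J.subschemeι).obj E).presheaf.stalk x) :=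
        GrothLib.QCoh.stalk_subsingleton_of_notMem fun h => hr (GrothLib.QCoh.support_pushforward_subset_range _ _ h)
      rw [GrothLib.Depth.depth_eq_top_of_subsingleton]
      exact le_top
  have hLeff : LefX.LeffCond X 𝓘 := ⟨GrothLib.RelVan7.lefCond_of_fibre_depth A 𝓘 hL hamp hd2, fun 𝔐 h𝔐 =>
    GrothLib.RelVan7.exists_bundle_of_fibre_depth A hamp 𝓘 hL
      (fun x hx => le_trans (by norm_num) (h3 x hx)) (hY (𝓘 ^ (0 + 1)) (by rw [zero_add, pow_one])) 𝔐 h𝔐⟩
  haveI : (FEt.restrict 𝓘.subschemeι).Full ∧ (FEt.restrict 𝓘.subschemeι).Faithful := by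
    obtain ⟨hfull, hfaith⟩ := Groth.Agent.S2947.result X 𝓘 hLeff.1 ⊤ (Set.subset_univ _)
    haveI := hfull
    haveI := hfaith
    haveI : IsIso (⊤ : X.Opens).ι := inferInstanceAs (IsIso X.topIso.hom)
    let κ := (𝓘.comapIso (⊤ : X.Opens).ι).hom ≫ pullback.snd _ _
    haveI := GrothLib.PunctPure21.isEquivalence_of_isIso κ
    haveI := GrothLib.PunctPure21.isEquivalence_of_isIso (⊤ : X.Opens).ι
    have hκ : κ ≫ 𝓘.subschemeι = (𝓘.comap (⊤ : X.Opens).ι).subschemeι ≫ (⊤ : X.Opens).ι := by
      rw [Category.assoc, ← pullback.condition, Scheme.IdealSheafData.comapIso_hom_fst_assoc]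
    let η : FEt.restrict (⊤ : X.Opens).ι ⋙ FEt.restrict (𝓘.comap (⊤ : X.Opens).ι).subschemeι ≅
        FEt.restrict 𝓘.subschemeι ⋙ FEt.restrict κ :=
      (MorphismProperty.Over.pullbackComp (P := FEt.prop) (Q := ⊤) _ _).symm ≪≫
        MorphismProperty.Over.pullbackCongr (Q := ⊤) hκ.symm ≪≫
        MorphismProperty.Over.pullbackComp (P := FEt.prop) (Q := ⊤) κ 𝓘.subschemeι
    haveI : (FEt.restrict 𝓘.subschemeι ⋙ FEt.restrict κ).Full := Functor.Full.of_iso η
    haveI : (FEt.restrict 𝓘.subschemeι ⋙ FEt.restrict κ).Faithful := Functor.Faithful.of_iso η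
    exact ⟨Functor.Full.of_comp_faithful _ (FEt.restrict κ), Functor.Faithful.of_comp _ (FEt.restrict κ)⟩
  obtain ⟨hf1, hf2⟩ := this
  haveI : (FEt.restrict 𝓘.subschemeι).EssSurj := by
    refine ⟨fun R => ?_⟩
    obtain ⟨U, R', hU, hiso⟩ := Groth.Agent.S5184.result X 𝓘 hLeff R
    haveI := Groth.Agent.S0250.result U (fun x hx => by
      have hcl := GrothLib.RelVan7.isClosed_asFiber_of_notMem A 𝓘 hL hI hamp hU hx
      exact purity_stalk (X ↘ Spec (CommRingCat.of A)) x (hdepth x hcl) (hpure x hcl fun h => hx (hU h)))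
    let i : 𝓘.subscheme ⟶ (U : Scheme.{u}) := IsOpenImmersion.lift U.ι 𝓘.subschemeι (by
        rw [Scheme.Opens.range_ι, Scheme.IdealSheafData.range_subschemeι]; exact hU)
    obtain ⟨e⟩ := hiso i (IsOpenImmersion.lift_fac _ _ _)
    refine ⟨(FEt.restrict U.ι).objPreimage R', ⟨?_ ≪≫ (FEt.restrict i).mapIso
      ((FEt.restrict U.ι).objObjPreimageIso R') ≪≫ e⟩⟩
    exact ((MorphismProperty.Over.pullbackCongr (P := FEt.prop) (Q := ⊤) (IsOpenImmersion.lift_fac _ _ _).symm ≪≫
      MorphismProperty.Over.pullbackComp (P := FEt.prop) (Q := ⊤) i U.ι).app _)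
  exact { }


end Groth.Agent.S5194
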