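import Groth.Statements.S5195
import Groth.Agent.Lib.Ample.Criterion
import Groth.Agent.Lib.Ample.Calculus
import Groth.Agent.Lib.Cube.DivisorSection
import Groth.Agent.Lib.AmpleDesc.Main
import Groth.Agent.Lib.NegTwist.H1
import Groth.Agent.Lib.DimCut.FibreStalk
import Mathlib.AlgebraicGeometry.Morphisms.QuasiFinite
import Mathlib.AlgebraicGeometry.QuasiAffine

set_option autoImplicit false
universe u
open CategoryTheory CategoryTheory.Limits AlgebraicGeometry
open Lef GrothLib

namespace Groth.Agent.S5195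

/-- A point whose closure lies in a quasi-affine open of a proper scheme over an affine base is closed in its fibre. -/
theorem isClosed_asFiber {A : Type u} [CommRing A] {X : Scheme.{u}} (f : X ⟶ Spec (CommRingCat.of A)) [IsProper f]
    (W : X.Opens) [(W : Scheme.{u}).IsQuasiAffine] {x : X}
    (hx : closure ({x} : Set X) ⊆ W) : IsClosed ({f.asFiber x} : Set ↥(f.fiber (f.base x))) := by
  let T : TopologicalSpace.Closeds X := ⟨closure {x}, isClosed_closure⟩
  let C := (Scheme.IdealSheafData.vanishingIdeal T).subscheme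
  let j : C ⟶ X := (Scheme.IdealSheafData.vanishingIdeal T).subschemeι
  have hrange : Set.range j = closure ({x} : Set X) := by
    rw [Scheme.IdealSheafData.range_subschemeι, Scheme.IdealSheafData.coe_support_vanishingIdeal]
    rfl
  let s : C ⟶ Spec (CommRingCat.of A) := j ≫ f
  haveI : IsProper s := inferInstance
  let jW : C ⟶ W := IsOpenImmersion.lift W.ι j (by rw [Scheme.Opens.range_ι, hrange]; exact hx)
  haveI : IsImmersion (jW ≫ W.ι) := by rw [IsOpenImmersion.lift_fac]; infer_instance
  haveI : IsImmersion jW := IsImmersion.of_comp jW W.ι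
  let φ : C ⟶ Spec Γ(W, ⊤) := jW ≫ (W : Scheme.{u}).toSpecΓ
  let q : Spec Γ(W, ⊤) ⟶ Spec (CommRingCat.of A) :=
    Spec.map ((Scheme.ΓSpecIso (CommRingCat.of A)).inv ≫ (W.ι ≫ f).appTop)
  have hφq : φ ≫ q = s := by
    simp only [q, φ, s, Spec.map_comp, Category.assoc]
    rw [← Scheme.toSpecΓ_naturality_assoc]
    simp only [Category.assoc, toSpecΓ_SpecMap_ΓSpecIso_inv, Category.comp_id]
    exact IsOpenImmersion.lift_fac_assoc _ _ _ _
  haveI : IsProper (φ ≫ q) := by rw [hφq]; infer_instance
  haveI : IsProper φ := IsProper.of_comp φ q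
  haveI : IsClosedImmersion φ :=
    IsClosedImmersion.of_isPreimmersion φ φ.isClosedMap.isClosed_range
  haveI : IsAffine C := isAffine_of_isAffineHom φ
  haveI : IsFinite s := IsFinite.iff_isProper_and_isAffineHom.2 ⟨inferInstance, inferInstance⟩
  refine isClosed_of_closure_subset fun p hp => ?_
  have hfib : f (f.fiberι (f x) p) = f x := by
    have h : f.fiberι (f x) p ∈ Set.range (f.fiberι (f x)) := ⟨p, rfl⟩
    rwa [Scheme.Hom.range_fiberι] at h
  have hy : f.fiberι (f x) p ∈ closure ({x} : Set X) := by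
    have h := image_closure_subset_closure_image (f.fiberι (f x)).continuous ⟨p, hp, rfl⟩
    rwa [Set.image_singleton, f.fiberι_asFiber] at h
  obtain ⟨c', hc'⟩ := hrange.ge hy
  obtain ⟨c, hc⟩ : x ∈ Set.range j := hrange ▸ subset_closure rfl
  have hcc : c ⤳ c' := j.isClosedEmbedding.isInducing.specializes_iff.1
    (specializes_iff_mem_closure.2 (by rw [hc, hc']; exact hy))
  have hd : DiscreteTopology ↥(s ⁻¹' {f x}) := (s.isDiscrete_preimage_singleton (f x)).to_subtype
  have hm : c ∈ s ⁻¹' {f x} := by simp [s, hc]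
  have hm' : c' ∈ s ⁻¹' {f x} := by simp [s, hc', hfib]
  have h1 : (⟨c, hm⟩ : ↥(s ⁻¹' {f x})) ⤳ ⟨c', hm'⟩ := (subtype_specializes_iff _ _).2 hcc
  have h2 : c = c' := congrArg Subtype.val h1.eq
  exact Set.mem_singleton_iff.2 ((f.fiberι (f x)).isEmbedding.injective
    (by rw [← hc', ← h2, hc, f.fiberι_asFiber]))

/-- For the structure sheaf, with the key step of its proof made explicit. Let A be a Noetherian ring, X
a proper A-scheme and 𝓘 a quasi-coherent ideal whose ideal module is invertible with ample inverse L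
(Y = V(𝓘) is an ample effective Cartier divisor), and let Z be a closed subset of X not meeting Y.
Then (1) every point of Z is closed in its fibre over Spec A (indeed Z is finite over A, being
proper and contained in the affine X − Y); and (2) if moreover X is flat over A and for every s the
fibre X_s has depth ≥ n at each of its closed points, then the local ring O_{X,z} has depth ≥ n at
every point z of Z. (The published statement allows any coherent module flat over the base whose
fibres have depth ≥ n at closed points; this row takes the structure sheaf.) -/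
theorem result (A : Type u) [CommRing A] [IsNoetherianRing A] (X : Scheme.{u}) [X.Over (Spec (CommRingCat.of A))] [IsProper (X ↘ Spec (CommRingCat.of A))] (𝓘 : X.IdealSheafData) (L : X.Modules) (hL : ClSub.IsInverseOf L (ClSub.idealMod 𝓘)) (hamp : CohB1.IsAmple L) (Z : Set X) (hZ : IsClosed Z) (hZY : Disjoint Z (𝓘.support : Set X)) (n : ℕ) : (∀ z : X, z ∈ Z → IsClosed ({((X ↘ Spec (CommRingCat.of A))).asFiber z} : Set ↥(((X ↘ Spec (CommRingCat.of A))).fiber (((X ↘ Spec (CommRingCat.of A))).base z)))) ∧ (Flat (X ↘ Spec (CommRingCat.of A)) → (∀ x : X, IsClosed ({((X ↘ Spec (CommRingCat.of A))).asFiber x} : Set ↥(((X ↘ Spec (CommRingCat.of A))).fiber (((X ↘ Spec (CommRingCat.of A))).base x))) → (n : ℕ∞) ≤ LocCoh.depth ↑(CInt.fiberStalk (X ↘ Spec (CommRingCat.of A)) x) ↑(CInt.fiberStalk (X ↘ Spec (CommRingCat.of A)) x)) → ∀ z : X, z ∈ Z → (n : ℕ∞) ≤ LocCoh.depth (X.presheaf.stalk z) (X.presheaf.stalk z)) := by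
  let f := X ↘ Spec (CommRingCat.of A)
  haveI : IsLocallyNoetherian X := LocallyOfFiniteType.isLocallyNoetherian f
  haveI : CompactSpace X := QuasiCompact.compactSpace_of_compactSpace f
  have h1 : ∀ z : X, z ∈ Z → IsClosed ({f.asFiber z} : Set ↥(f.fiber (f.base z))) := fun z hz => by
    obtain ⟨c₀, ⟨e'⟩⟩ := Ample.exists_cocycle hamp.1
    obtain ⟨i⟩ := NegTwist.nonempty_iso_inv c₀ hL e'
    have hI : PicF.IsInvertible (ClSub.idealMod 𝓘) := (NegTwist.inv c₀).isInvertible_of_iso i
    obtain ⟨c, a, hcls, hloc⟩ := Cube.hasSec_compl_support (IdealModSec.isEffCartier_of_isInvertible hI)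
    rw [← Cube.clsMod_eq_inv_of_isInverseOf hamp.1 hI hL] at hcls
    obtain ⟨e₀⟩ := Cube.cls_eq_iff.1 (hcls.symm : Cube.cls _ = Cube.cls c)
    let e : L ≅ c.twist 1 := (Ample.exists_cocycle hamp.1).choose_spec.some ≪≫ e₀
    haveI : (c.locus a : Scheme.{u}).IsQuasiAffine := c.isQuasiAffine_locus ((c.isAmple_iff e).1 hamp).2 (n := 0) a
    refine isClosed_asFiber f (c.locus a) fun w hw => ?_
    rw [hloc]
    exact fun hwY => Set.disjoint_left.1 hZY (closure_minimal (Set.singleton_subset_iff.2 hz) hZ hw) hwY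
  refine ⟨h1, fun hfl hd z hz => ?_⟩
  haveI := hfl
  exact DimCut.depth_stalk_ge f z n (hd z (h1 z hz))

end Groth.Agent.S5195
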