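import Groth.Statements.S5196
import Groth.Agent.Lib.TrdegBC19.Scheme
import Groth.Agent.Lib.TrdegBC19.Dim
-- import your own Groth.Agent.* helpers here

set_option autoImplicit false
universe u
open CategoryTheory CategoryTheory.Limits AlgebraicGeometry Opposite
open EtDepth

namespace Groth.Agent.S5196

/-- Let A → A' be a faithfully flat homomorphism of Noetherian local rings whose fibre over the closed
point of Spec A is the single closed point of Spec A' (the only prime of A' over m_A is m_{A'}), f :
X → Spec A a morphism locally of finite type, X' = X ×_A A' with projections h : X' → X and f' : X'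
→ Spec A'. For a point x' of X' put x = h(x'), s = f(x), s' = f'(x'). Then trdeg(κ(x')/κ(s')) ≤
trdeg(κ(x)/κ(s)) and dim A'/p_{s'} ≤ dim A/p_s, so that δ(x') ≤ δ(x) for δ(x) = trdeg(κ(x)/κ(s)) +
dim cl(s), with equality exactly when both inequalities are equalities; and for every point x of X
there is a point x' of X' over x for which both are equalities. -/
theorem result (A A' : Type u) [CommRing A] [CommRing A'] [IsLocalRing A] [IsLocalRing A'] [IsNoetherianRing A] [IsNoetherianRing A'] [Algebra A A'] [Module.FaithfullyFlat A A'] (hfib : ∀ q : Ideal A', ∀ _ : q.IsPrime, q.comap (algebraMap A A') = IsLocalRing.maximalIdeal A → q = IsLocalRing.maximalIdeal A') (X : Scheme.{u}) (f : X ⟶ (Spec (CommRingCat.of A))) [LocallyOfFiniteType f] : (∀ x' : ↥(pullback f (Spec.map (CommRingCat.ofHom (algebraMap A A')))), @Algebra.trdeg ↑((Spec (CommRingCat.of A')).residueField ((pullback.snd f (Spec.map (CommRingCat.ofHom (algebraMap A A')))).base x')) ↑((pullback f (Spec.map (CommRingCat.ofHom (algebraMap A A')))).residueField x') _ _ ((pullback.snd f (Spec.map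 (CommRingCat.ofHom (algebraMap A A')))).residueFieldMap x').hom.toAlgebra ≤ @Algebra.trdeg ↑((Spec (CommRingCat.of A)).residueField (f.base ((pullback.fst f (Spec.map (CommRingCat.ofHom (algebraMap A A')))).base x'))) ↑(X.residueField ((pullback.fst f (Spec.map (CommRingCat.ofHom (algebraMap A A')))).base x')) _ _ (f.residueFieldMap ((pullback.fst f (Spec.map (CommRingCat.ofHom (algebraMap A A')))).base x')).hom.toAlgebra ∧ ringKrullDim (A' ⧸ ((pullback.snd f (Spec.map (CommRingCat.ofHom (algebraMap A A')))).base x').asIdeal) ≤ ringKrullDim (A ⧸ (f.base ((pullback.fst f (Spec.map (CommRingCat.ofHom (algebraMap A A')))).base x')).asIdeal)) ∧ (∀ x : X, ∃ x' : ↥(pullback f (Spec.map (CommRingCat.ofHom (algebraMap A A')))), (pullback.fst f (Spec.map (CommRingCat.ofHom (algebraMap A A')))).base x' = x ∧ @Algebra.trdeg ↑((Spec (CommRingCat.of A')).residueField ((pullback.snd f (Spec.map (CommRingCat.ofHom (algebraMap A A')))).base x')) ↑((pullback f (Spec.map (CommRingCat.ofHom (algebraMap A A')))).residueField x') _ _ ((pullback.snd f (Spec.map (CommRingCat.ofHom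 (algebraMap A A')))).residueFieldMap x').hom.toAlgebra = @Algebra.trdeg ↑((Spec (CommRingCat.of A)).residueField (f.base ((pullback.fst f (Spec.map (CommRingCat.ofHom (algebraMap A A')))).base x'))) ↑(X.residueField ((pullback.fst f (Spec.map (CommRingCat.ofHom (algebraMap A A')))).base x')) _ _ (f.residueFieldMap ((pullback.fst f (Spec.map (CommRingCat.ofHom (algebraMap A A')))).base x')).hom.toAlgebra ∧ ringKrullDim (A' ⧸ ((pullback.snd f (Spec.map (CommRingCat.ofHom (algebraMap A A')))).base x').asIdeal) = ringKrullDim (A ⧸ (f.base ((pullback.fst f (Spec.map (CommRingCat.ofHom (algebraMap A A')))).base x')).asIdeal)) := by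
  set g := Spec.map (CommRingCat.ofHom (algebraMap A A'))
  have hcomap : ∀ (z : ↥(pullback f g)),
      ((pullback.snd f g).base z).asIdeal.comap (algebraMap A A') = (f.base ((pullback.fst f g).base z)).asIdeal := by
    intro z
    have h : f.base ((pullback.fst f g).base z) = g.base ((pullback.snd f g).base z) := by
      rw [← Scheme.Hom.comp_apply, pullback.condition, Scheme.Hom.comp_apply]
    rw [h]
    rfl
  have htr : ∀ (z : ↥(pullback f g)), ((Spec (CommRingCat.of A')).residueFieldCongr
      (rfl : (pullback.snd f g).base z = (pullback.snd f g).base z)).hom ≫ (pullback.snd f g).residueFieldMap z =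
      (pullback.snd f g).residueFieldMap z := fun z => by simp
  refine ⟨fun z => ⟨?_, ?_⟩, fun x => ?_⟩
  · have h1 := GrothLib.TrdegBC19.trdeg_snd_le_of_eq f g z rfl rfl
    rw [htr z] at h1
    exact h1
  · haveI := ((pullback.snd f g).base z).2
    exact GrothLib.TrdegBC19.ringKrullDim_quotient_le_of_comap hfib _ _ (hcomap z)
  · haveI := (f.base x).2
    obtain ⟨q, hq, hqp, hqd⟩ := GrothLib.TrdegBC19.exists_comap_ringKrullDim_eq hfib (f.base x).asIdeal
    obtain ⟨y, hy0⟩ : ∃ y : ↥(Spec (CommRingCat.of A')), y.asIdeal = q := ⟨⟨q, hq⟩, rfl⟩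
    have hfg : f.base x = g.base y := by
      refine PrimeSpectrum.ext ?_
      rw [← hqp, ← hy0]
      rfl
    obtain ⟨z, hx, hy, hle⟩ := GrothLib.TrdegBC19.exists_trdeg_ge f g x y hfg
    subst hx hy
    rw [htr z] at hle
    have h1 := GrothLib.TrdegBC19.trdeg_snd_le_of_eq f g z rfl rfl
    rw [htr z] at h1
    refine ⟨z, rfl, le_antisymm h1 hle, ?_⟩
    subst hy0
    exact hqd

end Groth.Agent.S5196
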