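import Groth.Statements.S5209
import Groth.Agent.Lib.UnivEE.Basic

set_option autoImplicit false
open CategoryTheory CategoryTheory.Limits
universe w v₁ u₁
open DescCat

namespace Groth.Agent.S5209

/-- In a category with pullbacks, let `f : S' ⟶ S` be a universal effective epimorphism, that is, a
morphism all of whose base changes are effective epimorphisms. Then a morphism `g` over `S` is an
isomorphism (resp. a monomorphism) if and only if its base change along `f` is. -/
theorem result {C : Type u₁} [Category.{v₁} C] [HasPullbacks C]
    {S' S : C} (f : S' ⟶ S) (hf : (MorphismProperty.universally (fun (A B : C) (p : A ⟶ B) => EffectiveEpi p)) f) {X Y : Over S} (g : X ⟶ Y) :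
    (IsIso g ↔ IsIso ((Over.pullback f).map g)) ∧ (Mono g ↔ Mono ((Over.pullback f).map g)) := by
  have hmono : Mono ((Over.pullback f).map g) → Mono g.left := by
    intro _
    refine ⟨fun {W} a b hab => ?_⟩
    obtain ⟨P, c, x, _, hx⟩ := GrothLib.UnivEE.exists_cover f (GrothLib.UnivEE.UEE.universally_epi hf) (a ≫ X.hom)
    have hb : (c ≫ b) ≫ X.hom = x ≫ f := by
      rw [hx, Category.assoc]
      congr 1
      rw [← Over.w g, reassoc_of% hab]
    have e : pullback.lift (c ≫ a) x (by rw [hx, Category.assoc]) ≫ ((Over.pullback f).map g).left =
        pullback.lift (c ≫ b) x hb ≫ ((Over.pullback f).map g).left := by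
      apply pullback.hom_ext <;> simp [hab, pullback.lift_fst, pullback.lift_snd, pullback.lift_fst_assoc, pullback.lift_snd_assoc]
    rw [cancel_mono] at e
    have := congrArg (· ≫ pullback.fst X.hom f) e
    simp only [pullback.lift_fst, cancel_epi] at this
    exact this
  refine ⟨⟨fun _ => inferInstance, fun hi => ?_⟩, ⟨fun _ => inferInstance, fun hm => ?_⟩⟩
  · haveI := hmono inferInstance
    have hc : GrothLib.UnivEE.UEE C (pullback.fst Y.hom f) :=
      GrothLib.UnivEE.UEE.of_isPullback (IsPullback.of_hasPullback Y.hom f) hf
    haveI := hc.effectiveEpi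
    haveI := hc.epi
    let k := (inv ((Over.pullback f).map g)).left ≫ pullback.fst X.hom f
    have hk : k ≫ g.left = pullback.fst Y.hom f := by
      simp only [k, Category.assoc]
      rw [show pullback.fst X.hom f ≫ g.left = ((Over.pullback f).map g).left ≫ pullback.fst Y.hom f by
        simp [pullback.lift_fst], ← Category.assoc, ← Over.comp_left, IsIso.inv_hom_id]
      simp
    clear_value k
    let d := EffectiveEpi.desc (pullback.fst Y.hom f) k (fun a b hab => by
      rw [← cancel_mono g.left, Category.assoc, Category.assoc, hk, hab])
    have hd : d ≫ g.left = 𝟙 _ := by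
      rw [← cancel_epi (pullback.fst Y.hom f), EffectiveEpi.fac_assoc, hk, Category.comp_id]
    haveI : IsIso g.left := ⟨d, by rw [← cancel_mono g.left, Category.assoc, hd]; simp, hd⟩
    haveI : IsIso ((Over.forget S).map g) := ‹IsIso g.left›
    exact isIso_of_reflects_iso g (Over.forget S)
  · haveI : Mono ((Over.forget S).map g) := hmono hm
    exact (Over.forget S).mono_of_mono_map ‹Mono ((Over.forget S).map g)›

end Groth.Agent.S5209
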