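import Groth.Statements.S5210
import Groth.Agent.Lib.UnivEE.Basic

set_option autoImplicit false
open CategoryTheory CategoryTheory.Limits
universe w v₁ u₁
open DescCat

namespace Groth.Agent.S5210

/-- In a category with pullbacks, let `f : S' ⟶ S` be a universal effective epimorphism (all of its base
changes are effective epimorphisms) and `Y ⟶ S` a monomorphism. Then an object `X` over `S` admits a
morphism to `Y` over `S` if and only if it does so after base change along `f`. -/
theorem result {C : Type u₁} [Category.{v₁} C] [HasPullbacks C]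
    {S' S : C} (f : S' ⟶ S) (hf : (MorphismProperty.universally (fun (A B : C) (p : A ⟶ B) => EffectiveEpi p)) f) (X Y : Over S) [Mono Y.hom] :
    Nonempty (X ⟶ Y) ↔ Nonempty ((Over.pullback f).obj X ⟶ (Over.pullback f).obj Y) := by
  refine ⟨fun ⟨g⟩ => ⟨(Over.pullback f).map g⟩, fun ⟨h⟩ => ?_⟩
  have hc : GrothLib.UnivEE.UEE C (pullback.fst X.hom f) :=
    GrothLib.UnivEE.UEE.of_isPullback (IsPullback.of_hasPullback X.hom f) hf
  haveI := hc.effectiveEpi
  have hw : (h.left ≫ pullback.fst Y.hom f) ≫ Y.hom = pullback.fst X.hom f ≫ X.hom := by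
    rw [Category.assoc, pullback.condition, pullback.condition]
    have := Over.w h
    dsimp at this
    rw [← this, Category.assoc]
  let d := EffectiveEpi.desc (pullback.fst X.hom f) (h.left ≫ pullback.fst Y.hom f) (fun a b hab => by
    rw [← cancel_mono Y.hom]
    simp only [Category.assoc] at hw ⊢
    rw [hw, reassoc_of% hab])
  refine ⟨Over.homMk d ?_⟩
  haveI := hc.epi
  rw [← cancel_epi (pullback.fst X.hom f), EffectiveEpi.fac_assoc, hw]

end Groth.Agent.S5210
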