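import Groth.Statements.S5211
import Groth.Agent.Lib.UnivEE.Basic

set_option autoImplicit false
open CategoryTheory CategoryTheory.Limits
universe w v₁ u₁
open DescCat

namespace Groth.Agent.S5211

/-- In a category with pullbacks: if `f : S' ⟶ S` is a universal effective epimorphism and the canonical
map `S' ×_S S' ⟶ S' ×_T S'` induced by `g : S ⟶ T` is an isomorphism, then `g` is a monomorphism. -/
theorem result {C : Type u₁} [Category.{v₁} C] [HasPullbacks C]
    {S' S T : C} (f : S' ⟶ S) (hf : (MorphismProperty.universally (fun (A B : C) (p : A ⟶ B) => EffectiveEpi p)) f) (g : S ⟶ T)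
    [IsIso (pullback.mapDesc f f g)] : Mono g := by
  refine GrothLib.UnivEE.mono_of_cover hf g fun a b h => ?_
  let z := pullback.lift (f := f ≫ g) (g := f ≫ g) a b h ≫ inv (pullback.mapDesc f f g)
  have hz : z ≫ pullback.mapDesc f f g = pullback.lift a b h := by simp [z]
  have ha : z ≫ pullback.fst f f = a := by
    simpa [pullback.lift_fst, pullback.lift_snd] using congrArg (· ≫ pullback.fst (f ≫ g) (f ≫ g)) hz
  have hb : z ≫ pullback.snd f f = b := by
    simpa [pullback.lift_fst, pullback.lift_snd] using congrArg (· ≫ pullback.snd (f ≫ g) (f ≫ g)) hz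
  exact (congrArg (· ≫ f) ha.symm).trans (by rw [Category.assoc, pullback.condition, ← Category.assoc, hb])

end Groth.Agent.S5211
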