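import Groth.Statements.S5212
import Mathlib.LinearAlgebra.Charpoly.BaseChange
import Mathlib.RingTheory.LocalRing.ResidueField.Ideal
import Mathlib.RingTheory.Norm.Basic
-- import your own Groth.Agent.* helpers here

set_option autoImplicit false
universe u
open GrpQ

open TensorProduct

namespace Groth.Agent.S5212

/-- For `A'` finite and free as an `A`-module, a prime `p` of `A` and `a ∈ A'`, the element `a` belongs
to some prime of `A'` lying over `p` if and only if its norm belongs to `p`. (The published
statement allows `A'` projective of constant rank over `A`; this row takes `A'` free, where the norm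
is the determinant of multiplication.) -/
theorem result {A A' : Type u} [CommRing A] [CommRing A'] [Algebra A A']
    [Module.Free A A'] [Module.Finite A A'] (p : Ideal A) [p.IsPrime] (a : A') :
    (∃ q : Ideal A', q.IsPrime ∧ q.LiesOver p ∧ a ∈ q) ↔ Algebra.norm A a ∈ p := by
  let F := p.ResidueField ⊗[A] A'
  let ι : A' →+* F := Algebra.TensorProduct.includeRight.toRingHom
  have hn : algebraMap A p.ResidueField (Algebra.norm A a) = Algebra.norm p.ResidueField (ι a) := by
    rw [Algebra.norm_apply, Algebra.norm_apply, ← LinearMap.det_baseChange]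
    congr 1
    ext x
    simp [ι]
    exact ((Algebra.TensorProduct.tmul_mul_tmul (1 : p.ResidueField) 1 a x).trans (by rw [_root_.one_mul])).symm
  have hiff : Algebra.norm A a ∈ p ↔ ¬ IsUnit (ι a) := by
    rw [← Ideal.algebraMap_residueField_eq_zero (I := p), hn, Algebra.norm_apply]
    constructor
    · intro h hu
      have : IsUnit (Algebra.lmul p.ResidueField F (ι a)) := hu.map _
      exact (this.map (LinearMap.det : (F →ₗ[p.ResidueField] F) →* p.ResidueField)).ne_zero h
    · intro hu
      by_contra h
      apply hu
      have h2 : IsUnit (Algebra.lmul p.ResidueField F (ι a)) :=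
        (LinearMap.isUnit_iff_isUnit_det _).mpr (isUnit_iff_ne_zero.mpr h)
      obtain ⟨y, hy⟩ := ((Module.End.isUnit_iff _).mp h2).2 1
      exact .of_mul_eq_one y hy
  rw [hiff]
  constructor
  · rintro ⟨q, hq, hqp, haq⟩ hu
    let f : F →ₐ[A] q.ResidueField :=
      Algebra.TensorProduct.lift (Ideal.ResidueField.mapₐ p q (Algebra.ofId A A') hqp.over)
        (IsScalarTower.toAlgHom A A' q.ResidueField) fun _ _ => Commute.all _ _
    have := hu.map f
    have hf : f (ι a) = 0 := by
      simp [f, ι]
      rw [Algebra.TensorProduct.lift_tmul, map_one, _root_.one_mul]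
      exact Ideal.algebraMap_residueField_eq_zero.mpr haq
    rw [hf] at this
    exact not_isUnit_zero this
  · intro hu
    obtain ⟨m, hm, ham⟩ := exists_max_ideal_of_mem_nonunits hu
    refine ⟨m.comap ι, inferInstance, ⟨?_⟩, ham⟩
    ext x
    rw [Ideal.under_def, Ideal.mem_comap, Ideal.mem_comap]
    rw [show ι (algebraMap A A' x) = algebraMap p.ResidueField F (algebraMap A p.ResidueField x) by
      rw [← IsScalarTower.algebraMap_apply]; exact Algebra.TensorProduct.includeRight.commutes x]
    constructor
    · intro hx
      rw [Ideal.algebraMap_residueField_eq_zero.mpr hx, map_zero]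
      exact zero_mem _
    · intro hx
      by_contra hp
      exact hm.ne_top (Ideal.eq_top_of_isUnit_mem _ hx
        ((isUnit_iff_ne_zero.mpr (mt Ideal.algebraMap_residueField_eq_zero.mp hp)).map _))


end Groth.Agent.S5212
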