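import Groth.Statements.S5213
import Groth.Agent.Lib.AvoidSubmodules
import Mathlib.LinearAlgebra.Matrix.Determinant.Basic
import Mathlib.LinearAlgebra.Determinant
import Mathlib.LinearAlgebra.Matrix.NonsingularInverse
import Mathlib.LinearAlgebra.FiniteDimensional.Lemmas
-- import your own Groth.Agent.* helpers here

set_option autoImplicit false
universe u
open GrpQ

namespace Groth.Agent.S5213

/-- Let `B` be a local ring with infinite residue field, `A` a semi-local ring, `B → A` a ring map
carrying the maximal ideal of `B` into the Jacobson radical of `A`, `M` a finite free `A`-module and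
`N` a `B`-submodule of `M` generating `M` as an `A`-module. Then `N` contains a basis of `M` over
`A`. -/
theorem result {B A M : Type u} [CommRing B] [CommRing A]
    [IsLocalRing B] [Infinite (IsLocalRing.ResidueField B)] [Algebra B A]
    [Finite (MaximalSpectrum A)]
    (hBA : (IsLocalRing.maximalIdeal B).map (algebraMap B A) ≤ (⊥ : Ideal A).jacobson)
    [AddCommGroup M] [Module A M] [Module B M] [IsScalarTower B A M]
    [Module.Free A M] [Module.Finite A M]
    (N : Submodule B M) (hN : Submodule.span A (N : Set M) = ⊤) :
    ∃ b : Module.Basis (Fin (Module.finrank A M)) A M, ∀ i, b i ∈ N := by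
  classical
  rcases subsingleton_or_nontrivial A with hA | hA
  · have : Subsingleton M := Module.subsingleton A M
    refine ⟨Module.Basis.ofEquivFun (LinearEquiv.ofSubsingleton M (Fin (Module.finrank A M) → A)), fun i => ?_⟩
    rw [Subsingleton.elim (Module.Basis.ofEquivFun (LinearEquiv.ofSubsingleton M (Fin (Module.finrank A M) → A)) i) 0]
    exact zero_mem N
  let e := Module.finBasis A M
  haveI := Fintype.ofFinite (MaximalSpectrum A)
  letI : ∀ m : MaximalSpectrum A, Field (A ⧸ m.asIdeal) := fun m => Ideal.Quotient.field m.asIdeal
  let f : ∀ m : MaximalSpectrum A, M → (Fin (Module.finrank A M) → A ⧸ m.asIdeal) :=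
    fun m x i => Ideal.Quotient.mk m.asIdeal (e.repr x i)
  have fadd : ∀ m x y, f m (x + y) = f m x + f m y := fun m x y => by ext i; simp [f]
  have fsmul : ∀ m (a : A) x, f m (a • x) = Ideal.Quotient.mk m.asIdeal a • f m x := fun m a x => by
    ext i; simp [f]
  have step : ∀ j, j ≤ Module.finrank A M → ∃ v : Fin j → M, (∀ i, v i ∈ N) ∧
      ∀ m, LinearIndependent (A ⧸ m.asIdeal) (fun i => f m (v i)) := by
    intro j
    induction j with
    | zero => exact fun _ => ⟨Fin.elim0, fun i => i.elim0, fun m => linearIndependent_empty_type⟩
    | succ j ih =>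
      intro hj
      obtain ⟨v, hvN, hv⟩ := ih (by omega)
      let W : MaximalSpectrum A → Submodule B ↥N := fun m =>
        { carrier := {x | f m x.1 ∈ Submodule.span (A ⧸ m.asIdeal) (Set.range fun i => f m (v i))}
          zero_mem' := by
            have : f m (0 : M) = 0 := by ext i; simp [f]
            simp only [Set.mem_setOf_eq, Submodule.coe_zero, this]; exact zero_mem _
          add_mem' := fun {x y} hx hy => by
            simp only [Set.mem_setOf_eq, Submodule.coe_add, fadd] at hx hy ⊢
            exact add_mem hx hy
          smul_mem' := fun b x hx => by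
            simp only [Set.mem_setOf_eq, Submodule.coe_smul] at hx ⊢
            rw [← IsScalarTower.algebraMap_smul A b x.1, fsmul]; exact Submodule.smul_mem _ _ hx }
      have hW : ∀ m, ∀ (r : B) (x : ↥N), r • x ∈ W m → r ∈ IsLocalRing.maximalIdeal B ∨ x ∈ W m := by
        intro m r x hrx
        by_cases hr : IsUnit r
        · exact Or.inr (by have := (W m).smul_mem (↑hr.unit⁻¹) hrx; rwa [smul_smul, IsUnit.val_inv_mul, one_smul] at this)
        · exact Or.inl hr
      have hne : ∀ m ∈ (Finset.univ : Finset (MaximalSpectrum A)), ∃ x, x ∉ W m := by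
        intro m _
        by_contra h
        push Not at h
        have key : ∀ x : M, f m x ∈ Submodule.span (A ⧸ m.asIdeal) (Set.range fun i => f m (v i)) := by
          intro x
          have hx : x ∈ Submodule.span A (N : Set M) := hN ▸ Submodule.mem_top
          induction hx using Submodule.span_induction with
          | mem y hy => exact h ⟨y, hy⟩
          | zero => have := h 0; exact this
          | add y z _ _ hy hz => rw [fadd]; exact add_mem hy hz
          | smul a y _ hy => rw [fsmul]; exact Submodule.smul_mem _ _ hy
        have htop : Submodule.span (A ⧸ m.asIdeal) (Set.range fun i => f m (v i)) = ⊤ := by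
          refine eq_top_iff.mpr fun w _ => ?_
          choose a ha using fun i => Ideal.Quotient.mk_surjective (I := m.asIdeal) (w i)
          have := key (e.equivFun.symm a)
          convert this using 1
          ext i
          have hc : e.repr (e.equivFun.symm a) i = a i := congrFun (e.equivFun.apply_symm_apply a) i
          simp only [f, hc, ha]
        have h1 := finrank_range_le_card (R := A ⧸ m.asIdeal) (fun i => f m (v i))
        rw [Set.finrank, htop, finrank_top, Module.finrank_fin_fun, Fintype.card_fin] at h1
        omega
      obtain ⟨t, ht⟩ := GrothLib.AvoidSubmodules.exists_reps (IsLocalRing.maximalIdeal B)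
        (N := (Finset.univ : Finset (MaximalSpectrum A)).card) (by
          have : Infinite (B ⧸ IsLocalRing.maximalIdeal B) :=
            inferInstanceAs (Infinite (IsLocalRing.ResidueField B))
          have : Infinite (IsLocalRing.maximalIdeal B).ResidueField :=
            Infinite.of_injective _ (IsFractionRing.injective (B ⧸ IsLocalRing.maximalIdeal B)
              (IsLocalRing.maximalIdeal B).ResidueField)
          exact (Cardinal.natCast_lt_aleph0).le.trans (Cardinal.aleph0_le_mk _))
      obtain ⟨x, hx⟩ := GrothLib.AvoidSubmodules.exists_forall_notMem (IsLocalRing.maximalIdeal B) W hW t ht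
        Finset.univ le_rfl hne
      refine ⟨Fin.snoc v x.1, fun i => ?_, fun m => ?_⟩
      · refine Fin.lastCases ?_ (fun i => ?_) i
        · rw [Fin.snoc_last]; exact x.2
        · rw [Fin.snoc_castSucc]; exact hvN i
      · have : (fun i => f m (Fin.snoc (α := fun _ => M) v x.1 i)) = Fin.snoc (fun i => f m (v i)) (f m x.1) := by
          funext i
          refine Fin.lastCases ?_ (fun i => ?_) i <;> simp
        rw [this]
        exact linearIndependent_fin_snoc.mpr ⟨hv m, hx m (Finset.mem_univ m)⟩
  obtain ⟨v, hvN, hv⟩ := step _ le_rfl
  have hdet : IsUnit (e.det v) := by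
    by_contra h
    obtain ⟨I, hI, hmem⟩ := exists_max_ideal_of_mem_nonunits h
    let m : MaximalSpectrum A := ⟨I, hI⟩
    have h0 : ((e.toMatrix v).map (Ideal.Quotient.mk m.asIdeal)).transpose.det = 0 := by
      rw [Matrix.det_transpose, ← RingHom.mapMatrix_apply, ← RingHom.map_det, ← Module.Basis.det_apply]
      exact Ideal.Quotient.eq_zero_iff_mem.mpr hmem
    have hu := (Matrix.linearIndependent_rows_iff_isUnit
      (A := ((e.toMatrix v).map (Ideal.Quotient.mk m.asIdeal)).transpose)).mp (hv m)
    rw [Matrix.isUnit_iff_isUnit_det, h0] at hu
    exact not_isUnit_zero hu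
  obtain ⟨hli, hsp⟩ := (Module.Basis.is_basis_iff_det e).mpr hdet
  exact ⟨Module.Basis.mk hli hsp.ge, fun i => by rw [Module.Basis.mk_apply]; exact hvN i⟩

end Groth.Agent.S5213
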