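import Groth.Statements.S5215
import Groth.Agent.Lib.UnivEE.Basic

set_option autoImplicit false
open CategoryTheory CategoryTheory.Limits
universe w v₁ u₁
open DescCat

namespace Groth.Agent.S5215

/-- In a category with pullbacks: for a universally effective equivalence relation `p₁, p₂ : R ⇉ X` with
quotient map `π : X ⟶ X/R` and a morphism `g` out of the quotient, `g` is a monomorphism if and only
if `R` is the kernel pair of `π ≫ g`. -/
theorem result {C : Type u₁} [Category.{v₁} C] [HasPullbacks C]
    {R X Z : C} {p₁ p₂ : R ⟶ X} (e : UniversallyEffectiveEquivalenceRelation p₁ p₂)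
    (f : X ⟶ Z) (g : e.B ⟶ Z) (hg : e.π ≫ g = f) :
    Mono g ↔ IsKernelPair f p₁ p₂ := by
  refine ⟨fun hm => ?_, fun hk => ?_⟩
  · have hw : p₁ ≫ f = p₂ ≫ f := by rw [← hg, e.isKernelPair.w_assoc]
    have key : ∀ {W : C} (a b : W ⟶ X), a ≫ f = b ≫ f → a ≫ e.π = b ≫ e.π := fun a b h => by
      rw [← hg, ← Category.assoc, ← Category.assoc, cancel_mono] at h
      exact h
    exact IsPullback.of_isLimit (c := PullbackCone.mk p₁ p₂ hw) (PullbackCone.IsLimit.mk hw
      (fun s => e.isKernelPair.lift s.fst s.snd (key _ _ s.condition))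
      (fun s => e.isKernelPair.lift_fst _ _ _) (fun s => e.isKernelPair.lift_snd _ _ _)
      (fun s m h₁ h₂ => e.isKernelPair.hom_ext (by rw [h₁, e.isKernelPair.lift_fst])
        (by rw [h₂, e.isKernelPair.lift_snd])))
  · refine GrothLib.UnivEE.mono_of_cover e.universally_effectiveEpi_π g fun a b h => ?_
    rw [hg] at h
    obtain ⟨r, ha, hb⟩ := hk.exists_lift a b h
    rw [← ha, ← hb, Category.assoc, Category.assoc, e.isKernelPair.w]

end Groth.Agent.S5215
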