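import Groth.Statements.S5218
import Groth.Agent.Lib.ShfQuot.Basic

set_option autoImplicit false
open CategoryTheory CategoryTheory.Limits
universe w v₁ u₁
open ShfCat

namespace Groth.Agent.S5218

/-- (i) ⇒ (ii), for a single morphism: in the category of sheaves of sets on a site (with
sheafification), every epimorphism is a universal effective epimorphism. -/
theorem result {C : Type u₁} [Category.{v₁} C]
    (J : GrothendieckTopology C) [HasSheafify J (Type w)]
    {X Y : Sheaf J (Type w)} (f : X ⟶ Y) [Epi f] :
    (MorphismProperty.universally (fun (A B : Sheaf J (Type w)) (p : A ⟶ B) => EffectiveEpi p)) f := by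
  exact GrothLib.ShfQuot.universally_effectiveEpi f

end Groth.Agent.S5218
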