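import Groth.Statements.S5220
import Groth.Agent.Lib.Misc13.ReflexiveDescent
-- import your own Groth.Agent.* helpers here

set_option autoImplicit false
open CategoryTheory CategoryTheory.Limits
universe w v₁ u₁
open GrpQ

namespace Groth.Agent.S5220

/-- In a category with pullbacks: let `d₀ d₁ : X₁ ⇉ X₀` admit a common section and let `f₀ : Y₀ ⟶ X₀` be
an effective epimorphism which is also a universal epimorphism. For the inverse-image pair `Y₁ :=
(Y₀ ×_{X₀,d₁} X₁) ×_{d₀,X₀} Y₀ ⇉ Y₀`, every morphism out of `Y₀` equalized by the two projections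
descends uniquely to a morphism out of `X₀` equalized by `d₀, d₁`. (Only the common section of the
groupoid structure is used.) -/
theorem result {C : Type u₁} [Category.{v₁} C] [HasPullbacks C]
    {X₁ X₀ Y₀ : C} (d₀ d₁ : X₁ ⟶ X₀) (s : X₀ ⟶ X₁) (hs₀ : s ≫ d₀ = 𝟙 X₀) (hs₁ : s ≫ d₁ = 𝟙 X₀)
    (f₀ : Y₀ ⟶ X₀) [EffectiveEpi f₀]
    (hf : MorphismProperty.universally (MorphismProperty.epimorphisms C) f₀)
    {T : C} (g : Y₀ ⟶ T)
    (hg : (pullback.fst (pullback.snd f₀ d₁ ≫ d₀) f₀ ≫ pullback.fst f₀ d₁) ≫ g =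
      pullback.snd (pullback.snd f₀ d₁ ≫ d₀) f₀ ≫ g) :
    ∃! h : X₀ ⟶ T, d₁ ≫ h = d₀ ≫ h ∧ f₀ ≫ h = g := by
  exact GrothLib.Misc13.existsUnique_desc d₀ d₁ f₀ s hs₀ hs₁ hf g hg

end Groth.Agent.S5220
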