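import Groth.Statements.S5221
import Groth.Agent.Lib.Misc13.ReflexiveDescent
-- import your own Groth.Agent.* helpers here

set_option autoImplicit false
open CategoryTheory CategoryTheory.Limits
universe w v₁ u₁
open GrpQ

namespace Groth.Agent.S5221

/-- Existence part: in a category with pullbacks: with `d₀ d₁ : X₁ ⇉ X₀` admitting a common section and
`f₀ : Y₀ ⟶ X₀` an effective and universal epimorphism, the pair `(d₀, d₁)` has a coequalizer if and
only if its inverse-image pair on `Y₀` has one. -/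
theorem result {C : Type u₁} [Category.{v₁} C] [HasPullbacks C]
    {X₁ X₀ Y₀ : C} (d₀ d₁ : X₁ ⟶ X₀) (s : X₀ ⟶ X₁) (hs₀ : s ≫ d₀ = 𝟙 X₀) (hs₁ : s ≫ d₁ = 𝟙 X₀)
    (f₀ : Y₀ ⟶ X₀) [EffectiveEpi f₀]
    (hf : MorphismProperty.universally (MorphismProperty.epimorphisms C) f₀) :
    HasCoequalizer d₁ d₀ ↔
      HasCoequalizer (pullback.fst (pullback.snd f₀ d₁ ≫ d₀) f₀ ≫ pullback.fst f₀ d₁)
        (pullback.snd (pullback.snd f₀ d₁ ≫ d₀) f₀) := by
  exact GrothLib.Misc13.hasCoequalizer_iff d₀ d₁ f₀ s hs₀ hs₁ hf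

end Groth.Agent.S5221
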