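import Groth.Statements.S5222
import Mathlib.CategoryTheory.Monoidal.Cartesian.Grp

set_option autoImplicit false
open CategoryTheory CategoryTheory.Limits MonoidalCategory
universe v₁ u₁
open DescCat

namespace Groth.Agent.S5222

open MonObj CartesianMonoidalCategory SemiCartesianMonoidalCategory in
/-- In a cartesian monoidal category with pullbacks: for a homomorphism `f : G ⟶ G'` of group objects
with kernel `K = G ×_{G'} e`, the pair `G × K ⇉ G` given by the projection and by multiplication is
the kernel pair of `f`. -/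
theorem result {C : Type u₁} [Category.{v₁} C]
    [CartesianMonoidalCategory C] [HasPullbacks C]
    {G G' : C} [GrpObj G] [GrpObj G'] (f : G ⟶ G') [IsMonHom f] :
    IsKernelPair f (fst G (pullback f η[G']))
      ((G ◁ pullback.fst f η[G']) ≫ μ[G]) := by
  open MonObj CartesianMonoidalCategory SemiCartesianMonoidalCategory in
  have hp : ∀ {Y : C} (x : Y ⟶ G ⊗ pullback f η[G']),
      x ≫ (G ◁ pullback.fst f η[G']) ≫ μ[G] = (x ≫ fst _ _) * (x ≫ snd _ _ ≫ pullback.fst f η[G']) :=
    fun x => by
      rw [Hom.mul_def, ← Category.assoc]; congr 1; ext <;> simp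
  have hone : pullback.fst f η[G'] ≫ f = 1 := by
    rw [pullback.condition, Hom.one_def, toUnit_unique (pullback.snd f η[G']) (toUnit _)]
  have hw : fst G (pullback f η[G']) ≫ f = ((G ◁ pullback.fst f η[G']) ≫ μ[G]) ≫ f := by
    rw [← Category.id_comp ((G ◁ pullback.fst f η[G']) ≫ μ[G]), hp, Category.id_comp, Category.id_comp,
      MonObj.mul_comp, Category.assoc, hone, MonObj.comp_one, _root_.mul_one]
  have key : ∀ {Y : C} (a b : Y ⟶ G), a ≫ f = b ≫ f →
      ∃ x : Y ⟶ G ⊗ pullback f η[G'], x ≫ fst _ _ = a ∧ x ≫ (G ◁ pullback.fst f η[G']) ≫ μ[G] = b := by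
    intro Y a b h
    have hk : (a⁻¹ * b) ≫ f = toUnit Y ≫ η[G'] := by
      rw [MonObj.mul_comp, GrpObj.inv_comp, h, inv_mul_cancel, Hom.one_def]
    refine ⟨lift a (pullback.lift (a⁻¹ * b) (toUnit Y) hk), lift_fst _ _, ?_⟩
    rw [hp, lift_fst, lift_snd_assoc, pullback.lift_fst, mul_inv_cancel_left]
  refine IsPullback.of_isLimit (c := PullbackCone.mk _ _ hw)
    (PullbackCone.IsLimit.mk hw (fun s => (key s.fst s.snd s.condition).choose)
      (fun s => (key s.fst s.snd s.condition).choose_spec.1)
      (fun s => (key s.fst s.snd s.condition).choose_spec.2) (fun s m h₁ h₂ => ?_))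
  obtain ⟨ha, hb⟩ := (key s.fst s.snd s.condition).choose_spec
  refine CartesianMonoidalCategory.hom_ext _ _ (h₁.trans ha.symm) ?_
  rw [hp, h₁] at h₂
  rw [hp, ha] at hb
  have h3 := mul_left_cancel (h₂.trans hb.symm)
  rw [← Category.assoc, ← Category.assoc] at h3
  exact pullback.hom_ext h3 (toUnit_unique _ _)

end Groth.Agent.S5222
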