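import Groth.Statements.S5223
import Groth.Agent.Lib.FibreLocus.Translate
-- import your own Groth.Agent.* helpers here

set_option autoImplicit false
open CategoryTheory CategoryTheory.Limits AlgebraicGeometry
universe u
open GrpQ

namespace Groth.Agent.S5223

/-- In a cartesian square of schemes `F₂ = F₁ ×_{X₀} X₁` whose bottom map `u : X₁ ⟶ X₀` is flat, the
base-changed map `d' : F₂ ⟶ X₁` is flat at a point `x` if and only if `d : F₁ ⟶ X₀` is flat at the
image of `x` in `F₁`. -/
theorem result {F₂ F₁ X₁ X₀ : Scheme.{u}}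
    {v : F₂ ⟶ F₁} {d' : F₂ ⟶ X₁} {d : F₁ ⟶ X₀} {u : X₁ ⟶ X₀}
    (h : IsPullback v d' d u) [Flat u] (x : F₂) :
    (d'.stalkMap x).hom.Flat ↔ (d.stalkMap (v.base x)).hom.Flat := by
  have : Flat v := MorphismProperty.of_isPullback h.flip ‹Flat u›
  constructor
  · intro hx
    have h1 : ((d' ≫ u).stalkMap x).hom.Flat := by
      rw [Scheme.Hom.stalkMap_comp]
      exact RingHom.Flat.comp (Flat.stalkMap u (d' x)) hx
    have h2 : ((v ≫ d).stalkMap x).hom.Flat := by rw [h.w]; exact h1
    exact GrothLib.LocProp.flat_descends v d x (Flat.stalkMap v x) h2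
  · intro hx
    let a := F₁.fromSpecStalk (v x)
    have : Flat (a ≫ d) := GrothLib.FibreLocus.flat_fromSpecStalk_comp d (v x) hx
    have : Flat a := by
      have : Flat (F₁.fromSpecStalk (v x) ≫ 𝟙 F₁) :=
        GrothLib.FibreLocus.flat_fromSpecStalk_comp (𝟙 F₁) (v x) (Flat.stalkMap _ _)
      simpa using this
    let c := pullback.fst v a
    have : Flat (c ≫ d') :=
      MorphismProperty.of_isPullback ((IsPullback.of_hasPullback v a).flip.paste_vert h) ‹Flat (a ≫ d)›
    obtain ⟨z, hz, -⟩ := Scheme.Pullback.exists_preimage_pullback (f := v) (g := a) x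
      (IsLocalRing.closedPoint _) Scheme.fromSpecStalk_closedPoint.symm
    have := GrothLib.LocProp.flat_descends c d' z (Flat.stalkMap _ _) (Flat.stalkMap _ _)
    rwa [show c z = x from hz] at this


end Groth.Agent.S5223
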