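import Groth.Statements.S5224
import Groth.Agent.Lib.GrpdQuot.EffectiveRel
import Groth.Agent.Lib.GrpdQuot.QuotCriteria
import Groth.Agent.Lib.AlgSp.FppfDescent
-- import your own Groth.Agent.* helpers here

set_option autoImplicit false
open CategoryTheory CategoryTheory.Limits AlgebraicGeometry
universe u
open GrpQ

namespace Groth.Agent.S5224

set_option backward.isDefEq.respectTransparency.types false in
/-- For the fppf topology: let `s, t : R ⇉ U` be an equivalence relation of schemes over `S` with `s`
faithfully flat and locally of finite presentation. A morphism `q : U ⟶ Y` over `S` is a faithfully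
flat, locally finitely presented quotient with kernel pair `R` if and only if `q` identifies `h_Y`
with the fppf quotient sheaf `U/R`. -/
theorem result {S : Scheme.{u}} {R U Y : Over S} (s t : R ⟶ U)
    [IsEquivalenceRelation s t]
    [Flat s.left] [Surjective s.left] [LocallyOfFinitePresentation s.left]
    (q : U ⟶ Y) :
    (IsKernelPair q s t ∧ Flat q.left ∧ Surjective q.left ∧ LocallyOfFinitePresentation q.left) ↔
      QuotSh.IsQuotient Scheme.fppfPrecoverage s t q := by
  constructor
  · rintro ⟨hk, _, _, _⟩
    exact GrothLib.GrpdQuot.isQuotient_of_kernelPair s t q (hk.flip.map (Over.forget S))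
  · intro hq
    haveI : (QuotSh.J (Scheme.precoverage (@Flat ⊓ @LocallyOfFinitePresentation)) S).Subcanonical :=
      CGrpSh.subcanonical_fppf S
    haveI : (@Flat ⊓ @LocallyOfFinitePresentation : MorphismProperty Scheme.{u}).IsMultiplicative :=
      { id_mem := fun X => ⟨inferInstance, inferInstance⟩
        comp_mem := fun f g ⟨_, _⟩ ⟨_, _⟩ => ⟨inferInstance, inferInstance⟩ }
    refine ⟨GrothLib.GrpdQuot.isPullback_of_isQuotient Scheme.fppfPrecoverage hq, ?_, ?_, ?_⟩
    · exact GrothLib.GrpdQuot.property_of_cover (@Flat ⊓ @LocallyOfFinitePresentation) @Flat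
        (fun _ _ _ _ f c c' f' h hc hs hf' =>
          GrothLib.AlgSp.fppfDescends_flat f c c' f' h hc.1 hc.2 hs hf') hq inferInstance
    · exact GrothLib.GrpdQuot.property_of_cover (@Flat ⊓ @LocallyOfFinitePresentation) @Surjective
        (fun _ _ _ _ f c c' f' h hc hs hf' =>
          GrothLib.AlgSp.fppfDescends_surjective f c c' f' h hc.1 hc.2 hs hf') hq inferInstance
    · exact GrothLib.GrpdQuot.property_of_cover (@Flat ⊓ @LocallyOfFinitePresentation)
        @LocallyOfFinitePresentation
        (fun _ _ _ _ f c c' f' h hc hs hf' =>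
          GrothLib.AlgSp.fppfDescends_lfp f c c' f' h hc.1 hc.2 hs hf') hq inferInstance

end Groth.Agent.S5224
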