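import Groth.Statements.S5225
import Groth.Agent.Lib.GrpdQuot.EffectiveRel
import Groth.Agent.Lib.GrpdQuot.QuotCriteria
import Groth.Agent.Lib.AlgSp.FppfDescent
-- import your own Groth.Agent.* helpers here

set_option autoImplicit false
open CategoryTheory CategoryTheory.Limits AlgebraicGeometry
universe u
open GrpQ

namespace Groth.Agent.S5225

set_option backward.isDefEq.respectTransparency.types false in
/-- For the étale topology: let `s, t : R ⇉ U` be an equivalence relation of schemes over `S` with `s`
étale and surjective. A morphism `q : U ⟶ Y` over `S` is an étale surjective quotient with kernel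
pair `R` if and only if `q` identifies `h_Y` with the étale quotient sheaf `U/R`. -/
theorem result {S : Scheme.{u}} {R U Y : Over S} (s t : R ⟶ U)
    [IsEquivalenceRelation s t] [Etale s.left] [Surjective s.left]
    (q : U ⟶ Y) :
    (IsKernelPair q s t ∧ Etale q.left ∧ Surjective q.left) ↔
      QuotSh.IsQuotient Scheme.etalePrecoverage s t q := by
  constructor
  · rintro ⟨hk, _, _⟩
    have hpb : IsPullback t s q q := hk.flip
    refine GrothLib.GrpdQuot.isQuotient_of_epi Scheme.etalePrecoverage s t q hpb.w.symm ?_ t s hpb
      (𝟙 R) (Category.id_comp _) (Category.id_comp _) ?_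
    · refine GrothLib.GrpdQuot.epi_repMap_of_mem _ q ?_
      exact (Scheme.singleton_mem_precoverage_iff @Etale q.left).2 ⟨q.left.surjective, inferInstance⟩
    · exact inferInstanceAs (Epi ((GrothLib.GrpdQuot.repFunctor Scheme.etalePrecoverage).map (𝟙 R)))
  · intro hq
    haveI : (QuotSh.J (Scheme.precoverage @Etale) S).Subcanonical := CGrpSh.subcanonical_etale S
    refine ⟨GrothLib.GrpdQuot.isPullback_of_isQuotient Scheme.etalePrecoverage hq, ?_, ?_⟩
    · exact GrothLib.GrpdQuot.property_of_cover @Etale @Etale
        (fun _ _ _ _ f c c' f' h hc hs hf' => by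
          haveI := hc
          exact GrothLib.AlgSp.fppfDescends_etale f c c' f' h inferInstance inferInstance hs hf')
        hq inferInstance
    · exact GrothLib.GrpdQuot.property_of_cover @Etale @Surjective
        (fun _ _ _ _ f c c' f' h hc hs hf' => by
          haveI := hc
          exact GrothLib.AlgSp.fppfDescends_surjective f c c' f' h inferInstance inferInstance hs hf')
        hq inferInstance

end Groth.Agent.S5225
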