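import Groth.Statements.S5227
import Groth.Agent.Lib.ShfQuot.Elements
import Mathlib.CategoryTheory.Subobject.Limits

set_option autoImplicit false
open CategoryTheory CategoryTheory.Limits
universe w v₁ u₁
open ShfCat

namespace Groth.Agent.S5227

/-- For sheaves of sets on a site with sheafification: for an equivalence relation `R ⇉ X` with
(universally effective) quotient `π : X ⟶ X/R`, inverse image along `π` is a bijection from the
subsheaves of `X/R` onto the subsheaves of `X` stable under `R` (those whose two inverse images in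
`R` agree). -/
theorem result {C : Type u₁} [Category.{v₁} C]
    (J : GrothendieckTopology C) [HasSheafify J (Type w)]
    {R X : Sheaf J (Type w)} {p₁ p₂ : R ⟶ X} (e : UniversallyEffectiveEquivalenceRelation p₁ p₂) :
    Function.Injective (Subobject.pullback e.π).obj ∧
      Set.range (Subobject.pullback e.π).obj =
        {Y : Subobject X | (Subobject.pullback p₁).obj Y = (Subobject.pullback p₂).obj Y} := by
  open GrothLib.ShfQuot in
  haveI : Epi e.π := inferInstance
  have mem : ∀ (K : Subobject e.B) {W : Sheaf J (Type w)} (x : W ⟶ X),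
      ((Subobject.pullback e.π).obj K).Factors x ↔ K.Factors (x ≫ e.π) := fun K _ x =>
    Limits.pullback_factors_iff _ K x
  refine ⟨fun K₁ K₂ h => ?_, Set.ext fun Y => ⟨?_, fun hY => ?_⟩⟩
  · have le : ∀ K₁ K₂ : Subobject e.B,
        (Subobject.pullback e.π).obj K₁ = (Subobject.pullback e.π).obj K₂ → K₁ ≤ K₂ := by
      intro K₁ K₂ h
      obtain ⟨P, c, x, _, hx⟩ := exists_cover e.π K₁.arrow
      have h2 : ((Subobject.pullback e.π).obj K₁).Factors x :=
        (mem _ _).2 (by rw [hx]; exact Subobject.factors_comp_arrow _)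
      rw [h, mem] at h2
      obtain ⟨k', hk'⟩ := exists_factor K₂.arrow c K₁.arrow (K₂.factorThru _ h2) (by simp [hx])
      exact Subobject.le_of_comm k' hk'
    exact le_antisymm (le _ _ h) (le _ _ h.symm)
  · rintro ⟨K, rfl⟩
    change (Subobject.pullback p₁).obj _ = (Subobject.pullback p₂).obj _
    rw [← Subobject.pullback_comp, ← Subobject.pullback_comp, e.isKernelPair.w]
  · change (Subobject.pullback p₁).obj Y = (Subobject.pullback p₂).obj Y at hY
    have stab : ∀ {W : Sheaf J (Type w)} (r : W ⟶ R), Y.Factors (r ≫ p₁) → Y.Factors (r ≫ p₂) := by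
      intro W r hr
      rw [← Limits.pullback_factors_iff, ← hY, Limits.pullback_factors_iff]
      exact hr
    obtain ⟨I, p, i, _, _, hpi⟩ := image_factor (Y.arrow ≫ e.π)
    refine ⟨Subobject.mk i, le_antisymm ?_ ?_⟩
    · set K := (Subobject.pullback e.π).obj (Subobject.mk i)
      have h0 : (Subobject.mk i).Factors (K.arrow ≫ e.π) := (mem _ _).1 (Subobject.factors_self _)
      let z : (K : Sheaf J (Type w)) ⟶ I :=
        (Subobject.mk i).factorThru _ h0 ≫ (Subobject.underlyingIso i).hom
      have hz : z ≫ i = K.arrow ≫ e.π := by simp [z]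
      obtain ⟨P, c, y, _, hy⟩ := exists_cover p z
      have hk : (y ≫ Y.arrow) ≫ e.π = (c ≫ K.arrow) ≫ e.π := by
        rw [Category.assoc, ← hpi, ← Category.assoc, hy, Category.assoc, hz, Category.assoc]
      obtain ⟨r, hr₁, hr₂⟩ := e.isKernelPair.exists_lift _ _ hk
      have := stab r (hr₁ ▸ Subobject.factors_comp_arrow y)
      rw [hr₂] at this
      obtain ⟨k', hk'⟩ := exists_factor Y.arrow c K.arrow (Y.factorThru _ this) (by simp)
      exact Subobject.le_of_comm k' hk'
    · have hw : ((Subobject.pullback e.π).obj (Subobject.mk i)).Factors Y.arrow := by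
        rw [mem, ← hpi]
        exact (Subobject.mk_factors_iff i _).2 ⟨p, rfl⟩
      exact Subobject.le_of_comm _ (Subobject.factorThru_arrow _ _ hw)

end Groth.Agent.S5227
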