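import Groth.Statements.S5228
import Groth.Agent.Lib.Comod.Integral
import Mathlib.RingTheory.HopfAlgebra.MonoidAlgebra

set_option autoImplicit false
universe w u
open HopfRep

namespace Groth.Agent.S5228

/-- Over an affine base, in comodule form: for a representation `V` of a diagonalizable group `D(M)`
over a commutative ring `k` (a `k[M]`-comodule), every sub-representation which is a direct summand
as a `k`-module is a direct summand as a representation. (The published statement: a short exact
sequence of quasi-coherent `D(M)`-modules that splits as a sequence of modules splits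
equivariantly.) -/
theorem result {k : Type u} [CommRing k] {M : Type u} [CommGroup M]
    (V : Type w) [AddCommGroup V] [Module k V] [HopfRep.Comod k (MonoidAlgebra k M) V]
    (W : Submodule k V) (hW : HopfRep.IsSubcomod (k := k) (A := MonoidAlgebra k M) W)
    (hsplit : ∃ W' : Submodule k V, IsCompl W W') :
    ∃ W'' : Submodule k V, HopfRep.IsSubcomod (k := k) (A := MonoidAlgebra k M) W'' ∧ IsCompl W W'' := by
  classical
  let α₀ : MonoidAlgebra k M →ₗ[k] k := (MonoidAlgebra.basis M k).coord 1
  have hs : ∀ g : M, α₀ (MonoidAlgebra.single g 1) = if g = 1 then 1 else 0 := fun g => by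
    rw [show MonoidAlgebra.single g (1 : k) = MonoidAlgebra.basis M k g by simp]
    simp [α₀, Finsupp.single_apply, eq_comm, -MonoidAlgebra.basis_apply]
  have hinv : ∀ a, α₀.rTensor (MonoidAlgebra k M) (Coalgebra.comul (R := k) a) =
      α₀ a ⊗ₜ[k] (1 : MonoidAlgebra k M) := fun a => by
    refine LinearMap.congr_fun ((MonoidAlgebra.basis M k).ext (f₁ := α₀.rTensor _ ∘ₗ Coalgebra.comul)
      (f₂ := (TensorProduct.mk k k (MonoidAlgebra k M)).flip 1 ∘ₗ α₀) fun g => ?_) a
    simp only [MonoidAlgebra.basis_apply, LinearMap.comp_apply, LinearMap.flip_apply, TensorProduct.mk_apply]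
    simp [hs]
    split_ifs with h <;> simp [h, MonoidAlgebra.one_def]
  refine GrothLib.Comodule.exists_isCompl_of_invariant α₀ (fun a => ?_) ?_ hW hsplit
  · rw [hinv, TensorProduct.lid_tmul]
  · rw [MonoidAlgebra.one_def, hs, if_pos rfl]

end Groth.Agent.S5228
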