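import Groth.Statements.S5229


set_option autoImplicit false
open CategoryTheory CategoryTheory.Limits
universe v₁ u₁
open DescCat

namespace Groth.Agent.S5229

/-- For universal effective epimorphisms, in a category with pullbacks and binary products: for two
universally effective equivalence relations `R ⇉ X` and `R' ⇉ X'` with quotient maps `π` and `π'`,
the product relation `R × R' ⇉ X × X'` is the kernel pair of `π × π'`. (Together with the fact that
a product of two universal effective epimorphisms is again one, this says that `(X × X')/(R × R')`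
is `(X/R) × (X'/R')`; only the kernel-pair assertion is stated here.) -/
theorem result {C : Type u₁} [Category.{v₁} C]
    [HasPullbacks C] [HasBinaryProducts C]
    {R X R' X' : C} {p₁ p₂ : R ⟶ X} {p₁' p₂' : R' ⟶ X'}
    (e : UniversallyEffectiveEquivalenceRelation p₁ p₂)
    (e' : UniversallyEffectiveEquivalenceRelation p₁' p₂') :
    IsKernelPair (prod.map e.π e'.π) (prod.map p₁ p₁') (prod.map p₂ p₂') := by
  have h₁ : ∀ {W : C} (a b : W ⟶ X ⨯ X'), a ≫ prod.map e.π e'.π = b ≫ prod.map e.π e'.π →
      (a ≫ prod.fst) ≫ e.π = (b ≫ prod.fst) ≫ e.π ∧ (a ≫ prod.snd) ≫ e'.π = (b ≫ prod.snd) ≫ e'.π :=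
    fun a b h => ⟨by simpa using congrArg (· ≫ prod.fst) h, by simpa using congrArg (· ≫ prod.snd) h⟩
  refine IsPullback.of_isLimit (c := PullbackCone.mk (prod.map p₁ p₁') (prod.map p₂ p₂')
      (by rw [prod.map_map, prod.map_map, e.isKernelPair.w, e'.isKernelPair.w]))
    (PullbackCone.IsLimit.mk _ (fun s => prod.lift (e.isKernelPair.lift _ _ (h₁ _ _ s.condition).1)
      (e'.isKernelPair.lift _ _ (h₁ _ _ s.condition).2)) (fun s => ?_) (fun s => ?_) (fun s m hm₁ hm₂ => ?_))
  · ext <;> simp [prod.lift_map, prod.lift_fst, prod.lift_snd, prod.lift_fst_assoc, prod.lift_snd_assoc]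
  · ext <;> simp [prod.lift_map, prod.lift_fst, prod.lift_snd, prod.lift_fst_assoc, prod.lift_snd_assoc]
  · ext
    · apply e.isKernelPair.hom_ext <;> simp [← hm₁, ← hm₂, prod.lift_fst]
    · apply e'.isKernelPair.hom_ext <;> simp [← hm₁, ← hm₂, prod.lift_snd]

end Groth.Agent.S5229
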