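import Groth.Statements.S5231
import Mathlib.CategoryTheory.Sites.Limits
import Mathlib.CategoryTheory.Limits.Constructions.EpiMono
import Mathlib.CategoryTheory.Functor.EpiMono
import Mathlib.CategoryTheory.Limits.Types.Colimits

set_option autoImplicit false
open CategoryTheory
universe w v₁ u₁
open ShfCat

namespace Groth.Agent.S5231

/-- (iii) ⇒ (i): a morphism `f` of sheaves of sets on a site is a monomorphism (resp. an epimorphism) as
soon as, for every object `S`, the morphisms `T ⟶ S` over which the restriction of `f` to the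
induced site `C/T` is a monomorphism (resp. an epimorphism) form a covering sieve. No sheafification
is assumed. (The published statement also treats isomorphisms in the same way; that case is left out
here.) -/
theorem result {C : Type u₁} [Category.{v₁} C]
    (J : GrothendieckTopology C) {F G : Sheaf J (Type w)} (f : F ⟶ G) :
    ((∀ S : C, ∃ R : Sieve S, R ∈ J S ∧ ∀ ⦃T : C⦄ (g : T ⟶ S), R g →
        Mono ((J.overPullback (Type w) T).map f)) → Mono f) ∧
    ((∀ S : C, ∃ R : Sieve S, R ∈ J S ∧ ∀ ⦃T : C⦄ (g : T ⟶ S), R g →
        Epi ((J.overPullback (Type w) T).map f)) → Epi f) := by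
  refine ⟨fun h => ⟨fun {Z} a b hab => ?_⟩, fun h => ⟨fun {Z} a b hab => ?_⟩⟩
  · apply Sheaf.hom_ext
    ext S s
    obtain ⟨R, hR, hm⟩ := h S.unop
    refine (((isSheaf_iff_isSheaf_of_type J F.obj).1 F.property) R hR).isSeparatedFor.ext fun T g hg => ?_
    haveI := hm g hg
    have hinj := (mono_iff_injective ((sheafToPresheaf _ _).map ((J.overPullback (Type w) T).map f) |>.app
      (Opposite.op (Over.mk (𝟙 T))))).1 inferInstance
    apply hinj
    have e : ∀ x : F.obj.obj S, f.hom.app (Opposite.op T) (F.obj.map g.op x) = G.obj.map g.op (f.hom.app S x) :=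
      fun x => NatTrans.naturality_apply f.hom g.op x
    change f.hom.app (Opposite.op T) (F.obj.map g.op _) = f.hom.app (Opposite.op T) (F.obj.map g.op _)
    rw [e, e]
    exact congrArg _ (ConcreteCategory.congr_hom (NatTrans.congr_app (congrArg InducedCategory.Hom.hom hab) S) s)
  · apply Sheaf.hom_ext
    ext S s
    obtain ⟨R, hR, hm⟩ := h S.unop
    refine (((isSheaf_iff_isSheaf_of_type J Z.obj).1 Z.property) R hR).isSeparatedFor.ext fun T g hg => ?_
    haveI := hm g hg
    have e' : (J.overPullback (Type w) T).map a = (J.overPullback (Type w) T).map b := by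
      rw [← cancel_epi ((J.overPullback (Type w) T).map f), ← Functor.map_comp, ← Functor.map_comp, hab]
    have e : ∀ φ : G ⟶ Z, Z.obj.map g.op (φ.hom.app S s) = φ.hom.app (Opposite.op T) (G.obj.map g.op s) :=
      fun φ => (NatTrans.naturality_apply φ.hom g.op s).symm
    change Z.obj.map g.op (a.hom.app S s) = Z.obj.map g.op (b.hom.app S s)
    rw [e, e]
    exact ConcreteCategory.congr_hom (NatTrans.congr_app (congrArg InducedCategory.Hom.hom e')
      (Opposite.op (Over.mk (𝟙 T)))) _

end Groth.Agent.S5231
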