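import Groth.Statements.S5232
import Groth.Agent.Lib.AlgSp.AffineDescent
-- import your own Groth.Agent.* helpers here

set_option autoImplicit false
open CategoryTheory CategoryTheory.Limits AlgebraicGeometry
universe u
open GrpQ

namespace Groth.Agent.S5232

/-- On the big fppf site of a scheme `S`, in the case where the local representing objects are affine
over the cover (so that the canonical descent datum is effective): if `Z` is an fppf sheaf over `S`
and, for an fppf cover `S' ⟶ S`, the sheaf `Z ×_S S'` is represented over `S'` by a scheme affine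
over `S'`, then `Z` is represented by a scheme affine over `S`. -/
theorem result {S S' : Scheme.{u}} (f : S' ⟶ S)
    [Flat f] [Surjective f] [LocallyOfFinitePresentation f]
    (Z : QuotSh.Sh Scheme.fppfPrecoverage S)
    (T' : Over S) (a : T' ⟶ Over.mk f) [IsAffineHom a.left]
    (φ : QuotSh.rep Scheme.fppfPrecoverage T' ≅ Z ⨯ QuotSh.rep Scheme.fppfPrecoverage (Over.mk f))
    (hφ : φ.hom ≫ prod.snd = QuotSh.repMap Scheme.fppfPrecoverage a) :
    ∃ T : Over S, IsAffineHom T.hom ∧ Nonempty (QuotSh.rep Scheme.fppfPrecoverage T ≅ Z) := by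
  classical
  let Y := AlgSp.yon S
  let e : ∀ V : Over S, QuotSh.rep Scheme.fppfPrecoverage V ≅ Y.obj V := fun V =>
    (sheafificationIso (Y.obj V)).symm
  have hnat : ∀ {V W : Over S} (g : V ⟶ W),
      QuotSh.repMap Scheme.fppfPrecoverage g ≫ (e W).hom = (e V).hom ≫ Y.map g := by
    intro V W g
    have h : Y.map g ≫ (sheafificationIso (Y.obj W)).hom =
        (sheafificationIso (Y.obj V)).hom ≫ QuotSh.repMap Scheme.fppfPrecoverage g :=
      InducedCategory.hom_ext (toSheafify_naturality (AlgSp.J S) (Y.map g).hom)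
    change QuotSh.repMap Scheme.fppfPrecoverage g ≫ (sheafificationIso (Y.obj W)).inv =
      (sheafificationIso (Y.obj V)).inv ≫ Y.map g
    apply (cancel_epi (sheafificationIso (Y.obj V)).hom).1
    apply (cancel_mono (sheafificationIso (Y.obj W)).hom).1
    simp only [Category.assoc, Iso.inv_hom_id, Category.comp_id, Iso.hom_inv_id_assoc]
    refine Eq.trans (congrArg ((sheafificationIso (Y.obj V)).hom ≫ ·) ((Category.assoc _ _ _).trans
      ((congrArg (QuotSh.repMap Scheme.fppfPrecoverage g ≫ ·) (Iso.inv_hom_id _)).trans (Category.comp_id _)))) h.symm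
  let T₁ : Over S := Over.mk (𝟙 S)
  have hterm : IsTerminal (Y.obj T₁) := IsTerminal.isTerminalObj Y T₁ Over.mkIdTerminal
  let z : Z ⟶ Y.obj T₁ := hterm.from Z
  let c : Over.mk f ⟶ T₁ := Over.homMk f (Category.comp_id f)
  haveI : Flat c.left := ‹Flat f›
  haveI : Surjective c.left := ‹Surjective f›
  haveI : LocallyOfFinitePresentation c.left := ‹LocallyOfFinitePresentation f›
  haveI hb : Sheaf.IsLocallySurjective (Y.map c) :=
    GrothLib.AlgSp.isLocallySurjective_of_repWith ((AlgSp.repWith_yon_map_iff _ c).2 inferInstance)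
      ((AlgSp.repWith_yon_map_iff _ c).2 inferInstance) ((AlgSp.repWith_yon_map_iff _ c).2 inferInstance)
  let b' : Y.obj T' ⟶ Z := (e T').inv ≫ φ.hom ≫ prod.fst
  have ha' : (e T').inv ≫ φ.hom ≫ prod.snd ≫ (e (Over.mk f)).hom = Y.map a := by
    rw [reassoc_of% hφ, hnat, Iso.inv_hom_id_assoc]
  have sq : IsPullback b' (Y.map a) z (Y.map c) := by
    refine (IsPullback.of_is_product (prodIsProd Z (QuotSh.rep Scheme.fppfPrecoverage (Over.mk f))) hterm).of_iso
      (φ.symm ≪≫ e T') (Iso.refl _) (e (Over.mk f)) (Iso.refl _) ?_ ?_ (hterm.hom_ext _ _) (hterm.hom_ext _ _)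
    · simp [b']
    · simp only [← ha', Iso.trans_hom, Iso.symm_hom, Category.assoc, Iso.hom_inv_id_assoc, Iso.inv_hom_id_assoc]
      rfl
  have h : AlgSp.RepWith @IsAffineHom z :=
    GrothLib.AlgSp.repWith_of_base_isAffineHom (Y.map c) sq le_rfl GrothLib.AlgSp.fppfDescends_isAffineHom
      ((AlgSp.repWith_yon_map_iff _ a).2 inferInstance)
  obtain ⟨T, fst, snd, sqT⟩ := GrothLib.AlgSp.exists_isPullback_of_representable h.1 (𝟙 (Y.obj T₁))
  have hfst : IsIso fst := sqT.isIso_fst_of_isIso
  have hsnd : IsAffineHom snd.left := h.2 _ _ _ sqT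
  refine ⟨T, ?_, ⟨e T ≪≫ asIso fst⟩⟩
  rw [← Over.w snd]
  change IsAffineHom (snd.left ≫ 𝟙 S)
  exact MorphismProperty.comp_mem _ _ _ hsnd (inferInstanceAs (IsAffineHom (𝟙 S)))

end Groth.Agent.S5232
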