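import Groth.Statements.S5233
import Groth.Agent.Lib.GrpdQuot.ImageGrpd
import Mathlib.AlgebraicGeometry.Morphisms.FlatDescent
import Mathlib.CategoryTheory.Subobject.Basic
-- import your own Groth.Agent.* helpers here

set_option autoImplicit false
open CategoryTheory CategoryTheory.Limits AlgebraicGeometry
universe u
open GrpQ

namespace Groth.Agent.S5233

theorem isClosedImmersion_pullback {A B : Scheme.{u}} (f : A ⟶ B) {Y : Subobject B}
    (hY : IsClosedImmersion Y.arrow) : IsClosedImmersion ((Subobject.pullback f).obj Y).arrow :=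
  MorphismProperty.of_isPullback (P := @IsClosedImmersion) (Subobject.isPullback f Y) hY

theorem isClosedImmersion_mk_arrow {A B : Scheme.{u}} (i : A ⟶ B) [IsClosedImmersion i] :
    IsClosedImmersion (Subobject.mk i).arrow := by
  rw [← Subobject.underlyingIso_hom_comp_eq_mk]
  infer_instance

set_option backward.isDefEq.respectTransparency.types false in
/-- Closed subschemes are separated by their inverse images along fpqc coverings. -/
theorem le_of_pullback_le {X X' : Scheme.{u}} (π : X ⟶ X') [Flat π] [Surjective π] [QuasiCompact π]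
    {Y₁ Y₂ : Subobject X'} (h₁ : IsClosedImmersion Y₁.arrow) (h₂ : IsClosedImmersion Y₂.arrow)
    (h : (Subobject.pullback π).obj Y₁ ≤ (Subobject.pullback π).obj Y₂) : Y₁ ≤ Y₂ := by
  let π₁ := Subobject.pullbackπ π Y₁
  have hsq := Subobject.isPullback π Y₁
  have : Flat π₁ := MorphismProperty.of_isPullback hsq.flip ‹Flat π›
  have : Surjective π₁ := MorphismProperty.of_isPullback hsq.flip ‹Surjective π›
  have : QuasiCompact π₁ := MorphismProperty.of_isPullback hsq.flip ‹QuasiCompact π›
  let p := pullback.fst Y₁.arrow Y₂.arrow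
  have : IsClosedImmersion p := MorphismProperty.pullback_fst _ _ h₂
  let l := Subobject.ofLE _ _ h
  let q : ((Subobject.pullback π).obj Y₁ : Scheme.{u}) ⟶ pullback Y₁.arrow Y₂.arrow :=
    pullback.lift π₁ (l ≫ Subobject.pullbackπ π Y₂) (by
      rw [hsq.w, Category.assoc, (Subobject.isPullback π Y₂).w, ← Category.assoc]
      exact congrArg (· ≫ π) (Subobject.ofLE_arrow h).symm)
  have : IsSplitEpi (pullback.fst π₁ p) :=
    ⟨⟨⟨pullback.lift (𝟙 _) q (by rw [Category.id_comp, pullback.lift_fst]), pullback.lift_fst _ _ _⟩⟩⟩
  have : IsClosedImmersion (pullback.fst π₁ p) := MorphismProperty.pullback_fst _ _ ‹_›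
  have hiso : IsIso (pullback.fst π₁ p) := isIso_of_mono_of_isSplitEpi _
  have : IsIso p := MorphismProperty.of_pullback_fst_of_descendsAlong
    (P := MorphismProperty.isomorphisms Scheme.{u}) (Q := @Surjective ⊓ @Flat ⊓ @QuasiCompact)
    (f := π₁) ⟨⟨‹_›, ‹_›⟩, ‹_›⟩ hiso
  exact Subobject.le_of_comm (inv p ≫ pullback.snd Y₁.arrow Y₂.arrow)
    (by rw [Category.assoc, ← pullback.condition, IsIso.inv_hom_id_assoc])

set_option backward.isDefEq.respectTransparency.types false in
/-- For schemes, with (M) the faithfully flat quasi-compact morphisms and (N) the closed immersions: if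
`π : X ⟶ X'` is flat, surjective and quasi-compact (so `X' = X/R` for its kernel pair `R ⇉ X`), then
`Y' ↦ π⁻¹(Y')` is a bijection from closed subschemes of `X'` onto the closed subschemes of `X`
stable under `R`. -/
theorem result {X X' : Scheme.{u}} (π : X ⟶ X')
    [Flat π] [Surjective π] [QuasiCompact π] :
    Set.BijOn (Subobject.pullback π).obj
      {Y' : Subobject X' | IsClosedImmersion Y'.arrow}
      {Y : Subobject X | IsClosedImmersion Y.arrow ∧
        (Subobject.pullback (pullback.fst π π)).obj Y = (Subobject.pullback (pullback.snd π π)).obj Y} := by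
  refine ⟨fun Y' hY' => ⟨isClosedImmersion_pullback π hY', ?_⟩, fun Y₁ h₁ Y₂ h₂ h => ?_, ?_⟩
  · rw [← Subobject.pullback_comp, ← Subobject.pullback_comp, pullback.condition]
  · exact le_antisymm (le_of_pullback_le π h₁ h₂ h.le) (le_of_pullback_le π h₂ h₁ h.ge)
  · rintro Y ⟨hY, hYeq⟩
    have := hY
    let f := Y.arrow ≫ π
    have : IsSchemeTheoreticallyDominant f.toImage := GrothLib.Misc6.isSchemeTheoreticallyDominant_toImage f
    have : QuasiCompact (f.toImage ≫ f.imageι) := by rw [f.toImage_imageι]; infer_instance
    have : QuasiCompact f.toImage := QuasiCompact.of_comp f.toImage f.imageι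
    refine ⟨Subobject.mk f.imageι, isClosedImmersion_mk_arrow _, ?_⟩
    rw [Subobject.pullback_obj]
    have hci : IsClosedImmersion (Subobject.mk f.imageι).arrow := isClosedImmersion_mk_arrow _
    let i := (Subobject.mk f.imageι).arrow
    let g : (Y : Scheme.{u}) ⟶ (Subobject.mk f.imageι : Scheme.{u}) :=
      f.toImage ≫ (Subobject.underlyingIso f.imageι).inv
    have hgi : g ≫ i = f := by
      rw [Category.assoc, Subobject.underlyingIso_arrow, f.toImage_imageι]
    have : IsSchemeTheoreticallyDominant g := inferInstance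
    have : QuasiCompact g := inferInstance
    let b := pullback.snd i π
    have : Flat (pullback.fst i π) := inferInstance
    let w := pullback.snd g (pullback.fst i π)
    let y := pullback.fst g (pullback.fst i π)
    have : QuasiCompact w := MorphismProperty.pullback_snd _ _ ‹QuasiCompact g›
    have hyw : (y ≫ Y.arrow) ≫ π = (w ≫ b) ≫ π := by
      rw [Category.assoc, show Y.arrow ≫ π = g ≫ i from hgi.symm, ← Category.assoc, pullback.condition,
        Category.assoc, pullback.condition, Category.assoc]
    let t := pullback.lift (f := π) (g := π) (y ≫ Y.arrow) (w ≫ b) hyw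
    have h1 := Subobject.isPullback (pullback.fst π π) Y
    have h2 := Subobject.isPullback (pullback.snd π π) Y
    let l := h1.lift y t (by rw [pullback.lift_fst])
    let q := l ≫ Subobject.ofLE _ _ hYeq.le ≫ Subobject.pullbackπ (pullback.snd π π) Y
    have hq : q ≫ Y.arrow = w ≫ b := by
      simp only [q, Category.assoc]
      rw [h2.w, ← Category.assoc (Subobject.ofLE _ _ hYeq.le), Subobject.ofLE_arrow, ← Category.assoc,
        h1.lift_snd, pullback.lift_snd]
    obtain ⟨m, hm⟩ := GrothLib.GrpdQuot.exists_factor_of_dominant w b Y.arrow q hq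
    refine le_antisymm (Subobject.mk_le_of_comm m hm) ?_
    exact Subobject.le_mk_of_comm (pullback.lift g Y.arrow hgi) (pullback.lift_snd _ _ _)

end Groth.Agent.S5233
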