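import Groth.Statements.S5234
import Groth.Agent.Lib.AlgSp.FppfDescent

set_option autoImplicit false
open CategoryTheory CategoryTheory.Limits AlgebraicGeometry MonoidalCategory
universe u
open RedSub

namespace Groth.Agent.S5234

open CartesianMonoidalCategory SemiCartesianMonoidalCategory in
/-- (ii) ⇔ (iii), for schemes with the fppf topology: let `G` be an `S`-group scheme which is faithfully
flat and locally of finite presentation over `S`, acting on `X` so that `X` is formally principal
homogeneous. Then `X` is a torsor (its structure map is faithfully flat and locally of finite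
presentation) if and only if `X` has a point over some faithfully flat, locally finitely presented
`S' ⟶ S`. -/
theorem result {S : Scheme.{u}} {G X : Over S} [GrpObj G]
    (a : AlgGrp.Action G X)
    [Flat G.hom] [Surjective G.hom] [LocallyOfFinitePresentation G.hom]
    (hX : IsIso (lift a.act (snd G X))) :
    RedSub.IsTorsor a ↔
      ∃ S' : Over S, Surjective S'.hom ∧ Flat S'.hom ∧ LocallyOfFinitePresentation S'.hom ∧
        Nonempty (S' ⟶ X) := by

  constructor
  · rintro ⟨hs, hf, hp, -⟩
    exact ⟨X, hs, hf, hp, ⟨𝟙 X⟩⟩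
  rintro ⟨S', hs, hf, hp, ⟨x⟩⟩
  let Φ := lift a.act (snd G X)
  have : IsIso Φ := hX
  have h1 : inv Φ ≫ a.act = fst X X := by
    rw [← cancel_epi Φ, IsIso.hom_inv_id_assoc, lift_fst]
  have h2 : inv Φ ≫ snd G X = snd X X := by
    rw [← cancel_epi Φ, IsIso.hom_inv_id_assoc, lift_snd]
  let φ : G ⊗ S' ⟶ X ⊗ S' := lift (lift (fst G S') (snd G S' ≫ x) ≫ a.act) (snd G S')
  let ψ : X ⊗ S' ⟶ G ⊗ S' :=
    lift (lift (fst X S') (snd X S' ≫ x) ≫ inv Φ ≫ fst G X) (snd X S')
  have hφψ : φ ≫ ψ = 𝟙 _ := by
    apply CartesianMonoidalCategory.hom_ext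
    · have h3 : φ ≫ lift (fst X S') (snd X S' ≫ x) = lift (fst G S') (snd G S' ≫ x) ≫ Φ := by
        simp [φ, Φ, comp_lift]
      simp only [ψ, Category.assoc, lift_fst]
      rw [reassoc_of% h3, IsIso.hom_inv_id_assoc, lift_fst, Category.id_comp]
    · simp [φ, ψ]
  have hψφ : ψ ≫ φ = 𝟙 _ := by
    have h4 : ψ ≫ lift (fst G S') (snd G S' ≫ x) = lift (fst X S') (snd X S' ≫ x) ≫ inv Φ := by
      apply CartesianMonoidalCategory.hom_ext
      · simp [ψ]
      · simp [ψ, h2]
    apply CartesianMonoidalCategory.hom_ext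
    · simp only [φ, Category.assoc, lift_fst]
      rw [reassoc_of% h4, h1, lift_fst, Category.id_comp]
    · simp [φ, ψ]
  let e : X ⊗ S' ≅ G ⊗ S' := ⟨ψ, φ, hψφ, hφψ⟩
  have : IsIso e.hom.left := ((Over.forget S).mapIso e).isIso_hom
  have he : e.hom.left ≫ Limits.pullback.snd G.hom S'.hom = Limits.pullback.snd X.hom S'.hom :=
    congrArg Over.Hom.left (show ψ ≫ snd G S' = snd X S' from lift_snd _ _)
  have key : ∀ (P : MorphismProperty Scheme.{u}) [P.RespectsIso], P (Limits.pullback.snd G.hom S'.hom) →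
      P (Limits.pullback.snd X.hom S'.hom) := fun P _ h => by
    rw [← he]
    exact (P.cancel_left_of_respectsIso _ _).2 h
  have sq : IsPullback (Limits.pullback.snd X.hom S'.hom) (Limits.pullback.fst X.hom S'.hom) S'.hom X.hom :=
    (IsPullback.of_hasPullback X.hom S'.hom).flip
  exact ⟨GrothLib.AlgSp.fppfDescends_surjective _ _ _ _ sq.flip hf hp hs
      (key @Surjective (MorphismProperty.pullback_snd _ _ inferInstance)),
    GrothLib.AlgSp.fppfDescends_flat _ _ _ _ sq.flip hf hp hs
      (key @Flat (MorphismProperty.pullback_snd _ _ inferInstance)),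
    GrothLib.AlgSp.fppfDescends_lfp _ _ _ _ sq.flip hf hp hs
      (key @LocallyOfFinitePresentation (MorphismProperty.pullback_snd _ _ inferInstance)), hX⟩

end Groth.Agent.S5234
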