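import Groth.Statements.S5235
import Mathlib.AlgebraicGeometry.Morphisms.FlatDescent
import Mathlib.AlgebraicGeometry.PullbackCarrier
import Mathlib.CategoryTheory.Subobject.Basic
-- import your own Groth.Agent.* helpers here

set_option autoImplicit false
open CategoryTheory CategoryTheory.Limits AlgebraicGeometry
universe u
open GrpQ

namespace Groth.Agent.S5235

theorem range_pullback {A B : Scheme.{u}} (f : A ⟶ B) (Y : Subobject B) :
    Set.range ((Subobject.pullback f).obj Y).arrow = f ⁻¹' Set.range Y.arrow := by
  have h := (Subobject.isPullback f Y).flip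
  rw [← h.isoPullback_hom_fst, Scheme.Hom.comp_base, TopCat.coe_comp, Set.range_comp,
    h.isoPullback.hom.surjective.range_eq, Set.image_univ, Scheme.Pullback.range_fst]

theorem isOpenImmersion_pullback {A B : Scheme.{u}} (f : A ⟶ B) {Y : Subobject B}
    (hY : IsOpenImmersion Y.arrow) : IsOpenImmersion ((Subobject.pullback f).obj Y).arrow :=
  MorphismProperty.of_isPullback (P := @IsOpenImmersion) (Subobject.isPullback f Y) hY

theorem eq_of_range_eq {B : Scheme.{u}} {Y Y' : Subobject B} (hY : IsOpenImmersion Y.arrow)
    (hY' : IsOpenImmersion Y'.arrow) (h : Set.range Y.arrow = Set.range Y'.arrow) : Y = Y' :=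
  Subobject.eq_of_comm (IsOpenImmersion.isoOfRangeEq Y.arrow Y'.arrow h)
    (IsOpenImmersion.isoOfRangeEq_hom_fac _ _ _)

/-- For schemes, with (M) the faithfully flat quasi-compact morphisms and (N) the open immersions: if `π
: X ⟶ X'` is flat, surjective and quasi-compact, then `Y' ↦ π⁻¹(Y')` is a bijection from open
subschemes of `X'` onto the open subschemes of `X` stable under the kernel pair of `π`. -/
theorem result {X X' : Scheme.{u}} (π : X ⟶ X')
    [Flat π] [Surjective π] [QuasiCompact π] :
    Set.BijOn (Subobject.pullback π).obj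
      {Y' : Subobject X' | IsOpenImmersion Y'.arrow}
      {Y : Subobject X | IsOpenImmersion Y.arrow ∧
        (Subobject.pullback (pullback.fst π π)).obj Y = (Subobject.pullback (pullback.snd π π)).obj Y} := by
  refine ⟨fun Y' hY' => ⟨isOpenImmersion_pullback π hY', ?_⟩, fun Y₁ h₁ Y₂ h₂ h => ?_, ?_⟩
  · rw [← Subobject.pullback_comp, ← Subobject.pullback_comp, pullback.condition]
  · refine eq_of_range_eq h₁ h₂ (Set.preimage_injective.2 π.surjective ?_)
    have e := congrArg (fun Y : Subobject X => Set.range Y.arrow) h
    simp only [range_pullback] at e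
    exact e
  · rintro Y ⟨hY, hYeq⟩
    haveI := hY
    have hsat : π ⁻¹' (π '' Set.range Y.arrow) = Set.range Y.arrow := by
      refine Set.Subset.antisymm ?_ (Set.subset_preimage_image _ _)
      rintro x ⟨y, hy, hyx⟩
      obtain ⟨z, hz₁, hz₂⟩ := Scheme.Pullback.exists_preimage_pullback (f := π) (g := π) y x hyx
      have e := congrArg (fun Y : Subobject (pullback π π) => Set.range Y.arrow) hYeq
      simp only [range_pullback] at e
      have : z ∈ (pullback.fst π π) ⁻¹' Set.range Y.arrow := by
        rw [Set.mem_preimage, hz₁]; exact hy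
      rw [e, Set.mem_preimage, hz₂] at this
      exact this
    have hopen : IsOpen (π '' Set.range Y.arrow) := by
      rw [← (Flat.isQuotientMap_of_surjective π).isOpen_preimage, hsat]
      exact Y.arrow.isOpenEmbedding.isOpen_range
    let V : X'.Opens := ⟨_, hopen⟩
    have hV : IsOpenImmersion (Subobject.mk V.ι).arrow := by
      rw [← Subobject.underlyingIso_hom_comp_eq_mk]
      infer_instance
    refine ⟨Subobject.mk V.ι, hV, eq_of_range_eq (isOpenImmersion_pullback π hV) hY ?_⟩
    rw [range_pullback, ← Subobject.underlyingIso_hom_comp_eq_mk, Scheme.Hom.comp_base, TopCat.coe_comp,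
      Set.range_comp, (Subobject.underlyingIso V.ι).hom.surjective.range_eq, Set.image_univ,
      Scheme.Opens.range_ι]
    exact hsat

end Groth.Agent.S5235
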