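import Groth.Statements.S5237
import Groth.Agent.Lib.FppfQuot.Basic

set_option autoImplicit false
open CategoryTheory CategoryTheory.Limits AlgebraicGeometry MonoidalCategory
universe u
open RedSub

namespace Groth.Agent.S5237

open MonObj GrpObj CartesianMonoidalCategory in
/-- For group schemes and the fppf topology: if `q : G ⟶ Q = G/H` is the fppf quotient of `G` by a
normal subgroup `H`, with its group structure, then a homomorphism `G ⟶ K` that kills `H` factors
uniquely through `q`, and the factorisation is a homomorphism. -/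
theorem result {S : Scheme.{u}} {H G Q K : Over S}
    [GrpObj H] [GrpObj G] [GrpObj Q] [GrpObj K]
    (i : H ⟶ G) [IsMonHom i] [Mono i] (hn : AlgGrp.IsNormalHom i)
    (q : G ⟶ Q) [IsMonHom q] (hq : RedSub.IsQuotient i q)
    (f : G ⟶ K) [IsMonHom f] (hf : i ≫ f = 1) :
    ∃! g : Q ⟶ K, q ≫ g = f ∧ IsMonHom g := by

  have hc := GrothLib.FppfQuot.isCover_of_isQuotient hq
  haveI := hc.epi
  haveI : Epi (q ⊗ₘ q) := (hc.tensor hc).epi
  obtain ⟨g, hg⟩ := hc.desc f fun {W} a b hab => by
    obtain ⟨h, rfl⟩ := (GrothLib.FppfQuot.comp_eq_iff hq a b).1 hab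
    rw [MonObj.mul_comp, Category.assoc, hf, MonObj.comp_one, _root_.mul_one]
  haveI hgm : IsMonHom g := ⟨by rw [← IsMonHom.one_hom q, Category.assoc, hg, IsMonHom.one_hom f], by
    rw [← cancel_epi (q ⊗ₘ q), ← IsMonHom.mul_hom_assoc q, hg, IsMonHom.mul_hom f,
      tensorHom_comp_tensorHom_assoc, hg]⟩
  exact ⟨g, ⟨hg, hgm⟩, fun g' hg' => (cancel_epi q).1 (hg'.1.trans hg.symm)⟩

end Groth.Agent.S5237
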