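import Groth.Statements.S5238
import Groth.Agent.S1375
import Mathlib.AlgebraicGeometry.Sites.Fpqc
import Mathlib.AlgebraicGeometry.Sites.SheafQuasiCompact
-- import your own Groth.Agent.* helpers here

set_option autoImplicit false
open CategoryTheory AlgebraicGeometry
universe w u
open GrpQ

namespace Groth.Agent.S5238

/-- A presheaf of sets on schemes is a sheaf for the fppf topology (the topology generated by jointly
surjective families of flat morphisms locally of finite presentation) if and only if it is a Zariski
sheaf and satisfies the sheaf condition for every single morphism of affine schemes `T ⟶ S` which is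
flat, surjective, locally of finite presentation and locally quasi-finite. (Between affine schemes
such a morphism is faithfully flat, of finite presentation and quasi-finite; that these quasi-finite
covers suffice rests on the existence of quasi-finite flat quasi-sections of flat surjective
morphisms locally of finite presentation.) -/
theorem result (F : Scheme.{u}ᵒᵖ ⥤ Type w) :
    Presheaf.IsSheaf Scheme.fppfTopology F ↔
      Presheaf.IsSheaf Scheme.zariskiTopology F ∧
        ∀ (T S : Scheme.{u}) [IsAffine T] [IsAffine S] (f : T ⟶ S)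
          [Flat f] [Surjective f] [LocallyOfFinitePresentation f] [LocallyQuasiFinite f],
          Presieve.IsSheafFor F (Presieve.singleton f) := by
  let P : MorphismProperty Scheme.{u} := @Flat ⊓ @LocallyOfFinitePresentation
  let P' : MorphismProperty Scheme.{u} := @Flat ⊓ @LocallyOfFinitePresentation ⊓ @LocallyQuasiFinite
  constructor
  · intro hF
    refine ⟨(isSheaf_iff_isSheaf_of_type _ _).2 (Presieve.isSheaf_of_le _ (Precoverage.toGrothendieck_mono Scheme.zariskiPrecoverage_le_fppfPrecoverage) ((isSheaf_iff_isSheaf_of_type _ _).1 hF)), ?_⟩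
    intro T S _ _ f _ _ _ _
    rw [isSheaf_iff_isSheaf_of_type] at hF
    rw [Presieve.isSheafFor_iff_generate]
    exact hF _ (Precoverage.generate_mem_toGrothendieck f.singleton_mem_fppfPrecoverage)
  · rintro ⟨hzar, hff⟩
    rw [isSheaf_iff_isSheaf_of_type] at hzar ⊢
    haveI : IsZariskiLocalAtSource P := inferInstanceAs (IsZariskiLocalAtSource (@Flat ⊓ @LocallyOfFinitePresentation))
    haveI : MorphismProperty.IsMultiplicative (@LocallyOfFinitePresentation : MorphismProperty Scheme.{u}) :=
      { id_mem := fun X => inferInstance }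
    haveI : P.IsMultiplicative :=
      inferInstanceAs (MorphismProperty.IsMultiplicative (@Flat ⊓ @LocallyOfFinitePresentation))
    haveI : IsZariskiLocalAtSource P' :=
      inferInstanceAs (IsZariskiLocalAtSource (@Flat ⊓ @LocallyOfFinitePresentation ⊓ @LocallyQuasiFinite))
    haveI : P'.IsMultiplicative :=
      inferInstanceAs (MorphismProperty.IsMultiplicative (@Flat ⊓ @LocallyOfFinitePresentation ⊓ @LocallyQuasiFinite))
    have heq : Scheme.fppfPrecoverage.{u} = Scheme.propQCPrecoverage P :=
      le_antisymm (le_inf (Scheme.precoverage_le_qcPrecoverage_of_isOpenMap fun X Y f ⟨_, _⟩ => f.isOpenMap) le_rfl)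
        inf_le_right
    have heq' : Scheme.precoverage P' ≤ Scheme.propQCPrecoverage P' :=
      le_inf (Scheme.precoverage_le_qcPrecoverage_of_isOpenMap fun X Y f ⟨⟨_, _⟩, _⟩ => f.isOpenMap) le_rfl
    have hzle : Scheme.zariskiTopology.{u} ≤ Scheme.propQCTopology P' :=
      Precoverage.toGrothendieck_mono ((Scheme.precoverage_mono fun X Y f hf => by
        have : IsOpenImmersion f := hf
        exact ⟨⟨inferInstance, inferInstance⟩, inferInstance⟩).trans heq')
    have hJ' : Presieve.IsSheaf (Scheme.propQCTopology P') F := by
      rw [isSheaf_type_propQCTopology_iff]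
      refine ⟨hzar, fun {R S} f hf hs => ?_⟩
      obtain ⟨⟨h1, h2⟩, h3⟩ := hf
      haveI : Flat (Spec.map f) := h1
      haveI : LocallyOfFinitePresentation (Spec.map f) := h2
      haveI : LocallyQuasiFinite (Spec.map f) := h3
      exact hff _ _ (Spec.map f)
    change Presieve.IsSheaf (Precoverage.toGrothendieck Scheme.fppfPrecoverage) F
    rw [heq]
    change Presieve.IsSheaf (Scheme.propQCTopology P) F
    rw [isSheaf_type_propQCTopology_iff]
    refine ⟨hzar, fun {R S} f hf hs => ?_⟩
    obtain ⟨h1, h2⟩ := hf
    haveI : Flat (Spec.map f) := h1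
    haveI : LocallyOfFinitePresentation (Spec.map f) := h2
    obtain ⟨T, h, hfl, hlfp, hlqf, hsur, hloc⟩ := Groth.Agent.S1375.result (Spec.map f)
    rw [Presieve.isSheafFor_iff_generate]
    refine hJ' _ ?_
    have hh : Sieve.generate (Presieve.singleton h) ∈ Scheme.propQCTopology P' _ :=
      Precoverage.generate_mem_toGrothendieck (heq' _ ((Scheme.singleton_mem_precoverage_iff _ _).2
        ⟨h.surjective, ⟨⟨hfl, hlfp⟩, hlqf⟩⟩))
    refine (Scheme.propQCTopology P').transitive hh _ ?_
    rintro W g ⟨W', a, _, ⟨⟩, rfl⟩
    rw [Sieve.pullback_comp]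
    refine (Scheme.propQCTopology P').pullback_stable a ?_
    choose V r hV hr using hloc
    let 𝒰 : T.OpenCover := T.openCoverOfIsOpenCover V
      (TopologicalSpace.IsOpenCover.mk (eq_top_iff.2 fun t _ => TopologicalSpace.Opens.mem_iSup.2 ⟨t, hV t⟩))
    have h𝒰 : Sieve.generate 𝒰.presieve₀ ∈ Scheme.zariskiTopology T :=
      Precoverage.generate_mem_toGrothendieck 𝒰.mem₀
    refine GrothendieckTopology.superset_covering _ ?_ (hzle _ h𝒰)
    rintro W g ⟨W', b, _, ⟨i⟩, rfl⟩
    exact ⟨_, b ≫ r i, Spec.map f, Presieve.singleton.mk,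
      (Category.assoc _ _ _).trans ((congrArg (b ≫ ·) (hr i)).trans (Category.assoc _ _ _).symm)⟩

end Groth.Agent.S5238
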