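import Groth.Statements.S5239
import Groth.Agent.Lib.MultLift.SmoothLift

set_option autoImplicit false
universe u
open TensorProduct SGA3b
open SGA3b

namespace Groth.Agent.S5239

/-- Existence of the lifting; case of an affine target group: Let R be a ring, I a nilpotent ideal of R,
H = Spec A an R-group of multiplicative type and G = Spec C an affine R-group with C smooth over R.
Then every homomorphism of (R/I)-groups H₀ ⟶ G₀ between the reductions modulo I, i.e. every
bialgebra map φ₀ : C₀ → A₀ over R/I, is the reduction of a homomorphism of R-groups H ⟶ G: there is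
a bialgebra map φ : C → A over R with φ₀ (1 ⊗ c) = 1 ⊗ φ c for all c. (The published statement
allows any S-group G smooth over the base; this row takes G affine.) (Affine group schemes over an
affine base are taken in Hopf-algebra form; base change is the tensor product; a homomorphism of
groups Spec A ⟶ Spec C is a bialgebra map C → A.) -/
theorem result (R : Type u) [CommRing R] (I : Ideal R) (hI : IsNilpotent I)
    (A : Type u) [CommRing A] [HopfAlgebra R A] (hH : IsMultType R A)
    (C : Type u) [CommRing C] [HopfAlgebra R C] [Algebra.Smooth R C]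
    (φ₀ : ((R ⧸ I) ⊗[R] C) →ₐc[R ⧸ I] ((R ⧸ I) ⊗[R] A)) :
    ∃ φ : C →ₐc[R] A, ∀ c : C, φ₀ ((1 : R ⧸ I) ⊗ₜ[R] c) = (1 : R ⧸ I) ⊗ₜ[R] (φ c) := by
  exact GrothLib.MultLift.exists_lift hH I hI φ₀

end Groth.Agent.S5239
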