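import Groth.Statements.S5241
import Groth.Agent.Lib.Hopf.Rigidity

set_option autoImplicit false
universe u
open TensorProduct SGA3b
open SGA3b

namespace Groth.Agent.S5241

/-- Let R be a ring, I a nilpotent ideal of R, H = Spec A an R-group of multiplicative type, G = Spec C
a commutative affine R-group (C cocommutative) and u, v : H ⟶ G homomorphisms given by bialgebra
maps φ, ψ : C → A. If u and v have the same reduction modulo I (φ c and ψ c have the same image in
(R/I) ⊗ A for every c), then u = v. (The published statement assumes only that u is central and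
allows any S-group G; this row takes G commutative and affine, i.e. C cocommutative.) (Affine group
schemes over an affine base are taken in Hopf-algebra form; base change is the tensor product; a
homomorphism of groups Spec A ⟶ Spec C is a bialgebra map C → A.) -/
theorem result (R : Type u) [CommRing R] (I : Ideal R) (hI : IsNilpotent I)
    (A : Type u) [CommRing A] [HopfAlgebra R A] (hH : IsMultType R A)
    (C : Type u) [CommRing C] [HopfAlgebra R C] [Coalgebra.IsCocomm R C] (φ ψ : C →ₐc[R] A)
    (h0 : ∀ c : C, (1 : R ⧸ I) ⊗ₜ[R] (φ c) = (1 : R ⧸ I) ⊗ₜ[R] (ψ c)) :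
    φ = ψ := by
  exact GrothLib.Hopf.eq_of_nilpotent hH φ ψ (GrothLib.Hopf.isRigid_of_cocomm φ ψ) hI
    fun c => GrothLib.Hopf.mem_map_of_one_tmul_eq (h0 c)

end Groth.Agent.S5241
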