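import Groth.Statements.S5243
import Groth.Agent.Lib.MultLocal.Mono

set_option autoImplicit false
universe u
open TensorProduct SGA3b
open SGA3b

namespace Groth.Agent.S5243

/-- Let G = Spec A be an R-group of multiplicative type, H = Spec C an affine R-group and u : G ⟶ H a
homomorphism of R-groups, given by the bialgebra map φ : C → A, which is a monomorphism: for every
R-algebra T the induced map on T-valued points G(T) → H(T) is injective. Then u is a closed
immersion, i.e. φ is surjective. (The published statement also asserts that the quotient of H by G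
exists and is affine over the base, and that H is a torsor over it; this row states only that u is a
closed immersion.) (Affine group schemes over an affine base are taken in Hopf-algebra form; base
change is the tensor product; a homomorphism of groups Spec A ⟶ Spec C is a bialgebra map C → A.) -/
theorem result (R : Type u) [CommRing R] (A : Type u) [CommRing A] [HopfAlgebra R A]
    (h : IsMultType R A) (C : Type u) [CommRing C] [HopfAlgebra R C] (φ : C →ₐc[R] A)
    (hmono : ∀ (T : Type u) [CommRing T] [Algebra R T],
      Function.Injective (fun x : A →ₐ[R] T => x.comp (φ : C →ₐ[R] A))) :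
    Function.Surjective φ := by
  intro a
  obtain ⟨s, hs, hloc⟩ := h
  let P : Submodule R A := LinearMap.range (φ : C →ₗc[R] A).toLinearMap
  let K : Ideal R := P.comap (LinearMap.toSpanSingleton R A a)
  suffices hK : (1 : R) ∈ K by
    obtain ⟨c, hc⟩ := LinearMap.mem_range.mp (Submodule.mem_comap.mp hK)
    exact ⟨c, hc.trans (one_smul R a)⟩
  have key : ∀ f ∈ s, f ∈ K.radical := by
    intro f hf
    obtain ⟨R', _, _, hff, M, _, ⟨e⟩⟩ := hloc f hf
    letI : Algebra R R' := Algebra.compHom R' (algebraMap R (Localization.Away f))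
    haveI : IsScalarTower R (Localization.Away f) R' := IsScalarTower.of_algebraMap_eq fun _ => rfl
    let e' := GrothLib.Hopf.trivOfAway (Localization.Away f) R' e
    let ψ : R' ⊗[R] C →ₐc[R'] MonoidAlgebra R' M :=
      (e' : R' ⊗[R] A →ₐc[R'] MonoidAlgebra R' M).comp (Bialgebra.TensorProduct.map (BialgHom.id R' R') φ)
    have hsurj : Function.Surjective ψ := GrothLib.MultLocal.surjective_of_mono_groupAlg ψ fun S _ _ y₁ y₂ hy => by
      letI : Algebra R S := Algebra.compHom S (algebraMap R R')
      haveI : IsScalarTower R R' S := IsScalarTower.of_algebraMap_eq fun _ => rfl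
      let x : (MonoidAlgebra R' M →ₐ[R'] S) → (A →ₐ[R] S) := fun y =>
        ((y.comp e'.toAlgEquiv.toAlgHom).restrictScalars R).comp Algebra.TensorProduct.includeRight
      have hx : x y₁ = x y₂ := hmono S (AlgHom.ext fun c => hy ((1 : R') ⊗ₜ c))
      refine AlgHom.ext fun z => ?_
      obtain ⟨w, rfl⟩ := e'.toAlgEquiv.surjective z
      induction w using TensorProduct.induction_on with
      | zero => simp
      | add u v hu hv => simp only [map_add, hu, hv]
      | tmul t b =>
        rw [show t ⊗ₜ[R] b = t • ((1 : R') ⊗ₜ[R] b) by rw [smul_tmul', smul_eq_mul, _root_.mul_one],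
          map_smul, map_smul, map_smul]
        exact congrArg (t • ·) (DFunLike.congr_fun hx b)
    have h1 : (1 : R') ⊗ₜ[R] (Submodule.Quotient.mk a : A ⧸ P) = 0 := by
      obtain ⟨w, hw⟩ := hsurj (e' ((1 : R') ⊗ₜ a))
      have hw' : Bialgebra.TensorProduct.map (BialgHom.id R' R') φ w = (1 : R') ⊗ₜ a :=
        e'.toAlgEquiv.injective hw
      rw [show (1 : R') ⊗ₜ[R] (Submodule.Quotient.mk a : A ⧸ P) = P.mkQ.lTensor R' ((1 : R') ⊗ₜ a) from rfl, ← hw']
      clear hw hw'
      induction w using TensorProduct.induction_on with
      | zero => simp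
      | add u v hu hv => rw [map_add, map_add, hu, hv, add_zero]
      | tmul t c =>
        change t ⊗ₜ[R] P.mkQ (φ c) = 0
        rw [Submodule.mkQ_apply, (Submodule.Quotient.mk_eq_zero P).mpr (show φ c ∈ P from ⟨c, rfl⟩), tmul_zero]
    have h2 : (1 : Localization.Away f) ⊗ₜ[R] (Submodule.Quotient.mk a : A ⧸ P) = 0 := by
      refine Module.FaithfullyFlat.tensorProduct_mk_injective (A := Localization.Away f) (B := R') _ ?_
      refine (AlgebraTensorModule.cancelBaseChange R (Localization.Away f) R' R' (A ⧸ P)).injective ?_
      simpa using h1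
    obtain ⟨⟨_, k, rfl⟩, hk⟩ := (IsLocalizedModule.eq_zero_iff (Submonoid.powers f)
      (TensorProduct.mk R (Localization.Away f) (A ⧸ P) 1)).mp h2
    refine ⟨k, Submodule.mem_comap.mpr ?_⟩
    rw [LinearMap.toSpanSingleton_apply, ← Submodule.Quotient.mk_eq_zero P, Submodule.Quotient.mk_smul]
    exact hk
  obtain ⟨k, hk⟩ := (Ideal.span_le.mpr key (hs ▸ Submodule.mem_top) : (1 : R) ∈ K.radical)
  rwa [one_pow] at hk

end Groth.Agent.S5243
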