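import Groth.Statements.S5244
import Groth.Agent.Lib.MultLocal.Main
import Groth.Agent.Lib.MultLocal.Quot
import Mathlib.RingTheory.Etale.Field

set_option autoImplicit false
universe u
open TensorProduct SGA3b
open SGA3b

namespace Groth.Agent.S5244

/-- Case of a group of multiplicative type, assertion on the subgroup; G is taken of finite type, the
case the printed proof treats in full before a limit argument: Let k be a field, G = Spec A a
k-group of multiplicative type and of finite type, and H = Spec (A/J) a closed subgroup scheme of G
(J a Hopf ideal). Then H is of multiplicative type. (Affine group schemes over an affine base are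
taken in Hopf-algebra form; base change is the tensor product; a homomorphism of groups Spec A ⟶
Spec C is a bialgebra map C → A.) -/
theorem result (k : Type u) [Field k] (A : Type u) [CommRing A] [HopfAlgebra k A]
    (hft : Algebra.FiniteType k A) (h : IsMultType k A) (J : Ideal A) [J.IsHopfIdeal k] :
    IsMultType k (A ⧸ J) := by
  haveI := hft
  obtain ⟨E, _, _, q, M, _, hE, hq, -, hfg, g, hg⟩ :=
    GrothLib.MultLocal.exists_etale_frame_of_isMultType h (⊥ : Ideal k)
  obtain ⟨m, hm, -⟩ := Ideal.exists_le_maximal q hq.ne_top
  haveI := hm
  letI := Ideal.Quotient.field m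
  let π := Bialgebra.Quotient.mkBialgHom (R := k) J
  let g' := (GrothLib.MultLocal.glMap A (Ideal.Quotient.mkₐ k m)).comp g
  have hg' : GrothLib.MultLocal.IsFrame g' := hg.map _
  have hs : Function.Surjective
      (GrothLib.MultLocal.glHom ((GrothLib.MultLocal.glProj π (E ⧸ m)).comp g')) := by
    intro y
    have hsurj : Function.Surjective (GrothLib.MultLocal.projT π (E ⧸ m)) := by
      intro z
      obtain ⟨w, hw⟩ := LinearMap.lTensor_surjective (E ⧸ m) (g := (π : A →ₗc[k] A ⧸ J).toLinearMap)
        Ideal.Quotient.mk_surjective z
      refine ⟨w, hw ▸ ?_⟩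
      clear hw
      induction w using TensorProduct.induction_on with
      | zero => simp
      | tmul t a => rfl
      | add u v hu hv => simp only [map_add, hu, hv]
    obtain ⟨w, rfl⟩ := hsurj y
    obtain ⟨z, rfl⟩ := hg'.2 w
    exact ⟨z, GrothLib.MultLocal.glHom_glPush _ _ _⟩
  obtain ⟨gN, hgN⟩ := GrothLib.MultLocal.exists_frame_of_surjective_field _ hs
  haveI : Module.FaithfullyFlat k (E ⧸ m) := inferInstance
  exact GrothLib.MultLocal.isMultType_of_frame hgN

end Groth.Agent.S5244
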