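import Groth.Statements.S5249
import Groth.Agent.Lib.DiagGrp.BaseChange
import Groth.Agent.Lib.DiagGrp.TrivialLocus
import Groth.Agent.Lib.GrpSchField.Points

set_option autoImplicit false
open CategoryTheory MonoidalCategory CartesianMonoidalCategory MonObj GrpObj AlgebraicGeometry
universe u
open SGA3x

namespace Groth.Agent.S5249

/-- Let G be an S-group smooth and affine over S, i : H ⟶ G a subgroup scheme of multiplicative type (H
of multiplicative type and of finite type), j : Z ⟶ G the centralizer and k : N ⟶ G the normalizer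
of H in G. Then Z ⟶ G factors through N by a morphism which is an open and closed immersion: the
centralizer is an open and closed subgroup scheme of the normalizer. -/
theorem result {S : Scheme.{u}} (H G Z N : Over S) [GrpObj H] [GrpObj G] [GrpObj Z] [GrpObj N]
    (hH : SGA3x.IsMultTypeFT H) (hG : Smooth G.hom) (hGa : IsAffineHom G.hom) (i : H ⟶ G) [IsMonHom i] [Mono i]
    (j : Z ⟶ G) (k : N ⟶ G) (hj : Red.IsCentralizerOf i j) (hk : Red.IsNormalizerOf i k) :
    ∃ f : Z ⟶ N, f ≫ k = j ∧ IsOpenImmersion f.left ∧ IsClosedImmersion f.left := by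
  classical
  haveI := hk.2.1
  haveI := hj.2.1
  have hch := GrothLib.DiagGrp.hasChartsFpqc_of_isMultTypeFT hH
  open GrothLib.DiagGrp in
  let z := N.hom
  let HT := Red.bc z H
  letI : GrpObj HT := Functor.grpObjObj
  let kk : ∀ Y : Over N.left, (Over.map z).obj Y ⟶ G := fun Y => (Over.homMk Y.hom rfl : (Over.map z).obj Y ⟶ N) ≫ k
  have hkk : ∀ {Y Y' : Over N.left} (a : Y ⟶ Y'), (Over.map z).map a ≫ kk Y' = kk Y := fun a =>
    (Category.assoc _ _ _).symm.trans (congrArg (· ≫ k) (Over.OverMorphism.ext (Over.w a)))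
  let h₀ := (GrothLib.DiagGrp.bcPoint z H HT).symm (𝟙 HT)
  obtain ⟨c, hc⟩ : ∃ c, kk HT * (h₀ ≫ i) * (kk HT)⁻¹ = c ≫ i := by
    have h1 := ((hk.2.2 _ (kk HT)).1 ⟨_, rfl⟩ _ (𝟙 _) h₀).1
    simpa using h1
  have hcY : ∀ {Y : Over N.left} (a : Y ⟶ HT),
      kk Y * ((GrothLib.DiagGrp.bcPoint z H Y).symm a ≫ i) * (kk Y)⁻¹ = ((Over.map z).map a ≫ c) ≫ i := by
    intro Y a
    have h1 : (GrothLib.DiagGrp.bcPoint z H Y).symm a = (Over.map z).map a ≫ h₀ := by
      rw [Equiv.symm_apply_eq, GrothLib.DiagGrp.bcPoint_comp, Equiv.apply_symm_apply, Category.comp_id]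
    rw [Category.assoc, ← hc, MonObj.comp_mul, MonObj.comp_mul, GrpObj.comp_inv, hkk, h1, Category.assoc]
  let w : HT ⟶ HT := GrothLib.DiagGrp.bcPointMulEquiv z H HT (c * h₀⁻¹)
  have hw : ∀ {Y : Over N.left} (a : Y ⟶ HT), a ≫ w = GrothLib.DiagGrp.bcPointMulEquiv z H Y
      (((Over.map z).map a ≫ c) * ((GrothLib.DiagGrp.bcPoint z H Y).symm a)⁻¹) := by
    intro Y a
    have h1 : (GrothLib.DiagGrp.bcPoint z H Y).symm a = (Over.map z).map a ≫ h₀ := by
      rw [Equiv.symm_apply_eq, GrothLib.DiagGrp.bcPoint_comp, Equiv.apply_symm_apply, Category.comp_id]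
    rw [h1, ← GrpObj.comp_inv, ← MonObj.comp_mul]
    exact (GrothLib.DiagGrp.bcPoint_comp z a _).symm
  have hwmul : ∀ {Y : Over N.left} (a b : Y ⟶ HT), (a * b) ≫ w = (a ≫ w) * (b ≫ w) := by
    intro Y a b
    rw [hw, hw, hw, ← map_mul]
    congr 1
    have hs : (GrothLib.DiagGrp.bcPoint z H Y).symm (a * b) =
        (GrothLib.DiagGrp.bcPoint z H Y).symm a * (GrothLib.DiagGrp.bcPoint z H Y).symm b :=
      map_mul (GrothLib.DiagGrp.bcPointMulEquiv z H Y).symm a b
    have hcm : (Over.map z).map (a * b) ≫ c = ((Over.map z).map a ≫ c) * ((Over.map z).map b ≫ c) := by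
      rw [← cancel_mono i, MonObj.mul_comp, ← hcY, ← hcY, ← hcY, hs, MonObj.mul_comp]
      simp only [_root_.mul_assoc, inv_mul_cancel_left]
    rw [hcm, hs]
    letI : CommGroup ((Over.map z).obj Y ⟶ H) :=
      { (inferInstance : Group ((Over.map z).obj Y ⟶ H)) with mul_comm := GrothLib.DiagGrp.mul_comm_of_charts hch _ }
    rw [_root_.mul_inv_rev, _root_.mul_comm ((GrothLib.DiagGrp.bcPoint z H Y).symm b)⁻¹, _root_.mul_mul_mul_comm]
  haveI : IsMonHom w := GrothLib.GrpSchField.isMonHom_of_mul w (by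
    have h1 := hwmul (fst HT HT) (snd HT HT)
    rw [Hom.mul_def, lift_fst_snd, Category.id_comp, Hom.mul_def, ← lift_map] at h1
    rw [h1, lift_fst_snd, Category.id_comp])
  have hchT := hch.baseChange z
  haveI := GrothLib.DiagGrp.isClosedImmersion_one_of_charts hchT
  haveI : LocallyOfFinitePresentation HT.hom := by
    have := GrothLib.DiagGrp.lfp_of_isMultTypeFT hH
    exact inferInstanceAs (LocallyOfFinitePresentation (Limits.pullback.snd H.hom z))
  haveI : LocallyOfFinitePresentation η[HT].left := by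
    refine GrothLib.DiagGrp.lfp_of_comp_of_lft _ HT.hom ?_ inferInstance
    rw [Over.w η[HT]]
    exact inferInstanceAs (LocallyOfFinitePresentation (𝟙 N.left))
  haveI : LocallyOfFinitePresentation (Limits.pullback.fst w.left η[HT].left) := inferInstance
  obtain ⟨V, hVc, hV, hVtriv⟩ := GrothLib.DiagGrp.exists_clopen_trivial w (hchT.mono fun _ _ _ => trivial)
  -- triviality on a point of the parameter space
  let P : Over N.left → Prop := fun Y => ∀ h : (Over.map z).obj Y ⟶ H, kk Y * (h ≫ i) = (h ≫ i) * kk Y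
  have hP : ∀ {Z : Scheme.{u}} (σ : Z ⟶ N.left), GrothLib.DiagGrp.TrivOver w σ ↔
      ∀ (Y : Over N.left) (τ : Y.left ⟶ Z), τ ≫ σ = Y.hom → P Y := by
    intro Z σ
    refine ⟨fun hσ Y τ hτ h => ?_, fun hσ Y τ hτ a => ?_⟩
    · have h2 := hσ Y τ hτ (GrothLib.DiagGrp.bcPoint z H Y h)
      rw [hw, ← map_one (GrothLib.DiagGrp.bcPointMulEquiv z H Y), EmbeddingLike.apply_eq_iff_eq,
        Equiv.symm_apply_apply, mul_inv_eq_one] at h2
      have h3 := hcY (GrothLib.DiagGrp.bcPoint z H Y h)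
      rw [h2, Equiv.symm_apply_apply, mul_inv_eq_iff_eq_mul] at h3
      exact h3
    · rw [hw, ← map_one (GrothLib.DiagGrp.bcPointMulEquiv z H Y), EmbeddingLike.apply_eq_iff_eq, mul_inv_eq_one,
        ← cancel_mono i, ← hcY, mul_inv_eq_iff_eq_mul]
      exact hσ Y τ hτ _
  have hmem : ∀ {L : Type u} [Field L] (σ : Spec (CommRingCat.of L) ⟶ N.left),
      GrothLib.DiagGrp.TrivOver w σ ↔ σ.base (IsLocalRing.closedPoint L) ∈ V := fun {L} _ σ => by
    rw [hV, GrothLib.DiagGrp.trivOver_iff_pullback_eq_one, ← GrothLib.DiagGrp.trivOver_field_iff w σ]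
  -- the centralizer maps into the normalizer
  obtain ⟨f, hf⟩ : ∃ f : Z ⟶ N, f ≫ k = j := by
    refine (hk.2.2 Z j).2 fun X' x h => ?_
    have hc := (hj.2.2 Z j).1 ⟨𝟙 Z, Category.id_comp _⟩ X' x h
    exact ⟨⟨h, by rw [hc, mul_inv_cancel_right]⟩, ⟨h, by rw [_root_.mul_assoc, ← hc, inv_mul_cancel_left]⟩⟩
  refine ⟨f, hf, ?_⟩
  have hfV : ∀ x : Z.left, f.left x ∈ V := by
    intro x
    let σ : Spec (Z.left.residueField x) ⟶ N.left := Z.left.fromSpecResidueField x ≫ f.left
    have h1 : σ.base (IsLocalRing.closedPoint _) = f.left x := by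
      simp only [σ, Scheme.Hom.comp_apply]
      rw [Scheme.fromSpecResidueField_apply]
    rw [← h1]
    refine (hmem σ).1 ((hP σ).2 ?_)
    intro Y τ hτ h
    let y : (Over.map z).obj Y ⟶ Z := Over.homMk (τ ≫ Z.left.fromSpecResidueField x) (by
      show (τ ≫ Z.left.fromSpecResidueField x) ≫ Z.hom = Y.hom ≫ z
      rw [← hτ]
      simp only [σ, z, Category.assoc, Over.w f])
    have hy : kk Y = y ≫ j := by
      rw [← hf, ← Category.assoc]
      refine congrArg (· ≫ k) (Over.OverMorphism.ext ?_)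
      show Y.hom = (τ ≫ Z.left.fromSpecResidueField x) ≫ f.left
      rw [← hτ, Category.assoc]
    rw [hy]
    exact (hj.2.2 Z j).1 ⟨𝟙 Z, Category.id_comp _⟩ _ y h
  let Vo : Over S := Over.mk (V.ι ≫ N.hom)
  let incl : Vo ⟶ N := Over.homMk V.ι rfl
  obtain ⟨e, he⟩ : ∃ e : Vo ⟶ Z, e ≫ j = incl ≫ k := by
    refine (hj.2.2 Vo _).2 fun X' x h => ?_
    let Y : Over N.left := Over.mk (x.left ≫ V.ι)
    let a : X' ⟶ (Over.map z).obj Y := Over.homMk (𝟙 _) (by
      show 𝟙 _ ≫ (x.left ≫ V.ι) ≫ N.hom = X'.hom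
      rw [Category.id_comp, Category.assoc]
      exact Over.w x)
    let a' : (Over.map z).obj Y ⟶ X' := Over.homMk (𝟙 _) (by
      show 𝟙 _ ≫ X'.hom = (x.left ≫ V.ι) ≫ N.hom
      rw [Category.id_comp, Category.assoc]
      exact (Over.w x).symm)
    have hY : P Y := (hP V.ι).1 ((GrothLib.DiagGrp.trivOver_iff_pullback_eq_one w _).mp hVtriv) Y x.left rfl
    have h2 := congrArg (a ≫ ·) (hY (a' ≫ h))
    simp only [MonObj.comp_mul, ← Category.assoc] at h2
    rw [show a ≫ a' = 𝟙 _ from Over.OverMorphism.ext (Category.id_comp _), Category.id_comp] at h2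
    have h3 : a ≫ kk Y = x ≫ incl ≫ k := by
      rw [← Category.assoc x, ← Category.assoc a]
      exact congrArg (· ≫ k) (Over.OverMorphism.ext (Category.id_comp _))
    rw [h3] at h2
    exact h2
  let f' : Z ⟶ Vo := Over.homMk (IsOpenImmersion.lift V.ι f.left (by
      rw [V.range_ι]; rintro _ ⟨x, rfl⟩; exact hfV x)) (by
    show _ ≫ V.ι ≫ N.hom = Z.hom
    rw [IsOpenImmersion.lift_fac_assoc, Over.w f])
  have hf' : f' ≫ incl = f := Over.OverMorphism.ext (IsOpenImmersion.lift_fac _ _ _)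
  haveI : Mono incl := Over.mono_of_mono_left _
  have he' : e ≫ f = incl := by rw [← cancel_mono k, Category.assoc, hf, he]
  let φ : Z ≅ Vo :=
    { hom := f'
      inv := e
      hom_inv_id := by rw [← cancel_mono j, Category.assoc, he, ← Category.assoc, hf', hf, Category.id_comp]
      inv_hom_id := by rw [← cancel_mono incl, Category.assoc, hf', he', Category.id_comp] }
  haveI : IsIso f'.left := ((Over.forget _).mapIso φ).isIso_hom
  haveI : IsClosedImmersion V.ι :=
    IsClosedImmersion.of_isPreimmersion _ (by rw [V.range_ι]; exact hVc)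
  rw [show f.left = f'.left ≫ V.ι by rw [← hf', Over.comp_left]; rfl]
  exact ⟨inferInstance, inferInstance⟩

end Groth.Agent.S5249
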