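import Groth.Statements.S5250
import Groth.Agent.Lib.MultLocal.LiftLevel
import Groth.Agent.Lib.MultLocal.DescHom

set_option autoImplicit false
universe u
open TensorProduct SGA3b
open SGA3b

namespace Groth.Agent.S5250

/-- Let A be a Noetherian ring, separated and complete for the I-adic topology, G = Spec B an isotrivial
A-group of multiplicative type, and H = Spec C an affine A-group which is flat over A at the points
of H₀ = Spec ((A/I) ⊗ C) (C localised at any prime containing IC is flat over A) and such that H₀ is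
a quasi-isotrivial (A/I)-group of multiplicative type. Then reduction modulo I is a bijection from
homomorphisms of A-groups G ⟶ H (bialgebra maps C → B) to homomorphisms of (A/I)-groups G₀ ⟶ H₀: two
bialgebra maps C → B with the same reduction are equal, and every bialgebra map C₀ → B₀ over A/I is
a reduction. (Affine group schemes over an affine base are taken in Hopf-algebra form; base change
is the tensor product; a homomorphism of groups Spec A ⟶ Spec C is a bialgebra map C → A.) -/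
theorem result (A : Type u) [CommRing A] [IsNoetherianRing A] (I : Ideal A) [IsAdicComplete I A]
    (B : Type u) [CommRing B] [HopfAlgebra A B] (hG : IsIsotrivial A B)
    (C : Type u) [CommRing C] [HopfAlgebra A C]
    (hfl : ∀ (q : Ideal C) [q.IsPrime], Ideal.map (algebraMap A C) I ≤ q → Module.Flat A (Localization.AtPrime q))
    (h0 : IsQuasiIsotrivial (A ⧸ I) ((A ⧸ I) ⊗[A] C)) :
    (∀ φ ψ : C →ₐc[A] B, (∀ c : C, (1 : A ⧸ I) ⊗ₜ[A] (φ c) = (1 : A ⧸ I) ⊗ₜ[A] (ψ c)) → φ = ψ) ∧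
    (∀ φ₀ : ((A ⧸ I) ⊗[A] C) →ₐc[A ⧸ I] ((A ⧸ I) ⊗[A] B),
      ∃ φ : C →ₐc[A] B, ∀ c : C, φ₀ ((1 : A ⧸ I) ⊗ₜ[A] c) = (1 : A ⧸ I) ⊗ₜ[A] (φ c)) := by
  obtain ⟨E, _, _, hEet, hEfin, hEff, MB, _, ⟨e⟩⟩ := hG
  haveI := hEfin
  haveI := hEff
  obtain ⟨gB, hgB⟩ := GrothLib.MultLocal.exists_frame_of_equiv e
  constructor
  · intro φ ψ h
    obtain ⟨u, hu⟩ : ∃ u : E ⊗[A] C →ₐc[E] MonoidAlgebra E MB,
        u = (hgB.equiv.symm : E ⊗[A] B →ₐc[E] MonoidAlgebra E MB).comp
          (Bialgebra.TensorProduct.map (BialgHom.id E E) φ) := ⟨_, rfl⟩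
    obtain ⟨v, hv⟩ : ∃ v : E ⊗[A] C →ₐc[E] MonoidAlgebra E MB,
        v = (hgB.equiv.symm : E ⊗[A] B →ₐc[E] MonoidAlgebra E MB).comp
          (Bialgebra.TensorProduct.map (BialgHom.id E E) ψ) := ⟨_, rfl⟩
    have hu' : ∀ c, GrothLib.MultLocal.glHom gB (u ((1 : E) ⊗ₜ c)) = (1 : E) ⊗ₜ[A] φ c := fun c => by
      rw [hu, ← GrothLib.MultLocal.IsFrame.equiv_apply hgB]
      exact hgB.equiv.apply_symm_apply _
    have hv' : ∀ c, GrothLib.MultLocal.glHom gB (v ((1 : E) ⊗ₜ c)) = (1 : E) ⊗ₜ[A] ψ c := fun c => by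
      rw [hv, ← GrothLib.MultLocal.IsFrame.equiv_apply hgB]
      exact hgB.equiv.apply_symm_apply _
    let ρ : (A ⧸ I) →ₐ[A] E ⧸ I.map (algebraMap A E) := Ideal.Quotient.liftₐ I (Algebra.ofId A _) fun a ha => by
      change algebraMap A (E ⧸ I.map (algebraMap A E)) a = 0
      rw [IsScalarTower.algebraMap_apply A E, Ideal.Quotient.algebraMap_eq, Ideal.Quotient.eq_zero_iff_mem]
      exact Ideal.mem_map_of_mem _ ha
    let π0 : E →ₐ[A] E ⧸ I.map (algebraMap A E) := Ideal.Quotient.mkₐ A _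
    have huv : u = v := GrothLib.MultLocal.eq_of_mod_adic I hfl h0 u v fun c => (hgB.map π0).1 (by
      refine Eq.trans (GrothLib.MultLocal.glHom_glMap π0 gB _) ?_
      refine Eq.trans ?_ (GrothLib.MultLocal.glHom_glMap π0 gB _).symm
      rw [hu', hv', GrothLib.MultLocal.coefMap_tmul, GrothLib.MultLocal.coefMap_tmul, map_one π0, ← map_one ρ,
        ← GrothLib.MultLocal.coefMap_tmul (f := ρ), h c, GrothLib.MultLocal.coefMap_tmul])
    refine BialgHom.ext fun c => Module.FaithfullyFlat.tensorProduct_mk_injective (A := A) (B := E) B ?_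
    change (1 : E) ⊗ₜ[A] φ c = (1 : E) ⊗ₜ[A] ψ c
    rw [← hu', ← hv', huv]
  · intro φ₀
    let J := I.map (algebraMap A E)
    let ρ : (A ⧸ I) →ₐ[A] E ⧸ J := Ideal.Quotient.liftₐ I (Algebra.ofId A _) fun a ha => by
      change algebraMap A (E ⧸ J) a = 0
      rw [IsScalarTower.algebraMap_apply A E, Ideal.Quotient.algebraMap_eq, Ideal.Quotient.eq_zero_iff_mem]
      exact Ideal.mem_map_of_mem _ ha
    let π0 : E →ₐ[A] E ⧸ J := Ideal.Quotient.mkₐ A _
    obtain ⟨Φ, hΦ⟩ := GrothLib.MultLocal.exists_bc_hom ρ φ₀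
    have hg0 := hgB.map π0
    obtain ⟨f, hf⟩ := GrothLib.MultLocal.exists_lift_adic I hfl h0 (W := E)
      ((hg0.equiv.symm : (E ⧸ J) ⊗[A] B →ₐc[E ⧸ J] MonoidAlgebra (E ⧸ J) MB).comp Φ)
    let F : E ⊗[A] C →ₐc[E] E ⊗[A] B := (GrothLib.MultLocal.glHom gB).comp f
    have hF : ∀ c, GrothLib.MultLocal.coefMap B π0 (F ((1 : E) ⊗ₜ c)) =
        GrothLib.MultLocal.coefMap B ρ (φ₀ ((1 : A ⧸ I) ⊗ₜ c)) := by
      intro c
      refine Eq.trans (GrothLib.MultLocal.glHom_glMap π0 gB _).symm ?_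
      refine Eq.trans (congrArg _ (hf c)) ?_
      have h2 := hΦ ((1 : A ⧸ I) ⊗ₜ c)
      rw [GrothLib.MultLocal.coefMap_tmul, map_one ρ] at h2
      rw [← h2, ← GrothLib.MultLocal.IsFrame.equiv_apply hg0]
      exact hg0.equiv.apply_symm_apply _
    let W := E ⊗[A] E
    let l : E →ₐ[A] W := Algebra.TensorProduct.includeLeft
    let r : E →ₐ[A] W := Algebra.TensorProduct.includeRight
    haveI : Module.Finite A W := Module.Finite.tensorProduct A E E
    let K := I.map (algebraMap A W)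
    let πW : W →ₐ[A] W ⧸ K := Ideal.Quotient.mkₐ A _
    have hkill : ∀ (θ : E →ₐ[A] W ⧸ K), ∀ a ∈ J, θ a = 0 := fun θ a ha => by
      have h2 : I.map (algebraMap A (W ⧸ K)) = ⊥ := by
        rw [IsScalarTower.algebraMap_eq A W (W ⧸ K), ← Ideal.map_map, Ideal.Quotient.algebraMap_eq]
        exact Ideal.map_quotient_self K
      have h3 := Ideal.mem_map_of_mem (θ : E →+* W ⧸ K) ha
      rw [Ideal.map_map, AlgHom.comp_algebraMap, h2] at h3
      exact Ideal.mem_bot.mp h3
    have hgl := hgB.map l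
    obtain ⟨a, ha⟩ := GrothLib.MultLocal.exists_bc_hom l F
    obtain ⟨b, hb⟩ := GrothLib.MultLocal.exists_bc_hom r F
    have hred : ∀ (m : E →ₐ[A] W) (p : W ⊗[A] C →ₐc[W] W ⊗[A] B),
        (∀ z, p (GrothLib.MultLocal.coefMap C m z) = GrothLib.MultLocal.coefMap B m (F z)) → ∀ c,
        GrothLib.MultLocal.coefMap B πW (p ((1 : W) ⊗ₜ c)) =
          GrothLib.MultLocal.coefMap B ((Ideal.Quotient.liftₐ J (πW.comp m) (hkill (πW.comp m))).comp ρ)
            (φ₀ ((1 : A ⧸ I) ⊗ₜ c)) := by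
      intro m p hp c
      have h2 := hp ((1 : E) ⊗ₜ c)
      rw [GrothLib.MultLocal.coefMap_tmul, map_one m] at h2
      rw [h2, GrothLib.MultLocal.coefMap_comp, ← GrothLib.MultLocal.coefMap_comp ρ, ← hF, GrothLib.MultLocal.coefMap_comp]
      rfl
    have hab : (hgl.equiv.symm : W ⊗[A] B →ₐc[W] MonoidAlgebra W MB).comp a =
        (hgl.equiv.symm : W ⊗[A] B →ₐc[W] MonoidAlgebra W MB).comp b := by
      refine GrothLib.MultLocal.eq_of_mod_adic I hfl h0 _ _ fun c => (hgl.map πW).1 ?_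
      refine Eq.trans (GrothLib.MultLocal.glHom_glMap πW _ _) ?_
      refine Eq.trans ?_ (GrothLib.MultLocal.glHom_glMap πW _ _).symm
      rw [← GrothLib.MultLocal.IsFrame.equiv_apply hgl, ← GrothLib.MultLocal.IsFrame.equiv_apply hgl]
      refine Eq.trans (congrArg _ (hgl.equiv.apply_symm_apply _)) ?_
      refine Eq.trans ?_ (congrArg _ (hgl.equiv.apply_symm_apply _)).symm
      refine (hred l a ha c).trans (Eq.trans ?_ (hred r b hb c).symm)
      congr 2
      refine AlgHom.ext fun x => ?_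
      obtain ⟨x, rfl⟩ := Ideal.Quotient.mk_surjective x
      exact (AlgHom.commutes _ x).trans (AlgHom.commutes _ x).symm
    obtain ⟨φ, hφ⟩ := GrothLib.MultLocal.exists_bialgHom_descend F fun c => by
      have h2 := ha ((1 : E) ⊗ₜ c)
      have h3 := hb ((1 : E) ⊗ₜ c)
      rw [GrothLib.MultLocal.coefMap_tmul, map_one l] at h2
      rw [GrothLib.MultLocal.coefMap_tmul, map_one r] at h3
      have h4 : hgl.equiv.symm (a ((1 : W) ⊗ₜ c)) = hgl.equiv.symm (b ((1 : W) ⊗ₜ c)) :=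
        congrArg (fun p => p ((1 : W) ⊗ₜ c)) hab
      exact h2.symm.trans ((hgl.equiv.symm.toEquiv.injective h4).trans h3)
    refine ⟨φ, fun c => GrothLib.MultLocal.coefMap_quot_injective I B ρ ?_⟩
    rw [← hF, ← hφ, GrothLib.MultLocal.coefMap_tmul, GrothLib.MultLocal.coefMap_tmul, map_one ρ, map_one π0]

end Groth.Agent.S5250
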