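import Groth.Statements.S5252
import Groth.Agent.Lib.MultLocal.FlatNil
import Groth.Agent.Lib.MultLocal.FiniteLift
import Groth.Agent.Lib.MultLocal.Quot
import Groth.Agent.Lib.Hensel.Properties
import Groth.Agent.S2974
import Groth.Agent.Lib.Hopf.Descent
import Mathlib.RingTheory.Artinian.Ring

set_option autoImplicit false
universe u
open TensorProduct SGA3b
open SGA3b

namespace Groth.Agent.S5252

/-- Let A be an Artinian local ring with residue field k and H = Spec C an affine A-group with C flat
and of finite type over A, whose closed fibre Spec (k ⊗ C) is a k-group of multiplicative type. Then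
H is of multiplicative type and isotrivial. (Affine group schemes over an affine base are taken in
Hopf-algebra form; base change is the tensor product; a homomorphism of groups Spec A ⟶ Spec C is a
bialgebra map C → A.) -/
theorem result (A : Type u) [CommRing A] [IsArtinianRing A] [IsLocalRing A]
    (C : Type u) [CommRing C] [HopfAlgebra A C] [Module.Flat A C] (hft : Algebra.FiniteType A C)
    (h0 : IsMultType (IsLocalRing.ResidueField A) (IsLocalRing.ResidueField A ⊗[A] C)) :
    IsMultType A C ∧ IsIsotrivial A C := by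
  haveI := hft
  let m := IsLocalRing.maximalIdeal A
  let k := IsLocalRing.ResidueField A
  obtain ⟨n, hn⟩ : IsNilpotent m := by
    rw [show m = (⊥ : Ideal A).jacobson from (IsLocalRing.jacobson_eq_maximalIdeal ⊥ bot_ne_top).symm]
    exact IsArtinianRing.isNilpotent_jacobson_bot (R := A)
  haveI : HenselianRing A m := GrothLib.Hensel.henselianRing_of_isNilpotent m fun x hx => ⟨n, by
    have h := Ideal.pow_mem_pow hx n
    rwa [hn] at h⟩
  haveI : Algebra.FiniteType k (k ⊗[A] C) := inferInstance
  obtain ⟨E₀, _, _, hE, hfin, hff, M, _, ⟨e⟩⟩ := Groth.Agent.S2974.result k (k ⊗[A] C) inferInstance h0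
  letI : Algebra A E₀ := Algebra.compHom E₀ (algebraMap A k)
  haveI : IsScalarTower A k E₀ := IsScalarTower.of_algebraMap_eq fun _ => rfl
  letI : Algebra (A ⧸ m) E₀ := ‹Algebra k E₀›
  haveI : IsScalarTower A (A ⧸ m) E₀ := ‹IsScalarTower A k E₀›
  haveI : Module.Finite (A ⧸ m) E₀ := hfin
  haveI : Algebra.Etale (A ⧸ m) E₀ := hE
  haveI : Module.FaithfullyFlat (A ⧸ m) E₀ := hff
  obtain ⟨B, _, _, π, hBfin, hBet, hBff, hπ, hker⟩ :=
    GrothLib.MultLocal.exists_finite_etale_ff_lift m E₀
  obtain ⟨h₀, hh₀⟩ := GrothLib.MultLocal.exists_frame_of_equiv (GrothLib.Hopf.trivOfAway k E₀ e)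
  have hnil : IsNilpotent (RingHom.ker (π : B →+* E₀)) := ⟨n, by
    rw [show RingHom.ker (π : B →+* E₀) = m.map (algebraMap A B) from hker, ← Ideal.map_pow, hn]
    exact Ideal.map_bot⟩
  obtain ⟨g, hg, -⟩ := GrothLib.MultLocal.exists_frame_of_flat_surjective π hπ hnil hh₀
  exact ⟨GrothLib.MultLocal.isMultType_of_frame hg, B, inferInstance, inferInstance, hBet, hBfin, hBff, M,
    inferInstance, ⟨hg.equiv.symm⟩⟩

end Groth.Agent.S5252
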