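import Groth.Statements.S5256
import Groth.Agent.Lib.DiagGrp.Homs

set_option autoImplicit false
open CategoryTheory MonoidalCategory CartesianMonoidalCategory MonObj GrpObj AlgebraicGeometry
universe u
open SGA3x

namespace Groth.Agent.S5256

/-- Let u : H ⟶ G be a homomorphism of S-groups, with H of multiplicative type and of finite type and G
of finite presentation over S (locally of finite presentation, quasi-compact and quasi-separated).
If for every s ∈ S the homomorphism u_s : H_s ⟶ G_s induced on the fibres at s is central (every
point of G_s commutes with the image of every point of H_s), then u is central. -/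
theorem result {S : Scheme.{u}} (H G : Over S) [GrpObj H] [GrpObj G]
    (hH : SGA3x.IsMultTypeFT H) [LocallyOfFinitePresentation G.hom] [QuasiCompact G.hom] [QuasiSeparated G.hom]
    (u : H ⟶ G) [IsMonHom u]
    (hfib : ∀ (s : S) (X : Over (Spec (S.residueField s))) (g : X ⟶ Red.bc (S.fromSpecResidueField s) G)
      (h : X ⟶ Red.bc (S.fromSpecResidueField s) H),
      g * (h ≫ (Over.pullback (S.fromSpecResidueField s)).map u) = (h ≫ (Over.pullback (S.fromSpecResidueField s)).map u) * g) :
    ∀ (X : Over S) (g : X ⟶ G) (h : X ⟶ H), g * (h ≫ u) = (h ≫ u) * g := by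
  exact fun X g h => GrothLib.DiagGrp.central_of_fibres (GrothLib.DiagGrp.locally_of_isMultTypeFT hH) u
    (fun s X g h => hfib s X g h) X h g

end Groth.Agent.S5256
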