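import Groth.Statements.S5258
import Groth.Agent.Lib.SecLocus.Locus
import Groth.Agent.Lib.DescentHom.GeomConnected

set_option autoImplicit false
open CategoryTheory MonoidalCategory CartesianMonoidalCategory MonObj GrpObj AlgebraicGeometry
universe u
open SGA3x

namespace Groth.Agent.S5258

/-- Let f : X ⟶ S be a smooth morphism whose geometric fibres are connected and nonempty, and Y a closed
subscheme of X. Then the functor on S-schemes whose value at S' ⟶ S is a point when X ×_S S' ⟶ X
factors through Y and empty otherwise is representable by a closed subscheme T of S; if moreover Y ⟶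
X is of finite presentation, then T ⟶ S is of finite presentation. -/
theorem result {S X Y : Scheme.{u}} (f : X ⟶ S) [Smooth f]
    (hconn : ∀ s : S, ConnectedSpace ↥(Limits.pullback f (Red.geomPt s))) (y : Y ⟶ X) [IsClosedImmersion y] :
    ∃ (T : Scheme.{u}) (t : T ⟶ S), IsClosedImmersion t ∧
      (∀ (S' : Scheme.{u}) (g : S' ⟶ S), (∃ g' : S' ⟶ T, g' ≫ t = g) ↔
        ∃ l : Limits.pullback f g ⟶ Y, l ≫ y = Limits.pullback.fst f g) ∧
      (LocallyOfFinitePresentation y → LocallyOfFinitePresentation t) := by
  have := GrothLib.DescentHom.geometricallyConnected_of_geomPt f hconn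
  have := GrothLib.SecLocus.geometricallyIrreducible_of_smooth f
  obtain ⟨T, t, ht, hT, hfp⟩ := GrothLib.SecLocus.exists_closed_locus f y
  exact ⟨T, t, ht, fun S' g => hT S' g, hfp⟩

end Groth.Agent.S5258
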