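import Groth.Statements.S5266
import Groth.Agent.Lib.TwConst.Clopen

set_option autoImplicit false
open CategoryTheory MonoidalCategory CartesianMonoidalCategory MonObj GrpObj AlgebraicGeometry
universe u
open SGA3x

namespace Groth.Agent.S5266

open CategoryTheory.Limits

/-- A closed subscheme, quasi-compact over the base, of a scheme becoming constant over an affine chart is finite there. -/
theorem isFinite_of_isPullback {S T Y Z Q : Scheme.{u}} [AlgebraicGeometry.IsAffine T] (fY : Y ⟶ S) (z : Z ⟶ Y) [IsClosedImmersion z]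
    [QuasiCompact (z ≫ fY)] (g : T ⟶ S) (M : Type u) (e : Over.mk (pullback.snd fY g) ≅ TwC.const T M)
    (a : Q ⟶ Z) (b : Q ⟶ T) (h : IsPullback a b (z ≫ fY) g) : IsFinite b := by
  classical
  obtain ⟨σ, hoi, hσ, hdisj, hcov⟩ := GrothLib.TwConst.exists_sections _ M e
  let j : Q ⟶ pullback fY g := pullback.lift (a ≫ z) b (by rw [Category.assoc]; exact h.w)
  have hj : IsPullback a j z (pullback.fst fY g) :=
    IsPullback.of_bot (by rw [pullback.lift_snd]; exact h) (pullback.lift_fst _ _ _).symm (IsPullback.of_hasPullback fY g)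
  haveI : IsClosedImmersion j := MorphismProperty.of_isPullback (P := @IsClosedImmersion) hj ‹_›
  haveI : QuasiCompact b := MorphismProperty.of_isPullback (P := @QuasiCompact) h ‹_›
  haveI : CompactSpace Q := QuasiCompact.compactSpace_of_compactSpace b
  have hc : IsCompact (Set.range j) := isCompact_range j.continuous
  obtain ⟨F, hF⟩ := hc.elim_finite_subcover (fun m => Set.range (σ m)) (fun m => (σ m).isOpenEmbedding.isOpen_range)
    (fun y _ => by obtain ⟨m, t, ht⟩ := hcov y; exact Set.mem_iUnion.mpr ⟨m, t, ht⟩)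
  let d : (∐ fun _ : (F : Set M) => T) ⟶ pullback fY g := Sigma.desc fun m => σ m.1
  haveI : IsOpenImmersion d := by
    refine isOpenImmersion_sigmaDesc (fun _ : (F : Set M) => T) _ fun m n hmn => ?_
    simp only [Function.onFun, Set.disjoint_left]
    rintro _ ⟨t, rfl⟩ ⟨t', ht'⟩
    exact hmn (Subtype.ext (hdisj n.1 m.1 t' t ht').symm)
  have hsub : Set.range j ⊆ Set.range d := by
    intro y hy
    simp only [Set.mem_iUnion] at hF
    obtain ⟨m, hm, t, rfl⟩ : ∃ m ∈ F, y ∈ Set.range (σ m) := by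
      have := hF hy
      simpa using this
    exact ⟨Sigma.ι (fun _ : (F : Set M) => T) ⟨m, hm⟩ t, by rw [← Scheme.Hom.comp_apply, Sigma.ι_desc]⟩
  let l := IsOpenImmersion.lift d j hsub
  haveI : IsClosedImmersion (l ≫ d) := by rw [IsOpenImmersion.lift_fac]; infer_instance
  haveI : IsClosedImmersion l := IsClosedImmersion.of_comp l d
  have hd : d ≫ pullback.snd fY g = Sigma.desc fun _ : (F : Set M) => 𝟙 T := Sigma.hom_ext _ _ fun m => by simp [d, hσ]
  have hb : b = l ≫ Sigma.desc fun _ : (F : Set M) => 𝟙 T := by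
    rw [← hd, IsOpenImmersion.lift_fac_assoc, pullback.lift_snd]
  rw [hb]
  exact MorphismProperty.comp_mem @IsFinite _ _ inferInstance (GrothLib.TwConst.isFinite_sigma_id T _)

/-- Let R be a twisted constant S-scheme (fpqc-locally on S isomorphic to a constant scheme, the index
set being allowed to vary) and Z a closed subscheme of R which is quasi-compact over S. Then Z is
finite over S. -/
theorem result {S : Scheme.{u}} (R : Over S) (hR : TwC.IsTwConst TwC.Topology.fpqc R)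
    {Z : Scheme.{u}} (z : Z ⟶ R.left) [IsClosedImmersion z] [QuasiCompact (z ≫ R.hom)] :
    IsFinite (z ≫ R.hom) := by
  obtain ⟨S', f, hflat, hsurj, hqc, hloc⟩ := hR
  haveI := hflat
  refine (IsZariskiLocalAtTarget.iff_of_iSup_eq_top (P := @IsFinite) (fun V : S.affineOpens => (V : S.Opens))
    (iSup_affineOpens_eq_top S)).mpr fun V => ?_
  obtain ⟨W, hW, hWV⟩ := hqc V.1 V.2
  haveI : AlgebraicGeometry.IsAffine (V.1 : Scheme.{u}) := V.2
  haveI : CompactSpace (W : Scheme.{u}) := isCompact_iff_compactSpace.mp hW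
  let g : (W : Scheme.{u}) ⟶ (V.1 : Scheme.{u}) := IsOpenImmersion.lift V.1.ι (W.ι ≫ f) (by
    rintro _ ⟨w, rfl⟩
    rw [Scheme.Opens.range_ι, ← hWV]
    exact ⟨W.ι w, w.2, rfl⟩)
  have hg : g ≫ V.1.ι = W.ι ≫ f := IsOpenImmersion.lift_fac _ _ _
  haveI : Surjective g := ⟨fun v => by
    obtain ⟨w, hw, hwv⟩ := hWV.symm.le v.2
    exact ⟨⟨w, hw⟩, V.1.ι.isOpenEmbedding.injective
      ((congrArg (fun k : (W : Scheme.{u}) ⟶ S => k ⟨w, hw⟩) hg).trans hwv)⟩⟩
  haveI : Flat (g ≫ V.1.ι) := by rw [hg]; infer_instance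
  haveI : Flat g := MorphismProperty.of_postcomp (W := @Flat) (W' := @IsOpenImmersion) g V.1.ι inferInstance ‹_›
  haveI : QuasiCompact g := quasiCompact_of_compactSpace g
  have hsq : IsPullback (pullback.fst ((z ≫ R.hom) ∣_ V.1) g ≫ ((z ≫ R.hom) ⁻¹ᵁ V.1).ι)
      (pullback.snd ((z ≫ R.hom) ∣_ V.1) g) (z ≫ R.hom) (W.ι ≫ f) :=
    hg ▸ (IsPullback.of_hasPullback ((z ≫ R.hom) ∣_ V.1) g).paste_horiz (isPullback_morphismRestrict (z ≫ R.hom) V.1).flip
  refine MorphismProperty.of_pullback_snd_of_descendsAlong (P := @IsFinite) (Q := GrothLib.EtSite.fpqcCov) (f := (z ≫ R.hom) ∣_ V.1) (g := g)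
    ⟨⟨inferInstance, inferInstance⟩, inferInstance⟩ ?_
  -- work locally on W inside the charts
  let π := pullback.snd ((z ≫ R.hom) ∣_ V.1) g
  change IsFinite π
  refine IsZariskiLocalAtTarget.of_forall_exists_morphismRestrict (P := @IsFinite) (f := π) fun w => ?_
  obtain ⟨U, hwU, M, ⟨e⟩⟩ := hloc (W.ι w)
  obtain ⟨_, ⟨A₀, hA, rfl⟩, hwA, hAU⟩ :=
    (W : Scheme.{u}).isBasis_affineOpens.exists_subset_of_mem_open (show w ∈ W.ι ⁻¹ᵁ U from hwU) (W.ι ⁻¹ᵁ U).isOpen
  let A : (W : Scheme.{u}).Opens := A₀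
  refine ⟨A, hwA, ?_⟩
  haveI : AlgebraicGeometry.IsAffine ((A : (W : Scheme.{u}).Opens) : Scheme.{u}) := hA
  let i := (A : (W : Scheme.{u}).Opens).ι
  let k : (A : (W : Scheme.{u}).Opens).toScheme ⟶ (U : Scheme.{u}) := IsOpenImmersion.lift U.ι (i ≫ W.ι) (by
    rintro _ ⟨a, rfl⟩
    rw [Scheme.Opens.range_ι]
    exact hAU a.2)
  have hk : k ≫ U.ι ≫ f = i ≫ W.ι ≫ f := by rw [IsOpenImmersion.lift_fac_assoc, Category.assoc]
  obtain ⟨e'⟩ := GrothLib.TwConst.nonempty_iso_precomp R.hom (U.ι ≫ f) k M e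
  have hpb : IsPullback ((π ⁻¹ᵁ A).ι ≫ pullback.fst ((z ≫ R.hom) ∣_ V.1) g ≫ ((z ≫ R.hom) ⁻¹ᵁ V.1).ι)
      (π ∣_ A) (z ≫ R.hom) (k ≫ U.ι ≫ f) := by
    rw [hk]
    exact (isPullback_morphismRestrict π A).flip.paste_horiz hsq
  exact isFinite_of_isPullback R.hom z (k ≫ U.ι ≫ f) M e' _ _ hpb

end Groth.Agent.S5266
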