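import Groth.Statements.S5268
import Groth.Agent.Lib.TwConst.Clopen
import Groth.Agent.Lib.Unibranch.Points

set_option autoImplicit false
open CategoryTheory MonoidalCategory CartesianMonoidalCategory MonObj GrpObj AlgebraicGeometry
universe u
open SGA3x

namespace Groth.Agent.S5268

/-- Let S be a locally Noetherian scheme all of whose local rings are geometrically unibranch, and P a
quasi-isotrivial twisted constant S-scheme (etale-locally on S isomorphic to a constant scheme).
Then every connected component of P is open, and as an open subscheme of P it is finite over S. -/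
theorem result {S : Scheme.{u}} [IsLocallyNoetherian S]
    (hS : ∀ s : S, CAlg2.IsGeomUnibranch (S.presheaf.stalk s))
    (P : Over S) (hP : TwC.IsTwConst TwC.Topology.etale P) (x : P.left) :
    ∃ U : P.left.Opens, (U : Set P.left) = connectedComponent x ∧ IsFinite (U.ι ≫ P.hom) := by
  obtain ⟨-, het, -⟩ := Groth.Agent.S19144.result P hP
  haveI : Etale P.hom := het
  haveI : IsLocallyNoetherian P.left := LocallyOfFiniteType.isLocallyNoetherian P.hom
  have hN := GrothLib.LocNoeth.isLocNoeth P.left
  haveI : LocallyConnectedSpace P.left := hN.locallyConnectedSpace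
  let U : P.left.Opens := ⟨connectedComponent x, isOpen_connectedComponent⟩
  refine ⟨U, rfl, ?_⟩
  haveI : IsClosedImmersion U.ι := IsClosedImmersion.of_isPreimmersion _ (by
    rw [Scheme.Opens.range_ι]; exact isClosed_connectedComponent)
  -- irreducible components are disjoint
  have hpd : (irreducibleComponents P.left).PairwiseDisjoint id := by
    rw [GrothLib.LocNoeth.pairwiseDisjoint_iff_unique]
    intro y Z hZ W hW hyZ hyW
    obtain ⟨ξ₁, hξ₁⟩ := QuasiSober.sober hZ.1 (isClosed_of_mem_irreducibleComponents Z hZ)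
    obtain ⟨ξ₂, hξ₂⟩ := QuasiSober.sober hW.1 (isClosed_of_mem_irreducibleComponents W hW)
    rw [← hξ₁.def, ← hξ₂.def, GrothLib.Unibranch.eq_of_maximal_of_etale P.hom y (hS _) ξ₁ ξ₂
      (hξ₁.specializes hyZ) (hξ₂.specializes hyW)
      (GrothLib.Unibranch.maximal_of_isGenericPoint hZ hξ₁) (GrothLib.Unibranch.maximal_of_isGenericPoint hW hξ₂)]
  have hopen := hN.isOpen_of_pairwiseDisjoint hpd
  have hC : connectedComponent x ∈ irreducibleComponents P.left := by
    rw [← GrothLib.LocNoeth.eq_connectedComponent_of_isOpen hopen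
      (irreducibleComponent_mem_irreducibleComponents x) mem_irreducibleComponent]
    exact irreducibleComponent_mem_irreducibleComponents x
  obtain ⟨ξ, hξ⟩ := QuasiSober.sober hC.1 isClosed_connectedComponent
  haveI : LocallyQuasiFinite P.hom := GrothLib.Weight.locallyQuasiFinite_of_formallyUnramified P.hom
  haveI : Flat P.hom := inferInstance
  have hgen : GeneralizingMap P.hom := AlgebraicGeometry.Flat.generalizingMap P.hom
  have hmaxξ := GrothLib.Unibranch.maximal_of_isGenericPoint hC hξ
  have hsmax := GrothLib.Unibranch.maximal_map P.hom hgen ξ hmaxξ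
  have hfibξ : ((U.ι ≫ P.hom) ⁻¹' {P.hom ξ}).Finite := by
    refine (Set.finite_singleton (⟨ξ, hξ.mem⟩ : (U : Scheme.{u}))).subset fun u hu => ?_
    have hu' : P.hom (U.ι u) = P.hom ξ := hu
    have hsp : ξ ⤳ U.ι u := hξ.specializes u.2
    have hmax : ∀ z, z ⤳ U.ι u → z = U.ι u :=
      GrothLib.Unibranch.maximal_of_locallyQuasiFinite P.hom (U.ι u) (by rw [hu']; exact hsmax)
    exact Subtype.ext (hmax ξ hsp).symm
  refine GrothLib.TwConst.isFinite_of_finite_fibres P U.ι hP fun s => ?_
  by_contra hinf
  obtain ⟨u, hu⟩ := Set.Infinite.nonempty hinf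
  have hsub : connectedComponent (P.hom ξ) ⊆ {s : S | ((U.ι ≫ P.hom) ⁻¹' {s}).Finite} :=
    (GrothLib.TwConst.isClopen_finite_fibre P U.ι hP).connectedComponent_subset hfibξ
  refine hinf (hsub ?_)
  rw [← (hu : P.hom (U.ι u) = s)]
  exact (isConnected_connectedComponent.isPreconnected.image _ P.hom.continuous.continuousOn).subset_connectedComponent
    ⟨ξ, hξ.mem, rfl⟩ ⟨U.ι u, u.2, rfl⟩

end Groth.Agent.S5268
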