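import Groth.Statements.S5269
import Groth.Agent.Lib.TwConst.FiniteDescent
import Groth.Agent.Lib.Weight.Clopen
import Groth.Agent.Lib.QFSlice.Slice
import Groth.Agent.Lib.LocNoeth.Scheme
import Mathlib.AlgebraicGeometry.Pullbacks

set_option autoImplicit false
open CategoryTheory MonoidalCategory CartesianMonoidalCategory MonObj GrpObj AlgebraicGeometry
universe u
open SGA3x

open CategoryTheory.Limits

namespace Groth.Agent.S5269

/-- The radicial condition at a point. -/
abbrev Pi {A B : Scheme.{u}} (f : A ⟶ B) (a : A) : Prop :=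
  letI := (f.residueFieldMap a).hom.toAlgebra
  IsPurelyInseparable (B.residueField (f a)) (A.residueField a)

theorem pi_comp {A B C : Scheme.{u}} (j : A ⟶ B) [IsOpenImmersion j] (f : B ⟶ C) (a : A) (h : Pi f (j a)) :
    Pi (j ≫ f) a := by
  letI := (f.residueFieldMap (j a)).hom.toAlgebra
  letI := (j.residueFieldMap a).hom.toAlgebra
  letI : Algebra (C.residueField (f (j a))) (A.residueField a) := ((j ≫ f).residueFieldMap a).hom.toAlgebra
  haveI : IsScalarTower (C.residueField (f (j a))) (B.residueField (j a)) (A.residueField a) :=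
    IsScalarTower.of_algebraMap_eq' (congrArg CommRingCat.Hom.hom (Scheme.residueFieldMap_comp j f a))
  have hb : Function.Bijective (algebraMap (B.residueField (j a)) (A.residueField a)) :=
    ConcreteCategory.bijective_of_isIso (j.residueFieldMap a)
  haveI : IsPurelyInseparable (C.residueField (f (j a))) (B.residueField (j a)) := h
  exact (AlgEquiv.ofBijective (IsScalarTower.toAlgHom (C.residueField (f (j a))) (B.residueField (j a))
    (A.residueField a)) hb).isPurelyInseparable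

theorem pi_of_comp {A B C : Scheme.{u}} (p : A ⟶ B) (j : B ⟶ C) [IsOpenImmersion j] (a : A) (h : Pi (p ≫ j) a) :
    Pi p a := by
  letI := (p.residueFieldMap a).hom.toAlgebra
  letI := (j.residueFieldMap (p a)).hom.toAlgebra
  letI : Algebra (C.residueField (j (p a))) (A.residueField a) := ((p ≫ j).residueFieldMap a).hom.toAlgebra
  haveI : IsScalarTower (C.residueField (j (p a))) (B.residueField (p a)) (A.residueField a) :=
    IsScalarTower.of_algebraMap_eq' (congrArg CommRingCat.Hom.hom (Scheme.residueFieldMap_comp p j a))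
  haveI : IsPurelyInseparable (C.residueField (j (p a))) (A.residueField a) := h
  exact IsPurelyInseparable.tower_top (C.residueField (j (p a))) (B.residueField (p a)) (A.residueField a)

open TensorProduct in
/-- A flat quasi-finite finitely presented affine piece through a point of the base. -/
theorem exists_quasiFinite_piece {S S' : Scheme.{u}} (h : S' ⟶ S) [Flat h] [LocallyOfFinitePresentation h]
    (s : S) (s' : S') (hs : h s' = s) :
    ∃ (D : Scheme.{u}) (_ : IsAffine D) (d : D ⟶ S') (w : D), (d ≫ h) w = s ∧ LocallyQuasiFinite (d ≫ h) ∧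
      LocallyOfFiniteType (d ≫ h) ∧ Flat (d ≫ h) ∧ LocallyOfFinitePresentation (d ≫ h) ∧ IsSeparated (d ≫ h) := by
  obtain ⟨_, ⟨U, hU, rfl⟩, hsU, -⟩ := S.isBasis_affineOpens.exists_subset_of_mem_open (Set.mem_univ s) isOpen_univ
  obtain ⟨_, ⟨V, hV, rfl⟩, hsV, hVU⟩ :=
    S'.isBasis_affineOpens.exists_subset_of_mem_open (show s' ∈ h ⁻¹ᵁ U by change h s' ∈ U; rw [hs]; exact hsU) (h ⁻¹ᵁ U).isOpen
  have e : V ≤ h ⁻¹ᵁ U := hVU
  let φ := h.appLE U V e
  letI := φ.hom.toAlgebra
  haveI : Algebra.FinitePresentation Γ(S, U) Γ(S', V) := h.finitePresentation_appLE hU hV e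
  haveI : Module.Flat Γ(S, U) Γ(S', V) := h.flat_appLE hU hV e
  set p := hU.primeIdealOf ⟨s, hsU⟩
  haveI : Nontrivial (p.asIdeal.ResidueField ⊗[Γ(S, U)] Γ(S', V)) := by
    refine (PrimeSpectrum.nontrivial_iff_mem_rangeComap p).mpr ⟨hV.primeIdealOf ⟨s', hsV⟩, ?_⟩
    apply hU.fromSpec.isOpenEmbedding.injective
    change (Spec.map φ ≫ hU.fromSpec) (hV.primeIdealOf ⟨s', hsV⟩) = _
    rw [hU.SpecMap_appLE_fromSpec h hV e, Scheme.Hom.comp_apply, hV.fromSpec_primeIdealOf, hU.fromSpec_primeIdealOf]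
    exact hs
  obtain ⟨D, _, _, hfp, hflat, hqf, ⟨ψ⟩, P, hP, hPp⟩ := GrothLib.QFSlice.exists_piece Γ(S, U) Γ(S', V) p.asIdeal
  let ζ : Γ(S, U) ⟶ CommRingCat.of D := CommRingCat.ofHom (algebraMap Γ(S, U) D)
  have hc : (Spec.map (CommRingCat.ofHom ψ.toRingHom) ≫ hV.fromSpec) ≫ h = Spec.map ζ ≫ hU.fromSpec := by
    rw [Category.assoc, ← hU.SpecMap_appLE_fromSpec h hV e, ← Category.assoc, ← Spec.map_comp]
    congr 2
    ext r
    exact ψ.commutes r
  haveI : LocallyQuasiFinite (Spec.map ζ) := (HasRingHomProperty.Spec_iff (P := @LocallyQuasiFinite)).mpr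
    (RingHom.quasiFinite_algebraMap.mpr hqf)
  haveI : LocallyOfFinitePresentation (Spec.map ζ) :=
    (HasRingHomProperty.Spec_iff (P := @LocallyOfFinitePresentation)).mpr (RingHom.finitePresentation_algebraMap.mpr hfp)
  haveI : Flat (Spec.map ζ) := (HasRingHomProperty.Spec_iff (P := @Flat)).mpr (RingHom.flat_algebraMap_iff.mpr hflat)
  refine ⟨Spec (CommRingCat.of D), inferInstance, Spec.map (CommRingCat.ofHom ψ.toRingHom) ≫ hV.fromSpec, ⟨P, hP⟩, ?_, ?_, ?_, ?_, ?_, ?_⟩
  · rw [hc, Scheme.Hom.comp_apply, show Spec.map ζ ⟨P, hP⟩ = p from PrimeSpectrum.ext hPp, hU.fromSpec_primeIdealOf]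
  all_goals (rw [hc]; infer_instance)

/-- Let S be a locally Noetherian scheme and X an S-scheme which is a twisted constant scheme locally
trivial for the fppf topology (every point of S is in the image of a flat, locally finitely
presented S' ⟶ S over which X becomes a constant scheme). Then X is quasi-isotrivial: it becomes
constant etale-locally on S. -/
theorem result {S : Scheme.{u}} [IsLocallyNoetherian S] (X : Over S)
    (hX : TwC.IsTwConst TwC.Topology.fppf X) : TwC.IsTwConst TwC.Topology.etale X := by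
  intro s
  obtain ⟨S', h, hflat, hlfp, ⟨s', hs'⟩, M, ⟨e⟩⟩ := hX s
  obtain ⟨D, hD, hDS, w, hw, hq, hw', hflatD, hlfpD, hsep⟩ := exists_quasiFinite_piece h s s' hs'
  obtain ⟨U, g, u, hg, hgu, J, hJ, V, v, hclo, -, hVv, hall⟩ :=
    GrothLib.Weight.exists_clopen_parts (hDS ≫ h) s (fun _ : Unit => w) (fun _ _ _ => rfl) (fun _ => hw)
      (fun _ => (hDS ≫ h).quasiFiniteAt w)
  obtain ⟨j⟩ : Nonempty (J ()) := by
    obtain ⟨z, hz1, hz2⟩ := Scheme.Pullback.exists_preimage_pullback (f := hDS ≫ h) (g := g) w u (hw.trans hgu.symm)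
    obtain ⟨j, -⟩ := hall z () hz2 hz1
    exact ⟨j⟩
  obtain ⟨hvV, hfin, hvu, huniq, hpi, -⟩ := hVv () j
  set W := V () j
  set v₀ := v () j
  let π : (W : Scheme.{u}) ⟶ U := W.ι ≫ pullback.snd (hDS ≫ h) g
  haveI : IsFinite π := hfin
  haveI : Flat (hDS ≫ h) := hflatD
  haveI : LocallyOfFinitePresentation (hDS ≫ h) := hlfpD
  haveI : Flat π := MorphismProperty.comp_mem @Flat _ _ inferInstance inferInstance
  haveI : LocallyOfFinitePresentation π :=
    MorphismProperty.comp_mem @LocallyOfFinitePresentation _ _ inferInstance inferInstance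
  haveI : IsLocallyNoetherian U := LocallyOfFiniteType.isLocallyNoetherian g
  haveI : LocallyConnectedSpace U := (GrothLib.LocNoeth.isLocNoeth U).locallyConnectedSpace
  let U₀ : U.Opens := ⟨connectedComponent u, isOpen_connectedComponent⟩
  haveI : ConnectedSpace (U₀ : Scheme.{u}) := isConnected_iff_connectedSpace.mp isConnected_connectedComponent
  let π₀ := π ∣_ U₀
  haveI : IsFinite π₀ := IsZariskiLocalAtTarget.restrict (P := @IsFinite) inferInstance U₀
  haveI : Flat π₀ := IsZariskiLocalAtTarget.restrict (P := @Flat) inferInstance U₀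
  haveI : LocallyOfFinitePresentation π₀ :=
    IsZariskiLocalAtTarget.restrict (P := @LocallyOfFinitePresentation) inferInstance U₀
  have hπv : π ⟨v₀, hvV⟩ = u := hvu
  let v₁ : (π ⁻¹ᵁ U₀ : Scheme.{u}) := ⟨⟨v₀, hvV⟩, by change π ⟨v₀, hvV⟩ ∈ connectedComponent u; rw [hπv]; exact mem_connectedComponent⟩
  have hres : ∀ t, U₀.ι (π₀ t) = π ((π ⁻¹ᵁ U₀).ι t) := fun t =>
    congrArg (fun k : (π ⁻¹ᵁ U₀ : Scheme.{u}) ⟶ U => k t) (morphismRestrict_ι π U₀)
  -- constancy over the finite cover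
  let k : (π ⁻¹ᵁ U₀ : Scheme.{u}) ⟶ S' := (π ⁻¹ᵁ U₀).ι ≫ W.ι ≫ pullback.fst (hDS ≫ h) g ≫ hDS
  obtain ⟨e₁⟩ := GrothLib.TwConst.nonempty_iso_precomp X.hom h k M e
  have hk : k ≫ h = π₀ ≫ U₀.ι ≫ g := by
    simp only [k, π₀, π, morphismRestrict_ι_assoc, Category.assoc, pullback.condition]
  have e₂ : Over.mk (pullback.snd (pullback.snd X.hom (U₀.ι ≫ g)) π₀) ≅ TwC.const (π ⁻¹ᵁ U₀ : Scheme.{u}) M := by
    refine Over.isoMk (pullbackLeftPullbackSndIso X.hom (U₀.ι ≫ g) π₀ ≪≫ pullback.congrHom rfl hk.symm) ?_ ≪≫ e₁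
    simp [pullback.lift_snd, pullback.map, pullbackLeftPullbackSndIso_hom_snd]
  refine ⟨U₀, U₀.ι ≫ g, inferInstance, ⟨⟨u, mem_connectedComponent⟩, hgu⟩, M, ?_⟩
  refine GrothLib.TwConst.nonempty_iso_const (pullback.snd X.hom (U₀.ι ≫ g)) π₀ v₁ (fun t ht => ?_) ?_ M e₂
  · have h1 : π ((π ⁻¹ᵁ U₀).ι t) = u := by rw [← hres, ht, hres]; exact hπv
    exact Subtype.ext (Subtype.ext (huniq _ ((π ⁻¹ᵁ U₀).ι t).2 h1))
  · apply pi_of_comp π₀ U₀.ι v₁
    have e3 : π₀ ≫ U₀.ι = ((π ⁻¹ᵁ U₀).ι ≫ W.ι) ≫ pullback.snd (hDS ≫ h) g := by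
      simp only [π₀, π, morphismRestrict_ι, Category.assoc]
    rw [e3]
    exact pi_comp _ (pullback.snd (hDS ≫ h) g) v₁ hpi

end Groth.Agent.S5269
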