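import Groth.Statements.S5272
import Groth.Agent.Lib.MultDef14.Spec

set_option autoImplicit false
open CategoryTheory MonoidalCategory CartesianMonoidalCategory MonObj GrpObj AlgebraicGeometry
universe u
open SGA3x

namespace Groth.Agent.S5272

/-- Let S = Spec R be affine, J an ideal of R with J² = 0 and S₀ = Spec (R/J); let H be an S-group of
multiplicative type (fpqc-locally on S isomorphic, as a group, to diagonalisable groups D(M), M
allowed to vary and taken in Type 0), G an arbitrary S-group, and u, v : H ⟶ G two homomorphisms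
whose restrictions to S₀ agree (h ≫ u = h ≫ v for every point h of H defined over an S₀-scheme).
Then there is an S-point g of G whose restriction to S₀ is the unit and such that v = int(g) ∘ u:
for every point h of H, v(h) = g u(h) g⁻¹. -/
theorem result {R : Type u} [CommRing R] (J : Ideal R) (hJ : J ^ 2 = ⊥)
    (H G : Over (Spec (CommRingCat.of R))) [GrpObj H] [GrpObj G]
    (hH : TwC.Locally (Spec (CommRingCat.of R)) TwC.Topology.fpqc (fun S' f => ∃ (M : Type) (_ : AddCommGroup M), Nonempty (Grp.mk (Red.bc f H) ≅ Grp.mk (Red.DS S' M))))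
    (u v : H ⟶ G) [IsMonHom u] [IsMonHom v]
    (h0 : ∀ (X : Over (Spec (CommRingCat.of R))) (p : X ⟶ (Over.mk (Spec.map (CommRingCat.ofHom (Ideal.Quotient.mk J))) : Over (Spec (CommRingCat.of R)))) (h : X ⟶ H), h ≫ u = h ≫ v) :
    ∃ g : 𝟙_ (Over (Spec (CommRingCat.of R))) ⟶ G, toUnit (Over.mk (Spec.map (CommRingCat.ofHom (Ideal.Quotient.mk J))) : Over (Spec (CommRingCat.of R))) ≫ g = 1 ∧
      ∀ (X : Over (Spec (CommRingCat.of R))) (h : X ⟶ H), h ≫ v = (toUnit X ≫ g) * (h ≫ u) * (toUnit X ≫ g)⁻¹ := by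
  obtain ⟨g, hg, hc⟩ := GrothLib.MultDef14.exists_conj_spec J (GrothLib.DiagGrp.hasChartsFpqc_of_locally hH) u v hJ 1
    (fun Y p h => by
      rw [MonObj.comp_one, MonObj.comp_one]
      simp [h0 Y p h])
  refine ⟨g, by rw [hg, MonObj.comp_one], fun X h => hc X (toUnit X) h⟩

end Groth.Agent.S5272
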