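import Groth.Statements.S5273
import Groth.Agent.Lib.MultDef14.Spec

set_option autoImplicit false
open CategoryTheory MonoidalCategory CartesianMonoidalCategory MonObj GrpObj AlgebraicGeometry
universe u
open SGA3x

namespace Groth.Agent.S5273

/-- Let S = Spec R be affine, J a nilpotent ideal of R and S₀ = Spec (R/J); let H be an S-group of
multiplicative type (fpqc-locally on S isomorphic, as a group, to diagonalisable groups D(M), M
allowed to vary and taken in Type 0), G an S-group which is smooth over S, u, v : H ⟶ G two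
homomorphisms, and g₀ an S₀-valued point of G such that v = int(g₀) ∘ u over S₀ (v(h) = g₀ u(h) g₀⁻¹
for every point h of H defined over an S₀-scheme). Then g₀ lifts to an S-point g of G with v =
int(g) ∘ u. -/
theorem result {R : Type u} [CommRing R] (J : Ideal R) (hJ : IsNilpotent J)
    (H G : Over (Spec (CommRingCat.of R))) [GrpObj H] [GrpObj G]
    (hH : TwC.Locally (Spec (CommRingCat.of R)) TwC.Topology.fpqc (fun S' f => ∃ (M : Type) (_ : AddCommGroup M), Nonempty (Grp.mk (Red.bc f H) ≅ Grp.mk (Red.DS S' M))))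
    (hG : Smooth G.hom) (u v : H ⟶ G) [IsMonHom u] [IsMonHom v]
    (g₀ : (Over.mk (Spec.map (CommRingCat.ofHom (Ideal.Quotient.mk J))) : Over (Spec (CommRingCat.of R))) ⟶ G)
    (h0 : ∀ (X : Over (Spec (CommRingCat.of R))) (p : X ⟶ (Over.mk (Spec.map (CommRingCat.ofHom (Ideal.Quotient.mk J))) : Over (Spec (CommRingCat.of R)))) (h : X ⟶ H), h ≫ v = (p ≫ g₀) * (h ≫ u) * (p ≫ g₀)⁻¹) :
    ∃ g : 𝟙_ (Over (Spec (CommRingCat.of R))) ⟶ G, toUnit (Over.mk (Spec.map (CommRingCat.ofHom (Ideal.Quotient.mk J))) : Over (Spec (CommRingCat.of R))) ≫ g = g₀ ∧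
      ∀ (X : Over (Spec (CommRingCat.of R))) (h : X ⟶ H), h ≫ v = (toUnit X ≫ g) * (h ≫ u) * (toUnit X ≫ g)⁻¹ := by
  obtain ⟨g, hg, hc⟩ := GrothLib.MultDef14.exists_conj_spec_lift J (GrothLib.DiagGrp.hasChartsFpqc_of_locally hH) u v hJ hG g₀ h0
  exact ⟨g, hg, fun X h => hc X (toUnit X) h⟩

end Groth.Agent.S5273
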