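import Groth.Statements.S5278
import Mathlib.AlgebraicGeometry.Morphisms.Finite
import Mathlib.AlgebraicGeometry.Morphisms.Etale
import Mathlib.AlgebraicGeometry.Morphisms.Flat
import Mathlib.AlgebraicGeometry.Morphisms.UniversallyOpen
import Mathlib.AlgebraicGeometry.Morphisms.QuasiFinite
import Mathlib.Data.Set.Card

set_option autoImplicit false
open CategoryTheory AlgebraicGeometry
universe u
open SGA3x

namespace Groth.Agent.S5278

theorem exists_min {α : Type*} (f : α → ℕ) {p : α → Prop} (h : ∃ a, p a) : ∃ a, p a ∧ ∀ b, p b → f a ≤ f b := by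
  classical
  have hex : ∃ n, ∃ a, p a ∧ f a = n := ⟨_, h.choose, h.choose_spec, rfl⟩
  obtain ⟨a, ha, e⟩ := Nat.find_spec hex
  exact ⟨a, ha, fun b hb => e ▸ Nat.find_min' hex ⟨b, hb, rfl⟩⟩

/-- Let X be a connected scheme, f : X' ⟶ X a finite etale morphism and x a point of X. Then every
connected component of X' meets the fibre of f over x; equivalently the map from the connected
components of the fibre (or of the geometric fibre) to those of X' is surjective. -/
theorem result {X X' : Scheme.{u}} [ConnectedSpace X] (f : X' ⟶ X)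
    [IsFinite f] [Etale f] (x : X) (c : X') :
    ∃ x' : X', f.base x' = x ∧ x' ∈ connectedComponent c := by
  classical
  have hfin : (f.base ⁻¹' {x}).Finite := Scheme.Hom.finite_preimage_singleton f x
  have hmeet : ∀ Z : Set X', IsClopen Z → Z.Nonempty → ∃ y ∈ Z, f.base y = x := by
    intro Z hZ hne
    have h : IsClopen (f.base '' Z) := ⟨f.isClosedMap _ hZ.1, f.isOpenMap _ hZ.2⟩
    obtain ⟨y, hy, e⟩ : x ∈ f.base '' Z := by rw [h.eq_univ (hne.image _)]; trivial
    exact ⟨y, hy, e⟩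
  -- a clopen neighbourhood of c with fewest points over x
  obtain ⟨Z, ⟨hZ, hcZ⟩, hmin⟩ := exists_min (fun Z : Set X' => (f.base ⁻¹' {x} ∩ Z).ncard)
    (p := fun Z => IsClopen Z ∧ c ∈ Z) ⟨_, isClopen_univ, trivial⟩
  have hpre : _root_.IsPreconnected Z := by
    rw [isPreconnected_iff_subset_of_fully_disjoint_closed hZ.1]
    intro u v hu hv huv hd
    wlog hcu : c ∈ u generalizing u v
    · exact (this v u hv hu (by rwa [Set.union_comm]) hd.symm ((huv hcZ).resolve_left hcu)).symm
    left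
    have hopen : IsClopen (Z ∩ u) := by
      refine ⟨hZ.1.inter hu, ?_⟩
      have : Z ∩ u = Z ∩ vᶜ := by
        ext y
        exact ⟨fun h => ⟨h.1, fun h' => Set.disjoint_left.mp hd h.2 h'⟩, fun h => ⟨h.1, (huv h.1).resolve_right h.2⟩⟩
      rw [this]
      exact hZ.2.inter hv.isOpen_compl
    by_contra hsub
    obtain ⟨z, hz, hzu⟩ := Set.not_subset.mp hsub
    have hopen' : IsClopen (Z \ (Z ∩ u)) := hZ.diff hopen
    obtain ⟨y, hy, hyx⟩ := hmeet _ hopen' ⟨z, hz, fun h => hzu h.2⟩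
    refine (hmin (Z ∩ u) ⟨hopen, hcZ, hcu⟩).not_gt (Set.ncard_lt_ncard ⟨fun a ha => ⟨ha.1, ha.2.1⟩, fun h => ?_⟩ (hfin.inter_of_left _))
    exact hy.2 (h ⟨hyx, hy.1⟩).2
  obtain ⟨y, hy, hyx⟩ := hmeet Z hZ ⟨c, hcZ⟩
  exact ⟨y, hyx, hpre.subset_connectedComponent hcZ hy⟩

end Groth.Agent.S5278
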