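import Groth.Statements.S5280
import Groth.Agent.Lib.DiagGrp.ActionTrivial

set_option autoImplicit false
open CategoryTheory MonoidalCategory CartesianMonoidalCategory MonObj GrpObj AlgebraicGeometry
universe u
open SGA3x

namespace Groth.Agent.S5280

/-- Let i₀ : S₀ ⟶ S be a closed immersion whose ideal is locally nilpotent (nilpotent on each member of
an affine open cover of S; in particular S₀ and S have the same underlying space), u : G ⟶ H a
homomorphism of S-groups with G of multiplicative type (fpqc-locally on S isomorphic, as a group, to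
diagonalisable groups D(M), M allowed to vary and taken in Type 0) and H locally of finite
presentation over S. If the restriction u₀ of u to S₀ is central (u(g) commutes with h for all
points g of G and h of H defined over an S₀-scheme), then u is central. -/
theorem result {S S₀ : Scheme.{u}} (i₀ : S₀ ⟶ S) [IsClosedImmersion i₀]
    (hnil : ∀ x : S, ∃ U : S.affineOpens, x ∈ (U : S.Opens) ∧ IsNilpotent (i₀.ker.ideal U))
    (G H : Over S) [GrpObj G] [GrpObj H] (hG : TwC.Locally S TwC.Topology.fpqc (fun S' f => ∃ (M : Type) (_ : AddCommGroup M), Nonempty (Grp.mk (Red.bc f G) ≅ Grp.mk (Red.DS S' M))))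
    [LocallyOfFinitePresentation H.hom] (u : G ⟶ H) [IsMonHom u]
    (h0 : ∀ (Y : Over S) (p : Y ⟶ Over.mk i₀) (g : Y ⟶ G) (h : Y ⟶ H), (g ≫ u) * h = h * (g ≫ u)) :
    ∀ (Y : Over S) (g : Y ⟶ G) (h : Y ⟶ H), (g ≫ u) * h = h * (g ≫ u) := by
  have hval : ∀ {T : Over S} (g : T ⟶ G) (h : T ⟶ H),
      lift g h ≫ ((fst G H ≫ u) * snd G H * (fst G H ≫ u)⁻¹) = (g ≫ u) * h * (g ≫ u)⁻¹ := by
    intro T g h
    rw [MonObj.comp_mul, MonObj.comp_mul, GrpObj.comp_inv, lift_fst_assoc, lift_snd]
  let a : AlgGrp.Action G H :=
    { act := (fst G H ≫ u) * snd G H * (fst G H ≫ u)⁻¹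
      one_act := by
        have h1 : (η[G] ▷ H) = lift (fst _ _ ≫ η[G]) (snd _ _) := by
          apply CartesianMonoidalCategory.hom_ext <;> simp
        rw [h1, hval, show fst (𝟙_ (Over S)) H ≫ η[G] = 1 from (by
          rw [toUnit_unique (fst (𝟙_ (Over S)) H) (toUnit _)]; rfl), MonObj.one_comp, _root_.one_mul, inv_one,
          _root_.mul_one, leftUnitor_hom]
      mul_act := by
        have h1 : (μ[G] ▷ H) = lift ((fst (G ⊗ G) H ≫ fst G G) * (fst (G ⊗ G) H ≫ snd G G)) (snd _ _) := by
          apply CartesianMonoidalCategory.hom_ext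
          · rw [lift_fst, whiskerRight_fst, ← MonObj.comp_mul]
            congr 1
            rw [Hom.mul_def, lift_fst_snd, Category.id_comp]
          · simp
        have h2 : (α_ G G H).hom ≫ (G ◁ ((fst G H ≫ u) * snd G H * (fst G H ≫ u)⁻¹)) =
            lift (fst (G ⊗ G) H ≫ fst G G) (lift (fst (G ⊗ G) H ≫ snd G G) (snd _ _) ≫
              ((fst G H ≫ u) * snd G H * (fst G H ≫ u)⁻¹)) := by
          apply CartesianMonoidalCategory.hom_ext
          · simp
          · rw [lift_snd, Category.assoc, whiskerLeft_snd, ← Category.assoc]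
            congr 1
            apply CartesianMonoidalCategory.hom_ext <;> simp
        rw [h1, hval, ← Category.assoc, h2, hval, hval, MonObj.mul_comp, _root_.mul_inv_rev]
        simp only [_root_.mul_assoc] }
  intro Y g h
  have key := GrothLib.DiagGrp.action_trivial i₀ hnil hG a (fun Y p g h => (hval g h).trans (by
    rw [h0 Y p g h, _root_.mul_inv_cancel_right])) Y g h
  have key' : (g ≫ u) * h * (g ≫ u)⁻¹ = h := (hval g h).symm.trans key
  exact mul_inv_eq_iff_eq_mul.mp key'

end Groth.Agent.S5280
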