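import Groth.Statements.S5281
import Groth.Agent.Lib.MultHopf14.ToScheme
import Groth.Agent.Lib.MultHopf14.FgCharts
import Groth.Agent.Lib.MultDef14.HomOfPt
import Groth.Agent.Lib.Hensel.FiniteEtaleLift
import Groth.Agent.Lib.MultLocal.EffectiveNil
import Groth.Agent.Lib.Deform6.Main
import Groth.Agent.Lib.AlgSp.FormalSmoothDescent
import Groth.Agent.Lib.DiagGrp.FlatMultType

set_option autoImplicit false
open CategoryTheory MonoidalCategory CartesianMonoidalCategory MonObj GrpObj AlgebraicGeometry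
universe u
open SGA3x

namespace Groth.Agent.S5281

/-- Let S = Spec R be affine, J a nilpotent ideal of R, S₀ = Spec (R/J), G an S-group which is smooth
over S, and j₀ : H₀ ⟶ G₀ = G ×_S S₀ a sub-group-scheme (a homomorphism which is an immersion) of
multiplicative type (H₀ fpqc-locally on S₀ isomorphic, as a group, to diagonalisable groups D(M), M
allowed to vary and taken in Type 0). Then there is a subgroup scheme j : H ⟶ G (a homomorphism
which is an immersion), with H flat over S, whose base change to S₀ coincides with H₀ as a subgroup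
of G₀: there is an isomorphism H ×_S S₀ ≅ H₀ over S₀ compatible with the two maps to G₀. -/
theorem result {R : Type u} [CommRing R] (J : Ideal R) (hJ : IsNilpotent J)
    (G : Over (Spec (CommRingCat.of R))) [GrpObj G] (hG : Smooth G.hom)
    (H₀ : Over (Spec (CommRingCat.of (R ⧸ J)))) [GrpObj H₀]
    (hH₀ : TwC.Locally (Spec (CommRingCat.of (R ⧸ J))) TwC.Topology.fpqc (fun S' f => ∃ (M : Type) (_ : AddCommGroup M), Nonempty (Grp.mk (Red.bc f H₀) ≅ Grp.mk (Red.DS S' M))))
    (j₀ : H₀ ⟶ Red.bc (Spec.map (CommRingCat.ofHom (Ideal.Quotient.mk J))) G) [IsMonHom j₀] [IsImmersion j₀.left] :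
    ∃ (H : Over (Spec (CommRingCat.of R))) (_ : GrpObj H) (j : H ⟶ G), IsMonHom j ∧ IsImmersion j.left ∧ Flat H.hom ∧
      ∃ φ : Red.bc (Spec.map (CommRingCat.ofHom (Ideal.Quotient.mk J))) H ≅ H₀, φ.hom ≫ j₀ = (Over.pullback (Spec.map (CommRingCat.ofHom (Ideal.Quotient.mk J)))).map j := by
  classical
  haveI := hG
  let q : Spec (CommRingCat.of (R ⧸ J)) ⟶ Spec (CommRingCat.of R) :=
    Spec.map (CommRingCat.ofHom (Ideal.Quotient.mk J))
  -- the given group as a Hopf algebra
  haveI : LocallyOfFiniteType (Red.bc q G).hom := inferInstanceAs (LocallyOfFiniteType (Limits.pullback.snd G.hom q))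
  haveI : LocallyOfFiniteType H₀.hom := by
    rw [← Over.w j₀]
    infer_instance
  have hch := GrothLib.MultHopf14.hasChartsFpqc_fg (GrothLib.DiagGrp.hasChartsFpqc_of_locally hH₀)
  obtain ⟨A₀, _, _, ⟨e₀⟩⟩ := GrothLib.MultHopf14.exists_hopf H₀ (GrothLib.EssFree.isAffineHom_of_charts hch)
  have hchA : GrothLib.DiagGrp.HasChartsFpqc GrothLib.DiagGrp.fgM (GrothLib.MultHopf14.specGrp (R := R ⧸ J) A₀) := by
    obtain ⟨S', π, h1, h2, h3, h4⟩ := hch
    refine ⟨S', π, h1, h2, h3, fun s' => ?_⟩
    obtain ⟨U, hU, M, inst, hM, ⟨e⟩⟩ := h4 s'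
    exact ⟨U, hU, M, inst, hM, ⟨(Over.pullback _).mapGrp.mapIso e₀ ≪≫ e⟩⟩
  haveI : Algebra.FinitePresentation (R ⧸ J) A₀ := by
    have h : LocallyOfFinitePresentation
        (Spec.map (CommRingCat.ofHom (algebraMap (R ⧸ J) A₀))) := GrothLib.DiagGrp.lfp_of_isMultTypeFT hchA
    rw [HasRingHomProperty.Spec_iff (P := @LocallyOfFinitePresentation), CommRingCat.hom_ofHom,
      RingHom.finitePresentation_algebraMap] at h
    exact h
  obtain ⟨σ, E, _, _, hE, hEet, M, _, hMfg, g, hg⟩ :=
    GrothLib.MultHopf14.exists_etale_frames (GrothLib.MultHopf14.isMultType_of_charts hchA)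
  -- the cover lifts
  letI : ∀ i, Algebra R (E i) := fun i => Algebra.compHom (E i) (Ideal.Quotient.mk J)
  haveI : ∀ i, IsScalarTower R (R ⧸ J) (E i) := fun i => IsScalarTower.of_algebraMap_eq fun _ => rfl
  choose T iT aT π hTet hπ hker using fun i =>
    haveI := hEet i
    GrothLib.Hensel.exists_etale_lift J (E i)
  letI := iT
  letI := aT
  haveI := hTet
  have hnil : ∀ a ∈ RingHom.ker (algebraMap R (R ⧸ J)), IsNilpotent a := fun a ha => by
    obtain ⟨n, hn⟩ := hJ
    rw [Ideal.Quotient.algebraMap_eq, Ideal.mk_ker] at ha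
    exact ⟨n, by simpa [hn] using Ideal.pow_mem_pow ha n⟩
  have hπnil : ∀ i, ∀ a ∈ RingHom.ker (π i : T i →+* E i), IsNilpotent a := fun i a ha => by
    obtain ⟨n, hn⟩ := hJ
    have ha' : a ∈ J.map (algebraMap R (T i)) := hker i ▸ ha
    have := Ideal.pow_mem_pow ha' n
    rw [← Ideal.map_pow, hn, Ideal.zero_eq_bot, Ideal.map_bot] at this
    exact ⟨n, this⟩
  have hT : GrothLib.MultDef14.IsCoverFam R T := by
    refine ⟨hE.finite, fun i => inferInstance, fun x => ?_⟩
    have hJx : J ≤ x.asIdeal := fun a ha => by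
      obtain ⟨n, hn⟩ := hnil a (by rw [Ideal.Quotient.algebraMap_eq, Ideal.mk_ker]; exact ha)
      exact x.2.mem_of_pow_mem n (hn ▸ zero_mem _)
    obtain ⟨y, hy⟩ : x ∈ Set.range (PrimeSpectrum.comap (Ideal.Quotient.mk J)) := by
      rw [range_comap_of_surjective _ _ Ideal.Quotient.mk_surjective, Ideal.mk_ker]
      exact hJx
    obtain ⟨i, z, hz⟩ := hE.surj y
    refine ⟨i, PrimeSpectrum.comap (π i : T i →+* E i) z, ?_⟩
    rw [← hy, ← hz, ← PrimeSpectrum.comap_comp_apply, ← PrimeSpectrum.comap_comp_apply]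
    exact congrArg (fun φ => PrimeSpectrum.comap φ z) (RingHom.ext fun r => (π i).commutes r)
  haveI := hE.finite
  haveI := Fintype.ofFinite σ
  haveI := GrothLib.MultHopf14.IsCoverFam.faithfullyFlat hT
  haveI := GrothLib.MultHopf14.IsCoverFam.faithfullyFlat hE
  obtain ⟨A, _, _, hA, ⟨φA⟩⟩ := GrothLib.MultLocal.exists_lift_of_frames
    (R := R) (R₀ := R ⧸ J) Ideal.Quotient.mk_surjective hnil π hπ hπnil hg
  choose gT hgT using hA
  -- the lifted group
  have hcharts := GrothLib.MultHopf14.hasChartsFpqc_of_frames T hT hMfg hgT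
  obtain ⟨e₁⟩ := GrothLib.MultHopf14.bcGrp_specGrp (R := R) (R ⧸ J) A
  obtain ⟨e₂⟩ := GrothLib.MultHopf14.grpIso_of_bialgEquiv φA
  let Φ : Grp.mk (Red.bc q (GrothLib.MultHopf14.specGrp (R := R) A)) ≅ Grp.mk H₀ := e₁ ≪≫ e₂.symm ≪≫ e₀
  let φ : Red.bc q (GrothLib.MultHopf14.specGrp (R := R) A) ≅ H₀ := (Grp.forget _).mapIso Φ
  haveI : IsMonHom φ.hom := Φ.hom.hom.isMonHom_hom
  obtain ⟨j, hjm, hj⟩ := GrothLib.MultDef14.exists_hom_lift_spec hcharts
    (GrothLib.AlgSp.isFormallySmoothHom_of_smooth G.hom) J hJ (φ.hom ≫ j₀)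
  refine ⟨GrothLib.MultHopf14.specGrp (R := R) A, inferInstance, j, hjm, ?_, ?_, φ, hj.symm⟩
  · haveI : IsClosedImmersion q := IsClosedImmersion.spec_of_surjective _ Ideal.Quotient.mk_surjective
    haveI : Surjective q := ⟨fun x => by
      have hJx : J ≤ x.asIdeal := fun a ha => by
        obtain ⟨n, hn⟩ := hnil a (by rw [Ideal.Quotient.algebraMap_eq, Ideal.mk_ker]; exact ha)
        exact x.2.mem_of_pow_mem n (hn ▸ zero_mem _)
      have : x ∈ Set.range (PrimeSpectrum.comap (Ideal.Quotient.mk J)) := by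
        rw [range_comap_of_surjective _ _ Ideal.Quotient.mk_surjective, Ideal.mk_ker]
        exact hJx
      exact this⟩
    haveI : IsClosedImmersion (Limits.pullback.fst G.hom q) := MorphismProperty.pullback_fst _ _ ‹_›
    haveI : Surjective (Limits.pullback.fst G.hom q) := MorphismProperty.pullback_fst _ _ ‹_›
    haveI : LocallyOfFiniteType (GrothLib.MultHopf14.specGrp (R := R) A).hom := by
      have := GrothLib.DiagGrp.lfp_of_isMultTypeFT hcharts
      infer_instance
    haveI : LocallyOfFiniteType j.left := by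
      have : LocallyOfFiniteType (j.left ≫ G.hom) := by rw [Over.w j]; infer_instance
      exact locallyOfFiniteType_of_comp j.left G.hom
    haveI : IsImmersion ((Over.pullback q).map j).left := by
      rw [hj, Over.comp_left]
      haveI : IsIso φ.hom.left := inferInstanceAs (IsIso ((Over.forget _).mapIso φ).hom)
      infer_instance
    refine GrothLib.Deform6.isImmersion_of_lft (f := ((Over.pullback q).map j).left)
      (iY := Limits.pullback.fst G.hom q)
      (iX := Limits.pullback.fst (GrothLib.MultHopf14.specGrp (R := R) A).hom q) (IsPullback.of_bot ?_ ?_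
        (IsPullback.of_hasPullback G.hom q))
    · have h1 : ((Over.pullback q).map j).left ≫ Limits.pullback.snd G.hom q =
          Limits.pullback.snd (GrothLib.MultHopf14.specGrp (R := R) A).hom q := Limits.pullback.lift_snd _ _ _
      rw [h1, Over.w j]
      exact IsPullback.of_hasPullback _ q
    · exact (Limits.pullback.lift_fst _ _ _).symm
  · exact GrothLib.DiagGrp.flat_of_charts hcharts

end Groth.Agent.S5281
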