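import Groth.Statements.S5283
import Groth.Agent.Lib.SecLocus.MonoGroup

set_option autoImplicit false
open CategoryTheory MonoidalCategory CartesianMonoidalCategory MonObj GrpObj AlgebraicGeometry
universe u
open SGA3x

namespace Groth.Agent.S5283

/-- Let X be an S-group which is smooth and of finite presentation over S with connected fibres, Y an
S-group of finite presentation over S and i : Y ⟶ X a homomorphism which is a monomorphism. Then the
functor on S-schemes whose value at S' ⟶ S is a point when X ×_S S' ⟶ X factors through Y and empty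
otherwise is representable by a closed subscheme of S whose immersion is of finite presentation. -/
theorem result {S : Scheme.{u}} (X Y : Over S) [GrpObj X] [GrpObj Y]
    [Smooth X.hom] [QuasiCompact X.hom] [QuasiSeparated X.hom]
    (hconn : ∀ s : S, ConnectedSpace ↥(Limits.pullback X.hom (S.fromSpecResidueField s)))
    [LocallyOfFinitePresentation Y.hom] [QuasiCompact Y.hom] [QuasiSeparated Y.hom]
    (i : Y ⟶ X) [IsMonHom i] [Mono i] :
    ∃ (T : Scheme.{u}) (t : T ⟶ S), IsClosedImmersion t ∧ LocallyOfFinitePresentation t ∧
      ∀ (S' : Scheme.{u}) (g : S' ⟶ S), (∃ g' : S' ⟶ T, g' ≫ t = g) ↔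
        ∃ l : Limits.pullback X.hom g ⟶ Y.left, l ≫ i.left = Limits.pullback.fst X.hom g := by

  have := GrothLib.SecLocus.geometricallyIrreducible_of_connected X fun s => by
    have : ConnectedSpace ↥(X.hom.fiber s) := hconn s
    exact X.hom.range_fiberι s ▸ isConnected_range (X.hom.fiberι s).continuous
  obtain ⟨T, t, ht, hfp, hT⟩ := GrothLib.SecLocus.exists_closed_locus_group X Y i
  exact ⟨T, t, ht, hfp, fun S' g => hT S' g⟩

end Groth.Agent.S5283
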