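import Groth.Statements.S5288
import Groth.Agent.Lib.MultLift.CompletionHom

set_option autoImplicit false
universe u
open TensorProduct SGA3b
open SGA3b

namespace Groth.Agent.S5288

/-- Let A be a henselian Noetherian local ring with maximal ideal 𝔪, residue field k and completion A';
let G = Spec B be an A-group of multiplicative type and of finite type, and H = Spec C an affine
A-group with C of finite type over A, flat over A at the points of the closed fibre (C localised at
any prime containing 𝔪C is flat over A), whose closed fibre Spec (k ⊗ C) is a k-group of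
multiplicative type. Then base change to A' is a bijection from homomorphisms of A-groups G ⟶ H
(bialgebra maps C → B) to homomorphisms of A'-groups G' ⟶ H': two bialgebra maps C → B with the same
base change are equal, and every bialgebra map A' ⊗ C → A' ⊗ B over A' is a base change. (The
published statement allows H locally of finite type and separated over A, not necessarily affine;
this row takes H affine.) (Affine group schemes over an affine base are taken in Hopf-algebra form;
base change is the tensor product; a homomorphism of groups Spec A ⟶ Spec C is a bialgebra map C →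
A.) -/
theorem result (A : Type u) [CommRing A] [IsNoetherianRing A] [HenselianLocalRing A]
    (B : Type u) [CommRing B] [HopfAlgebra A B] (hGft : Algebra.FiniteType A B) (hG : IsMultType A B)
    (C : Type u) [CommRing C] [HopfAlgebra A C] (hHft : Algebra.FiniteType A C)
    (hfl : ∀ (q : Ideal C) [q.IsPrime], Ideal.map (algebraMap A C) (IsLocalRing.maximalIdeal A) ≤ q → Module.Flat A (Localization.AtPrime q))
    (hs : IsMultType (IsLocalRing.ResidueField A) (IsLocalRing.ResidueField A ⊗[A] C)) :
    (∀ φ ψ : C →ₐc[A] B, (∀ c : C, (1 : AdicCompletion (IsLocalRing.maximalIdeal A) A) ⊗ₜ[A] (φ c) = (1 : AdicCompletion (IsLocalRing.maximalIdeal A) A) ⊗ₜ[A] (ψ c)) → φ = ψ) ∧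
    (∀ φ' : (AdicCompletion (IsLocalRing.maximalIdeal A) A ⊗[A] C) →ₐc[AdicCompletion (IsLocalRing.maximalIdeal A) A] (AdicCompletion (IsLocalRing.maximalIdeal A) A ⊗[A] B),
      ∃ φ : C →ₐc[A] B, ∀ c : C, φ' ((1 : AdicCompletion (IsLocalRing.maximalIdeal A) A) ⊗ₜ[A] c) = (1 : AdicCompletion (IsLocalRing.maximalIdeal A) A) ⊗ₜ[A] (φ c)) := by
  let m := IsLocalRing.maximalIdeal A
  let T := AdicCompletion m A
  haveI : IsNoetherianRing T := GrothLib.AdicExtra.isNoetherianRing_adicCompletion m
  haveI : IsLocalHom (algebraMap A T) := AdicCompletion.algebraMap_isLocalHom_of_fg m.fg_of_isNoetherianRing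
  haveI : Module.FaithfullyFlat A T := Module.FaithfullyFlat.of_flat_of_isLocalHom
  have hm : m.map (algebraMap A T) = IsLocalRing.maximalIdeal T := (AdicCompletion.maximalIdeal_eq_map).symm
  haveI : IsAdicComplete (IsLocalRing.maximalIdeal T) T := by
    rw [← hm]
    exact AdicCompletion.isAdicComplete_self m m.fg_of_isNoetherianRing
  haveI : HenselianLocalRing T := GrothLib.Hensel.henselianLocalRing_of_henselianRing inferInstance
  haveI := hGft
  haveI := hHft
  haveI : Algebra.FinitePresentation A C := Algebra.FinitePresentation.of_finiteType.mp inferInstance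
  refine ⟨fun φ ψ h => BialgHom.ext fun c => Module.FaithfullyFlat.tensorProduct_mk_injective (A := A) (B := T) B (h c),
    fun φ' => ?_⟩
  obtain ⟨e, he, hem, hK, hiso⟩ := Groth.Agent.S5285.result T (IsLocalRing.maximalIdeal T) (T ⊗[A] C) inferInstance
    (fun q _ hq => GrothLib.MultLift.flat_atPrime_baseChange hfl T q hq) (GrothLib.MultLift.isIsotrivial_residue hs T)
  obtain ⟨e₀, he₀, hK₀, hC⟩ := GrothLib.MultLift.exists_idem_clopen hs T hm e he hem hiso
  have hzero : φ' e = 0 := by
    refine GrothLib.MultLift.eq_zero_of_idem_multType (GrothLib.MultLift.isMultType_baseChange hG T) (he.map φ') ?_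
    have h := Ideal.mem_map_of_mem ((φ' : T ⊗[A] C →ₐ[T] T ⊗[A] B) : T ⊗[A] C →+* T ⊗[A] B) hem
    rw [Ideal.map_map, AlgHom.comp_algebraMap] at h
    exact h
  refine GrothLib.MultLift.exists_hom_descended hG (AdicCompletion.evalOneₐ m) ?_
    (Ideal.Quotient.liftₐ m (Algebra.ofId A (IsLocalRing.ResidueField T)) fun a ha => ?_) e₀ hC φ' ?_
  · exact (AdicCompletion.ker_evalOneₐ_eq_map m m.fg_of_isNoetherianRing).le.trans hm.le
  · change algebraMap A (IsLocalRing.ResidueField T) a = 0
    rw [IsScalarTower.algebraMap_apply A T (IsLocalRing.ResidueField T)]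
    exact Ideal.Quotient.eq_zero_iff_mem.mpr (hm.le (Ideal.mem_map_of_mem _ ha))
  · rw [he₀]
    exact hzero

end Groth.Agent.S5288
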