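import Groth.Statements.S5289
import Groth.Agent.Lib.MultDef14.SubSpec

set_option autoImplicit false
open CategoryTheory MonoidalCategory CartesianMonoidalCategory MonObj GrpObj AlgebraicGeometry
universe u
open SGA3x

namespace Groth.Agent.S5289

/-- Let S = Spec R be affine, J an ideal of R with J² = 0 and S₀ = Spec (R/J); let G be an arbitrary
S-group and i : H ⟶ G, i' : H' ⟶ G two sub-group-schemes (homomorphisms which are immersions) of
multiplicative type (fpqc-locally on S isomorphic, as groups, to diagonalisable groups D(M), M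
allowed to vary and taken in Type 0), such that H ×_S S₀ and H' ×_S S₀ coincide as subgroups of G
×_S S₀. Then there is an S-point g of G whose restriction to S₀ is the unit and which conjugates H
onto H': int(g) ∘ i factors through i' by an isomorphism H ≅ H'. -/
theorem result {R : Type u} [CommRing R] (J : Ideal R) (hJ : J ^ 2 = ⊥)
    (G H H' : Over (Spec (CommRingCat.of R))) [GrpObj G] [GrpObj H] [GrpObj H']
    (hH : TwC.Locally (Spec (CommRingCat.of R)) TwC.Topology.fpqc (fun S' f => ∃ (M : Type) (_ : AddCommGroup M), Nonempty (Grp.mk (Red.bc f H) ≅ Grp.mk (Red.DS S' M))))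
    (hH' : TwC.Locally (Spec (CommRingCat.of R)) TwC.Topology.fpqc (fun S' f => ∃ (M : Type) (_ : AddCommGroup M), Nonempty (Grp.mk (Red.bc f H') ≅ Grp.mk (Red.DS S' M))))
    (i : H ⟶ G) [IsMonHom i] [IsImmersion i.left] (i' : H' ⟶ G) [IsMonHom i'] [IsImmersion i'.left]
    (h0 : ∃ ψ : Red.bc (Spec.map (CommRingCat.ofHom (Ideal.Quotient.mk J))) H ≅ Red.bc (Spec.map (CommRingCat.ofHom (Ideal.Quotient.mk J))) H',
      ψ.hom ≫ (Over.pullback (Spec.map (CommRingCat.ofHom (Ideal.Quotient.mk J)))).map i' = (Over.pullback (Spec.map (CommRingCat.ofHom (Ideal.Quotient.mk J)))).map i) :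
    ∃ g : 𝟙_ (Over (Spec (CommRingCat.of R))) ⟶ G, toUnit (Over.mk (Spec.map (CommRingCat.ofHom (Ideal.Quotient.mk J))) : Over (Spec (CommRingCat.of R))) ≫ g = 1 ∧ SGA3x.ConjBy i i' g := by
  haveI : Mono i := (Over.forget _).mono_of_mono_map (show Mono i.left from inferInstance)
  haveI : Mono i' := (Over.forget _).mono_of_mono_map (show Mono i'.left from inferInstance)
  obtain ⟨ψ, hψ⟩ := h0
  obtain ⟨g, hg, hc⟩ := GrothLib.MultDef14.exists_conjSub_spec J (GrothLib.DiagGrp.hasChartsFpqc_of_locally hH)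
    (GrothLib.DiagGrp.hasChartsFpqc_of_locally hH') i i' hJ 1 (by
    intro Y p
    simp only [MonObj.comp_one, inv_one, _root_.one_mul, _root_.mul_one]
    let k := Spec.map (CommRingCat.ofHom (Ideal.Quotient.mk J))
    let e : (Over.map k).obj (Over.mk p.left) ≅ Y := Over.isoMk (Iso.refl _) (by
      change 𝟙 _ ≫ Y.hom = p.left ≫ k
      rw [Category.id_comp]
      exact (Over.w p).symm)
    constructor
    · intro h
      refine ⟨e.inv ≫ (GrothLib.DiagGrp.bcPoint k H' (Over.mk p.left)).symm
        (GrothLib.DiagGrp.bcPoint k H (Over.mk p.left) (e.hom ≫ h) ≫ ψ.hom), ?_⟩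
      rw [← cancel_epi e.hom, Category.assoc, Iso.hom_inv_id_assoc]
      apply (GrothLib.DiagGrp.bcPoint k G (Over.mk p.left)).injective
      rw [← Category.assoc e.hom, GrothLib.DiagGrp.bcPoint_comp_right k (e.hom ≫ h) i,
        GrothLib.DiagGrp.bcPoint_comp_right k _ i', Equiv.apply_symm_apply, Category.assoc]
      erw [hψ]
    · intro h
      refine ⟨e.inv ≫ (GrothLib.DiagGrp.bcPoint k H (Over.mk p.left)).symm
        (GrothLib.DiagGrp.bcPoint k H' (Over.mk p.left) (e.hom ≫ h) ≫ ψ.inv), ?_⟩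
      rw [← cancel_epi e.hom, Category.assoc, Iso.hom_inv_id_assoc]
      apply (GrothLib.DiagGrp.bcPoint k G (Over.mk p.left)).injective
      rw [← Category.assoc e.hom, GrothLib.DiagGrp.bcPoint_comp_right k (e.hom ≫ h) i',
        GrothLib.DiagGrp.bcPoint_comp_right k _ i, Equiv.apply_symm_apply, Category.assoc]
      erw [← (Iso.eq_inv_comp ψ).mpr hψ])
  exact ⟨g, by rw [hg, MonObj.comp_one], GrothLib.MultDef14.conjBy_of_conjSub i i' g hc⟩

end Groth.Agent.S5289
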