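import Groth.Statements.S5290
import Groth.Agent.Lib.DiagGrp.SubgroupNil

set_option autoImplicit false
open CategoryTheory MonoidalCategory CartesianMonoidalCategory MonObj GrpObj AlgebraicGeometry
universe u
open SGA3x GrothLib.DiagGrp

namespace Groth.Agent.S5290

/-- Let S = Spec R be affine, J a nilpotent ideal of R and S₀ = Spec (R/J); let G be an arbitrary
S-group and i : H ⟶ G, i' : H' ⟶ G two sub-group-schemes (homomorphisms which are immersions) of
multiplicative type (fpqc-locally on S isomorphic, as groups, to diagonalisable groups D(M), M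
allowed to vary and taken in Type 0), with H central in G (every point of G commutes with every
point of H). If H ×_S S₀ and H' ×_S S₀ coincide as subgroups of G ×_S S₀, then H = H' as subgroups
of G: there is an isomorphism H ≅ H' compatible with i and i'. -/
theorem result {R : Type u} [CommRing R] (J : Ideal R) (hJ : IsNilpotent J)
    (G H H' : Over (Spec (CommRingCat.of R))) [GrpObj G] [GrpObj H] [GrpObj H']
    (hH : TwC.Locally (Spec (CommRingCat.of R)) TwC.Topology.fpqc (fun S' f => ∃ (M : Type) (_ : AddCommGroup M), Nonempty (Grp.mk (Red.bc f H) ≅ Grp.mk (Red.DS S' M))))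
    (hH' : TwC.Locally (Spec (CommRingCat.of R)) TwC.Topology.fpqc (fun S' f => ∃ (M : Type) (_ : AddCommGroup M), Nonempty (Grp.mk (Red.bc f H') ≅ Grp.mk (Red.DS S' M))))
    (i : H ⟶ G) [IsMonHom i] [IsImmersion i.left] (i' : H' ⟶ G) [IsMonHom i'] [IsImmersion i'.left]
    (hc : ∀ (X : Over (Spec (CommRingCat.of R))) (g : X ⟶ G) (h : X ⟶ H), g * (h ≫ i) = (h ≫ i) * g)
    (h0 : ∃ ψ : Red.bc (Spec.map (CommRingCat.ofHom (Ideal.Quotient.mk J))) H ≅ Red.bc (Spec.map (CommRingCat.ofHom (Ideal.Quotient.mk J))) H',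
      ψ.hom ≫ (Over.pullback (Spec.map (CommRingCat.ofHom (Ideal.Quotient.mk J)))).map i' = (Over.pullback (Spec.map (CommRingCat.ofHom (Ideal.Quotient.mk J)))).map i) :
    ∃ φ : H ≅ H', φ.hom ≫ i' = i := by
  haveI : Mono i := (Over.forget _).mono_of_mono_map (show Mono i.left from inferInstance)
  haveI : Mono i' := (Over.forget _).mono_of_mono_map (show Mono i'.left from inferInstance)
  set s₀ := Spec.map (CommRingCat.ofHom (Ideal.Quotient.mk J))
  obtain ⟨ψ₀, hψ₀⟩ := h0
  obtain ⟨hf₀, hf₀'⟩ := GrothLib.DiagGrp.factor_of_iso i i' s₀ ψ₀ hψ₀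
  let Pc : ∀ (W : Scheme.{u}), (W ⟶ (Spec (CommRingCat.of R))) → Prop := fun W f => HasChart anyM H f ∧ HasChart anyM H' f
  have hcov : ∀ V : (Spec (CommRingCat.of R)).Opens, IsAffineOpen V → CoverBy Pc V := fun V hV =>
    ((hasChartsFpqc_of_locally hH).coverBy V hV).inter ((hasChartsFpqc_of_locally hH').coverBy V hV)
      (fun f g f' hf' h => h.precomp g f' hf') (fun f g f' hf' h => h.precomp g f' hf')
  have main : ∀ {W : Scheme.{u}} [IsAffine W] (f : W ⟶ (Spec (CommRingCat.of R))), Pc W f → Factor i i' f ∧ Factor i' i f := by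
    intro W _ f hP
    suffices Factor i i' (W.isoSpec.inv ≫ f) ∧ Factor i' i (W.isoSpec.inv ≫ f) from
      ⟨this.1.precomp W.isoSpec.hom f (by simp), this.2.precomp W.isoSpec.hom f (by simp)⟩
    obtain ⟨M, _, -, ⟨e⟩⟩ := hP.1.precomp W.isoSpec.inv _ rfl
    obtain ⟨M', _, -, ⟨e'⟩⟩ := hP.2.precomp W.isoSpec.inv _ rfl
    set A := Γ(W, ⊤)
    set f' := W.isoSpec.inv ≫ f
    set φ : R →+* A := (Spec.preimage f').hom
    have hφ : Spec.map (CommRingCat.ofHom φ) = f' := by rw [CommRingCat.ofHom_hom, Spec.map_preimage]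
    set I := J.map φ
    have hI : IsNilpotent I := by
      obtain ⟨n, hn⟩ := hJ
      exact ⟨n, by rw [← Ideal.map_pow, hn, Ideal.zero_eq_bot, Ideal.map_bot]; rfl⟩
    have ht : Spec.map (CommRingCat.ofHom (Ideal.Quotient.mk I)) ≫ f' =
        Spec.map (CommRingCat.ofHom (Ideal.quotientMap I φ Ideal.le_comap_map)) ≫ s₀ := by
      rw [← hφ, ← Spec.map_comp, ← Spec.map_comp, ← CommRingCat.ofHom_comp, ← CommRingCat.ofHom_comp]
      congr 2
    let a : Red.bc f' H ≅ Red.DS (Spec A) M := (Grp.forget _).mapIso e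
    let a' : Red.bc f' H' ≅ Red.DS (Spec A) M' := (Grp.forget _).mapIso e'
    haveI : IsMonHom a.inv := e.inv.hom.isMonHom_hom
    haveI : IsMonHom a'.inv := e'.inv.hom.isMonHom_hom
    haveI : (Over.pullback f').IsRightAdjoint := (Over.mapPullbackAdj f').isRightAdjoint
    have h2 := factor_of_factor_mod (a.inv ≫ (Over.pullback f').map i) (a'.inv ≫ (Over.pullback f').map i')
      (fun X g h => central_bc f' i hc a.inv X g h) I hI
      ((factor_chart_iff f' a a' i i' _).mpr (hf₀.precomp _ _ ht))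
      ((factor_chart_iff f' a' a i' i _).mpr (hf₀'.precomp _ _ ht))
    exact ⟨((factor_chart_iff f' a a' i i' _).mp h2.1).precomp (𝟙 _) f' (by simp),
      ((factor_chart_iff f' a' a i' i _).mp h2.2).precomp (𝟙 _) f' (by simp)⟩
  have h1 : Factor i i' (𝟙 (Spec (CommRingCat.of R))) := (factor_of_coverBy i i' hcov ⊤ fun f hP _ => (main f hP).1).precomp
    (Spec (CommRingCat.of R)).topIso.inv _ (by simp)
  have h1' : Factor i' i (𝟙 (Spec (CommRingCat.of R))) := (factor_of_coverBy i' i hcov ⊤ fun f hP _ => (main f hP).2).precomp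
    (Spec (CommRingCat.of R)).topIso.inv _ (by simp)
  obtain ⟨ψ, hψ⟩ := exists_iso_of_factor i i' (𝟙 (Spec (CommRingCat.of R))) h1 h1'
  refine ⟨((Over.pullbackId (X := (Spec (CommRingCat.of R)))).app H).symm ≪≫ ψ ≪≫ (Over.pullbackId (X := (Spec (CommRingCat.of R)))).app H', ?_⟩
  change ((Over.pullbackId (X := (Spec (CommRingCat.of R)))).inv.app H ≫ ψ.hom ≫ (Over.pullbackId (X := (Spec (CommRingCat.of R)))).hom.app H') ≫ i' = i
  simp only [Category.assoc]
  rw [← show (Over.pullback (𝟙 (Spec (CommRingCat.of R)))).map i' ≫ (Over.pullbackId (X := (Spec (CommRingCat.of R)))).hom.app G =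
      (Over.pullbackId (X := (Spec (CommRingCat.of R)))).hom.app H' ≫ i' from (Over.pullbackId (X := (Spec (CommRingCat.of R)))).hom.naturality i', reassoc_of% hψ,
    show (Over.pullback (𝟙 (Spec (CommRingCat.of R)))).map i ≫ (Over.pullbackId (X := (Spec (CommRingCat.of R)))).hom.app G =
      (Over.pullbackId (X := (Spec (CommRingCat.of R)))).hom.app H ≫ i from (Over.pullbackId (X := (Spec (CommRingCat.of R)))).hom.naturality i]
  simp

end Groth.Agent.S5290
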