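import Groth.Statements.S5291
import Groth.Agent.Lib.MultLift.RelLift

set_option autoImplicit false
universe u
open TensorProduct SGA3b
open SGA3b

namespace Groth.Agent.S5291

/-- Let R be a ring, I a nilpotent ideal of R, u : H₁ ⟶ H₂ a homomorphism of R-groups of multiplicative
type (H₁ = Spec A₁, H₂ = Spec A₂, u given by the bialgebra map α : A₂ → A₁), G = Spec C an affine
R-group with C smooth over R, v : H₁ ⟶ G a homomorphism (bialgebra map β : C → A₁) and w₀ : H₂,₀ ⟶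
G₀ a homomorphism over R/I (bialgebra map γ₀ : C₀ → A₂,₀) with w₀ ∘ u₀ = v₀ (the reduction of α
composed with γ₀ is the reduction of β). Then there is a homomorphism w : H₂ ⟶ G (bialgebra map γ :
C → A₂) lifting w₀ with w ∘ u = v, i.e. α ∘ γ = β. (The published statement says that the map of
homomorphism functors w ↦ w ∘ u is formally smooth, for any smooth S-group G; this row states the
lifting property this means over an affine base, for G affine.) (Affine group schemes over an affine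
base are taken in Hopf-algebra form; base change is the tensor product; a homomorphism of groups
Spec A ⟶ Spec C is a bialgebra map C → A.) -/
theorem result (R : Type u) [CommRing R] (I : Ideal R) (hI : IsNilpotent I)
    (A₁ : Type u) [CommRing A₁] [HopfAlgebra R A₁] (h₁ : IsMultType R A₁)
    (A₂ : Type u) [CommRing A₂] [HopfAlgebra R A₂] (h₂ : IsMultType R A₂) (α : A₂ →ₐc[R] A₁)
    (C : Type u) [CommRing C] [HopfAlgebra R C] [Algebra.Smooth R C] (β : C →ₐc[R] A₁)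
    (γ₀ : ((R ⧸ I) ⊗[R] C) →ₐc[R ⧸ I] ((R ⧸ I) ⊗[R] A₂))
    (h0 : ∀ c : C, Algebra.TensorProduct.map (AlgHom.id (R ⧸ I) (R ⧸ I)) (α : A₂ →ₐ[R] A₁) (γ₀ ((1 : R ⧸ I) ⊗ₜ[R] c)) =
      (1 : R ⧸ I) ⊗ₜ[R] (β c)) :
    ∃ γ : C →ₐc[R] A₂, (∀ c : C, γ₀ ((1 : R ⧸ I) ⊗ₜ[R] c) = (1 : R ⧸ I) ⊗ₜ[R] (γ c)) ∧ ∀ c : C, α (γ c) = β c := by
  obtain ⟨γ, hγ⟩ := GrothLib.MultLift.exists_lift h₂ I hI γ₀
  obtain ⟨j, hj1, hj⟩ := GrothLib.MultLift.exists_integral h₁
  have hc : ∀ c, α (γ c) - β c ∈ I.map (algebraMap R A₁) := fun c => by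
    refine GrothLib.Hopf.mem_map_of_one_tmul_eq ?_
    rw [← h0 c, hγ]
    rfl
  obtain ⟨γ', h1, h2⟩ := GrothLib.MultLift.exists_lift_rel j hj1 hj hI α β γ hc
  refine ⟨γ', fun c => ?_, h2⟩
  rw [hγ, eq_comm, ← sub_eq_zero, ← TensorProduct.tmul_sub]
  have h3 := Ideal.mem_map_of_mem
    (Algebra.TensorProduct.includeRight : A₂ →ₐ[R] (R ⧸ I) ⊗[R] A₂).toRingHom (h1 c)
  rw [Ideal.map_map, show (Algebra.TensorProduct.includeRight : A₂ →ₐ[R] (R ⧸ I) ⊗[R] A₂).toRingHom.comp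
      (algebraMap R A₂) = algebraMap R ((R ⧸ I) ⊗[R] A₂) from RingHom.ext fun r => AlgHom.commutes (Algebra.TensorProduct.includeRight : A₂ →ₐ[R] (R ⧸ I) ⊗[R] A₂) r,
    IsScalarTower.algebraMap_eq R (R ⧸ I) ((R ⧸ I) ⊗[R] A₂), ← Ideal.map_map, Ideal.Quotient.algebraMap_eq,
    Ideal.map_quotient_self, Ideal.map_bot, Ideal.mem_bot] at h3
  exact h3

end Groth.Agent.S5291
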