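import Groth.Statements.S5292
import Groth.Agent.Lib.HomScheme.DualTwist

set_option autoImplicit false
open CategoryTheory MonoidalCategory CartesianMonoidalCategory MonObj GrpObj AlgebraicGeometry
universe u
open SGA3x

namespace Groth.Agent.S5292

/-- Let R be a commutative twisted constant S-group (fpqc-locally on S isomorphic, as a group, to
constant groups M_{S'}, the groups M allowed to vary and taken in Type 0, like the character groups
of the conclusion). Then the functor D_S(R) = Hom_{S-gr}(R, G_m) is representable: there is an
S-group D with a universal family of characters R ×_S D ⟶ G_{m,S}, multiplicative in the D-variable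
as well (the group law of D is the pointwise product of characters), and D is of multiplicative type
(fpqc-locally on S isomorphic, as a group, to diagonalisable groups D(M), M allowed to vary and
taken in Type 0). -/
theorem result {S : Scheme.{u}} (R : Over S) [GrpObj R]
    (hR : TwC.Locally S TwC.Topology.fpqc (fun S' f => ∃ (M : Type) (_ : Group M) (e : Red.bc f R ≅ TwC.const S' M),
      TwC.IsConstGrp M (Red.bc f R) e))
    (hcomm : ∀ (X : Over S) (a b : X ⟶ R), a * b = b * a) :
    ∃ (D : Over S) (_ : GrpObj D) (υ : R ⊗ D ⟶ Red.Gm S), AutFam.RepresentsHom R (Red.Gm S) D υ ∧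
      (∀ (X : Over S) (r : X ⟶ R) (a b : X ⟶ D), lift r (a * b) ≫ υ = (lift r a ≫ υ) * (lift r b ≫ υ)) ∧
      TwC.Locally S TwC.Topology.fpqc (fun S' f => ∃ (M : Type) (_ : AddCommGroup M), Nonempty (Grp.mk (Red.bc f D) ≅ Grp.mk (Red.DS S' M))) := by
  exact GrothLib.HomScheme.exists_dual_twConst R hR

end Groth.Agent.S5292
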