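import Groth.Statements.S5293
import Groth.Agent.Lib.HomScheme.Dual

set_option autoImplicit false
open CategoryTheory MonoidalCategory CartesianMonoidalCategory MonObj GrpObj AlgebraicGeometry
universe u
open SGA3x

namespace Groth.Agent.S5293

/-- Let H be a quasi-isotrivial S-group of multiplicative type (etale-locally on S isomorphic, as a
group, to diagonalisable groups D(M), M allowed to vary and taken in Type 0). Then the functor
D_S(H) = Hom_{S-gr}(H, G_m) is representable: there is an S-group D with a universal family of
characters H ×_S D ⟶ G_{m,S}, multiplicative in the D-variable as well (the group law of D is the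
pointwise product of characters), and D is a quasi-isotrivial twisted constant S-group
(etale-locally on S a constant group). -/
theorem result {S : Scheme.{u}} (H : Over S) [GrpObj H]
    (hH : TwC.Locally S TwC.Topology.etale (fun S' f => ∃ (M : Type) (_ : AddCommGroup M), Nonempty (Grp.mk (Red.bc f H) ≅ Grp.mk (Red.DS S' M)))) :
    ∃ (D : Over S) (_ : GrpObj D) (υ : H ⊗ D ⟶ Red.Gm S), AutFam.RepresentsHom H (Red.Gm S) D υ ∧
      (∀ (X : Over S) (h : X ⟶ H) (a b : X ⟶ D), lift h (a * b) ≫ υ = (lift h a ≫ υ) * (lift h b ≫ υ)) ∧
      TwC.IsTwConstGrp TwC.Topology.etale D := by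
  refine GrothLib.HomScheme.exists_dual fun s => ?_
  obtain ⟨V, f, h1, h2, M, inst, h3⟩ := hH s
  exact ⟨V, f, h1, h2, M, inst, trivial, h3⟩

end Groth.Agent.S5293
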