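import Groth.Statements.S5341
import Groth.Agent.Lib.GrpSchField.GrpDim
import Groth.Agent.Lib.Dim.Scheme

set_option autoImplicit false
universe u
open CategoryTheory CategoryTheory.Limits MonoidalCategory CartesianMonoidalCategory MonObj GrpObj AlgebraicGeometry
open SGA3

namespace Groth.Agent.S5341

/-- Let G be a group scheme locally of finite type over a field k. Then (i) every irreducible component
of G has the same dimension as G; (ii) for every point g of G the local dimension of G at g (the
infimum of the dimensions of the open neighbourhoods of g) equals dim G. -/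
theorem result (k : Type u) [Field k] (G : Over (Spec (CommRingCat.of k))) [GrpObj G]
    [LocallyOfFiniteType G.hom] :
    (∀ Z ∈ irreducibleComponents ↥G.left, topologicalKrullDim ↥Z = topologicalKrullDim ↥G.left) ∧
    (∀ g : G.left, FlatMor.localDim ↥G.left g = topologicalKrullDim ↥G.left) := by
  refine ⟨fun Z hZ => GrothLib.GrpSchField.topologicalKrullDim_component G hZ, fun g => ?_⟩
  have hC := irreducibleComponent_mem_irreducibleComponents g
  obtain ⟨n, hn, hnO⟩ := GrothLib.Dim.exists_nat_dim_irreducible G.hom
    (S := irreducibleComponent g) isClosed_irreducibleComponent isIrreducible_irreducibleComponent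
  rw [FlatMor.localDim]
  refine le_antisymm ((iInf_le _ (⟨⊤, trivial⟩ : {U : TopologicalSpace.Opens ↥G.left // g ∈ U})).trans
    (Topology.IsInducing.topologicalKrullDim_le Topology.IsInducing.subtypeVal)) (le_iInf fun U => ?_)
  rw [← GrothLib.GrpSchField.topologicalKrullDim_component G hC, hn,
    ← hnO U.1 ⟨g, mem_irreducibleComponent, U.2⟩]
  exact (Topology.IsEmbedding.inclusion Set.inter_subset_right).isInducing.topologicalKrullDim_le

end Groth.Agent.S5341
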