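import Groth.Statements.S5329
import Groth.Agent.S5341
import Groth.Agent.Lib.FibreDimAt6.Scheme
import Groth.Agent.Lib.FibreDimAt6.ZeroDim
import Groth.Agent.Lib.Equidim6.Retro
-- import your own Groth.Agent.* helpers here

set_option autoImplicit false
universe u
open CategoryTheory CategoryTheory.Limits MonoidalCategory CartesianMonoidalCategory MonObj GrpObj AlgebraicGeometry
open SGA3

namespace Groth.Agent.S5329

open Topology

theorem fibreDimAt_eq {S : Scheme.{u}} (G : Over S) [GrpObj G] [LocallyOfFiniteType G.hom] (x : G.left) :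
    FlatMor.fibreDimAt G.hom x = topologicalKrullDim ↥(G.hom.base ⁻¹' {G.hom.base x}) := by
  let s := G.hom x
  let H := Red.bc (S.fromSpecResidueField s) G
  haveI : LocallyOfFiniteType H.hom :=
    inferInstanceAs (LocallyOfFiniteType (pullback.snd G.hom (S.fromSpecResidueField s)))
  exact ((Groth.Agent.S5341.result (S.residueField s) H).2 (G.hom.asFiber x)).trans
    (GrothLib.FibreDimAt6.dim_preimage_eq G.hom s).symm

theorem exists_nat_eq {S : Scheme.{u}} (G : Over S) [GrpObj G] [LocallyOfFiniteType G.hom] (s : S) :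
    ∃ n : ℕ, topologicalKrullDim ↥(G.hom.base ⁻¹' {s}) = (n : WithBot ℕ∞) := by
  let H := Red.bc (S.fromSpecResidueField s) G
  haveI : LocallyOfFiniteType H.hom :=
    inferInstanceAs (LocallyOfFiniteType (pullback.snd G.hom (S.fromSpecResidueField s)))
  have hne : Nonempty H.left := ⟨(η[H].left) (default : Spec (CommRingCat.of (S.residueField s)))⟩
  obtain ⟨g⟩ := hne
  obtain ⟨n, hn, -⟩ := GrothLib.Dim.exists_nat_dim_irreducible (K := S.residueField s) H.hom
    (S := irreducibleComponent g) isClosed_irreducibleComponent isIrreducible_irreducibleComponent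
  refine ⟨n, (GrothLib.FibreDimAt6.dim_preimage_eq G.hom s).trans ?_⟩
  exact ((Groth.Agent.S5341.result (S.residueField s) H).1 _
    (irreducibleComponent_mem_irreducibleComponents g)).symm.trans hn

/-- Let G be an S-group scheme locally of finite type over S. Then (i) s ↦ dim G_s is upper
semicontinuous on S; (ii) if G is locally of finite presentation over S, this function is locally
constructible: every point of S has an open neighbourhood V on which it takes finitely many values
and on which each of its level sets is constructible. (The published statement is for an S-scheme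
locally of finite type with a section ε such that dim G_s = dim_{ε(s)} G_s for all s; this row takes
the case of a group scheme, where that condition holds.) -/
theorem result (S : Scheme.{u}) (G : Over S) [GrpObj G] [LocallyOfFiniteType G.hom] :
    UpperSemicontinuous (fun s : S => topologicalKrullDim ↥(G.hom.base ⁻¹' {s})) ∧
    (LocallyOfFinitePresentation G.hom → ∀ s : S, ∃ V : S.Opens, s ∈ V ∧
      ((fun t : S => topologicalKrullDim ↥(G.hom.base ⁻¹' {t})) '' (V : Set S)).Finite ∧
      ∀ d : WithBot ℕ∞, Topology.IsConstructible {t : V | topologicalKrullDim ↥(G.hom.base ⁻¹' {(t : S)}) = d}) := by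
  classical
  have hhom : ∀ s : S, G.hom (η[G].left s) = s := fun s => by
    rw [← Scheme.Hom.comp_apply, Over.w η[G]]
    rfl
  let φ : S → WithBot ℕ∞ := fun t => topologicalKrullDim ↥(G.hom.base ⁻¹' {t})
  have hφ : ∀ t, φ t = FlatMor.fibreDimAt G.hom (η[G].left t) := fun t => by
    rw [fibreDimAt_eq G]
    show φ t = φ (G.hom (η[G].left t))
    rw [hhom]
  have hle : ∀ n : ℕ, {t | φ t ≤ (n : WithBot ℕ∞)} =
      η[G].left ⁻¹' {x | FlatMor.fibreDimAt G.hom x ≤ (n : WithBot ℕ∞)} := fun n => by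
    ext t
    show φ t ≤ _ ↔ FlatMor.fibreDimAt G.hom _ ≤ _
    rw [hφ]
  have hopen : ∀ n : ℕ, IsOpen {t | φ t ≤ (n : WithBot ℕ∞)} := fun n => by
    rw [hle]
    exact (GrothLib.FibreDimAt6.isOpen_fibreDimAt_le G.hom n).preimage η[G].left.continuous
  refine ⟨fun s c hc => ?_, fun hlfp s => ?_⟩
  · obtain ⟨n, hn⟩ := exists_nat_eq G s
    refine Filter.mem_of_superset ((hopen n).mem_nhds hn.le) fun t ht => ?_
    change φ s < c at hc
    change φ t ≤ _ at ht
    rw [show φ s = n from hn] at hc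
    exact lt_of_le_of_lt ht hc
  obtain ⟨_, ⟨(Q : G.left.Opens), hQ, rfl⟩, hsQ, -⟩ := G.left.isBasis_affineOpens.exists_subset_of_mem_open
    (Set.mem_univ (η[G].left s)) isOpen_univ
  obtain ⟨_, ⟨(V : S.Opens), hV, rfl⟩, hsV, hVQ⟩ := S.isBasis_affineOpens.exists_subset_of_mem_open
    (show s ∈ η[G].left ⁻¹ᵁ Q from hsQ) (η[G].left ⁻¹ᵁ Q).2
  let e' : V.toScheme ⟶ Q.toScheme := η[G].left.resLE Q V hVQ
  haveI : IsAffine V.toScheme := hV
  haveI : IsAffine Q.toScheme := hQ
  haveI : CompactSpace V.toScheme := isCompact_iff_compactSpace.mp hV.isCompact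
  let ψ : V.toScheme → WithBot ℕ∞ := fun t => φ (V.ι t)
  have hψo : ∀ n : ℕ, IsOpen {t | ψ t ≤ (n : WithBot ℕ∞)} := fun n => (hopen n).preimage V.ι.continuous
  have hψc : ∀ n : ℕ, IsConstructible {t | ψ t ≤ (n : WithBot ℕ∞)} := fun n => by
    refine IsRetrocompact.isConstructible (hψo n) ?_
    have hU := GrothLib.Equidim6.isRetrocompact_fibreDimAt_le G.hom n hQ.isCompact Q.2
    have hc : IsCompact (Q.ι ⁻¹' {x | FlatMor.fibreDimAt G.hom x ≤ (n : WithBot ℕ∞)}) := by
      rw [Q.ι.isOpenEmbedding.isInducing.isCompact_iff, Set.image_preimage_eq_inter_range, Scheme.Opens.range_ι]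
      exact hU
    have hset : {t | ψ t ≤ (n : WithBot ℕ∞)} =
        e' ⁻¹' (Q.ι ⁻¹' {x | FlatMor.fibreDimAt G.hom x ≤ (n : WithBot ℕ∞)}) := by
      ext t
      show φ (V.ι t) ≤ _ ↔ FlatMor.fibreDimAt G.hom (Q.ι (e' t)) ≤ _
      rw [hφ, ← Scheme.Hom.comp_apply e', Scheme.Hom.resLE_comp_ι, Scheme.Hom.comp_apply]
    rw [hset]
    refine IsCompact.isRetrocompact ?_ (hset ▸ hψo n)
    exact QuasiCompact.isCompact_preimage (f := e') _
      ((GrothLib.FibreDimAt6.isOpen_fibreDimAt_le G.hom n).preimage Q.ι.continuous) hc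
  obtain ⟨N, hN⟩ : ∃ N : ℕ, ∀ t, ψ t ≤ (N : WithBot ℕ∞) := by
    obtain ⟨F, hF⟩ := isCompact_univ.elim_finite_subcover (fun n : ℕ => {t | ψ t ≤ (n : WithBot ℕ∞)}) hψo
      (fun t _ => by
        obtain ⟨n, hn⟩ := exists_nat_eq G (V.ι t)
        exact Set.mem_iUnion.mpr ⟨n, hn.le⟩)
    refine ⟨F.sup id, fun t => ?_⟩
    obtain ⟨n, hn, ht⟩ := Set.mem_iUnion₂.mp (hF (Set.mem_univ t))
    exact le_trans ht (by exact_mod_cast Finset.le_sup (f := id) hn)
  refine ⟨V, hsV, ?_, fun d => ?_⟩
  · refine Set.Finite.subset (Set.finite_range fun i : Fin (N + 1) => ((i : ℕ) : WithBot ℕ∞)) ?_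
    rintro _ ⟨t, ht, rfl⟩
    obtain ⟨n, hn⟩ := exists_nat_eq G t
    have := hN ⟨t, ht⟩
    change φ t ≤ _ at this
    rw [show φ t = n from hn, Nat.cast_le] at this
    exact ⟨⟨n, Nat.lt_succ_of_le this⟩, hn.symm⟩
  change IsConstructible {t : V.toScheme | ψ t = d}
  by_cases hd : ∃ n : ℕ, d = n
  · obtain ⟨n, rfl⟩ := hd
    cases n with
    | zero =>
      convert hψc 0 using 1
      ext t
      obtain ⟨m, hm⟩ := exists_nat_eq G (V.ι t)
      show φ (V.ι t) = _ ↔ φ (V.ι t) ≤ _
      rw [show φ (V.ι t) = m from hm, Nat.cast_le, Nat.cast_inj]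
      omega
    | succ n =>
      convert (hψc (n + 1)).sdiff (hψc n) using 1
      ext t
      obtain ⟨m, hm⟩ := exists_nat_eq G (V.ι t)
      show φ (V.ι t) = _ ↔ φ (V.ι t) ≤ _ ∧ ¬ φ (V.ι t) ≤ _
      rw [show φ (V.ι t) = m from hm, Nat.cast_le, Nat.cast_le, Nat.cast_inj]
      omega
  · convert IsConstructible.empty using 1
    refine Set.eq_empty_of_forall_notMem fun t ht => hd ?_
    obtain ⟨m, hm⟩ := exists_nat_eq G (V.ι t)
    exact ⟨m, ht.symm.trans hm⟩

end Groth.Agent.S5329
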