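import Groth.Statements.S5296
import Groth.Agent.S5329
import Groth.Agent.Lib.QFKill14.Basic
import Groth.Agent.Lib.MultLocal.TorsionField
import Mathlib.AlgebraicGeometry.Group.Affine
-- import your own Groth.Agent.* helpers here

set_option autoImplicit false
universe u
open TensorProduct SGA3b
open SGA3b

namespace Groth.Agent.S5296

open AlgebraicGeometry CategoryTheory Opposite WithConv in
/-- A finitely presented group over a local ring with finite closed fibre is quasi-finite. -/
theorem quasiFinite_of_closedFibre (R : Type u) [CommRing R] [IsLocalRing R] (B : Type u) [CommRing B] [HopfAlgebra R B]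
    [Algebra.FiniteType R B]
    (hs : Module.Finite (IsLocalRing.ResidueField R) (IsLocalRing.ResidueField R ⊗[R] B)) :
    Algebra.QuasiFinite R B := by
  let G := ((hopfSpec (CommRingCat.of R)).obj (op (CommHopfAlgCat.of R B))).X
  let f : Spec (CommRingCat.of B) ⟶ Spec (CommRingCat.of R) := Spec.map (CommRingCat.ofHom (algebraMap R B))
  haveI hlft : LocallyOfFiniteType f := by
    rw [HasRingHomProperty.Spec_iff (P := @LocallyOfFiniteType)]
    exact RingHom.finiteType_algebraMap.mpr inferInstance
  haveI : LocallyOfFiniteType G.hom := hlft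
  have hsc := (Groth.Agent.S5329.result (Spec (CommRingCat.of R)) G).1
  have hclosed : topologicalKrullDim ↥(f.base ⁻¹' {IsLocalRing.closedPoint R}) ≤ 0 := by
    let k := IsLocalRing.ResidueField R
    let φ : B →+* k ⊗[R] B := (Algebra.TensorProduct.includeRight : B →ₐ[R] k ⊗[R] B).toRingHom
    have hφ : Function.Surjective φ := fun z => by
      induction z using TensorProduct.induction_on with
      | zero => exact ⟨0, map_zero _⟩
      | add x y hx hy =>
        obtain ⟨a, rfl⟩ := hx
        obtain ⟨b, rfl⟩ := hy
        exact ⟨a + b, map_add _ _ _⟩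
      | tmul w c =>
        obtain ⟨r, rfl⟩ := IsLocalRing.residue_surjective w
        refine ⟨r • c, ?_⟩
        show (1 : k) ⊗ₜ[R] (r • c) = _
        rw [← TensorProduct.smul_tmul, Algebra.smul_def, _root_.mul_one]
        rfl
    haveI : Module.Finite k (k ⊗[R] B) := hs
    haveI : IsArtinianRing (k ⊗[R] B) := IsArtinianRing.of_finite k _
    refine le_trans (ge_of_eq (GrothLib.Dim.IsEmbedding.topologicalKrullDim_eq
      (f := PrimeSpectrum.comap φ) (PrimeSpectrum.isClosedEmbedding_comap_of_surjective _ φ hφ).isEmbedding ?_)) ?_
    · refine Set.Subset.antisymm ?_ fun q hq => ?_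
      · rintro _ ⟨P, rfl⟩
        refine PrimeSpectrum.ext ?_
        show ((P.asIdeal.comap φ).comap (algebraMap R B)) = IsLocalRing.maximalIdeal R
        refine ((IsLocalRing.maximalIdeal.isMaximal R).eq_of_le (Ideal.IsPrime.ne_top inferInstance) ?_).symm
        intro r hr
        show φ (algebraMap R B r) ∈ P.asIdeal
        have : φ (algebraMap R B r) = 0 := by
          show (1 : k) ⊗ₜ[R] algebraMap R B r = 0
          rw [Algebra.algebraMap_eq_smul_one, ← TensorProduct.smul_tmul, Algebra.smul_def, _root_.mul_one,
            IsLocalRing.ResidueField.algebraMap_eq, (IsLocalRing.residue_eq_zero_iff r).2 hr, TensorProduct.zero_tmul]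
        rw [this]
        exact zero_mem _
      · have hq' : (q : PrimeSpectrum B).asIdeal.comap (algebraMap R B) = IsLocalRing.maximalIdeal R :=
          congrArg PrimeSpectrum.asIdeal hq
        rw [range_comap_of_surjective _ φ hφ, PrimeSpectrum.mem_zeroLocus]
        intro b hb
        have hb' : b ∈ (IsLocalRing.maximalIdeal R).map (algebraMap R B) := by
          let I := (IsLocalRing.maximalIdeal R).map (algebraMap R B)
          let ψ : k ⊗[R] B →ₐ[R] B ⧸ I := Algebra.TensorProduct.lift
            (Ideal.Quotient.liftₐ (IsLocalRing.maximalIdeal R) (Algebra.ofId R (B ⧸ I)) fun r hr => by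
              show Ideal.Quotient.mk I (algebraMap R B r) = 0
              exact Ideal.Quotient.eq_zero_iff_mem.2 (Ideal.mem_map_of_mem _ hr))
            (Ideal.Quotient.mkₐ R I) (fun _ _ => Commute.all _ _)
          have hψ : ψ (φ b) = Ideal.Quotient.mk I b := by
            show ψ ((1 : k) ⊗ₜ[R] b) = _
            rw [Algebra.TensorProduct.lift_tmul, map_one, _root_.one_mul]
            rfl
          rw [show φ b = 0 from hb, map_zero] at hψ
          exact Ideal.Quotient.eq_zero_iff_mem.1 hψ.symm
        exact Ideal.map_le_iff_le_comap.2 hq'.ge hb'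
    · rw [PrimeSpectrum.topologicalKrullDim_eq_ringKrullDim]
      exact_mod_cast (Ring.krullDimLE_iff).1 (inferInstance : Ring.KrullDimLE 0 (k ⊗[R] B))
  have hall : ∀ y, topologicalKrullDim ↥(f.base ⁻¹' {y}) ≤ 0 := fun y => by
    have hmem : y ∈ {t | topologicalKrullDim ↥(G.hom.base ⁻¹' {t}) < 1} := by
      have ho : IsOpen {t : ↥(Spec (CommRingCat.of R)) | topologicalKrullDim ↥(G.hom.base ⁻¹' {t}) < 1} :=
        upperSemicontinuous_iff_isOpen_preimage.1 hsc 1
      have hc : IsLocalRing.closedPoint R ∈ {t : ↥(Spec (CommRingCat.of R)) | topologicalKrullDim ↥(G.hom.base ⁻¹' {t}) < 1} :=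
        lt_of_le_of_lt hclosed zero_lt_one
      exact (IsLocalRing.specializes_closedPoint y).mem_open ho hc
    obtain ⟨n, hn⟩ := Groth.Agent.S5329.exists_nat_eq G y
    change topologicalKrullDim ↥(G.hom.base ⁻¹' {y}) < 1 at hmem
    rw [hn] at hmem
    show topologicalKrullDim ↥(G.hom.base ⁻¹' {y}) ≤ 0
    rw [hn]
    have hn0 : n < 1 := by exact_mod_cast hmem
    obtain rfl : n = 0 := by omega
    simp
  haveI : LocallyQuasiFinite f := GrothLib.FibreDimAt6.locallyQuasiFinite_of_dim_fiber_le_zero f fun y => by
    rw [← GrothLib.FibreDimAt6.dim_preimage_eq]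
    exact hall y
  have := (HasRingHomProperty.Spec_iff (P := @LocallyQuasiFinite)).1 ‹LocallyQuasiFinite f›
  exact RingHom.quasiFinite_algebraMap.mp this

/-- Over a local base, where an open neighbourhood of the closed point is the whole base: Let R be a
local ring with maximal ideal 𝔪 and residue field k, H = Spec A an R-group of multiplicative type
and of finite type, and K = Spec (A/J) a closed subgroup scheme of H (J a Hopf ideal) with A/J of
finite presentation over R, whose closed fibre Spec (k ⊗ A/J) is finite over k. Then K ⊆ ₙH for some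
integer n > 0: the ideal of the kernel of the n-th power map (generated by the image of the
augmentation ideal under the n-th power endomorphism) is contained in J. (K is then finite over R,
ₙH being finite; this row states only the containment.) (Affine group schemes over an affine base
are taken in Hopf-algebra form; base change is the tensor product; a homomorphism of groups Spec A ⟶
Spec C is a bialgebra map C → A.) -/
theorem result (R : Type u) [CommRing R] [IsLocalRing R]
    (A : Type u) [CommRing A] [HopfAlgebra R A] (hft : Algebra.FiniteType R A) (hH : IsMultType R A)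
    (J : Ideal A) [J.IsHopfIdeal R] (hK : Algebra.FinitePresentation R (A ⧸ J))
    (hs : Module.Finite (IsLocalRing.ResidueField R) (IsLocalRing.ResidueField R ⊗[R] (A ⧸ J))) :
    ∃ n : ℕ, 0 < n ∧ torsionIdeal R A n ≤ J := by
  haveI := hK
  haveI := hft
  haveI : Algebra.FiniteType R (A ⧸ J) := inferInstance
  haveI := quasiFinite_of_closedFibre R (A ⧸ J) hs
  obtain ⟨n, hn, h⟩ := GrothLib.QFKill14.exists_powConv_eq (R := R) (C := A ⧸ J)
  refine ⟨n, hn, Ideal.map_le_iff_le_comap.2 fun a ha => ?_⟩
  let π : A →ₐc[R] A ⧸ J := Bialgebra.Quotient.mkBialgHom J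
  have key : π (powConv R A n a) = powConv R (A ⧸ J) n (π a) := by
    have h1 := GrothLib.MultLocal.comp_powConv (π : A →ₐ[R] A ⧸ J) n
    have h2 : ∀ m : ℕ, WithConv.toConv ((powConv R (A ⧸ J) m).comp (π : A →ₐ[R] A ⧸ J)) =
        WithConv.toConv (π : A →ₐ[R] A ⧸ J) ^ m := by
      intro m
      induction m with
      | zero =>
        rw [pow_zero, SGA3b.powConv, pow_zero]
        apply WithConv.ofConv_injective
        ext c
        simp
      | succ m ih =>
        rw [pow_succ, ← ih, SGA3b.powConv, pow_succ]
        apply WithConv.ofConv_injective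
        show _ = _
        rw [AlgHom.convMul_comp_bialgHom_distrib]
        rfl
    exact DFunLike.congr_fun (WithConv.toConv_injective (h1.trans (h2 n).symm)) a
  rw [Ideal.mem_comap, ← Ideal.Quotient.eq_zero_iff_mem]
  show π (powConv R A n a) = 0
  rw [key, h]
  have hε : Coalgebra.counit (R := R) (π a) = 0 := by
    rw [← ha]
    exact CoalgHomClass.counit_comp_apply π a
  rw [hε, map_zero]

end Groth.Agent.S5296
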