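import Groth.Statements.S5300
import Groth.Agent.Lib.TorsTrans14.Basic
import Groth.Agent.Lib.OT.Rank
-- import your own Groth.Agent.* helpers here

set_option autoImplicit false
universe u
open TensorProduct SGA3b
open SGA3b

namespace Groth.Agent.S5300

/-- The affine form of schematic density. Let k be a field and H = Spec C a commutative k-group of
finite type (C cocommutative, of finite type over k) which has an open subgroup G of multiplicative
type: an idempotent e of C such that the ideal (e) is a Hopf ideal and G = Spec (C/(e)) is of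
multiplicative type. Then the family of kernels ₙH, n > 0, of the n-th power maps is schematically
dense in H: for every a ∈ C, the intersection over n > 0 of the extensions to C[1/a] of the ideals
Jₙ of the ₙH is zero. (Affine group schemes over an affine base are taken in Hopf-algebra form; base
change is the tensor product; a homomorphism of groups Spec A ⟶ Spec C is a bialgebra map C → A.) -/
theorem result (k : Type u) [Field k] (C : Type u) [CommRing C] [HopfAlgebra k C]
    [Coalgebra.IsCocomm k C] (hft : Algebra.FiniteType k C)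
    (e : C) (he : IsIdempotentElem e) [(Ideal.span {e}).IsHopfIdeal k] (hG : IsMultType k (C ⧸ Ideal.span {e})) :
    ∀ a : C, ⨅ n : {n : ℕ // 0 < n}, Ideal.map (algebraMap C (Localization.Away a)) (torsionIdeal k C n.1) = ⊥ := by
  haveI := hft
  refine fun a => (Submodule.eq_bot_iff _).mpr fun z hz => ?_
  rw [Submodule.mem_iInf] at hz
  obtain ⟨c, s, rfl⟩ := IsLocalization.exists_mk'_eq (Submonoid.powers a) z
  suffices h : ∃ j, a ^ j * c = 0 by
    obtain ⟨j, hj⟩ := h
    exact (IsLocalization.mk'_eq_zero_iff c s).mpr ⟨⟨a ^ j, j, rfl⟩, hj⟩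
  have hyp : ∀ n, 0 < n → ∃ j, a ^ j * c ∈ torsionIdeal k C n := fun n hn => by
    obtain ⟨t, ⟨j, rfl⟩, ht⟩ :=
      (IsLocalization.mk'_mem_map_algebraMap_iff (Submonoid.powers a) _ _ c s).mp (hz ⟨n, hn⟩)
    exact ⟨j, ht⟩
  obtain ⟨R', _, _, _, M, _, hff, -, ⟨e'⟩⟩ := GrothLib.Hopf.exists_local_chart hG
  obtain ⟨g, hg⟩ := GrothLib.MultLocal.exists_frame_of_equiv e'
  haveI := hff
  haveI : Nontrivial R' := by
    obtain ⟨P, -⟩ := PrimeSpectrum.comap_surjective_of_faithfullyFlat (B := R') (⊥ : PrimeSpectrum k)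
    exact ⟨0, 1, fun h => P.isPrime.ne_top ((Ideal.eq_top_iff_one _).mpr (h ▸ P.asIdeal.zero_mem))⟩
  obtain ⟨P, hP⟩ := Ideal.exists_maximal R'
  letI := Ideal.Quotient.field P
  let K := AlgebraicClosure (R' ⧸ P)
  let χ : R' →ₐ[k] K := (IsScalarTower.toAlgHom k (R' ⧸ P) K).comp (Ideal.Quotient.mkₐ k P)
  have hK := hg.map χ
  haveI : Group.FG M := GrothLib.MultLocal.fg_of_frame hK
  let q : K ⊗[k] C →ₐc[K] K ⊗[k] (C ⧸ Ideal.span {e}) :=
    GrothLib.MultLocal.projT (Bialgebra.Quotient.mkBialgHom (R := k) (Ideal.span {e})) K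
  have hq : Function.Surjective q := by
    intro y
    induction y using TensorProduct.induction_on with
    | zero => exact ⟨0, map_zero _⟩
    | add u v hu hv =>
      obtain ⟨x, rfl⟩ := hu
      obtain ⟨x', rfl⟩ := hv
      exact ⟨x + x', map_add _ _ _⟩
    | tmul t x =>
      obtain ⟨x, rfl⟩ := Ideal.Quotient.mk_surjective x
      exact ⟨t ⊗ₜ x, rfl⟩
  have hker : ∀ w, q w = 0 ↔ w ∈ Ideal.span {(1 : K) ⊗ₜ[k] e} := by
    intro w
    have h2 := Algebra.TensorProduct.lTensor_ker (A := K) (Ideal.Quotient.mkₐ k (Ideal.span {e}))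
      (Ideal.Quotient.mkₐ_surjective k _)
    change Algebra.TensorProduct.map (AlgHom.id k K) (Ideal.Quotient.mkₐ k (Ideal.span {e})) w = 0 ↔ _
    rw [← RingHom.mem_ker, h2, show RingHom.ker (Ideal.Quotient.mkₐ k (Ideal.span {e})) = Ideal.span {e} from
      Ideal.mk_ker, Ideal.map_span, Set.image_singleton]
    rfl
  have he' : IsIdempotentElem ((1 : K) ⊗ₜ[k] e) := by
    change _ * _ = _
    rw [Algebra.TensorProduct.tmul_mul_tmul, _root_.mul_one, he.eq]
  have hyp' : ∀ n, 0 < n → ∃ j, ((1 : K) ⊗ₜ[k] a) ^ j * ((1 : K) ⊗ₜ[k] c) ∈ torsionIdeal K (K ⊗[k] C) n := by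
    intro n hn
    obtain ⟨j, hj⟩ := hyp n hn
    refine ⟨j, ?_⟩
    have hle : (torsionIdeal k C n).map (Algebra.TensorProduct.includeRight : C →ₐ[k] K ⊗[k] C) ≤
        torsionIdeal K (K ⊗[k] C) n := by
      rw [torsionIdeal, Ideal.map_le_iff_le_comap, Ideal.map_le_iff_le_comap]
      intro x hx
      change (1 : K) ⊗ₜ[k] powConv k C n x ∈ torsionIdeal K (K ⊗[k] C) n
      rw [← GrothLib.OT.powConv_baseChange]
      refine Ideal.mem_map_of_mem _ (RingHom.mem_ker.mpr ?_)
      change Coalgebra.counit (R := K) ((1 : K) ⊗ₜ[k] x) = 0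
      rw [TensorProduct.counit_tmul, show Coalgebra.counit (R := k) x = 0 from (RingHom.mem_ker.mp hx :), zero_smul]
    have := hle (Ideal.mem_map_of_mem _ hj)
    rwa [map_mul, map_pow] at this
  obtain ⟨j, hj⟩ := GrothLib.TorsTrans14.exists_pow_mul_eq_zero he'
    (GrothLib.MultLift.isMultType_baseChange hG K) q hK.equiv.symm hq hker _ _ hyp'
  refine ⟨j, Algebra.TensorProduct.includeRight_injective (A := K) (algebraMap k K).injective ?_⟩
  rw [map_zero, map_mul, map_pow]
  exact hj

end Groth.Agent.S5300
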