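import Groth.Statements.S5304
import Groth.Agent.Lib.DiagGrp.SubgroupLocus

set_option autoImplicit false
open CategoryTheory MonoidalCategory CartesianMonoidalCategory MonObj GrpObj AlgebraicGeometry
universe u
open SGA3x GrothLib.DiagGrp

namespace Groth.Agent.S5304

/-- Let G be an S-group separated over S, suppose S locally Noetherian or G of finite presentation over
S, and let i₁ : H₁ ⟶ G, i₂ : H₂ ⟶ G be two sub-group-schemes (homomorphisms which are immersions) of
multiplicative type and of finite type, with H₁ central in G. Then the set U of points s ∈ S such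
that (H₁)_s = (H₂)_s as subgroups of G_s (an isomorphism of the fibres compatible with the
inclusions) is open and closed, and H₁|_U = H₂|_U as subgroups of G|_U. (The published statement
asks only that the fibres of H₁ be central; this row assumes H₁ central in G.) -/
theorem result {S : Scheme.{u}} (G H₁ H₂ : Over S) [GrpObj G] [GrpObj H₁] [GrpObj H₂]
    [IsSeparated G.hom] (hG : IsLocallyNoetherian S ∨ (LocallyOfFinitePresentation G.hom ∧ QuasiCompact G.hom ∧ QuasiSeparated G.hom))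
    (h₁ : SGA3x.IsMultTypeFT H₁) (h₂ : SGA3x.IsMultTypeFT H₂)
    (i₁ : H₁ ⟶ G) [IsMonHom i₁] [IsImmersion i₁.left] (i₂ : H₂ ⟶ G) [IsMonHom i₂] [IsImmersion i₂.left]
    (hc : ∀ (X : Over S) (g : X ⟶ G) (h : X ⟶ H₁), g * (h ≫ i₁) = (h ≫ i₁) * g) :
    ∃ U : S.Opens, IsClosed (U : Set S) ∧
      (∀ s : S, s ∈ U ↔ ∃ ψ : Red.bc (S.fromSpecResidueField s) H₁ ≅ Red.bc (S.fromSpecResidueField s) H₂,
        ψ.hom ≫ (Over.pullback (S.fromSpecResidueField s)).map i₂ = (Over.pullback (S.fromSpecResidueField s)).map i₁) ∧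
      ∃ ψ : Red.bc U.ι H₁ ≅ Red.bc U.ι H₂, ψ.hom ≫ (Over.pullback U.ι).map i₂ = (Over.pullback U.ι).map i₁ := by
  haveI : Mono i₁ := (Over.forget _).mono_of_mono_map (show Mono i₁.left from inferInstance)
  haveI : Mono i₂ := (Over.forget _).mono_of_mono_map (show Mono i₂.left from inferInstance)
  haveI := lfp_of_isMultTypeFT h₁
  haveI := lfp_of_isMultTypeFT h₂
  haveI : LocallyOfFiniteType (H₁ ⊗ H₂).hom :=
    inferInstanceAs (LocallyOfFiniteType (Limits.pullback.fst H₁.hom H₂.hom ≫ H₁.hom))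
  have hG' : IsLocallyNoetherian S ∨ LocallyOfFinitePresentation G.hom := hG.imp id fun h => h.1
  let Pc : ∀ (W : Scheme.{u}), (W ⟶ S) → Prop := fun W f => HasChart fgM H₁ f ∧ HasChart fgM H₂ f
  have hcov : ∀ V : S.Opens, IsAffineOpen V → CoverBy Pc V := fun V hV =>
    ((hasChartsFpqc_of_isMultTypeFT h₁).coverBy V hV).inter ((hasChartsFpqc_of_isMultTypeFT h₂).coverBy V hV)
      (fun f g f' hf' h => h.precomp g f' hf') (fun f g f' hf' h => h.precomp g f' hf')
  set T : Set S := {s | Factor i₁ i₂ (S.fromSpecResidueField s) ∧ Factor i₂ i₁ (S.fromSpecResidueField s)}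
  have main : ∀ {W : Scheme.{u}} [IsAffine W] (f : W ⟶ S), Pc W f →
      IsClopen (f.base ⁻¹' T) ∧ ((∀ x, f.base x ∈ T) → Factor i₁ i₂ f ∧ Factor i₂ i₁ f) := by
    intro W _ f hP
    obtain ⟨M, _, -, ⟨e₁⟩⟩ := hP.1.precomp W.isoSpec.inv _ rfl
    obtain ⟨M', _, hM', ⟨e₂⟩⟩ := hP.2.precomp W.isoSpec.inv _ rfl
    obtain ⟨hcl, hover⟩ := factor_locus_chart (W.isoSpec.inv ≫ f) e₁ e₂ i₁ i₂ hc hG' hM'
    refine ⟨?_, fun hT => ?_⟩
    · have h2 : f.base ⁻¹' T = W.isoSpec.hom.base ⁻¹' ((W.isoSpec.inv ≫ f).base ⁻¹' T) := by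
        rw [← Set.preimage_comp, ← TopCat.coe_comp, ← Scheme.Hom.comp_base, Iso.hom_inv_id_assoc]
      rw [h2]
      exact hcl.preimage W.isoSpec.hom.base.hom.continuous
    · obtain ⟨h, h'⟩ := hover fun x => by rw [Scheme.Hom.comp_apply]; exact hT _
      exact ⟨h.precomp W.isoSpec.hom f (by simp), h'.precomp W.isoSpec.hom f (by simp)⟩
  have hclopen : IsClopen T := isClopen_of_coverBy hcov T fun f hP => (main f hP).1
  refine ⟨⟨T, hclopen.isOpen⟩, hclopen.isClosed, fun s => ⟨fun hs => exists_iso_of_factor i₁ i₂ _ hs.1 hs.2,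
    fun ⟨ψ, hψ⟩ => factor_of_iso i₁ i₂ _ ψ hψ⟩, ?_⟩
  exact exists_iso_of_factor i₁ i₂ _
    (factor_of_coverBy i₁ i₂ hcov ⟨T, hclopen.isOpen⟩ fun f hP hU => ((main f hP).2 hU).1)
    (factor_of_coverBy i₂ i₁ hcov ⟨T, hclopen.isOpen⟩ fun f hP hU => ((main f hP).2 hU).2)

end Groth.Agent.S5304
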