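import Groth.Statements.S5307
-- import your own Groth.Agent.* helpers here

import Groth.Agent.Lib.SubDesc14.Group
import Groth.Agent.Lib.SubDesc14.Central
import Groth.Agent.Lib.EssFree.Subgroup
import Groth.Agent.Lib.EssFree.Transporter

set_option autoImplicit false
open CategoryTheory MonoidalCategory CartesianMonoidalCategory MonObj GrpObj AlgebraicGeometry
universe u
open SGA3x

namespace Groth.Agent.S5307

/-- The case of an fpqc covering. Let G be an S-group separated and of finite presentation over S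
(locally of finite presentation, quasi-compact, quasi-separated), π : S' ⟶ S a flat surjective
morphism which is an fpqc covering (every affine open of S is the image of a quasi-compact open of
S') with geometrically connected fibres, and j' : H' ⟶ G ×_S S' a central sub-group-scheme (a
homomorphism which is an immersion, every point of G ×_S S' commuting with every point of H') of
multiplicative type and of finite type. Then there is a sub-group-scheme j : H ⟶ G of multiplicative
type and of finite type with H ×_S S' = H' as subgroups of G ×_S S' (an isomorphism compatible with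
the inclusions), and any two such subgroups of G coincide (are isomorphic compatibly with their
inclusions). -/
theorem result {S S' : Scheme.{u}} (G : Over S) [GrpObj G]
    [IsSeparated G.hom] [LocallyOfFinitePresentation G.hom] [QuasiCompact G.hom] [QuasiSeparated G.hom]
    (π : S' ⟶ S) [Flat π] [Surjective π]
    (hcov : ∀ V : S.Opens, IsAffineOpen V → ∃ W : S'.Opens, IsCompact (W : Set S') ∧ π.base '' (W : Set S') = (V : Set S))
    (hconn : ∀ s : S, ConnectedSpace ↥(Limits.pullback π (Red.geomPt s)))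
    (H' : Over S') [GrpObj H'] (hH' : SGA3x.IsMultTypeFT H') (j' : H' ⟶ Red.bc π G) [IsMonHom j'] [IsImmersion j'.left]
    (hc : ∀ (X : Over S') (g : X ⟶ Red.bc π G) (h : X ⟶ H'), g * (h ≫ j') = (h ≫ j') * g) :
    (∃ (H : Over S) (_ : GrpObj H) (j : H ⟶ G), IsMonHom j ∧ IsImmersion j.left ∧ SGA3x.IsMultTypeFT H ∧
      ∃ φ : Red.bc π H ≅ H', φ.hom ≫ j' = (Over.pullback π).map j) ∧
    (∀ (H₁ H₂ : Over S) [GrpObj H₁] [GrpObj H₂] (j₁ : H₁ ⟶ G) (j₂ : H₂ ⟶ G) [IsMonHom j₁] [IsMonHom j₂]
      [IsImmersion j₁.left] [IsImmersion j₂.left],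
      (∃ φ₁ : Red.bc π H₁ ≅ H', φ₁.hom ≫ j' = (Over.pullback π).map j₁) →
      (∃ φ₂ : Red.bc π H₂ ≅ H', φ₂.hom ≫ j' = (Over.pullback π).map j₂) →
      ∃ ψ : H₁ ≅ H₂, ψ.hom ≫ j₂ = j₁) := by
  have hπ : GrothLib.SubDesc14.IsCover π := hcov
  refine ⟨?_, ?_⟩
  swap
  · rintro H₁ H₂ _ _ j₁ j₂ _ _ _ _ ⟨φ₁, h₁⟩ ⟨φ₂, h₂⟩
    refine GrothLib.SubDesc14.exists_iso_of_bc π hπ j₁ j₂ (φ₁ ≪≫ φ₂.symm) ?_
    rw [← h₂, ← h₁]
    simp
  haveI : GeometricallyConnected π := GrothLib.DescentHom.geometricallyConnected_of_geomPt π hconn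
  haveI : Mono j' := (Over.forget _).mono_of_mono_map (show Mono j'.left from inferInstance)
  haveI : IsAffineHom H'.hom := GrothLib.EssFree.isAffineHom_multTypeFT H' hH'
  haveI : IsSeparated (Limits.pullback.snd G.hom π) := inferInstance
  haveI : QuasiCompact j'.left := by
    haveI : QuasiCompact (j'.left ≫ Limits.pullback.snd G.hom π) := by
      rw [show j'.left ≫ Limits.pullback.snd G.hom π = H'.hom from Over.w j']
      infer_instance
    exact QuasiCompact.of_comp j'.left (Limits.pullback.snd G.hom π)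
  obtain ⟨Z, n, _, hn⟩ := GrothLib.SubDesc14.exists_descended (Limits.pullback.fst G.hom π)
    (hπ.baseChange G.hom) j'.left (GrothLib.SubDesc14.lift_invariant π G j' hH' hc)
  let H : Over S := Over.mk (n ≫ G.hom)
  let j : H ⟶ G := Over.homMk n
  haveI : IsImmersion j.left := inferInstanceAs (IsImmersion n)
  haveI : Mono j := (Over.forget _).mono_of_mono_map (show Mono j.left from inferInstance)
  haveI : (Over.pullback π).IsRightAdjoint := (Over.mapPullbackAdj π).isRightAdjoint
  have key : ∀ (T : Over S') (h : (Over.map π).obj T ⟶ G),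
      (∃ y, y ≫ j = h) ↔ ∃ y, y ≫ j' = GrothLib.DiagGrp.bcPointMulEquiv π G T h := by
    intro T h
    constructor
    · rintro ⟨y, rfl⟩
      obtain ⟨z, hz⟩ := (hn T.left (GrothLib.DiagGrp.bcPoint π G T (y ≫ j)).left).mp
        ⟨y.left, by rw [GrothLib.SubDesc14.bcPoint_left_fst]; rfl⟩
      exact ⟨Over.homMk z (by
        rw [← Over.w j', ← Category.assoc, hz]
        exact Over.w (GrothLib.DiagGrp.bcPoint π G T (y ≫ j))), Over.OverMorphism.ext hz⟩
    · rintro ⟨y, hy⟩
      obtain ⟨z, hz⟩ := (hn T.left (GrothLib.DiagGrp.bcPoint π G T h).left).mpr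
        ⟨y.left, congrArg (fun t => t.left) hy⟩
      rw [GrothLib.SubDesc14.bcPoint_left_fst] at hz
      exact ⟨Over.homMk z (show z ≫ n ≫ G.hom = _ by rw [← Category.assoc, hz, Over.w h]),
        Over.OverMorphism.ext hz⟩
  have descend : ∀ (T : Over S) (x : T ⟶ G), (∃ y, y ≫ j' = GrothLib.DiagGrp.bcPointMulEquiv π G _
      (GrothLib.SubDesc14.covMap π T ≫ x)) → ∃ z : T ⟶ H, z ≫ j = x := by
    intro T x hx
    obtain ⟨y, hy⟩ := (key _ _).mpr hx
    exact GrothLib.SubDesc14.exists_factor π hπ j x y hy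
  obtain ⟨inst, hmon⟩ := GrothLib.EssFree.exists_grpObj_of_mono j
    (fun T => descend T 1 ⟨1, by rw [MonObj.comp_one, map_one, MonObj.one_comp]⟩)
    (fun T a b => descend T _ (by
      obtain ⟨ya, hya⟩ := (key _ _).mp ⟨GrothLib.SubDesc14.covMap π T ≫ a, Category.assoc _ _ _⟩
      obtain ⟨yb, hyb⟩ := (key _ _).mp ⟨GrothLib.SubDesc14.covMap π T ≫ b, Category.assoc _ _ _⟩
      exact ⟨ya * yb, by rw [MonObj.mul_comp, hya, hyb, MonObj.comp_mul, map_mul]⟩))
    (fun T a => descend T _ (by
      obtain ⟨ya, hya⟩ := (key _ _).mp ⟨GrothLib.SubDesc14.covMap π T ≫ a, Category.assoc _ _ _⟩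
      exact ⟨ya⁻¹, by rw [GrpObj.inv_comp, hya, GrpObj.comp_inv, map_inv]⟩))
  letI := inst
  haveI := hmon
  obtain ⟨f, hf⟩ := (key (Red.bc π H) _).mp ⟨(GrothLib.DiagGrp.bcPoint π H _).symm (𝟙 _), rfl⟩
  have hf' : f ≫ j' = (Over.pullback π).map j := by
    rw [hf]
    change GrothLib.DiagGrp.bcPoint π G _ (_ ≫ j) = _
    rw [GrothLib.DiagGrp.bcPoint_comp_right, Equiv.apply_symm_apply, Category.id_comp]
  obtain ⟨g, hg⟩ := (key H' ((GrothLib.DiagGrp.bcPoint π G _).symm j')).mpr ⟨𝟙 _, by
    rw [Category.id_comp]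
    exact ((GrothLib.DiagGrp.bcPoint π G _).apply_symm_apply j').symm⟩
  have hg' : GrothLib.DiagGrp.bcPoint π H H' g ≫ (Over.pullback π).map j = j' := by
    rw [← GrothLib.DiagGrp.bcPoint_comp_right, hg, Equiv.apply_symm_apply]
  let φ : Red.bc π H ≅ H' := ⟨f, GrothLib.DiagGrp.bcPoint π H H' g,
    by rw [← cancel_mono ((Over.pullback π).map j), Category.assoc, hg', hf', Category.id_comp],
    by rw [← cancel_mono j', Category.assoc, hf', hg', Category.id_comp]⟩
  haveI : IsMonHom (φ.hom ≫ j') := by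
    rw [show φ.hom ≫ j' = (Over.pullback π).map j from hf']
    infer_instance
  haveI : IsMonHom φ.hom := GrothLib.DiagGrp.isMonHom_of_comp_mono φ.hom j'
  exact ⟨H, inst, j, hmon, inferInstance,
    GrothLib.SubDesc14.isMultTypeFT_descend π hπ (Grp.mkIso' φ) hH', φ, hf'⟩

end Groth.Agent.S5307
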