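import Groth.Statements.S5308
import Groth.Agent.S5266

set_option autoImplicit false
open CategoryTheory MonoidalCategory CartesianMonoidalCategory MonObj GrpObj AlgebraicGeometry
universe u
open SGA3x

open CategoryTheory.Limits

namespace Groth.Agent.S5308

/-- (i) ⇒ (ii). Let R be a commutative twisted constant S-group which is isotrivial (it becomes a
constant group over the open and closed pieces of one finite etale surjective S' ⟶ S). Then R is a
union of open and closed subschemes which are quasi-compact, indeed finite, over S: every point of R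
has an open and closed neighbourhood U in R with U ⟶ S finite. -/
theorem result {S : Scheme.{u}} (R : Over S) [GrpObj R]
    (hcomm : ∀ (X : Over S) (a b : X ⟶ R), a * b = b * a) (hR : TwC.IsTwConstGrp TwC.Topology.finiteEtale R) (x : R.left) :
    ∃ U : R.left.Opens, x ∈ U ∧ IsClosed (U : Set R.left) ∧ IsFinite (U.ι ≫ R.hom) := by
  obtain ⟨S', f, hfin, het, hsurj, hloc⟩ := hR
  haveI := hfin; haveI := het; haveI := hsurj
  have hfpqc : TwC.IsTwConst TwC.Topology.fpqc R := by
    refine ⟨S', f, inferInstance, hsurj, fun V hV => ?_, fun s' => ?_⟩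
    · refine ⟨f ⁻¹ᵁ V, (hV.preimage f).isCompact, ?_⟩
      exact Set.image_preimage_eq _ f.surjective
    · obtain ⟨U, hU, -, M, _, e, -⟩ := hloc s'
      exact ⟨U, hU, M, ⟨e⟩⟩
  let q := pullback.fst R.hom f
  haveI : IsFinite q := MorphismProperty.pullback_fst (P := @IsFinite) R.hom f inferInstance
  haveI : Etale q := MorphismProperty.pullback_fst (P := @Etale) R.hom f inferInstance
  haveI : Surjective q := MorphismProperty.pullback_fst (P := @Surjective) R.hom f inferInstance
  obtain ⟨x', hx'⟩ := q.surjective x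
  obtain ⟨V, hV, hVc, M, _, e, -⟩ := hloc (pullback.snd R.hom f x')
  obtain ⟨σ, hoi, hσ, hdisj, hcov⟩ := GrothLib.TwConst.exists_sections _ M e
  let d : pullback R.hom (V.ι ≫ f) ⟶ pullback R.hom f :=
    pullback.map _ _ _ _ (𝟙 R.left) V.ι (𝟙 S) (by simp) (by simp)
  obtain ⟨y, hy⟩ : x' ∈ Set.range d := by
    rw [Scheme.Pullback.range_map]
    exact ⟨⟨_, rfl⟩, by simpa using hV⟩
  obtain ⟨m, t, rfl⟩ := hcov y
  haveI : IsClosedImmersion V.ι := IsClosedImmersion.of_isPreimmersion _ (by rw [Scheme.Opens.range_ι]; exact hVc)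
  have hdc : IsPullback d (pullback.snd R.hom (V.ι ≫ f)) (pullback.snd R.hom f) V.ι := by
    refine IsPullback.of_right ?_ (pullback.lift_snd _ _ _) (IsPullback.of_hasPullback R.hom f)
    have : d ≫ pullback.fst R.hom f = pullback.fst R.hom (V.ι ≫ f) := (pullback.lift_fst _ _ _).trans (Category.comp_id _)
    rw [this]
    exact IsPullback.of_hasPullback R.hom (V.ι ≫ f)
  haveI : IsClosedImmersion d := MorphismProperty.of_isPullback (P := @IsClosedImmersion) hdc.flip inferInstance
  haveI : IsOpenImmersion d := MorphismProperty.of_isPullback (P := @IsOpenImmersion) hdc.flip inferInstance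
  have hclosed : IsClosed (Set.range (σ m)) := by
    have : Set.range (σ m) = (⋃ n : {n // n ≠ m}, Set.range (σ n.1))ᶜ := by
      ext z
      simp only [Set.mem_compl_iff, Set.mem_iUnion, Set.mem_range, Subtype.exists, not_exists]
      refine ⟨fun ⟨t, ht⟩ n hn t' ht' => hn (hdisj n m t' t (ht'.trans ht.symm)), fun h => ?_⟩
      obtain ⟨n, t, ht⟩ := hcov z
      by_cases hn : n = m
      · subst hn; exact ⟨t, ht⟩
      · exact absurd ht (h n hn t)
    rw [this]
    exact (isOpen_iUnion fun n : {n // n ≠ m} => (σ n.1).isOpenEmbedding.isOpen_range).isClosed_compl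
  haveI := hoi m
  let π : (V : Scheme.{u}) ⟶ R.left := σ m ≫ d ≫ q
  have hclopen : IsClopen (Set.range π) := by
    have : Set.range π = q '' (d '' Set.range (σ m)) := by
      simp [π, Scheme.Hom.comp_base, Set.range_comp]
    rw [this]
    exact ⟨q.isClosedMap _ (d.isClosedEmbedding.isClosedMap _ hclosed),
      q.isOpenMap _ (d.isOpenEmbedding.isOpenMap _ (σ m).isOpenEmbedding.isOpen_range)⟩
  let U : R.left.Opens := ⟨Set.range π, hclopen.2⟩
  have hπf : π ≫ R.hom = V.ι ≫ f := by
    have h1 : d ≫ q ≫ R.hom = pullback.snd R.hom (V.ι ≫ f) ≫ V.ι ≫ f := by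
      rw [← pullback.condition, ← Category.assoc, show d ≫ q = pullback.fst R.hom (V.ι ≫ f) from (pullback.lift_fst _ _ _).trans (Category.comp_id _)]
    simp only [π, Category.assoc, h1, reassoc_of% (hσ m)]
  haveI : IsClosedImmersion U.ι := IsClosedImmersion.of_isPreimmersion _ (by rw [Scheme.Opens.range_ι]; exact hclopen.1)
  refine ⟨U, ⟨t, (congrArg q hy).trans hx'⟩, hclopen.1, ?_⟩
  haveI : QuasiCompact (U.ι ≫ R.hom) := by
    let π' : (V : Scheme.{u}) ⟶ (U : Scheme.{u}) := IsOpenImmersion.lift U.ι π (by rw [Scheme.Opens.range_ι]; exact subset_rfl)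
    haveI : Surjective π' := ⟨fun u => by
      obtain ⟨v, hv⟩ := u.2
      exact ⟨v, U.ι.isOpenEmbedding.injective ((congrArg (fun k : (V : Scheme.{u}) ⟶ R.left => k v) (IsOpenImmersion.lift_fac U.ι π _)).trans hv)⟩⟩
    refine quasiCompact_iff_forall_isAffineOpen.mpr fun W hW => ?_
    haveI : QuasiCompact (π' ≫ U.ι ≫ R.hom) := by
      rw [IsOpenImmersion.lift_fac_assoc, hπf]; infer_instance
    have hc := (π' ≫ U.ι ≫ R.hom).isCompact_preimage hW.isCompact
    have := hc.image π'.continuous
    convert this using 1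
    exact (Set.image_preimage_eq _ π'.surjective).symm
  exact Groth.Agent.S5266.result R hfpqc U.ι

end Groth.Agent.S5308
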