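import Groth.Statements.S5316
import Groth.Agent.Lib.FibreLocus.Hom

set_option autoImplicit false
universe u
open CategoryTheory CategoryTheory.Limits MonoidalCategory CartesianMonoidalCategory MonObj GrpObj AlgebraicGeometry
open SGA3

namespace Groth.Agent.S5316

/-- Let u : G → H be a homomorphism of S-group schemes which is locally of finite presentation, and
suppose every fibre G_s is locally of finite type over κ(s). Then the set U of points s of S such
that u_s : G_s → H_s is unramified (formally unramified; it is locally of finite presentation) is
open in S, and the set of points of G at which u is unramified (formally unramified on some open
neighbourhood) is the inverse image of U in G. (The published statement assumes u locally of finite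
presentation only near the unit section for the openness of U; this row assumes it on all of G, the
case in which the second assertion is stated.) -/
theorem result (S : Scheme.{u}) (G H : Over S) [GrpObj G] [GrpObj H] (u : G ⟶ H)
    [IsMonHom u] [LocallyOfFinitePresentation u.left] (hG : ∀ s : S, LocallyOfFiniteType (G.hom.fiberToSpecResidueField s)) :
    IsOpen {s : S | FormallyUnramified ((Over.pullback (S.fromSpecResidueField s)).map u).left} ∧
    {x : G.left | ∃ W : G.left.Opens, x ∈ W ∧ FormallyUnramified (W.ι ≫ u.left)} =
      G.hom.base ⁻¹' {s : S | FormallyUnramified ((Over.pullback (S.fromSpecResidueField s)).map u).left} := by
  exact GrothLib.FibreLocus.unramified_locus u hG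

end Groth.Agent.S5316
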