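import Groth.Statements.S5317
import Groth.Agent.Lib.FibreLocus.Hom

set_option autoImplicit false
universe u
open CategoryTheory CategoryTheory.Limits MonoidalCategory CartesianMonoidalCategory MonObj GrpObj AlgebraicGeometry
open SGA3

namespace Groth.Agent.S5317

/-- Let u : G → H be a homomorphism of S-group schemes which is universally injective (for instance a
monomorphism), with G flat and locally of finite presentation over S and H locally of finite type
over S. Then the set U of points s of S such that u_s : G_s → H_s is an open immersion is open in S,
and the restriction of u over every open of S contained in U is an open immersion. -/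
theorem result (S : Scheme.{u}) (G H : Over S) [GrpObj G] [GrpObj H]
    (u : G ⟶ H) [IsMonHom u] [UniversallyInjective u.left]
    [Flat G.hom] [LocallyOfFinitePresentation G.hom] [LocallyOfFiniteType H.hom] :
    IsOpen {s : S | IsOpenImmersion ((Over.pullback (S.fromSpecResidueField s)).map u).left} ∧
    ∀ W : S.Opens, (W : Set S) ⊆ {s : S | IsOpenImmersion ((Over.pullback (S.fromSpecResidueField s)).map u).left} → IsOpenImmersion ((G.hom ⁻¹ᵁ W).ι ≫ u.left) := by
  exact GrothLib.FibreLocus.isOpenImmersion_over u

end Groth.Agent.S5317
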