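import Groth.Statements.S5337
import Groth.Agent.Lib.FibreLocus.Translate

set_option autoImplicit false
universe u
open CategoryTheory CategoryTheory.Limits MonoidalCategory CartesianMonoidalCategory MonObj GrpObj AlgebraicGeometry
open SGA3

namespace Groth.Agent.S5337

/-- Quasi-finite, unramified, smooth and etale cases: let A be a local artinian ring, G an A-group
scheme which is flat and locally of finite type over A, and u : G → H a homomorphism of A-group
schemes. If u is locally quasi-finite (resp. unramified, that is formally unramified and locally of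
finite presentation, resp. smooth, resp. etale) on some nonempty open subscheme of G, then u is
locally quasi-finite (resp. unramified, resp. smooth, resp. etale). (Here u is automatically locally
of finite type.) -/
theorem result (A : Type u) [CommRing A] [IsArtinianRing A] [IsLocalRing A] (G H : Over (Spec (CommRingCat.of A))) [GrpObj G] [GrpObj H]
    [Flat G.hom] [LocallyOfFiniteType G.hom] (u : G ⟶ H) [IsMonHom u] (W : G.left.Opens) (hW : (W : Set G.left).Nonempty) :
    (LocallyQuasiFinite (W.ι ≫ u.left) → LocallyQuasiFinite u.left) ∧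
    (FormallyUnramified (W.ι ≫ u.left) → LocallyOfFinitePresentation (W.ι ≫ u.left) →
      FormallyUnramified u.left ∧ LocallyOfFinitePresentation u.left) ∧
    (Smooth (W.ι ≫ u.left) → Smooth u.left) ∧ (Etale (W.ι ≫ u.left) → Etale u.left) := by
  haveI : Subsingleton (Spec (CommRingCat.of A)) := inferInstanceAs (Subsingleton (PrimeSpectrum A))
  haveI : LocallyOfFinitePresentation G.hom := inferInstance
  haveI : LocallyOfFiniteType u.left := by
    have h : LocallyOfFiniteType (u.left ≫ H.hom) := by rw [Over.w u]; infer_instance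
    exact locallyOfFiniteType_of_comp u.left H.hom
  obtain ⟨x, hx⟩ := hW
  have hG : ∀ s, LocallyOfFiniteType (G.hom.fiberToSpecResidueField s) := fun s => GrothLib.FibreLocus.lft_fibres s
  have key : ∀ (P : MorphismProperty Scheme.{u}) [P.IsStableUnderBaseChange] [IsZariskiLocalAtSource P]
      [P.DescendsAlong (@Surjective ⊓ @Flat ⊓ @QuasiCompact)], P (W.ι ≫ u.left) →
      ∀ g : G.left, P (u.left.fiberToSpecResidueField (u.left g)) := by
    intro P _ _ _ hP g
    refine GrothLib.FibreLocus.prop_fiber_of_fibre u g ((GrothLib.FibreLocus.prop_fibre_iff u _).mpr ?_)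
    rw [show G.hom g = G.hom x from Subsingleton.elim _ _]
    exact GrothLib.FibreLocus.fibre_of_nhd u P x W hx hP (hG _)
  have hflat : Flat (W.ι ≫ u.left) → Flat u.left := fun h => GrothLib.FibreLocus.flat_hom_of_flat_at u x
    ((GrothLib.LocProp.stalkMap_comp_ι_iff RingHom.Flat.respectsIso W.ι u.left ⟨x, hx⟩).mp (Flat.stalkMap _ _))
  have hlfp : LocallyOfFinitePresentation (W.ι ≫ u.left) → LocallyOfFinitePresentation u.left :=
    GrothLib.FibreLocus.lfp_hom_of_open u W ⟨x, hx⟩
  have hunr : FormallyUnramified (W.ι ≫ u.left) → LocallyOfFinitePresentation (W.ι ≫ u.left) →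
      FormallyUnramified u.left ∧ LocallyOfFinitePresentation u.left := fun h h' => by
    haveI := hlfp h'
    haveI : IsZariskiLocalAtSource (@FormallyUnramified : MorphismProperty Scheme.{u}) :=
      HasRingHomProperty.instIsZariskiLocalAtSource
    refine ⟨?_, inferInstance⟩
    obtain ⟨-, hZ⟩ := GrothLib.FibreLocus.unramified_locus u hG
    have hall : ∀ g : G.left, ∃ V : G.left.Opens, g ∈ V ∧ FormallyUnramified (V.ι ≫ u.left) := fun g => by
      refine hZ.ge ?_
      have := hZ.le (show x ∈ {x : G.left | ∃ V : G.left.Opens, x ∈ V ∧ FormallyUnramified (V.ι ≫ u.left)} from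
        ⟨W, hx, h⟩)
      rw [Set.mem_preimage] at this ⊢
      rwa [show G.hom.base g = G.hom.base x from Subsingleton.elim _ _]
    choose V hgV hV using hall
    rw [IsZariskiLocalAtSource.iff_of_iSup_eq_top (P := @FormallyUnramified) V
      (top_le_iff.mp fun g _ => TopologicalSpace.Opens.mem_iSup.mpr ⟨g, hgV g⟩)]
    exact hV
  have hsm : Smooth (W.ι ≫ u.left) → Smooth u.left := fun h => by
    haveI := hflat inferInstance
    haveI := hlfp inferInstance
    refine Smooth.of_smooth_fiberToSpecResidueField u.left fun y => ?_
    by_cases hy : y ∈ Set.range u.left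
    · obtain ⟨g, rfl⟩ := hy
      exact key @Smooth h g
    · haveI : IsEmpty (u.left.fiber y) := ⟨fun z => hy ⟨u.left.fiberι y z, by
        have := Set.mem_range_self (f := u.left.fiberι y) z
        rwa [u.left.range_fiberι] at this⟩⟩
      infer_instance
  refine ⟨fun h => ?_, hunr, hsm, fun h => ?_⟩
  · haveI : IsZariskiLocalAtSource (@LocallyQuasiFinite : MorphismProperty Scheme.{u}) :=
      HasRingHomProperty.instIsZariskiLocalAtSource
    obtain ⟨-, hZ⟩ := GrothLib.FibreLocus.lqf_locus u hG
    have hall : ∀ g : G.left, ∃ V : G.left.Opens, g ∈ V ∧ LocallyQuasiFinite (V.ι ≫ u.left) := fun g => by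
      refine hZ.ge ?_
      have := hZ.le (show x ∈ {x : G.left | ∃ V : G.left.Opens, x ∈ V ∧ LocallyQuasiFinite (V.ι ≫ u.left)} from
        ⟨W, hx, h⟩)
      rw [Set.mem_preimage] at this ⊢
      rwa [show G.hom.base g = G.hom.base x from Subsingleton.elim _ _]
    choose V hgV hV using hall
    rw [IsZariskiLocalAtSource.iff_of_iSup_eq_top (P := @LocallyQuasiFinite) V
      (top_le_iff.mp fun g _ => TopologicalSpace.Opens.mem_iSup.mpr ⟨g, hgV g⟩)]
    exact hV
  · haveI := hflat inferInstance
    haveI := (hunr inferInstance inferInstance).1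
    haveI := hlfp inferInstance
    exact Etale.of_formallyUnramified_of_flat u.left

end Groth.Agent.S5337
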