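import Groth.Statements.S5340
import Groth.Agent.Lib.LftGrp14.Main
import Groth.Agent.Lib.Neutral.Reduction

set_option autoImplicit false
universe u
open CategoryTheory CategoryTheory.Limits MonoidalCategory CartesianMonoidalCategory MonObj GrpObj AlgebraicGeometry
open SGA3

namespace Groth.Agent.S5340

/-- Let A be a local artinian ring and G an A-group scheme. If some nonempty open subscheme of G is of
finite type over A, then G is locally of finite type over A. -/
theorem result (A : Type u) [CommRing A] [IsArtinianRing A] [IsLocalRing A] (G : Over (Spec (CommRingCat.of A))) [GrpObj G]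
    (W : G.left.Opens) (hW : (W : Set G.left).Nonempty) [LocallyOfFiniteType (W.ι ≫ G.hom)] [QuasiCompact (W.ι ≫ G.hom)] :
    LocallyOfFiniteType G.hom := by
  let i : Spec (CommRingCat.of (IsLocalRing.ResidueField A)) ⟶ Spec (CommRingCat.of A) :=
    Spec.map (CommRingCat.ofHom (IsLocalRing.residue A))
  haveI : Subsingleton (Spec (CommRingCat.of A)) := inferInstanceAs (Subsingleton (PrimeSpectrum A))
  refine GrothLib.Neutral.locallyOfFiniteType_of_red G ?_
  let G₀ := (Over.pullback i).obj G
  letI : GrpObj G₀ := Functor.grpObjObj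
  let π : G₀.left ⟶ G.left := Limits.pullback.fst G.hom i
  haveI : Surjective π := MorphismProperty.pullback_fst (P := @Surjective) _ _ ⟨fun s =>
    ⟨IsLocalRing.closedPoint (IsLocalRing.ResidueField A), Subsingleton.elim _ _⟩⟩
  let W₀ : G₀.left.Opens := π ⁻¹ᵁ W
  haveI : LocallyOfFiniteType (W₀.ι ≫ G₀.hom) := by
    exact MorphismProperty.of_isPullback (P := @LocallyOfFiniteType)
      ((isPullback_morphismRestrict π W).paste_vert (IsPullback.of_hasPullback G.hom i)) ‹LocallyOfFiniteType (W.ι ≫ G.hom)›
  exact GrothLib.LftGrp14.locallyOfFiniteType_of_open W₀ (hW.preimage π.surjective)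

end Groth.Agent.S5340
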