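import Groth.Statements.S5339
import Groth.Agent.S5340
import Groth.Agent.S5337

set_option autoImplicit false
universe u
open CategoryTheory CategoryTheory.Limits MonoidalCategory CartesianMonoidalCategory MonObj GrpObj AlgebraicGeometry
open SGA3

namespace Groth.Agent.S5339

/-- Let A be a local artinian ring and G a flat A-group scheme (not assumed locally of finite type). If
G is locally quasi-finite and locally of finite type (resp. unramified, resp. smooth, resp. etale)
over A on some nonempty open subscheme, then G is locally quasi-finite and locally of finite type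
(resp. unramified, resp. smooth, resp. etale) over A. -/
theorem result (A : Type u) [CommRing A] [IsArtinianRing A] [IsLocalRing A] (G : Over (Spec (CommRingCat.of A))) [GrpObj G] [Flat G.hom]
    (W : G.left.Opens) (hW : (W : Set G.left).Nonempty) :
    (LocallyQuasiFinite (W.ι ≫ G.hom) → LocallyOfFiniteType (W.ι ≫ G.hom) → LocallyQuasiFinite G.hom ∧ LocallyOfFiniteType G.hom) ∧
    (FormallyUnramified (W.ι ≫ G.hom) → LocallyOfFinitePresentation (W.ι ≫ G.hom) →
      FormallyUnramified G.hom ∧ LocallyOfFinitePresentation G.hom) ∧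
    (Smooth (W.ι ≫ G.hom) → Smooth G.hom) ∧ (Etale (W.ι ≫ G.hom) → Etale G.hom) := by
  have hlft : LocallyOfFiniteType (W.ι ≫ G.hom) → LocallyOfFiniteType G.hom := fun h => by
    obtain ⟨x, hx⟩ := hW
    obtain ⟨V, hV, hxV, hle⟩ := exists_isAffineOpen_mem_and_subset (x := x) (U := W) hx
    haveI : IsAffine V.toScheme := hV
    haveI : LocallyOfFiniteType (V.ι ≫ G.hom) := by
      rw [← Scheme.homOfLE_ι G.left (show V ≤ W from hle), Category.assoc]
      infer_instance
    exact Groth.Agent.S5340.result A G V ⟨x, hxV⟩
  have key := fun (_ : LocallyOfFiniteType G.hom) =>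
    Groth.Agent.S5337.result A G (𝟙_ (Over (Spec (CommRingCat.of A)))) (toUnit G) W hW
  have hu : (toUnit G).left = G.hom := by
    have := Over.w (toUnit G)
    simpa using this
  refine ⟨fun h h' => ?_, fun h h' => ?_, fun h => ?_, fun h => ?_⟩
  · have hG := hlft h'
    exact ⟨hu ▸ (key hG).1 (hu.symm ▸ h), hG⟩
  · have hG := hlft inferInstance
    have := (key hG).2.1 (hu.symm ▸ h) (hu.symm ▸ h')
    exact hu ▸ this
  · exact hu ▸ (key (hlft inferInstance)).2.2.1 (hu.symm ▸ h)
  · exact hu ▸ (key (hlft inferInstance)).2.2.2 (hu.symm ▸ h)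

end Groth.Agent.S5339
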