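import Groth.Statements.S5318
import Groth.Agent.Lib.KerDiag14.Basic
import Groth.Agent.S5339

set_option autoImplicit false
set_option backward.isDefEq.respectTransparency false
set_option backward.isDefEq.respectTransparency.types false
universe u
open CategoryTheory CategoryTheory.Limits MonoidalCategory CartesianMonoidalCategory MonObj GrpObj AlgebraicGeometry
open SGA3

namespace Groth.Agent.S5318

/-- (ii) ⟺ (iii) and, for G locally of finite presentation over S, (ii) ⟺ (iv): let G be an S-group
scheme. The unit section of G is an open immersion if and only if G is locally of finite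
presentation over S on some open containing the unit section and every fibre G_s is unramified
(formally unramified and locally of finite presentation) over κ(s). If G is locally of finite
presentation over S, the unit section is an open immersion if and only if G is unramified over S. -/
theorem result (S : Scheme.{u}) (G : Over S) [GrpObj G] :
    (IsOpenImmersion η[G].left ↔
      ((∃ W : G.left.Opens, (∀ p : ↥(𝟙_ (Over S)).left, η[G].left.base p ∈ W) ∧ LocallyOfFinitePresentation (W.ι ≫ G.hom)) ∧
        ∀ s : S, FormallyUnramified (G.hom.fiberToSpecResidueField s) ∧ LocallyOfFinitePresentation (G.hom.fiberToSpecResidueField s))) ∧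
    (LocallyOfFinitePresentation G.hom → (IsOpenImmersion η[G].left ↔ FormallyUnramified G.hom)) := by
  have hηh : η[G].left ≫ G.hom = 𝟙 S := Over.w η[G]
  have hFU : IsOpenImmersion η[G].left → LocallyOfFiniteType G.hom → FormallyUnramified G.hom := fun h h' => by
    haveI := GrothLib.GrpSchField.diagonal_property (G := G) @IsOpenImmersion h
    infer_instance
  refine ⟨⟨fun h => ⟨?_, ?_⟩, fun ⟨⟨W, hW, hWf⟩, hfib⟩ => ?_⟩,
    fun _ => ⟨fun h => hFU h inferInstance, fun _ => GrothLib.KerDiag14.isOpenImmersion_section G.hom _ hηh⟩⟩
  · refine ⟨η[G].left.opensRange, fun p => ⟨p, rfl⟩, ?_⟩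
    rw [← MorphismProperty.cancel_left_of_respectsIso @LocallyOfFinitePresentation η[G].left.isoOpensRange.hom,
      Scheme.Hom.isoOpensRange_hom_ι_assoc, hηh]
    haveI : IsOpenImmersion (𝟙 S) := inferInstance
    exact locallyOfFinitePresentation_of_isOpenImmersion (f := 𝟙 S)
  · intro s
    let fs := S.fromSpecResidueField s
    letI : GrpObj ((Over.pullback fs).obj G) := Functor.grpObjObj
    haveI hb : IsOpenImmersion ((Over.pullback fs).map η[G]).left :=
      MorphismProperty.of_isPullback (GrothLib.FibreLocus.isPullback_map_left η[G] fs).flip h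
    let e : (Over.pullback fs).obj (𝟙_ (Over S)) ⟶ (Over.pullback fs).obj G := (Over.pullback fs).map η[G]
    haveI : Flat ((Over.pullback fs).obj G).hom := GrothLib.AlgSp.flat_to_field (k := S.residueField s) _
    haveI : Nonempty ↥((Over.pullback fs).obj (𝟙_ (Over S))).left :=
      ⟨(inv (pullback.snd (𝟙 S) fs)) (IsLocalRing.closedPoint (S.residueField s))⟩
    haveI : IsArtinianRing ↑(S.residueField s) := DivisionRing.instIsArtinianRing (K := S.residueField s)
    have key := Groth.Agent.S5339.result (S.residueField s) ((Over.pullback fs).obj G) e.left.opensRange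
      (Set.range_nonempty _)
    haveI : IsIso ((Over.pullback fs).obj (𝟙_ (Over S))).hom := by
      change IsIso (pullback.snd (𝟙 S) fs)
      infer_instance
    have hiso : IsIso (e.left.opensRange.ι ≫ ((Over.pullback fs).obj G).hom) := by
      rw [← MorphismProperty.isomorphisms.iff,
        ← MorphismProperty.cancel_left_of_respectsIso (MorphismProperty.isomorphisms Scheme.{u}) e.left.isoOpensRange.hom,
        Scheme.Hom.isoOpensRange_hom_ι_assoc, MorphismProperty.isomorphisms.iff, Over.w e]
      infer_instance
    haveI := hiso
    exact key.2.1 (@MorphismProperty.of_isIso _ _ @FormallyUnramified _ _ _ _ _ hiso) (@locallyOfFinitePresentation_of_isOpenImmersion _ _ _ inferInstance)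
  · haveI := hWf
    haveI : FormallyUnramified (W.ι ≫ G.hom) := by
      refine GrothLib.FibreFlat.formallyUnramified_of_fibrewise (W.ι ≫ G.hom) (𝟙 S) fun s => ?_
      have hg : (𝟙 S : S ⟶ S).fiberι s = (𝟙 S : S ⟶ S).fiberToSpecResidueField s ≫ S.fromSpecResidueField s := by
        have := (pullback.condition : pullback.fst (𝟙 S) (S.fromSpecResidueField s) ≫ 𝟙 S = _)
        rwa [Category.comp_id] at this
      haveI hG : FormallyUnramified (pullback.snd G.hom (S.fromSpecResidueField s)) := (hfib s).1
      rw [hg]
      haveI : FormallyUnramified (pullback.snd (W.ι ≫ G.hom) (S.fromSpecResidueField s)) := by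
        rw [← pullbackRightPullbackFstIso_inv_snd_snd]
        refine MorphismProperty.comp_mem _ _ _ (MorphismProperty.of_isIso @FormallyUnramified _)
          (MorphismProperty.comp_mem _ _ _ ?_ hG)
        haveI : IsOpenImmersion (pullback.snd W.ι (pullback.fst G.hom (S.fromSpecResidueField s))) := inferInstance
        infer_instance
      rw [← MorphismProperty.cancel_left_of_respectsIso @FormallyUnramified
        (pullbackLeftPullbackSndIso (W.ι ≫ G.hom) (S.fromSpecResidueField s) _).hom, pullbackLeftPullbackSndIso_hom_snd]
      exact MorphismProperty.pullback_snd _ _ ‹_›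
    have hr : Set.range η[G].left ⊆ Set.range W.ι := by
      rw [Scheme.Opens.range_ι]; rintro _ ⟨p, rfl⟩; exact hW p
    haveI : IsOpenImmersion (IsOpenImmersion.lift W.ι η[G].left hr) :=
      GrothLib.KerDiag14.isOpenImmersion_section (W.ι ≫ G.hom) _
        (by rw [← Category.assoc, IsOpenImmersion.lift_fac]; exact hηh)
    rw [← IsOpenImmersion.lift_fac W.ι η[G].left hr]
    infer_instance

end Groth.Agent.S5318
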