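import Groth.Statements.S5321
import Groth.Agent.Lib.SecLocus.MonoChart

set_option autoImplicit false
universe u
open CategoryTheory CategoryTheory.Limits MonoidalCategory CartesianMonoidalCategory MonObj GrpObj AlgebraicGeometry
open SGA3

namespace Groth.Agent.S5321

open CategoryTheory.Limits
open scoped TensorProduct

/-- An element of the kernel of the retraction vanishing in the fibre is killed near the point. -/
theorem exists_annihilator {A B : Type u} [CommRing A] [CommRing B] [Algebra A B]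
    (e : B →ₐ[A] A) (hJ : (RingHom.ker e).FG) (p : Ideal A) [p.IsPrime]
    (hbij : Function.Bijective (Algebra.TensorProduct.includeLeftRingHom :
      p.ResidueField →+* p.ResidueField ⊗[A] B)) :
    ∃ f, e f ∉ p ∧ ∀ j ∈ RingHom.ker e, f * j = 0 := by
  classical
  let q : Ideal B := p.comap e
  let J : Ideal B := RingHom.ker e
  let Bq := Localization.AtPrime q
  let P := Bq ⧸ p.map (algebraMap A Bq)
  have h0 : ∀ a ∈ p, algebraMap A P a = 0 := fun a ha =>
    Ideal.Quotient.eq_zero_iff_mem.2 (Ideal.mem_map_of_mem _ ha)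
  let φ₁ : A ⧸ p →ₐ[A] P := Ideal.Quotient.liftₐ p (Algebra.ofId A P) h0
  have hunit : ∀ y : nonZeroDivisors (A ⧸ p), IsUnit (φ₁ y) := by
    rintro ⟨y, hy⟩
    obtain ⟨a, rfl⟩ := Ideal.Quotient.mk_surjective y
    have ha : a ∉ p := fun h =>
      (mem_nonZeroDivisors_iff_ne_zero.1 hy) (Ideal.Quotient.eq_zero_iff_mem.2 h)
    show IsUnit (algebraMap A P a)
    rw [IsScalarTower.algebraMap_apply A Bq P, IsScalarTower.algebraMap_apply A B Bq]
    refine (IsLocalization.map_units Bq (⟨algebraMap A B a, ?_⟩ : q.primeCompl)).map _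
    show e (algebraMap A B a) ∉ p
    rwa [e.commutes]
  let φκ : p.ResidueField →ₐ[A] P :=
    { toRingHom := IsLocalization.lift (M := nonZeroDivisors (A ⧸ p)) (g := φ₁.toRingHom) hunit
      commutes' := fun a => by
        show IsLocalization.lift hunit (algebraMap (A ⧸ p) p.ResidueField (Ideal.Quotient.mk p a)) = _
        rw [IsLocalization.lift_eq]
        rfl }
  let ρ : p.ResidueField ⊗[A] B →ₐ[A] P :=
    Algebra.TensorProduct.lift φκ (IsScalarTower.toAlgHom A B P) fun _ _ => Commute.all _ _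
  let π' := GrothLib.SecLocus.bcSec e p.ResidueField
  have hπ : Function.Injective π' := fun x y hxy => by
    obtain ⟨r, rfl⟩ := hbij.2 x
    obtain ⟨r', rfl⟩ := hbij.2 y
    have h1 : ∀ r : p.ResidueField, π' (r ⊗ₜ (1 : B)) = r := fun r => by simp [π']
    exact congrArg _ ((h1 r).symm.trans (hxy.trans (h1 r')))
  have hmem : ∀ j ∈ J, algebraMap B Bq j ∈ p.map (algebraMap A Bq) := fun j hj => by
    have h1 : (1 : p.ResidueField) ⊗ₜ[A] j = 0 := hπ (by
      rw [map_zero, GrothLib.SecLocus.bcSec_tmul, show e j = 0 from hj, map_zero, mul_zero])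
    have h2 := congrArg ρ h1
    rw [map_zero, Algebra.TensorProduct.lift_tmul, map_one, _root_.one_mul] at h2
    exact Ideal.Quotient.eq_zero_iff_mem.1 h2
  have hkey : ∀ z ∈ p.map (algebraMap A B),
      z - algebraMap A B (e z) ∈ p.map (algebraMap A B) * J ∧ e z ∈ p := by
    intro z hz
    induction hz using Submodule.span_induction with
    | mem y hy =>
      obtain ⟨a, ha, rfl⟩ := hy
      rw [e.commutes]
      exact ⟨by simp, ha⟩
    | zero => exact ⟨by simp, by simp⟩
    | add x y _ _ hx hy =>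
      rw [map_add, map_add, add_sub_add_comm]
      exact ⟨add_mem hx.1 hy.1, add_mem hx.2 hy.2⟩
    | smul c x _ hx =>
      rw [smul_eq_mul, map_mul]
      refine ⟨?_, Ideal.mul_mem_left _ _ hx.2⟩
      rw [map_mul, show c * x - algebraMap A B (e c) * algebraMap A B (e x) =
        c * (x - algebraMap A B (e x)) + algebraMap A B (e x) * (c - algebraMap A B (e c)) by ring]
      refine add_mem (Ideal.mul_mem_left _ _ hx.1)
        (Ideal.mul_mem_mul (Ideal.mem_map_of_mem _ hx.2) ?_)
      show e (c - algebraMap A B (e c)) = 0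
      rw [map_sub, e.commutes]
      exact sub_self _
  have hbot : J.map (algebraMap B Bq) = ⊥ := by
    refine Submodule.eq_bot_of_le_smul_of_le_jacobson_bot (IsLocalRing.maximalIdeal Bq) _ (hJ.map _) ?_ ?_
    · rw [Ideal.map_le_iff_le_comap]
      intro j hj
      have h1 := hmem j hj
      rw [IsScalarTower.algebraMap_eq A B Bq, ← Ideal.map_map,
        IsLocalization.algebraMap_mem_map_algebraMap_iff q.primeCompl Bq] at h1
      obtain ⟨s, hs, hsj⟩ := h1
      have h2 := (hkey (s * j) hsj).1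
      rw [map_mul, show e j = 0 from hj, mul_zero, map_zero, sub_zero] at h2
      have h3 : algebraMap B Bq (s * j) ∈ (p.map (algebraMap A B) * J).map (algebraMap B Bq) :=
        Ideal.mem_map_of_mem _ h2
      rw [Ideal.map_mul, map_mul] at h3
      have h4 : (p.map (algebraMap A B)).map (algebraMap B Bq) ≤ IsLocalRing.maximalIdeal Bq := by
        refine Ideal.map_le_iff_le_comap.2 fun z hz => ?_
        exact (IsLocalization.AtPrime.to_map_mem_maximal_iff Bq q z).2 (hkey z hz).2
      show algebraMap B Bq j ∈ IsLocalRing.maximalIdeal Bq * J.map (algebraMap B Bq)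
      exact Ideal.unit_mul_mem_iff_mem _ (IsLocalization.map_units Bq ⟨s, hs⟩) |>.1
        (Ideal.mul_mono_left h4 h3)
    · exact IsLocalRing.maximalIdeal_le_jacobson _
  obtain ⟨F, hF⟩ := hJ
  have hann : ∀ j ∈ F, ∃ s ∈ q.primeCompl, s * j = 0 := fun j hj => by
    have : algebraMap B Bq j = 0 := by
      rw [← Ideal.mem_bot, ← hbot]
      exact Ideal.mem_map_of_mem _ (hF.le (Ideal.subset_span hj))
    obtain ⟨⟨s, hs⟩, hs'⟩ := (IsLocalization.map_eq_zero_iff q.primeCompl Bq j).1 this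
    exact ⟨s, hs, hs'⟩
  choose c hc hc' using hann
  refine ⟨∏ j ∈ F.attach, c j.1 j.2, fun h => ?_, fun j hj => ?_⟩
  · obtain ⟨i, -, hi⟩ := (‹p.IsPrime›).prod_mem_iff.1 (by rwa [map_prod] at h)
    exact hc i.1 i.2 hi
  · refine Submodule.span_induction (p := fun x _ => (∏ j ∈ F.attach, c j.1 j.2) * x = 0)
      (fun x hx => ?_) (mul_zero _) (fun x y _ _ hx hy => by rw [mul_add, hx, hy, add_zero])
      (fun r x _ hx => by rw [smul_eq_mul, mul_left_comm, hx, mul_zero]) (hF.ge hj)
    rw [← Finset.mul_prod_erase _ _ (Finset.mem_attach F ⟨x, hx⟩), mul_right_comm, hc' x hx, zero_mul]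

/-- Inverting a function on the base near the point gives an isomorphism of rings. -/
theorem bijective_away {A B : Type u} [CommRing A] [CommRing B] [Algebra A B]
    (e : B →ₐ[A] A) (f : B) (hf : ∀ j ∈ RingHom.ker e, f * j = 0) (a : A)
    (hu : IsUnit (algebraMap B (Localization.Away (algebraMap A B a)) f)) :
    Function.Bijective (IsLocalization.Away.map (Localization.Away a)
      (Localization.Away (algebraMap A B a)) (algebraMap A B) a) := by
  let Aa := Localization.Away a
  let Ba := Localization.Away (algebraMap A B a)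
  let t := IsLocalization.Away.map Aa Ba (algebraMap A B) a
  have ht : ∀ x, t (algebraMap A Aa x) = algebraMap B Ba (algebraMap A B x) := fun x =>
    IsLocalization.map_eq _ x
  have hu' : IsUnit ((algebraMap A Aa).comp e.toRingHom (algebraMap A B a)) := by
    show IsUnit (algebraMap A Aa (e (algebraMap A B a)))
    rw [e.commutes]
    exact IsLocalization.Away.algebraMap_isUnit a
  let ea : Ba →+* Aa := IsLocalization.Away.lift (algebraMap A B a) hu'
  have hea : ∀ b, ea (algebraMap B Ba b) = algebraMap A Aa (e b) := fun b =>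
    IsLocalization.Away.lift_eq _ hu' b
  have hr : ∀ b, algebraMap B Ba b = t (algebraMap A Aa (e b)) := fun b => by
    rw [ht, ← sub_eq_zero, ← map_sub]
    apply hu.mul_right_eq_zero.1
    rw [← map_mul, hf _ (by rw [RingHom.mem_ker, map_sub, e.commutes]; exact sub_self _), map_zero]
  have h1 : ea.comp t = RingHom.id Aa := IsLocalization.ringHom_ext (Submonoid.powers a)
    (RingHom.ext fun x => by
      show ea (t (algebraMap A Aa x)) = algebraMap A Aa x
      rw [ht, hea, e.commutes]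
      rfl)
  have h2 : t.comp ea = RingHom.id Ba :=
    IsLocalization.ringHom_ext (Submonoid.powers (algebraMap A B a))
      (RingHom.ext fun b => by
        show t (ea (algebraMap B Ba b)) = algebraMap B Ba b
        rw [hea, ← hr])
  exact Function.bijective_iff_has_inverse.2
    ⟨ea, fun x => RingHom.congr_fun h1 x, fun y => RingHom.congr_fun h2 y⟩

/-- The statement. -/
theorem main (X S : Scheme.{u}) (π : X ⟶ S) (ε : S ⟶ X) (hε : ε ≫ π = 𝟙 S)
    (hcl : IsClosedMap π.base) (s : S)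
    (hfp : ∃ W : X.Opens, ε.base s ∈ W ∧ LocallyOfFinitePresentation (W.ι ≫ π))
    (hs : IsIso (π.fiberToSpecResidueField s)) :
    ∃ U : S.Opens, s ∈ U ∧ IsIso (π ∣_ U) := by
  obtain ⟨W, hxW, hW⟩ := hfp
  have hπε : ∀ t, π (ε t) = t := fun t => congrArg (fun w => w t) hε
  have hone : ∀ y, π y = s → y = ε s := fun y hy => by
    have : Subsingleton ↥(π.fiber s) :=
      (π.fiberToSpecResidueField s).homeomorph.toEquiv.subsingleton
    obtain ⟨y', hy'⟩ := (π.range_fiberι s).ge (show y ∈ π ⁻¹' {s} from hy)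
    obtain ⟨x', hx'⟩ := (π.range_fiberι s).ge (show ε s ∈ π ⁻¹' {s} from hπε s)
    rw [← hy', ← hx', Subsingleton.elim y' x']
  -- compatible affine charts
  obtain ⟨U₀, hU₀, hsU₀, -⟩ := exists_isAffineOpen_mem_and_subset (x := s) (U := (⊤ : S.Opens)) trivial
  obtain ⟨Ω₀, hΩ₀, hxΩ₀, hΩ₀'⟩ := exists_isAffineOpen_mem_and_subset (x := ε s) (U := W ⊓ π ⁻¹ᵁ U₀)
    ⟨hxW, by show π (ε s) ∈ U₀; rw [hπε]; exact hsU₀⟩
  have hΩ₀W : Ω₀ ≤ W := fun y hy => (hΩ₀' hy).1
  have hΩ₀U : Ω₀ ≤ π ⁻¹ᵁ U₀ := fun y hy => (hΩ₀' hy).2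
  obtain ⟨a₀, ha₀, hsa₀⟩ := hU₀.exists_basicOpen_le (V := U₀ ⊓ ε ⁻¹ᵁ Ω₀) ⟨s, hsU₀, hxΩ₀⟩ hsU₀
  let V := S.basicOpen a₀
  have hV : IsAffineOpen V := hU₀.basicOpen a₀
  let Ω := X.basicOpen (π.appLE U₀ Ω₀ hΩ₀U a₀)
  have hΩ : IsAffineOpen Ω := hΩ₀.basicOpen _
  have hΩmem : ∀ y, y ∈ Ω ↔ y ∈ Ω₀ ∧ π y ∈ V := fun y => by
    rw [show Ω = Ω₀ ⊓ π ⁻¹ᵁ V from Scheme.basicOpen_appLE π Ω₀ U₀ hΩ₀U a₀]
    rfl
  let j := hV.fromSpec
  let φ := hΩ.fromSpec
  have := hV.isOpenImmersion_fromSpec
  have := hΩ.isOpenImmersion_fromSpec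
  have hr₁ : Set.range (φ ≫ π) ⊆ Set.range j := by
    rw [hV.range_fromSpec]
    rintro _ ⟨q, rfl⟩
    exact ((hΩmem _).1 (hΩ.range_fromSpec.le ⟨q, rfl⟩)).2
  have hr₂ : Set.range (j ≫ ε) ⊆ Set.range φ := by
    rw [hΩ.range_fromSpec]
    rintro _ ⟨q, rfl⟩
    have hq : j q ∈ V := hV.range_fromSpec.le ⟨q, rfl⟩
    exact (hΩmem _).2 ⟨(ha₀ hq).2, by show π (ε (j q)) ∈ V; rw [hπε]; exact hq⟩
  let θ := Spec.preimage (IsOpenImmersion.lift j (φ ≫ π) hr₁)
  let e₀ := Spec.preimage (IsOpenImmersion.lift φ (j ≫ ε) hr₂)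
  have hθ : Spec.map θ ≫ j = φ ≫ π := by rw [Spec.map_preimage, IsOpenImmersion.lift_fac]
  have he : Spec.map e₀ ≫ φ = j ≫ ε := by rw [Spec.map_preimage, IsOpenImmersion.lift_fac]
  have heA : θ ≫ e₀ = 𝟙 _ := Spec.map_injective (by
    rw [← cancel_mono j, Spec.map_comp, Category.assoc, hθ, ← Category.assoc, he, Category.assoc,
      hε, Category.comp_id, Spec.map_id, Category.id_comp])
  letI : Algebra Γ(S, V) Γ(X, Ω) := θ.hom.toAlgebra
  let e : Γ(X, Ω) →ₐ[Γ(S, V)] Γ(S, V) :=
    { e₀.hom with commutes' := fun x => congrArg (fun w => w.hom x) heA }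
  have hrW : Set.range φ ⊆ Set.range W.ι := by
    rw [hΩ.range_fromSpec, Scheme.Opens.range_ι]
    exact fun y hy => hΩ₀W ((hΩmem y).1 hy).1
  let φ' := IsOpenImmersion.lift W.ι φ hrW
  haveI : IsOpenImmersion (φ' ≫ W.ι) := by rw [IsOpenImmersion.lift_fac]; infer_instance
  haveI : IsOpenImmersion φ' := IsOpenImmersion.of_comp φ' W.ι
  have hfp' : Algebra.FinitePresentation Γ(S, V) Γ(X, Ω) :=
    GrothLib.SecLocus.finitePresentation_chart (W.ι ≫ π) j φ'
      (by rw [IsOpenImmersion.lift_fac_assoc]; exact hθ.symm)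
  have hker : (RingHom.ker e).FG :=
    Algebra.FinitePresentation.ker_fG_of_surjective e fun x => ⟨algebraMap _ _ x, e.commutes x⟩
  -- the point and its fibre
  have hsj : s ∈ Set.range j := by rw [hV.range_fromSpec]; exact hsa₀
  obtain ⟨p, hp⟩ : ∃ p : PrimeSpectrum Γ(S, V), j p = s := hsj
  let κ := p.asIdeal.ResidueField
  let g := Spec.map (CommRingCat.ofHom (algebraMap Γ(S, V) κ)) ≫ j
  haveI : IsIso (pullback.snd π g) := by
    obtain ⟨⟨s', σ⟩, hσ⟩ := (Scheme.SpecToEquivOfField κ S).symm.surjective g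
    have hs' : s' = s := by
      have h1 := congrArg (fun w => w (IsLocalRing.closedPoint κ)) hσ
      rw [← hp]
      refine ((S.fromSpecResidueField_apply s' (Spec.map σ (IsLocalRing.closedPoint κ))).symm.trans
        h1).trans (congrArg j ?_)
      refine PrimeSpectrum.ext ?_
      show Ideal.comap (algebraMap Γ(S, V) κ) (IsLocalRing.closedPoint κ).asIdeal = p.asIdeal
      rw [show (IsLocalRing.closedPoint κ).asIdeal = (⊥ : Ideal κ) from IsLocalRing.maximalIdeal_eq_bot,
        ← RingHom.ker_eq_comap_bot, Ideal.ker_algebraMap_residueField]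
    subst hs'
    have h2 : g = Spec.map σ ≫ S.fromSpecResidueField s' := hσ.symm
    rw [h2, ← pullbackLeftPullbackSndIso_inv_snd_snd π (S.fromSpecResidueField s') (Spec.map σ)]
    haveI : IsIso (pullback.snd π (S.fromSpecResidueField s')) := hs
    infer_instance
  obtain ⟨c, hc, -, hc₂⟩ := GrothLib.SecLocus.exists_chart_bc π j φ hθ.symm κ
  let inc := CommRingCat.ofHom
    (Algebra.TensorProduct.includeLeftRingHom : κ →+* κ ⊗[Γ(S, V)] Γ(X, Ω))
  haveI : IsOpenImmersion (Spec.map inc) := by rw [← hc₂]; infer_instance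
  haveI : Surjective (Spec.map inc) := ⟨fun y =>
    ⟨Spec.map (CommRingCat.ofHom (GrothLib.SecLocus.bcSec e κ).toRingHom)
      (IsLocalRing.closedPoint κ), Subsingleton.elim (α := PrimeSpectrum κ) _ _⟩⟩
  have hbij : Function.Bijective inc.hom := by
    haveI : IsIso (Spec.map inc) := by
      haveI : Epi (Spec.map inc).base := (TopCat.epi_iff_surjective _).2 (Spec.map inc).surjective
      exact IsOpenImmersion.isIso _
    haveI : IsIso inc := by rwa [← isIso_op_iff, ← isIso_iff_of_reflects_iso _ Scheme.Spec]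
    exact ConcreteCategory.bijective_of_isIso inc
  obtain ⟨f, hfp'', hf⟩ := exists_annihilator e hker p.asIdeal hbij
  -- shrink the base
  have hx : ε s = φ (Spec.map e₀ p) := by
    rw [← Scheme.Hom.comp_apply, he, Scheme.Hom.comp_apply, hp]
  have hmem : Spec.map e₀ p ∈ PrimeSpectrum.basicOpen f := hfp''
  let O : X.Opens := φ ''ᵁ PrimeSpectrum.basicOpen f
  have hcl' : IsClosed (π '' (O : Set X)ᶜ) := hcl _ O.2.isClosed_compl
  have hpO : p ∈ j ⁻¹' (π '' (O : Set X)ᶜ)ᶜ := by
    rintro ⟨y, hy, hy'⟩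
    exact hy ⟨_, hmem, (hone y (hy'.trans hp)).trans hx |>.symm⟩
  obtain ⟨_, ⟨a, rfl⟩, hpa, ha⟩ :=
    (PrimeSpectrum.isTopologicalBasis_basic_opens (R := Γ(S, V))).exists_subset_of_mem_open hpO
      (hcl'.isOpen_compl.preimage j.continuous)
  let Aa := Localization.Away a
  let Ba := Localization.Away (algebraMap Γ(S, V) Γ(X, Ω) a)
  let ja := Spec.map (CommRingCat.ofHom (algebraMap Γ(S, V) Aa)) ≫ j
  let φa := Spec.map (CommRingCat.ofHom (algebraMap Γ(X, Ω) Ba)) ≫ φ
  haveI : IsOpenImmersion (Spec.map (CommRingCat.ofHom (algebraMap Γ(S, V) Aa))) :=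
    IsOpenImmersion.of_isLocalization a
  haveI : IsOpenImmersion (Spec.map (CommRingCat.ofHom (algebraMap Γ(X, Ω) Ba))) :=
    IsOpenImmersion.of_isLocalization (algebraMap Γ(S, V) Γ(X, Ω) a)
  let t := IsLocalization.Away.map Aa Ba (algebraMap Γ(S, V) Γ(X, Ω)) a
  have htc : t.comp (algebraMap Γ(S, V) Aa) = (algebraMap Γ(X, Ω) Ba).comp (algebraMap Γ(S, V) Γ(X, Ω)) :=
    IsLocalization.map_comp _
  have ht : φa ≫ π = Spec.map (CommRingCat.ofHom t) ≫ ja := by
    rw [Category.assoc, ← hθ, ← Category.assoc, ← Category.assoc, ← Spec.map_comp, ← Spec.map_comp]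
    congr 2
    refine CommRingCat.hom_ext (RingHom.ext fun x => ?_)
    exact (RingHom.congr_fun htc x).symm
  have hrU : Set.range ja = (S.basicOpen a : Set S) := by
    rw [← hV.fromSpec_image_basicOpen a, Scheme.Hom.comp_base, TopCat.coe_comp, Set.range_comp]
    exact congrArg (j '' ·) (PrimeSpectrum.localization_away_comap_range Aa a)
  have hU : ∀ y, π y ∈ Set.range ja → y ∈ O := fun y hy => by
    by_contra hy'
    obtain ⟨q, hq⟩ := hy
    exact ha ((PrimeSpectrum.localization_away_comap_range Aa a).le ⟨q, rfl⟩) ⟨y, hy', hq.symm⟩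
  have hbasic : ∀ q, q ∈ PrimeSpectrum.basicOpen (algebraMap Γ(S, V) Γ(X, Ω) a) →
      q ∈ PrimeSpectrum.basicOpen f := fun q hq => by
    have h1 : π (φ q) ∈ Set.range ja := by
      rw [hrU, ← hV.fromSpec_image_basicOpen a]
      exact ⟨Spec.map θ q, hq, congrArg (fun w => w q) hθ⟩
    obtain ⟨q', hq', e'⟩ := hU _ h1
    rwa [← φ.isOpenEmbedding.injective e']
  have hu : IsUnit (algebraMap Γ(X, Ω) Ba f) := by
    rw [IsLocalization.Away.algebraMap_isUnit_iff (algebraMap Γ(S, V) Γ(X, Ω) a)]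
    obtain ⟨n, hn⟩ := (PrimeSpectrum.basicOpen_le_basicOpen_iff _ _).1 hbasic
    exact ⟨n, Ideal.mem_span_singleton.1 hn⟩
  have hiso : IsIso (Spec.map (CommRingCat.ofHom t)) := by
    haveI : IsIso (CommRingCat.ofHom t) :=
      (ConcreteCategory.isIso_iff_bijective _).2 (bijective_away e f hf a hu)
    infer_instance
  let U : S.Opens := S.basicOpen a
  have hsU : s ∈ U := by
    show s ∈ (S.basicOpen a : Set S)
    rw [← hV.fromSpec_image_basicOpen a]
    exact ⟨p, hpa, hp⟩
  refine ⟨U, hsU, ?_⟩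
  have e₁ : Set.range φa = Set.range (π ⁻¹ᵁ U).ι := by
    rw [Scheme.Opens.range_ι]
    ext y
    constructor
    · rintro ⟨q, rfl⟩
      show π (φa q) ∈ (U : Set S)
      rw [← hrU]
      exact ⟨Spec.map (CommRingCat.ofHom t) q, (congrArg (fun w => w q) ht).symm⟩
    · intro hy
      obtain ⟨q, -, rfl⟩ := hU y (hrU.ge hy)
      have hq : π (φ q) ∈ ((j ''ᵁ PrimeSpectrum.basicOpen a : S.Opens) : Set S) := by
        rw [hV.fromSpec_image_basicOpen]; exact hy
      obtain ⟨q', hq', hqq⟩ := hq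
      have h1 : Spec.map θ q = q' :=
        j.isOpenEmbedding.injective ((congrArg (fun w => w q) hθ).trans hqq.symm)
      obtain ⟨r, hr⟩ := (PrimeSpectrum.localization_away_comap_range Ba
        (algebraMap Γ(S, V) Γ(X, Ω) a)).ge (show Spec.map θ q ∈ PrimeSpectrum.basicOpen a by rw [h1]; exact hq')
      exact ⟨r, congrArg φ hr⟩
  have e₂ : Set.range ja = Set.range U.ι := by rw [Scheme.Opens.range_ι]; exact hrU
  have hcomm : (IsOpenImmersion.isoOfRangeEq φa (π ⁻¹ᵁ U).ι e₁).hom ≫ (π ∣_ U) =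
      Spec.map (CommRingCat.ofHom t) ≫ (IsOpenImmersion.isoOfRangeEq ja U.ι e₂).hom := by
    rw [← cancel_mono U.ι, Category.assoc, morphismRestrict_ι, Category.assoc,
      IsOpenImmersion.isoOfRangeEq_hom_fac, ← Category.assoc, IsOpenImmersion.isoOfRangeEq_hom_fac, ht]
  haveI := hiso
  haveI : IsIso ((IsOpenImmersion.isoOfRangeEq φa (π ⁻¹ᵁ U).ι e₁).hom ≫ (π ∣_ U)) := by
    rw [hcomm]; infer_instance
  exact IsIso.of_isIso_comp_left (IsOpenImmersion.isoOfRangeEq φa (π ⁻¹ᵁ U).ι e₁).hom _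

/-- Consider a morphism π : X → S admitting a section ε, and assume the map of underlying spaces of π is
closed. Fix a point s of S, and suppose that on some open neighbourhood of ε(s) the morphism π is
locally of finite presentation, and that the fibre X_s → Spec κ(s) is an isomorphism. Under these
assumptions one can find an open subset U of S containing s such that π restricts to an isomorphism
π⁻¹(U) → U (consequently ε restricted to U is an isomorphism onto π⁻¹(U)). -/
theorem result (X S : Scheme.{u}) (π : X ⟶ S) (ε : S ⟶ X) (hε : ε ≫ π = 𝟙 S)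
    (hcl : IsClosedMap π.base) (s : S)
    (hfp : ∃ W : X.Opens, ε.base s ∈ W ∧ LocallyOfFinitePresentation (W.ι ≫ π))
    (hs : IsIso (π.fiberToSpecResidueField s)) :
    ∃ U : S.Opens, s ∈ U ∧ IsIso (π ∣_ U) := by

  exact main X S π ε hε hcl s hfp hs

end Groth.Agent.S5321
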