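import Groth.Statements.S5323
import Groth.Agent.Lib.Neutral.Pairs

set_option autoImplicit false
universe u
open CategoryTheory CategoryTheory.Limits MonoidalCategory CartesianMonoidalCategory MonObj GrpObj AlgebraicGeometry
open SGA3

namespace Groth.Agent.S5323

/-- Let S be a quasi-compact quasi-separated scheme and G an S-group scheme whose fibres G_s are locally
of finite type over κ(s). Then there is a quasi-compact open subset of G containing the union of the
neutral components of the fibres G_s. -/
theorem result (S : Scheme.{u}) [CompactSpace S] [QuasiSeparatedSpace S]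
    (G : Over S) [GrpObj G] (hG : ∀ s : S, LocallyOfFiniteType (G.hom.fiberToSpecResidueField s)) :
    ∃ U : G.left.Opens, IsCompact (U : Set G.left) ∧ SGA3x.neutralSet G ⊆ U := by
  haveI : QuasiSeparatedSpace (⊤ : S.Opens).toScheme :=
    QuasiSeparatedSpace.of_isOpenEmbedding (⊤ : S.Opens).ι.isOpenEmbedding
  obtain ⟨U, hU, -, hsub⟩ := GrothLib.Neutral.exists_isCompact_supset G hG ⊤ isCompact_univ
  exact ⟨U, hU, fun g hg => hsub ⟨hg, trivial⟩⟩

end Groth.Agent.S5323
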