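import Groth.Statements.S5327
import Groth.Agent.Lib.Neutral.OpenSubgroup

set_option autoImplicit false
universe u
open CategoryTheory CategoryTheory.Limits MonoidalCategory CartesianMonoidalCategory MonObj GrpObj AlgebraicGeometry
open SGA3

namespace Groth.Agent.S5327

/-- Let G be an S-group scheme whose fibres are locally of finite type over κ(s), and let i : H → G be a
homomorphism of S-group schemes which is an open immersion (an open subgroup scheme). Then the union
G⁰ of the neutral components of the fibres of G is contained in the image of i, and G⁰ is the image
under i of the union H⁰ of the neutral components of the fibres of H. -/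
theorem result (S : Scheme.{u}) (G H : Over S) [GrpObj G] [GrpObj H]
    (hG : ∀ s : S, LocallyOfFiniteType (G.hom.fiberToSpecResidueField s)) (i : H ⟶ G) [IsMonHom i]
    [IsOpenImmersion i.left] :
    SGA3x.neutralSet G ⊆ Set.range i.left.base ∧ i.left.base '' SGA3x.neutralSet H = SGA3x.neutralSet G := by
  exact ⟨GrothLib.Neutral.neutralSet_subset_range G H i hG, GrothLib.Neutral.image_neutralSet_eq G H i hG⟩

end Groth.Agent.S5327
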