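import Groth.Statements.S5328
import Groth.Agent.Lib.Neutral.HomImage

set_option autoImplicit false
universe u
open CategoryTheory CategoryTheory.Limits MonoidalCategory CartesianMonoidalCategory MonObj GrpObj AlgebraicGeometry
open SGA3

namespace Groth.Agent.S5328

/-- Let u : G → H be a homomorphism between S-group schemes locally of finite presentation over S, and
let G⁰, H⁰ be the unions of the neutral components of the fibres. If u is flat then u(G⁰) = H⁰.
Conversely, if G is flat over S, the fibres H_s are reduced and u(G⁰) = H⁰, then u is flat. -/
theorem result (S : Scheme.{u}) (G H : Over S) [GrpObj G] [GrpObj H]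
    [LocallyOfFinitePresentation G.hom] [LocallyOfFinitePresentation H.hom] (u : G ⟶ H) [IsMonHom u] :
    (Flat u.left → u.left.base '' SGA3x.neutralSet G = SGA3x.neutralSet H) ∧
    (Flat G.hom → (∀ s : S, IsReduced (H.hom.fiber s)) → u.left.base '' SGA3x.neutralSet G = SGA3x.neutralSet H →
      Flat u.left) := by
  refine ⟨fun hu => ?_, fun hG hred himg => ?_⟩
  · haveI := hu
    exact GrothLib.Neutral.image_neutralSet_of_flat G H u
  · haveI := hG
    exact GrothLib.Neutral.flat_of_image_neutralSet G H u hred himg

end Groth.Agent.S5328
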