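import Groth.Statements.S5331
import Groth.Agent.Lib.GrpSchField.Shear
import Mathlib.AlgebraicGeometry.Morphisms.ClosedImmersion
import Mathlib.AlgebraicGeometry.Morphisms.Separated
import Mathlib.AlgebraicGeometry.Morphisms.Immersion

set_option autoImplicit false
universe u
open CategoryTheory CategoryTheory.Limits MonoidalCategory CartesianMonoidalCategory MonObj GrpObj AlgebraicGeometry
open SGA3

namespace Groth.Agent.S5331

/-- Let S be a scheme whose underlying topological space is discrete. Then every S-group scheme is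
separated over S. -/
theorem result (S : Scheme.{u}) [DiscreteTopology S] (G : Over S) [GrpObj G] :
    IsSeparated G.hom := by
  have he : η[G].left ≫ G.hom = 𝟙 S := GrothLib.GrpSchField.eta_left_hom G
  have hpt : ∀ s : S, G.hom (η[G].left s) = s := fun s => congrArg (fun k : S ⟶ S => k s) he
  have hclosed : IsClosed (Set.range η[G].left) := by
    refine isClosed_of_closure_subset fun y hy => ?_
    refine ⟨G.hom y, ?_⟩
    obtain ⟨_, ⟨V, hV, rfl⟩, hyV, -⟩ :=
      G.left.isBasis_affineOpens.exists_subset_of_mem_open (Set.mem_univ y) isOpen_univ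
    let T : S.Opens := ⟨{G.hom y}, isOpen_discrete _⟩
    let W : G.left.Opens := V ⊓ G.hom ⁻¹ᵁ T
    have hyW : y ∈ W := ⟨hyV, rfl⟩
    obtain ⟨_, hzW, s, rfl⟩ := mem_closure_iff.mp hy W W.isOpen hyW
    have hs : s = G.hom y := (hpt s).symm.trans hzW.2
    subst hs
    haveI : AlgebraicGeometry.IsAffine V := hV
    haveI : Scheme.IsSeparated (W : Scheme.{u}) :=
      ⟨by
        rw [show terminal.from (W : Scheme.{u}) = G.left.homOfLE inf_le_left ≫ terminal.from (V : Scheme.{u}) from terminal.hom_ext _ _]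
        infer_instance⟩
    let π' : (W : Scheme.{u}) ⟶ (T : Scheme.{u}) := IsOpenImmersion.lift T.ι (W.ι ≫ G.hom) (by
      rintro _ ⟨w, rfl⟩
      rw [Scheme.Opens.range_ι]
      exact w.2.2)
    let σ : (T : Scheme.{u}) ⟶ (W : Scheme.{u}) := IsOpenImmersion.lift W.ι (T.ι ≫ η[G].left) (by
      rintro _ ⟨t, rfl⟩
      rw [Scheme.Opens.range_ι]
      have ht : T.ι t = G.hom y := t.2
      change η[G].left (T.ι t) ∈ W
      rw [ht]
      exact hzW)
    have hσ : σ ≫ π' = 𝟙 _ := by
      rw [← cancel_mono T.ι, Category.assoc, IsOpenImmersion.lift_fac, IsOpenImmersion.lift_fac_assoc, Category.assoc, he,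
        Category.comp_id, Category.id_comp]
    haveI : Subsingleton (T : Scheme.{u}) := ⟨fun a b => Subtype.ext (a.2.trans b.2.symm)⟩
    haveI : IsClosedImmersion σ := isClosedImmersion_of_comp_eq_id π' σ hσ
    have hr : Set.range σ = {σ ⟨G.hom y, rfl⟩} := by
      ext w
      refine ⟨?_, fun h => ⟨_, h.symm⟩⟩
      rintro ⟨t, rfl⟩
      exact congrArg σ (Subtype.ext (t.2.trans rfl))
    have hcl : IsClosed (W.ι '' (Set.range σ) ∪ (↑W)ᶜ) := by
      rw [← isOpen_compl_iff]
      convert W.ι.isOpenEmbedding.isOpenMap _ σ.isClosedEmbedding.isClosed_range.isOpen_compl using 1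
      ext g
      simp only [Set.mem_compl_iff, Set.mem_union, Set.mem_image, not_or, not_not, not_exists, not_and]
      refine ⟨fun ⟨h1, h2⟩ => ⟨⟨g, h2⟩, fun h => h1 _ h rfl, rfl⟩, ?_⟩
      rintro ⟨w, hw, rfl⟩
      exact ⟨fun v hv e => hw (W.ι.isOpenEmbedding.injective e ▸ hv), w.2⟩
    have hsub : Set.range η[G].left ⊆ W.ι '' (Set.range σ) ∪ (↑W)ᶜ := by
      rintro _ ⟨s, rfl⟩
      by_cases h : η[G].left s ∈ W
      · have hs : s = G.hom y := (hpt s).symm.trans h.2
        refine Or.inl ⟨_, ⟨⟨s, hs⟩, rfl⟩, ?_⟩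
        change (σ ≫ W.ι) ⟨s, hs⟩ = _
        rw [IsOpenImmersion.lift_fac]
        rfl
      · exact Or.inr h
    rcases closure_minimal hsub hcl hy with ⟨w, ⟨t, rfl⟩, e⟩ | h
    · have ht : T.ι t = G.hom y := t.2
      change η[G].left (G.hom y) = y
      calc η[G].left (G.hom y) = (T.ι ≫ η[G].left) t := by rw [← ht]; rfl
        _ = (σ ≫ W.ι) t := by rw [IsOpenImmersion.lift_fac]
        _ = y := e
    · exact absurd hyW h
  haveI : IsImmersion (η[G].left ≫ G.hom) := by
    rw [he]
    exact MorphismProperty.id_mem @IsImmersion S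
  haveI : IsImmersion η[G].left := IsImmersion.of_comp _ G.hom
  exact ⟨GrothLib.GrpSchField.diagonal_property @IsClosedImmersion (IsClosedImmersion.of_isPreimmersion _ hclosed)⟩

end Groth.Agent.S5331
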