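import Groth.Statements.S5333
import Groth.Agent.Lib.RedSub.Basic
import Mathlib.AlgebraicGeometry.Morphisms.Separated
import Mathlib.AlgebraicGeometry.PullbackCarrier

set_option autoImplicit false
universe u
open CategoryTheory CategoryTheory.Limits MonoidalCategory CartesianMonoidalCategory MonObj GrpObj AlgebraicGeometry
open SGA3

namespace Groth.Agent.S5333

/-- (i) ⟺ (iii) ⟺ (iv'): let f : X → S be a morphism of schemes. Then X is separated over S if and only
if for every reduced scheme T and every two morphisms T → X with the same composite to S which agree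
on a dense open subscheme of T are equal; and X is separated over S if and only if every two points
of X in the same fibre over S lie in a common open subscheme of X which is separated over S. -/
theorem result (X S : Scheme.{u}) (f : X ⟶ S) :
    (IsSeparated f ↔ ∀ (T : Scheme.{u}) [IsReduced T] (g₁ g₂ : T ⟶ X) (U : T.Opens), g₁ ≫ f = g₂ ≫ f →
      Dense (U : Set T) → U.ι ≫ g₁ = U.ι ≫ g₂ → g₁ = g₂) ∧
    (IsSeparated f ↔ ∀ x₁ x₂ : X, f.base x₁ = f.base x₂ →
      ∃ V : X.Opens, x₁ ∈ V ∧ x₂ ∈ V ∧ IsSeparated (V.ι ≫ f)) := by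
  have hclosed : IsClosed (Set.range (pullback.diagonal f).base) → IsSeparated f := fun h =>
    ⟨IsClosedImmersion.of_isPreimmersion _ h⟩
  refine ⟨⟨fun hf T _ g₁ g₂ U h hU hUe => ?_, fun H => hclosed ?_⟩, ⟨fun hf x₁ x₂ _ => ⟨⊤, trivial, trivial, inferInstance⟩, fun H => hclosed ?_⟩⟩
  · haveI : IsDominant U.ι := ⟨by rw [DenseRange, Scheme.Opens.range_ι]; exact hU⟩
    exact ext_of_isDominant_of_isSeparated f h U.ι hUe
  · set Δ := pullback.diagonal f
    let Z : TopologicalSpace.Closeds ↥(pullback f f) := TopologicalSpace.Closeds.closure (Set.range Δ.base)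
    let i := (Scheme.IdealSheafData.vanishingIdeal Z).subschemeι
    haveI : IsReduced (Scheme.IdealSheafData.vanishingIdeal Z).subscheme :=
      GrothLib.RedSub.isReduced_subscheme_vanishingIdeal Z
    have hi : Set.range i = closure (Set.range Δ.base) := GrothLib.RedSub.range_subschemeι_vanishingIdeal Z
    have hlc : IsLocallyClosed (Set.range Δ.base) := Δ.isLocallyClosed_range
    let D : (Scheme.IdealSheafData.vanishingIdeal Z).subscheme.Opens := ⟨i ⁻¹' Set.range Δ.base, by
      obtain ⟨O, K, hO, hK, e⟩ := hlc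
      have e' : i ⁻¹' Set.range Δ.base = i ⁻¹' O := by
        ext z
        refine ⟨fun hz => (e.le hz).1, fun hz => e.ge ⟨hz, ?_⟩⟩
        have : i z ∈ closure (Set.range Δ.base) := hi ▸ Set.mem_range_self z
        exact closure_minimal (e.trans_subset Set.inter_subset_right) hK this
      rw [e']
      exact hO.preimage i.continuous⟩
    have hD : Dense (D : Set (Scheme.IdealSheafData.vanishingIdeal Z).subscheme) := by
      intro z
      have hind : Topology.IsInducing i := i.isEmbedding.isInducing
      change z ∈ closure (i ⁻¹' Set.range Δ.base)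
      rw [hind.closure_eq_preimage_closure_image, Set.image_preimage_eq_inter_range, hi,
        Set.inter_eq_left.mpr subset_closure]
      have hz : i z ∈ closure (Set.range Δ.base) := hi ▸ Set.mem_range_self z
      rw [Set.mem_preimage]
      exact hz
    have hpr : D.ι ≫ i ≫ pullback.fst f f = D.ι ≫ i ≫ pullback.snd f f := by
      haveI : IsClosedImmersion (pullback.snd Δ (D.ι ≫ i)) := by
        haveI : Surjective (pullback.snd Δ (D.ι ≫ i)) := ⟨fun d => by
          obtain ⟨x, hx⟩ : (D.ι ≫ i) d ∈ Set.range Δ.base := d.2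
          obtain ⟨w, -, hw⟩ := Scheme.Pullback.exists_preimage_pullback x d hx
          exact ⟨w, hw⟩⟩
        refine IsClosedImmersion.of_isPreimmersion _ ?_
        rw [Set.range_eq_univ.mpr (pullback.snd Δ (D.ι ≫ i)).surjective]
        exact isClosed_univ
      haveI : Surjective (pullback.snd Δ (D.ι ≫ i)) := ⟨fun d => by
        obtain ⟨x, hx⟩ : (D.ι ≫ i) d ∈ Set.range Δ.base := d.2
        obtain ⟨w, -, hw⟩ := Scheme.Pullback.exists_preimage_pullback x d hx
        exact ⟨w, hw⟩⟩
      haveI := isIso_of_isClosedImmersion_of_surjective (pullback.snd Δ (D.ι ≫ i))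
      rw [← cancel_epi (pullback.snd Δ (D.ι ≫ i))]
      have h := pullback.condition (f := Δ) (g := D.ι ≫ i)
      calc pullback.snd Δ (D.ι ≫ i) ≫ D.ι ≫ i ≫ pullback.fst f f
          = (pullback.snd Δ (D.ι ≫ i) ≫ D.ι ≫ i) ≫ pullback.fst f f := by simp only [Category.assoc]
        _ = (pullback.fst Δ (D.ι ≫ i) ≫ Δ) ≫ pullback.fst f f := by rw [h]
        _ = (pullback.fst Δ (D.ι ≫ i) ≫ Δ) ≫ pullback.snd f f := by simp [Δ]
        _ = (pullback.snd Δ (D.ι ≫ i) ≫ D.ι ≫ i) ≫ pullback.snd f f := by rw [h]
        _ = _ := by simp only [Category.assoc]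
    have heq := H _ (i ≫ pullback.fst f f) (i ≫ pullback.snd f f) D
      (by rw [Category.assoc, Category.assoc, pullback.condition]) hD hpr
    have hiΔ : (i ≫ pullback.fst f f) ≫ Δ = i := by
      apply pullback.hom_ext
      · simp [Δ]
      · rw [Category.assoc, pullback.diagonal_snd, Category.comp_id, heq]
    apply isClosed_of_closure_subset
    rw [← hi]
    rintro _ ⟨z, rfl⟩
    exact ⟨(i ≫ pullback.fst f f) z, congrArg (fun k : _ ⟶ pullback f f => k z) hiΔ⟩
  · refine isOpen_compl_iff.mp (isOpen_iff_forall_mem_open.mpr fun z hz => ?_)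
    obtain ⟨V, h₁, h₂, hV⟩ := H (pullback.fst f f z) (pullback.snd f f z)
      (congrArg (fun k : pullback f f ⟶ S => k z) pullback.condition)
    let j : pullback (V.ι ≫ f) (V.ι ≫ f) ⟶ pullback f f :=
      pullback.map _ _ _ _ V.ι V.ι (𝟙 S) (by simp) (by simp)
    let O : (pullback f f).Opens := (pullback.fst f f ⁻¹ᵁ V) ⊓ (pullback.snd f f ⁻¹ᵁ V)
    have hj : ∀ p ∈ O, p ∈ Set.range j := fun p hp => by
      rw [Scheme.Pullback.range_map]
      exact ⟨by rw [Scheme.Opens.range_ι]; exact hp.1, by rw [Scheme.Opens.range_ι]; exact hp.2⟩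
    let K : Set ↥(pullback (V.ι ≫ f) (V.ι ≫ f)) := (Set.range (pullback.diagonal (V.ι ≫ f)).base)ᶜ
    have hK : IsOpen K := (pullback.diagonal (V.ι ≫ f)).isClosedEmbedding.isClosed_range.isOpen_compl
    refine ⟨j '' K, ?_, j.isOpenEmbedding.isOpenMap _ hK, ?_⟩
    · rintro _ ⟨w, hw, rfl⟩ ⟨x, hx⟩
      apply hw
      have hxV : x ∈ V := by
        have e : (j ≫ pullback.fst f f) w = x := by
          rw [Scheme.Hom.comp_apply, ← hx, ← Scheme.Hom.comp_apply, pullback.diagonal_fst]
          rfl
        rw [← e, show j ≫ pullback.fst f f = pullback.fst _ _ ≫ V.ι from pullback.lift_fst _ _ _]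
        exact (pullback.fst (V.ι ≫ f) (V.ι ≫ f) w).2
      refine ⟨⟨x, hxV⟩, j.isOpenEmbedding.injective ?_⟩
      have e : pullback.diagonal (V.ι ≫ f) ≫ j = V.ι ≫ pullback.diagonal f := by
        apply pullback.hom_ext
        · rw [Category.assoc, Category.assoc, pullback.diagonal_fst, Category.comp_id]
          erw [pullback.lift_fst]
          rw [pullback.diagonal_fst_assoc]
        · rw [Category.assoc, Category.assoc, pullback.diagonal_snd, Category.comp_id]
          erw [pullback.lift_snd]
          rw [pullback.diagonal_snd_assoc]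
      change (pullback.diagonal (V.ι ≫ f) ≫ j) ⟨x, hxV⟩ = j w
      rw [e]
      exact hx
    · obtain ⟨w, hw⟩ := hj z ⟨h₁, h₂⟩
      refine ⟨w, fun ⟨x, hx⟩ => hz ⟨V.ι x, ?_⟩, hw⟩
      have e : pullback.diagonal (V.ι ≫ f) ≫ j = V.ι ≫ pullback.diagonal f := by
        apply pullback.hom_ext
        · rw [Category.assoc, Category.assoc, pullback.diagonal_fst, Category.comp_id]
          erw [pullback.lift_fst]
          rw [pullback.diagonal_fst_assoc]
        · rw [Category.assoc, Category.assoc, pullback.diagonal_snd, Category.comp_id]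
          erw [pullback.lift_snd]
          rw [pullback.diagonal_snd_assoc]
      rw [← hw, ← hx]
      exact (congrArg (fun k : (V : Scheme.{u}) ⟶ pullback f f => k x) e).symm

end Groth.Agent.S5333
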