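import Groth.Statements.S5334
import Groth.Agent.Lib.Neutral.ActOpen

set_option autoImplicit false
universe u
open CategoryTheory CategoryTheory.Limits MonoidalCategory CartesianMonoidalCategory MonObj GrpObj AlgebraicGeometry
open SGA3

namespace Groth.Agent.S5334

/-- Let G be an S-group scheme locally of finite presentation over S such that s ↦ dim G_s is locally
constant on S, acting on an S-scheme X, and let U be an open subscheme of X separated over S. Let
G⁰·U be the image under the action G ×_S X → X of the set of points whose projection to G lies in
the union G⁰ of the neutral components of the fibres and whose projection to X lies in U. Then G⁰·U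
is open in X and the open subscheme it carries is separated over S. -/
theorem result (S : Scheme.{u}) (G X : Over S) [GrpObj G]
    [LocallyOfFinitePresentation G.hom]
    (hdim : IsLocallyConstant (fun s : S => topologicalKrullDim ↥(G.hom.base ⁻¹' {s})))
    (a : AlgGrp.Action G X) (U : X.left.Opens) (hU : IsSeparated (U.ι ≫ X.hom)) :
    ∃ V : X.left.Opens, (V : Set X.left) =
        a.act.left.base '' {z : ↥(G ⊗ X).left | (fst G X).left.base z ∈ SGA3x.neutralSet G ∧ (snd G X).left.base z ∈ U} ∧
      IsSeparated (V.ι ≫ X.hom) := by
  haveI := hU
  have hd : ∀ t s : S, t ⤳ s → GrothLib.Neutral.fibDim G t = GrothLib.Neutral.fibDim G s :=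
    fun t s h => h.mem_open (hdim.isOpen_fiber (GrothLib.Neutral.fibDim G s)) rfl
  let V : X.left.Opens := ⟨GrothLib.Neutral.neutralOrbit a U, GrothLib.Neutral.isOpen_neutralOrbit a hd U⟩
  exact ⟨V, rfl, GrothLib.Neutral.isSeparated_neutralOrbit a hd U V rfl⟩

end Groth.Agent.S5334
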