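import Groth.Statements.S5335
import Mathlib
import Groth.Agent.Lib.AlgSp.FieldBase
import Groth.Agent.Lib.Thickening.Morphisms
import Groth.Agent.Lib.GrpSchField.Shear

set_option autoImplicit false
universe u
open CategoryTheory CategoryTheory.Limits MonoidalCategory CartesianMonoidalCategory MonObj GrpObj AlgebraicGeometry
open SGA3

namespace Groth.Agent.S5335

/-- Let A be a local artinian ring and f : X' → X, g : Y' → Y two quasi-compact dominant morphisms of
schemes over A. Then the product morphism f ×_A g : X' ×_A Y' → X ×_A Y is dominant (and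
quasi-compact). -/
theorem result (A : Type u) [CommRing A] [IsArtinianRing A] [IsLocalRing A] (X X' Y Y' : Over (Spec (CommRingCat.of A)))
    (f : X' ⟶ X) (g : Y' ⟶ Y) [QuasiCompact f.left] [QuasiCompact g.left]
    (hf : DenseRange f.left.base) (hg : DenseRange g.left.base) :
    DenseRange (f ⊗ₘ g).left.base ∧ QuasiCompact (f ⊗ₘ g).left := by
  let i : Spec (CommRingCat.of (IsLocalRing.ResidueField A)) ⟶ Spec (CommRingCat.of A) :=
    Spec.map (CommRingCat.ofHom (IsLocalRing.residue A))
  have hsub : Subsingleton ↥(Spec (CommRingCat.of A)) := inferInstanceAs (Subsingleton (PrimeSpectrum A))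
  haveI : IsClosedImmersion i := IsClosedImmersion.spec_of_surjective _ IsLocalRing.residue_surjective
  haveI : Surjective i := ⟨fun p => ⟨IsLocalRing.closedPoint _, Subsingleton.elim _ _⟩⟩
  have huo : ∀ Z : Over (Spec (CommRingCat.of A)), UniversallyOpen Z.hom := fun Z => by
    haveI : Surjective (Limits.pullback.fst Z.hom i) := MorphismProperty.pullback_fst _ _ ‹_›
    haveI : UniversallyOpen (Limits.pullback.snd Z.hom i) := GrothLib.AlgSp.universallyOpen_to_field _
    haveI : UniversallyOpen i := GrothLib.Thickening.universallyOpen_of_surjective i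
    haveI : UniversallyOpen (Limits.pullback.fst Z.hom i ≫ Z.hom) := by
      rw [Limits.pullback.condition]; infer_instance
    exact GrothLib.Thickening.universallyOpen_of_comp_surjective (Limits.pullback.fst Z.hom i) Z.hom
  have key : ∀ {P Q : Scheme.{u}} (a : P ⟶ Q) {Q' P' : Scheme.{u}} (p : Q' ⟶ Q) (a' : P' ⟶ Q') (p' : P' ⟶ P),
      IsPullback p' a' a p → UniversallyOpen p → DenseRange a.base → DenseRange a'.base := by
    intro P Q a Q' P' p a' p' H hp ha
    haveI := hp
    have : p.base ⁻¹' Set.range a.base ⊆ Set.range a'.base := by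
      rintro q ⟨x, hx⟩
      obtain ⟨z, -, hz⟩ := Scheme.Pullback.exists_preimage_pullback x q hx
      exact ⟨H.isoPullback.inv.base z, by
        rw [← Scheme.Hom.comp_apply, H.isoPullback_inv_snd]; exact hz⟩
    exact Dense.mono this (Dense.preimage ha p.isOpenMap)
  have h1 : IsPullback (fst X' Y').left (f ▷ Y').left f.left (fst X Y').left :=
    ((GrothLib.GrpSchField.isPullback_whiskerRight f Y').map (Over.forget _)).flip
  have h2 : IsPullback (snd X Y').left (X ◁ g).left g.left (snd X Y).left := by
    have hb : IsPullback (snd X Y') (X ◁ g) g (snd X Y) := by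
      refine (GrothLib.GrpSchField.isPullback_whiskerRight g X).flip.of_iso (β_ Y' X) (Iso.refl _) (β_ Y X) (Iso.refl _) ?_ ?_ ?_ ?_ <;>
        simp
    exact hb.map (Over.forget _)
  have ho1 : UniversallyOpen (fst X Y').left := by
    haveI := huo Y'
    exact MorphismProperty.pullback_fst X.hom Y'.hom inferInstance
  have ho2 : UniversallyOpen (snd X Y).left := by
    haveI := huo X
    exact MorphismProperty.pullback_snd X.hom Y.hom inferInstance
  have d1 := key _ _ _ _ h1 ho1 hf
  have d2 := key _ _ _ _ h2 ho2 hg
  have e : (f ⊗ₘ g).left = (f ▷ Y').left ≫ (X ◁ g).left := by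
    rw [← Over.comp_left, ← MonoidalCategory.tensorHom_def]
  haveI : QuasiCompact (f ▷ Y').left := MorphismProperty.of_isPullback (P := @QuasiCompact) h1 ‹_›
  haveI : QuasiCompact (X ◁ g).left := MorphismProperty.of_isPullback (P := @QuasiCompact) h2 ‹_›
  rw [e]
  refine ⟨?_, inferInstance⟩
  rw [Scheme.Hom.comp_base, TopCat.coe_comp]
  exact d2.comp d1 (X ◁ g).left.continuous

end Groth.Agent.S5335
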