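import Groth.Statements.S5338
import Groth.Agent.Lib.Neutral.NilLiftAlg

set_option autoImplicit false
universe u
open CategoryTheory CategoryTheory.Limits MonoidalCategory CartesianMonoidalCategory MonObj GrpObj AlgebraicGeometry
open SGA3

namespace Groth.Agent.S5338

/-- Let A → B → C be homomorphisms of commutative rings and n a nilpotent ideal of A; write nB and nC
for the extended ideals. (i) If C/nC is a (B/nB)-algebra of finite type, then C is a B-algebra of
finite type. (ii) If moreover C is flat over A and C/nC is a (B/nB)-algebra of finite presentation,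
then C is a B-algebra of finite presentation. -/
theorem result (A B C : Type u) [CommRing A] [CommRing B] [CommRing C]
    [Algebra A B] [Algebra B C] [Algebra A C] [IsScalarTower A B C] (n : Ideal A) (hn : IsNilpotent n) :
    (Algebra.FiniteType (B ⧸ n.map (algebraMap A B)) (C ⧸ (n.map (algebraMap A B)).map (algebraMap B C)) →
      Algebra.FiniteType B C) ∧
    (Module.Flat A C →
      Algebra.FinitePresentation (B ⧸ n.map (algebraMap A B)) (C ⧸ (n.map (algebraMap A B)).map (algebraMap B C)) →
      Algebra.FinitePresentation B C) := by
  refine ⟨fun h => ?_, fun h1 h2 => @GrothLib.Neutral.finitePresentation_of_nilpotent B C _ _ _ A _ _ _ _ n hn h1 h2⟩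
  have hI : IsNilpotent (n.map (algebraMap A B)) := by
    obtain ⟨k, hk⟩ := hn
    exact ⟨k, by rw [← Ideal.map_pow, hk, Ideal.zero_eq_bot, Ideal.map_bot]; rfl⟩
  haveI := h
  exact GrothLib.Neutral.finiteType_of_nilpotent hI (Algebra.FiniteType.trans (R := B)
    (S := B ⧸ n.map (algebraMap A B)) (A := C ⧸ (n.map (algebraMap A B)).map (algebraMap B C))
    inferInstance h)

end Groth.Agent.S5338
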