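import Groth.Statements.S5343
import Mathlib.Algebra.Module.Projective
import Mathlib.RingTheory.Spectrum.Prime.Topology
import Mathlib.RingTheory.Spectrum.Prime.RingHom
import Mathlib.LinearAlgebra.Matrix.NonsingularInverse

set_option autoImplicit false
universe u
open CategoryTheory CategoryTheory.Limits MonoidalCategory CartesianMonoidalCategory MonObj GrpObj AlgebraicGeometry
open SGA3

namespace Groth.Agent.S5343

/-- Let R be a commutative ring and B a commutative R-algebra which is projective as an R-module. Then
the image of Spec B → Spec R is an open and closed subset of Spec R. (The published statement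
concerns a quasi-coherent algebra on any scheme which is a direct summand of a free module; this row
is the affine case.) -/
theorem result (R B : Type u) [CommRing R] [CommRing B] [Algebra R B] [Module.Projective R B] :
    IsClopen (Set.range (PrimeSpectrum.comap (algebraMap R B))) := by
  classical
  set f := algebraMap R B
  obtain ⟨s, hs⟩ := Module.projective_def'.mp (inferInstance : Module.Projective R B)
  let c : B →₀ R := s 1
  have hproj : ∀ x : B, Finsupp.linearCombination R (id : B → B) (s x) = x := fun x => LinearMap.congr_fun hs x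
  have h1 : Finsupp.linearCombination R (id : B → B) c = 1 := hproj 1
  -- membership in the image
  have hmem : ∀ p : PrimeSpectrum R, p ∈ Set.range (PrimeSpectrum.comap f) ↔
      p.asIdeal.map f ≠ ⊤ ∧ ∀ r, f r ∈ p.asIdeal.map f → r ∈ p.asIdeal := by
    intro p
    constructor
    · rintro ⟨P, rfl⟩
      refine ⟨fun h => P.isPrime.ne_top (top_le_iff.mp (h ▸ Ideal.map_comap_le)), fun r hr => ?_⟩
      rw [PrimeSpectrum.comap_asIdeal] at hr ⊢
      exact Ideal.mem_comap.mpr (Ideal.map_comap_le hr)
    · rintro ⟨-, h⟩
      exact (PrimeSpectrum.mem_range_comap_iff f).mpr (le_antisymm (fun r hr => h r hr) Ideal.le_comap_map)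
  -- coordinates of an element of `q B` lie in `q`
  have hcoord : ∀ (q : Ideal R) (x : B), x ∈ q.map f → ∀ j, s x j ∈ q := by
    intro q x hx
    rw [Ideal.map] at hx
    induction hx using Submodule.span_induction with
    | mem y hy =>
      obtain ⟨r, hr, rfl⟩ := hy
      intro j
      rw [show f r = r • (1 : B) from Algebra.algebraMap_eq_smul_one r, map_smul, Finsupp.smul_apply, smul_eq_mul]
      exact q.mul_mem_right _ hr
    | zero => simp
    | add y z _ _ hy hz => intro j; rw [map_add, Finsupp.add_apply]; exact q.add_mem (hy j) (hz j)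
    | smul b y hy' hy =>
      intro j
      rw [smul_eq_mul]
      conv => arg 2; rw [← hproj y]
      rw [Finsupp.linearCombination_apply, Finsupp.sum, Finset.mul_sum, map_sum, Finsupp.finsetSum_apply]
      refine q.sum_mem fun i _ => ?_
      rw [mul_smul_comm, map_smul, Finsupp.smul_apply, smul_eq_mul]
      exact q.mul_mem_right _ (hy i)
  have hrange : Set.range (PrimeSpectrum.comap f) = ⋃ j, (PrimeSpectrum.basicOpen (c j) : Set (PrimeSpectrum R)) := by
    ext p
    simp only [Set.mem_iUnion, SetLike.mem_coe, PrimeSpectrum.mem_basicOpen]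
    rw [hmem]
    constructor
    · rintro ⟨hp, -⟩
      by_contra hc
      simp only [not_exists, not_not] at hc
      apply hp
      rw [Ideal.eq_top_iff_one, ← h1, Finsupp.linearCombination_apply]
      refine Ideal.sum_mem _ fun i _ => ?_
      dsimp only
      rw [Algebra.smul_def]
      exact Ideal.mul_mem_right _ _ (Ideal.mem_map_of_mem f (hc i))
    · rintro ⟨j, hj⟩
      refine ⟨fun h => hj (hcoord _ 1 (h ▸ Submodule.mem_top) j), fun r hr => ?_⟩
      have := hcoord _ _ hr j
      rw [show f r = r • (1 : B) from Algebra.algebraMap_eq_smul_one r, map_smul, Finsupp.smul_apply, smul_eq_mul] at this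
      exact (p.isPrime.mem_or_mem this).resolve_right hj
  refine ⟨?_, hrange ▸ isOpen_iUnion fun j => (PrimeSpectrum.basicOpen (c j)).isOpen⟩
  refine isOpen_compl_iff.mp (isOpen_iff_forall_mem_open.mpr fun p hp => ?_)
  rw [hrange] at hp ⊢
  simp only [Set.mem_compl_iff, Set.mem_iUnion, SetLike.mem_coe, PrimeSpectrum.mem_basicOpen, not_exists, not_not] at hp
  let S : Finset B := c.support
  let A : Matrix S S R := fun i j => s (i : B) j
  let v : S → R := fun i => c i
  have htop : p.asIdeal.map f = ⊤ := by
    rw [Ideal.eq_top_iff_one, ← h1, Finsupp.linearCombination_apply]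
    refine Ideal.sum_mem _ fun i _ => ?_
    dsimp only
    rw [Algebra.smul_def]
    exact Ideal.mul_mem_right _ _ (Ideal.mem_map_of_mem f (hp i))
  have hA : ∀ i j, A i j ∈ p.asIdeal := fun i j => hcoord _ _ (htop ▸ Submodule.mem_top) _
  have hv : Matrix.vecMul v (1 - A) = 0 := by
    rw [Matrix.vecMul_sub, Matrix.vecMul_one, sub_eq_zero]
    funext j
    have hc : s (Finsupp.linearCombination R (id : B → B) c) = c := congrArg s h1
    conv_lhs => rw [show v j = c j from rfl, ← hc]
    rw [Finsupp.linearCombination_apply, Finsupp.sum, map_sum, Finsupp.finsetSum_apply]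
    simp only [map_smul, Finsupp.smul_apply, smul_eq_mul, id_eq]
    change ∑ x ∈ S, c x * s x j = _
    rw [← Finset.sum_coe_sort]
    rfl
  have hd : (1 - A).det ∉ p.asIdeal := by
    intro h
    have : Ideal.Quotient.mk p.asIdeal (1 - A).det = 1 := by
      rw [RingHom.map_det]
      have : (Ideal.Quotient.mk p.asIdeal).mapMatrix A = 0 := by
        ext i j; exact Ideal.Quotient.eq_zero_iff_mem.mpr (hA i j)
      simp [map_sub, this]
    rw [Ideal.Quotient.eq_zero_iff_mem.mpr h] at this
    exact zero_ne_one this
  have hkill : ∀ j, c j * (1 - A).det = 0 := by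
    intro j
    by_cases hj : j ∈ S
    · have := congrArg (fun w => Matrix.vecMul w (Matrix.adjugate (1 - A))) hv
      simp only [Matrix.vecMul_vecMul, Matrix.mul_adjugate, Matrix.zero_vecMul, Matrix.vecMul_smul, Matrix.vecMul_one] at this
      have := congrFun this ⟨j, hj⟩
      simpa [v, mul_comm] using this
    · simp [Finsupp.notMem_support_iff.mp hj]
  refine ⟨PrimeSpectrum.basicOpen (1 - A).det, ?_, (PrimeSpectrum.basicOpen _).isOpen, hd⟩
  intro q hq hq'
  obtain ⟨j, hj⟩ := Set.mem_iUnion.mp hq'
  rcases q.isPrime.mem_or_mem ((hkill j).symm ▸ q.asIdeal.zero_mem) with h | h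
  · exact hj h
  · exact hq h

end Groth.Agent.S5343
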