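import Groth.Statements.S5344
import Groth.Agent.Lib.Neutral.Artin

set_option autoImplicit false
universe u
open CategoryTheory CategoryTheory.Limits MonoidalCategory CartesianMonoidalCategory MonObj GrpObj AlgebraicGeometry
open SGA3

namespace Groth.Agent.S5344

/-- Let A be a local artinian ring and G an A-group scheme locally of finite type, and let G⁰ be the
connected component of the unit point. Then G⁰ is open in G; it is stable under the group law: for
every A-scheme T and all points g, h : T → G whose images lie in G⁰, the image of g h⁻¹ lies in G⁰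
(so G⁰ carries an open subgroup scheme, the neutral component); and it is normal: for every A-scheme
T, every point g : T → G and every point n : T → G whose image lies in G⁰, the image of g n g⁻¹ lies
in G⁰. -/
theorem result (A : Type u) [CommRing A] [IsArtinianRing A] [IsLocalRing A] (G : Over (Spec (CommRingCat.of A))) [GrpObj G] [LocallyOfFiniteType G.hom]
    (pt : ↥(𝟙_ (Over (Spec (CommRingCat.of A)))).left) :
    IsOpen (connectedComponent (η[G].left.base pt)) ∧
    (∀ (T : Over (Spec (CommRingCat.of A))) (g h : T ⟶ G), Set.range g.left.base ⊆ connectedComponent (η[G].left.base pt) →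
      Set.range h.left.base ⊆ connectedComponent (η[G].left.base pt) →
      Set.range (g * h⁻¹).left.base ⊆ connectedComponent (η[G].left.base pt)) ∧
    ∀ (T : Over (Spec (CommRingCat.of A))) (g n : T ⟶ G), Set.range n.left.base ⊆ connectedComponent (η[G].left.base pt) →
      Set.range (g * n * g⁻¹).left.base ⊆ connectedComponent (η[G].left.base pt) := by
  have hG : ∀ s, LocallyOfFiniteType (G.hom.fiberToSpecResidueField s) := fun s =>
    MorphismProperty.pullback_snd _ _ inferInstance
  have hN := GrothLib.Neutral.connectedComponent_unit_eq A G pt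
  refine ⟨GrothLib.Neutral.isOpen_connectedComponent A G _, fun T g h hg hh => ?_, fun T g n hn => ?_⟩
  · rintro _ ⟨t, rfl⟩
    rw [hN]
    have e : g * h⁻¹ = lift g h⁻¹ ≫ μ[G] := rfl
    rw [e, Over.comp_left, Scheme.Hom.comp_apply]
    refine GrothLib.Neutral.mul_mem_neutralSet G _ (hG _) ?_ ?_
    · rw [← Scheme.Hom.comp_apply, ← Over.comp_left, lift_fst, ← hN]
      exact hg ⟨t, rfl⟩
    · rw [← Scheme.Hom.comp_apply, ← Over.comp_left, lift_snd, Hom.inv_def, Over.comp_left,
        Scheme.Hom.comp_apply]
      exact GrothLib.Neutral.inv_mem_neutralSet G (hN ▸ hh ⟨t, rfl⟩)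
  · rintro _ ⟨t, rfl⟩
    rw [hN]
    exact GrothLib.Neutral.conj_mem_neutralSet G hG g n t (hN ▸ hn ⟨t, rfl⟩)

end Groth.Agent.S5344
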