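import Groth.Statements.S5346
import Groth.Agent.Lib.Neutral.Reduction

set_option autoImplicit false
universe u
open CategoryTheory CategoryTheory.Limits MonoidalCategory CartesianMonoidalCategory MonObj GrpObj AlgebraicGeometry
open SGA3

namespace Groth.Agent.S5346

/-- Let A be a local artinian ring with residue field k and i : Spec k → Spec A the closed point. (i) If
X is an A-scheme whose base change X ⊗_A k is locally of finite type (resp. of finite type) over k,
then X is locally of finite type (resp. of finite type) over A. (ii) If u : X → Y is a morphism of
A-schemes whose base change u ⊗_A k is an immersion (resp. a closed immersion), then u is an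
immersion (resp. a closed immersion). -/
theorem result (A : Type u) [CommRing A] [IsArtinianRing A] [IsLocalRing A] (X Y : Over (Spec (CommRingCat.of A))) (u : X ⟶ Y) :
    letI i : Spec (CommRingCat.of (IsLocalRing.ResidueField A)) ⟶ (Spec (CommRingCat.of A)) := Spec.map (CommRingCat.ofHom (IsLocalRing.residue A))
    (LocallyOfFiniteType (pullback.snd X.hom i) → LocallyOfFiniteType X.hom) ∧
    (LocallyOfFiniteType (pullback.snd X.hom i) → QuasiCompact (pullback.snd X.hom i) → QuasiCompact X.hom) ∧
    (IsImmersion ((Over.pullback i).map u).left → IsImmersion u.left) ∧
    (IsClosedImmersion ((Over.pullback i).map u).left → IsClosedImmersion u.left) := by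
  refine ⟨GrothLib.Neutral.locallyOfFiniteType_of_red X, fun _ hqc => ?_,
    GrothLib.Neutral.isImmersion_of_red u, fun h => GrothLib.Neutral.isClosedImmersion_of_red u ?_⟩
  · haveI := hqc
    refine (GrothLib.Thickening.quasiCompact_comp_iff (pullback.fst X.hom (GrothLib.Neutral.closedPt A)) X.hom).mp ?_
    rw [pullback.condition]
    haveI : QuasiCompact (pullback.snd X.hom (GrothLib.Neutral.closedPt A)) := hqc
    infer_instance
  · rw [← GrothLib.Neutral.red_w u]
    haveI : IsClosedImmersion (GrothLib.Neutral.red u).left := h
    infer_instance

end Groth.Agent.S5346
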