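import Groth.Statements.S5351
import Groth.Agent.Lib.QuotGrp14.Artin
import Groth.Agent.Lib.QuotGrp14.Components
-- import your own Groth.Agent.* helpers here

set_option autoImplicit false
universe u
open CategoryTheory CategoryTheory.Limits MonoidalCategory CartesianMonoidalCategory MonObj GrpObj AlgebraicGeometry
open SGA3

namespace Groth.Agent.S5351

/-- Let A be a local artinian ring, G an A-group scheme locally of finite type, and u : F → G a
homomorphism which is a closed immersion, with F flat and quasi-compact (hence of finite type) over
A (G is not assumed flat). Then there are an A-scheme X and a morphism p : G → X over A (the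
quotient of G by F acting by left translations) such that: X is separated and locally of finite type
over A; p is surjective, flat and locally of finite presentation; the square formed by (f, g) ↦
u(f)·g, the second projection F ×_A G → G and p (twice) is cartesian; X is flat (resp.
quasi-compact, resp. smooth) over A when G is; and every connected component of X is irreducible and
quasi-compact, of dimension d with d + dim F = dim G. (The published statement asks only that F be a
closed subgroup scheme flat over A, hence locally of finite type; this row also assumes F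
quasi-compact over A, the case in which the second projection F ×_A G → G is of finite presentation,
as the reduction to the residue field used in the proof requires. The published statement also
asserts exactness of F ×_A G ⇉ G → X in the category of all ringed spaces and a right action of G on
X; these are not part of this row.) -/
theorem result (A : Type u) [CommRing A] [IsArtinianRing A] [IsLocalRing A] (F G : Over (Spec (CommRingCat.of A))) [GrpObj F] [GrpObj G]
    [LocallyOfFiniteType G.hom] [Flat F.hom] [QuasiCompact F.hom] (u : F ⟶ G) [IsMonHom u] [IsClosedImmersion u.left] :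
    ∃ (X : Over (Spec (CommRingCat.of A))) (p : G ⟶ X),
      IsSeparated X.hom ∧ LocallyOfFiniteType X.hom ∧
      Surjective p.left ∧ Flat p.left ∧ LocallyOfFinitePresentation p.left ∧
      IsPullback ((u ▷ G) ≫ μ[G]) (snd F G) p p ∧
      (Flat G.hom → Flat X.hom) ∧ (QuasiCompact G.hom → QuasiCompact X.hom) ∧ (Smooth G.hom → Smooth X.hom) ∧
      ∀ x : X.left, IsIrreducible (connectedComponent x) ∧ IsCompact (connectedComponent x) ∧
        topologicalKrullDim ↥(connectedComponent x) + topologicalKrullDim ↥F.left = topologicalKrullDim ↥G.left := by
  haveI : Mono u := (Over.forget _).mono_of_mono_map (inferInstanceAs (Mono u.left))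
  haveI : LocallyOfFiniteType F.hom := by
    have : LocallyOfFiniteType (u.left ≫ G.hom) := inferInstance
    rwa [Over.w u] at this
  obtain ⟨X, p, hf, hs, hp, sq, hsep, hlft, hX, hqc, hsm⟩ := GrothLib.QuotGrp14.exists_quotient_artin A u
  refine ⟨X, p, hsep, hlft, hs, hf, hp, sq, hX, hqc, hsm, fun x => ?_⟩
  let i := GrothLib.Neutral.closedPt A
  haveI := GrothLib.Neutral.lft_reduction A F
  haveI := GrothLib.Neutral.lft_reduction A G
  haveI : LocallyOfFiniteType (Red.bc i X).hom := MorphismProperty.pullback_snd _ _ hlft
  let u₀ : Red.bc i F ⟶ Red.bc i G := (Over.pullback i).map u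
  haveI : IsClosedImmersion u₀.left :=
    MorphismProperty.of_isPullback (GrothLib.FibreLocus.isPullback_map_left u i).flip ‹_›
  let p₀ : Red.bc i G ⟶ Red.bc i X := (Over.pullback i).map p
  have hp₀ := GrothLib.FibreLocus.isPullback_map_left p i
  haveI : Flat p₀.left := MorphismProperty.of_isPullback hp₀.flip hf
  haveI : Surjective p₀.left := MorphismProperty.of_isPullback hp₀.flip hs
  haveI : LocallyOfFinitePresentation p₀.left := MorphismProperty.of_isPullback hp₀.flip hp
  have sq₀ : IsPullback (GrothLib.QuotGrp14.act u₀) (snd (Red.bc i F) (Red.bc i G)) p₀ p₀ := by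
    rw [GrothLib.QuotGrp14.act_bc, GrothLib.QuotGrp14.snd_bc]
    refine (sq.map (Over.pullback i)).of_iso (Functor.Monoidal.μIso (Over.pullback i) F G).symm
      (Iso.refl _) (Iso.refl _) (Iso.refl _) ?_ ?_ ?_ ?_ <;> simp [p₀, GrothLib.QuotGrp14.act]
  let φ := GrothLib.Neutral.reductionHomeo A X
  obtain ⟨-, hi, hc⟩ := GrothLib.QuotGrp14.component_facts u₀ p₀ sq₀ (φ.symm x)
  have hd := GrothLib.QuotGrp14.dim_component_add u₀ p₀ sq₀ (φ.symm x)
  have hC : φ '' connectedComponent (φ.symm x) = connectedComponent x := by
    rw [GrothLib.Neutral.image_connectedComponent_homeo, φ.apply_symm_apply]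
  refine ⟨?_, ?_, ?_⟩
  · rw [← hC]; exact hi.image φ φ.continuous.continuousOn
  · rw [← hC]; exact hc.image φ.continuous
  · rw [← hC, ← (φ.image (connectedComponent (φ.symm x))).isHomeomorph.topologicalKrullDim_eq,
      ← (GrothLib.Neutral.reductionHomeo A F).isHomeomorph.topologicalKrullDim_eq,
      ← (GrothLib.Neutral.reductionHomeo A G).isHomeomorph.topologicalKrullDim_eq]
    exact hd

end Groth.Agent.S5351
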