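import Groth.Statements.S5353
import Mathlib
import Groth.Agent.Lib.AlgSp.FppfDescent
import Groth.Agent.Lib.AlgSp.SourceLocal
import Groth.Agent.Lib.FppfSource.Scheme
import Groth.Agent.Lib.GrpSchField.Shear

set_option autoImplicit false
universe u
open CategoryTheory CategoryTheory.Limits MonoidalCategory CartesianMonoidalCategory MonObj GrpObj AlgebraicGeometry
open SGA3

namespace Groth.Agent.S5353

/-- Let A be a local artinian ring, G an A-group scheme which is flat and locally of finite type, i : G⁰
→ G an open subgroup scheme whose image is the connected component of the unit (the neutral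
component), and p : G → Q a homomorphism of A-group schemes which is surjective, flat and locally of
finite presentation with kernel G⁰ (Q is the quotient of G by G⁰). Then Q is etale over A. -/
theorem result (A : Type u) [CommRing A] [IsArtinianRing A] [IsLocalRing A] (G0 G Q : Over (Spec (CommRingCat.of A))) [GrpObj G0] [GrpObj G] [GrpObj Q]
    [Flat G.hom] [LocallyOfFiniteType G.hom] (i : G0 ⟶ G) [IsMonHom i] [IsOpenImmersion i.left]
    (pt : ↥(𝟙_ (Over (Spec (CommRingCat.of A)))).left) (hi : Set.range i.left.base = connectedComponent (η[G].left.base pt))
    (p : G ⟶ Q) [IsMonHom p] [Surjective p.left] [Flat p.left] [LocallyOfFinitePresentation p.left]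
    (hK : AlgGrp.IsKernel i p) : Etale Q.hom := by
  have sq := hK.map (Over.forget _)
  haveI : IsOpenImmersion η[Q].left :=
    GrothLib.AlgSp.fppfDescends_isOpenImmersion η[Q].left p.left (toUnit G0).left i.left sq.flip
      inferInstance inferInstance inferInstance inferInstance
  haveI : IsOpenImmersion (Limits.pullback.diagonal Q.hom) :=
    GrothLib.GrpSchField.diagonal_property @IsOpenImmersion inferInstance
  haveI : FormallyUnramified Q.hom := inferInstance
  haveI hf : Flat Q.hom := GrothLib.AlgSp.srcDescends_flat p.left Q.hom inferInstance inferInstance
    (by rw [Over.w p]; infer_instance)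
  haveI : LocallyOfFinitePresentation G.hom := inferInstance
  haveI hfp : LocallyOfFinitePresentation Q.hom :=
    GrothLib.FppfSource.fppfSourceDescends_lfp p.left Q.hom inferInstance inferInstance inferInstance
      (by rw [Over.w p]; infer_instance)
  exact Etale.of_formallyUnramified_of_flat Q.hom

end Groth.Agent.S5353
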