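import Groth.Statements.S5358
import Groth.Agent.Lib.EssFree.Over
import Groth.Agent.Lib.GrpSchField.Field
import Groth.Agent.Lib.EssFree.Subgroup
import Groth.Agent.Lib.GrpSchField.Open

set_option autoImplicit false
universe u
open CategoryTheory CategoryTheory.Limits MonoidalCategory CartesianMonoidalCategory MonObj GrpObj AlgebraicGeometry
open SGA3

namespace Groth.Agent.S5358

/-- Let G be a group scheme over a field k, y' : Y' → G an immersion and y : Y → G a closed immersion.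
(ii) The transporter of Y' into Y, whose points with values in S' are the g such that conjugation by
g carries every point of Y' (after any base change S'' → S') into Y, is represented by a closed
subscheme of G; if y' is also a closed immersion, so is the strict transporter (g Y' g⁻¹ = Y
functorially). (iii) For every subgroup scheme h : H → G (a homomorphism which is an immersion), the
normalizer of H in G is represented by a closed subscheme of G. -/
theorem result (k : Type u) [Field k] (G Y Y' : Over (Spec (CommRingCat.of k))) [GrpObj G]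
    (y : Y ⟶ G) [IsClosedImmersion y.left] (y' : Y' ⟶ G) [IsImmersion y'.left] :
    (∃ (T : Over (Spec (CommRingCat.of k))) (t : T ⟶ G), IsClosedImmersion t.left ∧
      ∀ (S' : Over (Spec (CommRingCat.of k))) (g : S' ⟶ G), (∃ z : S' ⟶ T, z ≫ t = g) ↔
        ∀ (S'' : Over (Spec (CommRingCat.of k))) (s : S'' ⟶ S') (x : S'' ⟶ Y'),
          ∃ x' : S'' ⟶ Y, (s ≫ g) * (x ≫ y') * (s ≫ g)⁻¹ = x' ≫ y) ∧
    (IsClosedImmersion y'.left →
      ∃ (T : Over (Spec (CommRingCat.of k))) (t : T ⟶ G), IsClosedImmersion t.left ∧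
      ∀ (S' : Over (Spec (CommRingCat.of k))) (g : S' ⟶ G), (∃ z : S' ⟶ T, z ≫ t = g) ↔
        ((∀ (S'' : Over (Spec (CommRingCat.of k))) (s : S'' ⟶ S') (x : S'' ⟶ Y'),
          ∃ x' : S'' ⟶ Y, (s ≫ g) * (x ≫ y') * (s ≫ g)⁻¹ = x' ≫ y) ∧
        (∀ (S'' : Over (Spec (CommRingCat.of k))) (s : S'' ⟶ S') (x' : S'' ⟶ Y),
          ∃ x : S'' ⟶ Y', (s ≫ g)⁻¹ * (x' ≫ y) * (s ≫ g) = x ≫ y'))) ∧
    (∀ (H : Over (Spec (CommRingCat.of k))) [GrpObj H] (h : H ⟶ G) [IsMonHom h] [IsImmersion h.left],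
      ∃ (N : Over (Spec (CommRingCat.of k))) (_ : GrpObj N) (n : N ⟶ G), IsClosedImmersion n.left ∧
        Red.IsNormalizerOf h n) := by
  have := GrothLib.GrpSchField.isSeparated G
  have key : ∀ (A B : Over (Spec (CommRingCat.of k))) (a : A ⟶ G) [IsClosedImmersion a.left]
      (c : G ⊗ B ⟶ G),
      ∃ (T : Over (Spec (CommRingCat.of k))) (t : T ⟶ G), IsClosedImmersion t.left ∧
        ∀ (S' : Over (Spec (CommRingCat.of k))) (g : S' ⟶ G), (∃ z : S' ⟶ T, z ≫ t = g) ↔
          ∀ (S'' : Over (Spec (CommRingCat.of k))) (s : S'' ⟶ S') (x : S'' ⟶ B),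
            ∃ x' : S'' ⟶ A, lift (s ≫ g) x ≫ c = x' ≫ a := by
    intro A B a _ c
    have : IsClosedImmersion (CategoryTheory.Limits.pullback.fst c a).left :=
      MorphismProperty.of_isPullback (((IsPullback.of_hasPullback c a).map (Over.forget _))).flip
        (inferInstanceAs (IsClosedImmersion a.left))
    obtain ⟨T, t, ht, hT⟩ := GrothLib.EssFree.exists_closed_forall_points
      (CategoryTheory.Limits.pullback.fst c a) (GrothLib.EssFree.projCover_field G B)
    refine ⟨T, t, ht, fun S' g => (hT S' g).trans (forall₃_congr fun S'' s x => ⟨?_, ?_⟩)⟩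
    · rintro ⟨l, hl⟩
      exact ⟨l ≫ CategoryTheory.Limits.pullback.snd c a, by
        rw [← hl, Category.assoc, Category.assoc, CategoryTheory.Limits.pullback.condition]⟩
    · rintro ⟨x', hx'⟩
      exact ⟨CategoryTheory.Limits.pullback.lift _ x' hx', CategoryTheory.Limits.pullback.lift_fst _ _ _⟩
  have strict : ∀ (A B : Over (Spec (CommRingCat.of k))) (a : A ⟶ G) [IsClosedImmersion a.left]
      (b : B ⟶ G) [IsClosedImmersion b.left],
      ∃ (T : Over (Spec (CommRingCat.of k))) (t : T ⟶ G), IsClosedImmersion t.left ∧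
        ∀ (S' : Over (Spec (CommRingCat.of k))) (g : S' ⟶ G), (∃ z : S' ⟶ T, z ≫ t = g) ↔
        ((∀ (S'' : Over (Spec (CommRingCat.of k))) (s : S'' ⟶ S') (x : S'' ⟶ B),
          ∃ x' : S'' ⟶ A, (s ≫ g) * (x ≫ b) * (s ≫ g)⁻¹ = x' ≫ a) ∧
        (∀ (S'' : Over (Spec (CommRingCat.of k))) (s : S'' ⟶ S') (x' : S'' ⟶ A),
          ∃ x : S'' ⟶ B, (s ≫ g)⁻¹ * (x' ≫ a) * (s ≫ g) = x ≫ b)) := by
    intro A B a _ b _
    obtain ⟨T₁, t₁, h₁, hT₁⟩ := key A B a
      (CartesianMonoidalCategory.fst G B * (CartesianMonoidalCategory.snd G B ≫ b) *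
        (CartesianMonoidalCategory.fst G B)⁻¹)
    obtain ⟨T₂, t₂, h₂, hT₂⟩ := key B A b
      ((CartesianMonoidalCategory.fst G A)⁻¹ * (CartesianMonoidalCategory.snd G A ≫ a) *
        CartesianMonoidalCategory.fst G A)
    have : IsClosedImmersion (CategoryTheory.Limits.pullback.fst t₁ t₂).left :=
      MorphismProperty.of_isPullback (((IsPullback.of_hasPullback t₁ t₂).map (Over.forget _))).flip h₂
    have : IsClosedImmersion (CategoryTheory.Limits.pullback.fst t₁ t₂ ≫ t₁).left := by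
      rw [Over.comp_left]; infer_instance
    refine ⟨_, CategoryTheory.Limits.pullback.fst t₁ t₂ ≫ t₁, this, fun S' g => ?_⟩
    have e₁ := hT₁ S' g
    have e₂ := hT₂ S' g
    simp only [MonObj.comp_mul, GrpObj.comp_inv, lift_fst, lift_snd_assoc] at e₁ e₂
    rw [← e₁, ← e₂]
    constructor
    · rintro ⟨z, rfl⟩
      exact ⟨⟨z ≫ CategoryTheory.Limits.pullback.fst t₁ t₂, by rw [Category.assoc]⟩,
        ⟨z ≫ CategoryTheory.Limits.pullback.snd t₁ t₂, by
          rw [Category.assoc, CategoryTheory.Limits.pullback.condition]⟩⟩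
    · rintro ⟨⟨z₁, hz₁⟩, ⟨z₂, hz₂⟩⟩
      exact ⟨CategoryTheory.Limits.pullback.lift z₁ z₂ (hz₁.trans hz₂.symm), by
        rw [CategoryTheory.Limits.pullback.lift_fst_assoc, hz₁]⟩
  refine ⟨?_, fun _ => strict Y Y' y y', fun H _ h _ _ => ?_⟩
  · obtain ⟨T, t, ht, hT⟩ := key Y Y' y
      (CartesianMonoidalCategory.fst G Y' * (CartesianMonoidalCategory.snd G Y' ≫ y') *
        (CartesianMonoidalCategory.fst G Y')⁻¹)
    refine ⟨T, t, ht, fun S' g => ?_⟩
    have e := hT S' g
    simp only [MonObj.comp_mul, GrpObj.comp_inv, lift_fst, lift_snd_assoc] at e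
    exact e
  · have : IsClosedImmersion h.left := IsClosedImmersion.of_isPreimmersion _
      (GrothLib.GrpSchField.isClosed_range_of_isLocallyClosed h h.left.isLocallyClosed_range)
    obtain ⟨N, n, hn, hN⟩ := strict H H h h
    have : Mono n := by
      have : Mono ((Over.forget _).map n) := inferInstanceAs (Mono n.left)
      exact (Over.forget _).mono_of_mono_map ‹_›
    obtain ⟨_, hmon⟩ := GrothLib.EssFree.exists_grpObj_of_mono n
      (fun T => (hN T 1).mpr ⟨fun _ _ x => ⟨x, by simp⟩, fun _ _ x => ⟨x, by simp⟩⟩)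
      (fun T a b => (hN T _).mpr (by
        obtain ⟨a1, a2⟩ := (hN T _).mp ⟨a, rfl⟩
        obtain ⟨b1, b2⟩ := (hN T _).mp ⟨b, rfl⟩
        refine ⟨fun T' s x => ?_, fun T' s x => ?_⟩
        · obtain ⟨x₁, hx₁⟩ := b1 T' s x
          obtain ⟨x₂, hx₂⟩ := a1 T' s x₁
          refine ⟨x₂, ?_⟩
          rw [← hx₂, ← hx₁]
          simp only [MonObj.comp_mul, _root_.mul_inv_rev, _root_.mul_assoc]
        · obtain ⟨x₁, hx₁⟩ := a2 T' s x
          obtain ⟨x₂, hx₂⟩ := b2 T' s x₁
          refine ⟨x₂, ?_⟩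
          rw [← hx₂, ← hx₁]
          simp only [MonObj.comp_mul, _root_.mul_inv_rev, _root_.mul_assoc]))
      (fun T a => (hN T _).mpr (by
        obtain ⟨a1, a2⟩ := (hN T _).mp ⟨a, rfl⟩
        refine ⟨fun T' s x => ?_, fun T' s x => ?_⟩
        · simpa [GrpObj.comp_inv] using a2 T' s x
        · simpa [GrpObj.comp_inv] using a1 T' s x))
    refine ⟨N, _, n, hn, hmon, ‹Mono n›, fun T g => (hN T g).trans ?_⟩
    exact ⟨fun hh T' s x => ⟨hh.1 T' s x, hh.2 T' s x⟩,
      fun hh => ⟨fun T' s x => (hh T' s x).1, fun T' s x => (hh T' s x).2⟩⟩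

end Groth.Agent.S5358
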