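import Groth.Statements.S5359
import Groth.Agent.Lib.MonoEndo14.Main

set_option autoImplicit false
universe u
open CategoryTheory CategoryTheory.Limits MonoidalCategory CartesianMonoidalCategory MonObj GrpObj AlgebraicGeometry
open SGA3

namespace Groth.Agent.S5359

/-- Let G be an S-group scheme and u : X → G a monomorphism of S-schemes with X of finite presentation
over S. If a point g : T → G is such that, for every T' → T and every point x of X with values in
T', the conjugate g x g⁻¹ is again a point of X, then the same holds for g⁻¹: the transporter of X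
into X coincides with the strict transporter (the normalizer of X). -/
theorem result (S : Scheme.{u}) (G X : Over S) [GrpObj G] (u : X ⟶ G) [Mono u]
    [LocallyOfFinitePresentation X.hom] [QuasiCompact X.hom] [QuasiSeparated X.hom]
    (T : Over S) (g : T ⟶ G)
    (hg : ∀ (T' : Over S) (t : T' ⟶ T) (x : T' ⟶ X), ∃ x' : T' ⟶ X, (t ≫ g) * (x ≫ u) * (t ≫ g)⁻¹ = x' ≫ u) :
    ∀ (T' : Over S) (t : T' ⟶ T) (x : T' ⟶ X), ∃ x' : T' ⟶ X, (t ≫ g)⁻¹ * (x ≫ u) * (t ≫ g) = x' ≫ u := by
  obtain ⟨x₁, hx₁⟩ := hg (X ⊗ T) (snd X T) (fst X T)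
  let Φ : X ⊗ T ⟶ X ⊗ T := lift x₁ (snd X T)
  have hΦ : ∀ {Z : Over S} (z : Z ⟶ X ⊗ T), (z ≫ x₁) ≫ u =
      ((z ≫ snd X T) ≫ g) * ((z ≫ fst X T) ≫ u) * ((z ≫ snd X T) ≫ g)⁻¹ := fun z => by
    rw [Category.assoc, ← hx₁]
    simp [MonObj.comp_mul, GrpObj.comp_inv]
  haveI : Mono Φ := ⟨fun {Z} z z' h => by
    have h1 := congrArg (· ≫ fst X T) h
    have h2 := congrArg (· ≫ snd X T) h
    simp only [Category.assoc, Φ, lift_fst, lift_snd] at h1 h2
    refine CartesianMonoidalCategory.hom_ext _ _ ?_ h2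
    have h3 := congrArg (· ≫ u) h1
    rw [← cancel_mono u]
    have e : (z ≫ x₁) ≫ u = (z' ≫ x₁) ≫ u := h3
    rw [hΦ, hΦ, h2] at e
    exact mul_left_cancel (mul_right_cancel e)⟩
  haveI : Mono Φ.left := inferInstanceAs (Mono ((Over.forget S).map Φ))
  haveI : IsIso Φ.left := by
    have hw : Φ.left ≫ (snd X T).left = (snd X T).left := by rw [← Over.comp_left, lift_snd]
    haveI : LocallyOfFinitePresentation (snd X T).left :=
      inferInstanceAs (LocallyOfFinitePresentation (Limits.pullback.snd X.hom T.hom))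
    haveI : QuasiCompact (snd X T).left :=
      inferInstanceAs (QuasiCompact (Limits.pullback.snd X.hom T.hom))
    haveI : QuasiSeparated (snd X T).left :=
      inferInstanceAs (QuasiSeparated (Limits.pullback.snd X.hom T.hom))
    exact GrothLib.MonoEndo14.isIso_of_mono_endo (snd X T).left Φ.left hw
  haveI : IsIso ((Over.forget S).map Φ) := ‹IsIso Φ.left›
  haveI : IsIso Φ := isIso_of_reflects_iso Φ (Over.forget S)
  intro T' t x
  refine ⟨lift x t ≫ inv Φ ≫ fst X T, ?_⟩
  have e := hΦ (lift x t ≫ inv Φ)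
  have h2 : (lift x t ≫ inv Φ) ≫ x₁ = x := by
    rw [Category.assoc, show inv Φ ≫ x₁ = fst X T by rw [IsIso.inv_comp_eq]; simp [Φ], lift_fst]
  have h3 : (lift x t ≫ inv Φ) ≫ snd X T = t := by
    rw [Category.assoc, show inv Φ ≫ snd X T = snd X T by rw [IsIso.inv_comp_eq]; simp [Φ], lift_snd]
  rw [h2, h3, Category.assoc] at e
  rw [e]
  simp [_root_.mul_assoc]

end Groth.Agent.S5359
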