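import Groth.Statements.S5360
import Groth.Agent.Lib.MonoEndo14.Main

set_option autoImplicit false
universe u
open CategoryTheory CategoryTheory.Limits MonoidalCategory CartesianMonoidalCategory MonObj GrpObj AlgebraicGeometry
open SGA3

namespace Groth.Agent.S5360

/-- Let G be an S-scheme of finite presentation over S with an associative composition law m : G ×_S G →
G such that for every S-scheme S' and every point g of G with values in S' the left and right
translations by g are injective on G(S'), and such that G has an S-point. Then G is an S-group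
scheme: there is a group object structure on G over S whose multiplication is m. -/
theorem result (S : Scheme.{u}) (G : Over S)
    [LocallyOfFinitePresentation G.hom] [QuasiCompact G.hom] [QuasiSeparated G.hom]
    (m : G ⊗ G ⟶ G) (hassoc : (m ▷ G) ≫ m = (α_ G G G).hom ≫ (G ◁ m) ≫ m)
    (hl : ∀ (T : Over S) (g : T ⟶ G), Function.Injective (fun x : T ⟶ G => lift g x ≫ m))
    (hr : ∀ (T : Over S) (g : T ⟶ G), Function.Injective (fun x : T ⟶ G => lift x g ≫ m))
    (e : 𝟙_ (Over S) ⟶ G) :
    ∃ inst : GrpObj G, inst.mul = m := by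
  have asso : ∀ {T : Over S} (a b c : T ⟶ G),
      lift (lift a b ≫ m) c ≫ m = lift a (lift b c ≫ m) ≫ m := by
    intro T a b c
    have := congrArg (lift (lift a b) c ≫ ·) hassoc
    simpa using this
  have compL : ∀ {T T' : Over S} (k : T' ⟶ T) (a b : T ⟶ G),
      k ≫ lift a b ≫ m = lift (k ≫ a) (k ≫ b) ≫ m := by
    intro T T' k a b
    rw [comp_lift_assoc]
  haveI : LocallyOfFinitePresentation (G ⊗ G).hom := by
    rw [Over.tensorObj_hom]; infer_instance
  haveI : QuasiCompact (G ⊗ G).hom := by
    rw [Over.tensorObj_hom]; infer_instance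
  haveI : QuasiSeparated (G ⊗ G).hom := by
    rw [Over.tensorObj_hom]; infer_instance
  have isoEndo : ∀ (Φ : G ⊗ G ⟶ G ⊗ G), Mono Φ → IsIso Φ := by
    intro Φ hΦ
    haveI : Mono Φ.left := inferInstanceAs (Mono ((Over.forget S).map Φ))
    haveI : IsIso ((Over.forget S).map Φ) :=
      GrothLib.MonoEndo14.isIso_of_mono_endo (G ⊗ G).hom Φ.left (Over.w Φ)
    exact isIso_of_reflects_iso Φ (Over.forget S)
  haveI : IsIso (lift (fst G G) m) := isoEndo _ ⟨fun {T} a b h => by
    have h1 := congrArg (· ≫ fst G G) h
    have h2 := congrArg (· ≫ snd G G) h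
    simp only [Category.assoc, lift_fst, lift_snd] at h1 h2
    refine CartesianMonoidalCategory.hom_ext _ _ h1 (hl T (a ≫ fst G G) ?_)
    dsimp only
    rw [show lift (a ≫ fst G G) (a ≫ snd G G) = a by ext <;> simp, h1,
      show lift (b ≫ fst G G) (b ≫ snd G G) = b by ext <;> simp, h2]⟩
  haveI : IsIso (lift m (snd G G)) := isoEndo _ ⟨fun {T} a b h => by
    have h1 := congrArg (· ≫ fst G G) h
    have h2 := congrArg (· ≫ snd G G) h
    simp only [Category.assoc, lift_fst, lift_snd] at h1 h2
    refine CartesianMonoidalCategory.hom_ext _ _ (hr T (a ≫ snd G G) ?_) h2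
    dsimp only
    rw [show lift (a ≫ fst G G) (a ≫ snd G G) = a by ext <;> simp, h2,
      show lift (b ≫ fst G G) (b ≫ snd G G) = b by ext <;> simp, h1]⟩
  -- left and right division
  have divL : ∀ {T : Over S} (a b : T ⟶ G), ∃ x : T ⟶ G, lift a x ≫ m = b := by
    intro T a b
    let z := lift a b ≫ inv (lift (fst G G) m)
    have hz : z ≫ lift (fst G G) m = lift a b := by simp only [z, Category.assoc, IsIso.inv_hom_id, Category.comp_id]
    refine ⟨z ≫ snd G G, ?_⟩
    have h1 := congrArg (· ≫ fst G G) hz
    have h2 := congrArg (· ≫ snd G G) hz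
    simp only [Category.assoc, lift_fst, lift_snd] at h1 h2
    rw [← h1, show lift (z ≫ fst G G) (z ≫ snd G G) = z by ext <;> simp, h2]
  obtain ⟨e₀, he₀⟩ := divL e e
  have e₀e₀ : lift e₀ e₀ ≫ m = e₀ := by
    refine hl _ e ?_
    dsimp only
    rw [← asso, he₀, he₀]
  let one : ∀ T : Over S, T ⟶ G := fun T => toUnit T ≫ e₀
  have one_one : ∀ T : Over S, lift (one T) (one T) ≫ m = one T := fun T => by
    simp only [one]; rw [← compL, e₀e₀]
  have one_mul' : ∀ {T : Over S} (a : T ⟶ G), lift (one T) a ≫ m = a := by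
    intro T a
    refine hl _ (one T) ?_
    dsimp only
    rw [← asso, one_one]
  have mul_one' : ∀ {T : Over S} (a : T ⟶ G), lift a (one T) ≫ m = a := by
    intro T a
    refine hr _ (one T) ?_
    dsimp only
    rw [asso, one_one]
  obtain ⟨i, hi⟩ := divL (𝟙 G) (one G)
  have hi' : lift i (𝟙 G) ≫ m = one G := by
    refine hr _ i ?_
    dsimp only
    rw [asso, hi, mul_one', one_mul']
  exact ⟨{
    one := e₀
    mul := m
    one_mul := by
      have := one_mul' (snd (𝟙_ (Over S)) G)
      rw [show (e₀ ▷ G) = lift (one _) (snd (𝟙_ (Over S)) G) by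
        ext <;> simp [one, Subsingleton.elim (fst (𝟙_ (Over S)) G) (toUnit _)]]
      exact this
    mul_one := by
      have := mul_one' (fst G (𝟙_ (Over S)))
      rw [show (G ◁ e₀) = lift (fst G (𝟙_ (Over S))) (one _) by
        ext <;> simp [one, Subsingleton.elim (snd G (𝟙_ (Over S))) (toUnit _)]]
      exact this
    mul_assoc := hassoc
    inv := i
    left_inv := hi'
    right_inv := hi }, rfl⟩

end Groth.Agent.S5360
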