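import Groth.Statements.S5361
import Groth.Agent.Lib.GenSubgrp14.BaseChange
import Groth.Agent.Lib.EssFree.Subgroup
-- import your own Groth.Agent.* helpers here

set_option autoImplicit false
universe u
open CategoryTheory CategoryTheory.Limits MonoidalCategory CartesianMonoidalCategory MonObj GrpObj AlgebraicGeometry
open SGA3

namespace Groth.Agent.S5361

/-- Let G be a group scheme over a field k, X a geometrically reduced k-scheme, f : X → G a k-morphism,
and i : Γ → G the smallest closed subgroup scheme of G through which f factors (the subgroup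
generated by f). Then for every k-scheme S, the base change Γ_S → G_S is the smallest subgroup
scheme of G_S through which f_S factors: for every homomorphism i' : Γ' → G_S of S-group schemes
which is an immersion (not necessarily closed) such that f_S factors through i', Γ_S → G_S factors
through i'. -/
theorem result (k : Type u) [Field k] (G X : Over (Spec (CommRingCat.of k))) [GrpObj G]
    [GeometricallyReduced X.hom] (f : X ⟶ G) (Γ : Over (Spec (CommRingCat.of k))) [GrpObj Γ] (i : Γ ⟶ G) [IsMonHom i] [IsClosedImmersion i.left]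
    (hf : ∃ f' : X ⟶ Γ, f' ≫ i = f)
    (hmin : ∀ (Γ' : Over (Spec (CommRingCat.of k))) (_ : GrpObj Γ') (i' : Γ' ⟶ G), IsMonHom i' → IsClosedImmersion i'.left →
        (∃ f'' : X ⟶ Γ', f'' ≫ i' = f) → ∃ j : Γ ⟶ Γ', j ≫ i' = i)
    (S : Scheme.{u}) (σ : S ⟶ (Spec (CommRingCat.of k))) :
    ∀ (Γ' : Over S) (_ : GrpObj Γ') (i' : Γ' ⟶ Red.bc σ G), IsMonHom i' → IsImmersion i'.left →
      (∃ f'' : Red.bc σ X ⟶ Γ', f'' ≫ i' = (Over.pullback σ).map f) →
      ∃ j : Red.bc σ Γ ⟶ Γ', j ≫ i' = (Over.pullback σ).map i := by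
  intro Γ' _ i' _ hi' hf'
  haveI := hi'
  let Gen : ∀ A : Over (Spec (CommRingCat.of k)), (A ⟶ G) → Prop := fun A h => ∃ e : A = X, eqToHom e ≫ f = h
  have hGen : ∀ A (h : A ⟶ G), Gen A h → GeometricallyReduced A.hom := by
    rintro A h ⟨rfl, -⟩
    infer_instance
  have hf1 : ∀ (A : Over (Spec (CommRingCat.of k))) (h : A ⟶ G), Gen A h → ∃ h' : A ⟶ Γ, h' ≫ i = h := by
    rintro A h ⟨rfl, rfl⟩
    obtain ⟨f', hf''⟩ := hf
    exact ⟨f', by rw [eqToHom_refl, Category.id_comp, hf'']⟩
  obtain ⟨hrange, hgr⟩ := GrothLib.GenSubgrp14.range_eq_and_geometricallyReduced (Gen := Gen) hGen Γ i hf1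
    (fun Γ₁ g₁ i₁ h₁ h₂ h₃ => hmin Γ₁ g₁ i₁ h₁ h₂ (h₃ X f ⟨rfl, by rw [eqToHom_refl, Category.id_comp]⟩))
  haveI := hgr
  haveI : IsReduced Γ.left := GrothLib.GenSubgrp14.isReduced_left Γ
  let D : Set Γ.left := i.left ⁻¹' GrothLib.GenSubgrp14.wordSet Gen
  have hD : Dense D := by
    rw [i.left.isClosedEmbedding.isInducing.dense_iff]
    intro y
    rw [Set.image_preimage_eq_of_subset]
    · exact hrange.le ⟨y, rfl⟩
    · intro g hg
      exact hrange.ge (subset_closure hg)
  -- the words factor after base change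
  let F := Over.pullback σ
  have hword : ∀ (W : Over (Spec (CommRingCat.of k))) (w : W ⟶ G), GrothLib.GenSubgrp14.IsWord Gen W w →
      ∃ w' : F.obj W ⟶ Γ', w' ≫ i' = F.map w := by
    intro W w hw
    induction hw with
    | one => exact ⟨1, by rw [MonObj.one_comp, show η[G] = (1 : 𝟙_ _ ⟶ G) from by simp [Hom.one_def, toUnit_unique (toUnit (𝟙_ (Over (Spec (CommRingCat.of k))))) (𝟙 _)], Functor.map_one]⟩
    | of h =>
      obtain ⟨rfl, rfl⟩ := h
      obtain ⟨f'', h''⟩ := hf'
      exact ⟨f'', by rw [eqToHom_refl, Category.id_comp]; exact h''⟩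
    | inv _ ih =>
      obtain ⟨a, ha⟩ := ih
      exact ⟨a⁻¹, by rw [GrpObj.inv_comp, ha, Functor.map_inv']⟩
    | mul _ _ ih ih' =>
      obtain ⟨a, ha⟩ := ih
      obtain ⟨b, hb⟩ := ih'
      refine ⟨(F.map (fst _ _) ≫ a) * (F.map (snd _ _) ≫ b), ?_⟩
      rw [MonObj.mul_comp, Category.assoc, Category.assoc, ha, hb, Functor.map_mul, Functor.map_comp, Functor.map_comp]
  -- the intersection of the subgroups
  let n := F.map i
  haveI : IsMonHom n := inferInstanceAs (IsMonHom ((Over.pullback σ).map i))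
  obtain ⟨P, pΓ, pΓ', hsq, hsq'⟩ : ∃ (P : Over S) (p : P ⟶ F.obj Γ) (q : P ⟶ Γ'), p ≫ n = q ≫ i' ∧
      IsPullback p.left q.left n.left i'.left :=
    ⟨_, Limits.pullback.fst n i', Limits.pullback.snd n i', Limits.pullback.condition,
      (IsPullback.of_hasPullback n i').map (Over.forget S)⟩
  haveI hpimm : IsImmersion pΓ.left := MorphismProperty.of_isPullback hsq'.flip hi'
  haveI : Mono pΓ := by
    haveI : Mono pΓ.left := inferInstance
    exact Over.mono_of_mono_left pΓ
  have hlift : ∀ (T : Over S) (a : T ⟶ F.obj Γ) (b : T ⟶ Γ'), a ≫ n = b ≫ i' → ∃ z : T ⟶ P, z ≫ pΓ = a := by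
    intro T a b hab
    refine ⟨Over.homMk (hsq'.lift a.left b.left (by rw [← Over.comp_left, ← Over.comp_left, hab])) ?_,
      Over.OverMorphism.ext (hsq'.lift_fst _ _ _)⟩
    rw [← Over.w pΓ, hsq'.lift_fst_assoc, Over.w a]
  obtain ⟨_, hmon⟩ := GrothLib.EssFree.exists_grpObj_of_mono pΓ
    (fun T => hlift T 1 1 (by rw [MonObj.one_comp, MonObj.one_comp]))
    (fun T a b => hlift T _ ((a ≫ pΓ') * (b ≫ pΓ')) (by
      rw [MonObj.mul_comp, MonObj.mul_comp, Category.assoc, Category.assoc, Category.assoc, Category.assoc, hsq]))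
    (fun T a => hlift T _ (a ≫ pΓ')⁻¹ (by rw [GrpObj.inv_comp, GrpObj.inv_comp, Category.assoc, Category.assoc, hsq]))
  haveI := hmon
  -- field valued points of the words
  choose W w hw p hp using fun j : D => j.2
  choose w₀ hw₀ using fun j : D => (hw j).lift_of_gen i hf1
  choose w₁ hw₁ using fun j : D => hword _ _ (hw j)
  let K : D → Type u := fun j => (W j).left.residueField (p j)
  let t : ∀ j : D, Spec (CommRingCat.of (K j)) ⟶ Γ.left := fun j => (W j).left.fromSpecResidueField (p j) ≫ (w₀ j).left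
  have htr : ∀ (j : D) (ξ : Spec (CommRingCat.of (K j))), t j ξ = j.1 := fun j ξ => by
    apply i.left.isClosedEmbedding.injective
    show i.left ((w₀ j).left ((W j).left.fromSpecResidueField (p j) ξ)) = i.left j.1
    rw [Scheme.fromSpecResidueField_apply, ← Scheme.Hom.comp_apply, ← Over.comp_left, hw₀, hp]
  have hfac : ∀ (j : D) (T : Scheme.{u}) (a : T ⟶ Spec (CommRingCat.of (K j))) (b : T ⟶ S)
      (e : (a ≫ t j) ≫ Γ.hom = b ≫ σ), ∃ l : T ⟶ P.left, l ≫ pΓ.left = pullback.lift (a ≫ t j) b e := by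
    intro j T a b e
    let m : T ⟶ (F.obj (W j)).left := pullback.lift (a ≫ (W j).left.fromSpecResidueField (p j)) b (by
      rw [← e]
      simp [t, Over.w (w₀ j)])
    let T' : Over S := Over.mk b
    let m' : T' ⟶ F.obj (W j) := Over.homMk m (pullback.lift_snd _ _ _)
    obtain ⟨z, hz⟩ := hlift T' (m' ≫ F.map (w₀ j)) (m' ≫ w₁ j) (by
      rw [Category.assoc, Category.assoc, hw₁, ← Functor.map_comp, hw₀])
    refine ⟨z.left, ?_⟩
    rw [← Over.comp_left, hz]
    apply pullback.hom_ext
    · simp [m', m, F, t, T']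
      erw [pullback.lift_fst, pullback.lift_fst, pullback.lift_fst_assoc, Category.assoc]
    · simp [m', m, F, t, T']
      erw [pullback.lift_snd, pullback.lift_snd, pullback.lift_snd]
  have hdense : Dense {q : Γ.left | ∃ j, q ∈ Set.range (t j)} := hD.mono fun q hq =>
    ⟨⟨q, hq⟩, (default : Spec (CommRingCat.of (K ⟨q, hq⟩))), htr _ _⟩
  -- it is everything on each fibre
  have hsurj : Surjective pΓ.left := by
    refine ⟨fun g => ?_⟩
    let s := (F.obj Γ).hom g
    let c := S.fromSpecResidueField s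
    let Fs := Over.pullback c
    let l := Fs.map pΓ
    haveI himm : IsImmersion l.left := MorphismProperty.overPullbackMap (P := @IsImmersion) c pΓ hpimm
    haveI : IsMonHom l := inferInstanceAs (IsMonHom ((Over.pullback c).map pΓ))
    let π : (Fs.obj (F.obj Γ)).left ⟶ Γ.left := pullback.fst (F.obj Γ).hom c ≫ pullback.fst Γ.hom σ
    have hπ : IsOpenMap π := by
      have sq : IsPullback π (pullback.snd (F.obj Γ).hom c) Γ.hom (c ≫ σ) :=
        (IsPullback.of_hasPullback (F.obj Γ).hom c).paste_horiz (IsPullback.of_hasPullback Γ.hom σ)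
      haveI : UniversallyOpen π :=
        MorphismProperty.of_isPullback sq.flip (GrothLib.AlgSp.universallyOpen_to_field (c ≫ σ))
      exact π.isOpenMap
    have hls : Surjective l.left := by
      refine @GrothLib.GenSubgrp14.surjective_of_dense _ _ (Red.bc c (Red.bc σ Γ)) (Red.bc c P) _ _ l
        (inferInstanceAs (IsMonHom ((Over.pullback c).map pΓ))) himm ((hdense.preimage hπ).mono ?_)
      rintro q ⟨j, ξ, hξ⟩
      obtain ⟨r, hr1, -⟩ := Scheme.Pullback.exists_preimage_pullback (f := π) (g := t j) q ξ hξ.symm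
      let T := pullback π (t j)
      let b : T ⟶ S := pullback.fst π (t j) ≫ pullback.fst (F.obj Γ).hom c ≫ (F.obj Γ).hom
      have e : (pullback.snd π (t j) ≫ t j) ≫ Γ.hom = b ≫ σ := by
        rw [← pullback.condition]
        simp only [π, b, Category.assoc]
        erw [pullback.condition (f := Γ.hom) (g := σ)]
        rfl
      obtain ⟨m, hm⟩ := hfac j T (pullback.snd π (t j)) b e
      have hm' : m ≫ pΓ.left = pullback.fst π (t j) ≫ pullback.fst (F.obj Γ).hom c := by
        rw [hm]
        apply pullback.hom_ext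
        · rw [pullback.lift_fst, ← pullback.condition]
          simp [π]
        · rw [pullback.lift_snd]
          simp [b, F]
      let M : T ⟶ (Fs.obj P).left := pullback.lift m (pullback.fst π (t j) ≫ pullback.snd (F.obj Γ).hom c) (by
        rw [← Over.w pΓ, ← Category.assoc, hm', Category.assoc, pullback.condition, Category.assoc])
      refine ⟨M r, ?_⟩
      have hM : M ≫ l.left = pullback.fst π (t j) := by
        apply pullback.hom_ext
        · rw [← hm']
          simp [M, l, Fs]
          erw [pullback.lift_fst, pullback.lift_fst_assoc]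
        · simp [M, l, Fs]
          erw [pullback.lift_snd, pullback.lift_snd]
      exact (congr($(hM) r)).trans hr1
    obtain ⟨q, hq1, -⟩ := Scheme.Pullback.exists_preimage_pullback (f := (F.obj Γ).hom) (g := c) g
      (default : Spec (S.residueField s)) (by rw [Scheme.fromSpecResidueField_apply])
    obtain ⟨x, hx⟩ := hls.surj q
    refine ⟨pullback.fst P.hom c x, ?_⟩
    have hl : l.left ≫ pullback.fst (F.obj Γ).hom c = pullback.fst P.hom c ≫ pΓ.left := pullback.lift_fst _ _ _
    rw [← hq1, ← hx]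
    exact congr($(hl.symm) x)
  haveI : IsClosedImmersion pΓ.left := IsClosedImmersion.of_isPreimmersion _ (by
    rw [hsurj.surj.range_eq]
    exact isClosed_univ)
  haveI : IsIso pΓ.left := GrothLib.GenSubgrp14.isIso_of_fields Γ.hom σ pΓ.left K t hdense hfac
  haveI : IsIso pΓ := by
    haveI : IsIso ((Over.forget S).map pΓ) := inferInstanceAs (IsIso pΓ.left)
    exact isIso_of_reflects_iso pΓ (Over.forget S)
  exact ⟨inv pΓ ≫ pΓ', by rw [Category.assoc, ← hsq, IsIso.inv_hom_id_assoc]⟩

end Groth.Agent.S5361
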