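import Groth.Statements.S5363
import Mathlib
import Groth.Agent.Lib.EssFree.Over
import Groth.Agent.Lib.EssFree.Subgroup
import Groth.Agent.Lib.GrpSchField.Field

set_option autoImplicit false
universe u
open CategoryTheory CategoryTheory.Limits MonoidalCategory CartesianMonoidalCategory MonObj GrpObj AlgebraicGeometry
open SGA3

namespace Groth.Agent.S5363

/-- Let G be a group scheme over a field k and g a k-rational point of G. Then the smallest closed
subgroup scheme Γ of G through which g factors (the closed subgroup generated by g) is commutative. -/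
theorem result (k : Type u) [Field k] (G : Over (Spec (CommRingCat.of k))) [GrpObj G]
    (g : 𝟙_ (Over (Spec (CommRingCat.of k))) ⟶ G) (Γ : Over (Spec (CommRingCat.of k))) [GrpObj Γ] (i : Γ ⟶ G) [IsMonHom i] [IsClosedImmersion i.left]
    (hf : ∃ f' : 𝟙_ (Over (Spec (CommRingCat.of k))) ⟶ Γ, f' ≫ i = g)
    (hmin : ∀ (Γ' : Over (Spec (CommRingCat.of k))) (_ : GrpObj Γ') (i' : Γ' ⟶ G), IsMonHom i' → IsClosedImmersion i'.left →
        (∃ f'' : 𝟙_ (Over (Spec (CommRingCat.of k))) ⟶ Γ', f'' ≫ i' = g) → ∃ j : Γ ⟶ Γ', j ≫ i' = i) :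
    IsCommMonObj Γ := by
  haveI : IsSeparated Γ.hom := GrothLib.GrpSchField.isSeparated Γ
  haveI : IsSeparated G.hom := GrothLib.GrpSchField.isSeparated G
  haveI : Mono i := Over.mono_of_mono_left i
  obtain ⟨g₀, hg₀⟩ := hf
  -- a closed subgroup of `Γ` containing the point is everything
  have htop : ∀ (N : Over (Spec (CommRingCat.of k))) (n : N ⟶ Γ), IsClosedImmersion n.left →
      (∀ T, ∃ z : T ⟶ N, z ≫ n = 1) → (∀ (T : Over (Spec (CommRingCat.of k))) (a b : T ⟶ N), ∃ z : T ⟶ N, z ≫ n = (a ≫ n) * (b ≫ n)) →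
      (∀ (T : Over (Spec (CommRingCat.of k))) (a : T ⟶ N), ∃ z : T ⟶ N, z ≫ n = (a ≫ n)⁻¹) →
      (∃ z, z ≫ n = g₀) → ∃ j : Γ ⟶ N, j ≫ n = 𝟙 Γ := by
    rintro N n hn h1 h2 h3 ⟨z, hz⟩
    haveI := hn
    haveI : Mono n := Over.mono_of_mono_left n
    obtain ⟨_, _⟩ := GrothLib.EssFree.exists_grpObj_of_mono n h1 h2 h3
    haveI : IsClosedImmersion (n ≫ i).left := inferInstanceAs (IsClosedImmersion (n.left ≫ i.left))
    obtain ⟨j, hj⟩ := hmin N ‹_› (n ≫ i) inferInstance inferInstance ⟨z, by rw [← Category.assoc, hz, hg₀]⟩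
    exact ⟨j, by rw [← cancel_mono i, Category.assoc, hj, Category.id_comp]⟩
  -- the point commutes with everything
  have hcent : ∀ (T : Over (Spec (CommRingCat.of k))) (a : T ⟶ Γ),
      a * (toUnit T ≫ g₀) = (toUnit T ≫ g₀) * a := by
    let p : Γ ⟶ Γ := 𝟙 Γ * (toUnit Γ ≫ g₀)
    let q : Γ ⟶ Γ := (toUnit Γ ≫ g₀) * 𝟙 Γ
    let Δ : Γ ⟶ Γ ⊗ Γ := lift (𝟙 Γ) (𝟙 Γ)
    have hΔ : IsClosedImmersion Δ.left := by
      rw [Over.lift_left]
      exact inferInstanceAs (IsClosedImmersion (Limits.pullback.diagonal Γ.hom))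
    let n := Limits.pullback.fst (lift p q) Δ
    have hn : IsClosedImmersion n.left :=
      MorphismProperty.of_isPullback (((IsPullback.of_hasPullback (lift p q) Δ).map (Over.forget _))).flip hΔ
    have hmem : ∀ (T : Over (Spec (CommRingCat.of k))) (a : T ⟶ Γ),
        (∃ z : T ⟶ _, z ≫ n = a) ↔ a * (toUnit T ≫ g₀) = (toUnit T ≫ g₀) * a := by
      intro T a
      have hp : a ≫ p = a * (toUnit T ≫ g₀) := by simp [p, MonObj.comp_mul]
      have hq : a ≫ q = (toUnit T ≫ g₀) * a := by simp [q, MonObj.comp_mul]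
      constructor
      · rintro ⟨z, rfl⟩
        rw [← hp, ← hq]
        have h := congrArg (z ≫ ·) (Limits.pullback.condition (f := lift p q) (g := Δ))
        have h1 := congrArg (· ≫ fst Γ Γ) h
        have h2 := congrArg (· ≫ snd Γ Γ) h
        simp [Δ] at h1 h2
        rw [Category.assoc, Category.assoc]
        exact h1.trans h2.symm
      · intro h
        refine ⟨Limits.pullback.lift a (a ≫ p) ?_, Limits.pullback.lift_fst _ _ _⟩
        apply CartesianMonoidalCategory.hom_ext <;> simp [Δ, hp, hq, h]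
    obtain ⟨j, hj⟩ := htop _ n hn (fun T => (hmem T 1).2 (by simp))
      (fun T a b => (hmem T _).2 (by
        rw [_root_.mul_assoc, (hmem T _).1 ⟨b, rfl⟩, ← _root_.mul_assoc, (hmem T _).1 ⟨a, rfl⟩, _root_.mul_assoc]))
      (fun T a => (hmem T _).2 (Commute.inv_left ((hmem T _).1 ⟨a, rfl⟩)).eq)
      ((hmem _ g₀).2 (by rw [toUnit_unique (toUnit (𝟙_ _)) (𝟙 _), Category.id_comp]))
    exact fun T a => (hmem T a).1 ⟨a ≫ j, by rw [Category.assoc, hj, Category.comp_id]⟩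
  -- the centre is everything
  obtain ⟨Z, z, hz, hZ⟩ := GrothLib.EssFree.exists_closed_forall_eq
    (fst Γ Γ * snd Γ Γ) (snd Γ Γ * fst Γ Γ) (GrothLib.EssFree.projCover_field Γ Γ)
  have hmemZ : ∀ (T : Over (Spec (CommRingCat.of k))) (g : T ⟶ Γ), (∃ w, w ≫ z = g) ↔
      ∀ (T' : Over (Spec (CommRingCat.of k))) (t : T' ⟶ T) (y : T' ⟶ Γ), Commute (t ≫ g) y := fun T g =>
    (hZ T g).trans (forall₃_congr fun T' t y => by simp [Commute, SemiconjBy, MonObj.comp_mul])
  obtain ⟨j, hj⟩ := htop Z z hz (fun T => (hmemZ T 1).2 fun T' t y => by simp)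
    (fun T a b => (hmemZ T _).2 fun T' t y => by
      rw [MonObj.comp_mul]
      exact ((hmemZ T _).1 ⟨a, rfl⟩ T' t y).mul_left ((hmemZ T _).1 ⟨b, rfl⟩ T' t y))
    (fun T a => (hmemZ T _).2 fun T' t y => by
      rw [GrpObj.comp_inv]
      exact ((hmemZ T _).1 ⟨a, rfl⟩ T' t y).inv_left)
    ((hmemZ _ g₀).2 fun T' t y => by
      rw [toUnit_unique t (toUnit T')]
      exact (hcent T' y).symm)
  have h := (hmemZ Γ (𝟙 Γ)).1 ⟨j, hj⟩ (Γ ⊗ Γ) (fst Γ Γ) (snd Γ Γ)
  rw [Category.comp_id] at h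
  constructor
  have hμ : μ[Γ] = fst Γ Γ * snd Γ Γ := by rw [Hom.mul_def, lift_fst_snd, Category.id_comp]
  rw [hμ, MonObj.comp_mul, braiding_hom_fst, braiding_hom_snd]
  exact h.symm

end Groth.Agent.S5363
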