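import Groth.Statements.S5364
import Groth.Agent.Lib.EssFree.Over
import Groth.Agent.Lib.EssFree.Subgroup

set_option autoImplicit false
universe u
open CategoryTheory CategoryTheory.Limits MonoidalCategory CartesianMonoidalCategory MonObj GrpObj AlgebraicGeometry
open SGA3

namespace Groth.Agent.S5364

/-- Let G be a group scheme over a field k and a : A → G, b : B → G two closed subgroup schemes which
are geometrically reduced over k and normal in G. Let i : Γ → G be the commutator subgroup scheme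
(A, B): the smallest closed subgroup scheme of G through which the morphism A ×_k B → G, (x, y) ↦
a(x) b(y) a(x)⁻¹ b(y)⁻¹, factors. Then Γ is normal in G. (The published statement also covers
characteristic subgroups; this row states the case of normal subgroups only.) -/
theorem result (k : Type u) [Field k] (G A B : Over (Spec (CommRingCat.of k))) [GrpObj G] [GrpObj A] [GrpObj B]
    (a : A ⟶ G) [IsMonHom a] [IsClosedImmersion a.left] (b : B ⟶ G) [IsMonHom b] [IsClosedImmersion b.left]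
    [GeometricallyReduced A.hom] [GeometricallyReduced B.hom] (hA : AlgGrp.IsNormalHom a) (hB : AlgGrp.IsNormalHom b)
    (Γ : Over (Spec (CommRingCat.of k))) [GrpObj Γ] (i : Γ ⟶ G) [IsMonHom i] [IsClosedImmersion i.left]
    (hf : ∃ f' : A ⊗ B ⟶ Γ, f' ≫ i = (((fst A B) ≫ a) * ((snd A B) ≫ b) * ((fst A B) ≫ a)⁻¹ * ((snd A B) ≫ b)⁻¹))
    (hmin : ∀ (Γ' : Over (Spec (CommRingCat.of k))) (_ : GrpObj Γ') (i' : Γ' ⟶ G), IsMonHom i' → IsClosedImmersion i'.left →
        (∃ f'' : A ⊗ B ⟶ Γ', f'' ≫ i' = (((fst A B) ≫ a) * ((snd A B) ≫ b) * ((fst A B) ≫ a)⁻¹ * ((snd A B) ≫ b)⁻¹)) → ∃ j : Γ ⟶ Γ', j ≫ i' = i) :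
    AlgGrp.IsNormalHom i := by
  let c : G ⊗ G ⟶ G := snd G G * fst G G * (snd G G)⁻¹
  let E : Over (Spec (CommRingCat.of k)) := Over.mk (Limits.pullback.fst c.left i.left ≫ (G ⊗ G).hom)
  let e : E ⟶ G ⊗ G := Over.homMk (Limits.pullback.fst c.left i.left)
  haveI : IsClosedImmersion e.left :=
    MorphismProperty.pullback_fst (P := @IsClosedImmersion) _ _ inferInstance
  -- lifting to `E` means landing in `Γ` after conjugation
  have hE : ∀ (T : Over (Spec (CommRingCat.of k))) (w : T ⟶ G ⊗ G),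
      (∃ l : T ⟶ E, l ≫ e = w) ↔ ∃ n : T ⟶ Γ, n ≫ i = w ≫ c := by
    intro T w
    constructor
    · rintro ⟨l, rfl⟩
      refine ⟨Over.homMk (l.left ≫ Limits.pullback.snd c.left i.left) ?_, ?_⟩
      · rw [Category.assoc, ← Over.w i, ← Limits.pullback.condition_assoc]
        simp only [Over.w]
        exact Over.w l
      · ext1
        simp only [Over.comp_left, Over.homMk_left, Category.assoc, e]
        rw [Limits.pullback.condition]
    · rintro ⟨n, hn⟩
      have h' : w.left ≫ c.left = n.left ≫ i.left := by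
        rw [← Over.comp_left, ← Over.comp_left, hn]
      refine ⟨Over.homMk (Limits.pullback.lift w.left n.left h') ?_, ?_⟩
      · rw [show (E.hom : E.left ⟶ _) = Limits.pullback.fst c.left i.left ≫ (G ⊗ G).hom from rfl,
          Limits.pullback.lift_fst_assoc]
        exact Over.w w
      · exact Over.OverMorphism.ext (Limits.pullback.lift_fst _ _ _)
  obtain ⟨Z, z, hz, hZ⟩ :=
    GrothLib.EssFree.exists_closed_forall_points e (GrothLib.EssFree.projCover_field G G)
  haveI : IsClosedImmersion z.left := hz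
  haveI : Mono z := (Over.forget _).mono_of_mono_map (show Mono z.left from inferInstance)
  have conj : ∀ {T : Over (Spec (CommRingCat.of k))} (h y : T ⟶ G),
      lift h y ≫ c = y * h * y⁻¹ := by
    intro T h y
    simp only [c, MonObj.comp_mul, GrpObj.comp_inv, lift_fst, lift_snd]
  have hmem : ∀ {T : Over (Spec (CommRingCat.of k))} (g : T ⟶ G), (∃ w, w ≫ z = g) ↔
      ∀ (T' : Over (Spec (CommRingCat.of k))) (t : T' ⟶ T) (y : T' ⟶ G),
        ∃ n : T' ⟶ Γ, n ≫ i = y * (t ≫ g) * y⁻¹ := by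
    intro T g
    rw [hZ T g]
    refine forall₃_congr fun T' t y => ?_
    rw [hE, conj]
  obtain ⟨_, hzm⟩ := GrothLib.EssFree.exists_grpObj_of_mono z
    (fun T => (hmem 1).2 fun T' t y => ⟨1, by rw [MonObj.one_comp, MonObj.comp_one, _root_.mul_one, mul_inv_cancel]⟩)
    (fun T a b => (hmem _).2 fun T' t y => by
      obtain ⟨na, hna⟩ := (hmem (a ≫ z)).1 ⟨a, rfl⟩ T' t y
      obtain ⟨nb, hnb⟩ := (hmem (b ≫ z)).1 ⟨b, rfl⟩ T' t y
      refine ⟨na * nb, ?_⟩
      rw [MonObj.mul_comp, MonObj.comp_mul, hna, hnb]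
      simp [_root_.mul_assoc])
    (fun T a => (hmem _).2 fun T' t y => by
      obtain ⟨na, hna⟩ := (hmem (a ≫ z)).1 ⟨a, rfl⟩ T' t y
      refine ⟨na⁻¹, ?_⟩
      rw [GrpObj.inv_comp, GrpObj.comp_inv, hna]
      simp [_root_.mul_assoc])
  obtain ⟨f', hf'⟩ := hf
  obtain ⟨w, hw⟩ : ∃ w : A ⊗ B ⟶ Z,
      w ≫ z = ((fst A B) ≫ a) * ((snd A B) ≫ b) * ((fst A B) ≫ a)⁻¹ * ((snd A B) ≫ b)⁻¹ :=
    (hmem _).2 fun T' t y => by
      obtain ⟨a', ha'⟩ := hA T' y (t ≫ fst A B)
      obtain ⟨b', hb'⟩ := hB T' y (t ≫ snd A B)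
      refine ⟨lift a' b' ≫ f', ?_⟩
      rw [Category.assoc, hf']
      simp only [MonObj.comp_mul, GrpObj.comp_inv, lift_fst_assoc, lift_snd_assoc]
      rw [← ha', ← hb', Category.assoc, Category.assoc]
      simp [_root_.mul_assoc]
  obtain ⟨j, hj⟩ := hmin Z _ z hzm hz ⟨w, hw⟩
  intro T g n
  obtain ⟨n', hn'⟩ := (hmem (n ≫ i)).1 ⟨n ≫ j, by rw [Category.assoc, hj]⟩ T (𝟙 T) g
  exact ⟨n', by rw [hn', Category.id_comp]⟩

end Groth.Agent.S5364
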