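import Groth.Statements.S5365
import Groth.Agent.Lib.CommSub14.Basic
-- import your own Groth.Agent.* helpers here

set_option autoImplicit false
universe u
open CategoryTheory CategoryTheory.Limits MonoidalCategory CartesianMonoidalCategory MonObj GrpObj AlgebraicGeometry
open SGA3

namespace Groth.Agent.S5365

/-- Let G be a group scheme locally of finite type over a field k, a : A → G and b : B → G two closed
subgroup schemes which are geometrically reduced over k, and i : Γ → G the commutator subgroup
scheme (A, B), the smallest closed subgroup scheme through which (x, y) ↦ a(x) b(y) a(x)⁻¹ b(y)⁻¹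
factors. Suppose either (a) A and B are normal in G and of finite type over k, or (b) A is connected
and B is of finite type over k. Then Γ is of finite type over k, and in case (b) Γ is connected.
(The published statement also asserts that this subgroup represents the fppf sheaf generated by
commutators and describes its neutral component; this row states only the finiteness and
connectedness assertions.) -/
theorem result (k : Type u) [Field k] (G A B : Over (Spec (CommRingCat.of k))) [GrpObj G] [GrpObj A] [GrpObj B]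
    [LocallyOfFiniteType G.hom]
    (a : A ⟶ G) [IsMonHom a] [IsClosedImmersion a.left] (b : B ⟶ G) [IsMonHom b] [IsClosedImmersion b.left]
    [GeometricallyReduced A.hom] [GeometricallyReduced B.hom] [QuasiCompact B.hom]
    (hcase : (AlgGrp.IsNormalHom a ∧ AlgGrp.IsNormalHom b ∧ QuasiCompact A.hom) ∨ ConnectedSpace A.left)
    (Γ : Over (Spec (CommRingCat.of k))) [GrpObj Γ] (i : Γ ⟶ G) [IsMonHom i] [IsClosedImmersion i.left]
    (hf : ∃ f' : A ⊗ B ⟶ Γ, f' ≫ i = (((fst A B) ≫ a) * ((snd A B) ≫ b) * ((fst A B) ≫ a)⁻¹ * ((snd A B) ≫ b)⁻¹))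
    (hmin : ∀ (Γ' : Over (Spec (CommRingCat.of k))) (_ : GrpObj Γ') (i' : Γ' ⟶ G), IsMonHom i' → IsClosedImmersion i'.left →
        (∃ f'' : A ⊗ B ⟶ Γ', f'' ≫ i' = (((fst A B) ≫ a) * ((snd A B) ≫ b) * ((fst A B) ≫ a)⁻¹ * ((snd A B) ≫ b)⁻¹)) → ∃ j : Γ ⟶ Γ', j ≫ i' = i) :
    QuasiCompact Γ.hom ∧ (ConnectedSpace A.left → ConnectedSpace Γ.left) := by
  obtain ⟨f, hf⟩ := hf
  haveI : LocallyOfFiniteType A.hom := by rw [← Over.w a]; infer_instance
  haveI : Mono i := by haveI : Mono i.left := inferInstance; exact Over.mono_of_mono_left i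
  have h1 : lift (1 : B ⟶ A) (𝟙 B) ≫
      (((fst A B) ≫ a) * ((snd A B) ≫ b) * ((fst A B) ≫ a)⁻¹ * ((snd A B) ≫ b)⁻¹) = 1 := by
    simp [MonObj.comp_mul, GrpObj.comp_inv, MonObj.one_comp]
  have hqc : ∀ (Γ' : Over (Spec (CommRingCat.of k))) (i' : Γ' ⟶ G) [IsClosedImmersion i'.left],
      CompactSpace Γ'.left → (∃ j : Γ ⟶ Γ', j ≫ i' = i) → QuasiCompact Γ.hom := by
    rintro Γ' i' _ hc ⟨j, hj⟩
    haveI : IsClosedImmersion (j.left ≫ i'.left) := by rw [← Over.comp_left, hj]; infer_instance
    haveI : IsClosedImmersion j.left := IsClosedImmersion.of_comp j.left i'.left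
    haveI : CompactSpace Γ.left := j.left.isClosedEmbedding.compactSpace
    exact (quasiCompact_iff_compactSpace Γ.hom).mpr inferInstance
  refine ⟨?_, fun hA => ?_⟩
  · rcases hcase with ⟨hna, -, hA⟩ | hA
    · obtain ⟨n, hn⟩ := hna (A ⊗ B) (snd A B ≫ b) (fst A B)⁻¹
      haveI : CompactSpace A.left := (quasiCompact_iff_compactSpace A.hom).mp hA
      refine hqc A a inferInstance (hmin A inferInstance a inferInstance inferInstance ⟨fst A B * n, ?_⟩)
      rw [MonObj.mul_comp, ← hn, GrpObj.inv_comp]
      simp only [_root_.mul_assoc]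
    · haveI := hA
      obtain ⟨hC, hCm⟩ := GrothLib.ProfTranslate.exists_grpObj G
      obtain ⟨f'', hf''⟩ := GrothLib.ProfTranslate.exists_lift_component G _
        (GrothLib.CommSub14.range_subset_unitComponent _ h1)
      haveI : IsClosedImmersion (GrothLib.ProfTranslate.componentIncl G).left :=
        inferInstanceAs (IsClosedImmersion (GrothLib.ProfTranslate.componentIdeal G).subschemeι)
      exact hqc _ _ (GrothLib.CommSub14.compactSpace_component G)
        (hmin _ hC _ hCm inferInstance ⟨f'', hf''⟩)
  · obtain ⟨hC, hCm⟩ := GrothLib.ProfTranslate.exists_grpObj Γ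
    have hf1 : lift (1 : B ⟶ A) (𝟙 B) ≫ f = 1 := by
      rw [← cancel_mono i, Category.assoc, hf, MonObj.one_comp, h1]
    obtain ⟨f'', hf''⟩ := GrothLib.ProfTranslate.exists_lift_component Γ f
      (GrothLib.CommSub14.range_subset_unitComponent f hf1)
    haveI : IsClosedImmersion (GrothLib.ProfTranslate.componentIncl Γ).left :=
      inferInstanceAs (IsClosedImmersion (GrothLib.ProfTranslate.componentIdeal Γ).subschemeι)
    haveI : IsClosedImmersion (GrothLib.ProfTranslate.componentIncl Γ ≫ i).left := by
      rw [Over.comp_left]; infer_instance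
    obtain ⟨j, hj⟩ := hmin _ hC (GrothLib.ProfTranslate.componentIncl Γ ≫ i) inferInstance inferInstance
      ⟨f'', by rw [← Category.assoc, hf'', hf]⟩
    have hid : j ≫ GrothLib.ProfTranslate.componentIncl Γ = 𝟙 Γ := by
      rw [← cancel_mono i, Category.assoc, hj, Category.id_comp]
    have huniv : GrothLib.ProfTranslate.unitComponent Γ = Set.univ := Set.eq_univ_of_forall fun x => by
      rw [← GrothLib.ProfTranslate.range_subschemeι]
      refine ⟨j.left x, ?_⟩
      exact (Scheme.Hom.comp_apply j.left _ x).symm.trans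
        (congrArg (fun φ : Γ.left ⟶ Γ.left => φ x) (congrArg Over.Hom.left hid))
    exact connectedSpace_iff_univ.mpr (huniv ▸ isConnected_connectedComponent)

end Groth.Agent.S5365
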