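import Groth.Statements.S5369
import Groth.Agent.Lib.FpqcQuot14.Descents
import Groth.Agent.Lib.FpqcDesc.ClosedImmersion
import Mathlib.AlgebraicGeometry.Morphisms.LocalFlatDescent

set_option autoImplicit false
universe u
open CategoryTheory CategoryTheory.Limits MonoidalCategory CartesianMonoidalCategory MonObj GrpObj AlgebraicGeometry
open SGA3

namespace Groth.Agent.S5369

/-- Let u : G' → G be a monomorphism of S-group schemes and p : G → G'' a morphism of S-schemes which is
covering for the fpqc topology (some Z → G'' which is flat, surjective, with every affine open of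
G'' the image of a quasi-compact open of Z, factors through p) and such that the square (g, h) ↦
g·u(h), first projection G ×_S G' → G, p, p is cartesian, so that G'' represents the fpqc quotient
sheaf G/G'. Let ε'' be the composite of the unit section of G with p. Then the square formed by u,
the structure morphism G' → S, p and ε'' is cartesian; u is an immersion; and G'' is separated over
S if and only if u is a closed immersion, if and only if ε'' is a closed immersion. -/
theorem result (S : Scheme.{u}) (G G' G'' : Over S) [GrpObj G] [GrpObj G']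
    (u : G' ⟶ G) [IsMonHom u] [Mono u] (p : G ⟶ G'')
    (hcov : (∃ (Z : Scheme.{u}) (q : Z ⟶ G''.left) (r : Z ⟶ G.left), r ≫ p.left = q ∧ Surjective q ∧ Flat q ∧
        ∀ V : G''.left.Opens, IsAffineOpen V → ∃ W : Z.Opens, IsCompact (W : Set Z) ∧ q.base '' (W : Set Z) = (V : Set G''.left)))
    (hsq : IsPullback ((G ◁ u) ≫ μ[G]) (fst G G') p p) :
    IsPullback u (toUnit G') p (η[G] ≫ p) ∧ IsImmersion u.left ∧
    (IsSeparated G''.hom ↔ IsClosedImmersion u.left) ∧ (IsClosedImmersion u.left ↔ IsClosedImmersion (η[G] ≫ p).left) := by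
  have hp := GrothLib.FpqcQuot14.isCov_of_image hcov
  have hu := GrothLib.FpqcQuot14.isPullback_unit hsq
  have hu' := hu.map (Over.forget S)
  have hε : (η[G] ≫ p).left ≫ G''.hom = 𝟙 S := Over.w (η[G] ≫ p)
  have himm : IsImmersion u.left := by
    haveI : IsImmersion ((η[G] ≫ p).left ≫ G''.hom) := by rw [hε]; exact (inferInstance : IsImmersion (𝟙 S))
    haveI := IsImmersion.of_comp (η[G] ≫ p).left G''.hom
    exact MorphismProperty.of_isPullback (P := @IsImmersion) hu'.flip ‹IsImmersion (η[G] ≫ p).left›
  have h1 : IsSeparated G''.hom → IsClosedImmersion (η[G] ≫ p).left := fun _ => by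
    haveI : IsClosedImmersion ((η[G] ≫ p).left ≫ G''.hom) := by rw [hε]; exact (inferInstance : IsClosedImmersion (𝟙 S))
    exact IsClosedImmersion.of_comp (η[G] ≫ p).left G''.hom
  have h2 : IsClosedImmersion (η[G] ≫ p).left → IsClosedImmersion u.left := fun h =>
    MorphismProperty.of_isPullback (P := @IsClosedImmersion) hu'.flip h
  have h3 : IsClosedImmersion u.left → IsSeparated G''.hom := fun h => by
    let k : G ⊗ G' ⟶ G ⊗ G := lift (fst G G') ((G ◁ u) ≫ μ[G])
    let sh : G ⊗ G ⟶ G ⊗ G := lift (fst G G) μ[G]
    haveI : IsIso sh := by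
      refine ⟨lift (fst G G) ((fst G G)⁻¹ * snd G G), ?_, ?_⟩
      · have : μ[G] = fst G G * snd G G := by
          rw [Hom.mul_def, lift_fst_snd, Category.id_comp]
        simp [sh, comp_lift, MonObj.comp_mul, GrpObj.comp_inv, this]
      · have : μ[G] = fst G G * snd G G := by
          rw [Hom.mul_def, lift_fst_snd, Category.id_comp]
        simp [sh, comp_lift, MonObj.comp_mul, GrpObj.comp_inv, this]
    have hk : k = (G ◁ u) ≫ sh := by
      simp only [k, sh, comp_lift, whiskerLeft_fst]
    haveI : IsClosedImmersion k.left := by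
      have := MorphismProperty.of_isPullback (P := @IsClosedImmersion)
        ((GrothLib.FpqcQuot14.isPullback_whiskerLeft u G).map (Over.forget S)) h
      haveI : IsClosedImmersion (G ◁ u).left := this
      haveI : IsIso sh.left := inferInstanceAs (IsIso ((Over.forget S).map sh))
      rw [hk, Over.comp_left]
      infer_instance
    let Γ₀ : G ⟶ G ⊗ G'' := lift (𝟙 G) p
    let Δ : G'' ⟶ G'' ⊗ G'' := lift (𝟙 G'') (𝟙 G'')
    have sq2 : IsPullback (fst G G') k Γ₀ (G ◁ p) := by
      refine ⟨⟨?_⟩, ⟨PullbackCone.IsLimit.mk _ (fun s => hsq.lift (s.snd ≫ snd G G) s.fst ?_)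
        (fun s => hsq.lift_snd _ _ _) (fun s => ?_) (fun s m e1 e2 => ?_)⟩⟩
      · apply CartesianMonoidalCategory.hom_ext
        · simp [Γ₀, k]
        · simpa [Γ₀, k] using hsq.w.symm
      · simpa [Γ₀] using (congrArg (· ≫ snd G G'') s.condition).symm
      · apply CartesianMonoidalCategory.hom_ext
        · simp only [k, Category.assoc, lift_fst, IsPullback.lift_snd]
          simpa [Γ₀] using congrArg (· ≫ fst G G'') s.condition
        · simp only [k, Category.assoc, lift_snd, IsPullback.lift_fst]
      · apply hsq.hom_ext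
        · rw [IsPullback.lift_fst, ← e2]
          simp [k]
        · rw [IsPullback.lift_snd]
          exact e1
    have sq1 : IsPullback p Γ₀ Δ (p ▷ G'') := by
      refine ⟨⟨?_⟩, ⟨PullbackCone.IsLimit.mk _ (fun s => s.snd ≫ fst G G'')
        (fun s => ?_) (fun s => ?_) (fun s m e1 e2 => ?_)⟩⟩
      · apply CartesianMonoidalCategory.hom_ext <;> simp [Γ₀, Δ]
      · simpa [Δ] using (congrArg (· ≫ fst G'' G'') s.condition).symm
      · have e1 := congrArg (· ≫ fst G'' G'') s.condition
        have e2 := congrArg (· ≫ snd G'' G'') s.condition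
        simp [Δ] at e1 e2
        apply CartesianMonoidalCategory.hom_ext
        · simp [Γ₀]
        · simp [Γ₀, ← e1, e2]
      · rw [← e2]
        simp [Γ₀]
    have hΓ : IsClosedImmersion Γ₀.left :=
      (hp.whiskerLeft G).descend @IsClosedImmersion inferInstance (sq2.map (Over.forget S)) ‹IsClosedImmersion k.left›
    have hΔ : IsClosedImmersion Δ.left :=
      (hp.whiskerRight G'').descend @IsClosedImmersion inferInstance (sq1.map (Over.forget S)) hΓ
    refine ⟨?_⟩
    have : Δ.left = pullback.diagonal G''.hom := by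
      refine (pullback.hom_ext ?_ ?_).trans rfl
      · exact (congrArg Over.Hom.left (lift_fst (𝟙 G'') (𝟙 G''))).trans (pullback.diagonal_fst _).symm
      · exact (congrArg Over.Hom.left (lift_snd (𝟙 G'') (𝟙 G''))).trans (pullback.diagonal_snd _).symm
    rwa [this] at hΔ
  exact ⟨hu, himm, ⟨fun h => h2 (h1 h), h3⟩, ⟨fun h => h1 (h3 h), h2⟩⟩

end Groth.Agent.S5369
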