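import Groth.Statements.S5370
import Groth.Agent.Lib.FpqcQuot14.Descents
import Groth.Agent.Lib.FpqcDesc.ClosedImmersion
import Mathlib.AlgebraicGeometry.Morphisms.LocalFlatDescent

set_option autoImplicit false
universe u
open CategoryTheory CategoryTheory.Limits MonoidalCategory CartesianMonoidalCategory MonObj GrpObj AlgebraicGeometry
open SGA3

namespace Groth.Agent.S5370

/-- Let u : G' → G be a monomorphism of S-group schemes and p : G → G'' a morphism of S-schemes which is
covering for the fpqc topology (some Z → G'' which is flat, surjective, with every affine open of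
G'' the image of a quasi-compact open of Z, factors through p) and such that the square (g, h) ↦
g·u(h), first projection G ×_S G' → G, p, p is cartesian, so that G'' represents the fpqc quotient
sheaf G/G'. Then: (ix) if G is reduced, G'' is reduced; (xi) G' is flat over S if and only if p is
flat, and in that case G'' is flat over S if and only if G is flat over S. -/
theorem result (S : Scheme.{u}) (G G' G'' : Over S) [GrpObj G] [GrpObj G']
    (u : G' ⟶ G) [IsMonHom u] [Mono u] (p : G ⟶ G'')
    (hcov : (∃ (Z : Scheme.{u}) (q : Z ⟶ G''.left) (r : Z ⟶ G.left), r ≫ p.left = q ∧ Surjective q ∧ Flat q ∧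
        ∀ V : G''.left.Opens, IsAffineOpen V → ∃ W : Z.Opens, IsCompact (W : Set Z) ∧ q.base '' (W : Set Z) = (V : Set G''.left)))
    (hsq : IsPullback ((G ◁ u) ≫ μ[G]) (fst G G') p p) :
    (IsReduced G.left → IsReduced G''.left) ∧
    (Flat G'.hom ↔ Flat p.left) ∧ (Flat p.left → (Flat G''.hom ↔ Flat G.hom)) := by
  have hp := GrothLib.FpqcQuot14.isCov_of_image hcov
  have hiff : Flat G'.hom ↔ Flat p.left :=
    ⟨GrothLib.FpqcQuot14.prop_proj hsq hp @Flat GrothLib.AlgSp.descendsAlong_flat_fpqc,
      GrothLib.FpqcQuot14.prop_subgroup hsq @Flat⟩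
  refine ⟨fun _ => hp.isReduced, hiff, fun _ => ?_⟩
  rw [← Over.w p]
  exact hp.flat_iff G''.hom

end Groth.Agent.S5370
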