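import Groth.Statements.S5371
import Groth.Agent.Lib.FpqcQuot14.Descents
import Groth.Agent.Lib.FpqcDesc.ClosedImmersion
import Mathlib.AlgebraicGeometry.Morphisms.LocalFlatDescent

set_option autoImplicit false
universe u
open CategoryTheory CategoryTheory.Limits MonoidalCategory CartesianMonoidalCategory MonObj GrpObj AlgebraicGeometry
open SGA3

namespace Groth.Agent.S5371

/-- Let u : G' → G be a monomorphism of S-group schemes and p : G → G'' a morphism of S-schemes which is
covering for the fpqc topology (some Z → G'' which is flat, surjective, with every affine open of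
G'' the image of a quasi-compact open of Z, factors through p) and such that the square (g, h) ↦
g·u(h), first projection G ×_S G' → G, p, p is cartesian, so that G'' represents the fpqc quotient
sheaf G/G'. (xii) G' is flat and locally of finite presentation over S if and only if p is
surjective, flat and locally of finite presentation; in that case, if G is locally of finite
presentation (resp. locally of finite type, of finite type, smooth, etale, unramified, locally
quasi-finite) over S, so is G''. (xiii) If G' is flat and of finite presentation over S then p is of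
finite presentation, and G is of finite presentation over S if and only if G'' is. -/
theorem result (S : Scheme.{u}) (G G' G'' : Over S) [GrpObj G] [GrpObj G']
    (u : G' ⟶ G) [IsMonHom u] [Mono u] (p : G ⟶ G'')
    (hcov : (∃ (Z : Scheme.{u}) (q : Z ⟶ G''.left) (r : Z ⟶ G.left), r ≫ p.left = q ∧ Surjective q ∧ Flat q ∧
        ∀ V : G''.left.Opens, IsAffineOpen V → ∃ W : Z.Opens, IsCompact (W : Set Z) ∧ q.base '' (W : Set Z) = (V : Set G''.left)))
    (hsq : IsPullback ((G ◁ u) ≫ μ[G]) (fst G G') p p) :
    ((Flat G'.hom ∧ LocallyOfFinitePresentation G'.hom) ↔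
      (Surjective p.left ∧ Flat p.left ∧ LocallyOfFinitePresentation p.left)) ∧
    (Flat p.left → LocallyOfFinitePresentation p.left →
      (LocallyOfFinitePresentation G.hom → LocallyOfFinitePresentation G''.hom) ∧
      (LocallyOfFiniteType G.hom → LocallyOfFiniteType G''.hom) ∧
      (LocallyOfFiniteType G.hom → QuasiCompact G.hom → QuasiCompact G''.hom) ∧
      (Smooth G.hom → Smooth G''.hom) ∧ (Etale G.hom → Etale G''.hom) ∧
      (FormallyUnramified G.hom → LocallyOfFinitePresentation G.hom → FormallyUnramified G''.hom) ∧
      (LocallyQuasiFinite G.hom → LocallyOfFiniteType G.hom → LocallyQuasiFinite G''.hom)) ∧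
    (Flat G'.hom → LocallyOfFinitePresentation G'.hom → QuasiCompact G'.hom → QuasiSeparated G'.hom →
      QuasiCompact p.left ∧ QuasiSeparated p.left ∧ LocallyOfFinitePresentation p.left ∧
      ((LocallyOfFinitePresentation G.hom ∧ QuasiCompact G.hom ∧ QuasiSeparated G.hom) ↔
        (LocallyOfFinitePresentation G''.hom ∧ QuasiCompact G''.hom ∧ QuasiSeparated G''.hom))) := by
  have hp := GrothLib.FpqcQuot14.isCov_of_image hcov
  haveI := hp.surjective
  have hflat : Flat G'.hom → Flat p.left :=
    GrothLib.FpqcQuot14.prop_proj hsq hp @Flat GrothLib.AlgSp.descendsAlong_flat_fpqc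
  have hlfp : LocallyOfFinitePresentation G'.hom → LocallyOfFinitePresentation p.left :=
    GrothLib.FpqcQuot14.prop_proj hsq hp @LocallyOfFinitePresentation inferInstance
  have hG : G.hom = p.left ≫ G''.hom := (Over.w p).symm
  refine ⟨⟨fun h => ⟨hp.surjective, hflat h.1, hlfp h.2⟩, fun h =>
    ⟨GrothLib.FpqcQuot14.prop_subgroup hsq @Flat h.2.1,
      GrothLib.FpqcQuot14.prop_subgroup hsq @LocallyOfFinitePresentation h.2.2⟩⟩, fun hf hl => ?_, fun hf hl hc hq => ?_⟩
  · rw [hG]
    refine ⟨fun h => GrothLib.FppfSource.fppfSourceDescends_lfp p.left G''.hom hf hl hp.surjective h,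
      fun h => GrothLib.FppfSource.fppfSourceDescends_lft p.left G''.hom hf hl hp.surjective h,
      fun _ _ => GrothLib.GrpdQuot.quasiCompact_of_comp_surjective p.left G''.hom,
      fun h => GrothLib.FppfSource.fppfSourceDescends_smooth p.left G''.hom hf hl hp.surjective h,
      fun h => GrothLib.AlgSp.srcDescends_fppf_etale p.left G''.hom ⟨hf, hl⟩ hp.surjective h,
      fun h h' => ?_, fun h h' => ?_⟩
    · haveI := GrothLib.FppfSource.fppfSourceDescends_lft p.left G''.hom hf hl hp.surjective inferInstance
      exact GrothLib.FpqcQuot14.formallyUnramified_of_comp (c := p.left) G''.hom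
    · haveI := GrothLib.FppfSource.fppfSourceDescends_lft p.left G''.hom hf hl hp.surjective h'
      exact GrothLib.FpqcQuot14.locallyQuasiFinite_of_comp (c := p.left) G''.hom
  · have hpc : QuasiCompact p.left :=
      GrothLib.FpqcQuot14.prop_proj hsq hp @QuasiCompact GrothLib.EtSite.descendsAlong_quasiCompact hc
    have hps : QuasiSeparated p.left :=
      GrothLib.FpqcQuot14.prop_proj hsq hp @QuasiSeparated GrothLib.EtSite.descendsAlong_quasiSeparated hq
    haveI := hlfp hl
    refine ⟨hpc, hps, inferInstance, ?_⟩
    rw [hG]
    constructor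
    · rintro ⟨g1, g2, g3⟩
      exact ⟨GrothLib.FppfSource.fppfSourceDescends_lfp p.left G''.hom (hflat hf) (hlfp hl) hp.surjective g1,
        GrothLib.GrpdQuot.quasiCompact_of_comp_surjective p.left G''.hom,
        GrothLib.GrpdQuot.quasiSeparated_of_comp_surjective p.left G''.hom⟩
    · rintro ⟨_, _, _⟩
      exact ⟨inferInstance, inferInstance, inferInstance⟩

end Groth.Agent.S5371
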