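import Groth.Statements.S5373
import Groth.Agent.Lib.FpqcDesc.ClosedImmersion
import Mathlib.CategoryTheory.Limits.Constructions.Over.Connected

set_option autoImplicit false
universe u
open CategoryTheory CategoryTheory.Limits MonoidalCategory CartesianMonoidalCategory MonObj GrpObj AlgebraicGeometry
open SGA3

namespace Groth.Agent.S5373

open CategoryTheory.Limits in
/-- The statement with the structure morphism of the source expanded. -/
theorem aux {S : Scheme.{u}} {X Y : Over S} (p' : X.left ⟶ Y.left) (g : Y.left ⟶ S) (p : X ⟶ Y)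
    (hp : p' ≫ g = X.hom) (hg : g = Y.hom := by rfl) (hp' : p' = p.left := by rfl) :
    IsImmersion (lift (pullback.fst p p) (pullback.snd p p)).left ∧
      (IsSeparated Y.hom → IsClosedImmersion (lift (pullback.fst p p) (pullback.snd p p)).left) ∧
    ((∃ (Z : Scheme.{u}) (q : Z ⟶ Y.left) (r : Z ⟶ X.left), r ≫ p.left = q ∧ Surjective q ∧ Flat q ∧
        ∀ V : Y.left.Opens, IsAffineOpen V → ∃ W : Z.Opens, IsCompact (W : Set Z) ∧
          q.base '' (W : Set Z) = (V : Set Y.left)) →
      IsClosedImmersion (lift (pullback.fst p p) (pullback.snd p p)).left → IsSeparated Y.hom) := by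
  subst hg hp'
  let P : Limits.pullback X.hom X.hom ⟶ Limits.pullback Y.hom Y.hom :=
    pullback.map _ _ _ _ p.left p.left (𝟙 S) (by rw [Category.comp_id, hp]) (by rw [Category.comp_id, hp])
  let v := (lift (pullback.fst p p) (pullback.snd p p)).left
  have hv₁ : v ≫ pullback.fst X.hom X.hom = (pullback.fst p p).left :=
    congrArg Over.Hom.left (lift_fst (pullback.fst p p) (pullback.snd p p))
  have hv₂ : v ≫ pullback.snd X.hom X.hom = (pullback.snd p p).left :=
    congrArg Over.Hom.left (lift_snd (pullback.fst p p) (pullback.snd p p))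
  have hsq : IsPullback (pullback.fst p p).left (pullback.snd p p).left p.left p.left :=
    (IsPullback.of_hasPullback p p).map (Over.forget S)
  have hv : IsPullback ((pullback.fst p p).left ≫ p.left) v (pullback.diagonal Y.hom) P := by
    refine ⟨⟨?_⟩, ⟨PullbackCone.IsLimit.mk _
      (fun s => hsq.lift (s.snd ≫ pullback.fst _ _) (s.snd ≫ pullback.snd _ _) ?_) ?_ ?_ ?_⟩⟩
    · apply pullback.hom_ext
      · simp only [Category.assoc, pullback.diagonal_fst, Category.comp_id, P, pullback.lift_fst]
        rw [reassoc_of% hv₁]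
      · simp only [Category.assoc, pullback.diagonal_snd, Category.comp_id, P, pullback.lift_snd]
        rw [reassoc_of% hv₂, hsq.w]
    · have h1 := congrArg (· ≫ pullback.fst Y.hom Y.hom) s.condition
      have h2 := congrArg (· ≫ pullback.snd Y.hom Y.hom) s.condition
      simp only [Category.assoc, pullback.diagonal_fst, pullback.diagonal_snd, Category.comp_id, P,
        pullback.lift_fst, pullback.lift_snd] at h1 h2
      rw [Category.assoc, Category.assoc]
      exact h1.symm.trans h2
    · intro s
      rw [← Category.assoc, hsq.lift_fst]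
      have h1 := congrArg (· ≫ pullback.fst Y.hom Y.hom) s.condition
      simp only [Category.assoc, pullback.diagonal_fst, Category.comp_id, P, pullback.lift_fst] at h1
      rw [Category.assoc]
      exact h1.symm
    · intro s
      apply pullback.hom_ext
      · rw [Category.assoc, hv₁, hsq.lift_fst]
      · rw [Category.assoc, hv₂, hsq.lift_snd]
    · intro s m _ hm
      apply hsq.hom_ext
      · rw [hsq.lift_fst, ← hv₁, ← Category.assoc, hm]
      · rw [hsq.lift_snd, ← hv₂, ← Category.assoc, hm]
  refine ⟨MorphismProperty.of_isPullback (P := @IsImmersion) hv inferInstance, fun hs =>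
    MorphismProperty.of_isPullback (P := @IsClosedImmersion) hv hs.1, ?_⟩
  rintro ⟨Z, q, r, hr, hqs, hqf, hcov⟩ hvc
  have hP : IsClosedImmersion (pullback.snd (pullback.diagonal Y.hom) P) := by
    rw [← hv.isoPullback_inv_snd]
    exact (MorphismProperty.cancel_left_of_respectsIso (P := @IsClosedImmersion) _ _).2 hvc
  refine ⟨(IsZariskiLocalAtTarget.iff_of_openCover (P := @IsClosedImmersion)
    (Scheme.Pullback.openCoverOfLeftRight Y.left.affineCover Y.left.affineCover Y.hom Y.hom)).2 fun kl => ?_⟩
  have hW : ∀ k, ∃ (W : Scheme.{u}) (w : W ⟶ Y.left.affineCover.X k) (rW : W ⟶ X.left),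
      rW ≫ p.left = w ≫ Y.left.affineCover.f k ∧ Surjective w ∧ Flat w ∧ QuasiCompact w := fun k => by
    let φ := Y.left.affineCover.f k
    obtain ⟨W, hWc, hWi⟩ := hcov φ.opensRange (isAffineOpen_opensRange φ)
    have hr' : Set.range (W.ι ≫ q) ⊆ Set.range φ := by
      rintro _ ⟨z, rfl⟩
      exact hWi.le ⟨z.1, z.2, rfl⟩
    let w := IsOpenImmersion.lift φ (W.ι ≫ q) hr'
    have hw : w ≫ φ = W.ι ≫ q := IsOpenImmersion.lift_fac _ _ _
    refine ⟨W, w, W.ι ≫ r, by rw [Category.assoc, hr, hw], ⟨fun y => ?_⟩, ?_, ?_⟩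
    · obtain ⟨z, hz, hzy⟩ := hWi.ge ⟨y, rfl⟩
      refine ⟨⟨z, hz⟩, φ.isOpenEmbedding.injective ?_⟩
      rw [← Scheme.Hom.comp_apply, hw]
      exact hzy
    · refine MorphismProperty.of_isPullback (P := @Flat)
        (IsPullback.of_horiz_isIso_mono (fst := 𝟙 _) (snd := w) (f := W.ι ≫ q) (g := φ) ⟨by
          rw [Category.id_comp, hw]⟩) ?_
      infer_instance
    · haveI : CompactSpace ↥(W : Scheme.{u}) := isCompact_iff_compactSpace.mp hWc
      haveI : QuasiCompact (w ≫ CategoryTheory.Limits.terminal.from _) := by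
        rw [quasiCompact_iff_compactSpace]
        infer_instance
      exact QuasiCompact.of_comp w (CategoryTheory.Limits.terminal.from _)
  obtain ⟨k, l⟩ := kl
  obtain ⟨W₁, w₁, r₁, hr₁, _, _, _⟩ := hW k
  obtain ⟨W₂, w₂, r₂, hr₂, _, _, _⟩ := hW l
  let Φ : Limits.pullback (Y.left.affineCover.f k ≫ Y.hom) (Y.left.affineCover.f l ≫ Y.hom) ⟶
      Limits.pullback Y.hom Y.hom :=
    pullback.map _ _ _ _ (Y.left.affineCover.f k) (Y.left.affineCover.f l) (𝟙 S) (Category.comp_id _)
      (Category.comp_id _)
  let c : Limits.pullback (w₁ ≫ Y.left.affineCover.f k ≫ Y.hom) (w₂ ≫ Y.left.affineCover.f l ≫ Y.hom) ⟶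
      Limits.pullback (Y.left.affineCover.f k ≫ Y.hom) (Y.left.affineCover.f l ≫ Y.hom) :=
    pullback.map _ _ _ _ w₁ w₂ (𝟙 S) (Category.comp_id _) (Category.comp_id _)
  let m : Limits.pullback (w₁ ≫ Y.left.affineCover.f k ≫ Y.hom) (w₂ ≫ Y.left.affineCover.f l ≫ Y.hom) ⟶
      Limits.pullback X.hom X.hom :=
    pullback.map _ _ _ _ r₁ r₂ (𝟙 S) (by rw [Category.comp_id, ← hp, reassoc_of% hr₁])
      (by rw [Category.comp_id, ← hp, reassoc_of% hr₂])
  have hcm : c ≫ Φ = m ≫ P := by
    apply pullback.hom_ext
    · have a1 : Φ ≫ pullback.fst Y.hom Y.hom = pullback.fst _ _ ≫ Y.left.affineCover.f k :=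
        pullback.lift_fst _ _ _
      have a2 : c ≫ pullback.fst _ _ = pullback.fst _ _ ≫ w₁ := pullback.lift_fst _ _ _
      have a3 : P ≫ pullback.fst Y.hom Y.hom = pullback.fst X.hom X.hom ≫ p.left := pullback.lift_fst _ _ _
      have a4 : m ≫ pullback.fst X.hom X.hom = pullback.fst _ _ ≫ r₁ := pullback.lift_fst _ _ _
      rw [Category.assoc c, Category.assoc m, a1, a3, reassoc_of% a2, reassoc_of% a4, hr₁]
    · have a1 : Φ ≫ pullback.snd Y.hom Y.hom = pullback.snd _ _ ≫ Y.left.affineCover.f l :=
        pullback.lift_snd _ _ _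
      have a2 : c ≫ pullback.snd _ _ = pullback.snd _ _ ≫ w₂ := pullback.lift_snd _ _ _
      have a3 : P ≫ pullback.snd Y.hom Y.hom = pullback.snd X.hom X.hom ≫ p.left := pullback.lift_snd _ _ _
      have a4 : m ≫ pullback.snd X.hom X.hom = pullback.snd _ _ ≫ r₂ := pullback.lift_snd _ _ _
      rw [Category.assoc c, Category.assoc m, a1, a3, reassoc_of% a2, reassoc_of% a4, hr₂]
  haveI : MorphismProperty.IsStableUnderComposition (@Surjective : MorphismProperty Scheme.{u}) :=
    ⟨fun f g hf hg => (inferInstance : Surjective (f ≫ g))⟩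
  have hc : (@Surjective ⊓ @Flat ⊓ @QuasiCompact : MorphismProperty Scheme.{u}) c :=
    ⟨⟨MorphismProperty.pullbackMap (P := @Surjective) ‹Surjective w₁› ‹Surjective w₂› rfl rfl,
      MorphismProperty.pullbackMap (P := @Flat) ‹Flat w₁› ‹Flat w₂› rfl rfl⟩,
      MorphismProperty.pullbackMap (P := @QuasiCompact) ‹QuasiCompact w₁› ‹QuasiCompact w₂› rfl rfl⟩
  show IsClosedImmersion (pullback.snd (pullback.diagonal Y.hom) Φ)
  refine MorphismProperty.of_pullback_snd_of_descendsAlong (P := @IsClosedImmersion) (g := c) hc ?_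
  have h1 : IsClosedImmersion (pullback.snd (pullback.diagonal Y.hom) (m ≫ P)) := by
    rw [← pullbackLeftPullbackSndIso_inv_snd_snd (pullback.diagonal Y.hom) P m,
      MorphismProperty.cancel_left_of_respectsIso (P := @IsClosedImmersion)]
    exact MorphismProperty.pullback_snd _ _ hP
  rw [← pullbackLeftPullbackSndIso_hom_snd (pullback.diagonal Y.hom) Φ c,
    MorphismProperty.cancel_left_of_respectsIso (P := @IsClosedImmersion)]
  exact (congrArg (fun t => IsClosedImmersion (pullback.snd (pullback.diagonal Y.hom) t)) hcm).mpr h1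

/-- Let p : X → Y be a morphism of S-schemes and v : X ×_Y X → X ×_S X the canonical monomorphism (the
graph of the effective equivalence relation defined by p). Then (i) v is an immersion, and a closed
immersion if Y is separated over S; (ii) if p is covering for the fpqc topology (some Z → Y which is
flat, surjective, with every affine open of Y the image of a quasi-compact open of Z, factors
through p), so that Y represents the quotient sheaf of X by this equivalence relation, and v is a
closed immersion, then Y is separated over S. -/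
theorem result (S : Scheme.{u}) (X Y : Over S) (p : X ⟶ Y) :
    letI v : (pullback p p) ⟶ X ⊗ X := lift (pullback.fst p p) (pullback.snd p p)
    IsImmersion v.left ∧ (IsSeparated Y.hom → IsClosedImmersion v.left) ∧
    ((∃ (Z : Scheme.{u}) (q : Z ⟶ Y.left) (r : Z ⟶ X.left), r ≫ p.left = q ∧ Surjective q ∧ Flat q ∧
        ∀ V : Y.left.Opens, IsAffineOpen V → ∃ W : Z.Opens, IsCompact (W : Set Z) ∧ q.base '' (W : Set Z) = (V : Set Y.left)) →
      IsClosedImmersion v.left → IsSeparated Y.hom) := by

  exact aux p.left Y.hom p (Over.w p)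

end Groth.Agent.S5373
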