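import Groth.Statements.S5374
import Groth.Agent.Lib.GenericStage.Group
import Groth.Agent.Lib.EssFree.Transporter
import Groth.Agent.Lib.EssFree.Generic
import Mathlib

set_option autoImplicit false
universe u
open CategoryTheory CategoryTheory.Limits MonoidalCategory CartesianMonoidalCategory MonObj GrpObj AlgebraicGeometry
open SGA3

namespace Groth.Agent.S5374

/-- The transporter of two morphisms; the centralizer of a morphism is the case u = v: let S be an
integral scheme, G an S-group scheme of finite presentation, Y an S-scheme of finite presentation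
and u, v : Y → G two morphisms of S-schemes. Then there is a nonempty open subscheme S' of S such
that, after base change to S', the transporter of u into v (points g with g u(y) g⁻¹ = v(y) for all
points y of Y after any base change) is represented by a closed subscheme of G_{S'} of finite
presentation over S'. (The published statement also treats, over the same open, the transporter and
the strict transporter of two subschemes and the normalizer of a subscheme; this row treats the
transporter of two morphisms only.) -/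
theorem result (S : Scheme.{u}) [IsIntegral S] (G Y : Over S) [GrpObj G]
    [LocallyOfFinitePresentation G.hom] [QuasiCompact G.hom] [QuasiSeparated G.hom]
    [LocallyOfFinitePresentation Y.hom] [QuasiCompact Y.hom] [QuasiSeparated Y.hom] (u v : Y ⟶ G) :
    ∃ U : S.Opens, (U : Set S).Nonempty ∧
      ∃ (T : Over (U : Scheme.{u})) (t : T ⟶ Red.bc U.ι G), IsClosedImmersion t.left ∧
        LocallyOfFinitePresentation T.hom ∧ QuasiCompact T.hom ∧ QuasiSeparated T.hom ∧
        ∀ (S' : Over (U : Scheme.{u})) (g : S' ⟶ Red.bc U.ι G), (∃ z : S' ⟶ T, z ≫ t = g) ↔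
          ∀ (S'' : Over (U : Scheme.{u})) (s : S'' ⟶ S') (y : S'' ⟶ Red.bc U.ι Y),
            (s ≫ g) * (y ≫ (Over.pullback U.ι).map u) * (s ≫ g)⁻¹ = y ≫ (Over.pullback U.ι).map v := by
  obtain ⟨U₁, hU₁, hsep⟩ := GrothLib.GenericStage.exists_open_isSeparated G
  obtain ⟨U₂, hU₂, hfree⟩ := GrothLib.EssFree.exists_open_essFree Y.hom
  let U := U₁ ⊓ U₂
  have hη : IsClosedImmersion η[Red.bc U.ι G].left :=
    GrothLib.GenericStage.isClosedImmersion_eta_bc U.ι G
      (GrothLib.GenericStage.map_mono @IsClosedImmersion η[G] inf_le_left hsep)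
  have hY : SGA3x.IsEssentiallyFree (Red.bc U.ι Y).hom := GrothLib.GenericStage.essFree_mono Y.hom inf_le_right hfree
  refine ⟨U, nonempty_preirreducible_inter U₁.2 U₂.2 hU₁ hU₂, ?_⟩
  let G' := Red.bc U.ι G
  let Y' := Red.bc U.ι Y
  let u' : Y' ⟶ G' := (Over.pullback U.ι).map u
  let v' : Y' ⟶ G' := (Over.pullback U.ι).map v
  haveI : LocallyOfFinitePresentation G'.hom :=
    inferInstanceAs (LocallyOfFinitePresentation (pullback.snd G.hom U.ι))
  haveI : QuasiCompact G'.hom := inferInstanceAs (QuasiCompact (pullback.snd G.hom U.ι))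
  haveI : QuasiSeparated G'.hom := inferInstanceAs (QuasiSeparated (pullback.snd G.hom U.ι))
  haveI : QuasiCompact Y'.hom := inferInstanceAs (QuasiCompact (pullback.snd Y.hom U.ι))
  haveI hd : IsClosedImmersion (lift (𝟙 G') (𝟙 G')).left :=
    GrothLib.GrpSchField.diagonal_property @IsClosedImmersion hη
  have hdfp : LocallyOfFinitePresentation (lift (𝟙 G') (𝟙 G')).left := by
    refine GrothLib.GrpSchField.diagonal_property @LocallyOfFinitePresentation ?_
    haveI : LocallyOfFinitePresentation (η[G'].left ≫ G'.hom) := by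
      rw [GrothLib.GrpSchField.eta_left_hom]; exact MorphismProperty.of_isPullback (IsPullback.of_id_snd (f := 𝟙 (U : Scheme.{u}))) (inferInstance : LocallyOfFinitePresentation (𝟙 (U : Scheme.{u})))
    exact GrothLib.DiagGrp.lfp_of_comp_of_lft η[G'].left G'.hom inferInstance inferInstance
  let δ : G' ⊗ Y' ⟶ G' ⊗ G' := lift (fst G' Y' * (snd G' Y' ≫ u') * (fst G' Y')⁻¹) (snd G' Y' ≫ v')
  have sq := (IsPullback.of_hasPullback δ (lift (𝟙 G') (𝟙 G'))).map (Over.forget _)
  haveI : IsClosedImmersion (pullback.fst δ (lift (𝟙 G') (𝟙 G'))).left :=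
    MorphismProperty.of_isPullback sq.flip hd
  have hefp : LocallyOfFinitePresentation (pullback.fst δ (lift (𝟙 G') (𝟙 G'))).left :=
    MorphismProperty.of_isPullback sq.flip hdfp
  obtain ⟨Z, z, hz, hzfp, hZ⟩ :=
    GrothLib.EssFree.exists_closed_forall_points_essFree (pullback.fst δ (lift (𝟙 G') (𝟙 G'))) hY
  haveI := hzfp inferInstance hefp
  refine ⟨Z, z, hz, ?_, ?_, ?_, fun S' g => (hZ S' g).trans (forall₃_congr fun S'' s y => ?_)⟩
  · rw [← Over.w z]; infer_instance
  · rw [← Over.w z]; infer_instance
  · rw [← Over.w z]; infer_instance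
  have hc : lift (s ≫ g) y ≫ δ = lift ((s ≫ g) * (y ≫ u') * (s ≫ g)⁻¹) (y ≫ v') := by
    have e1 := lift_fst (X := G') (Y := Y') (s ≫ g) y
    have e2 := lift_snd (X := G') (Y := Y') (s ≫ g) y
    simp only [δ, comp_lift, MonObj.comp_mul, GrpObj.comp_inv, e1, ← Category.assoc (lift (s ≫ g) y), e2]
  constructor
  · rintro ⟨l, hl⟩
    have h := congrArg (· ≫ δ) hl
    simp only [Category.assoc, pullback.condition, hc, comp_lift, Category.comp_id] at h
    have h1 := congrArg (· ≫ fst G' G') h
    have h2 := congrArg (· ≫ snd G' G') h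
    erw [lift_fst, lift_fst] at h1
    erw [lift_snd, lift_snd] at h2
    exact h1.symm.trans h2
  · intro h
    refine ⟨pullback.lift (lift (s ≫ g) y) (y ≫ v') ?_, pullback.lift_fst _ _ _⟩
    rw [hc, comp_lift, Category.comp_id]
    exact congrArg (fun t => lift t (y ≫ v')) h

end Groth.Agent.S5374
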