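import Groth.Statements.S5375
import Groth.Agent.Lib.Hopf.Comod
import Groth.Agent.Lib.Hopf.Antipode

set_option autoImplicit false
universe u
open CategoryTheory CategoryTheory.Limits MonoidalCategory CartesianMonoidalCategory MonObj GrpObj AlgebraicGeometry
open SGA3

namespace Groth.Agent.S5375

/-- Let A be a commutative Hopf algebra over a field k (an affine k-group, not necessarily of finite
type) and x an element of A. Then there is a subalgebra B of A of finite type over k containing x
which is a sub-Hopf-algebra: the comultiplication sends B into B ⊗ B and the antipode preserves B. -/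
theorem result (k : Type u) [Field k] (A : Type u) [CommRing A] [HopfAlgebra k A] (x : A) :
    ∃ B : Subalgebra k A, x ∈ B ∧ B.FG ∧ SGA3.IsHopfSubalgebra k A B := by
  classical
  let W : Submodule k A := GrothLib.Hopf.Comod.gen (C := A) (Submodule.span k {x})
  have hWsub : HopfRep.IsSubcomod (k := k) (A := A) W := GrothLib.Hopf.Comod.gen_isSubcomod _
  haveI : Module.Finite k W :=
    Module.Finite.iff_fg.mpr (GrothLib.Hopf.Comod.gen_fg (Submodule.fg_span_singleton x))
  let b := Module.finBasis k W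
  have hex : ∀ i, ∃ a : Fin (Module.finrank k W) → A,
      Coalgebra.comul (R := k) (b i : A) = ∑ j, (b j : A) ⊗ₜ[k] a j := by
    intro i
    obtain ⟨y, hy⟩ := hWsub (b i) (b i).2
    refine ⟨fun j => TensorProduct.equivFinsuppOfBasisLeft b y j, hy.symm.trans ?_⟩
    conv_lhs => rw [← (TensorProduct.equivFinsuppOfBasisLeft b).symm_apply_apply y]
    rw [TensorProduct.equivFinsuppOfBasisLeft_symm_apply, Finsupp.sum_fintype _ _ (by simp), map_sum]
    simp
  choose a ha using hex
  have hg : ∀ l, ∃ g : A →ₗ[k] k, ∀ j, g (b j : A) = if j = l then 1 else 0 := by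
    intro l
    obtain ⟨g, hg⟩ := (b.coord l).exists_extend
    refine ⟨g, fun j => (LinearMap.congr_fun hg (b j)).trans ?_⟩
    simp [Finsupp.single_apply]
  choose g hg using hg
  have hΔ : ∀ i l, Coalgebra.comul (R := k) (a i l) = ∑ j, a j l ⊗ₜ[k] a i j := by
    intro i l
    have h := Coalgebra.coassoc_apply (R := k) (b i : A)
    rw [ha] at h
    simp only [map_sum, LinearMap.rTensor_tmul, LinearMap.lTensor_tmul, ha, TensorProduct.sum_tmul,
      TensorProduct.assoc_tmul] at h
    have h' := congrArg ((TensorProduct.lid k (TensorProduct k A A)).toLinearMap ∘ₗ LinearMap.rTensor (TensorProduct k A A) (g l)) h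
    simpa [map_sum, hg, ite_smul, Finset.sum_ite_eq'] using h'.symm
  have hε : ∀ i, (b i : A) = ∑ j, Coalgebra.counit (R := k) (b j : A) • a i j := by
    intro i
    have h := Coalgebra.rTensor_counit_comul (R := k) (b i : A)
    rw [ha] at h
    have h' := congrArg (TensorProduct.lid k A) h
    simpa [map_sum] using h'.symm
  let T : Set A := Set.range (fun p : Fin (Module.finrank k W) × Fin (Module.finrank k W) => a p.1 p.2)
  let B : Subalgebra k A := Algebra.adjoin k (T ∪ HopfAlgebraStruct.antipode k '' T)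
  have ha1 : ∀ i j, a i j ∈ B := fun i j => Algebra.subset_adjoin (Or.inl ⟨(i, j), rfl⟩)
  have ha2 : ∀ i j, HopfAlgebraStruct.antipode k (a i j) ∈ B :=
    fun i j => Algebra.subset_adjoin (Or.inr ⟨_, ⟨(i, j), rfl⟩, rfl⟩)
  refine ⟨B, ?_, Subalgebra.fg_def.mpr ⟨_, (Set.finite_range _).union ((Set.finite_range _).image _), rfl⟩,
    ?_, ?_⟩
  · have hx : x ∈ W := GrothLib.Hopf.Comod.le_gen _ (Submodule.subset_span rfl)
    have h1 : x = ∑ i, b.repr ⟨x, hx⟩ i • (b i : A) := by
      have := congrArg W.subtype (b.sum_repr ⟨x, hx⟩).symm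
      simp only [map_sum, map_smul, Submodule.subtype_apply] at this
      exact this
    rw [h1]
    refine Subalgebra.sum_mem _ fun i _ => Subalgebra.smul_mem _ ?_ _
    rw [hε i]
    exact Subalgebra.sum_mem _ fun j _ => Subalgebra.smul_mem _ (ha1 i j) _
  · have hle : B ≤ (Algebra.TensorProduct.map B.val B.val).range.comap (Bialgebra.comulAlgHom k A) := by
      refine Algebra.adjoin_le ?_
      rintro y (⟨⟨i, l⟩, rfl⟩ | ⟨_, ⟨⟨i, l⟩, rfl⟩, rfl⟩)
      · refine ⟨∑ j, ⟨_, ha1 j l⟩ ⊗ₜ[k] ⟨_, ha1 i j⟩, ?_⟩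
        exact (map_sum _ _ _).trans (hΔ i l).symm
      · refine ⟨∑ j, ⟨_, ha2 i j⟩ ⊗ₜ[k] ⟨_, ha2 j l⟩, ?_⟩
        refine (map_sum _ _ _).trans ?_
        show _ = Coalgebra.comul (R := k) (HopfAlgebraStruct.antipode k (a i l))
        rw [GrothLib.Hopf.comul_antipode, hΔ, map_sum, map_sum]
        rfl
    intro y hy
    obtain ⟨z, hz⟩ := hle hy
    exact ⟨z, hz⟩
  · have hle : B ≤ B.comap (HopfAlgebra.antipodeAlgHom k A) := by
      refine Algebra.adjoin_le ?_
      rintro y (⟨⟨i, l⟩, rfl⟩ | ⟨_, ⟨⟨i, l⟩, rfl⟩, rfl⟩)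
      · exact ha2 i l
      · show HopfAlgebraStruct.antipode k (HopfAlgebraStruct.antipode k (a i l)) ∈ B
        rw [GrothLib.Hopf.antipode_antipode]
        exact ha1 i l
    intro y hy
    exact hle hy

end Groth.Agent.S5375
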