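import Groth.Statements.S5376
import Groth.Agent.Lib.Hopf.Comod

set_option autoImplicit false
universe u
open CategoryTheory CategoryTheory.Limits MonoidalCategory CartesianMonoidalCategory MonObj GrpObj AlgebraicGeometry
open SGA3

namespace Groth.Agent.S5376

/-- Let k be an algebraically closed field, A a finitely generated commutative Hopf algebra over k which
is reduced (a reduced affine algebraic k-group G), V a finite-dimensional A-comodule and v a vector
of V. Let E be the k-subspace of V spanned by the vectors g·v for g running over the k-points of G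
(algebra maps A → k). Then E is a subcomodule of V containing v, and it is the smallest one. -/
theorem result (k : Type u) [Field k] [IsAlgClosed k] (A : Type u) [CommRing A] [HopfAlgebra k A]
    [Algebra.FiniteType k A] [IsReduced A] (V : Type u) [AddCommGroup V] [Module k V] [HopfRep.Comod k A V]
    [Module.Finite k V] (v : V) :
    letI E : Submodule k V := Submodule.span k (Set.range fun g : A →ₐ[k] k => HopfRep.Comod.act k A V g v)
    HopfRep.IsSubcomod (k := k) (A := A) E ∧ v ∈ E ∧
      ∀ W : Submodule k V, HopfRep.IsSubcomod (k := k) (A := A) W → v ∈ W → E ≤ W := by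
  set E : Submodule k V := Submodule.span k (Set.range fun g : A →ₐ[k] k => HopfRep.Comod.act k A V g v) with hEdef
  have hact : ∀ (g : A →ₐ[k] k) (w : V), HopfRep.Comod.act k A V g w =
      GrothLib.Hopf.Comod.op (g.toLinearMap) w := fun g w => rfl
  have hmin : ∀ W : Submodule k V, HopfRep.IsSubcomod (k := k) (A := A) W → v ∈ W → E ≤ W := by
    intro W hW hv
    refine Submodule.span_le.mpr ?_
    rintro _ ⟨g, rfl⟩
    exact GrothLib.Hopf.Comod.op_mem_of_isSubcomod hW hv g.toLinearMap
  -- points separate the elements of a reduced algebra of finite type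
  have hsep : ∀ a : A, (∀ g : A →ₐ[k] k, g a = 0) → a = 0 := by
    intro a ha
    haveI : IsJacobsonRing A := isJacobsonRing_of_finiteType (A := k)
    have h0 : a ∈ (⊥ : Ideal A).jacobson := by
      rw [Ideal.jacobson, Submodule.mem_sInf]
      rintro 𝔪 ⟨-, h𝔪⟩
      haveI := h𝔪
      letI := Ideal.Quotient.field 𝔪
      haveI : Algebra.FiniteType k (A ⧸ 𝔪) :=
        .of_surjective (Ideal.Quotient.mkₐ k 𝔪) (Ideal.Quotient.mkₐ_surjective k 𝔪)
      haveI : Module.Finite k (A ⧸ 𝔪) := finite_of_finite_type_of_isJacobsonRing k (A ⧸ 𝔪)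
      have hbij : Function.Bijective (Algebra.ofId k (A ⧸ 𝔪)) :=
        IsAlgClosed.algebraMap_bijective_of_isIntegral
      let e := (AlgEquiv.ofBijective _ hbij).symm
      have := ha (e.toAlgHom.comp (Ideal.Quotient.mkₐ k 𝔪))
      exact Ideal.Quotient.eq_zero_iff_mem.mp (e.injective (this.trans (map_zero e).symm))
    rw [IsJacobsonRing.out (inferInstance : IsJacobsonRing A) ((⊥ : Ideal A).isRadical_iff_quotient_reduced.mpr ?_)] at h0
    · exact h0
    · exact isReduced_of_injective (RingEquiv.quotientBot A).toRingHom (RingEquiv.quotientBot A).injective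
  have hgen : GrothLib.Hopf.Comod.gen (C := A) (Submodule.span k {v}) ≤ E := by
    refine iSup_le fun f => ?_
    rw [Submodule.map_span, Submodule.span_le, Set.image_singleton, Set.singleton_subset_iff, SetLike.mem_coe]
    by_contra hne
    obtain ⟨φ, hφ1, hφ2⟩ := Submodule.exists_dual_map_eq_bot_of_notMem hne inferInstance
    set a : A := TensorProduct.lid k A (φ.rTensor A (HopfRep.Comod.coact (k := k) (A := A) v)) with ha
    have key : ∀ f : Module.Dual k A, φ (GrothLib.Hopf.Comod.op f v) = f a := by
      intro f
      rw [ha, GrothLib.Hopf.Comod.op, LinearMap.comp_apply, LinearMap.comp_apply]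
      induction HopfRep.Comod.coact (k := k) (A := A) v using TensorProduct.induction_on with
      | zero => simp
      | tmul p q => simp [mul_comm]
      | add p q hp hq => simp only [map_add, LinearEquiv.coe_coe] at hp hq ⊢; rw [hp, hq]
    have ha0 : a = 0 := hsep a fun g => by
      have hmem : GrothLib.Hopf.Comod.op g.toLinearMap v ∈ E := Submodule.subset_span ⟨g, rfl⟩
      have h0 : φ (GrothLib.Hopf.Comod.op g.toLinearMap v) ∈ Submodule.map φ E := ⟨_, hmem, rfl⟩
      rw [hφ2, Submodule.mem_bot] at h0
      exact (key g.toLinearMap).symm.trans h0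
    exact hφ1 (by rw [key f, ha0, map_zero])
  have hv : v ∈ E := hgen (GrothLib.Hopf.Comod.le_gen _ (Submodule.subset_span rfl))
  have hE : E = GrothLib.Hopf.Comod.gen (C := A) (Submodule.span k {v}) :=
    le_antisymm (hmin _ (GrothLib.Hopf.Comod.gen_isSubcomod _)
      (GrothLib.Hopf.Comod.le_gen _ (Submodule.subset_span rfl))) hgen
  refine ⟨?_, hv, hmin⟩
  show HopfRep.IsSubcomod (k := k) (A := A) E
  rw [hE]
  exact GrothLib.Hopf.Comod.gen_isSubcomod _

end Groth.Agent.S5376
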