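import Groth.Statements.S5377
import Mathlib.RingTheory.RingHom.FaithfullyFlat
import Mathlib.RingTheory.Flat.EquationalCriterion
import Mathlib.RingTheory.Flat.FaithfullyFlat.Basic
import Mathlib.Algebra.Category.Ring.FilteredColimits
import Mathlib.CategoryTheory.Limits.ConcreteCategory.Basic

set_option autoImplicit false
universe u
open CategoryTheory CategoryTheory.Limits MonoidalCategory CartesianMonoidalCategory MonObj GrpObj AlgebraicGeometry
open SGA3

namespace Groth.Agent.S5377

/-- Let (C_i → A_i)_i be a filtered direct system of homomorphisms of commutative rings, each of which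
is faithfully flat. Then the induced homomorphism colim C_i → colim A_i is faithfully flat. -/
theorem result (J : Type u) [SmallCategory J] [IsFiltered J]
    (C A : J ⥤ CommRingCat.{u}) (φ : C ⟶ A) (h : ∀ j : J, (φ.app j).hom.FaithfullyFlat) :
    (colimMap φ).hom.FaithfullyFlat := by
  have common : ∀ (F : J ⥤ CommRingCat.{u}) (n : ℕ) (x : Fin n → ((colimit F : CommRingCat.{u}) : Type u)) (j₀ : J),
      ∃ (j : J) (_ : j₀ ⟶ j) (y : Fin n → (F.obj j : Type u)), ∀ i, (colimit.ι F j).hom (y i) = x i := by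
    intro F n
    induction n with
    | zero => exact fun x j₀ => ⟨j₀, 𝟙 j₀, fun i => i.elim0, fun i => i.elim0⟩
    | succ n ih =>
      intro x j₀
      obtain ⟨j, f, y, hy⟩ := ih (fun i => x i.succ) j₀
      obtain ⟨k, x₀, hx₀⟩ := Concrete.colimit_exists_rep F (x 0)
      refine ⟨IsFiltered.max j k, f ≫ IsFiltered.leftToMax j k,
        Fin.cons ((F.map (IsFiltered.rightToMax j k)).hom x₀) (fun i => (F.map (IsFiltered.leftToMax j k)).hom (y i)),
        fun i => ?_⟩
      induction i using Fin.cases with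
      | zero =>
        rw [Fin.cons_zero, ← RingHom.comp_apply, ← CommRingCat.hom_comp, colimit.w]
        exact hx₀
      | succ i =>
        rw [Fin.cons_succ, ← RingHom.comp_apply, ← CommRingCat.hom_comp, colimit.w]
        exact hy i
  have hnat : ∀ (j : J) (c : C.obj j), (colimMap φ).hom ((colimit.ι C j).hom c) =
      (colimit.ι A j).hom ((φ.app j).hom c) := fun j c => by
    rw [← RingHom.comp_apply, ← RingHom.comp_apply, ← CommRingCat.hom_comp, ← CommRingCat.hom_comp, ι_colimMap]
  letI : Algebra ((colimit C : CommRingCat.{u}) : Type u) ((colimit A : CommRingCat.{u}) : Type u) :=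
    (colimMap φ).hom.toAlgebra
  have hrep : ∀ (n : ℕ) (f : Fin n → ((colimit C : CommRingCat.{u}) : Type u))
      (x : Fin n → ((colimit A : CommRingCat.{u}) : Type u)) (a : ((colimit A : CommRingCat.{u}) : Type u)),
      ∑ i, f i • x i = a → ∀ (j' : J) (a' : A.obj j'), (colimit.ι A j').hom a' = a →
      ∃ (j : J) (g : j' ⟶ j) (c : Fin n → (C.obj j : Type u)) (y : Fin n → (A.obj j : Type u)),
        (∀ i, (colimit.ι C j).hom (c i) = f i) ∧ (∀ i, (colimit.ι A j).hom (y i) = x i) ∧
        ∑ i, (φ.app j).hom (c i) * y i = (A.map g).hom a' := by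
    intro n f x a hsum j' a' ha'
    obtain ⟨j₁, g₁, c, hc⟩ := common C n f j'
    obtain ⟨j₂, g₂, y, hy⟩ := common A n x j₁
    have e : (colimit.ι A j₂).hom (∑ i, (φ.app j₂).hom ((C.map g₂).hom (c i)) * y i) =
        (colimit.ι A j₂).hom ((A.map (g₁ ≫ g₂)).hom a') := by
      rw [map_sum]
      conv_rhs => rw [← RingHom.comp_apply, ← CommRingCat.hom_comp, colimit.w, ha', ← hsum]
      refine Finset.sum_congr rfl fun i _ => ?_
      rw [map_mul, ← hnat, ← RingHom.comp_apply (colimit.ι C j₂).hom, ← CommRingCat.hom_comp, colimit.w, hc, hy]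
      rfl
    obtain ⟨k, u₁, u₂, hk⟩ := Concrete.colimit_exists_of_rep_eq A _ _ e
    refine ⟨k, g₁ ≫ g₂ ≫ u₂, fun i => (C.map (g₂ ≫ u₁)).hom (c i), fun i => (A.map u₁).hom (y i),
      fun i => ?_, fun i => ?_, ?_⟩
    · rw [← RingHom.comp_apply, ← CommRingCat.hom_comp, colimit.w, hc]
    · rw [← RingHom.comp_apply, ← CommRingCat.hom_comp, colimit.w, hy]
    · change (A.map u₁).hom _ = (A.map u₂).hom _ at hk
      have hmap : ∀ (i : Fin n), (φ.app k).hom ((C.map (g₂ ≫ u₁)).hom (c i)) =
          (A.map u₁).hom ((φ.app j₂).hom ((C.map g₂).hom (c i))) := fun i => by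
        rw [← RingHom.comp_apply, ← RingHom.comp_apply, ← RingHom.comp_apply, ← CommRingCat.hom_comp,
          ← CommRingCat.hom_comp, ← CommRingCat.hom_comp, Functor.map_comp, Category.assoc,
          ← φ.naturality u₁]
      simp only [hmap]
      rw [map_sum] at hk
      simp only [map_mul] at hk
      rw [hk, ← RingHom.comp_apply, ← CommRingCat.hom_comp, ← Functor.map_comp, Category.assoc]
  have hflat : Module.Flat ((colimit C : CommRingCat.{u}) : Type u) ((colimit A : CommRingCat.{u}) : Type u) := by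
    refine Module.Flat.of_forall_isTrivialRelation fun {n f x} hsum => ?_
    obtain ⟨j₀⟩ : Nonempty J := IsFiltered.nonempty
    obtain ⟨j, g, c, y, hc, hy, e⟩ := hrep n f x 0 hsum j₀ 0 (map_zero _)
    letI : Algebra (C.obj j) (A.obj j) := (φ.app j).hom.toAlgebra
    haveI : Module.FaithfullyFlat (C.obj j) (A.obj j) := h j
    obtain ⟨m, b, z, h₁, h₂⟩ := Module.Flat.iff_forall_isTrivialRelation.mp
      (inferInstance : Module.Flat (C.obj j) (A.obj j)) (f := c) (x := y) (e.trans (map_zero _))
    refine ⟨m, fun i l => (colimit.ι C j).hom (b i l), fun l => (colimit.ι A j).hom (z l), fun i => ?_, fun l => ?_⟩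
    · rw [← hy, h₁, map_sum]
      refine Finset.sum_congr rfl fun l _ => ?_
      change (colimit.ι A j).hom ((φ.app j).hom (b i l) * z l) = (colimMap φ).hom _ * _
      rw [map_mul, hnat]
    · simp only [← hc, ← map_mul, ← map_sum, h₂ l, map_zero]
  refine @Module.FaithfullyFlat.mk _ _ _ _ _ hflat fun m hm htop => ?_
  have h1 : (1 : ((colimit A : CommRingCat.{u}) : Type u)) ∈ m • (⊤ : Submodule _ _) := htop ▸ Submodule.mem_top
  obtain ⟨n, f, x, hf, hsum⟩ : ∃ (n : ℕ) (f : Fin n → ((colimit C : CommRingCat.{u}) : Type u))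
      (x : Fin n → ((colimit A : CommRingCat.{u}) : Type u)), (∀ i, f i ∈ m) ∧ ∑ i, f i • x i = 1 := by
    refine Submodule.smul_induction_on (p := fun a => ∃ (n : ℕ) (f : Fin n → _) (x : Fin n → _),
      (∀ i, f i ∈ m) ∧ ∑ i, f i • x i = a) h1 (fun r hr a _ => ⟨1, fun _ => r, fun _ => a, fun _ => hr, by simp⟩) ?_
    rintro a b ⟨n, f, x, hf, rfl⟩ ⟨n', f', x', hf', rfl⟩
    refine ⟨n + n', Fin.append f f', Fin.append x x', fun i => ?_, by rw [Fin.sum_univ_add]; simp⟩
    induction i using Fin.addCases with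
    | left i => simpa using hf i
    | right i => simpa using hf' i
  obtain ⟨j₀⟩ : Nonempty J := IsFiltered.nonempty
  obtain ⟨j, g, c, y, hc, -, e⟩ := hrep n f x 1 hsum j₀ 1 (map_one _)
  letI : Algebra (C.obj j) (A.obj j) := (φ.app j).hom.toAlgebra
  haveI : Module.FaithfullyFlat (C.obj j) (A.obj j) := h j
  let mj : Ideal (C.obj j) := m.comap (colimit.ι C j).hom
  obtain ⟨M, hM, hle⟩ := Ideal.exists_le_maximal mj (Ideal.comap_ne_top _ hm.ne_top)
  apply Module.FaithfullyFlat.submodule_ne_top (R := C.obj j) (M := A.obj j) hM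
  have h1' : (1 : A.obj j) ∈ M • (⊤ : Submodule (C.obj j) (A.obj j)) := by
    rw [← map_one (A.map g).hom, ← e]
    exact Submodule.sum_mem _ fun i _ => show c i • y i ∈ _ from Submodule.smul_mem_smul
      (hle (show (colimit.ι C j).hom (c i) ∈ m from (hc i).symm ▸ hf i)) Submodule.mem_top
  rw [eq_top_iff]
  intro a _
  have h2 : ∀ b ∈ M • (⊤ : Submodule (C.obj j) (A.obj j)), a * b ∈ M • (⊤ : Submodule (C.obj j) (A.obj j)) := by
    intro b hb
    refine Submodule.smul_induction_on hb (fun r hr z _ => ?_) (fun p q hp hq => by rw [mul_add]; exact add_mem hp hq)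
    rw [mul_smul_comm]
    exact Submodule.smul_mem_smul hr Submodule.mem_top
  simpa using h2 1 h1'

end Groth.Agent.S5377
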