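import Groth.Statements.S5378
import Groth.Agent.Lib.AffMono14.Basic
import Groth.Agent.Lib.FlatFactor.Orbit
import Groth.Agent.Lib.Neutral.FieldFactor
import Mathlib

set_option autoImplicit false
universe u
open CategoryTheory CategoryTheory.Limits MonoidalCategory CartesianMonoidalCategory MonObj GrpObj AlgebraicGeometry
open SGA3

namespace Groth.Agent.S5378

/-- Let k be a field, G a k-group scheme of finite type, G' an affine k-group scheme (not necessarily of
finite type) and u : G → G' a homomorphism. Then u factors as a homomorphism p : G → C which is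
surjective and flat (C is the quotient of G by the kernel of u) followed by a homomorphism i : C →
G' which is a closed immersion; in particular C is affine. If moreover u induces an injective map on
global sections, then i is an isomorphism (so G' is of finite type and u is faithfully flat). -/
theorem result (k : Type u) [Field k] (G G' : Over (Spec (CommRingCat.of k))) [GrpObj G] [GrpObj G']
    [LocallyOfFiniteType G.hom] [QuasiCompact G.hom] [IsAffine G'.left] (u : G ⟶ G') [IsMonHom u] :
    ∃ (C : Over (Spec (CommRingCat.of k))) (_ : GrpObj C) (p : G ⟶ C) (i : C ⟶ G'), IsMonHom p ∧ IsMonHom i ∧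
      p ≫ i = u ∧ Surjective p.left ∧ Flat p.left ∧ IsClosedImmersion i.left ∧ IsAffine C.left ∧
      (Function.Injective u.left.appTop.hom → IsIso i) := by
  haveI : LocallyOfFinitePresentation G.hom := GrothLib.GrpSchField.lfp_of_isLocallyNoetherian _
  haveI : Flat (Limits.pullback u η[G']).hom := GrothLib.DiagGrp.flat_of_field _
  have sq : IsPullback (Limits.pullback.fst u η[G']) (toUnit _) u η[G'] := by
    rw [toUnit_unique (toUnit _) (Limits.pullback.snd u η[G'])]
    exact IsPullback.of_hasPullback _ _
  obtain ⟨Q, gQ, p, i, hp, hi, hpi, h₁, h₂, h₃, hm, hQ, hker, -⟩ :=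
    GrothLib.FlatFactor.exists_hom_factor (Or.inr inferInstance) u _ sq
  haveI := hi
  haveI := hm
  haveI := h₁
  haveI : IsAffineHom G'.hom := isAffineHom_of_isAffine _
  haveI : QuasiCompact u.left := by
    haveI : QuasiCompact (u.left ≫ G'.hom) := by rw [Over.w u]; infer_instance
    exact QuasiCompact.of_comp u.left G'.hom
  haveI : Mono i.left := inferInstanceAs (Mono ((Over.forget _).map i))
  haveI : QuasiCompact (p.left ≫ i.left) := by rw [← Over.comp_left, hpi]; infer_instance
  haveI := GrothLib.Thickening.quasiCompact_of_comp_surjective p.left i.left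
  haveI hic : IsClosedImmersion i.left := GrothLib.AffMono14.isClosedImmersion_of_mono i
  refine ⟨Q, gQ, p, i, hp, hi, hpi, h₁, h₂, hic, isAffine_of_isAffineHom i.left, fun hu => ?_⟩
  have he : u.left = p.left ≫ i.left := by rw [← hpi, Over.comp_left]
  rw [he, Scheme.Hom.comp_appTop, CommRingCat.hom_comp, RingHom.coe_comp] at hu
  haveI : IsIso i.left := IsClosedImmersion.isIso_of_injective_of_isAffine hu.of_comp
  haveI : IsIso ((Over.forget _).map i) := inferInstanceAs (IsIso i.left)
  exact isIso_of_reflects_iso i (Over.forget _)

end Groth.Agent.S5378
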