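import Groth.Statements.S5380
import Mathlib.RingTheory.Flat.EquationalCriterion
import Mathlib.RingTheory.Flat.Basic
import Mathlib.RingTheory.Localization.Module
import Mathlib.Algebra.Module.LocalizedModule.Int

set_option autoImplicit false
universe u

namespace Groth.Agent.S5380

variable {A : Type u} [CommRing A] {M : Type u} [AddCommGroup M] [Module A M]

/-- A vector which becomes a combination of syzygies after multiplication by `a` already is one. -/
theorem isTrivialRelation_of_smul (a : A) (haA : IsSMulRegular A a) (haM : IsSMulRegular M a)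
    (h1 : Module.Flat (A ⧸ Ideal.span {a}) (M ⧸ (Ideal.span {a} • (⊤ : Submodule A M))))
    {l : ℕ} {f : Fin l → A} {x : Fin l → M} (h : Module.IsTrivialRelation f (fun i => a • x i)) :
    Module.IsTrivialRelation f x := by
  classical
  obtain ⟨k, s, y, hx, hs⟩ := h
  let I := Ideal.span {a}
  let P := I • (⊤ : Submodule A M)
  let Ā := A ⧸ I
  haveI := h1
  let r : (Fin l → Ā) →ₗ[Ā] (Fin k → Ā) :=
    Fintype.linearCombination Ā (fun i j => Ideal.Quotient.mk I (s i j))
  let x' : (Fin k → Ā) →ₗ[Ā] (M ⧸ P) := Fintype.linearCombination Ā (fun j => Submodule.Quotient.mk (y j))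
  have h0 : x' ∘ₗ r = 0 := by
    refine LinearMap.pi_ext fun i c => ?_
    simp only [LinearMap.comp_apply, LinearMap.zero_apply]
    rw [show (Pi.single i c : Fin l → Ā) = c • Pi.single i 1 by
      rw [← Pi.single_smul, smul_eq_mul, mul_one], map_smul, map_smul]
    simp only [r, Fintype.linearCombination_apply_single, one_smul]
    simp only [x', Fintype.linearCombination_apply]
    rw [show ∑ j, Ideal.Quotient.mk I (s i j) • (Submodule.Quotient.mk (y j) : M ⧸ P) =
      Submodule.Quotient.mk (∑ j, s i j • y j) by
        rw [← Submodule.mkQ_apply, map_sum]; rfl, ← hx, (Submodule.Quotient.mk_eq_zero P).mpr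
        (Submodule.smul_mem_smul (Ideal.mem_span_singleton_self a) Submodule.mem_top), smul_zero]
  obtain ⟨m, b', z', hz, hb⟩ := Module.Flat.exists_factorization_of_comp_eq_zero_of_free h0
  choose b hb' using fun (j : Fin k) (n : Fin m) => Ideal.Quotient.mk_surjective (I := I) (b' (Pi.single j 1) n)
  choose z hz' using fun n : Fin m => Submodule.Quotient.mk_surjective P (z' (Finsupp.single n 1))
  have hw : ∀ j, ∃ w, y j - ∑ n, b j n • z n = a • w := by
    intro j
    have hmem : y j - ∑ n, b j n • z n ∈ P := by
      rw [← Submodule.Quotient.mk_eq_zero, ← Submodule.mkQ_apply, map_sub, map_sum, sub_eq_zero, Submodule.mkQ_apply]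
      have h2 := LinearMap.congr_fun hz (Pi.single j 1)
      simp only [x', Fintype.linearCombination_apply_single, one_smul, LinearMap.comp_apply] at h2
      rw [h2]
      conv_lhs => rw [← Finsupp.univ_sum_single (b' (Pi.single j 1)), map_sum]
      refine Finset.sum_congr rfl fun n _ => ?_
      rw [show Finsupp.single n ((b' (Pi.single j 1)) n) = (b' (Pi.single j 1)) n • Finsupp.single n (1 : Ā) by
        rw [Finsupp.smul_single, smul_eq_mul, mul_one], map_smul, ← hz', ← hb']
      rfl
    rw [show P = I • ⊤ from rfl, Submodule.ideal_span_singleton_smul, Submodule.mem_smul_pointwise_iff_exists] at hmem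
    obtain ⟨w, -, hw⟩ := hmem
    exact ⟨w, hw.symm⟩
  choose w hw using hw
  have hc : ∀ i n, ∃ c, ∑ j, s i j * b j n = a * c := by
    intro i n
    have h2 := DFunLike.congr_fun (LinearMap.congr_fun hb (Pi.single i 1)) n
    simp only [LinearMap.comp_apply, r, Fintype.linearCombination_apply_single, one_smul, LinearMap.zero_apply,
      Finsupp.zero_apply] at h2
    rw [pi_eq_sum_univ' (fun j => Ideal.Quotient.mk I (s i j)), map_sum, Finsupp.finsetSum_apply] at h2
    simp only [map_smul, Finsupp.smul_apply, smul_eq_mul, ← hb'] at h2
    simp only [← map_mul, ← map_sum] at h2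
    rw [Ideal.Quotient.eq_zero_iff_mem, Ideal.mem_span_singleton] at h2
    exact h2
  choose c hc using hc
  refine ⟨m + k, fun i => Fin.append (c i) (s i), Fin.append z w, fun i => haM ?_, ?_⟩
  · change a • x i = a • _
    rw [Fin.sum_univ_add, show a • x i = _ from hx i]
    simp only [Fin.append_left, Fin.append_right, smul_add, Finset.smul_sum, smul_smul, ← hc]
    simp only [mul_comm a, ← smul_smul, ← hw]
    simp only [Finset.sum_smul, smul_sub, Finset.smul_sum, Finset.sum_sub_distrib, smul_smul]
    rw [Finset.sum_comm, add_sub_cancel]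
  · intro n
    induction n using Fin.addCases with
    | left n =>
      simp only [Fin.append_left]
      refine haA ?_
      change a • _ = a • (0 : A)
      rw [smul_zero, smul_eq_mul, Finset.mul_sum]
      calc ∑ i, a * (f i * c i n) = ∑ i, f i * ∑ j, s i j * b j n :=
            Finset.sum_congr rfl fun i _ => by rw [hc]; ring
        _ = ∑ j, (∑ i, f i * s i j) * b j n := by
            simp only [Finset.mul_sum, Finset.sum_mul, mul_assoc]
            rw [Finset.sum_comm]
        _ = 0 := by simp [hs]
    | right n => simpa only [Fin.append_right] using hs n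

/-- Let R be a discrete valuation ring with uniformizer π, A a flat commutative R-algebra and M an
A-module which is flat over R. Suppose that M/πM is a flat module over A/πA and that M ⊗_R K is a
flat module over A ⊗_R K, K the fraction field of R (equivalently, M[1/π] is flat over A[1/π], the
form used here). Then M is a flat A-module. -/
theorem result (R : Type u) [CommRing R] [IsDomain R] [IsDiscreteValuationRing R]
    (π : R) (hπ : Irreducible π) (A : Type u) [CommRing A] [Algebra R A] [Module.Flat R A]
    (M : Type u) [AddCommGroup M] [Module A M] [Module R M] [IsScalarTower R A M] [Module.Flat R M]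
    (h1 : Module.Flat (A ⧸ Ideal.span {algebraMap R A π}) (M ⧸ (Ideal.span {algebraMap R A π} • (⊤ : Submodule A M))))
    (h2 : Module.Flat (Localization.Away (algebraMap R A π)) (LocalizedModule (Submonoid.powers (algebraMap R A π)) M)) :
    Module.Flat A M := by
  classical
  let a := algebraMap R A π
  have hreg : IsSMulRegular R π := fun x y h => mul_left_cancel₀ hπ.ne_zero h
  have haA : IsSMulRegular A a := fun x y h => (Module.Flat.isSMulRegular_of_isRegular
    (isRegular_of_ne_zero hπ.ne_zero) : IsSMulRegular A π) (by
      change π • x = π • y; rw [← algebraMap_smul A π x, ← algebraMap_smul A π y]; exact h)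
  have haM : IsSMulRegular M a := fun x y h => (Module.Flat.isSMulRegular_of_isRegular
    (isRegular_of_ne_zero hπ.ne_zero) : IsSMulRegular M π) (by
      change π • x = π • y; rw [← algebraMap_smul A π x, ← algebraMap_smul A π y]; exact h)
  let S := Submonoid.powers a
  let L := Localization.Away a
  haveI := h2
  let φ := LocalizedModule.mkLinearMap S M
  have hinjA : Function.Injective (algebraMap A L) := by
    refine (injective_iff_map_eq_zero _).mpr fun t ht => ?_
    obtain ⟨⟨_, n, rfl⟩, hn⟩ := (IsLocalization.map_eq_zero_iff S L t).mp ht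
    exact (haA.pow n) (by simpa using hn)
  have hinjM : Function.Injective φ := by
    refine (injective_iff_map_eq_zero _).mpr fun t ht => ?_
    obtain ⟨⟨_, n, rfl⟩, hn⟩ := (IsLocalizedModule.eq_zero_iff S φ).mp ht
    exact (haM.pow n) (by simpa [Submonoid.smul_def] using hn)
  refine Module.Flat.of_forall_isTrivialRelation fun {l f x} hfx => ?_
  obtain ⟨k, α, η, hxα, hfα⟩ := Module.Flat.isTrivialRelation_of_sum_smul_eq_zero (R := L)
    (f := fun i => algebraMap A L (f i)) (x := fun i => φ (x i))
    (by simp only [algebraMap_smul, ← map_smul, ← map_sum, hfx, map_zero])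
  obtain ⟨⟨_, p, rfl⟩, hp⟩ := IsLocalization.exist_integer_multiples_of_finite S
    (fun ij : Fin l × Fin k => α ij.1 ij.2)
  obtain ⟨⟨_, q, rfl⟩, hq⟩ := IsLocalizedModule.exist_integer_multiples_of_finite S φ η
  choose α' hα' using hp
  choose η' hη' using hq
  have key : Module.IsTrivialRelation f (fun i => a ^ (p + q) • x i) := by
    refine ⟨k, fun i j => α' (i, j), η', fun i => hinjM ?_, fun j => hinjA ?_⟩
    · rw [map_smul, map_sum, show φ (x i) = _ from hxα i, Finset.smul_sum]
      refine Finset.sum_congr rfl fun j _ => ?_
      rw [map_smul, hη', ← algebraMap_smul L (α' (i, j)), show algebraMap A L (α' (i, j)) = _ from hα' (i, j)]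
      change _ = ((a ^ p) • α i j) • ((a ^ q) • η j)
      rw [pow_add, ← smul_smul, smul_comm (a ^ q) (α i j), smul_assoc]
    · rw [map_zero, map_sum]
      calc ∑ i, algebraMap A L (f i * α' (i, j)) = ∑ i, (a ^ p) • (algebraMap A L (f i) * α i j) :=
            Finset.sum_congr rfl fun i _ => by rw [map_mul, hα' (i, j)]; exact mul_smul_comm _ _ _
        _ = 0 := by rw [← Finset.smul_sum, hfα, smul_zero]
  generalize p + q = n at key
  induction n with
  | zero => simpa using key
  | succ n ih =>
    refine ih (isTrivialRelation_of_smul a haA haM h1 ?_)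
    simpa [smul_smul, pow_succ'] using key

end Groth.Agent.S5380
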