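import Groth.Statements.S5381
import Mathlib.RingTheory.Flat.TorsionFree
import Mathlib.AlgebraicGeometry.Morphisms.Flat
import Mathlib.RingTheory.DedekindDomain.Dvr

set_option autoImplicit false
universe u
open CategoryTheory CategoryTheory.Limits MonoidalCategory CartesianMonoidalCategory MonObj GrpObj AlgebraicGeometry
open SGA3

namespace Groth.Agent.S5381

/-- For S the spectrum of a Dedekind domain R: let X be a scheme which is flat, quasi-compact and
quasi-separated over R. Then the ring of global sections Γ(X, O_X) is a flat R-module. (The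
published remark takes S locally noetherian and regular of dimension 1 and also observes, when S is
local with closed point s and uniformizer π, that Γ(X, O_X)/πΓ(X, O_X) → Γ(X_s, O_{X_s}) is
injective; this row takes S the spectrum of a Dedekind domain and omits the injectivity.) -/
theorem result (R : Type u) [CommRing R] [IsDedekindDomain R]
    (X : Scheme.{u}) (f : X ⟶ Spec (CommRingCat.of R)) [Flat f] [QuasiCompact f] [QuasiSeparated f] :
    letI := ((Scheme.ΓSpecIso (CommRingCat.of R)).inv ≫ f.appTop).hom.toAlgebra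
    Module.Flat R Γ(X, ⊤) := by
  letI := ((Scheme.ΓSpecIso (CommRingCat.of R)).inv ≫ f.appTop).hom.toAlgebra
  rw [IsDedekindDomain.flat_iff_torsion_eq_bot, eq_bot_iff]
  rintro x ⟨⟨a, ha⟩, hax : a • x = 0⟩
  rw [Submodule.mem_bot]
  refine X.sheaf.eq_of_locally_eq' (fun V : X.affineOpens => (V : X.Opens)) ⊤
    (fun V => homOfLE le_top) (fun y _ => ?_) x 0 (fun V => ?_)
  · obtain ⟨_, ⟨V, hV, rfl⟩, hyV, -⟩ :=
      X.isBasis_affineOpens.exists_subset_of_mem_open (Set.mem_univ y) isOpen_univ
    exact TopologicalSpace.Opens.mem_iSup.mpr ⟨⟨V, hV⟩, hyV⟩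
  · let φ : CommRingCat.of R ⟶ Γ(X, V) :=
      (Scheme.ΓSpecIso (CommRingCat.of R)).inv ≫ f.appLE ⊤ V le_top
    have hφ : φ.hom.Flat := by
      rw [CommRingCat.hom_comp]
      exact RingHom.Flat.comp (RingHom.Flat.of_bijective (ConcreteCategory.bijective_of_isIso (Scheme.ΓSpecIso (CommRingCat.of R)).inv))
        (f.flat_appLE (isAffineOpen_top _) V.2 le_top)
    letI := φ.hom.toAlgebra
    haveI : Module.Flat R Γ(X, V) := hφ
    have h0 : φ.hom a * X.presheaf.map (homOfLE (le_top : (V : X.Opens) ≤ ⊤)).op x = 0 := by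
      have h2 : φ.hom a = X.presheaf.map (homOfLE (le_top : (V : X.Opens) ≤ ⊤)).op
          (((Scheme.ΓSpecIso (CommRingCat.of R)).inv ≫ f.appTop).hom a) := by
        simp [φ, Scheme.Hom.appLE, Scheme.Hom.appTop]
      rw [h2, ← map_mul]
      rw [Algebra.smul_def] at hax
      exact (congrArg _ hax).trans (map_zero _)
    rw [map_zero]
    have := Module.Flat.torsion_eq_bot (R := R) (M := Γ(X, V))
    rw [eq_bot_iff] at this
    exact this (show (X.presheaf.map (homOfLE (le_top : (V : X.Opens) ≤ ⊤)).op x : Γ(X, V)) ∈ _ from ⟨⟨a, ha⟩, h0⟩)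

end Groth.Agent.S5381
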