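import Groth.Statements.S5384
import Mathlib
import Groth.Agent.Lib.Neutral.ArtinHom
import Groth.Agent.S0351

set_option autoImplicit false
universe u
open CategoryTheory CategoryTheory.Limits MonoidalCategory CartesianMonoidalCategory MonObj GrpObj AlgebraicGeometry
open SGA3

namespace Groth.Agent.S5384

/-- Let A be a local artinian ring, G an A-group scheme and u : H → G a homomorphism of A-group schemes
which is an immersion (a subgroup scheme; no finiteness is assumed). Then u is a closed immersion. -/
theorem result (A : Type u) [CommRing A] [IsArtinianRing A] [IsLocalRing A] (G H : Over (Spec (CommRingCat.of A))) [GrpObj G] [GrpObj H]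
    (u : H ⟶ G) [IsMonHom u] [IsImmersion u.left] : IsClosedImmersion u.left := by
  open GrothLib.Neutral in
  haveI : IsMonHom (red u) := inferInstance
  haveI : IsImmersion (red u).left :=
    MorphismProperty.of_isPullback (GrothLib.FibreLocus.isPullback_map_left u (closedPt A)).flip ‹IsImmersion u.left›
  haveI : IsClosedImmersion (red u).left := Groth.Agent.S0351.result _ _ _ (red u)
  haveI : Surjective (Limits.pullback.fst H.hom (closedPt A)) := MorphismProperty.pullback_fst _ _ inferInstance
  refine IsClosedImmersion.iff_isPreimmersion.mpr ⟨inferInstance, ?_⟩
  have h : Set.range u.left.base =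
      (Limits.pullback.fst G.hom (closedPt A)).base '' Set.range (red u).left.base := by
    rw [← Set.range_comp, ← TopCat.coe_comp, ← Scheme.Hom.comp_base, red_w, Scheme.Hom.comp_base, TopCat.coe_comp,
      Set.range_comp, (Limits.pullback.fst H.hom (closedPt A)).surjective.range_eq, Set.image_univ]
  rw [h]
  exact (Limits.pullback.fst G.hom (closedPt A)).isClosedEmbedding.isClosedMap _
    (red u).left.isClosedEmbedding.isClosed_range

end Groth.Agent.S5384
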