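import Groth.Statements.S5387
import Mathlib
import Groth.Agent.Lib.MonoHom.FiniteKernel

set_option autoImplicit false
universe u
open CategoryTheory CategoryTheory.Limits MonoidalCategory CartesianMonoidalCategory MonObj GrpObj AlgebraicGeometry
open SGA3

namespace Groth.Agent.S5387

/-- Let k be an algebraically closed field, G a group scheme locally of finite type over k and x a
closed point of G. Then the local ring of G at x is isomorphic to the local ring of G at the unit
point (an isomorphism is induced by a translation; this row asserts the existence of an isomorphism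
of rings). -/
theorem result (k : Type u) [Field k] [IsAlgClosed k] (G : Over (Spec (CommRingCat.of k))) [GrpObj G]
    [LocallyOfFiniteType G.hom] (pt : ↥(𝟙_ (Over (Spec (CommRingCat.of k)))).left) (x : G.left) (hx : IsClosed ({x} : Set G.left)) :
    Nonempty (G.left.presheaf.stalk (η[G].left.base pt) ≅ G.left.presheaf.stalk x) := by
  obtain ⟨⟨p, hp⟩, hpx⟩ := (pointEquivClosedPoint G.hom).surjective ⟨x, hx⟩
  let a : 𝟙_ (Over (Spec (CommRingCat.of k))) ⟶ G := Over.homMk p hp
  have ha : ∀ q, a.left.base q = x := fun q => by
    rw [show x = p.base (IsLocalRing.closedPoint k) from (congrArg Subtype.val hpx).symm]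
    exact congrArg p.base (Subsingleton.elim (α := Spec (CommRingCat.of k)) q _)
  let e : G ≅ G :=
    { hom := 𝟙 G * (toUnit G ≫ a)
      inv := 𝟙 G * (toUnit G ≫ a)⁻¹
      hom_inv_id := by
        rw [MonObj.comp_mul, Category.comp_id, GrpObj.comp_inv, ← Category.assoc, comp_toUnit, _root_.mul_inv_cancel_right]
      inv_hom_id := by
        rw [MonObj.comp_mul, Category.comp_id, ← Category.assoc, comp_toUnit, _root_.inv_mul_cancel_right] }
  haveI : IsIso e.hom.left := inferInstanceAs (IsIso ((Over.forget _).mapIso e).hom)
  have he : η[G] ≫ e.hom = a := by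
    show η[G] ≫ (𝟙 G * (toUnit G ≫ a)) = a
    rw [MonObj.comp_mul, Category.comp_id, ← Category.assoc, toUnit_unique (η[G] ≫ toUnit G) (𝟙 _),
      Category.id_comp, MonObj.one_eq_one, _root_.one_mul]
  have hx' : e.hom.left.base (η[G].left.base pt) = x := by
    rw [← ha pt, ← he]
    rfl
  exact ⟨(TopCat.Presheaf.stalkCongr _ (.of_eq hx'.symm) ≪≫ asIso (e.hom.left.stalkMap _)).symm⟩

end Groth.Agent.S5387
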