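import Groth.Statements.S5388
import Mathlib
import Groth.Agent.Lib.FBase7.Points
import Groth.Agent.Lib.GrpSchField.ReducedLocus
import Groth.Agent.Lib.GrpSchField.Smooth
import Groth.Agent.Lib.Neutral.ArtinHom

set_option autoImplicit false
universe u
open CategoryTheory CategoryTheory.Limits MonoidalCategory CartesianMonoidalCategory MonObj GrpObj AlgebraicGeometry
open SGA3

namespace Groth.Agent.S5388

/-- Let G be a group scheme locally of finite type over a field k, e its unit point and K a perfect
extension field of k. If K ⊗_k O_{G,e} is a reduced ring, then G is smooth over k. (The published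
statement is for a group flat and locally of finite type over a local artinian ring, with K the
perfect closure of the residue field; this row is the case of a base field, with K any perfect
extension.) -/
theorem result (k : Type u) [Field k] (G : Over (Spec (CommRingCat.of k))) [GrpObj G]
    [LocallyOfFiniteType G.hom] (pt : ↥(𝟙_ (Over (Spec (CommRingCat.of k)))).left) (K : Type u) [Field K] [Algebra k K] [PerfectField K] :
    letI := ((Scheme.ΓSpecIso (CommRingCat.of k)).inv ≫ G.hom.appTop ≫ G.left.presheaf.germ ⊤ (η[G].left.base pt) trivial).hom.toAlgebra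
    IsReduced (TensorProduct k K (G.left.presheaf.stalk (η[G].left.base pt))) → Smooth G.hom := by
  intro hred
  let σ : Spec (CommRingCat.of K) ⟶ Spec (CommRingCat.of k) := Spec.map (CommRingCat.ofHom (algebraMap k K))
  let y := η[G].left.base pt
  let ψ := (Scheme.ΓSpecIso (CommRingCat.of k)).inv ≫ G.hom.appTop ≫ G.left.presheaf.germ ⊤ y trivial
  have hψ : G.left.fromSpecStalk y ≫ G.hom = Spec.map ψ := by
    rw [← cancel_mono (Spec (CommRingCat.of k)).toSpecΓ, Category.assoc, Scheme.toSpecΓ_naturality,
      Scheme.fromSpecStalk_toSpecΓ_assoc, ← SpecMap_ΓSpecIso_hom]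
    simp [ψ, ← Spec.map_comp]
    rw [← SpecMap_ΓSpecIso_hom, ← Spec.map_comp]
    simp
  let G' := Red.bc σ G
  haveI : LocallyOfFiniteType G'.hom := MorphismProperty.pullback_snd _ _ ‹_›
  let z := η[G'].left.base (IsLocalRing.closedPoint K)
  have hz : (Limits.pullback.fst G.hom σ).base z = y := by
    have h := congrArg (fun φ => φ.base (IsLocalRing.closedPoint K)) (GrothLib.Neutral.unit_fst (G := G) σ)
    exact h.trans (congrArg η[G].left.base (Subsingleton.elim (α := PrimeSpectrum k) _ _))
  obtain ⟨q, w, hq, hw⟩ := GrothLib.FBase7.exists_flat_of_stalk G.hom σ z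
  haveI : AlgebraicGeometry.IsReduced
      (Limits.pullback (G.left.fromSpecStalk ((Limits.pullback.fst G.hom σ).base z) ≫ G.hom) σ) := by
    rw [hz, hψ]
    letI := ψ.hom.toAlgebra
    haveI : _root_.IsReduced (TensorProduct k K (G.left.presheaf.stalk y)) := hred
    haveI : _root_.IsReduced (TensorProduct k (G.left.presheaf.stalk y) K) :=
      isReduced_of_injective _ (Algebra.TensorProduct.comm k (G.left.presheaf.stalk y) K).injective
    haveI : AlgebraicGeometry.IsReduced (Spec (CommRingCat.of (TensorProduct k (G.left.presheaf.stalk y) K))) :=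
      inferInstance
    exact isReduced_of_isOpenImmersion (pullbackSpecIso k (G.left.presheaf.stalk y) K).hom
  haveI : _root_.IsReduced (G'.left.presheaf.stalk z) :=
    GrothLib.FBase7.isReduced_stalk_of_flat q w hw inferInstance
  haveI : IsLocallyNoetherian G'.left := LocallyOfFiniteType.isLocallyNoetherian G'.hom
  obtain ⟨U, hzU, hU⟩ := GrothLib.GrpSchField.exists_isReduced_nhd z
  haveI := hU
  haveI : Nonempty U.toScheme := ⟨⟨z, hzU⟩⟩
  haveI : LocallyOfFinitePresentation (U.ι ≫ G'.hom) := inferInstance
  obtain ⟨w', hw'⟩ := (Scheme.Hom.dense_smoothLocus_of_perfectField (U.ι ≫ G'.hom)).nonempty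
  let V := (U.ι ≫ G'.hom).smoothLocus
  haveI : Nonempty V.toScheme := ⟨⟨w', hw'⟩⟩
  haveI : Smooth ((V.ι ≫ U.ι) ≫ G'.hom) := by
    rw [Category.assoc, ← Scheme.Hom.smoothLocus_eq_top_iff, ← Scheme.Hom.preimage_smoothLocus_eq,
      Scheme.Opens.ι_preimage_self]
  have h : Smooth G'.hom := GrothLib.GrpSchField.smooth_of_open_smooth G' (V.ι ≫ U.ι)
  haveI : Flat σ := GrothLib.DiagGrp.flat_of_field _
  haveI : Surjective σ := ⟨fun p => ⟨IsLocalRing.closedPoint K, Subsingleton.elim (α := PrimeSpectrum k) _ _⟩⟩
  exact MorphismProperty.of_pullback_snd_of_descendsAlong (P := @Smooth)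
    (Q := @Surjective ⊓ @Flat ⊓ @QuasiCompact) (g := σ) ⟨⟨inferInstance, inferInstance⟩, inferInstance⟩ h

end Groth.Agent.S5388
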