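import Groth.Statements.S5389
import Groth.Agent.Lib.MaxOpen.Basic

set_option autoImplicit false
universe u
open CategoryTheory CategoryTheory.Limits MonoidalCategory CartesianMonoidalCategory MonObj GrpObj AlgebraicGeometry
open SGA3

namespace Groth.Agent.S5389

/-- Let P be a property of morphisms of schemes which is local on the target for the fpqc topology
(stable under base change, Zariski-local on the target, and descending along flat surjective
quasi-compact morphisms). Let u : G → H be a homomorphism of S-group schemes with G flat and
universally open over S, W the largest open subscheme of H over which the restriction of u has P,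
and V = u⁻¹(W). Then the image U of V in S is open and V is an open subgroup scheme of G over U: V
contains the unit point of every fibre of G that it meets, V is stable under the inversion of G, and
the product of a point of G ×_S G whose two projections lie in V lies in V. -/
theorem result (P : MorphismProperty Scheme.{u}) [P.IsStableUnderBaseChange] [IsZariskiLocalAtTarget P]
    [P.DescendsAlong (@Flat ⊓ @Surjective ⊓ @QuasiCompact)]
    (S : Scheme.{u}) (G H : Over S) [GrpObj G] [GrpObj H] (u : G ⟶ H) [IsMonHom u] [Flat G.hom] [UniversallyOpen G.hom]
    (W : H.left.Opens) (hW : P (u.left ∣_ W)) (hmax : ∀ W' : H.left.Opens, P (u.left ∣_ W') → W' ≤ W) :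
    letI V : G.left.Opens := u.left ⁻¹ᵁ W
    IsOpen (G.hom.base '' (V : Set G.left)) ∧
    (∀ g ∈ V, ∀ p : ↥(𝟙_ (Over S)).left, (𝟙_ (Over S)).hom.base p = G.hom.base g → η[G].left.base p ∈ V) ∧
    (∀ g ∈ V, ι[G].left.base g ∈ V) ∧
    (∀ z : ↥(G ⊗ G).left, (fst G G).left.base z ∈ V → (snd G G).left.base z ∈ V → μ[G].left.base z ∈ V) := by
  exact GrothLib.MaxOpen.preimage_isSubgroup P u W hW hmax

end Groth.Agent.S5389
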