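import Groth.Statements.S5392
import Groth.Agent.Lib.SecLocus.MonoGroup

set_option autoImplicit false
universe u
open CategoryTheory CategoryTheory.Limits MonoidalCategory CartesianMonoidalCategory MonObj GrpObj AlgebraicGeometry
open SGA3

namespace Groth.Agent.S5392

/-- Let X be an S-group scheme which is smooth and of finite presentation over S with connected fibres,
Y an S-group scheme of finite presentation over S and i : Y → X a homomorphism which is a
monomorphism. Then there is a closed immersion t : T → S, locally of finite presentation, such that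
a morphism g : S' → S factors through t exactly when the base change of i along g is an isomorphism. -/
theorem result (S : Scheme.{u}) (X Y : Over S) [GrpObj X] [GrpObj Y]
    [Smooth X.hom] [QuasiCompact X.hom] [QuasiSeparated X.hom]
    (hconn : ∀ s : S, _root_.IsConnected (X.hom.base ⁻¹' {s}))
    [LocallyOfFinitePresentation Y.hom] [QuasiCompact Y.hom] [QuasiSeparated Y.hom]
    (i : Y ⟶ X) [IsMonHom i] [Mono i] :
    ∃ (T : Scheme.{u}) (t : T ⟶ S), IsClosedImmersion t ∧ LocallyOfFinitePresentation t ∧
      ∀ (S' : Scheme.{u}) (g : S' ⟶ S),
        (∃ g' : S' ⟶ T, g' ≫ t = g) ↔ IsIso ((Over.pullback g).map i) := by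

  have := GrothLib.SecLocus.geometricallyIrreducible_of_connected X hconn
  obtain ⟨T, t, ht, hfp, hT⟩ := GrothLib.SecLocus.exists_closed_locus_group X Y i
  refine ⟨T, t, ht, hfp, fun S' g => (hT S' g).trans ⟨fun hl => ?_, fun h => ?_⟩⟩
  · obtain ⟨l, hl⟩ := hl
    have hmono : Mono ((Over.pullback g).map i) := (Over.pullback g).map_mono i
    have hw : l ≫ Y.hom = Limits.pullback.snd X.hom g ≫ g := by
      rw [← Over.w i, ← Category.assoc, hl, Limits.pullback.condition]
    let s : (Over.pullback g).obj X ⟶ (Over.pullback g).obj Y :=
      Over.homMk (Limits.pullback.lift l (Limits.pullback.snd X.hom g) hw)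
        (Limits.pullback.lift_snd _ _ _)
    have hs : s ≫ (Over.pullback g).map i = 𝟙 _ := by
      ext
      simp only [Over.comp_left, Over.id_left]
      apply Limits.pullback.hom_ext
      · have h1 : ((Over.pullback g).map i).left ≫ Limits.pullback.fst X.hom g =
            Limits.pullback.fst Y.hom g ≫ i.left := Limits.pullback.lift_fst _ _ _
        refine (Category.assoc _ _ _).trans ((congrArg (s.left ≫ ·) h1).trans ?_)
        refine ((Category.assoc _ _ _).symm.trans ?_).trans (Category.id_comp _).symm
        exact (congrArg (· ≫ i.left) (Limits.pullback.lift_fst _ _ hw)).trans hl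
      · have h1 : ((Over.pullback g).map i).left ≫ Limits.pullback.snd X.hom g =
            Limits.pullback.snd Y.hom g := Limits.pullback.lift_snd _ _ _
        exact (Category.assoc _ _ _).trans (((congrArg (s.left ≫ ·) h1).trans
          (Limits.pullback.lift_snd _ _ hw)).trans (Category.id_comp _).symm)
    have : IsSplitEpi ((Over.pullback g).map i) := IsSplitEpi.mk' ⟨s, hs⟩
    exact isIso_of_mono_of_isSplitEpi _
  · refine ⟨(inv ((Over.pullback g).map i)).left ≫ Limits.pullback.fst Y.hom g, ?_⟩
    have h1 : ((Over.pullback g).map i).left ≫ Limits.pullback.fst X.hom g =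
        Limits.pullback.fst Y.hom g ≫ i.left := Limits.pullback.lift_fst _ _ _
    rw [Category.assoc, ← h1, ← Category.assoc, ← Over.comp_left, IsIso.inv_hom_id]
    exact Category.id_comp _

end Groth.Agent.S5392
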