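import Groth.Statements.S5393
import Groth.Agent.Lib.Neutral.SetRep
import Groth.Agent.Lib.Neutral.OpenSubgroup
import Groth.Agent.Lib.FibreLocus.Hom
import Groth.Agent.Lib.FibreFlat.Fibrewise

set_option autoImplicit false
universe u
open CategoryTheory CategoryTheory.Limits MonoidalCategory CartesianMonoidalCategory MonObj GrpObj AlgebraicGeometry
open SGA3

namespace Groth.Agent.S5393

/-- Let G be an S-group scheme locally of finite presentation and quasi-separated over S, H an S-group
scheme smooth and of finite presentation over S with connected fibres, u : H → G a homomorphism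
which is a monomorphism, n : N → G the normalizer of H in G (a closed subgroup scheme) and j : H → N
the homomorphism with j n = u. The following are equivalent: (i) j is an open immersion; (ii) H
represents the neutral component of N: a point g : T → N factors through j exactly when the image of
its underlying map lies in the union of the neutral components of the fibres of N; (iii) for every s
in S, the fibre j_s : H_s → N_s is an open immersion whose image is the neutral component of N_s.
(The published statement asks H only to be smooth over S with connected fibres; this row also asks H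
quasi-compact and quasi-separated over S, the hypotheses under which the normalizer is shown to be
representable.) -/
theorem result (S : Scheme.{u}) (G H N : Over S) [GrpObj G] [GrpObj H] [GrpObj N]
    [LocallyOfFinitePresentation G.hom] [QuasiSeparated G.hom] [Smooth H.hom] [QuasiCompact H.hom] [QuasiSeparated H.hom]
    (hconn : ∀ s : S, _root_.IsConnected (H.hom.base ⁻¹' {s})) (u : H ⟶ G) [IsMonHom u] [Mono u]
    (n : N ⟶ G) [IsClosedImmersion n.left] (hN : Red.IsNormalizerOf u n) (j : H ⟶ N) [IsMonHom j] (hj : j ≫ n = u) :
    (IsOpenImmersion j.left ↔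
      ∀ (T : Over S) (g : T ⟶ N), (∃ h : T ⟶ H, h ≫ j = g) ↔ Set.range g.left.base ⊆ SGA3x.neutralSet N) ∧
    (IsOpenImmersion j.left ↔
      ∀ s : S, IsOpenImmersion ((Over.pullback (S.fromSpecResidueField s)).map j).left ∧
        j.left.base '' (H.hom.base ⁻¹' {s}) = SGA3x.neutralSet N ∩ N.hom.base ⁻¹' {s}) := by
  have hwn : n.left ≫ G.hom = N.hom := Over.w n
  haveI : LocallyOfFiniteType N.hom := by rw [← hwn]; infer_instance
  have hNf : ∀ s : S, LocallyOfFiniteType (N.hom.fiberToSpecResidueField s) := fun s =>
    MorphismProperty.pullback_snd N.hom _ inferInstance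
  haveI : Mono j := mono_of_mono_fac hj
  haveI : Mono j.left := inferInstance
  haveI : LocallyOfFinitePresentation H.hom := inferInstance
  haveI : LocallyOfFinitePresentation (u.left ≫ G.hom) := by rw [Over.w u]; infer_instance
  haveI : LocallyOfFinitePresentation u.left := GrothLib.DiagGrp.lfp_of_comp_of_lft u.left G.hom inferInstance inferInstance
  haveI : LocallyOfFinitePresentation (j.left ≫ n.left) := by rw [← Over.comp_left, hj]; infer_instance
  haveI : LocallyOfFinitePresentation j.left := GrothLib.DiagGrp.lfp_of_comp_of_lft j.left n.left inferInstance inferInstance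
  have hH : SGA3x.neutralSet H = Set.univ := Set.eq_univ_of_forall fun h => by
    rw [GrothLib.Neutral.mem_neutralSet_iff]
    exact (hconn (H.hom h)).isPreconnected.subset_connectedComponentIn
      (GrothLib.Neutral.hom_unit H _) subset_rfl rfl
  have hsub : Set.range j.left ⊆ SGA3x.neutralSet N := by
    have := GrothLib.Neutral.image_neutralSet_subset N H j
    rwa [hH, Set.image_univ] at this
  refine ⟨⟨fun ho T g => ⟨?_, fun hg => ?_⟩, fun hrep => ?_⟩, ⟨fun ho s => ⟨?_, ?_⟩, fun hf => ?_⟩⟩
  · rintro ⟨h, rfl⟩ _ ⟨t, rfl⟩
    exact hsub ⟨h.left t, rfl⟩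
  · have hle : Set.range g.left ⊆ Set.range j.left :=
      hg.trans (GrothLib.Neutral.neutralSet_subset_range N H j hNf)
    refine ⟨Over.homMk (IsOpenImmersion.lift j.left g.left hle) ?_, ?_⟩
    · rw [← Over.w j, ← Category.assoc, IsOpenImmersion.lift_fac]
      exact Over.w g
    · exact Over.OverMorphism.ext (IsOpenImmersion.lift_fac _ _ _)
  · refine GrothLib.Neutral.isOpenImmersion_of_rep_of_lfp j.left hsub fun {T} g hg => ?_
    obtain ⟨h, hh⟩ := (hrep (Over.mk (g ≫ N.hom)) (Over.homMk g rfl)).mpr hg
    exact ⟨h.left, congrArg CommaMorphism.left hh⟩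
  · exact (GrothLib.FibreLocus.prop_fibre_iff (P := @IsOpenImmersion) j s).mp
      (MorphismProperty.pullback_snd (P := @IsOpenImmersion) _ _ ho)
  · have := GrothLib.Neutral.image_neutralSet_eq N H j hNf
    rw [hH] at this
    rw [← this, ← Set.image_inter_preimage, Set.univ_inter]
    exact congrArg (Set.image j.left) (Set.ext fun h => by
      simp only [Set.mem_preimage, Set.mem_singleton_iff, ← Scheme.Hom.comp_apply, Over.w j])
  · haveI : LocallyOfFinitePresentation (j.left ≫ N.hom) := by rw [Over.w j]; infer_instance
    haveI : Flat (j.left ≫ N.hom) := by rw [Over.w j]; infer_instance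
    exact GrothLib.FibreFlat.isOpenImmersion_of_fibrewise j.left N.hom fun s =>
      (GrothLib.FibreLocus.prop_fibre_iff (P := @IsOpenImmersion) j s).mpr (hf s).1

end Groth.Agent.S5393
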