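import Groth.Statements.S5394
import Groth.Agent.Lib.SepAct.DenseMul
import Groth.Agent.Lib.GrpSchField.Shear
import Groth.Agent.Lib.DiagGrp.KernelFP

set_option autoImplicit false
universe u
open CategoryTheory CategoryTheory.Limits MonoidalCategory CartesianMonoidalCategory MonObj GrpObj AlgebraicGeometry
open SGA3

namespace Groth.Agent.S5394

/-- Let G be an S-group scheme which is flat and locally of finite presentation over S and f : X → G a
morphism of S-schemes with X locally of finite presentation over S. Suppose that for every point s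
of S and every maximal point g of the fibre G_s (generic point of an irreducible component) there is
a point x of X with f(x) = g at which f is flat. Let V be the open subscheme of X where f is flat.
Then the morphism V ×_S V → G, (x, y) ↦ f(x)·f(y), is flat, locally of finite presentation and
surjective; in particular X ×_S X → G, (x, y) ↦ f(x)·f(y), is covering for the fppf topology. (The
published statement does not assume G flat over S and asserts only the covering property; this row
assumes G flat over S, as the flatness step of the printed proof does, and concludes the flat,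
locally finitely presented, surjective form that proof establishes. Without flatness of G the
flatness conclusion fails, e.g. for the identity of the closed subgroup tx = 0 of the additive group
over k[t].) -/
theorem result (S : Scheme.{u}) (G X : Over S) [GrpObj G] [LocallyOfFinitePresentation G.hom] [Flat G.hom]
    [LocallyOfFinitePresentation X.hom] (f : X ⟶ G)
    (hf : ∀ (s : S) (g : ↥(G.hom.base ⁻¹' {s})), closure {g} ∈ irreducibleComponents ↥(G.hom.base ⁻¹' {s}) →
      ∃ x : X.left, f.left.base x = g.1 ∧ (f.left.stalkMap x).hom.Flat)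
    (V : X.left.Opens) (hV : (V : Set X.left) = {x : X.left | (f.left.stalkMap x).hom.Flat}) :
    letI fV : Over.mk (V.ι ≫ X.hom) ⟶ G := Over.homMk (V.ι ≫ f.left) ((Category.assoc _ _ _).trans (congrArg (V.ι ≫ ·) (Over.w f)))
    Flat ((fV ⊗ₘ fV) ≫ μ[G]).left ∧ LocallyOfFinitePresentation ((fV ⊗ₘ fV) ≫ μ[G]).left ∧
      Surjective ((fV ⊗ₘ fV) ≫ μ[G]).left := by
  let fV : Over.mk (V.ι ≫ X.hom) ⟶ G := Over.homMk (V.ι ≫ f.left) ((Category.assoc _ _ _).trans (congrArg (V.ι ≫ ·) (Over.w f)))
  show Flat ((fV ⊗ₘ fV) ≫ μ[G]).left ∧ LocallyOfFinitePresentation ((fV ⊗ₘ fV) ≫ μ[G]).left ∧ Surjective ((fV ⊗ₘ fV) ≫ μ[G]).left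
  haveI : LocallyOfFinitePresentation f.left := GrothLib.DiagGrp.lfp_of_comp_of_lft f.left G.hom
    (by rw [Over.w f]; infer_instance) inferInstance
  haveI hflat : Flat (V.ι ≫ f.left) := Flat.of_stalkMap _ fun x => by
    rw [Scheme.Hom.stalkMap_comp]
    erw [CommRingCat.hom_comp]
    have h1 : (f.left.stalkMap (V.ι x)).hom.Flat := (Set.ext_iff.mp hV x.1).mp x.2
    exact h1.comp (Flat.stalkMap V.ι x)
  haveI : Flat fV.left := hflat
  haveI : LocallyOfFinitePresentation fV.left := inferInstanceAs (LocallyOfFinitePresentation (V.ι ≫ f.left))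
  haveI : Flat μ[G].left :=
    GrothLib.GrpSchField.act_property @Flat (GrothLib.GrpSchField.mulAction G) inferInstance
  haveI : LocallyOfFinitePresentation μ[G].left :=
    GrothLib.GrpSchField.act_property @LocallyOfFinitePresentation (GrothLib.GrpSchField.mulAction G) inferInstance
  haveI : Flat (fV ⊗ₘ fV).left := by
    rw [Over.tensorHom_left]
    exact MorphismProperty.pullbackMap ‹Flat fV.left› ‹Flat fV.left› (Over.w fV).symm (Over.w fV).symm
  haveI : LocallyOfFinitePresentation (fV ⊗ₘ fV).left := by
    rw [Over.tensorHom_left]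
    exact MorphismProperty.pullbackMap ‹LocallyOfFinitePresentation fV.left›
      ‹LocallyOfFinitePresentation fV.left› (Over.w fV).symm (Over.w fV).symm
  refine ⟨by rw [Over.comp_left]; infer_instance, by rw [Over.comp_left]; infer_instance, ⟨fun g => ?_⟩⟩
  have hd : G.hom ⁻¹' {G.hom g} ⊆ closure (Set.range fV.left ∩ G.hom ⁻¹' {G.hom g}) := by
    intro w hw
    obtain ⟨w', rfl⟩ : w ∈ Set.range (G.hom.fiberι (G.hom g)) := (G.hom.range_fiberι _).ge hw
    let h : G.hom.fiber (G.hom g) ≃ₜ ↥(G.hom ⁻¹' {G.hom g}) := G.hom.fiberHomeo _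
    obtain ⟨z, hz⟩ : ∃ z, IsGenericPoint z (irreducibleComponent w') :=
      QuasiSober.sober isIrreducible_irreducibleComponent isClosed_irreducibleComponent
    have hzc : closure {h z} ∈ irreducibleComponents ↥(G.hom ⁻¹' {G.hom g}) := by
      rw [show closure {h z} = h '' irreducibleComponent w' by rw [← hz.def, h.image_closure, Set.image_singleton],
        irreducibleComponents_eq_maximals_closed]
      refine ⟨⟨h.isClosedMap _ isClosed_irreducibleComponent,
        isIrreducible_irreducibleComponent.image h h.continuous.continuousOn⟩, fun C hC hle => ?_⟩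
      have h1 := eq_irreducibleComponent (x := w') (s := h ⁻¹' C)
        (hC.2.isPreirreducible.preimage h.isOpenEmbedding) fun y hy => hle ⟨y, hy, rfl⟩
      exact fun y hy => ⟨h.symm y, h1 ▸ (show h (h.symm y) ∈ C by simpa using hy), by simp⟩
    obtain ⟨x, hx, hxf⟩ := hf _ (h z) hzc
    have hxV : x ∈ V := (Set.ext_iff.mp hV x).mpr hxf
    have hzU : G.hom.fiberι _ z ∈ Set.range fV.left ∩ G.hom ⁻¹' {G.hom g} :=
      ⟨⟨⟨x, hxV⟩, hx⟩, (G.hom.range_fiberι _).le ⟨z, rfl⟩⟩
    exact closure_mono (Set.singleton_subset_iff.mpr hzU)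
      (specializes_iff_mem_closure.mp ((hz.specializes mem_irreducibleComponent).map (G.hom.fiberι _).continuous))
  obtain ⟨q, ⟨v₁, hv₁⟩, ⟨v₂, hv₂⟩, hq⟩ := GrothLib.SepAct.exists_mul_mem_of_dense_fibre G _ _
    fV.left.isOpenMap.isOpen_range g hd hd
  obtain ⟨p, hp⟩ : q ∈ Set.range (fV ⊗ₘ fV).left := by
    rw [Over.tensorHom_left]
    exact (Scheme.Pullback.range_map _ _ _ _ _ _ _ _ _).ge ⟨⟨v₁, hv₁⟩, ⟨v₂, hv₂⟩⟩
  exact ⟨p, by rw [Over.comp_left, Scheme.Hom.comp_apply, hp, hq]⟩

end Groth.Agent.S5394
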