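import Groth.Statements.S5395
import Mathlib

set_option autoImplicit false
universe u
open CategoryTheory CategoryTheory.Limits MonoidalCategory CartesianMonoidalCategory MonObj GrpObj AlgebraicGeometry
open SGA3

namespace Groth.Agent.S5395

/-- Let k be an algebraically closed field, G a group scheme locally of finite type over k, and A, B two
ind-constructible subsets of G. Let A·B be the image under the multiplication of the set of points
of G ×_k G whose two projections lie in A and B. Then every closed point z of G lying in A·B is the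
product of a closed point of G ×_k G whose two projections lie in A and B (and are then closed
points): the rational points of A·B are the products of rational points of A and of B. -/
theorem result (k : Type u) [Field k] [IsAlgClosed k] (G : Over (Spec (CommRingCat.of k))) [GrpObj G]
    [LocallyOfFiniteType G.hom] (A B : Set G.left) (hA : ProCons.IsIndConstructible A) (hB : ProCons.IsIndConstructible B)
    (z : G.left) (hz : IsClosed ({z} : Set G.left))
    (hzAB : z ∈ μ[G].left.base '' {w : ↥(G ⊗ G).left | (fst G G).left.base w ∈ A ∧ (snd G G).left.base w ∈ B}) :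
    ∃ w : ↥(G ⊗ G).left, IsClosed ({w} : Set ↥(G ⊗ G).left) ∧ (fst G G).left.base w ∈ A ∧ (snd G G).left.base w ∈ B ∧
      μ[G].left.base w = z := by
  have lcl : ∀ {Y : Type u} [TopologicalSpace Y] (s : Set Y), Topology.IsConstructible s →
      ∀ y ∈ s, ∃ L : Set Y, IsLocallyClosed L ∧ y ∈ L ∧ L ⊆ s := by
    intro Y _ s hs
    suffices h : (∀ y ∈ s, ∃ L : Set Y, IsLocallyClosed L ∧ y ∈ L ∧ L ⊆ s) ∧
        (∀ y ∈ sᶜ, ∃ L : Set Y, IsLocallyClosed L ∧ y ∈ L ∧ L ⊆ sᶜ) from h.1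
    induction hs using Topology.IsConstructible.empty_union_induction with
    | open_retrocompact V hVo hVr =>
      exact ⟨fun y hy => ⟨V, hVo.isLocallyClosed, hy, subset_rfl⟩,
        fun y hy => ⟨Vᶜ, hVo.isClosed_compl.isLocallyClosed, hy, subset_rfl⟩⟩
    | union s _ t _ hs ht =>
      refine ⟨fun y hy => ?_, fun y hy => ?_⟩
      · rcases hy with hy | hy
        · obtain ⟨L, h₁, h₂, h₃⟩ := hs.1 y hy
          exact ⟨L, h₁, h₂, h₃.trans Set.subset_union_left⟩
        · obtain ⟨L, h₁, h₂, h₃⟩ := ht.1 y hy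
          exact ⟨L, h₁, h₂, h₃.trans Set.subset_union_right⟩
      · obtain ⟨L, h₁, h₂, h₃⟩ := hs.2 y fun h => hy (Or.inl h)
        obtain ⟨L', k₁, k₂, k₃⟩ := ht.2 y fun h => hy (Or.inr h)
        exact ⟨L ∩ L', h₁.inter k₁, ⟨h₂, k₂⟩, fun x hx h => h.elim (h₃ hx.1) (k₃ hx.2)⟩
    | compl s _ hs => exact ⟨hs.2, by simpa using hs.1⟩
  have key : ∀ (E : Set G.left), ProCons.IsIndConstructible E → ∀ x ∈ E,
      ∃ L : Set G.left, IsLocallyClosed L ∧ x ∈ L ∧ L ⊆ E := by
    intro E hE x hx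
    obtain ⟨U, hU, hxU, 𝒮, h𝒮, heq⟩ := hE x
    have hmem : (⟨x, hxU⟩ : U) ∈ ⋃₀ 𝒮 := heq ▸ hx
    obtain ⟨T, hT, hxT⟩ := hmem
    obtain ⟨O, hO, hOo, hOc⟩ := h𝒮 T hT ⟨x, hxU⟩
    obtain ⟨L, hL, hxL, hLT⟩ := lcl _ hOc ⟨⟨x, hxU⟩, mem_of_mem_nhds hO⟩ hxT
    refine ⟨Subtype.val '' (Subtype.val '' L),
      (hL.image hOo.isOpenEmbedding_subtypeVal.isInducing
        (by rw [Subtype.range_coe_subtype]; exact hOo.isLocallyClosed)).image hU.isOpenEmbedding_subtypeVal.isInducing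
        (by rw [Subtype.range_coe_subtype]; exact hU.isLocallyClosed),
      ⟨⟨x, hxU⟩, ⟨_, hxL, rfl⟩, rfl⟩, ?_⟩
    rintro _ ⟨_, ⟨y, hy, rfl⟩, rfl⟩
    have : (y : U) ∈ ⋃₀ 𝒮 := ⟨T, hT, hLT hy⟩
    rw [← heq] at this
    exact this
  obtain ⟨w, ⟨hwA, hwB⟩, hwz⟩ := hzAB
  obtain ⟨LA, hLA, hwLA, hLA'⟩ := key A hA _ hwA
  obtain ⟨LB, hLB, hwLB, hLB'⟩ := key B hB _ hwB
  have hlc : IsLocallyClosed ((fst G G).left.base ⁻¹' LA ∩ (snd G G).left.base ⁻¹' LB ∩ μ[G].left.base ⁻¹' {z}) :=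
    ((hLA.preimage (fst G G).left.continuous).inter (hLB.preimage (snd G G).left.continuous)).inter
      (hz.preimage μ[G].left.continuous).isLocallyClosed
  haveI : LocallyOfFiniteType (G ⊗ G).hom := by
    show LocallyOfFiniteType (Limits.pullback.fst G.hom G.hom ≫ G.hom)
    infer_instance
  haveI := LocallyOfFiniteType.jacobsonSpace (G ⊗ G).hom
  obtain ⟨v, ⟨⟨h1, h2⟩, h3⟩, hv⟩ := nonempty_inter_closedPoints (Set.nonempty_of_mem (show w ∈ (fst G G).left.base ⁻¹' LA ∩ (snd G G).left.base ⁻¹' LB ∩ μ[G].left.base ⁻¹' {z} from ⟨⟨hwLA, hwLB⟩, hwz⟩)) hlc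
  exact ⟨v, hv, hLA' h1, hLB' h2, h3⟩

end Groth.Agent.S5395
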