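import Groth.Statements.S5399
import Groth.Agent.Lib.FlatFam5.Primary
import Groth.Agent.Lib.GeomIrrAlg.Fibres
import Groth.Agent.Lib.Japanese.IntegralSpec
import Groth.Agent.Lib.GenSubgrp14.Basic
-- import your own Groth.Agent.* helpers here

set_option autoImplicit false
universe u
open CategoryTheory CategoryTheory.Limits MonoidalCategory CartesianMonoidalCategory MonObj GrpObj AlgebraicGeometry
open SGA3

namespace Groth.Agent.S5399

open Topology TopologicalSpace
open scoped TensorProduct

/-- Irreducible components of a fibre through their generic points. -/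
theorem closure_mem_components_iff {X Y : Scheme.{u}} (π : X ⟶ Y) (g : Y) (z : ↥(π.base ⁻¹' {g})) :
    closure {z} ∈ irreducibleComponents ↥(π.base ⁻¹' {g}) ↔ ∀ z' : X, π z' = g → z' ⤳ z.1 → z' = z.1 := by
  haveI : T0Space ↥(π.base ⁻¹' {g}) := inferInstance
  haveI : QuasiSober ↥(π.base ⁻¹' {g}) := (π.fiberHomeo g).symm.isClosedEmbedding.quasiSober
  constructor
  · intro h z' hz' hsp
    have hsp' : (⟨z', hz'⟩ : ↥(π.base ⁻¹' {g})) ⤳ z := subtype_specializes_iff _ _ |>.2 hsp
    have hle : closure {z} ⊆ closure {(⟨z', hz'⟩ : ↥(π.base ⁻¹' {g}))} :=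
      closure_minimal (Set.singleton_subset_iff.2 (specializes_iff_mem_closure.1 hsp')) isClosed_closure
    have h2 := h.2 (isIrreducible_singleton.closure) hle
    exact congrArg Subtype.val ((specializes_iff_mem_closure.2 (h2 (subset_closure rfl))).antisymm hsp').eq.symm
  · intro h
    obtain ⟨ζ, hζz, hζ⟩ := GrothLib.GenSubgrp14.exists_maximal z.1
    have hC := irreducibleComponent_mem_irreducibleComponents z
    obtain ⟨ξ, hξ⟩ := QuasiSober.sober (isIrreducible_irreducibleComponent (x := z)) isClosed_irreducibleComponent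
    have : ξ = z := Subtype.ext (h ξ.1 ξ.2 (subtype_specializes_iff _ _ |>.1 (hξ.specializes mem_irreducibleComponent)))
    rw [← this, hξ.def]
    exact hC

/-- Let G be a nonempty scheme of finite type over a field k, K a field extension of k, π : G ⊗_k K → G
the projection and W a dense open subset of G ⊗_k K. Then the set U of points g of G such that W
contains every maximal point of the fibre π⁻¹(g) (every point whose closure in π⁻¹(g) is an
irreducible component of π⁻¹(g)) is open and dense in G. -/
theorem result (k : Type u) [Field k] (K : Type u) [Field K] [Algebra k K]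
    (G : Scheme.{u}) (f : G ⟶ Spec (CommRingCat.of k)) [LocallyOfFiniteType f] [QuasiCompact f] [Nonempty G]
    (W : (pullback f (Spec.map (CommRingCat.ofHom (algebraMap k K)))).Opens)
    (hW : Dense (W : Set ↥(pullback f (Spec.map (CommRingCat.ofHom (algebraMap k K)))))) :
    letI π := (pullback.fst f (Spec.map (CommRingCat.ofHom (algebraMap k K)))).base
    letI U : Set G := {g : G | ∀ z : ↥(π ⁻¹' {g}), closure {z} ∈ irreducibleComponents ↥(π ⁻¹' {g}) → z.1 ∈ W}
    IsOpen U ∧ Dense U := by
  classical
  let π := (pullback.fst f (Spec.map (CommRingCat.ofHom (algebraMap k K)))).base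
  let U : Set G := {g : G | ∀ z : ↥(π ⁻¹' {g}), closure {z} ∈ irreducibleComponents ↥(π ⁻¹' {g}) → z.1 ∈ W}
  change IsOpen U ∧ Dense U
  have hπ : ∀ z, π z = pullback.fst f (Spec.map (CommRingCat.ofHom (algebraMap k K))) z := fun _ => rfl
  -- a purely transcendental subfield
  obtain ⟨Idx0, x, hx⟩ := exists_isTranscendenceBasis' k K
  let L := IntermediateField.adjoin k (Set.range x)
  haveI : Algebra.IsAlgebraic L K := hx.isAlgebraic_field
  haveI : Algebra.IsIntegral L K := Algebra.IsAlgebraic.isIntegral
  let a : Spec (CommRingCat.of L) ⟶ Spec (CommRingCat.of k) := Spec.map (CommRingCat.ofHom (algebraMap k L))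
  let b : Spec (CommRingCat.of K) ⟶ Spec (CommRingCat.of L) := Spec.map (CommRingCat.ofHom (algebraMap L K))
  have hba : b ≫ a = Spec.map (CommRingCat.ofHom (algebraMap k K)) := by
    simp only [a, b, ← Spec.map_comp]
    congr 1
  haveI : GeometricallyIrreducible a := GrothLib.GeomIrrAlg.geometricallyIrreducible_spec (k := k) (S := L) fun k' _ _ => by
    haveI := GrothLib.FlatFam5.isDomain_adjoin_tensor k k' K x hx.1
    haveI : IsDomain (k' ⊗[k] L) := (Algebra.TensorProduct.comm k k' L).toMulEquiv.isDomain (L ⊗[k] k')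
    infer_instance
  haveI : IsIntegralHom b := by
    rw [IsIntegralHom.SpecMap_iff]
    exact algebraMap_isIntegral_iff.mpr inferInstance
  let πL := pullback.fst f a
  haveI : UniversallyOpen πL :=
    MorphismProperty.pullback_fst (P := @UniversallyOpen) f a (GrothLib.AlgSp.universallyOpen_to_field a)
  let q : pullback f (Spec.map (CommRingCat.ofHom (algebraMap k K))) ⟶ pullback f a :=
    pullback.lift (pullback.fst _ _) (pullback.snd _ _ ≫ b) (by rw [Category.assoc, hba, pullback.condition])
  have hqπ : ∀ z, πL (q z) = π z := fun z => by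
    rw [hπ, ← Scheme.Hom.comp_apply, pullback.lift_fst]
  have sq : IsPullback q (pullback.snd f (Spec.map (CommRingCat.ofHom (algebraMap k K)))) (pullback.snd f a) b := by
    refine IsPullback.of_right ?_ (pullback.lift_snd _ _ _) (IsPullback.of_hasPullback f a)
    rw [pullback.lift_fst, hba]
    exact IsPullback.of_hasPullback _ _
  haveI : IsIntegralHom q := MorphismProperty.of_isPullback sq.flip ‹IsIntegralHom b›
  haveI : Flat q := MorphismProperty.of_isPullback sq.flip (GrothLib.AlgSp.flat_to_field b)
  let Z : Set ↥(pullback f (Spec.map (CommRingCat.ofHom (algebraMap k K)))) := (W : Set _)ᶜ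
  have hqZ : IsClosed (q '' Z) := q.isClosedMap _ W.2.isClosed_compl
  -- generic points of the fibres over the purely transcendental field
  have hgen : ∀ g : G, ∃ ee : ↥(pullback f a), πL ee = g ∧ ∀ y, πL y = g → ee ⤳ y := fun g => by
    haveI : IrreducibleSpace (πL.fiber g) := inferInstance
    refine ⟨πL.fiberι g (genericPoint _), ?_, fun y hy => ?_⟩
    · exact (πL.range_fiberι g).subset ⟨_, rfl⟩
    · obtain ⟨y', rfl⟩ := (πL.range_fiberι g).symm.subset hy
      exact (genericPoint_specializes y').map (πL.fiberι g).continuous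
  have hU : U = πL '' (q '' Z)ᶜ := by
    ext g
    obtain ⟨ee, heeg, hee⟩ := hgen g
    constructor
    · intro hg
      refine ⟨ee, ?_, heeg⟩
      rintro ⟨z, hz, hzee⟩
      have hzg : π z = g := by rw [← hqπ, hzee, heeg]
      refine hz (hg ⟨z, hzg⟩ ((closure_mem_components_iff _ g ⟨z, hzg⟩).2 fun z' hz' hsp => ?_))
      refine GrothLib.Japanese.eq_of_specializes_of_isIntegralHom q hsp ?_
      have h1 := hsp.map q.continuous
      rw [hzee] at h1 ⊢
      exact (h1.antisymm (hee _ (by rw [hqπ]; exact hz'))).eq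
    · rintro ⟨y, hy, rfl⟩ z hz
      by_contra hzW
      have hzg : π z.1 = πL y := z.2
      refine hy ?_
      have hsp : ee ⤳ q z.1 := hee _ (by rw [hqπ, hzg])
      obtain ⟨z', hz', hqz'⟩ := Flat.generalizingMap q hsp
      have hz'g : π z' = πL y := by rw [← hqπ, hqz', heeg]
      obtain rfl : z' = z.1 := (closure_mem_components_iff _ _ z).1 hz z' hz'g hz'
      exact (hee y rfl).mem_closed hqZ ⟨z.1, hzW, hqz'⟩
  have hopen : IsOpen U := by
    rw [hU]
    exact πL.isOpenMap _ hqZ.isOpen_compl
  refine ⟨hopen, fun g => mem_closure_iff.2 fun O hO hgO => ?_⟩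
  obtain ⟨gm, hgmg, hgm⟩ := GrothLib.GenSubgrp14.exists_maximal g
  refine ⟨gm, hgmg.mem_open hO hgO, fun z hz => ?_⟩
  have hzmax : ∀ z', z' ⤳ z.1 → z' = z.1 := fun z' hz' => by
    have hg' : π z' = gm := hgm _ (by have := hz'.map (pullback.fst f (Spec.map (CommRingCat.ofHom (algebraMap k K)))).continuous; rwa [← hπ, ← hπ, show π z.1 = gm from z.2] at this)
    exact (closure_mem_components_iff _ gm z).1 hz z' hg' hz'
  let GK := pullback f (Spec.map (CommRingCat.ofHom (algebraMap k K)))
  haveI : IsLocallyNoetherian GK :=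
    LocallyOfFiniteType.isLocallyNoetherian (pullback.snd f (Spec.map (CommRingCat.ofHom (algebraMap k K))))
  haveI : CompactSpace GK :=
    QuasiCompact.compactSpace_of_compactSpace (pullback.snd f (Spec.map (CommRingCat.ofHom (algebraMap k K))))
  haveI : AlgebraicGeometry.IsNoetherian GK := {}
  obtain ⟨C, hCf, hC⟩ : ∃ C : Set (Set GK), C.Finite ∧ C = irreducibleComponents GK :=
    ⟨_, NoetherianSpace.finite_irreducibleComponents, rfl⟩
  have hzC : closure {z.1} ∈ irreducibleComponents GK := by
    obtain ⟨ξ, hξ⟩ := QuasiSober.sober (isIrreducible_irreducibleComponent (x := z.1)) isClosed_irreducibleComponent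
    rw [← hzmax ξ (hξ.specializes mem_irreducibleComponent), hξ.def]
    exact irreducibleComponent_mem_irreducibleComponents z.1
  let V : Set GK := (⋃ c ∈ C \ {closure {z.1}}, c)ᶜ
  have hVo : IsOpen V := (Set.Finite.isClosed_biUnion hCf.sdiff fun c hc =>
    isClosed_of_mem_irreducibleComponents c (hC ▸ hc.1)).isOpen_compl
  have hzV : z.1 ∈ V := by
    simp only [V, Set.mem_compl_iff, Set.mem_iUnion, not_exists]
    rintro c ⟨hc, hne⟩ hzc
    have hcc := isClosed_of_mem_irreducibleComponents c (hC ▸ hc)
    have hsub : closure {z.1} ⊆ c := closure_minimal (Set.singleton_subset_iff.2 hzc) hcc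
    exact hne (subset_antisymm (hzC.2 (hC ▸ hc : c ∈ irreducibleComponents GK).1 hsub) hsub)
  obtain ⟨w, hwV, hwW⟩ := hW.inter_open_nonempty V hVo ⟨_, hzV⟩
  have hwz : w ∈ closure {z.1} := by
    obtain ⟨c, hc, hwc⟩ : ∃ c ∈ irreducibleComponents GK, w ∈ c :=
      ⟨_, irreducibleComponent_mem_irreducibleComponents w, mem_irreducibleComponent⟩
    by_contra hne
    refine hwV (Set.mem_iUnion₂.2 ⟨c, ⟨hC ▸ hc, ?_⟩, hwc⟩)
    rintro rfl
    exact hne hwc
  exact (specializes_iff_mem_closure.2 hwz).mem_open W.2 hwW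

end Groth.Agent.S5399
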