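import Groth.Statements.S5402
import Groth.Agent.Lib.QuasiSec.Translate

set_option autoImplicit false
universe u
open CategoryTheory CategoryTheory.Limits MonoidalCategory CartesianMonoidalCategory MonObj GrpObj AlgebraicGeometry
open SGA3

namespace Groth.Agent.S5402

/-- Let G be an S-group scheme locally of finite presentation over S and universally open over S on some
open containing the unit section, acting on an S-scheme X so that G ×_S X → X ×_S X, (g, x) ↦ (gx,
x), is surjective. Let U be an open subset of X, s a point of S such that the fibre X_s is locally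
of finite type over κ(s) and U ∩ X_s is dense in X_s, and A a finite set of points of X_s. Then
there are morphisms S'' → S' → S, the first finite and surjective and the second etale, with exactly
one point of S'' lying over s, and an S-morphism h : S'' → G, such that for every point z of X ×_S
S'' whose image in X lies in A, the image in X of the translate h·z lies in U. -/
theorem result (S : Scheme.{u}) (G X : Over S) [GrpObj G]
    [LocallyOfFinitePresentation G.hom]
    (hGo : ∃ W : G.left.Opens, (∀ p : ↥(𝟙_ (Over S)).left, η[G].left.base p ∈ W) ∧ UniversallyOpen (W.ι ≫ G.hom))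
    (a : AlgGrp.Action G X) (hΦ : Surjective (lift a.act (snd G X)).left)
    (U : X.left.Opens) (s : S) (hft : LocallyOfFiniteType (X.hom.fiberToSpecResidueField s))
    (hdense : X.hom.base ⁻¹' {s} ⊆ closure ((U : Set X.left) ∩ X.hom.base ⁻¹' {s}))
    (A : Set X.left) (hA : A.Finite) (hAs : A ⊆ X.hom.base ⁻¹' {s}) :
    ∃ (S' S'' : Scheme.{u}) (w : S' ⟶ S) (π : S'' ⟶ S') (h : Over.mk (π ≫ w) ⟶ G),
      Etale w ∧ IsFinite π ∧ Surjective π ∧ (∃ s₀ : S'', (π ≫ w).base ⁻¹' {s} = {s₀}) ∧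
      ∀ z : ↥(X ⊗ Over.mk (π ≫ w)).left, (fst X (Over.mk (π ≫ w))).left.base z ∈ A →
        (lift (snd X (Over.mk (π ≫ w)) ≫ h) (fst X (Over.mk (π ≫ w))) ≫ a.act).left.base z ∈ U := by
  obtain ⟨W, hWe, hWo⟩ := hGo
  haveI := hWo
  let f := G.hom
  have hW : η[G].left s ∈ W := hWe s
  obtain ⟨g₀, z, C, hg₀, hC, hCo, hz, hgC, hzW, hgood⟩ :=
    GrothLib.QuasiSec.exists_closed_point_translating a hΦ U W s hW hft hdense A hA hAs
  let e : ↥(f.fiber s) ≃ₜ ↥(f.base ⁻¹' {s}) := f.fiberHomeo s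
  have he : ∀ c, (e c).1 = f.fiberι s c := fun c => rfl
  let Z : Set ↥(f.base ⁻¹' {s}) := e '' C
  have hZi : IsIrreducible Z := hC.1.image e e.continuous.continuousOn
  have hZ : Z ∈ irreducibleComponents ↥(f.base ⁻¹' {s}) := by
    refine ⟨hZi, fun t ht hle => ?_⟩
    have h1 : e.symm '' t ⊆ C := hC.2 (ht.image e.symm e.symm.continuous.continuousOn)
      fun c hc => ⟨e c, hle ⟨c, hc, rfl⟩, e.symm_apply_apply c⟩
    exact fun w hw => ⟨e.symm w, h1 ⟨w, hw, rfl⟩, e.apply_symm_apply w⟩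
  have hZc : IsClosed Z := isClosed_of_mem_irreducibleComponents Z hZ
  let x : G.left := f.fiberι s g₀
  have hxs : f.base x = s := (e g₀).2
  have hx : IsClosed ((Subtype.val : ↥(f.base ⁻¹' {s}) → G.left) ⁻¹' {x}) := by
    have h1 : IsClosed (e '' {g₀}) := e.isClosedMap _ hg₀
    rw [Set.image_singleton] at h1
    convert h1 using 1
    ext w
    exact ⟨fun hw => Subtype.ext hw, fun hw => congrArg Subtype.val hw⟩
  have hzZ : f.fiberι s z ∈ Subtype.val '' Z ∧ Subtype.val '' Z ⊆ closure {f.fiberι s z} := by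
    refine ⟨⟨e z, ⟨z, hz.mem, rfl⟩, rfl⟩, ?_⟩
    rintro _ ⟨_, ⟨c, hc, rfl⟩, rfl⟩
    exact specializes_iff_mem_closure.mp ((hz.specializes hc).map (f.fiberι s).continuous)
  have hopen : EGA43.IsUnivOpenAt f (f.fiberι s z) := by
    intro Y' g x' hx' O hO
    let P : (pullback f g).Opens := pullback.fst f g ⁻¹ᵁ W
    have hxP : x' ∈ P := by
      change pullback.fst f g x' ∈ W
      rw [hx']
      exact hzW
    haveI : UniversallyOpen (P.ι ≫ pullback.snd f g) :=
      MorphismProperty.of_isPullback ((isPullback_morphismRestrict (pullback.fst f g) W).paste_vert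
        (IsPullback.of_hasPullback f g)) hWo
    have h1 : P.ι ⁻¹' O ∈ nhds (⟨x', hxP⟩ : P.toScheme) := P.ι.continuous.continuousAt.preimage_mem_nhds hO
    refine Filter.mem_of_superset ((P.ι ≫ pullback.snd f g).isOpenMap.image_mem_nhds h1) ?_
    rintro _ ⟨w, hw, rfl⟩
    exact ⟨P.ι w, hw, rfl⟩
  have hdim : FlatMor.localDim ↥(f.base ⁻¹' {s}) ⟨x, hxs⟩ = topologicalKrullDim ↥Z := by
    have hxZ : (⟨x, hxs⟩ : ↥(f.base ⁻¹' {s})) ∈ Z := ⟨g₀, hgC, rfl⟩
    refine le_antisymm ?_ (le_iInf fun O => ?_)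
    · exact iInf_le (fun O : {O : TopologicalSpace.Opens ↥(f.base ⁻¹' {s}) // (⟨x, hxs⟩ : ↥(f.base ⁻¹' {s})) ∈ O} =>
        topologicalKrullDim (O.1 : Set ↥(f.base ⁻¹' {s}))) ⟨⟨Z, e.isOpenMap _ hCo⟩, hxZ⟩
    · rw [← GrothLib.QuasiSec.dim_inter_eq f s Z hZc hZi (O.1 : Set ↥(f.base ⁻¹' {s})) O.1.2 ⟨_, hxZ, O.2⟩]
      exact (Topology.IsEmbedding.inclusion Set.inter_subset_right).isInducing.topologicalKrullDim_le
  obtain ⟨S', S'', -, w, π, h₀, hw, hπf, hπs, -, hcomm, s₀, hs₀, hh₀, -⟩ :=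
    GrothLib.QuasiSec.exists_finite_quasiSection f s x hxs hx Z hZ ⟨⟨x, hxs⟩, ⟨g₀, hgC, rfl⟩, rfl⟩
      (f.fiberι s z) hzZ hopen hdim
  let T := Over.mk (π ≫ w)
  let h : T ⟶ G := Over.homMk h₀ hcomm
  refine ⟨S', S'', w, π, h, hw, hπf, hπs, ⟨s₀, hs₀⟩, fun v hv => ?_⟩
  have h1 : T.hom ((snd X T).left v) = s := by
    rw [← Scheme.Hom.comp_apply, Over.w (snd X T), ← Over.w (fst X T), Scheme.Hom.comp_apply]
    exact hAs hv
  have h2 : (snd X T).left v = s₀ := hs₀.le h1
  let Q : X ⊗ T ⟶ G ⊗ X := lift (snd X T ≫ h) (fst X T)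
  have hQ₁ : (fst G X).left (Q.left v) = f.fiberι s g₀ := by
    rw [GrothLib.SepAct.left_apply (show Q ≫ fst G X = snd X T ≫ h from lift_fst _ _), Over.comp_left,
      Scheme.Hom.comp_apply, h2]
    exact hh₀
  have hQ₂ : (snd G X).left (Q.left v) ∈ A := by
    rw [GrothLib.SepAct.left_apply (show Q ≫ snd G X = fst X T from lift_snd _ _)]
    exact hv
  change (Q ≫ a.act).left v ∈ U
  rw [Over.comp_left, Scheme.Hom.comp_apply]
  exact hgood _ hQ₁ hQ₂

end Groth.Agent.S5402
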