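import Groth.Statements.S5403
import Groth.Agent.Lib.Homog14.Sweep

set_option autoImplicit false
universe u
open CategoryTheory CategoryTheory.Limits MonoidalCategory CartesianMonoidalCategory MonObj GrpObj AlgebraicGeometry
open SGA3

namespace Groth.Agent.S5403

/-- Let G be a group scheme over a field k (not assumed of finite type) acting on a quasi-separated
k-scheme X so that G ×_k X → X ×_k X, (g, x) ↦ (gx, x), is surjective, and let x be a k-rational
point of X and C the connected component of X containing x. Then the orbit morphism g ↦ g·x maps the
irreducible component of G containing the unit point (the underlying set of the neutral component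
G⁰) onto C, and for every field extension K of k the inverse image of C in X ⊗_k K is irreducible. -/
theorem result (k : Type u) [Field k] (G X : Over (Spec (CommRingCat.of k)))
    [GrpObj G] [QuasiSeparatedSpace X.left] (a : AlgGrp.Action G X) (hΦ : Surjective (lift a.act (snd G X)).left)
    (x : 𝟙_ (Over (Spec (CommRingCat.of k))) ⟶ X) (pt : ↥(𝟙_ (Over (Spec (CommRingCat.of k)))).left)
    (C0 : Set G.left) (hC0 : C0 ∈ irreducibleComponents ↥G.left) (he : η[G].left.base pt ∈ C0) :
    (a.orbitMap x).left.base '' C0 = connectedComponent (x.left.base pt) ∧
    ∀ (K : Type u) [Field K] [Algebra k K],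
      IsIrreducible ((pullback.fst X.hom (Spec.map (CommRingCat.ofHom (algebraMap k K)))).base ⁻¹' connectedComponent (x.left.base pt)) := by
  have ha := GrothLib.Homog14.trans_of_surjective hΦ
  rw [Subsingleton.elim (α := Spec (CommRingCat.of k)) pt (IsLocalRing.closedPoint k)] at he ⊢
  have hC : C0 = GrothLib.Homog14.Z₀ G := by
    show C0 = connectedComponent _
    rw [GrothLib.ProfTranslate.connectedComponent_eq]
    exact GrothLib.GrpSchField.irreducibleComponent_eq_of_mem G hC0
      (irreducibleComponent_mem_irreducibleComponents _) he mem_irreducibleComponent
  subst hC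
  rw [GrothLib.Homog14.connectedComponent_eq ha]
  exact ⟨GrothLib.Homog14.image_orbitMap ha x, fun K _ _ => GrothLib.Homog14.isIrreducible_preimage hΦ x
    (irreducibleComponent_mem_irreducibleComponents _) mem_irreducibleComponent _⟩

end Groth.Agent.S5403
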