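import Groth.Statements.S5410
import Groth.Agent.Lib.NormQF14.Basic
import Groth.Agent.S3025
-- import your own Groth.Agent.* helpers here

set_option autoImplicit false
universe u
open CategoryTheory MonoidalCategory CartesianMonoidalCategory MonObj GrpObj AlgebraicGeometry CategoryTheory.Limits
open SGA3x

namespace Groth.Agent.S5410

/-- Let G be an S-group scheme, smooth and of finite presentation over S, with affine connected fibres,
whose centre j : Z → G is of multiplicative type (e.g. G of unipotent rank zero). Let k : K → G be a
closed normal subgroup scheme of G which is of finite presentation and quasi-finite over S. Then K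
is finite over S. -/
theorem result (S : Scheme.{u}) (G : Over S) [GrpObj G] [Smooth G.hom] [QuasiCompact G.hom] [QuasiSeparated G.hom]
    (haff : ∀ s : S, IsAffine (pullback G.hom (S.fromSpecResidueField s)))
    (hconn : ∀ s : S, _root_.IsConnected (G.hom.base ⁻¹' {s}))
    (Z : Over S) [GrpObj Z] (j : Z ⟶ G) (hZ : Red.IsCentre j) (hZm : SGA3x.IsMultTypeFT Z)
    (K : Over S) [GrpObj K] (k : K ⟶ G) [IsMonHom k] [IsClosedImmersion k.left] (hKn : AlgGrp.IsNormalHom k)
    [LocallyOfFinitePresentation K.hom] [QuasiCompact K.hom] [QuasiSeparated K.hom] [LocallyQuasiFinite K.hom] :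
    IsFinite K.hom := by
  haveI : UniversallyOpen G.hom := inferInstance
  haveI : IsSeparated G.hom := (Groth.Agent.S3025.result S G hconn).1
  haveI : LocallyQuasiFinite (Limits.pullback.snd K.hom (𝟙 S)) := inferInstance
  have h := GrothLib.NormQF14.isFinite_snd hconn j hZ hZm k hKn (𝟙 S)
  have e : Limits.pullback.fst K.hom (𝟙 S) ≫ K.hom = Limits.pullback.snd K.hom (𝟙 S) := by
    rw [Limits.pullback.condition, Category.comp_id]
  rw [← e, MorphismProperty.cancel_left_of_respectsIso @IsFinite] at h
  exact h

end Groth.Agent.S5410
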