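import Groth.Statements.S5411
import Groth.Agent.Lib.NormQF14.Basic
import Groth.Agent.S3025
import Groth.Agent.Lib.ClosedNhd6.Basic
import Groth.Agent.Lib.FibreLocus.Hom
-- import your own Groth.Agent.* helpers here

set_option autoImplicit false
universe u
open CategoryTheory MonoidalCategory CartesianMonoidalCategory MonObj GrpObj AlgebraicGeometry CategoryTheory.Limits
open SGA3x

namespace Groth.Agent.S5411

/-- Let G be an S-group scheme, smooth and of finite presentation over S, with affine connected fibres,
whose centre j : Z → G is of multiplicative type; let k : K → G be a closed normal subgroup scheme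
of G, of finite presentation over S, and s a point of S. If K_s is finite over κ(s), there is an
open neighbourhood U of s over which K is finite; if K_s is the trivial group, there is an open
neighbourhood U of s over which K is the trivial group. -/
theorem result (S : Scheme.{u}) (G : Over S) [GrpObj G] [Smooth G.hom] [QuasiCompact G.hom] [QuasiSeparated G.hom]
    (haff : ∀ s : S, IsAffine (pullback G.hom (S.fromSpecResidueField s)))
    (hconn : ∀ s : S, _root_.IsConnected (G.hom.base ⁻¹' {s}))
    (Z : Over S) [GrpObj Z] (j : Z ⟶ G) (hZ : Red.IsCentre j) (hZm : SGA3x.IsMultTypeFT Z)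
    (K : Over S) [GrpObj K] (k : K ⟶ G) [IsMonHom k] [IsClosedImmersion k.left] (hKn : AlgGrp.IsNormalHom k)
    [LocallyOfFinitePresentation K.hom] [QuasiCompact K.hom] [QuasiSeparated K.hom] (s : S) :
    (IsFinite (Red.bc (S.fromSpecResidueField s) K).hom →
      ∃ U : S.Opens, s ∈ U ∧ IsFinite (Red.bc U.ι K).hom) ∧
    (Red.IsTrivialGrp (Red.bc (S.fromSpecResidueField s) K) →
      ∃ U : S.Opens, s ∈ U ∧ Red.IsTrivialGrp (Red.bc U.ι K)) := by
  haveI : UniversallyOpen G.hom := inferInstance
  haveI : IsSeparated G.hom := (Groth.Agent.S3025.result S G hconn).1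
  have key : IsFinite (Red.bc (S.fromSpecResidueField s) K).hom →
      ∃ U : S.Opens, s ∈ U ∧ IsFinite (Red.bc U.ι K).hom := by
    intro hs
    haveI : LocallyOfFiniteType (toUnit K).left := inferInstanceAs (LocallyOfFiniteType K.hom)
    obtain ⟨hopen, hset⟩ := GrothLib.FibreLocus.lqf_locus (toUnit K) (fun t => GrothLib.FibreLocus.lft_fibres t)
    let U : S.Opens := ⟨_, hopen⟩
    have hsU : s ∈ U := by
      change LocallyQuasiFinite ((Over.pullback (S.fromSpecResidueField s)).map (toUnit K)).left
      haveI := hs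
      haveI : LocallyQuasiFinite (((Over.pullback (S.fromSpecResidueField s)).map (toUnit K)).left ≫
          ((Over.pullback (S.fromSpecResidueField s)).obj (𝟙_ (Over S))).hom) := by
        rw [Over.w]
        exact inferInstanceAs (LocallyQuasiFinite (Red.bc (S.fromSpecResidueField s) K).hom)
      exact LocallyQuasiFinite.of_comp _ ((Over.pullback (S.fromSpecResidueField s)).obj (𝟙_ (Over S))).hom
    refine ⟨U, hsU, ?_⟩
    haveI : IsZariskiLocalAtSource (@LocallyQuasiFinite : MorphismProperty Scheme.{u}) :=
      HasRingHomProperty.instIsZariskiLocalAtSource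
    haveI : LocallyQuasiFinite ((K.hom ⁻¹ᵁ U).ι ≫ K.hom) := by
      have hx : ∀ z : (K.hom ⁻¹ᵁ U : Scheme.{u}),
          ∃ V : K.left.Opens, z.1 ∈ V ∧ LocallyQuasiFinite (V.ι ≫ K.hom) := fun z => by
        show z.1 ∈ {x : K.left | ∃ W : K.left.Opens, x ∈ W ∧ LocallyQuasiFinite (W.ι ≫ (toUnit K).left)}
        rw [hset]
        exact z.2
      choose V hzV hV using hx
      rw [IsZariskiLocalAtSource.iff_of_iSup_eq_top (P := @LocallyQuasiFinite) (fun z => (K.hom ⁻¹ᵁ U).ι ⁻¹ᵁ V z)
        (top_le_iff.mp fun z _ => TopologicalSpace.Opens.mem_iSup.mpr ⟨z, hzV z⟩)]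
      intro z
      haveI := hV z
      rw [← morphismRestrict_ι_assoc]
      infer_instance
    haveI : LocallyQuasiFinite (Limits.pullback.snd K.hom U.ι) := by
      haveI : LocallyQuasiFinite (Limits.pullback.snd K.hom U.ι ≫ U.ι) := by
        rw [← Limits.pullback.condition, ← pullbackRestrictIsoRestrict_hom_ι K.hom U, Category.assoc,
          MorphismProperty.cancel_left_of_respectsIso @LocallyQuasiFinite]
        infer_instance
      exact LocallyQuasiFinite.of_comp _ U.ι
    exact GrothLib.NormQF14.isFinite_snd hconn j hZ hZm k hKn U.ι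
  refine ⟨key, fun htriv => ?_⟩
  haveI : IsIso (Red.bc (S.fromSpecResidueField s) K).hom := htriv
  obtain ⟨U₁, hs₁, hfin⟩ := key inferInstance
  have huc : UniversallyClosed (K.hom ∣_ U₁) := by
    haveI : IsFinite (Limits.pullback.snd K.hom U₁.ι) := hfin
    rw [← MorphismProperty.cancel_left_of_respectsIso @UniversallyClosed (pullbackRestrictIsoRestrict K.hom U₁).hom,
      pullbackRestrictIsoRestrict_hom_morphismRestrict]
    infer_instance
  obtain ⟨U, hs, hU⟩ := (GrothLib.ClosedNhd6.exists_isClosedImmersion_restrict_iff K.hom s).mpr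
    ⟨Or.inr htriv, U₁, hs₁, huc⟩
  refine ⟨U, hs, ?_⟩
  haveI := hU
  haveI : Mono (Red.bc U.ι K).hom := by
    show Mono (Limits.pullback.snd K.hom U.ι)
    rw [← pullbackRestrictIsoRestrict_hom_morphismRestrict]
    infer_instance
  haveI : IsSplitEpi (Red.bc U.ι K).hom := ⟨⟨{ section_ := η[Red.bc U.ι K].left, id := Over.w η[Red.bc U.ι K] }⟩⟩
  exact isIso_of_mono_of_isSplitEpi _

end Groth.Agent.S5411
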