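import Groth.Statements.S5415
import Mathlib
import Groth.Agent.Lib.AlgSp.FppfDescent
import Groth.Agent.Lib.GrpSchField.Quot
import Groth.Agent.Lib.GrpSchField.Shear
import Groth.Agent.Lib.FpqcQuot14.Cov
import Groth.Agent.Lib.GrpDeligne.Factor

set_option autoImplicit false
universe u
open CategoryTheory MonoidalCategory CartesianMonoidalCategory MonObj GrpObj AlgebraicGeometry CategoryTheory.Limits
open SGA3x

namespace Groth.Agent.S5415

/-- Let G be an S-group scheme of finite presentation over S, p : G → G'' a homomorphism which is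
surjective, flat and locally of finite presentation onto an S-group scheme G'' proper and of finite
presentation over S, and i : G' → G its kernel, with G' flat and of finite presentation over S. Let
H be an S-group scheme which is of finite presentation over S, or locally of finite presentation
over a locally Noetherian S, and u : G → H a homomorphism. If the restriction u ∘ i of u to G' is
proper, then u is proper. -/
theorem result (S : Scheme.{u}) (G G' G'' : Over S) [GrpObj G] [GrpObj G'] [GrpObj G'']
    [QuasiCompact G.hom] [QuasiSeparated G.hom] [LocallyOfFinitePresentation G.hom]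
    [IsProper G''.hom] [LocallyOfFinitePresentation G''.hom]
    [Flat G'.hom] [QuasiCompact G'.hom] [QuasiSeparated G'.hom] [LocallyOfFinitePresentation G'.hom]
    (p : G ⟶ G'') [IsMonHom p] [Surjective p.left] [Flat p.left] [LocallyOfFinitePresentation p.left]
    (i : G' ⟶ G) [IsMonHom i] (hker : AlgGrp.IsKernel i p)
    (H : Over S) [GrpObj H] [LocallyOfFinitePresentation H.hom]
    (hH : (QuasiCompact H.hom ∧ QuasiSeparated H.hom) ∨ IsLocallyNoetherian S)
    (u : G ⟶ H) [IsMonHom u] (hu : IsProper (i ≫ u).left) : IsProper u.left := by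
  let v : G ⟶ G'' ⊗ H := lift p u
  let w : G' ⟶ H := i ≫ u
  let s : G ⊗ H ≅ G ⊗ H :=
    { hom := lift (fst G H) ((fst G H ≫ u) * snd G H)
      inv := lift (fst G H) ((fst G H ≫ u)⁻¹ * snd G H)
      hom_inv_id := by simp [comp_lift, MonObj.comp_mul, GrpObj.comp_inv]
      inv_hom_id := by simp [comp_lift, MonObj.comp_mul, GrpObj.comp_inv] }
  let a : G ⊗ G' ⟶ G ⊗ H := (G ◁ w) ≫ s.hom
  let m : G ⊗ G' ⟶ G := fst G G' * (snd G G' ≫ i)
  haveI : Mono i := GrothLib.GrpDeligne.mono_of_isKernel hker
  have hip : i ≫ p = 1 := by rw [hker.w, Hom.one_def]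
  have ha : a = lift (fst G G') (m ≫ u) := by
    apply CartesianMonoidalCategory.hom_ext <;>
      simp [a, s, w, m, MonObj.comp_mul, MonObj.mul_comp]
  have hw : m ≫ v = a ≫ (p ▷ H) := by
    rw [ha, lift_whiskerRight]
    apply CartesianMonoidalCategory.hom_ext
    · simp [v, m, MonObj.mul_comp, hip]
    · simp [v]
  have key : ∀ c : Limits.PullbackCone v (p ▷ H),
      ∃ n : c.pt ⟶ G', n ≫ i = (c.snd ≫ fst G H)⁻¹ * c.fst := fun c => by
    have h1 := congrArg (· ≫ fst G'' H) c.condition
    simp [v] at h1
    exact GrothLib.GrpDeligne.exists_lift_ker hker _ (by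
      rw [MonObj.mul_comp, GrpObj.inv_comp, h1, Category.assoc, inv_mul_cancel])
  choose n hn using key
  have hsq : IsPullback m a v (p ▷ H) := by
    refine IsPullback.of_isLimit' ⟨hw⟩ (Limits.PullbackCone.IsLimit.mk _
      (fun c => lift (c.snd ≫ fst G H) (n c)) (fun c => ?_) (fun c => ?_) fun c l h1 h2 => ?_)
    · simp [m, MonObj.comp_mul, hn]
    · have h3 := congrArg (· ≫ snd G'' H) c.condition
      simp [v] at h3
      rw [ha]
      apply CartesianMonoidalCategory.hom_ext
      · simp
      · rw [Category.assoc, lift_snd, ← Category.assoc (lift _ _) m u]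
        simp [m, MonObj.comp_mul, hn, h3]
    · have e1 : l ≫ fst G G' = c.snd ≫ fst G H := by
        rw [← h2, ha, Category.assoc, lift_fst]
      apply CartesianMonoidalCategory.hom_ext
      · rw [lift_fst]; exact e1
      · rw [lift_snd, ← cancel_mono i, hn, eq_inv_mul_iff_mul_eq, ← e1, Category.assoc, ← h1]
        simp [m, MonObj.comp_mul]
  haveI : IsProper w.left := hu
  haveI : IsProper (G ◁ w).left :=
    MorphismProperty.of_isPullback ((GrothLib.FpqcQuot14.isPullback_whiskerLeft w G).map (Over.forget S)) hu
  haveI : IsIso s.hom.left := inferInstanceAs (IsIso ((Over.forget S).mapIso s).hom)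
  have ha' : IsProper a.left := inferInstanceAs (IsProper ((G ◁ w).left ≫ s.hom.left))
  have hsp := ((GrothLib.FpqcQuot14.isPullback_whiskerRight p H).map (Over.forget S))
  have hv : IsProper v.left :=
    GrothLib.AlgSp.fppfDescends_isProper v.left (p ▷ H).left m.left a.left (hsq.map (Over.forget S))
      (MorphismProperty.of_isPullback hsp ‹Flat p.left›) (MorphismProperty.of_isPullback hsp ‹LocallyOfFinitePresentation p.left›)
      (MorphismProperty.of_isPullback hsp ‹Surjective p.left›) ha'
  haveI := hv
  haveI : IsProper (snd G'' H).left :=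
    inferInstanceAs (IsProper (Limits.pullback.snd G''.hom H.hom))
  have e : u.left = v.left ≫ (snd G'' H).left := by rw [← Over.comp_left, lift_snd]
  rw [e]
  infer_instance

end Groth.Agent.S5415
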