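import Groth.Statements.S8414
import Groth.Agent.Lib.SubPre14.Basic
import Groth.Agent.S12442
-- import your own Groth.Agent.* helpers here

set_option autoImplicit false
universe u
open CategoryTheory MonoidalCategory CartesianMonoidalCategory MonObj GrpObj AlgebraicGeometry
open SGA3x

namespace Groth.Agent.S8414

/-- Let G, G′ be S-group schemes flat and of finite presentation over S, u : G → G′ a homomorphism which
is faithfully flat, and C′ a subgroup scheme of G′ of finite presentation over S whose inverse image
C = u⁻¹(C′) is smooth over S (resp. has connected fibres). Then for every subgroup scheme H′ of G′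
of finite presentation over S containing C′ and smooth over S (resp. with connected fibres), the
inverse image u⁻¹(H′) is smooth over S (resp. has connected fibres). -/
theorem result (S : Scheme.{u}) (G G' : Over S) [GrpObj G] [GrpObj G']
    [Flat G.hom] [QuasiCompact G.hom] [QuasiSeparated G.hom] [LocallyOfFinitePresentation G.hom]
    [Flat G'.hom] [QuasiCompact G'.hom] [QuasiSeparated G'.hom] [LocallyOfFinitePresentation G'.hom]
    (u : G ⟶ G') [IsMonHom u] [Flat u.left] [Surjective u.left]
    (C' : Over S) [GrpObj C'] (c' : C' ⟶ G') [IsMonHom c'] [Mono c']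
    [QuasiCompact C'.hom] [QuasiSeparated C'.hom] [LocallyOfFinitePresentation C'.hom]
    (H' : Over S) [GrpObj H'] (h' : H' ⟶ G') [IsMonHom h'] [Mono h']
    [QuasiCompact H'.hom] [QuasiSeparated H'.hom] [LocallyOfFinitePresentation H'.hom]
    (hle : ∃ f : C' ⟶ H', f ≫ h' = c') :
    (Smooth (Limits.pullback c' u).hom → Smooth H'.hom → Smooth (Limits.pullback h' u).hom) ∧
    ((∀ s : S, _root_.IsConnected ((Limits.pullback c' u).hom.base ⁻¹' {s})) →
      (∀ s : S, _root_.IsConnected (H'.hom.base ⁻¹' {s})) →
      ∀ s : S, _root_.IsConnected ((Limits.pullback h' u).hom.base ⁻¹' {s})) := by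
  obtain ⟨f, hf⟩ := hle
  haveI : Mono f := mono_of_mono_fac hf
  have sq := IsPullback.of_hasPullback h' u
  have sqC := IsPullback.of_hasPullback c' u
  obtain ⟨grp, ha, hb⟩ := GrothLib.SubPre14.exists_grpObj_pullback u h' _ _ sq
  letI := grp
  haveI := ha
  haveI := hb
  have hw : (Limits.pullback.fst c' u ≫ f) ≫ h' = Limits.pullback.snd c' u ≫ u := by
    rw [Category.assoc, hf]; exact Limits.pullback.condition
  have hk := GrothLib.SubPre14.kerPairFactors_pullback sq sqC (sq.lift _ _ hw) (sq.lift_snd _ _ hw)
  haveI : LocallyOfFinitePresentation (u.left ≫ G'.hom) := by rw [Over.w u]; infer_instance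
  have hu : LocallyOfFinitePresentation u.left := Groth.Agent.S12442.result u.left G'.hom
  haveI : QuasiCompact (u.left ≫ G'.hom) := by rw [Over.w u]; infer_instance
  haveI : QuasiCompact u.left := QuasiCompact.of_comp u.left G'.hom
  have sql := GrothLib.SubPre14.left_isPullback sq.flip
  haveI : QuasiCompact (Limits.pullback.fst h' u).left := MorphismProperty.of_isPullback sql inferInstance
  haveI : Surjective (Limits.pullback.fst h' u).left := MorphismProperty.of_isPullback sql inferInstance
  haveI : Flat (Limits.pullback.fst h' u).left := MorphismProperty.of_isPullback sql inferInstance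
  haveI : LocallyOfFinitePresentation (Limits.pullback.fst h' u).left := MorphismProperty.of_isPullback sql hu
  haveI : LocallyOfFinitePresentation (Limits.pullback h' u).hom := by
    rw [← Over.w (Limits.pullback.fst h' u)]; infer_instance
  refine ⟨fun hC hH => ?_, fun hC hH s => ?_⟩
  · haveI := hC
    haveI := hH
    haveI : Flat (Limits.pullback h' u).hom := by
      rw [← Over.w (Limits.pullback.fst h' u)]; infer_instance
    exact GrothLib.SubPre14.smooth_of_kerPair (Limits.pullback.fst h' u) _ hk
  · exact GrothLib.SubPre14.connected_of_kerPair (Limits.pullback.fst h' u) _ hk s (hC s) (hH s)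

end Groth.Agent.S8414
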