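import Groth.Statements.S8430
import Groth.Agent.S8414
import Groth.Agent.S12072
import Groth.Agent.Lib.FibSmooth14.Basic
import Groth.Agent.Lib.MaxTorBC14.Geom
import Groth.Agent.Lib.Neutral.Pairs
import Groth.Agent.Lib.Neutral.Connected
-- import your own Groth.Agent.* helpers here

set_option autoImplicit false
universe u
open CategoryTheory MonoidalCategory CartesianMonoidalCategory MonObj GrpObj AlgebraicGeometry
open SGA3x

namespace Groth.Agent.S8430

set_option backward.isDefEq.respectTransparency false
set_option maxHeartbeats 1600000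
set_option synthInstance.maxHeartbeats 200000

theorem connectedSpace_geom {S : Scheme.{u}} (G : Over S) [GrpObj G] (s : S)
    (h : _root_.IsConnected (G.hom.base ⁻¹' {s})) : ConnectedSpace (Red.geomFibre s G).left := by
  let G' := Red.bc (S.fromSpecResidueField s) G
  haveI : ConnectedSpace ↥G'.left := by
    haveI : ConnectedSpace ↥(G.hom.base ⁻¹' {s}) := isConnected_iff_connectedSpace.mp h
    exact (G.hom.fiberHomeo s).symm.surjective.connectedSpace (G.hom.fiberHomeo s).symm.continuous
  haveI : GeometricallyConnected G'.hom :=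
    GrothLib.Neutral.geometricallyConnected_of_point G'.hom η[G'].left (Over.w η[G'])
  exact GeometricallyConnected.geometrically_connectedSpace (f := G'.hom)
    (Spec.map (CommRingCat.ofHom (algebraMap (S.residueField s) (AlgebraicClosure (S.residueField s)))))
    (Limits.pullback.lift (Limits.pullback.fst G.hom (Red.geomPt s))
      (Limits.pullback.snd G.hom (Red.geomPt s) ≫ Spec.map (CommRingCat.ofHom (algebraMap (S.residueField s) (AlgebraicClosure (S.residueField s)))))
      (by rw [Category.assoc]; exact Limits.pullback.condition))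
    (Limits.pullback.snd G.hom (Red.geomPt s))
    (IsPullback.of_right (h₁₂ := Limits.pullback.fst G.hom (S.fromSpecResidueField s))
      (by rw [Limits.pullback.lift_fst]; exact IsPullback.of_hasPullback G.hom (Red.geomPt s))
      (Limits.pullback.lift_snd _ _ _) (IsPullback.of_hasPullback G.hom (S.fromSpecResidueField s)))

theorem isConnected_fibre {S : Scheme.{u}} (X : Over S) (s : S) (h : ConnectedSpace (Red.geomFibre s X).left) :
    _root_.IsConnected (X.hom.base ⁻¹' {s}) := by
  haveI : ConnectedSpace ↥(Limits.pullback X.hom (Red.geomPt s)) := h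
  have h' := isConnected_range (Limits.pullback.fst X.hom (Red.geomPt s)).continuous
  rwa [Scheme.Pullback.range_fst, show Set.range (Red.geomPt s).base = {s} from
    Set.eq_singleton_iff_unique_mem.mpr ⟨⟨IsLocalRing.closedPoint _, by
      show ((Spec.map _) ≫ S.fromSpecResidueField s) _ = s
      rw [Scheme.Hom.comp_apply, Scheme.fromSpecResidueField_apply]⟩, by
      rintro _ ⟨x, rfl⟩
      show ((Spec.map _) ≫ S.fromSpecResidueField s) x = s
      rw [Scheme.Hom.comp_apply, Scheme.fromSpecResidueField_apply]⟩] at h'

theorem smooth_of_geom {S : Scheme.{u}} (X : Over S) [Flat X.hom] [LocallyOfFinitePresentation X.hom]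
    (h : ∀ s : S, Smooth (Red.geomFibre s X).hom) : Smooth X.hom := by
  refine Smooth.of_smooth_fiberToSpecResidueField X.hom fun s => ?_
  let c := Spec.map (CommRingCat.ofHom (algebraMap (S.residueField s) (AlgebraicClosure (S.residueField s))))
  haveI : Surjective c := ⟨fun z => ⟨IsLocalRing.closedPoint (AlgebraicClosure (S.residueField s)),
    Subsingleton.elim (α := PrimeSpectrum (S.residueField s)) _ _⟩⟩
  haveI : Flat c := by
    rw [HasRingHomProperty.Spec_iff (P := @Flat), CommRingCat.hom_ofHom, RingHom.flat_algebraMap_iff]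
    infer_instance
  refine MorphismProperty.of_pullback_snd_of_descendsAlong (P := @Smooth)
    (Q := (@Surjective ⊓ @Flat ⊓ @QuasiCompact : MorphismProperty Scheme.{u})) (g := c) ⟨⟨‹_›, ‹_›⟩, inferInstance⟩ ?_
  show Smooth (Limits.pullback.snd (Limits.pullback.snd X.hom (S.fromSpecResidueField s)) c)
  rw [← Limits.pullbackLeftPullbackSndIso_hom_snd, MorphismProperty.cancel_left_of_respectsIso @Smooth]
  exact h s

/-- The inverse image of a Cartan subgroup under a central isogeny-like map is a Cartan subgroup. -/
theorem field_case {K : Type u} [Field K] [IsAlgClosed K] {G G' H' C' : Over (Spec (CommRingCat.of K))}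
    [GrpObj G] [GrpObj G'] [GrpObj H'] [GrpObj C'] [Smooth G.hom] [QuasiCompact G.hom] [ConnectedSpace G.left]
    [Smooth G'.hom] [QuasiCompact G'.hom] [Smooth H'.hom] [QuasiCompact H'.hom]
    (u : G ⟶ G') [IsMonHom u] [Flat u.left] [Surjective u.left]
    (hker : ∀ (X : Over (Spec (CommRingCat.of K))) (z : X ⟶ G), z ≫ u = 1 → ∀ g : X ⟶ G, z * g = g * z)
    (h' : H' ⟶ G') [IsMonHom h'] [Mono h'] (c' : C' ⟶ H') (hC' : SGA3x.IsCartanOver K (c' ≫ h')) :
    Smooth (Limits.pullback h' u).hom ∧
    (∃ (C : Over (Spec (CommRingCat.of K))) (_ : GrpObj C) (c : C ⟶ Limits.pullback h' u),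
      SGA3x.IsCartanOver K (c ≫ Limits.pullback.snd h' u)) ∧
    (ConnectedSpace H'.left → ConnectedSpace (Limits.pullback h' u).left) := by
  haveI : IsSeparated G.hom := GrothLib.GrpSchField.isSeparated G
  haveI : IsSeparated G'.hom := GrothLib.GrpSchField.isSeparated G'
  haveI : ConnectedSpace G'.left := u.left.surjective.connectedSpace u.left.continuous
  obtain ⟨C, _, c, w, hC, hw, hwf, hws, hwc⟩ :=
    (Groth.Agent.S12072.result K G G' u).2 C' (c' ≫ h') hC'
  obtain ⟨hcm, hcmono, T, _, t, ht, hcent⟩ := id hC
  haveI := hcm; haveI := hcmono; haveI := hw; haveI := hwf; haveI := hws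
  obtain ⟨htm, htmono, hTt, -⟩ := ht
  haveI := htm; haveI := htmono
  obtain ⟨hCs, hCc⟩ := GrothLib.Chev24.smooth_connected_centralizer t hTt c hcent
  haveI := hCs; haveI := hCc
  obtain ⟨hcm', hcmono', T', _, t', ht', hcent'⟩ := hC'
  haveI := hcm'; haveI := hcmono'
  obtain ⟨htm', htmono', hTt', -⟩ := ht'
  haveI := htm'; haveI := htmono'
  haveI hC's : Smooth C'.hom := (GrothLib.Chev24.smooth_connected_centralizer (G := G') t' hTt' (c' ≫ h') hcent').1
  haveI : ConnectedSpace C'.left := w.left.surjective.connectedSpace w.left.continuous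
  haveI : QuasiCompact C'.hom := GrothLib.Neutral.quasiCompact_of_connected_fibres C'
    (fun s => MorphismProperty.pullback_snd _ _ (inferInstance : LocallyOfFiniteType C'.hom)) fun s => by
      haveI : Subsingleton ↥(Spec (CommRingCat.of K)) := inferInstanceAs (Subsingleton (PrimeSpectrum K))
      rw [show C'.hom ⁻¹' {s} = Set.univ from Set.eq_univ_of_forall fun h => Subsingleton.elim _ _]
      exact isPreconnected_univ
  haveI : IsMonHom c' := GrothLib.CentMT14.isMonHom_of_comp c' h'
  haveI : Mono c' := mono_of_mono c' h'
  haveI : IsSeparated H'.hom := GrothLib.GrpSchField.isSeparated H'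
  haveI : IsSeparated C'.hom := GrothLib.GrpSchField.isSeparated C'
  let P := Limits.pullback (c' ≫ h') u
  let m : C ⟶ P := Limits.pullback.lift w c hwc
  obtain ⟨r, hr⟩ := (hcent.2.2 P (Limits.pullback.snd (c' ≫ h') u)).2 fun X x a => by
    let y := x ≫ Limits.pullback.fst (c' ≫ h') u
    let q := Limits.pullback.fst y w
    haveI : Flat q.left := MorphismProperty.of_isPullback
      (GrothLib.SubPre14.left_isPullback (IsPullback.of_hasPullback y w)).flip ‹Flat w.left›
    haveI : Surjective q.left := MorphismProperty.of_isPullback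
      (GrothLib.SubPre14.left_isPullback (IsPullback.of_hasPullback y w)).flip ‹Surjective w.left›
    haveI : Epi q.left := Flat.epi_of_flat_of_surjective _
    haveI : Epi q := (Over.forget _).epi_of_epi_map ‹Epi q.left›
    rw [← cancel_epi q, MonObj.comp_mul, MonObj.comp_mul]
    let b := Limits.pullback.snd y w
    have hb : q ≫ y = b ≫ w := Limits.pullback.condition
    have e1 : ((q ≫ x ≫ Limits.pullback.snd (c' ≫ h') u) * (b ≫ c)⁻¹) ≫ u = 1 := by
      rw [MonObj.mul_comp, GrpObj.inv_comp, Category.assoc b c u, ← hwc, ← Category.assoc b w, ← hb]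
      simp only [y, Category.assoc, ← Limits.pullback.condition, mul_inv_cancel]
    have e2 := hker _ _ e1 (q ≫ a ≫ t)
    have e3 : (b ≫ c) * (q ≫ a ≫ t) = (q ≫ a ≫ t) * (b ≫ c) := by
      simpa only [Category.assoc] using (hcent.2.2 _ (b ≫ c)).1 ⟨b, rfl⟩ _ (𝟙 _) (q ≫ a) |> fun e => by
        simpa only [Category.id_comp, Category.assoc] using e
    generalize b ≫ c = p at e2 e3 ⊢
    generalize q ≫ a ≫ t = r at e2 e3 ⊢
    generalize q ≫ x ≫ Limits.pullback.snd (c' ≫ h') u = g at e2 ⊢
    calc g * r = (g * p⁻¹) * (p * r) := by group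
      _ = (g * p⁻¹) * (r * p) := by rw [e3]
      _ = ((g * p⁻¹) * r) * p := by group
      _ = (r * (g * p⁻¹)) * p := by rw [e2]
      _ = r * g := by group
  have hm : IsIso m := ⟨r, by rw [← cancel_mono c, Category.assoc, hr, Limits.pullback.lift_snd, Category.id_comp],
    Limits.pullback.hom_ext
      (by
        rw [Category.assoc, Limits.pullback.lift_fst, ← cancel_mono (c' ≫ h'), Category.assoc, hwc, reassoc_of% hr,
          Category.id_comp, Limits.pullback.condition])
      (by rw [Category.assoc, Limits.pullback.lift_snd, hr, Category.id_comp])⟩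
  haveI := hm
  haveI : IsIso m.left := inferInstanceAs (IsIso ((Over.forget _).map m))
  have hPs : Smooth P.hom := by
    rw [← MorphismProperty.cancel_left_of_respectsIso @Smooth m.left, Over.w m]; infer_instance
  haveI : ConnectedSpace ↥P.left := m.left.surjective.connectedSpace m.left.continuous
  have h8414 := Groth.Agent.S8414.result _ G G' u C' (c' ≫ h') H' h' ⟨c', rfl⟩
  refine ⟨h8414.1 hPs inferInstance, ⟨C, inferInstance, Limits.pullback.lift (w ≫ c') c
    (by rw [Category.assoc]; exact hwc), by rw [Limits.pullback.lift_snd]; exact hC⟩, fun hHc => ?_⟩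
  haveI := hHc
  haveI : Subsingleton ↥(Spec (CommRingCat.of K)) := inferInstanceAs (Subsingleton (PrimeSpectrum K))
  have huniv : ∀ (X : Over (Spec (CommRingCat.of K))) (s : ↥(Spec (CommRingCat.of K))), X.hom.base ⁻¹' {s} = Set.univ :=
    fun X s => Set.eq_univ_of_forall fun h => Subsingleton.elim _ _
  have h1 := h8414.2 (fun s => by rw [huniv]; exact isConnected_univ) (fun s => by rw [huniv]; exact isConnected_univ)
    (IsLocalRing.closedPoint K)
  rw [huniv] at h1
  exact connectedSpace_iff_univ.mpr h1

/-- Let G, G′ be S-group schemes, smooth and of finite presentation over S, u : G → G′ a homomorphism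
which is faithfully flat on every fibre, with Ker u central and G with connected fibres. Then for
every subgroup scheme H′ of G′, smooth and of finite presentation over S and having the same
reductive and nilpotent ranks as G′ at every point (each geometric fibre contains a Cartan
subgroup), the inverse image H = u⁻¹(H′) is a subgroup scheme of G, smooth and of finite
presentation over S, with the same property relative to G; and H has connected fibres if and only if
H′ does. (The published statement also asserts that H′ ↦ u⁻¹(H′) is a bijection onto the subgroup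
schemes of G that are smooth, of finite presentation and have the ranks of G everywhere; this row
states only that u⁻¹(H′) is one of them.) -/
theorem result (S : Scheme.{u}) (G G' : Over S)
    [GrpObj G] [GrpObj G'] [Smooth G.hom] [QuasiCompact G.hom] [QuasiSeparated G.hom]
    [Smooth G'.hom] [QuasiCompact G'.hom] [QuasiSeparated G'.hom]
    (hconn : ∀ s : S, _root_.IsConnected (G.hom.base ⁻¹' {s}))
    (u : G ⟶ G') [IsMonHom u] (hu : ∀ s : S, Surjective ((Over.pullback (S.fromSpecResidueField s)).map u).left ∧
      Flat ((Over.pullback (S.fromSpecResidueField s)).map u).left)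
    (hker : ∀ (X : Over S) (z : X ⟶ G), z ≫ u = 1 → ∀ (X' : Over S) (x : X' ⟶ X) (g : X' ⟶ G),
      (x ≫ z) * g = g * (x ≫ z))
    (H' : Over S) [GrpObj H'] (h' : H' ⟶ G') [IsMonHom h'] [Mono h'] [Smooth H'.hom] [QuasiCompact H'.hom]
    (hH' : ∀ s : S, ∃ (C' : Over (Spec (CommRingCat.of (AlgebraicClosure (S.residueField s))))) (_ : GrpObj C')
      (c' : C' ⟶ Red.geomFibre s H'), SGA3x.IsCartanOver _ (c' ≫ (Over.pullback (Red.geomPt s)).map h')) :
    Smooth (Limits.pullback h' u).hom ∧ QuasiCompact (Limits.pullback h' u).hom ∧
    (∀ s : S, ∃ (C : Over (Spec (CommRingCat.of (AlgebraicClosure (S.residueField s))))) (_ : GrpObj C)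
      (c : C ⟶ Red.geomFibre s (Limits.pullback h' u)),
      SGA3x.IsCartanOver _ (c ≫ (Over.pullback (Red.geomPt s)).map (Limits.pullback.snd h' u))) ∧
    ((∀ s : S, _root_.IsConnected ((Limits.pullback h' u).hom.base ⁻¹' {s})) ↔
      ∀ s : S, _root_.IsConnected (H'.hom.base ⁻¹' {s})) := by
  haveI : IsMonHom h' := inferInstance
  have sq := IsPullback.of_hasPullback h' u
  have sql := GrothLib.SubPre14.left_isPullback sq.flip
  haveI : LocallyOfFinitePresentation (u.left ≫ G'.hom) := by rw [Over.w u]; infer_instance
  haveI hulfp : LocallyOfFinitePresentation u.left := Groth.Agent.S12442.result u.left G'.hom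
  haveI : QuasiCompact (u.left ≫ G'.hom) := by rw [Over.w u]; infer_instance
  haveI : QuasiCompact u.left := QuasiCompact.of_comp u.left G'.hom
  haveI : Flat (u.left ≫ G'.hom) := by rw [Over.w u]; infer_instance
  have huf : Flat u.left := GrothLib.FibreFlat.flat_of_fibrewise' u.left G'.hom fun s => by
    have hp := GrothLib.FibSmooth14.isPullback_map u (S.fromSpecResidueField s)
    show Flat (Limits.pullback.snd u.left (Limits.pullback.fst G'.hom (S.fromSpecResidueField s)))
    rw [← hp.isoPullback_inv_snd, MorphismProperty.cancel_left_of_respectsIso @Flat]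
    exact (hu s).2
  have hus : Surjective u.left := ⟨fun y => by
    obtain ⟨z, hz, -⟩ := Scheme.Pullback.exists_preimage_pullback (f := G'.hom)
      (g := S.fromSpecResidueField (G'.hom y)) y (IsLocalRing.closedPoint (S.residueField (G'.hom y)))
      (Scheme.fromSpecResidueField_apply _ _).symm
    obtain ⟨x, hx⟩ := (hu (G'.hom y)).1.surj z
    refine ⟨(Limits.pullback.fst G.hom (S.fromSpecResidueField (G'.hom y))).base x, ?_⟩
    have hp := (GrothLib.FibSmooth14.isPullback_map u (S.fromSpecResidueField (G'.hom y))).w
    rw [← Scheme.Hom.comp_apply, hp, Scheme.Hom.comp_apply]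
    exact (congrArg _ hx).trans hz⟩
  haveI := huf; haveI := hus
  haveI : QuasiCompact (Limits.pullback.fst h' u).left := MorphismProperty.of_isPullback sql inferInstance
  haveI : Surjective (Limits.pullback.fst h' u).left := MorphismProperty.of_isPullback sql inferInstance
  haveI : Flat (Limits.pullback.fst h' u).left := MorphismProperty.of_isPullback sql inferInstance
  haveI : LocallyOfFinitePresentation (Limits.pullback.fst h' u).left := MorphismProperty.of_isPullback sql hulfp
  haveI : LocallyOfFinitePresentation (Limits.pullback h' u).hom := by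
    rw [← Over.w (Limits.pullback.fst h' u)]; infer_instance
  haveI : Flat (Limits.pullback h' u).hom := by
    rw [← Over.w (Limits.pullback.fst h' u)]; infer_instance
  have hfib : ∀ s : S, Smooth (Red.geomFibre s (Limits.pullback h' u)).hom ∧
      (∃ (C : Over (Spec (CommRingCat.of (AlgebraicClosure (S.residueField s))))) (_ : GrpObj C)
        (c : C ⟶ Red.geomFibre s (Limits.pullback h' u)),
        SGA3x.IsCartanOver _ (c ≫ (Over.pullback (Red.geomPt s)).map (Limits.pullback.snd h' u))) ∧
      (ConnectedSpace (Red.geomFibre s H').left → ConnectedSpace (Red.geomFibre s (Limits.pullback h' u)).left) := by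
    intro s
    obtain ⟨C', _, c', hC'⟩ := hH' s
    let q := Red.geomPt s
    haveI : (Over.pullback q).IsRightAdjoint := (Over.mapPullbackAdj q).isRightAdjoint
    have sqK := sq.map (Over.pullback q)
    haveI : Smooth (Red.geomFibre s G).hom := MorphismProperty.pullback_snd (P := @Smooth) G.hom q ‹_›
    haveI : QuasiCompact (Red.geomFibre s G).hom := MorphismProperty.pullback_snd (P := @QuasiCompact) G.hom q ‹_›
    haveI : Smooth (Red.geomFibre s G').hom := MorphismProperty.pullback_snd (P := @Smooth) G'.hom q ‹_›
    haveI : QuasiCompact (Red.geomFibre s G').hom := MorphismProperty.pullback_snd (P := @QuasiCompact) G'.hom q ‹_›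
    haveI : Smooth (Red.geomFibre s H').hom := MorphismProperty.pullback_snd (P := @Smooth) H'.hom q ‹_›
    haveI : QuasiCompact (Red.geomFibre s H').hom := MorphismProperty.pullback_snd (P := @QuasiCompact) H'.hom q ‹_›
    haveI : ConnectedSpace (Red.geomFibre s G).left := connectedSpace_geom G s (hconn s)
    let uK := (Over.pullback q).map u
    haveI : Flat uK.left := MorphismProperty.of_isPullback (GrothLib.FibSmooth14.isPullback_map u q) huf
    haveI : Surjective uK.left := MorphismProperty.of_isPullback (GrothLib.FibSmooth14.isPullback_map u q) hus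
    haveI : Mono ((Over.pullback q).map h') := GrothLib.MaxTorBC14.mono_map q h'
    have hkerK : ∀ (X : Over (Spec (CommRingCat.of (AlgebraicClosure (S.residueField s))))) (z : X ⟶ Red.bc q G),
        z ≫ uK = 1 → ∀ g : X ⟶ Red.bc q G, z * g = g * z := by
      intro X z hz g
      let eG := GrothLib.DiagGrp.bcPointMulEquiv q G X
      apply eG.symm.injective
      rw [map_mul, map_mul]
      have e1 : eG.symm z ≫ u = 1 := by
        apply (GrothLib.DiagGrp.bcPointMulEquiv q G' X).injective
        rw [map_one, ← hz]
        exact (GrothLib.DiagGrp.bcPoint_comp_right q _ u).trans (congrArg (· ≫ uK) (eG.apply_symm_apply z))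
      simpa only [Category.id_comp] using hker _ (eG.symm z) e1 _ (𝟙 _) (eG.symm g)
    obtain ⟨h1, ⟨C, _, c, hc⟩, h3⟩ := field_case uK hkerK ((Over.pullback q).map h') c' hC'
    let e := sqK.isoPullback
    haveI : IsIso e.hom.left := inferInstanceAs (IsIso ((Over.forget _).map e.hom))
    refine ⟨?_, ⟨C, inferInstance, c ≫ e.inv, ?_⟩, fun hc' => ?_⟩
    · show Smooth ((Over.pullback q).obj (Limits.pullback h' u)).hom
      rw [← Over.w e.hom, MorphismProperty.cancel_left_of_respectsIso @Smooth]; exact h1
    · rw [Category.assoc, sqK.isoPullback_inv_snd]; exact hc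
    · haveI := h3 hc'
      haveI : IsIso e.inv.left := inferInstanceAs (IsIso ((Over.forget _).map e.inv))
      exact e.inv.left.surjective.connectedSpace e.inv.left.continuous
  haveI : QuasiCompact (Limits.pullback h' u).hom := by
    rw [← Over.w (Limits.pullback.fst h' u)]; infer_instance
  refine ⟨smooth_of_geom _ fun s => (hfib s).1, inferInstance, fun s => (hfib s).2.1, fun hP s => ?_,
    fun hH s => isConnected_fibre _ s ((hfib s).2.2 (connectedSpace_geom H' s (hH s)))⟩
  have h := (hP s).image _ (Limits.pullback.fst h' u).left.continuous.continuousOn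
  convert h using 1
  ext y
  constructor
  · intro hy
    obtain ⟨x, rfl⟩ := (Limits.pullback.fst h' u).left.surjective y
    refine ⟨x, ?_, rfl⟩
    show (Limits.pullback h' u).hom.base x = s
    rw [← Over.w (Limits.pullback.fst h' u), Scheme.Hom.comp_apply]
    exact hy
  · rintro ⟨x, hx, rfl⟩
    show H'.hom.base _ = s
    rw [← Scheme.Hom.comp_apply, Over.w (Limits.pullback.fst h' u)]
    exact hx

end Groth.Agent.S8430
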