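import Groth.Statements.S5420
import Groth.Agent.S5442
import Groth.Agent.S8430
import Groth.Agent.Lib.TorusNorm25.Torus
import Groth.Agent.Lib.Flag27.TorusCentConn
import Groth.Agent.Lib.Flag27.CentBC
import Groth.Agent.Lib.MultDef14.Transporter
import Groth.Agent.Lib.Chev24.Tori
import Groth.Agent.Lib.MaxTorBC14.Geom
import Mathlib.GroupTheory.SemidirectProduct
-- import your own Groth.Agent.* helpers here

set_option autoImplicit false
universe u
open CategoryTheory MonoidalCategory CartesianMonoidalCategory MonObj GrpObj AlgebraicGeometry CategoryTheory.Limits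
open Red

namespace Groth.Agent.S5420

set_option backward.isDefEq.respectTransparency false
set_option maxHeartbeats 1600000

section Semidirect

variable {S : Scheme.{u}} {Q H : Over S} [GrpObj Q] [GrpObj H] (a : AlgGrp.Action Q H)
  (hmul : ∀ (X : Over S) (q : X ⟶ Q) (h h' : X ⟶ H),
    lift q (h * h') ≫ a.act = (lift q h ≫ a.act) * (lift q h' ≫ a.act))

include hmul in
omit hmul in
theorem lift_one_act (X : Over S) (h : X ⟶ H) : lift (1 : X ⟶ Q) h ≫ a.act = h := by
  have e : lift (1 : X ⟶ Q) h = lift (toUnit X) h ≫ (η[Q] ▷ H) := by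
    apply CartesianMonoidalCategory.hom_ext <;> simp [Hom.one_def]
  rw [e, Category.assoc, a.one_act, leftUnitor_hom, lift_snd]

theorem lift_mul_act (X : Over S) (p q : X ⟶ Q) (h : X ⟶ H) :
    lift (p * q) h ≫ a.act = lift p (lift q h ≫ a.act) ≫ a.act := by
  have e : lift (p * q) h = lift (lift p q) h ≫ (μ[Q] ▷ H) := by
    apply CartesianMonoidalCategory.hom_ext <;> simp [Hom.mul_def]
  rw [e, Category.assoc, a.mul_act]
  simp only [← Category.assoc]
  congr 1
  apply CartesianMonoidalCategory.hom_ext <;> simp [Category.assoc]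

/-- The automorphism given by a point. -/
noncomputable def actAut (X : Over S) : (X ⟶ Q) →* MulAut (X ⟶ H) where
  toFun q :=
    { toFun := fun h => lift q h ≫ a.act
      invFun := fun h => lift q⁻¹ h ≫ a.act
      left_inv := fun h => by
        show lift q⁻¹ (lift q h ≫ a.act) ≫ a.act = h
        rw [← lift_mul_act, inv_mul_cancel, lift_one_act]
      right_inv := fun h => by
        show lift q (lift q⁻¹ h ≫ a.act) ≫ a.act = h
        rw [← lift_mul_act, mul_inv_cancel, lift_one_act]
      map_mul' := fun h h' => hmul X q h h' }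
  map_one' := MulEquiv.ext fun h => lift_one_act a X h
  map_mul' p q := MulEquiv.ext fun h => lift_mul_act a X p q h

theorem actAut_apply (X : Over S) (q : X ⟶ Q) (h : X ⟶ H) : actAut a hmul X q h = lift q h ≫ a.act := rfl

/-- The semidirect product as a functor. -/
noncomputable def sdFunctor : (Over S)ᵒᵖ ⥤ GrpCat.{u} where
  obj X := GrpCat.of ((X.unop ⟶ H) ⋊[actAut a hmul X.unop] (X.unop ⟶ Q))
  map {X Y} f := GrpCat.ofHom (SemidirectProduct.map
    ({ toFun := fun h => f.unop ≫ h, map_one' := MonObj.comp_one _, map_mul' := fun _ _ => MonObj.comp_mul _ _ _ } :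
      (X.unop ⟶ H) →* (Y.unop ⟶ H))
    ({ toFun := fun q => f.unop ≫ q, map_one' := MonObj.comp_one _, map_mul' := fun _ _ => MonObj.comp_mul _ _ _ } :
      (X.unop ⟶ Q) →* (Y.unop ⟶ Q))
    (fun q => MonoidHom.ext fun h => by
      show f.unop ≫ (lift q h ≫ a.act) = lift (f.unop ≫ q) (f.unop ≫ h) ≫ a.act
      rw [← Category.assoc, comp_lift]))
  map_id X := by
    apply GrpCat.hom_ext; ext x <;> exact Category.id_comp _
  map_comp f g := by
    apply GrpCat.hom_ext; ext x <;> exact Category.assoc _ _ _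

/-- The underlying object of the semidirect product. -/
noncomputable def sdObj {S : Scheme.{u}} (H Q : Over S) : Over S := H ⊗ Q

/-- First projection. -/
noncomputable def sdFst {S : Scheme.{u}} (H Q : Over S) : sdObj H Q ⟶ H := fst H Q

/-- Second projection. -/
noncomputable def sdSnd {S : Scheme.{u}} (H Q : Over S) : sdObj H Q ⟶ Q := snd H Q

/-- Pairing. -/
noncomputable def sdLift {S : Scheme.{u}} {H Q X : Over S} (h : X ⟶ H) (q : X ⟶ Q) : X ⟶ sdObj H Q := lift h q

theorem sdLift_fst {S : Scheme.{u}} {H Q X : Over S} (h : X ⟶ H) (q : X ⟶ Q) : sdLift h q ≫ sdFst H Q = h :=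
  lift_fst _ _

theorem sdLift_snd {S : Scheme.{u}} {H Q X : Over S} (h : X ⟶ H) (q : X ⟶ Q) : sdLift h q ≫ sdSnd H Q = q :=
  lift_snd _ _

theorem sdExt {S : Scheme.{u}} {H Q X : Over S} (z w : X ⟶ sdObj H Q) (h1 : z ≫ sdFst H Q = w ≫ sdFst H Q)
    (h2 : z ≫ sdSnd H Q = w ≫ sdSnd H Q) : z = w := CartesianMonoidalCategory.hom_ext _ _ h1 h2

/-- Its representability by the product. -/
noncomputable def sdRep : (sdFunctor a hmul ⋙ forget _).RepresentableBy (sdObj H Q) where
  homEquiv {X} :=
    { toFun := fun z => (⟨z ≫ sdFst H Q, z ≫ sdSnd H Q⟩ : (X ⟶ H) ⋊[actAut a hmul X] (X ⟶ Q))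
      invFun := fun x => sdLift (x : (X ⟶ H) ⋊[actAut a hmul X] (X ⟶ Q)).left
        (x : (X ⟶ H) ⋊[actAut a hmul X] (X ⟶ Q)).right
      left_inv := fun z => sdExt _ _ (sdLift_fst _ _) (sdLift_snd _ _)
      right_inv := fun x => SemidirectProduct.ext (sdLift_fst _ _) (sdLift_snd _ _) }
  homEquiv_comp f z := SemidirectProduct.ext (Category.assoc _ _ _) (Category.assoc _ _ _)

/-- The semidirect product group. -/
@[instance_reducible]
noncomputable def sdGrp : GrpObj (sdObj H Q) := GrpObj.ofRepresentableBy _ (sdFunctor a hmul) (sdRep a hmul)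

theorem sd_mul (X : Over S) (z w : X ⟶ sdObj H Q) :
    letI := sdGrp a hmul
    (z * w) ≫ sdFst H Q = (z ≫ sdFst H Q) * (lift (z ≫ sdSnd H Q) (w ≫ sdFst H Q) ≫ a.act) ∧
      (z * w) ≫ sdSnd H Q = (z ≫ sdSnd H Q) * (w ≫ sdSnd H Q) := by
  letI := sdGrp a hmul
  have e : μ[sdObj H Q] = sdLift
      ((fst (sdObj H Q) (sdObj H Q) ≫ sdFst H Q) *
        (lift (fst (sdObj H Q) (sdObj H Q) ≫ sdSnd H Q) (snd (sdObj H Q) (sdObj H Q) ≫ sdFst H Q) ≫ a.act))
      ((fst (sdObj H Q) (sdObj H Q) ≫ sdSnd H Q) * (snd (sdObj H Q) (sdObj H Q) ≫ sdSnd H Q)) := rfl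
  rw [Hom.mul_def z w, e]
  refine ⟨?_, ?_⟩
  · rw [Category.assoc, sdLift_fst, MonObj.comp_mul]
    simp only [← Category.assoc, lift_fst, comp_lift, lift_snd]
  · rw [Category.assoc, sdLift_snd, MonObj.comp_mul]
    simp only [← Category.assoc, lift_fst, lift_snd]

end Semidirect

/-- Let S be a scheme, Q an S-torus acting on an S-group scheme H by group automorphisms (on points, q ·
(h h') = (q · h)(q · h')), with H separated and smooth over S. (i) The functor of invariants H^Q
(points of H fixed by all points of Q after any base change) is representable by a closed subscheme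
F of H which is smooth over S. (ii) If moreover H is affine over S with connected fibres, then F is
affine over S with connected fibres. -/
theorem result (S : Scheme.{u}) (Q H : Over S) [GrpObj Q] [GrpObj H] (hQ : Red.IsTorus Q)
    [IsSeparated H.hom] [Smooth H.hom] (a : AlgGrp.Action Q H)
    (hmul : ∀ (X : Over S) (q : X ⟶ Q) (h h' : X ⟶ H),
      lift q (h * h') ≫ a.act = (lift q h ≫ a.act) * (lift q h' ≫ a.act)) :
    ∃ (F : Over S) (f : F ⟶ H), IsClosedImmersion f.left ∧ Smooth F.hom ∧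
      (∀ (X : Over S) (h : X ⟶ H), (∃ x : X ⟶ F, x ≫ f = h) ↔
        ∀ (X' : Over S) (g : X' ⟶ X) (q : X' ⟶ Q), lift q (g ≫ h) ≫ a.act = g ≫ h) ∧
      (IsAffineHom H.hom → (∀ s : S, _root_.IsConnected (H.hom.base ⁻¹' {s})) →
        IsAffineHom F.hom ∧ ∀ s : S, _root_.IsConnected (F.hom.base ⁻¹' {s})) := by
  have hQm := GrothLib.QuotTorus14.isMultTypeFT_of_charts (GrothLib.DiagGrp.hasChartsFpqc_of_isTorus hQ)
  obtain ⟨F, gF, f, hfm, hfc, hFs, hF⟩ := Groth.Agent.S5442.result S Q H hQm a hmul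
  haveI := hfm; haveI := hfc; haveI := hFs
  refine ⟨F, f, hfc, hFs, hF, fun hHa hconn => ?_⟩
  haveI := hHa
  refine ⟨by rw [← Over.w f]; infer_instance, fun s => ?_⟩
  letI : GrpObj (sdObj H Q) := sdGrp a hmul
  haveI : IsAffineHom Q.hom := GrothLib.EssFree.isAffineHom_of_charts (GrothLib.DiagGrp.hasChartsFpqc_of_isTorus hQ)
  haveI : Smooth Q.hom := GrothLib.TorusNorm25.smooth_of_isTorus hQ
  have hEs : Smooth (sdObj H Q).hom := inferInstanceAs (Smooth (Limits.pullback.fst H.hom Q.hom ≫ H.hom))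
  haveI : IsAffineHom (Limits.pullback.fst H.hom Q.hom) := MorphismProperty.pullback_fst _ _ ‹IsAffineHom Q.hom›
  have hEa : IsAffineHom (sdObj H Q).hom := inferInstanceAs (IsAffineHom (Limits.pullback.fst H.hom Q.hom ≫ H.hom))
  let iQ : Q ⟶ sdObj H Q := sdLift 1 (𝟙 Q)
  haveI : IsMonHom iQ := GrothLib.DiagGrp.isMonHom_of_points iQ fun Y p q => by
    obtain ⟨h1, h2⟩ := sd_mul a hmul Y (p ≫ iQ) (q ≫ iQ)
    refine sdExt _ _ ?_ ?_ --
    · rw [h1]
      simp only [iQ, Category.assoc, sdLift_fst, sdLift_snd, MonObj.comp_one]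
      rw [show lift (p ≫ 𝟙 Q) (1 : Y ⟶ H) ≫ a.act = 1 from by
        have h := hmul Y (p ≫ 𝟙 Q) 1 1
        rw [_root_.mul_one] at h
        exact left_eq_mul.mp h, _root_.one_mul]
    · rw [h2]
      simp only [iQ, Category.assoc, sdLift_snd, Category.comp_id]
  obtain ⟨C, gC, c, hc, hcc, hCs⟩ := GrothLib.MultDef14.exists_centralizer
    (GrothLib.DiagGrp.hasChartsFpqc_of_isTorus hQ) hEs hEa iQ
  obtain ⟨hcm, hcmono, hciff⟩ := id hc
  haveI := hcm; haveI := hcmono
  obtain ⟨r, hr⟩ := (hF C (c ≫ sdFst H Q)).2 fun X' x q => by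
    have h := congrArg (· ≫ sdFst H Q) ((hciff C c).1 ⟨𝟙 C, Category.id_comp _⟩ X' x q)
    simp only [(sd_mul a hmul X' _ _).1] at h
    simp only [iQ, Category.assoc, sdLift_fst, sdLift_snd, MonObj.comp_one, Category.comp_id] at h
    rw [show lift (x ≫ c ≫ sdSnd H Q) (1 : X' ⟶ H) ≫ a.act = 1 from by
        have h := hmul X' (x ≫ c ≫ sdSnd H Q) 1 1
        rw [_root_.mul_one] at h
        exact left_eq_mul.mp h, _root_.mul_one, _root_.one_mul] at h
    exact h.symm
  obtain ⟨e, he⟩ := (hciff F (sdLift f 1)).2 fun X' x q => by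
    refine sdExt _ _ ?_ ?_ --
    · simp only [(sd_mul a hmul X' _ _).1, iQ, Category.assoc, sdLift_fst, sdLift_snd, MonObj.comp_one, Category.comp_id]
      rw [(hF F f).1 ⟨𝟙 F, Category.id_comp _⟩ X' x q, lift_one_act, _root_.mul_one, _root_.one_mul]
    · simp only [(sd_mul a hmul X' _ _).2, iQ, Category.assoc, sdLift_snd, MonObj.comp_one, Category.comp_id,
        _root_.one_mul, _root_.mul_one]
  haveI : Mono f := Over.mono_of_mono_left f
  have her : e ≫ r = 𝟙 F := by
    rw [← cancel_mono f, Category.assoc, hr, ← Category.assoc, he, sdLift_fst, Category.id_comp]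
  let g := Red.geomPt s
  haveI : ConnectedSpace (Red.bc g H).left := Groth.Agent.S8430.connectedSpace_geom H s (hconn s)
  haveI : ConnectedSpace (Red.bc g C).left := by
    haveI : IsAffineHom (Red.bc g (sdObj H Q)).hom := MorphismProperty.pullback_snd (P := @IsAffineHom) _ _ hEa
    haveI : IsAffine (Red.bc g (sdObj H Q)).left := isAffine_of_isAffineHom (Red.bc g (sdObj H Q)).hom
    haveI : Smooth (Red.bc g (sdObj H Q)).hom := MorphismProperty.pullback_snd (P := @Smooth) _ _ hEs
    haveI : Mono iQ := (IsSplitMono.mk' ⟨sdSnd H Q, sdLift_snd _ _⟩).mono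
    haveI : Mono ((Over.pullback g).map iQ) := GrothLib.MaxTorBC14.mono_map g iQ
    haveI : ConnectedSpace (Red.bc g (sdObj H Q)).left := by
      haveI : ConnectedSpace (Red.bc g H ⊗ Red.bc g Q).left := by
        haveI : Smooth (Red.bc g Q).hom := MorphismProperty.pullback_snd (P := @Smooth) _ _ ‹Smooth Q.hom›
        obtain ⟨-, -, -, hQc⟩ := GrothLib.Chev24.torus_facts' (GrothLib.MaxTorBC14.isTorus_bc g hQ) (𝟙 (Red.bc g Q))
        haveI := hQc
        exact GrothLib.Neutral.connectedSpace_pullback (Red.bc g H).hom (Red.bc g Q).hom (η[Red.bc g H]).left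
          (Over.w η[Red.bc g H])
      haveI : ConnectedSpace ↥((Over.forget _).obj (Red.bc g H ⊗ Red.bc g Q)) := ‹ConnectedSpace (Red.bc g H ⊗ Red.bc g Q).left›
      let m : Red.bc g H ⊗ Red.bc g Q ≅ Red.bc g (sdObj H Q) := Functor.Monoidal.μIso (Over.pullback g) H Q
      exact ((Over.forget _).mapIso m).hom.homeomorph.surjective.connectedSpace
        ((Over.forget _).mapIso m).hom.homeomorph.continuous
    exact GrothLib.Flag27.connectedSpace_centralizer ((Over.pullback g).map iQ) (GrothLib.MaxTorBC14.isTorus_bc g hQ)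
      ((Over.pullback g).map c) (GrothLib.Flag27.isCentralizerOf_bc g hc)
  haveI : ConnectedSpace (Red.bc g F).left := by
    refine Function.Surjective.connectedSpace (f := ((Over.pullback g).map r).left.base) ?_ ((Over.pullback g).map r).left.continuous
    intro z
    refine ⟨((Over.pullback g).map e).left.base z, ?_⟩
    rw [← Scheme.Hom.comp_apply, ← Over.comp_left, ← Functor.map_comp, her, CategoryTheory.Functor.map_id]
    rfl
  exact Groth.Agent.S8430.isConnected_fibre F s inferInstance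

end Groth.Agent.S5420
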