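import Groth.Statements.S5427
import Groth.Agent.Lib.DiagGrp.CharHom
import Groth.Agent.Lib.DiagGrp.CharProps
import Mathlib

set_option autoImplicit false
universe u
open CategoryTheory MonoidalCategory CartesianMonoidalCategory MonObj GrpObj AlgebraicGeometry CategoryTheory.Limits
open Red

namespace Groth.Agent.S5427

/-- Let S be a scheme and G = D_S(M) a diagonalizable S-group of finite type, M a non-trivial finitely
generated commutative group. Then there are a prime number r and a closed subgroup of G isomorphic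
to (μ_r)_S: a homomorphism of S-groups D_S(ℤ/r) → D_S(M) which is a closed immersion. -/
theorem result (S : Scheme.{u}) (M : Type) [AddCommGroup M] [AddGroup.FG M] [Nontrivial M] :
    ∃ (r : ℕ) (_ : r.Prime) (j : Red.DS S (ZMod r) ⟶ Red.DS S M), IsMonHom j ∧ IsClosedImmersion j.left := by
  obtain ⟨N, hN⟩ := (eq_top_or_exists_le_coatom (⊥ : Submodule ℤ M)).resolve_left bot_ne_top
  have hS : IsSimpleModule ℤ (M ⧸ N) := isSimpleModule_iff_isCoatom.2 hN.1
  obtain ⟨m, hm, ⟨e⟩⟩ := isSimpleModule_iff_quot_maximal.1 hS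
  obtain ⟨p, rfl⟩ : ∃ p : ℤ, m = Ideal.span {p} := ⟨_, (Submodule.IsPrincipal.span_singleton_generator m).symm⟩
  have hp0 : p ≠ 0 := by
    rintro rfl
    exact Ring.ne_bot_of_isMaximal_of_not_isField hm Int.not_isField (by simp)
  have hp : p.natAbs.Prime := Int.prime_iff_natAbs_prime.1
    ((Ideal.span_singleton_prime hp0).1 hm.isPrime)
  let φ : M →+ ZMod p.natAbs :=
    (Int.quotientSpanEquivZMod p).toAddMonoidHom.comp (e.toAddEquiv.toAddMonoidHom.comp N.mkQ.toAddMonoidHom)
  have hφ : Function.Surjective φ :=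
    (Int.quotientSpanEquivZMod p).surjective.comp (e.surjective.comp N.mkQ_surjective)
  refine ⟨p.natAbs, hp, Red.DSmap S φ, inferInstance, ?_⟩
  have h0 : IsClosedImmersion (Red.diagMap (ULift.{u} ℤ) φ).left := by
    change IsClosedImmersion (Spec.map (CommRingCat.ofHom
      (MonoidAlgebra.mapDomainAlgHom (ULift.{u} ℤ) (ULift.{u} ℤ) (AddMonoidHom.toMultiplicative φ)).toRingHom))
    refine IsClosedImmersion.spec_of_surjective _ fun x => ?_
    induction x using MonoidAlgebra.induction_linear with
    | zero => exact ⟨0, map_zero _⟩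
    | add a b ha hb =>
      obtain ⟨a', ha'⟩ := ha
      obtain ⟨b', hb'⟩ := hb
      exact ⟨a' + b', by rw [map_add, ha', hb']⟩
    | single n r =>
      obtain ⟨n', hn⟩ := hφ (Multiplicative.toAdd n)
      exact ⟨MonoidAlgebra.single (Multiplicative.ofAdd n') r, by simp [hn]⟩
  exact MorphismProperty.baseChange_map (P := @IsClosedImmersion) _ _ h0

end Groth.Agent.S5427
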