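import Groth.Statements.S5431
import Groth.Agent.Lib.MTExtension14.Main
-- import your own Groth.Agent.* helpers here

set_option autoImplicit false
universe u
open CategoryTheory MonoidalCategory CartesianMonoidalCategory MonObj GrpObj AlgebraicGeometry CategoryTheory.Limits
open SGA3x

namespace Groth.Agent.S5431

set_option backward.isDefEq.respectTransparency false
set_option maxHeartbeats 800000
/-- Let S be a scheme, H and K two S-groups of multiplicative type and of finite type, and E an S-group
scheme which is an extension of K by H: p : E → K is a surjective, flat, quasi-compact homomorphism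
(K is the fpqc quotient E/H) with kernel i : H → E. Then E is of multiplicative type (and of finite
type) in each of the two cases: a) E is commutative; b) the fibres of K are connected. -/
theorem result (S : Scheme.{u}) (E H K : Over S) [GrpObj E] [GrpObj H] [GrpObj K]
    (p : E ⟶ K) [IsMonHom p] [Surjective p.left] [Flat p.left] [QuasiCompact p.left]
    (i : H ⟶ E) [IsMonHom i] (hker : AlgGrp.IsKernel i p)
    (hH : SGA3x.IsMultTypeFT H) (hK : SGA3x.IsMultTypeFT K)
    (h : IsCommMonObj E ∨ ∀ s : S, _root_.IsConnected (K.hom.base ⁻¹' {s})) :
    SGA3x.IsMultTypeFT E := by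

  refine GrothLib.MTExtension14.isMultTypeFT_of_extension' p i hker hH hK fun s => ?_
  rcases h with hc | hc
  · haveI := hc
    refine Or.inr fun X a b => ?_
    apply (GrothLib.DiagGrp.bcPointMulEquiv (S.fromSpecResidueField s) E X).symm.injective
    rw [map_mul, map_mul]
    letI : CommMonoid ((Over.map (S.fromSpecResidueField s)).obj X ⟶ E) := Hom.commMonoid
    exact _root_.mul_comm _ _
  · exact Or.inl (hc s)

end Groth.Agent.S5431
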