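import Groth.Statements.S5432
import Groth.Agent.Lib.Hopf.UnitsGroupLike
import Groth.Agent.Lib.MultLocal.ConnGeom
import Groth.Agent.Lib.RedSmooth.Basic
import Groth.Agent.Lib.HopfAG.UnipFun
import Mathlib.RingTheory.Bialgebra.TensorProduct
import Mathlib.RingTheory.TensorProduct.Free

set_option autoImplicit false
universe u
open TensorProduct
open SGA3t2b

namespace Groth.Agent.S5432

open scoped TensorProduct

/-- Let k be a field, C a finitely generated commutative Hopf algebra which is formally smooth with no
idempotents other than 0 and 1 and unipotent in the fixed-vector sense (a smooth connected unipotent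
algebraic group U), and B a commutative Hopf algebra of multiplicative type (isomorphic to a group
algebra after a faithfully flat extension of k; the group H, not assumed of finite type). Then every
morphism of k-schemes U → H is constant: every k-algebra map f : B → C satisfies f(b) = ε_C(f(b)) ·
1. -/
theorem result (k : Type u) [Field k] (C B : Type u) [CommRing C] [HopfAlgebra k C] [Algebra.FiniteType k C]
    [Algebra.FormallySmooth k C] (hconn : ∀ e : C, IsIdempotentElem e → e = 0 ∨ e = 1)
    (hU : HopfRep.IsUnipotent k C) [CommRing B] [HopfAlgebra k B]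
    (hB : SGA3b.IsMultTypeConst k B) (f : B →ₐ[k] C) :
    ∀ b : B, f b = algebraMap k C (Bialgebra.counitAlgHom k C (f b)) := by
  intro b
  obtain ⟨R', _, _, hff, M, _, ⟨e⟩⟩ := hB
  haveI := hff
  haveI : Nontrivial R' := (TensorProduct.lid k R').injective.nontrivial
  obtain ⟨m, hm⟩ := Ideal.exists_maximal R'
  letI := Ideal.Quotient.field m
  let K := AlgebraicClosure (R' ⧸ m)
  let ι : R' →ₐ[k] K := (IsScalarTower.toAlgHom k (R' ⧸ m) K).comp (Ideal.Quotient.mkₐ k m)
  haveI : Algebra.FinitePresentation k C := Algebra.FinitePresentation.of_finiteType.mp inferInstance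
  haveI : Algebra.Smooth k C := ⟨inferInstance, inferInstance⟩
  haveI : _root_.IsReduced (K ⊗[k] C) := GrothLib.RedSmooth.isReduced_of_algebra_smooth K (K ⊗[k] C)
  haveI : Nontrivial C := (Bialgebra.counitAlgHom k C).toRingHom.domain_nontrivial
  haveI : ConnectedSpace (PrimeSpectrum C) := by
    refine connectedSpace_iff_clopen.mpr ⟨inferInstance, fun s hs => ?_⟩
    obtain ⟨e, he, rfl⟩ := PrimeSpectrum.exists_idempotent_basicOpen_eq_of_isClopen hs
    rcases hconn e he with rfl | rfl
    · left; simp
    · right; simp
  have hconnK : ∀ x : K ⊗[k] C, IsIdempotentElem x → x = 0 ∨ x = 1 := fun x hx => by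
    have hε : IsIdempotentElem (Coalgebra.counit (R := K) x) := by
      have := hx.map (Bialgebra.counitAlgHom K (K ⊗[k] C))
      exact this
    rcases IsIdempotentElem.iff_eq_zero_or_one.1 hε with h | h
    · exact Or.inl (GrothLib.MultLocal.eq_zero_of_connected_field K hx h)
    · exact Or.inr (sub_eq_zero.1 (GrothLib.MultLocal.eq_zero_of_connected_field K hx.one_sub
        (by rw [map_sub, h, Bialgebra.counit_one, sub_self]))).symm
  have hUK : HopfRep.IsUnipotent K (K ⊗[k] C) := GrothLib.Unip.isUnipotent_baseChange_iff.1 hU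
  have hgl : ∀ g : K ⊗[k] C, IsGroupLikeElem K g → g = 1 := by
    intro g hg
    by_contra hne
    obtain ⟨n, hn⟩ := GrothLib.Unip.exists_mem_soc hUK g
    induction n with
    | zero =>
      have h0 : g = 0 := (Submodule.mem_bot K).1 hn
      exact one_ne_zero (hg.counit_eq_one.symm.trans (by rw [h0, map_zero]))
    | succ n ih =>
      obtain ⟨f, hf⟩ : ∃ f : Module.Dual K (K ⊗[k] C), f (g - 1) ≠ 0 := by
        by_contra h
        push Not at h
        exact hne (sub_eq_zero.1 ((Module.forall_dual_apply_eq_zero_iff K _).1 h))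
      obtain ⟨z, hz⟩ := GrothLib.Unip.mem_next.1 hn
      refine ih (by
        have h1 := congrArg (fun w => TensorProduct.rid K (K ⊗[k] C) (f.lTensor (K ⊗[k] C) w)) hz
        have h2 : (HopfRep.Comod.coact (k := K) (A := K ⊗[k] C) g : (K ⊗[k] C) ⊗[K] (K ⊗[k] C)) = g ⊗ₜ[K] g :=
          hg.comul_eq_tmul_self
        simp only [h2, ← TensorProduct.tmul_sub, LinearMap.lTensor_tmul, TensorProduct.rid_tmul] at h1
        rw [← inv_smul_smul₀ hf g, ← h1]
        refine Submodule.smul_mem _ _ ?_
        clear hz h1
        induction z using TensorProduct.induction_on with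
        | zero => simp
        | add p q hp hq => simp only [map_add, add_mem hp hq]
        | tmul p q => simpa using Submodule.smul_mem _ (f q) p.2)
  let F : R' ⊗[k] B →ₐ[k] K ⊗[k] C := Algebra.TensorProduct.map ι f
  have key : ∀ z : R' ⊗[k] B, F z ∈ (algebraMap K (K ⊗[k] C)).range := by
    intro z
    obtain ⟨w, rfl⟩ := (e : R' ⊗[k] B ≃ₐc[R'] MonoidAlgebra R' M).symm.toAlgEquiv.surjective z
    induction w using MonoidAlgebra.induction_linear with
    | zero => rw [map_zero, map_zero]; exact zero_mem _
    | add x y hx hy => rw [map_add, map_add]; exact add_mem hx hy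
    | single g r =>
      rw [show MonoidAlgebra.single g r = r • MonoidAlgebra.single g (1 : R') by simp, map_smul,
        Algebra.smul_def, map_mul]
      refine Subring.mul_mem _ ⟨ι r, by simp [F, Algebra.TensorProduct.algebraMap_apply]⟩ ?_
      have hu : IsUnit (F (e.symm.toAlgEquiv (MonoidAlgebra.single g (1 : R')))) :=
        (((Group.isUnit g).map (MonoidAlgebra.of R' M))).map e.symm.toAlgEquiv |>.map F
      generalize F (e.symm.toAlgEquiv (MonoidAlgebra.single g (1 : R'))) = u at hu
      obtain ⟨c, hc⟩ : ∃ c : K, c = Bialgebra.counitAlgHom K (K ⊗[k] C) u := ⟨_, rfl⟩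
      have hc0 : c ≠ 0 := hc ▸ (hu.map _).ne_zero
      have h := hgl _ (GrothLib.Hopf.UnitsGroupLike.isGroupLike_of_isUnit hconnK
        (w := c⁻¹ • u) (by rw [Algebra.smul_def]; exact ((IsUnit.mk0 _ (inv_ne_zero hc0)).map _).mul hu)
        (by rw [map_smul, show Coalgebra.counit (R := K) u = c from hc.symm, smul_eq_mul, inv_mul_cancel₀ hc0]))
      exact ⟨c, by rw [Algebra.algebraMap_eq_smul_one, ← h, smul_inv_smul₀ hc0]⟩
  obtain ⟨c, hc⟩ := key ((1 : R') ⊗ₜ[k] b)
  simp only [F, Algebra.TensorProduct.map_tmul, map_one] at hc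
  have hcε := congrArg (Coalgebra.counit (R := K)) hc
  rw [Bialgebra.counit_algebraMap, TensorProduct.counit_tmul, CommSemiring.counit_apply,
    ← Algebra.algebraMap_eq_smul_one] at hcε
  rw [hcε, Algebra.TensorProduct.algebraMap_apply, Algebra.algebraMap_self_apply] at hc
  have hinj : Function.Injective (Algebra.TensorProduct.includeRight : C →ₐ[k] K ⊗[k] C) :=
    Algebra.TensorProduct.includeRight_injective (algebraMap k K).injective
  refine hinj ?_
  rw [Algebra.TensorProduct.includeRight_apply, AlgHom.commutes, Algebra.TensorProduct.algebraMap_apply]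
  exact hc.symm

end Groth.Agent.S5432
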