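import Groth.Statements.S5433
import Groth.Agent.Lib.CentSplit14.Unip
-- import your own Groth.Agent.* helpers here

set_option autoImplicit false
universe u
open TensorProduct
open SGA3

namespace Groth.Agent.S5433

/-- Let k be a perfect field and A a finitely generated commutative and cocommutative Hopf algebra over
k (a commutative affine algebraic group G). Let J be the Hopf ideal of the largest subgroup of
multiplicative type M (A/J is of multiplicative type and J lies in every Hopf ideal whose quotient
is of multiplicative type). Then there is exactly one Hopf ideal I of A (a unipotent subgroup U)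
such that A/I is unipotent in the fixed-vector sense and the map A → (A/J) ⊗ (A/I), a ↦ Σ ā₁ ⊗ ā₂
(the comorphism of the multiplication M × U → G), is bijective. -/
theorem result (k : Type u) [Field k] [PerfectField k] (A : Type u) [CommRing A] [HopfAlgebra k A] [Algebra.FiniteType k A]
    [Coalgebra.IsCocomm k A] (J : Ideal A) [J.IsHopfIdeal k] (hJ : SGA3b.IsMultTypeConst k (A ⧸ J))
    (hJmax : ∀ (I : Ideal A) [I.IsHopfIdeal k], SGA3b.IsMultTypeConst k (A ⧸ I) → J ≤ I) :
    ∃! I : Ideal A, ∃ (_ : I.IsHopfIdeal k), HopfRep.IsUnipotent k (A ⧸ I) ∧
      Function.Bijective ((Algebra.TensorProduct.map (Ideal.Quotient.mkₐ k J) (Ideal.Quotient.mkₐ k I)).comp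
        (Bialgebra.comulAlgHom k A)) := by
  exact GrothLib.CentSplit14.existsUnique_unipotent_complement J hJ hJmax

end Groth.Agent.S5433
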