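import Groth.Statements.S5439
import Groth.Agent.Lib.EtaleSect14.Basic
-- import your own Groth.Agent.* helpers here

set_option autoImplicit false
universe u
open TensorProduct
open SGA3

namespace Groth.Agent.S5439

/-- Let k be a field, A a finitely generated commutative Hopf algebra (an algebraic group E), ψ : B → A
an injective bialgebra map from a finitely generated Hopf algebra B of multiplicative type (the
quotient H), J the Hopf ideal generated by the image of the augmentation ideal of B (the kernel U =
Spec (A/J)), with U unipotent in the fixed-vector sense and étale over k (A/J an étale k-algebra).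
If H is connected (B has no idempotents other than 0 and 1), then there is exactly one lifting of H
in E, i.e. exactly one bialgebra map r : A → B with r ∘ ψ = id. (The published statement also
identifies this lifting as the identity component of E; this row omits that.) -/
theorem result (k : Type u) [Field k] (A B : Type u) [CommRing A] [HopfAlgebra k A] [Algebra.FiniteType k A] [CommRing B] [HopfAlgebra k B]
    [Algebra.FiniteType k B] (hB : SGA3b.IsMultTypeConst k B) (ψ : B →ₐc[k] A) (hψ : Function.Injective ψ)
    (J : Ideal A) [J.IsHopfIdeal k] (hJ : J = Ideal.map (ψ : B →+* A) (RingHom.ker (Bialgebra.counitAlgHom k B)))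
    (hU : HopfRep.IsUnipotent k (A ⧸ J)) [Algebra.Etale k (A ⧸ J)]
    (hH : ∀ e : B, IsIdempotentElem e → e = 0 ∨ e = 1) :
    ∃! r : A →ₐc[k] B, r.comp ψ = BialgHom.id k B := by
  subst hJ
  haveI : (GrothLib.Hopf.kerIdeal k ψ).IsHopfIdeal k := ‹_›
  haveI : Algebra.Etale k (A ⧸ GrothLib.Hopf.kerIdeal k ψ) := ‹_›
  exact GrothLib.EtaleSect14.existsUnique_retraction hB hH ψ hψ hU

end Groth.Agent.S5439
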