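import Groth.Statements.S5447
import Groth.Agent.Lib.RootDatum.Weyl

set_option autoImplicit false
open RootD

namespace Groth.Agent.S5447

open GrothLib.RootDatum


/-- If every root can be written in exactly one way as an integer combination of the roots indexed by Δ
with coefficients all of the same sign, then these roots are linearly independent (so Δ is a system
of simple roots) and indivisible. -/
theorem result {ι M N : Type*} [AddCommGroup M] [AddCommGroup N]
    (P : RootPairing ι ℤ M N) [Finite ι] (Δ : Set ι)
    (h : ∀ k : ι, ∃! c : ι →₀ ℤ, (↑c.support ⊆ Δ ∧ ((∀ j, 0 ≤ c j) ∨ (∀ j, c j ≤ 0)) ∧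
      Finsupp.linearCombination ℤ P.root c = P.root k)) :
    RootD.IsSimpleSys P Δ ∧ ∀ i ∈ Δ, RootD.IsIndiv P i := by
  classical
  choose c hc huniq using h
  have hneg : ∀ k, c (nr P k) = -c k := fun k => (huniq _ _ ⟨by rw [Finsupp.support_neg]; exact (hc k).1,
    (hc k).2.1.symm.imp (fun h j => by simpa using h j) (fun h j => by simpa using h j),
    by rw [map_neg, (hc k).2.2, root_nr]⟩).symm
  have hne : ∀ k, c k ≠ 0 := fun k h0 => root_ne_zero P k (by rw [← (hc k).2.2, h0, map_zero])
  let S : Set ι := {k | ∀ a, 0 ≤ c k a}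
  have hadd : ∀ {i j k}, i ∈ S → j ∈ S → P.root k = P.root i + P.root j → c k = c i + c j := by
    intro i j k hi hj e
    refine (huniq _ _ ⟨?_, Or.inl fun a => add_nonneg (hi a) (hj a), by
      rw [map_add, (hc i).2.2, (hc j).2.2, e]⟩).symm
    refine (Finset.coe_subset.mpr Finsupp.support_add).trans ?_
    rw [Finset.coe_union]
    exact Set.union_subset (hc i).1 (hc j).1
  have hS : RootD.IsPosSys P S := by
    refine isPosSys_of_closed (fun i hi hi' => hne i (Finsupp.ext fun a => ?_)) (fun i => ?_) ?_
    · have h1 : 0 ≤ c (nr P i) a := hi' a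
      rw [hneg, Finsupp.neg_apply] at h1
      have := hi a
      simp only [Finsupp.coe_zero, Pi.zero_apply]
      omega
    · refine (hc i).2.1.imp id fun h a => ?_
      show 0 ≤ c (nr P i) a
      rw [hneg, Finsupp.neg_apply]
      linarith [h a]
    · intro i j k hi hj e a
      rw [hadd hi hj e]
      exact add_nonneg (hi a) (hj a)
  have hsingle : ∀ a ∈ Δ, c a = Finsupp.single a 1 := fun a ha => (huniq a _
    ⟨by simpa [Finsupp.support_single] using ha, Or.inl fun b => by
      rw [Finsupp.single_apply]; split <;> simp, by simp⟩).symm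
  have hΔS : Δ ⊆ S := fun a ha b => by rw [hsingle a ha, Finsupp.single_apply]; split <;> simp
  have hgen : ∀ k ∈ S, P.root k ∈ RootD.natSpan P Δ := fun k hk => by
    rw [← (hc k).2.2, Finsupp.linearCombination_apply]
    refine sum_mem fun a ha => ?_
    obtain ⟨n, hn⟩ := Int.eq_ofNat_of_zero_le (hk a)
    simp only [hn, natCast_zsmul]
    exact nsmul_mem (root_mem_natSpan P ((hc k).1 ha)) n
  have hsub : Δ ⊆ simpleOf P S := fun a ha => ⟨hΔS ha, fun i hi j hj e => by
    have h1 := hadd hi hj e
    rw [hsingle a ha] at h1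
    have key : ∀ i' j', i' ∈ S → j' ∈ S → Finsupp.single a (1 : ℤ) = c i' + c j' → c i' a = 0 → False := by
      intro i' j' hi' hj' h2 h0
      refine hne i' (Finsupp.ext fun b => ?_)
      rcases eq_or_ne b a with rfl | hb
      · exact h0
      · have := congrArg (fun f : ι →₀ ℤ => f b) h2
        simp only [Finsupp.single_eq_of_ne hb, Finsupp.add_apply] at this
        have := hi' b; have := hj' b
        simp only [Finsupp.coe_zero, Pi.zero_apply]
        omega
    have := congrArg (fun f : ι →₀ ℤ => f a) h1
    simp only [Finsupp.single_eq_same, Finsupp.add_apply] at this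
    have := hi a; have := hj a
    by_cases h0 : c i a = 0
    · exact key i j hi hj h1 h0
    · exact key j i hj hi (h1.trans (add_comm _ _)) (by omega)⟩
  have h' : IsSimple P Δ := ⟨(linearIndepOn_simpleOf hS).mono hsub, fun k =>
    (hS.cover k).imp (hgen k) fun h => by simpa using hgen _ h⟩
  exact ⟨(isSimpleSys_iff P Δ).mpr h', fun i hi => h'.isIndiv hi⟩

end Groth.Agent.S5447
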