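import Groth.Statements.S5451
import Groth.Agent.Lib.RootDatum.PosSys

set_option autoImplicit false
open RootD

namespace Groth.Agent.S5451

open GrothLib.RootDatum


/-- If a root is a positive integer combination of roots α_i, then it can be reached from 0 by
successively adding roots taken among the α_i in such a way that every partial sum is a root. -/
theorem result {ι M N : Type*} [AddCommGroup M] [AddCommGroup N]
    (P : RootPairing ι ℤ M N) [Finite ι] {n : ℕ} (a : Fin n → ι) (m : Fin n → ℕ)
    (hm : ∀ i, 0 < m i) (k : ι) (hk : P.root k = ∑ i, m i • P.root (a i)) :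
    ∃ (l : ℕ) (b : Fin l → Fin n), 0 < l ∧
      (∀ p : Fin l, ∃ j : ι, P.root j = ∑ q ∈ Finset.univ.filter (fun q : Fin l => q.val ≤ p.val), P.root (a (b q))) ∧
      P.root k = ∑ q, P.root (a (b q)) := by
  classical
  suffices H : ∀ (N : ℕ) (m : Fin n → ℕ) (k : ι), ∑ i, m i = N → P.root k = ∑ i, m i • P.root (a i) →
      ∃ bs : List (Fin n), bs ≠ [] ∧ P.root k = (bs.map fun i => P.root (a i)).sum ∧
        ∀ p, 0 < p → p ≤ bs.length → ∃ j, P.root j = ((bs.take p).map fun i => P.root (a i)).sum by
    obtain ⟨bs, hne, hsum, hpart⟩ := H _ m k rfl hk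
    have hof : List.ofFn (fun q => P.root (a (bs.get q))) = bs.map fun i => P.root (a i) :=
      List.ext_getElem (by simp) (by simp)
    refine ⟨bs.length, fun q => bs.get q, List.length_pos_iff.mpr hne, fun p => ?_, ?_⟩
    · obtain ⟨j, hj⟩ := hpart (p.val + 1) (Nat.succ_pos _) (by have := p.isLt; omega)
      refine ⟨j, hj.trans ?_⟩
      rw [List.map_take]
      have := List.sum_take_ofFn (fun q : Fin bs.length => P.root (a (bs.get q))) (p.val + 1)
      rw [hof] at this
      simpa [Nat.lt_succ_iff] using this
    · rw [hsum, ← List.sum_ofFn, hof]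
  intro N
  induction N using Nat.strongRecOn with
  | ind N ih =>
    intro m k hN hk
    obtain ⟨i, -, hi⟩ : ∃ i ∈ (Finset.univ : Finset (Fin n)), 0 < (m i : ℤ) * pz P (a i) k := by
      by_contra! hc
      have h2 := Finset.sum_nonpos hc
      have : ((∑ i, (m i : ℤ) * pz P (a i) k : ℤ)) = 2 := by
        have := congrArg (P.coroot' k) hk
        simp only [map_sum, map_nsmul, RootPairing.root_coroot'_eq_pairing, ← pz_eq_pairing, pz_same, nsmul_eq_mul] at this
        exact this.symm
      omega
    have hmi : 0 < m i := Nat.pos_of_ne_zero fun h0 => by simp [h0] at hi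
    have hpz : 0 < pz P (a i) k := pos_of_mul_pos_right hi (by positivity)
    rcases eq_or_ne k (a i) with e | e
    · refine ⟨[i], by simp, by simp [e], fun p hp hp' => ?_⟩
      simp only [List.length_singleton] at hp'
      obtain rfl : p = 1 := by omega
      exact ⟨k, by simp [e]⟩
    obtain ⟨k', hk'⟩ := exists_root_sub P ((pz_pos_symm P).mp hpz) e
    have hm' : ∀ f : Fin n → M, ∑ j, m j • f j = (∑ j, Function.update m i (m i - 1) j • f j) + f i := by
      intro f
      rw [Fintype.sum_eq_add_sum_compl i, Fintype.sum_eq_add_sum_compl i, Function.update_self]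
      have : ∑ j ∈ ({i}ᶜ : Finset (Fin n)), Function.update m i (m i - 1) j • f j =
          ∑ j ∈ ({i}ᶜ : Finset (Fin n)), m j • f j :=
        Finset.sum_congr rfl fun j hj => by rw [Function.update_of_ne (by simpa using hj)]
      rw [this, add_right_comm, ← succ_nsmul, Nat.sub_add_cancel hmi]
    have hlt : ∑ j, Function.update m i (m i - 1) j < N := by
      rw [← hN]
      exact Finset.sum_lt_sum (fun j _ => by by_cases h : j = i <;> simp [Function.update, h])
        ⟨i, Finset.mem_univ i, by simp; omega⟩
    obtain ⟨bs, hne, hsum, hpart⟩ := ih _ hlt _ k' rfl (by rw [hk', hk, hm' (fun j => P.root (a j))]; abel)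
    refine ⟨bs ++ [i], by simp, by simp [← hsum, hk'], fun p hp hp' => ?_⟩
    rcases Nat.lt_or_ge p (bs.length + 1) with hlt | hge
    · rw [List.take_append_of_le_length (by omega)]
      exact hpart p hp (by omega)
    · refine ⟨k, ?_⟩
      rw [List.take_of_length_le (by simp; omega)]
      simp [← hsum, hk']

end Groth.Agent.S5451
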