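import Groth.Statements.S5452
import Groth.Agent.Lib.RootDatum.Weyl

set_option autoImplicit false
open RootPairing
open scoped Pointwise
open RootD

namespace Groth.Agent.S5452

open GrothLib.RootDatum


/-- The Weyl group of a root datum acts faithfully on the set of roots. -/
theorem result {ι M N : Type*} [AddCommGroup M] [AddCommGroup N]
    (P : RootPairing ι ℤ M N) [Finite ι] :
    Function.Injective P.weylGroupToPerm := by
  intro g h heq
  have key : ∀ i : ι, ((g : P.Aut)⁻¹ * (h : P.Aut)) • i = i := fun i => by
    rw [mul_smul, inv_smul_eq_iff]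
    exact (congrArg (fun e : _root_.Equiv.Perm ι => e i) heq).symm
  exact Subtype.ext (eq_of_inv_mul_eq_one
    (weylGroup_eq_one_of_fix (mul_mem (inv_mem g.2) h.2) key))

end Groth.Agent.S5452
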