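import Groth.Statements.S5453
import Groth.Agent.Lib.RootDatum.Weyl

set_option autoImplicit false
open RootPairing
open scoped Pointwise
open RootD

namespace Groth.Agent.S5453

open GrothLib.RootDatum


/-- If S is a system of positive roots and P' is a closed set of roots containing each root or its
opposite, then w(S) ⊆ P' for some w in the Weyl group. -/
theorem result {ι M N : Type*} [AddCommGroup M] [AddCommGroup N]
    (P : RootPairing ι ℤ M N) [Finite ι] (S : Set ι) (hS : RootD.IsPosSys P S)
    (P' : Set ι) (hP2 : ∀ i : ι, i ∈ P' ∨ P.reflectionPerm i i ∈ P') (hcl : RootD.IsClosedSub P P') :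
    ∃ g : P.Aut, g ∈ P.weylGroup ∧ (fun i : ι => g • i) '' S ⊆ P' := by
  exact exists_weylGroup_image_subset hS hP2 hcl

end Groth.Agent.S5453
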