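import Groth.Statements.S5457
import Groth.Agent.Lib.RootDatum.Weyl

set_option autoImplicit false
open RootD

namespace Groth.Agent.S5457

open GrothLib.RootDatum


/-- Given a translation-invariant partial order (pulled back along an additive map to an ordered abelian
group) for which every root is > 0 or < 0, the roots > 0 form a system of positive roots. -/
theorem result {ι M N : Type*} [AddCommGroup M] [AddCommGroup N]
    (P : RootPairing ι ℤ M N) [Finite ι] {G : Type*} [AddCommGroup G] [PartialOrder G]
    [IsOrderedAddMonoid G] (φ : M →+ G) (hφ : ∀ i : ι, 0 < φ (P.root i) ∨ φ (P.root i) < 0) :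
    RootD.IsPosSys P {i : ι | 0 < φ (P.root i)} := by
  refine isPosSys_of_closed (fun i (hi : 0 < φ (P.root i)) (hi' : 0 < φ (P.root _)) => ?_)
    (fun i => ?_) (fun i j k (hi : 0 < φ (P.root i)) (hj : 0 < φ (P.root j)) h => ?_)
  · rw [root_nr, map_neg] at hi'
    exact lt_asymm hi (neg_pos.mp hi')
  · refine (hφ i).imp id fun h => ?_
    show 0 < φ (P.root _)
    rw [root_nr, map_neg]
    exact neg_pos.mpr h
  · show 0 < φ (P.root k)
    rw [h, map_add]
    exact add_pos hi hj

end Groth.Agent.S5457
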