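import Groth.Statements.S5458
import Groth.Agent.Lib.RootDatum.Weyl

set_option autoImplicit false
open RootD

namespace Groth.Agent.S5458

open GrothLib.RootDatum


/-- Let S be a system of positive roots with simple system Δ ⊆ S and let P' ⊇ S be a closed set of
roots; with Δ' the set of simple roots whose opposite lies in P', the set P' is the union of S and
of the roots that are non-positive integer combinations of Δ'. -/
theorem result {ι M N : Type*} [AddCommGroup M] [AddCommGroup N]
    (P : RootPairing ι ℤ M N) [Finite ι] (S : Set ι) (hS : RootD.IsPosSys P S) (Δ : Set ι)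
    (hΔ : RootD.IsSimpleSys P Δ) (hΔS : Δ ⊆ S) (P' : Set ι) (hcl : RootD.IsClosedSub P P')
    (hSP : S ⊆ P') :
    P' = S ∪ {k : ι | -P.root k ∈ RootD.natSpan P {i : ι | i ∈ Δ ∧ P.reflectionPerm i i ∈ P'}} := by
  classical
  have h := (isSimpleSys_iff P Δ).mp hΔ
  have hS' := h.posOf_eq_of_subset hS hΔS
  subst hS'
  refine subset_antisymm (fun k hk => ?_) (Set.union_subset hSP fun k hk => ?_)
  · rw [Set.mem_union, or_iff_not_imp_left]
    intro hkS
    have hm : nr P k ∈ RootD.posOf P Δ := (hS.cover k).resolve_left hkS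
    suffices ∀ (d : ℕ) (m : ι), m ∈ RootD.posOf P Δ → nr P m ∈ P' → (h.ht m).toNat = d →
        P.root m ∈ RootD.natSpan P {i : ι | i ∈ Δ ∧ P.reflectionPerm i i ∈ P'} by
      have := this _ (nr P k) hm (by rw [nr_nr]; exact hk) rfl
      rw [root_nr] at this
      exact this
    intro d
    induction d using Nat.strongRecOn with
    | ind d ih =>
      intro m hm hmP hd
      by_cases hmΔ : m ∈ Δ
      · exact root_mem_natSpan P ⟨hmΔ, hmP⟩
      have hnot : m ∉ simpleOf P (RootD.posOf P Δ) := by rwa [h.simpleOf_posOf]
      obtain ⟨i, hi, j, hj, hij⟩ : ∃ i ∈ RootD.posOf P Δ, ∃ j ∈ RootD.posOf P Δ,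
          P.root m = P.root i + P.root j := by simpa [simpleOf, hm] using hnot
      have hiP : nr P i ∈ P' := hcl hmP (hSP hj) (by rw [root_nr, root_nr, hij]; abel)
      have hjP : nr P j ∈ P' := hcl hmP (hSP hi) (by rw [root_nr, root_nr, hij]; abel)
      have hh := h.ht_add hij
      have := h.ht_pos hi
      have := h.ht_pos hj
      rw [hij]
      exact add_mem (ih (h.ht i).toNat (by omega) i hi hiP rfl) (ih (h.ht j).toNat (by omega) j hj hjP rfl)
  · apply mem_of_closed_of_mem_natSpan hcl
    obtain ⟨l, hl, hlk⟩ := exists_list_of_mem_natSpan P (show -P.root k ∈ _ from hk)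
    have : P.root k = ((l.map (nr P)).map P.root).sum := by
      rw [← neg_neg (P.root k), hlk]
      clear hlk hl
      induction l with
      | nil => simp
      | cons a t ih => simp only [List.map_cons, List.sum_cons, neg_add, ih, root_nr]
    rw [this]
    refine list_sum_mem_natSpan P fun b hb => ?_
    obtain ⟨a, ha, rfl⟩ := List.mem_map.mp hb
    exact (hl a ha).2

end Groth.Agent.S5458
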