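import Groth.Statements.S5459
import Groth.Agent.Lib.RootDatum.Extend
import Groth.Agent.S5458

set_option autoImplicit false
open RootD

namespace Groth.Agent.S5459

open GrothLib.RootDatum


/-- A closed set of roots containing each root or its opposite is, for a suitable system of simple roots
Δ and a subset Δ' ⊆ Δ, the set of roots lying in ℕΔ ∪ (-ℕΔ'). -/
theorem result {ι M N : Type*} [AddCommGroup M] [AddCommGroup N]
    (P : RootPairing ι ℤ M N) [Finite ι] (P' : Set ι)
    (hP2 : ∀ i : ι, i ∈ P' ∨ P.reflectionPerm i i ∈ P') (hcl : RootD.IsClosedSub P P') :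
    ∃ Δ Δ' : Set ι, RootD.IsSimpleSys P Δ ∧ Δ' ⊆ Δ ∧
      P' = RootD.posOf P Δ ∪ {k : ι | -P.root k ∈ RootD.natSpan P Δ'} := by
  obtain ⟨S₀, hS₀⟩ := exists_isPosSys P
  obtain ⟨g, hg, hgS⟩ := exists_weylGroup_image_subset hS₀ hP2 hcl
  have hS := isPosSys_image g hS₀
  have h := isSimple_simpleOf P hS
  refine ⟨simpleOf P ((fun i => g • i) '' S₀), {i | i ∈ simpleOf P ((fun i => g • i) '' S₀) ∧ P.reflectionPerm i i ∈ P'},
    (isSimpleSys_iff P _).mpr h, fun i hi => hi.1, ?_⟩
  rw [posOf_simpleOf hS]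
  exact Groth.Agent.S5458.result P _ hS _ ((isSimpleSys_iff P _).mpr h) (simpleOf_subset _) P' hcl hgS

end Groth.Agent.S5459
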