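import Groth.Statements.S5460
import Groth.Agent.Lib.RootDatum.Extend

set_option autoImplicit false
open RootD

namespace Groth.Agent.S5460

open GrothLib.RootDatum


/-- A set of roots R' is the trace on R of a vector subspace (every root with a positive multiple in the
span of R' lies in R') if and only if R' is the set of roots in the span of a subset Δ' of some
system of simple roots Δ. -/
theorem result {ι M N : Type*} [AddCommGroup M] [AddCommGroup N]
    (P : RootPairing ι ℤ M N) [Finite ι] (R' : Set ι) :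
    (∀ k : ι, (∃ n : ℕ, 0 < n ∧ n • P.root k ∈ Submodule.span ℤ (P.root '' R')) → k ∈ R') ↔
      ∃ Δ Δ' : Set ι, RootD.IsSimpleSys P Δ ∧ Δ' ⊆ Δ ∧ R' = RootD.inSpan P Δ' := by
  classical
  constructor
  · intro hsat
    let V := Submodule.span ℤ (P.root '' R')
    have hR : satTrace P V = R' :=
      Set.Subset.antisymm (fun k hk => hsat k hk)
        (fun k hk => ⟨1, one_pos, by rw [one_smul]; exact Submodule.subset_span ⟨k, hk, rfl⟩⟩)
    obtain ⟨S₀, hS₀⟩ := exists_isPosSys P
    rcases isEmpty_or_nonempty ι with hι | hι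
    · exact ⟨simpleOf P S₀, ∅, (isSimpleSys_iff P _).mpr (isSimple_simpleOf P hS₀), Set.empty_subset _,
        Subsingleton.elim _ _⟩
    obtain ⟨k₀⟩ := hι
    obtain ⟨Δ, h, -, -, -, hspan, -⟩ := exists_adapted (P := P) V (S' := S₀ ∩ satTrace P V) Set.inter_subset_right
      (fun i hi hi' => hS₀.disjoint hi.1 hi'.1)
      (fun i hi => (hS₀.cover i).imp (fun h => ⟨h, hi⟩) fun h => ⟨h, by
        obtain ⟨n, hn, hni⟩ := hi
        exact ⟨n, hn, by rw [root_nr, smul_neg n]; exact Submodule.neg_mem _ hni⟩⟩)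
      (fun i j k hi hj e => ⟨isPosSys_closed hS₀ hi.1 hj.1 e, by
        obtain ⟨n, hn, hni⟩ := hi.2
        obtain ⟨m, hm, hmj⟩ := hj.2
        refine ⟨n * m, Nat.mul_pos hn hm, ?_⟩
        rw [e, smul_add (n * m)]
        refine Submodule.add_mem _ ?_ ?_
        · rw [mul_comm, mul_smul]; exact Submodule.smul_of_tower_mem _ m hni
        · rw [mul_smul]; exact Submodule.smul_of_tower_mem _ n hmj⟩) k₀
    exact ⟨Δ, Δ ∩ satTrace P V, (isSimpleSys_iff P _).mpr h, Set.inter_subset_left, hR ▸ hspan⟩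
  · rintro ⟨Δ, Δ', hΔ, hsub, rfl⟩ k ⟨n, hn, hnk⟩
    have h := (isSimpleSys_iff P Δ).mp hΔ
    show P.root k ∈ Submodule.span ℤ (P.root '' Δ')
    have h1 : n • P.root k ∈ Submodule.span ℤ (P.root '' Δ') :=
      Submodule.span_le.mpr (by rintro _ ⟨j, hj, rfl⟩; exact hj) hnk
    obtain ⟨c, hc, hck⟩ := (Finsupp.mem_span_image_iff_linearCombination ℤ).mp h1
    rw [Finsupp.mem_supported] at hc
    have e : c = (n : ℤ) • h.coeff k := h.eq_of_linearCombination_eq (hc.trans hsub)
      ((Finset.coe_subset.mpr Finsupp.support_smul).trans (h.coeff_support k))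
      (by rw [hck, map_smul, h.linearCombination_coeff, natCast_zsmul])
    rw [← h.linearCombination_coeff k]
    refine (Finsupp.mem_span_image_iff_linearCombination ℤ).mpr ⟨h.coeff k, ?_, rfl⟩
    rw [Finsupp.mem_supported]
    intro a ha
    refine hc (Finsupp.mem_support_iff.mpr ?_)
    rw [e, Finsupp.smul_apply, smul_eq_mul]
    exact mul_ne_zero (by omega) (Finsupp.mem_support_iff.mp ha)

end Groth.Agent.S5460
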