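import Groth.Statements.S5461
import Groth.Agent.Lib.RootDatum.Extend
import Groth.Agent.Lib.RootDatum.Cone

set_option autoImplicit false
open RootD

namespace Groth.Agent.S5461

open GrothLib.RootDatum


/-- If R' is the trace of a vector subspace on the roots, every system of simple roots Δ' of the root
datum with roots R' is contained in a system of simple roots Δ of the whole datum, and R' is the set
of roots in the span of Δ'. -/
theorem result {ι M N : Type*} [AddCommGroup M] [AddCommGroup N]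
    (P : RootPairing ι ℤ M N) [Finite ι] (R' : Set ι)
    (hsat : ∀ k : ι, (∃ n : ℕ, 0 < n ∧ n • P.root k ∈ Submodule.span ℤ (P.root '' R')) → k ∈ R')
    (Δ' : Set ι) (hΔ'R : Δ' ⊆ R') (hli : LinearIndepOn ℤ P.root Δ')
    (hgen : ∀ k ∈ R', P.root k ∈ RootD.natSpan P Δ' ∨ -P.root k ∈ RootD.natSpan P Δ') :
    ∃ Δ : Set ι, RootD.IsSimpleSys P Δ ∧ Δ' ⊆ Δ ∧ R' = RootD.inSpan P Δ' := by
  classical
  let V := Submodule.span ℤ (P.root '' R')
  have hR : satTrace P V = R' :=
    Set.Subset.antisymm (fun k hk => hsat k hk)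
      (fun k hk => ⟨1, one_pos, by rw [one_smul]; exact Submodule.subset_span ⟨k, hk, rfl⟩⟩)
  have hneg : ∀ i ∈ satTrace P V, nr P i ∈ satTrace P V := by
    rintro i ⟨n, hn, hni⟩
    exact ⟨n, hn, by rw [root_nr, smul_neg n]; exact Submodule.neg_mem _ hni⟩
  have hd : ∀ ⦃i : ι⦄, P.root i ∈ RootD.natSpan P Δ' → P.root (nr P i) ∉ RootD.natSpan P Δ' := by
    intro i hi hi'
    obtain ⟨l₁, hl₁, e₁⟩ := exists_list_of_mem_natSpan P hi
    obtain ⟨l₂, hl₂, e₂⟩ := exists_list_of_mem_natSpan P hi'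
    have := length_eq_of_sum_eq hli (l := l₁ ++ l₂) (l' := [])
      (fun a ha => (List.mem_append.mp ha).elim (hl₁ a) (hl₂ a)) (by simp)
      (by simp [← e₁, ← e₂])
    simp only [List.length_append, List.length_nil] at this
    rw [List.length_eq_zero_iff.mp (show l₁.length = 0 by omega)] at e₁
    exact root_ne_zero P i (by simpa using e₁)
  rcases isEmpty_or_nonempty ι with hι | hι
  · exact ⟨∅, ⟨linearIndepOn_empty ℤ _, fun i => hι.elim i⟩, fun i => hι.elim i, Subsingleton.elim _ _⟩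
  obtain ⟨k₀⟩ := hι
  obtain ⟨Δ, h, hpos, hsplit, hgenS, hspan, -⟩ := exists_adapted (P := P) V
    (S' := {k | k ∈ satTrace P V ∧ P.root k ∈ RootD.natSpan P Δ'}) (fun k hk => hk.1)
    (fun i hi hi' => hd hi.2 hi'.2)
    (fun i hi => (hgen i (hR ▸ hi)).imp (fun h => ⟨hi, h⟩) fun h => ⟨hneg i hi, by rwa [root_nr]⟩)
    (by
      rintro i j k hi hj e
      have hk : P.root k ∈ RootD.natSpan P Δ' := e ▸ add_mem hi.2 hj.2
      refine ⟨?_, hk⟩
      rw [hR]
      refine hsat k ⟨1, one_pos, ?_⟩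
      rw [one_smul]
      exact Submodule.span_mono (Set.image_mono hΔ'R) (natSpan_le_span P _ hk)) k₀
  have hsub : Δ' ⊆ Δ := by
    intro a ha
    have haS' : a ∈ RootD.posOf P Δ ∩ satTrace P V :=
      hpos.symm ▸ ⟨hR.symm ▸ hΔ'R ha, root_mem_natSpan P ha⟩
    rw [← h.simpleOf_posOf]
    refine ⟨haS'.1, fun i hi j hj e => ?_⟩
    obtain ⟨hi', hj'⟩ := hsplit i hi j hj a haS'.2 e
    obtain ⟨l₁, hl₁, e₁⟩ := exists_list_of_mem_natSpan P hi'.2
    obtain ⟨l₂, hl₂, e₂⟩ := exists_list_of_mem_natSpan P hj'.2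
    have := length_eq_of_sum_eq hli (l := l₁ ++ l₂) (l' := [a])
      (fun b hb => (List.mem_append.mp hb).elim (hl₁ b) (hl₂ b)) (by simpa using ha)
      (by simp [← e₁, ← e₂, ← e])
    simp only [List.length_append, List.length_singleton] at this
    rcases (show l₁.length = 0 ∨ l₂.length = 0 by omega) with h0 | h0
    · rw [List.length_eq_zero_iff.mp h0] at e₁; exact root_ne_zero P i (by simpa using e₁)
    · rw [List.length_eq_zero_iff.mp h0] at e₂; exact root_ne_zero P j (by simpa using e₂)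
  refine ⟨Δ, (isSimpleSys_iff P Δ).mpr h, hsub, ?_⟩
  refine Set.Subset.antisymm (fun k hk => ?_) fun k hk => hsat k ⟨1, one_pos, ?_⟩
  · show P.root k ∈ Submodule.span ℤ (P.root '' Δ')
    rcases hgen k hk with h' | h'
    · exact natSpan_le_span P _ h'
    · exact (Submodule.neg_mem_iff _).mp (natSpan_le_span P _ h')
  · rw [one_smul]
    exact Submodule.span_mono (Set.image_mono hΔ'R) hk

end Groth.Agent.S5461
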