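import Groth.Statements.S5462
import Groth.Agent.Lib.RootDatum.Weyl

set_option autoImplicit false
open RootPairing
open scoped Pointwise
open RootD

namespace Groth.Agent.S5462

open GrothLib.RootDatum


/-- For Δ' contained in a system of simple roots Δ, the subgroup of the Weyl group generated by the
reflections in Δ' preserves the set of positive roots not lying in the span of Δ'. -/
theorem result {ι M N : Type*} [AddCommGroup M] [AddCommGroup N]
    (P : RootPairing ι ℤ M N) [Finite ι] (Δ Δ' : Set ι) (hΔ : RootD.IsSimpleSys P Δ) (hsub : Δ' ⊆ Δ)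
    (g : P.Aut) (hg : g ∈ Subgroup.closure ((fun i : ι => Equiv.reflection P i) '' Δ'))
    (k : ι) (hk : k ∈ RootD.posOf P Δ) (hk' : k ∉ RootD.inSpan P Δ') :
    g • k ∈ RootD.posOf P Δ ∧ g • k ∉ RootD.inSpan P Δ' := by
  have h := (isSimpleSys_iff P Δ).mp hΔ
  obtain ⟨l, hl, rfl⟩ := exists_word_of_mem_closure hg
  have hspan : ∀ a ∈ Δ', P.root a ∈ Submodule.span ℤ (P.root '' Δ') := fun a ha =>
    Submodule.subset_span ⟨a, ha, rfl⟩
  clear hg
  induction l with
  | nil => simpa [word] using ⟨hk, hk'⟩
  | cons a t ih =>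
    obtain ⟨h1, h2⟩ := ih fun x hx => hl x (List.mem_cons_of_mem a hx)
    have ha := hl a (by simp)
    rw [show word P (a :: t) = refl P a * word P t by simp [word], mul_smul, refl_smul]
    refine ⟨h.refl_smul_mem_posOf (hsub ha) h1 (fun e => h2 ?_) (fun e => h2 ?_), fun h3 => h2 ?_⟩
    · show P.root (word P t • k) ∈ Submodule.span ℤ (P.root '' Δ')
      rw [e]; exact hspan a ha
    · show P.root (word P t • k) ∈ Submodule.span ℤ (P.root '' Δ')
      rw [e]; exact Submodule.smul_mem _ _ (hspan a ha)
    · have h4 : P.root (P.reflectionPerm a (word P t • k)) ∈ Submodule.span ℤ (P.root '' Δ') := h3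
      rw [root_refl] at h4
      exact (Submodule.sub_mem_iff_left _ (Submodule.smul_mem _ _ (hspan a ha))).mp h4

end Groth.Agent.S5462
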