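import Groth.Statements.S5463
import Groth.Agent.Lib.RootDatum.Weyl

set_option autoImplicit false
open RootPairing
open scoped Pointwise
open RootD

namespace Groth.Agent.S5463

open GrothLib.RootDatum


/-- An element w of the Weyl group belongs to the subgroup generated by the reflections in Δ' ⊆ Δ (Δ a
system of simple roots) if and only if w(α) - α lies in the rational span of Δ' for every root α. -/
theorem result {ι M N : Type*} [AddCommGroup M] [AddCommGroup N]
    (P : RootPairing ι ℤ M N) [Finite ι] (Δ Δ' : Set ι) (hΔ : RootD.IsSimpleSys P Δ)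
    (hsub : Δ' ⊆ Δ) (g : P.Aut) (hg : g ∈ P.weylGroup) :
    g ∈ Subgroup.closure ((fun i : ι => Equiv.reflection P i) '' Δ') ↔
      ∀ k : ι, ∃ n : ℕ, 0 < n ∧ n • (P.root (g • k) - P.root k) ∈ Submodule.span ℤ (P.root '' Δ') := by
  classical
  have h := (isSimpleSys_iff P Δ).mp hΔ
  constructor
  · intro hgc k
    refine ⟨1, one_pos, ?_⟩
    rw [one_smul]
    obtain ⟨l, hl, rfl⟩ := exists_word_of_mem_closure hgc
    clear hgc hg
    induction l with
    | nil => simp [word]
    | cons a t ih =>
      rw [show word P (a :: t) = GrothLib.RootDatum.refl P a * word P t by simp [word], mul_smul, refl_smul,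
        root_refl, sub_right_comm]
      exact Submodule.sub_mem _ (ih fun x hx => hl x (List.mem_cons_of_mem a hx))
        (Submodule.smul_mem _ _ (Submodule.subset_span ⟨a, hl a (by simp), rfl⟩))
  · intro hmove
    obtain ⟨l, hm, rfl⟩ := h.exists_minWord hg
    clear hg
    suffices ∀ a ∈ l, a ∈ Δ' from word_mem_closure this
    induction l using List.reverseRecOn with
    | nil => simp
    | append_singleton t a ih =>
      obtain ⟨-, hneg⟩ := h.minWord_last hm
      have haΔ : a ∈ Δ := hm.1 a (by simp)
      have ha : a ∈ Δ' := by
        by_contra hn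
        obtain ⟨n, hn0, hmem⟩ := hmove a
        obtain ⟨c, hc, hck⟩ := (Finsupp.mem_span_image_iff_linearCombination ℤ).mp hmem
        rw [Finsupp.mem_supported] at hc
        have hnn : ∀ b, h.coeff (word P (t ++ [a]) • a) b ≤ 0 :=
          (h.coeff_nonneg_or_nonpos _).resolve_left fun hp => hneg (h.mem_posOf_iff.mpr hp)
        have e : c = (n : ℤ) • (h.coeff (word P (t ++ [a]) • a) - h.coeff a) := by
          refine h.eq_of_linearCombination_eq (hc.trans hsub) ?_ ?_
          · refine (Finset.coe_subset.mpr (Finsupp.support_smul.trans Finsupp.support_sub)).trans ?_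
            rw [Finset.coe_union]
            exact Set.union_subset (h.coeff_support _) (h.coeff_support _)
          · rw [hck, LinearMap.map_smul, LinearMap.map_sub, h.linearCombination_coeff, h.linearCombination_coeff, natCast_zsmul]
        have h0 : c a = 0 := Finsupp.notMem_support_iff.mp fun h' => hn (hc h')
        rw [e] at h0
        have := hnn a
        simp [h.coeff_self haΔ] at h0
        omega
      intro b hb
      rcases List.mem_append.mp hb with hb | hb
      · refine ih (h.minWord_dropLast hm) (fun k => ?_) b hb
        obtain ⟨n, hn0, hmem⟩ := hmove (P.reflectionPerm a k)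
        refine ⟨n, hn0, ?_⟩
        rw [word_concat, mul_smul, refl_smul, reflectionPerm_self, root_refl, ← sub_add, smul_add n] at hmem
        exact (Submodule.add_mem_iff_left _ (Submodule.smul_of_tower_mem _ n
          (Submodule.smul_mem _ _ (Submodule.subset_span (Set.mem_image_of_mem _ ha))))).mp hmem
      · rw [List.mem_singleton.mp hb]; exact ha

end Groth.Agent.S5463
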