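import Groth.Statements.S5464
import Groth.Agent.Lib.RootDatum.Extend

set_option autoImplicit false
open RootD

namespace Groth.Agent.S5464

open GrothLib.RootDatum


/-- Given an indivisible root α and a root γ not proportional to it, there is a system of simple roots
containing α and a simple root β of it with γ = aα + bβ, a, b ∈ ℕ. -/
theorem result {ι M N : Type*} [AddCommGroup M] [AddCommGroup N]
    (P : RootPairing ι ℤ M N) [Finite ι] (i k : ι) (hα : RootD.IsIndiv P i)
    (hli : LinearIndependent ℤ ![P.root i, P.root k]) :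
    ∃ Δ : Set ι, RootD.IsSimpleSys P Δ ∧ i ∈ Δ ∧
      ∃ j ∈ Δ, ∃ a b : ℕ, P.root k = a • P.root i + b • P.root j := by
  classical
  have hTn : ∀ (V : Submodule ℤ M), ∀ x ∈ satTrace P V, nr P x ∈ satTrace P V := by
    rintro V x ⟨n, hn, hx⟩
    exact ⟨n, hn, by rw [root_nr, smul_neg n]; exact Submodule.neg_mem _ hx⟩
  have hTa : ∀ (V : Submodule ℤ M) (a b c : ι), a ∈ satTrace P V → b ∈ satTrace P V →
      P.root c = P.root a + P.root b → c ∈ satTrace P V := by
    rintro V a b c ⟨n, hn, hna⟩ ⟨m, hm, hmb⟩ e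
    refine ⟨n * m, Nat.mul_pos hn hm, ?_⟩
    rw [e, smul_add (n * m)]
    refine Submodule.add_mem _ ?_ ?_
    · rw [mul_comm, mul_smul]; exact Submodule.smul_of_tower_mem _ m hna
    · rw [mul_smul]; exact Submodule.smul_of_tower_mem _ n hmb
  have hiT : ∀ (V : Submodule ℤ M) (x : ι), P.root x ∈ V → x ∈ satTrace P V :=
    fun V x hx => ⟨1, one_pos, by rwa [one_smul]⟩
  have hadapt : ∀ (V : Submodule ℤ M) (S₀ : Set ι), RootD.IsPosSys P S₀ → ∀ k₀, ∃ Δ : Set ι,
      IsSimple P Δ ∧ RootD.posOf P Δ ∩ satTrace P V = S₀ ∩ satTrace P V ∧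
      (∀ a ∈ RootD.posOf P Δ, ∀ b ∈ RootD.posOf P Δ, ∀ c ∈ satTrace P V,
        P.root c = P.root a + P.root b → a ∈ S₀ ∩ satTrace P V ∧ b ∈ S₀ ∩ satTrace P V) ∧
      (∀ c ∈ S₀ ∩ satTrace P V, P.root c ∈ RootD.natSpan P (Δ ∩ satTrace P V)) ∧
      (k₀ ∉ satTrace P V → k₀ ∈ RootD.posOf P Δ) := by
    intro V S₀ hS₀ k₀
    obtain ⟨Δ, h1, h2, h3, h4, -, h5⟩ := exists_adapted (P := P) V (S' := S₀ ∩ satTrace P V)
      Set.inter_subset_right (fun a ha ha' => hS₀.disjoint ha.1 ha'.1)
      (fun a ha => (hS₀.cover a).imp (fun h => ⟨h, ha⟩) fun h => ⟨h, hTn V a ha⟩)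
      (fun a b c ha hb e => ⟨isPosSys_closed hS₀ ha.1 hb.1 e, hTa V a b c ha.2 hb.2 e⟩) k₀
    exact ⟨Δ, h1, h2, h3, h4, h5⟩
  -- the line through α
  let V₁ := Submodule.span ℤ {P.root i}
  obtain ⟨S₀, hS₀, hiS₀⟩ := exists_isPosSys_mem P i
  obtain ⟨Δ₁, h₁, hpos₁, hsplit₁, hgen₁, hk₁⟩ := hadapt V₁ S₀ hS₀ k
  have hi₁ : i ∈ satTrace P V₁ := hiT _ _ (Submodule.subset_span rfl)
  have hkV : k ∉ satTrace P V₁ := by
    rintro ⟨n, hn, hnk⟩
    obtain ⟨z, hz⟩ := Submodule.mem_span_singleton.mp hnk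
    have := LinearIndependent.pair_iff.mp hli z (-(n : ℤ)) (by rw [hz, neg_smul, natCast_zsmul, add_neg_cancel])
    omega
  have hline : ∀ x ∈ satTrace P V₁, x ∈ RootD.posOf P Δ₁ → x = i ∨ P.root x = (2 : ℤ) • P.root i := by
    intro x hx hxp
    have hxS : x ∈ S₀ := ((Set.ext_iff.mp hpos₁ x).mp ⟨hxp, hx⟩).1
    obtain ⟨n, hn, hnx⟩ := hx
    obtain ⟨z, hz⟩ := Submodule.mem_span_singleton.mp hnx
    rw [← natCast_zsmul] at hz
    rcases proportional_cases P (by omega) hz.symm with e | e | e | e | e | e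
    · exact Or.inl e.1
    · exact absurd hxS (by rw [e.1]; exact hS₀.disjoint hiS₀)
    · exact Or.inr e.1
    · exfalso
      have h2 : P.root (nr P x) = P.root i + P.root i := by rw [root_nr, e.1, neg_smul, neg_neg, two_smul]
      exact hS₀.disjoint hxS (isPosSys_closed hS₀ hiS₀ hiS₀ h2)
    · exact absurd e.1 ((isIndiv_iff P i).mp hα x)
    · exact absurd (by rw [e.1, root_nr]; simp) ((isIndiv_iff P i).mp hα (nr P x))
  have hiΔ₁ : i ∈ Δ₁ := by
    rw [← h₁.simpleOf_posOf]
    refine ⟨((Set.ext_iff.mp hpos₁ i).mpr ⟨hiS₀, hi₁⟩).1, fun a ha b hb e => ?_⟩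
    obtain ⟨ha', hb'⟩ := hsplit₁ a ha b hb i hi₁ e
    have hwa := h₁.ht_pos ha
    have hwb := h₁.ht_pos hb
    have hadd := h₁.ht_add e
    rcases hline a ha'.2 ha with rfl | ea
    · omega
    rcases hline b hb'.2 hb with rfl | eb
    · omega
    · have := LinearIndependent.pair_iff.mp hli 3 0 (by
        rw [zero_smul, add_zero]
        rw [ea, eb, ← add_smul] at e
        rw [show (3 : ℤ) = (2 + 2) - 1 from rfl, sub_smul, one_smul, ← e, sub_self])
      omega
  -- the plane
  let V := Submodule.span ℤ {P.root i, P.root k}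
  obtain ⟨Δ, h, hpos, hsplit, hgen, -⟩ := hadapt V (RootD.posOf P Δ₁) h₁.isPosSys_posOf k
  have hi₂ : i ∈ satTrace P V := hiT _ _ (Submodule.subset_span (by simp))
  have hk₂ : k ∈ satTrace P V := hiT _ _ (Submodule.subset_span (by simp))
  have hiΔ : i ∈ Δ := by
    rw [← h.simpleOf_posOf]
    refine ⟨((Set.ext_iff.mp hpos i).mpr ⟨h₁.subset_posOf hiΔ₁, hi₂⟩).1, fun a ha b hb e => ?_⟩
    obtain ⟨ha', hb'⟩ := hsplit a ha b hb i hi₂ e
    have h0 : i ∈ simpleOf P (RootD.posOf P Δ₁) := by rw [h₁.simpleOf_posOf]; exact hiΔ₁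
    exact h0.2 a ha'.1 b hb'.1 e
  have honly : ∀ a ∈ Δ ∩ satTrace P V, ∀ b ∈ Δ ∩ satTrace P V, a ≠ i → b ≠ i → a = b := by
    intro a ha b hb hai hbi
    by_contra hab
    obtain ⟨n, hn, hna⟩ := ha.2
    obtain ⟨m, hm, hmb⟩ := hb.2
    obtain ⟨x, y, hxy⟩ := Submodule.mem_span_pair.mp hna
    obtain ⟨x', y', hxy'⟩ := Submodule.mem_span_pair.mp hmb
    have hy : y ≠ 0 := by
      rintro rfl
      have := h.eq_of_linearCombination_eq (c := Finsupp.single i x) (d := Finsupp.single a (n : ℤ))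
        ((Finset.coe_subset.mpr Finsupp.support_single_subset).trans (by simpa using hiΔ))
        ((Finset.coe_subset.mpr Finsupp.support_single_subset).trans (by simpa using ha.1))
        (by simpa [natCast_zsmul] using hxy)
      have := congrArg (fun f : ι →₀ ℤ => f a) this
      simp [Ne.symm hai] at this
      omega
    have := h.eq_of_linearCombination_eq
      (c := Finsupp.single a ((n : ℤ) * y') + Finsupp.single i (x' * y - x * y'))
      (d := Finsupp.single b ((m : ℤ) * y))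
      (by
        refine (Finset.coe_subset.mpr Finsupp.support_add).trans ?_
        rw [Finset.coe_union]
        exact Set.union_subset ((Finset.coe_subset.mpr Finsupp.support_single_subset).trans (by simpa using ha.1))
          ((Finset.coe_subset.mpr Finsupp.support_single_subset).trans (by simpa using hiΔ)))
      ((Finset.coe_subset.mpr Finsupp.support_single_subset).trans (by simpa using hb.1))
      (by
        rw [map_add, Finsupp.linearCombination_single, Finsupp.linearCombination_single,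
          Finsupp.linearCombination_single, mul_comm (n : ℤ), mul_comm (m : ℤ), mul_smul y', mul_smul y,
          natCast_zsmul, natCast_zsmul, ← hxy, ← hxy']
        module)
    have := congrArg (fun f : ι →₀ ℤ => f b) this
    simp [Ne.symm hab, hbi] at this
    rcases this with h0 | h0 <;> omega
  have hkS : k ∈ RootD.posOf P Δ₁ := hk₁ hkV
  obtain ⟨l, hl, hlk⟩ := exists_list_of_mem_natSpan P (hgen k ⟨hkS, hk₂⟩)
  obtain ⟨j, hjl, hji⟩ : ∃ j ∈ l, j ≠ i := by
    by_contra! hcon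
    rw [List.eq_replicate_iff.mpr ⟨rfl, hcon⟩] at hlk
    simp only [List.map_replicate, List.sum_replicate] at hlk
    exact hkV ⟨1, one_pos, Submodule.mem_span_singleton.mpr ⟨(l.length : ℤ), by rw [one_smul, hlk, natCast_zsmul]⟩⟩
  refine ⟨Δ, (isSimpleSys_iff P Δ).mpr h, hiΔ, j, (hl j hjl).1, l.count i, l.count j, ?_⟩
  rw [hlk]
  clear hlk hgen hkS
  have hall : ∀ x ∈ l, x = i ∨ x = j := fun x hx =>
    or_iff_not_imp_left.mpr fun hxi => honly x (hl x hx) j (hl j hjl) hxi hji
  clear hl hjl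
  induction l with
  | nil => simp
  | cons x t ih =>
    rw [List.map_cons, List.sum_cons, ih fun y hy => hall y (List.mem_cons_of_mem x hy), List.count_cons,
      List.count_cons]
    rcases hall x (by simp) with rfl | rfl
    · simp [Ne.symm hji, add_smul]; abel
    · simp [hji, add_smul]; abel

end Groth.Agent.S5464
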