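import Groth.Statements.S5465
import Groth.Agent.Lib.RootDatum.Extend

set_option autoImplicit false
open RootD

namespace Groth.Agent.S5465

open GrothLib.RootDatum


/-- A map from the roots to an abelian group that is odd and additive on pairs of roots whose sum is a
root extends uniquely to a homomorphism on the lattice generated by the roots. -/
theorem result {ι M N : Type*} [AddCommGroup M] [AddCommGroup N]
    (P : RootPairing ι ℤ M N) [Finite ι] {G : Type*} [AddCommGroup G] (f : ι → G)
    (hneg : ∀ i : ι, f (P.reflectionPerm i i) = -f i)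
    (hadd : ∀ i j k : ι, P.root k = P.root i + P.root j → f k = f i + f j) :
    ∃! φ : Submodule.span ℤ (Set.range P.root) →+ G,
      ∀ i : ι, φ ⟨P.root i, Submodule.subset_span (Set.mem_range_self i)⟩ = f i := by
  classical
  obtain ⟨S, hS⟩ := exists_isPosSys P
  have h := isSimple_simpleOf P hS
  let v : simpleOf P S → M := fun a => P.root a
  have hle : Submodule.span ℤ (Set.range P.root) ≤ Submodule.span ℤ (Set.range v) := by
    refine Submodule.span_le.mpr ?_
    rintro _ ⟨k, rfl⟩
    rw [show Set.range v = P.root '' simpleOf P S from (Set.image_eq_range _ _).symm]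
    rcases h.mem_or_neg_mem k with hk | hk
    · exact natSpan_le_span P _ hk
    · exact (Submodule.neg_mem_iff _).mp (natSpan_le_span P _ hk)
  have hli : LinearIndependent ℤ v := h.linInd.linearIndependent
  let φ : Submodule.span ℤ (Set.range P.root) →+ G :=
    ((Finsupp.linearCombination ℤ fun a : simpleOf P S => f a.1).comp
      (hli.repr.comp (Submodule.inclusion hle))).toAddMonoidHom
  have hsimple : ∀ a (ha : a ∈ simpleOf P S),
      φ ⟨P.root a, Submodule.subset_span (Set.mem_range_self a)⟩ = f a := fun a ha => by
    have hr := hli.repr_eq_single ⟨a, ha⟩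
      (Submodule.inclusion hle ⟨P.root a, Submodule.subset_span (Set.mem_range_self a)⟩) rfl
    show Finsupp.linearCombination ℤ _ (hli.repr _) = _
    rw [hr, Finsupp.linearCombination_single, one_smul]
  have hpos : ∀ (n : ℕ) (k : ι), (h.ht k).toNat = n → k ∈ S →
      φ ⟨P.root k, Submodule.subset_span (Set.mem_range_self k)⟩ = f k := by
    intro n
    induction n using Nat.strongRecOn with
    | ind n ih =>
      intro k hn hk
      by_cases hkΔ : k ∈ simpleOf P S
      · exact hsimple k hkΔ
      obtain ⟨i, hi, j, hj, hij⟩ : ∃ i ∈ S, ∃ j ∈ S, P.root k = P.root i + P.root j := by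
        simpa [simpleOf, hk] using hkΔ
      have := h.ht_add hij
      have := h.ht_pos ((posOf_simpleOf hS).symm ▸ hi)
      have := h.ht_pos ((posOf_simpleOf hS).symm ▸ hj)
      rw [hadd i j k hij, ← ih (h.ht i).toNat (by omega) i rfl hi, ← ih (h.ht j).toNat (by omega) j rfl hj,
        ← map_add]
      exact congrArg φ (Subtype.ext hij)
  have hall : ∀ k, φ ⟨P.root k, Submodule.subset_span (Set.mem_range_self k)⟩ = f k := by
    intro k
    rcases hS.cover k with hk | hk
    · exact hpos _ k rfl hk
    · have := hpos _ _ rfl hk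
      rw [hneg] at this
      rw [← neg_neg (f k), ← this, ← map_neg]
      exact congrArg φ (Subtype.ext (by simp))
  refine ⟨φ, hall, fun ψ hψ => AddMonoidHom.ext fun ⟨x, hx⟩ => ?_⟩
  induction hx using Submodule.span_induction with
  | mem y hy => obtain ⟨k, rfl⟩ := hy; exact (hψ k).trans (hall k).symm
  | zero => exact (map_zero ψ).trans (map_zero φ).symm
  | add x y hx hy ihx ihy =>
    have e : (⟨x + y, add_mem hx hy⟩ : Submodule.span ℤ (Set.range P.root)) = ⟨x, hx⟩ + ⟨y, hy⟩ := rfl
    rw [e, map_add, map_add, ihx, ihy]
  | smul z x hx ihx =>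
    have e : (⟨z • x, Submodule.smul_mem _ z hx⟩ : Submodule.span ℤ (Set.range P.root)) = z • ⟨x, hx⟩ := rfl
    rw [e, map_zsmul, map_zsmul, ihx]

end Groth.Agent.S5465
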