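import Groth.Statements.S5468
import Groth.Agent.Lib.RootDatum.Weyl

set_option autoImplicit false
open RootD

namespace Groth.Agent.S5468

open GrothLib.RootDatum


/-- Two roots whose reflections are distinct and commute are orthogonal. -/
theorem result {ι M N : Type*} [AddCommGroup M] [AddCommGroup N]
    (P : RootPairing ι ℤ M N) [Finite ι] (i j : ι)
    (hne : P.reflection i ≠ P.reflection j) (hc : Commute (P.reflection i) (P.reflection j)) :
    P.IsOrthogonal i j := by
  rw [isOrthogonal_iff]
  by_contra hp
  refine hne ?_
  have hR : ∀ {x y : ι}, GrothLib.RootDatum.refl P x = GrothLib.RootDatum.refl P y →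
      P.reflection x = P.reflection y := fun e =>
    LinearEquiv.ext fun m => congrArg (fun g : P.Aut => g • m) e
  have h1 : P.reflection (P.reflectionPerm i j) = P.reflection j := by
    rw [RootPairing.reflection_reflectionPerm, hc.eq, mul_assoc]
    rw [show P.reflection i * P.reflection i = 1 from
      LinearEquiv.ext fun x => RootPairing.reflection_same P i x, mul_one]
  have h2 : P.root j - pz P j (P.reflectionPerm i j) • P.root (P.reflectionPerm i j) = -P.root j := by
    rw [← reflection_root, h1, RootPairing.reflection_apply_self]
  rw [root_refl] at h2
  set a := pz P j (P.reflectionPerm i j)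
  set b := pz P j i with hb
  have h3 : (a - 2) • P.root j = (a * b) • P.root i := by
    linear_combination (norm := module) -h2
  have hb0 : b ≠ 0 := fun e => hp ((pz_eq_zero_iff P).mp e)
  have ha : a - 2 ≠ 0 := by
    intro e
    rw [e, zero_smul, show a = 2 by omega] at h3
    have := zsmul_inj P (mul_ne_zero two_ne_zero hb0) (x := P.root i) (y := 0) (by rw [smul_zero, ← h3])
    exact root_ne_zero P i this
  rcases proportional_cases P ha h3 with e | e | e | e | e | e
  · rw [e.1]
  · rw [e.1, reflection_nr]
  · exact (hR (reflection_of_root_eq_two_smul P e.1)).symm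
  · have := hR (reflection_of_root_eq_two_smul P (i := i) (k := nr P j) (by rw [root_nr, e.1, neg_smul, neg_neg]))
    rw [reflection_nr] at this
    exact this.symm
  · exact hR (reflection_of_root_eq_two_smul P e.1)
  · have := hR (reflection_of_root_eq_two_smul P (i := j) (k := nr P i) (by rw [root_nr, e.1, neg_smul, neg_neg]))
    rw [reflection_nr] at this
    exact this

end Groth.Agent.S5468
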