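import Groth.Statements.S5472
import Groth.Agent.Lib.RootDatum.Weyl

set_option autoImplicit false
open RootPairing
open scoped Pointwise
open RootD

namespace Groth.Agent.S5472

open GrothLib.RootDatum

open GrothLib.RootDatum in
theorem exists_shorter_sublist {ι M N : Type*} [AddCommGroup M] [AddCommGroup N]
    {P : RootPairing ι ℤ M N} [Finite ι] {Δ : Set ι} (h : IsSimple P Δ) {l : List ι}
    (hl : ∀ a ∈ l, a ∈ Δ) {i : ι} (hi : i ∈ Δ) (hpos : word P l • i ∉ RootD.posOf P Δ) :
    ∃ l' : List ι, List.Sublist l' l ∧ word P l' = word P (l ++ [i]) := by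
  induction l with
  | nil => exact absurd (h.subset_posOf hi) (by simpa [word] using hpos)
  | cons a t ih =>
    have ha : a ∈ Δ := hl a (by simp)
    have hcons : ∀ t', word P (a :: t') = refl P a * word P t' := fun t' => by simp [word]
    by_cases hp : word P t • i ∈ RootD.posOf P Δ
    · have heq : word P t • i = a := by
        by_contra hne
        refine hpos ?_
        rw [hcons, mul_smul, refl_smul]
        exact h.refl_smul_mem_posOf_of_indiv ha hp hne (isIndiv_smul P (h.isIndiv hi))
      refine ⟨t, List.sublist_cons_self a t, ?_⟩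
      rw [List.cons_append, hcons, word_concat, ← heq, ← conj_refl]
      rw [mul_assoc (word P t * refl P i), inv_mul_cancel_left, mul_assoc, refl_mul_self, mul_one]
    · obtain ⟨t', ht', hw⟩ := ih (fun x hx => hl x (List.mem_cons_of_mem a hx)) hp
      exact ⟨a :: t', ht'.cons_cons a, by rw [List.cons_append, hcons, hcons, hw]⟩


/-- Let Δ be a system of simple roots (root-only sense), γ a positive root and α, β simple roots with
(γ, α^v) > 0 and (γ, β^v) ≥ 0 (equivalently: the order of s_α(γ) along Δ is smaller than that of γ,
and the order of s_β(γ) is at most that of γ). Then for every w in the group generated by s_α and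
s_β the order of w(γ) along Δ is at most that of γ, and strictly smaller unless w ∈ {1, s_β}. The
order is the sum of the coefficients along Δ; the conclusion is stated for the coefficient vector c
of γ - w(γ) along Δ: its coefficient sum is ≥ 0, and > 0 unless w = 1 or w = s_β. -/
theorem result {ι M N : Type*} [AddCommGroup M] [AddCommGroup N]
    (P : RootPairing ι ℤ M N) [Finite ι] (Δ : Set ι) (hΔ : RootD.IsSimpleSys P Δ)
    (k i j : ι) (hk : k ∈ RootD.posOf P Δ) (hi : i ∈ Δ) (hj : j ∈ Δ)
    (hα : 0 < P.pairing k i) (hβ : 0 ≤ P.pairing k j)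
    (g : P.Aut) (hg : g ∈ Subgroup.closure {Equiv.reflection P i, Equiv.reflection P j})
    (c : ι →₀ ℤ) (hc : ↑c.support ⊆ Δ)
    (hck : Finsupp.linearCombination ℤ P.root c = P.root k - P.root (g • k)) :
    0 ≤ c.sum (fun _ a => a) ∧ (g ≠ 1 → g ≠ Equiv.reflection P j → 0 < c.sum (fun _ a => a)) := by
  classical
  have h := IsSimple.of_isSimpleSys P hΔ
  have hsum : c.sum (fun _ a => a) = h.ht k - h.ht (g • k) := by
    have : c = h.coeff k - h.coeff (g • k) := by
      refine h.eq_of_linearCombination_eq hc ?_ (by simp [hck, h.linearCombination_coeff])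
      refine (Finset.coe_subset.mpr Finsupp.support_sub).trans ?_
      rw [Finset.coe_union]
      exact Set.union_subset (h.coeff_support k) (h.coeff_support _)
    rw [this, Finsupp.sum_sub_index (fun _ _ _ => rfl)]
    rfl
  rw [← pz_eq_pairing] at hα hβ
  have hpair : refl P '' {i, j} = {RootPairing.Equiv.reflection P i, RootPairing.Equiv.reflection P j} :=
    Set.image_pair _ _ _
  rw [← hpair] at hg
  obtain ⟨l₀, hl₀, hw₀⟩ := exists_word_of_mem_closure hg
  -- a shortest word in the two letters
  have hex : ∃ n, ∃ l : List ι, (∀ a ∈ l, a ∈ ({i, j} : Set ι)) ∧ word P l = g ∧ l.length = n :=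
    ⟨_, l₀, hl₀, hw₀, rfl⟩
  obtain ⟨l, hl, hw, hlen⟩ := Nat.find_spec hex
  have hmin : ∀ l' : List ι, (∀ a ∈ l', a ∈ ({i, j} : Set ι)) → word P l' = g → l.length ≤ l'.length :=
    fun l' h1 h2 => hlen ▸ Nat.find_le ⟨l', h1, h2, rfl⟩
  have hΔij : ∀ a ∈ ({i, j} : Set ι), a ∈ Δ := by
    rintro a (rfl | rfl) <;> assumption
  have key : ∀ t s : List ι, t ++ s = l →
      0 ≤ h.ht k - h.ht (word P t • k) ∧ (i ∈ t → 0 < h.ht k - h.ht (word P t • k)) := by
    intro t
    induction t using List.reverseRecOn with
    | nil => intro s _; simp [word]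
    | append_singleton t a ih =>
      intro s hs
      rw [List.append_assoc, List.singleton_append] at hs
      obtain ⟨ih0, ih1⟩ := ih (a :: s) hs
      have htl : ∀ x ∈ t, x ∈ ({i, j} : Set ι) := fun x hx => hl x (hs ▸ List.mem_append_left _ hx)
      have ha : a ∈ ({i, j} : Set ι) := hl a (hs ▸ by simp)
      have hpos : word P t • a ∈ RootD.posOf P Δ := by
        by_contra hn
        obtain ⟨t', ht', hw'⟩ := exists_shorter_sublist h (fun x hx => hΔij x (htl x hx)) (hΔij a ha) hn
        have := hmin (t' ++ s) ?_ ?_
        · have := ht'.length_le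
          subst hs
          simp at *
          omega
        · intro x hx
          rcases List.mem_append.mp hx with hx | hx
          · exact htl x (ht'.subset hx)
          · exact hl x (hs ▸ by simp [hx])
        · rw [← hw, ← hs, show word P (t' ++ s) = word P t' * word P s by simp [word], hw']
          simp [word, mul_assoc]
      have hstep : h.ht (word P (t ++ [a]) • k) = h.ht (word P t • k) - pz P k a * h.ht (word P t • a) := by
        rw [word_concat, mul_smul, refl_smul]
        have : h.coeff (word P t • P.reflectionPerm a k) =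
            h.coeff (word P t • k) - pz P k a • h.coeff (word P t • a) := by
          refine (h.eq_coeff ?_ ?_).symm
          · intro x hx
            by_contra hn
            exact Finsupp.mem_support_iff.mp hx (by simp [h.coeff_notMem hn])
          · rw [map_sub, map_zsmul, h.linearCombination_coeff, h.linearCombination_coeff, ← smul_root,
              ← smul_root, ← smul_root, root_refl, smul_sub, smul_comm]
        simp only [IsSimple.ht, this]
        rw [Finsupp.sum_sub_index (fun _ _ _ => rfl), Finsupp.sum_smul_index' (fun _ => rfl),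
          Finsupp.mul_sum]
        simp
      have hz : 0 ≤ pz P k a := by
        rcases ha with rfl | rfl
        · exact hα.le
        · exact hβ
      have hp := h.ht_pos hpos
      refine ⟨by rw [hstep]; linarith [mul_nonneg hz hp.le], fun hi' => ?_⟩
      rcases List.mem_append.mp hi' with hi' | hi'
      · rw [hstep]; linarith [mul_nonneg hz hp.le, ih1 hi']
      · obtain rfl : i = a := by simpa using hi'
        rw [hstep]; linarith [mul_pos hα hp]
  have hk' := key l [] (List.append_nil l)
  rw [hw] at hk'
  rw [hsum]
  refine ⟨hk'.1, fun h1 h2 => hk'.2 ?_⟩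
  by_contra hni
  have hall : ∀ a ∈ l, a = j := fun a ha => (hl a ha).resolve_left fun e => hni (e ▸ ha)
  match l, hw, hall, hmin with
  | [], hw, _, _ => exact h1 (by simpa [word] using hw.symm)
  | [a], hw, hall, _ => exact h2 (by rw [← hw, hall a (by simp)]; simp [word])
  | a :: b :: r, hw, hall, hmin =>
    have := hmin r (fun x hx => Or.inr (hall x (by simp [hx]))) (by
      rw [← hw, hall a (by simp), hall b (by simp),
        show word P (j :: j :: r) = refl P j * refl P j * word P r by simp [word, mul_assoc],
        refl_mul_self, one_mul])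
    simp at this

end Groth.Agent.S5472
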