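import Groth.Statements.S5473
import Groth.Agent.Lib.RootDatum.Basic

set_option autoImplicit false
open RootD

namespace Groth.Agent.S5473

open GrothLib.RootDatum


/-- If a linear map f and its transpose g induce bijections from the roots of R' onto the roots of R and
from the coroots of R onto the coroots of R' respectively (a morphism of root data in the
two-bijection sense), then the two bijections correspond: the coroot of α' is g applied to the
coroot of f(α'). -/
theorem result {ι M N ι' M' N' : Type*} [AddCommGroup M] [AddCommGroup N] [AddCommGroup M'] [AddCommGroup N']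
    (P : RootPairing ι ℤ M N) (P' : RootPairing ι' ℤ M' N') [Finite ι] [Finite ι']
    (f : M' →ₗ[ℤ] M) (g : N →ₗ[ℤ] N') (hfg : ∀ (m' : M') (n : N), P.toLinearMap (f m') n = P'.toLinearMap m' (g n))
    (e : ι' ≃ ι) (he : ∀ i' : ι', f (P'.root i') = P.root (e i'))
    (e' : ι ≃ ι') (he' : ∀ i : ι, g (P.coroot i) = P'.coroot (e' i)) :
    ∀ i' : ι', g (P.coroot (e i')) = P'.coroot i' := by
  haveI := Fintype.ofFinite ι
  haveI := Fintype.ofFinite ι'
  have hp : ∀ a q, pz P (e a) q = pz P' a (e' q) := by
    intro a q
    rw [pz_eq_pairing, pz_eq_pairing, ← P.root_coroot_eq_pairing, ← P'.root_coroot_eq_pairing, ← he, hfg, he']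
  have hq : ∀ a c, qf P (e a) (e c) = qf P' a c := fun a c => by
    rw [qf_def, qf_def]
    exact Fintype.sum_equiv e' _ _ fun q => by rw [hp, hp]
  intro c
  have key : ∀ a, pz P' a (e' (e c)) = pz P' a c := fun a => by
    rw [← hp]
    refine mul_right_cancel₀ (qf_self_pos P' c).ne' ?_
    rw [← two_qf P', ← hq, ← hq, two_qf P]
  rw [he', ← sub_eq_zero]
  refine eq_zero_of_mem_span_of_coroot' P'.flip
    (sub_mem (Submodule.subset_span ⟨_, rfl⟩) (Submodule.subset_span ⟨_, rfl⟩)) fun a => ?_
  rw [map_sub, sub_eq_zero]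
  change P'.toLinearMap (P'.root a) (P'.coroot (e' (e c))) = P'.toLinearMap (P'.root a) (P'.coroot c)
  rw [P'.root_coroot_eq_pairing, P'.root_coroot_eq_pairing, ← pz_eq_pairing, ← pz_eq_pairing, key]

end Groth.Agent.S5473
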