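import Groth.Statements.S5474
import Mathlib.GroupTheory.FiniteAbelian.Basic
import Mathlib.LinearAlgebra.Dimension.Torsion.Finite
import Groth.Agent.Lib.RootDatum.Rank

set_option autoImplicit false
open RootD

namespace Groth.Agent.S5474

open GrothLib.RootDatum


/-- Every morphism between semisimple root data is an isogeny (injective on weight lattices with finite
cokernel). -/
theorem result {ι M N ι' M' N' : Type*} [AddCommGroup M] [AddCommGroup N] [AddCommGroup M'] [AddCommGroup N']
    (P : RootPairing ι ℤ M N) (P' : RootPairing ι' ℤ M' N') [Finite ι] [Finite ι']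
    [Module.Finite ℤ M] [Module.Finite ℤ N] [Module.Finite ℤ M'] [Module.Finite ℤ N']
    (hss : Module.finrank ℤ (Submodule.span ℤ (Set.range P.root)) = Module.finrank ℤ M)
    (hss' : Module.finrank ℤ (Submodule.span ℤ (Set.range P'.root)) = Module.finrank ℤ M')
    (f : RootPairing.Hom P' P) :
    Function.Injective f.weightMap ∧ Finite (M ⧸ LinearMap.range f.weightMap) := by
  refine ⟨(injective_iff_map_eq_zero _).mpr fun x hx => ?_, ?_⟩
  · refine (Submodule.eq_bot_iff _).mp ((finrank_root_eq_iff P').mp hss') x ?_
    simp only [Submodule.mem_iInf, LinearMap.mem_ker]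
    intro i
    have h1 := LinearMap.congr_fun (RootPairing.Hom.weight_coweight_transpose_apply P' P
      (P.coroot (f.indexEquiv i)) f) x
    rw [RootPairing.Hom.coroot_coweightMap_apply, Equiv.symm_apply_apply] at h1
    simpa [hx] using h1.symm
  · have hle : Submodule.span ℤ (Set.range P.root) ≤ LinearMap.range f.weightMap := by
      refine Submodule.span_le.mpr ?_
      rintro _ ⟨i, rfl⟩
      exact ⟨P'.root (f.indexEquiv.symm i), by rw [RootPairing.Hom.root_weightMap_apply, Equiv.apply_symm_apply]⟩
    have hsum := (LinearMap.range f.weightMap).finrank_quotient_add_finrank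
    have hle' := Submodule.finrank_mono hle
    exact Module.finite_of_fg_torsion _ (Module.finrank_eq_zero_iff_isTorsion.mp (by omega))

end Groth.Agent.S5474
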