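import Groth.Statements.S5475
import Groth.Agent.Lib.RootDatum.Weyl
import Groth.Agent.Lib.RootDatum.Extend

set_option autoImplicit false
open RootD

namespace Groth.Agent.S5475

open GrothLib.RootDatum


/-- In an adjoint root datum every indivisible root is an indivisible element of the weight lattice. -/
theorem result {ι M N : Type*} [AddCommGroup M] [AddCommGroup N]
    (P : RootPairing ι ℤ M N) [Finite ι] (had : Submodule.span ℤ (Set.range P.root) = ⊤)
    (i : ι) (hind : RootD.IsIndiv P i) (m : M) (n : ℤ) (h : n • m = P.root i) : n = 1 ∨ n = -1 := by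
  classical
  obtain ⟨S, hS⟩ := exists_isPosSys P
  have hb := isSimple_simpleOf P hS
  obtain ⟨g, -, a, ha, rfl⟩ := hb.exists_smul_eq_of_indiv hind
  have hm : g⁻¹ • m ∈ Submodule.span ℤ (P.root '' simpleOf P S) := by
    have htop : Submodule.span ℤ (Set.range P.root) ≤ Submodule.span ℤ (P.root '' simpleOf P S) := by
      refine Submodule.span_le.mpr ?_
      rintro _ ⟨x, rfl⟩
      rcases hb.mem_or_neg_mem x with hx | hx
      · exact natSpan_le_span P _ hx
      · exact (Submodule.neg_mem_iff _).mp (natSpan_le_span P _ hx)
    exact htop (had ▸ Submodule.mem_top)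
  obtain ⟨c, hc, hck⟩ := (Finsupp.mem_span_image_iff_linearCombination ℤ).mp hm
  rw [Finsupp.mem_supported] at hc
  have e : n • c = hb.coeff a := hb.eq_of_linearCombination_eq
    ((Finset.coe_subset.mpr Finsupp.support_smul).trans hc) (hb.coeff_support a)
    (by rw [map_smul, hck, hb.linearCombination_coeff, smul_comm, h, ← smul_root, inv_smul_smul])
  have := congrArg (fun f : ι →₀ ℤ => f a) e
  simp [hb.coeff_self ha] at this
  exact Int.eq_one_or_neg_one_of_mul_eq_one this

end Groth.Agent.S5475
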