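import Groth.Statements.S5477
import Groth.Agent.Lib.RootDatum.Weyl

set_option autoImplicit false
open RootPairing
open scoped Pointwise
open RootD

namespace Groth.Agent.S5477

open GrothLib.RootDatum


/-- An automorphism of a root datum acting trivially on the radical (u(m) - m in the rational span of
the roots for all m) is determined by its action on the roots: if it fixes every root it is the
identity. -/
theorem result {ι M N : Type*} [AddCommGroup M] [AddCommGroup N]
    (P : RootPairing ι ℤ M N) [Finite ι] (u : P.Aut)
    (hs : ∀ m : M, ∃ n : ℕ, 0 < n ∧ n • (u • m - m) ∈ Submodule.span ℤ (Set.range P.root))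
    (hfix : ∀ i : ι, u • i = i) : u = 1 := by
  refine aut_eq_one_of_fix (fun m => ?_) hfix
  obtain ⟨n, hn, hmem⟩ := hs m
  have h0 : n • (u • m - m) = 0 := by
    refine eq_zero_of_mem_span_of_coroot' P hmem fun q => ?_
    have := toLinearMap_smul_coroot u q m
    rw [hfix] at this
    rw [map_nsmul, map_sub, this, sub_self, smul_zero]
  have := torsionFree P
  rw [(nsmul_eq_zero_iff_right hn.ne').mp h0]
  exact Submodule.zero_mem _

end Groth.Agent.S5477
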