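import Groth.Statements.S5478
import Groth.Agent.Lib.RootDatum.Weyl

set_option autoImplicit false
open RootPairing
open scoped Pointwise
open RootD

namespace Groth.Agent.S5478

open GrothLib.RootDatum


/-- The group of automorphisms of a root datum that act trivially on the radical is finite. -/
theorem result {ι M N : Type*} [AddCommGroup M] [AddCommGroup N]
    (P : RootPairing ι ℤ M N) [Finite ι] :
    Set.Finite {u : P.Aut | ∀ m : M, ∃ n : ℕ, 0 < n ∧ n • (u • m - m) ∈ Submodule.span ℤ (Set.range P.root)} := by
  refine Set.Finite.of_finite_image (f := fun g => (MulAction.toPerm g : _root_.Equiv.Perm ι)) (Set.toFinite _) ?_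
  intro u hu v hv heq
  refine eq_of_inv_mul_eq_one (aut_ext fun x => ?_)
  have hfix : ∀ q : ι, v • q = u • q := fun q => (congrArg (fun e : _root_.Equiv.Perm ι => e q) heq).symm
  rw [one_smul, mul_smul, inv_smul_eq_iff, ← sub_eq_zero]
  obtain ⟨n, hn, hnu⟩ := hu x
  obtain ⟨n', hn', hnv⟩ := hv x
  have := torsionFree P
  refine (nsmul_eq_zero_iff_right (Nat.mul_pos hn hn').ne').mp ?_
  refine eq_zero_of_mem_span_of_coroot' P ?_ fun q => ?_
  · have : v • x - u • x = (v • x - x) - (u • x - x) := by abel
    rw [this, smul_sub (n * n')]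
    refine Submodule.sub_mem _ ?_ ?_
    · rw [mul_smul]; exact Submodule.smul_of_tower_mem _ n hnv
    · rw [mul_comm, mul_smul]; exact Submodule.smul_of_tower_mem _ n' hnu
  · obtain ⟨p, rfl⟩ := (MulAction.surjective u) q
    have h1 := toLinearMap_smul_coroot u p x
    have h2 := toLinearMap_smul_coroot v p x
    rw [hfix] at h2
    rw [map_nsmul, map_sub, h1, h2, sub_self, smul_zero]

end Groth.Agent.S5478
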