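import Groth.Statements.S5479
import Groth.Agent.Lib.RootDatum.Weyl

set_option autoImplicit false
open RootPairing
open scoped Pointwise
open RootD

namespace Groth.Agent.S5479

open GrothLib.RootDatum


/-- Aut(R) is the semidirect product of the Weyl group by the stabiliser E_Δ of a system of simple
roots: every automorphism is uniquely w · e with w ∈ W and e(Δ) = Δ. -/
theorem result {ι M N : Type*} [AddCommGroup M] [AddCommGroup N]
    (P : RootPairing ι ℤ M N) [Finite ι] (Δ : Set ι) (hΔ : RootD.IsSimpleSys P Δ) (u : P.Aut) :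
    ∃! w : P.weylGroup, (fun i : ι => ((w : P.Aut)⁻¹ * u) • i) '' Δ = Δ := by
  have h := (isSimpleSys_iff P Δ).mp hΔ
  obtain ⟨g, hg, hgi⟩ := h.exists_weylGroup_image_eq (h.smul_isSimple u)
  refine ⟨⟨g, hg⟩, ?_, fun w hw => Subtype.ext ?_⟩
  · show (fun i : ι => (g⁻¹ * u) • i) '' Δ = Δ
    ext i
    constructor
    · rintro ⟨j, hj, rfl⟩
      have : u • j ∈ (fun i => g • i) '' Δ := hgi.symm ▸ ⟨j, hj, rfl⟩
      rw [mem_image_smul] at this
      show (g⁻¹ * u) • j ∈ Δ
      rwa [mul_smul]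
    · intro hi
      have : g • i ∈ (fun i => u • i) '' Δ := hgi ▸ ⟨i, hi, rfl⟩
      obtain ⟨j, hj, hji⟩ := this
      exact ⟨j, hj, by simp only [mul_smul] at hji ⊢; rw [hji, inv_smul_smul]⟩
  · refine eq_of_inv_mul_eq_one ?_
    refine h.eq_one_of_smul_subset (mul_mem (inv_mem w.2) hg) fun i hi => h.subset_posOf ?_
    have h1 : g • i ∈ (fun j => u • j) '' Δ := hgi ▸ ⟨i, hi, rfl⟩
    obtain ⟨j, hj, hji⟩ := h1
    rw [mul_smul, ← hji]
    exact hw ▸ ⟨j, hj, by simp only [mul_smul]⟩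

end Groth.Agent.S5479
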