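import Groth.Statements.S5482
import Groth.Agent.Lib.RootDatum.Component

set_option autoImplicit false
open RootD

namespace Groth.Agent.S5482

open GrothLib.RootDatum


/-- If the roots are partitioned into two closed symmetric subsets R', R'', then with Δ' = Δ ∩ R', Δ'' =
Δ ∩ R'' for a system of simple roots Δ one has R' = R_{Δ'}, R'' = R_{Δ''}, and Δ' is orthogonal to
Δ''. -/
theorem result {ι M N : Type*} [AddCommGroup M] [AddCommGroup N]
    (P : RootPairing ι ℤ M N) [Finite ι] (Δ : Set ι) (hΔ : RootD.IsSimpleSys P Δ) (R' : Set ι)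
    (hc : RootD.IsClosedSub P R') (hs : RootD.IsSymmSub P R') (hc' : RootD.IsClosedSub P R'ᶜ)
    (hs' : RootD.IsSymmSub P R'ᶜ) :
    R' = RootD.inSpan P (Δ ∩ R') ∧ R'ᶜ = RootD.inSpan P (Δ \ R') ∧
      ∀ i ∈ Δ ∩ R', ∀ j ∈ Δ \ R', P.IsOrthogonal i j := by
  have h := (isSimpleSys_iff P Δ).mp hΔ
  have horth : ∀ a ∈ Δ ∩ R', ∀ b ∈ Δ \ R', pz P a b = 0 := fun a ha b hb => by
    by_contra h0
    exact hb.2 ((mem_iff_of_partition hc hs hc' hs' h0).mp ha.2)
  have e : Δ \ (Δ ∩ R') = Δ \ R' := Set.sdiff_self_inter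
  have horth' : ∀ a ∈ Δ ∩ R', ∀ b ∈ Δ \ (Δ ∩ R'), pz P a b = 0 := fun a ha b hb => horth a ha b (e ▸ hb)
  have key : ∀ k, (k ∈ R' → P.root k ∈ Submodule.span ℤ (P.root '' (Δ ∩ R'))) ∧
      (k ∉ R' → P.root k ∈ Submodule.span ℤ (P.root '' (Δ \ R'))) := by
    intro k
    have horth'' : ∀ i ∈ Δ \ R', ∀ j ∈ Δ \ (Δ \ R'), pz P i j = 0 := fun i hi j hj =>
      (pz_eq_zero_iff P).mp (horth j ⟨hj.1, by by_contra hn; exact hj.2 ⟨hj.1, hn⟩⟩ i hi)
    have aux : ∀ k, RootD.IsIndiv P k → (k ∈ R' → P.root k ∈ Submodule.span ℤ (P.root '' (Δ ∩ R'))) ∧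
        (k ∉ R' → P.root k ∈ Submodule.span ℤ (P.root '' (Δ \ R'))) := by
      intro k hk
      obtain ⟨g, hg, a, ha, rfl⟩ := h.exists_smul_eq_of_indiv hk
      obtain ⟨l, hl, rfl⟩ := exists_word_of_mem_closure hg
      rw [smul_mem_iff_of_partition hc hs hc' hs' (word_mem_weylGroup l)]
      clear hg hk
      induction l with
      | nil =>
        rw [show word P [] • a = a from one_smul _ a]
        exact ⟨fun h' => Submodule.subset_span ⟨a, ⟨ha, h'⟩, rfl⟩, fun h' => Submodule.subset_span ⟨a, ⟨ha, h'⟩, rfl⟩⟩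
      | cons b t ih =>
        rw [show word P (b :: t) = GrothLib.RootDatum.refl P b * word P t by simp [word], mul_smul, ← smul_root]
        obtain ⟨i1, i2⟩ := ih fun x hx => hl x (List.mem_cons_of_mem b hx)
        exact ⟨fun h' => IsSimple.span_refl_mem horth' (hl b (by simp)) (i1 h'),
          fun h' => IsSimple.span_refl_mem horth'' (hl b (by simp)) (i2 h')⟩
    rcases indiv_or_eq_two_smul P k with hk | ⟨j, hj, hk⟩
    · exact aux k hk
    · have hsum : P.root k = P.root j + P.root j := by rw [hk, two_smul]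
      by_cases hjR : j ∈ R'
      · exact ⟨fun _ => hk ▸ Submodule.smul_mem _ _ ((aux j hj).1 hjR), fun hn => absurd (hc hjR hjR hsum) hn⟩
      · exact ⟨fun hp => absurd hp (hc' hjR hjR hsum), fun _ => hk ▸ Submodule.smul_mem _ _ ((aux j hj).2 hjR)⟩
  refine ⟨Set.ext fun k => ⟨(key k).1, fun hk => ?_⟩, Set.ext fun k => ⟨(key k).2, fun hk hn => ?_⟩,
    fun a ha b hb => (isOrthogonal_iff P).mpr (horth a ha b hb)⟩
  · by_contra hn
    exact h.not_mem_span_both Set.inter_subset_left k ⟨hk, e.symm ▸ (key k).2 hn⟩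
  · exact h.not_mem_span_both Set.inter_subset_left k ⟨(key k).1 hn, e.symm ▸ hk⟩

end Groth.Agent.S5482
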