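import Groth.Statements.S5487
import Groth.Agent.Lib.RootDatum.Flip
import Groth.Agent.Lib.RootDatum.Length

set_option autoImplicit false
open RootD

namespace Groth.Agent.S5487

open GrothLib.RootDatum


/-- For non-orthogonal roots α, β one has ℓ(α) ℓ(α^v) = ℓ(β) ℓ(β^v), where ℓ is the canonical quadratic
form of the datum and of its dual. -/
theorem result {ι M N : Type*} [AddCommGroup M] [AddCommGroup N]
    (P : RootPairing ι ℤ M N) [Finite ι] [Fintype ι] (i j : ι) (h : ¬ P.IsOrthogonal i j) :
    P.RootForm (P.root i) (P.root i) * P.CorootForm (P.coroot i) (P.coroot i) =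
      P.RootForm (P.root j) (P.root j) * P.CorootForm (P.coroot j) (P.coroot j) := by
  have hp : pz P i j ≠ 0 := fun h0 => h ((isOrthogonal_iff P).mpr h0)
  have hc : ∀ a, P.CorootForm (P.coroot a) (P.coroot a) = qf P.flip a a := fun a => qf_eq_rootForm P.flip a a
  rw [qf_eq_rootForm, qf_eq_rootForm, hc, hc]
  have h1 := pz_mul_qf P i j
  have h2 := pz_mul_qf P.flip i j
  rw [pz_flip, pz_flip] at h2
  refine mul_left_cancel₀ (mul_ne_zero hp fun h0 => hp ((pz_eq_zero_iff P).mp h0) : pz P i j * pz P j i ≠ 0) ?_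
  linear_combination (-(pz P i j) * qf P.flip i i) * h1 + (-(pz P i j) * qf P j j) * h2

end Groth.Agent.S5487
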