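import Groth.Statements.S5489
import Groth.Agent.Lib.RootDatum.Basic

set_option autoImplicit false
open RootD

namespace Groth.Agent.S5489

open GrothLib.RootDatum


/-- If a root α, distinct from roots α_1, ..., α_n, is a non-negative rational combination of them, then
some α_l with non-zero coefficient has (α^v, α_l) > 0 and α - α_l a root. -/
theorem result {ι M N : Type*} [AddCommGroup M] [AddCommGroup N]
    (P : RootPairing ι ℤ M N) [Finite ι] {n : ℕ} (a : Fin n → ι) (m : Fin n → ℕ)
    (k : ι) (hne : ∀ l, a l ≠ k) (c : ℕ) (hc : 0 < c) (hk : c • P.root k = ∑ l, m l • P.root (a l)) :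
    ∃ l : Fin n, m l ≠ 0 ∧ 0 < P.pairing (a l) k ∧ P.root k - P.root (a l) ∈ Set.range P.root := by
  obtain ⟨l, -, hl⟩ : ∃ l ∈ (Finset.univ : Finset (Fin n)), 0 < (m l : ℤ) * pz P (a l) k := by
    by_contra! hcon
    have h2 := Finset.sum_nonpos hcon
    have : ((∑ l, (m l : ℤ) * pz P (a l) k : ℤ)) = c * 2 := by
      have := congrArg (P.coroot' k) hk
      simp only [map_sum, map_nsmul, RootPairing.root_coroot'_eq_pairing, ← pz_eq_pairing, pz_same,
        nsmul_eq_mul] at this
      exact this.symm
    omega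
  have hm : m l ≠ 0 := fun h0 => by simp [h0] at hl
  have hp : 0 < pz P (a l) k := pos_of_mul_pos_right hl (by positivity)
  obtain ⟨k', hk'⟩ := exists_root_sub P ((pz_pos_symm P).mp hp) (hne l).symm
  exact ⟨l, hm, by rwa [← pz_eq_pairing], k', hk'⟩

end Groth.Agent.S5489
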