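import Groth.Statements.S5491
import Groth.Agent.Lib.RootDatum.Rho

set_option autoImplicit false
open RootD

namespace Groth.Agent.S5491

open GrothLib.RootDatum


open Classical in
/-- With ρ^v the half-sum of the positive coroots, the order (height) of any root α relative to the
simple system equals (ρ^v, α); equivalently 2·height(α) = Σ_{β > 0} (β^v, α). -/
theorem result {ι M N : Type*} [AddCommGroup M] [AddCommGroup N]
    (P : RootPairing ι ℤ M N) [Finite ι] [Fintype ι] [P.IsReduced] (b : P.Base) (i : ι) :
    2 * b.height i = ∑ j, if b.IsPos j then P.pairing i j else 0 := by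
  classical
  have h := IsSimple.of_base P b
  rw [← Finset.sum_filter, base_height_eq, ← h.sum_pz_left_eq_two_ht i]
  refine Finset.sum_congr (Finset.ext fun k => ?_) fun k _ => pz_eq_pairing P i k
  simp [mem_posFinset, isPos_iff_mem_posOf]

end Groth.Agent.S5491
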