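import Groth.Statements.S5493
import Groth.Agent.Lib.RootDatum.Weyl
import Groth.Agent.Lib.RootDatum.Base
import Groth.Agent.Lib.RootDatum.Length

set_option autoImplicit false
open RootD

namespace Groth.Agent.S5493

open GrothLib.RootDatum

open RootPairing in
theorem exists_root_of_basis_map {ι M N ι' M' N' : Type*} [AddCommGroup M] [AddCommGroup N]
    [AddCommGroup M'] [AddCommGroup N'] {P : RootPairing ι ℤ M N} {P' : RootPairing ι' ℤ M' N'}
    [Finite ι] [P.IsReduced] {Δ : Set ι} (h : IsSimple P Δ) (hspan : Submodule.span ℤ (P.root '' Δ) = ⊤)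
    (f : M →ₗ[ℤ] M') (v : Δ → ι') (hf : ∀ a : Δ, f (P.root a) = P'.root (v a))
    (hv : ∀ a c : Δ, P.pairing a c = P'.pairing (v a) (v c)) (k : ι) :
    ∃ k' : ι', f (P.root k) = P'.root k' ∧ ∀ x, P'.coroot' k' (f x) = P.coroot' k x := by
  -- on the simple indices
  have hsimple : ∀ c : Δ, ∀ x, P'.coroot' (v c) (f x) = P.coroot' (c : ι) x := by
    intro c
    suffices (P'.coroot' (v c)).comp f = P.coroot' (c : ι) from LinearMap.congr_fun this
    refine LinearMap.ext_on hspan ?_
    rintro _ ⟨a, ha, rfl⟩
    simp [hf ⟨a, ha⟩, hv ⟨a, ha⟩ c]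
  -- the Weyl group is intertwined
  have hW : ∀ g ∈ P.weylGroup, ∃ g' : P'.Aut, ∀ x, f (g • x) = g' • f x := by
    rw [← h.closure_refl_eq]
    intro g hg
    have hgen : ∀ c : Δ, ∀ x, f (refl P (c : ι) • x) = refl P' (v c) • f x := fun c x => by
      rw [RootPairing.Equiv.reflection_smul, RootPairing.Equiv.reflection_smul,
        RootPairing.reflection_apply, RootPairing.reflection_apply, map_sub, map_zsmul, hsimple, hf]
    induction hg using Subgroup.closure_induction with
    | mem y hy => obtain ⟨c, hc, rfl⟩ := hy; exact ⟨_, hgen ⟨c, hc⟩⟩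
    | one => exact ⟨1, fun x => by simp⟩
    | mul y z _ _ hy hz =>
      obtain ⟨y', hy'⟩ := hy
      obtain ⟨z', hz'⟩ := hz
      exact ⟨y' * z', fun x => by rw [mul_smul, mul_smul, hy', hz']⟩
    | inv y _ hy =>
      obtain ⟨y', hy'⟩ := hy
      exact ⟨y'⁻¹, fun x => by rw [eq_inv_smul_iff, ← hy', smul_inv_smul]⟩
  obtain ⟨g, hg, i, hi, rfl⟩ := h.exists_smul_eq_of_indiv (isIndiv_of_reduced k)
  replace hg : g ∈ P.weylGroup := h.closure_refl_eq ▸ hg
  obtain ⟨g', hg'⟩ := hW g hg
  refine ⟨g' • v ⟨i, hi⟩, by rw [← smul_root, hg', hf ⟨i, hi⟩, smul_root], fun x => ?_⟩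
  rw [← smul_inv_smul g x, hg', toLinearMap_smul_coroot, toLinearMap_smul_coroot]
  exact hsimple ⟨i, hi⟩ _


/-- Adjoint case; the simply connected case is dual: two reduced adjoint root data with systems of
simple roots Δ, Δ' and a bijection u : Δ → Δ' respecting the Cartan matrices are isomorphic through
a unique isomorphism inducing u on Δ. -/
theorem result {ι M N ι' M' N' : Type*} [AddCommGroup M] [AddCommGroup N] [AddCommGroup M'] [AddCommGroup N']
    (P : RootPairing ι ℤ M N) (P' : RootPairing ι' ℤ M' N') [Finite ι] [Finite ι'] [P.IsReduced] [P'.IsReduced]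
    (had : Submodule.span ℤ (Set.range P.root) = ⊤) (had' : Submodule.span ℤ (Set.range P'.root) = ⊤)
    (b : P.Base) (b' : P'.Base) (u : ↥b.support ≃ ↥b'.support)
    (hu : ∀ i j : ↥b.support, P.pairing (i : ι) (j : ι) = P'.pairing (u i : ι') (u j : ι')) :
    ∃! e : RootPairing.Equiv P P', ∀ i : ↥b.support, e.indexEquiv (i : ι) = (u i : ι') := by
  classical
  have h := IsSimple.of_base P b
  have h' := IsSimple.of_base P' b'
  have hspan : Submodule.span ℤ (P.root '' (b.support : Set ι)) = ⊤ := by
    refine top_le_iff.mp (had ▸ Submodule.span_le.mpr ?_)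
    rintro _ ⟨k, rfl⟩
    rcases h.mem_or_neg_mem k with hk | hk
    · exact natSpan_le_span P _ hk
    · exact (Submodule.neg_mem_iff _).mp (natSpan_le_span P _ hk)
  have hspan' : Submodule.span ℤ (P'.root '' (b'.support : Set ι')) = ⊤ := by
    refine top_le_iff.mp (had' ▸ Submodule.span_le.mpr ?_)
    rintro _ ⟨k, rfl⟩
    rcases h'.mem_or_neg_mem k with hk | hk
    · exact natSpan_le_span P' _ hk
    · exact (Submodule.neg_mem_iff _).mp (natSpan_le_span P' _ hk)
  let B : Module.Basis b.support ℤ M := Module.Basis.mk (v := fun a : b.support => P.root a)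
    h.linInd.linearIndependent (by rw [← hspan, Set.image_eq_range]; rfl)
  let B' : Module.Basis b'.support ℤ M' := Module.Basis.mk (v := fun a : b'.support => P'.root a)
    h'.linInd.linearIndependent (by rw [← hspan', Set.image_eq_range]; rfl)
  let f : M ≃ₗ[ℤ] M' := B.equiv B' u
  have hf : ∀ a : b.support, f (P.root a) = P'.root (u a) := fun a => by
    rw [← Module.Basis.mk_apply h.linInd.linearIndependent (by rw [← hspan, Set.image_eq_range]) a]
    exact (B.equiv_apply a B' u).trans (Module.Basis.mk_apply _ _ _)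
  have hmap : ∀ k, ∃ k', f (P.root k) = P'.root k' ∧ ∀ x, P'.coroot' k' (f x) = P.coroot' k x :=
    exists_root_of_basis_map h hspan f.toLinearMap (fun a => (u a : ι')) hf hu
  have hmap' : ∀ k', ∃ k, f.symm (P'.root k') = P.root k ∧ ∀ x, P.coroot' k (f.symm x) = P'.coroot' k' x :=
    exists_root_of_basis_map h' hspan' f.symm.toLinearMap (fun a => (u.symm a : ι))
      (fun a => (LinearEquiv.symm_apply_eq f).mpr (by rw [hf, Equiv.apply_symm_apply]))
      (fun a c => by rw [hu, Equiv.apply_symm_apply, Equiv.apply_symm_apply])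
  choose e he hec using hmap
  choose e' he' _ using hmap'
  let E : ι ≃ ι' :=
    { toFun := e
      invFun := e'
      left_inv := fun k => P.root.injective (by rw [← he', ← he, f.symm_apply_apply])
      right_inv := fun k => P'.root.injective (by rw [← he, ← he', f.apply_symm_apply]) }
  refine ⟨{ weightMap := f.toLinearMap
            coweightMap := (P'.flip.toPerfPair.trans (f.dualMap.trans P.flip.toPerfPair.symm)).toLinearMap
            indexEquiv := E
            weight_coweight_transpose := by ext; simp
            root_weightMap := funext fun k => he k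
            coroot_coweightMap := funext fun k' => P.flip.toPerfPair.injective (LinearMap.ext fun x => by
              obtain ⟨k, rfl⟩ := E.surjective k'
              have h1 : P'.toLinearMap (f x) (P'.coroot (E k)) = P.toLinearMap x (P.coroot k) := hec k x
              simp [h1])
            bijective_weightMap := f.bijective
            bijective_coweightMap := LinearEquiv.bijective _ }, fun a => P'.root.injective ?_, ?_⟩
  · exact (he a).symm.trans (hf a)
  · intro e₂ he₂
    have hw : e₂.weightMap = f.toLinearMap := by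
      refine LinearMap.ext_on hspan ?_
      rintro _ ⟨a, ha, rfl⟩
      rw [RootPairing.Hom.root_weightMap_apply, he₂ ⟨a, ha⟩]
      exact (hf ⟨a, ha⟩).symm
    refine RootPairing.Equiv.ext hw ?_ (Equiv.ext fun k => P'.root.injective ?_)
    · refine LinearMap.ext fun n => P.flip.toPerfPair.injective (LinearMap.ext fun x => ?_)
      have h1 := RootPairing.Hom.weight_coweight_transpose_apply P P' n e₂.toHom
      have h2 := LinearMap.congr_fun h1 x
      simp [hw] at h2 ⊢
      exact h2.symm
    · rw [← RootPairing.Hom.root_weightMap_apply, hw]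
      exact he k

end Groth.Agent.S5493
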