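import Groth.Statements.S5494
import Groth.Agent.Lib.RootDatum.Component

set_option autoImplicit false
open RootD

namespace Groth.Agent.S5494

open GrothLib.RootDatum


/-- If a system of simple roots has no partition into two non-empty orthogonal subsets, then any two
roots are linked by a chain of roots with consecutive members non-orthogonal. -/
theorem result {ι M N : Type*} [AddCommGroup M] [AddCommGroup N]
    (P : RootPairing ι ℤ M N) [Finite ι] (Δ : Set ι) (hΔ : RootD.IsSimpleSys P Δ)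
    (hconn : ∀ Δ' : Set ι, Δ' ⊆ Δ → (∀ i ∈ Δ', ∀ j ∈ Δ \ Δ', P.IsOrthogonal i j) → Δ' = ∅ ∨ Δ' = Δ)
    (i j : ι) : Relation.ReflTransGen (fun a b : ι => ¬ P.IsOrthogonal a b) i j := by
  have h := (isSimpleSys_iff P Δ).mp hΔ
  have step : ∀ {a b : ι}, Relation.ReflTransGen (fun a b : ι => ¬ P.IsOrthogonal a b) i a →
      pz P a b ≠ 0 → Relation.ReflTransGen (fun a b : ι => ¬ P.IsOrthogonal a b) i b :=
    fun ha hab => ha.tail fun ho => hab ((isOrthogonal_iff P).mp ho)
  have hsimple : ∀ k : ι, ∃ a ∈ Δ, pz P k a ≠ 0 := fun k => by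
    rcases h.isPosSys_posOf.cover k with hk | hk
    · obtain ⟨a, ha, hp, -⟩ := h.exists_simple_pairing_pos hk
      exact ⟨a, ha, hp.ne'⟩
    · obtain ⟨a, ha, hp, -⟩ := h.exists_simple_pairing_pos hk
      rw [pz_nr_left] at hp
      exact ⟨a, ha, by omega⟩
  rcases hconn (Δ ∩ {a | Relation.ReflTransGen (fun a b : ι => ¬ P.IsOrthogonal a b) i a})
      Set.inter_subset_left (fun a ha b hb => (isOrthogonal_iff P).mpr (by
        by_contra h0
        exact hb.2 ⟨hb.1, step ha.2 h0⟩)) with e | e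
  · obtain ⟨a, ha, hia⟩ := hsimple i
    exact absurd ⟨ha, step Relation.ReflTransGen.refl hia⟩ (Set.eq_empty_iff_forall_notMem.mp e a)
  · obtain ⟨a, ha, hja⟩ := hsimple j
    exact step (e.symm ▸ ha : a ∈ Δ ∩ _).2 fun h0 => hja ((pz_eq_zero_iff P).mp h0)

end Groth.Agent.S5494
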