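import Groth.Statements.S5495
import Groth.Agent.Lib.RootDatum.Basic

set_option autoImplicit false
open RootD

namespace Groth.Agent.S5495

open GrothLib.RootDatum


/-- If α is an indivisible root and kα is a root for a rational k, then k is an integer. -/
theorem result {ι M N : Type*} [AddCommGroup M] [AddCommGroup N]
    (P : RootPairing ι ℤ M N) [Finite ι] (i j : ι) (hind : RootD.IsIndiv P i) (a b : ℤ) (hb : b ≠ 0)
    (h : b • P.root j = a • P.root i) : b ∣ a := by
  rw [isIndiv_iff] at hind
  rcases proportional_cases P hb h with e | e | e | e | e | e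
  · exact ⟨1, by rw [e.2, mul_one]⟩
  · exact ⟨-1, by rw [e.2]; ring⟩
  · exact ⟨2, by rw [e.2]; ring⟩
  · exact ⟨-2, by rw [e.2]; ring⟩
  · exact absurd e.1 (hind j)
  · exact absurd (by rw [e.1, root_nr]; simp) (hind (nr P j))

end Groth.Agent.S5495
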