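import Groth.Statements.S5496
import Groth.Agent.Lib.RootDatum.Weyl

set_option autoImplicit false
open RootPairing
open scoped Pointwise
open RootD

namespace Groth.Agent.S5496

open GrothLib.RootDatum

theorem smul_sub_mem_span_pair {ι M N : Type*} [AddCommGroup M] [AddCommGroup N]
    {P : RootPairing ι ℤ M N} {i j : ι} {g : P.Aut}
    (hg : g ∈ Subgroup.closure ({Equiv.reflection P i, Equiv.reflection P j} : Set P.Aut)) :
    ∀ x : M, g • x - x ∈ Submodule.span ℤ ({P.root i, P.root j} : Set M) := by
  have hgen : ∀ a, a = i ∨ a = j → ∀ x : M,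
      Equiv.reflection P a • x - x ∈ Submodule.span ℤ ({P.root i, P.root j} : Set M) := by
    intro a ha x
    rw [RootPairing.Equiv.reflection_smul, RootPairing.reflection_apply, sub_sub_cancel_left]
    exact neg_mem (Submodule.smul_mem _ _ (Submodule.subset_span (by rcases ha with rfl | rfl <;> simp)))
  induction hg using Subgroup.closure_induction with
  | mem y hy => rcases hy with rfl | rfl; exacts [hgen i (Or.inl rfl), hgen j (Or.inr rfl)]
  | one => intro x; simp
  | mul y z _ _ hy hz =>
    intro x
    rw [mul_smul, ← sub_add_sub_cancel _ (z • x)]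
    exact add_mem (hy (z • x)) (hz x)
  | inv y _ hy =>
    intro x
    have := hy (y⁻¹ • x)
    rw [smul_inv_smul] at this
    rw [← neg_sub]
    exact neg_mem this

theorem natCard_closure_pair {G : Type*} [Group G] {s t : G} (hs : s * s = 1) (ht : t * t = 1)
    (hfin : IsOfFinOrder (s * t)) (hne : s ∉ Subgroup.zpowers (s * t)) :
    Nat.card (Subgroup.closure ({s, t} : Set G)) = 2 * orderOf (s * t) := by
  set r := s * t
  set A : Set G := (Subgroup.zpowers r : Set G)
  set B : Set G := (· * s) '' A
  have hsinv : s⁻¹ = s := inv_eq_of_mul_eq_one_right hs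
  have htinv : t⁻¹ = t := inv_eq_of_mul_eq_one_right ht
  have hconj : ∀ k : ℤ, s * r ^ k = r ^ (-k) * s := by
    intro k
    rw [zpow_neg, ← inv_zpow, show r⁻¹ = s * r * s⁻¹ by
      simp only [r, mul_inv_rev, hsinv, htinv, ← mul_assoc, hs, one_mul], conj_zpow, inv_mul_cancel_right]
  have hset : (Subgroup.closure ({s, t} : Set G) : Set G) = A ∪ B := by
    refine Set.Subset.antisymm ?_ ?_
    · intro g hg
      have hmul : ∀ x ∈ A ∪ B, ∀ y ∈ A ∪ B, x * y ∈ A ∪ B := by
        rintro x (⟨k, rfl⟩ | ⟨_, ⟨k, rfl⟩, rfl⟩) y (⟨l, rfl⟩ | ⟨_, ⟨l, rfl⟩, rfl⟩)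
        · exact Or.inl ⟨k + l, zpow_add r k l⟩
        · exact Or.inr ⟨r ^ (k + l), ⟨_, rfl⟩, by simp [zpow_add, mul_assoc]⟩
        · refine Or.inr ⟨r ^ (k + -l), ⟨_, rfl⟩, ?_⟩
          change r ^ (k + -l) * s = r ^ k * s * r ^ l
          rw [mul_assoc, hconj, zpow_add, mul_assoc]
        · refine Or.inl ⟨k + -l, ?_⟩
          change r ^ (k + -l) = r ^ k * s * (r ^ l * s)
          rw [zpow_add, mul_assoc (r ^ k), ← mul_assoc s, hconj, mul_assoc, hs, mul_one]
      have hsB : s ∈ B := ⟨1, one_mem _, one_mul s⟩
      induction hg using Subgroup.closure_induction'' with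
      | one => exact Or.inl (one_mem _)
      | mem x hx =>
        rcases hx with rfl | rfl
        · exact Or.inr hsB
        · rw [show x = s * r by simp [r, ← mul_assoc, hs]]
          exact hmul _ (Or.inr hsB) _ (Or.inl (Subgroup.mem_zpowers r))
      | inv_mem x hx =>
        rcases hx with rfl | rfl
        · rw [hsinv]; exact Or.inr hsB
        · rw [htinv, show x = s * r by simp [r, ← mul_assoc, hs]]
          exact hmul _ (Or.inr hsB) _ (Or.inl (Subgroup.mem_zpowers r))
      | mul x y _ _ hx hy => exact hmul x hx y hy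
    · have hsm : s ∈ Subgroup.closure ({s, t} : Set G) := Subgroup.subset_closure (by simp)
      have htm : t ∈ Subgroup.closure ({s, t} : Set G) := Subgroup.subset_closure (by simp)
      have hr : r ∈ Subgroup.closure ({s, t} : Set G) := mul_mem hsm htm
      rintro x (⟨k, rfl⟩ | ⟨_, ⟨k, rfl⟩, rfl⟩)
      · exact zpow_mem hr k
      · exact mul_mem (zpow_mem hr k) hsm
  have hAfin : A.Finite := hfin.finite_zpowers
  have hdisj : Disjoint A B := by
    rw [Set.disjoint_left]
    rintro _ hx ⟨y, hy, rfl⟩
    exact hne (by simpa using (Subgroup.zpowers r).mul_mem ((Subgroup.zpowers r).inv_mem hy) hx)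
  calc Nat.card (Subgroup.closure ({s, t} : Set G))
      = (A ∪ B).ncard := by rw [← hset]; exact Nat.card_coe_set_eq _
    _ = 2 * A.ncard := by
      rw [Set.ncard_union_eq hdisj hAfin (hAfin.image _),
        Set.ncard_image_of_injective _ (mul_left_injective s)]
      ring
    _ = 2 * orderOf r := by
      rw [← Nat.card_zpowers r, ← Nat.card_coe_set_eq]
      rfl


/-- For non-proportional roots α, β let n be the least integer n > 0 with (s_α s_β)^n(α) = α and (s_α
s_β)^n(β) = β. Then the subgroup W_{α,β} generated by s_α and s_β is presented by s_α² = s_β² = (s_α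
s_β)^n = 1; equivalently it has exactly 2n elements. -/
theorem result {ι M N : Type*} [AddCommGroup M] [AddCommGroup N]
    (P : RootPairing ι ℤ M N) [Finite ι] (i j : ι) (hli : LinearIndependent ℤ ![P.root i, P.root j])
    (n : ℕ) (hn : IsLeast {m : ℕ | 0 < m ∧ ((Equiv.reflection P i * Equiv.reflection P j) ^ m) • i = i ∧
      ((Equiv.reflection P i * Equiv.reflection P j) ^ m) • j = j} n) :
    Nat.card (Subgroup.closure ({Equiv.reflection P i, Equiv.reflection P j} : Set P.Aut)) = 2 * n := by
  set s := Equiv.reflection P i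
  set t := Equiv.reflection P j
  set H := Subgroup.closure ({s, t} : Set P.Aut)
  have hsm : s ∈ H := Subgroup.subset_closure (by simp)
  have htm : t ∈ H := Subgroup.subset_closure (by simp)
  have hHW : H ≤ P.weylGroup := (Subgroup.closure_le _).mpr fun x hx => by
    rcases hx with rfl | rfl <;> exact P.reflection_mem_weylGroup _
  haveI : Finite P.weylGroup := (finite_weylGroup (P := P)).to_subtype
  have := torsionFree P
  have hofin : IsOfFinOrder (s * t) := by
    have := isOfFinOrder_of_finite (⟨s * t, hHW (mul_mem hsm htm)⟩ : P.weylGroup)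
    exact (Submonoid.isOfFinOrder_coe).mpr this
  -- an element of the pair group fixing both roots is trivial
  have hfix : ∀ g ∈ H, g • i = i → g • j = j → g = 1 := by
    intro g hg hgi hgj
    have hspan : ∀ v ∈ Submodule.span ℤ ({P.root i, P.root j} : Set M), g • v = v := by
      intro v hv
      obtain ⟨a, b, rfl⟩ := Submodule.mem_span_pair.mp hv
      rw [smul_add, smul_comm g a, smul_comm g b, smul_root, smul_root, hgi, hgj]
    have hfin : IsOfFinOrder g := by
      have := isOfFinOrder_of_finite (⟨g, hHW hg⟩ : P.weylGroup)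
      exact (Submonoid.isOfFinOrder_coe).mpr this
    obtain ⟨m, hm, hgm⟩ := hfin.exists_pow_eq_one
    refine aut_ext fun x => ?_
    have hv := smul_sub_mem_span_pair hg x
    have hpow : ∀ k : ℕ, g ^ k • x = x + k • (g • x - x) := by
      intro k
      induction k with
      | zero => simp
      | succ k ih =>
        rw [pow_succ', mul_smul, ih, smul_add, smul_comm g k, hspan _ hv, succ_nsmul]
        abel
    have h0 := hpow m
    rw [hgm, one_smul, left_eq_add, nsmul_eq_zero_iff_right hm.ne', sub_eq_zero] at h0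
    rw [one_smul, h0]
  have horder : orderOf (s * t) = n := by
    rw [orderOf_eq_iff hn.1.1]
    refine ⟨hfix _ (pow_mem (mul_mem hsm htm) n) hn.1.2.1 hn.1.2.2, fun m hmn hm h1 => ?_⟩
    have := hn.2 ⟨hm, by rw [h1, one_smul], by rw [h1, one_smul]⟩
    omega
  have hs2 : s * s = 1 := refl_mul_self i
  have ht2 : t * t = 1 := refl_mul_self j
  have hne : s ∉ Subgroup.zpowers (s * t) := by
    intro hmem
    obtain ⟨k, hk⟩ := Subgroup.mem_zpowers_iff.mp hmem
    have hkc : Commute s (s * t) := by
      have h0 := Commute.zpow_self (s * t) k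
      rwa [hk] at h0
    have hst : s * t = t * s := by
      have := hkc.eq
      rw [← mul_assoc, hs2, one_mul] at this
      calc s * t = s * (s * t * s) := by rw [← this]
        _ = t * s := by rw [← mul_assoc, ← mul_assoc, hs2, one_mul]
    have hr2 : (s * t) ^ 2 = 1 := by
      rw [sq, mul_assoc, ← mul_assoc t, ← hst, mul_assoc, ht2, mul_one, hs2]
    have hk' : s = 1 ∨ s = s * t := by
      suffices (s * t) ^ k = 1 ∨ (s * t) ^ k = s * t by rwa [hk] at this
      rcases Int.even_or_odd k with ⟨l, rfl⟩ | ⟨l, rfl⟩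
      · left; rw [← two_mul, zpow_mul, zpow_two, ← sq, hr2, one_zpow]
      · right; rw [zpow_add, zpow_mul, zpow_two, ← sq, hr2, one_zpow, one_mul, zpow_one]
    have hone : ∀ a : ι, Equiv.reflection P a ≠ 1 := fun a h1 => by
      have := congrArg (fun g : P.Aut => g • P.root a) h1
      simp only [one_smul, RootPairing.Equiv.reflection_smul, RootPairing.reflection_apply_self] at this
      exact root_ne_zero P a ((smul_eq_zero_iff_right (two_ne_zero (α := ℕ))).mp (by
        rw [two_nsmul]; nth_rewrite 1 [← this]; exact neg_add_cancel _))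
    rcases hk' with h1 | h1
    · exact hone i h1
    · exact hone j (left_eq_mul.mp h1)
  rw [← horder]
  exact natCard_closure_pair hs2 ht2 hofin hne

end Groth.Agent.S5496
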