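import Groth.Statements.S5497
import Groth.Agent.Lib.RootDatum.Component

set_option autoImplicit false
open RootD

namespace Groth.Agent.S5497

open GrothLib.RootDatum


/-- For a partition of the roots into two closed symmetric subsets, whenever α, β, α + β are roots they
lie in the same part. -/
theorem result {ι M N : Type*} [AddCommGroup M] [AddCommGroup N]
    (P : RootPairing ι ℤ M N) [Finite ι] (R' : Set ι) (hc : RootD.IsClosedSub P R')
    (hs : RootD.IsSymmSub P R') (hc' : RootD.IsClosedSub P R'ᶜ) (hs' : RootD.IsSymmSub P R'ᶜ)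
    (i j k : ι) (h : P.root k = P.root i + P.root j) :
    (i ∈ R' ∧ j ∈ R' ∧ k ∈ R') ∨ (i ∉ R' ∧ j ∉ R' ∧ k ∉ R') := by
  rcases pz_ne_zero_or h with h' | h'
  · by_cases hi : i ∈ R'
    · have hk : k ∈ R' := (mem_iff_of_partition hc hs hc' hs' h').mpr hi
      exact Or.inl ⟨hi, hc hk (hs hi) (root_eq_sub h), hk⟩
    · have hk : k ∈ R'ᶜ := fun hk => hi ((mem_iff_of_partition hc hs hc' hs' h').mp hk)
      exact Or.inr ⟨hi, hc' hk (hs' hi) (root_eq_sub h), hk⟩
  · have h2 := h.trans (add_comm _ _)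
    by_cases hj : j ∈ R'
    · have hk : k ∈ R' := (mem_iff_of_partition hc hs hc' hs' h').mpr hj
      exact Or.inl ⟨hc hk (hs hj) (root_eq_sub h2), hj, hk⟩
    · have hk : k ∈ R'ᶜ := fun hk => hj ((mem_iff_of_partition hc hs hc' hs' h').mp hk)
      exact Or.inr ⟨hc' hk (hs' hj) (root_eq_sub h2), hj, hk⟩

end Groth.Agent.S5497
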