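import Groth.Statements.S5499
import Groth.Agent.S5465
import Groth.Agent.Lib.RootDatum.Flip
import Groth.Agent.Lib.RootDatum.Length

set_option autoImplicit false
open RootD

namespace Groth.Agent.S5499

open GrothLib.RootDatum


/-- For an irreducible datum, where long(α) = ℓ(α)/ℓ(α₀) with ℓ(α₀) minimal: there is a unique
homomorphism u : Γ_0(R) → M^v with u(α) = long(α) α^v for every root α. -/
theorem result {ι M N : Type*} [AddCommGroup M] [AddCommGroup N]
    (P : RootPairing ι ℤ M N) [Finite ι] [Fintype ι]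
    (hirr : ∀ R' : Set ι, RootD.IsClosedSub P R' → RootD.IsSymmSub P R' → RootD.IsClosedSub P R'ᶜ →
      RootD.IsSymmSub P R'ᶜ → R' = ∅ ∨ R' = Set.univ)
    (i₀ : ι) (hmin : ∀ i : ι, P.RootForm (P.root i₀) (P.root i₀) ≤ P.RootForm (P.root i) (P.root i)) :
    ∃! u : Submodule.span ℤ (Set.range P.root) →+ N, ∀ i : ι,
      u ⟨P.root i, Submodule.subset_span (Set.mem_range_self i)⟩ =
        (P.RootForm (P.root i) (P.root i) / P.RootForm (P.root i₀) (P.root i₀)) • P.coroot i := by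
  classical
  simp only [qf_eq_rootForm] at hmin ⊢
  have hdvd : ∀ i, qf P i₀ i₀ ∣ qf P i i := by
    intro i
    obtain ⟨g, -, hgi⟩ := exists_smul_nonOrth (P := P) hirr i₀ i
    have hrel := pz_mul_qf P (g • i₀) i
    rw [qf_smul] at hrel
    have hm := hmin i
    have hpos := qf_self_pos P i₀
    have hpair := pz_pair_mem P (g • i₀) i
    simp only [Set.mem_insert_iff, Set.mem_singleton_iff, Prod.mk.injEq] at hpair
    rcases hpair with ⟨e1, e2⟩ | ⟨e1, e2⟩ | ⟨e1, e2⟩ | ⟨e1, e2⟩ | ⟨e1, e2⟩ | ⟨e1, e2⟩ | ⟨e1, e2⟩ |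
      ⟨e1, e2⟩ | ⟨e1, e2⟩ | ⟨e1, e2⟩ | ⟨e1, e2⟩ | ⟨e1, e2⟩ | ⟨e1, e2⟩ | ⟨e1, e2⟩ | ⟨e1, e2⟩ |
      ⟨e1, e2⟩ | ⟨e1, e2⟩ <;> rw [e1, e2] at hrel <;> first
      | exact ⟨1, by omega⟩
      | exact ⟨2, by omega⟩
      | exact ⟨3, by omega⟩
      | exact ⟨4, by omega⟩
      | (exfalso; omega)
  have hn : ∀ a, qf P a a / qf P i₀ i₀ * wt P a * qf P i₀ i₀ = wtAll P := fun a => by
    rw [mul_right_comm, Int.ediv_mul_cancel (hdvd a), qf_mul_wt]
  refine S5465.result P (fun i => (qf P i i / qf P i₀ i₀) • P.coroot i) (fun i => ?_) (fun i j k hk => ?_)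
  · have hq : qf P (P.reflectionPerm i i) (P.reflectionPerm i i) = qf P i i :=
      qf_smul P (RootPairing.Equiv.reflection P i) i i
    rw [hq, show P.coroot (P.reflectionPerm i i) = -P.coroot i from coroot_nr P i, smul_neg]
  · have := coroot_rel_iff P (Finsupp.single k (qf P k k / qf P i₀ i₀) -
      Finsupp.single i (qf P i i / qf P i₀ i₀) - Finsupp.single j (qf P j j / qf P i₀ i₀))
    rw [Finsupp.sum_sub_index (fun a m n => by rw [sub_mul, sub_smul]),
      Finsupp.sum_sub_index (fun a m n => by rw [sub_mul, sub_smul]), Finsupp.sum_single_index (by simp),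
      Finsupp.sum_single_index (by simp), Finsupp.sum_single_index (by simp)] at this
    simp only [map_sub, Finsupp.linearCombination_single] at this
    rw [← sub_eq_zero, ← sub_sub]
    refine this.mpr (zsmul_inj P (qf_self_pos P i₀).ne' ?_)
    simp only [smul_sub, smul_smul, smul_zero, mul_comm (qf P i₀ i₀), hn, hk, smul_add]
    abel

end Groth.Agent.S5499
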