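import Groth.Statements.S5501
import Mathlib.GroupTheory.FiniteAbelian.Basic
import Mathlib.LinearAlgebra.Dimension.Torsion.Finite
import Groth.Agent.Lib.RootDatum.Rank

set_option autoImplicit false
universe u v w
open RootD

namespace Groth.Agent.S5501

open GrothLib.RootDatum


/-- Adjoint case; the simply connected case is dual: a semisimple root datum R is adjoint if and only if
every isogeny R' → R is an isomorphism. -/
theorem result {ι : Type u} {M : Type v} {N : Type w} [AddCommGroup M] [AddCommGroup N]
    (P : RootPairing ι ℤ M N) [Finite ι] [Module.Finite ℤ M] [Module.Finite ℤ N]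
    (hss : Module.finrank ℤ (Submodule.span ℤ (Set.range P.root)) = Module.finrank ℤ M) :
    Submodule.span ℤ (Set.range P.root) = ⊤ ↔
      ∀ (ι' : Type u) (M' N' : Type v) [AddCommGroup M'] [AddCommGroup N'] [Finite ι']
        [Module.Finite ℤ M'] [Module.Finite ℤ N'] (P' : RootPairing ι' ℤ M' N') (f : RootPairing.Hom P' P),
        Function.Injective f.weightMap → Finite (M ⧸ LinearMap.range f.weightMap) →
          Function.Bijective f.weightMap := by
  classical
  refine ⟨fun htop ι' M' N' _ _ _ _ _ P' f hinj _ => ⟨hinj, LinearMap.range_eq_top.mp (top_le_iff.mp ?_)⟩,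
    fun H => ?_⟩
  · rw [← htop, Submodule.span_le]
    rintro _ ⟨i, rfl⟩
    exact ⟨P'.root (f.indexEquiv.symm i), by
      rw [RootPairing.Hom.root_weightMap_apply, Equiv.apply_symm_apply]⟩
  let L : Submodule ℤ M := Submodule.span ℤ (Set.range P.root)
  have := torsionFree P
  have hM : Module.Free ℤ M := free_weight P
  have hL : Module.Free ℤ L := inferInstance
  let r : N →ₗ[ℤ] Module.Dual ℤ L := (LinearMap.lcomp ℤ ℤ L.subtype).comp P.toLinearMap.flip
  have hr : ∀ n (x : L), r n x = P.toLinearMap x n := fun n x => rfl
  let P' : RootPairing ι ℤ L (Module.Dual ℤ L) :=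
    { toLinearMap := Module.Dual.eval ℤ L
      root := ⟨fun i => ⟨P.root i, Submodule.subset_span ⟨i, rfl⟩⟩,
        fun i j e => P.root.injective (congrArg Subtype.val e)⟩
      coroot := ⟨fun i => r (P.coroot i), fun i j e => by
        refine P.coroot.injective (sub_eq_zero.mp (eq_zero_of_mem_span_of_coroot' P.flip
          (sub_mem (Submodule.subset_span ⟨i, rfl⟩) (Submodule.subset_span ⟨j, rfl⟩)) fun q => ?_))
        have := LinearMap.congr_fun e ⟨P.root q, Submodule.subset_span ⟨q, rfl⟩⟩
        rw [hr, hr] at this
        rw [map_sub, sub_eq_zero]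
        exact this⟩
      root_coroot_two := fun i => P.root_coroot_two i
      reflectionPerm := P.reflectionPerm
      reflectionPerm_root := fun i j => Subtype.ext (P.reflectionPerm_root i j)
      reflectionPerm_coroot := fun i j => by
        change r (P.coroot j) - r (P.coroot j) ⟨P.root i, _⟩ • r (P.coroot i) =
          r (P.coroot (P.reflectionPerm i j))
        rw [← map_zsmul, ← map_sub, hr]
        exact congrArg r (P.reflectionPerm_coroot i j) }
  let f : RootPairing.Hom P' P :=
    { weightMap := L.subtype
      coweightMap := r
      indexEquiv := Equiv.refl ι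
      weight_coweight_transpose := LinearMap.ext fun n => LinearMap.ext fun x => rfl
      root_weightMap := rfl
      coroot_coweightMap := rfl }
  have hfin : Finite (M ⧸ LinearMap.range f.weightMap) := by
    have hrange : LinearMap.range f.weightMap = L := L.range_subtype
    rw [hrange]
    have hsum := L.finrank_quotient_add_finrank
    exact Module.finite_of_fg_torsion _ (Module.finrank_eq_zero_iff_isTorsion.mp (by
      change Module.finrank ℤ L = _ at hss
      omega))
  have hsurj := (H ι L (Module.Dual ℤ L) P' f Subtype.val_injective hfin).2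
  exact eq_top_iff.mpr fun x _ => by
    obtain ⟨y, rfl⟩ := hsurj x
    exact y.2

end Groth.Agent.S5501
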