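import Groth.Statements.S5502
import Groth.Agent.Lib.RootDatum.Flip
import Groth.Agent.Lib.RootDatum.Length

set_option autoImplicit false
open RootD

namespace Groth.Agent.S5502

open GrothLib.RootDatum


/-- If β = Σ_{α ∈ Δ} a_α α along a system of simple roots Δ, then ℓ(β) divides 2 a_α ℓ(α), and 2ℓ(β)
divides it when α^v is indivisible (ℓ the canonical quadratic form). -/
theorem result {ι M N : Type*} [AddCommGroup M] [AddCommGroup N]
    (P : RootPairing ι ℤ M N) [Finite ι] [Fintype ι] (Δ : Set ι) (hΔ : RootD.IsSimpleSys P Δ)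
    (k : ι) (c : ι →₀ ℤ) (hc : ↑c.support ⊆ Δ) (hck : Finsupp.linearCombination ℤ P.root c = P.root k)
    (i : ι) (hi : i ∈ Δ) :
    P.RootForm (P.root k) (P.root k) ∣ 2 * c i * P.RootForm (P.root i) (P.root i) ∧
      (RootD.IsIndiv P.flip i → 2 * P.RootForm (P.root k) (P.root k) ∣ 2 * c i * P.RootForm (P.root i) (P.root i)) := by
  classical
  have h := IsSimple.of_isSimpleSys P hΔ
  have hE := h.flip
  simp only [qf_eq_rootForm]
  set d := hE.coeff k
  have hd : (∑ e ∈ d.support, d e • P.coroot e) = P.coroot k := hE.linearCombination_coeff k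
  have hcE : c = h.coeff k := h.eq_coeff hc hck
  -- transport the relation between coroots to one between roots
  have h1 : wt P k • P.root k = ∑ e ∈ d.support, (d e * wt P e) • P.root e := by
    have h0 : Finsupp.linearCombination ℤ P.coroot (Finsupp.single k 1 - d) = 0 := by
      rw [map_sub, Finsupp.linearCombination_single, one_smul, sub_eq_zero, ← hd,
        Finsupp.linearCombination_apply]
      rfl
    have := (coroot_rel_iff P _).mp h0
    rw [Finsupp.sum_sub_index (fun a m n => by rw [sub_mul, sub_smul]),
      Finsupp.sum_single_index (by simp), one_mul, sub_eq_zero] at this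
    exact this
  have hsum : wt P k • h.coeff k = ∑ e ∈ d.support, (d e * wt P e) • h.coeff e := by
    refine h.eq_of_linearCombination_eq
      ((Finset.coe_subset.mpr Finsupp.support_smul).trans (h.coeff_support k)) ?_ ?_
    · intro x hx
      by_contra hn
      exact Finsupp.mem_support_iff.mp hx (by simp [h.coeff_notMem hn])
    · simp [map_sum, map_zsmul, h.linearCombination_coeff, h1]
  have hi' : wt P k * c i = ∑ e ∈ d.support, d e * wt P e * h.coeff e i := by
    simpa [hcE] using congrArg (fun f : ι →₀ ℤ => f i) hsum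
  -- which simple coroots see the simple root `i`
  have hE' : ∀ e ∈ d.support, h.coeff e i ≠ 0 →
      (e = i ∧ RootD.IsIndiv P.flip i) ∨ P.root e = (2 : ℤ) • P.root i := by
    intro e he hne
    obtain ⟨j, hj, ⟨rfl, hind⟩ | h2⟩ := hE.coeff_support k he
    · rw [h.coeff_self hj, Finsupp.single_apply] at hne
      obtain rfl : e = i := by simpa using hne
      exact Or.inl ⟨rfl, hind⟩
    · have h2' := two_coroot_iff.mp h2
      rw [h.coeff_smul h2', Finsupp.smul_apply, h.coeff_self hj, Finsupp.single_apply] at hne
      obtain rfl : j = i := by simpa using hne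
      exact Or.inr h2'
  -- the contribution of a single one of them
  have key : ∀ e₀, (∀ e ∈ d.support, h.coeff e i ≠ 0 → e = e₀) →
      c i * qf P e₀ e₀ = h.coeff e₀ i * d e₀ * qf P k k := by
    intro e₀ huniq
    have hs : ∑ e ∈ d.support, d e * wt P e * h.coeff e i = d e₀ * wt P e₀ * h.coeff e₀ i := by
      refine Finset.sum_eq_single e₀ (fun e he hne => ?_) (fun he => ?_)
      · by_contra h0
        exact hne (huniq e he (right_ne_zero_of_mul h0))
      · simp [Finsupp.notMem_support_iff.mp he]
    rw [hs] at hi'
    refine mul_left_cancel₀ (wtAll_pos P).ne' ?_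
    calc wtAll P * (c i * qf P e₀ e₀) = qf P k k * qf P e₀ e₀ * (wt P k * c i) := by
          rw [← qf_mul_wt P k]; ring
      _ = wtAll P * (h.coeff e₀ i * d e₀ * qf P k k) := by
          rw [hi', ← qf_mul_wt P e₀]; ring
  by_cases hind : RootD.IsIndiv P.flip i
  · have huniq : ∀ e ∈ d.support, h.coeff e i ≠ 0 → e = i := by
      intro e he hne
      rcases hE' e he hne with ⟨h1, -⟩ | h2
      · exact h1
      · exact absurd (two_coroot_iff.mpr h2).symm ((isIndiv_iff P.flip i).mp hind e)
    have := key i huniq
    rw [h.coeff_self hi, Finsupp.single_eq_same, one_mul] at this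
    exact ⟨⟨2 * d i, by linear_combination 2 * this⟩, fun _ => ⟨d i, by linear_combination 2 * this⟩⟩
  · refine ⟨?_, fun h' => absurd h' hind⟩
    obtain h' | ⟨j, -, hj⟩ := indiv_or_eq_two_smul P.flip i
    · exact absurd h' hind
    have h2 : P.root j = (2 : ℤ) • P.root i := two_coroot_iff.mp hj.symm
    have hpz : ∀ q, pz P j q = 2 * pz P i q := fun q => pz_inj P (by
      rw [← RootPairing.root_coroot'_eq_pairing, h2, map_zsmul, RootPairing.root_coroot'_eq_pairing, ← cast_pz]
      simp)
    have hq : qf P j j = 4 * qf P i i := by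
      simp only [qf_def, hpz, Finset.mul_sum]
      exact Finset.sum_congr rfl fun q _ => by ring
    have huniq : ∀ e ∈ d.support, h.coeff e i ≠ 0 → e = j := by
      intro e he hne
      rcases hE' e he hne with ⟨-, h'⟩ | h'
      · exact absurd h' hind
      · exact P.root.injective (h'.trans h2.symm)
    have := key j huniq
    rw [hq, h.coeff_smul h2, Finsupp.smul_apply, h.coeff_self hi, Finsupp.single_eq_same] at this
    simp only [smul_eq_mul, mul_one] at this
    exact ⟨d j, by linarith⟩

end Groth.Agent.S5502
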