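import Groth.Statements.S5504
import Groth.Agent.Lib.RootDatum.Weyl

set_option autoImplicit false
open RootPairing
open scoped Pointwise
open RootD

namespace Groth.Agent.S5504

open GrothLib.RootDatum


/-- Stated for the group generated by the simple reflections (rather than for the abstractly presented
group): if w = s_{α_1} ⋯ s_{α_m} is a word of minimal length in the simple reflections, then w(α_m)
is a negative root. -/
theorem result {ι M N : Type*} [AddCommGroup M] [AddCommGroup N]
    (P : RootPairing ι ℤ M N) [Finite ι] (Δ : Set ι) (hΔ : RootD.IsSimpleSys P Δ)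
    (l : List ι) (hl : ∀ a ∈ l, a ∈ Δ) (hne : l ≠ [])
    (hmin : ∀ l' : List ι, (∀ a ∈ l', a ∈ Δ) →
      (l'.map fun a => Equiv.reflection P a).prod = (l.map fun a => Equiv.reflection P a).prod → l.length ≤ l'.length) :
    -P.root ((l.map fun a => Equiv.reflection P a).prod • l.getLast hne) ∈ RootD.natSpan P Δ := by
  have h := (isSimpleSys_iff P Δ).mp hΔ
  obtain ⟨t, i, rfl⟩ := (l.eq_nil_or_concat').resolve_left hne
  have hm : IsSimple.IsMinWord P Δ (t ++ [i]) := ⟨hl, hmin⟩
  obtain ⟨-, h2⟩ := h.minWord_last hm
  rw [isPosSys_not_mem_iff h.isPosSys_posOf] at h2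
  have h3 : P.root (nr P (word P (t ++ [i]) • i)) ∈ RootD.natSpan P Δ := h2
  rw [root_nr] at h3
  rw [List.getLast_append_singleton]
  exact h3

end Groth.Agent.S5504
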