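import Groth.Statements.S5506
import Groth.Agent.Lib.RootDatum.Component

set_option autoImplicit false
open RootD

namespace Groth.Agent.S5506

open GrothLib.RootDatum


/-- The class of a root under 'joined by a chain of pairwise non-orthogonal roots' is closed and
symmetric, and so is its complement; these classes are the irreducible components. -/
theorem result {ι M N : Type*} [AddCommGroup M] [AddCommGroup N]
    (P : RootPairing ι ℤ M N) [Finite ι] (i : ι) :
    RootD.IsClosedSub P {j : ι | Relation.ReflTransGen (fun a b : ι => ¬ P.IsOrthogonal a b) i j} ∧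
      RootD.IsSymmSub P {j : ι | Relation.ReflTransGen (fun a b : ι => ¬ P.IsOrthogonal a b) i j} ∧
      RootD.IsClosedSub P {j : ι | Relation.ReflTransGen (fun a b : ι => ¬ P.IsOrthogonal a b) i j}ᶜ ∧
      RootD.IsSymmSub P {j : ι | Relation.ReflTransGen (fun a b : ι => ¬ P.IsOrthogonal a b) i j}ᶜ := by
  have step : ∀ {a b : ι}, Relation.ReflTransGen (fun a b : ι => ¬ P.IsOrthogonal a b) i a →
      pz P a b ≠ 0 → Relation.ReflTransGen (fun a b : ι => ¬ P.IsOrthogonal a b) i b :=
    fun ha hab => ha.tail fun ho => hab ((isOrthogonal_iff P).mp ho)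
  have hflip : ∀ {a b : ι}, pz P a b ≠ 0 → pz P b a ≠ 0 := fun hab h0 => hab ((pz_eq_zero_iff P).mp h0)
  refine ⟨fun a b k ha hb e => ?_, fun a ha => step ha (by rw [pz_nr_right, pz_same]; decide),
    fun a b k ha hb e hk => ?_, fun a ha hn => ha (step hn (by rw [pz_nr_left, pz_same]; decide))⟩
  · exact (pz_ne_zero_or e).elim (fun h => step ha (hflip h)) (fun h => step hb (hflip h))
  · exact (pz_ne_zero_or e).elim (fun h => ha (step hk h)) (fun h => hb (step hk h))

end Groth.Agent.S5506
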