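import Groth.Statements.S5509
import Groth.Agent.Lib.CellNorm5.Main
-- import your own Groth.Agent.* helpers here

set_option autoImplicit false
open CategoryTheory MonoidalCategory CartesianMonoidalCategory MonObj GrpObj AlgebraicGeometry
universe u
open RedSub

namespace Groth.Agent.S5509

/-- Let G be a split reductive S-group (splitting D), b a system of simple roots with enumerations of
the negative and positive roots, and x a point (with values in some X) of the big cell G_a^{R_-} x_S
T x_S G_a^{R_+}. If the image g of x in G satisfies g t g⁻¹ ∈ T for every point t of T (after every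
base change), then g lies in T: g is the image of the T-component of x (so the two unipotent
components of x are trivial). In other words the big cell meets the normaliser of T in T. -/
theorem result {S : Scheme.{u}} {G : Over S} [GrpObj G] (D : Red.SplitRed G)
    (b : D.P.Base) {n m : ℕ} (eneg : Fin n → D.idx) (epos : Fin m → D.idx)
    (hneg : RedSub.Enumerates (RedSub.negRoots D.P b) eneg) (hpos : RedSub.Enumerates (RedSub.posRoots D.P b) epos)
    (X : Over S) (x : X ⟶ RedSub.pow (Red.Ga S) n ⊗ (D.T ⊗ RedSub.pow (Red.Ga S) m))
    (hnorm : ∀ (X' : Over S) (y : X' ⟶ X) (t : X' ⟶ D.T), ∃ t' : X' ⟶ D.T,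
      (y ≫ x ≫ RedSub.cellMap D eneg epos) * (t ≫ D.i) * (y ≫ x ≫ RedSub.cellMap D eneg epos)⁻¹ = t' ≫ D.i) :
    x ≫ RedSub.cellMap D eneg epos = (x ≫ snd _ _ ≫ fst _ _) ≫ D.i :=
  GrothLib.CellNorm5.cell_eq_torus D b eneg epos hneg hpos X x hnorm

end Groth.Agent.S5509
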