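import Groth.Statements.S5514
import Groth.Agent.Lib.RGProj13.Descend
import Groth.Agent.Lib.RGProj13.Devissage
import Groth.Agent.Lib.CommSub14.Basic
-- import your own Groth.Agent.* helpers here

set_option autoImplicit false
open CategoryTheory MonoidalCategory CartesianMonoidalCategory MonObj GrpObj AlgebraicGeometry
universe u
open RedSub

namespace Groth.Agent.S5514

/-- A reductive S-group G is essentially free over S: every point of S has an affine open neighbourhood
U and a flat surjective morphism from an affine scheme S' to U such that G_{S'} is covered by affine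
opens whose rings of functions are projective modules over the ring of S'. -/
theorem result {S : Scheme.{u}} (G : Over S) [GrpObj G] (hG : Red.IsReductive G) :
    SGA3x.IsEssentiallyFree G.hom := by
  obtain ⟨haff, hsm, hred⟩ := hG
  haveI := haff
  haveI := hsm
  have hirr : GeometricallyIrreducible G.hom := by
    refine (GeometricallyIrreducible.iff_geometricallyIrreducible_fiber G.hom).2 fun s => ?_
    let A : Over (Spec (CommRingCat.of (S.residueField s))) := Red.bc (S.fromSpecResidueField s) G
    haveI : LocallyOfFiniteType A.hom :=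
      MorphismProperty.pullback_snd (P := @LocallyOfFiniteType) _ _ inferInstance
    let c : Spec (CommRingCat.of (AlgebraicClosure (S.residueField s))) ⟶ Spec (S.residueField s) :=
      Spec.map (CommRingCat.ofHom (algebraMap (S.residueField s) (AlgebraicClosure (S.residueField s))))
    haveI : Surjective c := ⟨fun z => ⟨IsLocalRing.closedPoint _, Subsingleton.elim (α := PrimeSpectrum (S.residueField s)) _ _⟩⟩
    let π : (Red.geomFibre s G).left ⟶ A.left :=
      (CategoryTheory.Limits.pullbackLeftPullbackSndIso G.hom (S.fromSpecResidueField s) c).inv ≫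
        CategoryTheory.Limits.pullback.fst (CategoryTheory.Limits.pullback.snd G.hom (S.fromSpecResidueField s)) c
    haveI : Surjective π := inferInstanceAs (Surjective (_ ≫ _))
    haveI : ConnectedSpace ↥(Red.geomFibre s G).left := (hred s).2.2.1
    haveI : ConnectedSpace ↥A.left := π.surjective.connectedSpace π.continuous
    exact GrothLib.CommSub14.geometricallyIrreducible_of_connected A
  intro s
  obtain ⟨U, hU, hsU, -⟩ := exists_isAffineOpen_mem_and_subset (x := s) (U := ⊤) trivial
  haveI : IsAffine (U : Scheme.{u}) := hU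
  refine ⟨U, hsU, hU, _, hU, 𝟙 _, inferInstance, inferInstance, fun x => ?_⟩
  let σ := CategoryTheory.Limits.pullback.snd G.hom (𝟙 _ ≫ U.ι)
  haveI : IsAffineHom σ := MorphismProperty.pullback_snd (P := @IsAffineHom) _ _ haff
  haveI : IsAffine (CategoryTheory.Limits.pullback G.hom (𝟙 _ ≫ U.ι)) := isAffine_of_isAffineHom σ
  refine ⟨⊤, trivial, isAffineOpen_top _, ?_⟩
  haveI : IsAffine ((⊤ : (CategoryTheory.Limits.pullback G.hom (𝟙 _ ≫ U.ι)).Opens) : Scheme.{u}) := isAffineOpen_top _
  let h := (⊤ : (CategoryTheory.Limits.pullback G.hom (𝟙 _ ≫ U.ι)).Opens).ι ≫ σ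
  letI := h.appTop.hom.toAlgebra
  haveI : Smooth σ := MorphismProperty.pullback_snd (P := @Smooth) _ _ hsm
  haveI : GeometricallyIrreducible σ := MorphismProperty.pullback_snd (P := @GeometricallyIrreducible) _ _ hirr
  haveI : IsIso ((⊤ : (CategoryTheory.Limits.pullback G.hom (𝟙 _ ≫ U.ι)).Opens).ι) := by
    rw [← Scheme.topIso_hom]; infer_instance
  have h1 : Smooth h := (MorphismProperty.cancel_left_of_respectsIso @Smooth _ σ).2 ‹_›
  have h2 : GeometricallyIrreducible h := (MorphismProperty.cancel_left_of_respectsIso @GeometricallyIrreducible _ σ).2 ‹_›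
  have hspec : Spec.map (CommRingCat.ofHom (algebraMap Γ((U : Scheme.{u}), ⊤) Γ(((⊤ : (CategoryTheory.Limits.pullback G.hom (𝟙 _ ≫ U.ι)).Opens) : Scheme.{u}), ⊤))) =
      ((⊤ : (CategoryTheory.Limits.pullback G.hom (𝟙 _ ≫ U.ι)).Opens) : Scheme.{u}).isoSpec.inv ≫ h ≫ (U : Scheme.{u}).isoSpec.hom := by
    rw [← Scheme.isoSpec_hom_naturality h, Iso.inv_hom_id_assoc]
    rfl
  haveI : Algebra.Smooth Γ((U : Scheme.{u}), ⊤) Γ(((⊤ : (CategoryTheory.Limits.pullback G.hom (𝟙 _ ≫ U.ι)).Opens) : Scheme.{u}), ⊤) := by
    rw [← RingHom.smooth_algebraMap]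
    refine (HasRingHomProperty.Spec_iff (P := @Smooth) (φ := CommRingCat.ofHom (algebraMap Γ((U : Scheme.{u}), ⊤)
      Γ(((⊤ : (CategoryTheory.Limits.pullback G.hom (𝟙 _ ≫ U.ι)).Opens) : Scheme.{u}), ⊤)))).1 ?_
    rw [hspec]
    exact (MorphismProperty.cancel_left_of_respectsIso @Smooth _ _).2
      ((MorphismProperty.cancel_right_of_respectsIso @Smooth _ _).2 h1)
  refine GrothLib.RGProj13.projective_of_smooth (GrothLib.RGProj13.geomIntegral_of_smooth ?_)
  change GeometricallyIrreducible _
  rw [hspec]
  exact (MorphismProperty.cancel_left_of_respectsIso @GeometricallyIrreducible _ _).2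
    ((MorphismProperty.cancel_right_of_respectsIso @GeometricallyIrreducible _ _).2 h2)

end Groth.Agent.S5514
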