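import Groth.Statements.S5549
import Groth.Agent.Lib.MaxTorBC14.Geom
import Groth.Agent.Lib.MultDef14.SubTransporter
import Groth.Agent.Lib.MultDef14.Transporter
import Groth.Agent.Lib.Flag27.CentBC
import Groth.Agent.Lib.Flag27.TorusCentConn
import Groth.Agent.Lib.AffMono14.Basic
import Groth.Agent.Lib.Rigid27.Basic
import Groth.Agent.Lib.CentMT14.Quotient
import Groth.Agent.S5512
-- import your own Groth.Agent.* helpers here

set_option autoImplicit false
open CategoryTheory MonoidalCategory CartesianMonoidalCategory MonObj GrpObj AlgebraicGeometry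
universe u
open RedSub

namespace Groth.Agent.S5549

set_option backward.isDefEq.respectTransparency false
set_option maxHeartbeats 3200000

open GrothLib in
/-- The intersection of a smooth subgroup with a centralizer of a torus inside it is smooth. -/
theorem smooth_inter {S : Scheme.{u}} {G Q Z H P : Over S} [GrpObj G] [GrpObj Q] [GrpObj H] [GrpObj Z]
    (hQ : Red.IsTorus Q) (u : Q ⟶ H) [IsMonHom u] (h : H ⟶ G) [IsMonHom h] [Mono h] (z : Z ⟶ G)
    (hZ : Red.IsCentralizerOf (u ≫ h) z) [Smooth H.hom] (a : P ⟶ H) (b : P ⟶ Z) (hP : IsPullback a b h z)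
    (hfp : LocallyOfFinitePresentation P.hom) : Smooth P.hom := by
  obtain ⟨hzm, hzmono, hziff⟩ := id hZ
  haveI := hzm; haveI := hzmono
  haveI : Mono a := hP.mono_fst_of_mono
  have hch := DiagGrp.hasChartsFpqc_of_isTorus hQ
  have hspec : ∀ (X : Over S) (g : X ⟶ H), (∃ p : X ⟶ P, p ≫ a = g) ↔ MultDef14.ConjOn u u g := fun X g => by
    constructor
    · rintro ⟨p, rfl⟩ Y y q
      have e := (hziff X ((p ≫ a) ≫ h)).1 ⟨p ≫ b, by rw [Category.assoc, ← hP.w, Category.assoc]⟩ Y y q
      rw [eq_comm, mul_inv_eq_iff_eq_mul, ← cancel_mono h, MonObj.mul_comp, MonObj.mul_comp]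
      simpa only [Category.assoc] using e
    · intro hg
      obtain ⟨w, hw⟩ := (hziff X (g ≫ h)).2 fun Y y q => by
        have e := congrArg (· ≫ h) (hg Y y q)
        simp only [MonObj.mul_comp, GrpObj.inv_comp, Category.assoc] at e
        exact mul_inv_eq_iff_eq_mul.1 e.symm
      exact ⟨hP.lift g w hw.symm, hP.lift_fst _ _ _⟩
  refine MultDef14.smooth_of_lift P hfp fun {R} _ q J hJ t₀ => ?_
  obtain ⟨g, hg, hgc⟩ := MultDef14.exists_conjOn_lift hch (EssFree.isAffineHom_of_charts hch) u u
    ((Groth.Agent.S1488.result H.hom).mp ‹Smooth H.hom›).2 q J ⟨2, hJ⟩ (t₀ ≫ a) ((hspec _ _).mp ⟨t₀, rfl⟩)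
  obtain ⟨p, hp⟩ := (hspec _ g).mpr hgc
  exact ⟨p, by rw [← cancel_mono a, Category.assoc, hp, hg]⟩

/-- For a reductive S-group G. Let T be a maximal torus of G, Q a subtorus of T, z : Z ⟶ G the
centraliser of Q in G and H a subgroup of type (R) of G containing T. Then H ∩ Z (a fibre product P
with homomorphisms P ⟶ H, P ⟶ Z) is a subgroup of type (R) of Z. -/
theorem result {S : Scheme.{u}} {G T Q Z H : Over S} [GrpObj G] [GrpObj T] [GrpObj Q]
    [GrpObj Z] [GrpObj H] (hG : Red.IsReductive G) (i : T ⟶ G) (hT : Red.IsMaximalTorus i) (q : Q ⟶ T) [IsMonHom q]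
    [Mono q] (hQ : Red.IsTorus Q) (z : Z ⟶ G) (hZ : Red.IsCentralizerOf (q ≫ i) z) (h : H ⟶ G)
    (hH : RedSub.IsTypeR h) (t : T ⟶ H) (ht : t ≫ h = i)
    (P : Over S) [GrpObj P] (a : P ⟶ H) (b : P ⟶ Z) [IsMonHom a] [IsMonHom b] (hP : IsPullback a b h z) :
    RedSub.IsTypeR b := by
  obtain ⟨hGa, hGs, hGr⟩ := hG
  haveI := hGa; haveI := hGs
  obtain ⟨⟨hhm, hhI⟩, hHs, hHq, hHc, -⟩ := id hH
  haveI := hhm; haveI := hhI; haveI := hHs; haveI := hHq
  haveI : Mono h := Over.mono_of_mono_left h
  obtain ⟨him, himono, hTt, -⟩ := id hT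
  haveI := him; haveI := himono
  obtain ⟨hzm, hzmono, hziff⟩ := id hZ
  haveI := hzm; haveI := hzmono
  haveI : IsMonHom (t ≫ h) := by rw [ht]; infer_instance
  haveI : IsMonHom t := GrothLib.CentMT14.isMonHom_of_comp t h
  haveI : Mono (q ≫ i) := inferInstance
  -- the centralizer is closed
  obtain ⟨Z₀, _, z₀, hz₀, hz₀c, hz₀s⟩ := GrothLib.MultDef14.exists_centralizer
    (GrothLib.DiagGrp.hasChartsFpqc_of_isTorus hQ) hGs hGa (q ≫ i)
  obtain ⟨hz₀m, hz₀mono, hz₀iff⟩ := id hz₀
  haveI := hz₀m; haveI := hz₀mono; haveI := hz₀c; haveI := hz₀s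
  obtain ⟨φ, hφ⟩ := (hz₀iff _ z).2 ((hziff _ z).1 ⟨𝟙 Z, Category.id_comp _⟩)
  obtain ⟨φ', hφ'⟩ := (hziff _ z₀).2 ((hz₀iff _ z₀).1 ⟨𝟙 Z₀, Category.id_comp _⟩)
  haveI : IsIso φ := ⟨φ', by rw [← cancel_mono z, Category.assoc, hφ', hφ, Category.id_comp],
    by rw [← cancel_mono z₀, Category.assoc, hφ, hφ', Category.id_comp]⟩
  haveI : IsIso φ.left := inferInstanceAs (IsIso ((Over.forget _).map φ))
  haveI : IsClosedImmersion z.left := by rw [← hφ, Over.comp_left]; infer_instance
  haveI : Smooth Z.hom := by rw [← Over.w φ]; infer_instance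
  haveI : LocallyOfFinitePresentation z.left := by
    haveI : LocallyOfFinitePresentation (z.left ≫ G.hom) := by rw [Over.w z]; infer_instance
    exact GrothLib.DiagGrp.lfp_of_comp_of_lft z.left G.hom inferInstance inferInstance
  have sq : IsPullback a.left b.left h.left z.left := hP.map (Over.forget S)
  haveI : IsClosedImmersion a.left := MorphismProperty.of_isPullback sq.flip ‹IsClosedImmersion z.left›
  haveI : IsImmersion b.left := MorphismProperty.of_isPullback sq hhI
  haveI : LocallyOfFinitePresentation a.left := MorphismProperty.of_isPullback sq.flip ‹LocallyOfFinitePresentation z.left›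
  haveI : LocallyOfFinitePresentation P.hom := by rw [← Over.w a]; infer_instance
  haveI : QuasiCompact P.hom := by rw [← Over.w a]; infer_instance
  haveI : Mono a := Over.mono_of_mono_left a
  haveI : Mono b := Over.mono_of_mono_left b
  have hu : (q ≫ t) ≫ h = q ≫ i := by rw [Category.assoc, ht]
  have hPs : Smooth P.hom := smooth_inter hQ (q ≫ t) h z (by rw [hu]; exact hZ) a b hP ‹_›
  haveI := hPs
  haveI : Mono (q ≫ t) := by
    haveI : Mono ((q ≫ t) ≫ h) := by rw [hu]; infer_instance
    exact mono_of_mono (q ≫ t) h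
  have hcen : Red.IsCentralizerOf (q ≫ t) a := ⟨inferInstance, inferInstance, fun X g => by
    constructor
    · rintro ⟨p, rfl⟩ Y y x
      rw [← cancel_mono h, MonObj.mul_comp, MonObj.mul_comp]
      simp only [Category.assoc, hP.w, ht]
      simpa only [Category.assoc] using (hziff X (p ≫ b ≫ z)).1 ⟨p ≫ b, Category.assoc _ _ _⟩ Y y x
    · intro hg
      obtain ⟨w, hw⟩ := (hziff X (g ≫ h)).2 fun Y y x => by
        have e := congrArg (· ≫ h) (hg Y y x)
        simpa only [MonObj.mul_comp, Category.assoc, ht] using e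
      exact ⟨hP.lift g w hw.symm, hP.lift_fst _ _ _⟩⟩
  obtain ⟨tZ, htZ⟩ := (hziff T i).2 fun X x y => by
    rw [← Category.assoc y q i, ← MonObj.mul_comp, ← MonObj.mul_comp,
      GrothLib.RankCell14.comm_torus hTt x (y ≫ q)]
  let t' : T ⟶ P := hP.lift t tZ (ht.trans htZ.symm)
  have ht'a : t' ≫ a = t := hP.lift_fst _ _ _
  have ht'b : t' ≫ b = tZ := hP.lift_snd _ _ _
  haveI : IsMonHom (t' ≫ a) := by rw [ht'a]; infer_instance
  haveI : IsMonHom t' := GrothLib.CentMT14.isMonHom_of_comp t' a
  refine ⟨⟨inferInstance, inferInstance⟩, hPs, inferInstance, fun s => ?_, fun s => ?_⟩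
  · let p := Red.geomPt s
    haveI : IsAffineHom (Red.bc p G).hom :=
      MorphismProperty.pullback_snd (P := @IsAffineHom) G.hom p ‹_›
    haveI : IsAffine (Red.bc p G).left := isAffine_of_isAffineHom (Red.bc p G).hom
    haveI : LocallyOfFiniteType (Red.bc p H).hom :=
      MorphismProperty.pullback_snd (P := @LocallyOfFiniteType) H.hom p inferInstance
    haveI : QuasiCompact (Red.bc p H).hom :=
      MorphismProperty.pullback_snd (P := @QuasiCompact) H.hom p inferInstance
    haveI : Mono ((Over.pullback p).map h) := GrothLib.MaxTorBC14.mono_map p h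
    haveI : QuasiCompact ((Over.pullback p).map h).left := by
      haveI : QuasiCompact (((Over.pullback p).map h).left ≫ (Red.bc p G).hom) := by
        rw [Over.w]; infer_instance
      exact QuasiCompact.of_comp _ (Red.bc p G).hom
    haveI : IsClosedImmersion ((Over.pullback p).map h).left :=
      GrothLib.AffMono14.isClosedImmersion_of_mono ((Over.pullback p).map h)
    haveI : IsAffine (Red.bc p H).left := isAffine_of_isAffineHom ((Over.pullback p).map h).left
    haveI : ConnectedSpace (Red.bc p H).left := GrothLib.CentMT14.connectedSpace_bc hHc p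
    haveI : Mono ((Over.pullback p).map (q ≫ t)) := GrothLib.MaxTorBC14.mono_map p (q ≫ t)
    haveI : ConnectedSpace ↥(P.hom.fiber s) := GrothLib.Rigid27.connectedSpace_fiber_of_geomFibre P s
      (GrothLib.Flag27.connectedSpace_centralizer ((Over.pullback p).map (q ≫ t))
        (GrothLib.MaxTorBC14.isTorus_bc p hQ) ((Over.pullback p).map a) (GrothLib.Flag27.isCentralizerOf_bc p hcen))
    exact isConnected_iff_connectedSpace.mpr
      ((P.hom.fiberHomeo s).surjective.connectedSpace (P.hom.fiberHomeo s).continuous)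
  · let p := Red.geomPt s
    refine ⟨Red.bc p T, inferInstance, (Over.pullback p).map t', inferInstance, ?_⟩
    rw [← Functor.map_comp, ht'b]
    haveI : IsMonHom (tZ ≫ z) := by rw [htZ]; infer_instance
    haveI : IsMonHom tZ := GrothLib.CentMT14.isMonHom_of_comp tZ z
    haveI : Mono ((Over.pullback p).map z) := GrothLib.MaxTorBC14.mono_map p z
    refine Groth.Agent.S5512.isMaximalTorus_of_comp ((Over.pullback p).map z) ((Over.pullback p).map tZ) ?_
    rw [← Functor.map_comp, htZ]
    exact (GrothLib.MaxTorBC14.isMaximalTorus_iff p i hTt).1 hT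

end Groth.Agent.S5549
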