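import Groth.Statements.S5550
-- import your own Groth.Agent.* helpers here
import Groth.Agent.Lib.Flag27.CentralizerReductive
import Groth.Agent.Lib.Flag27.MaxTorusIso
import Groth.Agent.Lib.Rigid27.Basic
import Groth.Agent.Lib.MaxTorBC14.Geom
import Groth.Agent.Lib.Chev24.TorusQuot

set_option autoImplicit false
set_option maxHeartbeats 4000000
set_option synthInstance.maxHeartbeats 400000
open CategoryTheory MonoidalCategory CartesianMonoidalCategory MonObj GrpObj AlgebraicGeometry
universe u
open RedSub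

namespace Groth.Agent.S5550

set_option backward.isDefEq.respectTransparency false

/-- The geometric fibre of the centraliser is reductive, connected and contains a maximal torus. -/
theorem fibre {K : Type u} [Field K] [IsAlgClosed K] {G Q Z : Over (Spec (CommRingCat.of K))} [GrpObj G] [GrpObj Q]
    [GrpObj Z] (hG : Red.IsReductiveOver K G) (q : Q ⟶ G) [IsMonHom q] [Mono q] (hQ : Red.IsTorus Q) (z : Z ⟶ G)
    (hz : Red.IsCentralizerOf q z) :
    Red.IsReductiveOver K Z ∧ ∃ (T : Over (Spec (CommRingCat.of K))) (_ : GrpObj T) (t : T ⟶ Z),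
      IsMonHom t ∧ Red.IsMaximalTorus (t ≫ z) := by
  refine ⟨GrothLib.Flag27.isReductiveOver_centralizer hG q hQ hz, ?_⟩
  haveI := hG.1; haveI := hG.2.1; haveI := hG.2.2.1
  obtain ⟨T, _, iT, f, hT, hf⟩ := GrothLib.Flag27.exists_maxTorus_above q hQ
  obtain ⟨hzm, hzmono, hziff⟩ := id hz
  haveI := hzm; haveI := hzmono; haveI := hT.1
  obtain ⟨t, ht⟩ := (hziff T iT).2 (fun X x h => by
    rw [← hf, ← Category.assoc, ← MonObj.mul_comp, ← MonObj.mul_comp,
      GrothLib.Chev24.torus_comm hT.2.2.1 x (h ≫ f)])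
  haveI : IsMonHom (t ≫ z) := by rw [ht]; infer_instance
  refine ⟨T, inferInstance, t, GrothLib.CentMT14.isMonHom_of_comp t z, ?_⟩
  rw [ht]
  exact GrothLib.Flag27.isMaximalTorus_of_isMaxTorus hT


/-- First assertion. Let G be a reductive S-group and q : Q ⟶ G a subtorus. Then the centraliser of Q in
G is representable by a subgroup of type (R) of G which is itself a reductive S-group. -/
theorem result {S : Scheme.{u}} {G Q : Over S} [GrpObj G] [GrpObj Q]
    (hG : Red.IsReductive G) (q : Q ⟶ G) [IsMonHom q] [Mono q] (hQ : Red.IsTorus Q) :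
    ∃ (Z : Over S) (_ : GrpObj Z) (z : Z ⟶ G), Red.IsCentralizerOf q z ∧ RedSub.IsTypeR z ∧ Red.IsReductive Z := by
  haveI := hG.1; haveI := hG.2.1
  obtain ⟨Z, gZ, z, hz, hzc, hzs⟩ := GrothLib.MultDef14.exists_centralizer
    (GrothLib.DiagGrp.hasChartsFpqc_of_isTorus hQ) hG.2.1 hG.1 q
  obtain ⟨hzm, hzmono, -⟩ := id hz
  haveI := hzm; haveI := hzmono; haveI := hzc; haveI := hzs
  haveI : IsAffineHom Z.hom := by rw [← Over.w z]; infer_instance
  have key := fun s : S => by
    haveI : (Over.pullback (Red.geomPt s)).IsRightAdjoint := (Over.mapPullbackAdj _).isRightAdjoint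
    haveI : Mono ((Over.pullback (Red.geomPt s)).map q) := inferInstance
    exact fibre (hG.2.2 s) ((Over.pullback (Red.geomPt s)).map q)
      (GrothLib.MaxTorBC14.isTorus_bc (Red.geomPt s) hQ) ((Over.pullback (Red.geomPt s)).map z)
      (GrothLib.Flag27.isCentralizerOf_bc (Red.geomPt s) hz)
  refine ⟨Z, gZ, z, hz, ⟨⟨hzm, inferInstance⟩, hzs, inferInstance, fun s => ?_, fun s => (key s).2⟩,
    ⟨inferInstance, hzs, fun s => (key s).1⟩⟩
  haveI : ConnectedSpace ↥(Z.hom.fiber s) :=
    GrothLib.Rigid27.connectedSpace_fiber_of_geomFibre Z s (key s).1.2.2.1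
  exact isConnected_iff_connectedSpace.mpr
    ((Z.hom.fiberHomeo s).surjective.connectedSpace (Z.hom.fiberHomeo s).continuous)

end Groth.Agent.S5550
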