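import Groth.Statements.S5570
import Groth.Agent.Lib.MaxTorBC14.Comm
-- import your own Groth.Agent.* helpers here

set_option autoImplicit false
open CategoryTheory MonoidalCategory CartesianMonoidalCategory MonObj GrpObj AlgebraicGeometry
universe u
open RedSub

namespace Groth.Agent.S5570

/-- Let G be a reductive S-group, q : Q ⟶ G a subtorus, z : Z ⟶ G its centraliser, ZZ ⟶ Z the centre of
Z and R = rad(Z) ⟶ ZZ its maximal torus. Then Q ⊆ rad(Z), and Z is the centraliser in G of rad(Z).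
(So Centr_G(Q) is critical.) -/
theorem result {S : Scheme.{u}} {G Q Z ZZ R : Over S} [GrpObj G] [GrpObj Q] [GrpObj Z]
    [GrpObj ZZ] [GrpObj R] (hG : Red.IsReductive G) (q : Q ⟶ G) [IsMonHom q] [Mono q] (hQ : Red.IsTorus Q) (z : Z ⟶ G)
    (hZ : Red.IsCentralizerOf q z) (jz : ZZ ⟶ Z) (hZZ : Red.IsCentre jz) (r : R ⟶ ZZ) (hR : Red.IsMaximalTorus r) :
    (∃ q' : Q ⟶ R, q' ≫ r ≫ jz ≫ z = q) ∧ Red.IsCentralizerOf (r ≫ jz ≫ z) z := by
  obtain ⟨hGa, hGs, -⟩ := hG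
  haveI := hGa; haveI := hGs
  obtain ⟨hzm, hzmono, hziff⟩ := hZ
  haveI := hzm; haveI := hzmono
  obtain ⟨hjm, hjmono, hjiff⟩ := hZZ
  haveI := hjm; haveI := hjmono
  obtain ⟨hrm, hrmono, hRt, -⟩ := id hR
  haveI := hrm; haveI := hrmono
  have hzc : ∀ (X : Over S) (g : X ⟶ Z) (t : X ⟶ Q), (g ≫ z) * (t ≫ q) = (t ≫ q) * (g ≫ z) := fun X g t => by
    simpa only [Category.id_comp] using (hziff X (g ≫ z)).1 ⟨g, rfl⟩ X (𝟙 X) t
  have hcc : ∀ (X : Over S) (a : X ⟶ ZZ) (g : X ⟶ Z), (a ≫ jz) * g = g * (a ≫ jz) := fun X a g => by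
    simpa only [Category.id_comp, Category.comp_id] using (hjiff X (a ≫ jz)).1 ⟨a, rfl⟩ X (𝟙 X) g
  obtain ⟨qZ, hqZ⟩ := (hziff Q q).2 fun X x h => by
    rw [← MonObj.mul_comp, ← MonObj.mul_comp, GrothLib.RankCell14.comm_torus hQ x h]
  obtain ⟨qC, hqC⟩ := (hjiff Q qZ).2 fun X x g => by
    rw [Category.comp_id, ← cancel_mono z, MonObj.mul_comp, MonObj.mul_comp, Category.assoc, hqZ]
    exact (hzc X g x).symm
  haveI : IsMonHom (qZ ≫ z) := by rw [hqZ]; infer_instance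
  haveI : IsMonHom qZ := GrothLib.CentMT14.isMonHom_of_comp qZ z
  haveI : IsMonHom (qC ≫ jz) := by rw [hqC]; infer_instance
  haveI : IsMonHom qC := GrothLib.CentMT14.isMonHom_of_comp qC jz
  obtain ⟨w, hw⟩ := GrothLib.MaxTorBC14.exists_factor_maxTorus_comm (jz ≫ z) r hR hQ qC fun X x t => by
    rw [← cancel_mono jz, MonObj.mul_comp, MonObj.mul_comp]
    exact hcc X (x ≫ qC) ((t ≫ r) ≫ jz)
  have hwq : w ≫ r ≫ jz ≫ z = q := by
    rw [← Category.assoc, hw, ← Category.assoc, hqC, hqZ]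
  refine ⟨⟨w, hwq⟩, hzm, hzmono, fun X g => ⟨?_, fun h => ?_⟩⟩
  · rintro ⟨g₀, rfl⟩ X' x h
    have e := congrArg (· ≫ z) (hcc X' (h ≫ r) (x ≫ g₀))
    simp only [MonObj.mul_comp, Category.assoc] at e
    exact e.symm
  · refine (hziff X g).2 fun X' x t => ?_
    have e := h X' x (t ≫ w)
    rw [Category.assoc, hwq] at e
    exact e

end Groth.Agent.S5570
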