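import Groth.Statements.S5579
import Groth.Agent.Lib.Topos.QC

set_option autoImplicit false
open CategoryTheory CategoryTheory.Limits Opposite
universe u
open ToposFin

namespace Groth.Agent.S5579

/-- For the topos of sheaves of sets on a small site: for two morphisms f : X -> Y and f' : X' -> Y'
over a common base S, if f and f' are quasi-compact (resp. quasi-separated, resp. coherent), then so
is the product morphism f x_S f' : X x_S X' -> Y x_S Y'. -/
theorem result {C : Type u} [SmallCategory C] {J : GrothendieckTopology C}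
    {X Y X' Y' S : ToposFin.Sh J} (f : X ⟶ Y) (f' : X' ⟶ Y') (a : Y ⟶ S) (a' : Y' ⟶ S) :
    (ToposFin.IsQCHom f → ToposFin.IsQCHom f' →
      ToposFin.IsQCHom (pullback.map (f ≫ a) (f' ≫ a') a a' f f' (𝟙 S) (Category.comp_id _) (Category.comp_id _))) ∧
    (ToposFin.IsQSHom f → ToposFin.IsQSHom f' →
      ToposFin.IsQSHom (pullback.map (f ≫ a) (f' ≫ a') a a' f f' (𝟙 S) (Category.comp_id _) (Category.comp_id _))) ∧
    (ToposFin.IsCohHom f → ToposFin.IsCohHom f' →
      ToposFin.IsCohHom (pullback.map (f ≫ a) (f' ≫ a') a a' f f' (𝟙 S) (Category.comp_id _) (Category.comp_id _))) := by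
  let m₁ : pullback (f ≫ a) (f' ≫ a') ⟶ pullback a (f' ≫ a') :=
    pullback.lift (pullback.fst _ _ ≫ f) (pullback.snd _ _)
      (by rw [Category.assoc, pullback.condition])
  let m₂ : pullback a (f' ≫ a') ⟶ pullback a a' :=
    pullback.lift (pullback.fst _ _) (pullback.snd _ _ ≫ f')
      (by rw [Category.assoc, pullback.condition])
  have sq₁ : IsPullback (pullback.fst (f ≫ a) (f' ≫ a')) m₁ f (pullback.fst a (f' ≫ a')) := by
    refine IsPullback.of_bot ?_ (by simp [m₁, pullback.lift_fst]) (IsPullback.of_hasPullback a (f' ≫ a'))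
    rw [show m₁ ≫ pullback.snd a (f' ≫ a') = pullback.snd _ _ from pullback.lift_snd _ _ _]
    exact IsPullback.of_hasPullback _ _
  have sq₂ : IsPullback (pullback.snd a (f' ≫ a')) m₂ f' (pullback.snd a a') := by
    refine IsPullback.of_bot ?_ (by simp [m₂, pullback.lift_snd]) (IsPullback.of_hasPullback a a').flip
    rw [show m₂ ≫ pullback.fst a a' = pullback.fst _ _ from pullback.lift_fst _ _ _]
    exact (IsPullback.of_hasPullback _ _).flip
  have e : pullback.map (f ≫ a) (f' ≫ a') a a' f f' (𝟙 S) (Category.comp_id _) (Category.comp_id _)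
      = m₁ ≫ m₂ := by
    apply pullback.hom_ext
    · simp [pullback.map, m₁, m₂, pullback.lift_fst, pullback.lift_fst_assoc]
    · simp [pullback.map, m₁, m₂, pullback.lift_snd, pullback.lift_snd_assoc]
  rw [e]
  have hq : ToposFin.IsQCHom f → ToposFin.IsQCHom f' → ToposFin.IsQCHom (m₁ ≫ m₂) := fun h h' =>
    GrothLib.Topos.QC.isQCHom_comp (GrothLib.Topos.QC.isQCHom_of_isPullback sq₁ h) (GrothLib.Topos.QC.isQCHom_of_isPullback sq₂ h')
  have hs : ToposFin.IsQSHom f → ToposFin.IsQSHom f' → ToposFin.IsQSHom (m₁ ≫ m₂) := fun h h' =>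
    GrothLib.Topos.QC.isQSHom_comp (GrothLib.Topos.QC.isQSHom_of_isPullback sq₁ h) (GrothLib.Topos.QC.isQSHom_of_isPullback sq₂ h')
  exact ⟨hq, hs, fun h h' => ⟨hq h.1 h'.1, hs h.2 h'.2⟩⟩

end Groth.Agent.S5579
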