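import Groth.Statements.S5580
import Groth.Agent.Lib.Topos.QC

set_option autoImplicit false
open CategoryTheory CategoryTheory.Limits Opposite
universe u
open ToposFin

namespace Groth.Agent.S5580

/-- Quasi-compact and coherent cases: for the topos of sheaves of sets on a small site: let (X_i) be a
finite family of objects with coproduct X (given as a colimit cofan) and f : X -> Y a morphism with
components f_i : X_i -> Y. Then f is quasi-compact (resp. coherent) if and only if every f_i is. -/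
theorem result {C : Type u} [SmallCategory C] {J : GrothendieckTopology C}
    {Y : ToposFin.Sh J} {n : ℕ} (X : Fin n → ToposFin.Sh J) (c : Cofan X) (hc : IsColimit c)
    (f : c.pt ⟶ Y) :
    (ToposFin.IsQCHom f ↔ ∀ i, ToposFin.IsQCHom (c.inj i ≫ f)) ∧
    (ToposFin.IsCohHom f ↔ ∀ i, ToposFin.IsCohHom (c.inj i ≫ f)) := by
  let X' : ULift.{u} (Fin n) → ToposFin.Sh J := fun i => X i.down
  let c' : Cofan X' := Cofan.mk c.pt fun i => c.inj i.down
  have hc' : IsColimit c' := Cofan.IsColimit.mk c'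
    (fun s => Cofan.IsColimit.desc hc fun i => s.inj ⟨i⟩)
    (fun s i => Cofan.IsColimit.fac hc _ i.down)
    (fun s m hm => Cofan.IsColimit.hom_ext hc _ _ fun i =>
      (hm ⟨i⟩).trans (Cofan.IsColimit.fac hc (fun i => s.inj ⟨i⟩) i).symm)
  have h₁ : ToposFin.IsQCHom f ↔ ∀ i, ToposFin.IsQCHom (c.inj i ≫ f) :=
    ⟨fun h i => GrothLib.Topos.QC.isQCHom_comp (GrothLib.Topos.QC.isQCHom_cofan_inj hc' ⟨i⟩) h,
      fun h => GrothLib.Topos.QC.isQCHom_of_finite_cover f (GrothLib.Topos.QC.fam_cofan hc) h⟩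
  have h₂ : ToposFin.IsQSHom f ↔ ∀ i, ToposFin.IsQSHom (c.inj i ≫ f) :=
    (GrothLib.Topos.QC.isQSHom_cofan_desc_iff hc' f).trans ⟨fun h i => h ⟨i⟩, fun h i => h i.down⟩
  exact ⟨h₁, ⟨fun h i => ⟨h₁.1 h.1 i, h₂.1 h.2 i⟩,
    fun h => ⟨h₁.2 fun i => (h i).1, h₂.2 fun i => (h i).2⟩⟩⟩

end Groth.Agent.S5580
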