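import Groth.Statements.S5582
import Groth.Agent.Lib.Topos.QCColim

set_option autoImplicit false
open CategoryTheory CategoryTheory.Limits Opposite
universe u
open ToposFin

namespace Groth.Agent.S5582

/-- Equivalence of (i), (ii bis) and (iii), for the topos of sheaves of sets on a small site admitting a
generating family of coherent objects: the coequalizer of every pair of arrows between coherent
objects is coherent if and only if every object X for which Hom(X, -) commutes with small filtered
colimits is coherent; and every object is a small filtered colimit of coherent objects if and only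
if that same condition holds. -/
theorem result {C : Type u} [SmallCategory C]
    {J : GrothendieckTopology C} (hE : ToposFin.HasCoherentGenerators J) :
    ((∀ (X₀ X₁ : ToposFin.Sh J) (a b : X₁ ⟶ X₀), ToposFin.IsCoherent X₀ → ToposFin.IsCoherent X₁ →
        ToposFin.IsCoherent (coequalizer a b)) ↔
      (∀ X : ToposFin.Sh J, ToposFin.IsFP X → ToposFin.IsCoherent X)) ∧
    ((∀ X : ToposFin.Sh J, ∃ (I : Type u) (_ : SmallCategory I) (_ : IsFiltered I) (D : I ⥤ ToposFin.Sh J),
        (∀ i, ToposFin.IsCoherent (D.obj i)) ∧ Nonempty (X ≅ colimit D)) ↔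
      (∀ X : ToposFin.Sh J, ToposFin.IsFP X → ToposFin.IsCoherent X)) := by
  have hqc := GrothLib.Topos.QC.hasQCGenerators_of_hasCoherentGenerators hE
  refine ⟨⟨fun h X hX => ?_, fun h X₀ X₁ a b h₀ h₁ => h _ (GrothLib.Topos.QC.isFP_coequalizer a b
    (GrothLib.Topos.QC.isFP_of_isCoherent hqc h₀) (GrothLib.Topos.QC.isFP_of_isCoherent hqc h₁))⟩,
    ⟨fun h X hX => ?_, fun h X => ?_⟩⟩
  · obtain ⟨X₀, X₁, a, b, i, p, h₀, h₁, hip⟩ := GrothLib.Topos.QC.exists_retract_of_isFP hE hX
    exact GrothLib.Topos.QC.isCoherent_of_retract i p hip (h X₀ X₁ a b h₀ h₁)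
  · obtain ⟨I, _, _, D, hD, ⟨e⟩⟩ := h X
    obtain ⟨s, x, hx⟩ := (GrothLib.Topos.QC.post_surjective_iff X).1 (hX I D).2 e.hom
    exact GrothLib.Topos.QC.isCoherent_of_retract x (colimit.ι D s ≫ e.inv)
      (by rw [← Category.assoc, hx, e.hom_inv_id]) (hD s)
  · obtain ⟨I, hI, hF, D, hD, e⟩ := GrothLib.Topos.QC.exists_presentation hE X
    refine ⟨I, hI, hF, D, fun s => ?_, e⟩
    obtain ⟨X₀, X₁, a, b, h₀, h₁, ⟨f⟩⟩ := hD s
    exact GrothLib.Topos.QC.isCoherent_of_iso f.symm (h _ (GrothLib.Topos.QC.isFP_coequalizer a b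
      (GrothLib.Topos.QC.isFP_of_isCoherent hqc h₀) (GrothLib.Topos.QC.isFP_of_isCoherent hqc h₁)))

end Groth.Agent.S5582
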