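import Groth.Statements.S5585
import Groth.Agent.Lib.Topos.QCAlg

set_option autoImplicit false
open CategoryTheory CategoryTheory.Limits Opposite
universe u
open ToposFin

namespace Groth.Agent.S5585

/-- For an algebraic topos of sheaves of sets on a small site and a morphism f : X -> Y: if Y is
quasi-separated (resp. coherent), then X is quasi-separated (resp. coherent) if and only if f is a
quasi-separated (resp. coherent) morphism. -/
theorem result {C : Type u} [SmallCategory C] {J : GrothendieckTopology C}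
    (hE : ToposFin.IsAlgebraic J) {X Y : ToposFin.Sh J} (f : X ⟶ Y) :
    (ToposFin.IsQS Y → (ToposFin.IsQS X ↔ ToposFin.IsQSHom f)) ∧
    (ToposFin.IsCoherent Y → (ToposFin.IsCoherent X ↔ ToposFin.IsCohHom f)) := by
  refine ⟨fun hY => ⟨fun h => GrothLib.Topos.QC.isQSHom_of_isQS_of_algebraic hE f h,
      fun h => GrothLib.Topos.QC.isQS_of_isQSHom h hY⟩, fun hY => ⟨fun h => ⟨GrothLib.Topos.QC.IsQS.isQCHom hY.2 h.1 f,
      GrothLib.Topos.QC.isQSHom_of_isQS_of_algebraic hE f h.2⟩,
    fun h => ⟨GrothLib.Topos.QC.IsQCHom.isQC h.1 hY.1, GrothLib.Topos.QC.isQS_of_isQSHom h.2 hY.2⟩⟩⟩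

end Groth.Agent.S5585
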