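import Groth.Statements.S5586
import Groth.Agent.Lib.Topos.QCAlg

set_option autoImplicit false
open CategoryTheory CategoryTheory.Limits Opposite
universe u
open ToposFin

namespace Groth.Agent.S5586

/-- Quasi-separated and coherent cases: for an algebraic topos of sheaves of sets on a small site: let f
: X -> Y be a morphism and (Y_i -> Y) a jointly epimorphic family. If the Y_i are quasi-separated
(resp. coherent), then f is quasi-separated (resp. coherent) if and only if every X x_Y Y_i is a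
quasi-separated (resp. coherent) object. -/
theorem result {C : Type u} [SmallCategory C]
    {J : GrothendieckTopology C} (hE : ToposFin.IsAlgebraic J) {X Y : ToposFin.Sh J} (f : X ⟶ Y)
    {ι : Type u} (Yi : ι → ToposFin.Sh J) (g : ∀ i, Yi i ⟶ Y)
    (hg : ∀ (Z : ToposFin.Sh J) (a b : Y ⟶ Z), (∀ i, g i ≫ a = g i ≫ b) → a = b) :
    ((∀ i, ToposFin.IsQS (Yi i)) → (ToposFin.IsQSHom f ↔ ∀ i, ToposFin.IsQS (pullback f (g i)))) ∧
    ((∀ i, ToposFin.IsCoherent (Yi i)) →
      (ToposFin.IsCohHom f ↔ ∀ i, ToposFin.IsCoherent (pullback f (g i)))) := by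
  have hgen := GrothLib.Topos.QC.hasQCGenerators_of_algebraic hE
  have sq := fun i => IsPullback.of_hasPullback f (g i)
  have hqs : (∀ i, ToposFin.IsQS (Yi i)) →
      (ToposFin.IsQSHom f ↔ ∀ i, ToposFin.IsQS (pullback f (g i))) := fun hY =>
    ⟨fun h i => GrothLib.Topos.QC.isQS_of_isQSHom (GrothLib.Topos.QC.isQSHom_of_isPullback (sq i) h) (hY i),
      fun h => GrothLib.Topos.QC.isQSHom_local f hgen hg fun i => GrothLib.Topos.QC.isQSHom_of_isQS_of_algebraic hE _ (h i)⟩
  refine ⟨hqs, fun hY => ⟨fun h i => ⟨h.1 _ (g i) (hY i).1, (hqs fun i => (hY i).2).1 h.2 i⟩,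
    fun h => ⟨GrothLib.Topos.QC.isQCHom_local f hgen hg fun i => GrothLib.Topos.QC.IsQS.isQCHom (hY i).2 (h i).1 _,
      (hqs fun i => (hY i).2).2 fun i => (h i).2⟩⟩⟩

end Groth.Agent.S5586
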