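import Groth.Statements.S5587
import Groth.Agent.Lib.Topos.QCAlg

set_option autoImplicit false
open CategoryTheory CategoryTheory.Limits Opposite
universe u
open ToposFin

namespace Groth.Agent.S5587

/-- For a locally coherent topos of sheaves of sets on a small site (given by a generating set of
quasi-compact objects stable under fibre products): a morphism f : X -> Y is quasi-separated if and
only if for every quasi-separated object Y' over Y the fibre product X x_Y Y' is quasi-separated. -/
theorem result {C : Type u} [SmallCategory C]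
    {J : GrothendieckTopology C} (S : Set (ToposFin.Sh J)) (hqc : ∀ K ∈ S, ToposFin.IsQC K)
    (hgen : ToposFin.IsGenerating S) (hpb : ToposFin.ClosedUnderPullbacks S) {X Y : ToposFin.Sh J} (f : X ⟶ Y) :
    ToposFin.IsQSHom f ↔
      ∀ (Y' : ToposFin.Sh J) (g : Y' ⟶ Y), ToposFin.IsQS Y' → ToposFin.IsQS (pullback f g) := by
  have hE := GrothLib.Topos.QC.hasQCGenerators_of_isGenerating hqc hgen
  refine ⟨fun h Y' g hY' =>
    GrothLib.Topos.QC.isQS_of_isQSHom (GrothLib.Topos.QC.isQSHom_of_isPullback (IsPullback.of_hasPullback f g) h) hY', fun h => ?_⟩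
  rw [GrothLib.Topos.QC.isQSHom_iff]
  intro W a b hW hab
  obtain ⟨n, V, v, hv, hV⟩ := GrothLib.Topos.QC.exists_finite_cover (P := fun K => K ∈ S) (GrothLib.Topos.QC.gen_mem hgen) hW
  refine GrothLib.Topos.QC.isQC_of_finite_cover (GrothLib.Topos.QC.fam_pullback (GrothLib.Topos.QC.fam_ulift.{0, u} hv) (equalizer.ι a b))
    fun ⟨k⟩ => ?_
  let t : V k ⟶ Y := v k ≫ a ≫ f
  let a' : V k ⟶ pullback f t := pullback.lift (v k ≫ a) (𝟙 _) (by simp [t])
  let b' : V k ⟶ pullback f t := pullback.lift (v k ≫ b) (𝟙 _) (by simp [t, hab])
  have hQS := h _ t (GrothLib.Topos.QC.isCoherent_of_mem hqc hgen hpb (hV k)).2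
  have h₁ := hQS _ _ a' b' (hqc _ (hV k)) (hqc _ (hV k))
  have e : pullback.fst a' b' = pullback.snd a' b' := by
    simpa only [a', b', Category.assoc, pullback.lift_snd, Category.comp_id] using
      congrArg (· ≫ pullback.snd f t) (pullback.condition (f := a') (g := b'))
  refine GrothLib.Topos.QC.isQC_of_iso ?_ h₁
  refine ?_ ≪≫ (GrothLib.Topos.QC.isPullback_equalizer_comp (v k) a b).flip.isoPullback
  refine
    { hom := equalizer.lift (pullback.fst a' b') ?_
      inv := pullback.lift (equalizer.ι _ _) (equalizer.ι _ _) ?_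
      hom_inv_id := ?_
      inv_hom_id := ?_ }
  · have := congrArg (· ≫ pullback.fst f t) (pullback.condition (f := a') (g := b'))
    simp only [a', b', Category.assoc, pullback.lift_fst] at this
    rw [this, e]
  · apply pullback.hom_ext
    · simp only [a', b', Category.assoc, pullback.lift_fst]
      exact equalizer.condition _ _
    · simp only [a', b', Category.assoc, pullback.lift_snd]
  · apply pullback.hom_ext
    · simp [pullback.lift_fst]
    · simp [pullback.lift_snd, e]
  · apply equalizer.hom_ext
    simp [pullback.lift_fst]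

end Groth.Agent.S5587
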