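import Groth.Statements.S5588
import Groth.Agent.Lib.Topos.QCColim
import Groth.Agent.Lib.Topos.QCAlg

set_option autoImplicit false
open CategoryTheory CategoryTheory.Limits Opposite
universe u
open ToposFin

namespace Groth.Agent.S5588

/-- (ii) implies (i), for the topos of sheaves of sets on a small site: let S be an isomorphism-closed
generating set of quasi-compact objects, stable under finite colimits and under fibre products. Then
S is the set of all coherent objects (so the topos is locally coherent), and every object X for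
which Hom(X, -) commutes with small filtered colimits is coherent. -/
theorem result {C : Type u} [SmallCategory C]
    {J : GrothendieckTopology C} (S : Set (ToposFin.Sh J)) (hqc : ∀ K ∈ S, ToposFin.IsQC K)
    (hiso : ∀ ⦃K L : ToposFin.Sh J⦄, K ∈ S → Nonempty (K ≅ L) → L ∈ S)
    (hgen : ToposFin.IsGenerating S) (hpb : ToposFin.ClosedUnderPullbacks S)
    (hcolim : ∀ (K : Type) [SmallCategory K] [FinCategory K] (D : K ⥤ ToposFin.Sh J),
      (∀ k, D.obj k ∈ S) → colimit D ∈ S) :
    (∀ X : ToposFin.Sh J, X ∈ S ↔ ToposFin.IsCoherent X) ∧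
    (∀ X : ToposFin.Sh J, ToposFin.IsFP X → ToposFin.IsCoherent X) := by
  have hcoh : ∀ K ∈ S, ToposFin.IsCoherent K := fun K hK => GrothLib.Topos.QC.isCoherent_of_mem hqc hgen hpb hK
  have hsum : ∀ (n : ℕ) (V : Fin n → ToposFin.Sh J), (∀ k, V k ∈ S) → (∐ V) ∈ S := fun n V hV =>
    hcolim (Discrete (Fin n)) (Discrete.functor V) fun k => hV k.as
  have hcoeq : ∀ {A B : ToposFin.Sh J} (p q : B ⟶ A), A ∈ S → B ∈ S → coequalizer p q ∈ S :=
    fun p q hA hB => hcolim WalkingParallelPair (parallelPair p q) fun k => by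
      cases k
      · exact hB
      · exact hA
  have hmem : ∀ X : ToposFin.Sh J, ToposFin.IsCoherent X → X ∈ S := by
    intro X hX
    obtain ⟨n, V, v, hv, hV⟩ :=
      GrothLib.Topos.QC.exists_finite_cover (P := fun L => L ∈ S) (GrothLib.Topos.QC.gen_mem hgen) hX.1
    let A := ∐ V
    have : Epi (Sigma.desc v) := (GrothLib.Topos.QC.epi_sigmaDesc_iff_fam v).2 hv
    let e : A ⟶ X := Sigma.desc v
    have hA : A ∈ S := hsum n V hV
    obtain ⟨m, W, w, hw, hW⟩ := GrothLib.Topos.QC.exists_finite_cover (P := fun L => L ∈ S) (GrothLib.Topos.QC.gen_mem hgen)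
      (hX.2 A A e e (hqc A hA) (hqc A hA))
    let B := ∐ W
    have : Epi (Sigma.desc w) := (GrothLib.Topos.QC.epi_sigmaDesc_iff_fam w).2 hw
    let p : B ⟶ A := Sigma.desc w ≫ pullback.fst e e
    let q : B ⟶ A := Sigma.desc w ≫ pullback.snd e e
    have hw' : p ≫ e = q ≫ e := by simp only [p, q, Category.assoc, pullback.condition]
    have := GrothLib.Topos.effectiveEpi_of_epi e
    have hker : ∀ {Z : ToposFin.Sh J} (s : A ⟶ Z), p ≫ s = q ≫ s →
        ∀ {T : ToposFin.Sh J} (g₁ g₂ : T ⟶ A), g₁ ≫ e = g₂ ≫ e → g₁ ≫ s = g₂ ≫ s := by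
      intro Z s hs T g₁ g₂ hg
      have h' : pullback.fst e e ≫ s = pullback.snd e e ≫ s := by
        rw [← cancel_epi (Sigma.desc w), ← Category.assoc, ← Category.assoc]
        exact hs
      simpa only [pullback.lift_fst_assoc, pullback.lift_snd_assoc] using
        congrArg (pullback.lift g₁ g₂ hg ≫ ·) h'
    let l : coequalizer p q ⟶ X := coequalizer.desc e hw'
    have : IsIso l := by
      refine ⟨EffectiveEpi.desc e (coequalizer.π p q) (hker _ (coequalizer.condition p q)), ?_, ?_⟩
      · apply coequalizer.hom_ext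
        rw [coequalizer.π_desc_assoc, EffectiveEpi.fac, Category.comp_id]
      · rw [← cancel_epi e, EffectiveEpi.fac_assoc, coequalizer.π_desc, Category.comp_id]
    exact hiso (hcoeq p q hA (hsum m W hW)) ⟨asIso l⟩
  refine ⟨fun X => ⟨hcoh X, hmem X⟩, fun X hX => ?_⟩
  obtain ⟨X₀, X₁, a, b, i, p, h₀, h₁, hip⟩ :=
    GrothLib.Topos.QC.exists_retract_of_isFP (GrothLib.Topos.QC.hasCoherentGenerators_of_mem hqc hgen hpb) hX
  exact GrothLib.Topos.QC.isCoherent_of_retract i p hip (hcoh _ (hcoeq a b (hmem _ h₀) (hmem _ h₁)))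

end Groth.Agent.S5588
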