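import Groth.Statements.S5590
import Groth.Agent.Lib.Topos.QC

set_option autoImplicit false
open CategoryTheory CategoryTheory.Limits Opposite
universe u
open ToposFin

namespace Groth.Agent.S5590

/-- Let f be a morphism of topoi of sheaves of sets on small sites, with inverse image functor F (left
adjoint, preserving finite limits); let S be a generating set of coherent objects of the target
topos and assume the source topos admits a generating family of quasi-compact objects. Then f is
coherent, i.e. F carries quasi-compact objects to quasi-compact objects and quasi-separated objects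
to quasi-separated objects, if and only if F(X) is coherent for every X in S. -/
theorem result {C D : Type u} [SmallCategory C] [SmallCategory D]
    {J : GrothendieckTopology C} {K : GrothendieckTopology D}
    (F : ToposFin.Sh K ⥤ ToposFin.Sh J) (R : ToposFin.Sh J ⥤ ToposFin.Sh K) (adj : F ⊣ R)
    [PreservesFiniteLimits F]
    (hE' : ToposFin.HasQCGenerators J)
    (S : Set (ToposFin.Sh K)) (hS : ∀ X ∈ S, ToposFin.IsCoherent X) (hgen : ToposFin.IsGenerating S) :
    ((∀ X : ToposFin.Sh K, ToposFin.IsQC X → ToposFin.IsQC (F.obj X)) ∧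
      (∀ X : ToposFin.Sh K, ToposFin.IsQS X → ToposFin.IsQS (F.obj X))) ↔
      ∀ X ∈ S, ToposFin.IsCoherent (F.obj X) := by
  refine ⟨fun h X hX => ⟨h.1 X (hS X hX).1, h.2 X (hS X hX).2⟩, fun h => ⟨fun X hX => ?_,
    fun X hX => ?_⟩⟩
  · obtain ⟨n, V, v, hv, hV⟩ := GrothLib.Topos.QC.exists_finite_cover (P := fun K => K ∈ S) hgen hX
    refine GrothLib.Topos.QC.isQC_of_finite_cover (ρ := fun k => F.map (v k)) (fun Z a b hab => ?_)
      fun k => (h _ (hV k)).1
    apply (adj.homEquiv _ _).injective
    refine hv _ _ _ fun k => ?_
    rw [← Adjunction.homEquiv_naturality_left, ← Adjunction.homEquiv_naturality_left, hab k]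
  · have hFqc : ∀ W : ToposFin.Sh K, ToposFin.IsQC W → ToposFin.IsQC (F.obj W) := fun W hW => by
      obtain ⟨n, V, v, hv, hV⟩ := GrothLib.Topos.QC.exists_finite_cover (P := fun K => K ∈ S) hgen hW
      refine GrothLib.Topos.QC.isQC_of_finite_cover (ρ := fun k => F.map (v k)) (fun Z a b hab => ?_)
        fun k => (h _ (hV k)).1
      apply (adj.homEquiv _ _).injective
      refine hv _ _ _ fun k => ?_
      rw [← Adjunction.homEquiv_naturality_left, ← Adjunction.homEquiv_naturality_left, hab k]
    obtain ⟨ι, V, v, hV, hv⟩ := hgen X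
    have hv' : GrothLib.Topos.QC.Fam (fun i => F.map (v i)) := fun Z a b hab => by
      apply (adj.homEquiv _ _).injective
      refine hv _ _ _ fun i => ?_
      rw [← Adjunction.homEquiv_naturality_left, ← Adjunction.homEquiv_naturality_left, hab i]
    refine (GrothLib.Topos.QC.isQS_iff_of_coherent_cover hE' hv' fun i => h _ (hV i)).2.2 fun i j => ?_
    exact GrothLib.Topos.QC.isQC_of_iso ((IsPullback.of_hasPullback (v i) (v j)).map F).isoPullback
      (hFqc _ (hX _ _ _ _ (hS _ (hV i)).1 (hS _ (hV j)).1))

end Groth.Agent.S5590
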