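import Groth.Statements.S5591
import Groth.Agent.Lib.Topos.QCAlg

set_option autoImplicit false
open CategoryTheory CategoryTheory.Limits Opposite
universe u
open ToposFin

namespace Groth.Agent.S5591

/-- Let f be a coherent morphism between locally coherent topoi of sheaves of sets on small sites, with
inverse image functor F (left adjoint, preserving finite limits), coherent meaning that F preserves
quasi-compact objects and quasi-separated objects. Then F carries quasi-compact morphisms to
quasi-compact morphisms. -/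
theorem result {C D : Type u} [SmallCategory C] [SmallCategory D]
    {J : GrothendieckTopology C} {K : GrothendieckTopology D}
    (F : ToposFin.Sh K ⥤ ToposFin.Sh J) (R : ToposFin.Sh J ⥤ ToposFin.Sh K) (adj : F ⊣ R)
    [PreservesFiniteLimits F]
    (S : Set (ToposFin.Sh K)) (hqc : ∀ X ∈ S, ToposFin.IsQC X) (hgen : ToposFin.IsGenerating S)
    (hpb : ToposFin.ClosedUnderPullbacks S)
    (S' : Set (ToposFin.Sh J)) (hqc' : ∀ X ∈ S', ToposFin.IsQC X) (hgen' : ToposFin.IsGenerating S')
    (hpb' : ToposFin.ClosedUnderPullbacks S')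
    (hFqc : ∀ X : ToposFin.Sh K, ToposFin.IsQC X → ToposFin.IsQC (F.obj X))
    (hFqs : ∀ X : ToposFin.Sh K, ToposFin.IsQS X → ToposFin.IsQS (F.obj X))
    {X Y : ToposFin.Sh K} (v : X ⟶ Y) (hv : ToposFin.IsQCHom v) :
    ToposFin.IsQCHom (F.map v) := by
  have hE := GrothLib.Topos.QC.hasQCGenerators_of_isGenerating hqc' hgen'
  obtain ⟨ι, V, g, hV, hg⟩ := hgen Y
  have hg' : GrothLib.Topos.QC.Fam (fun i => F.map (g i)) := fun Z a b hab => by
    apply (adj.homEquiv _ _).injective
    refine hg _ _ _ fun i => ?_
    rw [← Adjunction.homEquiv_naturality_left, ← Adjunction.homEquiv_naturality_left, hab i]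
  refine GrothLib.Topos.QC.isQCHom_local (F.map v) hE hg' fun i => ?_
  exact GrothLib.Topos.QC.IsQS.isQCHom (hFqs _ (GrothLib.Topos.QC.isCoherent_of_mem hqc hgen hpb (hV i)).2)
    (GrothLib.Topos.QC.isQC_of_iso ((IsPullback.of_hasPullback v (g i)).map F).isoPullback
      (hFqc _ (hv _ (g i) (hqc _ (hV i))))) _

end Groth.Agent.S5591
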