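import Groth.Statements.S5593
import Groth.Agent.Lib.StrictLocSpec.Basic
import Groth.Agent.S0539
import Groth.Agent.Lib.EtLocal.HenselPart
import Mathlib.FieldTheory.IsSepClosed
-- import your own Groth.Agent.* helpers here

set_option autoImplicit false
open CategoryTheory CategoryTheory.Limits AlgebraicGeometry Opposite
universe u
open EtDesc

namespace Groth.Agent.S5593

/-- Let X be a scheme, x, x' points of X with strict localisations Spec R -> X and Spec R' -> X (R, R'
strict henselisations of the local rings at x and x'). There is an X-morphism Spec R' -> Spec R,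
i.e. the geometric point over x is a specialization of the one over x', if and only if x lies in the
closure of x'. -/
theorem result (X : Scheme.{u}) (x x' : X)
    (R : Type u) [CommRing R] [IsLocalRing R] [Algebra (X.presheaf.stalk x) R]
    [IsLocalHom (algebraMap (X.presheaf.stalk x) R)] [Hensel.IsStrictHenselization (X.presheaf.stalk x) R]
    (R' : Type u) [CommRing R'] [IsLocalRing R'] [Algebra (X.presheaf.stalk x') R']
    [IsLocalHom (algebraMap (X.presheaf.stalk x') R')] [Hensel.IsStrictHenselization (X.presheaf.stalk x') R'] :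
    (∃ g : Spec (CommRingCat.of R') ⟶ Spec (CommRingCat.of R), g ≫ Hens2.specOf X x R = Hens2.specOf X x' R') ↔
      x' ⤳ x := by
  haveI : HenselianLocalRing R' := Hensel.IsStrictHenselization.henselian (R := X.presheaf.stalk x')
  refine ⟨fun ⟨g, hg⟩ => GrothLib.StrictLocSpec.specializes_of_hom X x R R' hg, fun hs => ?_⟩
  haveI := (Hensel.IsStrictHenselization.isSepClosure (R := X.presheaf.stalk x') (S := R')).1
  let α := (algebraMap (X.presheaf.stalk x') R').comp (X.presheaf.stalkSpecializes hs).hom
  let p : Ideal (X.presheaf.stalk x) := RingHom.ker ((IsLocalRing.residue R').comp α)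
  haveI : p.IsPrime := RingHom.ker_isPrime _
  haveI hff : Module.FaithfullyFlat (X.presheaf.stalk x) R := Groth.Agent.S0539.result (X.presheaf.stalk x) R
  obtain ⟨q, hq⟩ := PrimeSpectrum.comap_surjective_of_faithfullyFlat (A := X.presheaf.stalk x) (B := R) ⟨p, inferInstance⟩
  have hpq : p = q.asIdeal.comap (algebraMap (X.presheaf.stalk x) R) := (congrArg PrimeSpectrum.asIdeal hq).symm
  letI : Algebra p.ResidueField q.asIdeal.ResidueField :=
    (Ideal.ResidueField.map p q.asIdeal (algebraMap (X.presheaf.stalk x) R) hpq).toAlgebra
  haveI : IsScalarTower (X.presheaf.stalk x) p.ResidueField q.asIdeal.ResidueField := IsScalarTower.of_algebraMap_eq fun a => by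
    show algebraMap (X.presheaf.stalk x) q.asIdeal.ResidueField a =
      Ideal.ResidueField.map p q.asIdeal (algebraMap (X.presheaf.stalk x) R) hpq (algebraMap _ p.ResidueField a)
    rw [IsScalarTower.algebraMap_apply (X.presheaf.stalk x) R q.asIdeal.ResidueField]
    simp
  haveI := GrothLib.GeomFact.isSeparable_residueField (Groth.Agent.S12237.result (X.presheaf.stalk x) R) p q.asIdeal
  let ι : p.ResidueField →+* IsLocalRing.ResidueField R' :=
    Ideal.ResidueField.lift p ((IsLocalRing.residue R').comp α) le_rfl (fun a ha => by
      show IsUnit (((IsLocalRing.residue R').comp α) a)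
      exact isUnit_iff_ne_zero.2 fun h0 => ha h0)
  letI := ι.toAlgebra
  let τ : q.asIdeal.ResidueField →ₐ[p.ResidueField] IsLocalRing.ResidueField R' := IsSepClosed.lift
  have hσ : (τ.toRingHom.comp (algebraMap R q.asIdeal.ResidueField)).comp (algebraMap (X.presheaf.stalk x) R) =
      (IsLocalRing.residue R').comp α := by
    refine RingHom.ext fun a => ?_
    show τ (algebraMap R q.asIdeal.ResidueField (algebraMap _ R a)) = _
    rw [← IsScalarTower.algebraMap_apply, IsScalarTower.algebraMap_apply (X.presheaf.stalk x) p.ResidueField q.asIdeal.ResidueField,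
      τ.commutes]
    exact Ideal.ResidueField.lift_algebraMap _ _ _ _ _
  letI : Algebra (X.presheaf.stalk x) R' := α.toAlgebra
  obtain ⟨γ, -⟩ := GrothLib.GeomFact.exists_algHom_lift
    (Groth.Agent.S12237.result (X.presheaf.stalk x) R) (T := R') _ hσ
  exact ⟨Spec.map (CommRingCat.ofHom γ.toRingHom),
    (GrothLib.StrictLocSpec.comp_specOf_eq_iff X x R hs γ.toRingHom _).2 (RingHom.ext γ.commutes)⟩

end Groth.Agent.S5593
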