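import Groth.Statements.S5594
import Groth.Agent.Lib.StrictLocSpec.Basic
import Groth.Agent.Lib.EtLocal.HenselPart
-- import your own Groth.Agent.* helpers here

set_option autoImplicit false
open CategoryTheory CategoryTheory.Limits AlgebraicGeometry Opposite
universe u
open EtDesc

namespace Groth.Agent.S5594

/-- Let X be a scheme, x, x' points of X with strict localisations Spec R -> X and Spec R' -> X, and ξ'
: Spec κ(R') -> Spec R' the closed point, a geometric point of X over x'. Then restricting along ξ'
is a bijection from the X-morphisms Spec R' -> Spec R (specialization arrows) onto the X-morphisms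
from the geometric point Spec κ(R') to Spec R: injectivity and surjectivity are stated separately. -/
theorem result (X : Scheme.{u}) (x x' : X)
    (R : Type u) [CommRing R] [IsLocalRing R] [Algebra (X.presheaf.stalk x) R]
    [IsLocalHom (algebraMap (X.presheaf.stalk x) R)] [Hensel.IsStrictHenselization (X.presheaf.stalk x) R]
    (R' : Type u) [CommRing R'] [IsLocalRing R'] [Algebra (X.presheaf.stalk x') R']
    [IsLocalHom (algebraMap (X.presheaf.stalk x') R')] [Hensel.IsStrictHenselization (X.presheaf.stalk x') R'] :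
    (∀ g₁ g₂ : Spec (CommRingCat.of R') ⟶ Spec (CommRingCat.of R),
      g₁ ≫ Hens2.specOf X x R = Hens2.specOf X x' R' → g₂ ≫ Hens2.specOf X x R = Hens2.specOf X x' R' →
      Spec.map (CommRingCat.ofHom (IsLocalRing.residue R')) ≫ g₁ =
        Spec.map (CommRingCat.ofHom (IsLocalRing.residue R')) ≫ g₂ → g₁ = g₂) ∧
    (∀ h : Spec (CommRingCat.of (IsLocalRing.ResidueField R')) ⟶ Spec (CommRingCat.of R),
      h ≫ Hens2.specOf X x R = Hens2.geomPt X x' R' →
      ∃ g : Spec (CommRingCat.of R') ⟶ Spec (CommRingCat.of R),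
        g ≫ Hens2.specOf X x R = Hens2.specOf X x' R' ∧
        Spec.map (CommRingCat.ofHom (IsLocalRing.residue R')) ≫ g = h) := by
  haveI : HenselianLocalRing R' := Hensel.IsStrictHenselization.henselian (R := X.presheaf.stalk x')
  refine ⟨fun g₁ g₂ h₁ h₂ e => ?_, fun h hh => ?_⟩
  · obtain ⟨γ₁, rfl⟩ := Spec.map_surjective g₁
    obtain ⟨γ₂, rfl⟩ := Spec.map_surjective g₂
    have hs := GrothLib.StrictLocSpec.specializes_of_hom X x R R' h₁
    have h₁' := (GrothLib.StrictLocSpec.comp_specOf_eq_iff X x R hs γ₁.hom (algebraMap (X.presheaf.stalk x') R')).1 h₁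
    have h₂' := (GrothLib.StrictLocSpec.comp_specOf_eq_iff X x R hs γ₂.hom (algebraMap (X.presheaf.stalk x') R')).1 h₂
    rw [← Spec.map_comp, ← Spec.map_comp, Spec.map_inj] at e
    exact congrArg Spec.map (CommRingCat.hom_ext (GrothLib.StrictLocSpec.hom_ext X x R R' (h₁'.trans h₂'.symm)
      (congrArg CommRingCat.Hom.hom e)))
  · obtain ⟨σ, rfl⟩ := Spec.map_surjective h
    have hs := GrothLib.StrictLocSpec.specializes_of_geomPt X x R R' hh
    let α := (algebraMap (X.presheaf.stalk x') R').comp (X.presheaf.stalkSpecializes hs).hom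
    have hσ : σ.hom.comp (algebraMap (X.presheaf.stalk x) R) = (IsLocalRing.residue R').comp α := by
      rw [← RingHom.comp_assoc]
      refine (GrothLib.StrictLocSpec.comp_specOf_eq_iff X x R hs σ.hom _).1 ?_
      refine hh.trans ?_
      rw [CommRingCat.ofHom_comp, Spec.map_comp, Category.assoc]
    letI : Algebra (X.presheaf.stalk x) R' := α.toAlgebra
    obtain ⟨γ, hγ⟩ := GrothLib.GeomFact.exists_algHom_lift
      (Groth.Agent.S12237.result (X.presheaf.stalk x) R) (T := R') σ.hom hσ
    refine ⟨Spec.map (CommRingCat.ofHom γ.toRingHom), ?_, ?_⟩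
    · exact (GrothLib.StrictLocSpec.comp_specOf_eq_iff X x R hs γ.toRingHom _).2 (RingHom.ext γ.commutes)
    · rw [← Spec.map_comp]
      exact congrArg Spec.map (CommRingCat.hom_ext (RingHom.ext hγ))

end Groth.Agent.S5594
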