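import Groth.Statements.S5595
import Groth.Agent.Lib.EtDescent.Pst
-- import your own Groth.Agent.* helpers here

set_option autoImplicit false
open CategoryTheory CategoryTheory.Limits AlgebraicGeometry Opposite
universe u
open EtDesc

namespace Groth.Agent.S5595


section Aux

open GrothLib.EtSite GrothLib.EtSec GrothLib.EtDescent

set_option backward.isDefEq.respectTransparency.types false

variable {X' X : Scheme.{u}}

theorem stalk_injective {F G : EtDesc.Sh X} (a : G ⟶ F) [Mono a] {Ω : Type u} [Field Ω] [IsSepClosed Ω]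
    (η : Spec (CommRingCat.of Ω) ⟶ X) : Function.Injective ((stalkSh η).map a) :=
  (mono_iff_injective _).1 inferInstance

theorem app_injective {F G : EtDesc.Sh X} (a : G ⟶ F) [Mono a] (U : X.Etale) :
    Function.Injective (a.hom.app (op U)) := fun s s' h => sect_ext fun Ω _ _ l η hl =>
  stalk_injective a η (((gSh_stalk_map a l hl s).trans (congrArg (gSh F l hl) h)).trans
    (gSh_stalk_map a l hl s').symm)

theorem exists_factor {F G H : EtDesc.Sh X} (a : G ⟶ F) [Mono a] (b : H ⟶ F)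
    (h : ∀ x : X, ∃ (Ω : Type u) (_ : Field Ω) (_ : IsSepClosed Ω) (η : Spec (CommRingCat.of Ω) ⟶ X),
      η.base default = x ∧ ∀ y, (stalkSh η).map b y ∈ Set.range ((stalkSh η).map a)) :
    ∃ φ : H ⟶ G, φ ≫ a = b := by
  haveI : IsIso (pullback.fst b a) := by
    refine isIso_of_stalksSh _ fun x => ?_
    obtain ⟨Ω, _, _, η, hη, hr⟩ := h x
    refine ⟨Ω, inferInstance, inferInstance, η, hη, stalk_injective _ η, fun y => ?_⟩
    obtain ⟨z, hz⟩ := hr y
    obtain ⟨w, hw, -⟩ := Types.exists_of_isPullback ((IsPullback.of_hasPullback b a).map (stalkSh η)) y z hz.symm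
    exact ⟨w, hw⟩
  exact ⟨inv (pullback.fst b a) ≫ pullback.snd b a, by
    rw [Category.assoc, ← pullback.condition, IsIso.inv_hom_id_assoc]⟩

/-- The points near which a section lifts along `a`. -/
def good {F G : EtDesc.Sh X} (a : G ⟶ F) {U : X.Etale} (σ : EtDesc.sect F U) : Set U.left :=
  {u | ∃ (V : X.Etale) (g : V ⟶ U) (v : V.left) (s : EtDesc.sect G V),
    g.left.base v = u ∧ a.hom.app (op V) s = F.obj.map g.op σ}

theorem etale_left {U V : X.Etale} (g : V ⟶ U) : Etale g.left := by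
  let uh : U.left ⟶ X := U.hom
  haveI : Etale uh := U.prop
  haveI : Etale (g.left ≫ uh) := by
    rw [show g.left ≫ uh = V.hom from hom_left g]
    exact V.prop
  exact Etale.of_comp g.left uh

theorem isOpen_good {F G : EtDesc.Sh X} (a : G ⟶ F) {U : X.Etale} (σ : EtDesc.sect F U) :
    IsOpen (good a σ) := by
  refine isOpen_iff_forall_mem_open.2 fun u hu => ?_
  obtain ⟨V, g, v, s, hv, hs⟩ := hu
  haveI := etale_left g
  refine ⟨Set.range g.left.base, ?_, g.left.isOpenMap.isOpen_range, v, hv⟩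
  rintro _ ⟨v', rfl⟩
  exact ⟨V, g, v', s, rfl, hs⟩

theorem mem_good_iff {F G : EtDesc.Sh X} (a : G ⟶ F) {U : X.Etale} (σ : EtDesc.sect F U) {Ω : Type u}
    [Field Ω] [IsSepClosed Ω] {ξ : Spec (CommRingCat.of Ω) ⟶ X} (p : Spec (CommRingCat.of Ω) ⟶ U.left)
    (hp : p ≫ U.hom = ξ) :
    p.base default ∈ good a σ ↔ gSh F p hp σ ∈ Set.range ((stalkSh ξ).map a) := by
  constructor
  · rintro ⟨V, g, v, s, hv, hs⟩
    haveI := etale_left g
    obtain ⟨q, hq, -⟩ := exists_lift g.left p v hv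
    have hq' : q ≫ V.hom = ξ :=
      (congrArg (q ≫ ·) (hom_left g).symm).trans ((Category.assoc _ _ _).symm.trans
        ((congrArg (· ≫ U.hom) hq).trans hp))
    refine ⟨gSh G q hq' s, (gSh_stalk_map a q hq' s).trans ?_⟩
    rw [hs]
    exact (gSh_map g q hq' ((congrArg (· ≫ U.hom) hq).trans hp) σ).trans (gSh_congr hq _ _ σ)
  · rintro ⟨y, hy⟩
    obtain ⟨W, l, hl, s, rfl⟩ := exists_gSh y
    rw [gSh_stalk_map a l hl s] at hy
    obtain ⟨V, r₁, r₂, m, -, -, hm, he⟩ := gSh_eq hy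
    refine ⟨V, r₂, m.base default, G.obj.map r₁.op s, ?_, ?_⟩
    · exact congrArg (fun k : Spec (CommRingCat.of Ω) ⟶ U.left => k.base default) hm
    · exact (NatTrans.naturality_apply a.hom r₁.op s).trans he

theorem exists_section {F G : EtDesc.Sh X} (a : G ⟶ F) [Mono a] {U : X.Etale} (σ : EtDesc.sect F U)
    (h : ∀ u : U.left, u ∈ good a σ) : ∃ s, a.hom.app (op U) s = σ := by
  obtain ⟨t, ht⟩ := exists_sect (F := G) (U := U)
    (fun V g s => a.hom.app (op V) s = F.obj.map g.op σ)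
    (fun V V' g k s hs => by
      rw [op_comp, Functor.map_comp, ConcreteCategory.comp_apply, ← hs]
      exact NatTrans.naturality_apply a.hom k.op s)
    (fun V g s s' hs hs' => app_injective a V (hs.trans hs'.symm))
    (fun u => by
      obtain ⟨V, g, v, s, hv, hs⟩ := h u
      exact ⟨V, g, v, s, hv, hs⟩)
  refine ⟨t, sect_ext fun Ω _ _ l η hl => ?_⟩
  obtain ⟨V, g, v, hv, hg⟩ := ht (l.base default)
  haveI := etale_left g
  obtain ⟨q, hq, -⟩ := exists_lift g.left l v hv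
  have hq₁ : (q ≫ g.left) ≫ U.hom = η := (congrArg (· ≫ U.hom) hq).trans hl
  have hq' : q ≫ V.hom = η :=
    (congrArg (q ≫ ·) (hom_left g).symm).trans ((Category.assoc _ _ _).symm.trans hq₁)
  have key := congrArg (gSh F q hq') hg
  rw [NatTrans.naturality_apply a.hom g.op t] at key
  exact ((gSh_congr hq hq₁ hl _).symm.trans (((gSh_map g q hq' hq₁ _).symm.trans key).trans
    (gSh_map g q hq' hq₁ σ))).trans (gSh_congr hq hq₁ hl _)

theorem surjective_base {f : X' ⟶ X} (hf : EtDesc.IsUnivSubmersive f) : Function.Surjective f.base := by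
  intro x
  obtain ⟨z, rfl⟩ := (hf X (𝟙 X)).1 x
  refine ⟨(pullback.fst f (𝟙 X)).base z, ?_⟩
  rw [← Scheme.Hom.comp_apply, pullback.condition, Category.comp_id]

theorem isQuotientMap_fst {f : X' ⟶ X} (hf : EtDesc.IsUnivSubmersive f) {Y : Scheme.{u}} (g : Y ⟶ X) :
    Topology.IsQuotientMap (pullback.fst g f).base := by
  rw [← pullbackSymmetry_hom_comp_snd g f]
  exact (hf Y g).2.comp (Scheme.homeoOfIso (pullbackSymmetry g f)).isQuotientMap

theorem range_iff (f : X' ⟶ X) (F : EtDesc.Sh X) (G' : EtDesc.Sh X') (a' : G' ⟶ (EtDesc.pullSh f).obj F)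
    (φ : (EtDesc.pullSh (pullback.fst f f)).obj G' ≅ (EtDesc.pullSh (pullback.snd f f)).obj G')
    (hφ : φ.hom ≫ (EtDesc.pullSh (pullback.snd f f)).map a' =
      (EtDesc.pullSh (pullback.fst f f)).map a' ≫ (EtDesc.canIso f F).hom)
    {Ω : Type u} [Field Ω] [IsSepClosed Ω] {ξ₁ ξ₂ : Spec (CommRingCat.of Ω) ⟶ X'}
    {η : Spec (CommRingCat.of Ω) ⟶ X} (h₁ : ξ₁ ≫ f = η) (h₂ : ξ₂ ≫ f = η)
    (u₁ : (stalkSh ξ₁).obj ((EtDesc.pullSh f).obj F)) (u₂ : (stalkSh ξ₂).obj ((EtDesc.pullSh f).obj F))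
    (hu : pst f F h₁ u₁ = pst f F h₂ u₂) (hr : u₁ ∈ Set.range ((stalkSh ξ₁).map a')) :
    u₂ ∈ Set.range ((stalkSh ξ₂).map a') := by
  obtain ⟨y₁, rfl⟩ := hr
  let ζ : Spec (CommRingCat.of Ω) ⟶ pullback f f := pullback.lift ξ₁ ξ₂ (h₁.trans h₂.symm)
  have e₁ : ζ ≫ pullback.fst f f = ξ₁ := pullback.lift_fst _ _ _
  have e₂ : ζ ≫ pullback.snd f f = ξ₂ := pullback.lift_snd _ _ _
  have eb : ζ ≫ pullback.fst f f ≫ f = η := by rw [← Category.assoc, e₁, h₁]
  obtain ⟨z₁, rfl⟩ := (pst_bijective (pullback.fst f f) G' e₁).surjective y₁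
  refine ⟨pst (pullback.snd f f) G' e₂ ((stalkSh ζ).map φ.hom z₁), (pst_bijective f F h₂).injective ?_⟩
  rw [← hu, ← pst_map, ← pst_map]
  have key := congrArg (fun k => (stalkSh ζ).map k z₁) hφ
  simp only [Functor.map_comp, ConcreteCategory.comp_apply] at key
  rw [key]
  set v := (stalkSh ζ).map ((EtDesc.pullSh (pullback.fst f f)).map a') z₁
  have c₁ := pst_pullVia (pullback.fst f f) f (pullback.fst f f ≫ f) rfl F e₁ h₁ eb v
  have c₂ := pst_pullVia (pullback.snd f f) f (pullback.fst f f ≫ f) pullback.condition.symm F e₂ h₂ eb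
    ((stalkSh ζ).map (EtDesc.canIso f F).hom v)
  rw [← c₁, ← c₂, ← ConcreteCategory.comp_apply, ← Functor.map_comp]
  refine congrArg (fun k => pst _ F eb ((stalkSh ζ).map k v)) ?_
  simp [EtDesc.canIso]

theorem descend (f : X' ⟶ X) (hf : EtDesc.IsUnivSubmersive f) (F : EtDesc.Sh X) (G' : EtDesc.Sh X')
    (a' : G' ⟶ (EtDesc.pullSh f).obj F) [Mono a']
    (φ : (EtDesc.pullSh (pullback.fst f f)).obj G' ≅ (EtDesc.pullSh (pullback.snd f f)).obj G')
    (hφ : φ.hom ≫ (EtDesc.pullSh (pullback.snd f f)).map a' =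
      (EtDesc.pullSh (pullback.fst f f)).map a' ≫ (EtDesc.canIso f F).hom) :
    ∃ (G : EtDesc.Sh X) (a : G ⟶ F) (_ : Mono a) (ψ : (EtDesc.pullSh f).obj G ≅ G'),
      ψ.hom ≫ a' = (EtDesc.pullSh f).map a := by
  haveI := (EtDesc.adjSh f).isRightAdjoint
  let un : F ⟶ (EtDesc.pushSh f).obj ((EtDesc.pullSh f).obj F) := (EtDesc.adjSh f).unit.app F
  let G := pullback un ((EtDesc.pushSh f).map a')
  let a : G ⟶ F := pullback.fst _ _
  let sn : G ⟶ (EtDesc.pushSh f).obj G' := pullback.snd _ _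
  let ψ : (EtDesc.pullSh f).obj G ⟶ G' := ((EtDesc.adjSh f).homEquiv G G').symm sn
  have hψ : ψ ≫ a' = (EtDesc.pullSh f).map a := by
    rw [← Adjunction.homEquiv_naturality_right_symm, ← pullback.condition,
      Adjunction.homEquiv_naturality_left_symm]
    simp [un, Adjunction.homEquiv_counit, a]
  haveI : IsIso ψ := by
    refine isIso_of_stalksSh _ fun x => ⟨_, inferInstance, inferInstance, gpt x, gpt_default x, ?_⟩
    generalize hξ : gpt x = ξ
    have hcomp : ∀ z, (stalkSh ξ).map a' ((stalkSh ξ).map ψ z) = (stalkSh ξ).map ((EtDesc.pullSh f).map a) z :=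
      fun z => by rw [← hψ, Functor.map_comp]; rfl
    constructor
    · intro z z' hz
      apply (pst_bijective f G (rfl : ξ ≫ f = ξ ≫ f)).injective
      apply stalk_injective a (ξ ≫ f)
      rw [← pst_map, ← pst_map, ← hcomp, ← hcomp, hz]
    intro y
    set u := (stalkSh ξ).map a' y with hu
    obtain ⟨W, l, hl, t, ht⟩ := exists_gSh (pst f F (rfl : ξ ≫ f = ξ ≫ f) u)
    let σ : EtDesc.sect ((EtDesc.pullSh f).obj F) ((EtCoh.bc f).obj W) := un.hom.app (op W) t
    let π : ((EtCoh.bc f).obj W).left ⟶ W.left := pullback.fst W.hom f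
    have hval : ∀ {Ω : Type u} [Field Ω] [IsSepClosed Ω] (p : Spec (CommRingCat.of Ω) ⟶ ((EtCoh.bc f).obj W).left)
        {ξ' : Spec (CommRingCat.of Ω) ⟶ X'} {η : Spec (CommRingCat.of Ω) ⟶ X}
        (hp : p ≫ ((EtCoh.bc f).obj W).hom = ξ') (h : ξ' ≫ f = η) (hpη : (p ≫ π) ≫ W.hom = η),
        pst f F h (gSh _ p hp σ) = gSh F (p ≫ π) hpη t :=
      fun p _ _ hp h hpη => pst_unit f F h p hp hpη t
    have hsat : ∀ w₁ w₂ : ((EtCoh.bc f).obj W).left, π.base w₁ = π.base w₂ → w₁ ∈ good a' σ → w₂ ∈ good a' σ := by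
      intro w₁ w₂ hw hw₁
      obtain ⟨z, hz₁, hz₂⟩ := Scheme.Pullback.exists_preimage_pullback (f := π) (g := π) w₁ w₂ hw
      obtain ⟨Ω, _, _, p, rfl⟩ := Secs.exists_point z
      let p₁ := p ≫ pullback.fst π π
      let p₂ := p ≫ pullback.snd π π
      have hpp : p₁ ≫ π = p₂ ≫ π := by simp [p₁, p₂, pullback.condition]
      replace hw₁ : p₁.base default ∈ good a' σ := hz₁ ▸ hw₁
      suffices p₂.base default ∈ good a' σ from hz₂ ▸ this
      rw [mem_good_iff a' σ _ rfl] at hw₁ ⊢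
      have hb : ((EtCoh.bc f).obj W).hom ≫ f = π ≫ W.hom := (bc_cond f W).symm
      refine range_iff f F G' a' φ hφ (η := (p₁ ≫ π) ≫ W.hom) ?_ ?_ _ _ ?_ hw₁
      · exact (Category.assoc _ _ _).trans ((congrArg (p₁ ≫ ·) hb).trans (Category.assoc _ _ _).symm)
      · rw [hpp]
        exact (Category.assoc _ _ _).trans ((congrArg (p₂ ≫ ·) hb).trans (Category.assoc _ _ _).symm)
      · refine (hval p₁ rfl _ rfl).trans (Eq.trans ?_ (hval p₂ rfl _ (congrArg (· ≫ W.hom) hpp.symm)).symm)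
        exact gSh_congr hpp _ _ t
    have hO : IsOpen (π.base '' good a' σ) := by
      refine (isQuotientMap_fst hf W.hom).isOpen_preimage.1 ?_
      suffices hpre : π.base ⁻¹' (π.base '' good a' σ) = good a' σ from hpre.symm ▸ isOpen_good a' σ
      refine Set.ext fun w => ?_
      exact ⟨fun ⟨w', hw', e⟩ => hsat w' w e hw', fun h => ⟨w, h, rfl⟩⟩
    let V₀ : W.left.Opens := ⟨_, hO⟩
    let wh : W.left ⟶ X := W.hom
    haveI : Etale wh := W.prop
    let V : X.Etale := Scheme.Etale.mk (V₀.ι ≫ wh)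
    let r : V ⟶ W := MorphismProperty.Over.homMk V₀.ι rfl
    let σ' : EtDesc.sect ((EtDesc.pullSh f).obj F) ((EtCoh.bc f).obj V) := un.hom.app (op V) (F.obj.map r.op t)
    have hσ' : σ' = ((EtDesc.pullSh f).obj F).obj.map ((EtCoh.bc f).map r).op σ :=
      NatTrans.naturality_apply un.hom r.op t
    obtain ⟨s, hs⟩ := exists_section a' σ' fun v => by
      obtain ⟨Ω, _, _, p, rfl⟩ := Secs.exists_point v
      rw [mem_good_iff a' σ' p rfl, hσ', gSh_map ((EtCoh.bc f).map r) p rfl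
        ((Category.assoc _ _ _).trans (congrArg (p ≫ ·) (hom_left _))), ← mem_good_iff a' σ]
      have e : ((EtCoh.bc f).map r).left ≫ π = pullback.fst V.hom f ≫ V₀.ι := by
        simp [π, EtCoh.bc, r]
        exact pullback.lift_fst _ _ _
      have e' : π.base ((p ≫ ((EtCoh.bc f).map r).left).base default) = V₀.ι.base ((p ≫ pullback.fst V.hom f).base default) := by
        refine congrArg (fun k : Spec (CommRingCat.of Ω) ⟶ W.left => k.base default) (?_ : (p ≫ ((EtCoh.bc f).map r).left) ≫ π = (p ≫ pullback.fst V.hom f) ≫ V₀.ι)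
        exact (Category.assoc _ _ _).trans ((congrArg (p ≫ ·) e).trans (Category.assoc _ _ _).symm)
      obtain ⟨w, hw, hwe⟩ : π.base ((p ≫ ((EtCoh.bc f).map r).left).base default) ∈ π.base '' good a' σ :=
        e' ▸ ((p ≫ pullback.fst V.hom f).base default).2
      exact hsat w _ hwe hw
    obtain ⟨g, hg, -⟩ := Types.exists_of_isPullback
      ((IsPullback.of_hasPullback un ((EtDesc.pushSh f).map a')).map
        (sheafToPresheaf X.smallEtaleTopology _ ⋙ (evaluation _ _).obj (op V))) (F.obj.map r.op t) s hs.symm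
    let l' : Spec (CommRingCat.of _) ⟶ ((EtCoh.bc f).obj W).left := pullback.lift l ξ hl
    have hl' : l' ≫ ((EtCoh.bc f).obj W).hom = ξ := pullback.lift_snd _ _ _
    have hlπ : l' ≫ π = l := pullback.lift_fst _ _ _
    have hσu : gSh _ l' hl' σ = u := (pst_bijective f F rfl).injective
      ((hval l' hl' rfl ((congrArg (· ≫ W.hom) hlπ).trans hl)).trans ((gSh_congr hlπ _ hl t).trans ht))
    have hlO : l'.base default ∈ good a' σ := by
      rw [mem_good_iff a' σ l' hl', hσu]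
      exact ⟨y, rfl⟩
    obtain ⟨q, hq, -⟩ := exists_lift V₀.ι l ⟨l.base default, l'.base default, hlO, by
      rw [← Scheme.Hom.comp_apply, hlπ]⟩ rfl
    have hqr : (q ≫ r.left) ≫ W.hom = ξ ≫ f := (congrArg (· ≫ W.hom) hq).trans hl
    have hq' : q ≫ V.hom = ξ ≫ f :=
      (congrArg (q ≫ ·) (hom_left r).symm).trans ((Category.assoc _ _ _).symm.trans hqr)
    obtain ⟨z, hz⟩ := (pst_bijective f G (rfl : ξ ≫ f = ξ ≫ f)).surjective (gSh G q hq' g)
    refine ⟨z, stalk_injective a' ξ ((pst_bijective f F (rfl : ξ ≫ f = ξ ≫ f)).injective ?_)⟩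
    rw [hcomp, pst_map, hz, gSh_stalk_map, ← hu, ← ht]
    refine Eq.trans ?_ ((gSh_map r q hq' hqr t).trans (gSh_congr hq _ hl t))
    exact congrArg (gSh F q hq') hg
  exact ⟨G, a, inferInstance, asIso ψ, hψ⟩

theorem inj_part (f : X' ⟶ X) (hf : EtDesc.IsUnivSubmersive f) {F G₁ G₂ : EtDesc.Sh X} (a₁ : G₁ ⟶ F)
    (a₂ : G₂ ⟶ F) [Mono a₂] (k : (EtDesc.pullSh f).obj G₁ ⟶ (EtDesc.pullSh f).obj G₂)
    (hk : k ≫ (EtDesc.pullSh f).map a₂ = (EtDesc.pullSh f).map a₁) : ∃ ψ : G₁ ⟶ G₂, ψ ≫ a₂ = a₁ := by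
  refine exists_factor a₂ a₁ fun x => ?_
  obtain ⟨x', rfl⟩ := surjective_base hf x
  refine ⟨_, inferInstance, inferInstance, gpt x' ≫ f, by rw [Scheme.Hom.comp_apply, gpt_default], fun y => ?_⟩
  obtain ⟨z, rfl⟩ := (pst_bijective f G₁ (rfl : gpt x' ≫ f = gpt x' ≫ f)).surjective y
  refine ⟨pst f G₂ rfl ((stalkSh (gpt x')).map k z), ?_⟩
  rw [← pst_map, ← pst_map, ← hk, Functor.map_comp]
  rfl

end Aux


/-- Let f : X' -> X be universally submersive and F an etale sheaf of sets on X, with f^* F its inverse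
image on X' and pr_1, pr_2 the projections of X' x_X X'. Then the map from subsheaves of F to
subsheaves of f^* F is injective, and its image consists exactly of the subsheaves G' of f^* F with
pr_1^* G' = pr_2^* G' inside pr_1^* f^* F = pr_2^* f^* F: (a) subsheaves G_1, G_2 of F with the same
inverse image are the same subobject; (b) such a G' is the inverse image of a subsheaf of F. -/
theorem result {X' X : Scheme.{u}} (f : X' ⟶ X)
    (hf : EtDesc.IsUnivSubmersive f) (F : EtDesc.Sh X) :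
    (∀ (G₁ G₂ : EtDesc.Sh X) (a₁ : G₁ ⟶ F) (a₂ : G₂ ⟶ F) [Mono a₁] [Mono a₂],
      (∃ φ : (EtDesc.pullSh f).obj G₁ ≅ (EtDesc.pullSh f).obj G₂,
          φ.hom ≫ (EtDesc.pullSh f).map a₂ = (EtDesc.pullSh f).map a₁) →
      ∃ ψ : G₁ ≅ G₂, ψ.hom ≫ a₂ = a₁) ∧
    (∀ (G' : EtDesc.Sh X') (a' : G' ⟶ (EtDesc.pullSh f).obj F) [Mono a'],
      (∃ φ : (EtDesc.pullSh (pullback.fst f f)).obj G' ≅ (EtDesc.pullSh (pullback.snd f f)).obj G',
          φ.hom ≫ (EtDesc.pullSh (pullback.snd f f)).map a' =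
            (EtDesc.pullSh (pullback.fst f f)).map a' ≫ (EtDesc.canIso f F).hom) →
      ∃ (G : EtDesc.Sh X) (a : G ⟶ F) (_ : Mono a) (ψ : (EtDesc.pullSh f).obj G ≅ G'),
        ψ.hom ≫ a' = (EtDesc.pullSh f).map a) := by
  refine ⟨fun G₁ G₂ a₁ a₂ _ _ h => ?_, fun G' a' _ h => ?_⟩
  · obtain ⟨φ, hφ⟩ := h
    obtain ⟨p, hp⟩ := inj_part f hf a₁ a₂ φ.hom hφ
    obtain ⟨q, hq⟩ := inj_part f hf a₂ a₁ φ.inv (by rw [← hφ, Iso.inv_hom_id_assoc])
    exact ⟨⟨p, q, (cancel_mono a₁).1 (by rw [Category.assoc, hq, hp, Category.id_comp]),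
      (cancel_mono a₂).1 (by rw [Category.assoc, hp, hq, Category.id_comp])⟩, hp⟩
  · obtain ⟨φ, hφ⟩ := h
    exact descend f hf F G' a' φ hφ

end Groth.Agent.S5595
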