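import Groth.Statements.S5606
import Groth.Agent.Lib.PC.Devissage

set_option autoImplicit false
universe w v u
open CategoryTheory CategoryTheory.Limits
open PCoh

open GrothLib.PC

namespace Groth.Agent.S5606

/-- Let C be an abelian category, C₀ ⊆ C₁ strictly full additive subcategories with C₀ quasi-stable
under kernels of epimorphisms and quasi-liftable. If every object of C₁ is C₀-pseudo-coherent, then
C₁ is quasi-liftable in C and quasi-stable under kernels of epimorphisms. -/
theorem result {C : Type u} [Category.{v} C] [Abelian C] [HasDerivedCategory.{w} C]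
    (P : ObjectProperty C) [P.IsClosedUnderIsomorphisms] [P.ContainsZero] (hsum : ∀ X Y : C, P X → P Y → P (X ⨯ Y))
    (hqs : PCoh.IsQuasiStableUnderKernels P) (hql : PCoh.IsQuasiLiftable P)
    (P₁ : ObjectProperty C) [P₁.IsClosedUnderIsomorphisms] [P₁.ContainsZero]
    (hsum₁ : ∀ X Y : C, P₁ X → P₁ Y → P₁ (X ⨯ Y)) (hle : ∀ X : C, P X → P₁ X)
    (hpc : ∀ X : C, P₁ X → PCoh.IsPC P ((DerivedCategory.singleFunctor C 0).obj X)) :
    PCoh.IsQuasiLiftable P₁ ∧ PCoh.IsQuasiStableUnderKernels P₁ := by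
  refine ⟨fun E G u hu hG => ?_, fun K hK hfin hP => ?_⟩
  · have hft : PCoh.IsOfFiniteType P G :=
      isOfFiniteType_of_iso P (homologySingleIso 0 G) (isOfFiniteType_of_pcn P hqs (hpc G hG 0)
        fun i hi => isZero_homology_single 0 i (by omega) G)
    obtain ⟨Q₀, π, hQ₀, hπ⟩ := hft
    obtain ⟨Q₁, v, hQ₁, hv⟩ := hql (Limits.pullback u π) Q₀ (Limits.pullback.snd u π) inferInstance hQ₀
    refine ⟨Q₁, v ≫ Limits.pullback.fst u π, hle _ hQ₁, ?_⟩
    rw [Category.assoc, Limits.pullback.condition, ← Category.assoc]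
    infer_instance
  · obtain ⟨Q₀, π, hQ₀, hπ⟩ := isQuasiStable_of_intermediate P hsum hqs hql P₁ hpc K hK hfin hP
    exact ⟨Q₀, π, hle _ hQ₀, hπ⟩

end Groth.Agent.S5606
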