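import Groth.Statements.S5612
import Groth.Agent.Lib.DCxRing.PerfectModule


set_option autoImplicit false
universe u
open CategoryTheory CategoryTheory.Limits
attribute [local instance] HasDerivedCategory.standard
open DRing

namespace Groth.Agent.S5612

/-- Let A be a commutative ring all of whose modules have finite tor dimension (for instance A of finite
global dimension) and K ∈ D(A). (i) K has finite tor dimension if and only if K has bounded
cohomology. (ii) K is perfect if and only if K has bounded cohomology and is pseudo-coherent. -/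
theorem result {A : Type u} [CommRing A]
    (hA : ∀ (M : Type u) [AddCommGroup M] [Module A M], DRing.HasFiniteTorDim A M) (K : Dual.D A) :
    (DRing.HasFiniteTorDimCx A K ↔ ∃ a b : ℤ, ∀ i : ℤ, i < a ∨ b < i → Subsingleton (Dual.HD A K i)) ∧
      (DRing.IsPerfect A K ↔
        (∃ a b : ℤ, ∀ i : ℤ, i < a ∨ b < i → Subsingleton (Dual.HD A K i)) ∧ DRing.IsPseudoCoherent' A K) := by
  have h1 : DRing.HasFiniteTorDimCx A K ↔ ∃ a b : ℤ, ∀ i : ℤ, i < a ∨ b < i → Subsingleton (Dual.HD A K i) := by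
    refine ⟨fun ⟨a, b, h⟩ => ⟨a, b, fun i hi => GrothLib.DR.subsingleton_HD_of_amplitude h i hi⟩, ?_⟩
    rintro ⟨a, b, hv⟩
    refine GrothLib.DR.prop_homology (DRing.HasFiniteTorDimCx A)
      (fun e ⟨p, q, h⟩ => ⟨p, q, GrothLib.DR.hasTorAmplitudeIn_of_iso e h⟩)
      (fun X hX => ⟨0, 0, GrothLib.DR.hasTorAmplitudeIn_of_isZero hX 0 0⟩)
      (fun T hT ⟨p, q, hp⟩ ⟨r, s, hr⟩ => ⟨min p r, max q s, GrothLib.DR.hasTorAmplitudeIn_obj₂ T hT
        (GrothLib.DR.hasTorAmplitudeIn_mono (by omega) (by omega) hp)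
        (GrothLib.DR.hasTorAmplitudeIn_mono (by omega) (by omega) hr)⟩) K a b hv fun i _ _ => ?_
    obtain ⟨d, hd⟩ := hA (Dual.HD A K i)
    exact ⟨_, _, GrothLib.DR.hasTorAmplitudeIn_shift ((GrothLib.KF.hasTorDimLE_iff _ d).1 hd) (-i) (i - d) i
      (by omega) (by omega)⟩
  refine ⟨h1, ?_⟩
  rw [GrothLib.DR.isPerfect_iff, h1, and_comm]

end Groth.Agent.S5612
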