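import Groth.Statements.S5613
import Groth.Agent.Lib.KZeroTri.Basic
import Mathlib.Tactic.Ring

set_option autoImplicit false
universe v u
open CategoryTheory CategoryTheory.Limits CategoryTheory.Pretriangulated
open KZero

namespace Groth.Agent.S5613

/-- Let C be a pretriangulated category, L an object of C and n an integer such that the coproduct ∐_{i
≥ 0} L⟦2ni⟧ exists in C. Then cl(L) = 0 in K₀(C). -/
theorem result {C : Type u} [Category.{v} C] [Preadditive C] [HasZeroObject C]
    [HasShift C ℤ] [∀ n : ℤ, (shiftFunctor C n).Additive] [Pretriangulated C]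
    (L : C) (n : ℤ) [HasCoproduct (fun i : ℕ => (shiftFunctor C (2 * n * (i : ℤ))).obj L)] :
    KZero.clTri L = 0 := by
  let M : ℕ → C := fun i => (shiftFunctor C (2 * n * (i : ℤ))).obj L
  let e : ∀ i : ℕ, (M i)⟦2 * n⟧ ≅ M (i + 1) := fun i =>
    ((shiftFunctorAdd' C (2 * n * (i : ℤ)) (2 * n) (2 * n * ((i + 1 : ℕ) : ℤ))
      (by push_cast; ring)).app L).symm
  let e₀ : M 0 ≅ L := (shiftFunctorZero' C (2 * n * ((0 : ℕ) : ℤ)) (by simp)).app L
  obtain ⟨φ, hφ⟩ := GrothLib.TriCat.shift_coprod_desc M (2 * n)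
    fun i => (e i).hom ≫ Sigma.ι M (i + 1)
  let c : ∀ i : ℕ, M i ⟶ L ⊞ (∐ M)⟦2 * n⟧ := fun i => match i with
    | 0 => e₀.hom ≫ biprod.inl
    | (i + 1) => (e i).inv ≫ (Sigma.ι M i)⟦2 * n⟧' ≫ biprod.inr
  let E : L ⊞ (∐ M)⟦2 * n⟧ ≅ ∐ M :=
    { hom := biprod.desc (e₀.inv ≫ Sigma.ι M 0) φ
      inv := Sigma.desc c
      hom_inv_id := by
        refine biprod.hom_ext' _ _ (by simp [c]) ?_
        rw [biprod.inr_desc_assoc, Category.comp_id]
        refine GrothLib.TriCat.shift_coprod_hom_ext M _ fun i => ?_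
        rw [reassoc_of% hφ i, Sigma.ι_desc]
        exact (e i).hom_inv_id_assoc _
      inv_hom_id := Sigma.hom_ext _ _ fun i => by
        rw [Sigma.ι_desc_assoc, Category.comp_id]
        cases i with
        | zero => simp [c]
        | succ i => simp [c, hφ i] }
  have h := GrothLib.KZeroTri.clTri_iso E
  rw [GrothLib.KZeroTri.clTri_biprod, GrothLib.KZeroTri.clTri_shift_even] at h
  exact add_eq_right.mp h

end Groth.Agent.S5613
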