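import Groth.Statements.S5614
import Groth.Agent.Lib.KZeroTri.Basic

set_option autoImplicit false
universe v u
open CategoryTheory CategoryTheory.Limits CategoryTheory.Pretriangulated
open KZero

namespace Groth.Agent.S5614

/-- Let C be a pretriangulated category and S a dense set of objects, meaning that every set of objects
which contains S and which contains the third vertex of a distinguished triangle as soon as it
contains the other two is all of C. Then K₀(C) is generated by the classes of the objects of S. -/
theorem result {C : Type u} [Category.{v} C] [Preadditive C] [HasZeroObject C]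
    [HasShift C ℤ] [∀ n : ℤ, (shiftFunctor C n).Additive] [Pretriangulated C]
    (S : Set C)
    (hdense : ∀ T : Set C, S ⊆ T →
      (∀ tr : Triangle C, tr ∈ distinguishedTriangles →
        (tr.obj₁ ∈ T → tr.obj₂ ∈ T → tr.obj₃ ∈ T) ∧ (tr.obj₁ ∈ T → tr.obj₃ ∈ T → tr.obj₂ ∈ T) ∧
          (tr.obj₂ ∈ T → tr.obj₃ ∈ T → tr.obj₁ ∈ T)) → T = Set.univ) :
    AddSubgroup.closure (KZero.clTri '' S) = (⊤ : AddSubgroup (KZero.K0tri C)) := by
  let T : Set C := {X | KZero.clTri X ∈ AddSubgroup.closure (KZero.clTri '' S)}
  have hT : T = Set.univ := hdense T (fun X hX => AddSubgroup.subset_closure ⟨X, hX, rfl⟩)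
    fun tr htr => by
      have h := GrothLib.KZeroTri.clTri_add htr
      simp only [T, Set.mem_setOf_eq]
      refine ⟨fun h₁ h₂ => ?_, fun h₁ h₃ => ?_, fun h₂ h₃ => ?_⟩
      · have := AddSubgroup.sub_mem _ h₂ h₁
        rwa [h, add_sub_cancel_left] at this
      · rw [h]; exact AddSubgroup.add_mem _ h₁ h₃
      · have := AddSubgroup.sub_mem _ h₂ h₃
        rwa [h, add_sub_cancel_right] at this
  refine eq_top_iff.2 fun x hx => ?_
  clear hx
  obtain ⟨y, rfl⟩ := QuotientAddGroup.mk_surjective x
  induction y using FreeAbelianGroup.induction_on with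
  | zero => exact AddSubgroup.zero_mem _
  | of X => exact (Set.eq_univ_iff_forall.1 hT X.1 :)
  | neg X hX => exact AddSubgroup.neg_mem _ hX
  | add a b ha hb => exact AddSubgroup.add_mem _ ha hb

end Groth.Agent.S5614
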