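import Groth.Statements.S5615


set_option autoImplicit false
universe v u
open CategoryTheory CategoryTheory.Limits
open KZero

namespace Groth.Agent.S5615

/-- Let A be an abelian category and S a dense set of objects, meaning that every set of objects which
contains S and which contains the third term of a short exact sequence as soon as it contains the
other two is all of A. Then K₀(A) is generated by the classes of the objects of S. -/
theorem result {A : Type u} [Category.{v} A] [Abelian A] (S : Set A)
    (hdense : ∀ T : Set A, S ⊆ T →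
      (∀ X : ShortComplex A, X.ShortExact →
        (X.X₁ ∈ T → X.X₂ ∈ T → X.X₃ ∈ T) ∧ (X.X₁ ∈ T → X.X₃ ∈ T → X.X₂ ∈ T) ∧
          (X.X₂ ∈ T → X.X₃ ∈ T → X.X₁ ∈ T)) → T = Set.univ) :
    AddSubgroup.closure (KZero.cl '' S) = (⊤ : AddSubgroup (KZero.K0 A)) := by
  let T : Set A := {X | KZero.cl X ∈ AddSubgroup.closure (KZero.cl '' S)}
  have hT : T = Set.univ := hdense T (fun X hX => AddSubgroup.subset_closure ⟨X, hX, rfl⟩)
    fun X hX => by
      have h : KZero.cl X.X₂ = KZero.cl X.X₁ + KZero.cl X.X₃ := by
        have h0 : QuotientAddGroup.mk (s := KZero.relAb A)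
            (FreeAbelianGroup.of X.X₂ - FreeAbelianGroup.of X.X₁ - FreeAbelianGroup.of X.X₃) = 0 :=
          (QuotientAddGroup.eq_zero_iff _).2 (AddSubgroup.subset_closure ⟨X, hX, rfl⟩)
        rw [QuotientAddGroup.mk_sub, QuotientAddGroup.mk_sub] at h0
        rw [← sub_eq_zero]
        unfold KZero.cl
        rw [← h0]
        abel
      simp only [T, Set.mem_setOf_eq]
      refine ⟨fun h₁ h₂ => ?_, fun h₁ h₃ => ?_, fun h₂ h₃ => ?_⟩
      · have := AddSubgroup.sub_mem _ h₂ h₁
        rwa [h, add_sub_cancel_left] at this
      · rw [h]; exact AddSubgroup.add_mem _ h₁ h₃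
      · have := AddSubgroup.sub_mem _ h₂ h₃
        rwa [h, add_sub_cancel_right] at this
  refine eq_top_iff.2 fun x hx => ?_
  clear hx
  obtain ⟨y, rfl⟩ := QuotientAddGroup.mk_surjective x
  induction y using FreeAbelianGroup.induction_on with
  | zero => exact AddSubgroup.zero_mem _
  | of X => exact (Set.eq_univ_iff_forall.1 hT X :)
  | neg X hX => exact AddSubgroup.neg_mem _ hX
  | add a b ha hb => exact AddSubgroup.add_mem _ ha hb

end Groth.Agent.S5615
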