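import Groth.Statements.S5616
import Groth.Agent.Lib.DerCat.ExtEffaceable
import Mathlib.Algebra.Homology.DerivedCategory.Ext.Map
-- import your own Groth.Agent.* helpers here

set_option autoImplicit false
universe w w' v v' u u'
open CategoryTheory CategoryTheory.Limits
open CohDer

namespace Groth.Agent.S5616

/-- Let φ : A ⥤ B be an exact functor of abelian categories and M an object of A. The following are
equivalent: (i) for every L in A and every n, the map Ext^n_A(L, M) → Ext^n_B(φ L, φ M) induced by φ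
is bijective; (ii) for every L the map Hom_A(L, M) → Hom_B(φ L, φ M) is bijective, and for every L,
every n ≥ 1 and every x ∈ Ext^n_B(φ L, φ M) there is an epimorphism L' ⟶ L of A such that x
precomposed with its image under φ vanishes. -/
theorem result
    {A : Type u} [Category.{v} A] [Abelian A] [HasExt.{w} A]
    {B : Type u'} [Category.{v'} B] [Abelian B] [HasExt.{w'} B]
    (φ : A ⥤ B) [φ.Additive] [PreservesFiniteLimits φ] [PreservesFiniteColimits φ] (M : A) :
    (∀ (L : A) (n : ℕ), Function.Bijective (fun f : Abelian.Ext.{w} L M n => Abelian.Ext.mapExactFunctor φ f)) ↔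
      ((∀ L : A, Function.Bijective (fun f : L ⟶ M => φ.map f)) ∧
        ∀ (L : A) (n : ℕ), 1 ≤ n → ∀ x : Abelian.Ext.{w'} (φ.obj L) (φ.obj M) n,
          ∃ (L' : A) (p : L' ⟶ L), Epi p ∧ (Abelian.Ext.mk₀ (φ.map p)).comp x (zero_add n) = 0) := by
  constructor
  · intro h
    refine ⟨fun L => ⟨fun f g hfg => ?_, fun g => ?_⟩, fun L n hn x => ?_⟩
    · have h₂ : Abelian.Ext.mapExactFunctor φ (Abelian.Ext.mk₀.{w} f) =
          Abelian.Ext.mapExactFunctor φ (Abelian.Ext.mk₀.{w} g) := by
        rw [Abelian.Ext.mapExactFunctor_mk₀, Abelian.Ext.mapExactFunctor_mk₀]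
        exact congrArg _ hfg
      exact (Abelian.Ext.mk₀_bijective _ _).1 ((h L 0).1 h₂)
    · obtain ⟨y, hy⟩ := (h L 0).2 (Abelian.Ext.mk₀ g)
      obtain ⟨f, rfl⟩ := (Abelian.Ext.mk₀_bijective L M).2 y
      exact ⟨f, (Abelian.Ext.mk₀_bijective _ _).1
        ((Abelian.Ext.mapExactFunctor_mk₀ φ f).symm.trans hy)⟩
    · obtain ⟨y, rfl⟩ := (h L n).2 x
      obtain ⟨L', p, hp, hpy⟩ := GrothLib.DerCat.exists_epi_comp_eq_zero (by omega) y
      refine ⟨L', p, hp, ?_⟩
      have h₂ := congrArg (Abelian.Ext.mapExactFunctor.{w, w'} φ) hpy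
      rwa [Abelian.Ext.mapExactFunctor_comp, Abelian.Ext.mapExactFunctor_mk₀,
        Abelian.Ext.mapExactFunctor_zero] at h₂
  · rintro ⟨h0, he⟩ L n
    induction n generalizing L with
    | zero =>
      refine ⟨fun a b hab => ?_, fun b => ?_⟩
      · obtain ⟨f, rfl⟩ := (Abelian.Ext.mk₀_bijective L M).2 a
        obtain ⟨g, rfl⟩ := (Abelian.Ext.mk₀_bijective L M).2 b
        exact congrArg _ ((h0 L).1 ((Abelian.Ext.mk₀_bijective _ _).1
          (((Abelian.Ext.mapExactFunctor_mk₀ φ f).symm.trans hab).trans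
            (Abelian.Ext.mapExactFunctor_mk₀ φ g))))
      · obtain ⟨g, rfl⟩ := (Abelian.Ext.mk₀_bijective _ _).2 b
        obtain ⟨f, hf⟩ := (h0 L).2 g
        exact ⟨Abelian.Ext.mk₀ f, (Abelian.Ext.mapExactFunctor_mk₀ φ f).trans (congrArg _ hf)⟩
    | succ n ih =>
      have key : ∀ {L' : A} (p : L' ⟶ L) [Epi p],
          (ShortComplex.mk (kernel.ι p) p (kernel.condition p)).ShortExact := fun p _ =>
        { exact := ShortComplex.exact_of_f_is_kernel _ (kernelIsKernel p) }
      refine ⟨fun a b hab => ?_, fun x => ?_⟩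
      · suffices ∀ y : Abelian.Ext.{w} L M (n + 1),
            Abelian.Ext.mapExactFunctor φ y = 0 → y = 0 from
          sub_eq_zero.1 (this (a - b) ((map_sub (φ.mapExtAddHom L M (n + 1)) a b).trans
            (sub_eq_zero.2 hab)))
        intro y hy
        obtain ⟨L', p, hp, hpy⟩ := GrothLib.DerCat.exists_epi_comp_eq_zero (by omega) y
        have hS := key p
        obtain ⟨z, rfl⟩ := Abelian.Ext.contravariant_sequence_exact₃ hS M y hpy (add_comm 1 n)
        rw [Abelian.Ext.mapExactFunctor_comp, Abelian.Ext.mapExactFunctor_extClass] at hy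
        obtain ⟨w₀, hw⟩ := Abelian.Ext.contravariant_sequence_exact₁ (hS.map_of_exact φ) (φ.obj M)
          (Abelian.Ext.mapExactFunctor φ z) (add_comm 1 n) hy
        obtain ⟨w₁, rfl⟩ := (ih L').2 w₀
        have hz : z = (Abelian.Ext.mk₀ (kernel.ι p)).comp w₁ (zero_add n) := (ih _).1 (by
          show Abelian.Ext.mapExactFunctor φ z = Abelian.Ext.mapExactFunctor φ _
          rw [Abelian.Ext.mapExactFunctor_comp, Abelian.Ext.mapExactFunctor_mk₀]
          exact hw.symm)
        rw [hz]
        exact hS.extClass_comp_assoc w₁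
      · obtain ⟨L', p, hp, hpx⟩ := he L (n + 1) (by omega) x
        have hS := key p
        obtain ⟨z, rfl⟩ := Abelian.Ext.contravariant_sequence_exact₃ (hS.map_of_exact φ) (φ.obj M) x
          hpx (add_comm 1 n)
        obtain ⟨z', rfl⟩ := (ih _).2 z
        refine ⟨hS.extClass.comp z' (add_comm 1 n), ?_⟩
        show Abelian.Ext.mapExactFunctor φ _ = _
        rw [Abelian.Ext.mapExactFunctor_comp, Abelian.Ext.mapExactFunctor_extClass]
        rfl

end Groth.Agent.S5616
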