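import Groth.Statements.S5617
import Groth.Agent.Lib.PC.Devissage

set_option autoImplicit false
universe w v u
open CategoryTheory CategoryTheory.Limits
open PCoh

open GrothLib.PC

namespace Groth.Agent.S5617

/-- First assertion (punctual site): let C be an abelian category and C₀ a strictly full additive
subcategory, quasi-stable under kernels of epimorphisms and quasi-liftable, and n < m. If F ∈ D(C)
is n-pseudo-coherent and acyclic in degrees ≥ m, then F is isomorphic in D(C) to a strictly
n-pseudo-coherent complex E with E^i = 0 for i ≥ m. -/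
theorem result {C : Type u} [Category.{v} C] [Abelian C] [HasDerivedCategory.{w} C]
    (P : ObjectProperty C) [P.IsClosedUnderIsomorphisms] [P.ContainsZero] (hsum : ∀ X Y : C, P X → P Y → P (X ⨯ Y))
    (hqs : PCoh.IsQuasiStableUnderKernels P) (hql : PCoh.IsQuasiLiftable P)
    (n m : ℤ) (hnm : n < m) (F : DerivedCategory C) (hF : (∃ E : CochainComplex C ℤ, PCoh.IsStrictPC P n E ∧ Nonempty (DerivedCategory.Q.obj E ≅ F)))
    (hac : ∀ i : ℤ, m ≤ i → IsZero ((DerivedCategory.homologyFunctor C i).obj F)) :
    ∃ E : CochainComplex C ℤ, PCoh.IsStrictPC P n E ∧ (∀ i : ℤ, m ≤ i → IsZero (E.X i)) ∧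
      Nonempty (DerivedCategory.Q.obj E ≅ F) := exists_vanishing P hsum hqs hql hF hac

end Groth.Agent.S5617
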