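import Groth.Statements.S5620
import Groth.Agent.Lib.PC.Consequences

set_option autoImplicit false
universe w v u w' v' u'
open CategoryTheory CategoryTheory.Limits
open PCoh

open GrothLib.PC

namespace Groth.Agent.S5620

/-- Let (C, C₀) and (C', C₀') be abelian categories with strictly full additive subcategories, each
quasi-stable under kernels of epimorphisms and quasi-liftable, and let u : D(C) ⥤ D(C') be a
triangulated functor. Suppose there are integers a, b such that (i) for every E in C₀ the object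
u(E[0]) is a-pseudo-coherent relative to C₀', and (ii) u sends objects acyclic in degrees > 0 to
objects acyclic in degrees > b. Then if F ∈ D(C) is m-pseudo-coherent and acyclic in degrees > n,
u(F) is max(m + b, n + a)-pseudo-coherent relative to C₀' and acyclic in degrees > n + b. (The
source lets u be defined on D^+, D^- or D^b; here u is defined on all of D(C).) -/
theorem result {C : Type u} [Category.{v} C] [Abelian C] [HasDerivedCategory.{w} C]
    (P : ObjectProperty C) [P.IsClosedUnderIsomorphisms] [P.ContainsZero] (hsum : ∀ X Y : C, P X → P Y → P (X ⨯ Y))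
    (hqs : PCoh.IsQuasiStableUnderKernels P) (hql : PCoh.IsQuasiLiftable P)
    {C' : Type u'} [Category.{v'} C'] [Abelian C'] [HasDerivedCategory.{w'} C']
    (P' : ObjectProperty C') [P'.IsClosedUnderIsomorphisms] [P'.ContainsZero] (hsum' : ∀ X Y : C', P' X → P' Y → P' (X ⨯ Y))
    (hqs' : PCoh.IsQuasiStableUnderKernels P') (hql' : PCoh.IsQuasiLiftable P')
    (u : DerivedCategory C ⥤ DerivedCategory C') [u.CommShift ℤ] [u.IsTriangulated] (a b : ℤ)
    (hi : ∀ E : C, P E → ∃ E' : CochainComplex C' ℤ, PCoh.IsStrictPC P' a E' ∧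
      Nonempty (DerivedCategory.Q.obj E' ≅ u.obj ((DerivedCategory.singleFunctor C 0).obj E)))
    (hii : ∀ F : DerivedCategory C, (∀ i : ℤ, 0 < i → IsZero ((DerivedCategory.homologyFunctor C i).obj F)) →
      ∀ i : ℤ, b < i → IsZero ((DerivedCategory.homologyFunctor C' i).obj (u.obj F)))
    (m n : ℤ) (F : DerivedCategory C) (hF : (∃ E : CochainComplex C ℤ, PCoh.IsStrictPC P m E ∧ Nonempty (DerivedCategory.Q.obj E ≅ F)))
    (hac : ∀ i : ℤ, n < i → IsZero ((DerivedCategory.homologyFunctor C i).obj F)) :
    (∃ E' : CochainComplex C' ℤ, PCoh.IsStrictPC P' (max (m + b) (n + a)) E' ∧ Nonempty (DerivedCategory.Q.obj E' ≅ u.obj F)) ∧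
      ∀ i : ℤ, n + b < i → IsZero ((DerivedCategory.homologyFunctor C' i).obj (u.obj F)) := by
  have hle : ∀ (N : ℤ) (G : DerivedCategory C),
      (∀ i, N < i → IsZero ((DerivedCategory.homologyFunctor C i).obj G)) →
      ∀ i, N + b < i → IsZero ((DerivedCategory.homologyFunctor C' i).obj (u.obj G)) := by
    intro N G hG i hi'
    have : G.IsLE N := (DerivedCategory.isLE_iff _ _).2 hG
    have : (G⟦N⟧).IsLE 0 := DerivedCategory.TStructure.t.isLE_shift G N N 0
    have : (u.obj (G⟦N⟧)).IsLE b := (DerivedCategory.isLE_iff _ _).2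
      (hii _ fun j hj => DerivedCategory.isZero_of_isLE _ 0 j hj)
    have : ((u.obj G)⟦N⟧).IsLE b :=
      DerivedCategory.TStructure.t.isLE_of_iso
        (show u.obj (G⟦N⟧) ≅ (u.obj G)⟦N⟧ from (u.commShiftIso N).app G) b
    have : (u.obj G).IsLE (N + b) :=
      (DerivedCategory.TStructure.t.isLE_shift_iff (u.obj G) (N + b) N b).1 this
    exact DerivedCategory.isZero_of_isLE _ (N + b) i hi'
  refine ⟨?_, hle n F hac⟩
  obtain ⟨L, hL, hLz, ⟨e⟩⟩ := exists_vanishing P hsum hqs hql (m := n + 1) hF
    fun i hi' => hac i (by omega)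
  refine pcn_of_iso P' (u.mapIso e) ?_
  refine stupid_induction (fun G => PCn P' (max (m + b) (n + a)) (u.obj G))
    (fun e h => pcn_of_iso P' (u.mapIso e) h)
    (fun T hT h₁ h₃ => pcn_obj₂ P' hsum' hqs' hql' (u.map_distinguished T hT) h₁ h₃) m ?_ L n
    (fun i hi' => hLz i (by omega)) ?_
  · intro K hK
    exact pcn_of_isZero_homology P' fun i hi' =>
      hle (m - 1) _ (fun j hj => isZero_homology_of_isLE (hK j (by omega))) i (by omega)
  · intro i h1 h2 Y hY
    have hPY : P Y := P.prop_of_iso hY.some.symm (hL.2 i h1)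
    have h := pcn_shift P' (hi Y hPY) (-i)
    exact pcn_mono P' (by omega) (pcn_of_iso P' ((u.commShiftIso (-i)).symm.app _ ≪≫
      u.mapIso (((DerivedCategory.singleFunctors C).shiftIso (-i) i 0 (by omega)).app Y)) h)

end Groth.Agent.S5620
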