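import Groth.Statements.S5622
import Groth.Agent.Lib.PC.Perfect

set_option autoImplicit false
universe w v u
open CategoryTheory CategoryTheory.Limits
open PCoh

open GrothLib.PC

namespace Groth.Agent.S5622

/-- Let C be an abelian category and C₀ a strictly full additive subcategory, liftable and stable under
kernels of epimorphisms, and a ≤ b. For F', F'' in D(C): (i) ⇒ (ii), where (i) says F' and F'' have
perfect amplitude in [a, b] (each isomorphic to a strictly perfect complex vanishing outside [a, b])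
and (ii) says F' ⊞ F'' does; and (ii) ⇒ (i) when C₀ is stable under direct factors. -/
theorem result {C : Type u} [Category.{v} C] [Abelian C] [HasDerivedCategory.{w} C]
    (P : ObjectProperty C) [P.IsClosedUnderIsomorphisms] [P.ContainsZero] (hsum : ∀ X Y : C, P X → P Y → P (X ⨯ Y))
    (hlift : ∀ (E F : C) (u : E ⟶ F), Epi u → P F → IsSplitEpi u)
    (hst : ∀ (E F : C) (u : E ⟶ F), Epi u → P E → P F → P (kernel u))
    (a b : ℤ) (hab : a ≤ b) (F' F'' : DerivedCategory C) [HasBinaryBiproduct F' F''] :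
    (((∃ E : CochainComplex C ℤ, (∀ i : ℤ, P (E.X i)) ∧ (∀ i : ℤ, i < a ∨ b < i → IsZero (E.X i)) ∧ Nonempty (DerivedCategory.Q.obj E ≅ F')) ∧ (∃ E : CochainComplex C ℤ, (∀ i : ℤ, P (E.X i)) ∧ (∀ i : ℤ, i < a ∨ b < i → IsZero (E.X i)) ∧ Nonempty (DerivedCategory.Q.obj E ≅ F''))) →
        (∃ E : CochainComplex C ℤ, (∀ i : ℤ, P (E.X i)) ∧ (∀ i : ℤ, i < a ∨ b < i → IsZero (E.X i)) ∧ Nonempty (DerivedCategory.Q.obj E ≅ (F' ⊞ F'')))) ∧
      ((∀ (E' E'' : C) [HasBinaryBiproduct E' E''], P (E' ⊞ E'') → P E' ∧ P E'') →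
        (∃ E : CochainComplex C ℤ, (∀ i : ℤ, P (E.X i)) ∧ (∀ i : ℤ, i < a ∨ b < i → IsZero (E.X i)) ∧ Nonempty (DerivedCategory.Q.obj E ≅ (F' ⊞ F''))) →
          (∃ E : CochainComplex C ℤ, (∀ i : ℤ, P (E.X i)) ∧ (∀ i : ℤ, i < a ∨ b < i → IsZero (E.X i)) ∧ Nonempty (DerivedCategory.Q.obj E ≅ F')) ∧ (∃ E : CochainComplex C ℤ, (∀ i : ℤ, P (E.X i)) ∧ (∀ i : ℤ, i < a ∨ b < i → IsZero (E.X i)) ∧ Nonempty (DerivedCategory.Q.obj E ≅ F''))) := by
  have : PreservesBinaryBiproducts (DerivedCategory.Q (C := C)) :=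
    preservesBinaryBiproducts_of_preservesBiproducts _
  refine ⟨?_, fun hsd h => ?_⟩
  · rintro ⟨⟨E', hP', hz', ⟨e'⟩⟩, ⟨E'', hP'', hz'', ⟨e''⟩⟩⟩
    refine ⟨E' ⊞ E'', fun i => P.prop_of_iso (HomologicalComplex.biprodXIso E' E'' i).symm
      (prop_biprod P hsum (hP' i) (hP'' i)), fun i hi => ?_, ⟨DerivedCategory.Q.mapBiprod E' E'' ≪≫ biprod.mapIso e' e''⟩⟩
    exact ((biprod_isZero_iff _ _).2 ⟨hz' i hi, hz'' i hi⟩).of_iso (HomologicalComplex.biprodXIso E' E'' i)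
  obtain ⟨E, hP, hz, ⟨e⟩⟩ := h
  have hqs := isQuasiStable_of_stable P hst
  have hql := isQuasiLiftable_of_liftable P hlift
  have hpc : ∀ m, PCn P m F' ∧ PCn P m F'' := fun m => (pcn_biprod_iff P hsum hqs hql F' F'').1
    ⟨E, ⟨⟨b, fun i hi => hz i (Or.inr hi)⟩, fun i _ => hP i⟩, ⟨e⟩⟩
  have hH : ∀ i, i < a ∨ b < i → IsZero ((DerivedCategory.homologyFunctor C i).obj (F' ⊞ F'')) :=
    fun i hi => (isZero_homology_of_isLE (hz i hi)).of_iso
      ((DerivedCategory.homologyFunctor C i).mapIso e.symm)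
  obtain ⟨M', hM'z, hM'P, ⟨e'⟩⟩ := exists_truncated_of_summand P hlift hst hsum hab (fun m => (hpc m).1)
    (fun i hi => IsZero.of_mono ((DerivedCategory.homologyFunctor C i).map (biprod.inl : F' ⟶ F' ⊞ F'')) (hH i (Or.inl hi)))
    (fun i hi => IsZero.of_mono ((DerivedCategory.homologyFunctor C i).map (biprod.inl : F' ⟶ F' ⊞ F'')) (hH i (Or.inr hi)))
  obtain ⟨M'', hM''z, hM''P, ⟨e''⟩⟩ := exists_truncated_of_summand P hlift hst hsum hab (fun m => (hpc m).2)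
    (fun i hi => IsZero.of_mono ((DerivedCategory.homologyFunctor C i).map (biprod.inr : F'' ⟶ F' ⊞ F'')) (hH i (Or.inl hi)))
    (fun i hi => IsZero.of_mono ((DerivedCategory.homologyFunctor C i).map (biprod.inr : F'' ⟶ F' ⊞ F'')) (hH i (Or.inr hi)))
  have : PreservesBinaryBiproducts (DerivedCategory.Q (C := C)) :=
    preservesBinaryBiproducts_of_preservesBiproducts _
  have ha : P (M'.X a ⊞ M''.X a) := P.prop_of_iso (HomologicalComplex.biprodXIso M' M'' a)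
    (prop_first_term P hlift hst hsum (a := a) (b := b) (M' ⊞ M'')
      (fun i hi => ((biprod_isZero_iff _ _).2 ⟨hM'z i hi, hM''z i hi⟩).of_iso (HomologicalComplex.biprodXIso M' M'' i))
      (fun i hi => P.prop_of_iso (HomologicalComplex.biprodXIso M' M'' i).symm (prop_biprod P hsum (hM'P i hi) (hM''P i hi)))
      ⟨hP, hz⟩ (e ≪≫ (DerivedCategory.Q.mapBiprod M' M'' ≪≫ biprod.mapIso e' e'').symm))
  have hall : ∀ (M : CochainComplex C ℤ), (∀ i, i < a ∨ b < i → IsZero (M.X i)) → (∀ i, a < i → P (M.X i)) →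
      P (M.X a) → ∀ i, P (M.X i) := fun M hz hP ha i => by
    rcases lt_trichotomy i a with h | rfl | h
    · exact P.prop_of_isZero (hz i (Or.inl h))
    · exact ha
    · exact hP i h
  exact ⟨⟨M', hall M' hM'z hM'P (hsd _ _ ha).1, hM'z, ⟨e'⟩⟩,
    ⟨M'', hall M'' hM''z hM''P (hsd _ _ ha).2, hM''z, ⟨e''⟩⟩⟩

end Groth.Agent.S5622
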