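import Groth.Statements.S5626
import Groth.Agent.Lib.OX.PerfectCriterion
import Groth.Agent.Lib.OX.FlatLocFree
import Groth.Agent.Lib.OX.SingleDegree

set_option autoImplicit false
universe u
open CategoryTheory CategoryTheory.Limits AlgebraicGeometry
open FlatMod

namespace Groth.Agent.S5626

/-- For the Zariski topos of a scheme (a special case of both hypotheses (i) and (ii) there): on a
scheme X, a direct summand of a finite free O_X-module is finite locally free. Here M is a direct
summand of O_X^n in the sense that M ⊞ N ≅ O_X^n for some module N. -/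
theorem result {X : Scheme.{u}} (M N : X.Modules) [HasBinaryBiproduct M N] (n : ℕ)
    (e : M ⊞ N ≅ FlatMod.freeMod X n) :
    FlatMod.IsFinLocFree M := by
  let F := FlatMod.freeMod X n
  let i : M ⟶ F := biprod.inl ≫ e.hom
  let r : F ⟶ M := e.inv ≫ biprod.fst
  have hir : i ≫ r = 𝟙 M := by simp [i, r]
  have hfl : FlatMod.IsFlat M := (GrothLib.OX.flat_iff M).2 fun x ↦ by
    have := (GrothLib.OX.flat_iff F).1
      (GrothLib.OX.flat_of_isFinLocFree (GrothLib.OX.isFinLocFree_freeMod X n)) x
    exact Module.Flat.of_retract ((GrothLib.OX.stalk x).map i).hom ((GrothLib.OX.stalk x).map r).hom (by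
      rw [← ModuleCat.hom_comp, ← CategoryTheory.Functor.map_comp, hir, CategoryTheory.Functor.map_id]
      rfl)
  let p : F ⟶ F := 𝟙 F - r ≫ i
  let c : CokernelCofork p := CokernelCofork.ofπ r (by simp [p, Category.assoc, hir])
  let hc : IsColimit c := CokernelCofork.IsColimit.ofπ r _ (fun g _ ↦ i ≫ g)
    (fun g hg ↦ by
      simp only [p, Preadditive.sub_comp, Category.id_comp, Category.assoc, sub_eq_zero] at hg
      exact hg.symm)
    (fun g hg m hm ↦ by
      have : i ≫ g = i ≫ r ≫ m := by rw [hm]
      rw [this, ← Category.assoc, hir, Category.id_comp])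
  let ei : cokernel p ≅ M := IsColimit.coconePointUniqueUpToIso (cokernelIsCokernel p) hc
  exact GrothLib.DCoh.isFinLocFree_of_iso ei (GrothLib.OX.isFinLocFree_cokernel_of_flat p
    (GrothLib.OX.isFinLocFree_freeMod X n) (GrothLib.OX.isFinLocFree_freeMod X n)
    (GrothLib.OX.flat_of_iso ei.symm hfl))


end Groth.Agent.S5626
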