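import Groth.Statements.S5630
import Groth.Agent.Lib.KSix19.RpushAmp.Main
-- import your own Groth.Agent.* helpers here

set_option autoImplicit false
universe u
open CategoryTheory CategoryTheory.Limits AlgebraicGeometry
attribute [local instance] HasDerivedCategory.standard
open KSix

namespace Groth.Agent.S5630

/-- Over the base S = Y and for f flat: let f : X ⟶ Y be flat, quasi-compact and quasi-separated with Y
quasi-compact, and let N be an integer such that R^i f_* F = 0 for all i > N and all quasi-coherent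
O_X-modules F. If E ∈ D^b(O_X) has quasi-coherent cohomology and flat amplitude in [a, b] relative
to Y (represented by a complex of Y-flat modules placed in [a, b]), then Rf_* E has tor amplitude in
[a, b + N] on Y. (The source allows any S-morphism f and tor amplitude relative to S; the relative
notion used here is the flat-representative one, adequate for flat f.) -/
theorem result {X Y : Scheme.{u}} (f : X ⟶ Y) [Flat f] [QuasiCompact f] [QuasiSeparated f]
    [CompactSpace Y] [DCoh.HasRpush f] (N : ℕ)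
    (hN : ∀ (F : X.Modules), QCohCat.isQCoh X F →
      ∀ i : ℤ, (N : ℤ) < i → IsZero (DCoh.HD ((DCoh.Rpush f).obj (DCoh.inD X F)) i))
    (E : DCoh.D X) (hqc : DCoh.IsQCohD E) (c d : ℤ) [E.IsGE c] [E.IsLE d]
    (a b : ℤ) (hE : DCoh.HasRelFlatAmplitudeIn f a b E) :
    DCoh.HasTorAmplitudeIn a (b + N) ((DCoh.Rpush f).obj E) := by
  obtain ⟨E₀, hv, hfl, ⟨e₀⟩⟩ := hE
  let G := DerivedCategory.Q.objPreimage ((DCoh.Rpush f).obj E)
  let e : DCoh.toD Y G ≅ (DCoh.Rpush f).obj E := DerivedCategory.Q.objObjPreimageIso _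
  have hamp : DerSch.HasTorAmplitude f a b E₀ := (GrothLib.RelAmp22.hasTorAmplitude_iff f a b E₀).2 fun x =>
    GrothLib.RelAmp22.ampAt_of_relFlat f ⟨E₀, hv, hfl, ⟨Iso.refl _⟩⟩ x
  haveI : (DCoh.toD X E₀).IsGE c := DerivedCategory.TStructure.t.isGE_of_iso e₀.symm c
  haveI : (DCoh.toD X E₀).IsLE b := GrothLib.KSix19.isLE_of_torAmplitude f hamp
  have hq₀ : DCoh.IsQCohD (DCoh.toD X E₀) := GrothLib.KSix19.BettiExact.isQCohD_of_iso' e₀.symm hqc
  have hst : ∀ y : Y, DerSch.HasTorAmplitudeAt (𝟙 Y) a (b + N) G y := fun y => by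
    refine GrothLib.KSix19.RpushAmp.torAmplitudeD_Rpush f (𝟙 Y) f (Category.comp_id f) E₀ hq₀ (a := a) (b := b) ⊤
      (fun x _ => hamp x) (fun i hi => Functor.map_isZero _ ?_) G (e ≪≫ (DCoh.Rpush f).mapIso e₀.symm) (y := y) trivial
    exact (GrothLib.KSix19.RpushAmp.isZero_Rres_of_mod' f (N : ℤ) (fun M hM k hk => (hN M hM k hk).of_iso
        ((DerivedCategory.homologyFunctor _ k).mapIso ((GrothLib.OX.rpushIsoRres f).app _)).symm)
      (DCoh.toD X E₀) c b hq₀ i hi).of_iso
        ((DerivedCategory.homologyFunctor _ i).mapIso ((GrothLib.OX.rpushIsoRres f).app _))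
  exact GrothLib.OX.hasTorAmplitudeIn_of_amp
    (GrothLib.OX.amp_of_iso e (GrothLib.OX.amp_of_vanishesOutside (GrothLib.KSix19.flatAmplitude_of_stalks' hst)))

end Groth.Agent.S5630
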