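import Groth.Statements.S5631
import Groth.Agent.Lib.RelAmp22.BaseChange
-- import your own Groth.Agent.* helpers here

set_option autoImplicit false
universe u
open CategoryTheory CategoryTheory.Limits AlgebraicGeometry
attribute [local instance] HasDerivedCategory.standard
open KSix

namespace Groth.Agent.S5631

/-- For f flat (so that X and Y' are tor-independent over Y): let f : X ⟶ Y be flat, h : Y' ⟶ Y
arbitrary, X' = X ×_Y Y' with projections g : X' ⟶ X and f' : X' ⟶ Y', and E ∈ D⁻(O_X). If E has
flat amplitude in [a, b] relative to f (represented by a complex of Y-flat modules placed in [a, b])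
then Lg^* E has flat amplitude in [a, b] relative to f'. (The source assumes only tor-independence
of X and Y' over Y; the relative notion used here is the flat-representative one, adequate for flat
f and f'.) -/
theorem result {X Y Y' : Scheme.{u}} (f : X ⟶ Y) [Flat f] (h : Y' ⟶ Y)
    [DCoh.HasLpull (pullback.fst f h)] (E : DCoh.D X) (d : ℤ) [E.IsLE d] (a b : ℤ)
    (hE : DCoh.HasRelFlatAmplitudeIn f a b E) :
    DCoh.HasRelFlatAmplitudeIn (pullback.snd f h) a b ((DCoh.Lpull (pullback.fst f h)).obj E) := by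
  let p₁ := pullback.fst f h
  let p₂ := pullback.snd f h
  obtain ⟨P, hP, ⟨e⟩⟩ := GrothLib.OX.exists_kflat_rep E
  obtain ⟨v⟩ := GrothLib.OX.lpull_value p₁ P hP
  have hamp : ∀ z, GrothLib.RelAmp22.AmpAt p₂ a b ((DCoh.Lpull p₁).obj E) z := by
    have hF : DerSch.HasTorAmplitude f a b P :=
      (GrothLib.RelAmp22.hasTorAmplitude_iff f a b P).2 fun x =>
        GrothLib.RelAmp22.ampAt_of_iso f e.symm (GrothLib.RelAmp22.ampAt_of_relFlat f hE x)
    have HY : IsPullback h (𝟙 Y') (𝟙 Y) h := IsPullback.of_vert_isIso ⟨by simp⟩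
    haveI : Flat (f ≫ 𝟙 Y) := inferInstance
    have hD := GrothLib.KSix19.hasTorAmplitudeD_lpull_flat_base HY (IsPullback.of_hasPullback f h) hF
    intro z
    exact GrothLib.RelAmp22.ampAt_of_iso p₂ (v.symm ≪≫ (DCoh.Lpull p₁).mapIso e)
      ((GrothLib.RelAmp22.hasTorAmplitude_iff p₂ a b _).1 (hD _ ⟨v.symm⟩) z)
  by_cases hab : a ≤ b
  · exact GrothLib.RelAmp22.relFlat_of_amp p₂ hab hamp
  · obtain ⟨F, hF, -, ⟨eF⟩⟩ := hE
    have hz : IsZero F := (IsZero.iff_id_eq_zero _).2
      (HomologicalComplex.hom_ext _ _ fun i => (hF i (by omega)).eq_of_src _ _)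
    obtain ⟨w⟩ := GrothLib.OX.lpull_value p₁ F (GrothLib.OX.isKFlat_of_bounded_above F (a - 1)
      (fun i _ => hF i (by omega)) fun i x => by
        haveI := ModuleCat.subsingleton_of_isZero ((GrothLib.OX.stalk x).map_isZero (hF i (by omega)))
        exact (GrothLib.OX.flat_iff _).2 (fun y => by
          haveI := ModuleCat.subsingleton_of_isZero ((GrothLib.OX.stalk y).map_isZero (hF i (by omega)))
          infer_instance) x)
    refine ⟨((Scheme.Modules.pullback p₁).mapHomologicalComplex (ComplexShape.up ℤ)).obj F,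
      fun i _ => (Scheme.Modules.pullback p₁).map_isZero (hF i (by omega)), fun i x => ?_,
      ⟨w.symm ≪≫ (DCoh.Lpull p₁).mapIso eF⟩⟩
    refine (GrothLib.RelAmp22.flatOver_iff_relStalk p₂ _ x).2 ?_
    have hs : Subsingleton ((GrothLib.RelAmp22.relStalk p₂ x).obj
        ((((Scheme.Modules.pullback p₁).mapHomologicalComplex (ComplexShape.up ℤ)).obj F).X i)) :=
      ModuleCat.subsingleton_of_isZero ((GrothLib.RelAmp22.relStalk p₂ x).map_isZero
        ((Scheme.Modules.pullback p₁).map_isZero (hF i (by omega))))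
    exact @Module.Flat.of_free _ _ _ _ _ (@Module.Free.of_subsingleton _ _ _ _ _ hs)

end Groth.Agent.S5631
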