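import Groth.Statements.S5632
import Groth.Agent.Lib.SecDeg26.Degree
import Groth.Agent.Lib.ProjPic26.Relative
import Groth.Agent.Lib.Chow.Prod
import Groth.Agent.Lib.NefGrowth.IntNum
import Groth.Agent.Lib.Ample.ProjAmple

set_option autoImplicit false
universe u
open CategoryTheory CategoryTheory.Limits AlgebraicGeometry
open Pic13

namespace Groth.Agent.S5632

/-- Let k be an algebraically closed field, X ⊆ P^n_k an integral closed subscheme of dimension r = s +
1 ≥ 1, with O_X(1) and O_X(-1) the restrictions of O(1) and O(-1). Let L be an invertible O_X-module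
with inverse L' (L ⊗ L' ≅ O_X) whose degree (c₁(L)·c₁(O_X(1))^{r-1}) is ≤ 0 and with H^0(X, L) ≠ 0.
Then L ≅ O_X (so that its degree is 0 and h^0(L) = 1). Intersection numbers are those of FGA.intNum,
which takes the inverse modules L', O_X(-1) as arguments. -/
theorem result (k : Type u) [Field k] [IsAlgClosed k] (n : ℕ) (X : Scheme.{u}) [X.Over (Spec (CommRingCat.of k))]
    (i : X ⟶ CohB1.ProjSpace n k) [IsClosedImmersion i] (hi : i ≫ CohB1.ProjSpace.toSpec n k = X ↘ Spec (CommRingCat.of k))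
    [IsIntegral X] (s : ℕ) (hdim : topologicalKrullDim X = (s + 1 : ℕ))
    (L L' : X.Modules) (hL : PicF.IsInvertible L) (hLL' : Nonempty (CohB1.tensorMod L L' ≅ Coh.structureModule X))
    (hdeg : FGA.intNum k X (s + 1)
      (Matrix.vecCons L' (fun _ : Fin s => (Scheme.Modules.pullback i).obj (Twist.twistProjSpace n k (-1))))
      (Coh.structureModule X) ≤ 0)
    (hsec : Nontrivial (Coh.HH X L 0)) :
    Nonempty (L ≅ Coh.structureModule X) := by
  haveI : IsProper (CohB1.ProjSpace.toSpec n k) := GrothLib.Chow.isProper_toSpec n k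
  haveI : IsProper (X ↘ Spec (CommRingCat.of k)) := by rw [← hi]; infer_instance
  obtain ⟨z, hz⟩ := exists_ne (0 : Coh.HH X L 0)
  let t := GrothLib.FinCov.homOfSection (GrothLib.ProjCoh.H0top L z)
  have ht : t.app ⊤ (GrothLib.FinCov.one X ⊤) = GrothLib.ProjCoh.H0top L z :=
    (GrothLib.FinCov.homOfSection_one _ ⊤).trans (GrothLib.InvExt.mres_self L _)
  have ht0 : t ≠ 0 := fun h => hz ((GrothLib.ProjCoh.H0top L).injective (by rw [← ht, h, map_zero]; rfl))
  by_cases h : IsIso t
  · exact ⟨(asIso t).symm⟩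
  exfalso
  have hA : CohB1.IsAmple ((Scheme.Modules.pullback i).obj (Twist.twistProjSpace n k 1)) :=
    GrothLib.Ample.isAmple_pullback_of_isAffineHom i (GrothLib.Ample.isAmple_twistProjSpace_one n k)
  have hpos := GrothLib.SecDeg26.del_pos k hL ht0 h hdim hA
  obtain ⟨hL'i, hL'c⟩ := GrothLib.NefGrowth.cls_inverse hL (T := L')
    (by exact ⟨GrothLib.GrTilde.tensorModComm _ _ ≪≫ hLL'.some⟩)
  have hm1 := GrothLib.Ample.isInvertible_pullback i (GrothLib.ProjPic26.isInvertible_twistProjSpace n k (-1))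
  have hc : GrothLib.Cube.clsMod hm1 = (GrothLib.Cube.clsMod hA.1)⁻¹ := by
    have e1 : GrothLib.Cube.clsMod hm1 = GrothLib.Cube.pull i (GrothLib.ProjPic26.tw n k (-1)) :=
      GrothLib.Cube.clsMod_pullback i _
    have e2 : GrothLib.Cube.clsMod hA.1 = GrothLib.Cube.pull i (GrothLib.ProjPic26.tw n k 1) :=
      GrothLib.Cube.clsMod_pullback i _
    rw [e1, e2, ← map_inv]
    congr 1
    rw [GrothLib.ProjPic26.tw_eq_zpow, zpow_neg_one]
  rw [GrothLib.FGAInt26.intNum_eq k hdim.le (Fin.cases hL'i (fun _ => hm1))] at hdeg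
  refine absurd (lt_of_lt_of_le hpos (le_of_eq_of_le ?_ hdeg)) (lt_irrefl _)
  congr 1
  funext j
  refine Fin.cases ?_ (fun j => ?_) j
  · exact (eq_inv_of_mul_eq_one_left hL'c).symm
  · exact hc.symm

end Groth.Agent.S5632
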