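import Groth.Statements.S5642
-- import your own Groth.Agent.* helpers here
import Groth.Agent.Lib.K0Sub.Coh

set_option autoImplicit false
universe u
open CategoryTheory CategoryTheory.Limits AlgebraicGeometry
open Classical
open SGA6

namespace Groth.Agent.S5642

/-- Let X be a Noetherian scheme, K the Grothendieck group of coherent O_X-modules and Filt_m ⊆ K the
subgroup generated by the classes of coherent modules whose support has dimension ≤ m. Let F be
coherent with dim Supp(F) ≤ n. Then for the points x of X whose closure Z(x) has dimension n the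
stalk F_x has finite length, nonzero for only finitely many such x, and [F] ≡ Σ_x length(F_x)
[O_{Z(x)}] modulo Filt_{n-1}, where O_{Z(x)} is the structure sheaf of the reduced closed subscheme
Z(x) viewed as an O_X-module. -/
theorem result (X : Scheme.{u}) [IsNoetherian X] (n : ℕ) (F : X.Modules) (hF : Coh.IsCoh F)
    (hsupp : topologicalKrullDim ↥(CohB1.support F) ≤ n) :
    KZero.clSub (fun M : X.Modules => Coh.IsCoh M) F -
        (finsum fun x : ↥X => if topologicalKrullDim ↥(closure ({x} : Set ↥X)) = n then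
          (Module.length (X.presheaf.stalk x) (F.presheaf.stalk x)).toNat • KZero.clSub (fun M : X.Modules => Coh.IsCoh M) (Cyc.closureStructureSheaf x) else 0) ∈
      AddSubgroup.closure {c : KZero.K0sub (fun M : X.Modules => Coh.IsCoh M) |
        ∃ G : X.Modules, Coh.IsCoh G ∧ topologicalKrullDim ↥(CohB1.support G) < n ∧ c = KZero.clSub (fun M : X.Modules => Coh.IsCoh M) G} := by
  set P : ObjectProperty X.Modules := fun M : X.Modules => Coh.IsCoh M
  set H := AddSubgroup.closure {c : KZero.K0sub P |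
        ∃ G : X.Modules, Coh.IsCoh G ∧ topologicalKrullDim ↥(CohB1.support G) < n ∧ c = KZero.clSub P G}
  change KZero.clSub P F - GrothLib.K0Sub.cycleClass n F ∈ H
  suffices h : CohB1.support F ⊆ GrothLib.K0Sub.dimLE X n ∧
      KZero.clSub P F - GrothLib.K0Sub.cycleClass n F ∈ H from h.2
  refine GrothLib.QCoh.devissage (fun M => CohB1.support M ⊆ GrothLib.K0Sub.dimLE X n ∧
      KZero.clSub P M - GrothLib.K0Sub.cycleClass n M ∈ H) ?_ ?_ ?_ (GrothLib.K0Sub.dimLE X n) ?_ F hF
      (GrothLib.K0Sub.support_subset_dimLE hF hsupp)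
  · rintro M N ⟨e⟩ ⟨h1, h2⟩
    refine ⟨(GrothLib.QCoh.support_eq_of_iso e) ▸ h1, ?_⟩
    have hl : ∀ x : X, Module.length (X.presheaf.stalk x) (N.presheaf.stalk x) =
        Module.length (X.presheaf.stalk x) (M.presheaf.stalk x) := fun x =>
      ((GrothLib.OX.stalk x).mapIso e).toLinearEquiv.length_eq.symm
    rw [← GrothLib.K0Sub.clSub_coh_iso e]
    simp only [GrothLib.K0Sub.cycleClass, hl] at h2 ⊢
    exact h2
  · intro M hM
    refine ⟨by simp [GrothLib.K0Sub.support_eq_empty_of_isZero hM], ?_⟩
    have : ∀ x : X, Subsingleton (M.presheaf.stalk x) := fun x =>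
      ModuleCat.subsingleton_of_isZero (Functor.map_isZero (GrothLib.OX.stalk x) hM)
    rw [GrothLib.K0Sub.clSub_isZero hM]
    simp [GrothLib.K0Sub.cycleClass, Module.length_eq_zero, zero_mem]
  · intro S hS h1 h2 h3
    have e := GrothLib.K0Sub.clSub_add (P := P) hS h1 h2 h3
    haveI := hS.mono_f
    haveI := hS.epi_g
    have key : CohB1.support S.X₂ ⊆ GrothLib.K0Sub.dimLE X n →
        KZero.clSub P S.X₂ - GrothLib.K0Sub.cycleClass n S.X₂ =
          (KZero.clSub P S.X₁ - GrothLib.K0Sub.cycleClass n S.X₁) +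
          (KZero.clSub P S.X₃ - GrothLib.K0Sub.cycleClass n S.X₃) := fun hs => by
      rw [e, GrothLib.K0Sub.cycleClass_add hS h1 h2 h3 hs]
      abel
    refine ⟨fun a b => ⟨(GrothLib.QCoh.support_subset_of_epi S.g).trans b.1, ?_⟩,
      fun a c => ⟨(GrothLib.QCoh.support_subset_union hS).trans (Set.union_subset a.1 c.1), ?_⟩,
      fun b c => ⟨(GrothLib.QCoh.support_subset_of_mono S.f).trans b.1, ?_⟩⟩
    · rw [eq_sub_of_add_eq' (key b.1).symm]; exact sub_mem b.2 a.2
    · rw [key ((GrothLib.QCoh.support_subset_union hS).trans (Set.union_subset a.1 c.1))]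
      exact add_mem a.2 c.2
    · rw [eq_sub_of_add_eq (key b.1).symm]; exact sub_mem b.2 c.2
  · intro Z i _ _ hi
    obtain ⟨hc, hs, hst⟩ := GrothLib.K0Sub.closureSheaf_data (i (genericPoint Z))
    have hr := GrothLib.QCoh.closure_singleton_eq_range i
    refine ⟨_, hc, hr ▸ hs, hst, hs.trans (hr.le.trans hi), ?_⟩
    rw [GrothLib.K0Sub.cycleClass_closureSheaf _ (hi ⟨_, rfl⟩)]
    split_ifs with hd
    · rw [sub_self]; exact zero_mem _
    · rw [sub_zero]
      exact AddSubgroup.subset_closure ⟨_, hc,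
        (GrothLib.K0Sub.dim_support_closureSheaf_le _).trans_lt (lt_of_le_of_ne (hi ⟨_, rfl⟩) hd), rfl⟩

end Groth.Agent.S5642
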