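import Groth.Statements.S5643
-- import your own Groth.Agent.* helpers here
import Groth.Agent.Lib.K0Sub.Coh

set_option autoImplicit false
universe u
open CategoryTheory CategoryTheory.Limits AlgebraicGeometry
open Classical
open SGA6

namespace Groth.Agent.S5643

/-- Let X be a Noetherian scheme and K the Grothendieck group of coherent O_X-modules. For every n, the
subgroup of K generated by the classes of coherent modules whose support has dimension ≤ n coincides
with the subgroup generated by the classes [O_Z] of the structure sheaves (as O_X-modules) of the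
integral closed subschemes Z ⊆ X of dimension ≤ n, Z running over the reduced closures of points of
X. -/
theorem result (X : Scheme.{u}) [IsNoetherian X] (n : ℕ) :
    AddSubgroup.closure {c : KZero.K0sub (fun M : X.Modules => Coh.IsCoh M) |
        ∃ G : X.Modules, Coh.IsCoh G ∧ topologicalKrullDim ↥(CohB1.support G) ≤ n ∧ c = KZero.clSub (fun M : X.Modules => Coh.IsCoh M) G} =
      AddSubgroup.closure {c : KZero.K0sub (fun M : X.Modules => Coh.IsCoh M) |
        ∃ x : ↥X, topologicalKrullDim ↥(closure ({x} : Set ↥X)) ≤ n ∧ c = KZero.clSub (fun M : X.Modules => Coh.IsCoh M) (Cyc.closureStructureSheaf x)} := by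
  set P : ObjectProperty X.Modules := fun M : X.Modules => Coh.IsCoh M
  set H := AddSubgroup.closure {c : KZero.K0sub P |
        ∃ x : ↥X, topologicalKrullDim ↥(closure ({x} : Set ↥X)) ≤ n ∧ c = KZero.clSub P (Cyc.closureStructureSheaf x)}
  refine le_antisymm ((AddSubgroup.closure_le _).mpr ?_) ((AddSubgroup.closure_le _).mpr ?_)
  · rintro _ ⟨G, hG, hdim, rfl⟩
    let Q : X.Modules → Prop := fun M => Coh.IsCoh M ∧
      CohB1.support M ⊆ GrothLib.K0Sub.dimLE X n → KZero.clSub P M ∈ H
    suffices h : CohB1.support G ⊆ GrothLib.K0Sub.dimLE X n ∧ KZero.clSub P G ∈ H from h.2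
    refine GrothLib.QCoh.devissage (fun M => CohB1.support M ⊆ GrothLib.K0Sub.dimLE X n ∧
      KZero.clSub P M ∈ H) ?_ ?_ ?_ (GrothLib.K0Sub.dimLE X n) ?_ G hG
      (GrothLib.K0Sub.support_subset_dimLE hG hdim)
    · rintro M N ⟨e⟩ ⟨h1, h2⟩
      exact ⟨(GrothLib.QCoh.support_eq_of_iso e) ▸ h1, GrothLib.K0Sub.clSub_coh_iso e ▸ h2⟩
    · intro M hM
      refine ⟨by simp [GrothLib.K0Sub.support_eq_empty_of_isZero hM],
        by rw [GrothLib.K0Sub.clSub_isZero hM]; exact zero_mem _⟩
    · intro S hS h1 h2 h3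
      have e := GrothLib.K0Sub.clSub_add (P := P) hS h1 h2 h3
      haveI := hS.mono_f
      haveI := hS.epi_g
      refine ⟨fun a b => ⟨(GrothLib.QCoh.support_subset_of_epi S.g).trans b.1, ?_⟩,
        fun a c => ⟨(GrothLib.QCoh.support_subset_union hS).trans (Set.union_subset a.1 c.1), ?_⟩,
        fun b c => ⟨(GrothLib.QCoh.support_subset_of_mono S.f).trans b.1, ?_⟩⟩
      · rw [eq_sub_of_add_eq' e.symm]; exact sub_mem b.2 a.2
      · rw [e]; exact add_mem a.2 c.2
      · rw [eq_sub_of_add_eq e.symm]; exact sub_mem b.2 c.2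
    · intro Z i _ _ hi
      obtain ⟨hc, hs, hst⟩ := GrothLib.K0Sub.closureSheaf_data (i (genericPoint Z))
      have hr := GrothLib.QCoh.closure_singleton_eq_range i
      refine ⟨_, hc, hr ▸ hs, hst, hs.trans (hr.le.trans hi), AddSubgroup.subset_closure
        ⟨_, hi ⟨_, rfl⟩, rfl⟩⟩
  · rintro _ ⟨x, hx, rfl⟩
    exact AddSubgroup.subset_closure ⟨_, (GrothLib.K0Sub.closureSheaf_data x).1,
      (GrothLib.K0Sub.dim_support_closureSheaf_le x).trans hx, rfl⟩

end Groth.Agent.S5643
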