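import Groth.Statements.S5644
import Groth.Agent.Lib.FGAInt26.Hilbert
import Groth.Agent.Lib.Chow.Prod
import Groth.Agent.Lib.HomSh.Coherent

set_option autoImplicit false
universe u
open CategoryTheory CategoryTheory.Limits AlgebraicGeometry
open Pic13

namespace Groth.Agent.S5644

/-- Let k be an algebraically closed field, X ⊆ P^n_k an integral closed subscheme of dimension r = s +
1, O_X(1) and O_X(-1) the restrictions of O(1) and O(-1), and L an invertible O_X-module with
inverse L'. Write the Hilbert polynomials in the binomial basis, χ(L(m)) = Σ_{j ≤ r} a_j C(m+j, j)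
and χ(O_X(m)) = Σ_{j ≤ r} e_j C(m+j, j) for m ≥ 0 (Euler characteristics in degrees ≤ r). Then (i)
a_r = e_r = (c₁(O_X(1))^r), the degree of X, and (ii) a_{r-1} - e_{r-1} = (c₁(L)·c₁(O_X(1))^{r-1}),
the degree of L. Intersection numbers are those of FGA.intNum, which takes the inverse modules L',
O_X(-1) as arguments. -/
theorem result (k : Type u) [Field k] [IsAlgClosed k] (n : ℕ) (X : Scheme.{u}) [X.Over (Spec (CommRingCat.of k))]
    (i : X ⟶ CohB1.ProjSpace n k) [IsClosedImmersion i] (hi : i ≫ CohB1.ProjSpace.toSpec n k = X ↘ Spec (CommRingCat.of k))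
    [IsIntegral X] (s : ℕ) (hdim : topologicalKrullDim X = (s + 1 : ℕ))
    (L L' : X.Modules) (hL : PicF.IsInvertible L) (hLL' : Nonempty (CohB1.tensorMod L L' ≅ Coh.structureModule X))
    (a e : Fin (s + 2) → ℤ)
    (ha : ∀ m : ℕ, FGA.eulerCharLE k X (Pic13.twistOn k i L m) (s + 1) = ∑ j : Fin (s + 2), a j * ((m + j).choose j : ℤ))
    (he : ∀ m : ℕ, FGA.eulerCharLE k X (Pic13.twistOn k i (Coh.structureModule X) m) (s + 1) =
      ∑ j : Fin (s + 2), e j * ((m + j).choose j : ℤ)) :
    a (Fin.last (s + 1)) = e (Fin.last (s + 1)) ∧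
      a (Fin.last (s + 1)) = FGA.intNum k X (s + 1)
        (fun _ : Fin (s + 1) => (Scheme.Modules.pullback i).obj (Twist.twistProjSpace n k (-1))) (Coh.structureModule X) ∧
      a (Fin.castSucc (Fin.last s)) - e (Fin.castSucc (Fin.last s)) = FGA.intNum k X (s + 1)
        (Matrix.vecCons L' (fun _ : Fin s => (Scheme.Modules.pullback i).obj (Twist.twistProjSpace n k (-1))))
        (Coh.structureModule X) := by
  haveI : IsProper (CohB1.ProjSpace.toSpec n k) := GrothLib.Chow.isProper_toSpec n k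
  haveI : IsProper (X ↘ Spec (CommRingCat.of k)) := by rw [← hi]; infer_instance
  haveI := GrothLib.Euler.isNoetherian_of_proper (X := X) k
  let O := Coh.structureModule X
  let c : ℤ → GrothLib.Cube.Pic X := fun j => GrothLib.Cube.pull i (GrothLib.ProjPic26.tw n k j)
  have hc : ∀ j, GrothLib.Cube.HasCls ((Scheme.Modules.pullback i).obj (Twist.twistProjSpace n k j)) (c j) :=
    fun j => ⟨_, GrothLib.Cube.clsMod_pullback i (GrothLib.ProjPic26.isInvertible_twistProjSpace n k j)⟩
  have hpow : ∀ j : ℤ, c j = c 1 ^ j := fun j => by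
    show GrothLib.Cube.pull i _ = _
    rw [GrothLib.ProjPic26.tw_eq_zpow, map_zpow]
  have hO : Coh.IsCoh (Coh.structureModule X) := GrothLib.HomSh.isCoh_structureModule X
  obtain ⟨hL'i, hL'c⟩ := GrothLib.NefGrowth.cls_inverse hL (T := L')
    (by exact ⟨GrothLib.GrTilde.tensorModComm _ _ ≪≫ hLL'.some⟩)
  have hl' : GrothLib.Cube.clsMod hL'i = (GrothLib.Cube.clsMod hL)⁻¹ := eq_inv_of_mul_eq_one_left hL'c
  have hev : ∀ (M : X.Modules) (z : GrothLib.Cube.Pic X), GrothLib.Cube.HasCls M z → ∀ m : ℕ,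
      FGA.eulerCharLE k X (Pic13.twistOn k i M m) (s + 1) = GrothLib.FGAInt26.ev k O (z * c 1 ^ m) := by
    intro M z hM m
    rw [GrothLib.FGAInt26.eulerCharLE_eq k hdim.le,
      GrothLib.FGAInt26.euler_eq_ev k (L := Pic13.twistOn k i M m) (hM.tensor (hc m)), hpow m, zpow_natCast]
  obtain ⟨h1, h2, h3⟩ := GrothLib.FGAInt26.coeff_top k (h := c 1) (l := GrothLib.Cube.clsMod hL) hO hdim.le a e
    (fun m => (hev L _ (GrothLib.Cube.hasCls_clsMod hL) m).symm.trans (ha m))
    (fun m => (hev O 1 (GrothLib.Cube.hasCls_structureModule X) m).symm.trans (he m))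
  obtain ⟨hi1, hi2⟩ := hc (-1)
  have hm1 : GrothLib.Cube.clsMod hi1 = (c 1)⁻¹ := by rw [hi2, hpow (-1), zpow_neg_one]
  refine ⟨h1, ?_, ?_⟩
  · rw [h2, GrothLib.FGAInt26.intNum_eq k hdim.le (fun _ => hi1), hm1]
  · rw [h3, GrothLib.FGAInt26.intNum_eq k hdim.le (Fin.cases hL'i (fun _ => hi1))]
    congr 1
    funext j
    refine Fin.cases ?_ (fun j => ?_) j
    · exact hl'.symm
    · exact hm1.symm

end Groth.Agent.S5644
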