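import Groth.Statements.S5654
import Groth.Agent.Lib.AffHom13.Basic
-- import your own Groth.Agent.* helpers here

set_option autoImplicit false
universe u
open CategoryTheory MonoidalCategory CartesianMonoidalCategory MonObj GrpObj AlgebraicGeometry
open GrpSch

namespace Groth.Agent.S5654

/-- Let k be a field, P and Q group schemes locally of finite type over k and f : P ⟶ Q a homomorphism
of k-group schemes whose underlying morphism of schemes is quasi-affine. Then f is affine. -/
theorem result (k : Type u) [Field k] (P Q : Over (Spec (CommRingCat.of k))) [GrpObj P] [GrpObj Q]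
    [LocallyOfFiniteType P.hom] [LocallyOfFiniteType Q.hom] (f : P ⟶ Q) [IsMonHom f] (hf : Mor2.IsQuasiAffine f.left) :
    IsAffineHom f.left := by
  haveI : QuasiCompact f.left := hf.1
  exact GrothLib.AffHom13.isAffineHom_of_isQuasiAffine f hf.2
end Groth.Agent.S5654
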