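import Groth.Statements.S5656
import Mathlib.Topology.Algebra.Polynomial
import Mathlib.Analysis.SpecificLimits.Basic
import Mathlib.RingTheory.Polynomial.Pochhammer

set_option autoImplicit false
universe u
open W4sga6xxiii

namespace Groth.Agent.S5656

open Polynomial

/-- a polynomial map is polynomial on every cyclic subgroup -/
lemma exists_poly {G : Type u} [AddCommGroup G] {f : G → ℚ} (hf : W4sga6xxiii.IsPolyMap f) (x : G) :
    ∃ q : ℚ[X], ∀ t : ℤ, q.eval (t : ℚ) = f (t • x) := by
  obtain ⟨m, y, -, hy⟩ := hf 1 fun _ => x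
  refine ⟨∑ k, C (y k / ((k 0 : ℕ).factorial : ℚ)) * descPochhammer ℚ (k 0 : ℕ), fun t => ?_⟩
  have h := hy fun _ => t
  simp only [Fin.sum_univ_one, Fin.prod_univ_one] at h
  rw [h, eval_finsetSum]
  refine Finset.sum_congr rfl fun k _ => ?_
  have e : ((Ring.choose t (k 0 : ℕ) : ℤ) : ℚ) * ((k 0 : ℕ).factorial : ℚ) =
      (descPochhammer ℚ (k 0 : ℕ)).eval (t : ℚ) := by
    have h1 := Ring.descPochhammer_eq_factorial_smul_choose t (k 0 : ℕ)
    rw [nsmul_eq_mul, ← eval_eq_smeval] at h1
    rw [← descPochhammer_map (Int.castRingHom ℚ), eval_intCast_map, Int.cast_id, h1, mul_comm]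
    simp
  rw [eval_mul, eval_C, ← e, zsmul_eq_mul]
  field_simp

lemma eq_of_roots {q : ℚ[X]} {c : ℚ} {s : ℕ → ℚ} (hs : Function.Injective s)
    (h : ∀ j, q.eval (s j) = c) : q = C c := by
  refine Polynomial.eq_of_infinite_eval_eq _ _ ((Set.infinite_range_of_injective hs).mono ?_)
  rintro _ ⟨j, rfl⟩
  simpa using h j

/-- Let G be an abelian group and G' ⊆ G a subgroup which is divisible by some prime number p (every
element of G' is p times an element of G') and such that G/G' is a torsion group. Then every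
polynomial map f : G → ℚ (admitting binomial expansions f(Σ n_i x_i) = Σ_k Π_i C(n_i, k_i) y_k along
every finite sequence x) which takes only integer values is constant. -/
theorem result {G : Type u} [AddCommGroup G] (G' : AddSubgroup G)
    (p : ℕ) (hp : p.Prime) (hdiv : ∀ x ∈ G', ∃ y ∈ G', p • y = x) (htor : ∀ x : G, ∃ n : ℤ, n ≠ 0 ∧ n • x ∈ G')
    (f : G → ℚ) (hf : W4sga6xxiii.IsPolyMap f) (hint : ∀ x, ∃ z : ℤ, f x = z) (x : G) : f x = f 0 := by
  -- constant on `G'`
  have hG' : ∀ g ∈ G', ∀ t : ℤ, f (t • g) = f 0 := by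
    intro g hg
    choose! r hr1 hr2 using hdiv
    let y : ℕ → G := fun j => r^[j] g
    have hy : ∀ j, y j ∈ G' := by
      intro j
      induction j with
      | zero => exact hg
      | succ j ih => simp only [y, Function.iterate_succ', Function.comp_apply]; exact hr1 _ ih
    have hyp : ∀ j, ((p ^ j : ℕ) : ℤ) • y j = g := by
      intro j
      induction j with
      | zero => simp [y]
      | succ j ih =>
        rw [pow_succ, Nat.cast_mul, mul_smul, natCast_zsmul, natCast_zsmul]
        simp only [y, Function.iterate_succ', Function.comp_apply]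
        rw [hr2 _ (hy j), ← natCast_zsmul]
        exact ih
    choose q hq using fun j => exists_poly hf (y j)
    have hp0 : (p : ℚ) ≠ 0 := Nat.cast_ne_zero.2 hp.ne_zero
    have key : ∀ j, (q 0).eval (((p : ℚ)⁻¹) ^ j) = f (y j) := by
      intro j
      have : (q 0).comp (C ((((p : ℚ)⁻¹)) ^ j) * X) = q j := by
        have inj : Function.Injective fun t : ℕ => (p : ℚ) ^ j * (t : ℚ) := fun a b h => by
          simpa [hp0] using h
        refine Polynomial.eq_of_infinite_eval_eq _ _ ((Set.infinite_range_of_injective inj).mono ?_)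
        rintro _ ⟨t, rfl⟩
        simp only [Set.mem_setOf_eq, eval_comp, eval_mul, eval_C, eval_X]
        rw [← mul_assoc, ← mul_pow, inv_mul_cancel₀ hp0, one_pow, one_mul,
          show (p : ℚ) ^ j * (t : ℚ) = (((t * p ^ j : ℕ) : ℤ) : ℚ) by push_cast; ring, hq j,
          Nat.cast_mul, mul_smul, hyp, show (t : ℚ) = ((t : ℤ) : ℚ) by simp, hq 0]
        simp [y]
      have h1 := hq j 1
      rw [← this, one_smul] at h1
      simpa using h1
    have hlim : Filter.Tendsto (fun j => (q 0).eval (((p : ℚ)⁻¹) ^ j)) Filter.atTop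
        (nhds ((q 0).eval 0)) :=
      ((q 0).continuous.tendsto 0).comp (tendsto_pow_atTop_nhds_zero_of_lt_one (by positivity)
        (inv_lt_one_of_one_lt₀ (by exact_mod_cast hp.one_lt)))
    have h00 : (q 0).eval 0 = f 0 := by simpa using hq 0 0
    obtain ⟨z0, hz0⟩ := hint 0
    obtain ⟨J, hJ⟩ := (Metric.tendsto_atTop.1 hlim) 1 one_pos
    have hC : q 0 = C (f 0) := by
      refine eq_of_roots (s := fun j => ((p : ℚ)⁻¹) ^ (J + j)) ?_ fun j => ?_
      · intro a b h
        have h1 : ((p : ℚ)) ^ (J + a) = (p : ℚ) ^ (J + b) := inv_injective (by simpa [inv_pow] using h)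
        have := Nat.pow_right_injective hp.two_le (a₁ := J + a) (a₂ := J + b) (by exact_mod_cast h1)
        omega
      · obtain ⟨z, hz⟩ := hint (y (J + j))
        have := hJ (J + j) (Nat.le_add_right _ _)
        rw [key, h00, hz, hz0, Rat.dist_eq] at this
        have h1 : ((|z - z0| : ℤ) : ℝ) < ((1 : ℤ) : ℝ) := by push_cast at this ⊢; exact this
        have h2 : |z - z0| < 1 := Int.cast_lt.1 h1
        rw [key, hz, hz0, sub_eq_zero.1 (Int.abs_lt_one_iff.1 h2)]
    intro t
    have := hq 0 t
    rw [hC, eval_C] at this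
    simpa [y] using this.symm
  obtain ⟨n, hn, hnx⟩ := htor x
  obtain ⟨q, hq⟩ := exists_poly hf x
  have hC : q = C (f 0) := by
    refine eq_of_roots (s := fun j : ℕ => (((j : ℤ) * n : ℤ) : ℚ)) (fun a b h => ?_) fun j => ?_
    · simpa [hn] using h
    · rw [hq, mul_smul]
      exact hG' _ hnx _
  have := hq 1
  rw [hC, eval_C, one_smul] at this
  exact this.symm

end Groth.Agent.S5656
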