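import Groth.Statements.S5657
import Mathlib.RingTheory.Binomial
import Mathlib.Algebra.BigOperators.Ring.Finset

set_option autoImplicit false
universe u
open TensorProduct
open W4sga6xxiii

namespace Groth.Agent.S5657

/-- Let A be a commutative ring, I an ideal of A with I^{m+1} = 0, and P ⊆ Aˣ the subgroup of units of
the form 1 + y with y ∈ I. Then the map P → A ⊗_ℤ ℚ, x ↦ x ⊗ 1, is a polynomial map of degree ≤ m on
the abelian group P (written additively): along every finite sequence x_1, …, x_r in P one has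
x_1^{n_1}⋯x_r^{n_r} ⊗ 1 = Σ_k Π_i C(n_i, k_i) y_k with y_k = 0 whenever k_1 + ⋯ + k_r > m. -/
theorem result (A : Type u) [CommRing A] (I : Ideal A) (m : ℕ) (hI : I ^ (m + 1) = ⊥)
    (P : Subgroup Aˣ) (hP : ∀ u : Aˣ, u ∈ P ↔ (u : A) - 1 ∈ I) :
    W4sga6xxiii.IsPolyMapLE (fun u : Additive P => (((Additive.toMul u : P) : Aˣ) : A) ⊗ₜ[ℤ] (1 : ℚ)) m := by
  classical
  intro r x
  let y : Fin r → A := fun i => (((Additive.toMul (x i) : P) : Aˣ) : A) - 1
  have hy : ∀ i, y i ∈ I := fun i => (hP _).1 (Additive.toMul (x i) : P).2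
  let S : A → ℤ → A := fun z n => ∑ k : Fin (m + 1), Ring.choose n (k : ℕ) • z ^ (k : ℕ)
  have hS : ∀ z ∈ I, ∀ n : ℤ, S z (n + 1) = S z n * (1 + z) := by
    intro z hz n
    have hz0 : z ^ (m + 1) = 0 := by
      rw [← Ideal.mem_bot, ← hI]; exact Ideal.pow_mem_pow hz _
    simp only [S, mul_add, mul_one, Finset.sum_mul, smul_mul_assoc, ← pow_succ]
    rw [Fin.sum_univ_succ, Fin.sum_univ_succ (f := fun k : Fin (m + 1) => Ring.choose n (k : ℕ) • z ^ (k : ℕ)),
      Fin.sum_univ_castSucc (f := fun k : Fin (m + 1) => Ring.choose n (k : ℕ) • z ^ ((k : ℕ) + 1))]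
    simp only [Fin.val_zero, Ring.choose_zero_right, Fin.val_succ, Ring.choose_succ_succ, add_smul,
      Finset.sum_add_distrib, Fin.val_castSucc, Fin.val_last, hz0, smul_zero, add_zero]
    ring
  have hunit : ∀ i, IsUnit (1 + y i) := fun i => ⟨((Additive.toMul (x i) : P) : Aˣ), by simp [y]⟩
  have hS0 : ∀ z : A, S z 0 = 1 := fun z => by
    simp only [S, Fin.sum_univ_succ, Fin.val_zero, Ring.choose_zero_right, Fin.val_succ, Ring.choose_zero_succ,
      zero_smul, Finset.sum_const_zero, add_zero, pow_zero, one_smul]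
  have hpow : ∀ i, ∀ n : ℤ, ((((Additive.toMul (x i) : P) : Aˣ) ^ n : Aˣ) : A) = S (y i) n := by
    intro i n
    have hu : (((Additive.toMul (x i) : P) : Aˣ) : A) = 1 + y i := by simp [y]
    induction n with
    | zero => rw [hS0, zpow_zero, Units.val_one]
    | succ n ih => rw [zpow_add_one, Units.val_mul, ih, hS _ (hy i), hu]
    | pred n ih =>
      have h := hS _ (hy i) (-(n : ℤ) - 1)
      rw [sub_add_cancel, ← ih] at h
      apply (hunit i).mul_right_cancel
      rw [← h, ← hu, ← Units.val_mul, ← zpow_add_one, sub_add_cancel]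
  refine ⟨fun k => (∏ i, y i ^ (k i : ℕ)) ⊗ₜ[ℤ] (1 : ℚ), fun k hk => ?_, fun n => ?_⟩
  · have h0 : (∏ i, y i ^ (k i : ℕ)) ∈ I ^ (∑ i, (k i : ℕ)) := by
      rw [← Finset.prod_pow_eq_pow_sum]
      exact Ideal.prod_mem_prod fun i _ => Ideal.pow_mem_pow (hy i) _
    have h1 := (Ideal.pow_le_pow_right (Nat.succ_le_of_lt hk)) h0
    rw [Nat.succ_eq_add_one, hI, Ideal.mem_bot] at h1
    simp only [h1, TensorProduct.zero_tmul]
  · have e : (((Additive.toMul (∑ i, n i • x i) : P) : Aˣ) : A) =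
        ∑ k : Fin r → Fin (m + 1), (∏ i, Ring.choose (n i) (k i : ℕ)) • ∏ i, y i ^ (k i : ℕ) := by
      rw [show (Additive.toMul (∑ i, n i • x i) : P) = ∏ i, (Additive.toMul (x i) : P) ^ n i from by
        simp [toMul_sum]]
      rw [SubmonoidClass.coe_finsetProd, Units.coe_prod]
      simp only [SubgroupClass.coe_zpow, hpow, S]
      rw [Fintype.prod_sum]
      exact Finset.sum_congr rfl fun k _ => by simp only [zsmul_eq_mul, Finset.prod_mul_distrib, Int.cast_prod]
    simp only [e, TensorProduct.sum_tmul]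
    exact Finset.sum_congr rfl fun k _ => TensorProduct.smul_tmul' _ _ _ |>.symm


end Groth.Agent.S5657
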