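import Groth.Statements.S5658
import Mathlib

set_option autoImplicit false
universe u
open CAlg

namespace Groth.Agent.S5658

open Matrix
open scoped commutatorElement

variable {n : ℕ}

/-- The elements of `SL_n` which are commutators in `GL_n`. -/
def T (R : Type u) [CommRing R] (n : ℕ) : Subgroup (SpecialLinearGroup (Fin n) R) :=
  (commutator (GeneralLinearGroup (Fin n) R)).comap SpecialLinearGroup.toGL

/-- An elementary matrix. -/
def E {R : Type u} [CommRing R] {i j : Fin n} (h : i ≠ j) (c : R) : SpecialLinearGroup (Fin n) R :=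
  ⟨Matrix.transvection i j c, Matrix.det_transvection_of_ne i j h c⟩

theorem E_mem {R : Type u} [CommRing R] (w : Rˣ) (hw : IsUnit ((w : R) - 1)) {i j : Fin n} (h : i ≠ j) (c : R) :
    E h c ∈ T R n := by
  obtain ⟨v, hv⟩ := hw.exists_left_inv
  let δ : Fin n → R := fun k => if k = i then (w : R) else 1
  let δ' : Fin n → R := fun k => if k = i then ((w⁻¹ : Rˣ) : R) else 1
  let D : GeneralLinearGroup (Fin n) R := ⟨diagonal δ, diagonal δ',
    by rw [diagonal_mul_diagonal, ← diagonal_one]; congr 1; funext k; simp only [δ, δ']; split_ifs <;> simp,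
    by rw [diagonal_mul_diagonal, ← diagonal_one]; congr 1; funext k; simp only [δ, δ']; split_ifs <;> simp⟩
  let e : GeneralLinearGroup (Fin n) R := SpecialLinearGroup.toGL (E h (v * c))
  show SpecialLinearGroup.toGL (E h c) ∈ commutator (GeneralLinearGroup (Fin n) R)
  have key : SpecialLinearGroup.toGL (E h c) = ⁅D, e⁆ := by
    rw [commutatorElement_def, eq_mul_inv_iff_mul_eq, eq_mul_inv_iff_mul_eq]
    refine Units.ext ?_
    show Matrix.transvection i j c * Matrix.transvection i j (v * c) * diagonal δ =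
      diagonal δ * Matrix.transvection i j (v * c)
    rw [Matrix.transvection_mul_transvection_same i j h]
    ext a b
    rw [Matrix.mul_diagonal, Matrix.diagonal_mul]
    simp only [Matrix.transvection, Matrix.add_apply, Matrix.one_apply, Matrix.single_apply, δ]
    by_cases ha : a = i
    · subst ha
      by_cases hb : b = j
      · subst hb
        simp [h, h.symm]
        linear_combination (-c) * hv
      · by_cases hb' : b = a
        · subst hb'; simp [Ne.symm hb]
        · simp [Ne.symm hb, Ne.symm hb', hb']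
    · by_cases hb : a = b
      · subst hb; simp [ha, Ne.symm ha]
      · simp [ha, Ne.symm ha, hb]
  rw [key]
  exact Subgroup.commutator_mem_commutator (Subgroup.mem_top _) (Subgroup.mem_top _)

theorem toGL_map {R S : Type u} [CommRing R] [CommRing S] (φ : R →+* S) (M : SpecialLinearGroup (Fin n) R) :
    GeneralLinearGroup.map φ (SpecialLinearGroup.toGL M) =
      SpecialLinearGroup.toGL (SpecialLinearGroup.map φ M) := Units.ext rfl

variable {A : Type u} [CommRing A]

/-- Matrices are the identity outside `S`. -/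
def Supp {R : Type u} [CommRing R] (S : Finset (Fin n)) (M : SpecialLinearGroup (Fin n) R) : Prop :=
  ∀ i j, i ∉ S ∨ j ∉ S → (M : Matrix (Fin n) (Fin n) R) i j = (1 : Matrix (Fin n) (Fin n) R) i j

theorem supp_left {R : Type u} [CommRing R] {S : Finset (Fin n)} {M : SpecialLinearGroup (Fin n) R}
    (hM : Supp S M) {a b : Fin n} (h : a ≠ b) (ha : a ∈ S) (hb : b ∈ S) (c : R) : Supp S (E h c * M) := by
  intro i j hij
  show (Matrix.transvection a b c * (M : Matrix (Fin n) (Fin n) R)) i j = _
  by_cases hi : i = a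
  · subst hi
    have hj : j ∉ S := hij.resolve_left (not_not.2 ha)
    rw [Matrix.transvection_mul_apply_same, hM _ _ (Or.inr hj), hM _ _ (Or.inr hj),
      Matrix.one_apply_ne (show b ≠ j from fun e => hj (e ▸ hb)), mul_zero, add_zero]
  · rw [Matrix.transvection_mul_apply_of_ne _ _ _ _ hi]
    exact hM i j hij

theorem supp_right {R : Type u} [CommRing R] {S : Finset (Fin n)} {M : SpecialLinearGroup (Fin n) R}
    (hM : Supp S M) {a b : Fin n} (h : a ≠ b) (ha : a ∈ S) (hb : b ∈ S) (c : R) : Supp S (M * E h c) := by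
  intro i j hij
  show ((M : Matrix (Fin n) (Fin n) R) * Matrix.transvection a b c) i j = _
  by_cases hj : j = b
  · subst hj
    have hi : i ∉ S := hij.resolve_right (not_not.2 hb)
    rw [Matrix.mul_transvection_apply_same, hM _ _ (Or.inl hi), hM _ _ (Or.inl hi),
      Matrix.one_apply_ne (show i ≠ a from fun e => hi (e ▸ ha)), mul_zero, add_zero]
  · rw [Matrix.mul_transvection_apply_of_ne _ _ _ _ hj]
    exact hM i j hij

/-- One step of elimination: with a unit entry in column `k`, reduce to the smaller support. -/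
theorem exists_reduce {R : Type u} [CommRing R] (G : Subgroup (SpecialLinearGroup (Fin n) R))
    (hG : ∀ {a b : Fin n} (h : a ≠ b) (c : R), E h c ∈ G)
    {S : Finset (Fin n)} {k l i : Fin n} (hk : k ∈ S) (hl : l ∈ S) (hkl : l ≠ k) (hi : i ∈ S)
    {M : SpecialLinearGroup (Fin n) R} (hM : Supp S M) (hu : IsUnit ((M : Matrix (Fin n) (Fin n) R) i k)) :
    ∃ g ∈ G, ∃ g' ∈ G, Supp (S.erase k) (g * M * g') := by
  classical
  have entryL : ∀ (N : SpecialLinearGroup (Fin n) R) {a b : Fin n} (h : a ≠ b) (c : R) (q : Fin n),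
      ((E h c * N : SpecialLinearGroup (Fin n) R) : Matrix (Fin n) (Fin n) R) a q =
        (N : Matrix (Fin n) (Fin n) R) a q + c * (N : Matrix (Fin n) (Fin n) R) b q :=
    fun N a b h c q => Matrix.transvection_mul_apply_same a b q c _
  obtain ⟨g₁, hg₁, hM₁, h1⟩ : ∃ g ∈ G, Supp S (g * M) ∧
      ((g * M : SpecialLinearGroup (Fin n) R) : Matrix (Fin n) (Fin n) R) k k = 1 := by
    by_cases hik : i = k
    · subst hik
      obtain ⟨v, hv⟩ := hu.exists_left_inv
      let c₁ := (1 - (M : Matrix (Fin n) (Fin n) R) l i) * v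
      have hM₁ := supp_left hM hkl hl hk c₁
      refine ⟨E hkl.symm (1 - (M : Matrix (Fin n) (Fin n) R) i i) * E hkl c₁, G.mul_mem (hG _ _) (hG _ _), ?_, ?_⟩
      · rw [mul_assoc]; exact supp_left hM₁ _ hk hl _
      · rw [mul_assoc, entryL]
        have e1 : ((E hkl c₁ * M : SpecialLinearGroup (Fin n) R) : Matrix (Fin n) (Fin n) R) i i =
            (M : Matrix (Fin n) (Fin n) R) i i := Matrix.transvection_mul_apply_of_ne l i i i hkl.symm c₁ _
        rw [e1, entryL]
        simp only [c₁]
        linear_combination (1 - (M : Matrix (Fin n) (Fin n) R) i i) * (1 - (M : Matrix (Fin n) (Fin n) R) l i) * hv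
    · obtain ⟨v, hv⟩ := hu.exists_left_inv
      refine ⟨E (Ne.symm hik) ((1 - (M : Matrix (Fin n) (Fin n) R) k k) * v), hG _ _, supp_left hM _ hk hi _, ?_⟩
      rw [entryL]
      linear_combination (1 - (M : Matrix (Fin n) (Fin n) R) k k) * hv
  have hclear : ∀ (P : SpecialLinearGroup (Fin n) R), Supp S P → (P : Matrix (Fin n) (Fin n) R) k k = 1 →
      ∀ U : Finset (Fin n), U ⊆ S.erase k → ∃ g ∈ G, ∃ g' ∈ G, Supp S (g * P * g') ∧
        ((g * P * g' : SpecialLinearGroup (Fin n) R) : Matrix (Fin n) (Fin n) R) k k = 1 ∧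
        ∀ a ∈ U, ((g * P * g' : SpecialLinearGroup (Fin n) R) : Matrix (Fin n) (Fin n) R) a k = 0 ∧
          ((g * P * g' : SpecialLinearGroup (Fin n) R) : Matrix (Fin n) (Fin n) R) k a = 0 := by
    intro P hP hP1 U
    induction U using Finset.induction with
    | empty => exact fun _ => ⟨1, G.one_mem, 1, G.one_mem, by simpa using hP, by simpa using hP1, by simp⟩
    | @insert a U ha ih =>
      intro hU
      obtain ⟨haS, haU⟩ := Finset.insert_subset_iff.1 hU
      obtain ⟨hak, haS⟩ := Finset.mem_erase.1 haS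
      obtain ⟨g, hg, g', hg', hQ, hQ1, hQU⟩ := ih haU
      set Q := g * P * g' with hQdef
      let c := -((Q : Matrix (Fin n) (Fin n) R) a k)
      let d := -((Q : Matrix (Fin n) (Fin n) R) k a)
      refine ⟨E hak c * g, G.mul_mem (hG _ _) hg, g' * E (Ne.symm hak) d, G.mul_mem hg' (hG _ _), ?_⟩
      have e : E hak c * g * P * (g' * E (Ne.symm hak) d) = E hak c * Q * E (Ne.symm hak) d := by
        simp only [hQdef, mul_assoc]
      rw [e]
      have hL := supp_left hQ hak haS hk c
      refine ⟨supp_right hL _ hk haS _, ?_⟩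
      have er : ∀ p q, q ≠ a → ((E hak c * Q * E (Ne.symm hak) d : SpecialLinearGroup (Fin n) R) : Matrix (Fin n) (Fin n) R) p q =
          ((E hak c * Q : SpecialLinearGroup (Fin n) R) : Matrix (Fin n) (Fin n) R) p q := fun p q hq =>
        Matrix.mul_transvection_apply_of_ne k a p q hq d _
      have ea : ∀ p, ((E hak c * Q * E (Ne.symm hak) d : SpecialLinearGroup (Fin n) R) : Matrix (Fin n) (Fin n) R) p a =
          ((E hak c * Q : SpecialLinearGroup (Fin n) R) : Matrix (Fin n) (Fin n) R) p a +
            d * ((E hak c * Q : SpecialLinearGroup (Fin n) R) : Matrix (Fin n) (Fin n) R) p k := fun p =>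
        Matrix.mul_transvection_apply_same k a p d _
      have el : ∀ p q, p ≠ a → ((E hak c * Q : SpecialLinearGroup (Fin n) R) : Matrix (Fin n) (Fin n) R) p q =
          (Q : Matrix (Fin n) (Fin n) R) p q := fun p q hp =>
        Matrix.transvection_mul_apply_of_ne a k p q hp c _
      refine ⟨by rw [er _ _ (Ne.symm hak), el _ _ (Ne.symm hak), hQ1], fun p hp => ?_⟩
      rcases Finset.mem_insert.1 hp with rfl | hp
      · refine ⟨?_, ?_⟩
        · rw [er _ _ (Ne.symm hak), entryL, hQ1]; simp [c]
        · rw [ea, el _ _ (Ne.symm hak), el _ _ (Ne.symm hak), hQ1]; simp [d]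
      · have hpk : p ≠ k := (Finset.mem_erase.1 (haU hp)).1
        have hpa : p ≠ a := fun h => ha (h ▸ hp)
        exact ⟨by rw [er _ _ (Ne.symm hak), el _ _ hpa, (hQU p hp).1],
          by rw [er _ _ hpa, el _ _ (Ne.symm hak), (hQU p hp).2]⟩
  obtain ⟨g, hg, g', hg', hS, hS1, hz⟩ := hclear _ hM₁ h1 (S.erase k) (le_refl _)
  refine ⟨g * g₁, G.mul_mem hg hg₁, g', hg', fun p q hpq => ?_⟩
  rw [show g * g₁ * M * g' = g * (g₁ * M) * g' by simp only [mul_assoc]]
  by_cases h' : p ∉ S ∨ q ∉ S
  · exact hS p q h'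
  · push Not at h'
    rcases hpq with hp | hq
    · obtain rfl : p = k := by_contra fun hne => hp (Finset.mem_erase.2 ⟨hne, h'.1⟩)
      by_cases hq : q = p
      · subst hq; rw [hS1, Matrix.one_apply_eq]
      · rw [(hz q (Finset.mem_erase.2 ⟨hq, h'.2⟩)).2, Matrix.one_apply_ne (Ne.symm hq)]
    · obtain rfl : q = k := by_contra fun hne => hq (Finset.mem_erase.2 ⟨hne, h'.2⟩)
      by_cases hp : p = q
      · subst hp; rw [hS1, Matrix.one_apply_eq]
      · rw [(hz p (Finset.mem_erase.2 ⟨hp, h'.1⟩)).1, Matrix.one_apply_ne hp]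

/-- Étale locally, a special linear matrix is a product of commutators. -/
theorem exists_etale (p : Ideal A) :
    ∀ (S : Finset (Fin n)) (B : Type u) [CommRing B] [Algebra A B] [Algebra.Etale A B]
      (q : PrimeSpectrum B), q.asIdeal.comap (algebraMap A B) = p → ∀ (w : Bˣ), IsUnit ((w : B) - 1) →
      ∀ (M : SpecialLinearGroup (Fin n) B), Supp S M →
        ∃ (B' : Type u) (_ : CommRing B') (_ : Algebra A B') (_ : Algebra.Etale A B') (φ : B →ₐ[A] B')
          (q' : PrimeSpectrum B'), q'.asIdeal.comap (algebraMap A B') = p ∧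
          SpecialLinearGroup.map φ.toRingHom M ∈ T B' n := by
  intro S
  induction S using Finset.strongInduction with
  | _ S ih =>
  intro B _ _ _ q hq w hw M hM
  rcases S.eq_empty_or_nonempty with rfl | ⟨k, hk⟩
  · refine ⟨B, inferInstance, inferInstance, inferInstance, AlgHom.id A B, q, hq, ?_⟩
    have h1 : M = 1 := Matrix.SpecialLinearGroup.ext _ _ fun i j => hM i j (Or.inl (Finset.notMem_empty i))
    rw [h1, map_one]; exact Subgroup.one_mem _
  by_cases hS : ∃ l ∈ S, l ≠ k
  swap
  · push Not at hS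
    refine ⟨B, inferInstance, inferInstance, inferInstance, AlgHom.id A B, q, hq, ?_⟩
    have hd : (M : Matrix (Fin n) (Fin n) B) = diagonal fun i => (M : Matrix (Fin n) (Fin n) B) i i := by
      ext i j
      by_cases hij : i = j
      · subst hij; simp
      · rw [Matrix.diagonal_apply_ne _ hij, hM i j ?_, Matrix.one_apply_ne hij]
        by_contra hc
        push Not at hc
        exact hij ((hS i hc.1).trans (hS j hc.2).symm)
    have hdet := M.2
    rw [hd, det_diagonal, Finset.prod_eq_single k (fun i _ hi => by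
      rw [hM i i (Or.inl fun h => hi (hS i h)), Matrix.one_apply_eq]) (by simp)] at hdet
    have h1 : M = 1 := Matrix.SpecialLinearGroup.ext _ _ fun i j => by
      show (M : Matrix (Fin n) (Fin n) B) i j = (1 : Matrix (Fin n) (Fin n) B) i j
      rw [hd]
      by_cases hij : i = j
      · subst hij
        rw [diagonal_apply_eq, Matrix.one_apply_eq]
        by_cases hik : i = k
        · subst hik; exact hdet
        · rw [hM i i (Or.inl fun h => hik (hS i h)), Matrix.one_apply_eq]
      · rw [diagonal_apply_ne _ hij, Matrix.one_apply_ne hij]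
    rw [h1, map_one]; exact Subgroup.one_mem _
  obtain ⟨l, hl, hlk⟩ := hS
  obtain ⟨i, hi, hiq⟩ : ∃ i ∈ S, (M : Matrix (Fin n) (Fin n) B) i k ∉ q.asIdeal := by
    by_contra hc
    push Not at hc
    have : (M : Matrix (Fin n) (Fin n) B).det ∈ q.asIdeal := by
      rw [Matrix.det_apply]
      refine Submodule.sum_mem _ fun σ _ => Submodule.smul_of_tower_mem _ _ ?_
      rw [← Finset.mul_prod_erase _ _ (Finset.mem_univ k)]
      refine Ideal.mul_mem_right _ _ ?_
      by_cases h : σ k ∈ S
      · exact hc _ h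
      · rw [hM _ _ (Or.inl h), Matrix.one_apply_ne (fun (e : σ k = k) => h (e.symm ▸ hk))]
        exact q.asIdeal.zero_mem
    rw [M.2] at this
    exact q.2.ne_top ((Ideal.eq_top_iff_one _).2 this)
  let c := (M : Matrix (Fin n) (Fin n) B) i k
  let C := Localization.Away c
  let ι : B →ₐ[A] C := IsScalarTower.toAlgHom A B C
  haveI : Algebra.Etale B C := Algebra.Etale.of_isLocalizationAway c
  haveI : Algebra.Etale A C := Algebra.Etale.comp A B C
  obtain ⟨qC, hqC⟩ : q ∈ Set.range (PrimeSpectrum.comap (algebraMap B C)) := by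
    rw [PrimeSpectrum.localization_away_comap_range C c]; exact hiq
  have hqC' : qC.asIdeal.comap (algebraMap A C) = p := by
    rw [IsScalarTower.algebraMap_eq A B C, ← Ideal.comap_comap, ← hq]
    exact congrArg _ (congrArg PrimeSpectrum.asIdeal hqC)
  let wC : Cˣ := Units.map ι.toRingHom.toMonoidHom w
  have hwC : IsUnit ((wC : C) - 1) := by simpa [wC] using hw.map ι
  let MC := SpecialLinearGroup.map ι.toRingHom M
  have hMC : Supp S MC := fun a b hab => by
    show ι ((M : Matrix (Fin n) (Fin n) B) a b) = _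
    rw [hM a b hab]
    by_cases h : a = b
    · subst h; rw [Matrix.one_apply_eq, Matrix.one_apply_eq, map_one]
    · rw [Matrix.one_apply_ne h, Matrix.one_apply_ne h, map_zero]
  obtain ⟨g, hg, g', hg', hred⟩ := exists_reduce (T C n) (E_mem wC hwC) hk hl hlk hi hMC
    (IsLocalization.Away.algebraMap_isUnit c)
  obtain ⟨B', _, _, _, φ, q', hq', hmem⟩ := ih (S.erase k) (Finset.erase_ssubset hk) C qC hqC' wC hwC _ hred
  refine ⟨B', inferInstance, inferInstance, inferInstance, φ.comp ι, q', hq', ?_⟩
  have hmap : ∀ x ∈ T C n, SpecialLinearGroup.map φ.toRingHom x ∈ T B' n := fun x hx => by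
    show SpecialLinearGroup.toGL (SpecialLinearGroup.map φ.toRingHom x) ∈ commutator (GeneralLinearGroup (Fin n) B')
    have hx' : SpecialLinearGroup.toGL x ∈ ⁅(⊤ : Subgroup (GeneralLinearGroup (Fin n) C)), (⊤ : Subgroup (GeneralLinearGroup (Fin n) C))⁆ := by
      rw [← commutator_def]; exact hx
    rw [← toGL_map, commutator_def]
    exact Subgroup.commutator_mono le_top le_top (Subgroup.map_commutator (⊤ : Subgroup (GeneralLinearGroup (Fin n) C)) ⊤
      (GeneralLinearGroup.map φ.toRingHom) ▸ Subgroup.mem_map_of_mem _ hx')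
  rw [map_mul, map_mul] at hmem
  have h := (Subgroup.mul_mem_cancel_left _ (hmap g hg)).1 ((Subgroup.mul_mem_cancel_right _ (hmap g' hg')).1 hmem)
  exact h

/-- Étale locally there is a unit `w` with `w - 1` a unit. -/
theorem exists_unit (A : Type u) [CommRing A] (p : PrimeSpectrum A) :
    ∃ (B : Type u) (_ : CommRing B) (_ : Algebra A B) (_ : Algebra.Etale A B) (q : PrimeSpectrum B) (w : Bˣ),
      q.asIdeal.comap (algebraMap A B) = p.asIdeal ∧ IsUnit ((w : B) - 1) := by
  by_cases h2 : (2 : A) ∈ p.asIdeal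
  swap
  · let B := Localization.Away (2 : A)
    haveI : Algebra.Etale A B := Algebra.Etale.of_isLocalizationAway (2 : A)
    obtain ⟨q, hq⟩ : p ∈ Set.range (PrimeSpectrum.comap (algebraMap A B)) := by
      rw [PrimeSpectrum.localization_away_comap_range B (2 : A)]; exact h2
    refine ⟨B, inferInstance, inferInstance, inferInstance, q, (IsLocalization.Away.algebraMap_isUnit (S := B) (2 : A)).unit,
      congrArg PrimeSpectrum.asIdeal hq, ?_⟩
    rw [IsUnit.unit_spec, map_ofNat]
    norm_num
  · have h3 : (3 : A) ∉ p.asIdeal := fun h => p.2.ne_top ((Ideal.eq_top_iff_one _).2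
      (by simpa [show (3 : A) - 2 = 1 by norm_num] using p.asIdeal.sub_mem h h2))
    let Q : StandardEtalePair A := ⟨Polynomial.X ^ 2 + Polynomial.X + 1, by monicity!, Polynomial.C 3,
      -(2 * Polynomial.X + 1), 4, 1, by
        simp only [Polynomial.derivative_add, Polynomial.derivative_X_pow, Polynomial.derivative_X,
          Polynomial.derivative_one, map_ofNat]
        simp
        rw [show (Polynomial.C (2 : A)) = 2 from map_ofNat _ 2]
        ring⟩
    let L := AlgebraicClosure (FractionRing (A ⧸ p.asIdeal))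
    obtain ⟨x, hx⟩ := IsAlgClosed.exists_root ((Polynomial.X ^ 2 + Polynomial.X + 1 : Polynomial L)) (by
      rw [show (Polynomial.X ^ 2 + Polynomial.X + 1 : Polynomial L).degree = 2 by compute_degree!]
      decide)
    have hker : ∀ a : A, algebraMap A L a = 0 ↔ a ∈ p.asIdeal := fun a => by
      rw [IsScalarTower.algebraMap_apply A (A ⧸ p.asIdeal) L, map_eq_zero_iff _ ?_, Ideal.Quotient.algebraMap_eq,
        Ideal.Quotient.eq_zero_iff_mem]
      rw [IsScalarTower.algebraMap_eq (A ⧸ p.asIdeal) (FractionRing (A ⧸ p.asIdeal)) L]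
      exact (RingHom.injective (algebraMap (FractionRing (A ⧸ p.asIdeal)) L)).comp
        (IsFractionRing.injective (A ⧸ p.asIdeal) (FractionRing (A ⧸ p.asIdeal)))
    have hmap : Q.HasMap x := ⟨by simpa [Q, Polynomial.IsRoot] using hx, by
      simp only [Q, Polynomial.aeval_C]
      exact isUnit_iff_ne_zero.2 fun h => h3 ((hker 3).1 h)⟩
    let ψ := Q.lift x hmap
    have hX : Q.X ^ 2 + Q.X + 1 = 0 := by simpa [Q] using Q.hasMap_X.1
    have h3u : IsUnit (3 : Q.Ring) := by
      have h := Q.hasMap_X.2
      rw [show Polynomial.aeval Q.X Q.g = algebraMap A Q.Ring 3 from Polynomial.aeval_C _ _] at h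
      rwa [map_ofNat] at h
    let w : Q.Ringˣ := ⟨Q.X, -Q.X - 1, by linear_combination -hX, by linear_combination -hX⟩
    refine ⟨Q.Ring, inferInstance, inferInstance, inferInstance,
      ⟨RingHom.ker ψ.toRingHom, RingHom.ker_isPrime _⟩, w, ?_, ?_⟩
    · ext a
      show ψ (algebraMap A Q.Ring a) = 0 ↔ _
      rw [AlgHom.commutes]; exact hker a
    · refine isUnit_of_mul_isUnit_left (y := Q.X + 2) ?_
      rw [show ((w : Q.Ring) - 1) * (Q.X + 2) = -3 by simp only [w]; linear_combination hX]
      exact h3u.neg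


/-- On the big étale site of a scheme the sheaf of commutator subgroups of Gl(n) is Sl(n) = Ker(det).
Concretely: let A be a commutative ring, n ≥ 0, s ∈ SL_n(A) and p a prime ideal of A. Then there are
an étale A-algebra A' with a prime ideal lying over p such that the image of s in GL_n(A') lies in
the commutator subgroup of GL_n(A'). (The inclusion of commutators in SL_n being clear, this is the
content of the statement.) -/
theorem result (A : Type u) [CommRing A] (n : ℕ)
    (s : Matrix.SpecialLinearGroup (Fin n) A) (p : PrimeSpectrum A) :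
    ∃ (A' : Type u) (_ : CommRing A') (_ : Algebra A A'), Algebra.Etale A A' ∧
      (∃ q : PrimeSpectrum A', q.asIdeal.comap (algebraMap A A') = p.asIdeal) ∧
      (Matrix.GeneralLinearGroup.map (algebraMap A A')) (Matrix.SpecialLinearGroup.toGL s) ∈
        commutator (Matrix.GeneralLinearGroup (Fin n) A') := by
  obtain ⟨B, _, _, _, q, w, hq, hw⟩ := exists_unit A p
  let M := Matrix.SpecialLinearGroup.map (algebraMap A B) s
  obtain ⟨B', _, _, _, φ, q', hq', hmem⟩ := exists_etale p.asIdeal Finset.univ B q hq w hw M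
    (fun i j h => absurd h (by simp))
  refine ⟨B', inferInstance, inferInstance, inferInstance, ⟨q', hq'⟩, ?_⟩
  rw [toGL_map]
  have e : Matrix.SpecialLinearGroup.map φ.toRingHom M = Matrix.SpecialLinearGroup.map (algebraMap A B') s :=
    Matrix.SpecialLinearGroup.ext _ _ fun i j => φ.commutes _
  rw [e] at hmem
  exact hmem

end Groth.Agent.S5658
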