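import Groth.Statements.S5659
import Mathlib
import Groth.Agent.S5658

set_option autoImplicit false
universe u
open CAlg

namespace Groth.Agent.S5659

open Matrix
open Groth.Agent.S5658 (Supp E exists_reduce)

universe v

set_option maxHeartbeats 1000000

variable {R : Type v} [CommRing R]

/-- Idempotents in a ring with connected spectrum are trivial. -/
theorem idem_eq [ConnectedSpace (PrimeSpectrum R)] (e : R) (he : IsIdempotentElem e) : e = 0 ∨ e = 1 := by
  rcases isClopen_iff.1 (PrimeSpectrum.isClopen_iff.2 ⟨e, he, rfl⟩ : IsClopen ((PrimeSpectrum.basicOpen e : Set (PrimeSpectrum R)))) with h | h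
  · exact Or.inl (PrimeSpectrum.basicOpen_injOn_isIdempotentElem he IsIdempotentElem.zero
      (SetLike.coe_injective (by rw [h, PrimeSpectrum.basicOpen_zero]; rfl)))
  · exact Or.inr (PrimeSpectrum.basicOpen_injOn_isIdempotentElem he IsIdempotentElem.one
      (SetLike.coe_injective (by rw [h, PrimeSpectrum.basicOpen_one]; rfl)))

/-- `diag` with `b` at the place `i`. -/
def D {B : Type v} [CommRing B] {n : ℕ} (i : Fin n) : Bˣ →* GeneralLinearGroup (Fin n) B :=
  (Units.map ((Matrix.diagonalRingHom (Fin n) B).toMonoidHom)).comp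
    ((MulEquiv.piUnits (M := fun _ : Fin n => B)).symm.toMonoidHom.comp (MonoidHom.mulSingle (fun _ : Fin n => Bˣ) i))

theorem D_coe {B : Type v} [CommRing B] {n : ℕ} (i : Fin n) (b : Bˣ) :
    ((D i b : GeneralLinearGroup (Fin n) B) : Matrix (Fin n) (Fin n) B) = diagonal fun k => if k = i then (b : B) else 1 := by
  show diagonal _ = _
  congr 1
  funext k
  by_cases h : k = i
  · subst h; simp [MulEquiv.piUnits, MonoidHom.mulSingle]
  · simp [MulEquiv.piUnits, MonoidHom.mulSingle, h]

theorem det_D {B : Type v} [CommRing B] {n : ℕ} (i : Fin n) (b : Bˣ) : GeneralLinearGroup.det (D i b) = b := by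
  refine Units.ext ?_
  show Matrix.det ((D i b : GeneralLinearGroup (Fin n) B) : Matrix (Fin n) (Fin n) B) = _
  rw [D_coe, det_diagonal, Finset.prod_ite_eq' Finset.univ i (fun _ => (b : B)), if_pos (Finset.mem_univ i)]

theorem D_map {B C : Type v} [CommRing B] [CommRing C] (φ : B →+* C) {n : ℕ} (i : Fin n) (b : Bˣ) :
    GeneralLinearGroup.map φ (D i b) = D i (Units.map (φ : B →* C) b) := by
  refine Units.ext ?_
  show φ.mapMatrix ((D i b : GeneralLinearGroup (Fin n) B) : Matrix (Fin n) (Fin n) B) = _
  rw [D_coe, D_coe, RingHom.mapMatrix_apply, diagonal_map (map_zero φ)]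
  congr 1
  funext k
  by_cases h : k = i <;> simp [h]

theorem E_map {B C : Type v} [CommRing B] [CommRing C] (φ : B →+* C) {n : ℕ} {i j : Fin n} (h : i ≠ j) (c : B) :
    GeneralLinearGroup.map φ (SpecialLinearGroup.toGL (E h c)) = SpecialLinearGroup.toGL (E h (φ c)) := by
  refine Units.ext ?_
  show φ.mapMatrix (Matrix.transvection i j c) = Matrix.transvection i j (φ c)
  simp [Matrix.transvection, RingHom.mapMatrix_apply, Matrix.map_add, Matrix.map_one, Matrix.map_single]

open AddMonoidAlgebra in
theorem coeff_tensor {M : Type} [AddCommMonoid M] (f g : AddMonoidAlgebra R M) (a b : M) :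
    (mapDomainRingHom R (AddMonoidHom.inl M M) f * mapDomainRingHom R (AddMonoidHom.inr M M) g).coeff (a, b) =
      f.coeff a * g.coeff b := by
  classical
  induction f using induction_linear with
  | zero => simp
  | add f f' hf hf' => rw [map_add, add_mul, coeff_add, coeff_add, Finsupp.add_apply, Finsupp.add_apply, hf, hf', add_mul]
  | single x r =>
    induction g using induction_linear with
    | zero => simp
    | add g g' hg hg' => rw [map_add, mul_add, coeff_add, coeff_add, Finsupp.add_apply, Finsupp.add_apply, hg, hg', mul_add]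
    | single y s =>
      simp [single_mul_single, Finsupp.single_apply]
      split_ifs <;> simp_all

variable {n : ℕ} (β : ∀ (B : Type v) [CommRing B] [Algebra R B], GeneralLinearGroup (Fin n) B →* Bˣ)
  (hβ : ∀ (B C : Type v) [CommRing B] [Algebra R B] [CommRing C] [Algebra R C] (φ : B →ₐ[R] C)
      (s : GeneralLinearGroup (Fin n) B),
      β C (GeneralLinearGroup.map φ.toRingHom s) = Units.map (φ.toRingHom : B →* C) (β B s))

include hβ in
theorem torus [ConnectedSpace (PrimeSpectrum R)] (i : Fin n) :
    ∃ m : ℤ, ∀ (B : Type v) [CommRing B] [Algebra R B] (b : Bˣ), β B (D i b) = b ^ m := by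
  classical
  let T := AddMonoidAlgebra R ℤ
  let gen : ℤ → Tˣ := fun a => ⟨AddMonoidAlgebra.single a 1, AddMonoidAlgebra.single (-a) 1,
    by rw [AddMonoidAlgebra.single_mul_single]; simp,
    by rw [AddMonoidAlgebra.single_mul_single]; simp⟩
  let f : Tˣ := β T (D i (gen 1))
  let ev : ∀ (B : Type v) [CommRing B] [Algebra R B], Bˣ → (T →ₐ[R] B) := fun B _ _ b =>
    AddMonoidAlgebra.lift R B ℤ ((Units.coeHom B).comp (zpowersHom Bˣ b))
  have hev : ∀ (B : Type v) [CommRing B] [Algebra R B] (b : Bˣ) (a : ℤ) (r : R),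
      ev B b (AddMonoidAlgebra.single a r) = r • ((b ^ a : Bˣ) : B) := fun B _ _ b a r => by
    rw [AddMonoidAlgebra.lift_single]
    rfl
  have hgen : ∀ (B : Type v) [CommRing B] [Algebra R B] (b : Bˣ), Units.map ((ev B b).toRingHom : T →* B) (gen 1) = b :=
    fun B _ _ b => Units.ext ((hev B b 1 1).trans (by simp))
  have hχ : ∀ (B : Type v) [CommRing B] [Algebra R B] (b : Bˣ),
      β B (D i b) = Units.map ((ev B b).toRingHom : T →* B) f := fun B _ _ b => by
    rw [← hβ T B (ev B b) (D i (gen 1)), D_map, hgen]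
  let F : AddMonoidAlgebra R ℤ := (f : T)
  have hmul : ∀ a b : ℤ, F.coeff a * F.coeff b = if a = b then F.coeff a else 0 := by
    intro a b
    let T2 := AddMonoidAlgebra R (ℤ × ℤ)
    let g2 : ℤ × ℤ → T2ˣ := fun a => ⟨AddMonoidAlgebra.single a 1, AddMonoidAlgebra.single (-a) 1,
      by rw [AddMonoidAlgebra.single_mul_single]; simp; exact AddMonoidAlgebra.one_def.symm,
      by rw [AddMonoidAlgebra.single_mul_single]; simp; exact AddMonoidAlgebra.one_def.symm⟩
    have hz : ∀ (x : ℤ × ℤ) (c : ℤ), (((g2 x) ^ c : T2ˣ) : T2) = AddMonoidAlgebra.single (c • x) 1 := fun x c => by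
      have hg : ∀ y z : ℤ × ℤ, g2 (y + z) = g2 y * g2 z := fun y z =>
        Units.ext (by simp [g2, T2, AddMonoidAlgebra.single_mul_single])
      have h0 : g2 0 = 1 := Units.ext (by simp [g2, T2, AddMonoidAlgebra.one_def])
      have : (g2 x) ^ c = g2 (c • x) :=
        (map_zpow (⟨⟨fun y => g2 y.toAdd, h0⟩, fun y z => hg _ _⟩ : Multiplicative (ℤ × ℤ) →* T2ˣ) (Multiplicative.ofAdd x) c).symm
      rw [this]
    have hm : ∀ (x : ℤ × ℤ) (φ : ℤ →+ ℤ × ℤ), φ 1 = x → (ev T2 (g2 x) F : T2) = AddMonoidAlgebra.mapDomainRingHom R φ F := by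
      intro x φ hx
      induction F using AddMonoidAlgebra.induction_linear with
      | zero => simp
      | add u w hu hw => rw [map_add, map_add, hu, hw]
      | single c r =>
        rw [hev, hz]
        simp only [AddMonoidAlgebra.mapDomainRingHom_apply, AddMonoidAlgebra.mapDomain_single, T2]
        rw [AddMonoidAlgebra.smul_single, smul_eq_mul, mul_one]
        rw [← hx, ← map_zsmul, smul_eq_mul, mul_one]
    have h1 : β T2 (D i (g2 (1, 0))) * β T2 (D i (g2 (0, 1))) = β T2 (D i (g2 (1, 1))) := by
      rw [← map_mul, ← map_mul]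
      congr 2
      exact Units.ext (by simp [g2, T2, AddMonoidAlgebra.single_mul_single])
    rw [hχ, hχ, hχ] at h1
    have h2 : ev T2 (g2 (1, 0)) F * ev T2 (g2 (0, 1)) F = ev T2 (g2 (1, 1)) F := congrArg Units.val h1
    rw [hm (1, 0) (AddMonoidHom.inl ℤ ℤ) rfl, hm (0, 1) (AddMonoidHom.inr ℤ ℤ) rfl,
      hm (1, 1) ((AddMonoidHom.id ℤ).prod (AddMonoidHom.id ℤ)) rfl] at h2
    have h3 := congrArg (fun z => z.coeff (a, b)) h2
    rw [← coeff_tensor F F a b]
    refine h3.trans ?_
    simp only [AddMonoidAlgebra.mapDomainRingHom_apply, AddMonoidAlgebra.coeff_mapDomain]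
    by_cases hab : a = b
    · subst hab
      rw [if_pos rfl]
      exact Finsupp.mapDomain_apply (fun x y h => congrArg Prod.fst h) _ a
    · rw [if_neg hab, Finsupp.mapDomain_notin_range]
      rintro ⟨c, hc⟩
      exact hab ((congrArg Prod.fst hc).symm.trans (congrArg Prod.snd hc))
  obtain ⟨m, hm⟩ : ∃ m, F.coeff m ≠ 0 := by
    by_contra! hc
    haveI : Nontrivial R := PrimeSpectrum.nonempty_iff_nontrivial.1 inferInstance
    exact f.ne_zero (AddMonoidAlgebra.coeff_injective (Finsupp.ext hc))
  have hm1 : F.coeff m = 1 := (idem_eq _ (by rw [IsIdempotentElem, hmul, if_pos rfl])).resolve_left hm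
  have hF : F = AddMonoidAlgebra.single m 1 := AddMonoidAlgebra.coeff_injective (Finsupp.ext fun a => by
    by_cases h : a = m
    · subst h; simp [hm1]
    · have := hmul a m
      rw [hm1, mul_one, if_neg h] at this
      simp [this, h, Ne.symm h])
  refine ⟨m, fun B _ _ b => Units.ext ?_⟩
  rw [hχ]
  show ev B b F = _
  rw [hF, hev, one_smul]

include hβ in
theorem transvec {i j : Fin n} (h : i ≠ j) (B : Type v) [CommRing B] [Algebra R B] (c : B) :
    β B (SpecialLinearGroup.toGL (E h c)) = 1 := by
  classical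
  let u : (Polynomial R)ˣ := β _ (SpecialLinearGroup.toGL (E h (Polynomial.X : Polynomial R)))
  suffices hu : u = 1 by
    have h0 := hβ (Polynomial R) B (Polynomial.aeval c) (SpecialLinearGroup.toGL (E h Polynomial.X))
    rw [E_map] at h0
    simp only [AlgHom.toRingHom_eq_coe, RingHom.coe_coe, Polynomial.aeval_X] at h0
    rw [h0]
    show Units.map _ u = 1
    rw [hu, map_one]
  let C := AddMonoidAlgebra (Polynomial R) ℤ
  let t : Cˣ := ⟨AddMonoidAlgebra.single 1 1, AddMonoidAlgebra.single (-1) 1,
    by rw [AddMonoidAlgebra.single_mul_single]; simp,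
    by rw [AddMonoidAlgebra.single_mul_single]; simp⟩
  let φ₁ : Polynomial R →ₐ[R] C := IsScalarTower.toAlgHom R (Polynomial R) C
  let φ₂ : Polynomial R →ₐ[R] C := Polynomial.aeval ((t : C) * algebraMap (Polynomial R) C Polynomial.X)
  have key : Units.map (φ₂.toRingHom : Polynomial R →* C) u = Units.map (φ₁.toRingHom : Polynomial R →* C) u := by
    simp only [u, ← hβ, E_map]
    have hconj : SpecialLinearGroup.toGL (E h (φ₂.toRingHom Polynomial.X)) * D i t =
        D i t * SpecialLinearGroup.toGL (E h (φ₁.toRingHom Polynomial.X)) := by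
      refine Units.ext ?_
      show Matrix.transvection i j _ * (D i t : GeneralLinearGroup (Fin n) C).val = (D i t : GeneralLinearGroup (Fin n) C).val * Matrix.transvection i j _
      rw [D_coe, show φ₂.toRingHom Polynomial.X = (t : C) * φ₁.toRingHom Polynomial.X from Polynomial.aeval_X _]
      ext a b
      rw [Matrix.mul_diagonal, Matrix.diagonal_mul]
      simp only [Matrix.transvection, Matrix.add_apply, Matrix.one_apply, Matrix.single_apply]
      by_cases hab : a = b
      · subst hab
        by_cases ha : i = a ∧ j = a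
        · exact absurd (ha.1.trans ha.2.symm) h
        · rw [if_neg ha, if_neg ha]; simp
      · by_cases ha : i = a ∧ j = b
        · obtain ⟨rfl, rfl⟩ := ha
          simp [h, Ne.symm h]
        · simp [hab, ha]
    have := congrArg (β C) hconj
    rw [map_mul (β C), map_mul (β C), mul_comm (β C (D i t))] at this
    exact mul_right_cancel this
  have hφ₂ : ∀ (p : Polynomial R) (k : ℕ), (φ₂ p).coeff (k : ℤ) = Polynomial.monomial k (p.coeff k) := by
    intro p k
    induction p using Polynomial.induction_on' with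
    | add p q hp hq => rw [map_add, AddMonoidAlgebra.coeff_add, Finsupp.add_apply, hp, hq, Polynomial.coeff_add, map_add]
    | monomial a r =>
      have e : φ₂ (Polynomial.monomial a r) = AddMonoidAlgebra.single (a : ℤ) (Polynomial.monomial a r) := by
        simp only [φ₂, t, C, Polynomial.aeval_monomial, mul_pow, AddMonoidAlgebra.single_pow, one_pow, ← map_pow,
          IsScalarTower.algebraMap_apply R (Polynomial R) (AddMonoidAlgebra (Polynomial R) ℤ)]
        rw [mul_left_comm, ← map_mul, AddMonoidAlgebra.coe_algebraMap]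
        simp [AddMonoidAlgebra.single_mul_single, Polynomial.C_mul_X_pow_eq_monomial]
      rw [e]
      rcases eq_or_ne a k with rfl | hak
      · rw [AddMonoidAlgebra.coeff_single, Finsupp.single_eq_same, Polynomial.coeff_monomial, if_pos rfl]
      · rw [AddMonoidAlgebra.coeff_single, Finsupp.single_eq_of_ne (by omega), Polynomial.coeff_monomial, if_neg hak, map_zero]
  have hu1 : (u : Polynomial R) = Polynomial.C ((u : Polynomial R).coeff 0) := by
    ext k
    rcases Nat.eq_zero_or_pos k with rfl | hk
    · simp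
    rw [Polynomial.coeff_C, if_neg hk.ne']
    have h1 := congrArg (fun z : Cˣ => (z : C).coeff (k : ℤ)) key
    simp only [Units.coe_map, MonoidHom.coe_coe, AlgHom.toRingHom_eq_coe, RingHom.coe_coe, hφ₂] at h1
    rw [show φ₁ (u : Polynomial R) = AddMonoidAlgebra.single (0 : ℤ) (u : Polynomial R) from rfl,
      AddMonoidAlgebra.coeff_single, Finsupp.single_eq_of_ne (by omega)] at h1
    exact (Polynomial.monomial_eq_zero_iff _ _).1 h1
  let ev0 : Polynomial R →ₐ[R] R := Polynomial.aeval (0 : R)
  have h2 : Units.map (ev0.toRingHom : Polynomial R →* R) u = 1 := by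
    simp only [u, ← hβ, E_map]
    have : E h (ev0.toRingHom Polynomial.X) = 1 := Subtype.ext (by
      show Matrix.transvection i j _ = 1
      simp [ev0])
    rw [this, map_one, map_one]
  refine Units.ext ?_
  have h3 : Polynomial.aeval (0 : R) (u : Polynomial R) = 1 := congrArg Units.val h2
  rw [hu1, Polynomial.aeval_C] at h3
  rw [hu1, show (u : Polynomial R).coeff 0 = 1 from h3, map_one, Units.val_one]

include hβ in
theorem kills_SL (B : Type v) [CommRing B] [Algebra R B] [IsLocalRing B] :
    ∀ (S : Finset (Fin n)) (M : SpecialLinearGroup (Fin n) B), Supp S M → β B (SpecialLinearGroup.toGL M) = 1 := by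
  intro S
  induction S using Finset.strongInduction with
  | _ S ih =>
  intro M hM
  have hone : ∀ M : SpecialLinearGroup (Fin n) B, M = 1 → β B (SpecialLinearGroup.toGL M) = 1 := fun M h => by
    rw [h, map_one, map_one]
  rcases S.eq_empty_or_nonempty with rfl | ⟨k, hk⟩
  · exact hone M (Matrix.SpecialLinearGroup.ext _ _ fun i j => hM i j (Or.inl (Finset.notMem_empty i)))
  by_cases hS : ∃ l ∈ S, l ≠ k
  swap
  · push Not at hS
    refine hone M (Matrix.SpecialLinearGroup.ext _ _ fun i j => ?_)
    have hd : (M : Matrix (Fin n) (Fin n) B) = diagonal fun i => (M : Matrix (Fin n) (Fin n) B) i i := by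
      ext i j
      by_cases hij : i = j
      · subst hij; simp
      · rw [Matrix.diagonal_apply_ne _ hij, hM i j ?_, Matrix.one_apply_ne hij]
        by_contra hc
        push Not at hc
        exact hij ((hS i hc.1).trans (hS j hc.2).symm)
    have hdet := M.2
    rw [hd, det_diagonal, Finset.prod_eq_single k (fun i _ hi => by
      rw [hM i i (Or.inl fun h => hi (hS i h)), Matrix.one_apply_eq]) (by simp)] at hdet
    by_cases hij : i ∈ S ∧ j ∈ S
    · obtain rfl := hS i hij.1
      obtain rfl := hS j hij.2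
      simpa using hdet
    · exact hM i j (not_and_or.1 hij)
  obtain ⟨l, hl, hlk⟩ := hS
  obtain ⟨i, hi, hiq⟩ : ∃ i ∈ S, IsUnit ((M : Matrix (Fin n) (Fin n) B) i k) := by
    by_contra hc
    push Not at hc
    have : (M : Matrix (Fin n) (Fin n) B).det ∈ IsLocalRing.maximalIdeal B := by
      rw [Matrix.det_apply]
      refine Submodule.sum_mem _ fun σ _ => Submodule.smul_of_tower_mem _ _ ?_
      rw [← Finset.mul_prod_erase _ _ (Finset.mem_univ k)]
      refine Ideal.mul_mem_right _ _ ?_
      by_cases h : σ k ∈ S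
      · exact hc _ h
      · rw [hM _ _ (Or.inl h), Matrix.one_apply_ne (fun (e : σ k = k) => h (e.symm ▸ hk))]
        exact Ideal.zero_mem _
    rw [M.2] at this
    exact (IsLocalRing.maximalIdeal.isMaximal B).ne_top ((Ideal.eq_top_iff_one _).2 this)
  let G : Subgroup (SpecialLinearGroup (Fin n) B) := ((β B).comp SpecialLinearGroup.toGL).ker
  obtain ⟨g, hg, g', hg', hred⟩ := exists_reduce G (fun h c => transvec β hβ h B c) hk hl hlk hi hM hiq
  have h1 := ih (S.erase k) (Finset.erase_ssubset hk) _ hred
  rw [map_mul, map_mul, map_mul, map_mul, show β B (SpecialLinearGroup.toGL g) = 1 from hg,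
    show β B (SpecialLinearGroup.toGL g') = 1 from hg', one_mul, mul_one] at h1
  exact h1

include hβ in
theorem single_factor [ConnectedSpace (PrimeSpectrum R)] (i : Fin n) :
    ∃ m : ℤ, ∀ (B : Type v) [CommRing B] [Algebra R B] (s : GeneralLinearGroup (Fin n) B),
      β B s = GeneralLinearGroup.det s ^ m := by
  obtain ⟨m, hm⟩ := torus β hβ i
  have hloc : ∀ (B : Type v) [CommRing B] [Algebra R B] [IsLocalRing B] (s : GeneralLinearGroup (Fin n) B),
      β B s = GeneralLinearGroup.det s ^ m := by
    intro B _ _ _ s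
    let t := s * (D i (GeneralLinearGroup.det s))⁻¹
    have ht : Matrix.det (t : Matrix (Fin n) (Fin n) B) = 1 := by
      show ((GeneralLinearGroup.det t : Bˣ) : B) = 1
      rw [map_mul, map_inv, det_D, mul_inv_cancel, Units.val_one]
    have h1 := kills_SL β hβ B Finset.univ ⟨_, ht⟩ (fun a b h => by simp at h)
    rw [show SpecialLinearGroup.toGL (⟨_, ht⟩ : SpecialLinearGroup (Fin n) B) = t from Units.ext rfl, map_mul, map_inv,
      hm] at h1
    exact mul_inv_eq_one.1 h1
  refine ⟨m, fun B _ _ s => Units.ext ?_⟩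
  refine Module.eq_of_localization_maximal (fun P _ => Localization.AtPrime P)
    (fun P _ => Algebra.linearMap B (Localization.AtPrime P)) _ _ fun P hP => ?_
  haveI := hP
  let φ : B →ₐ[R] Localization.AtPrime P := IsScalarTower.toAlgHom R B _
  have h2 := hloc _ (GeneralLinearGroup.map φ.toRingHom s)
  rw [hβ, GeneralLinearGroup.map_det, ← map_zpow] at h2
  exact congrArg Units.val h2


/-- Every homomorphism of group sheaves Gl(n_1) × ⋯ × Gl(n_r) → G_m is (s_1, …, s_r) ↦ det(s_1)^{m_1} ⋯
det(s_r)^{m_r} with locally constant integers m_i uniquely determined by it. Concretely, over a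
commutative ring R whose prime spectrum is connected and for ranks n_i ≥ 1: every family of group
homomorphisms α_B : GL_{n_1}(B) × ⋯ × GL_{n_r}(B) → Bˣ, one for each commutative R-algebra B and
natural in B, is given by α_B(s) = Π_i det(s_i)^{m_i} for a unique m ∈ ℤ^r. (The published statement
allows ranks n_i ≥ 0; uniqueness of m_i needs n_i ≥ 1, since Gl(0) is trivial.) -/
theorem result (R : Type u) [CommRing R] [ConnectedSpace (PrimeSpectrum R)]
    (r : ℕ) (n : Fin r → ℕ) (hn : ∀ i, 0 < n i)
    (α : ∀ (B : Type u) [CommRing B] [Algebra R B], (∀ i, Matrix.GeneralLinearGroup (Fin (n i)) B) →* Bˣ)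
    (hα : ∀ (B C : Type u) [CommRing B] [Algebra R B] [CommRing C] [Algebra R C] (φ : B →ₐ[R] C)
      (s : ∀ i, Matrix.GeneralLinearGroup (Fin (n i)) B),
      α C (fun i => Matrix.GeneralLinearGroup.map φ.toRingHom (s i)) = Units.map (φ.toRingHom : B →* C) (α B s)) :
    ∃! m : Fin r → ℤ, ∀ (B : Type u) [CommRing B] [Algebra R B] (s : ∀ i, Matrix.GeneralLinearGroup (Fin (n i)) B),
      α B s = ∏ i, Matrix.GeneralLinearGroup.det (s i) ^ (m i) := by
  classical
  haveI : Nontrivial R := PrimeSpectrum.nonempty_iff_nontrivial.1 inferInstance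
  have hmap : ∀ (B C : Type u) [CommRing B] [CommRing C] (φ : B →+* C) (i : Fin r) (x : Matrix.GeneralLinearGroup (Fin (n i)) B),
      (fun k => Matrix.GeneralLinearGroup.map φ (Pi.mulSingle (M := fun k => Matrix.GeneralLinearGroup (Fin (n k)) B) i x k)) =
        Pi.mulSingle (M := fun k => Matrix.GeneralLinearGroup (Fin (n k)) C) i (Matrix.GeneralLinearGroup.map φ x) := fun B C _ _ φ i x => by
    funext k
    rcases eq_or_ne k i with rfl | hk
    · rw [Pi.mulSingle_eq_same, Pi.mulSingle_eq_same]
    · rw [Pi.mulSingle_eq_of_ne hk, Pi.mulSingle_eq_of_ne hk, map_one]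
  let β : ∀ (i : Fin r) (B : Type u) [CommRing B] [Algebra R B], Matrix.GeneralLinearGroup (Fin (n i)) B →* Bˣ :=
    fun i B _ _ => (α B).comp (MonoidHom.mulSingle (fun k => Matrix.GeneralLinearGroup (Fin (n k)) B) i)
  have hβ : ∀ i (B C : Type u) [CommRing B] [Algebra R B] [CommRing C] [Algebra R C] (φ : B →ₐ[R] C)
      (x : Matrix.GeneralLinearGroup (Fin (n i)) B),
      β i C (Matrix.GeneralLinearGroup.map φ.toRingHom x) = Units.map (φ.toRingHom : B →* C) (β i B x) :=
    fun i B C _ _ _ _ φ x => by
    show α C (Pi.mulSingle i _) = _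
    rw [← hmap, hα]
    rfl
  choose m hm using fun i => single_factor (β i) (hβ i) ⟨0, hn i⟩
  refine ⟨m, fun B _ _ s => ?_, fun m' hm' => funext fun i => ?_⟩
  · conv_lhs => rw [← Finset.noncommProd_mulSingle s]
    rw [Finset.map_noncommProd, Finset.noncommProd_eq_prod]
    exact Finset.prod_congr rfl fun i _ => hm i B (s i)
  · let t : (AddMonoidAlgebra R ℤ)ˣ := ⟨AddMonoidAlgebra.single 1 1, AddMonoidAlgebra.single (-1) 1,
      by rw [AddMonoidAlgebra.single_mul_single]; simp,
      by rw [AddMonoidAlgebra.single_mul_single]; simp⟩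
    let x : Matrix.GeneralLinearGroup (Fin (n i)) (AddMonoidAlgebra R ℤ) := D ⟨0, hn i⟩ t
    have h1 := hm' _ (Pi.mulSingle i x)
    rw [show α _ (Pi.mulSingle i x) = β i _ x from rfl, hm i, Finset.prod_eq_single i (fun k _ hk => by
        rw [Pi.mulSingle_eq_of_ne hk, map_one, _root_.one_zpow]) (by simp), Pi.mulSingle_eq_same, det_D] at h1
    let g : Multiplicative ℤ →* (AddMonoidAlgebra R ℤ)ˣ :=
      MonoidHom.toHomUnits (AddMonoidAlgebra.of R ℤ)
    have ht : ∀ a : ℤ, ((t ^ a : (AddMonoidAlgebra R ℤ)ˣ) : AddMonoidAlgebra R ℤ) = AddMonoidAlgebra.single a 1 := fun a => by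
      have e : t = g (Multiplicative.ofAdd 1) := Units.ext rfl
      rw [e, ← map_zpow, ← ofAdd_zsmul, smul_eq_mul, mul_one]
      rfl
    have h2 := congrArg (fun z : (AddMonoidAlgebra R ℤ)ˣ => (z : AddMonoidAlgebra R ℤ).coeff (m i)) h1
    simp only [ht, AddMonoidAlgebra.coeff_single] at h2
    by_contra hne
    simp [hne] at h2


end Groth.Agent.S5659
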